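import Groth.Statements.S17252
import Groth.Agent.S7789
import Groth.Agent.AbSch7.SmoothFib

set_option autoImplicit false
universe u
open CategoryTheory CategoryTheory.Limits MonoidalCategory CartesianMonoidalCategory MonObj GrpObj AlgebraicGeometry
open AbSch

namespace Groth.Agent.S17252

set_option backward.isDefEq.respectTransparency false

/-- The image of an open and closed group endomorphism which fixes the unit section is everything. -/
lemma surjective_of_isOpenMap_isClosedMap {S : Scheme.{u}} (A : Over S) [GrpObj A]
    [GeometricallyConnected A.hom] (f : A ⟶ A) (hf : η[A] ≫ f = η[A])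
    (ho : IsOpenMap f.left) (hc : IsClosedMap f.left) : Surjective f.left := by
  refine ⟨fun x => ?_⟩
  have hx : A.hom (η[A].left (A.hom x)) = A.hom x :=
    congrArg (fun m : S ⟶ S => m (A.hom x)) (Over.w η[A])
  have hU : IsClopen (Set.range f.left) := ⟨hc.isClosed_range, ho.isOpen_range⟩
  exact (A.hom.isConnected_preimage_singleton (A.hom x)).isPreconnected.subset_isClopen hU
    ⟨_, hx, ⟨η[A].left (A.hom x), congrArg (fun m : 𝟙_ (Over S) ⟶ A => m.left (A.hom x)) hf⟩⟩ rfl

/-- Let S be a scheme, A an abelian scheme over S (an S-group scheme whose structure morphism is smooth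
and proper with geometrically connected fibres) and m an integer whose image in Γ(S, O_S) is a unit.
Then multiplication by m, the m-th power [m] of the identity in the group of S-endomorphisms of A,
is surjective locally for the étale topology: for every S-scheme T and every α ∈ A(T) there are an
étale surjective S-morphism φ : T′ → T and β ∈ A(T′) with [m] ∘ β = α ∘ φ. With A[m] the kernel of
[m], this is the exactness on the right of the Kummer sequence 0 → A[m] → A → A → 0 of étale
sheaves; in particular it holds for every étale S-scheme T, the case expressing exactness on the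
small étale site of S, and it is stated here for all S-schemes T. -/
theorem result {S : Scheme.{u}} (A : Over S) [GrpObj A]
    [Smooth A.hom] [IsProper A.hom] [GeometricallyConnected A.hom]
    (m : ℤ) (hm : IsUnit (m : Γ(S, ⊤))) (T : Over S) (α : T ⟶ A) :
    ∃ (T' : Over S) (φ : T' ⟶ T) (β : T' ⟶ A),
      Etale φ.left ∧ Surjective φ.left ∧ β ≫ (𝟙 A ^ m) = φ ≫ α := by
  have := AbSch7.geometricallyReduced_of_smooth A.hom
  obtain ⟨hfin, het⟩ := Groth.Agent.S7789.result A m hm
  have hη : η[A] ≫ (𝟙 A ^ m) = η[A] := by
    rw [GrpObj.comp_zpow, Category.comp_id, show η[A] = (1 : 𝟙_ (Over S) ⟶ A) by simp [Hom.one_def, toUnit_unit],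
      one_zpow]
  have hsurj : Surjective (𝟙 A ^ m).left :=
    surjective_of_isOpenMap_isClosedMap A _ hη (Scheme.Hom.isOpenMap _) (Scheme.Hom.isClosedMap _)
  refine ⟨Over.mk (pullback.fst α.left (𝟙 A ^ m).left ≫ T.hom), Over.homMk (pullback.fst _ _) rfl,
    Over.homMk (pullback.snd _ _) ?_, ?_, ?_, ?_⟩
  · rw [← Over.w (𝟙 A ^ m), ← Category.assoc, ← pullback.condition, Category.assoc, Over.w]
    rfl
  · exact inferInstanceAs (Etale (pullback.fst α.left (𝟙 A ^ m).left))
  · exact inferInstanceAs (Surjective (pullback.fst α.left (𝟙 A ^ m).left))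
  · ext : 1
    exact pullback.condition.symm

end Groth.Agent.S17252
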