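import Groth.Statements.S17254
import Groth.Agent.Cube7.CubeReducible
import Groth.Agent.Cube73.Triple
import Groth.Agent.E4O.DvrCrit
-- import your own Groth.Agent.* helpers here

set_option autoImplicit false
universe u
open CategoryTheory CategoryTheory.Limits MonoidalCategory CartesianMonoidalCategory AlgebraicGeometry
open PicF

namespace Groth.Agent.S17254
open Groth.Agent
set_option maxSynthPendingDepth 6
set_option backward.isDefEq.respectTransparency.types false

/-- Let k be a field and X, Y, Z schemes over k with k-rational points x₀, y₀, z₀; assume X is proper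
and geometrically integral over k, Y is proper, geometrically reduced and geometrically connected
over k, and Z is of finite type and geometrically integral over k. Let L be an invertible module on
X ×_k Y ×_k Z whose pullbacks to the slices {x₀} × Y × Z, X × {y₀} × Z and X × Y × {z₀} are all
trivial. Then L is trivial: isomorphic to the structure sheaf. -/
theorem result (k : Type u) [Field k]
    (X Y Z : Over (Spec (CommRingCat.of k)))
    [IsProper X.hom] [GeometricallyIntegral X.hom]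
    [IsProper Y.hom] [GeometricallyReduced Y.hom] [GeometricallyConnected Y.hom]
    [LocallyOfFiniteType Z.hom] [QuasiCompact Z.hom] [GeometricallyIntegral Z.hom]
    (x₀ : 𝟙_ (Over (Spec (CommRingCat.of k))) ⟶ X) (y₀ : 𝟙_ (Over (Spec (CommRingCat.of k))) ⟶ Y)
    (z₀ : 𝟙_ (Over (Spec (CommRingCat.of k))) ⟶ Z)
    (L : (X ⊗ Y ⊗ Z).left.Modules) (hL : PicF.IsInvertible L)
    (hx : Nonempty ((Scheme.Modules.pullback (lift (toUnit (Y ⊗ Z) ≫ x₀) (𝟙 (Y ⊗ Z))).left).obj L ≅ Coh.structureModule (Y ⊗ Z).left))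
    (hy : Nonempty ((Scheme.Modules.pullback (lift (fst X Z) (lift (toUnit (X ⊗ Z) ≫ y₀) (snd X Z))).left).obj L ≅ Coh.structureModule (X ⊗ Z).left))
    (hz : Nonempty ((Scheme.Modules.pullback (lift (fst X Y) (lift (snd X Y) (toUnit (X ⊗ Y) ≫ z₀))).left).obj L ≅ Coh.structureModule (X ⊗ Y).left)) :
    Nonempty (L ≅ Coh.structureModule (X ⊗ Y ⊗ Z).left) := by
  have hXi := GeometricallyIntegral.isIntegral_of_subsingleton Z.hom
  have : IsLocallyNoetherian Z.left := LocallyOfFiniteType.isLocallyNoetherian Z.hom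
  have : LocallyOfFinitePresentation X.hom := E4O.locallyOfFinitePresentation_of_isLocallyNoetherian X.hom
  have : LocallyOfFinitePresentation Y.hom := E4O.locallyOfFinitePresentation_of_isLocallyNoetherian Y.hom
  have hwx : x₀.left ≫ X.hom = 𝟙 _ := (Over.w x₀).trans rfl
  have hwy : y₀.left ≫ Y.hom = 𝟙 _ := (Over.w y₀).trans rfl
  let D₀ := Cube73.unitDatum X.hom Y.hom x₀.left hwx y₀.left hwy
  let a₁ : Y ⊗ Z ⟶ (X ⊗ Y) ⊗ Z := lift (lift (toUnit (Y ⊗ Z) ≫ x₀) (fst Y Z)) (snd Y Z)
  let a₂ : X ⊗ Z ⟶ (X ⊗ Y) ⊗ Z := lift (lift (fst X Z) (toUnit (X ⊗ Z) ≫ y₀)) (snd X Z)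
  let a₃ : X ⊗ Y ⟶ (X ⊗ Y) ⊗ Z := lift (𝟙 (X ⊗ Y)) (toUnit (X ⊗ Y) ≫ z₀)
  have e₁ : a₁ ≫ (α_ X Y Z).hom = lift (toUnit (Y ⊗ Z) ≫ x₀) (𝟙 (Y ⊗ Z)) := by
    ext1
    · simp [a₁]
    · ext1 <;> simp [a₁]
  have e₂ : a₂ ≫ (α_ X Y Z).hom = lift (fst X Z) (lift (toUnit (X ⊗ Z) ≫ y₀) (snd X Z)) := by
    ext1
    · simp [a₂]
    · ext1 <;> simp [a₂]
  have e₃ : a₃ ≫ (α_ X Y Z).hom = lift (fst X Y) (lift (snd X Y) (toUnit (X ⊗ Y) ≫ z₀)) := by
    ext1
    · simp [a₃]
    · ext1 <;> simp [a₃]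
  let L' := (Scheme.Modules.pullback (α_ X Y Z).hom.left).obj L
  have tr : ∀ {A : Over (Spec (CommRingCat.of k))} (a : A ⟶ (X ⊗ Y) ⊗ Z) (b : A ⟶ X ⊗ Y ⊗ Z),
      a ≫ (α_ X Y Z).hom = b →
      Nonempty ((Scheme.Modules.pullback b.left).obj L ≅ Coh.structureModule A.left) →
      Nonempty ((Scheme.Modules.pullback a.left).obj L' ≅ Coh.structureModule A.left) := by
    rintro A a _ rfl ⟨e⟩
    exact ⟨(Scheme.Modules.pullbackComp a.left (α_ X Y Z).hom.left).app L ≪≫
      (Scheme.Modules.pullbackCongr (show a.left ≫ (α_ X Y Z).hom.left = (a ≫ (α_ X Y Z).hom).left from rfl)).app L ≪≫ e⟩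
  have h₁ : Nonempty ((Scheme.Modules.pullback (Cube73.Datum.bcHom Z.hom D₀.ix D₀.ix_q)).obj L' ≅
      Coh.structureModule _) := by
    have : Cube73.Datum.bcHom Z.hom D₀.ix D₀.ix_q = a₁.left := by
      apply pullback.hom_ext
      · rw [Cube73.Datum.bcHom_fst]
        apply pullback.hom_ext
        · rw [Category.assoc]
          exact (congrArg _ D₀.hix).trans ((Category.assoc _ _ _).symm.trans (congrArg Over.Hom.left (show a₁ ≫ fst (X ⊗ Y) Z ≫ fst X Y = toUnit _ ≫ x₀ by simp [a₁])).symm)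
        · rw [Category.assoc]
          exact (congrArg _ D₀.hix').trans ((Category.comp_id _).trans (congrArg Over.Hom.left (show a₁ ≫ fst (X ⊗ Y) Z ≫ snd X Y = fst Y Z by simp [a₁])).symm)
      · rw [Cube73.Datum.bcHom_snd]
        exact (congrArg Over.Hom.left (show a₁ ≫ snd (X ⊗ Y) Z = snd Y Z by simp [a₁])).symm
    rw [this]; exact tr a₁ _ e₁ hx
  have h₂ : Nonempty ((Scheme.Modules.pullback (Cube73.Datum.bcHom Z.hom D₀.iy D₀.iy_q)).obj L' ≅
      Coh.structureModule _) := by
    have : Cube73.Datum.bcHom Z.hom D₀.iy D₀.iy_q = a₂.left := by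
      apply pullback.hom_ext
      · rw [Cube73.Datum.bcHom_fst]
        apply pullback.hom_ext
        · rw [Category.assoc]
          exact (congrArg _ D₀.hiy').trans ((Category.comp_id _).trans (congrArg Over.Hom.left (show a₂ ≫ fst (X ⊗ Y) Z ≫ fst X Y = fst X Z by simp [a₂])).symm)
        · rw [Category.assoc]
          exact (congrArg _ D₀.hiy).trans ((Category.assoc _ _ _).symm.trans (congrArg Over.Hom.left (show a₂ ≫ fst (X ⊗ Y) Z ≫ snd X Y = toUnit _ ≫ y₀ by simp [a₂])).symm)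
      · rw [Cube73.Datum.bcHom_snd]
        exact (congrArg Over.Hom.left (show a₂ ≫ snd (X ⊗ Y) Z = snd X Z by simp [a₂])).symm
    rw [this]; exact tr a₂ _ e₂ hy
  let D := Cube73.tripleDatum X.hom Y.hom x₀.left hwx y₀.left hwy Z.hom L'
    (PicLoc.isInvertible_pullback _ hL) h₁ h₂
  have : GeometricallyIntegral D.qX := inferInstanceAs (GeometricallyIntegral (pullback.snd X.hom Z.hom))
  have : GeometricallyReduced D.qY := inferInstanceAs (GeometricallyReduced (pullback.snd Y.hom Z.hom))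
  have : GeometricallyConnected D.qY := inferInstanceAs (GeometricallyConnected (pullback.snd Y.hom Z.hom))
  have : IsLocallyNoetherian D.Y := LocallyOfFiniteType.isLocallyNoetherian D.qY
  have : IsReduced D.Y := GeometricallyReduced.isReduced_of_flat_of_isLocallyNoetherian D.qY
  let g : Spec (CommRingCat.of k) ⟶ Z.left := z₀.left
  have hg : g ≫ Z.hom = 𝟙 _ := (Over.w z₀).trans rfl
  have hq : D.q = pullback.snd (pullback.fst X.hom Y.hom ≫ X.hom) Z.hom := D₀.bc_q Z.hom
  have h₃ : Nonempty ((Scheme.Modules.pullback (pullback.fst D.q g)).obj L' ≅ Coh.structureModule _) := by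
    let m : pullback D.q g ⟶ (X ⊗ Y).left := pullback.fst D.q g ≫ (fst (X ⊗ Y) Z).left
    have hm : m ≫ a₃.left = pullback.fst D.q g := by
      have hc : pullback.fst D.q g ≫ pullback.snd (pullback.fst X.hom Y.hom ≫ X.hom) Z.hom =
          pullback.snd D.q g ≫ g :=
        (congrArg (fun t => pullback.fst D.q g ≫ t) hq.symm).trans pullback.condition
      apply pullback.hom_ext
      · exact (Category.assoc _ _ _).trans (congrArg (m ≫ ·) (congrArg Over.Hom.left (show a₃ ≫ fst (X ⊗ Y) Z = 𝟙 _ by simp [a₃]))) |>.trans (Category.comp_id _)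
      · have : m ≫ (X ⊗ Y).hom = pullback.snd D.q g :=
          (Category.assoc _ _ _).trans ((congrArg (fun t => pullback.fst D.q g ≫ t) pullback.condition).trans
            ((Category.assoc _ _ _).symm.trans ((congrArg (· ≫ Z.hom) hc).trans
              ((Category.assoc _ _ _).trans ((congrArg _ hg).trans (Category.comp_id _))))))
        refine Eq.trans ?_ hc.symm
        rw [← this]
        exact ((Category.assoc _ _ _).trans (congrArg (m ≫ ·) (congrArg Over.Hom.left
          (show a₃ ≫ snd (X ⊗ Y) Z = toUnit _ ≫ z₀ by simp [a₃])))).trans (Category.assoc _ _ _).symm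
    rw [← hm]
    exact ⟨((Scheme.Modules.pullbackComp m a₃.left).app L').symm ≪≫
      (Scheme.Modules.pullback m).mapIso (tr a₃ _ e₃ hz).some ≪≫ PicLoc.pullbackStructureIso m⟩
  obtain ⟨p⟩ : Nonempty ↥(Spec (CommRingCat.of k)) := inferInstance
  have ht : D.TrivAt (g p) := (D.bcBC g).trivAt_of p (Cube7.h0At D _)
    ⟨(Scheme.Modules.pullback ((D.bc g).q.fiberι p)).mapIso h₃.some ≪≫ PicLoc.pullbackStructureIso _⟩
  obtain ⟨e⟩ := Cube7.trivial_of_connected D ht
  let i := (α_ X Y Z).inv.left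
  exact ⟨((Scheme.Modules.pullbackId _).app L).symm ≪≫
    (Scheme.Modules.pullbackCongr (show 𝟙 _ = i ≫ (α_ X Y Z).hom.left by
      rw [← Over.comp_left, Iso.inv_hom_id, Over.id_left])).app L ≪≫
    ((Scheme.Modules.pullbackComp i (α_ X Y Z).hom.left).app L).symm ≪≫
    (Scheme.Modules.pullback i).mapIso e ≪≫ PicLoc.pullbackStructureIso i⟩

end Groth.Agent.S17254
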