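import Groth.Statements.S17266
import Groth.Agent.Fib44.Yoneda
import Groth.Agent.Fib44.Post
-- import your own Groth.Agent.* helpers here

set_option autoImplicit false
open CategoryTheory
universe v u
open Stk

namespace Groth.Agent.S17266

set_option backward.isDefEq.respectTransparency false in
set_option backward.isDefEq.respectTransparency.types false in

/-- Let C be a category with a Grothendieck topology J and let F : 𝒳 → 𝒴, G : 𝒴 → 𝒵 be functors over C
between categories fibred in groupoids over C. Say that a functor H : 𝒜 → ℬ over C is covering when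
for every object U of C and every functor b : C/U → ℬ over C there is a J-covering sieve of U such
that for each of its arrows h : V → U the composite of C/V → C/U with b is 2-isomorphic over C to H
∘ a for some functor a : C/V → 𝒜 over C (locally on the base every object of ℬ lifts to 𝒜 up to
isomorphism). If F and G are covering, then the composite G ∘ F is covering. -/
theorem result {C : Type u} [Category.{v} C] (J : GrothendieckTopology C)
    {𝒳 𝒴 𝒵 : BasedCategory.{v, max u v} C}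
    (h𝒳 : FibCat.IsFibGrpd 𝒳.p) (h𝒴 : FibCat.IsFibGrpd 𝒴.p) (h𝒵 : FibCat.IsFibGrpd 𝒵.p)
    (F : 𝒳 ⥤ᵇ 𝒴) (G : 𝒴 ⥤ᵇ 𝒵)
    (hF : (∀ (U : C) (y : FibCat.overCat U ⥤ᵇ 𝒴), ∃ R ∈ J U, ∀ ⦃V : C⦄ (h : V ⟶ U), R.arrows h →
        ∃ x : FibCat.overCat V ⥤ᵇ 𝒳,
          Nonempty (BasedFunctor.comp x F ≅ BasedFunctor.comp (⟨Over.map h, Over.mapForget_eq h⟩ : FibCat.overCat V ⥤ᵇ FibCat.overCat U) y)))
    (hG : (∀ (U : C) (y : FibCat.overCat U ⥤ᵇ 𝒵), ∃ R ∈ J U, ∀ ⦃V : C⦄ (h : V ⟶ U), R.arrows h →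
        ∃ x : FibCat.overCat V ⥤ᵇ 𝒴,
          Nonempty (BasedFunctor.comp x G ≅ BasedFunctor.comp (⟨Over.map h, Over.mapForget_eq h⟩ : FibCat.overCat V ⥤ᵇ FibCat.overCat U) y))) :
    (∀ (U : C) (y : FibCat.overCat U ⥤ᵇ 𝒵), ∃ R ∈ J U, ∀ ⦃V : C⦄ (h : V ⟶ U), R.arrows h →
        ∃ x : FibCat.overCat V ⥤ᵇ 𝒳,
          Nonempty (BasedFunctor.comp x (BasedFunctor.comp F G) ≅ BasedFunctor.comp (⟨Over.map h, Over.mapForget_eq h⟩ : FibCat.overCat V ⥤ᵇ FibCat.overCat U) y)) := by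
  intro U z
  obtain ⟨R, hR, hR'⟩ := hG U z
  choose y ey using hR'
  have h1 := fun V (h : V ⟶ U) (hh : R.arrows h) => hF V (y h hh)
  choose S hS hS' using h1
  refine ⟨Sieve.bind R.arrows fun V h hh => S V h hh,
    J.bind_covering hR fun V h hh => hS V h hh, ?_⟩
  rintro W _ ⟨V, k, h, hh, hk, rfl⟩
  obtain ⟨x, ⟨e⟩⟩ := hS' V h hh k hk
  obtain ⟨e'⟩ := ey h hh
  have hmap : (Fib44.overMap (k ≫ h)) = BasedFunctor.comp (Fib44.overMap k) (Fib44.overMap h) := by
    have : Over.map (k ≫ h) = Over.map k ⋙ Over.map h := Over.mapComp_eq k h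
    change BasedFunctor.mk _ _ = BasedFunctor.mk _ _
    congr 1
  refine ⟨x, ⟨(Fib44.post _ G).mapIso e ≪≫ ?_⟩⟩
  exact (Stk.restr (Fib44.overMap k) 𝒵).mapIso e' ≪≫
    eqToIso (congrArg (fun m => BasedFunctor.comp m z) hmap).symm

end Groth.Agent.S17266
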