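import Groth.Statements.S17285
import Groth.Agent.Var76.BigBirational

set_option autoImplicit false
universe u
open CategoryTheory CategoryTheory.Limits AlgebraicGeometry TopologicalSpace
open Variety

namespace Groth.Agent.S17285

open CategoryTheory
theorem eventual_of_le_add {hX hY : ℕ → ℕ} {d C : ℕ} (h : ∀ m, hY m ≤ hX m + C * Groth.Agent.Var76.Growth.w d m)
    (hb : ∃ c : ℝ, 0 < c ∧ ∀ᶠ n : ℕ in Filter.atTop, c * (n : ℝ) ^ d < (hY n : ℝ)) :
    ∃ c : ℝ, 0 < c ∧ ∀ᶠ n : ℕ in Filter.atTop, c * (n : ℝ) ^ d < (hX n : ℝ) := by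
  obtain ⟨c, hc, hev⟩ := hb
  refine ⟨c / 2, half_pos hc, ?_⟩
  obtain ⟨N, hN⟩ := exists_nat_gt ((C : ℝ) * 2 ^ d / (c / 2))
  filter_upwards [hev, Filter.eventually_ge_atTop (N + 1)] with n hn hnN
  have h1 : (hY n : ℝ) ≤ hX n + C * (Groth.Agent.Var76.Growth.w d n : ℝ) := by exact_mod_cast h n
  have hn1 : (1 : ℝ) ≤ n := by exact_mod_cast (by omega : 1 ≤ n)
  suffices (C : ℝ) * (Groth.Agent.Var76.Growth.w d n : ℝ) ≤ c / 2 * (n : ℝ) ^ d by linarith
  rcases d with _ | e
  · simp only [Groth.Agent.Var76.Growth.w, Nat.cast_zero, mul_zero]; positivity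
  · simp only [Groth.Agent.Var76.Growth.w, Nat.cast_pow, Nat.cast_add, Nat.cast_one]
    have h2 : ((n : ℝ) + 1) ^ e ≤ 2 ^ (e + 1) * (n : ℝ) ^ e := by
      refine (pow_le_pow_left₀ (by positivity) (by linarith : (n : ℝ) + 1 ≤ 2 * n) e).trans ?_
      rw [mul_pow]
      exact mul_le_mul_of_nonneg_right (pow_le_pow_right₀ (by norm_num) (Nat.le_succ e)) (by positivity)
    have h3 : (C : ℝ) * 2 ^ (e + 1) ≤ c / 2 * n := by
      have h4 := (div_lt_iff₀ (half_pos hc)).1 hN
      have h5 : (N : ℝ) ≤ n := by exact_mod_cast (by omega : N ≤ n)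
      have h6 := mul_le_mul_of_nonneg_right h5 (half_pos hc).le
      linarith
    refine (mul_le_mul_of_nonneg_left h2 (Nat.cast_nonneg C)).trans ?_
    rw [← mul_assoc, pow_succ' (n : ℝ), ← mul_assoc (c / 2)]
    exact mul_le_mul_of_nonneg_right h3 (by positivity)

/-- Let X and Y be proper varieties over a field k (integral schemes, proper over k) of the same
dimension d, f : Y → X a birational k-morphism (generic point to generic point, with a single point
in that fibre and the same residue field there), and L an invertible O_X-module. Then L is big,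
meaning that some real c > 0 has dim_k H^0(X, L^{⊗n}) > c·n^d for all sufficiently large n, if and
only if f^*L is big on Y in the same sense. (The source states this for birational morphisms of
proper schemes over k; it is stated here for integral X and Y, the case in which the printed
argument's injectivity of O_X → f_*O_Y holds.) -/
theorem result (k : Type u) [Field k] (X Y : Scheme.{u})
    [X.Over (Spec (CommRingCat.of k))] [IsProper (X ↘ (Spec (CommRingCat.of k)))] [IsIntegral X]
    [Y.Over (Spec (CommRingCat.of k))] [IsProper (Y ↘ (Spec (CommRingCat.of k)))] [IsIntegral Y]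
    (f : Y ⟶ X) (hf : f ≫ (X ↘ (Spec (CommRingCat.of k))) = Y ↘ (Spec (CommRingCat.of k))) (hbir : RadPt.IsBirational f)
    (d : ℕ) (hdimX : topologicalKrullDim X = d) (hdimY : topologicalKrullDim Y = d)
    (L : X.Modules) (hL : PicF.IsInvertible L) :
    (∃ c : ℝ, 0 < c ∧ ∀ᶠ n : ℕ in Filter.atTop,
        c * (n : ℝ) ^ d < (Module.finrank k (Coh.HH X (CohB1.tensorPow L n) 0) : ℝ)) ↔
      (∃ c : ℝ, 0 < c ∧ ∀ᶠ n : ℕ in Filter.atTop,
        c * (n : ℝ) ^ d < (Module.finrank k (Coh.HH Y (CohB1.tensorPow ((Scheme.Modules.pullback f).obj L) n) 0) : ℝ)) := by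
  obtain ⟨h₁, C, h₂⟩ := Groth.Agent.Var76.Growth.hp_birational f k hf hbir hL hdimX.le
  refine ⟨fun ⟨c, hc, h⟩ => ⟨c, hc, h.mono fun n hn => hn.trans_le (Nat.cast_le.2 (h₁ n))⟩, eventual_of_le_add h₂⟩

end Groth.Agent.S17285
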