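import Groth.Statements.S1729


set_option autoImplicit false
universe u
open Dual2

namespace Groth.Agent.S1729

/-- Over a local ring, every finite module M admits a projective cover: a surjection from a projective
module P onto M such that no proper submodule of P maps onto M. -/
theorem result (R : Type u) [CommRing R] [IsLocalRing R] (M : Type u) [AddCommGroup M] [Module R M] [Module.Finite R M] : ∃ (P : Type u) (_ : AddCommGroup P) (_ : Module R P) (f : P →ₗ[R] M), Dual2.IsProjectiveCover f := by
  classical
  let k := IsLocalRing.ResidueField R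
  obtain ⟨n, ⟨b⟩⟩ : ∃ n : ℕ, Nonempty (Module.Basis (Fin n) k (TensorProduct R k M)) :=
    ⟨_, ⟨Module.finBasis k (TensorProduct R k M)⟩⟩
  have hmk : Function.Surjective (TensorProduct.mk R k M 1) :=
    TensorProduct.mk_surjective _ _ _ Ideal.Quotient.mk_surjective
  choose v hv using fun i => hmk (b i)
  have hspan : Submodule.span R (Set.range v) = ⊤ :=
    IsLocalRing.span_eq_top_of_tmul_eq_basis v b fun i => hv i
  have hsurj : Function.Surjective (Fintype.linearCombination R v) := by
    rw [← LinearMap.range_eq_top, Fintype.range_linearCombination, hspan]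
  refine ⟨Fin n → R, inferInstance, inferInstance, Fintype.linearCombination R v,
    inferInstance, hsurj, fun N hN => ?_⟩
  rw [eq_top_iff]
  refine Submodule.le_of_le_smul_of_le_jacobson_bot (I := IsLocalRing.maximalIdeal R)
    Module.Finite.fg_top (IsLocalRing.maximalIdeal_le_jacobson _) ?_
  intro x _
  rw [← (Pi.basisFun R (Fin n)).sum_repr x]
  refine Submodule.sum_mem _ fun i _ => Submodule.smul_mem _ _ ?_
  rw [Pi.basisFun_apply]
  obtain ⟨y, hy, hfy⟩ : v i ∈ Submodule.map (Fintype.linearCombination R v) N := by
    rw [hN]; trivial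
  have hcoef : ∀ j, (IsLocalRing.residue R (y j)) = if j = i then 1 else 0 := by
    have h1 := congrArg (TensorProduct.mk R k M 1) hfy
    rw [Fintype.linearCombination_apply, map_sum] at h1
    simp only [map_smul, hv] at h1
    have h2 : ∑ j, (IsLocalRing.residue R (y j)) • b j = b i := by
      rw [← h1]
      exact Finset.sum_congr rfl fun j _ => algebraMap_smul k (y j) (b j)
    intro j
    have h3 := congrArg (fun z => b.repr z j) h2
    simpa [Module.Basis.repr_sum_self, Finsupp.single_apply, eq_comm] using h3
  have hdiff : ∀ j, ((Pi.single i (1 : R) : Fin n → R) - y) j ∈ IsLocalRing.maximalIdeal R := by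
    intro j
    rw [← IsLocalRing.residue_eq_zero_iff, Pi.sub_apply, map_sub, hcoef j, sub_eq_zero]
    by_cases hj : j = i
    · subst hj; simp
    · simp [hj]
  have hmem : ((Pi.single i (1 : R) : Fin n → R) - y) ∈
      IsLocalRing.maximalIdeal R • (⊤ : Submodule R (Fin n → R)) := by
    rw [pi_eq_sum_univ ((Pi.single i (1 : R) : Fin n → R) - y)]
    exact Submodule.sum_mem _ fun j _ => Submodule.smul_mem_smul (hdiff j) trivial
  have := Submodule.add_mem_sup hy hmem
  simpa using this

end Groth.Agent.S1729
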