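import Groth.Statements.S17309
import Mathlib
import Groth.Agent.CurvLoci1.GeomFibre

set_option autoImplicit false
universe u
open CurvSt

namespace Groth.Agent.S17309

open CategoryTheory AlgebraicGeometry in
/-- Let X be a proper scheme of dimension at most 1 over a field k with structure morphism p, and Spec k
→ S a point of the base. The classifying object of X in the stack of curves over S lies in the open
substack of curves with geometrically reduced fibres — by definition: every geometric fibre of the
family h_X → h_{Spec k}, realised as a scheme over an algebraically closed field through a cartesian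
square of sheaves, is reduced — if and only if X is geometrically reduced over k. -/
theorem result (S : Scheme.{u}) (k : Type u) [Field k] (t : Spec (CommRingCat.of k) ⟶ S)
    (X : Scheme.{u}) (p : X ⟶ Spec (CommRingCat.of k)) [IsProper p] (hdim : topologicalKrullDim ↥X ≤ 1) :
    CurvSt.GeomFib (fun _ _ _ X' _ _ => IsReduced X') ((CurvSt.toSpFam S 0).obj ⟨Over.mk t, X, p, Fin.elim0, fun i => i.elim0⟩) ↔ GeometricallyReduced p := by
  exact (CurvLoci1.geomFib_toSpFam_iff ⟨Over.mk t, X, p, Fin.elim0, fun i => i.elim0⟩ (fun _ _ _ X' _ => IsReduced X')).trans (CurvLoci1.geomReduced_iff p)

end Groth.Agent.S17309
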