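import Groth.Statements.S17310
import Mathlib
import Groth.Agent.CurvLoci1.GeomFibre

set_option autoImplicit false
universe u
open CurvSt

namespace Groth.Agent.S17310

open CategoryTheory AlgebraicGeometry in
/-- Let X be a proper scheme of dimension at most 1 over a field k with structure morphism p, and Spec k
→ S a point of the base. The classifying object of X in the stack of curves over S lies in the open
substack of curves with geometrically reduced, connected fibres of dimension 1 — by definition:
every geometric fibre of h_X → h_{Spec k}, realised as a scheme over an algebraically closed field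
through a cartesian square of sheaves, is reduced, connected and of Krull dimension 1 — if and only
if X is geometrically reduced and geometrically connected over k and has Krull dimension 1. -/
theorem result (S : Scheme.{u}) (k : Type u) [Field k] (t : Spec (CommRingCat.of k) ⟶ S)
    (X : Scheme.{u}) (p : X ⟶ Spec (CommRingCat.of k)) [IsProper p] (hdim : topologicalKrullDim ↥X ≤ 1) :
    CurvSt.GeomFib (fun _ _ _ X' _ _ => IsReduced X' ∧ ConnectedSpace ↥X' ∧ topologicalKrullDim ↥X' = 1) ((CurvSt.toSpFam S 0).obj ⟨Over.mk t, X, p, Fin.elim0, fun i => i.elim0⟩) ↔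
      GeometricallyReduced p ∧ GeometricallyConnected p ∧ topologicalKrullDim ↥X = 1 := by
  refine (CurvLoci1.geomFib_toSpFam_iff ⟨Over.mk t, X, p, Fin.elim0, fun i => i.elim0⟩ (fun _ _ _ X' _ => IsReduced X' ∧ ConnectedSpace ↥X' ∧ topologicalKrullDim ↥X' = 1)).trans ?_
  constructor
  · intro H
    refine ⟨(CurvLoci1.geomReduced_iff p).1 fun Ω _ _ t' X' q i h => (H Ω t' X' q i h).1,
      (CurvLoci1.geomConnected_iff p).1 fun Ω _ _ t' X' q i h => (H Ω t' X' q i h).2.1, ?_⟩
    let Ω := AlgebraicClosure k
    have hsq := IsPullback.of_hasPullback p (Spec.map (CommRingCat.ofHom (algebraMap k Ω)))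
    exact (CurvLoci1.dim_eq_of_isPullback p _ _ _ hsq).symm.trans (H Ω _ _ _ _ hsq).2.2
  · rintro ⟨h1, h2, h3⟩ Ω _ _ t' X' q i h
    exact ⟨(CurvLoci1.geomReduced_iff p).2 h1 Ω t' X' q i h, (CurvLoci1.geomConnected_iff p).2 h2 Ω t' X' q i h,
      (CurvLoci1.dim_eq_of_isPullback p _ _ _ h).trans h3⟩

end Groth.Agent.S17310
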