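import Groth.Statements.S17323
import Groth.Agent.CAlg9.FinAlg

set_option autoImplicit false
universe u v
open CAlg

namespace Groth.Agent.S17323

/-- Let k be an algebraically closed field and A a commutative k-algebra which is finite-dimensional as
a k-vector space. Then A has a largest reduced subalgebra: a k-subalgebra B which is reduced and
contains every reduced k-subalgebra of A; moreover the composite of the inclusion B → A with the
projection A → A/nilradical(A) is bijective. -/
theorem result (k : Type u) [Field k] [IsAlgClosed k]
    (A : Type v) [CommRing A] [Algebra k A] [Module.Finite k A] :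
    ∃ B : Subalgebra k A, IsReduced ↥B ∧ (∀ C : Subalgebra k A, IsReduced ↥C → C ≤ B) ∧
      Function.Bijective ((Ideal.Quotient.mkₐ k (nilradical A)).comp B.val) := by
  obtain ⟨s, hs, -⟩ := Groth.Agent.CAlg9.exists_section (k := k) (A := A)
  have hq : ∀ y, Ideal.Quotient.mk (nilradical A) (s y) = y := fun y => AlgHom.congr_fun hs y
  have hinj : Function.Injective s := Function.LeftInverse.injective hq
  have := Groth.Agent.CAlg9.isReduced_quotient_nilradical (A := A)
  have hred : IsReduced s.range :=
    isReduced_of_injective (AlgEquiv.ofInjective s hinj).symm.toAlgHom.toRingHom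
      (AlgEquiv.ofInjective s hinj).symm.injective
  refine ⟨s.range, hred, fun C hC x hx => ?_, ?_⟩
  · have hy : (⟨x, hx⟩ : C) ∈ Submodule.span k {e : C | IsIdempotentElem e} :=
      (Groth.Agent.CAlg9.span_isIdempotentElem (k := k) (A := C)).symm ▸ Submodule.mem_top
    refine (Submodule.span_le (p := s.range.toSubmodule.comap C.val.toLinearMap)).mpr
      (fun e he => ?_) hy
    refine ⟨Ideal.Quotient.mk (nilradical A) e,
      eq_of_isNilpotent_sub_of_isIdempotentElem ((he.map C.val).map (Ideal.Quotient.mk _) |>.map s)
        (he.map C.val) ?_⟩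
    rw [← mem_nilradical, ← Ideal.Quotient.eq]
    exact hq _
  · constructor
    · rintro ⟨_, y, rfl⟩ ⟨_, z, rfl⟩ h
      apply Subtype.ext
      have h' : Ideal.Quotient.mk (nilradical A) (s y) = Ideal.Quotient.mk (nilradical A) (s z) := h
      rw [hq, hq] at h'
      exact congrArg s h'
    · exact fun y => ⟨⟨s y, y, rfl⟩, hq y⟩

end Groth.Agent.S17323
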