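import Groth.Statements.S17324
import Groth.Agent.CAlg9.FinAlg
import Mathlib.RingTheory.Artinian.Ring

set_option autoImplicit false
universe u v
open CAlg

namespace Groth.Agent.S17324

/-- (i) ⟺ (ii): let k be an algebraically closed field, A a commutative k-algebra which is
finite-dimensional as a k-vector space and is a local ring with maximal ideal m, and a_1, …, a_m ∈
m. Then A is generated as a k-algebra by a_1, …, a_m if and only if m is generated as an ideal by
a_1, …, a_m. (The printed lemma has a third equivalent condition, that the images of the a_i span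
m/m²; its equivalence with (ii) is Nakayama's lemma.) -/
theorem result (k : Type u) [Field k] [IsAlgClosed k]
    (A : Type v) [CommRing A] [Algebra k A] [Module.Finite k A] [IsLocalRing A]
    (m : ℕ) (a : Fin m → A) (ha : ∀ i, a i ∈ IsLocalRing.maximalIdeal A) :
    Algebra.adjoin k (Set.range a) = ⊤ ↔ Ideal.span (Set.range a) = IsLocalRing.maximalIdeal A := by
  constructor
  · intro h
    refine le_antisymm (Ideal.span_le.mpr (by rintro _ ⟨i, rfl⟩; exact ha i)) fun x hx => ?_
    have key : ∀ y ∈ Algebra.adjoin k (Set.range a), ∃ c : k, y - algebraMap k A c ∈ Ideal.span (Set.range a) := by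
      intro y hy
      induction hy using Algebra.adjoin_induction with
      | mem y hy => exact ⟨0, by simpa using Ideal.subset_span hy⟩
      | algebraMap c => exact ⟨c, by simp⟩
      | add y z _ _ hy hz =>
        obtain ⟨c, hc⟩ := hy
        obtain ⟨d, hd⟩ := hz
        exact ⟨c + d, by rw [map_add, add_sub_add_comm]; exact add_mem hc hd⟩
      | mul y z _ _ hy hz =>
        obtain ⟨c, hc⟩ := hy
        obtain ⟨d, hd⟩ := hz
        refine ⟨c * d, ?_⟩
        rw [map_mul, show y * z - algebraMap k A c * algebraMap k A d =
          (y - algebraMap k A c) * z + algebraMap k A c * (z - algebraMap k A d) by ring]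
        exact add_mem (Ideal.mul_mem_right _ _ hc) (Ideal.mul_mem_left _ _ hd)
    obtain ⟨c, hc⟩ := key x (h ▸ Algebra.mem_top)
    have hcm : algebraMap k A c ∈ IsLocalRing.maximalIdeal A := by
      have := Ideal.span_le.mpr (by rintro _ ⟨i, rfl⟩; exact ha i : Set.range a ⊆ _) hc
      simpa using sub_mem hx this
    rcases eq_or_ne c 0 with rfl | hne
    · simpa using hc
    · exact absurd ((isUnit_iff_ne_zero.mpr hne).map (algebraMap k A))
        ((IsLocalRing.mem_maximalIdeal _).mp hcm)
  · intro h
    have hart : IsArtinianRing A := IsArtinianRing.of_finite k A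
    obtain ⟨χ, hχ⟩ := Groth.Agent.CAlg9.exists_algHom_ker_eq (k := k) (IsLocalRing.maximalIdeal A)
    set S := Subalgebra.toSubmodule (Algebra.adjoin k (Set.range a))
    set m := IsLocalRing.maximalIdeal A
    have hsplit : ∀ x : A, x - algebraMap k A (χ x) ∈ m := fun x => by
      rw [← hχ]; simp [RingHom.mem_ker]
    have step : ∀ j, ∀ x ∈ m ^ j, ∃ s ∈ Algebra.adjoin k (Set.range a), x - s ∈ m ^ (j + 1) := by
      intro j
      induction j with
      | zero =>
        intro x _
        exact ⟨algebraMap k A (χ x), Subalgebra.algebraMap_mem _ _, by simpa using hsplit x⟩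
      | succ j ih =>
        intro x hx
        rw [pow_succ' m j] at hx
        refine Submodule.mul_induction_on hx (fun y hy z hz => ?_) fun y z hy hz => ?_
        · obtain ⟨s, hs, hzs⟩ := ih z hz
          rw [← h, Ideal.mem_span_range_iff_exists_fun] at hy
          obtain ⟨c, rfl⟩ := hy
          refine ⟨∑ i, algebraMap k A (χ (c i)) * a i * s, Subalgebra.sum_mem _ fun i _ =>
            mul_mem (mul_mem (Subalgebra.algebraMap_mem _ _)
              (Algebra.subset_adjoin ⟨i, rfl⟩)) hs, ?_⟩
          rw [Finset.sum_mul, ← Finset.sum_sub_distrib]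
          refine Ideal.sum_mem _ fun i _ => ?_
          rw [show c i * a i * z - algebraMap k A (χ (c i)) * a i * s =
            c i * a i * (z - s) + (c i - algebraMap k A (χ (c i))) * a i * s by ring]
          refine add_mem ?_ ?_
          · rw [pow_succ' m (j + 1), mul_assoc]
            exact Ideal.mul_mem_left _ _ (Ideal.mul_mem_mul (ha i) hzs)
          · have hs' : a i * s ∈ m ^ (j + 1) := by
              rw [show a i * s = a i * z - a i * (z - s) by ring, pow_succ' m j]
              exact sub_mem (Ideal.mul_mem_mul (ha i) hz)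
                (Ideal.mul_mem_mul (ha i) (Ideal.pow_le_pow_right j.le_succ hzs))
            rw [pow_succ' m (j + 1), mul_assoc]
            exact Ideal.mul_mem_mul (hsplit _) hs'
        · obtain ⟨s, hs, hys⟩ := hy
          obtain ⟨t, ht, hzt⟩ := hz
          exact ⟨s + t, add_mem hs ht, by rw [add_sub_add_comm]; exact add_mem hys hzt⟩
    have hall : ∀ j x, ∃ s ∈ Algebra.adjoin k (Set.range a), x - s ∈ m ^ j := by
      intro j
      induction j with
      | zero => exact fun x => ⟨0, zero_mem _, by simp⟩
      | succ j ih =>
        intro x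
        obtain ⟨s, hs, h1⟩ := ih x
        obtain ⟨t, ht, h2⟩ := step j _ h1
        exact ⟨s + t, add_mem hs ht, by rwa [← sub_sub]⟩
    obtain ⟨N, hN⟩ := IsArtinianRing.isNilpotent_jacobson_bot (R := A)
    rw [IsLocalRing.jacobson_eq_maximalIdeal ⊥ bot_ne_top] at hN
    refine Algebra.eq_top_iff.mpr fun x => ?_
    obtain ⟨s, hs, hxs⟩ := hall N x
    rw [hN, Ideal.zero_eq_bot, Ideal.mem_bot, sub_eq_zero] at hxs
    exact hxs ▸ hs

end Groth.Agent.S17324
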