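import Groth.Statements.S17326
import Groth.Agent.CAlg9.FinAlg
import Mathlib.Algebra.CharP.Algebra
import Mathlib.Algebra.CharP.Frobenius

set_option autoImplicit false
universe u v
open CAlg

namespace Groth.Agent.S17326

/-- Let k be an algebraically closed field of characteristic p > 0, A a commutative k-algebra which is
finite-dimensional as a k-vector space (a finite k-scheme X), and n ≥ 1. The n-th iterated relative
Frobenius morphism X → X^(p^n) is an isomorphism if and only if X is reduced; on rings: the map a ↦
a^(p^n) of A to itself (which is the ring homomorphism underlying the relative Frobenius, the twist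
A^(p^n) having the same underlying ring as A) is bijective if and only if A is reduced. -/
theorem result (k : Type u) [Field k] [IsAlgClosed k]
    (p : ℕ) [Fact p.Prime] [CharP k p] (A : Type v) [CommRing A] [Algebra k A] [Module.Finite k A]
    (n : ℕ) (hn : 1 ≤ n) :
    Function.Bijective (fun a : A => a ^ p ^ n) ↔ IsReduced A := by
  have hp : p.Prime := Fact.out
  constructor
  · intro h
    refine isReduced_iff_pow_one_lt 2 (by norm_num) |>.mpr fun x hx => h.1 ?_
    show x ^ p ^ n = 0 ^ p ^ n
    have h2 : 2 ≤ p ^ n := le_trans hp.two_le (Nat.le_self_pow (by omega) p)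
    rw [pow_eq_zero_of_le h2 hx, zero_pow (by omega)]
  · intro _
    have := Groth.Agent.CAlg9.finite_algHom (k := k) (A := A)
    refine ⟨fun x y h => Groth.Agent.CAlg9.evalPi_injective (k := k) (funext fun f => ?_), fun y => ?_⟩
    · exact iterateFrobenius_inj k p n (by
        simpa [iterateFrobenius_def] using congrArg f h)
    · choose r hr using fun f : A →ₐ[k] k => IsAlgClosed.exists_pow_nat_eq (f y) (pow_pos hp.pos n)
      obtain ⟨x, hx⟩ := Groth.Agent.CAlg9.evalPi_surjective (k := k) (A := A) r
      refine ⟨x, Groth.Agent.CAlg9.evalPi_injective (k := k) (funext fun f => ?_)⟩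
      simp [show f x = r f from congrFun hx f, hr]

end Groth.Agent.S17326
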