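import Groth.Statements.S17327
import Groth.Agent.FinHopf34.FieldSep

set_option autoImplicit false
universe u v
open Hopf

namespace Groth.Agent.S17327

open Groth.Agent.FinHopf34
/-- Let k be an algebraically closed field of characteristic p > 0, A a commutative Hopf algebra over k
which is finite-dimensional as a k-vector space (a finite group scheme G = Spec A), I the
augmentation ideal (kernel of the counit) and n ≥ 1. The n-th Frobenius kernel G_n is the closed
subgroup scheme cut out by the ideal generated by the p^n-th powers f^(p^n), f ∈ I; it is trivial,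
i.e. that ideal equals I, if and only if G is reduced. -/
theorem result (k : Type u) [Field k] [IsAlgClosed k]
    (p : ℕ) [Fact p.Prime] [CharP k p] (A : Type v) [CommRing A] [HopfAlgebra k A] [Module.Finite k A]
    (n : ℕ) (hn : 1 ≤ n) :
    Ideal.span ((fun f : A => f ^ p ^ n) '' (RingHom.ker (Bialgebra.counitAlgHom k A) : Set A)) =
      RingHom.ker (Bialgebra.counitAlgHom k A) ↔ IsReduced A := by
  set I := RingHom.ker (Bialgebra.counitAlgHom k A)
  have h2 : 2 ≤ p ^ n := (Fact.out : p.Prime).two_le.trans (Nat.le_self_pow (by omega) p)
  constructor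
  · intro h
    have hsq : I ^ 2 = I := by
      refine le_antisymm (Ideal.pow_le_self two_ne_zero) ?_
      conv_lhs => rw [← h]
      rw [Ideal.span_le]
      rintro _ ⟨f, hf, rfl⟩
      exact Ideal.pow_le_pow_right h2 (Ideal.pow_mem_pow hf _)
    have : Algebra.FormallyUnramified k A := formallyUnramified_of_aug_sq hsq
    exact Algebra.FormallyUnramified.isReduced_of_field k A
  · intro h
    obtain ⟨e, he, hI⟩ := exists_idem_gen (k := k) (A := A)
    refine le_antisymm (Ideal.span_le.2 ?_) ?_
    · rintro _ ⟨f, hf, rfl⟩
      exact I.pow_mem_of_mem hf _ (by omega)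
    · refine (show I = Ideal.span {e} from hI).trans_le ((Ideal.span_singleton_le_iff_mem _).2 ?_)
      exact Ideal.subset_span ⟨e, hI.ge (Ideal.mem_span_singleton_self e), he.pow_eq (by omega)⟩

end Groth.Agent.S17327
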