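import Groth.Statements.S17329
import Groth.Agent.FinHopf34.Quotient
import Groth.Agent.FinHopf34.Semilocal
import Mathlib.RingTheory.Artinian.Module

set_option autoImplicit false
universe u v
open scoped TensorProduct
open Hopf

namespace Groth.Agent.S17329

/-- Let k be an algebraically closed field, A a commutative Hopf algebra over k which is
finite-dimensional as a k-vector space (a finite group scheme G = Spec A), and I a Hopf ideal of A
(a subgroup scheme H = Spec (A/I) of G, of order dim_k (A/I)). Let B ⊆ A be the k-subalgebra of
functions invariant under right multiplication by H: the equaliser of the two algebra maps A → A ⊗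
(A/I), a ↦ (id ⊗ π)(Δ a) and a ↦ a ⊗ 1, so that Spec B is the quotient G/H. Then the quotient
morphism G → G/H is finite locally free of rank |H|: A is a free B-module of rank dim_k (A/I) (B
being a finite product of local rings, locally free of constant rank is the same as free of that
rank). -/
theorem result (k : Type u) [Field k] [IsAlgClosed k]
    (A : Type v) [CommRing A] [HopfAlgebra k A] [Module.Finite k A] (I : Ideal A) [I.IsHopfIdeal k] :
    Module.Free
        ↥(AlgHom.equalizer
          ((Algebra.TensorProduct.map (AlgHom.id k A) (Ideal.Quotient.mkₐ k I)).comp (Bialgebra.comulAlgHom k A))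
          (Algebra.TensorProduct.includeLeft : A →ₐ[k] A ⊗[k] (A ⧸ I))) A ∧
      Module.finrank
        ↥(AlgHom.equalizer
          ((Algebra.TensorProduct.map (AlgHom.id k A) (Ideal.Quotient.mkₐ k I)).comp (Bialgebra.comulAlgHom k A))
          (Algebra.TensorProduct.includeLeft : A →ₐ[k] A ⊗[k] (A ⧸ I))) A =
        Module.finrank k (A ⧸ I) := by
  change Module.Free ↥(FinHopf34.inv (R := k) I) A ∧ Module.finrank ↥(FinHopf34.inv (R := k) I) A = _
  have := (FinHopf34.moduleFinite_projective_inv (R := k) I).1
  have := (FinHopf34.moduleFinite_projective_inv (R := k) I).2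
  have : Module.Finite k ↥(FinHopf34.inv (R := k) I) :=
    Module.Finite.of_injective (FinHopf34.inv (R := k) I).val.toLinearMap Subtype.val_injective
  have : IsArtinianRing ↥(FinHopf34.inv (R := k) I) := IsArtinianRing.of_finite k _
  have : Nontrivial A := (Bialgebra.counitAlgHom k A).toRingHom.domain_nontrivial
  have h : ∀ p : PrimeSpectrum ↥(FinHopf34.inv (R := k) I),
      Module.rankAtStalk A p = Module.finrank k (A ⧸ I) := fun p => by
    rw [FinHopf34.rankAtStalk_inv, Module.rankAtStalk_eq_finrank_of_free]
    rfl
  obtain ⟨h1, h2⟩ := FinHopf34.free_of_rankAtStalk_eq _ h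
  exact ⟨h1, h2 inferInstance⟩

end Groth.Agent.S17329
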