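import Groth.Statements.S17330
import Groth.Agent.FinHopf34.LieQuot
import Groth.Agent.FinHopf34.Classify

set_option autoImplicit false
universe u v
open Hopf

namespace Groth.Agent.S17330

private theorem maximal_ne_bot {k : Type u} [Field k] {B : Type v} [CommRing B] [HopfAlgebra k B] [Module.Finite k B]
    [IsLocalRing B] (h : 1 < Module.finrank k B) : IsLocalRing.maximalIdeal B ≠ ⊥ := by
  intro hm
  have : Module.finrank k B = 1 := by
    refine finrank_eq_one 1 one_ne_zero fun a => ⟨Coalgebra.counit (R := k) a, ?_⟩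
    have h1 : a - Coalgebra.counit (R := k) a • (1 : B) ∈ IsLocalRing.maximalIdeal B :=
      (Groth.Agent.Hopf35.Loc.mem_maximalIdeal_iff k).mpr (by simp)
    rw [hm, Ideal.mem_bot, sub_eq_zero] at h1
    exact h1.symm
  omega

private theorem exists_quot (k : Type u) [Field k] [IsAlgClosed k] (p : ℕ) [Fact p.Prime] [CharP k p] (B : Type v)
    [CommRing B] [HopfAlgebra k B] [Module.Finite k B] [IsLocalRing B] (hB : 1 < Module.finrank k B) :
    (∃ f : B →ₐc[k] MonoidAlgebra k (Multiplicative (ZMod p)), Function.Surjective f) ∨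
      (∃ f : B →ₐc[k] AlphaP.A p k, Function.Surjective f) := by
  obtain ⟨ξ₀, x₀, hξ₀, -, hξx₀⟩ := Groth.Agent.Hopf35.Loc.exists_ptDer k (maximal_ne_bot hB)
  have hg : Groth.Agent.Hopf35.Loc.lieSub k ≠ (⊥ : Submodule k (Module.End k B)) := by
    intro h
    have h1 : Groth.Agent.Hopf35.Loc.op k ξ₀ ∈ Groth.Agent.Hopf35.Loc.lieSub k := ⟨ξ₀, hξ₀, rfl⟩
    rw [h, Submodule.mem_bot] at h1
    have := Groth.Agent.Hopf35.Loc.counit_op k ξ₀ x₀
    simp_all
  obtain ⟨D, hD, hD0, c, hc⟩ := Groth.Agent.S17325.result k p B (Groth.Agent.Hopf35.Loc.lieSub k)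
    (fun T hT => Groth.Agent.Hopf35.Loc.lieSub_pow_mem k p hT) hg
  obtain ⟨ξ, hξ, rfl⟩ := hD
  let J := FinHopf34.LieQuot.ideal hξ
  haveI : J.IsHopfIdeal k := FinHopf34.LieQuot.isHopfIdeal hξ
  have hJ1 : J ≠ ⊤ := fun h => by
    have h1 : (1 : B) ∈ J := h ▸ Submodule.mem_top
    have h2 := (FinHopf34.LieQuot.mem_ideal hξ).1 h1 0
    rw [FinHopf34.LieQuot.form_zero, Bialgebra.counit_one] at h2
    exact one_ne_zero h2
  haveI : Nontrivial (B ⧸ J) := Ideal.Quotient.nontrivial_iff.2 hJ1
  haveI : IsLocalRing (B ⧸ J) := IsLocalRing.of_surjective' (Ideal.Quotient.mk J) Ideal.Quotient.mk_surjective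
  have hm : IsLocalRing.maximalIdeal (B ⧸ J) ≠ ⊥ := by
    intro h
    obtain ⟨a, ha⟩ : ∃ a, ξ a ≠ 0 := by
      by_contra h'
      push Not at h'
      exact hD0 (by rw [show ξ = 0 from LinearMap.ext h']; simp [Groth.Agent.Hopf35.Loc.op])
    haveI : IsLocalHom (Ideal.Quotient.mk J) := IsLocalHom.of_surjective _ Ideal.Quotient.mk_surjective
    have hx : Ideal.Quotient.mk J (a - Coalgebra.counit (R := k) a • (1 : B)) ∈ IsLocalRing.maximalIdeal (B ⧸ J) := by
      rw [IsLocalRing.mem_maximalIdeal, mem_nonunits_iff, isUnit_map_iff, ← mem_nonunits_iff, ← IsLocalRing.mem_maximalIdeal,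
        Groth.Agent.Hopf35.Loc.mem_maximalIdeal_iff k]
      simp
    rw [h, Ideal.mem_bot, Ideal.Quotient.eq_zero_iff_mem] at hx
    have h2 := (FinHopf34.LieQuot.mem_ideal hξ).1 hx 1
    rw [FinHopf34.LieQuot.form_one, map_sub, map_smul, FinHopf34.LieQuot.ptDer_one hξ, smul_zero, sub_zero] at h2
    exact ha h2
  have hdim : Module.finrank k (B ⧸ J) = p := by
    have hle : Module.finrank k (B ⧸ J) ≤ p :=
      (Submodule.Quotient.restrictScalarsEquiv k J).symm.finrank_eq.trans_le
        (FinHopf34.LieQuot.finrank_quotient_le hξ hc)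
    exact le_antisymm hle (Nat.le_of_dvd Module.finrank_pos (Groth.Agent.Hopf35.Loc.char_dvd_finrank k p hm))
  have hs : Function.Surjective (Bialgebra.Quotient.mkBialgHom (R := k) J) := Ideal.Quotient.mk_surjective
  rcases FinHopf34.classify (k := k) (A := B ⧸ J) p hdim with ⟨⟨e⟩⟩ | ⟨⟨e⟩⟩ | ⟨⟨e⟩⟩
  · exfalso
    haveI : IsReduced (ConstGrp.F k (Multiplicative (ZMod p))) :=
      inferInstanceAs (IsReduced (Multiplicative (ZMod p) → k))
    haveI : IsReduced (B ⧸ J) := isReduced_of_injective e.toAlgEquiv.toAlgHom e.toAlgEquiv.injective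
    haveI : IsArtinianRing (B ⧸ J) := IsArtinianRing.of_finite k _
    apply hm
    exact (IsLocalRing.isField_iff_maximalIdeal_eq.1 (IsArtinianRing.isField_of_isReduced_of_isLocalRing _))
  · exact Or.inl ⟨(e.toBialgHom).comp (Bialgebra.Quotient.mkBialgHom (R := k) J), e.toAlgEquiv.surjective.comp hs⟩
  · exact Or.inr ⟨(e.toBialgHom).comp (Bialgebra.Quotient.mkBialgHom (R := k) J), e.toAlgEquiv.surjective.comp hs⟩
/-- Let k be an algebraically closed field of characteristic p > 0 and A a commutative Hopf algebra over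
k, finite-dimensional as a k-vector space and not reduced (a non-reduced finite group scheme G =
Spec A). Then G contains a subgroup scheme isomorphic to μ_p or to α_p: there is a surjective
bialgebra homomorphism from A onto the group algebra of the cyclic group of order p (the Hopf
algebra of μ_p, group elements group-like) or onto k[X]/(X^p) with X primitive (the Hopf algebra of
α_p). -/
theorem result (k : Type u) [Field k] [IsAlgClosed k]
    (p : ℕ) [Fact p.Prime] [CharP k p] (A : Type v) [CommRing A] [HopfAlgebra k A] [Module.Finite k A]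
    (hA : ¬ IsReduced A) :
    (∃ f : A →ₐc[k] MonoidAlgebra k (Multiplicative (ZMod p)), Function.Surjective f) ∨
      (∃ f : A →ₐc[k] AlphaP.A p k, Function.Surjective f) := by
  obtain ⟨e, he, hε, hoff⟩ := Groth.Agent.Comod33.FinGrp.exists_identity_idempotent k A
  haveI : (Groth.Agent.Comod33.FinGrp.comp0 e).IsHopfIdeal k := Groth.Agent.Comod33.FinGrp.isHopfIdeal he hε hoff
  haveI : IsLocalRing (A ⧸ Groth.Agent.Comod33.FinGrp.comp0 e) := Groth.Agent.Comod33.FinGrp.isLocalRing_comp0 he hε hoff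
  have hB : 1 < Module.finrank k (A ⧸ Groth.Agent.Comod33.FinGrp.comp0 e) := by
    by_contra h
    apply hA
    have h1 : Module.finrank k (A ⧸ Groth.Agent.Comod33.FinGrp.comp0 e) = 1 :=
      le_antisymm (not_lt.1 h) Module.finrank_pos
    refine FinHopf34.isReduced_of_card (k := k) (A := A) ?_
    rw [Groth.Agent.Comod33.FinGrp.finrank_eq he hε hoff, h1, mul_one]
  have hs : Function.Surjective (Bialgebra.Quotient.mkBialgHom (R := k) (Groth.Agent.Comod33.FinGrp.comp0 e)) :=
    Ideal.Quotient.mk_surjective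
  rcases exists_quot k p _ hB with ⟨f, hf⟩ | ⟨f, hf⟩
  · exact Or.inl ⟨f.comp (Bialgebra.Quotient.mkBialgHom (R := k) (Groth.Agent.Comod33.FinGrp.comp0 e)), hf.comp hs⟩
  · exact Or.inr ⟨f.comp (Bialgebra.Quotient.mkBialgHom (R := k) (Groth.Agent.Comod33.FinGrp.comp0 e)), hf.comp hs⟩

end Groth.Agent.S17330
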