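import Groth.Statements.S17331
import Groth.Agent.FinHopf34.Classify

set_option autoImplicit false
universe u v
open Hopf

namespace Groth.Agent.S17331

/-- Let k be an algebraically closed field of characteristic p > 0, ℓ a prime, and A a commutative Hopf
algebra over k of dimension ℓ as a k-vector space (a finite group scheme G of prime order ℓ). If ℓ ≠
p then G ≅ ℤ/ℓ: A is isomorphic as a bialgebra to the algebra of k-valued functions on the cyclic
group of order ℓ. If ℓ = p then G is isomorphic to ℤ/p, μ_p or α_p: A is isomorphic as a bialgebra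
to the algebra of functions on the cyclic group of order p, to its group algebra (group elements
group-like), or to k[X]/(X^p) with X primitive. -/
theorem result (k : Type u) [Field k] [IsAlgClosed k]
    (p : ℕ) [Fact p.Prime] [CharP k p] (A : Type v) [CommRing A] [HopfAlgebra k A]
    (ℓ : ℕ) [Fact ℓ.Prime] (hA : Module.finrank k A = ℓ) :
    (ℓ ≠ p → Nonempty (A ≃ₐc[k] ConstGrp.F k (Multiplicative (ZMod ℓ)))) ∧
      (ℓ = p → Nonempty (A ≃ₐc[k] ConstGrp.F k (Multiplicative (ZMod p))) ∨
        Nonempty (A ≃ₐc[k] MonoidAlgebra k (Multiplicative (ZMod p))) ∨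
        Nonempty (A ≃ₐc[k] AlphaP.A p k)) := by
  haveI : Module.Finite k A := Module.finite_of_finrank_pos (hA ▸ (Fact.out : ℓ.Prime).pos)
  refine ⟨fun hne => ?_, fun he => ?_⟩
  · haveI : Algebra.Etale k A := Hopf35.EtaleDual.etale_of_not_dvd p (by
      rw [hA, Nat.prime_dvd_prime_iff_eq (Fact.out : p.Prime) (Fact.out : ℓ.Prime)]
      exact fun h => hne h.symm)
    haveI : IsReduced A := Algebra.FormallyUnramified.isReduced_of_field k A
    exact FinHopf34.exists_equiv_constGrp_of_card ℓ hA
  · exact FinHopf34.classify p (hA.trans he)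

end Groth.Agent.S17331
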