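import Groth.Statements.S17332
import Groth.Agent.CAlg9.FinAlg

set_option autoImplicit false
universe u v w
open CAlg

namespace Groth.Agent.S17332

/-- Let k be a field, E and F finite sets, and O(E), O(F) the k-algebras of k-valued functions with
pointwise operations. Then every k-algebra homomorphism u : O(F) → O(E) is pull-back along a unique
map φ : E → F, i.e. u(g) = g ∘ φ for all g. (In the source k is algebraically closed; the printed
argument only uses that k is a field.) -/
theorem result (k : Type u) [Field k] (E : Type v) [Finite E]
    (F : Type w) [Finite F] (u : (F → k) →ₐ[k] (E → k)) :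
    ∃! φ : E → F, ∀ g : F → k, u g = g ∘ φ := by
  classical
  let := Fintype.ofFinite F
  have hsum : ∀ g : F → k, g = ∑ f, g f • (Pi.single f (1 : k) : F → k) := fun g => by
    funext x; simp [Finset.sum_apply, Pi.single_apply]
  have key : ∀ e : E, ∃ f : F, ∀ g, u g e = g f := by
    intro e
    have h1 : ∑ f, u (Pi.single f (1 : k)) e = 1 := by
      rw [← Finset.sum_apply, ← map_sum, Finset.univ_sum_single]
      exact congrFun (map_one u) e
    obtain ⟨f, -, hf⟩ := Finset.exists_ne_zero_of_sum_ne_zero (h1 ▸ one_ne_zero)
    have horth : ∀ f', f' ≠ f → u (Pi.single f' (1 : k)) e = 0 := by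
      intro f' hne
      have := congrFun (congrArg u (show (Pi.single f' (1 : k) : F → k) * Pi.single f 1 = 0 by
        funext x; by_cases hx : x = f <;> simp [hx, hne.symm, Pi.single_apply])) e
      rw [map_mul, map_zero, Pi.mul_apply, Pi.zero_apply, mul_eq_zero] at this
      exact this.resolve_right hf
    have hone : u (Pi.single f (1 : k)) e = 1 :=
      (Finset.sum_eq_single f (fun f' _ h => horth f' h) (by simp)).symm.trans h1
    refine ⟨f, fun g => ?_⟩
    conv_lhs => rw [hsum g]
    rw [map_sum, Finset.sum_apply, Finset.sum_eq_single f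
      (fun f' _ h => by rw [map_smul, Pi.smul_apply, horth f' h, smul_zero]) (by simp),
      map_smul, Pi.smul_apply, hone, smul_eq_mul, mul_one]
  choose φ hφ using key
  refine ⟨φ, fun g => funext fun e => hφ e g, fun ψ hψ => funext fun e => ?_⟩
  have h := congrFun (hψ (Pi.single (φ e) (1 : k))) e
  rw [hφ, Pi.single_eq_same, Function.comp_apply] at h
  by_contra hne
  rw [Pi.single_eq_of_ne hne] at h
  exact one_ne_zero h

end Groth.Agent.S17332
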