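import Groth.Statements.S17333
import Groth.Agent.CAlg9.FinAlg

set_option autoImplicit false
universe u v w
open CAlg

namespace Groth.Agent.S17333

/-- Let k be a field and A = B × C a decomposable commutative k-algebra. Then the natural map Der(B) ×
Der(C) → Der(A) is bijective: every k-derivation D : A → A is (b, c) ↦ (D₁ b, D₂ c) for a unique
pair of k-derivations D₁ : B → B, D₂ : C → C. Compatibility with brackets is not stated. (The
published statement takes k algebraically closed; this row takes any field.) -/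
theorem result (k : Type u) [Field k] (B : Type v) [CommRing B] [Algebra k B]
    (C : Type w) [CommRing C] [Algebra k C] (D : Derivation k (B × C) (B × C)) :
    ∃! P : Derivation k B B × Derivation k C C, ∀ (b : B) (c : C), D (b, c) = (P.1 b, P.2 c) := by
  have hD1 : D ((1 : B), (0 : C)) = 0 :=
    Groth.Agent.CAlg9.derivation_eq_zero_of_isIdempotentElem D (by simp [IsIdempotentElem])
  have hD2 : D ((0 : B), (1 : C)) = 0 :=
    Groth.Agent.CAlg9.derivation_eq_zero_of_isIdempotentElem D (by simp [IsIdempotentElem])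
  have h1 : ∀ b : B, (D (b, (0 : C))).2 = 0 := fun b => by
    have h := D.leibniz ((1 : B), (0 : C)) (b, (0 : C))
    rw [hD1, smul_zero, add_zero, show ((1 : B), (0 : C)) * (b, (0 : C)) = (b, (0 : C)) by simp] at h
    rw [h]; simp
  have h2 : ∀ c : C, (D ((0 : B), c)).1 = 0 := fun c => by
    have h := D.leibniz ((0 : B), (1 : C)) ((0 : B), c)
    rw [hD2, smul_zero, add_zero, show ((0 : B), (1 : C)) * ((0 : B), c) = ((0 : B), c) by simp] at h
    rw [h]; simp
  let P₁ : Derivation k B B := Derivation.mk'
    ((LinearMap.fst k B C) ∘ₗ D.toLinearMap ∘ₗ (LinearMap.inl k B C)) fun a b => by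
      show (D (a * b, (0 : C))).1 = a * (D (b, (0 : C))).1 + b * (D (a, (0 : C))).1
      rw [show (a * b, (0 : C)) = (a, (0 : C)) * (b, (0 : C)) by simp, D.leibniz]
      simp
  let P₂ : Derivation k C C := Derivation.mk'
    ((LinearMap.snd k B C) ∘ₗ D.toLinearMap ∘ₗ (LinearMap.inr k B C)) fun a b => by
      show (D ((0 : B), a * b)).2 = a * (D ((0 : B), b)).2 + b * (D ((0 : B), a)).2
      rw [show ((0 : B), a * b) = ((0 : B), a) * ((0 : B), b) by simp, D.leibniz]
      simp
  refine ⟨(P₁, P₂), fun b c => ?_, fun Q hQ => ?_⟩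
  · have e : D (b, c) = D (b, (0 : C)) + D ((0 : B), c) := by rw [← map_add]; simp
    rw [e]
    refine Prod.ext ?_ ?_
    · show (D (b, (0 : C))).1 + (D ((0 : B), c)).1 = _
      rw [h2, add_zero]; rfl
    · show (D (b, (0 : C))).2 + (D ((0 : B), c)).2 = _
      rw [h1, zero_add]; rfl
  · refine Prod.ext (Derivation.ext fun b => ?_) (Derivation.ext fun c => ?_)
    · exact (congrArg Prod.fst (hQ b 0)).symm
    · exact (congrArg Prod.snd (hQ 0 c)).symm

end Groth.Agent.S17333
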