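import Groth.Statements.S17334
import Groth.Agent.CAlg9.FinAlg

set_option autoImplicit false
universe u v
open CAlg

namespace Groth.Agent.S17334

/-- Let k be a field and A a nonzero commutative k-algebra which is finite-dimensional as a k-vector
space. Then A is indecomposable (no decomposition as a product of two nonzero rings, i.e. no
idempotent other than 0 and 1) if and only if A is a local ring. (In the source k is algebraically
closed and the lemma adds that the maximal ideal is then the nilradical, is nilpotent, and has
residue field k; the equivalence itself uses only that k is a field, and the zero algebra is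
excluded here explicitly.) -/
theorem result (k : Type u) [Field k]
    (A : Type v) [CommRing A] [Algebra k A] [Module.Finite k A] [Nontrivial A] :
    (∀ e : A, IsIdempotentElem e → e = 0 ∨ e = 1) ↔ IsLocalRing A := by
  classical
  refine ⟨fun h => ?_, fun _ e he => ?_⟩
  swap
  · rcases IsLocalRing.isUnit_or_isUnit_one_sub_self e with hu | hu
    · exact Or.inr (hu.mul_left_cancel (by rw [he.eq, mul_one]))
    · exact Or.inl (hu.mul_left_cancel (by rw [sub_mul, one_mul, he.eq, sub_self, mul_zero]))
  have : IsArtinianRing A := IsArtinianRing.of_finite k A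
  let q := (algebraMap A (A ⧸ nilradical A))
  have hred := Groth.Agent.CAlg9.isReduced_quotient_nilradical (A := A)
  obtain ⟨m, hm⟩ := Ideal.exists_maximal A
  refine IsLocalRing.of_unique_max_ideal ⟨m, hm, fun m' hm' => ?_⟩
  by_contra hne
  obtain ⟨a, ha, b, hb, hab⟩ := Submodule.mem_sup.mp
    (show (1 : A) ∈ m ⊔ m' by rw [hm.coprime_of_ne hm' (Ne.symm hne)]; trivial)
  let eq := IsArtinianRing.equivPi (A ⧸ nilradical A)
  have hmax : ∀ P : Ideal A, P.IsMaximal → (P.map (Ideal.Quotient.mk (nilradical A))).IsMaximal ∧
      (P.map (Ideal.Quotient.mk (nilradical A))).comap (Ideal.Quotient.mk (nilradical A)) = P := by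
    intro P hP
    have h2 : (P.map (Ideal.Quotient.mk (nilradical A))).comap (Ideal.Quotient.mk (nilradical A)) = P := by
      rw [Ideal.comap_map_quotientMk, sup_eq_right]
      exact nilradical_le_prime P
    refine ⟨(Ideal.map_eq_top_or_isMaximal_of_surjective _ Ideal.Quotient.mk_surjective hP).resolve_left
      fun ht => hP.ne_top ?_, h2⟩
    rw [← h2, ht, Ideal.comap_top]
  obtain ⟨hM, hMc⟩ := hmax m hm
  obtain ⟨hM', hMc'⟩ := hmax m' hm'
  let M : MaximalSpectrum (A ⧸ nilradical A) := ⟨_, hM⟩
  let M' : MaximalSpectrum (A ⧸ nilradical A) := ⟨_, hM'⟩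
  let ebar := eq.symm (Pi.single M 1)
  have hebar : IsIdempotentElem ebar := IsIdempotentElem.map (by
    show Pi.single M 1 * Pi.single M 1 = Pi.single M 1
    rw [← Pi.single_mul, one_mul]) eq.symm
  obtain ⟨e, he, hee⟩ := exists_isIdempotentElem_eq_of_ker_isNilpotent (Ideal.Quotient.mk (nilradical A))
    (fun x hx => mem_nilradical.mp (by rwa [Ideal.mk_ker] at hx)) ebar
    (Ideal.Quotient.mk_surjective _) hebar
  have hval : ∀ N : MaximalSpectrum (A ⧸ nilradical A),
      Ideal.Quotient.mk N.asIdeal (Ideal.Quotient.mk (nilradical A) e) =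
        (Pi.single M 1 : ∀ N : MaximalSpectrum (A ⧸ nilradical A), _ ⧸ N.asIdeal) N := fun N => by
    rw [hee, ← IsArtinianRing.equivPi_apply]
    show eq (eq.symm _) N = _
    rw [AlgEquiv.apply_symm_apply]
  have hMM : M' ≠ M := fun hh => hne <| by
    rw [← hMc', ← hMc]
    exact congrArg (Ideal.comap _ ∘ MaximalSpectrum.asIdeal) hh
  rcases h e he with rfl | rfl
  · have h1 := hval M
    rw [map_zero, map_zero, Pi.single_eq_same] at h1
    exact zero_ne_one h1
  · have h1 := hval M'
    rw [map_one, map_one, Pi.single_eq_of_ne hMM] at h1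
    exact one_ne_zero h1

end Groth.Agent.S17334
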