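import Groth.Statements.S17337
import Groth.Agent.PLie29.Faithful
import Mathlib.LinearAlgebra.Matrix.ToLin
import Mathlib.LinearAlgebra.FiniteDimensional.Defs

set_option autoImplicit false
universe u v
open PLie
open Groth.Agent.PLie29.Faithful UniversalEnvelopingAlgebra
attribute [local instance] LieRing.ofAssociativeRing

namespace Groth.Agent.S17337

/-- Let k be a field of characteristic p > 0 and (L, x ↦ x^[p]) a finite-dimensional restricted Lie
algebra over k. Then L is isomorphic to a restricted Lie subalgebra of gl_n(k) for some n: there is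
an injective k-linear map e : L → M_n(k) with e[x, y] = e(x)e(y) − e(y)e(x) and e(x^[p]) = e(x)^p
for all x, y. (The published statement takes k algebraically closed; this row takes any field of
characteristic p.) -/
theorem result (k : Type u) [Field k] (p : ℕ) [Fact p.Prime] [CharP k p]
    (L : Type v) [LieRing L] [LieAlgebra k L] [Module.Finite k L] (φ : PLie.PMap k p L) :
    ∃ (n : ℕ) (e : L →ₗ[k] Matrix (Fin n) (Fin n) k), PLie.IsPSubOfAssoc φ e := by
  let b := Module.finBasis k L
  let J := I b φ
  let F : UniversalEnvelopingAlgebra k L →ₐ[k] Module.End k (UniversalEnvelopingAlgebra k L ⧸ J) :=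
    AlgHom.ofLinearMap
      { toFun := fun a => J.mapQ J (LinearMap.mulLeft k a) fun x hx => mul_mem_I b φ a hx
        map_add' := fun a c => Submodule.linearMap_qext _ (LinearMap.ext fun x => by
          show Submodule.Quotient.mk (p := J) ((a + c) * x) = _
          rw [add_mul]; rfl)
        map_smul' := fun r a => Submodule.linearMap_qext _ (LinearMap.ext fun x => by
          show Submodule.Quotient.mk (p := J) ((r • a) * x) = _
          rw [smul_mul_assoc]; rfl) }
      (Submodule.linearMap_qext _ (LinearMap.ext fun x => by simp))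
      (fun a c => Submodule.linearMap_qext _ (LinearMap.ext fun x => by
        show Submodule.Quotient.mk (p := J) ((a * c) * x) = _
        rw [mul_assoc]; rfl))
  have : Module.Finite k (UniversalEnvelopingAlgebra k L ⧸ J) := finite_quotient b φ
  have h0 : ∀ a ∈ J, F a = 0 := fun a ha => Submodule.linearMap_qext _ (LinearMap.ext fun u => by
    show Submodule.Quotient.mk (p := J) (a * u) = 0
    rw [Submodule.Quotient.mk_eq_zero]
    have h : J ≤ J.comap (LinearMap.mulRight k u) := iSup_le fun i => by
      rintro _ ⟨v, rfl⟩
      show z b φ i * v * u ∈ J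
      rw [mul_assoc]
      exact z_mul_mem b φ i _
    exact h ha)
  let β := Module.finBasis k (UniversalEnvelopingAlgebra k L ⧸ J)
  let G := (LinearMap.toMatrixAlgEquiv β).toAlgHom.comp F
  refine ⟨_, G.toLinearMap ∘ₗ (ι k : L →ₗ⁅k⁆ UniversalEnvelopingAlgebra k L).toLinearMap, ?_, ?_, fun x => ?_⟩
  · refine (injective_iff_map_eq_zero _).2 fun x hx => eq_zero_of_iota_mem b φ ?_
    have hF : F (ι k x) = 0 := (LinearMap.toMatrixAlgEquiv β).injective (hx.trans (map_zero _).symm)
    have h1 := LinearMap.congr_fun hF (Submodule.Quotient.mk 1)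
    show ι k x ∈ J
    rw [← Submodule.Quotient.mk_eq_zero]
    have h2 : Submodule.Quotient.mk (p := J) (ι k x * 1) = 0 := h1
    rwa [mul_one] at h2
  · intro x y
    show G (ι k ⁅x, y⁆) = G (ι k x) * G (ι k y) - G (ι k y) * G (ι k x)
    rw [LieHom.map_lie, LieRing.of_associative_ring_bracket, map_sub, map_mul, map_mul]
  · show G (ι k (φ x)) = G (ι k x) ^ p
    rw [← sub_eq_zero, ← map_pow, ← map_sub]
    show (LinearMap.toMatrixAlgEquiv β) (F _) = 0
    rw [h0 _ (pmap_sub_mem b φ x), map_zero]

end Groth.Agent.S17337
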