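import Groth.Statements.S17359
import Groth.Agent.AzInv26.SignLoc

set_option autoImplicit false
universe u w
open scoped TensorProduct
open AzInv

namespace Groth.Agent.S17359

/-- Let `R` be a nontrivial commutative ring with connected spectrum in which `2` is a unit, with the
trivial involution (so that the involutions considered are of the first kind and the quotient is the
trivial one). Then there are exactly two types, the orthogonal and the symplectic one; this row
states the first half: every involution of the first kind `t` of an Azumaya `R`-algebra `A` of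
degree `n ≥ 1` has the same type either as the identity of `R` or as the standard symplectic
involution `x ↦ J xᵀ J⁻¹` of the `2 × 2` matrix algebra, `J` the matrix with rows `(0, -1)` and `(1,
0)` (same type: suitable matrix algebras over the two, with the induced involutions, become
isomorphic as `R`-algebras with involution after an etale faithfully flat base change of `R`). (The
source states that the monoid of types is isomorphic to the group of global square roots of `1`, for
a locally ringed topos with trivial involution and `2` invertible; the row is the affine case with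
connected spectrum, where that group is `{1, -1}`.) -/
theorem result (R : Type u) [CommRing R] (hlam : ∀ r : R, (AlgEquiv.refl : R ≃ₐ[R] R) ((AlgEquiv.refl : R ≃ₐ[R] R) r) = r)
    [Nontrivial R] [ConnectedSpace (PrimeSpectrum R)] (h2 : IsUnit (2 : R))
    (J : (Matrix (Fin 2) (Fin 2) R)ˣ) (hJ : (↑J : Matrix (Fin 2) (Fin 2) R) = Matrix.of ![![0, -1], ![1, 0]])
    (hJt : AzInv.LamInv.transpose (AlgEquiv.refl : R ≃ₐ[R] R) (Fin 2) hlam (↑J : Matrix (Fin 2) (Fin 2) R) = (-1 : R) • (↑J : Matrix (Fin 2) (Fin 2) R))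
    (hneg : (AlgEquiv.refl : R ≃ₐ[R] R) (-1) * (-1) = 1)
    (A : Type w) [Ring A] [Algebra R A]
    (n : ℕ) (hn : 0 < n) (hA : AzInv.IsAzumayaDeg R A n) (t : AzInv.LamInv R A (AlgEquiv.refl : R ≃ₐ[R] R)) :
    AzInv.SameType R (AlgEquiv.refl : R ≃ₐ[R] R) t (AzInv.LamInv.self (AlgEquiv.refl : R ≃ₐ[R] R) hlam) ∨
      AzInv.SameType R (AlgEquiv.refl : R ≃ₐ[R] R) t ((AzInv.LamInv.transpose (AlgEquiv.refl : R ≃ₐ[R] R) (Fin 2) hlam).conj J (-1) hJt hneg) := by
  haveI := hA.1
  have hfix : RInv.IsFixedRing R R (AlgEquiv.refl : R ≃ₐ[R] R).toRingEquiv :=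
    ⟨fun a b h => h, fun r => ⟨fun _ => ⟨r, rfl⟩, fun _ => rfl⟩⟩
  have hq : ∀ (q : PrimeSpectrum R) (r : R), (AlgEquiv.refl : R ≃ₐ[R] R) r - r ∈ q.asIdeal :=
    fun q r => by simp
  let U : Set (PrimeSpectrum R) := {q | AzInv26.Pos (AzInv26.atQ t q (hq q))}
  have hU : IsClopen U := by
    have hc : ∀ q : PrimeSpectrum R, PrimeSpectrum.comap (algebraMap R R) q = q := fun q => rfl
    refine ⟨⟨isOpen_iff_forall_mem_open.2 fun q hqU => ?_⟩, isOpen_iff_forall_mem_open.2 fun q hqU => ?_⟩
    · obtain ⟨V, hV, hqV, hV'⟩ := AzInv26.exists_open_pos hlam hfix h2 hn hA t q (hq q)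
      exact ⟨V, fun q' hq' hU' => hqU ((hV' q' (hq q') hq').1 hU'), hV, hqV⟩
    · obtain ⟨V, hV, hqV, hV'⟩ := AzInv26.exists_open_pos hlam hfix h2 hn hA t q (hq q)
      exact ⟨V, fun q' hq' => (hV' q' (hq q') hq').2 hqU, hV, hqV⟩
  have hdeg : ∀ k : ℕ, 0 < k → AzInv.IsAzumayaDeg R (Matrix (Fin k) (Fin k) R) k :=
    fun k hk => AzInv26.isAzumayaDeg_matrix hk
  have hself : AzInv.IsAzumayaDeg R R 1 := by
    refine ⟨inferInstance, fun p => ?_⟩
    rw [Module.rankAtStalk_eq_finrank_of_free]
    simp
  rcases isClopen_iff.1 hU with h | h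
  · right
    rw [AzInv26.sameType_iff hlam hfix h2 hn two_pos hA (hdeg 2 two_pos)]
    intro q hq'
    refine iff_of_false (fun hpos => ?_) (AzInv26.atQ_skew hlam h2 two_pos J hJt hneg q hq').1
    exact (show q ∉ U by rw [h]; exact id) hpos
  · left
    rw [AzInv26.sameType_iff hlam hfix h2 hn one_pos hA hself]
    intro q hq'
    refine iff_of_true (show q ∈ U by rw [h]; trivial) ?_
    have h5 : AzInv26.Pos (AzInv26.atQ
        ((AzInv.LamInv.self (AlgEquiv.refl : R ≃ₐ[R] R) hlam).matrix (Fin 1)) q hq') :=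
      (AzInv26.pos_congr ((AzInv26.self_matrix hlam 1).bc
        (AzInv26.compat_field (AzInv26.residue_fixed hq')))).2
        (AzInv26.atQ_trA hlam h2 (n := 1) one_pos q hq').1
    rwa [AzInv26.pos_matrix_atQ _ one_pos q hq'] at h5

end Groth.Agent.S17359
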