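import Groth.Agent.Hopf35.RInvAlt
import Groth.Statements.S17363

set_option autoImplicit false
universe u v
open scoped TensorProduct
open RInv

namespace Groth.Agent.S17363

set_option maxHeartbeats 1600000 in
theorem result (B : Type u) (A : Type v) [CommRing B] [CommRing A]
    [Algebra B A] (lam : A ≃ₐ[B] A) (hlam : ∀ a, lam (lam a) = a) (hB : RInv.IsFixedRing B A lam.toRingEquiv)
    [IsLocalRing B] (hid : ∀ a : A, lam a - a ∈ Ring.jacobson A) (h2 : IsUnit (2 : A))
    (h : Matrix (Fin 2) (Fin 2) A) (hh : IsUnit h) (herm : -(h.map lam).transpose = h)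
    (hJ : ∀ i j : Fin 2, h i j - Matrix.of ![![(0 : A), 1], ![-1, 0]] i j ∈ Ring.jacobson A) :
    ∃ (s t : Bˣ) (r : ℕ) (f : Fin r → (MvPolynomial (Fin 2) B ⧸ Ideal.span ({MvPolynomial.X 0 ^ 2 - MvPolynomial.C (s : B), MvPolynomial.X 1 ^ 2 - MvPolynomial.C (t : B)} : Set (MvPolynomial (Fin 2) B)))),
      Ideal.span (Set.range f) = ⊤ ∧
      ∀ i : Fin r, ∃ v : Matrix (Fin 2) (Fin 2) (Localization.Away (f i) ⊗[B] A), IsUnit v ∧
        (v.map (Algebra.TensorProduct.congr (AlgEquiv.refl : Localization.Away (f i) ≃ₐ[Localization.Away (f i)] Localization.Away (f i)) lam)).transpose * h.map (Algebra.TensorProduct.includeRight : A →ₐ[B] Localization.Away (f i) ⊗[B] A) * v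
          = (Matrix.of ![![(0 : A), 1], ![-1, 0]]).map (Algebra.TensorProduct.includeRight : A →ₐ[B] Localization.Away (f i) ⊗[B] A) := by
  classical
  have hJ1 : ∀ x : A, x ∈ Ring.jacobson A → IsUnit (1 + x) := fun x hx => by
    rw [Ring.jacobson_eq_sInf_isMaximal] at hx
    have := Ideal.mem_jacobson_bot.1 (show x ∈ Ideal.jacobson ⊥ by rwa [Ideal.jacobson_bot, Ring.jacobson_eq_sInf_isMaximal]) 1
    rwa [_root_.mul_one, add_comm] at this
  have fixed_unit : ∀ z : A, lam z = z → IsUnit z → ∃ u : Bˣ, algebraMap B A u = z := fun z hz hu => by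
    obtain ⟨u, rfl⟩ := hu
    have hinv : lam ((u⁻¹ : Aˣ) : A) = ((u⁻¹ : Aˣ) : A) := by
      refine (Units.mul_right_inj u).1 ?_
      rw [Units.mul_inv]
      conv_lhs => rw [← hz]
      rw [← map_mul, Units.mul_inv, map_one]
    obtain ⟨x, hx⟩ := (hB.2 _).1 hz
    obtain ⟨y, hy⟩ := (hB.2 _).1 hinv
    exact ⟨⟨x, y, hB.1 (by rw [map_mul, hx, hy, Units.mul_inv, map_one]),
      hB.1 (by rw [map_mul, hx, hy, Units.inv_mul, map_one])⟩, hx⟩
  have h00 : h 0 0 ∈ Ring.jacobson A := by simpa using hJ 0 0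
  have h01 : h 0 1 - 1 ∈ Ring.jacobson A := by simpa using hJ 0 1
  have hsk : ∀ i j, lam (h i j) = -h j i := fun i j => by
    have e := congrFun (congrFun herm j) i
    simp only [Matrix.neg_apply, Matrix.transpose_apply, Matrix.map_apply] at e
    rw [← e, neg_neg]
  have hbu : IsUnit (h 0 1) := by simpa using hJ1 _ h01
  obtain ⟨β, hbβ⟩ := hbu.exists_right_inv
  set z := 1 + h 0 0 * (h 1 1 * β * lam β) with hzdef
  have hzf : lam z = z := by
    rw [hzdef, map_add, map_one, map_mul, map_mul, map_mul, hsk, hsk, hlam]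
    ring
  have hzu : IsUnit z := hJ1 _ (Ideal.mul_mem_right _ _ h00)
  obtain ⟨s, hs⟩ := fixed_unit z hzf hzu
  obtain ⟨u2, hu2⟩ := fixed_unit 2 (map_ofNat lam 2) h2
  have hu2' : (u2 : B) = 2 := hB.1 (by rw [hu2, map_ofNat])
  let Q := MvPolynomial (Fin 2) B ⧸ Ideal.span ({MvPolynomial.X 0 ^ 2 - MvPolynomial.C (s : B),
    MvPolynomial.X 1 ^ 2 - MvPolynomial.C ((1 : Bˣ) : B)} : Set (MvPolynomial (Fin 2) B))
  let x : Q := Ideal.Quotient.mk _ (MvPolynomial.X 0)
  have hx2 : x * x = algebraMap B Q s := by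
    show Ideal.Quotient.mk _ _ * Ideal.Quotient.mk _ _ = Ideal.Quotient.mk _ (MvPolynomial.C (s : B))
    rw [← map_mul, Ideal.Quotient.eq, ← pow_two]
    exact Ideal.subset_span (Set.mem_insert _ _)
  refine ⟨s, 1, 2, ![1 + x, 1 - x], ?_, fun i => ?_⟩
  · rw [Matrix.range_cons_cons_empty]
    rw [Ideal.eq_top_iff_one]
    have e : (1 : Q) = algebraMap B Q ((u2⁻¹ : Bˣ) : B) * ((1 + x) + (1 - x)) := by
      rw [show (1 + x) + (1 - x) = algebraMap B Q (u2 : B) by rw [hu2', map_ofNat]; ring,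
        ← map_mul, Units.inv_mul, map_one]
    have hmem : algebraMap B Q ((u2⁻¹ : Bˣ) : B) * ((1 + x) + (1 - x)) ∈
        Ideal.span ({1 + x, 1 - x} : Set Q) :=
      Ideal.mul_mem_left _ _ (add_mem (Ideal.subset_span (by simp)) (Ideal.subset_span (by simp)))
    rwa [← e] at hmem
  set C := Localization.Away (![1 + x, 1 - x] i) with hC
  let σ := Algebra.TensorProduct.congr (AlgEquiv.refl : C ≃ₐ[C] C) lam
  let inR : A →ₐ[B] C ⊗[B] A := Algebra.TensorProduct.includeRight
  have hσR : ∀ a, σ (inR a) = inR (lam a) := fun a => rfl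
  have hσL : ∀ c, σ (Algebra.TensorProduct.includeLeft (S := B) c) =
      (Algebra.TensorProduct.includeLeft (S := B) c : C ⊗[B] A) := fun c => by
    simp [σ]
  obtain ⟨x', hx', hx'u⟩ : ∃ x' : C, x' * x' = algebraMap B C s ∧ IsUnit (1 + x') := by
    have hu := IsLocalization.Away.algebraMap_isUnit (S := C) (![1 + x, 1 - x] i)
    have hm : algebraMap Q C x * algebraMap Q C x = algebraMap B C s := by
      rw [← map_mul, hx2, ← IsScalarTower.algebraMap_apply]
    rcases (show ![1 + x, 1 - x] i = 1 + x ∨ ![1 + x, 1 - x] i = 1 - x by fin_cases i <;> simp) with hi | hi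
    · exact ⟨algebraMap Q C x, hm, by
        rw [← map_one (algebraMap Q C), ← map_add]; exact (congrArg (fun q => IsUnit (algebraMap Q C q)) hi).mp hu⟩
    · exact ⟨-algebraMap Q C x, by rw [neg_mul_neg, hm], by
        rw [← sub_eq_add_neg, ← map_one (algebraMap Q C), ← map_sub]
        exact (congrArg (fun q => IsUnit (algebraMap Q C q)) hi).mp hu⟩
  have hrs : IsUnit x' := isUnit_of_mul_isUnit_left (hx' ▸ s.isUnit.map (algebraMap B C))
  obtain ⟨r', hr'⟩ := hrs.exists_right_inv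
  obtain ⟨l, hl⟩ := hx'u.exists_right_inv
  let inL : C →ₐ[B] C ⊗[B] A := Algebra.TensorProduct.includeLeft
  obtain ⟨v, hv, hvv⟩ := Groth.Agent.Hopf35.RI.exists_congr_std σ.toRingEquiv (inR (h 0 0))
    (inR (h 0 1)) (inR (h 1 1)) (inR β) (inL x') (inL r') (inL (-l))
    (inR (algebraMap B A ((u2⁻¹ : Bˣ) : B)))
    (show σ (inR _) = _ by rw [hσR, hsk, map_neg])
    (show σ (inR _) = _ by rw [hσR, hsk, map_neg])
    (by rw [← map_mul, hbβ, map_one])
    (show inL x' * inL x' = 1 + inR (h 0 0) * (inR (h 1 1) * inR β * σ (inR β)) by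
      rw [hσR, ← map_mul, hx', ← map_mul, ← map_mul, ← map_mul, ← map_one inR, ← map_add, ← hzdef,
        ← hs, AlgHom.commutes, AlgHom.commutes])
    (hσL x') (by rw [← map_mul, hr', map_one])
    (by rw [← map_one inL, ← map_add, ← map_mul, ← map_neg]; congr 1; linear_combination -hl)
    (by rw [← map_ofNat inR 2, ← map_mul, ← hu2, ← map_mul, Units.mul_inv, map_one, map_one])
    (fun y => by
      induction y with
      | zero => simp
      | add p q hp hq =>
        show σ (σ (p + q)) = p + q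
        rw [map_add, map_add]; exact congrArg₂ (· + ·) hp hq
      | tmul c a => simp [σ, hlam])
  refine ⟨v, hv, ?_⟩
  refine Eq.trans ?_ (hvv.trans ?_)
  · congr 2
    ext i j
    fin_cases i <;> fin_cases j <;> simp [inR, σ, hsk, TensorProduct.tmul_neg] <;> rfl
  · ext i j
    fin_cases i <;> fin_cases j <;> simp <;>
      first | exact (map_zero inR).symm | exact (map_one inR).symm | exact ((map_neg inR 1).trans (congrArg Neg.neg (map_one inR))).symm

end Groth.Agent.S17363
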