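import Groth.Agent.Hopf35.RInvSpread
import Groth.Statements.S17364

set_option autoImplicit false
universe u v
open scoped TensorProduct
open RInv

namespace Groth.Agent.S17364

open Groth.Agent.Hopf35.RI in
set_option maxHeartbeats 1600000 in
theorem result (B : Type u) (A : Type v) [CommRing B] [CommRing A]
    [Algebra B A] (lam : A ≃ₐ[B] A) (hlam : ∀ a, lam (lam a) = a) (hB : RInv.IsFixedRing B A lam.toRingEquiv)
    (n : ℕ) (ε : A) (hε : ε = 1 ∨ ε = -1) (h h' : Matrix (Fin n) (Fin n) A) (hh : IsUnit h) (hh' : IsUnit h')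
    (herm : ε • (h.map lam).transpose = h) (herm' : ε • (h'.map lam).transpose = h')
    (p : Ideal B) [p.IsPrime]
    (hdata : (∃ (l : ℕ) (s : Fin l → (Localization.AtPrime p)ˣ) (r : ℕ) (f : Fin r → (MvPolynomial (Fin l) (Localization.AtPrime p) ⧸ Ideal.span (Set.range fun k : Fin l => MvPolynomial.X k ^ 2 - MvPolynomial.C (s k : Localization.AtPrime p)))),
        Ideal.span (Set.range f) = ⊤ ∧
        ∀ (i : Fin r) (C : Type u) [CommRing C] [Algebra B C]
          [Algebra (MvPolynomial (Fin l) (Localization.AtPrime p) ⧸ Ideal.span (Set.range fun k : Fin l => MvPolynomial.X k ^ 2 - MvPolynomial.C (s k : Localization.AtPrime p))) C]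
          [IsScalarTower B (MvPolynomial (Fin l) (Localization.AtPrime p) ⧸ Ideal.span (Set.range fun k : Fin l => MvPolynomial.X k ^ 2 - MvPolynomial.C (s k : Localization.AtPrime p))) C]
          [IsLocalization.Away (f i) C],
          ∃ v : Matrix (Fin n) (Fin n) (C ⊗[B] A), IsUnit v ∧
            (v.map (Algebra.TensorProduct.congr (AlgEquiv.refl : C ≃ₐ[C] C) lam)).transpose * h.map (Algebra.TensorProduct.includeRight : A →ₐ[B] C ⊗[B] A) * v = h'.map (Algebra.TensorProduct.includeRight : A →ₐ[B] C ⊗[B] A))) :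
    ∃ b : B, b ∉ p ∧
      (∃ (l : ℕ) (s : Fin l → (Localization.Away b)ˣ) (r : ℕ) (f : Fin r → (MvPolynomial (Fin l) (Localization.Away b) ⧸ Ideal.span (Set.range fun k : Fin l => MvPolynomial.X k ^ 2 - MvPolynomial.C (s k : Localization.Away b)))),
        Ideal.span (Set.range f) = ⊤ ∧
        ∀ (i : Fin r) (C : Type u) [CommRing C] [Algebra B C]
          [Algebra (MvPolynomial (Fin l) (Localization.Away b) ⧸ Ideal.span (Set.range fun k : Fin l => MvPolynomial.X k ^ 2 - MvPolynomial.C (s k : Localization.Away b))) C]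
          [IsScalarTower B (MvPolynomial (Fin l) (Localization.Away b) ⧸ Ideal.span (Set.range fun k : Fin l => MvPolynomial.X k ^ 2 - MvPolynomial.C (s k : Localization.Away b))) C]
          [IsLocalization.Away (f i) C],
          ∃ v : Matrix (Fin n) (Fin n) (C ⊗[B] A), IsUnit v ∧
            (v.map (Algebra.TensorProduct.congr (AlgEquiv.refl : C ≃ₐ[C] C) lam)).transpose * h.map (Algebra.TensorProduct.includeRight : A →ₐ[B] C ⊗[B] A) * v = h'.map (Algebra.TensorProduct.includeRight : A →ₐ[B] C ⊗[B] A)) := by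
  classical
  obtain ⟨l, s, r, f, hf, hv⟩ := hdata
  let M := p.primeCompl
  choose at' hat using fun k => IsLocalization.surj M (s k : Localization.AtPrime p)
  have ha : ∀ k, (at' k).1 ∈ M := fun k =>
    (IsLocalization.AtPrime.isUnit_to_map_iff (Localization.AtPrime p) p _).1
      ((hat k) ▸ (s k).isUnit.mul (IsLocalization.map_units _ (at' k).2))
  let b0 : B := (∏ k, (at' k).1) * ∏ k, ((at' k).2 : B)
  have hb0 : b0 ∈ M := mul_mem (prod_mem fun k _ => ha k) (prod_mem fun k _ => (at' k).2.2)
  let g : Localization.Away b0 →ₐ[B] Localization.AtPrime p :=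
    awayHom b0 _ (IsLocalization.map_units _ (⟨b0, hb0⟩ : M))
  have hu : ∀ k, IsUnit (algebraMap B (Localization.Away b0) (at' k).1) ∧
      IsUnit (algebraMap B (Localization.Away b0) (at' k).2) := fun k => by
    have h1 := IsLocalization.Away.algebraMap_isUnit (S := Localization.Away b0) b0
    simp only [b0, map_mul, map_prod, IsUnit.mul_iff, IsUnit.prod_univ_iff] at h1
    exact ⟨h1.1 k, h1.2 k⟩
  let s0 : Fin l → (Localization.Away b0)ˣ := fun k => (hu k).1.unit * (hu k).2.unit⁻¹
  have hs0 : ∀ k, g (s0 k : Localization.Away b0) = (s k : Localization.AtPrime p) := fun k => by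
    refine (IsLocalization.map_units (Localization.AtPrime p) (at' k).2).mul_right_cancel ?_
    rw [hat k, ← AlgHom.commutes g, ← map_mul, ← AlgHom.commutes g]
    simp [s0, mul_assoc]
  let sB : Fin l → Localization.Away b0 := fun k => (s0 k : Localization.Away b0)
  let sP : Fin l → Localization.AtPrime p := fun k => (s k : Localization.AtPrime p)
  have hN : ∀ (D : Type u) [CommRing D] [Algebra B D] (φ ψ : Localization.Away b0 →ₐ[B] D), φ = ψ :=
    fun D _ _ φ ψ => algHom_eq (N := Submonoid.powers b0) φ ψ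
  choose f0 mf hf0 using fun i => exists_qMap_eq M (Localization.AtPrime p) g sB sP hs0 (f i)
  have hassoc : ∀ i, Associated (qMap g sB sP hs0 (f0 i)) (f i) := fun i => by
    have hu : IsUnit (algebraMap B (Qs sP) (mf i : B)) := by
      rw [IsScalarTower.algebraMap_apply B (Localization.AtPrime p) (Qs sP)]
      exact (IsLocalization.map_units _ (mf i)).map _
    exact ⟨hu.unit⁻¹, by rw [hf0, mul_comm, ← mul_assoc]; simp⟩
  obtain ⟨mu, hmu⟩ : ∃ m : M, algebraMap B (Qs sB) m ∈ Ideal.span (Set.range f0) := by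
    have key : ∀ x ∈ Ideal.span (Set.range f), ∃ (m : M) (q : Qs sB), q ∈ Ideal.span (Set.range f0) ∧
        qMap g sB sP hs0 q = algebraMap B _ m * x := by
      intro x hx
      induction hx using Submodule.span_induction with
      | mem x hx =>
        obtain ⟨i, rfl⟩ := hx
        exact ⟨mf i, f0 i, Ideal.subset_span ⟨i, rfl⟩, hf0 i⟩
      | zero => exact ⟨1, 0, zero_mem _, by simp⟩
      | add x y _ _ hx hy =>
        obtain ⟨m, q, hq, hqx⟩ := hx
        obtain ⟨m', q', hq', hqy⟩ := hy
        refine ⟨m * m', algebraMap B _ m' * q + algebraMap B _ m * q',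
          add_mem (Ideal.mul_mem_left _ _ hq) (Ideal.mul_mem_left _ _ hq'), ?_⟩
        rw [map_add, map_mul, map_mul, AlgHom.commutes, AlgHom.commutes, hqx, hqy, Submonoid.coe_mul, map_mul]
        ring
      | smul a x _ hx =>
        obtain ⟨m, q, hq, hqx⟩ := hx
        obtain ⟨a0, m', ha⟩ := exists_qMap_eq M (Localization.AtPrime p) g sB sP hs0 a
        refine ⟨m' * m, a0 * q, Ideal.mul_mem_left _ _ hq, ?_⟩
        rw [map_mul, hqx, ha, Submonoid.coe_mul, map_mul, smul_eq_mul]
        ring
    obtain ⟨m, q, hq, hq1⟩ := key 1 (by rw [hf]; trivial)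
    have h0 : (1 : Localization.AtPrime p) ⊗ₜ[B] (q - algebraMap B (Qs sB) m) = 0 := by
      rw [← qBC_qMap _ g sB sP hs0 hN, map_sub, hq1, AlgHom.commutes, _root_.mul_one, sub_self, map_zero]
    obtain ⟨m', hm'⟩ := exists_smul_eq_zero_of_tmul M _ h0
    refine ⟨m' * m, ?_⟩
    replace hm' : algebraMap B (Qs sB) m' * (q - algebraMap B (Qs sB) m) = 0 := by
      rw [← hm']
      obtain ⟨y, hy⟩ := Ideal.Quotient.mk_surjective (q - algebraMap B (Qs sB) m)
      rw [← hy]
      exact congrArg (Ideal.Quotient.mk _) (Algebra.smul_def (R := B) _ y).symm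
    rw [mul_sub, sub_eq_zero, ← map_mul] at hm'
    rw [Submonoid.coe_mul, ← hm']
    exact Ideal.mul_mem_left _ _ hq
  have hspread : ∀ i, ∃ (m m' : M) (v0 w0 : Matrix (Fin n) (Fin n) (Localization.Away (f0 i) ⊗[B] A)),
      v0 * w0 = (m' : B) • 1 ∧ Congr (lam : A →ₐ[B] A) (Localization.Away (f0 i)) v0 h h' ((m : B) ^ 2) := fun i => by
    letI : Algebra (Qs sP) (Localization.AtPrime p ⊗[B] Localization.Away (f0 i)) :=
      (qAway _ g sB sP hs0 hN (f0 i)).toRingHom.toAlgebra
    haveI : IsScalarTower B (Qs sP) (Localization.AtPrime p ⊗[B] Localization.Away (f0 i)) :=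
      IsScalarTower.of_algebraMap_eq fun b => ((qAway _ g sB sP hs0 hN (f0 i)).commutes b).symm
    haveI := isLocalization_qAway M (Localization.AtPrime p) g sB sP hs0 hN (f0 i)
    haveI : IsLocalization.Away (f i) (Localization.AtPrime p ⊗[B] Localization.Away (f0 i)) :=
      IsLocalization.Away.of_associated (hassoc i)
    obtain ⟨v, hv1, hv2⟩ := hv i (Localization.AtPrime p ⊗[B] Localization.Away (f0 i))
    refine spread_mat M _ _ _ h h' v hv1 ?_
    rw [Congr, one_smul, ← hv2]
    congr 3
  choose m m' v0 w0 hvw hcg using hspread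
  let b : B := b0 * mu * ∏ i, ((m i : B) * m' i)
  have hb : b ∈ M := mul_mem (mul_mem hb0 mu.2) (prod_mem fun i _ => mul_mem (m i).2 (m' i).2)
  have hbu := IsLocalization.Away.algebraMap_isUnit (S := Localization.Away b) b
  simp only [b, map_mul, map_prod, IsUnit.mul_iff, IsUnit.prod_univ_iff] at hbu
  let gb : Localization.Away b0 →ₐ[B] Localization.Away b := awayHom b0 _ hbu.1.1
  let sb : Fin l → (Localization.Away b)ˣ := fun k =>
    Units.map (gb : Localization.Away b0 →* Localization.Away b) (s0 k)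
  let sb' : Fin l → Localization.Away b := fun k => (sb k : Localization.Away b)
  let qb : Qs sB →ₐ[B] Qs sb' := qMap gb sB sb' fun k => rfl
  refine ⟨b, hb, l, sb, r, fun i => qb (f0 i), ?_, fun i C _ _ _ _ _ => ?_⟩
  · have h1 : qb (algebraMap B _ mu) ∈ Ideal.span (Set.range fun i => qb (f0 i)) := by
      have := Ideal.mem_map_of_mem (qb : Qs sB →+* Qs sb') hmu
      rw [Ideal.map_span, ← Set.range_comp] at this
      exact this
    refine Ideal.eq_top_of_isUnit_mem _ h1 ?_
    rw [AlgHom.commutes, IsScalarTower.algebraMap_apply B (Localization.Away b) (Qs sb')]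
    exact hbu.1.2.map _
  · let F : Qs sB →ₐ[B] C := (IsScalarTower.toAlgHom B (Qs sb') C).comp qb
    let fC : Localization.Away (f0 i) →ₐ[B] C :=
      { IsLocalization.Away.lift (f0 i) (g := (F : Qs sB →+* C))
          (IsLocalization.Away.algebraMap_isUnit (qb (f0 i))) with
        commutes' := fun c => by
          show IsLocalization.Away.lift (f0 i) _ (algebraMap B (Localization.Away (f0 i)) c) = _
          rw [IsScalarTower.algebraMap_apply B (Qs sB) (Localization.Away (f0 i))]
          exact (IsLocalization.Away.lift_eq _ _ _).trans (F.commutes c)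
      }
    have huC : ∀ c : B, IsUnit (algebraMap B (Localization.Away b) c) → IsUnit (algebraMap B C c) := fun c hc => by
      rw [IsScalarTower.algebraMap_apply B (Qs sb') C,
        IsScalarTower.algebraMap_apply B (Localization.Away b) (Qs sb')]
      exact (hc.map _).map _
    obtain ⟨v, hv1, hv2⟩ := congr_of_data (lam : A →ₐ[B] A) fC h h' (m i) (m' i) (huC _ (hbu.2 i).1)
      (huC _ (hbu.2 i).2) (v0 i) (w0 i) (hvw i) (hcg i)
    refine ⟨v, hv1, ?_⟩
    rw [Congr, one_smul] at hv2
    rw [← hv2]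
    congr 3

end Groth.Agent.S17364
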