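import Groth.Statements.S1737
import Groth.Agent.LC17.Transfer

set_option autoImplicit false
universe u
open LocCoh

namespace Groth.Agent.S1737

/-- Let A be a Noetherian ring, T ⊆ Spec A stable under specialization and M a finite A-module. There
are a finite A-module M' and a surjection M → M' which is bijective after localizing at every prime
outside T and such that M'_p has depth ≥ 1 over A_p for every p in T. (The source states this for
coherent modules on a Noetherian scheme, with uniqueness.) -/
theorem result (A : Type u) [CommRing A] [IsNoetherianRing A] (T : Set (PrimeSpectrum A)) (hT : StableUnderSpecialization T) (M : Type u) [AddCommGroup M] [Module A M] [Module.Finite A M] : ∃ (M' : Type u) (_ : AddCommGroup M') (_ : Module A M') (_ : Module.Finite A M') (f : M →ₗ[A] M'), Function.Surjective f ∧ (∀ p : PrimeSpectrum A, p ∉ T → Function.Bijective (LocalizedModule.map p.asIdeal.primeCompl f)) ∧ ∀ p : PrimeSpectrum A, p ∈ T → 1 ≤ LocCoh.depth (Localization.AtPrime p.asIdeal) (LocalizedModule p.asIdeal.primeCompl M') := by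
  classical
  let N : Submodule A M :=
    { carrier := {m | ∀ p : PrimeSpectrum A, p ∉ T → ∃ u ∈ p.asIdeal.primeCompl, u • m = 0}
      zero_mem' := fun p _ => ⟨1, p.asIdeal.primeCompl.one_mem, smul_zero _⟩
      add_mem' := fun {a b} ha hb p hp => by
        obtain ⟨u, hu, hua⟩ := ha p hp
        obtain ⟨v, hv, hvb⟩ := hb p hp
        exact ⟨v * u, mul_mem hv hu, by rw [smul_add, mul_smul, hua, smul_zero, mul_comm, mul_smul, hvb, smul_zero, add_zero]⟩
      smul_mem' := fun c m hm p hp => by
        obtain ⟨u, hu, hum⟩ := hm p hp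
        exact ⟨u, hu, by rw [smul_comm, hum, smul_zero]⟩ }
  refine ⟨M ⧸ N, inferInstance, inferInstance, inferInstance, N.mkQ, N.mkQ_surjective, ?_, ?_⟩
  · intro p hp
    refine ⟨?_, LocalizedModule.map_surjective _ _ N.mkQ_surjective⟩
    rw [injective_iff_map_eq_zero]
    intro x hx
    induction x using LocalizedModule.induction_on with
    | h m s =>
      rw [LocalizedModule.map_mk, ← LocalizedModule.zero_mk (1 : p.asIdeal.primeCompl),
        LocalizedModule.mk_eq] at hx
      obtain ⟨v, hv⟩ := hx
      simp only [Submonoid.smul_def, OneMemClass.coe_one, one_smul, smul_zero,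
        Submodule.mkQ_apply, ← Submodule.Quotient.mk_smul, Submodule.Quotient.mk_eq_zero] at hv
      obtain ⟨u, hu, hum⟩ := hv p hp
      rw [smul_smul] at hum
      rw [← LocalizedModule.zero_mk (1 : p.asIdeal.primeCompl), LocalizedModule.mk_eq]
      refine ⟨⟨u * v, mul_mem hu v.2⟩, ?_⟩
      simp only [Submonoid.smul_def, OneMemClass.coe_one, one_smul, smul_zero]
      exact hum
  · intro p hp
    have h := (Groth.Agent.LC17.natCast_succ_le_depth_loc_iff (p := p.asIdeal) (M := M ⧸ N) 0).2
      fun i hi => by
        obtain rfl := Nat.le_zero.mp hi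
        refine (Groth.Agent.LC17.nul_H0_iff p.asIdeal).2 fun y hy => ?_
        refine ⟨1, p.asIdeal.primeCompl.one_mem, ?_⟩
        obtain ⟨k, hk⟩ := hy
        obtain ⟨m, rfl⟩ := Submodule.Quotient.mk_surjective N y
        rw [one_smul, Submodule.Quotient.mk_eq_zero]
        intro q hq
        have hpq : ¬ p.asIdeal ≤ q.asIdeal := fun hle =>
          hq (hT ((PrimeSpectrum.le_iff_specializes p q).1 hle) hp)
        obtain ⟨a, hap, haq⟩ := SetLike.not_le_iff_exists.1 hpq
        have hmem : a ^ k • m ∈ N := by
          rw [← Submodule.Quotient.mk_eq_zero, Submodule.Quotient.mk_smul]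
          exact hk _ (Ideal.pow_mem_pow hap k)
        obtain ⟨v, hv, hvm⟩ := hmem q hq
        exact ⟨v * a ^ k, mul_mem hv (pow_mem (show a ∈ q.asIdeal.primeCompl from haq) k),
          by rw [mul_smul, hvm]⟩
    exact_mod_cast h

end Groth.Agent.S1737
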