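import Groth.Statements.S17375
import Groth.Agent.Var76.GenericCompare
import Groth.Agent.Var76.PushDegree
import Groth.Agent.Var76.BigBirational

set_option autoImplicit false
universe u
open CategoryTheory CategoryTheory.Limits AlgebraicGeometry Asymptotics
open Variety

namespace Groth.Agent.S17375

open CategoryTheory
open Groth.Agent.Var76.Growth in
theorem close_pullback {X Y : Scheme.{u}} (f : Y ⟶ X) (k : Type u) [Field k]
    [X.Over (Spec (CommRingCat.of k))] [Y.Over (Spec (CommRingCat.of k))]
    [IsProper (X ↘ Spec (CommRingCat.of k))] [IsProper (Y ↘ Spec (CommRingCat.of k))] [IsIntegral X] [IsIntegral Y]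
    (hf : f ≫ (X ↘ Spec (CommRingCat.of k)) = Y ↘ Spec (CommRingCat.of k))
    (hdom : f (genericPoint Y) = genericPoint X) {n : ℕ} (hn : f.residueDegree (genericPoint Y) = n) (hn0 : 0 < n)
    {L : X.Modules} (hL : PicF.IsInvertible L) {d : ℕ} (hd : topologicalKrullDim X ≤ (d : WithBot ℕ∞)) :
    CloseH (fun m => Module.finrank k (Coh.HH Y (CohB1.tensorPow ((Scheme.Modules.pullback f).obj L) m) 0))
      (fun m => n * Module.finrank k (Coh.HH X (CohB1.tensorPow L m) 0)) d := by
  have := Groth.Agent.Crv77.isNoetherian_of_proper k X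
  have := Groth.Agent.Crv77.isNoetherian_of_proper k Y
  have : IsProper (f ≫ (X ↘ (Spec (CommRingCat.of k)))) := hf.symm ▸ inferInstance
  have : IsProper f := IsProper.of_comp f (X ↘ (Spec (CommRingCat.of k)))
  have hP : Coh.IsCoh ((Coh.push f).obj (Coh.structureModule Y)) :=
    Groth.Agent.QC70.isCoh_of_iso ((Scheme.Modules.pushforward f).rightDerivedZeroIsoSelf.app _)
      (Groth.Agent.RB70.isCoh_rpush f _
        (Groth.Agent.Amp73.isCoh_of_isInvertible Groth.Agent.EGA73.isInvertible_structureModule) 0)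
  have h := close_rank k hL hP hd (Groth.Agent.Var76.PushDeg.finrank_stalk_push f hdom hn hn0 _ hdom.symm) 0
  have key : ∀ m, hi k 0 L ((Coh.push f).obj (Coh.structureModule Y)) m =
      Module.finrank k (Coh.HH Y (CohB1.tensorPow ((Scheme.Modules.pullback f).obj L) m) 0) := fun m => by
    have hLm := Groth.Agent.EGA73.isInvertible_tensorPow hL m
    haveI := Groth.Agent.ValVan29.isIso_projHom f (Coh.structureModule Y) (CohB1.tensorPow L m) hLm
    let e : CohB1.tensorMod ((Coh.push f).obj (Coh.structureModule Y)) (CohB1.tensorPow L m) ≅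
        (Coh.push f).obj (CohB1.tensorPow ((Scheme.Modules.pullback f).obj L) m) :=
      asIso (Groth.Agent.ValVan29.projHom f (Coh.structureModule Y) (CohB1.tensorPow L m)) ≪≫
        (Coh.push f).mapIso (Groth.Agent.EGA73.tensUnitLeft _ ≪≫ Groth.Agent.Amp73.pullPowIso f hL m)
    exact ((Groth.Agent.Crv77.hEquiv k e 0).finrank_eq).trans (secPushEquiv f k hf _).finrank_eq
  exact ((CloseH.of_eq d key).symm.trans h).trans (CloseH.of_eq d fun m => congrArg (n * ·)
    (Groth.Agent.Crv77.hEquiv k (Groth.Agent.EGA73.tensUnitLeft (CohB1.tensorPow L m)) 0).finrank_eq)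

open Groth.Agent.Var76.Growth in
theorem isBigO_of_close {a b : ℕ → ℕ} {n d : ℕ} (h : CloseH a (fun m => n * b m) d) :
    (fun m : ℕ => (a m : ℝ) - n * (b m : ℝ)) =O[Filter.atTop] (fun m : ℕ => (m : ℝ) ^ (d - 1)) := by
  obtain ⟨C, hC⟩ := h
  refine Asymptotics.IsBigO.of_bound ((C : ℝ) * 2 ^ (d - 1)) ?_
  filter_upwards [Filter.eventually_ge_atTop 1] with m hm
  have h1 : (a m : ℝ) ≤ n * b m + C * w d m := by exact_mod_cast (hC m).1
  have h2 : (n : ℝ) * b m ≤ a m + C * w d m := by exact_mod_cast (hC m).2
  have h3 : (w d m : ℝ) ≤ 2 ^ (d - 1) * (m : ℝ) ^ (d - 1) := by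
    rcases d with _ | e
    · simp [w]
    · simp only [w, Nat.cast_pow, Nat.cast_add, Nat.cast_one, Nat.add_sub_cancel, ← mul_pow]
      exact pow_le_pow_left₀ (by positivity) (by
        have : (1 : ℝ) ≤ m := by exact_mod_cast hm
        linarith) e
  rw [Real.norm_eq_abs, Real.norm_eq_abs, abs_pow, Nat.abs_cast, mul_assoc]
  exact (abs_sub_le_iff.2 ⟨by linarith, by linarith⟩).trans (mul_le_mul_of_nonneg_left h3 (Nat.cast_nonneg C))

/-- Let X and Y be geometrically integral schemes proper over a field k, each admitting an ample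
invertible module, with X of dimension d, and let f : Y → X be a k-morphism which is dominant and
generically finite of degree n ≥ 1: f maps the generic point of Y to the generic point of X and the
induced extension of function fields has finite degree n. Then for every invertible module L on X
the difference dim_k H^0(Y, (f^*L)^m) − n · dim_k H^0(X, L^m) is O(m^(d−1)) as m → ∞ (so the volume
of f^*L is n times that of L). -/
theorem result (k : Type u) [Field k] (X Y : Scheme.{u})
    [X.Over (Spec (CommRingCat.of k))] [Y.Over (Spec (CommRingCat.of k))] [IsIntegral X] [IsIntegral Y]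
    [GeometricallyIntegral (X ↘ Spec (CommRingCat.of k))] [GeometricallyIntegral (Y ↘ Spec (CommRingCat.of k))]
    [IsProper (X ↘ Spec (CommRingCat.of k))] [IsProper (Y ↘ Spec (CommRingCat.of k))]
    (hXproj : ∃ A : X.Modules, CohB1.IsAmple A) (hYproj : ∃ B : Y.Modules, CohB1.IsAmple B)
    (d : ℕ) (hd : topologicalKrullDim X = d)
    (f : Y ⟶ X) (hf : f ≫ (X ↘ Spec (CommRingCat.of k)) = Y ↘ Spec (CommRingCat.of k))
    (hdom : f.base (genericPoint Y) = genericPoint X) (n : ℕ) (hn : f.residueDegree (genericPoint Y) = n) (hn0 : 0 < n)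
    (L : X.Modules) (hL : PicF.IsInvertible L) :
    (fun m : ℕ => (Module.finrank k (Coh.HH Y (CohB1.tensorPow ((Scheme.Modules.pullback f).obj L) m) 0) : ℝ) -
        n * Module.finrank k (Coh.HH X (CohB1.tensorPow L m) 0)) =O[Filter.atTop]
      (fun m : ℕ => (m : ℝ) ^ (d - 1)) := by
  exact isBigO_of_close (close_pullback f k hf hdom hn hn0 hL hd.le)

end Groth.Agent.S17375
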