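import Groth.Statements.S17376
import Mathlib
import Groth.Agent.Minor14.McCoy

set_option autoImplicit false
universe u
open scoped TensorProduct
open CAlg

namespace Groth.Agent.S17376


open Module

/-- A square matrix acts injectively iff its determinant is a nonzerodivisor. -/
theorem mulVec_injective_iff {S : Type u} [CommRing S] {n : ℕ} (M : Matrix (Fin n) (Fin n) S) :
    Function.Injective M.mulVec ↔ M.det ∈ nonZeroDivisors S := by
  refine ⟨fun h => mem_nonZeroDivisors_iff_right.mpr fun c hc => ?_,
    Matrix.mulVec_injective_of_det_mem_nonZeroDivisors⟩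
  have h0 := (Minor14.injective_iff_annihilator M).mp h
  have : c ∈ (CAlgX.minorIdeal M n).annihilator := by
    rw [CAlgX.minorIdeal, Submodule.mem_annihilator_span]
    rintro ⟨_, ⟨f, g⟩, rfl⟩
    have e : M.submatrix f g =
        (1 : Matrix (Fin n) (Fin n) S).submatrix f id * M * (1 : Matrix (Fin n) (Fin n) S).submatrix id g := by
      ext i j
      simp [Matrix.mul_apply, Matrix.submatrix_apply, Matrix.one_apply]
    show c * (M.submatrix f g).det = 0
    rw [e, Matrix.det_mul, Matrix.det_mul, mul_left_comm c, ← mul_assoc _ c, mul_comm _ c, ← mul_assoc,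
      mul_right_comm c, hc, zero_mul, zero_mul]
  rw [h0] at this
  exact this

section base

variable (k K L R : Type u) [Field k] [Field K] [Algebra k K] [Field L] [Algebra K L] [Algebra k L]
  [IsScalarTower k K L] [CommRing R] [Algebra k R]

/-- `L ⊗ R` as an algebra over `K ⊗ R`. -/
noncomputable abbrev alg : Algebra (K ⊗[k] R) (L ⊗[k] R) :=
  (Algebra.TensorProduct.map (IsScalarTower.toAlgHom k K L) (AlgHom.id k R)).toRingHom.toAlgebra

theorem exists_basis {ι : Type u} (b : Basis ι K L) :
    letI := alg k K L R
    ∃ c : Basis ι (K ⊗[k] R) (L ⊗[k] R), ∀ i, c i = b i ⊗ₜ[k] (1 : R) := by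
  letI := alg k K L R
  have hK : ∀ x : K, algebraMap (K ⊗[k] R) (L ⊗[k] R) (algebraMap K (K ⊗[k] R) x) =
      algebraMap K (L ⊗[k] R) x := fun x => by
    show Algebra.TensorProduct.map (IsScalarTower.toAlgHom k K L) (AlgHom.id k R) (x ⊗ₜ[k] 1) = _
    simp [IsScalarTower.algebraMap_apply K L (L ⊗[k] R)]
  haveI : IsScalarTower K (K ⊗[k] R) (L ⊗[k] R) := IsScalarTower.of_algebraMap_eq fun x => (hK x).symm
  haveI : IsScalarTower k (K ⊗[k] R) (L ⊗[k] R) := IsScalarTower.of_algebraMap_eq fun x => by
    show _ = Algebra.TensorProduct.map (IsScalarTower.toAlgHom k K L) (AlgHom.id k R) (algebraMap k (K ⊗[k] R) x)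
    rw [AlgHom.commutes]
  let inL : L →ₐ[K] (L ⊗[k] R) := Algebra.TensorProduct.includeLeft
  let F : (K ⊗[k] R) ⊗[K] L →ₐ[K ⊗[k] R] L ⊗[k] R :=
    Algebra.TensorProduct.lift (Algebra.ofId _ _) inL fun _ _ => Commute.all _ _
  let G : L ⊗[k] R →ₐ[k] (K ⊗[k] R) ⊗[K] L :=
    Algebra.TensorProduct.lift
      ((Algebra.TensorProduct.includeRight : L →ₐ[K] (K ⊗[k] R) ⊗[K] L).restrictScalars k)
      (((Algebra.TensorProduct.includeLeft : (K ⊗[k] R) →ₐ[K] (K ⊗[k] R) ⊗[K] L).restrictScalars k).comp
        Algebra.TensorProduct.includeRight) fun _ _ => Commute.all _ _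
  have hF : ∀ (x : K) (r : R) (l : L), F ((x ⊗ₜ[k] r) ⊗ₜ[K] l) = (algebraMap K L x * l) ⊗ₜ[k] r := fun x r l => by
    show algebraMap (K ⊗[k] R) (L ⊗[k] R) (x ⊗ₜ[k] r) * (l ⊗ₜ[k] (1 : R)) = _
    rw [show algebraMap (K ⊗[k] R) (L ⊗[k] R) (x ⊗ₜ[k] r) = algebraMap K L x ⊗ₜ[k] r from rfl,
      Algebra.TensorProduct.tmul_mul_tmul, mul_one]
  have hG : ∀ (l : L) (r : R), G (l ⊗ₜ[k] r) = ((1 : K) ⊗ₜ[k] r) ⊗ₜ[K] l := fun l r => by
    show (1 ⊗ₜ[K] l) * (((1 : K) ⊗ₜ[k] r) ⊗ₜ[K] (1 : L)) = _
    rw [Algebra.TensorProduct.tmul_mul_tmul, one_mul, mul_one]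
  have hFG : ∀ z, F (G z) = z := fun z => by
    induction z with
    | zero => simp
    | tmul l r => rw [hG, hF, map_one, one_mul]
    | add x y hx hy => simp [map_add, hx, hy]
  have hGF : ∀ z, G (F z) = z := fun z => by
    induction z with
    | zero => simp
    | tmul s l =>
      induction s with
      | zero => simp
      | tmul x r =>
        rw [hF, hG, ← Algebra.smul_def, TensorProduct.tmul_smul, TensorProduct.smul_tmul', TensorProduct.smul_tmul',
          smul_eq_mul, mul_one]
      | add x y hx hy => simp [TensorProduct.add_tmul, map_add, hx, hy]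
    | add x y hx hy => simp [map_add, hx, hy]
  let e : (K ⊗[k] R) ⊗[K] L ≃ₗ[K ⊗[k] R] L ⊗[k] R :=
    LinearEquiv.ofBijective F.toLinearMap ⟨Function.LeftInverse.injective hGF, Function.RightInverse.surjective hFG⟩
  refine ⟨(Algebra.TensorProduct.basis (K ⊗[k] R) b).map e, fun i => ?_⟩
  rw [Basis.map_apply, Algebra.TensorProduct.basis_apply]
  show F (((1 : K) ⊗ₜ[k] (1 : R)) ⊗ₜ[K] b i) = _
  rw [hF, map_one, one_mul]

/-- Matrix entries of multiplication lie in `V ⊗ R` when the basis spans a `V`-order containing the element. -/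
theorem leftMulMatrix_mem {ι : Type u} [Fintype ι] [DecidableEq ι] (b : Basis ι K L) (V : Subalgebra k K)
    (x : L) (hx : ∀ i j, b.repr (x * b j) i ∈ V) (r : R) :
    letI := alg k K L R
    ∀ (c : Basis ι (K ⊗[k] R) (L ⊗[k] R)), (∀ i, c i = b i ⊗ₜ[k] (1 : R)) → ∀ i j,
      Algebra.leftMulMatrix c (x ⊗ₜ[k] r) i j ∈
        (Algebra.TensorProduct.map V.val (AlgHom.id k R)).range := by
  letI := alg k K L R
  intro c hc i j
  rw [Algebra.leftMulMatrix_eq_repr_mul, hc, Algebra.TensorProduct.tmul_mul_tmul, mul_one]
  have h : (x * b j) ⊗ₜ[k] r = ∑ l, ((b.repr (x * b j) l) ⊗ₜ[k] r : K ⊗[k] R) • c l := by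
    conv_lhs => rw [← b.sum_repr (x * b j), TensorProduct.sum_tmul]
    refine Finset.sum_congr rfl fun l _ => ?_
    rw [hc, Algebra.smul_def (R := K ⊗[k] R),
      show algebraMap (K ⊗[k] R) (L ⊗[k] R) ((b.repr (x * b j) l) ⊗ₜ[k] r) =
        algebraMap K L (b.repr (x * b j) l) ⊗ₜ[k] r from rfl,
      Algebra.TensorProduct.tmul_mul_tmul, mul_one, ← Algebra.smul_def]
  rw [h, c.repr_sum_self]
  exact ⟨(⟨_, hx i j⟩ : V) ⊗ₜ[k] r, rfl⟩

end base

theorem coord_mem {k K R : Type u} [Field k] [Field K] [Algebra k K] [CommRing R] [Algebra k R]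
    {κ : Type u} (e : Basis κ k R) (V : Subalgebra k K) {z : K ⊗[k] R}
    (hz : z ∈ (Algebra.TensorProduct.map V.val (AlgHom.id k R)).range) (a : κ) :
    (Algebra.TensorProduct.basis K e).repr z a ∈ V := by
  obtain ⟨w, rfl⟩ := hz
  induction w with
  | zero => simp
  | tmul v r =>
    show (Algebra.TensorProduct.basis K e).repr ((v : K) ⊗ₜ[k] r) a ∈ V
    rw [Algebra.TensorProduct.basis_repr_tmul, Finsupp.smul_apply, Finsupp.mapRange_apply, smul_eq_mul,
      mul_comm, ← Algebra.smul_def]
    exact V.smul_mem v.2 _
  | add x y hx hy =>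
    rw [map_add, map_add, Finsupp.add_apply]
    exact add_mem hx hy


/-- Let k be a field, A an integrally closed domain over k with fraction field K, L a finite extension
of K, B the integral closure of A in L, and R an arbitrary commutative k-algebra; view L ⊗_k R as an
algebra over K ⊗_k R through K → L. Then L ⊗_k R is finite free over K ⊗_k R, so the norm
(determinant of multiplication) L ⊗_k R → K ⊗_k R is defined; the norm of any element β of B ⊗_k R
(mapped into L ⊗_k R) lies in the image of A ⊗_k R; and β is a nonzerodivisor in B ⊗_k R if and only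
if its norm is a nonzerodivisor in K ⊗_k R. (Nonzerodivisors of A ⊗_k R are exactly its elements
that are nonzerodivisors in K ⊗_k R, the latter being a localisation of the former at
nonzerodivisors, so this is the source's formulation with the norm regarded in A ⊗_k R.) -/
theorem result (k A K L R : Type u) [Field k]
    [CommRing A] [IsDomain A] [IsIntegrallyClosed A] [Algebra k A]
    [Field K] [Algebra A K] [IsFractionRing A K] [Algebra k K] [IsScalarTower k A K]
    [Field L] [Algebra K L] [FiniteDimensional K L] [Algebra A L] [IsScalarTower A K L]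
    [Algebra k L] [IsScalarTower k K L] [IsScalarTower k A L]
    [CommRing R] [Algebra k R] :
    letI : Algebra (K ⊗[k] R) (L ⊗[k] R) :=
      (Algebra.TensorProduct.map (IsScalarTower.toAlgHom k K L) (AlgHom.id k R)).toRingHom.toAlgebra
    Module.Free (K ⊗[k] R) (L ⊗[k] R) ∧ Module.Finite (K ⊗[k] R) (L ⊗[k] R) ∧
      ∀ b : (integralClosure A L) ⊗[k] R,
        Algebra.norm (K ⊗[k] R)
            (Algebra.TensorProduct.map ((integralClosure A L).val.restrictScalars k) (AlgHom.id k R) b) ∈
          Set.range (Algebra.TensorProduct.map (IsScalarTower.toAlgHom k A K) (AlgHom.id k R)) ∧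
        (IsRegular b ↔ IsRegular (Algebra.norm (K ⊗[k] R)
            (Algebra.TensorProduct.map ((integralClosure A L).val.restrictScalars k) (AlgHom.id k R) b))) := by
  classical
  letI : Algebra (K ⊗[k] R) (L ⊗[k] R) := alg k K L R
  let bK := Module.finBasis K L
  obtain ⟨bS, hbS⟩ := exists_basis k K L R (bK.reindex Equiv.ulift.{u}.symm)
  refine ⟨Module.Free.of_basis bS, Module.Finite.of_basis bS, fun b => ⟨?_, ?_⟩⟩
  · let ι := Algebra.TensorProduct.map ((integralClosure A L).val.restrictScalars k) (AlgHom.id k R)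
    obtain ⟨T, hT⟩ := TensorProduct.exists_finset b
    let e := Module.Free.chooseBasis k R
    let N := Algebra.norm (K ⊗[k] R) (ι b)
    have key : ∀ V : ValuationSubring K, Set.range (algebraMap A K) ⊆ V →
        ∀ a, (Algebra.TensorProduct.basis K e).repr N a ∈ V := by
      intro V hV a
      let V' : Subalgebra k K :=
        { V.toSubring with
          algebraMap_mem' := fun x => hV ⟨algebraMap k A x, (IsScalarTower.algebraMap_apply k A K x).symm⟩ }
      letI : Algebra A V := ((algebraMap A K).codRestrict V.toSubring fun x => hV ⟨x, rfl⟩).toAlgebra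
      letI : Algebra V L := ((algebraMap K L).comp (algebraMap V K)).toAlgebra
      haveI : IsScalarTower V K L := IsScalarTower.of_algebraMap_eq fun _ => rfl
      haveI : IsScalarTower A V L := IsScalarTower.of_algebraMap_eq fun x => IsScalarTower.algebraMap_apply A K L x
      -- scaled basis
      choose y hy0 hy using fun i => (IsAlgebraic.exists_integral_multiple (R := A)
        ((IsFractionRing.isAlgebraic_iff A K L).mpr (Algebra.IsAlgebraic.isAlgebraic (R := K) (bK i))))
      let s : Finset L := T.image (fun p => (p.1 : L)) ∪ Finset.univ.image fun i => y i • bK i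
      let C := Algebra.adjoin V (s : Set L)
      haveI : Module.Finite V C := by
        refine Module.Finite.iff_fg.mpr (fg_adjoin_of_finite s.finite_toSet fun x hx => ?_)
        rcases Finset.mem_union.mp (Finset.mem_coe.mp hx) with h | h
        · obtain ⟨p, -, rfl⟩ := Finset.mem_image.mp h
          exact IsIntegral.tower_top (A := V) p.1.2
        · obtain ⟨i, -, rfl⟩ := Finset.mem_image.mp h
          exact IsIntegral.tower_top (A := V) (hy i)
      haveI : Module.Flat V C := Module.Flat.flat_iff_torsion_eq_bot_of_isBezout.mpr (by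
        rw [eq_bot_iff]
        rintro x ⟨⟨v, hv⟩, hvx⟩
        have h1 : algebraMap V L v * (x : L) = 0 := by
          rw [← Algebra.smul_def]; exact congrArg Subtype.val hvx
        refine Subtype.ext ((mul_eq_zero.mp h1).resolve_left fun h0 => nonZeroDivisors.ne_zero hv ?_)
        exact Subtype.ext ((algebraMap K L).injective (h0.trans (map_zero _).symm)))
      haveI : Module.Free V C := Module.free_of_flat_of_isLocalRing
      let c := Module.Free.chooseBasis V C
      have hli : LinearIndependent K fun i => ((c i : C) : L) := by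
        refine (LinearIndependent.iff_fractionRing V K).mp ?_
        exact c.linearIndependent.map' C.val.toLinearMap (LinearMap.ker_eq_bot.mpr Subtype.val_injective)
      have hC : ∀ x ∈ C, x ∈ Submodule.span K (Set.range fun i => ((c i : C) : L)) := fun x hx => by
        have h1 := congrArg (C.val.toLinearMap) (c.sum_repr ⟨x, hx⟩)
        rw [map_sum] at h1
        rw [show x = _ from h1.symm]
        refine Submodule.sum_mem _ fun i _ => ?_
        rw [map_smul, algebra_compatible_smul K]
        exact Submodule.smul_mem _ _ (Submodule.subset_span ⟨i, rfl⟩)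
      have hsp : ⊤ ≤ Submodule.span K (Set.range fun i => ((c i : C) : L)) := by
        rw [← bK.span_eq, Submodule.span_le]
        rintro _ ⟨i, rfl⟩
        have h1 : y i • bK i ∈ Submodule.span K (Set.range fun i => ((c i : C) : L)) := hC _ (Algebra.subset_adjoin
          (Finset.mem_coe.mpr (Finset.mem_union_right _ (Finset.mem_image_of_mem _ (Finset.mem_univ i)))))
        rw [algebra_compatible_smul K] at h1
        exact (Submodule.smul_mem_iff _ (fun h0 => hy0 i ((map_eq_zero_iff _ (IsFractionRing.injective A K)).mp h0))).mp h1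
      let bL := Module.Basis.mk hli hsp
      obtain ⟨bT, hbT⟩ := exists_basis k K L R bL
      refine coord_mem e V' ?_ a
      show Algebra.norm (K ⊗[k] R) (ι b) ∈ _
      rw [Algebra.norm_eq_matrix_det bT]
      have hent : ∀ i j, Algebra.leftMulMatrix bT (ι b) i j ∈
          (Algebra.TensorProduct.map V'.val (AlgHom.id k R)).range := by
        intro i j
        rw [hT, map_sum, map_sum, Matrix.sum_apply]
        refine sum_mem fun p hp => ?_
        refine leftMulMatrix_mem k K L R bL V' (p.1 : L) (fun i j => ?_) p.2 bT hbT i j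
        have hmem : (p.1 : L) * bL j ∈ C := by
          rw [Module.Basis.mk_apply]
          exact mul_mem (Algebra.subset_adjoin (Finset.mem_coe.mpr (Finset.mem_union_left _
            (Finset.mem_image_of_mem _ hp)))) (c j).2
        have h1 : (p.1 : L) * bL j = ∑ l, algebraMap V K (c.repr ⟨_, hmem⟩ l) • bL l := by
          refine (congrArg C.val.toLinearMap (c.sum_repr ⟨_, hmem⟩)).symm.trans ?_
          rw [map_sum]
          refine Finset.sum_congr rfl fun l _ => ?_
          rw [map_smul, algebra_compatible_smul K]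
          exact congrArg _ (Module.Basis.mk_apply hli hsp l).symm
        rw [h1, bL.repr_sum_self]
        exact (c.repr ⟨_, hmem⟩ i).2
      let Mr : Matrix _ _ (Algebra.TensorProduct.map V'.val (AlgHom.id k R)).range :=
        Matrix.of fun i j => ⟨Algebra.leftMulMatrix bT (ι b) i j, hent i j⟩
      have := (Mr.det).2
      rwa [← Subalgebra.coe_val, AlgHom.map_det] at this
    have hA : ∀ a, ∃ x : A, algebraMap A K x = (Algebra.TensorProduct.basis K e).repr N a := by
      intro a
      have h1 : (Algebra.TensorProduct.basis K e).repr N a ∈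
          (⨅ V : {V : ValuationSubring K // Set.range (algebraMap A K) ⊆ V.toSubring}, V.1.toSubring) :=
        Subring.mem_iInf.mpr fun V => key V.1 V.2 a
      rw [iInf_valuationSubring_superset] at h1
      refine IsIntegrallyClosed.algebraMap_eq_of_integral ?_
      obtain ⟨p, hpm, hp⟩ := (h1 : IsIntegral _ ((Algebra.TensorProduct.basis K e).repr N a))
      have hlift : p.map (Subring.subtype _) ∈ Polynomial.lifts (algebraMap A K) := by
        rw [Polynomial.lifts_iff_coeff_lifts]
        intro m
        rw [Polynomial.coeff_map]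
        exact (Subring.closure_le (t := (algebraMap A K).range)).mpr (fun _ h => h) (p.coeff m).2
      obtain ⟨q, hq, -, hqm⟩ := Polynomial.lifts_and_degree_eq_and_monic hlift (hpm.map _)
      refine ⟨q, hqm, ?_⟩
      rw [← Polynomial.eval_map, hq, Polynomial.eval_map]
      exact hp
    choose x hx using hA
    refine ⟨∑ a ∈ ((Algebra.TensorProduct.basis K e).repr N).support, x a ⊗ₜ[k] e a, ?_⟩
    rw [map_sum]
    conv_rhs => rw [show Algebra.norm (K ⊗[k] R) (ι b) = N from rfl,
      ← (Algebra.TensorProduct.basis K e).linearCombination_repr N, Finsupp.linearCombination_apply, Finsupp.sum]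
    refine Finset.sum_congr rfl fun a _ => ?_
    rw [Algebra.TensorProduct.map_tmul, Algebra.TensorProduct.basis_apply, TensorProduct.smul_tmul', smul_eq_mul,
      mul_one, ← hx a]
    rfl
  · let ι := Algebra.TensorProduct.map ((integralClosure A L).val.restrictScalars k) (AlgHom.id k R)
    let M := Algebra.leftMulMatrix (bS.reindex Equiv.ulift) (ι b)
    have hι : Function.Injective ι :=
      Module.Flat.rTensor_preserves_injective_linearMap
        ((integralClosure A L).val.restrictScalars k).toLinearMap Subtype.val_injective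
    have hmul : Function.Injective M.mulVec ↔ Function.Injective fun z => ι b * z := by
      have h1 : ∀ z, M.mulVec ((bS.reindex Equiv.ulift).equivFun z) = (bS.reindex Equiv.ulift).equivFun (ι b * z) :=
        fun z => by
          simp only [M, Module.Basis.equivFun_apply]
          exact Algebra.leftMulMatrix_mulVec_repr (bS.reindex Equiv.ulift) (ι b) z
      constructor
      · intro h z w hzw
        exact (bS.reindex Equiv.ulift).equivFun.injective (h (by rw [h1, h1]; exact congrArg _ hzw))
      · intro h v w hvw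
        obtain ⟨z, rfl⟩ := (bS.reindex Equiv.ulift).equivFun.surjective v
        obtain ⟨z', rfl⟩ := (bS.reindex Equiv.ulift).equivFun.surjective w
        rw [h1, h1] at hvw
        exact congrArg _ (h ((bS.reindex Equiv.ulift).equivFun.injective hvw))
    rw [Algebra.norm_eq_matrix_det (bS.reindex Equiv.ulift), isRegular_iff_mem_nonZeroDivisors (r := M.det),
      ← mulVec_injective_iff, hmul]
    constructor
    · intro hb
      -- every element of `L ⊗ R` has a multiple from `B ⊗ R`
      have hden : ∀ z : L ⊗[k] R, ∃ a : A, a ≠ 0 ∧ ∃ w, (algebraMap A L a ⊗ₜ[k] (1 : R)) * z = ι w := by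
        intro z
        induction z with
        | zero => exact ⟨1, one_ne_zero, 0, by simp⟩
        | tmul l r =>
          obtain ⟨a, ha, hal⟩ := IsAlgebraic.exists_integral_multiple (R := A)
            ((IsFractionRing.isAlgebraic_iff A K L).mpr (Algebra.IsAlgebraic.isAlgebraic (R := K) l))
          refine ⟨a, ha, (⟨a • l, hal⟩ : integralClosure A L) ⊗ₜ[k] r, ?_⟩
          rw [Algebra.TensorProduct.tmul_mul_tmul, one_mul, ← Algebra.smul_def]
          rfl
        | add z w hz hw =>
          obtain ⟨a, ha, z', hz'⟩ := hz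
          obtain ⟨c, hc, w', hw'⟩ := hw
          refine ⟨a * c, mul_ne_zero ha hc, (algebraMap A (integralClosure A L) c ⊗ₜ[k] 1) * z' +
            (algebraMap A (integralClosure A L) a ⊗ₜ[k] 1) * w', ?_⟩
          rw [map_add, map_mul ι, map_mul ι, ← hz', ← hw', map_mul (algebraMap A L)]
          show _ = (algebraMap A L c ⊗ₜ[k] (1 : R)) * _ + (algebraMap A L a ⊗ₜ[k] (1 : R)) * _
          rw [mul_add, ← mul_assoc, ← mul_assoc, Algebra.TensorProduct.tmul_mul_tmul,
            Algebra.TensorProduct.tmul_mul_tmul, mul_comm (algebraMap A L c), mul_one]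
      refine fun z w hzw => sub_eq_zero.mp ?_
      have h0 : ι b * (z - w) = 0 := by rw [mul_sub, sub_eq_zero]; exact hzw
      obtain ⟨a, ha, u, hu⟩ := hden (z - w)
      have hu0 : u = 0 := by
        refine hb.left (show b * u = b * 0 from hι ?_)
        rw [map_mul, ← hu, mul_left_comm, h0, mul_zero, mul_zero, map_zero]
      rw [hu0, map_zero] at hu
      have hau : IsUnit (algebraMap A L a ⊗ₜ[k] (1 : R)) :=
        (Ne.isUnit (by
          rw [IsScalarTower.algebraMap_apply A K L]
          exact (map_ne_zero _).mpr ((map_ne_zero_iff _ (IsFractionRing.injective A K)).mpr ha))).map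
          (Algebra.TensorProduct.includeLeft : L →ₐ[L] L ⊗[k] R)
      exact hau.mul_right_eq_zero.mp hu
    · intro h
      have h2 : ∀ x y, b * x = b * y → x = y := fun x y hxy => hι (h (show ι b * ι x = ι b * ι y by
        rw [← map_mul, ← map_mul, hxy]))
      exact ⟨fun x y hxy => h2 x y hxy, fun x y hxy => h2 x y (by rw [mul_comm b, mul_comm b]; exact hxy)⟩

end Groth.Agent.S17376
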