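import Groth.Statements.S1738
import Groth.Agent.LC15.DualFaltings
import Groth.Agent.LC17.DepthLoc

set_option autoImplicit false
universe u
open CategoryTheory
attribute [local instance] HasDerivedCategory.standard
open LocCoh
open Groth.Agent Groth.Agent.LC15

namespace Groth.Agent.S1738

/-- Let A be a Noetherian ring with a dualizing complex, T' ⊆ Spec A stable under specialization, and M
a finite A-module such that depth(M_p) ≥ 1 whenever q covers p in Spec A with q in T' and p outside
T'. Then there are a finite A-module M'' and a map M → M'' which is bijective after localizing at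
every prime outside T' and such that M''_p has depth ≥ 2 for every p in T'. (The source: coherent
modules on a Noetherian scheme locally having a dualizing complex, with uniqueness and a pullback
clause.) -/
theorem result (A : Type u) [CommRing A] [IsNoetherianRing A] (hA : ∃ ω : Dual.D A, Dual.IsDualizing A ω) (T' : Set (PrimeSpectrum A)) (hT : StableUnderSpecialization T') (M : Type u) [AddCommGroup M] [Module A M] [Module.Finite A M] (hM : ∀ p q : PrimeSpectrum A, p ⋖ q → q ∈ T' → p ∉ T' → 1 ≤ LocCoh.depth (Localization.AtPrime p.asIdeal) (LocalizedModule p.asIdeal.primeCompl M)) : ∃ (M'' : Type u) (_ : AddCommGroup M'') (_ : Module A M'') (_ : Module.Finite A M'') (f : M →ₗ[A] M''), (∀ p : PrimeSpectrum A, p ∉ T' → Function.Bijective (LocalizedModule.map p.asIdeal.primeCompl f)) ∧ ∀ p : PrimeSpectrum A, p ∈ T' → 2 ≤ LocCoh.depth (Localization.AtPrime p.asIdeal) (LocalizedModule p.asIdeal.primeCompl M'') := by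
  classical
  obtain ⟨ω, hω⟩ := hA
  have hc : DualFaltings.Cond M T' T' 1 := by
    intro p q hp hq hpq
    have hlt : p < q := lt_of_le_of_ne hpq fun e => hp (e ▸ hq)
    obtain ⟨n, hn⟩ := LC17.exists_htq_eq (q := q.asIdeal) (show p.asIdeal ≤ q.asIdeal from hpq)
    have h1 : (1 : ℕ∞) ≤ LC17.htq p.asIdeal q.asIdeal :=
      LC17.one_le_htq (show p.asIdeal < q.asIdeal from hlt)
    rw [hn] at h1 ⊢
    have hn1 : 1 ≤ n := by exact_mod_cast h1
    rcases eq_or_lt_of_le hn1 with rfl | h2
    · have := hM p q (CritDepth.covBy_of_htq hlt (by rw [hn]; simp)) hq hp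
      exact lt_of_lt_of_le (by norm_num) (add_le_add this le_rfl)
    · exact lt_of_lt_of_le (Nat.cast_lt.2 h2) le_add_self
  have hfin : Module.Finite A (Dual2.HT T' 1 M) :=
    ((HT.finite_HT_iff_annihilated M 1).2 ((DualFaltings.annihilator_HT_iff hω hT hT 1).2 hc)) 1 le_rfl
  let Γ := HT.gamT T' M
  have hΓfree : HT.gamT T' (M ⧸ Γ) = ⊥ := HT.gamT_quot M
  have hfin' : Module.Finite A (Dual2.HT T' 1 (M ⧸ Γ)) :=
    Module.Finite.of_surjective (HT.Tmap T' 1 Γ.mkQ) fun y =>
      (HT.T_exact₃ 1 Γ.injective_subtype (LinearMap.exact_subtype_mkQ Γ)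
        (Submodule.mkQ_surjective Γ) y).1
        (haveI := HT.subsingleton_HT_succ_of_torT (T := T') 1 (HT.torT_gamT (M := M))
         Subsingleton.elim _ _)
  obtain ⟨E, _, _, f, hf, _, hE⟩ := HT.exists_free_injective_embedding (M ⧸ Γ) hΓfree
  let R₀ := LinearMap.range f
  let G := HT.gamT T' (E ⧸ R₀)
  have hGfin : Module.Finite A G := by
    haveI := HT.subsingleton_HT_zero (T := T') hE
    have hinj : Function.Injective
        (HT.Tδ T' 0 hf (LinearMap.exact_map_mkQ_range f) (Submodule.mkQ_surjective R₀)) := by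
      refine (injective_iff_map_eq_zero _).2 fun y hy => ?_
      obtain ⟨z, hz⟩ := (HT.T_exact₃ 0 hf (LinearMap.exact_map_mkQ_range f)
        (Submodule.mkQ_surjective R₀) y).1 hy
      rw [← hz, Subsingleton.elim z 0, map_zero]
    haveI : Module.Finite A (Dual2.HT T' 0 (E ⧸ R₀)) := Module.Finite.of_injective _ hinj
    exact Module.Finite.range (HT.t0 T' (E ⧸ R₀))
  let M₂ : Submodule A E := G.comap R₀.mkQ
  let g : M₂ →ₗ[A] G := R₀.mkQ.restrict (fun x hx => hx)
  have hR : ∀ y, f y ∈ M₂ := fun y => by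
    show R₀.mkQ (f y) ∈ G
    rw [Submodule.mkQ_apply, (Submodule.Quotient.mk_eq_zero _).2 (LinearMap.mem_range_self f y)]
    exact zero_mem _
  let φ : M →ₗ[A] M₂ := (f.codRestrict M₂ hR) ∘ₗ Γ.mkQ
  haveI hM₂ : Module.Finite A M₂ := by
    have hker : (LinearMap.ker g).FG := by
      have heq : LinearMap.ker g = LinearMap.range φ := by
        ext x
        constructor
        · intro hx
          obtain ⟨y, hy⟩ := (Submodule.Quotient.mk_eq_zero _).1
            (show R₀.mkQ (x : E) = 0 from congrArg Subtype.val hx)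
          obtain ⟨m, rfl⟩ := Submodule.mkQ_surjective Γ y
          exact ⟨m, Subtype.ext hy⟩
        · rintro ⟨m, rfl⟩
          exact Subtype.ext ((Submodule.Quotient.mk_eq_zero _).2 (LinearMap.mem_range_self f _))
      rw [heq]
      exact Module.Finite.iff_fg.1 (Module.Finite.range φ)
    refine Module.Finite.iff_fg.2 ?_
    have := Submodule.fg_of_fg_map_of_fg_inf_ker g (s := (⊤ : Submodule A M₂))
      ((isNoetherian_def.1 (isNoetherian_of_isNoetherianRing_of_finite A G)) _) (by rw [top_inf_eq]; exact hker)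
    simpa [Submodule.map_top] using this.map M₂.subtype
  refine ⟨M₂, inferInstance, inferInstance, hM₂, φ, fun p hp => ?_, fun p hp => ?_⟩
  · -- bijective outside the subset
    have hu : ∀ (N : Type u) [AddCommGroup N] [Module A N] (P : Submodule A N), P.FG →
        P ≤ HT.gamT T' N → ∃ u : p.asIdeal.primeCompl, ∀ x ∈ P, u • x = 0 := by
      intro N _ _ P hP hle
      obtain ⟨K, hK⟩ := HT.exists_kills_fg hP hle
      obtain ⟨u, hu, hup⟩ := SetLike.not_le_iff_exists.1 (fun h : HT.idl K ≤ p.asIdeal =>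
        hp (HT.zeroLocus_idl K ((PrimeSpectrum.mem_zeroLocus _ _).2 (SetLike.coe_subset_coe.2 h))))
      exact ⟨⟨u, hup⟩, fun x hx => hK u hu x hx⟩
    obtain ⟨u₁, hu₁⟩ := hu M Γ (IsNoetherian.noetherian _) le_rfl
    obtain ⟨u₂, hu₂⟩ := hu (E ⧸ R₀) G (Module.Finite.iff_fg.1 hGfin) le_rfl
    constructor
    · refine (injective_iff_map_eq_zero _).2 fun z hz => ?_
      induction z using LocalizedModule.induction_on with
      | h m s =>
        rw [LocalizedModule.map_mk, ← LocalizedModule.zero_mk 1, LocalizedModule.mk_eq] at hz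
        obtain ⟨w, hw⟩ := hz
        simp only [smul_zero, one_smul] at hw
        have h1 : (w : A) • m ∈ Γ := by
          rw [← Submodule.Quotient.mk_eq_zero]
          exact hf (by
            rw [map_zero]
            exact (congrArg f (map_smul Γ.mkQ (w : A) m)).trans
              ((map_smul f (w : A) _).trans (congrArg Subtype.val hw)))
        rw [← LocalizedModule.zero_mk 1, LocalizedModule.mk_eq]
        refine ⟨u₁ * w, ?_⟩
        simp only [smul_zero, one_smul]
        rw [mul_smul]
        exact hu₁ _ h1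
    · intro z
      induction z using LocalizedModule.induction_on with
      | h x s =>
        have h1 : R₀.mkQ ((u₂ : A) • (x : E)) = 0 := by
          rw [map_smul]; exact hu₂ _ x.2
        obtain ⟨y, hy⟩ := (Submodule.Quotient.mk_eq_zero _).1 h1
        obtain ⟨m, rfl⟩ := Submodule.mkQ_surjective Γ y
        refine ⟨LocalizedModule.mk m (u₂ * s), ?_⟩
        rw [LocalizedModule.map_mk, LocalizedModule.mk_eq]
        refine ⟨1, ?_⟩
        simp only [one_smul]
        refine Subtype.ext ?_
        show ((s : A) • (φ m : E)) = (((u₂ : A) * s) • (x : E))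
        rw [mul_comm, mul_smul, ← hy]
        rfl
  · -- depth at the subset
    have hV : PrimeSpectrum.zeroLocus (p.asIdeal : Set A) ⊆ T' := fun r hr =>
      hT ((PrimeSpectrum.le_iff_specializes p r).1
        (show p.asIdeal ≤ r.asIdeal from SetLike.coe_subset_coe.1 ((PrimeSpectrum.mem_zeroLocus _ _).1 hr))) hp
    let P := HT.mkI p.asIdeal hV
    have hgam : ∀ (N : Type u) [AddCommGroup N] [Module A N], HT.gamT T' N = ⊥ →
        LC15.gamma p.asIdeal N = ⊥ := by
      intro N _ _ hN
      refine (Submodule.eq_bot_iff _).2 fun x hx => ?_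
      obtain ⟨k, hk⟩ := hx
      obtain ⟨L, hL⟩ := HT.exists_powI P k
      exact (Submodule.eq_bot_iff _).1 hN x (HT.mem_gamT.2 ⟨L, fun b hb => hk b (hL ▸ hb)⟩)
    have hM₂0 : HT.gamT T' M₂ = ⊥ := by
      refine (Submodule.eq_bot_iff _).2 fun x hx => Subtype.ext ?_
      obtain ⟨K, hK⟩ := HT.mem_gamT.1 hx
      exact (Submodule.eq_bot_iff _).1 hE (x : E)
        (HT.mem_gamT.2 ⟨K, fun a ha => congrArg Subtype.val (hK a ha)⟩)
    have hEM : HT.gamT T' (E ⧸ M₂) = ⊥ := by
      refine (Submodule.eq_bot_iff _).2 fun x hx => ?_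
      obtain ⟨e, rfl⟩ := Submodule.mkQ_surjective M₂ x
      obtain ⟨K, hK⟩ := HT.mem_gamT.1 hx
      refine (Submodule.Quotient.mk_eq_zero _).2 ?_
      show R₀.mkQ e ∈ G
      have h1 : G.mkQ (R₀.mkQ e) ∈ HT.gamT T' ((E ⧸ R₀) ⧸ G) := by
        refine HT.mem_gamT.2 ⟨K, fun a ha => ?_⟩
        rw [← map_smul, ← map_smul, Submodule.mkQ_apply, Submodule.Quotient.mk_eq_zero]
        exact (Submodule.Quotient.mk_eq_zero M₂).1 (hK a ha)
      exact (Submodule.Quotient.mk_eq_zero G).1
        ((Submodule.eq_bot_iff _).1 (HT.gamT_quot (E ⧸ R₀)) _ h1)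
    have h0 : Subsingleton (LocCoh.H p.asIdeal 0 M₂) :=
      (LC15.subsingleton_H0_iff _ _).2 (hgam M₂ hM₂0)
    have h1 : Subsingleton (LocCoh.H p.asIdeal 1 M₂) :=
      LC15.subsingleton_H_left p.asIdeal 0 M₂.injective_subtype (LinearMap.exact_subtype_mkQ M₂)
        (Submodule.mkQ_surjective M₂) ((LC15.subsingleton_H0_iff _ _).2 (hgam _ hEM))
        (LC15.subsingleton_H_succ_of_injective _ 0)
    have h2 : (2 : ℕ∞) ≤ LocCoh.idealDepth p.asIdeal M₂ := by
      refine (LC17.natCast_le_idealDepth_iff p.asIdeal M₂ 2).2 fun i hi => ?_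
      interval_cases i
      · exact h0
      · exact h1
    exact h2.trans (LC17.idealDepth_le_depth_loc (M := M₂) p.asIdeal le_rfl)


end Groth.Agent.S1738
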