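import Groth.Statements.S17396
import Groth.Agent.CycCov52.Chart
import Mathlib.AlgebraicGeometry.Morphisms.Etale

set_option autoImplicit false
universe u
open CycCov

namespace Groth.Agent.S17396

open CategoryTheory AlgebraicGeometry TopologicalSpace Polynomial in
theorem etale_app {k : Type u} [Field k] {X Y : Scheme.{u}}
    (f : X ⟶ Spec (CommRingCat.of k)) [Smooth f] [IsIntegral X]
    {L : X.Modules} {N : ℕ} (hN : 0 < N) (hNk : (N : k) ≠ 0)
    {r : ℕ} (D : Fin r → X.IdealSheafData) (α : Fin r → ℕ)
    {s : Coh.structureModule X ⟶ CohB1.tensorPow L N} (hs : CycCov.IsZeroDiv (CohB1.tensorPow L N) s (CycCov.divIdeal D α))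
    {π : Y ⟶ X} (R : CycCov.Root L N s π) (hR : CycCov.IsCover R)
    (U : X.affineOpens) [Nonempty U.1] (hW : ∀ j : Fin r, 0 < α j → Disjoint (U.1 : Set X) ((D j).support : Set X))
    (e : Γ(L, U.1)) (he : Var76.LineBundle.IsFrame L U.1 e) : (π.app U.1).hom.Etale := by
  obtain ⟨hfin, hnor, W₀, hW₀, hW₀', hbij⟩ := hR
  have hred : IsReduced Y := by
    have : ∀ y : Y, _root_.IsReduced (Y.presheaf.stalk y) := fun y => have := (hnor y).1; inferInstance
    exact isReduced_of_isReduced_stalk Y
  let φ : k →+* Γ(X, U.1) := (Spec.preimage (U.2.fromSpec ≫ f)).hom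
  have hsm : Smooth (Spec.map (Spec.preimage (U.2.fromSpec ≫ f))) := by rw [Spec.map_preimage]; infer_instance
  have hφ : φ.Smooth := (HasRingHomProperty.Spec_iff (P := @Smooth)).1 hsm
  let : Algebra k Γ(X, U.1) := φ.toAlgebra
  have : Algebra.Smooth k Γ(X, U.1) := hφ
  have : IsDomain Γ(X, U.1) := inferInstance
  have : IsIntegrallyClosed Γ(X, U.1) := IsIntegrallyClosed.of_localization_maximal fun p _ _ =>
    (Curves2.isNormalDomain_localization_of_smooth k Γ(X, U.1) p).2
  have hNu : IsUnit (N : Γ(X, U.1)) := map_natCast φ N ▸ (IsUnit.mk0 _ hNk).map φ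
  obtain ⟨g, hg⟩ := CycCov52.exists_coord s he
  -- the coordinate of `s` is a unit
  have hI : (CycCov.divIdeal D α).ideal U = ⊤ := by
    refine Finset.prod_induction (fun j => D j ^ α j) (fun I => I.ideal U = ⊤) ?_ ?_ ?_
    · intro a b ha hb
      rw [Scheme.IdealSheafData.ideal_mul, Pi.mul_apply, ha, hb, Ideal.top_mul]
    · rfl
    · intro j _
      rw [Scheme.IdealSheafData.ideal_pow, Pi.pow_apply]
      rcases Nat.eq_zero_or_pos (α j) with h0 | h0
      · rw [h0, pow_zero, Ideal.one_eq_top]
      have hD : (D j).ideal U = ⊤ := by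
        rw [← PrimeSpectrum.zeroLocus_empty_iff_eq_top]
        refine (Set.image_eq_empty (f := U.2.fromSpec)).mp ?_
        rw [U.2.fromSpec_image_zeroLocus, ← Scheme.IdealSheafData.coe_support_inter]
        exact Set.disjoint_iff_inter_eq_empty.mp (hW j h0).symm
      rw [hD, Ideal.top_pow]
  have hgu : IsUnit g := by
    have h := hs U
    rw [hI, Submodule.top_smul] at h
    obtain ⟨a, ha⟩ := Submodule.mem_span_singleton.mp (h.ge (Submodule.mem_top (x := CycCov.lpow L U.1 e N)))
    rw [hg, smul_smul] at ha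
    have hb := CycCov52.isGen_of_isFrame (Amp73.isFrame_epow he N)
    rw [← CycCov52.lpow_eq_epow] at hb
    exact IsUnit.of_mul_eq_one_right _ (hb.1 (show (a * g) • CycCov.lpow L U.1 e N = (1 : Γ(X, U.1)) • _ from ha.trans (one_smul _ _).symm))
  have hgen := CycCov52.isGen_of_isFrame he
  have hb := CycCov52.bijective_chart R U hN.ne' hNu W₀ hW₀ hW₀' hbij e he hgen g hgu hg
  have : Algebra.Etale Γ(X, U.1) (AdjoinRoot (Polynomial.X ^ N - Polynomial.C g)) :=
    (Groth.Agent.S14457.result _ g N hN).mpr (Or.inr (hNu.mul hgu))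
  have h1 : (algebraMap Γ(X, U.1) (AdjoinRoot (Polynomial.X ^ N - Polynomial.C g))).Etale :=
    RingHom.etale_algebraMap.mpr this
  have h2 := RingHom.Etale.respectsIso.1 _ (RingEquiv.ofBijective _ hb) h1
  have h3 : (RingEquiv.ofBijective _ hb).toRingHom.comp
      (algebraMap Γ(X, U.1) (AdjoinRoot (Polynomial.X ^ N - Polynomial.C g))) = (π.app U.1).hom :=
    RingHom.ext fun a => CycCov52.chart_of R U e hgen g hg a
  exact h3 ▸ h2

open CategoryTheory AlgebraicGeometry Opposite in
theorem etale_morphismRestrict {X Y : Scheme.{u}} (π : Y ⟶ X) [IsAffineHom π] (U : X.Opens)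
    (hU : IsAffineOpen U) (h : (π.app U).hom.Etale) : Etale (π ∣_ U) := by
  have : IsAffine U.toScheme := hU
  have : IsAffine (π ⁻¹ᵁ U).toScheme := hU.preimage π
  rw [HasRingHomProperty.iff_of_isAffine (P := @Etale), morphismRestrict_appTop]
  have key : ∀ (U' : X.Opens) (V : Y.Opens) (i : π ⁻¹ᵁ U' = V), U' = U →
      (π.app U' ≫ Y.presheaf.map (eqToHom i.symm).op).hom.Etale := by
    intro U' V i e
    subst i e
    rw [eqToHom_refl, op_id, CategoryTheory.Functor.map_id, Category.comp_id]
    exact h
  exact key _ _ (image_morphismRestrict_preimage π U ⊤).symm U.ι_image_top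

open CategoryTheory AlgebraicGeometry in
/-- For X integral and smooth over an algebraically closed field k, L an invertible module, N ≥ 1
invertible in k, D_1, …, D_r a strict normal crossing divisor on X with multiplicities α_j, s a
global section of the N-th tensor power of L whose divisor of zeros is D = Σ α_j D_j, and π : Y → X
with its root datum the normalised cyclic N-th-root cover of X defined by s, the morphism π is étale
over every open W of X disjoint from the components D_j with α_j > 0. (The published claim allows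
any effective divisor on a manifold; it is stated here for components forming a strict normal
crossing divisor.) -/
theorem result {k : Type u} [Field k] [IsAlgClosed k] {X Y : Scheme.{u}}
    (f : X ⟶ Spec (CommRingCat.of k)) [Smooth f] [IsIntegral X]
    (L : X.Modules) (hL : PicF.IsInvertible L) (N : ℕ) (hN : 0 < N) (hNk : (N : k) ≠ 0)
    {r : ℕ} (D : Fin r → X.IdealSheafData) (α : Fin r → ℕ) (hD : LogNCD.IsNCD D f)
    (s : Coh.structureModule X ⟶ CohB1.tensorPow L N) (hs : CycCov.IsZeroDiv (CohB1.tensorPow L N) s (CycCov.divIdeal D α))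
    (π : Y ⟶ X) (R : CycCov.Root L N s π) (hR : CycCov.IsCover R)
    (W : X.Opens) (hW : ∀ j : Fin r, 0 < α j → Disjoint (W : Set X) ((D j).support : Set X)) :
    Etale (π ∣_ W) := by
  have : IsFinite π := hR.1
  choose U hxU hUW e he using fun x : W =>
    CycCov52.exists_affine_frame hL (W := W) x.2
  refine IsZariskiLocalAtTarget.of_iSup_eq_top (P := @Etale) (fun x => W.ι ⁻¹ᵁ (U x).1) ?_ fun x => ?_
  · exact TopologicalSpace.Opens.ext (Set.eq_univ_of_forall fun z =>
      TopologicalSpace.Opens.mem_iSup.2 ⟨z, hxU z⟩)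
  · refine (MorphismProperty.arrow_mk_iso_iff (P := @Etale)
      (morphismRestrictRestrict π W _ ≪≫ morphismRestrictEq π (show W.ι ''ᵁ (W.ι ⁻¹ᵁ (U x).1) = (U x).1 by
        rw [Scheme.Hom.image_preimage_eq_opensRange_inf, W.opensRange_ι, inf_eq_right.2 (hUW x)]))).mpr ?_
    have : Nonempty (U x).1 := ⟨⟨_, hxU x⟩⟩
    refine etale_morphismRestrict π _ (U x).2
      (etale_app f hN hNk D α hs R hR (U x) (fun j hj => (hW j hj).mono_left (hUW x)) (e x) (he x))

end Groth.Agent.S17396
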