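import Groth.Statements.S17397
import Groth.Agent.CycCov52.Smooth

set_option autoImplicit false
universe u
open CycCov

namespace Groth.Agent.S17397

open CategoryTheory AlgebraicGeometry in
/-- For X integral and smooth over an algebraically closed field k, L an invertible module, N ≥ 1
invertible in k, D_1, …, D_r a strict normal crossing divisor on X with multiplicities α_j, s a
global section of the N-th tensor power of L whose divisor of zeros is D = Σ α_j D_j, and π : Y → X
with its root datum the normalised cyclic N-th-root cover of X defined by s, the open π⁻¹W of Y is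
smooth over k (Y is non-singular there) for every open W of X through each point of which at most
one of the components D_j with α_j > 0 passes, that is, W avoids the singular points of the reduced
divisor of D. (The published claim allows any effective divisor on a manifold; it is stated here for
components forming a strict normal crossing divisor.) -/
theorem result {k : Type u} [Field k] [IsAlgClosed k] {X Y : Scheme.{u}}
    (f : X ⟶ Spec (CommRingCat.of k)) [Smooth f] [IsIntegral X]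
    (L : X.Modules) (hL : PicF.IsInvertible L) (N : ℕ) (hN : 0 < N) (hNk : (N : k) ≠ 0)
    {r : ℕ} (D : Fin r → X.IdealSheafData) (α : Fin r → ℕ) (hD : LogNCD.IsNCD D f)
    (s : Coh.structureModule X ⟶ CohB1.tensorPow L N) (hs : CycCov.IsZeroDiv (CohB1.tensorPow L N) s (CycCov.divIdeal D α))
    (π : Y ⟶ X) (R : CycCov.Root L N s π) (hR : CycCov.IsCover R)
    (W : X.Opens) (hW : ∀ x ∈ W, ∀ j j' : Fin r, 0 < α j → 0 < α j' → x ∈ (D j).support → x ∈ (D j').support → j = j') :
    Smooth ((π ⁻¹ᵁ W).ι ≫ π ≫ f) := by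
  classical
  have : IsFinite π := hR.1
  have hx : ∀ x : W, ∃ U : X.affineOpens, (x : X) ∈ U.1 ∧ U.1 ≤ W ∧ Smooth ((U.2.preimage π).fromSpec ≫ π ≫ f) := by
    rintro ⟨x, hxW⟩
    by_cases h : ∃ j, 0 < α j ∧ x ∈ (D j).support
    · obtain ⟨j, hj, hxj⟩ := h
      obtain ⟨U, e, h, u, hxU, hUW, he, h0, hreg, -, -, hf⟩ :=
        CycCov52.exists_branch_chart f hL hD hs hxW j hxj
          fun j' hne hα hx' => hne (hW x hxW j' j hα hj hx' hxj)
      have : Nonempty U.1 := ⟨⟨x, hxU⟩⟩
      exact ⟨U, hxU, hUW, CycCov52.smooth_fromSpec_of_chart f R hR hN hNk U e he u h (α j) h0 hf⟩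
    · obtain ⟨U, e, u, hxU, hUW, he, -, hf⟩ :=
        CycCov52.exists_unbranched_chart hL hs hxW fun j hj hxj => h ⟨j, hj, hxj⟩
      have : Nonempty U.1 := ⟨⟨x, hxU⟩⟩
      have := (CycCov52.regular_and_closed f U.2).1
      have : IsNoetherianRing Γ(X, U.1) := inferInstance
      have := CycCov52.isRegularRing_quotient_one Γ(X, U.1)
      exact ⟨U, hxU, hUW, CycCov52.smooth_fromSpec_of_chart f R hR hN hNk U e he u 1 0 one_ne_zero hf⟩
  choose U hxU hUW hsm using hx
  refine IsZariskiLocalAtSource.of_iSup_eq_top (P := @Smooth) (fun x => (π ⁻¹ᵁ W).ι ⁻¹ᵁ (π ⁻¹ᵁ (U x).1)) ?_ fun x => ?_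
  · refine TopologicalSpace.Opens.ext (Set.eq_univ_of_forall fun z => ?_)
    exact TopologicalSpace.Opens.mem_iSup.2 ⟨⟨π z.1, z.2⟩, hxU ⟨π z.1, z.2⟩⟩
  · have hle : π ⁻¹ᵁ (U x).1 ≤ π ⁻¹ᵁ W := π.preimage_mono (hUW x)
    have himg : (π ⁻¹ᵁ W).ι ''ᵁ ((π ⁻¹ᵁ W).ι ⁻¹ᵁ (π ⁻¹ᵁ (U x).1)) = π ⁻¹ᵁ (U x).1 := by
      rw [Scheme.Hom.image_preimage_eq_opensRange_inf, Scheme.Opens.opensRange_ι, inf_eq_right.2 hle]
    have key : ((π ⁻¹ᵁ W).ι ⁻¹ᵁ (π ⁻¹ᵁ (U x).1)).ι ≫ (π ⁻¹ᵁ W).ι =
        ((Scheme.Opens.ι (π ⁻¹ᵁ W)).isoImage _ ≪≫ Scheme.isoOfEq _ himg ≪≫ ((U x).2.preimage π).isoSpec).hom ≫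
          ((U x).2.preimage π).fromSpec := by
      simp [IsAffineOpen.isoSpec_hom, IsAffineOpen.toSpecΓ_fromSpec]
    rw [← Category.assoc, key, Category.assoc]
    exact (MorphismProperty.cancel_left_of_respectsIso @Smooth _ _).mpr (hsm x)

end Groth.Agent.S17397
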