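import Groth.Statements.S17410
import Mathlib.RingTheory.AdjoinRoot
import Mathlib.RingTheory.Localization.Integral
import Mathlib.RingTheory.TensorProduct.Maps
import Mathlib.RingTheory.IntegralClosure.IsIntegralClosure.Basic

set_option autoImplicit false
universe u
open Prym5

namespace Groth.Agent.S17410

open Polynomial TensorProduct

variable {R : Type u} [CommRing R] [IsDomain R]

theorem isIntegral_iff (h : R[X]) (hdeg : h.natDegree ≠ 0) (S : Submonoid R) :
    Algebra.IsIntegral (Localization S) (Localization (Algebra.algebraMapSubmonoid (AdjoinRoot h) S))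
      ↔ IsUnit (algebraMap R (Localization S) h.leadingCoeff) := by
  set A := AdjoinRoot h
  set As := Localization (Algebra.algebraMapSubmonoid A S)
  set Rs := Localization S
  have h0 : h ≠ 0 := fun e => hdeg (by simp [e])
  let α : As := algebraMap A As (AdjoinRoot.root h)
  have hα : aeval α h = 0 := by
    rw [aeval_algebraMap_apply, AdjoinRoot.aeval_eq, AdjoinRoot.mk_self, map_zero]
  constructor
  · intro hint
    obtain ⟨m, hm⟩ := IsIntegral.exists_multiple_integral_of_isLocalization (R := R) (Rₘ := Rs) S α
      (Algebra.IsIntegral.isIntegral α)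
    obtain ⟨p, hp, hp'⟩ := hm
    have hz : algebraMap A As (aeval ((m : R) • AdjoinRoot.root h) p) = 0 := by
      rw [← aeval_algebraMap_apply, Algebra.smul_def, map_mul, ← IsScalarTower.algebraMap_apply,
        ← Algebra.smul_def]
      exact hp'
    rw [IsLocalization.map_eq_zero_iff (Algebra.algebraMapSubmonoid A S)] at hz
    obtain ⟨⟨_, s, hs, rfl⟩, hsz⟩ := hz
    let G : R[X] := C s * p.comp (C (m : R) * X)
    have hG : AdjoinRoot.mk h G = 0 := by
      rw [← AdjoinRoot.aeval_eq]
      simp only [G, map_mul, aeval_C, aeval_comp, aeval_X, Algebra.smul_def] at hsz ⊢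
      exact hsz
    rw [AdjoinRoot.mk_eq_zero] at hG
    obtain ⟨q, hq⟩ := hG
    have hlc := congrArg leadingCoeff hq
    have hunit : IsUnit (algebraMap R Rs (leadingCoeff G)) := by
      by_cases hs0 : s = 0
      · have : Subsingleton Rs := IsLocalization.subsingleton (M := S) (hs0 ▸ hs)
        exact isUnit_of_subsingleton _
      by_cases hm0 : (m : R) = 0
      · have : Subsingleton Rs := IsLocalization.subsingleton (M := S) (hm0 ▸ m.2)
        exact isUnit_of_subsingleton _
      have hX : (C (m : R) * X).natDegree = 1 := natDegree_C_mul_X _ hm0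
      rw [show G = C s * p.comp (C (m : R) * X) from rfl, leadingCoeff_mul, leadingCoeff_C,
        leadingCoeff_comp (by rw [hX]; exact one_ne_zero), hp.leadingCoeff, one_mul, leadingCoeff_mul,
        leadingCoeff_C, leadingCoeff_X, mul_one, map_mul, map_pow]
      exact (IsLocalization.map_units Rs (⟨s, hs⟩ : S)).mul ((IsLocalization.map_units Rs m).pow _)
    rw [hlc, leadingCoeff_mul, map_mul] at hunit
    exact isUnit_of_mul_isUnit_left hunit
  · intro hu
    have hαint : IsIntegral Rs α := by
      refine ⟨C (hu.unit⁻¹ : Rsˣ).1 * h.map (algebraMap R Rs), ?_, ?_⟩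
      · have hne : algebraMap R Rs h.leadingCoeff ≠ 0 ∨ Subsingleton Rs := by
          rcases subsingleton_or_nontrivial Rs with h1 | h1
          · exact Or.inr h1
          · exact Or.inl hu.ne_zero
        rcases hne with hne | hne
        · apply monic_C_mul_of_mul_leadingCoeff_eq_one
          rw [leadingCoeff_map_of_leadingCoeff_ne_zero _ hne]
          exact hu.val_inv_mul
        · exact Subsingleton.elim _ _
      · rw [eval₂_mul, eval₂_map, ← IsScalarTower.algebraMap_eq]
        exact mul_eq_zero_of_right _ hα
    refine ⟨fun x => ?_⟩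
    obtain ⟨a, ⟨_, s, hs, rfl⟩, rfl⟩ := IsLocalization.exists_mk'_eq (Algebra.algebraMapSubmonoid A S) x
    obtain ⟨g, rfl⟩ := AdjoinRoot.mk_surjective a
    have h1 : IsIntegral Rs (algebraMap A As (AdjoinRoot.mk h g)) := by
      rw [← AdjoinRoot.aeval_eq, ← aeval_algebraMap_apply]
      have hmem : α ∈ integralClosure Rs As := hαint
      have h2 : aeval (⟨α, hmem⟩ : integralClosure Rs As) (g.map (algebraMap R Rs)) ∈ (⊤ : Subalgebra Rs (integralClosure Rs As)) := trivial
      have := (aeval (⟨α, hmem⟩ : integralClosure Rs As) (g.map (algebraMap R Rs))).2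
      rw [← Subalgebra.coe_val, ← Polynomial.aeval_algHom_apply, aeval_map_algebraMap] at this
      exact this
    have hx : IsLocalization.mk' As (AdjoinRoot.mk h g) (⟨algebraMap R A s, s, hs, rfl⟩ : Algebra.algebraMapSubmonoid A S) =
        algebraMap A As (AdjoinRoot.mk h g) * algebraMap Rs As (IsLocalization.mk' Rs (1 : R) ⟨s, hs⟩) := by
      rw [IsLocalization.mk'_eq_iff_eq_mul, mul_assoc]
      rw [show algebraMap A As (algebraMap R A s) = algebraMap Rs As (algebraMap R Rs s) by
        rw [← IsScalarTower.algebraMap_apply, ← IsScalarTower.algebraMap_apply]]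
      rw [← map_mul (algebraMap Rs As), IsLocalization.mk'_spec, map_one, map_one, mul_one]
    rw [hx]
    exact h1.mul isIntegral_algebraMap

theorem finrank_tensor (h : R[X]) (hdeg : h.natDegree ≠ 0) :
    Module.finrank (FractionRing R) (FractionRing R ⊗[R] AdjoinRoot h) = h.natDegree := by
  let K := FractionRing R
  have h0 : h ≠ 0 := fun e => hdeg (by simp [e])
  let hK := h.map (algebraMap R K)
  have hinj : Function.Injective (algebraMap R K) := IsFractionRing.injective R K
  have hK0 : hK ≠ 0 := (Polynomial.map_ne_zero_iff hinj).2 h0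
  let f₁ : AdjoinRoot h →ₐ[R] AdjoinRoot hK :=
    AdjoinRoot.liftAlgHom h (Algebra.ofId R _) (AdjoinRoot.root hK) (by
      show eval₂ (algebraMap R (AdjoinRoot hK)) (AdjoinRoot.root hK) h = 0
      rw [IsScalarTower.algebraMap_eq R K, ← eval₂_map]
      exact AdjoinRoot.eval₂_root hK)
  let F : K ⊗[R] AdjoinRoot h →ₐ[K] AdjoinRoot hK :=
    Algebra.TensorProduct.lift (Algebra.ofId K _) f₁ (fun _ _ => mul_comm _ _)
  let G : AdjoinRoot hK →ₐ[K] K ⊗[R] AdjoinRoot h :=
    AdjoinRoot.liftAlgHom hK (Algebra.ofId K _) (1 ⊗ₜ AdjoinRoot.root h) (by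
      show eval₂ (algebraMap K (K ⊗[R] AdjoinRoot h)) (1 ⊗ₜ AdjoinRoot.root h) hK = 0
      rw [eval₂_map, ← IsScalarTower.algebraMap_eq, ← aeval_def,
        show (1 : K) ⊗ₜ[R] AdjoinRoot.root h = Algebra.TensorProduct.includeRight (AdjoinRoot.root h) from rfl,
        aeval_algHom_apply, AdjoinRoot.aeval_eq, AdjoinRoot.mk_self, map_zero])
  have hFr : F (1 ⊗ₜ AdjoinRoot.root h) = AdjoinRoot.root hK := by simp [F, f₁]
  have hGr : G (AdjoinRoot.root hK) = 1 ⊗ₜ AdjoinRoot.root h := by simp [G]
  have e1 : F.comp G = AlgHom.id K _ := AdjoinRoot.algHom_ext (by simp [hFr, hGr])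
  have e2 : G.comp F = AlgHom.id K _ := by
    apply Algebra.TensorProduct.ext
    · exact Subsingleton.elim _ _
    · refine AdjoinRoot.algHom_ext ?_
      simp [hFr, hGr]
  rw [(AlgEquiv.ofAlgHom F G e1 e2).toLinearEquiv.finrank_eq, (AdjoinRoot.powerBasis hK0).finrank,
    AdjoinRoot.powerBasis_dim, natDegree_map_eq_of_injective hinj]

/-- Over a perfect field K of characteristic different from 2 and 3, let h be an irreducible polynomial
of degree 2 in the variable z with coefficients in K[x, y] and A = K[x, y][z]/(h). For every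
multiplicative subset S of K[x, y], the localisation S⁻¹A is integral over S⁻¹K[x, y] if and only if
the leading coefficient of h is invertible in S⁻¹K[x, y]; and K(x, y) ⊗ A is a K(x, y)-vector space
of dimension 2. (Geometrically: for a quartic surface with an ordinary double point, written u₂ x₃²
+ 2 u₃ x₃ + u₄ = 0 with the node at (0:0:0:1), the projection from the node restricted to a standard
affine chart of the plane is given by such an algebra A with leading coefficient the dehomogenised
u₂, so the projection is finite of degree two exactly over the locus u₂ ≠ 0. Stated for any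
irreducible h of degree 2, which is all the argument uses.) -/
theorem result (K : Type u) [Field K]
    [PerfectField K] (h2 : (2 : K) ≠ 0) (h3 : (3 : K) ≠ 0)
    (h : Polynomial (MvPolynomial (Fin 2) K)) (hirr : Irreducible h) (hdeg : h.natDegree = 2)
    (S : Submonoid (MvPolynomial (Fin 2) K)) :
    (Algebra.IsIntegral (Localization S) (Localization (Algebra.algebraMapSubmonoid (AdjoinRoot h) S))
        ↔ IsUnit (algebraMap (MvPolynomial (Fin 2) K) (Localization S) h.leadingCoeff))
      ∧ Module.finrank (FractionRing (MvPolynomial (Fin 2) K))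
          (TensorProduct (MvPolynomial (Fin 2) K) (FractionRing (MvPolynomial (Fin 2) K)) (AdjoinRoot h)) = 2 :=
  ⟨isIntegral_iff h (by omega) S, by rw [finrank_tensor h (by omega), hdeg]⟩

end Groth.Agent.S17410
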