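import Groth.Statements.S17411
import Groth.Agent.WC97.Dim
import Groth.Agent.S10830

set_option autoImplicit false
universe u
open CategoryTheory AlgebraicGeometry
open Prym5

namespace Groth.Agent.S17411

/-- Let k be an algebraically closed field of characteristic zero and X, Y, Z schemes of finite type
over k, with Y and Z irreducible of the same dimension, η : Y → Z a dominant k-morphism and ρ : X →
Y a k-morphism. Then the composite ρ ≫ η is dominant exactly when ρ is dominant. (The published
statement concerns the forgetful map from the moduli space of étale double covers of genus-five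
curves to the moduli space of genus-five curves, both irreducible of dimension 12, and a morphism
into the former; its argument uses only the hypotheses kept here.) -/
theorem result (k : Type u) [Field k] [IsAlgClosed k]
    [CharZero k] (X Y Z : Scheme.{u}) [X.Over (Spec (CommRingCat.of k))] [Y.Over (Spec (CommRingCat.of k))]
    [Z.Over (Spec (CommRingCat.of k))]
    [LocallyOfFiniteType (X ↘ Spec (CommRingCat.of k))] [QuasiCompact (X ↘ Spec (CommRingCat.of k))]
    [LocallyOfFiniteType (Y ↘ Spec (CommRingCat.of k))] [QuasiCompact (Y ↘ Spec (CommRingCat.of k))]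
    [LocallyOfFiniteType (Z ↘ Spec (CommRingCat.of k))] [QuasiCompact (Z ↘ Spec (CommRingCat.of k))]
    [IrreducibleSpace Y] [IrreducibleSpace Z] (hdim : topologicalKrullDim Y = topologicalKrullDim Z)
    (ρ : X ⟶ Y) [ρ.IsOver (Spec (CommRingCat.of k))] (η : Y ⟶ Z) [η.IsOver (Spec (CommRingCat.of k))]
    [IsDominant η] :
    IsDominant (ρ ≫ η) ↔ IsDominant ρ := by
  classical
  refine ⟨fun hd => ?_, fun _ => inferInstance⟩
  let S := Spec (CommRingCat.of k)
  have : IsLocallyNoetherian X := LocallyOfFiniteType.isLocallyNoetherian (X ↘ S)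
  have : CompactSpace X := QuasiCompact.compactSpace_of_compactSpace (X ↘ S)
  have : IsNoetherian X := {}
  have hfin : (irreducibleComponents X).Finite := TopologicalSpace.NoetherianSpace.finite_irreducibleComponents
  have hcov : (Set.univ : Set Z) ⊆ ⋃ C ∈ hfin.toFinset, closure ((ρ ≫ η) '' C) := by
    rw [← (ρ ≫ η).denseRange.closure_range]
    refine closure_minimal ?_ (Set.Finite.isClosed_biUnion (Finset.finite_toSet _) fun _ _ => isClosed_closure)
    rintro _ ⟨x, rfl⟩
    exact Set.mem_biUnion (hfin.mem_toFinset.2 (irreducibleComponent_mem_irreducibleComponents x))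
      (subset_closure ⟨x, mem_irreducibleComponent, rfl⟩)
  have hZu : IsIrreducible (Set.univ : Set Z) := IrreducibleSpace.isIrreducible_univ (X := Z)
  obtain ⟨T, hT, hTu⟩ := (isIrreducible_iff_sUnion_isClosed.1 hZu)
    (hfin.toFinset.image fun C => closure ((ρ ≫ η) '' C))
    (fun T hT => by
      obtain ⟨C, -, rfl⟩ := Finset.mem_image.1 hT
      exact isClosed_closure)
    (hcov.trans (by
      intro z hz
      obtain ⟨C, hC, hzC⟩ := Set.mem_iUnion₂.1 hz
      exact ⟨_, Finset.mem_coe.2 (Finset.mem_image_of_mem _ hC), hzC⟩))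
  obtain ⟨C, hC, rfl⟩ := Finset.mem_image.1 hT
  have hCirr : IsIrreducible C := (hfin.mem_toFinset.1 hC).1
  have hCc : IsClosed C := isClosed_of_mem_irreducibleComponents C (hfin.mem_toFinset.1 hC)
  have hgen : η (ρ hCirr.genericPoint) = genericPoint Z := by
    refine IsGenericPoint.eq ?_ (genericPoint_spec Z)
    have h := hCirr.isGenericPoint_genericPoint hCc
    have h2 := h.image (ρ ≫ η).continuous
    rw [Set.eq_univ_of_univ_subset hTu] at h2
    simpa using h2
  set y := ρ hCirr.genericPoint with hy
  have hdy : closure ({y} : Set Y) = Set.univ := by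
    by_contra hne
    have h1 := WC97.pdim_le_of_map (Y ↘ S) (g := η) (fY := Z ↘ S) (comp_over η S) y
    rw [hgen, WC97.pdim_genericPoint (Z ↘ S)] at h1
    have hfinY : topologicalKrullDim Y ≠ ⊤ := by
      rw [(WC97.dim_eq (Y ↘ S)).1]
      exact fun h => ENat.coe_ne_top _ (WithBot.coe_inj.1 h)
    have h2 := Groth.Agent.S10830.result Y hfinY _ isClosed_closure hne
    rw [WC97.topologicalKrullDim_closure (Y ↘ S) y, hdim, (WC97.dim_eq (Z ↘ S)).1] at h2
    rw [WC97.pdim_eq (Y ↘ S), (WC97.dim_eq (Z ↘ S)).2] at h1
    have h3 := Nat.cast_lt.1 (WithBot.coe_lt_coe.1 (by exact_mod_cast h2) :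
      ((WC97.tdegN (Y ↘ S) y : ℕ) : ℕ∞) < (WC97.tdegN (Z ↘ S) (genericPoint Z) : ℕ))
    omega
  refine ⟨fun z => ?_⟩
  refine closure_mono (Set.singleton_subset_iff.2 ?_) (hdy.ge (Set.mem_univ z))
  exact ⟨_, rfl⟩


end Groth.Agent.S17411
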