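import Groth.Statements.S17429
import Groth.Agent.LC17.OmegaFlat
import Groth.Agent.LC17.IDepth
import Groth.Agent.LC15.Cd

set_option autoImplicit false
universe u
open LocCoh

namespace Groth.Agent.S17429

/-- Let p be a prime, A a regular local ring of characteristic p, t_1, …, t_r an A-regular sequence such
that A/(t_1, …, t_r) is again a regular local ring (a regular closed immersion Z ↪ X = Spec A of
codimension r with Z regular and non-empty), and I = (t_1, …, t_r). Then for every i and every j ≠ r
the local cohomology module H^j_I(Ω^i_A) vanishes, where Ω^i_A is the i-th exterior power over A of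
the module of Kähler differentials of A over ℤ (the same module as over the prime field). (Module
form, for X local, of the vanishing of the local cohomology sheaves H^j_Z(X, Ω^i_X), j ≠ r; the same
vanishing holds more generally for the de Rham–Witt sheaves W_mΩ^i_X and their quotients by
dV^{m-1}Ω^{i-1}_X on the étale site of a regular F_p-scheme, a form not stated here.) -/
theorem result (p : ℕ) [Fact p.Prime]
    (A : Type u) [CommRing A] [IsRegularLocalRing A] [CharP A p]
    (ts : List A) (hreg : RingTheory.Sequence.IsRegular A ts)
    (hZ : IsRegularLocalRing (A ⧸ Ideal.ofList ts))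
    (i j : ℕ) (hj : j ≠ ts.length) :
    Subsingleton (LocCoh.H (Ideal.ofList ts) j
      ↥(ExteriorAlgebra.exteriorPower A i (KaehlerDifferential ℤ A))) := by
  classical
  haveI : Module.Flat A Ω[A⁄ℤ] := Groth.Agent.LC17.OmegaFlat.flat_kaehler_int p A
  haveI := Groth.Agent.LC17.OmegaFlat.flat_exteriorPower (R := A) (M := Ω[A⁄ℤ]) i
  rcases lt_or_gt_of_ne hj with h | h
  · have hw : RingTheory.Sequence.IsWeaklyRegular ↥(⋀[A]^i Ω[A⁄ℤ]) ts :=
      ((TensorProduct.lid A ↥(⋀[A]^i Ω[A⁄ℤ])).isWeaklyRegular_congr ts).1
        (hreg.toIsWeaklyRegular.isWeaklyRegular_rTensor)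
    exact Groth.Agent.LC17.subsingleton_H_of_seq (Ideal.ofList ts) ts _ hw
      (fun r hr => Ideal.subset_span hr) j h
  · have e : Ideal.ofList ts = Ideal.span ((ts.toFinset : Finset A) : Set A) := by
      rw [Ideal.ofList, List.coe_toFinset]
    rw [e]
    exact Groth.Agent.LC15.cdLE_span_finset ts.toFinset _ j
      (lt_of_le_of_lt (List.toFinset_card_le ts) h)

end Groth.Agent.S17429
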