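import Groth.Statements.S17438
import Groth.Agent.H98DefoConn.ExtClass
import Groth.Agent.H98CechOne.Basic
import Groth.Agent.QC70.HomLocFree
import Groth.Agent.Formal27.HomCompl
import Groth.Agent.Coh69.Grothendieck

set_option autoImplicit false
universe u
open CategoryTheory AlgebraicGeometry
open DefoSh

namespace Groth.Agent.S17438

set_option backward.isDefEq.respectTransparency.types false in
set_option linter.style.haveILetI false in
/-- Let k be a field, X a scheme over k, U₀ and U₁ two affine opens covering X, and E an O_X-module free
of the same finite rank n on U₀ and on U₁ (a vector bundle given by one transition matrix). Then the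
isomorphism classes of deformations of E over the dual numbers k[ε] (O_X-modules with a k[ε]-action,
flat stalkwise, with reduction identified with E) are in bijection with the first Čech cohomology
group of the cover (U₀, U₁) with coefficients in the sheaf End(E), by a bijection taking the class
of the trivial deformation E ⊕ εE to 0 (existence of such a bijection only: the cocycle attached to
a deformation depends on chosen trivializations over U₀ and U₁). The assertion on deformations with
fixed determinant is not stated. The published statement is for a curve and uses the sheaf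
cohomology H¹(C, End(E)); this row takes any scheme over k covered by two affine opens on which E is
free, as the printed proof uses, and the Čech cohomology of that cover. -/
theorem result (k : Type u) [Field k] (X : Scheme.{u})
    [X.Over (Spec (CommRingCat.of k))] (U : ULift.{u} (Fin 2) → X.Opens)
    (hU : ∀ i, IsAffineOpen (U i)) (hcov : ⨆ i, U i = ⊤) (E : X.Modules) (n : ℕ)
    (hfree : ∀ i, Nonempty (E.restrict (U i).ι ≅ FlatMod.freeMod ↑(U i) n)) :
    ∃ e : DefoSh.FirstOrder k E ≃ ↑(CohB1.cechH U (RefHull.homSh E E) 1),
      e (DefoSh.Defo.trivDual k E).cl = 0 := by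
  haveI : HasExt.{u} X.Modules := hasExt_of_enoughInjectives _
  have hE : FlatMod.IsFinLocFree E := fun x => by
    obtain ⟨i, hi⟩ := TopologicalSpace.Opens.mem_iSup.1 (hcov.ge (TopologicalSpace.Opens.mem_top x))
    exact ⟨U i, n, hi, hfree i⟩
  haveI : (QC70.homMod E E).IsQuasicoherent :=
    Props58.LocFree.isQuasicoherent_of_isFinLocFree (Formal27.isFinLocFree_homMod hE hE)
  haveI := H98CechOne.isIso_toHomSh E E
  obtain ⟨e₁⟩ := QC70.nonempty_ext_equiv_HH hE E 1
  obtain ⟨e₂⟩ := H98CechOne.nonempty_cechH_one_equiv_HH U hcov hU (QC70.homMod E E)
  obtain ⟨e₃⟩ := H98CechOne.nonempty_cechH_congr U (asIso (H98CechOne.toHomSh E E)) 1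
  let e : Abelian.Ext E E 1 ≃+ ↑(CohB1.cechH U (RefHull.homSh E E) 1) := e₁.trans (e₂.symm.trans e₃)
  refine ⟨(H98DefoConn.firstOrderEquiv k E).trans e.toEquiv, ?_⟩
  exact (congrArg e H98DefoConn.defoClass_trivDual).trans (map_zero e)

end Groth.Agent.S17438
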