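import Groth.Statements.S17444
-- import your own Groth.Agent.* helpers here

set_option autoImplicit false
universe u v
open SSRed

namespace Groth.Agent.S17444

/-- Let K be a field of characteristic zero, V a K-vector space and g a K-linear endomorphism of V such
that g - 1 is nilpotent (a unipotent automorphism). Then for every integer n > 0 the endomorphisms
gⁿ - 1 and g - 1 have the same kernel: a vector fixed by gⁿ is fixed by g. (The published statement
assumes V finite-dimensional; this row allows any V.) -/
theorem result (K : Type u) (V : Type v) [Field K] [CharZero K]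
    [AddCommGroup V] [Module K V] (g : Module.End K V) (hg : IsNilpotent (g - 1)) (n : ℕ) (hn : 0 < n) :
    LinearMap.ker (g ^ n - 1) = LinearMap.ker (g - 1) := by
  let S : Module.End K V := ∑ i ∈ Finset.range n, g ^ i
  have hS : S * (g - 1) = g ^ n - 1 := geom_sum_mul g n
  have hc : ∀ i : ℕ, Commute (∑ j ∈ Finset.range i, g ^ j) (g - 1) := fun i =>
    Commute.sum_left _ _ _ fun j _ => ((Commute.refl g).sub_right (Commute.one_right g)).pow_left j
  have hT : IsNilpotent (S - (n : Module.End K V)) := by
    have : S - (n : Module.End K V) =
        (∑ i ∈ Finset.range n, ∑ j ∈ Finset.range i, g ^ j) * (g - 1) := by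
      rw [Finset.sum_mul]
      simp only [geom_sum_mul, S]
      rw [Finset.sum_sub_distrib]
      simp
    rw [this]
    exact (Commute.sum_left _ _ _ fun i _ => hc i).isNilpotent_mul_left hg
  have hu : IsUnit S := by
    have hn' : IsUnit ((n : Module.End K V)) := by
      have h1 : IsUnit ((n : K)) := isUnit_iff_ne_zero.mpr (Nat.cast_ne_zero.mpr hn.ne')
      have h2 := h1.map (algebraMap K (Module.End K V))
      rwa [map_natCast] at h2
    have := hT.isUnit_add_left_of_commute hn' (Nat.cast_commute n _).symm
    rwa [add_sub_cancel] at this
  ext v
  rw [← hS, LinearMap.mem_ker, LinearMap.mem_ker, Module.End.mul_apply]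
  exact ⟨fun h => ((Module.End.isUnit_iff _).mp hu).1 (h.trans (map_zero S).symm),
    fun h => by rw [h, map_zero]⟩

end Groth.Agent.S17444
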