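import Groth.Statements.S17446
import Groth.Agent.Misc36.Unip

set_option autoImplicit false
universe u v
open SSRed

namespace Groth.Agent.S17446

/-- Let K be a field, V a finite-dimensional K-vector space and H₁, H₂ subgroups of the group of
K-linear automorphisms of V such that H₂ normalizes H₁. Call the action of a subgroup H unipotent
when, for some n, every product (h₁ - 1)(h₂ - 1)⋯(hₙ - 1) with all hᵢ in H is the zero endomorphism
(equivalently, V has an H-stable flag on whose successive quotients H acts trivially). If H₁ and H₂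
act unipotently, then the subgroup generated by H₁ and H₂ acts unipotently. (In the published result
H₁ and H₂ are the absolute Galois groups of two finite Galois extensions of a strictly henselian
discretely valued field over which an abelian variety becomes semistable, acting on its rational
ℓ-adic Tate module, and the conclusion is semistability over the intersection of the two fields; the
printed argument uses only that H₂ normalizes H₁.) -/
theorem result (K : Type u) (V : Type v) [Field K]
    [AddCommGroup V] [Module K V] [FiniteDimensional K V]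
    (H₁ H₂ : Subgroup (V ≃ₗ[K] V)) (hnorm : ∀ g ∈ H₂, ∀ h ∈ H₁, g * h * g⁻¹ ∈ H₁)
    (h₁ : ∃ n : ℕ, ∀ f : Fin n → ↥H₁,
      (List.ofFn fun i => (((f i : ↥H₁) : V ≃ₗ[K] V) : Module.End K V) - 1).prod = 0)
    (h₂ : ∃ n : ℕ, ∀ f : Fin n → ↥H₂,
      (List.ofFn fun i => (((f i : ↥H₂) : V ≃ₗ[K] V) : Module.End K V) - 1).prod = 0) :
    ∃ n : ℕ, ∀ f : Fin n → ↥(H₁ ⊔ H₂),
      (List.ofFn fun i => (((f i : ↥(H₁ ⊔ H₂)) : V ≃ₗ[K] V) : Module.End K V) - 1).prod = 0 := by
  obtain ⟨n₁, hn₁⟩ := h₁
  obtain ⟨n₂, hn₂⟩ := h₂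
  refine ⟨n₁ * n₂, fun f => Groth.Agent.Misc36.unipotent_sup H₁ H₂ hnorm n₁ n₂ ?_ ?_ _
    ⟨List.ofFn fun i => (f i).1, by simp, fun g hg => ?_, ?_⟩⟩
  · rintro _ ⟨l, hl, hlH, rfl⟩
    subst hl
    refine Eq.trans ?_ (hn₁ fun i => ⟨l[i.1], hlH _ (List.getElem_mem _)⟩)
    exact congrArg List.prod (List.ext_getElem (by simp) fun i _ _ => by simp)
  · rintro _ ⟨l, hl, hlH, rfl⟩
    subst hl
    refine Eq.trans ?_ (hn₂ fun i => ⟨l[i.1], hlH _ (List.getElem_mem _)⟩)
    exact congrArg List.prod (List.ext_getElem (by simp) fun i _ _ => by simp)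
  · obtain ⟨i, rfl⟩ := List.mem_ofFn.1 hg
    exact (f i).2
  · rw [List.map_ofFn]; rfl

end Groth.Agent.S17446
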