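import Groth.Statements.S17451
import Groth.Agent.AlgGrp33.SemiAb
import Groth.Agent.AlgGrp33.WordSpec
import Groth.Agent.Grp57.Component
-- import your own Groth.Agent.* helpers here

set_option autoImplicit false
universe u
open CategoryTheory MonoidalCategory CartesianMonoidalCategory MonObj GrpObj AlgebraicGeometry CategoryTheory.Limits
open AlgGrp

namespace Groth.Agent.S17451

open CategoryTheory MonoidalCategory CartesianMonoidalCategory MonObj AlgebraicGeometry CategoryTheory.Limits

/-- commutativity descends from an algebraic closure -/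
lemma main (k : Type u) [Field k] (G : Over (Spec (CommRingCat.of k))) [GrpObj G] [Smooth G.hom] [QuasiCompact G.hom]
    (h : ∀ {X : Over (Spec (CommRingCat.of (AlgebraicClosure k)))}
      (a b : X ⟶ Red.bc (Spec.map (CommRingCat.ofHom (algebraMap k (AlgebraicClosure k)))) G), a * b = b * a) :
    IsCommMonObj G := by
  have := AlgGrp79.isSeparated_grp G
  have : Flat (G ⊗ G).hom := inferInstanceAs (Flat (pullback.fst G.hom G.hom ≫ G.hom))
  let t : Spec (CommRingCat.of (AlgebraicClosure k)) ⟶ Spec (CommRingCat.of k) :=
    Spec.map (CommRingCat.ofHom (algebraMap k (AlgebraicClosure k)))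
  have : IsDominant t := ⟨Function.Surjective.denseRange fun x => ⟨Classical.arbitrary _, Subsingleton.elim (α := PrimeSpectrum k) _ _⟩⟩
  have : IsSchemeTheoreticallyDominant t := .of_isDominant _
  have : QuasiCompact t := inferInstance
  let w : G ⊗ G ⟶ G := fst G G * snd G G * (fst G G)⁻¹ * (snd G G)⁻¹
  have hw1 : w = 1 := AlgGrp33.WordSpec.word_eq_one t w fun X s => by
    obtain ⟨a, ha⟩ := (AlgGrp33.WordSpec.baseHom_bijective (G := G) t X).2 (s ≫ fst G G)
    obtain ⟨b, hb⟩ := (AlgGrp33.WordSpec.baseHom_bijective (G := G) t X).2 (s ≫ snd G G)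
    simp only [w, MonObj.comp_mul, GrpObj.comp_inv, ← ha, ← hb]
    rw [← map_mul, h a b, map_mul]
    group
  refine ⟨?_⟩
  have hβ : (β_ G G).hom ≫ μ[G] = snd G G * fst G G := by
    rw [Hom.mul_def]
    congr 1
  have hμ : μ[G] = fst G G * snd G G := by
    rw [Hom.mul_def, lift_fst_snd, Category.id_comp]
  rw [hβ, hμ]
  calc snd G G * fst G G = w⁻¹ * (fst G G * snd G G) := by simp only [w]; group
    _ = fst G G * snd G G := by rw [hw1, inv_one, _root_.one_mul]

/-- Let k be a field with algebraic closure K and G a smooth connected k-group scheme of finite type,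
not assumed commutative, whose base change G_K has a torus as a subgroup with an abelian variety as
the quotient: there are a closed subgroup scheme T of G_K which is a torus and a flat surjective
homomorphism from G_K onto a proper smooth connected K-group scheme with kernel T. Then G is
commutative. (The published result also asserts that G then has, over k itself, a unique torus
subgroup with abelian-variety quotient of this kind; only commutativity is stated here.) -/
theorem result (k : Type u) [Field k]
    (G : Over (Spec (CommRingCat.of k))) [GrpObj G] [Smooth G.hom] [QuasiCompact G.hom] [ConnectedSpace ↥G.left]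
    (hK : (∃ (T : Over (Spec (CommRingCat.of (AlgebraicClosure k)))) (_ : GrpObj T) (i : T ⟶ Red.bc (Spec.map (CommRingCat.ofHom (algebraMap k (AlgebraicClosure k)))) G) (A : Over (Spec (CommRingCat.of (AlgebraicClosure k)))) (_ : GrpObj A) (q : Red.bc (Spec.map (CommRingCat.ofHom (algebraMap k (AlgebraicClosure k)))) G ⟶ A),
        IsMonHom i ∧ IsClosedImmersion i.left ∧ Red.IsTorus T ∧ IsMonHom q ∧ Surjective q.left ∧ Flat q.left ∧
        AlgGrp.IsKernel i q ∧ IsProper A.hom ∧ Smooth A.hom ∧ ConnectedSpace ↥A.left)) :
    IsCommMonObj G := by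
  obtain ⟨T, _, i, A, _, q, _, _, hT, _, _, _, hk, _, _, _⟩ := hK
  have : QuasiCompact (Red.bc (Spec.map (CommRingCat.ofHom (algebraMap k (AlgebraicClosure k)))) G).hom :=
    inferInstanceAs (QuasiCompact (pullback.snd G.hom _))
  have : Smooth (Red.bc (Spec.map (CommRingCat.ofHom (algebraMap k (AlgebraicClosure k)))) G).hom :=
    inferInstanceAs (Smooth (pullback.snd G.hom _))
  have : ConnectedSpace (Red.bc (Spec.map (CommRingCat.ofHom (algebraMap k (AlgebraicClosure k)))) G).left := by
    have h := Grp57.isIrreducible_preimage_connectedComponent_unit G (algebraMap k (AlgebraicClosure k))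
    rw [PreconnectedSpace.connectedComponent_eq_univ, Set.preimage_univ] at h
    have hh : IrreducibleSpace (pullback G.hom (Spec.map (CommRingCat.ofHom (algebraMap k (AlgebraicClosure k)))) : Scheme.{u}) :=
      irreducibleSpace_def _ |>.2 h
    exact inferInstanceAs (ConnectedSpace (pullback G.hom (Spec.map (CommRingCat.ofHom (algebraMap k (AlgebraicClosure k)))) : Scheme.{u}))
  exact main k G fun a b => AlgGrp33.SemiAb.comm i hT q hk a b

end Groth.Agent.S17451
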