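import Groth.Statements.S17454
import Groth.Agent.AlgGrp33.AffineProper
-- import your own Groth.Agent.* helpers here

set_option autoImplicit false
universe u
open CategoryTheory MonoidalCategory CartesianMonoidalCategory MonObj GrpObj AlgebraicGeometry CategoryTheory.Limits
open AlgGrp

namespace Groth.Agent.S17454

open CategoryTheory MonoidalCategory CartesianMonoidalCategory MonObj AlgebraicGeometry CategoryTheory.Limits
open Groth.Agent.AlgGrp79

lemma isMonHom_desc {k : Type u} [Field k] {G Q A : Over (Spec (CommRingCat.of k))} [GrpObj G] [GrpObj Q] [GrpObj A]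
    {q : G ⟶ Q} [IsMonHom q] (hcov : IsCov q) (e : Q ⟶ A) (φ : G ⟶ A) [IsMonHom φ] (he : q ≫ e = φ) : IsMonHom e := by
  have h2 : Epi (q ⊗ₘ q) := by
    have h := ((hcov.whiskerRight G).comp (hcov.whiskerLeft Q)).epi
    rwa [← MonoidalCategory.tensorHom_def] at h
  refine ⟨by rw [← IsMonHom.one_hom q, Category.assoc, he, IsMonHom.one_hom], ?_⟩
  rw [← cancel_epi (q ⊗ₘ q), ← IsMonHom.mul_hom_assoc q, he, tensorHom_comp_tensorHom_assoc, he, IsMonHom.mul_hom]

lemma surjective_tensorHom {k : Type u} [Field k] {A A' B B' : Over (Spec (CommRingCat.of k))} (f : A ⟶ B) (g : A' ⟶ B')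
    [Surjective f.left] [Surjective g.left] : Surjective (f ⊗ₘ g).left := by
  have hr : IsPullback (f ▷ A') (fst A A') (fst B A') f := by
    refine ⟨⟨by simp⟩, ⟨PullbackCone.IsLimit.mk _ (fun s => lift s.snd (s.fst ≫ snd B A')) ?_ ?_ ?_⟩⟩
    · intro s
      ext : 1
      · simp [s.condition]
      · simp
    · intro s; simp
    · intro s m h1 h2
      ext : 1
      · simpa using h2
      · simp [← h1]
  have s1 : Surjective (f ▷ A').left := MorphismProperty.of_isPullback (isPullback_left hr).flip ‹_›
  have s2 : Surjective (B ◁ g).left :=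
    MorphismProperty.of_isPullback (isPullback_left (whiskerLeft_isPullback B g)).flip ‹_›
  rw [MonoidalCategory.tensorHom_def, Over.comp_left]
  infer_instance

/-- Let k be a perfect field and f : G' → G a surjective homomorphism of smooth connected k-group
schemes of finite type. Let N' → G' and N → G be Chevalley decompositions: normal closed subgroup
schemes which are smooth, connected and affine, kernels of flat surjective homomorphisms q' : G' →
A' and q : G → A onto proper smooth connected k-group schemes. Then f maps N' onto N: there is a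
homomorphism g : N' → N, compatible with f and the two inclusions, whose underlying map is
surjective; and f induces a homomorphism A' → A compatible with q' and q whose underlying map is
surjective. (The isogeny refinement of the published statement is not stated.) -/
theorem result (k : Type u) [Field k] [PerfectField k]
    (G' G : Over (Spec (CommRingCat.of k))) [GrpObj G'] [GrpObj G]
    [Smooth G'.hom] [QuasiCompact G'.hom] [ConnectedSpace ↥G'.left]
    [Smooth G.hom] [QuasiCompact G.hom] [ConnectedSpace ↥G.left]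
    (f : G' ⟶ G) [IsMonHom f] [Surjective f.left]
    (N' : Over (Spec (CommRingCat.of k))) [GrpObj N'] (i' : N' ⟶ G') [IsMonHom i'] [IsClosedImmersion i'.left]
    [Smooth N'.hom] [ConnectedSpace ↥N'.left] [IsAffine N'.left] (hn' : AlgGrp.IsNormalHom i')
    (A' : Over (Spec (CommRingCat.of k))) [GrpObj A'] (q' : G' ⟶ A') [IsMonHom q'] [Surjective q'.left] [Flat q'.left]
    [IsProper A'.hom] [Smooth A'.hom] [ConnectedSpace ↥A'.left] (hk' : AlgGrp.IsKernel i' q')
    (N : Over (Spec (CommRingCat.of k))) [GrpObj N] (i : N ⟶ G) [IsMonHom i] [IsClosedImmersion i.left]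
    [Smooth N.hom] [ConnectedSpace ↥N.left] [IsAffine N.left] (hn : AlgGrp.IsNormalHom i)
    (A : Over (Spec (CommRingCat.of k))) [GrpObj A] (q : G ⟶ A) [IsMonHom q] [Surjective q.left] [Flat q.left]
    [IsProper A.hom] [Smooth A.hom] [ConnectedSpace ↥A.left] (hk : AlgGrp.IsKernel i q) :
    (∃ g : N' ⟶ N, IsMonHom g ∧ g ≫ i = i' ≫ f ∧ Surjective g.left) ∧
      (∃ h : A' ⟶ A, IsMonHom h ∧ q' ≫ h = f ≫ q ∧ Surjective h.left) := by
  have := Over.mono_of_mono_left i
  have := Over.mono_of_mono_left i'
  have : LocallyOfFiniteType N'.hom := inferInstance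
  have : QuasiCompact N'.hom := inferInstance
  have := geometricallyReduced_of_smooth N'.hom
  have := geometricallyReduced_of_smooth G.hom
  have hN'red : AlgebraicGeometry.IsReduced N'.left :=
    GeometricallyReduced.isReduced_of_flat_of_isLocallyNoetherian N'.hom
  -- the map on abelian parts
  have hcov' : IsCov q' := isCov_of_flat_surjective q'
  have hone : i' ≫ f ≫ q = 1 := AlgGrp33.AffineProper.eq_one (i' ≫ f ≫ q)
  obtain ⟨h, hh⟩ := hcov'.desc (f ≫ q) fun T a b hab => by
    obtain ⟨n, hn⟩ := exists_ker_of_comp_eq q' i' hk' a b hab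
    have hb : b = a * (n ≫ i') := by rw [← hn, mul_inv_cancel_left]
    rw [hb, mul_comp' a (n ≫ i') (f ≫ q), Category.assoc n i', hone, MonObj.comp_one, _root_.mul_one]
  have hhm : IsMonHom h := isMonHom_desc hcov' h (f ≫ q) hh
  have hhs : Surjective h.left := by
    have : Surjective (q'.left ≫ h.left) := by
      rw [← Over.comp_left, hh, Over.comp_left]; infer_instance
    exact Surjective.of_comp q'.left h.left
  refine ⟨?_, h, hhm, hh, hhs⟩
  obtain ⟨g, hg⟩ := exists_ker_of_comp_one hk (i' ≫ f) (by rw [Category.assoc, hone])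
  have hgm : IsMonHom g := AlgGrp33.AffineProper.isMonHom_of_mono g i (i' ≫ f) hg
  refine ⟨g, hgm, hg, ?_⟩
  -- the image
  have : QuasiCompact g.left := by
    have : QuasiCompact (g.left ≫ N.hom) := by rw [Over.w]; infer_instance
    exact QuasiCompact.of_comp g.left N.hom
  let I : Over (Spec (CommRingCat.of k)) := Over.mk (g.left.imageι ≫ N.hom)
  let j : I ⟶ N := Over.homMk g.left.imageι rfl
  let g₁ : N' ⟶ I := Over.homMk g.left.toImage (by
    show g.left.toImage ≫ g.left.imageι ≫ N.hom = _
    rw [Scheme.Hom.toImage_imageι_assoc, Over.w])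
  have hg₁ : g₁ ≫ j = g := Over.OverMorphism.ext (g.left.toImage_imageι)
  have : IsClosedImmersion j.left := inferInstanceAs (IsClosedImmersion g.left.imageι)
  have : IsSchemeTheoreticallyDominant g₁.left := schDominant_toImage g.left
  have : QuasiCompact g₁.left := by
    have : QuasiCompact (g₁.left ≫ j.left) := by rw [← Over.comp_left, hg₁]; infer_instance
    exact QuasiCompact.of_comp g₁.left j.left
  have : IsDominant g₁.left := inferInstanceAs (IsDominant g.left.toImage)
  have := Over.mono_of_mono_left j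
  have hI := closed_of_dominant g j g₁ hg₁
  obtain ⟨hIg, hjm⟩ := exists_grpObj_closed j hI.1 hI.2
  have : LocallyOfFiniteType I.hom := by rw [← Over.w j]; infer_instance
  have hg₁m : IsMonHom g₁ := AlgGrp33.AffineProper.isMonHom_of_mono g₁ j g hg₁
  have hg₁s : Surjective g₁.left := surjective_of_dominant_hom g₁
  have hIred : AlgebraicGeometry.IsReduced I.left := IsSchemeTheoreticallyDominant.isReduced g₁.left
  have : IsLocallyNoetherian I.left := LocallyOfFiniteType.isLocallyNoetherian I.hom
  have hGIred : AlgebraicGeometry.IsReduced (G ⊗ I).left :=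
    inferInstanceAs (AlgebraicGeometry.IsReduced (pullback G.hom I.hom))
  -- the image is normal
  have hjn : AlgGrp.IsNormalHom j := by
    let cG : G ⊗ I ⟶ G := fst G I * (snd G I ≫ j ≫ i) * (fst G I)⁻¹
    obtain ⟨n', hn''⟩ := hn' (G' ⊗ N') (fst G' N') (snd G' N')
    have hcg : (f ⊗ₘ g₁) ≫ cG = (n' ≫ g₁) ≫ j ≫ i := by
      calc (f ⊗ₘ g₁) ≫ cG = (fst G' N' * (snd G' N' ≫ i') * (fst G' N')⁻¹) ≫ f := by
            simp only [cG, MonObj.comp_mul, GrpObj.comp_inv, tensorHom_fst, tensorHom_snd_assoc, mul_comp',
              GrpObj.inv_comp, Category.assoc, reassoc_of% hg₁, hg]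
        _ = (n' ≫ g₁) ≫ j ≫ i := by rw [hn'', Category.assoc, Category.assoc, reassoc_of% hg₁, hg]
    have := surjective_tensorHom f g₁
    have : IsClosedImmersion (j ≫ i).left := inferInstanceAs (IsClosedImmersion (j.left ≫ i.left))
    obtain ⟨ψ, hψ⟩ := Alb96.exists_lift_of_range_subset (j ≫ i) cG (by
      rintro _ ⟨z, rfl⟩
      obtain ⟨w, rfl⟩ := (f ⊗ₘ g₁).left.surjective z
      refine ⟨(n' ≫ g₁).left w, ?_⟩
      rw [← Scheme.Hom.comp_apply, ← Over.comp_left, ← hcg]
      rfl)
    intro T n x
    refine ⟨lift (n ≫ i) x ≫ ψ, ?_⟩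
    rw [← cancel_mono i, mul_comp', mul_comp', GrpObj.inv_comp, Category.assoc, Category.assoc, Category.assoc, hψ]
    simp only [cG, MonObj.comp_mul, GrpObj.comp_inv, lift_fst, lift_snd_assoc]
  obtain ⟨Q, _, p, _, _, _, _, _, hp⟩ := S3278.result k N I j hjn
  have hQc : ConnectedSpace Q.left := p.left.surjective.connectedSpace p.left.continuous
  obtain ⟨K, _, κ, _, _, hκ, -⟩ := AlgGrp33.AffineProper.exists_kernel h
  have : IsProper K.hom := by rw [← Over.w κ]; infer_instance
  let P := pullback q' κ
  let r : P ⟶ K := pullback.snd q' κ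
  have hr : IsCov r := IsCov.of_isPullback (IsPullback.of_hasPullback q' κ) hcov'
  have hwP : pullback.fst q' κ ≫ q' = r ≫ κ := pullback.condition
  obtain ⟨p₂, hp₂⟩ := exists_ker_of_comp_one hk (pullback.fst q' κ ≫ f) (by
    rw [Category.assoc, ← hh, reassoc_of% hwP, hκ.w, one_def', comp_toUnit_assoc])
  have hp₂s : Surjective p₂.left := by
    have hT : Surjective (pullback.snd f i).left :=
      MorphismProperty.of_isPullback (isPullback_left (IsPullback.of_hasPullback f i)) ‹Surjective f.left›
    have hwT : pullback.fst f i ≫ f = pullback.snd f i ≫ i := pullback.condition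
    obtain ⟨κ₁, hκ₁⟩ := exists_ker_of_comp_one hκ (pullback.fst f i ≫ q') (by
      rw [Category.assoc, hh, reassoc_of% hwT, hk.w, one_def', comp_toUnit_assoc])
    let u : pullback f i ⟶ P := pullback.lift (pullback.fst f i) κ₁ hκ₁.symm
    have hu : u ≫ p₂ = pullback.snd f i := by
      rw [← cancel_mono i, Category.assoc, hp₂, pullback.lift_fst_assoc, pullback.condition]
    have : Surjective (u.left ≫ p₂.left) := by rw [← Over.comp_left, hu]; infer_instance
    exact Surjective.of_comp u.left p₂.left
  obtain ⟨e, he⟩ := hr.desc (p₂ ≫ p) fun T a b hab => by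
    have hq' : (a ≫ pullback.fst q' κ) ≫ q' = (b ≫ pullback.fst q' κ) ≫ q' := by
      rw [Category.assoc, Category.assoc, hwP, reassoc_of% hab]
    obtain ⟨n, hn2⟩ := exists_ker_of_comp_eq q' i' hk' _ _ hq'
    have hb : b ≫ pullback.fst q' κ = (a ≫ pullback.fst q' κ) * (n ≫ i') := by rw [← hn2, mul_inv_cancel_left]
    have hb2 : b ≫ p₂ = (a ≫ p₂) * (n ≫ g₁ ≫ j) := by
      rw [← cancel_mono i, mul_comp', Category.assoc, hp₂, Category.assoc, hp₂, Category.assoc, Category.assoc,
        reassoc_of% hg₁, hg, ← Category.assoc, hb, mul_comp', Category.assoc, Category.assoc]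
    have hjp : (n ≫ g₁ ≫ j) ≫ p = 1 := by
      rw [← Category.assoc n, isKernel_comp_one hp]
    rw [← Category.assoc, ← Category.assoc, hb2, mul_comp', hjp, _root_.mul_one]
  have : Surjective e.left := by
    have : Surjective (r.left ≫ e.left) := by rw [← Over.comp_left, he, Over.comp_left]; infer_instance
    exact Surjective.of_comp r.left e.left
  have : Subsingleton Q.left := AlgGrp33.AffineProper.subsingleton_of_surjective e
  have : Surjective j.left := ⟨fun x => by
    obtain ⟨z, hz, -⟩ := exists_preimage_of_isPullback (isPullback_left hp) x (IsLocalRing.closedPoint k)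
      (Subsingleton.elim _ _)
    exact ⟨z, hz⟩⟩
  rw [← hg₁, Over.comp_left]
  infer_instance

end Groth.Agent.S17454
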