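import Groth.Statements.S17459
import Groth.Agent.S5315
import Groth.Agent.S18385
import Groth.Agent.AlgGrp79.Pullback

set_option autoImplicit false
set_option linter.style.haveILetI false
universe u
open CategoryTheory CategoryTheory.Limits AlgebraicGeometry MonObj
open SGA7

namespace Groth.Agent.S17459

/-- Let R be a discrete valuation ring with fraction field K, let N and N' be group schemes over Spec R
which are Néron models of their generic fibres A = N_K and B = N'_K, abelian varieties (proper and
geometrically integral) of the same dimension, and let u : N → N' be a homomorphism (the extension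
of u_K : A → B). If the homomorphism induced by u on the special fibres is locally quasi-finite — as
it is when it restricts to an isogeny between the identity components, the printed hypothesis, which
also forces dim A = dim B — then u_K is an isogeny: its underlying map is surjective and its kernel
is finite. -/
theorem result (R K : Type u) [CommRing R] [IsDomain R]
    [IsDiscreteValuationRing R] [Field K] [Algebra R K] [IsFractionRing R K]
    (N N' : Over (Spec (CommRingCat.of R))) [GrpObj N] [GrpObj N']
    (hN : SGA7.IsNeron R K N) (hN' : SGA7.IsNeron R K N')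
    [IsProper ((SGA7.genFib R K).obj N).hom] [GeometricallyIntegral ((SGA7.genFib R K).obj N).hom]
    [IsProper ((SGA7.genFib R K).obj N').hom] [GeometricallyIntegral ((SGA7.genFib R K).obj N').hom]
    (hdim : topologicalKrullDim ↥((SGA7.genFib R K).obj N).left = topologicalKrullDim ↥((SGA7.genFib R K).obj N').left)
    (u : N ⟶ N') [IsMonHom u]
    [LocallyQuasiFinite (SGA7.fibreHom (IsLocalRing.closedPoint R) u).left] :
    SGA7.IsIsogenyOver ((SGA7.genFib R K).map u) := by
  haveI : Smooth N.hom := hN.1
  haveI : IsSeparated N'.hom := hN'.2.1
  haveI : LocallyOfFiniteType N.hom := inferInstance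
  haveI : LocallyOfFiniteType u.left :=
    haveI : LocallyOfFiniteType (u.left ≫ N'.hom) := by rw [Over.w u]; infer_instance
    locallyOfFiniteType_of_comp u.left N'.hom
  obtain ⟨hopen, heq⟩ := S5315.result _ N N' u fun s => inferInstance
  haveI hu : LocallyQuasiFinite u.left := by
    have hall : ∀ x : N.left, ∃ W : N.left.Opens, x ∈ W ∧ LocallyQuasiFinite (W.ι ≫ u.left) := fun x => by
      refine heq.ge ?_
      exact ((IsLocalRing.specializes_closedPoint (R := R) (N.hom.base x)).mem_open hopen ‹_›)
    choose W hW hW' using hall
    exact IsZariskiLocalAtSource.of_iSup_eq_top W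
      (TopologicalSpace.Opens.ext (Set.eq_univ_of_forall fun x => TopologicalSpace.Opens.mem_iSup.2 ⟨x, hW x⟩)) hW'
  let g : Spec (CommRingCat.of K) ⟶ Spec (CommRingCat.of R) := Spec.map (CommRingCat.ofHom (algebraMap R K))
  have sq : IsPullback ((SGA7.genFib R K).map u).left (pullback.fst N.hom g) (pullback.fst N'.hom g) u.left := by
    refine (IsPullback.of_right (t := (IsPullback.of_hasPullback N'.hom g).flip) ?_ (pullback.lift_fst _ _ _)).flip.flip
    have e1 : ((SGA7.genFib R K).map u).left ≫ pullback.snd N'.hom g = pullback.snd N.hom g :=
      Over.w ((SGA7.genFib R K).map u)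
    have e2 := (IsPullback.of_hasPullback N.hom g).flip
    rw [← e1] at e2
    rw [Over.w u]
    exact e2
  haveI : LocallyQuasiFinite ((SGA7.genFib R K).map u).left :=
    MorphismProperty.of_isPullback sq.flip hu
  haveI : Smooth ((SGA7.genFib R K).obj N).hom := inferInstanceAs (Smooth (pullback.snd N.hom g))
  haveI : Smooth ((SGA7.genFib R K).obj N').hom :=
    haveI : Smooth N'.hom := hN'.1
    inferInstanceAs (Smooth (pullback.snd N'.hom g))
  have hfib : ∀ (Y : Over (Spec (CommRingCat.of K))) (s : ↥(Spec (CommRingCat.of K))),
      topologicalKrullDim ↥(Y.hom.fiber s) = topologicalKrullDim ↥Y.left := fun Y s => by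
    have h1 : Y.hom.base ⁻¹' {s} = Set.univ := Set.eq_univ_of_forall fun y => Subsingleton.elim _ _
    exact IsHomeomorph.topologicalKrullDim_eq _ (((Y.hom.fiberHomeo s).trans
      ((Homeomorph.setCongr h1).trans (Homeomorph.Set.univ _))).isHomeomorph)
  have hgc : ∀ (Y : Over (Spec (CommRingCat.of K))), GeometricallyIntegral Y.hom → GeometricallyConnected Y.hom :=
    fun Y _ => ⟨fun L _ y Z fst snd h =>
      have hZ : IrreducibleSpace Z := GeometricallyIrreducible.geometrically_irreducibleSpace y fst snd h
      show ConnectedSpace Z from inferInstance⟩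
  haveI := hgc _ ‹GeometricallyIntegral ((SGA7.genFib R K).obj N).hom›
  haveI := hgc _ ‹GeometricallyIntegral ((SGA7.genFib R K).obj N').hom›
  have hsurj : Surjective ((SGA7.genFib R K).map u).left :=
    ((S18385.result _ _ ((SGA7.genFib R K).map u) fun s => by rw [hfib, hfib]; exact hdim)).1 inferInstance
  refine ⟨hsurj, fun M i hi => ?_⟩
  haveI : IsProper ((SGA7.genFib R K).map u).left := by
    haveI : IsProper (((SGA7.genFib R K).map u).left ≫ ((SGA7.genFib R K).obj N').hom) := by
      rw [Over.w]; infer_instance
    exact IsProper.of_comp ((SGA7.genFib R K).map u).left ((SGA7.genFib R K).obj N').hom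
  haveI : IsFinite ((SGA7.genFib R K).map u).left := IsFinite.of_isProper_of_locallyQuasiFinite _
  exact MorphismProperty.of_isPullback (P := @IsFinite) (AlgGrp79.isPullback_left hi) inferInstance

end Groth.Agent.S17459
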