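import Groth.Statements.S17464
import Groth.Agent.AlgGrp79.Cover
import Groth.Agent.AlgGrp79.PtsLemmas
import Groth.Agent.AlgGrp79.KernelPts
import Groth.Agent.AlgGrp79.GaTorus

set_option autoImplicit false
universe u
open CategoryTheory MonoidalCategory CartesianMonoidalCategory MonObj GrpObj AlgebraicGeometry CategoryTheory.Limits
open AlgGrp

namespace Groth.Agent.S17464
open Groth.Agent.AlgGrp79 CategoryTheory.Limits
open scoped commutatorElement

/-- Let k be an algebraically closed field, T a k-torus and U a smooth connected affine k-group scheme
of finite type with a composition series whose successive quotients are additive groups: closed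
subgroup schemes U_0 → U_1 → … → U_n = U (homomorphisms which are closed immersions, U_i ↦ U_{i+1}),
with U_0 the trivial group, U_n identified with U by an isomorphism of group schemes, and each U_i
the kernel of a flat surjective homomorphism from U_{i+1} onto the additive group. Then every
homomorphism from U to T is the trivial one. (The published statement is over an arbitrary field for
a torus and a smooth connected unipotent group, unipotent meaning that such a composition series
exists over an algebraic closure; this row states the case of an algebraically closed base field.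
The companion assertion, that homomorphisms from T to U are trivial, is an existing statement about
groups of multiplicative type.) -/
theorem result (k : Type u) [Field k] [IsAlgClosed k]
    (T U : Over (Spec (CommRingCat.of k))) [GrpObj T] [GrpObj U] (hT : Red.IsTorus T)
    [Smooth U.hom] [QuasiCompact U.hom] [ConnectedSpace ↥U.left] [IsAffine U.left]
    (n : ℕ) (Us : Fin (n + 1) → Over (Spec (CommRingCat.of k))) [∀ i, GrpObj (Us i)]
    (h0 : Red.IsTrivialGrp (Us 0))
    (e : Us (Fin.last n) ≅ U) [IsMonHom e.hom]
    (incl : ∀ i : Fin n, Us i.castSucc ⟶ Us i.succ) [∀ i, IsMonHom (incl i)]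
    [∀ i, IsClosedImmersion (incl i).left]
    (quot : ∀ i : Fin n, Us i.succ ⟶ Red.Ga (Spec (CommRingCat.of k))) [∀ i, IsMonHom (quot i)]
    [∀ i, Surjective (quot i).left] [∀ i, Flat (quot i).left]
    (hker : ∀ i : Fin n, AlgGrp.IsKernel (incl i) (quot i))
    (f : U ⟶ T) [IsMonHom f] :
    f = 1 := by
  have hlft : ∀ i, LocallyOfFiniteType (Us i).hom := by
    intro i
    induction i using Fin.reverseInduction with
    | last =>
      have : IsIso e.hom.left := inferInstanceAs (IsIso ((Over.forget _).map e.hom))
      rw [← Over.w e.hom]; infer_instance
    | cast i ih => rw [← Over.w (incl i)]; infer_instance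
  have main : ∀ (i : Fin (n + 1)) (g : Us i ⟶ T), IsMonHom g → g = 1 := by
    intro i
    induction i using Fin.induction with
    | zero =>
      intro g _
      have : IsIso (Us 0).hom := h0
      have hη : toUnit (Us 0) ≫ η[Us 0] = 𝟙 _ := by
        ext : 1
        rw [← cancel_mono (Us 0).hom, Over.w, Over.w]
      rw [← Category.id_comp g, ← hη, Category.assoc, IsMonHom.one_hom, Hom.one_def]
    | succ i ih =>
      intro g _
      have hcov : IsCov (quot i) := by
        have := hlft i.succ
        have := Groth.Agent.RedPts82.relDim_ga (S := Spec (CommRingCat.of k))
        have : Smooth (Red.Ga (Spec (CommRingCat.of k))).hom := SmoothOfRelativeDimension.smooth 1 _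
        exact isCov_of_flat_surjective (quot i)
      have h1 : incl i ≫ g = 1 := ih (incl i ≫ g) inferInstance
      obtain ⟨v, hv⟩ := hcov.desc g (fun X a b hab => by
        obtain ⟨m, hm⟩ := exists_ker_of_comp_eq (quot i) (incl i) (hker i) a b hab
        have h2 := congrArg (fun z => z ≫ g) hm
        simp only [Category.assoc, h1, MonObj.comp_one] at h2
        rw [mul_comp', GrpObj.inv_comp, inv_mul_eq_one] at h2
        exact h2)
      have hv0 : η[Red.Ga (Spec (CommRingCat.of k))] ≫ v = η[T] := by
        rw [← IsMonHom.one_hom (f := quot i), Category.assoc, hv, IsMonHom.one_hom]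
      rw [← hv, ga_to_torus_eq_one hT v hv0, MonObj.comp_one]
  have h := main (Fin.last n) (e.hom ≫ f) inferInstance
  rw [← e.inv_hom_id_assoc f, h, MonObj.comp_one]
end Groth.Agent.S17464
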