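import Mathlib
import Groth.Statements.S17466

set_option autoImplicit false
universe u v
open BigOperators
open NRGIT

namespace Groth.Agent.S17466

theorem result
    {R : Type u} {A : Type v} [CommRing R] [CommRing A] [Algebra R A]
    (𝒜 : ℕ → Submodule R A) [GradedAlgebra 𝒜]
    {n : ℕ} (σ : Fin n → A) (hσ : ∀ i, σ i ∈ 𝒜 1) {s : ℕ} (hs : 0 < s)
    (hgen : ∀ i, Algebra.adjoin (𝒜 0)
      {z : HomogeneousLocalization.Away 𝒜 (σ i) |
        ∃ f ∈ 𝒜 s, z.val = Localization.mk f ⟨σ i ^ s, Submonoid.pow_mem _ (Submonoid.mem_powers (σ i)) s⟩} = ⊤)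
    (K : Fin n → ℕ) (hK : ∑ i, K i = s) :
    Algebra.adjoin (𝒜 0)
      {z : HomogeneousLocalization.Away 𝒜 (∏ i, σ i ^ K i) |
        ∃ f ∈ 𝒜 s, z.val = Localization.mk f ⟨∏ i, σ i ^ K i, Submonoid.mem_powers _⟩} = ⊤ := by
  classical
  let P : ℕ → Submodule R A := fun N => 𝒜 0 * (𝒜 s) ^ N
  have hP0 : 𝒜 0 * 𝒜 0 ≤ 𝒜 0 := Submodule.mul_le.2 fun a ha c hc => by simpa using SetLike.mul_mem_graded ha hc
  have hPmul : ∀ {M N : ℕ} {a c : A}, a ∈ P M → c ∈ P N → a * c ∈ P (M + N) := by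
    intro M N a c ha hc
    have h := Submodule.mul_mem_mul ha hc
    have h' : P M * P N ≤ P (M + N) := by
      show 𝒜 0 * 𝒜 s ^ M * (𝒜 0 * 𝒜 s ^ N) ≤ 𝒜 0 * 𝒜 s ^ (M + N)
      rw [mul_mul_mul_comm, ← pow_add]
      exact mul_le_mul' hP0 le_rfl
    exact h' h
  have hPs : ∀ {a : A}, a ∈ 𝒜 s → a ∈ P 1 := fun {a} ha => by
    rw [← one_mul a]
    exact Submodule.mul_mem_mul (SetLike.one_mem_graded 𝒜) (by rwa [pow_one])
  have hPone : ∀ {a : A}, a ∈ 𝒜 0 → a ∈ P 0 := fun {a} ha => by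
    rw [← mul_one a]
    exact Submodule.mul_mem_mul ha (by rw [pow_zero]; exact Submodule.one_le.1 le_rfl)
  have hPpow : ∀ {a : A}, a ∈ 𝒜 s → ∀ N, a ^ N ∈ P N := fun {a} ha N => by
    rw [← one_mul (a ^ N)]
    exact Submodule.mul_mem_mul (SetLike.one_mem_graded 𝒜) (Submodule.pow_mem_pow _ ha N)
  have hσs : ∀ i, σ i ^ s ∈ 𝒜 s := fun i => by
    simpa using SetLike.pow_mem_graded s (hσ i)
  -- some power of each `σ i` moves a homogeneous element into `P`
  have hmove : ∀ i, ∀ M, ∀ h ∈ 𝒜 (s * M), ∃ a, (σ i ^ s) ^ a * h ∈ P (M + a) := by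
    intro i M h hh
    let z : HomogeneousLocalization.Away 𝒜 (σ i) :=
      HomogeneousLocalization.Away.mk 𝒜 (hσ i) (s * M) h (by simpa using hh)
    have hz : z ∈ Algebra.adjoin (𝒜 0) {z : HomogeneousLocalization.Away 𝒜 (σ i) |
        ∃ f ∈ 𝒜 s, z.val = Localization.mk f ⟨σ i ^ s, Submonoid.pow_mem _ (Submonoid.mem_powers (σ i)) s⟩} := by
      rw [hgen i]; trivial
    suffices H : ∀ x : HomogeneousLocalization.Away 𝒜 (σ i), x ∈ Algebra.adjoin (𝒜 0) {z : HomogeneousLocalization.Away 𝒜 (σ i) |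
        ∃ f ∈ 𝒜 s, z.val = Localization.mk f ⟨σ i ^ s, Submonoid.pow_mem _ (Submonoid.mem_powers (σ i)) s⟩} →
        ∃ N, ∃ p ∈ P N, algebraMap A _ ((σ i ^ s) ^ N) * x.val = algebraMap A (Localization (Submonoid.powers (σ i))) p by
      obtain ⟨N, p, hp, he⟩ := H z hz
      rw [HomogeneousLocalization.Away.val_mk, Localization.mk_eq_mk'] at he
      have he2 : algebraMap A (Localization (Submonoid.powers (σ i))) ((σ i ^ s) ^ N * h) =
          algebraMap A _ ((σ i ^ s) ^ M * p) := by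
        have hsp := IsLocalization.mk'_spec (Localization (Submonoid.powers (σ i))) h ⟨σ i ^ (s * M), pow_mem (Submonoid.mem_powers _) _⟩
        rw [map_mul, map_mul, ← hsp, ← he, ← pow_mul (σ i) s M]
        ring
      obtain ⟨⟨_, c, rfl⟩, hc⟩ := (IsLocalization.eq_iff_exists (Submonoid.powers (σ i)) _).1 he2
      refine ⟨c + N, ?_⟩
      obtain ⟨t, ht⟩ : ∃ t, c * s = c + t := ⟨c * s - c, by
        have := Nat.le_mul_of_pos_right c hs; omega⟩
      have hcm : (σ i ^ s) ^ c * ((σ i ^ s) ^ N * h) = (σ i ^ s) ^ c * ((σ i ^ s) ^ M * p) := by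
        rw [← pow_mul, mul_comm s c, ht, pow_add, mul_comm (σ i ^ c) (σ i ^ t), mul_assoc, mul_assoc, hc]
      rw [pow_add, mul_assoc, hcm, ← mul_assoc, ← pow_add, show M + (c + N) = c + M + N by omega]
      exact hPmul (hPpow (hσs i) _) hp
    intro x hx
    induction hx using Algebra.adjoin_induction with
    | mem x hx =>
      obtain ⟨f, hf, hv⟩ := hx
      refine ⟨1, f, hPs hf, ?_⟩
      rw [hv, Localization.mk_eq_mk', pow_one]
      exact IsLocalization.mk'_spec' _ f ⟨σ i ^ s, _⟩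
    | algebraMap a =>
      refine ⟨0, a, hPone a.2, ?_⟩
      rw [pow_zero, map_one, one_mul]
      rfl
    | add x y _ _ hx hy =>
      obtain ⟨N, p, hp, hpe⟩ := hx
      obtain ⟨M', q, hq, hqe⟩ := hy
      refine ⟨N + M', p * (σ i ^ s) ^ M' + (σ i ^ s) ^ N * q,
        add_mem (hPmul hp (hPpow (hσs i) _)) (hPmul (hPpow (hσs i) _) hq), ?_⟩
      rw [map_add, map_mul, map_mul, ← hpe, ← hqe, HomogeneousLocalization.val_add, pow_add, map_mul]
      ring
    | mul x y _ _ hx hy =>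
      obtain ⟨N, p, hp, hpe⟩ := hx
      obtain ⟨M', q, hq, hqe⟩ := hy
      refine ⟨N + M', p * q, hPmul hp hq, ?_⟩
      rw [map_mul, ← hpe, ← hqe, HomogeneousLocalization.val_mul, pow_add, map_mul]
      ring
  have hprod : (∏ i, σ i ^ K i) ∈ 𝒜 s := by
    rw [← hK]
    refine SetLike.prod_mem_graded 𝒜 K (fun i => σ i ^ K i) (fun i _ => ?_)
    simpa using SetLike.pow_mem_graded (K i) (hσ i)
  obtain ⟨i₀, hi₀⟩ : ∃ i, 0 < K i := by
    by_contra hno
    push Not at hno
    rw [Finset.sum_eq_zero (fun i _ => Nat.le_zero.1 (hno i))] at hK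
    omega
  have hdeg1 : ∀ N (a : A), a ∈ (𝒜 1) ^ (s * N) → a ∈ P N := by
    intro N a ha
    rw [← one_mul a]
    refine Submodule.mul_mem_mul (SetLike.one_mem_graded 𝒜) ?_
    rw [pow_mul] at ha
    refine (pow_le_pow_left' ?_ N : (𝒜 1 ^ s) ^ N ≤ (𝒜 s) ^ N) ha
    clear ha
    suffices ∀ j, (𝒜 1) ^ j ≤ 𝒜 j from this s
    intro j
    induction j with
    | zero => rw [pow_zero]; exact Submodule.one_le.2 (SetLike.one_mem_graded 𝒜)
    | succ j ih =>
      rw [pow_succ]
      exact Submodule.mul_le.2 fun a ha c hc => SetLike.mul_mem_graded (ih ha) hc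
  rw [eq_top_iff]
  intro z _
  obtain ⟨M, f, hf, rfl⟩ := HomogeneousLocalization.Away.mk_surjective 𝒜 hprod z
  obtain ⟨a, ha⟩ := hmove i₀ M f (by simpa [mul_comm] using hf)
  let N := s * a
  have hfac : (∏ i, σ i ^ K i) ^ N * f ∈ P (M + N) := by
    have h1 : (∏ i, σ i ^ K i) ^ N = (σ i₀ ^ s) ^ a * (σ i₀ ^ (K i₀ * N - s * a) * ∏ i ∈ Finset.univ.erase i₀, σ i ^ (K i * N)) := by
      rw [← mul_assoc, ← pow_mul, ← pow_add, Nat.add_sub_cancel' (Nat.le_mul_of_pos_left _ hi₀), ← Finset.prod_pow]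
      simp only [← pow_mul]
      rw [Finset.mul_prod_erase Finset.univ (fun i => σ i ^ (K i * N)) (Finset.mem_univ i₀)]
    rw [h1, mul_comm ((σ i₀ ^ s) ^ a) _, mul_assoc, show M + N = (N - a) + (M + a) by
      have : a ≤ N := Nat.le_mul_of_pos_left _ hs
      omega]
    refine hPmul (hdeg1 _ _ ?_) ha
    have e : s * (N - a) = (K i₀ * N - s * a) + ∑ i ∈ Finset.univ.erase i₀, K i * N := by
      have h2 : K i₀ * N + ∑ i ∈ Finset.univ.erase i₀, K i * N = s * N := by
        rw [Finset.add_sum_erase Finset.univ (fun i => K i * N) (Finset.mem_univ i₀), ← Finset.sum_mul, hK]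
      have h3 : s * a ≤ K i₀ * N := Nat.le_mul_of_pos_left _ hi₀
      rw [Nat.mul_sub]
      omega
    rw [e, pow_add]
    refine Submodule.mul_mem_mul (Submodule.pow_mem_pow _ (hσ i₀) _) ?_
    generalize Finset.univ.erase i₀ = S
    induction S using Finset.induction_on with
    | empty => rw [Finset.prod_empty, Finset.sum_empty, pow_zero]; exact Submodule.one_le.1 le_rfl
    | @insert x T hx ih =>
      rw [Finset.prod_insert hx, Finset.sum_insert hx, pow_add]
      exact Submodule.mul_mem_mul (Submodule.pow_mem_pow _ (hσ x) _) ih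
  -- elements of `P` give elements of the algebra generated
  let S := Algebra.adjoin (𝒜 0) {z : HomogeneousLocalization.Away 𝒜 (∏ i, σ i ^ K i) |
        ∃ f ∈ 𝒜 s, z.val = Localization.mk f ⟨∏ i, σ i ^ K i, Submonoid.mem_powers _⟩}
  have hS : ∀ L, ∀ p ∈ P L, ∃ w ∈ S, algebraMap A _ ((∏ i, σ i ^ K i) ^ L) * w.val =
      algebraMap A (Localization (Submonoid.powers (∏ i, σ i ^ K i))) p := by
    intro L p hp
    induction hp using Submodule.mul_induction_on' with
    | mem_mul_mem c hc q hq =>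
      have hq' : ∃ w ∈ S, algebraMap A _ ((∏ i, σ i ^ K i) ^ L) * w.val =
          algebraMap A (Localization (Submonoid.powers (∏ i, σ i ^ K i))) q := by
        induction L generalizing q with
        | zero =>
          rw [pow_zero, Submodule.mem_one] at hq
          obtain ⟨r, rfl⟩ := hq
          refine ⟨algebraMap (𝒜 0) _ ⟨algebraMap R A r, SetLike.algebraMap_mem_graded 𝒜 r⟩, Subalgebra.algebraMap_mem _ _, ?_⟩
          rw [pow_zero, map_one, one_mul]
          rfl
        | succ L ih =>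
          rw [pow_succ] at hq
          induction hq using Submodule.mul_induction_on' with
          | mem_mul_mem x hx y hy =>
            obtain ⟨w, hw, hwe⟩ := ih x hx
            let w' : HomogeneousLocalization.Away 𝒜 (∏ i, σ i ^ K i) :=
              HomogeneousLocalization.Away.mk 𝒜 hprod 1 y (by simpa using hy)
            refine ⟨w * w', mul_mem hw (Algebra.subset_adjoin ⟨y, hy, ?_⟩), ?_⟩
            · simp [w', HomogeneousLocalization.Away.val_mk]
            · rw [HomogeneousLocalization.val_mul, HomogeneousLocalization.Away.val_mk, Localization.mk_eq_mk', map_mul, ← hwe,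
                pow_succ, map_mul, ← IsLocalization.mk'_spec' (Localization (Submonoid.powers (∏ i, σ i ^ K i))) y ⟨(∏ i, σ i ^ K i) ^ 1, pow_mem (Submonoid.mem_powers _) _⟩]
              simp only [pow_one]
              ring
          | add x _ y _ hx hy =>
            obtain ⟨w, hw, hwe⟩ := hx
            obtain ⟨w', hw', hwe'⟩ := hy
            exact ⟨w + w', add_mem hw hw', by rw [HomogeneousLocalization.val_add, mul_add, hwe, hwe', map_add]⟩
      obtain ⟨w, hw, hwe⟩ := hq'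
      refine ⟨algebraMap (𝒜 0) _ ⟨c, hc⟩ * w, mul_mem (Subalgebra.algebraMap_mem _ _) hw, ?_⟩
      rw [HomogeneousLocalization.val_mul, map_mul, ← hwe]
      rw [show (algebraMap (𝒜 0) (HomogeneousLocalization.Away 𝒜 (∏ i, σ i ^ K i)) ⟨c, hc⟩).val = algebraMap A _ c from rfl]
      ring
    | add x _ y _ hx hy =>
      obtain ⟨w, hw, hwe⟩ := hx
      obtain ⟨w', hw', hwe'⟩ := hy
      exact ⟨w + w', add_mem hw hw', by rw [HomogeneousLocalization.val_add, mul_add, hwe, hwe', map_add]⟩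
  obtain ⟨w, hw, hwe⟩ := hS _ _ hfac
  suffices HomogeneousLocalization.Away.mk 𝒜 hprod M f hf = w by rw [this]; exact hw
  apply HomogeneousLocalization.val_injective
  rw [HomogeneousLocalization.Away.val_mk, Localization.mk_eq_mk']
  refine (IsLocalization.map_units _ (⟨(∏ i, σ i ^ K i) ^ (M + N), pow_mem (Submonoid.mem_powers _) _⟩ : Submonoid.powers (∏ i, σ i ^ K i))).mul_left_cancel ?_
  rw [hwe]
  change algebraMap A _ ((∏ i, σ i ^ K i) ^ (M + N)) * _ = _
  rw [map_mul, pow_add, map_mul,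
    ← IsLocalization.mk'_spec' (Localization (Submonoid.powers (∏ i, σ i ^ K i))) f ⟨(∏ i, σ i ^ K i) ^ M, pow_mem (Submonoid.mem_powers _) _⟩]
  ring

end Groth.Agent.S17466
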