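import Mathlib
import Groth.Statements.S17468

set_option autoImplicit false
universe u v w
open LieRep

namespace Groth.Agent.S17468

theorem sum_sq (n : ℕ) (k : Type*) [Field k] [CharZero k] :
    ∑ i ∈ Finset.range (n + 1), ((n : k) - 2 * i) ^ 2 = 2 * (((n + 1 + 1).choose 3 : ℕ) : k) := by
  have h1 : ∀ m : ℕ, 6 * (∑ i ∈ Finset.range (m + 1), (i : k) ^ 2) = m * (m + 1) * (2 * m + 1) := by
    intro m
    induction m with
    | zero => simp
    | succ m ih => rw [Finset.sum_range_succ, mul_add, ih]; push_cast; ring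
  have h2 : ∀ m : ℕ, 2 * (∑ i ∈ Finset.range (m + 1), (i : k)) = m * (m + 1) := by
    intro m
    induction m with
    | zero => simp
    | succ m ih => rw [Finset.sum_range_succ, mul_add, ih]; push_cast; ring
  have h3 : ∀ m : ℕ, 6 * (((m + 1 + 1).choose 3 : ℕ) : k) = (m + 2) * (m + 1) * m := by
    intro m
    induction m with
    | zero => simp
    | succ m ih =>
      rw [Nat.choose_succ_succ' (m + 2) 2, Nat.cast_add, mul_add, ih, Nat.cast_choose_two]
      push_cast; ring
  have h : ∑ i ∈ Finset.range (n + 1), ((n : k) - 2 * i) ^ 2 =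
      (n + 1) * (n : k) ^ 2 - 4 * n * (∑ i ∈ Finset.range (n + 1), (i : k)) +
        4 * ∑ i ∈ Finset.range (n + 1), (i : k) ^ 2 := by
    rw [Finset.mul_sum, Finset.mul_sum, Finset.sum_congr rfl fun (i : ℕ) (_ : i ∈ Finset.range (n + 1)) =>
      show ((n : k) - 2 * i) ^ 2 = (n : k) ^ 2 - 4 * n * i + 4 * (i : k) ^ 2 by ring,
      Finset.sum_add_distrib, Finset.sum_sub_distrib, Finset.sum_const, Finset.card_range, nsmul_eq_mul]
    push_cast; ring
  apply mul_left_cancel₀ (show (6 : k) ≠ 0 by norm_num)
  rw [h]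
  linear_combination (4 : k) * h1 n - 12 * (n : k) * h2 n - 2 * h3 n

theorem trace_irreducible {k : Type u} [Field k] [IsAlgClosed k] [CharZero k]
    {L : Type v} [LieRing L] [LieAlgebra k L] {h e f : L} (t : IsSl2Triple h e f)
    (hspan : t.toLieSubalgebra k = ⊤)
    (W : Type w) [AddCommGroup W] [Module k W] [LieRingModule L W] [LieModule k L W]
    [FiniteDimensional k W] [LieModule.IsIrreducible k L W] :
    LinearMap.trace k W ((LieModule.toEnd k L W h) ^ 2) =
      2 * (((Module.finrank k W + 1).choose 3 : ℕ) : k) := by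
  classical
  haveI : Nontrivial W := LieModule.nontrivial_of_isIrreducible k L W
  -- a primitive vector
  haveI : FiniteDimensional k L := by
    haveI : Module.Finite k (Submodule.span k ({e, f, h} : Set L)) :=
      FiniteDimensional.span_of_finite k (Set.toFinite _)
    refine Module.Finite.of_surjective
      ((Submodule.span k ({e, f, h} : Set L)).subtype) (fun x => ⟨⟨x, ?_⟩, rfl⟩)
    exact (hspan ▸ trivial : x ∈ t.toLieSubalgebra k)
  obtain ⟨μ, m, hm, P⟩ := IsSl2Triple.exists_hasPrimitiveVectorWith (R := k) (M := W) t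
  obtain ⟨n, hn⟩ := P.exists_nat
  set ψ : ℕ → W := fun i => ((LieModule.toEnd k L W f) ^ i) m with hψ
  let s : Fin (n + 1) → W := fun i => ψ i
  have hh : ∀ i, ⁅h, ψ i⁆ = ((n : k) - 2 * i) • ψ i := fun i => by rw [P.lie_h_pow_toEnd_f i, hn]
  have hzero : ψ (n + 1) = 0 := P.pow_toEnd_f_eq_zero_of_eq_nat hn
  have hli : LinearIndependent k s := by
    refine Module.End.eigenvectors_linearIndependent' (LieModule.toEnd k L W h)
      (fun i : Fin (n + 1) => (n : k) - 2 * (i : ℕ)) (fun a b hab => ?_) s (fun i => ⟨?_, ?_⟩)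
    · exact Fin.ext (Nat.cast_injective (mul_left_cancel₀ two_ne_zero (sub_right_injective hab)))
    · rw [Module.End.mem_eigenspace_iff]; exact hh i
    · exact P.pow_toEnd_f_ne_zero_of_eq_nat hn (Nat.lt_succ_iff.mp i.isLt)
  set S : Submodule k W := Submodule.span k (Set.range s)
  have hmem : ∀ i, ψ i ∈ S ∨ n + 1 ≤ i := fun i => by
    rcases le_or_gt (n + 1) i with hi | hi
    · exact Or.inr hi
    · exact Or.inl (Submodule.subset_span ⟨⟨i, hi⟩, rfl⟩)
  have hstab : ∀ x ∈ ({e, f, h} : Set L), ∀ w ∈ S, ⁅x, w⁆ ∈ S := by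
    intro x hx w hw
    induction hw using Submodule.span_induction with
    | zero => simp
    | add a b _ _ ha hb => rw [lie_add]; exact add_mem ha hb
    | smul c a _ ha => rw [lie_smul]; exact S.smul_mem c ha
    | mem a ha =>
      obtain ⟨⟨i, hi⟩, rfl⟩ := ha
      rcases hx with rfl | rfl | rfl
      · cases i with
        | zero =>
          show ⁅x, ψ 0⁆ ∈ S
          rw [show ψ 0 = m from rfl, P.lie_e]; exact zero_mem _
        | succ i =>
          show ⁅x, ψ (i + 1)⁆ ∈ S
          rw [P.lie_e_pow_succ_toEnd_f i]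
          exact S.smul_mem _ (Submodule.subset_span ⟨⟨i, by omega⟩, rfl⟩)
      · show ⁅x, ψ i⁆ ∈ S
        rw [P.lie_f_pow_toEnd_f i]
        rcases hmem (i + 1) with h' | h'
        · exact h'
        · show ψ (i + 1) ∈ S
          rw [show i + 1 = n + 1 by omega, hzero]; exact zero_mem _
      · show ⁅x, ψ i⁆ ∈ S
        rw [hh i]; exact S.smul_mem _ (Submodule.subset_span ⟨⟨i, hi⟩, rfl⟩)
  have hall : ∀ x : L, ∀ w ∈ S, ⁅x, w⁆ ∈ S := by
    intro x w hw
    have hx : x ∈ Submodule.span k ({e, f, h} : Set L) := (hspan ▸ trivial : x ∈ t.toLieSubalgebra k)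
    induction hx using Submodule.span_induction with
    | zero => simp
    | add a b _ _ ha hb => rw [add_lie]; exact add_mem ha hb
    | smul c a _ ha => rw [smul_lie]; exact S.smul_mem c ha
    | mem a ha => exact hstab a ha w hw
  let N : LieSubmodule k L W := { toSubmodule := S, lie_mem := fun {x w} hw => hall x w hw }
  have htop : S = ⊤ := by
    rcases eq_bot_or_eq_top N with hN | hN
    · exfalso
      have hmS : m ∈ N := Submodule.subset_span ⟨0, rfl⟩
      rw [hN] at hmS
      exact hm ((LieSubmodule.mem_bot _).mp hmS)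
    · simpa [N] using congrArg LieSubmodule.toSubmodule hN
  let b := Module.Basis.mk hli htop.ge
  rw [show Module.finrank k W = n + 1 by rw [Module.finrank_eq_card_basis b, Fintype.card_fin],
    ← sum_sq n k, LinearMap.trace_eq_matrix_trace k b, Matrix.trace,
    ← Fin.sum_univ_eq_sum_range (fun i => ((n : k) - 2 * i) ^ 2) (n + 1)]
  refine Finset.sum_congr rfl fun i _ => ?_
  rw [Matrix.diag_apply, LinearMap.toMatrix_apply, pow_two, Module.End.mul_apply,
    show b i = ψ i from Module.Basis.mk_apply _ _ i, LieModule.toEnd_apply_apply, LieModule.toEnd_apply_apply,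
    hh, lie_smul, hh, smul_smul, map_smul, show ψ i = b i from (Module.Basis.mk_apply hli htop.ge i).symm,
    b.repr_self]
  simp [pow_two]

theorem result
    (k : Type u) [Field k] [IsAlgClosed k] [CharZero k]
    (L : Type v) [LieRing L] [LieAlgebra k L]
    (h e f : L) (t : IsSl2Triple h e f) (hspan : t.toLieSubalgebra k = ⊤)
    (V : Type w) [AddCommGroup V] [Module k V] [LieRingModule L V] [LieModule k L V]
    [FiniteDimensional k V]
    (ι : Type) [Fintype ι] [DecidableEq ι] (W : ι → LieSubmodule k L V)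
    (hW : DirectSum.IsInternal fun i => (W i).toSubmodule)
    (hirr : ∀ i, LieModule.IsIrreducible k L (W i)) :
    LinearMap.trace k V ((LieModule.toEnd k L V h) ^ 2) =
      2 * ∑ i, (((Module.finrank k (W i) + 1).choose 3 : ℕ) : k) := by
  have hf : ∀ i, Set.MapsTo (((LieModule.toEnd k L V h : Module.End k V) ^ 2 : Module.End k V))
      ((W i).toSubmodule : Set V) ((W i).toSubmodule : Set V) := by
    intro i v hv
    show ((LieModule.toEnd k L V h) ^ 2) v ∈ (W i).toSubmodule
    rw [pow_two]
    exact (W i).lie_mem ((W i).lie_mem hv)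
  rw [LinearMap.trace_eq_sum_trace_restrict hW hf, Finset.mul_sum]
  refine Finset.sum_congr rfl fun i _ => ?_
  haveI := hirr i
  haveI : FiniteDimensional k (W i) := inferInstanceAs (FiniteDimensional k (W i).toSubmodule)
  rw [← trace_irreducible t hspan (W i)]
  congr 1

end Groth.Agent.S17468
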