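import Groth.Statements.S17469
import Mathlib.AlgebraicGeometry.FunctionField
import Mathlib.RingTheory.IntegralClosure.IntegrallyClosed

set_option autoImplicit false
universe u
open CategoryTheory AlgebraicGeometry
open Variety

namespace Groth.Agent.S17469


set_option backward.isDefEq.respectTransparency false

open TopologicalSpace

/-- Let X be a locally Noetherian integral scheme all of whose local rings are integrally closed domains
and U an open subset of X. A section of O_X over U that is integral over the ring of global sections
of X, the latter acting through restriction, is itself the restriction of a global section. (The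
published lemma is stated for an irreducible normal variety and for the graded ring of sections over
U of all non-negative powers of a line bundle, integral over the corresponding ring of sections over
X; for the trivial line bundle its homogeneous components are the present statement, which is made
here for any locally Noetherian normal integral scheme.) -/
theorem result
    (X : Scheme.{u}) [AlgebraicGeometry.IsIntegral X] [IsLocallyNoetherian X]
    (hX : Pi1.IsNormalScheme X) (U : X.Opens) (b : Γ(X, U))
    (hb : (X.presheaf.map (homOfLE le_top : U ⟶ ⊤).op).hom.IsIntegralElem b) :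
    b ∈ Set.range (X.presheaf.map (homOfLE le_top : U ⟶ ⊤).op).hom := by
  by_cases hU : (U : Set X).Nonempty
  swap
  · have hbot : U = ⊥ := Opens.ext (Set.not_nonempty_iff_eq_empty.1 hU)
    subst hbot
    exact ⟨0, Subsingleton.elim _ _⟩
  have hηU : genericPoint X ∈ U := (genericPoint_spec X).mem_open_set_iff U.2 |>.2 (by simpa using hU)
  let β : X.functionField := X.presheaf.germ U (genericPoint X) hηU b
  have hx : ∀ x : X, ∃ (V : X.Opens) (hxV : x ∈ V) (hηV : genericPoint X ∈ V) (s : Γ(X, V)),
      X.presheaf.germ V (genericPoint X) hηV s = β := by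
    intro x
    obtain ⟨_, _⟩ := hX x
    have hint : IsIntegral (X.presheaf.stalk x) β := by
      obtain ⟨P, hP, hPb⟩ := hb
      refine ⟨P.map (X.presheaf.germ ⊤ x trivial).hom, hP.map _, ?_⟩
      rw [Polynomial.eval₂_map]
      have h1 : (algebraMap (X.presheaf.stalk x) X.functionField).comp (X.presheaf.germ ⊤ x trivial).hom =
          ((X.presheaf.germ U (genericPoint X) hηU).hom).comp (X.presheaf.map (homOfLE le_top : U ⟶ ⊤).op).hom := by
        ext t
        show X.presheaf.stalkSpecializes _ (X.presheaf.germ ⊤ x trivial t) =
          X.presheaf.germ U _ hηU (X.presheaf.map _ t)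
        rw [TopCat.Presheaf.germ_res_apply, TopCat.Presheaf.germ_stalkSpecializes_apply]
      rw [h1, ← Polynomial.hom_eval₂, hPb, map_zero]
    obtain ⟨t, ht⟩ := IsIntegrallyClosed.isIntegral_iff.1 hint
    obtain ⟨V, hxV, s, rfl⟩ := X.presheaf.exists_germ_eq t
    have hηV : genericPoint X ∈ V := ((genericPoint_spec X).specializes trivial).mem_open V.2 hxV
    refine ⟨V, hxV, hηV, s, ?_⟩
    rw [← ht]
    exact (TopCat.Presheaf.germ_stalkSpecializes_apply X.presheaf hxV _ s).symm
  choose V hxV hηV s hs using hx
  have hcov : iSup V = ⊤ := eq_top_iff.2 fun x _ => Opens.mem_iSup.2 ⟨x, hxV x⟩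
  have hcompat : TopCat.Presheaf.IsCompatible X.sheaf.obj V s := by
    intro i j
    apply germ_injective_of_isIntegral X (U := V i ⊓ V j) (genericPoint X) ⟨hηV i, hηV j⟩
    show X.presheaf.germ _ _ _ (X.presheaf.map (Opens.infLELeft (V i) (V j)).op (s i)) =
      X.presheaf.germ _ _ _ (X.presheaf.map (Opens.infLERight (V i) (V j)).op (s j))
    rw [TopCat.Presheaf.germ_res_apply, TopCat.Presheaf.germ_res_apply, hs, hs]
  obtain ⟨g, hg, -⟩ := X.sheaf.existsUnique_gluing' V ⊤ (fun i => homOfLE le_top) hcov.ge s hcompat
  refine ⟨g, germ_injective_of_isIntegral X (genericPoint X) hηU ?_⟩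
  rw [TopCat.Presheaf.germ_res_apply]
  refine Eq.trans ?_ (hs (genericPoint X))
  have h := hg (genericPoint X)
  rw [← h]
  exact (TopCat.Presheaf.germ_res_apply X.presheaf _ _ _ g).symm

end Groth.Agent.S17469
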