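import Groth.Statements.S17471
import Groth.Agent.Roots36.Highest

set_option autoImplicit false
universe u v w x
open RootCh

namespace Groth.Agent.S17471

/-- Let Φ be a finite, reduced, crystallographic, irreducible root system with a base, and θ a positive
root such that θ + β is a root for no positive root β (so θ is the highest root). Then Σ_{β>0} ⟨β,
θ^∨⟩² = 2 + Σ_{β>0} ⟨β, θ^∨⟩ = 2(1 + ⟨ρ, θ^∨⟩), ρ being half the sum of the positive roots; in the
source the left side is the index of the adjoint representation obtained from its formal character,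
and 1 + ⟨ρ, θ^∨⟩ is the dual Coxeter number. -/
theorem result
    {ι : Type u} {R : Type v} {M : Type w} {N : Type x}
    [Field R] [LinearOrder R] [IsStrictOrderedRing R]
    [AddCommGroup M] [Module R M] [AddCommGroup N] [Module R N] [Fintype ι]
    (P : RootPairing ι R M N) [P.IsRootSystem] [P.IsCrystallographic] [P.IsReduced]
    [P.IsIrreducible] (b : P.Base) (θ : ι) (hθ : b.IsPos θ)
    (hmax : ∀ i : ι, b.IsPos i → P.root θ + P.root i ∉ Set.range P.root) :
    ∑ i ∈ Finset.univ.filter (fun i => 0 < b.height i), P.pairing i θ ^ 2 =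
      2 + ∑ i ∈ Finset.univ.filter (fun i => 0 < b.height i), P.pairing i θ := by
  classical
  have hΔ := Roots36.base_isSimpleSys b
  have hθ' : Roots36.IsMaximal P b.support θ :=
    ⟨(Roots36.isPos_iff_posOf b θ).mp hθ, fun i hi => hmax i ((Roots36.isPos_iff_posOf b i).mpr hi)⟩
  have hmem : θ ∈ Finset.univ.filter (fun i => 0 < b.height i) := by simpa using (RootPairing.Base.isPos_iff (b := b)).mp hθ
  rw [← Finset.add_sum_erase _ _ hmem, ← Finset.add_sum_erase _ (fun i => P.pairing i θ) hmem]
  have h : ∀ i ∈ (Finset.univ.filter (fun i => 0 < b.height i)).erase θ,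
      P.pairing i θ ^ 2 = P.pairing i θ := fun i hi => by
    simp only [Finset.mem_erase, Finset.mem_filter, Finset.mem_univ, true_and] at hi
    rcases Roots36.pairingIn_zero_or_one b hθ' ((Roots36.isPos_iff_posOf b i).mp hi.2) hi.1 with e | e <;>
      simp [Roots36.pairing_eq_cast, e]
  rw [Finset.sum_congr rfl h, RootPairing.pairing_same]
  ring

end Groth.Agent.S17471
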