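import Groth.Statements.S17472
import Groth.Agent.Comod33.CartierReduced
import Mathlib

set_option autoImplicit false
universe u
open HopfAlg

namespace Groth.Agent.S17472

open Groth.Agent.Comod33

theorem result (k : Type u) [Field k] [IsAlgClosed k]
    (A : Type u) [CommRing A] [HopfAlgebra k A] [Algebra.FiniteType k A]
    (hconn : ∀ e : A, IsIdempotentElem e → e = 0 ∨ e = 1) :
    (⨅ n : ℕ, RingHom.ker (Bialgebra.counitAlgHom k A) ^ n) = ⊥ := by
  classical
  haveI : IsNoetherianRing A := Algebra.FiniteType.isNoetherianRing k A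
  haveI : IsJacobsonRing A := isJacobsonRing_of_finiteType (A := k)
  set m : Ideal A := RingHom.ker (Bialgebra.counitAlgHom k A) with hm
  haveI hmmax : m.IsMaximal := RingHom.ker_isMaximal_of_surjective _ fun c =>
    ⟨algebraMap k A c, by simp⟩
  -- associated primes are permuted by automorphisms
  have hass : ∀ (e : A ≃ₐ[k] A) (P : Ideal A), P ∈ associatedPrimes A A →
      P.comap e ∈ associatedPrimes A A := by
    intro e P hP
    rw [AssociatedPrimes.mem_iff, isAssociatedPrime_iff] at hP ⊢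
    obtain ⟨hPp, x, hx⟩ := hP
    haveI := hPp
    refine ⟨Ideal.comap_isPrime e P, e.symm x, ?_⟩
    ext a
    rw [Ideal.mem_comap, hx, Submodule.mem_colon_singleton, Submodule.mem_colon_singleton,
      Submodule.mem_bot, Submodule.mem_bot, smul_eq_mul, smul_eq_mul]
    conv_rhs => rw [← map_eq_zero_iff e e.injective, map_mul, AlgEquiv.apply_symm_apply]
  -- translations are transitive on maximal ideals
  have htr : ∀ M M' : Ideal A, M.IsMaximal → M'.IsMaximal → ∃ e : A ≃ₐ[k] A, M'.comap e = M := by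
    intro M M' hM hM'
    obtain ⟨g, rfl⟩ := Aug.exists_point_ker (k := k) M
    obtain ⟨g', rfl⟩ := Aug.exists_point_ker (k := k) M'
    refine ⟨(Aug.translEquiv g).trans (Aug.translEquiv g').symm, ?_⟩
    ext a
    rw [Ideal.mem_comap, RingHom.mem_ker, RingHom.mem_ker]
    have h1 : ∀ (g : A →ₐ[k] k) b, CoalgebraStruct.counit (R := k) (Aug.translEquiv g b) = g b :=
      fun g b => Aug.counit_transl g b
    rw [← h1 g' _, AlgEquiv.trans_apply, AlgEquiv.apply_symm_apply, h1]
  -- a minimal prime and a maximal ideal containing only this associated prime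
  obtain ⟨P0, hP0⟩ := Ideal.nonempty_minimalPrimes (I := (⊥ : Ideal A))
    (fun h => hmmax.ne_top (eq_top_mono bot_le h))
  haveI := hP0.1.1
  have hfin := associatedPrimes.finite A A
  let c : A := ∏ Q ∈ hfin.toFinset.filter (fun Q => ¬ Q ≤ P0),
    (if h : ¬ Q ≤ P0 then (SetLike.not_le_iff_exists.mp h).choose else 1)
  have hc : c ∉ P0 := by
    intro h
    rw [Ideal.IsPrime.prod_mem_iff] at h
    obtain ⟨Q, hQ, hmem⟩ := h
    have hQ' := (Finset.mem_filter.mp hQ).2
    rw [dif_pos hQ'] at hmem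
    exact (SetLike.not_le_iff_exists.mp hQ').choose_spec.2 hmem
  obtain ⟨M0, ⟨hle0, hM0⟩, hcM⟩ : ∃ M, (P0 ≤ M ∧ M.IsMaximal) ∧ c ∉ M := by
    by_contra! hcon
    refine hc ?_
    rw [← (IsJacobsonRing.out inferInstance (Ideal.IsPrime.isRadical inferInstance) : P0.jacobson = P0)]
    exact Ideal.mem_sInf.mpr fun {M} hM => hcon M hM
  have hM0u : ∀ Q ∈ associatedPrimes A A, Q ≤ M0 → Q = P0 := by
    intro Q hQ hQM
    by_cases h : Q ≤ P0
    · haveI := hQ.1
      exact le_antisymm h (hP0.2 ⟨hQ.1, bot_le⟩ h)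
    · refine absurd (hQM ?_) hcM
      rw [show c = _ from (Finset.mul_prod_erase _ _
        (Finset.mem_filter.mpr ⟨hfin.mem_toFinset.mpr hQ, h⟩)).symm]
      refine Q.mul_mem_right _ ?_
      rw [dif_pos h]
      exact (SetLike.not_le_iff_exists.mp h).choose_spec.1
  have huniq : ∀ (M : Ideal A), M.IsMaximal → ∀ P ∈ associatedPrimes A A, ∀ Q ∈ associatedPrimes A A,
      P ≤ M → Q ≤ M → P = Q := by
    intro M hM P hP Q hQ hPM hQM
    obtain ⟨e, he⟩ := htr M0 M hM0 hM
    have h : P.comap e = Q.comap e :=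
      (hM0u _ (hass e P hP) (he ▸ Ideal.comap_mono hPM)).trans
        (hM0u _ (hass e Q hQ) (he ▸ Ideal.comap_mono hQM)).symm
    exact Ideal.comap_injective_of_surjective _ e.surjective h
  have hminass : ∀ Q ∈ minimalPrimes A, Q ∈ associatedPrimes A A := fun Q hQ =>
    Module.associatedPrimes.minimalPrimes_annihilator_subset_associatedPrimes A A
      (by rw [Module.annihilator_eq_bot.mpr inferInstance]; exact hQ)
  have hP0a : P0 ∈ associatedPrimes A A := hminass P0 hP0
  -- connectedness: there is only one associated prime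
  have honly : ∀ Q ∈ associatedPrimes A A, Q = P0 := by
    let U : Set (PrimeSpectrum A) := PrimeSpectrum.zeroLocus (P0 : Set A)
    let V : Set (PrimeSpectrum A) :=
      ⋃ Q ∈ {Q | Q ∈ associatedPrimes A A ∧ Q ≠ P0}, PrimeSpectrum.zeroLocus (Q : Set A)
    have hUV : Uᶜ = V := by
      ext x
      simp only [U, V, Set.mem_compl_iff, PrimeSpectrum.mem_zeroLocus, Set.mem_iUnion, Set.mem_ofPred_eq,
        SetLike.coe_subset_coe, exists_prop]
      constructor
      · intro hx
        obtain ⟨Q, hQ, hQx⟩ := Ideal.exists_minimalPrimes_le (I := (⊥ : Ideal A)) (J := x.asIdeal) bot_le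
        exact ⟨Q, ⟨hminass Q hQ, fun h => hx (h ▸ hQx)⟩, hQx⟩
      · rintro ⟨Q, ⟨hQ, hne⟩, hQx⟩ hx
        obtain ⟨M, hM, hxM⟩ := Ideal.exists_le_maximal _ x.isPrime.ne_top
        exact hne (huniq M hM Q hQ P0 hP0a (hQx.trans hxM) (hx.trans hxM))
    have hcl : IsClopen U := by
      refine ⟨PrimeSpectrum.isClosed_zeroLocus _, ?_⟩
      rw [← isClosed_compl_iff, hUV]
      exact (hfin.subset fun Q hQ => hQ.1).isClosed_biUnion fun Q _ => PrimeSpectrum.isClosed_zeroLocus _
    obtain ⟨e, he, hU⟩ := PrimeSpectrum.isClopen_iff.mp hcl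
    have hmem : (⟨P0, inferInstance⟩ : PrimeSpectrum A) ∈ U := by simp [U, PrimeSpectrum.mem_zeroLocus]
    intro Q hQ
    by_contra hne
    haveI := hQ.1
    obtain ⟨M, hM, hQM⟩ := Ideal.exists_le_maximal Q (Ideal.IsPrime.ne_top inferInstance)
    have hnot : (⟨M, hM.isPrime⟩ : PrimeSpectrum A) ∉ U := fun h =>
      hne (huniq M hM Q hQ P0 hP0a hQM h)
    rcases hconn e he with rfl | rfl <;> simp [hU] at hmem hnot
  rw [eq_bot_iff]
  intro a ha
  by_contra ha0
  obtain ⟨⟨r, hr⟩, hra⟩ := (Ideal.mem_iInf_smul_pow_eq_bot_iff (M := A) m a).1 (by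
    simpa [Submodule.mem_iInf, smul_eq_mul, Ideal.mul_top] using ha)
  obtain ⟨P, hP, hle⟩ := exists_le_isAssociatedPrime_of_isNoetherianRing A a (by simpa using ha0)
  have hPm : P ≤ m := by
    rw [honly P hP]
    obtain ⟨Q, hQ, hQm⟩ := Ideal.exists_minimalPrimes_le (I := (⊥ : Ideal A)) (J := m) bot_le
    rwa [honly Q (hminass Q hQ)] at hQm
  have h1 : (1 - r) ∈ m := hPm (hle (by
    rw [Submodule.mem_colon_singleton, Submodule.mem_bot, sub_smul, one_smul]
    exact sub_eq_zero.mpr hra.symm))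
  exact hmmax.ne_top ((Ideal.eq_top_iff_one _).mpr (by simpa using m.add_mem h1 hr))

end Groth.Agent.S17472
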