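import Groth.Statements.S17476
import Groth.Agent.CAlg4.ReducedCurve
import Groth.Agent.Omega57.Pull
import Groth.Agent.QC70.FiniteType
import Groth.Agent.QC70.Res

set_option autoImplicit false
universe u
open CategoryTheory AlgebraicGeometry Opposite
open Coh

namespace Groth.Agent.S17476

set_option backward.isDefEq.respectTransparency.types false
open CategoryTheory AlgebraicGeometry TopologicalSpace Opposite Groth.Agent.QC70

variable {R : CommRingCat.{u}}

/-- Hartogs extension for a normal Noetherian domain. -/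
theorem bijective_res_of_height [IsDomain R] [IsNoetherianRing R] [IsIntegrallyClosed R]
    (U : (Spec R).Opens) (h : ∀ p : PrimeSpectrum R, p ∉ U → (2 : ℕ∞) ≤ p.asIdeal.height) :
    Function.Bijective ((Spec R).presheaf.map (homOfLE (le_top : U ≤ ⊤)).op) := by
  let g0 : PrimeSpectrum R := ⟨⊥, Ideal.isPrime_bot⟩
  have hg0 : g0 ∈ U := by
    by_contra hc
    have h2 := h g0 hc
    rw [show g0.asIdeal.height = 0 from Ideal.height_bot] at h2
    simp at h2
  haveI : Nonempty U := ⟨⟨g0, hg0⟩⟩
  haveI : IsIntegral (Spec R) := inferInstance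
  refine ⟨map_injective_of_isIntegral (Spec R) _, fun s => ?_⟩
  obtain ⟨_, ⟨_, ⟨f, rfl⟩, rfl⟩, hgf, hfU⟩ :=
    PrimeSpectrum.isBasis_basic_opens.exists_subset_of_mem_open hg0 U.2
  have hf : f ≠ 0 := fun hf => hgf (by rw [hf]; exact zero_mem _)
  let D : (Spec R).Opens := PrimeSpectrum.basicOpen f
  have hfU' : D ≤ U := hfU
  haveI hloc : IsLocalization.Away f Γ(Spec R, D) :=
    StructureSheaf.IsLocalization.to_basicOpen R f
  obtain ⟨⟨a, ⟨_, k, rfl⟩⟩, ha⟩ := IsLocalization.surj (Submonoid.powers f)
    ((Spec R).presheaf.map (homOfLE hfU').op s)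
  obtain ⟨b, hb⟩ : f ^ k ∣ a := by
    refine Groth.Agent.CAlg4.ReducedCurve.dvd_of_forall_height_one _ _ (pow_ne_zero k hf) fun q _ hq _ => ?_
    have hqU : (⟨q, ‹_›⟩ : PrimeSpectrum R) ∈ U := by
      by_contra hc
      exact absurd (h _ hc) (by rw [hq]; simp)
    let x : PrimeSpectrum R := ⟨q, ‹_›⟩
    let S := (Spec R).presheaf.stalk x
    letI : Algebra R S := StructureSheaf.stalkAlgebra R x
    haveI : IsLocalization.AtPrime S q := StructureSheaf.IsLocalization.to_stalk R x
    let ev := (Spec R).presheaf.germ U x hqU s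
    have hD : algebraMap R S (f ^ k) * ev = algebraMap R S a := by
      let iR : R →+* Γ(Spec R, U) :=
        ((Scheme.ΓSpecIso R).inv ≫ (Spec R).presheaf.map (homOfLE (le_top : U ≤ ⊤)).op).hom
      have e1 : ∀ r : R, algebraMap R S r = (Spec R).presheaf.germ U x hqU (iR r) := fun r =>
        (congr($(StructureSheaf.algebraMap_germ U x hqU) r)).symm
      have e2 : iR (f ^ k) * s = iR a := by
        refine map_injective_of_isIntegral (H := ⟨⟨g0, hgf⟩⟩) (Spec R) (homOfLE hfU') ?_
        rw [map_mul]
        have e3 : ∀ r : R, (Spec R).presheaf.map (homOfLE hfU').op (iR r) =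
            algebraMap R Γ(Spec R, D) r := fun r => rfl
        rw [e3, e3, mul_comm]
        exact ha
      rw [e1, e1, ← map_mul, e2]
    let e : S ≃ₐ[R] Localization.AtPrime q := IsLocalization.algEquiv q.primeCompl _ _
    exact ⟨e ev, by rw [← e.commutes (f ^ k), ← map_mul, hD, e.commutes]⟩
  refine ⟨(Scheme.ΓSpecIso R).inv b, map_injective_of_isIntegral (H := ⟨⟨g0, hgf⟩⟩) (Spec R) (homOfLE hfU') ?_⟩
  have e3 : (Spec R).presheaf.map (homOfLE hfU').op ((Spec R).presheaf.map (homOfLE (le_top : U ≤ ⊤)).op
      ((Scheme.ΓSpecIso R).inv b)) = algebraMap R Γ(Spec R, D) b := rfl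
  rw [e3]
  have hu : IsUnit (algebraMap R Γ(Spec R, D) (f ^ k)) :=
    IsLocalization.map_units Γ(Spec R, D) (⟨f ^ k, k, rfl⟩ : Submonoid.powers f)
  refine hu.mul_left_cancel ?_
  rw [← map_mul, ← hb, mul_comm]
  exact ha.symm

variable (M : ModuleCat.{u} R) (U : (Spec R).Opens)

theorem injective_restrict
    (h : Function.Injective ((Spec R).presheaf.map (homOfLE (le_top : U ≤ ⊤)).op)) :
    Function.Injective (fun φ : tilde M ⟶ Coh.structureModule (Spec R) =>
      (Scheme.Modules.restrictFunctor U.ι).map φ) ∧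
    (Function.Surjective ((Spec R).presheaf.map (homOfLE (le_top : U ≤ ⊤)).op) →
      Function.Surjective (fun φ : tilde M ⟶ Coh.structureModule (Spec R) =>
        (Scheme.Modules.restrictFunctor U.ι).map φ)) := by
  let O := Coh.structureModule (Spec R)
  let adj := Scheme.Modules.restrictAdjunction U.ι
  let η := adj.unit.app O
  have hle : U.ι ''ᵁ (U.ι ⁻¹ᵁ (⊤ : (Spec R).Opens)) = U := U.ι_image_top
  have hη : ∀ x : Γ(O, ⊤), res O hle.ge (η.app ⊤ x) = res O (le_top : U ≤ ⊤) x := by
    intro x
    show res O hle.ge (res O (U.ι.image_preimage_le ⊤) x) = _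
    rw [res_res]
  have hres : ∀ x, res O hle.le (res O (le_top : U ≤ ⊤) x) = η.app ⊤ x := fun x => by
    rw [← hη]
    show res O hle.le (res O hle.ge (res O (U.ι.image_preimage_le ⊤) x)) = res O (U.ι.image_preimage_le ⊤) x
    rw [res_res, res_res]
  have hinj : Function.Injective (η.app ⊤) := fun x y hxy => by
    have h' := congrArg (res O hle.ge) hxy
    rw [hη, hη] at h'
    exact h h'
  have hnat : ∀ φ : tilde M ⟶ O, adj.homEquiv _ _ ((Scheme.Modules.restrictFunctor U.ι).map φ) = φ ≫ η :=
    fun φ => by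
      rw [Adjunction.homEquiv_unit]
      exact (adj.unit.naturality φ).symm
  constructor
  · intro φ φ' hφ
    have h' : φ ≫ η = φ' ≫ η :=
      (hnat φ).symm.trans ((congrArg (adj.homEquiv _ _) hφ).trans (hnat φ'))
    exact Groth.Agent.Omega57.hom_ext_top (isAffineOpen_top _) _ _ fun m =>
      hinj (congr((Scheme.Modules.Hom.app $h' ⊤) m))
  · intro hs ψ
    have hsurj : Function.Surjective (η.app ⊤) := fun z => by
      obtain ⟨x, hx⟩ := hs (show Γ(Spec R, U) from res O hle.ge z)
      refine ⟨(x : Γ(O, ⊤)), ?_⟩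
      rw [← hres]
      refine (congrArg (res O hle.le) (show res O (le_top : U ≤ ⊤) (x : Γ(O, ⊤)) = res O hle.ge z from hx)).trans ?_
      rw [res_res, res_self]
    haveI : IsIso ((moduleSpecΓFunctor (R := R)).map η) :=
      (ConcreteCategory.isIso_iff_bijective _).2 ⟨hinj, hsurj⟩
    let χ := adj.homEquiv _ _ ψ
    let g : M ⟶ (moduleSpecΓFunctor (R := R)).obj O :=
      (tilde.isoTop M).hom ≫ (moduleSpecΓFunctor (R := R)).map χ ≫ inv ((moduleSpecΓFunctor (R := R)).map η)
    let φ := ((tilde.adjunction (R := R)).homEquiv M O).symm g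
    refine ⟨φ, (adj.homEquiv _ _).injective ?_⟩
    rw [hnat]
    refine Groth.Agent.Omega57.hom_ext_top (isAffineOpen_top _) _ _ fun m => ?_
    obtain ⟨m₀, rfl⟩ := (ConcreteCategory.bijective_of_isIso (tilde.toOpen M ⊤)).2 m
    have h1 : (tilde.adjunction (R := R)).homEquiv M O φ = g := Equiv.apply_symm_apply _ _
    rw [Adjunction.homEquiv_unit] at h1
    show η.app ⊤ (φ.app ⊤ (tilde.toOpen M ⊤ m₀)) = χ.app ⊤ (tilde.toOpen M ⊤ m₀)
    rw [show φ.app ⊤ (tilde.toOpen M ⊤ m₀) = g m₀ from congr($h1 m₀)]
    have h2 : g ≫ (moduleSpecΓFunctor (R := R)).map η =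
        (tilde.isoTop M).hom ≫ (moduleSpecΓFunctor (R := R)).map χ := by simp [g]
    exact congr($h2 m₀)

/-- Let R be a Noetherian ring, Z = Spec R, M a finitely generated R-module with associated
quasi-coherent sheaf M~ (so that Hom_R(M, R) = Hom_Z(M~, O_Z)), and Z₀ ⊆ Z an open subscheme. (1) If
the restriction of functions Γ(Z, O_Z) → Γ(Z₀, O_Z) is injective, then the restriction map Hom_Z(M~,
O_Z) → Hom_{Z₀}(M~|Z₀, O_{Z₀}) is injective. (2) If R is an integrally closed domain and the closed
complement of Z₀ has codimension at least 2 (every prime ideal outside Z₀ has height at least 2),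
then that restriction map is bijective. (The published first assertion assumes only that Z₀ is
dense; for R = k[x,y]/(x², xy), M = R and Z₀ the locus y ≠ 0, which is dense, multiplication by x is
a nonzero element of Hom_R(M, R) restricting to zero, so schematic density is what is needed and
what the printed argument uses. The published second assertion is for a normal irreducible affine
variety; any Noetherian integrally closed domain is allowed here.) -/
theorem result (R : Type u) [CommRing R] [IsNoetherianRing R]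
    (M : ModuleCat.{u} (CommRingCat.of R)) [Module.Finite R M] (U : (Spec (CommRingCat.of R)).Opens) :
    (Function.Injective ((Spec (CommRingCat.of R)).presheaf.map (homOfLE (le_top : U ≤ ⊤)).op) →
      Function.Injective (fun φ : AlgebraicGeometry.tilde M ⟶ Coh.structureModule (Spec (CommRingCat.of R)) =>
        (Scheme.Modules.restrictFunctor U.ι).map φ)) ∧
    (IsDomain R → IsIntegrallyClosed R → (∀ p : PrimeSpectrum R, p ∉ U → (2 : ℕ∞) ≤ p.asIdeal.height) →
      Function.Bijective (fun φ : AlgebraicGeometry.tilde M ⟶ Coh.structureModule (Spec (CommRingCat.of R)) =>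
        (Scheme.Modules.restrictFunctor U.ι).map φ)) := by
  refine ⟨fun h => (injective_restrict M U h).1, fun h1 h2 h3 => ?_⟩
  haveI : IsDomain (CommRingCat.of R) := h1
  haveI : IsIntegrallyClosed (CommRingCat.of R) := h2
  haveI : IsNoetherianRing (CommRingCat.of R) := ‹IsNoetherianRing R›
  have hb := bijective_res_of_height (R := CommRingCat.of R) U h3
  exact ⟨(injective_restrict M U hb.1).1, (injective_restrict M U hb.1).2 hb.2⟩

end Groth.Agent.S17476
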