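import Groth.Statements.S17482
import Groth.Agent.Surf15.Conn
import Groth.Agent.Var76.HHPush
import Groth.Agent.VarCurve.AlgClosedConst
import Groth.Agent.Crv77.IdealSeq
import Groth.Agent.Ci77.Basic
import Groth.Agent.Curves2.ProjLineProper

set_option autoImplicit false
universe u
open CategoryTheory CategoryTheory.Limits AlgebraicGeometry
open Surf

namespace Groth.Agent.S17482

/-- Let k be an algebraically closed field of characteristic zero and X a smooth projective surface over
k (an integral scheme of dimension two with all local rings regular, admitting a closed immersion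
into some P^n_k over k) such that H^1(X, O_X) = 0. Let D be a nonempty closed subscheme of X, given
by a quasi-coherent ideal sheaf whose associated O_X-module I_D is invertible (a nonzero effective
divisor). If H^1(X, I_D) = 0, then D is connected. (The published statement is for rational
surfaces; this row assumes only H^1(X, O_X) = 0. Since H^1(X, I_D) depends only on the isomorphism
class of I_D, the same holds for every effective divisor linearly equivalent to D.) -/
theorem result
    (k : Type u) [Field k] [IsAlgClosed k] [CharZero k]
    (X : Scheme.{u}) [X.Over (Spec (CommRingCat.of k))] [AlgebraicGeometry.IsIntegral X]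
    (hdim : topologicalKrullDim X = 2) (hreg : ∀ x : X, IsRegularLocalRing (X.presheaf.stalk x))
    (hproj : ∃ (n : ℕ) (ι : X ⟶ CohB1.ProjSpace n k), IsClosedImmersion ι ∧
      ι ≫ CohB1.ProjSpace.toSpec n k = (X ↘ (Spec (CommRingCat.of k))))
    (hH1 : Subsingleton (Coh.HH X (Coh.structureModule X) 1))
    (D : X.IdealSheafData) (hD : PicF.IsInvertible (ClSub.idealMod D)) (hne : Nonempty ↥D.subscheme)
    (hvan : Subsingleton (Coh.HH X (ClSub.idealMod D) 1)) :
    ConnectedSpace ↥D.subscheme := by
  obtain ⟨n, ι, hι, hιs⟩ := hproj
  haveI : IsProper (X ↘ (Spec (CommRingCat.of k))) := by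
    haveI := hι
    haveI : IsProper (CohB1.ProjSpace.toSpec n k) := Curves2.ProjLine.isProper_toSpec k n
    rw [← hιs]; infer_instance
  haveI := Crv77.isNoetherian_of_proper k X
  letI : D.subscheme.Over (Spec (CommRingCat.of k)) := ⟨D.subschemeι ≫ (X ↘ Spec (CommRingCat.of k))⟩
  haveI : IsProper (D.subscheme ↘ (Spec (CommRingCat.of k))) :=
    inferInstanceAs (IsProper (D.subschemeι ≫ (X ↘ (Spec (CommRingCat.of k)))))
  haveI : IsLocallyNoetherian D.subscheme := LocallyOfFiniteType.isLocallyNoetherian D.subschemeι
  haveI := (Crv77.isCoh_structureModule (X := D.subscheme)).1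
  obtain ⟨e⟩ := Var76.nonempty_hhLin_push D.subschemeι (rfl : _ = D.subscheme ↘ (Spec (CommRingCat.of k)))
    (Coh.structureModule D.subscheme) (Crv77.isCoh_quotMod D).1 0
  have hS := Crv77.idealSeq_shortExact D
  have h0X : Module.finrank k (Coh.HH X (Coh.structureModule X) 0) = 1 := VarCurve.finrank_h0_eq_one k X
  haveI : Module.Finite k (Coh.HH X (Coh.structureModule X) 0) :=
    Serre71.finite_hh_of_isProper k _ Crv77.isCoh_structureModule 0
  have hsurj : Function.Surjective (Crv77.hmap k (Crv77.idealSeq D).g 0) := fun y =>
    ((Crv77.exact_g_δ k hS 0) y).1 (Subsingleton.elim (h := hvan) _ _)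
  refine Surf15.connectedSpace_of_finrank_le_one k D.subscheme ?_
  rw [← e.finrank_eq, ← h0X]
  exact LinearMap.finrank_le_finrank_of_surjective hsurj


end Groth.Agent.S17482
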