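import Groth.Statements.S17483
import Groth.Agent.Surf15.Conn
import Groth.Agent.Var76.HHPush
import Groth.Agent.VarCurve.AlgClosedConst
import Groth.Agent.Crv77.IdealSeq
import Groth.Agent.Ci77.Basic
import Groth.Agent.Curves2.ProjLineProper

set_option autoImplicit false
universe u
open CategoryTheory CategoryTheory.Limits AlgebraicGeometry
open Surf

namespace Groth.Agent.S17483

/-- Let k be an algebraically closed field of characteristic zero and X a smooth projective surface over
k (an integral scheme of dimension two with all local rings regular, admitting a closed immersion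
into some P^n_k over k) such that H^1(X, O_X) = 0. Let D be a closed subscheme of X, given by a
quasi-coherent ideal sheaf whose associated O_X-module I_D is invertible (an effective divisor). If
D is connected and reduced, then H^1(X, I_D) = 0. (The published statement asserts H^1(X, I_D) = 0
as soon as the linear system of D contains a connected curve, without reducedness; that fails: on
the blow-up of the projective plane at a point, with exceptional curve E, the divisor D = 2E is
connected and is the only member of its linear system, yet H^0(O_{2E}) is three-dimensional, so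
H^1(X, I_{2E}) is two-dimensional. The published statement is for rational surfaces; this row
assumes H^1(X, O_X) = 0 instead.) -/
theorem result
    (k : Type u) [Field k] [IsAlgClosed k] [CharZero k]
    (X : Scheme.{u}) [X.Over (Spec (CommRingCat.of k))] [AlgebraicGeometry.IsIntegral X]
    (hdim : topologicalKrullDim X = 2) (hreg : ∀ x : X, IsRegularLocalRing (X.presheaf.stalk x))
    (hproj : ∃ (n : ℕ) (ι : X ⟶ CohB1.ProjSpace n k), IsClosedImmersion ι ∧
      ι ≫ CohB1.ProjSpace.toSpec n k = (X ↘ (Spec (CommRingCat.of k))))
    (hH1 : Subsingleton (Coh.HH X (Coh.structureModule X) 1))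
    (D : X.IdealSheafData) (hD : PicF.IsInvertible (ClSub.idealMod D))
    [ConnectedSpace ↥D.subscheme] [IsReduced D.subscheme] :
    Subsingleton (Coh.HH X (ClSub.idealMod D) 1) := by
  obtain ⟨n, ι, hι, hιs⟩ := hproj
  haveI : IsProper (X ↘ (Spec (CommRingCat.of k))) := by
    haveI := hι
    haveI : IsProper (CohB1.ProjSpace.toSpec n k) := Curves2.ProjLine.isProper_toSpec k n
    rw [← hιs]; infer_instance
  haveI := Crv77.isNoetherian_of_proper k X
  letI : D.subscheme.Over (Spec (CommRingCat.of k)) := ⟨D.subschemeι ≫ (X ↘ Spec (CommRingCat.of k))⟩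
  haveI : IsProper (D.subscheme ↘ (Spec (CommRingCat.of k))) :=
    inferInstanceAs (IsProper (D.subschemeι ≫ (X ↘ (Spec (CommRingCat.of k)))))
  haveI : IsLocallyNoetherian D.subscheme := LocallyOfFiniteType.isLocallyNoetherian D.subschemeι
  haveI := (Crv77.isCoh_structureModule (X := D.subscheme)).1
  obtain ⟨e⟩ := Var76.nonempty_hhLin_push D.subschemeι (rfl : _ = D.subscheme ↘ (Spec (CommRingCat.of k)))
    (Coh.structureModule D.subscheme) (Crv77.isCoh_quotMod D).1 0
  have hS := Crv77.idealSeq_shortExact D
  have h0X : Module.finrank k (Coh.HH X (Coh.structureModule X) 0) = 1 := VarCurve.finrank_h0_eq_one k X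
  haveI : Module.Finite k (Coh.HH X (Coh.structureModule X) 0) :=
    Serre71.finite_hh_of_isProper k _ Crv77.isCoh_structureModule 0
  have hinj : Function.Injective (Crv77.hmap k (ClSub.idealModι D) 0) := Crv77.injective_f_zero k hS
  have h0D : Module.finrank k (Coh.HH X (ClSub.quotMod D) 0) = 1 := by
    refine e.finrank_eq.trans (Surf15.finrank_h0_eq_one_of_connected k D.subscheme)
  have hsurj : Function.Surjective (Crv77.hmap k (Crv77.idealSeq D).g 0) := by
    refine Surf15.surjective_of_finrank_one _ h0D fun h => ?_
    exact Surf15.toSubscheme_h0_ne_zero k D h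
  refine ⟨fun a b => ?_⟩
  obtain ⟨c, hc⟩ := (Crv77.exact_δ_f k hS 0 (a - b)).1 (Subsingleton.elim (h := hH1) _ _)
  obtain ⟨d, rfl⟩ := hsurj c
  rw [(Crv77.exact_g_δ k hS 0).apply_apply_eq_zero] at hc
  exact sub_eq_zero.1 hc.symm


end Groth.Agent.S17483
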