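import Groth.Statements.S17487
import Mathlib.Algebra.Homology.DerivedCategory.Ext.ExactSequences
import Mathlib.CategoryTheory.Preadditive.Biproducts

set_option autoImplicit false
universe u
open CategoryTheory CategoryTheory.Limits AlgebraicGeometry
open Coherent

namespace Groth.Agent.S17487

open CategoryTheory CategoryTheory.Limits Abelian in
lemma ext_coprod_subsingleton {C : Type*} [Category C] [Abelian C] [HasExt C] {m : ℕ} (F : Fin m → C)
    [HasCoproduct F] (A : C) (p : ℕ) :
    ((∀ t, Subsingleton (Ext A (F t) p)) → Subsingleton (Ext A (∐ F) p)) ∧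
    ((∀ t, Subsingleton (Ext (F t) A p)) → Subsingleton (Ext (∐ F) A p)) := by
  have := Abelian.hasFiniteBiproducts (C := C)
  have hid : 𝟙 (∐ F) = ∑ t : Fin m,
      ((biproduct.isoCoproduct F).inv ≫ biproduct.π F t) ≫
        (biproduct.ι F t ≫ (biproduct.isoCoproduct F).hom) := by
    conv_lhs => rw [← (biproduct.isoCoproduct F).inv_hom_id,
      ← Category.id_comp (biproduct.isoCoproduct F).hom, ← biproduct.total]
    rw [Preadditive.sum_comp, Preadditive.comp_sum]
    simp only [Category.assoc]
  refine ⟨fun h => subsingleton_of_forall_eq 0 fun x => ?_,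
    fun h => subsingleton_of_forall_eq 0 fun x => ?_⟩
  · rw [← x.comp_mk₀_id, hid, Ext.mk₀_sum, Ext.comp_sum]
    refine Finset.sum_eq_zero fun t _ => ?_
    rw [← Ext.mk₀_comp_mk₀, ← Ext.comp_assoc_of_second_deg_zero,
      Subsingleton.elim (x.comp (Ext.mk₀ _) (add_zero p)) 0, Ext.zero_comp]
  · rw [← x.mk₀_id_comp, hid, Ext.mk₀_sum, Ext.sum_comp]
    refine Finset.sum_eq_zero fun t _ => ?_
    rw [← Ext.mk₀_comp_mk₀, Ext.comp_assoc_of_second_deg_zero,
      Subsingleton.elim ((Ext.mk₀ _).comp x (zero_add p)) 0, Ext.comp_zero]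

/-- Let k be an algebraically closed field of characteristic zero and Y a smooth projective variety over
k (an integral scheme, smooth over k, with a closed immersion into some P^n_k over k). Let E_1, …,
E_n be coherent O_Y-modules forming a strong exceptional sequence, expressed through Ext groups in
the category of O_Y-modules (the Ext instance is the stated hypothesis; it holds): End(E_i) is
one-dimensional over k, Ext^p(E_i, E_j) = 0 for all p when i > j, and Ext^p(E_i, E_j) = 0 for all i,
j when p ≥ 1 (indices here run over 0, …, n-1). Let d ≤ n and let 0 → K → M → F → 0 be a short exact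
sequence of O_Y-modules in which K is isomorphic to a finite direct sum of copies of members E_i
with i < d and M to a finite direct sum of copies of members E_i with i ≥ d (a two-term resolution
of F by the sequence, split at d). Then Ext^p(E_i, F) = 0 for every i and every p ≥ 1, and Ext^p(F,
E_i) = 0 for every i < d and every p ≠ 1. (The published criterion also asks that the sequence
generate the derived category, states the first vanishing only for i ≥ d, and adds conditions on
terms of the associated filtration and cofiltration of F, which are not restated here; the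
vanishings above follow from the resolution alone.) -/
theorem result
    (k : Type u) [Field k] [IsAlgClosed k] [CharZero k]
    (Y : Scheme.{u}) [Y.Over (Spec (CommRingCat.of k))] [AlgebraicGeometry.IsIntegral Y]
    [Smooth (Y ↘ Spec (CommRingCat.of k))]
    (hproj : ∃ (N : ℕ) (ι : Y ⟶ CohB1.ProjSpace N k), IsClosedImmersion ι ∧
      ι ≫ CohB1.ProjSpace.toSpec N k = (Y ↘ (Spec (CommRingCat.of k))))
    [HasExt.{u} Y.Modules]
    (n d : ℕ) (hdn : d ≤ n) (E : Fin n → Y.Modules) (hEcoh : ∀ i, Coh.IsCoh (E i))
    (hend : ∀ i, Module.finrank k (E i ⟶ E i) = 1)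
    (hexc : ∀ i j : Fin n, j < i → ∀ p : ℕ, Subsingleton (Abelian.Ext (E i) (E j) p))
    (hstr : ∀ (i j : Fin n) (p : ℕ), 1 ≤ p → Subsingleton (Abelian.Ext (E i) (E j) p))
    (S : ShortComplex Y.Modules) (hS : S.ShortExact)
    (m₁ : ℕ) (c₁ : Fin m₁ → Fin n) (hc₁ : ∀ t, (c₁ t : ℕ) < d) (e₁ : S.X₁ ≅ ∐ fun t => E (c₁ t))
    (m₂ : ℕ) (c₂ : Fin m₂ → Fin n) (hc₂ : ∀ t, d ≤ (c₂ t : ℕ)) (e₂ : S.X₂ ≅ ∐ fun t => E (c₂ t)) :
    (∀ (i : Fin n) (p : ℕ), 1 ≤ p → Subsingleton (Abelian.Ext (E i) S.X₃ p)) ∧
      (∀ i : Fin n, (i : ℕ) < d → ∀ p : ℕ, p ≠ 1 → Subsingleton (Abelian.Ext S.X₃ (E i) p)) := by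
  have h1 : ∀ (A : Y.Modules) (p : ℕ), (∀ j : Fin n, Subsingleton (Abelian.Ext A (E j) p)) →
      Subsingleton (Abelian.Ext A S.X₁ p) ∧ Subsingleton (Abelian.Ext A S.X₂ p) := fun A p h =>
    ⟨(((Abelian.extFunctorObj A p).mapIso e₁).addCommGroupIsoToAddEquiv.toEquiv.subsingleton_congr).2
        ((ext_coprod_subsingleton _ A p).1 fun t => h _),
      (((Abelian.extFunctorObj A p).mapIso e₂).addCommGroupIsoToAddEquiv.toEquiv.subsingleton_congr).2
        ((ext_coprod_subsingleton _ A p).1 fun t => h _)⟩
  refine ⟨fun i p hp => subsingleton_of_forall_eq 0 fun x => ?_, fun i hi p hp => ?_⟩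
  · have := (h1 (E i) (p + 1) fun j => hstr i j (p + 1) (by omega)).1
    have := (h1 (E i) p fun j => hstr i j p hp).2
    obtain ⟨y, rfl⟩ := Abelian.Ext.covariant_sequence_exact₃ (E i) hS x rfl (Subsingleton.elim _ _)
    rw [Subsingleton.elim y 0, Abelian.Ext.zero_comp]
  · refine subsingleton_of_forall_eq 0 fun x => ?_
    have hx2 : Subsingleton (Abelian.Ext S.X₂ (E i) p) := by
      have h := (ext_coprod_subsingleton (fun t => E (c₂ t)) (E i) p).2
        fun t => hexc (c₂ t) i (Fin.lt_def.2 (lt_of_lt_of_le hi (hc₂ t))) p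
      refine subsingleton_of_forall_eq 0 fun z => ?_
      have := congrArg (fun w => (Abelian.Ext.mk₀ e₂.hom).comp w (zero_add p))
        (Subsingleton.elim ((Abelian.Ext.mk₀ e₂.inv).comp z (zero_add p)) 0)
      simpa [← Abelian.Ext.comp_assoc_of_second_deg_zero] using this
    cases p with
    | zero =>
      have h0 : (Abelian.Ext.mk₀ S.g).comp x (zero_add 0) = 0 := Subsingleton.elim _ _
      obtain ⟨φ, rfl⟩ := Abelian.Ext.addEquiv₀.symm.surjective x
      have := hS.epi_g
      simpa [← cancel_epi S.g] using h0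
    | succ q =>
      have hx1 : Subsingleton (Abelian.Ext S.X₁ (E i) q) := by
        have h := (ext_coprod_subsingleton (fun t => E (c₁ t)) (E i) q).2
          fun t => hstr (c₁ t) i q (by omega)
        refine subsingleton_of_forall_eq 0 fun z => ?_
        have := congrArg (fun w => (Abelian.Ext.mk₀ e₁.hom).comp w (zero_add q))
          (Subsingleton.elim ((Abelian.Ext.mk₀ e₁.inv).comp z (zero_add q)) 0)
        simpa [← Abelian.Ext.comp_assoc_of_second_deg_zero] using this
      obtain ⟨y, rfl⟩ := Abelian.Ext.contravariant_sequence_exact₃ hS (E i) x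
        (Subsingleton.elim _ _) (Nat.add_comm 1 q)
      rw [Subsingleton.elim y 0, Abelian.Ext.comp_zero]


end Groth.Agent.S17487
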