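import Groth.Statements.S17498
import Groth.Agent.Zeta5.SymCoprod
import Groth.Agent.Zeta5.ClSum
import Mathlib.RingTheory.PowerSeries.Basic

set_option autoImplicit false
universe u
open RelQuot

namespace Groth.Agent.S17498

open CategoryTheory CategoryTheory.Limits AlgebraicGeometry in
/-- Let k be an algebraically closed field of characteristic zero, Y a scheme of finite type over k, and
f : X → Y, f′ : X′ → Y morphisms of finite type. For every n ≥ 0 let (S_n, q_n, g_n) be an n-th
symmetric power of X over Y (q_n : X ×_Y ⋯ ×_Y X → S_n a quotient of the n-fold fibre power by the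
symmetric group permuting the factors: affine, invariant, with the sections of S_n the invariant
sections; g_n : S_n → Y its structure map, of finite type; for n = 0 this forces S_0 ≅ Y), and
likewise (S′_n, q′_n, g′_n) for X′ over Y and (T_n, Q_n, h_n) for the disjoint union X ⊔ X′ over Y
(structure map f on X and f′ on X′). Then the relative motivic zeta functions multiply: in the ring
of power series with coefficients in the Grothendieck ring of finite-type Y-schemes (multiplication
given by fibre product over Y), the series with n-th coefficient [T_n → Y] equals the product of the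
series with n-th coefficients [S_n → Y] and [S′_n → Y]. The published proposition asserts that the
motivic zeta function defines a pre-lambda structure on the whole Grothendieck ring; this row states
the multiplicativity on disjoint unions, which is the part established there, and it does not assume
f, f′ quasi-projective (that hypothesis only serves the existence of the symmetric powers, which are
taken as data here). -/
theorem result
    (k : Type u) [Field k] [IsAlgClosed k] [CharZero k] {X X' Y : Scheme.{u}}
    (pY : Y ⟶ Spec (CommRingCat.of k)) [LocallyOfFiniteType pY] [QuasiCompact pY]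
    (f : X ⟶ Y) [LocallyOfFiniteType f] [QuasiCompact f]
    (f' : X' ⟶ Y) [LocallyOfFiniteType f'] [QuasiCompact f']
    (Sy : ℕ → Scheme.{u}) (q : ∀ n, SymProd.fibPow f n ⟶ Sy n) (g : ∀ n, Sy n ⟶ Y)
    (hS : ∀ n, SymProd.IsSymProd f n (q n) (g n))
    [∀ n, LocallyOfFiniteType (g n)] [∀ n, QuasiCompact (g n)]
    (Sy' : ℕ → Scheme.{u}) (q' : ∀ n, SymProd.fibPow f' n ⟶ Sy' n) (g' : ∀ n, Sy' n ⟶ Y)
    (hS' : ∀ n, SymProd.IsSymProd f' n (q' n) (g' n))
    [∀ n, LocallyOfFiniteType (g' n)] [∀ n, QuasiCompact (g' n)]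
    (T : ℕ → Scheme.{u}) (Q : ∀ n, SymProd.fibPow (coprod.desc f f') n ⟶ T n) (h : ∀ n, T n ⟶ Y)
    (hT : ∀ n, SymProd.IsSymProd (coprod.desc f f') n (Q n) (h n))
    [∀ n, LocallyOfFiniteType (h n)] [∀ n, QuasiCompact (h n)] :
    PowerSeries.mk (fun n => K0Var.cl (h n)) =
      PowerSeries.mk (fun n => K0Var.cl (g n)) * PowerSeries.mk (fun n => K0Var.cl (g' n)) := by
  ext n
  rw [PowerSeries.coeff_mk, PowerSeries.coeff_mul]
  simp only [PowerSeries.coeff_mk]
  have hY : ∀ m : ℕ, 0 < m → IsUnit ((m : ℕ) : Γ(Y, ⊤)) := fun m hm => by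
    have h1 : IsUnit ((m : ℕ) : k) := (Nat.cast_ne_zero.mpr hm.ne').isUnit
    have h2 := h1.map (((Scheme.ΓSpecIso (CommRingCat.of k)).inv ≫ pY.appTop).hom)
    rwa [map_natCast] at h2
  obtain ⟨φ, hiso, hover⟩ := Zeta5.exists_iso_total hS hS' hY (hT n)
  have hopen : ∀ p, IsOpenImmersion (φ p) := fun p => by
    rw [← Sigma.ι_desc φ p]
    infer_instance
  have hd : Pairwise fun a b => Disjoint (Set.range (φ a)) (Set.range (φ b)) := by
    intro a b hab
    rw [Set.disjoint_left]
    rintro _ ⟨x, rfl⟩ ⟨y, hy⟩
    rw [← Sigma.ι_desc φ a, ← Sigma.ι_desc φ b, Scheme.Hom.comp_apply, Scheme.Hom.comp_apply] at hy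
    have h1 := (Sigma.desc φ).isOpenEmbedding.injective hy
    exact hab (congrArg Sigma.fst ((sigmaι_eq_iff
      (fun p : ↥(Finset.HasAntidiagonal.antidiagonal n) => pullback (g p.1.1) (g' p.1.2)) b a y x).mp h1)).symm
  have hcov : ∀ x : T n, ∃ p, x ∈ Set.range (φ p) := fun x => by
    obtain ⟨z, rfl⟩ := (Sigma.desc φ).homeomorph.surjective x
    obtain ⟨p, w, rfl⟩ := (sigmaOpenCover _).exists_eq z
    refine ⟨p, w, ?_⟩
    rw [← Sigma.ι_desc φ p, Scheme.Hom.comp_apply]
    rfl
  have hclosed : ∀ p, IsClosedImmersion (φ p) := Zeta5.isClosedImmersion_of_cover φ hd hcov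
  rw [Zeta5.cl_eq_sum (h n) φ hd hcov,
    ← Finset.sum_coe_sort (Finset.HasAntidiagonal.antidiagonal n) (fun p => K0Var.cl (g p.1) * K0Var.cl (g' p.2))]
  refine Finset.sum_congr rfl fun p _ => ?_
  rw [← K0Var.cl_mul]
  exact K0Var.cl_congr _ _ (Iso.refl _) (by rw [Iso.refl_hom, Category.id_comp, hover])


end Groth.Agent.S17498
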