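import Groth.Statements.S1750
import Groth.Agent.InjHull18.Criterion
import Groth.Agent.InjHull18.Change


set_option autoImplicit false
universe u
open InjHull

namespace Groth.Agent.S1750

/-- Let R → S be a flat local homomorphism of Noetherian local rings with m_R S = m_S inducing a
bijection on residue fields. If κ_S → E is an injective hull of the residue field of S over S, then
E regarded as an R-module is an injective hull of the residue field of R (for a suitable R-linear
map κ_R → E). -/
theorem result (R S : Type u) [CommRing R] [CommRing S] [IsLocalRing R] [IsLocalRing S] [IsNoetherianRing R] [IsNoetherianRing S] [Algebra R S] [IsLocalHom (algebraMap R S)] [Module.Flat R S] (hm : (IsLocalRing.maximalIdeal R).map (algebraMap R S) = IsLocalRing.maximalIdeal S) (hk : Function.Bijective (IsLocalRing.ResidueField.map (algebraMap R S))) (E : Type u) [AddCommGroup E] [Module S E] [Module R E] [IsScalarTower R S E] (f : IsLocalRing.ResidueField S →ₗ[S] E) (hf : InjHull.IsInjectiveHull f) : ∃ g : IsLocalRing.ResidueField R →ₗ[R] E, InjHull.IsInjectiveHull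 g := by
  let mR := IsLocalRing.maximalIdeal R
  let mS := IsLocalRing.maximalIdeal S
  have hfl : Module.Injective R E :=
    have := hf.isInjective
    InjHull18.injective_restrictScalars_of_flat (S := S) E
  have hpow : ∀ (n : ℕ) (r : R), r ∈ mR ^ n → algebraMap R S r ∈ mS ^ n := fun n r hr => by
    show _ ∈ IsLocalRing.maximalIdeal S ^ n
    rw [← hm, ← Ideal.map_pow]; exact Ideal.mem_map_of_mem _ hr
  let one' : S ⧸ mS := Ideal.Quotient.mk _ 1
  let x₀ : E := f one'
  have hx0 : x₀ ≠ 0 := fun h => by
    have h1 : one' = 0 := hf.injective (h.trans (map_zero f).symm)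
    exact (IsLocalRing.maximalIdeal.isMaximal S).ne_top
      ((Ideal.eq_top_iff_one _).2 (Ideal.Quotient.eq_zero_iff_mem.1 h1))
  have hsocle := InjHull18.torsionBy_eq_range (m := mS) (f := f) hf.toIsEssentialInj
  have hxS : x₀ ∈ LocCoh.torsionBy mS E := hsocle.ge ⟨_, rfl⟩
  refine Exists.imp (fun g h => h.1) (InjHull18.exists_hull_of_socle mR hfl (fun x => ?_) hx0
    ((Submodule.mem_torsionBySet_iff _ _).2 fun r => ?_) fun x hx => ?_)
  · obtain ⟨n, hn⟩ := InjHull18.isPowerTorsion_hull (m := mS) (f := f) hf x
    exact ⟨n, fun r hr => by rw [← algebraMap_smul S r x]; exact hn _ (hpow n r hr)⟩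
  · rw [← algebraMap_smul S r.1 x₀]
    exact (Submodule.mem_torsionBySet_iff _ _).1 hxS
      ⟨_, by simpa using hpow 1 r.1 (by simp)⟩
  · have hxS' : x ∈ LocCoh.torsionBy mS E := by
      refine (Submodule.mem_torsionBySet_iff _ _).2 fun ⟨s, hs⟩ => ?_
      suffices H : ∀ t ∈ Ideal.span (algebraMap R S '' (IsLocalRing.maximalIdeal R : Set R)), t • x = 0
          from H s (hm.ge hs)
      clear hs s
      intro s hs
      replace hs : s ∈ Ideal.span (algebraMap R S '' (IsLocalRing.maximalIdeal R : Set R)) :=
        hs
      induction hs using Submodule.span_induction with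
      | mem s hs =>
        obtain ⟨r, hr, rfl⟩ := hs
        rw [algebraMap_smul]
        exact (Submodule.mem_torsionBySet_iff _ _).1 hx ⟨r, hr⟩
      | zero => exact zero_smul _ _
      | add a b _ _ h1 h2 => exact (add_smul a b x).trans (by rw [h1, h2, add_zero])
      | smul c a _ h1 => exact (mul_smul c a x).trans (by rw [h1, smul_zero])
    obtain ⟨c, rfl⟩ := hsocle.le hxS'
    obtain ⟨c', rfl⟩ := hk.2 c
    obtain ⟨r, rfl⟩ := IsLocalRing.residue_surjective c'
    refine Submodule.mem_span_singleton.2 ⟨r, ?_⟩
    rw [← algebraMap_smul S r x₀]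
    refine (map_smul f (algebraMap R S r) one').symm.trans ?_
    congr 1
    show Submodule.Quotient.mk (algebraMap R S r * 1) = _
    rw [mul_one, IsLocalRing.ResidueField.map_residue]
    rfl

end Groth.Agent.S1750
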