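import Groth.Statements.S17500
import Mathlib

set_option autoImplicit false
universe u
open TorsMod

namespace Groth.Agent.S17500

theorem mul_pow_eq_zero_iff {p n i : ℕ} [Fact p.Prime] (hi : i ≤ n) (x : ZMod (p ^ n)) :
    (p : ZMod (p ^ n)) ^ i * x = 0 ↔ ∃ y, x = (p : ZMod (p ^ n)) ^ (n - i) * y := by
  constructor
  · intro h
    obtain ⟨z, rfl⟩ := ZMod.natCast_zmod_surjective x
    rw [← Nat.cast_pow, ← Nat.cast_mul, ZMod.natCast_eq_zero_iff] at h
    have hp : 0 < p ^ i := pow_pos (Fact.out : p.Prime).pos _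
    rw [show p ^ n = p ^ i * p ^ (n - i) by rw [← pow_add]; congr 1; omega] at h
    obtain ⟨w, hw⟩ := Nat.dvd_of_mul_dvd_mul_left hp h
    exact ⟨(w : ZMod (p ^ n)), by rw [hw, Nat.cast_mul, Nat.cast_pow]⟩
  · rintro ⟨y, rfl⟩
    rw [← mul_assoc, ← pow_add, show i + (n - i) = n by omega, ← Nat.cast_pow, ZMod.natCast_self, zero_mul]

theorem ideal_eq_span {p n : ℕ} [Fact p.Prime] (I : Ideal (ZMod (p ^ n))) :
    ∃ i ≤ n, I = Ideal.span {(p : ZMod (p ^ n)) ^ i} := by
  let f : ℤ →+* ZMod (p ^ n) := Int.castRingHom _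
  have hf : Function.Surjective f := ZMod.intCast_surjective
  obtain ⟨d, hd⟩ := Submodule.IsPrincipal.principal (I.comap f)
  have hmem : ((p ^ n : ℕ) : ℤ) ∈ I.comap f := by
    rw [Ideal.mem_comap, map_natCast, ZMod.natCast_self]
    exact I.zero_mem
  rw [hd, Ideal.submodule_span_eq, Ideal.mem_span_singleton] at hmem
  obtain ⟨i, hi, hdi⟩ := (Nat.dvd_prime_pow (Fact.out : p.Prime)).1 (Int.natAbs_dvd_natAbs.2 hmem)
  refine ⟨i, hi, ?_⟩
  rw [← Ideal.map_comap_of_surjective f hf I, hd, Ideal.submodule_span_eq, ← Ideal.span_singleton_eq_span_singleton.2 d.associated_natAbs.symm, hdi, Ideal.map_span, Set.image_singleton, map_natCast, Nat.cast_pow]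

open TensorProduct in
theorem ker_eq_range_of_flat {R : Type*} [CommRing R] (H : Type*) [AddCommGroup H] [Module R H] [Module.Flat R H]
    (a b : R) (hab : ∀ x, a * x = 0 ↔ ∃ y, x = b * y) :
    LinearMap.ker (a • (LinearMap.id : H →ₗ[R] H)) = LinearMap.range (b • (LinearMap.id : H →ₗ[R] H)) := by
  apply le_antisymm
  · intro h hh
    have hh' : a • h = 0 := hh
    have hex : Function.Exact (LinearMap.mulLeft R b) (LinearMap.mulLeft R a) := fun x =>
      ⟨fun hx => ((hab x).1 hx).imp fun y hy => hy.symm, fun ⟨y, hy⟩ => (hab x).2 ⟨y, hy.symm⟩⟩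
    have hE := Module.Flat.lTensor_exact H hex
    have h0 : (LinearMap.mulLeft R a).lTensor H (h ⊗ₜ[R] (1 : R)) = 0 := by
      rw [LinearMap.lTensor_tmul, LinearMap.mulLeft_apply, mul_one, ← mul_one a, ← smul_eq_mul, ← TensorProduct.smul_tmul, hh', TensorProduct.zero_tmul]
    obtain ⟨z, hz⟩ := (hE _).1 h0
    refine ⟨TensorProduct.rid R H z, ?_⟩
    have h1 := congrArg (TensorProduct.rid R H) hz
    rw [TensorProduct.rid_tmul, one_smul] at h1
    have : ∀ z : H ⊗[R] R, TensorProduct.rid R H ((LinearMap.mulLeft R b).lTensor H z) =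
        b • TensorProduct.rid R H z := fun z => by
      induction z using TensorProduct.induction_on with
      | zero => simp
      | tmul x y => simp [mul_smul]
      | add x y hx hy => rw [map_add, map_add, hx, hy, map_add, smul_add]
    rw [this] at h1
    exact h1
  · rintro _ ⟨y, rfl⟩
    show a • (b • y) = 0
    rw [← mul_smul, (hab b).2 ⟨1, (mul_one b).symm⟩, zero_smul]


/-- Let p be a prime number, n a natural number and H a module over ℤ/p^nℤ. Then H is flat over ℤ/p^nℤ
if and only if, for every i with 0 ≤ i ≤ n, the kernel of multiplication by p^i on H coincides with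
the image of multiplication by p^(n-i) on H. (The published item is phrased for an fppf sheaf of
ℤ/p^nℤ-modules on a scheme; this is the case of a single module, which is the case the argument
treats.) -/
theorem result (p n : ℕ) [Fact p.Prime]
    (H : Type u) [AddCommGroup H] [Module (ZMod (p ^ n)) H] :
    Module.Flat (ZMod (p ^ n)) H ↔
      ∀ i : ℕ, i ≤ n →
        LinearMap.ker ((p ^ i : ZMod (p ^ n)) • (LinearMap.id : H →ₗ[ZMod (p ^ n)] H)) =
          LinearMap.range ((p ^ (n - i) : ZMod (p ^ n)) • (LinearMap.id : H →ₗ[ZMod (p ^ n)] H)) := by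
  constructor
  · intro _ i hi
    exact ker_eq_range_of_flat H _ _ (mul_pow_eq_zero_iff hi)
  · intro h
    rw [Module.Flat.iff_lift_lsmul_comp_subtype_injective]
    intro I _
    obtain ⟨i, hi, rfl⟩ := ideal_eq_span I
    set g : Ideal.span {(p : ZMod (p ^ n)) ^ i} := ⟨_, Ideal.mem_span_singleton_self _⟩ with hg
    have hrep : ∀ z, ∃ m : H, z = g ⊗ₜ[ZMod (p ^ n)] m := fun z => by
      induction z using TensorProduct.induction_on with
      | zero => exact ⟨0, (TensorProduct.tmul_zero _ _).symm⟩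
      | tmul x y =>
        obtain ⟨c, hc⟩ := Ideal.mem_span_singleton'.1 x.2
        exact ⟨c • y, by rw [← TensorProduct.smul_tmul]; congr 1; exact Subtype.ext hc.symm⟩
      | add x y hx hy =>
        obtain ⟨m, rfl⟩ := hx
        obtain ⟨m', rfl⟩ := hy
        exact ⟨m + m', (TensorProduct.tmul_add _ _ _).symm⟩
    rw [← LinearMap.ker_eq_bot, LinearMap.ker_eq_bot']
    intro z hz
    obtain ⟨m, rfl⟩ := hrep z
    have hm : m ∈ LinearMap.ker ((p ^ i : ZMod (p ^ n)) • (LinearMap.id : H →ₗ[ZMod (p ^ n)] H)) := hz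
    rw [h i hi] at hm
    obtain ⟨m', rfl⟩ := hm
    show g ⊗ₜ[ZMod (p ^ n)] ((p ^ (n - i) : ZMod (p ^ n)) • m') = 0
    rw [← TensorProduct.smul_tmul, show (p ^ (n - i) : ZMod (p ^ n)) • g = 0 from Subtype.ext ?_, TensorProduct.zero_tmul]
    exact (mul_comm _ _).trans ((mul_pow_eq_zero_iff hi _).2 ⟨1, (mul_one _).symm⟩)

end Groth.Agent.S17500
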