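import Groth.Agent.Cube73.Semicont
import Groth.Statements.S17511
-- import your own Groth.Agent.* helpers here

set_option autoImplicit false
set_option linter.style.haveILetI false
set_option maxSynthPendingDepth 6
set_option backward.isDefEq.respectTransparency.types false
universe u
open CategoryTheory CategoryTheory.Limits MonoidalCategory CartesianMonoidalCategory MonObj GrpObj AlgebraicGeometry
open AbVar

namespace Groth.Agent.S17511

/-- In an algebraic family of line bundles the index cannot jump locally. Let X be an abelian variety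
over a field k (a proper, geometrically integral k-group scheme), let T be a locally Noetherian
k-scheme, M an invertible module on X ×_k T, and for each point t of T let M_t be the pull-back of M
to the fibre X ×_k Spec k(t). Suppose every M_t is non-degenerate, with index idx(t): H^j(X ×_k Spec
k(t), M_t) = 0 for j ≠ idx(t) and H^{idx(t)} ≠ 0. Then t ↦ idx(t) is a locally constant function on
T. (Non-degeneracy with index i is expressed by the equivalent condition that the cohomology is
concentrated in degree i and non-zero there.) -/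
theorem result
    (k : Type u) [Field k] (X : Over (Spec (CommRingCat.of k))) [GrpObj X] [IsProper X.hom] [GeometricallyIntegral X.hom]
    (T : Over (Spec (CommRingCat.of k))) [IsLocallyNoetherian T.left]
    (M : (X ⊗ T).left.Modules) (hM : PicF.IsInvertible M)
    (idx : ↥T.left → ℕ)
    (hidx : ∀ t : ↥T.left,
      (∀ j : ℕ, j ≠ idx t →
        Subsingleton (Coh.HH (pullback (snd X T).left (T.left.fromSpecResidueField t))
          ((Scheme.Modules.pullback (pullback.fst (snd X T).left (T.left.fromSpecResidueField t))).obj M) j)) ∧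
      Nontrivial (Coh.HH (pullback (snd X T).left (T.left.fromSpecResidueField t))
          ((Scheme.Modules.pullback (pullback.fst (snd X T).left (T.left.fromSpecResidueField t))).obj M) (idx t))) :
    IsLocallyConstant idx := by
  classical
  rw [IsLocallyConstant.iff_eventually_eq]
  intro t
  let π : (X ⊗ T).left ⟶ T.left := (snd X T).left
  haveI : IsProper π := inferInstanceAs (IsProper (pullback.snd X.hom T.hom))
  haveI : Flat π := inferInstanceAs (Flat (pullback.snd X.hom T.hom))
  haveI : IsLocallyNoetherian (X ⊗ T).left := LocallyOfFiniteType.isLocallyNoetherian π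
  haveI : HasInjectiveResolutions (X ⊗ T).left.Modules := inferInstance
  obtain ⟨V, hV, htV, -⟩ := exists_isAffineOpen_mem_and_subset (X := T.left) (x := t) (U := ⊤) trivial
  haveI : IsNoetherianRing Γ(T.left, V) := IsLocallyNoetherian.component_noetherian ⟨V, hV⟩
  obtain ⟨P, N, hP, hN, -, -, hfib⟩ :=
    Mum71.exists_local_model π hV M (Amp73.isCoh_of_isInvertible hM) (Cube73.isFlatOver_of_isInvertible π hM)
  -- the homology of the model vanishes beyond its bound
  have hzero : ∀ (q : ℤ) (x : PrimeSpectrum Γ(T.left, V)), q < N → CohIII.dRank P q x = 0 := fun q x hq => by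
    have hz : IsZero ((CohIII.bcCx (algebraMap Γ(T.left, V) x.asIdeal.ResidueField) P).X q) :=
      (ModuleCat.extendScalars (algebraMap Γ(T.left, V) x.asIdeal.ResidueField)).map_isZero (hN q hq)
    have hex : ((CohIII.bcCx (algebraMap Γ(T.left, V) x.asIdeal.ResidueField) P).sc q).Exact :=
      ShortComplex.exact_of_isZero_X₂ _ hz
    haveI := ModuleCat.subsingleton_of_isZero
      (HomologicalComplex.ExactAt.isZero_homology (K := CohIII.bcCx (algebraMap Γ(T.left, V) x.asIdeal.ResidueField) P) hex)
    exact Module.finrank_zero_of_subsingleton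
  let S : Set ↥V := ⋂ p ∈ ((Finset.range ((-N).toNat + 1)).erase (idx t) : Set ℕ),
    hV.isoSpec.hom ⁻¹' (CohIII.dRank P (-(p : ℤ)) ⁻¹' Set.Iio 1)
  have hS : IsOpen S := (Finset.finite_toSet _).isOpen_biInter fun p _ =>
    (hV.isoSpec.hom.continuous).isOpen_preimage _
      ((upperSemicontinuous_iff_isOpen_preimage.1 (S2380.result P hP (-(p : ℤ)))) 1)
  have htS : (⟨t, htV⟩ : ↥V) ∈ S := Set.mem_iInter₂.2 fun p hp => Nat.lt_one_iff.2
    ((hfib p t htV).2.1 ((hidx t).1 p (Finset.mem_erase.1 hp).1))
  rw [Filter.eventually_iff_exists_mem]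
  refine ⟨V.ι '' S, (V.ι.isOpenEmbedding.isOpenMap _ hS).mem_nhds ⟨_, htS, rfl⟩, ?_⟩
  rintro _ ⟨⟨s, hs⟩, hsS, rfl⟩
  show idx s = idx t
  by_contra hne
  haveI := (hidx s).2
  have hd : CohIII.dRank P (-(idx s : ℤ)) (hV.primeIdealOf ⟨s, hs⟩) ≠ 0 := fun h0 =>
    not_subsingleton_iff_nontrivial.2 (hidx s).2 ((hfib (idx s) s hs).2.2 h0)
  have hle : idx s ≤ (-N).toNat := by
    by_contra hlt
    exact hd (hzero _ _ (by omega))
  exact hd (Nat.lt_one_iff.1 (Set.mem_iInter₂.1 hsS (idx s)
    (Finset.mem_erase.2 ⟨hne, Finset.mem_range.2 (by omega)⟩)))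

end Groth.Agent.S17511
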