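import Groth.Statements.S17512
import Mathlib
import Mathlib.Tactic

set_option autoImplicit false
universe u
open ThetaRep

namespace Groth.Agent.S17512

open scoped commutatorElement

theorem cast_ne_zero_of_coprime {k : Type u} [Field k] {n : ℕ} (h0 : n ≠ 0) (h : n.Coprime (ringExpChar k)) :
    (n : k) ≠ 0 := by
  intro hn
  rcases CharP.char_is_prime_or_zero k (ringChar k) with hp | hp
  · have he : ringExpChar k = ringChar k := by rw [ringExpChar]; exact max_eq_left hp.one_lt.le
    rw [he] at h
    exact hp.coprime_iff_not_dvd.1 h.symm ((ringChar.spec k n).1 hn)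
  · haveI : CharZero k := by
      haveI : CharP k 0 := hp ▸ ringChar.charP k
      exact CharP.charP_to_charZero k
    exact h0 (Nat.cast_eq_zero.1 hn)

theorem card_perp {k : Type u} [Field k] [IsAlgClosed k] {K : Type u} [CommGroup K] [Finite K]
    (hK : (Nat.card K : k) ≠ 0) (e : K →* (K →* kˣ)) (he : ∀ x, (∀ y, e x y = 1) → x = 1)
    (he' : ∀ y, (∀ x, e x y = 1) → y = 1) (U P : Subgroup K) (hP : ∀ x, x ∈ P ↔ ∀ y ∈ U, e x y = 1) :
    Nat.card P * Nat.card U = Nat.card K := by
  have hexp : ∀ (G : Type u) [CommGroup G] [Finite G], Nat.card G ∣ Nat.card K →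
      Nat.card (G →* kˣ) = Nat.card G := by
    intro G _ _ hd
    haveI : NeZero (Monoid.exponent G : k) := ⟨fun h => hK (by
      obtain ⟨c, hc⟩ := (Group.exponent_dvd_nat_card (G := G)).trans hd
      rw [hc, Nat.cast_mul, h, zero_mul])⟩
    haveI : IsSepClosed k := inferInstance
    exact CommGroup.card_monoidHom_of_hasEnoughRootsOfUnity G k
  have hpos : 0 < Nat.card P := Nat.card_pos
  have h1 : Nat.card P ≤ U.index := by
    rw [Subgroup.index_eq_card, ← hexp (K ⧸ U) U.card_quotient_dvd_card]
    refine Nat.card_le_card_of_injective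
      (fun x : P => QuotientGroup.lift U (e x) fun y hy => (hP x).1 x.2 y hy) fun a b hab => ?_
    refine Subtype.ext (div_eq_one.1 (he _ fun y => ?_))
    have : e (a : K) y = e (b : K) y := DFunLike.congr_fun hab (QuotientGroup.mk y)
    rw [map_div, MonoidHom.div_apply, this, div_self']
  have h2 : P.index ≤ Nat.card U := by
    rw [← hexp U U.card_subgroup_dvd_card, Subgroup.index_eq_card]
    refine Nat.card_le_card_of_injective
      (QuotientGroup.lift P (MonoidHom.mk' (fun x => (e x).comp U.subtype) fun a b => by
        rw [map_mul]; rfl) fun x hx => MonoidHom.ext fun y => (hP x).1 hx y y.2) ?_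
    rw [← MonoidHom.ker_eq_bot_iff, eq_bot_iff]
    intro q hq
    induction q using QuotientGroup.induction_on with
    | _ x => exact (QuotientGroup.eq_one_iff x).2 ((hP x).2 fun y hy => DFunLike.congr_fun hq ⟨y, hy⟩)
  apply le_antisymm
  · calc Nat.card P * Nat.card U ≤ U.index * Nat.card U := Nat.mul_le_mul_right _ h1
      _ = Nat.card K := U.index_mul_card
  · calc Nat.card K = P.index * Nat.card P := P.index_mul_card.symm
      _ ≤ Nat.card U * Nat.card P := Nat.mul_le_mul_right _ h2
      _ = _ := mul_comm _ _


/-- For the group of k-points of a non-degenerate theta group with constant K, let k be an algebraically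
closed field and Γ a group given with an injective homomorphism ι from kˣ onto the centre of Γ such
that K = Γ/ι(kˣ) is finite and commutative (all commutators lie in ι(kˣ)) of order prime to the
characteristic exponent of k — the group of k-points of a non-degenerate theta group 1 → G_m → G → K
→ 1 with rank(K) prime to char(k). Subgroups of K correspond to subgroups H of Γ containing ι(kˣ);
such an H is totally isotropic for the commutator pairing exactly when it is commutative, and its
orthogonal corresponds to the centralizer of H. For a subgroup H ⊇ ι(kˣ) the following are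
equivalent: (i) H is commutative and maximal among commutative subgroups of Γ; (ii) H is commutative
and [H : ι(kˣ)]² = [Γ : ι(kˣ)]; (iii) H is its own centralizer. (The published lemma is for an
arbitrary non-degenerate theta group scheme, where (iii) ⇔ (ii) ⇒ (i) always and (i) ⇒ (iii) needs k
algebraically closed; this row is the case of the group of k-points with K constant.) -/
theorem result
    (k : Type u) [Field k] [IsAlgClosed k]
    (Γ : Type u) [Group Γ] (ι : kˣ →* Γ) (hι : Function.Injective ι)
    (hcent : ι.range = Subgroup.center Γ) (hcomm : commutator Γ ≤ ι.range)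
    [Finite (Γ ⧸ ι.range)] (hcop : (Nat.card (Γ ⧸ ι.range)).Coprime (ringExpChar k))
    (H : Subgroup Γ) (hH : ι.range ≤ H) :
    List.TFAE [
      IsMulCommutative H ∧ ∀ H' : Subgroup Γ, IsMulCommutative H' → H ≤ H' → H' = H,
      IsMulCommutative H ∧ (ι.range.relIndex H) ^ 2 = ι.range.index,
      H = Subgroup.centralizer (H : Set Γ)] := by
  classical
  set Z := ι.range with hZ
  have hz : ∀ z ∈ Z, ∀ x, x * z = z * x := fun z hzm x => Subgroup.mem_center_iff.1 (hcent ▸ hzm) x
  haveI : Z.Normal := hcent ▸ inferInstance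
  have hm : ∀ x y : Γ, ∃ u, ι u = ⁅x, y⁆ := fun x y =>
    hcomm (Subgroup.commutator_mem_commutator (Subgroup.mem_top x) (Subgroup.mem_top y))
  choose c hc using hm
  have hc1 : ∀ x y, c x y = 1 ↔ x * y = y * x := fun x y => by
    rw [← commutatorElement_eq_one_iff_mul_comm, ← hc, map_eq_one_iff ι hι]
  have hzc : ∀ x y w, w * ⁅x, y⁆ = ⁅x, y⁆ * w := fun x y w => hz _ ⟨_, hc x y⟩ w
  have hl : ∀ a b y, c (a * b) y = c a y * c b y := fun a b y => hι (by
    rw [map_mul, hc, hc, hc, show ⁅a * b, y⁆ = a * ⁅b, y⁆ * a⁻¹ * ⁅a, y⁆ by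
      simp only [commutatorElement_def]; group, hzc b y a, mul_assoc ⁅b, y⁆, mul_inv_cancel, mul_one, ← hzc b y])
  have hr : ∀ x a b, c x (a * b) = c x a * c x b := fun x a b => hι (by
    rw [map_mul, hc, hc, hc, show ⁅x, a * b⁆ = ⁅x, a⁆ * (a * ⁅x, b⁆ * a⁻¹) by
      simp only [commutatorElement_def]; group, hzc x b a, mul_assoc ⁅x, b⁆, mul_inv_cancel, mul_one])
  have hcl : ∀ z ∈ Z, ∀ y, c z y = 1 := fun z hzm y => (hc1 z y).2 (hz z hzm y).symm
  have hcr : ∀ z ∈ Z, ∀ x, c x z = 1 := fun z hzm x => (hc1 x z).2 (hz z hzm x)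
  let K := Γ ⧸ Z
  letI : CommGroup K := { (inferInstance : Group K) with
    mul_comm := fun a b => by
      induction a using QuotientGroup.induction_on with
      | _ a =>
      induction b using QuotientGroup.induction_on with
      | _ b =>
      refine QuotientGroup.eq.2 ?_
      have : (a * b)⁻¹ * (b * a) = ⁅b⁻¹, a⁻¹⁆ := by simp only [commutatorElement_def]; group
      rw [this]
      exact ⟨_, hc _ _⟩ }
  let row : Γ → (K →* kˣ) := fun x => QuotientGroup.lift Z (MonoidHom.mk' (c x) (hr x)) fun z hzm => hcr z hzm x
  let e : K →* (K →* kˣ) := QuotientGroup.lift Z (MonoidHom.mk' row fun a b => MonoidHom.ext fun y => by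
      induction y using QuotientGroup.induction_on with
      | _ y => exact hl a b y) fun z hzm => MonoidHom.ext fun y => by
      induction y using QuotientGroup.induction_on with
      | _ y => exact hcl z hzm y
  have hK0 : (Nat.card K : k) ≠ 0 := cast_ne_zero_of_coprime Nat.card_pos.ne' hcop
  have he : ∀ x, (∀ y, e x y = 1) → x = 1 := fun x h => by
    induction x using QuotientGroup.induction_on with
    | _ x => exact (QuotientGroup.eq_one_iff x).2 (hcent ▸ Subgroup.mem_center_iff.2 fun y => ((hc1 x y).1 (h y)).symm)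
  have he' : ∀ y, (∀ x, e x y = 1) → y = 1 := fun y h => by
    induction y using QuotientGroup.induction_on with
    | _ y => exact (QuotientGroup.eq_one_iff y).2 (hcent ▸ Subgroup.mem_center_iff.2 fun x => (hc1 x y).1 (h x))
  set C := Subgroup.centralizer (H : Set Γ) with hC
  let π := QuotientGroup.mk' Z
  have hZC : Z ≤ C := fun z hzm => Subgroup.mem_centralizer_iff.2 fun h _ => hz z hzm h
  have hperp : ∀ x, x ∈ C.map π ↔ ∀ y ∈ H.map π, e x y = 1 := by
    intro x
    induction x using QuotientGroup.induction_on with
    | _ x =>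
      constructor
      · rintro hx _ ⟨y, hy, rfl⟩
        have : x ∈ (C.map π).comap π := hx
        rw [Subgroup.comap_map_eq_self (by rw [QuotientGroup.ker_mk']; exact hZC)] at this
        exact (hc1 x y).2 (Subgroup.mem_centralizer_iff.1 this y hy).symm
      · intro h
        exact ⟨x, Subgroup.mem_centralizer_iff.2 fun y hy => ((hc1 x y).1 (h _ ⟨y, hy, rfl⟩)).symm, rfl⟩
  have hcard : Nat.card (C.map π) * Nat.card (H.map π) = Nat.card K := card_perp hK0 e he he' _ _ hperp
  have hrel : Z.relIndex H = Nat.card (H.map π) := by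
    rw [← Subgroup.relIndex_bot_left, ← Subgroup.relIndex_comap, MonoidHom.comap_bot, QuotientGroup.ker_mk']
  have hidx : Z.index = Nat.card K := rfl
  have hback : ∀ U : Subgroup Γ, Z ≤ U → (U.map π).comap π = U := fun U hU =>
    Subgroup.comap_map_eq_self (by rw [QuotientGroup.ker_mk']; exact hU)
  tfae_have 1 → 3 := by
    rintro ⟨hcommH, hmax⟩
    refine le_antisymm (Subgroup.le_centralizer_iff_isMulCommutative.2 hcommH) fun x hx => ?_
    have hcomm' : IsMulCommutative (Subgroup.closure (insert x (H : Set Γ))) := by
      refine Subgroup.le_centralizer_iff_isMulCommutative.1 ((Subgroup.closure_le _).2 ?_)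
      rintro a ha
      rw [SetLike.mem_coe, Subgroup.mem_centralizer_iff]
      intro b hb
      suffices hab : a ∈ Subgroup.centralizer (insert x (H : Set Γ)) from
        Subgroup.mem_centralizer_iff.1 ((Subgroup.centralizer_closure _).ge hab) b hb
      rw [Subgroup.mem_centralizer_iff]
      intro b' hb'
      rcases ha with rfl | ha <;> rcases hb' with rfl | hb'
      · rfl
      · exact Subgroup.mem_centralizer_iff.1 hx b' hb'
      · exact (Subgroup.mem_centralizer_iff.1 hx a ha).symm
      · exact Subgroup.mem_centralizer_iff.1 (Subgroup.le_centralizer_iff_isMulCommutative.2 hcommH ha) b' hb'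
    rw [← hmax _ hcomm' fun a ha => Subgroup.subset_closure (Set.mem_insert_of_mem _ ha)]
    exact Subgroup.subset_closure (Set.mem_insert _ _)
  tfae_have 3 → 1 := fun h3 => by
    refine ⟨Subgroup.le_centralizer_iff_isMulCommutative.1 h3.le, fun H' hH' hle => le_antisymm ?_ hle⟩
    exact ((Subgroup.le_centralizer_iff_isMulCommutative.2 hH').trans (Subgroup.centralizer_le hle)).trans h3.ge
  tfae_have 3 → 2 := fun h3 => by
    refine ⟨Subgroup.le_centralizer_iff_isMulCommutative.1 h3.le, ?_⟩
    rw [hrel, hidx, sq, ← hcard]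
    conv_rhs => rw [← h3]
  tfae_have 2 → 3 := by
    rintro ⟨hcommH, hsq⟩
    have hle : H ≤ C := Subgroup.le_centralizer_iff_isMulCommutative.2 hcommH
    rw [hrel, hidx, sq, ← hcard] at hsq
    have := Subgroup.eq_of_le_of_card_ge (Subgroup.map_mono (f := π) hle) (Nat.eq_of_mul_eq_mul_right Nat.card_pos hsq).ge
    rw [← hback H hH, this, hback C hZC]
  tfae_finish

end Groth.Agent.S17512
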