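import Groth.Statements.S17517
import Mathlib

set_option autoImplicit false
universe u
open GIT

open Filter Topology
set_option maxHeartbeats 1000000

namespace Groth.Agent.S17517

/-- Let `E` be a finite-dimensional real inner product space and `L` a full lattice in `E` (a discrete
subgroup spanning `E`) on which the inner product is integer valued; let `F` and `G` be nonempty
finite sets of real linear functionals on `E` taking integer values on `L`, with `f_min v = min_{f ∈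
F} f v` and `g_min v = min_{g ∈ G} g v`. If some vector `v` has `f_min v ≥ 0` and `g_min v > 0`,
then on the set `C_F` of nonzero `v` with `f_min v ≥ 0` the function `v ↦ g_min v / ‖v‖` attains a
greatest value `M`, and there is exactly one lattice vector `v₀ ∈ C_F` with `g_min v₀ / ‖v₀‖ = M` of
which every lattice vector `v ∈ C_F` with `g_min v / ‖v‖ = M` is an integer multiple. -/
theorem result
    (E : Type u) [NormedAddCommGroup E] [InnerProductSpace ℝ E] [FiniteDimensional ℝ E]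
    (L : Submodule ℤ E) [DiscreteTopology L] [IsZLattice ℝ L]
    (hint : ∀ x ∈ L, ∀ y ∈ L, ∃ n : ℤ, inner ℝ x y = (n : ℝ))
    (F G : Finset (Module.Dual ℝ E)) (hF : F.Nonempty) (hG : G.Nonempty)
    (hFi : ∀ f ∈ F, ∀ x ∈ L, ∃ n : ℤ, f x = (n : ℝ)) (hGi : ∀ g ∈ G, ∀ x ∈ L, ∃ n : ℤ, g x = (n : ℝ))
    (hpos : ∃ v : E, 0 ≤ F.inf' hF (fun f => f v) ∧ 0 < G.inf' hG (fun g => g v)) :
    ∃ M : ℝ, IsGreatest ((fun v => G.inf' hG (fun g => g v) / ‖v‖) ''
        {v : E | v ≠ 0 ∧ 0 ≤ F.inf' hF (fun f => f v)}) M ∧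
      ∃! v₀ : E, v₀ ∈ L ∧ v₀ ≠ 0 ∧ 0 ≤ F.inf' hF (fun f => f v₀) ∧
        G.inf' hG (fun g => g v₀) / ‖v₀‖ = M ∧
        ∀ v ∈ L, v ≠ 0 → 0 ≤ F.inf' hF (fun f => f v) → G.inf' hG (fun g => g v) / ‖v‖ = M →
          ∃ n : ℤ, v = n • v₀ := by
  classical
  let P : Set E := {v | (∀ f ∈ F, 0 ≤ f v) ∧ ∀ g ∈ G, 1 ≤ g v}
  obtain ⟨w, hwF, hwG⟩ := hpos
  rw [Finset.le_inf'_iff] at hwF
  set m₀ := G.inf' hG fun g => g w with hm₀
  have hwP : m₀⁻¹ • w ∈ P := ⟨fun f hf => by
      rw [map_smul]; exact mul_nonneg (inv_nonneg.mpr hwG.le) (hwF f hf), fun g hg => by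
      rw [map_smul, smul_eq_mul, ← inv_mul_cancel₀ hwG.ne']
      exact mul_le_mul_of_nonneg_left (Finset.inf'_le _ hg) (inv_nonneg.mpr hwG.le)⟩
  have hPc : IsClosed P := by
    simp only [P, Set.ext_iff, Set.setOf_and, Set.setOf_forall]
    exact (isClosed_biInter fun f _ => isClosed_le continuous_const (LinearMap.continuous_of_finiteDimensional f)).inter
      (isClosed_biInter fun f _ => isClosed_le continuous_const (LinearMap.continuous_of_finiteDimensional f))
  have : ProperSpace E := FiniteDimensional.proper ℝ E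
  obtain ⟨p, hp, hdist⟩ := hPc.exists_infDist_eq_dist ⟨_, hwP⟩ (0 : E)
  have hmin : ∀ v ∈ P, ‖p‖ ≤ ‖v‖ := fun v hv => by
    have := hdist ▸ Metric.infDist_le_dist_of_mem (x := (0 : E)) hv
    simpa [dist_eq_norm] using this
  have hp0 : p ≠ 0 := fun h => by
    obtain ⟨g, hg⟩ := hG
    have := hp.2 g hg
    simp [h] at this
    linarith
  have hpn : 0 < ‖p‖ := norm_pos_iff.mpr hp0
  -- uniqueness of the nearest point
  have huniq : ∀ v ∈ P, ‖v‖ ≤ ‖p‖ → v = p := by
    intro v hv hle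
    have hm : (2 : ℝ)⁻¹ • (v + p) ∈ P := ⟨fun f hf => by
        rw [map_smul, map_add, smul_eq_mul]; have := hv.1 f hf; have := hp.1 f hf; linarith, fun g hg => by
        rw [map_smul, map_add, smul_eq_mul]; have := hv.2 g hg; have := hp.2 g hg; linarith⟩
    have h1 := hmin _ hm
    rw [norm_smul, Real.norm_of_nonneg (by norm_num : (0 : ℝ) ≤ 2⁻¹)] at h1
    have h2 := parallelogram_law_with_norm ℝ v p
    have h4 : ‖v‖ = ‖p‖ := le_antisymm hle (hmin v hv)
    have h3 : ‖v - p‖ * ‖v - p‖ ≤ 0 := by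
      nlinarith [norm_nonneg (v + p)]
    exact sub_eq_zero.mp (norm_eq_zero.mp (by nlinarith [norm_nonneg (v - p)]))
  -- rationality
  obtain ⟨N, hN, hNp⟩ : ∃ N : ℤ, 0 < N ∧ (N : ℝ) • p ∈ L := by
    let AF := F.filter fun f => f p = 0
    let AG := G.filter fun g => g p = 1
    let A := ↥AF ⊕ ↥AG
    let a : A → Module.Dual ℝ E := Sum.elim (fun f => f.1) (fun g => g.1)
    let c : A → ℚ := Sum.elim (fun _ => 0) (fun _ => 1)
    have hac : ∀ i, a i p = (c i : ℝ) := by
      rintro (⟨f, hf⟩ | ⟨g, hg⟩)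
      · simpa [a, c] using (Finset.mem_filter.mp hf).2
      · simpa [a, c] using (Finset.mem_filter.mp hg).2
    have hai : ∀ i, ∀ x ∈ L, ∃ n : ℤ, a i x = (n : ℝ) := by
      rintro (⟨f, hf⟩ | ⟨g, hg⟩)
      · exact hFi f (Finset.mem_filter.mp hf).1
      · exact hGi g (Finset.mem_filter.mp hg).1
    have hker : (innerSL ℝ p).toLinearMap ∈ Submodule.span ℝ (Set.range a) := by
      refine mem_span_of_iInf_ker_le_ker fun z hz => ?_
      rw [Submodule.mem_iInf] at hz
      simp only [LinearMap.mem_ker] at hz ⊢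
      show inner ℝ p z = 0
      have hev : ∀ᶠ t : ℝ in 𝓝 0, p + t • z ∈ P := by
        simp only [P, Set.mem_setOf_eq, eventually_and, Finset.eventually_all]
        refine ⟨fun f hf => ?_, fun g hg => ?_⟩
        · by_cases h : f p = 0
          · refine Eventually.of_forall fun t => ?_
            have := hz (Sum.inl ⟨f, Finset.mem_filter.mpr ⟨hf, h⟩⟩)
            simp [a] at this
            simp [h, this]
          · have hc : Continuous fun t : ℝ => f (p + t • z) :=
              (LinearMap.continuous_of_finiteDimensional f).comp (by fun_prop)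
            filter_upwards [hc.tendsto' 0 (f p) (by simp) |>.eventually_const_lt (lt_of_le_of_ne (hp.1 f hf) (Ne.symm h))]
              with t ht using ht.le
        · by_cases h : g p = 1
          · refine Eventually.of_forall fun t => ?_
            have := hz (Sum.inr ⟨g, Finset.mem_filter.mpr ⟨hg, h⟩⟩)
            simp [a] at this
            simp [h, this]
          · have hc : Continuous fun t : ℝ => g (p + t • z) :=
              (LinearMap.continuous_of_finiteDimensional g).comp (by fun_prop)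
            filter_upwards [hc.tendsto' 0 (g p) (by simp) |>.eventually_const_lt (lt_of_le_of_ne (hp.2 g hg) (Ne.symm h))]
              with t ht using ht.le
      have hloc : IsLocalMin (fun t : ℝ => ‖p + t • z‖ ^ 2) 0 := by
        filter_upwards [hev] with t ht
        simpa using pow_le_pow_left₀ (norm_nonneg _) (hmin _ ht) 2
      have hd : HasDerivAt (fun t : ℝ => ‖p + t • z‖ ^ 2) (2 * inner ℝ p z) 0 := by
        have := (((hasDerivAt_id (0 : ℝ)).smul_const z).const_add p).norm_sq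
        simpa using this
      have := hloc.hasDerivAt_eq_zero hd
      linarith
    obtain ⟨lam, hlam⟩ := (Submodule.mem_span_range_iff_exists_fun ℝ).mp hker
    let β := Module.Free.chooseBasis ℤ L
    let b := β.ofZLatticeBasis ℝ L
    have hb : ∀ i, b i = (β i : E) := fun i => Module.Basis.ofZLatticeBasis_apply ℝ L β i
    have hinn : ∀ i j, ∃ n : ℤ, inner ℝ (b i) (b j) = (n : ℝ) := fun i j => by
      rw [hb, hb]; exact hint _ (β i).2 _ (β j).2
    choose Gm hGm using hinn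
    have haiQ : ∀ i j, ∃ n : ℤ, a i (b j) = (n : ℝ) := fun i j => by
      rw [hb]; exact hai i _ (β j).2
    choose am ham using haiQ
    obtain ⟨φ, hφ⟩ := (Algebra.linearMap ℚ ℝ).exists_leftInverse_of_injective
      (LinearMap.ker_eq_bot.mpr (algebraMap ℚ ℝ).injective)
    have hφq : ∀ q : ℚ, φ (q : ℝ) = q := fun q => by
      simpa using LinearMap.congr_fun hφ q
    have hφz : ∀ (n : ℤ) (x : ℝ), φ ((n : ℝ) * x) = n * φ x := fun n x => by
      rw [← zsmul_eq_mul, map_zsmul, zsmul_eq_mul]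
    let q : _ → ℚ := fun j => φ (b.repr p j)
    let v : E := ∑ j, (q j : ℝ) • b j
    have hv1 : ∀ i, a i v = (c i : ℝ) := fun i => by
      have h : a i p = ∑ j, (am i j : ℝ) * b.repr p j := by
        conv_lhs => rw [← b.sum_repr p]
        simp [-Module.Basis.sum_repr, map_sum, ham, mul_comm]
      rw [hac] at h
      have h' := congrArg φ h
      rw [hφq, map_sum] at h'
      simp only [hφz] at h'
      have : (c i : ℝ) = ∑ j, (am i j : ℝ) * (q j : ℝ) := by exact_mod_cast congrArg (fun r : ℚ => (r : ℝ)) h'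
      rw [this]
      simp [v, map_sum, ham, mul_comm]
    have hv2 : ∀ z, inner ℝ v z = ∑ i, (φ (lam i) : ℝ) * a i z := by
      suffices (innerSL ℝ v).toLinearMap = ∑ i, (φ (lam i) : ℝ) • a i by
        intro z; simpa using LinearMap.congr_fun this z
      refine b.ext fun j => ?_
      have h : inner ℝ p (b j) = ∑ i, (am i j : ℝ) * lam i := by
        have := LinearMap.congr_fun hlam (b j)
        simp [ham, mul_comm] at this
        exact this.symm.trans (Finset.sum_congr rfl fun i _ => mul_comm _ _)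
      have h' : inner ℝ p (b j) = ∑ i, (Gm i j : ℝ) * b.repr p i := by
        conv_lhs => rw [← b.sum_repr p]
        simp [-Module.Basis.sum_repr, sum_inner, real_inner_smul_left, hGm, mul_comm]
      have h'' := congrArg φ (h'.symm.trans h)
      simp only [map_sum, hφz] at h''
      have h3 : ∑ i, (Gm i j : ℝ) * (q i : ℝ) = ∑ i, (am i j : ℝ) * (φ (lam i) : ℝ) := by
        exact_mod_cast congrArg (fun r : ℚ => (r : ℝ)) h''
      simpa [v, sum_inner, real_inner_smul_left, hGm, ham, mul_comm] using h3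
    have hvp : v = p := by
      have hp2 : ∀ z, inner ℝ p z = ∑ i, lam i * a i z := fun z => by
        have := LinearMap.congr_fun hlam z
        simp at this
        exact this.symm
      refine sub_eq_zero.mp (inner_self_eq_zero (𝕜 := ℝ).mp ?_)
      rw [inner_sub_left, hv2, hp2, ← Finset.sum_sub_distrib]
      refine Finset.sum_eq_zero fun i _ => ?_
      rw [map_sub, hv1, hac, sub_self, mul_zero, mul_zero, sub_zero]
    refine ⟨∏ j, ((q j).den : ℤ), Finset.prod_pos fun j _ => by exact_mod_cast (q j).pos, ?_⟩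
    rw [← hvp, Finset.smul_sum]
    refine Submodule.sum_mem _ fun j _ => ?_
    rw [smul_smul]
    have : ((∏ j, ((q j).den : ℤ) : ℤ) : ℝ) * (q j : ℝ) = (((∏ i ∈ Finset.univ.erase j, ((q i).den : ℤ)) * (q j).num : ℤ) : ℝ) := by
      rw [← Finset.mul_prod_erase Finset.univ _ (Finset.mem_univ j), Rat.cast_def]
      push_cast
      field_simp
    rw [this, hb, Int.cast_smul_eq_zsmul]
    exact L.smul_mem _ (β j).2
  -- the maximum
  have hval : ∀ v : E, v ≠ 0 → (∀ f ∈ F, 0 ≤ f v) → G.inf' hG (fun g => g v) / ‖v‖ ≤ 1 / ‖p‖ ∧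
      (G.inf' hG (fun g => g v) / ‖v‖ = 1 / ‖p‖ → ∃ t : ℝ, 0 < t ∧ v = t • p) := by
    intro v hv hvF
    set μ := G.inf' hG fun g => g v with hμ
    have hvn : 0 < ‖v‖ := norm_pos_iff.mpr hv
    by_cases hμ0 : μ ≤ 0
    · have h1 : μ / ‖v‖ ≤ 0 := div_nonpos_of_nonpos_of_nonneg hμ0 hvn.le
      have h2 : (0 : ℝ) < 1 / ‖p‖ := by positivity
      exact ⟨by linarith, fun h => by linarith⟩
    have hμ1 : 0 < μ := not_le.mp hμ0
    have hvP : μ⁻¹ • v ∈ P := ⟨fun f hf => by
        rw [map_smul]; exact mul_nonneg (inv_nonneg.mpr hμ1.le) (hvF f hf), fun g hg => by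
        rw [map_smul, smul_eq_mul, ← inv_mul_cancel₀ hμ1.ne']
        exact mul_le_mul_of_nonneg_left (Finset.inf'_le _ hg) (inv_nonneg.mpr hμ1.le)⟩
    have hn : ‖μ⁻¹ • v‖ = ‖v‖ / μ := by rw [norm_smul, Real.norm_of_nonneg (inv_nonneg.mpr hμ1.le)]; ring
    refine ⟨?_, fun h => ⟨μ, hμ1, ?_⟩⟩
    · have := hmin _ hvP
      rw [hn, le_div_iff₀ hμ1] at this
      rw [div_le_div_iff₀ hvn hpn]
      linarith
    · have := huniq _ hvP (by
        rw [hn, div_le_iff₀ hμ1]
        rw [div_eq_div_iff hvn.ne' hpn.ne'] at h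
        linarith)
      rw [← this, smul_smul, mul_inv_cancel₀ hμ1.ne', one_smul]
  have hscale : ∀ t : ℝ, 0 < t → (∀ f ∈ F, 0 ≤ f (t • p)) ∧ G.inf' hG (fun g => g (t • p)) / ‖t • p‖ = 1 / ‖p‖ := by
    intro t ht
    have hne : t • p ≠ 0 := smul_ne_zero ht.ne' hp0
    have hFt : ∀ f ∈ F, 0 ≤ f (t • p) := fun f hf => by
      rw [map_smul]; exact mul_nonneg ht.le (hp.1 f hf)
    refine ⟨hFt, le_antisymm (hval _ hne hFt).1 ?_⟩
    rw [norm_smul, Real.norm_of_nonneg ht.le, div_le_div_iff₀ hpn (by positivity)]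
    have : t ≤ G.inf' hG fun g => g (t • p) := (Finset.le_inf'_iff _ _).mpr fun g hg => by
      rw [map_smul, smul_eq_mul]; exact le_mul_of_one_le_right ht.le (hp.2 g hg)
    nlinarith
  refine ⟨1 / ‖p‖, ⟨⟨p, ⟨hp0, (Finset.le_inf'_iff _ _).mpr hp.1⟩, ?_⟩, ?_⟩, ?_⟩
  · simpa using (hscale 1 one_pos).2
  · rintro _ ⟨v, ⟨hv, hvF⟩, rfl⟩
    exact (hval v hv ((Finset.le_inf'_iff _ _).mp hvF)).1
  -- lattice points on the ray
  let T : Set E := {v | v ∈ L ∧ ∃ t : ℝ, 0 < t ∧ v = t • p}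
  have hT0 : (N : ℝ) • p ∈ T := ⟨hNp, N, by exact_mod_cast hN, rfl⟩
  have hfin : (T ∩ Metric.closedBall 0 ‖(N : ℝ) • p‖).Finite := by
    have hcl : IsClosed (L : Set E) := AddSubgroup.isClosed_of_discrete (H := L.toAddSubgroup)
    refine (Metric.finite_isBounded_inter_isClosed DiscreteTopology.isDiscrete
      (Metric.isBounded_closedBall (x := (0 : E)) (r := ‖(N : ℝ) • p‖)) hcl).subset fun v hv => ⟨hv.2, hv.1.1⟩
  obtain ⟨v₀, ⟨⟨hv₀L, t₀, ht₀, hv₀⟩, hv₀b⟩, hv₀min⟩ := Set.exists_min_image _ (fun v : E => ‖v‖) hfin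
    ⟨_, hT0, by simp⟩
  have hleast : ∀ s : ℝ, 0 < s → s • p ∈ L → t₀ ≤ s := by
    intro s hs hsL
    have key : ‖v₀‖ ≤ ‖s • p‖ := by
      by_cases hb : ‖s • p‖ ≤ ‖(N : ℝ) • p‖
      · exact hv₀min _ ⟨⟨hsL, s, hs, rfl⟩, by simpa using hb⟩
      · simp only [Metric.mem_closedBall, dist_zero_right] at hv₀b
        linarith [not_le.mp hb]
    rw [hv₀, norm_smul, norm_smul, Real.norm_of_nonneg ht₀.le, Real.norm_of_nonneg hs.le] at key
    exact le_of_mul_le_mul_right key hpn
  have hall : ∀ v ∈ L, v ≠ 0 → 0 ≤ F.inf' hF (fun f => f v) → G.inf' hG (fun g => g v) / ‖v‖ = 1 / ‖p‖ →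
      ∃ n : ℤ, v = n • v₀ := by
    intro v hvL hv hvF hvM
    obtain ⟨s, hs, rfl⟩ := (hval v hv ((Finset.le_inf'_iff _ _).mp hvF)).2 hvM
    refine ⟨⌊s / t₀⌋, ?_⟩
    rcases (sub_nonneg.mpr ((le_div_iff₀ ht₀).mp (Int.floor_le (s / t₀)))).eq_or_lt with h | h
    · rw [hv₀, ← Int.cast_smul_eq_zsmul ℝ, smul_smul]
      congr 1
      linarith
    · exfalso
      have hmem : (s - ⌊s / t₀⌋ * t₀) • p ∈ L := by
        rw [sub_smul, ← smul_smul, ← hv₀, Int.cast_smul_eq_zsmul]
        exact L.sub_mem hvL (L.smul_mem _ hv₀L)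
      have := hleast _ h hmem
      have h2 := (div_lt_iff₀ ht₀).mp (Int.lt_floor_add_one (s / t₀))
      linarith
  have hv₀ne : v₀ ≠ 0 := hv₀ ▸ smul_ne_zero ht₀.ne' hp0
  refine ⟨v₀, ⟨hv₀L, hv₀ne, (Finset.le_inf'_iff _ _).mpr (hv₀ ▸ (hscale t₀ ht₀).1), hv₀ ▸ (hscale t₀ ht₀).2, hall⟩, ?_⟩
  rintro v₁ ⟨hv₁L, hv₁ne, hv₁F, hv₁M, hall₁⟩
  obtain ⟨s, hs, rfl⟩ := (hval v₁ hv₁ne ((Finset.le_inf'_iff _ _).mp hv₁F)).2 hv₁M
  obtain ⟨n, hn⟩ := hall₁ v₀ hv₀L hv₀ne ((Finset.le_inf'_iff _ _).mpr (hv₀ ▸ (hscale t₀ ht₀).1)) (hv₀ ▸ (hscale t₀ ht₀).2)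
  obtain ⟨m, hm⟩ := hall _ hv₁L hv₁ne hv₁F hv₁M
  rw [hv₀, ← Int.cast_smul_eq_zsmul ℝ, smul_smul] at hn hm
  have hn' := smul_left_injective ℝ hp0 hn
  have hm' := smul_left_injective ℝ hp0 hm
  have : n = 1 := by
    have h1 : ((n * m : ℤ) : ℝ) * t₀ = 1 * t₀ := by push_cast; rw [one_mul, mul_assoc, ← hm', ← hn']
    have h2 : n * m = 1 := by exact_mod_cast mul_right_cancel₀ ht₀.ne' h1
    have h3 : 0 < n := by
      by_contra hcon
      have : (n : ℝ) ≤ 0 := by exact_mod_cast not_lt.mp hcon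
      nlinarith
    exact Int.eq_one_of_mul_eq_one_right h3.le h2
  rw [hv₀, show t₀ = s by rw [hn', this]; simp]

end Groth.Agent.S17517
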