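import Groth.Statements.S1753
import Groth.Agent.Licht93.Top
-- import your own Groth.Agent.* helpers here

set_option autoImplicit false
universe u
open CategoryTheory AlgebraicGeometry
open Dual

namespace Groth.Agent.S1753

/-- Let U be a variety over a field k (integral, separated and of finite type over k) and F a coherent
O_U-module with H^d(U, F) ≠ 0. Then dim U ≥ d, and if dim U = d then U is proper over k. -/
theorem result (k : Type u) [Field k] (U : Scheme.{u}) (f : U ⟶ Spec (CommRingCat.of k)) [IsIntegral U] [IsSeparated f] [LocallyOfFiniteType f] [QuasiCompact f] (F : U.Modules) (hF : Coh.IsCoh F) (d : ℕ) (h : Nontrivial (Coh.HH U F d)) : (d : WithBot ℕ∞) ≤ topologicalKrullDim U ∧ (topologicalKrullDim U = d → IsProper f) := by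
  haveI : IsLocallyNoetherian U := LocallyOfFiniteType.isLocallyNoetherian f
  obtain ⟨m, hm⟩ := Groth.Agent.Licht93.Top.dim_eq_nat f
  constructor
  · by_contra hlt
    rw [hm] at hlt
    have hmd : m < d := by
      by_contra h'
      exact hlt (Nat.cast_le.2 (by omega))
    haveI : TopologicalSpace.NoetherianSpace U := Groth.Agent.Var76.FibreBound.noetherianSpace f
    exact not_subsingleton (Coh.HH U F d) (Groth.Agent.Var76.subsingleton_HH_of_support F isClosed_univ
      (fun x hx => (hx trivial).elim) (d := m)
      ((IsHomeomorph.topologicalKrullDim_eq _ (Homeomorph.Set.univ U).isHomeomorph).trans hm).le d hmd)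
  · intro hd
    by_contra hp
    refine not_subsingleton (Coh.HH U F d) (Groth.Agent.Licht93.Top.subsingleton_coh f d (fun Z i _ _ => ?_) F hF)
    refine ⟨Groth.Agent.Licht93.Top.dim_le_of_closed i hd, fun hZ hpZ => hp ?_⟩
    have hη : i (genericPoint Z) = genericPoint U := by
      by_contra hne
      have h1 := Groth.Agent.Var76.FibreBound.tdegN_lt f
        ((genericPoint_spec U).specializes (Set.mem_univ (i (genericPoint Z)))) (Ne.symm hne)
      have h2 := (Groth.Agent.WC97.dim_eq f).1
      rw [hd] at h2
      have hr : Set.range i = closure {i (genericPoint Z)} := by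
        refine Set.Subset.antisymm ?_ (closure_minimal (Set.singleton_subset_iff.2 ⟨_, rfl⟩)
          i.isClosedEmbedding.isClosed_range)
        rintro _ ⟨z, rfl⟩
        exact specializes_iff_mem_closure.1
          (((genericPoint_spec Z).specializes (Set.mem_univ z)).map i.continuous)
      have h4 := (Groth.Agent.Licht93.Top.dim_closedImmersion i).symm.trans hZ
      rw [hr, Groth.Agent.WC97.topologicalKrullDim_closure f] at h4
      have h5 : d = Groth.Agent.WC97.tdegN f (genericPoint U) := by exact_mod_cast h2
      have h6 : Groth.Agent.WC97.tdegN f (i (genericPoint Z)) = d := by exact_mod_cast h4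
      omega
    haveI : Surjective i := ⟨fun y => by
      have hy : y ∈ closure ({genericPoint U} : Set U) := by rw [genericPoint_spec U]; trivial
      exact closure_minimal (Set.singleton_subset_iff.2 (show genericPoint U ∈ Set.range i from ⟨_, hη⟩))
        i.isClosedEmbedding.isClosed_range hy⟩
    haveI := isIso_of_isClosedImmersion_of_surjective i
    rw [show f = inv i ≫ i ≫ f by simp]
    infer_instance

end Groth.Agent.S1753
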