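import Groth.Statements.S1754
import Groth.Agent.LC15.H1Good

set_option autoImplicit false
universe u
open LocCoh

namespace Groth.Agent.S1754

/-- Let A be a Noetherian domain and I a nonzero ideal. Suppose that for every prime q containing I and
every associated prime P of the completion B of the local ring A_q, the quotient B/P has dimension
at least 2. Then the local cohomology module H^1_I(A) is a finite A-module. (This is the affine
form, with coherence of j_*O_U for U = Spec A ∖ V(I) expressed as finiteness of H^1_I(A).) -/
theorem result (A : Type u) [CommRing A] [IsDomain A] [IsNoetherianRing A] (I : Ideal A) (hI : I ≠ ⊥) (h : ∀ (q : PrimeSpectrum A), I ≤ q.asIdeal → ∀ P ∈ associatedPrimes (AdicCompletion (IsLocalRing.maximalIdeal (Localization.AtPrime q.asIdeal)) (Localization.AtPrime q.asIdeal)) (AdicCompletion (IsLocalRing.maximalIdeal (Localization.AtPrime q.asIdeal)) (Localization.AtPrime q.asIdeal)), (2 : WithBot ℕ∞) ≤ ringKrullDim (AdicCompletion (IsLocalRing.maximalIdeal (Localization.AtPrime q.asIdeal)) (Localization.AtPrime q.asIdeal) ⧸ P)) :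 Module.Finite A (LocCoh.H I 1 A) := by
  refine LC15.H1Kollar.finite_H_one I A fun p hp hnI q _ hpq hIq => ?_
  obtain rfl : p = ⊥ := by
    obtain ⟨x, hx⟩ := hp.2
    refine eq_bot_iff.mpr fun r hr => ?_
    rw [hx] at hr
    obtain ⟨n, hn⟩ := Ideal.mem_radical_iff.mp hr
    rw [Submodule.mem_colon_singleton, Submodule.mem_bot, smul_eq_mul] at hn
    rcases mul_eq_zero.mp hn with h0 | h0
    · exact (Ideal.mem_bot).mpr (eq_zero_of_pow_eq_zero h0)
    · refine absurd ?_ hp.isPrime.ne_top
      rw [hx, h0, Ideal.eq_top_iff_one]
      exact Ideal.le_radical (Submodule.mem_colon_singleton.mpr (smul_zero _))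
  exact LC15.H1Good.good_of_equiv ⊥ q _ (RingHom.id _) Function.surjective_id
    (by rw [Ideal.map_bot]; exact (RingHom.injective_iff_ker_eq_bot _).mp Function.injective_id)
    (h ⟨q, inferInstance⟩ hIq)

end Groth.Agent.S1754
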