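import Groth.Statements.S17549
import Groth.Agent.CAlg9.Completion

set_option autoImplicit false
universe u
open W4c5adicflatcompl
open CAlg

namespace Groth.Agent.S17549

/-- Over a Noetherian ring A with I-adic completion Â, an A-module P is I-adically projective
(I-adically complete, and every A-linear map from P to the target of a surjection between I-adically
complete modules lifts along that surjection) exactly when P is a retract of some module of
I-adically decaying functions Z → Â: there are a set Z, an A-linear map i from P to the decaying
functions Z → Â and an A-linear map r back with r ∘ i the identity of P. Test modules, P and Z live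
in the universe of A. -/
theorem result {A : Type u} [CommRing A] [IsNoetherianRing A]
    (I : Ideal A) (P : Type u) [AddCommGroup P] [Module A P] :
    IsAdicProjective I P ↔
      ∃ (Z : Type u) (i : P →ₗ[A] decaying I Z (AdicCompletion I A))
        (r : decaying I Z (AdicCompletion I A) →ₗ[A] P), r ∘ₗ i = LinearMap.id := by
  classical
  have hI : I.FG := IsNoetherian.noetherian I
  have := AdicCompletion.isAdicComplete (M := A) hI
  have hD : ∀ (Z : Type u), IsAdicComplete I (decaying I Z (AdicCompletion I A)) := fun Z =>
    Groth.Agent.CAlg9.isAdicComplete_decaying' hI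
  constructor
  · rintro ⟨hP, hlift⟩
    obtain ⟨r, hr⟩ := Groth.Agent.CAlg9.exists_hom_single (I := I) (fun p : P => p)
    obtain ⟨i, hi⟩ := hlift _ P (hD P) hP r (fun p => ⟨_, hr p⟩) LinearMap.id
    exact ⟨P, i, r, hi⟩
  · rintro ⟨Z, i, r, hir⟩
    have := hD Z
    refine ⟨Groth.Agent.CAlg9.isAdicComplete_retract I i r hir, ?_⟩
    intro M N _ _ _ _ hM hN φ hφ ψ
    choose m hm using fun z => hφ (ψ (r (single I z (1 : AdicCompletion I A))))
    obtain ⟨χ, hχ⟩ := Groth.Agent.CAlg9.exists_hom_single (I := I) m
    have h : φ ∘ₗ χ = ψ ∘ₗ r :=
      Groth.Agent.CAlg9.completion_decaying_hom_ext hI _ _ fun z => by simp [hχ, hm]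
    refine ⟨χ ∘ₗ i, ?_⟩
    rw [← LinearMap.comp_assoc, h, LinearMap.comp_assoc, hir, LinearMap.comp_id]

end Groth.Agent.S17549
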