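import Groth.Statements.S17551
import Groth.Agent.CAlg9.Generate
import Groth.Agent.CAlg9.Tensor

set_option autoImplicit false
universe u
open W4c5adicflatcompl
open CAlg

namespace Groth.Agent.S17551

/-- For a complete Noetherian local ring A (maximal ideal m, m-adic completion Â) and an m-adic system
(M n, ψ n : M (n+1) → M n) of A-modules, meaning that each M n is a module over A/m^(n+1) and each ψ
n is surjective with kernel m^(n+1) M (n+1), if every M n is flat over A/m^(n+1) then the inverse
limit of the system is m-adically free (isomorphic to the m-adically decaying functions Z → Â for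
some set Z), and for every n its projection to M n is surjective with kernel m^(n+1) times the
limit. A, the M n and Z share one universe. -/
theorem result {A : Type u} [CommRing A] [IsNoetherianRing A] [IsLocalRing A]
    [IsAdicComplete (IsLocalRing.maximalIdeal A) A]
    (M : ℕ → Type u) [∀ n, AddCommGroup (M n)] [∀ n, Module A (M n)]
    [∀ n, Module (A ⧸ IsLocalRing.maximalIdeal A ^ (n + 1)) (M n)]
    [∀ n, IsScalarTower A (A ⧸ IsLocalRing.maximalIdeal A ^ (n + 1)) (M n)]
    [∀ n, Module.Flat (A ⧸ IsLocalRing.maximalIdeal A ^ (n + 1)) (M n)]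
    (ψ : ∀ n, M (n + 1) →ₗ[A] M n) (hψ : ∀ n, Function.Surjective (ψ n))
    (hker : ∀ n, LinearMap.ker (ψ n) =
      (IsLocalRing.maximalIdeal A ^ (n + 1) • ⊤ : Submodule A (M (n + 1)))) :
    IsAdicFree (IsLocalRing.maximalIdeal A) (sysLim M ψ) ∧
      ∀ n, Function.Surjective (sysProj M ψ n) ∧
        LinearMap.ker (sysProj M ψ n) =
          (IsLocalRing.maximalIdeal A ^ (n + 1) • ⊤ : Submodule A (sysLim M ψ)) := by
  classical
  have hFG : (IsLocalRing.maximalIdeal A).FG := IsNoetherian.noetherian (IsLocalRing.maximalIdeal A)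
  -- each `M n` is killed by `(IsLocalRing.maximalIdeal A) ^ (n + 1)`
  have hbot : ∀ n, ((IsLocalRing.maximalIdeal A) ^ (n + 1) • ⊤ : Submodule A (M n)) = ⊥ := fun n => by
    rw [eq_bot_iff, Submodule.smul_le]
    intro r hr x _
    rw [Submodule.mem_bot, ← algebraMap_smul (A ⧸ (IsLocalRing.maximalIdeal A) ^ (n + 1)) r x,
      Ideal.Quotient.algebraMap_eq, Ideal.Quotient.eq_zero_iff_mem.mpr hr, zero_smul]
  have hcomplete : ∀ n, IsAdicComplete (IsLocalRing.maximalIdeal A) (M n) := fun n =>
    Groth.Agent.CAlg9.isAdicComplete_of_pow_smul_eq_bot (hbot n)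
  obtain ⟨Z, v0, hspan0, hind0⟩ := Groth.Agent.CAlg9.exists_lift_basis (A := A) (M 0)
  choose pre hpre using hψ
  let v : Z → ∀ n, M n := fun z n => Nat.rec (v0 z) (fun j y => pre j y) n
  have hv : ∀ z n, ψ n (v z (n + 1)) = v z n := fun z n => hpre n _
  -- independence modulo the maximal ideal at every level
  have hind : ∀ n (s : Finset Z) (c : Z → A),
      ∑ i ∈ s, c i • v i n ∈ ((IsLocalRing.maximalIdeal A) • ⊤ : Submodule A (M n)) → ∀ i ∈ s, c i ∈ (IsLocalRing.maximalIdeal A) := by
    intro n
    induction n with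
    | zero => exact hind0
    | succ n ih =>
      intro s c hc
      refine ih s c ?_
      have h := Submodule.mem_map_of_mem (f := ψ n) hc
      rw [Submodule.map_smul'', map_sum] at h
      simp only [map_smul, hv] at h
      exact (smul_mono_right _ le_top : _ ≤ ((IsLocalRing.maximalIdeal A) • ⊤ : Submodule A (M n))) h
  have hspan : ∀ n, Submodule.span A (Set.range fun z => v z n) ⊔ (IsLocalRing.maximalIdeal A) • ⊤ = ⊤ := by
    intro n
    induction n with
    | zero => exact hspan0
    | succ n ih =>
      have h1 : (Submodule.span A (Set.range fun z => v z (n + 1)) ⊔ (IsLocalRing.maximalIdeal A) • ⊤).map (ψ n) = ⊤ := by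
        rw [Submodule.map_sup, Submodule.map_span, Submodule.map_smul'', Submodule.map_top,
          LinearMap.range_eq_top.mpr (fun y => ⟨pre n y, hpre n y⟩), ← Set.range_comp,
          Function.comp_def]
        simp only [hv]
        exact ih
      have h2 := congrArg (Submodule.comap (ψ n)) h1
      rw [Submodule.comap_map_eq, Submodule.comap_top, sup_assoc, hker] at h2
      rwa [sup_of_le_left (a := (IsLocalRing.maximalIdeal A) • ⊤) (Submodule.smul_mono_left
        (Ideal.pow_le_self n.succ_ne_zero))] at h2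
  have hspan' : ∀ n, Submodule.span A (Set.range fun z => v z n) = ⊤ := fun n =>
    Groth.Agent.CAlg9.span_eq_top_of_nilpotent _ (hspan n) (hbot n)
  have hindep : ∀ n (s : Finset Z) (c : Z → A), ∑ i ∈ s, c i • v i n = 0 →
      ∀ i ∈ s, c i ∈ (IsLocalRing.maximalIdeal A) ^ (n + 1) := by
    intro n
    have : IsLocalRing (A ⧸ (IsLocalRing.maximalIdeal A) ^ (n + 1)) := Groth.Agent.CAlg9.isLocalRing_quotient _ fun h =>
      (IsLocalRing.maximalIdeal.isMaximal A).ne_top
        (top_le_iff.mp (h ▸ Ideal.pow_le_self n.succ_ne_zero))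
    exact Groth.Agent.CAlg9.coeff_mem_of_flat_quotient ((IsLocalRing.maximalIdeal A) ^ (n + 1)) (IsLocalRing.maximalIdeal A)
      (Ideal.pow_le_self n.succ_ne_zero) (fun z => v z n) (hind n)
  -- the maps from decaying functions
  choose φ hφ using fun n => Groth.Agent.CAlg9.exists_sumMap (I := IsLocalRing.maximalIdeal A) (Z := Z) (M := A) (N := M n)
      fun z => LinearMap.toSpanSingleton A (M n) (v z n)
  have hφ' : ∀ n (g : decaying (IsLocalRing.maximalIdeal A) Z A) (S : Finset Z), (∀ z, z ∉ S → (g : Z → A) z ∈ (IsLocalRing.maximalIdeal A) ^ (n + 1)) →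
      φ n g = ∑ z ∈ S, (g : Z → A) z • v z n := by
    intro n g S hS
    have h := hφ n g (n + 1) S fun z hz => by simpa using hS z hz
    rw [hbot n, Submodule.mem_bot, sub_eq_zero] at h
    simpa using h
  have hbad : ∀ (g : decaying (IsLocalRing.maximalIdeal A) Z A) (n : ℕ) z, z ∉ Groth.Agent.CAlg9.badSet g n →
      (g : Z → A) z ∈ (IsLocalRing.maximalIdeal A) ^ n := fun g n z hz => by
    simpa using Groth.Agent.CAlg9.mem_of_notMem_badSet hz
  let Φ : decaying (IsLocalRing.maximalIdeal A) Z A →ₗ[A] sysLim M ψ := (LinearMap.pi φ).codRestrict _ fun g n => by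
    simp only [LinearMap.pi_apply]
    rw [hφ' n g _ fun z hz => Ideal.pow_le_pow_right (n + 1).le_succ (hbad g (n + 2) z hz),
      hφ' (n + 1) g _ fun z hz => hbad g (n + 2) z hz, map_sum]
    simp only [map_smul, hv]
  have hzero : ∀ n g, φ n g = 0 → ∀ z, (g : Z → A) z ∈ (IsLocalRing.maximalIdeal A) ^ (n + 1) := by
    intro n g h z
    by_cases hz : z ∈ Groth.Agent.CAlg9.badSet g (n + 1)
    · rw [hφ' n g _ (hbad g (n + 1))] at h
      exact hindep n _ _ h z hz
    · exact hbad g (n + 1) z hz
  have hinj : Function.Injective Φ := by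
    rw [injective_iff_map_eq_zero]
    intro g hg
    apply Subtype.ext
    funext z
    refine IsHausdorff.haus (inferInstance : IsHausdorff (IsLocalRing.maximalIdeal A) A) _ fun n => ?_
    rw [SModEq.sub_mem, sub_zero]
    have h := hzero n g (congrFun (congrArg Subtype.val hg) n) z
    simpa using Ideal.pow_le_pow_right n.le_succ h
  have hsurj : Function.Surjective Φ := by
    intro x
    have hc : ∀ n, ∃ c : Z →₀ A, Finsupp.linearCombination A (fun z => v z n) c = (x : ∀ k, M k) n :=
      fun n => by
        rw [← LinearMap.mem_range, Finsupp.range_linearCombination, hspan' n]; trivial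
    choose c hc using hc
    have hstep : ∀ n z, c (n + 1) z - c n z ∈ (IsLocalRing.maximalIdeal A) ^ (n + 1) := by
      intro n z
      have h0 : Finsupp.linearCombination A (fun z => v z n) (c (n + 1) - c n) = 0 := by
        rw [map_sub, hc n, sub_eq_zero, ← x.2 n, ← hc (n + 1)]
        simp [Finsupp.linearCombination_apply, Finsupp.sum, hv]
      by_cases hz : z ∈ (c (n + 1) - c n).support
      · rw [Finsupp.linearCombination_apply] at h0
        exact hindep n _ _ h0 z hz
      · rw [← Finsupp.sub_apply, Finsupp.notMem_support_iff.mp hz]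
        exact Submodule.zero_mem _
    let G : ℕ → Z →₀ A := fun k => match k with
      | 0 => 0
      | j + 1 => c j
    obtain ⟨g, h1, h2⟩ := Groth.Agent.CAlg9.exists_limit_decaying (I := IsLocalRing.maximalIdeal A) G fun {a b} hab z => by
      induction b, hab using Nat.le_induction with
      | base => simp
      | succ b hb ih =>
        rw [← sub_add_sub_cancel _ (G b z) _]
        refine add_mem ?_ ih
        rcases b with _ | b
        · simp [Nat.le_zero.mp hb, Ideal.one_eq_top]
        · exact Ideal.pow_le_pow_right hb (hstep b z)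
    refine ⟨g, Subtype.ext (funext fun n => ?_)⟩
    show φ n g = _
    rw [hφ' n g (c n).support fun z hz => h2 (n + 1) z (Finsupp.notMem_support_iff.mp hz),
      ← hc n, Finsupp.linearCombination_apply, Finsupp.sum]
    refine Finset.sum_congr rfl fun z _ => sub_eq_zero.mp ?_
    have h3 : ((g : Z → A) z - c n z) • v z n ∈ ((IsLocalRing.maximalIdeal A) ^ (n + 1) • ⊤ : Submodule A (M n)) :=
      Submodule.smul_mem_smul (h1 (n + 1) z) trivial
    rw [hbot n, Submodule.mem_bot, sub_smul] at h3
    exact h3
  let e := LinearEquiv.ofBijective Φ ⟨hinj, hsurj⟩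
  refine ⟨⟨Z, ⟨e.symm.trans (Groth.Agent.CAlg9.decayingCompletionEquiv (IsLocalRing.maximalIdeal A) Z).symm⟩⟩,
    fun n => ⟨fun y => ?_, ?_⟩⟩
  · have hy : y ∈ Submodule.span A (Set.range fun z => v z n) := hspan' n ▸ Submodule.mem_top
    rw [← Finsupp.range_linearCombination] at hy
    obtain ⟨c, rfl⟩ := hy
    exact ⟨∑ z ∈ c.support, c z • ⟨fun k => v z k, fun k => hv z k⟩, by
      simp [Finsupp.linearCombination_apply, Finsupp.sum]⟩
  · refine le_antisymm (fun x hx => ?_) (fun x hx => ?_)
    · obtain ⟨g, rfl⟩ := hsurj x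
      apply Groth.Agent.CAlg9.map_pow_smul_top_le (IsLocalRing.maximalIdeal A) Φ
      rw [Groth.Agent.CAlg9.mem_pow_smul_decaying_iff hFG]
      intro z
      simpa using hzero n g hx z
    · have h := Groth.Agent.CAlg9.map_pow_smul_top_le (IsLocalRing.maximalIdeal A) (sysProj M ψ n) _ hx
      rw [hbot n, Submodule.mem_bot] at h
      exact h

end Groth.Agent.S17551
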