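import Groth.Statements.S17552
import Groth.Agent.CAlg9.Generate
import Groth.Agent.CAlg9.Tensor

set_option autoImplicit false
universe u
open W4c5adicflatcompl
open CAlg

namespace Groth.Agent.S17552

/-- For a complete Noetherian local ring A (maximal ideal m, m-adic completion Â), an A-module M is
isomorphic to the module of m-adically decaying functions Z → Â for some set Z (m-adically free)
exactly when M is flat and m-adically complete. M and Z live in the universe of A. -/
theorem result {A : Type u} [CommRing A] [IsNoetherianRing A] [IsLocalRing A]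
    [IsAdicComplete (IsLocalRing.maximalIdeal A) A]
    (M : Type u) [AddCommGroup M] [Module A M] :
    IsAdicFree (IsLocalRing.maximalIdeal A) M ↔
      Module.Flat A M ∧ IsAdicComplete (IsLocalRing.maximalIdeal A) M := by
  classical
  set m := IsLocalRing.maximalIdeal A with hm_def
  constructor
  · rintro ⟨Z, ⟨e⟩⟩
    let e' : M ≃ₗ[A] decaying m Z A :=
      e.trans (Groth.Agent.CAlg9.decayingCompletionEquiv m Z)
    have := Groth.Agent.CAlg9.flat_decaying (A := A) (I := m) (Z := Z)
    have := Groth.Agent.CAlg9.isAdicComplete_decaying' (Z := Z) (M := A)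
      (IsNoetherian.noetherian m : m.FG)
    exact ⟨Module.Flat.of_linearEquiv e', Groth.Agent.CAlg9.isAdicComplete_congr_equiv m e'⟩
  · rintro ⟨hflat, hcomp⟩
    obtain ⟨Z, v, hspan, hind⟩ := Groth.Agent.CAlg9.exists_lift_basis (A := A) M
    obtain ⟨φ, hφ⟩ := Groth.Agent.CAlg9.exists_sumMap (I := m) (Z := Z) (M := A) (N := M)
      fun z => LinearMap.toSpanSingleton A M (v z)
    have hmem : ∀ (g : decaying m Z A) (n : ℕ) (z : Z),
        (g : Z → A) z ∈ m ^ n → (g : Z → A) z ∈ (m ^ n • ⊤ : Submodule A A) := fun g n z h => by
      simpa using h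
    have hinj : Function.Injective φ := by
      rw [injective_iff_map_eq_zero]
      intro g hg
      apply Subtype.ext
      funext z
      refine IsHausdorff.haus (inferInstance : IsHausdorff m A) _ fun n => ?_
      rw [SModEq.sub_mem, sub_zero]
      refine hmem g n z ?_
      rcases Nat.eq_zero_or_pos n with h0 | hpos
      · simp [h0, Ideal.one_eq_top]
      set J := m ^ n
      have hJm : J ≤ m := Ideal.pow_le_self hpos.ne'
      have : IsLocalRing (A ⧸ J) := Groth.Agent.CAlg9.isLocalRing_quotient J fun h =>
        (IsLocalRing.maximalIdeal.isMaximal A).ne_top (top_le_iff.mp (h ▸ hJm))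
      let N := M ⧸ (J • ⊤ : Submodule A M)
      have : Module.Flat (A ⧸ J) N := by
        let e0 : TensorProduct A (A ⧸ J) M ≃ₗ[A] N := TensorProduct.quotTensorEquivQuotSMul M J
        exact Module.Flat.of_linearEquiv
          (e0.extendScalarsOfSurjective (S := A ⧸ J) Ideal.Quotient.mk_surjective).symm
      have key := Groth.Agent.CAlg9.coeff_mem_of_flat_quotient (M := N) J m hJm
        (fun i => Submodule.Quotient.mk (v i)) (fun s c hc => hind s c (by
          simp only [← Submodule.mkQ_apply, ← map_smul, ← map_sum] at hc
          have h2 : ∑ i ∈ s, c i • v i ∈ ((m • ⊤ : Submodule A N).comap (J • ⊤ : Submodule A M).mkQ) :=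
            hc
          rw [← Submodule.range_mkQ, ← Submodule.map_top, ← Submodule.map_smul'',
            Submodule.comap_map_mkQ, sup_of_le_right] at h2
          · exact h2
          · exact Submodule.smul_mono_left hJm))
        (Groth.Agent.CAlg9.badSet g n) (fun z => (g : Z → A) z)
      by_cases hz : z ∈ Groth.Agent.CAlg9.badSet g n
      · refine key ?_ z hz
        have h1 := hφ g n (Groth.Agent.CAlg9.badSet g n)
          fun z hz => Groth.Agent.CAlg9.mem_of_notMem_badSet hz
        rw [hg, zero_sub, neg_mem_iff] at h1
        simp only [← Submodule.mkQ_apply, ← map_smul, ← map_sum]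
        exact (Submodule.Quotient.mk_eq_zero _).mpr (by simpa using h1)
      · simpa using Groth.Agent.CAlg9.mem_of_notMem_badSet hz
    have hsurj : Function.Surjective φ := fun x => by
      obtain ⟨g, hg⟩ := Groth.Agent.CAlg9.exists_expansion (I := m) v hspan x
      refine ⟨g, sub_eq_zero.mp (IsHausdorff.haus (IsAdicComplete.toIsHausdorff (I := m)) _
        fun n => ?_)⟩
      rw [SModEq.sub_mem, sub_zero]
      obtain ⟨S, hS, hx⟩ := hg n
      have h1 := hφ g n S fun z hz => hmem g n z (hS z hz)
      simpa using Submodule.sub_mem _ h1 hx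
    exact ⟨Z, ⟨(LinearEquiv.ofBijective φ ⟨hinj, hsurj⟩).symm.trans
      (Groth.Agent.CAlg9.decayingCompletionEquiv m Z).symm⟩⟩

end Groth.Agent.S17552
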