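import Groth.Statements.S1756
import Groth.Agent.LC15.H1Good

set_option autoImplicit false
universe u
open LocCoh

namespace Groth.Agent.S1756

/-- Let A be a universally catenary Noetherian ring and I an ideal such that for every prime q
containing I the formal fibres of A_q satisfy (S_1), and let M be a finite A-module. If for every
associated prime p of M not containing I and every prime q containing both p and I the longest chain
of primes from p to q has length at least 2, then the local cohomology module H^1_I(M) is a finite
A-module. (Affine form: finiteness of H^1_I(M) stands in for coherence of the pushforward of the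
restriction of M~ to Spec A ∖ V(I).) -/
theorem result (A : Type u) [CommRing A] [IsNoetherianRing A] (hA : CAlg.IsUniversallyCatenary A) (I : Ideal A) (hF : ∀ q : PrimeSpectrum A, I ≤ q.asIdeal → EGA4.HasSnFormalFibres 1 (Localization.AtPrime q.asIdeal)) (M : Type u) [AddCommGroup M] [Module A M] [Module.Finite A M] (h : ∀ (p q : PrimeSpectrum A) (hpq : p ≤ q), p.asIdeal ∈ associatedPrimes A M → ¬ I ≤ p.asIdeal → I ≤ q.asIdeal → (2 : ℕ∞) ≤ Order.height (⟨q, hpq⟩ : Set.Ici p)) : Module.Finite A (LocCoh.H I 1 M) := by
  refine LC15.H1Kollar.finite_H_one I M fun p hp hI q _ hpq hIq => ?_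
  haveI := hp.isPrime
  have hd : (2 : ℕ∞) ≤ LC17.htq p q := by
    rw [← LC16.RelCodim.height_ici ⟨p, inferInstance⟩ ⟨q, inferInstance⟩ hpq]
    exact h ⟨p, inferInstance⟩ ⟨q, inferInstance⟩ hpq hp hI hIq
  exact LC15.H1Good.good_of_htq_zero p q hA hpq hd
    (LC15.H1Good.htq_zero_of_S1 p q hpq (hF ⟨q, inferInstance⟩ hIq))

end Groth.Agent.S1756
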