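import Groth.Statements.S6482
import Groth.Agent.Cyc90.PushDiv

set_option autoImplicit false
universe u
open CategoryTheory AlgebraicGeometry
open CategoryTheory.Limits
open Cyc

namespace Groth.Agent.S6482

/-- Let f : Y → X be an envelope. Then f_* : Z_k(Y) → Z_k(X) is surjective, hence so is f_* : CH_k(Y) →
CH_k(X). An envelope is a proper, completely decomposed morphism (every point of the target has a
point over it with trivial residue field extension; this prelude's Cyc.IsCompletelyDecomposed). Here
a pair (X, δ) with Cyc.IsSetup plays the role of a scheme locally of finite type over the base (S,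
δ) (X locally Noetherian with universally catenary local rings, δ a dimension function), and
Cyc.DeltaCompat records that the dimension function upstairs is the induced one. -/
theorem result (X Y : Scheme.{u}) (δ : X → ℤ) (δY : Y → ℤ) (hX : Cyc.IsSetup X δ) (hY : Cyc.IsSetup Y δY) (f : Y ⟶ X) [IsProper f] (hcd : Cyc.IsCompletelyDecomposed f) (hδ : Cyc.DeltaCompat f δY δ) (k : ℤ) (α : AlgebraicCycle X ℤ) (hα : α ∈ Cyc.Zk X δ k) : ∃ β : AlgebraicCycle Y ℤ, β ∈ Cyc.Zk Y δY k ∧ AlgebraicCycle.map f δY δ β = α := by
  classical
  choose s hs hsurj using hcd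
  let β : AlgebraicCycle Y ℤ :=
    { toFun := fun y => if y = s (f y) then α (f y) else 0
      supportWithinDomain' := by simp
      supportLocallyFiniteWithinDomain' := fun z _ => by
        obtain ⟨t, ht, hfin⟩ := α.supportLocallyFiniteWithinDomain' (f z) trivial
        refine ⟨f ⁻¹' t, f.continuous.continuousAt.preimage_mem_nhds ht, ?_⟩
        refine (hfin.image s).subset ?_
        rintro y ⟨hyt, hy⟩
        simp only [Function.mem_support, ne_eq, ite_eq_right_iff, Classical.not_imp] at hy
        exact ⟨f y, ⟨hyt, hy.2⟩, hy.1.symm⟩ }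
  have hdelta : ∀ x, δY (s x) = δ x := by
    intro x
    obtain ⟨n, hn, hd⟩ := hδ (s x)
    letI := (f.residueFieldMap (s x)).hom.toAlgebra
    have : Algebra.IsAlgebraic (X.residueField (f (s x))) (Y.residueField (s x)) :=
      ⟨fun a => by
        obtain ⟨b, rfl⟩ := hsurj x a
        exact isAlgebraic_algebraMap b⟩
    have h0 : Algebra.trdeg (X.residueField (f (s x))) (Y.residueField (s x)) = 0 :=
      trdeg_eq_zero_iff.mpr this
    rw [h0] at hn
    have : n = 0 := by exact_mod_cast hn.symm
    rw [hd, this, hs x]; simp
  have hdeg : ∀ x, f.residueDegree (s x) = 1 := by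
    intro x
    letI := (f.residueFieldMap (s x)).hom.toAlgebra
    change Module.finrank (X.residueField (f (s x))) (Y.residueField (s x)) = 1
    rw [← (AlgEquiv.ofBijective (Algebra.ofId (X.residueField (f (s x))) (Y.residueField (s x)))
      ⟨RingHom.injective _, hsurj x⟩).toLinearEquiv.finrank_eq]
    exact Module.finrank_self _
  refine ⟨β, fun y hy => ?_, ?_⟩
  · change (if y = s (f y) then α (f y) else 0) = 0
    split_ifs with h
    · refine hα _ fun hk => hy ?_
      rw [h, hdelta]; exact hk
    · rfl
  · refine DFunLike.ext _ _ fun x => ?_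
    rw [Groth.Agent.Cyc90.map_apply_eq, finsum_mem_def]
    refine (finsum_eq_single _ (s x) (fun y (hy : y ≠ s x) => ?_)).trans ?_
    · refine Set.indicator_apply_eq_zero.mpr fun hyx => ?_
      change (if y = s (f y) then α (f y) else 0) * _ = 0
      rw [if_neg (fun h => hy (h.trans (congrArg s hyx))), zero_mul]
    · rw [Set.indicator_of_mem (show s x ∈ f ⁻¹' {x} from hs x)]
      change (if s x = s (f (s x)) then α (f (s x)) else 0) * _ = _
      rw [hs x, if_pos rfl, if_pos (hdelta x), hdeg x]
      simp

end Groth.Agent.S6482
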