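import Groth.Statements.S17576
import Groth.Agent.E4O.BivarRestrict
import Groth.Agent.S6482
import Groth.Agent.Cyc90.Envelope

set_option autoImplicit false
universe u
open CategoryTheory AlgebraicGeometry
open Bivar CategoryTheory.Limits

namespace Groth.Agent.S17576

/-- Let f : X → Y be locally of finite type, g : Y' → Y an envelope (a proper, completely decomposed
morphism: over every point of Y lies a point of Y' with trivial residue field extension) and X' = Y'
×_Y X. Then a bivariant class c ∈ A^p(X → Y) is determined by its restriction res(c) ∈ A^p(X' → Y'):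
two classes with the same restriction along the square (g, X') are equal. (The existence part — a
class c' on X' → Y' whose two restrictions to X' ×_X X' → Y' ×_Y Y' agree descends — is not stated
here.) Here a pair (X, δ) with Cyc.IsSetup plays the role of a scheme locally of finite type over
the base (S, δ) (X locally Noetherian with universally catenary local rings, δ a dimension
function), Cyc.DeltaCompat records that a dimension function is the induced one, and bivariant
classes are taken in the operational sense of the prelude: additive operations on the Chow groups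
CH_k (k-cycles modulo rational equivalence) of all test schemes, compatible with proper pushforward,
flat pullback and the Gysin maps of zero schemes of sections of invertible modules in representative
form (Bivar.Cl for A^p(X → Y), Bivar.OpCl for A^p(X)). -/
theorem result (X Y : Scheme.{u}) (δX : X → ℤ) (δY : Y → ℤ) (hX : Cyc.IsSetup X δX) (hY : Cyc.IsSetup Y δY) (f : X ⟶ Y) [LocallyOfFiniteType f] (hδ : Cyc.DeltaCompat f δX δY) (p : ℤ) (s₀ : Bivar.Sq f δX δY) [IsProper s₀.g] (hcd : Cyc.IsCompletelyDecomposed s₀.g) (c₁ c₂ : Bivar.Cl p f δX δY) (heq : c₁.res s₀ = c₂.res s₀) : c₁ = c₂ := by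
  refine Bivar.Cl.ext (funext fun s => funext fun k => AddMonoidHom.ext fun a => ?_)
  obtain ⟨α, hα, rfl⟩ := Bivar.exists_rep a
  let t := s₀.paste (Groth.Agent.E4O.BivarRestrict.piece s₀ s)
  have : IsProper (Groth.Agent.E4O.BivarRestrict.toTest s₀ s) := inferInstance
  have : IsProper (Groth.Agent.E4O.BivarRestrict.topTest s₀ s) := inferInstance
  have hcd' := Groth.Agent.Cyc90.isCompletelyDecomposed_snd s₀.g s.g hcd
  obtain ⟨γ, hγ, rfl⟩ := Groth.Agent.S6482.result s.Y' t.Y' s.δY' t.δY'
    (Groth.Agent.E4O.BivarSquare.isSetup_Y' hY s) (Groth.Agent.E4O.BivarSquare.isSetup_Y' hY t)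
    (Groth.Agent.E4O.BivarRestrict.toTest s₀ s) hcd'
    (Groth.Agent.E4O.BivarSquare.deltaCompat_h s t _ (Groth.Agent.E4O.BivarRestrict.w₁ s₀ s)) k α hα
  obtain ⟨β, hβ, he⟩ := Bivar.exists_rep (c₁.op t k (ChowOps.cl γ hγ))
  have h1 := Groth.Agent.E4O.BivarRep.push_rep hX c₁ s t _ (Groth.Agent.E4O.BivarRestrict.topTest s₀ s)
    (Groth.Agent.E4O.BivarRestrict.w₁ s₀ s) (Groth.Agent.E4O.BivarRestrict.w₂ s₀ s)
    (Groth.Agent.E4O.BivarRestrict.w₃ s₀ s) hγ hβ he.symm
  have h2 := Groth.Agent.E4O.BivarRep.push_rep hX c₂ s t _ (Groth.Agent.E4O.BivarRestrict.topTest s₀ s)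
    (Groth.Agent.E4O.BivarRestrict.w₁ s₀ s) (Groth.Agent.E4O.BivarRestrict.w₂ s₀ s)
    (Groth.Agent.E4O.BivarRestrict.w₃ s₀ s) hγ hβ
    ((Groth.Agent.E4O.BivarRestrict.op_paste_eq s₀ heq _ k ▸ he).symm)
  exact h1.trans h2.symm

end Groth.Agent.S17576
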