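import Groth.Statements.S17592
import Groth.Agent.Hens22.EtaleLift
-- import your own Groth.Agent.* helpers here

set_option autoImplicit false
universe u
open Hensel

namespace Groth.Agent.S17592

/-- Let R → S be an étale ring map and I an ideal of R such that the induced map R/I → S/IS is
bijective. Then a Henselization of the pair (S, IS), regarded as an R-algebra, is a Henselization of
the pair (R, I). -/
theorem result (R : Type u) [CommRing R] (I : Ideal R)
    (S : Type u) [CommRing S] [Algebra R S] [Algebra.Etale R S]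
    (hq : Function.Bijective
      (Ideal.quotientMap (I.map (algebraMap R S)) (algebraMap R S) Ideal.le_comap_map))
    (H : Type u) [CommRing H] [Algebra S H] [Algebra R H] [IsScalarTower R S H]
    (hH : Hens2.IsPairHenselization S (I.map (algebraMap R S)) H) :
    Hens2.IsPairHenselization R I H := by
  have hmap : (I.map (algebraMap R S)).map (algebraMap S H) = I.map (algebraMap R H) := by
    rw [Ideal.map_map, ← IsScalarTower.algebraMap_eq]
  refine ⟨hmap ▸ hH.1, fun C _ J f hJ hfI => ?_⟩
  letI := f.toAlgebra
  haveI := hJ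
  let e := RingEquiv.ofBijective _ hq
  have hI : ∀ r ∈ I, Ideal.Quotient.mk J (f r) = 0 := fun r hr =>
    Ideal.Quotient.eq_zero_iff_mem.mpr (hfI (Ideal.mem_map_of_mem f hr))
  let ρ : R ⧸ I →+* C ⧸ J := Ideal.Quotient.lift I ((Ideal.Quotient.mk J).comp f) hI
  let σ : S →ₐ[R] C ⧸ J :=
    { (ρ.comp e.symm.toRingHom).comp (Ideal.Quotient.mk _) with
      commutes' := fun r => by
        show ρ (e.symm (Ideal.Quotient.mk _ (algebraMap R S r))) = _
        have : e.symm (Ideal.Quotient.mk _ (algebraMap R S r)) = Ideal.Quotient.mk I r := by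
          rw [RingEquiv.symm_apply_eq]; rfl
        rw [this]
        rfl }
  have hσ : ∀ g : S →ₐ[R] C, (Ideal.Quotient.mkₐ R J).comp g = σ := fun g => AlgHom.ext fun s => by
    obtain ⟨x, hx⟩ := hq.2 (Ideal.Quotient.mk _ s)
    obtain ⟨r, rfl⟩ := Ideal.Quotient.mk_surjective x
    rw [Ideal.quotientMap_mk, Ideal.Quotient.eq] at hx
    have h1 : Ideal.Quotient.mk J (g (algebraMap R S r - s)) = 0 := by
      refine Ideal.Quotient.eq_zero_iff_mem.mpr (hfI ?_)
      have h2 := Ideal.mem_map_of_mem g.toRingHom hx
      rw [Ideal.map_map, show g.toRingHom.comp (algebraMap R S) = f from RingHom.ext g.commutes] at h2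
      exact h2
    show Ideal.Quotient.mk J (g s) = ρ (e.symm (Ideal.Quotient.mk _ s))
    have h3 : e.symm (Ideal.Quotient.mk _ s) = Ideal.Quotient.mk I r := by
      rw [RingEquiv.symm_apply_eq]
      exact (Ideal.Quotient.eq.mpr hx).symm
    rw [h3]
    rw [map_sub, map_sub, g.commutes, sub_eq_zero] at h1
    exact h1.symm
  obtain ⟨g₀, hg₀, hg₀u⟩ := Hens22.existsUnique_lift J S σ
  have hle : (I.map (algebraMap R S)).map g₀.toRingHom ≤ J := by
    rw [Ideal.map_map, show g₀.toRingHom.comp (algebraMap R S) = f from RingHom.ext g₀.commutes]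
    exact hfI
  obtain ⟨g, hg, hgu⟩ := hH.2 C J g₀.toRingHom hJ hle
  refine ⟨g, ?_, fun g' hg' => hgu g' ?_⟩
  · show g.comp (algebraMap R H) = f
    rw [IsScalarTower.algebraMap_eq R S H, ← RingHom.comp_assoc]
    exact (congrArg (fun φ => φ.comp (algebraMap R S)) hg).trans (RingHom.ext g₀.commutes)
  · let g'' : S →ₐ[R] C :=
      { g'.comp (algebraMap S H) with
        commutes' := fun r => by
          show g' (algebraMap S H (algebraMap R S r)) = _
          rw [← IsScalarTower.algebraMap_apply]
          exact RingHom.congr_fun hg' r }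
    exact congrArg AlgHom.toRingHom (hg₀u g'' (hσ g''))

end Groth.Agent.S17592
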