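import Groth.Statements.S17596
import Groth.Agent.Henz21.FiniteOfMod
-- import your own Groth.Agent.* helpers here

set_option autoImplicit false
universe u
open Hensel

namespace Groth.Agent.S17596

/-- Let (A, I) be a Henselian pair and let B be a Henselization of the pair (R, IR) for a finitely
presented A-algebra R (that is, A → B is a Henselian finitely presented map of Henselian pairs). If
the induced map A/I → B/IB is module-finite, then B is module-finite and finitely presented over A. -/
theorem result (A : Type u) [CommRing A] (I : Ideal A)
    [HenselianRing A I] (R : Type u) [CommRing R] [Algebra A R] [Algebra.FinitePresentation A R]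
    (B : Type u) [CommRing B] [Algebra R B] [Algebra A B] [IsScalarTower A R B]
    (hB : Hens2.IsPairHenselization R (I.map (algebraMap A R)) B)
    (hfin : (Ideal.quotientMap (I.map (algebraMap A B)) (algebraMap A B) Ideal.le_comap_map).Finite) :
    Module.Finite A B ∧ Algebra.FinitePresentation A B := by
  set I' := I.map (algebraMap A R)
  have hIB : I'.map (algebraMap R B) = I.map (algebraMap A B) := by
    rw [Ideal.map_map, ← IsScalarTower.algebraMap_eq]
  haveI : Module.Finite A (R ⧸ I') := by
    let β : (R ⧸ I') →ₐ[A] B ⧸ I'.map (algebraMap R B) :=
      Ideal.quotientMapₐ _ (IsScalarTower.toAlgHom A R B) Ideal.le_comap_map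
    have hβ : Function.Bijective β := Groth.Agent.Hens22.quotientMap_bijective hB
    haveI : Module.Finite A (B ⧸ I'.map (algebraMap R B)) := by
      rw [hIB]
      letI := (Ideal.quotientMap (I.map (algebraMap A B)) (algebraMap A B) Ideal.le_comap_map).toAlgebra
      haveI : Module.Finite (A ⧸ I) (B ⧸ I.map (algebraMap A B)) := hfin
      haveI : IsScalarTower A (A ⧸ I) (B ⧸ I.map (algebraMap A B)) :=
        IsScalarTower.of_algebraMap_eq fun _ => rfl
      exact Module.Finite.trans (A ⧸ I) _
    exact Module.Finite.equiv (AlgEquiv.ofBijective β hβ).symm.toLinearEquiv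
  exact Groth.Agent.Henz21.exists_finite_model I hB

end Groth.Agent.S17596
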