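import Groth.Statements.S1760
import Groth.Agent.Gor18.FieldExt


set_option autoImplicit false
universe u
open scoped TensorProduct
open Goren

namespace Groth.Agent.S1760

/-- First assertion, written for the local ring B = O_{X,x}. Let k'/k be a finitely generated field
extension, B a Noetherian local k-algebra, and q a prime of B ⊗_k k' lying over the maximal ideal of
B. Then B is Gorenstein if and only if the localization of B ⊗_k k' at q is Gorenstein. -/
theorem result (k k' : Type u) [Field k] [Field k'] [Algebra k k'] (hfg : ∃ s : Finset k', IntermediateField.adjoin k (s : Set k') = ⊤) (B : Type u) [CommRing B] [IsLocalRing B] [IsNoetherianRing B] [Algebra k B] (q : PrimeSpectrum (B ⊗[k] k')) (hq : q.asIdeal.comap (algebraMap B (B ⊗[k] k')) = IsLocalRing.maximalIdeal B) : LocCoh.IsGorensteinLocalRing B ↔ LocCoh.IsGorensteinLocalRing (Localization.AtPrime q.asIdeal) := by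
  have : Algebra.EssFiniteType k k' := by
    obtain ⟨s, hs⟩ := hfg
    exact IntermediateField.fg_top_iff.1 ⟨s, hs⟩
  have : IsNoetherianRing (B ⊗[k] k') := Algebra.EssFiniteType.isNoetherianRing B _
  constructor
  · intro h
    have := Gor18.gorRing_of_gor B
    have := Gor18.gorRing_tensor_fg k k' B hfg
    have := Gor18.gorRing_of_ringEquiv
      (Algebra.TensorProduct.comm k k' B).toRingEquiv
    exact LocCoh.IsGorensteinRing.isGorensteinLocalRing_localization q.asIdeal
  · intro h
    have h2 := Gor18.gor_base_of_flat (R := B) q.asIdeal h
    have : IsLocalization.AtPrime B (q.asIdeal.under B) := by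
      refine IsLocalization.of_le_isUnit fun x hx => ?_
      by_contra hu
      exact hx (by rw [Ideal.under_def, hq]; exact hu)
    exact Gor18.gor_of_ringEquiv (IsLocalization.algEquiv (q.asIdeal.under B).primeCompl
      (Localization.AtPrime (q.asIdeal.under B)) B).toRingEquiv

end Groth.Agent.S1760
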