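import Groth.Statements.S17604
import Groth.Agent.Hens22.PairOps

set_option autoImplicit false
universe u
open Hensel

namespace Groth.Agent.S17604

/-- Let (A, I) be a Henselian pair, R and R' étale A-algebras, and B, B' Henselizations of the pairs (R,
IR), (R', IR') with their induced A-algebra structures (so B and B' are h-étale over A). Then
reduction modulo I is a bijection from A-algebra maps B → B' to A-algebra maps B/IB → B'/IB': two
A-algebra maps B → B' that agree modulo IB' are equal, and every A-algebra map B/IB → B'/IB' is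
induced by an A-algebra map B → B'. -/
theorem result (A : Type u) [CommRing A]
    (I : Ideal A) [HenselianRing A I]
    (R : Type u) [CommRing R] [Algebra A R] [Algebra.Etale A R]
    (B : Type u) [CommRing B] [Algebra R B] [Algebra A B] [IsScalarTower A R B]
    (hB : Hens2.IsPairHenselization R (I.map (algebraMap A R)) B)
    (R' : Type u) [CommRing R'] [Algebra A R'] [Algebra.Etale A R']
    (B' : Type u) [CommRing B'] [Algebra R' B'] [Algebra A B'] [IsScalarTower A R' B']
    (hB' : Hens2.IsPairHenselization R' (I.map (algebraMap A R')) B') :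
    (∀ φ ψ : B →ₐ[A] B', (∀ b : B, φ b - ψ b ∈ I.map (algebraMap A B')) → φ = ψ) ∧
    ∀ χ : (B ⧸ I.map (algebraMap A B)) →ₐ[A] (B' ⧸ I.map (algebraMap A B')),
      ∃ φ : B →ₐ[A] B', ∀ b : B,
        Ideal.Quotient.mk (I.map (algebraMap A B')) (φ b) = χ (Ideal.Quotient.mk (I.map (algebraMap A B)) b) := by
  have hhB' := hB'.1
  rw [Ideal.map_map, ← IsScalarTower.algebraMap_eq] at hhB'
  set L := I.map (algebraMap A B')
  have hres : ∀ φ ψ : B →ₐ[A] B', φ.toRingHom.comp (algebraMap R B) = ψ.toRingHom.comp (algebraMap R B) →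
      φ = ψ := fun φ ψ h => by
    refine AlgHom.coe_ringHom_injective ?_
    refine Hens22.pairHens_ringHom_ext hB L (φ : B →+* B') ψ h ?_
    rw [Ideal.map_map, RingHom.comp_assoc, ← IsScalarTower.algebraMap_eq,
      show (φ : B →+* B').comp (algebraMap A B) = algebraMap A B' from φ.comp_algebraMap]
  refine ⟨fun φ ψ h => hres φ ψ ?_, fun χ => ?_⟩
  · have := Hens22.algHom_ext_of_sub_mem_jacobson R (φ.comp (IsScalarTower.toAlgHom A R B))
      (ψ.comp (IsScalarTower.toAlgHom A R B)) fun r => (HenselianRing.jac (I := L)) (h _)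
    exact congrArg AlgHom.toRingHom this
  · obtain ⟨f, hf, -⟩ := Hens22.existsUnique_lift L R
      (χ.comp ((Ideal.Quotient.mkₐ A (I.map (algebraMap A B))).comp (IsScalarTower.toAlgHom A R B)))
    obtain ⟨g, hg, -⟩ := hB.2 B' L f.toRingHom hhB' (by
      rw [Ideal.map_map, show f.toRingHom.comp (algebraMap A R) = algebraMap A B' from f.comp_algebraMap])
    have hga : ∀ a, g (algebraMap A B a) = algebraMap A B' a := fun a => by
      rw [IsScalarTower.algebraMap_apply A R B]
      exact (RingHom.congr_fun hg _).trans (f.commutes a)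
    let φ : B →ₐ[A] B' := { g with commutes' := hga }
    refine ⟨φ, fun b => ?_⟩
    obtain ⟨r, hr⟩ := Hens22.exists_sub_mem_pow hB 1 b
    rw [pow_one, Ideal.map_map, ← IsScalarTower.algebraMap_eq] at hr
    have h1 : φ (b - algebraMap R B r) ∈ L := by
      have := Ideal.mem_map_of_mem φ.toRingHom hr
      rwa [Ideal.map_map, show φ.toRingHom.comp (algebraMap A B) = algebraMap A B' from
        φ.comp_algebraMap] at this
    rw [map_sub, ← Ideal.Quotient.eq] at h1
    rw [h1, show φ (algebraMap R B r) = f r from RingHom.congr_fun hg r]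
    refine (DFunLike.congr_fun hf r).trans ?_
    show χ (Ideal.Quotient.mk _ (algebraMap R B r)) = _
    rw [Ideal.Quotient.eq.2 hr]

end Groth.Agent.S17604
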