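import Groth.Statements.S17605
import Groth.Agent.Hens22.PairOps

set_option autoImplicit false
universe u
open Hensel

namespace Groth.Agent.S17605

/-- Let A be a ring with an ideal I and let f₁, f₂ be elements of A such that D(f₂) ∩ V(I) ⊆ D(f₁) ∩
V(I) in Spec A. If H₁ is a Henselization of the pair (A_{f₁}, IA_{f₁}) and H₂ a Henselization of the
pair (A_{f₂}, IA_{f₂}), with their induced A-algebra structures, then there is exactly one A-algebra
map H₁ → H₂. -/
theorem result (A : Type u) [CommRing A]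
    (I : Ideal A) (f₁ f₂ : A)
    (h : (PrimeSpectrum.basicOpen f₂ : Set (PrimeSpectrum A)) ∩ PrimeSpectrum.zeroLocus (I : Set A) ⊆
      (PrimeSpectrum.basicOpen f₁ : Set (PrimeSpectrum A)) ∩ PrimeSpectrum.zeroLocus (I : Set A))
    (H₁ : Type u) [CommRing H₁] [Algebra (Localization.Away f₁) H₁] [Algebra A H₁]
    [IsScalarTower A (Localization.Away f₁) H₁]
    (hH₁ : Hens2.IsPairHenselization (Localization.Away f₁)
      (I.map (algebraMap A (Localization.Away f₁))) H₁)
    (H₂ : Type u) [CommRing H₂] [Algebra (Localization.Away f₂) H₂] [Algebra A H₂]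
    [IsScalarTower A (Localization.Away f₂) H₂]
    (hH₂ : Hens2.IsPairHenselization (Localization.Away f₂)
      (I.map (algebraMap A (Localization.Away f₂))) H₂) :
    Nonempty (H₁ →ₐ[A] H₂) ∧ Subsingleton (H₁ →ₐ[A] H₂) := by
  have hH₂' := hH₂.1
  rw [Ideal.map_map, ← IsScalarTower.algebraMap_eq] at hH₂'
  set L := I.map (algebraMap A H₂)
  have hu : IsUnit (algebraMap A H₂ f₁) := by
    by_contra hnu
    obtain ⟨m, hm, hfm⟩ := exists_max_ideal_of_mem_nonunits hnu
    have hLm : L ≤ m := (HenselianRing.jac (I := L)).trans (sInf_le ⟨bot_le, hm⟩)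
    have hf2 : f₂ ∉ m.comap (algebraMap A H₂) := fun hf =>
      hm.ne_top (m.eq_top_of_isUnit_mem hf (by
        rw [IsScalarTower.algebraMap_apply A (Localization.Away f₂) H₂]
        exact (IsLocalization.Away.algebraMap_isUnit f₂).map _))
    have hp : (m.comap (algebraMap A H₂)).IsPrime := Ideal.IsPrime.comap _
    have := h (a := ⟨_, hp⟩) ⟨hf2, fun x hx => hLm (Ideal.mem_map_of_mem _ hx)⟩
    exact this.1 hfm
  let g : Localization.Away f₁ →+* H₂ := IsLocalization.Away.lift f₁ hu
  have hg : g.comp (algebraMap A (Localization.Away f₁)) = algebraMap A H₂ :=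
    IsLocalization.Away.lift_comp ..
  have hgI : (I.map (algebraMap A (Localization.Away f₁))).map g ≤ L := by rw [Ideal.map_map, hg]
  obtain ⟨k, hk, hku⟩ := hH₁.2 H₂ L g hH₂' hgI
  refine ⟨⟨{ k with commutes' := fun a => ?_ }⟩, ⟨fun φ ψ => ?_⟩⟩
  · show k (algebraMap A H₁ a) = _
    rw [IsScalarTower.algebraMap_apply A (Localization.Away f₁) H₁]
    exact (RingHom.congr_fun hk _).trans (RingHom.congr_fun hg a)
  · refine AlgHom.coe_ringHom_injective ((hku _ ?_).trans (hku _ ?_).symm)
    all_goals
      refine IsLocalization.ringHom_ext (Submonoid.powers f₁) ?_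
      rw [hg, RingHom.comp_assoc, ← IsScalarTower.algebraMap_eq]
      exact AlgHom.comp_algebraMap _

end Groth.Agent.S17605
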