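import Groth.Statements.S17606
import Groth.Agent.Hens22.GlueHens

set_option autoImplicit false
universe u
open Hensel

namespace Groth.Agent.S17606

open scoped TensorProduct


/-- Let A be a ring with an ideal I and let g_i (i ∈ ι) be elements of A whose images generate the unit
ideal of A/I, so that the basic opens D(g_i) cover V(I). Let H be a Henselization of the pair (A,
I), H_i a Henselization of (A_{g_i}, IA_{g_i}) and H_{ij} a Henselization of (A_{g_i g_j}, IA_{g_i
g_j}), all with their induced A-algebra structures, and fix A-algebra maps H → H_i, H_i → H_{ij} and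
H_j → H_{ij} (each is the unique such map). Then the sequence H → ∏ H_i ⇉ ∏ H_{ij} is an equalizer:
an element of H is determined by its images in the H_i, and every family (s_i) with s_i ∈ H_i whose
images in each H_{ij} agree is the image of an element of H. (This is the sheaf condition, for the
covering of V(I) by the D(g_i), of the presheaf D(f) ∩ V(I) ↦ Henselization of (A_f, IA_f); the case
of a general basic open D(f) ∩ V(I) follows by replacing A with A_f.) -/
theorem result (A : Type u) [CommRing A] (I : Ideal A)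
    (ι : Type u) (g : ι → A) (hcov : I ⊔ Ideal.span (Set.range g) = ⊤)
    (H : Type u) [CommRing H] [Algebra A H] (hH : Hens2.IsPairHenselization A I H)
    (Hi : ι → Type u) [∀ i, CommRing (Hi i)] [∀ i, Algebra (Localization.Away (g i)) (Hi i)]
    [∀ i, Algebra A (Hi i)] [∀ i, IsScalarTower A (Localization.Away (g i)) (Hi i)]
    (hHi : ∀ i, Hens2.IsPairHenselization (Localization.Away (g i))
      (I.map (algebraMap A (Localization.Away (g i)))) (Hi i))
    (Hij : ι → ι → Type u) [∀ i j, CommRing (Hij i j)]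
    [∀ i j, Algebra (Localization.Away (g i * g j)) (Hij i j)]
    [∀ i j, Algebra A (Hij i j)] [∀ i j, IsScalarTower A (Localization.Away (g i * g j)) (Hij i j)]
    (hHij : ∀ i j, Hens2.IsPairHenselization (Localization.Away (g i * g j))
      (I.map (algebraMap A (Localization.Away (g i * g j)))) (Hij i j))
    (ρ : ∀ i, H →ₐ[A] Hi i) (σ : ∀ i j, Hi i →ₐ[A] Hij i j) (τ : ∀ i j, Hi j →ₐ[A] Hij i j) :
    (∀ x y : H, (∀ i, ρ i x = ρ i y) → x = y) ∧
    ∀ s : ∀ i, Hi i, (∀ i j, σ i j (s i) = τ i j (s j)) → ∃ x : H, ∀ i, ρ i x = s i := by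
  classical
  have hHh := hH.1
  have hcov' : I.map (algebraMap A H) ⊔ Ideal.span (Set.range fun i => algebraMap A H (g i)) = ⊤ := by
    rw [show (Set.range fun i => algebraMap A H (g i)) = algebraMap A H '' Set.range g from
      Set.range_comp _ g, ← Ideal.map_span, ← Ideal.map_sup, hcov, Ideal.map_top]
  obtain ⟨s₀, hs₀⟩ : ∃ s₀ : Finset ι, ∀ s' : Finset ι, s₀ ⊆ s' → I.map (algebraMap A H) ⊔
      Ideal.span (Set.range fun i : s' => algebraMap A H (g i)) = ⊤ := by
    obtain ⟨a, ha, b, hb, hab⟩ := Submodule.mem_sup.1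
      ((hcov'.symm ▸ Submodule.mem_top : (1 : H) ∈ I.map (algebraMap A H) ⊔
        Ideal.span (Set.range fun i => algebraMap A H (g i))))
    obtain ⟨T, hT, hbT⟩ := Submodule.mem_span_finite_of_mem_span hb
    choose pre hpre using fun t : T => hT t.2
    refine ⟨Finset.univ.image pre, fun s' hs' => (Ideal.eq_top_iff_one _).2 ?_⟩
    rw [← hab]
    refine add_mem (Ideal.mem_sup_left ha) (Ideal.mem_sup_right (Ideal.span_mono ?_ hbT))
    intro t ht
    exact ⟨⟨pre ⟨t, ht⟩, hs' (Finset.mem_image_of_mem pre (Finset.mem_univ _))⟩, hpre ⟨t, ht⟩⟩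
  have hA : ∀ (K : Type u) [CommRing K] [Algebra A K] [Algebra H K] [IsScalarTower A H K] (f : A),
      HensSch.IsHensAway A I f K (algebraMap A K) →
      HensSch.IsHensAway H (I.map (algebraMap A H)) (algebraMap A H f) K (algebraMap H K) := by
    intro K _ _ _ _ f hK
    refine ⟨?_, ?_, fun C _ J φ hC hJ hu => ?_⟩
    · rw [← IsScalarTower.algebraMap_apply]
      exact hK.1
    · rw [Ideal.map_map, ← IsScalarTower.algebraMap_eq]
      exact hK.2.1
    · rw [Ideal.map_map] at hJ
      obtain ⟨k, hk, hku⟩ := hK.2.2 C J (φ.comp (algebraMap A H)) hC hJ hu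
      refine ⟨k, ?_, fun k' hk' => hku k' ?_⟩
      · refine Hens22.pairHens_ringHom_ext (hC := hC) hH J _ _ ?_ ?_
        · rw [RingHom.comp_assoc, ← IsScalarTower.algebraMap_eq, hk]
        · rw [RingHom.comp_assoc, ← IsScalarTower.algebraMap_eq, hk]
          exact hJ
      · show k'.comp (algebraMap A K) = _
        rw [IsScalarTower.algebraMap_eq A H K, ← RingHom.comp_assoc, hk']
  let _ : ∀ i, Algebra H (Hi i) := fun i => (ρ i).toRingHom.toAlgebra
  have : ∀ i, IsScalarTower A H (Hi i) := fun i =>
    IsScalarTower.of_algebraMap_eq fun a => ((ρ i).commutes a).symm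
  have hi : ∀ i, HensSch.IsHensAway H (I.map (algebraMap A H)) (algebraMap A H (g i)) (Hi i)
      (algebraMap H (Hi i)) := fun i => hA _ _ (Hens22.Glue.isHensAway_of_pairHens (hHi i))
  have hIij : ∀ i j, HenselianRing (Hij i j) (I.map (algebraMap A (Hij i j))) := fun i j => by
    have := (hHij i j).1
    rwa [Ideal.map_map, ← IsScalarTower.algebraMap_eq] at this
  have hρ : ∀ i j (x : H), σ i j (ρ i x) = τ i j (ρ j x) := fun i j x => by
    have := hIij i j
    exact DFunLike.congr_fun (Hens22.pairHens_algHom_ext hH (I.map (algebraMap A (Hij i j))) le_rfl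
      ((σ i j).comp (ρ i)) ((τ i j).comp (ρ j))) x
  let _ : ∀ i j, Algebra H (Hij i j) := fun i j => ((σ i j).comp (ρ i)).toRingHom.toAlgebra
  have : ∀ i j, IsScalarTower A H (Hij i j) := fun i j =>
    IsScalarTower.of_algebraMap_eq fun a => (((σ i j).comp (ρ i)).commutes a).symm
  have hij : ∀ i j, HensSch.IsHensAway H (I.map (algebraMap A H))
      (algebraMap A H (g i) * algebraMap A H (g j)) (Hij i j) (algebraMap H (Hij i j)) := fun i j => by
    rw [← map_mul]
    exact hA _ _ (Hens22.Glue.isHensAway_of_pairHens (hHij i j))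
  have hinj : ∀ x y : H, (∀ i, ρ i x = ρ i y) → x = y := fun x y h => by
    rw [← sub_eq_zero]
    refine Hens22.Glue.eq_zero_of_forall_away (M := H) (I := I.map (algebraMap A H))
      (fun i => algebraMap A H (g i)) hcov' Hi hi (x - y) fun i => ?_
    apply (TensorProduct.rid H (Hi i)).injective
    rw [map_zero, TensorProduct.rid_tmul, Algebra.smul_def, mul_one]
    show ρ i (x - y) = 0
    rw [map_sub, h i, sub_self]
  refine ⟨hinj, fun s hs => ?_⟩
  let σ' : ∀ i j, Hi i →ₐ[H] Hij i j := fun i j => { σ i j with commutes' := fun r => rfl }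
  let τ' : ∀ i j, Hi j →ₐ[H] Hij i j := fun i j => { τ i j with commutes' := fun r => (hρ i j r).symm }
  have hglue : ∀ s' : Finset ι, s₀ ⊆ s' → ∃ x : H, ∀ i ∈ s', ρ i x = s i := fun s' hs' => by
    obtain ⟨x, hx⟩ := Hens22.Glue.exists_glue_away (M := H) (I := I.map (algebraMap A H))
      (fun i : s' => algebraMap A H (g i)) (hs₀ s' hs') (fun i => Hi i) (fun i => hi i)
      (fun i j => Hij i j) (fun i j => hij i j) (fun i j => σ' i j) (fun i j => τ' i j)
      (fun i => (s i) ⊗ₜ[H] (1 : H)) (fun i j => by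
        simp only [Hens22.Glue.push, LinearMap.rTensor_tmul]
        exact congrArg (· ⊗ₜ[H] (1 : H)) (hs i j))
    refine ⟨x, fun i hi' => ?_⟩
    have := congrArg (TensorProduct.rid H (Hi i)) (hx ⟨i, hi'⟩)
    rw [TensorProduct.rid_tmul, TensorProduct.rid_tmul, one_smul, Algebra.smul_def, mul_one] at this
    exact this
  obtain ⟨x, hx⟩ := hglue s₀ subset_rfl
  refine ⟨x, fun i => ?_⟩
  obtain ⟨y, hy⟩ := hglue (insert i s₀) (Finset.subset_insert i s₀)
  have hxy : x = y := by
    rw [← sub_eq_zero]
    refine Hens22.Glue.eq_zero_of_forall_away (M := H) (I := I.map (algebraMap A H))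
      (fun k : s₀ => algebraMap A H (g k)) (hs₀ s₀ subset_rfl) (fun k => Hi k) (fun k => hi k)
      (x - y) fun k => ?_
    apply (TensorProduct.rid H (Hi k)).injective
    rw [map_zero, TensorProduct.rid_tmul, Algebra.smul_def, mul_one]
    show ρ k (x - y) = 0
    rw [map_sub, hx k k.2, hy k (Finset.mem_insert_of_mem k.2), sub_self]
  rw [hxy]
  exact hy i (Finset.mem_insert_self i s₀)

end Groth.Agent.S17606
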