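import Groth.Statements.S17613
import Groth.Agent.Hens22.DirLim

set_option autoImplicit false
universe u
open Hensel

namespace Groth.Agent.S17613

/-- Let (A, I) be a Henselian pair and let B be a Henselization of the pair (R₀, IR₀) for a finitely
presented A-algebra R₀ (so A → B is Henselian finitely presented). Let (R_a) be a directed system of
A-algebras with A-compatible transition maps such that each (R_a, IR_a) is a Henselian pair, and let
L be its direct limit with the induced A-algebra structure. Then the canonical map from the colimit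
of the Hom_A(B, R_a) to Hom_A(B, L) is bijective: every A-algebra map B → L factors through some
R_a, and two A-algebra maps B → R_a whose composites with R_a → L agree become equal after passing
to some R_b. (Index set in the universe of the rings.) -/
theorem result (A : Type u) [CommRing A] (I : Ideal A)
    [HenselianRing A I] (R₀ : Type u) [CommRing R₀] [Algebra A R₀] [Algebra.FinitePresentation A R₀]
    (B : Type u) [CommRing B] [Algebra R₀ B] [Algebra A B] [IsScalarTower A R₀ B]
    (hB : Hens2.IsPairHenselization R₀ (I.map (algebraMap A R₀)) B)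
    {κ : Type u} [Preorder κ] [IsDirectedOrder κ] [Nonempty κ]
    (Ra : κ → Type u) [∀ a, CommRing (Ra a)] [∀ a, Algebra A (Ra a)]
    [∀ a, HenselianRing (Ra a) (I.map (algebraMap A (Ra a)))]
    (t : ∀ a b : κ, a ≤ b → (Ra a →+* Ra b)) [DirectedSystem Ra (fun a b h => t a b h)]
    (ht : ∀ (a b : κ) (h : a ≤ b), (t a b h).comp (algebraMap A (Ra a)) = algebraMap A (Ra b))
    [Algebra A (DirectLimit Ra t)]
    (halg : ∀ (a : κ) (x : A), algebraMap A (DirectLimit Ra t) x =
      DirectLimit.Ring.of Ra t a (algebraMap A (Ra a) x)) :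
    (∀ χ : B →ₐ[A] DirectLimit Ra t, ∃ (a : κ) (φ : B →ₐ[A] Ra a),
        ∀ x : B, DirectLimit.Ring.of Ra t a (φ x) = χ x) ∧
    ∀ (a : κ) (φ ψ : B →ₐ[A] Ra a),
      (∀ x : B, DirectLimit.Ring.of Ra t a (φ x) = DirectLimit.Ring.of Ra t a (ψ x)) →
      ∃ (b : κ) (h : a ≤ b), ∀ x : B, t a b h (φ x) = t a b h (ψ x) := by
  have hL := Hens22.henselianRing_directLimit I ht halg
  have hext : ∀ {C : Type u} [CommRing C] [Algebra A C] [HenselianRing C (I.map (algebraMap A C))]
      (f g : B →ₐ[A] C), (∀ r, f (algebraMap R₀ B r) = g (algebraMap R₀ B r)) → f = g := by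
    intro C _ _ _ f g h
    refine AlgHom.coe_ringHom_injective (Hens22.pairHens_ringHom_ext hB (I.map (algebraMap A C))
      (f : B →+* C) g (RingHom.ext h) ?_)
    rw [Ideal.map_map, RingHom.comp_assoc, ← IsScalarTower.algebraMap_eq,
      show (f : B →+* C).comp (algebraMap A B) = algebraMap A C from f.comp_algebraMap]
  refine ⟨fun χ => ?_, fun a φ ψ h => ?_⟩
  · obtain ⟨a, φ₀, hφ₀⟩ := Hens22.dirLim_exists_algHom ht halg
      (χ.comp (IsScalarTower.toAlgHom A R₀ B))
    obtain ⟨g, hg, -⟩ := hB.2 (Ra a) (I.map (algebraMap A (Ra a))) φ₀.toRingHom inferInstance (by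
      rw [Ideal.map_map, show φ₀.toRingHom.comp (algebraMap A R₀) = algebraMap A (Ra a) from
        φ₀.comp_algebraMap])
    have hga : ∀ x : A, g (algebraMap A B x) = algebraMap A (Ra a) x := fun x => by
      rw [IsScalarTower.algebraMap_apply A R₀ B]
      exact (RingHom.congr_fun hg _).trans (φ₀.commutes x)
    let φ : B →ₐ[A] Ra a := { g with commutes' := hga }
    let ofA : Ra a →ₐ[A] DirectLimit Ra t :=
      { DirectLimit.Ring.of Ra t a with commutes' := fun x => (halg a x).symm }
    refine ⟨a, φ, fun x => DFunLike.congr_fun (hext (ofA.comp φ) χ fun r => ?_) x⟩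
    show DirectLimit.Ring.of Ra t a (g (algebraMap R₀ B r)) = _
    rw [show g (algebraMap R₀ B r) = φ₀ r from RingHom.congr_fun hg r]
    exact hφ₀ r
  · obtain ⟨b, hab, hb⟩ := Hens22.dirLim_algHom_eq ht
      (φ.comp (IsScalarTower.toAlgHom A R₀ B)) (ψ.comp (IsScalarTower.toAlgHom A R₀ B))
      fun r => h _
    let tA : Ra a →ₐ[A] Ra b :=
      { t a b hab with commutes' := fun x => RingHom.congr_fun (ht a b hab) x }
    exact ⟨b, hab, fun x => DFunLike.congr_fun (hext (tA.comp φ) (tA.comp ψ) hb) x⟩

end Groth.Agent.S17613
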