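import Groth.Statements.S17616
import Groth.Agent.Hens22.AwayNbhd

set_option autoImplicit false
universe u
open Hensel

namespace Groth.Agent.S17616

/-- Let P be a property of ring maps (between rings in a fixed universe), and say that f : B → B' has P
at a prime q of B' if the composite B → B' → B'_g has P for some g ∉ q. Assume (i) for every
finitely presented f : B → B' the set of primes of B' at which f has P is ind-constructible in Spec
B', and f has P as soon as it has P at every prime; (ii) every étale ring map has P; (iii) for g : C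
→ C' and h : C' → C'', if h has P at a prime q of C'' and g has P at the inverse image of q in C',
then h ∘ g has P at q. Now suppose (A, I) is a Henselian pair, and take an A-algebra R of finite
presentation for which A → R has P at each prime of R that contains IR. Then there is an étale
R-algebra R' with R/IR → R'/IR' bijective such that A → R' has P. -/
theorem result
    (P : ∀ ⦃B B' : Type u⦄ [CommRing B] [CommRing B'], (B →+* B') → Prop)
    (PAt : ∀ ⦃B B' : Type u⦄ [CommRing B] [CommRing B'], (B →+* B') → Ideal B' → Prop)
    (hPAt : ∀ ⦃B B' : Type u⦄ [CommRing B] [CommRing B'] (f : B →+* B') (q : Ideal B'),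
      PAt f q ↔ ∃ g : B', g ∉ q ∧ P ((algebraMap B' (Localization.Away g)).comp f))
    (h₁ : ∀ ⦃B B' : Type u⦄ [CommRing B] [CommRing B'] (f : B →+* B'), f.FinitePresentation →
      ProCons.IsIndConstructible {q : PrimeSpectrum B' | PAt f q.asIdeal} ∧
        ((∀ q : PrimeSpectrum B', PAt f q.asIdeal) → P f))
    (h₂ : ∀ ⦃B B' : Type u⦄ [CommRing B] [CommRing B'] (f : B →+* B'), f.Etale → P f)
    (h₃ : ∀ ⦃C C' C'' : Type u⦄ [CommRing C] [CommRing C'] [CommRing C''] (g : C →+* C')
      (h : C' →+* C'') (q : Ideal C'') [q.IsPrime],
      PAt h q → PAt g (q.comap h) → PAt (h.comp g) q)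
    (A : Type u) [CommRing A] (I : Ideal A) [HenselianRing A I]
    (R : Type u) [CommRing R] [Algebra A R] [Algebra.FinitePresentation A R]
    (hR : ∀ (p : Ideal R) [p.IsPrime], I.map (algebraMap A R) ≤ p → PAt (algebraMap A R) p) :
    ∃ (R' : Type u) (_ : CommRing R') (_ : Algebra R R') (_ : Algebra A R') (_ : IsScalarTower A R R'),
      Algebra.Etale R R' ∧
      Function.Bijective (Ideal.quotientMap ((I.map (algebraMap A R)).map (algebraMap R R'))
        (algebraMap R R') Ideal.le_comap_map) ∧ P (algebraMap A R') := by
  obtain ⟨f, hf, hcov⟩ := Hens22.exists_away_of_cover (I.map (algebraMap A R))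
    {g : R | P ((algebraMap R (Localization.Away g)).comp (algebraMap A R))}
    (fun p hp hle => by
      obtain ⟨g, hg, hP⟩ := (hPAt _ _).1 (hR p hle)
      exact ⟨g, hP, hg⟩)
  let R' := Localization.Away f
  have hbij := Hens22.quotientMap_away_bijective (I.map (algebraMap A R)) f hf (R' := R')
  have het : Algebra.Etale R R' := Algebra.Etale.of_isLocalizationAway f
  refine ⟨R', inferInstance, inferInstance, inferInstance, inferInstance, het, hbij, ?_⟩
  have hfp : Algebra.FinitePresentation R R' := het.finitePresentation
  have hfp' : (algebraMap A R').FinitePresentation :=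
    RingHom.finitePresentation_algebraMap.2 (Algebra.FinitePresentation.trans A R R')
  refine (h₁ _ hfp').2 fun q => ?_
  have hp : f ∉ q.asIdeal.comap (algebraMap R R') := fun hmem =>
    q.isPrime.ne_top (Ideal.eq_top_of_isUnit_mem _ (Ideal.mem_comap.1 hmem)
      (IsLocalization.Away.algebraMap_isUnit f))
  obtain ⟨g, hg, hgp⟩ := hcov _ (Ideal.IsPrime.comap _) hp
  rw [IsScalarTower.algebraMap_eq A R R']
  refine h₃ _ _ q.asIdeal ?_ ((hPAt _ _).2 ⟨g, hgp, hg⟩)
  refine (hPAt _ _).2 ⟨1, q.asIdeal.primeCompl.one_mem, h₂ _ ?_⟩
  rw [← IsScalarTower.algebraMap_eq R R' (Localization.Away (1 : R'))]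
  have : Algebra.Etale R' (Localization.Away (1 : R')) := Algebra.Etale.of_isLocalizationAway 1
  exact RingHom.etale_algebraMap.2 (Algebra.Etale.comp R R' (Localization.Away (1 : R')))

end Groth.Agent.S17616
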