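import Groth.Statements.S17617
import Groth.Agent.Hens22.PairHens

set_option autoImplicit false
universe u
open Hensel

namespace Groth.Agent.S17617

/-- Let (A, I) be a Henselian pair and let M' → M → M'' be A-linear maps with zero composite. Then M' →
M → M'' is exact if and only if for every prime ideal p of A containing I and every Henselization H
of the pair (A_p, IA_p), the sequence H ⊗_A M' → H ⊗_A M → H ⊗_A M'' is exact. (The modules H ⊗_A M
are the stalks at p of the sheaf associated to M on the affine Henselian scheme of (A, I), and
exactness of a sequence of such sheaves is exactness at every stalk, so this is the statement that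
the sequence of modules is exact exactly when the associated sequence of sheaves is.) -/
theorem result (A : Type u) [CommRing A]
    (I : Ideal A) [HenselianRing A I]
    (M' M M'' : Type u) [AddCommGroup M'] [Module A M'] [AddCommGroup M] [Module A M]
    [AddCommGroup M''] [Module A M''] (f : M' →ₗ[A] M) (g : M →ₗ[A] M'') (hfg : g.comp f = 0) :
    Function.Exact f g ↔
    ∀ (p : Ideal A) [p.IsPrime], I ≤ p →
      ∀ (H : Type u) [CommRing H] [Algebra (Localization.AtPrime p) H] [Algebra A H]
        [IsScalarTower A (Localization.AtPrime p) H],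
        Hens2.IsPairHenselization (Localization.AtPrime p)
          (I.map (algebraMap A (Localization.AtPrime p))) H →
        Function.Exact (f.baseChange H) (g.baseChange H) := by
  constructor
  · intro h p _ _ H _ _ _ _ hH
    have := Hens22.pairHens_flat hH
    have : Module.Flat A H := Module.Flat.trans A (Localization.AtPrime p) H
    have := Module.Flat.lTensor_exact H h
    simpa [LinearMap.baseChange_eq_ltensor] using this
  · intro h x
    refine ⟨fun hx => ?_, fun hx => ?_⟩
    swap
    · obtain ⟨y, rfl⟩ := hx
      exact LinearMap.congr_fun hfg y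
    by_contra hne
    let q : M ⧸ LinearMap.range f := Submodule.Quotient.mk x
    let a : Submodule A A := LinearMap.ker (LinearMap.toSpanSingleton A (M ⧸ LinearMap.range f) q)
    have ha : a ≠ ⊤ := fun ht => hne (by
      have h1 : (1 : A) • q = 0 := LinearMap.mem_ker.1 (ht ▸ Submodule.mem_top : (1 : A) ∈ a)
      rw [one_smul] at h1
      exact (Submodule.Quotient.mk_eq_zero _).1 h1)
    obtain ⟨m, hm, ham⟩ := Ideal.exists_le_maximal (a : Ideal A) ha
    have hIm : I ≤ m := HenselianRing.jac.trans
      (sInf_le ⟨bot_le, hm⟩ : Ideal.jacobson (⊥ : Ideal A) ≤ m)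
    obtain ⟨H, _, _, hH, _⟩ := Hens22.exists_isPairHenselization
      (I.map (algebraMap A (Localization.AtPrime m)))
    let _ : Algebra A H := Algebra.compHom H (algebraMap A (Localization.AtPrime m))
    have : IsScalarTower A (Localization.AtPrime m) H := IsScalarTower.of_algebraMap_eq fun _ => rfl
    have : Module.Flat A H := Module.Flat.trans A (Localization.AtPrime m) H
    have hex := h m hIm H hH
    have hx1 : g.baseChange H (1 ⊗ₜ[A] x) = 0 := by
      rw [LinearMap.baseChange_tmul, hx, TensorProduct.tmul_zero]
    obtain ⟨y, hy⟩ := (hex _).1 hx1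
    have hq : (1 : H) ⊗ₜ[A] q = 0 := by
      have h2 : (Submodule.mkQ (LinearMap.range f)).lTensor H (f.lTensor H y) = 0 := by
        rw [← LinearMap.lTensor_comp_apply, LinearMap.range_mkQ_comp, LinearMap.lTensor_zero]
        rfl
      rw [← LinearMap.baseChange_eq_ltensor (f := f), hy] at h2
      simpa [q] using h2
    let φ : A ⧸ a →ₗ[A] M ⧸ LinearMap.range f :=
      Submodule.liftQ a (LinearMap.toSpanSingleton A _ q) le_rfl
    have hφ : Function.Injective φ := LinearMap.ker_eq_bot.1 (Submodule.ker_liftQ_eq_bot _ _ _ le_rfl)
    have h1 : (1 : H) ⊗ₜ[A] (Submodule.Quotient.mk 1 : A ⧸ a) = 0 := by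
      refine Module.Flat.lTensor_preserves_injective_linearMap φ hφ ?_
      rw [LinearMap.lTensor_tmul, map_zero]
      show (1 : H) ⊗ₜ[A] ((1 : A) • q) = 0
      rw [one_smul, hq]
    let K := IsLocalRing.ResidueField (Localization.AtPrime m)
    have := Hens22.henselianRing_of_le_nilradical (⊥ : Ideal K) bot_le
    obtain ⟨e⟩ := Hens22.pairHens_exists_algHom hH (⊥ : Ideal K) (Ideal.map_le_iff_le_comap.2
      (Ideal.map_le_iff_le_comap.2 fun i hi => by
        show IsLocalRing.residue _ (algebraMap A (Localization.AtPrime m) i) = 0
        rw [IsLocalRing.residue_eq_zero_iff, IsLocalization.AtPrime.to_map_mem_maximal_iff _ m]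
        exact hIm hi))
    let ψ : A ⧸ a →ₗ[A] K := Submodule.liftQ a (Algebra.linearMap A K) fun i hi => by
      show algebraMap A K i = 0
      rw [IsScalarTower.algebraMap_apply A (Localization.AtPrime m) K]
      show IsLocalRing.residue _ (algebraMap A (Localization.AtPrime m) i) = 0
      rw [IsLocalRing.residue_eq_zero_iff, IsLocalization.AtPrime.to_map_mem_maximal_iff _ m]
      exact ham hi
    have h3 := congrArg (TensorProduct.lift
      ((LinearMap.mul A K).compl₁₂ (e.restrictScalars A).toLinearMap ψ)) h1
    have h4 : ψ (Submodule.Quotient.mk 1) = 1 := map_one (algebraMap A K)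
    rw [TensorProduct.lift.tmul, map_zero, LinearMap.compl₁₂_apply, LinearMap.mul_apply', h4, mul_one,
      AlgHom.toLinearMap_apply, map_one] at h3
    exact one_ne_zero h3

end Groth.Agent.S17617
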