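import Groth.Statements.S17621
import Groth.Agent.Var76.AsympPeriod

set_option autoImplicit false
universe u
open CategoryTheory CategoryTheory.Limits AlgebraicGeometry
open Variety

namespace Groth.Agent.S17621

open CategoryTheory

/-- Let X be an integral scheme, proper over an algebraically closed field k of characteristic zero and
admitting an ample invertible module, of dimension n (stated in the source over the complex
numbers), L an invertible O_X-module and a ≥ 1. Then ĥ^i(X, L^{⊗a}) = a^n · ĥ^i(X, L) for every i ≥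
0, where ĥ^i(X, L) = limsup_m dim_k H^i(X, L^{⊗m}) · n!/m^n is the i-th asymptotic cohomological
function. -/
theorem result (k : Type u) [Field k] [IsAlgClosed k] [CharZero k] (X : Scheme.{u})
    [X.Over (Spec (CommRingCat.of k))] [AlgebraicGeometry.IsIntegral X]
    [IsProper (X ↘ Spec (CommRingCat.of k))] (hproj : ∃ A : X.Modules, CohB1.IsAmple A)
    (n : ℕ) (hn : topologicalKrullDim X = n)
    (L : X.Modules) (hL : PicF.IsInvertible L) (a : ℕ) (ha : 1 ≤ a) (i : ℕ) :
    W4c5asymptcohfn.hhat k X n i (CohB1.tensorPow L a) = (a : ℝ) ^ n * W4c5asymptcohfn.hhat k X n i L := by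
  have := Groth.Agent.Crv77.isNoetherian_of_proper k X
  obtain ⟨C, hC⟩ := Groth.Agent.Var76.Growth.exists_step k hL hn.le i
  obtain ⟨D, hD⟩ := Groth.Agent.Var76.Growth.exists_bound_hi k hL _ Groth.Agent.QC70.isCoh_unit hn.le i
  have hh := Groth.Agent.Var76.Growth.limsup_progression ha hC hD
  have e : ∀ m, Groth.Agent.Var76.Growth.hi k i L (Coh.structureModule X) m =
      Module.finrank k (Coh.HH X (CohB1.tensorPow L m) i) := fun m =>
    (Groth.Agent.Crv77.hEquiv k (Groth.Agent.EGA73.tensUnitLeft (CohB1.tensorPow L m)) i).finrank_eq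
  have han : (0 : ℝ) < (a : ℝ) ^ n := pow_pos (by exact_mod_cast ha) n
  unfold W4c5asymptcohfn.hhat
  simp only [e] at hh
  rw [← hh]
  have hmono : Monotone fun x : ℝ => (a : ℝ) ^ n * x := fun _ _ h => mul_le_mul_of_nonneg_left h han.le
  have hb : Filter.IsBoundedUnder (· ≤ ·) Filter.atTop
      (fun q : ℕ => (Module.finrank k (Coh.HH X (CohB1.tensorPow L (a * q)) i) : ℝ) * (n.factorial : ℝ) /
        ((a * q : ℕ) : ℝ) ^ n) := by
    refine Filter.isBoundedUnder_of_eventually_le (a := (D : ℝ) * n.factorial * 2 ^ n) ?_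
    filter_upwards [Filter.eventually_ge_atTop 1] with q hq
    have hm1 : (1 : ℝ) ≤ ((a * q : ℕ) : ℝ) := by exact_mod_cast Nat.mul_pos ha hq
    have hb' : (Module.finrank k (Coh.HH X (CohB1.tensorPow L (a * q)) i) : ℝ) ≤
        D * (((a * q : ℕ) : ℝ) + 1) ^ n := by exact_mod_cast (e (a * q)).ge.trans (hD (a * q))
    have hp : (((a * q : ℕ) : ℝ) + 1) ^ n ≤ 2 ^ n * ((a * q : ℕ) : ℝ) ^ n := by
      rw [← mul_pow]
      gcongr
      linarith
    rw [div_le_iff₀ (by positivity)]
    calc _ ≤ (D : ℝ) * (2 ^ n * ((a * q : ℕ) : ℝ) ^ n) * n.factorial :=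
          mul_le_mul_of_nonneg_right (hb'.trans (mul_le_mul_of_nonneg_left hp (Nat.cast_nonneg D)))
            (Nat.cast_nonneg _)
      _ = _ := by ring
  refine Eq.trans ?_ (hmono.map_limsup_of_continuousAt _ (continuous_const.mul continuous_id).continuousAt hb
    (Filter.isBoundedUnder_of ⟨0, fun q => by positivity⟩ :
      Filter.IsBoundedUnder (· ≥ ·) Filter.atTop _).isCoboundedUnder_le).symm
  congr 1
  funext q
  rw [(Groth.Agent.Crv77.hEquiv k (Groth.Agent.Amp73.powMul L a q) i).finrank_eq]
  simp only [Function.comp_apply, Nat.cast_mul, mul_pow]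
  field_simp

end Groth.Agent.S17621
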