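import Groth.Statements.S17627
import Groth.Agent.Var76.GenericCompare

set_option autoImplicit false
universe u
open CategoryTheory CategoryTheory.Limits AlgebraicGeometry
open Variety

namespace Groth.Agent.S17627

open CategoryTheory
open Groth.Agent.Var76.Growth in
theorem hi_unit_eq (k : Type u) [Field k] {X : Scheme.{u}} [X.Over (Spec (CommRingCat.of k))]
    (L : X.Modules) (i m : ℕ) : hi k i L (Coh.structureModule X) m = Module.finrank k (Coh.HH X (CohB1.tensorPow L m) i) :=
  (Groth.Agent.Crv77.hEquiv k (Groth.Agent.EGA73.tensUnitLeft (CohB1.tensorPow L m)) i).finrank_eq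

theorem limsup_const_mul {v : ℕ → ℝ} {c : ℝ} (hc : 0 ≤ c) (h0 : ∀ m, 0 ≤ v m)
    (hb : Filter.IsBoundedUnder (· ≤ ·) Filter.atTop v) :
    Filter.limsup (fun m => c * v m) Filter.atTop = c * Filter.limsup v Filter.atTop :=
  (Monotone.map_limsup_of_continuousAt (f := fun x : ℝ => c * x) (fun a b h => mul_le_mul_of_nonneg_left h hc) v
    (continuous_const.mul continuous_id).continuousAt hb
    (Filter.isBoundedUnder_of ⟨0, h0⟩ : Filter.IsBoundedUnder (· ≥ ·) Filter.atTop v).isCoboundedUnder_le).symm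

theorem isBounded_of_bound {h : ℕ → ℕ} {n : ℕ} (hb : ∃ C : ℕ, ∀ m, h m ≤ C * (m + 1) ^ n) :
    Filter.IsBoundedUnder (· ≤ ·) Filter.atTop (fun m : ℕ => (h m : ℝ) * (n.factorial : ℝ) / (m : ℝ) ^ n) := by
  obtain ⟨D, hD⟩ := hb
  refine Filter.isBoundedUnder_of_eventually_le (a := (D : ℝ) * n.factorial * 2 ^ n) ?_
  filter_upwards [Filter.eventually_ge_atTop 1] with m hm
  have hm' : (1 : ℝ) ≤ m := by exact_mod_cast hm
  have hb' : (h m : ℝ) ≤ D * ((m : ℝ) + 1) ^ n := by exact_mod_cast hD m
  have hp : ((m : ℝ) + 1) ^ n ≤ 2 ^ n * (m : ℝ) ^ n := by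
    rw [← mul_pow]
    gcongr
    linarith
  rw [div_le_iff₀ (by positivity)]
  calc (h m : ℝ) * n.factorial ≤ D * (2 ^ n * (m : ℝ) ^ n) * n.factorial :=
        mul_le_mul_of_nonneg_right (hb'.trans (mul_le_mul_of_nonneg_left hp (Nat.cast_nonneg D)))
          (Nat.cast_nonneg _)
    _ = _ := by ring

/-- Let X be an integral scheme, proper over an algebraically closed field k of characteristic zero and
admitting an ample invertible module, of dimension n (stated in the source over the complex
numbers), F a coherent O_X-module whose generic rank — the dimension of its stalk at the generic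
point of X over the function field — is r, and L an invertible O_X-module. Then limsup_m dim_k
H^i(X, F ⊗ L^{⊗m}) · n!/m^n = r · ĥ^i(X, L) for every i ≥ 0, where ĥ^i(X, L) = limsup_m dim_k H^i(X,
L^{⊗m}) · n!/m^n. -/
theorem result (k : Type u) [Field k] [IsAlgClosed k] [CharZero k] (X : Scheme.{u})
    [X.Over (Spec (CommRingCat.of k))] [AlgebraicGeometry.IsIntegral X]
    [IsProper (X ↘ Spec (CommRingCat.of k))] (hproj : ∃ A : X.Modules, CohB1.IsAmple A)
    (n : ℕ) (hn : topologicalKrullDim X = n)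
    (F : X.Modules) (hF : Coh.IsCoh F) (r : ℕ)
    (hr : Module.finrank (X.presheaf.stalk (genericPoint X)) (F.presheaf.stalk (genericPoint X)) = r)
    (L : X.Modules) (hL : PicF.IsInvertible L) (i : ℕ) :
    W4c5asymptcohfn.hhatF k X n i F L = (r : ℝ) * W4c5asymptcohfn.hhat k X n i L := by
  have := Groth.Agent.Crv77.isNoetherian_of_proper k X
  have hO : Coh.IsCoh (Coh.structureModule X) := Groth.Agent.QC70.isCoh_unit
  have hc := Groth.Agent.Var76.Growth.close_rank k hL hF hn.le hr i
  obtain ⟨C, hC⟩ := Groth.Agent.Var76.Growth.exists_bound_hi k hL _ hO hn.le i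
  have h1 := Groth.Agent.Var76.Growth.limsup_eq_of_close hc ⟨r * C, fun m =>
    (Nat.mul_le_mul_left r (hC m)).trans (mul_assoc r C _).ge⟩
  unfold W4c5asymptcohfn.hhatF W4c5asymptcohfn.hhat
  refine h1.trans ?_
  rw [← limsup_const_mul (Nat.cast_nonneg r) (fun m => by positivity)
    (isBounded_of_bound ⟨C, fun m => (hi_unit_eq k L i m).symm.le.trans (hC m)⟩)]
  congr 1
  funext m
  rw [hi_unit_eq]
  push_cast
  ring

end Groth.Agent.S17627
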