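import Groth.Statements.S17623
import Groth.Agent.Var76.AsympPull
import Groth.Agent.S17627
import Groth.Agent.Ega11.SchemeDimFormula

set_option autoImplicit false
universe u
open CategoryTheory CategoryTheory.Limits AlgebraicGeometry
open Variety

namespace Groth.Agent.S17623

open CategoryTheory
theorem dim_Y_le {X Y : Scheme.{u}} (f : Y ⟶ X) (k : Type u) [Field k] [X.Over (Spec (CommRingCat.of k))]
    [Y.Over (Spec (CommRingCat.of k))] [IsIntegral X] [IsIntegral Y]
    [IsProper (X ↘ Spec (CommRingCat.of k))] [IsProper (Y ↘ Spec (CommRingCat.of k))]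
    (hf : f ≫ (X ↘ Spec (CommRingCat.of k)) = Y ↘ Spec (CommRingCat.of k))
    (hdom : f (genericPoint Y) = genericPoint X) (hd : 0 < f.residueDegree (genericPoint Y)) {n : ℕ}
    (hn : topologicalKrullDim X = n) : topologicalKrullDim Y ≤ n := by
  have := Groth.Agent.Crv77.isNoetherian_of_proper k X
  have := Groth.Agent.Crv77.isNoetherian_of_proper k Y
  have : IsProper (f ≫ (X ↘ (Spec (CommRingCat.of k)))) := hf.symm ▸ inferInstance
  have : IsProper f := IsProper.of_comp f (X ↘ (Spec (CommRingCat.of k)))
  have hfin : (letI := (f.residueFieldMap (genericPoint Y)).hom.toAlgebra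
      Module.Finite (X.residueField (f (genericPoint Y))) (Y.residueField (genericPoint Y))) := by
    letI := (f.residueFieldMap (genericPoint Y)).hom.toAlgebra
    exact Module.finite_of_finrank_pos hd
  have hcl := (Groth.Agent.Fin57.finite_residueField_iff f (genericPoint Y)).1 hfin
  have hdense : DenseRange f.base := dense_iff_closure_eq.2 (Set.eq_univ_of_univ_subset
    ((genericPoint_closure X).ge.trans (closure_mono (Set.singleton_subset_iff.2 ⟨_, hdom⟩))))
  have h := (Groth.Agent.Ega11.SchemeDimFormula.irreducible_dominant f hdense).1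
  rw [← hdom, Groth.Agent.Ega11.SchemeDimFormula.dim_generic_fibre f,
    Groth.Agent.E4O.fdeg_eq_zero_of_closed_in_fibre f hcl] at h
  simpa [hn] using h

/-- Let X and Y be integral schemes, proper over an algebraically closed field k of characteristic zero
and each admitting an ample invertible module (stated in the source over the complex numbers), with
X of dimension n, and let f : Y → X be a k-morphism which is dominant and generically finite of
degree d ≥ 1: f maps the generic point of Y to the generic point of X and the residue-field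
extension there has finite degree d (so f is proper and surjective and Y has dimension n). Then for
every invertible O_X-module L and every i ≥ 0, ĥ^i(Y, f^*L) = d · ĥ^i(X, L), where ĥ^i(−, L) =
limsup_m dim_k H^i(−, L^{⊗m}) · n!/m^n. -/
theorem result (k : Type u) [Field k] [IsAlgClosed k] [CharZero k]
    (X Y : Scheme.{u}) [X.Over (Spec (CommRingCat.of k))] [Y.Over (Spec (CommRingCat.of k))]
    [AlgebraicGeometry.IsIntegral X] [AlgebraicGeometry.IsIntegral Y]
    [IsProper (X ↘ Spec (CommRingCat.of k))] [IsProper (Y ↘ Spec (CommRingCat.of k))]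
    (hXproj : ∃ A : X.Modules, CohB1.IsAmple A) (hYproj : ∃ B : Y.Modules, CohB1.IsAmple B)
    (n : ℕ) (hn : topologicalKrullDim X = n)
    (f : Y ⟶ X) (hf : f ≫ (X ↘ Spec (CommRingCat.of k)) = Y ↘ Spec (CommRingCat.of k))
    (hdom : f.base (genericPoint Y) = genericPoint X) (d : ℕ) (hd : f.residueDegree (genericPoint Y) = d)
    (hd0 : 1 ≤ d) (L : X.Modules) (hL : PicF.IsInvertible L) (i : ℕ) :
    W4c5asymptcohfn.hhat k Y n i ((Scheme.Modules.pullback f).obj L) =
      (d : ℝ) * W4c5asymptcohfn.hhat k X n i L := by
  have := Groth.Agent.Crv77.isNoetherian_of_proper k X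
  obtain ⟨B, hB⟩ := hYproj
  have hd' : 0 < f.residueDegree (genericPoint Y) := hd.symm ▸ hd0
  have hY := dim_Y_le f k hf hdom hd' hn
  have hc := Groth.Agent.Var76.Growth.close_pullback_genFinite f k hf hL hB hY hn.le hdom hd hd0 i
  obtain ⟨C, hC⟩ := Groth.Agent.Var76.Growth.exists_bound_hi k hL _ Groth.Agent.QC70.isCoh_unit hn.le i
  have hC' : ∀ m, Module.finrank k (Coh.HH X (CohB1.tensorPow L m) i) ≤ C * (m + 1) ^ n := fun m =>
    (Groth.Agent.Var76.Growth.hi_unit k i L m).symm.le.trans (hC m)
  unfold W4c5asymptcohfn.hhat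
  refine (Groth.Agent.Var76.Growth.limsup_eq_of_close hc ⟨d * C, fun m =>
    (Nat.mul_le_mul_left d (hC' m)).trans (mul_assoc d C _).ge⟩).trans ?_
  rw [← Groth.Agent.S17627.limsup_const_mul (Nat.cast_nonneg d) (fun m => by positivity)
    (Groth.Agent.S17627.isBounded_of_bound ⟨C, hC'⟩)]
  congr 1
  funext m
  push_cast
  ring

end Groth.Agent.S17623
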