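import Groth.Statements.S17626
import Groth.Agent.Var76.TopVanish

set_option autoImplicit false
universe u
open CategoryTheory CategoryTheory.Limits AlgebraicGeometry
open Variety

namespace Groth.Agent.S17626

open CategoryTheory
open Filter in
theorem bigFreq_of_hhat {h : ℕ → ℕ} {n : ℕ}
    (hb : 0 < Filter.limsup (fun m : ℕ => (h m : ℝ) * (n.factorial : ℝ) / (m : ℝ) ^ n) Filter.atTop) :
    Groth.Agent.Var76.Growth.BigFreq h n := by
  obtain ⟨q, hq0, hq⟩ := exists_between hb
  have hfac : (0 : ℝ) < n.factorial := by exact_mod_cast n.factorial_pos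
  refine Groth.Agent.Var76.Growth.bigFreq_of_frequently (c := q / n.factorial) (div_pos hq0 hfac) ?_
  have hcob : Filter.IsCoboundedUnder (· ≤ ·) Filter.atTop
      (fun m : ℕ => (h m : ℝ) * (n.factorial : ℝ) / (m : ℝ) ^ n) :=
    (Filter.isBoundedUnder_of ⟨0, fun m => by positivity⟩ : Filter.IsBoundedUnder (· ≥ ·) Filter.atTop
      (fun m : ℕ => (h m : ℝ) * (n.factorial : ℝ) / (m : ℝ) ^ n)).isCoboundedUnder_le
  refine ((Filter.frequently_lt_of_lt_limsup hcob hq).and_eventually (Filter.eventually_ge_atTop 1)).mono
    fun m hm => ?_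
  have hm0 : (0 : ℝ) < (m : ℝ) ^ n := pow_pos (by exact_mod_cast hm.2) n
  have h1 := (lt_div_iff₀ hm0).1 hm.1
  rw [div_mul_eq_mul_div, div_lt_iff₀ hfac]
  exact h1

/-- Let X be an integral scheme, proper over an algebraically closed field k of characteristic zero and
admitting an ample invertible module, of dimension n ≥ 1 (stated in the source over the complex
numbers), and L an invertible O_X-module which is big, in the sense that its volume ĥ^0(X, L) =
limsup_m dim_k H^0(X, L^{⊗m}) · n!/m^n is positive. Then ĥ^n(X, L) = 0. (The published statement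
allows n = 0, where it fails: X is then a point, every L is big and ĥ^0(X, L) = 1; the printed
argument uses that L and its inverse cannot both be big, which needs n ≥ 1.) -/
theorem result (k : Type u) [Field k] [IsAlgClosed k] [CharZero k] (X : Scheme.{u})
    [X.Over (Spec (CommRingCat.of k))] [AlgebraicGeometry.IsIntegral X]
    [IsProper (X ↘ Spec (CommRingCat.of k))] (hproj : ∃ A : X.Modules, CohB1.IsAmple A)
    (n : ℕ) (hn : topologicalKrullDim X = n) (hn1 : 1 ≤ n)
    (L : X.Modules) (hL : PicF.IsInvertible L) (hbig : 0 < W4c5asymptcohfn.hhat k X n 0 L) :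
    W4c5asymptcohfn.hhat k X n n L = 0 := by
  obtain ⟨A, hA⟩ := hproj
  have : TopologicalSpace.NoetherianSpace X := by
    have := Groth.Agent.Crv77.isNoetherian_of_proper k X
    infer_instance
  have hv := Groth.Agent.Var76.Growth.eventually_top_vanish k hA hL hn.le hn1 (bigFreq_of_hhat hbig)
  refine Filter.Tendsto.limsup_eq (tendsto_const_nhds.congr' ?_)
  filter_upwards [hv] with m hm
  rw [Module.finrank_zero_of_subsingleton]
  simp

end Groth.Agent.S17626
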