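import Groth.Statements.S17630
import Groth.Agent.Crv77.HH
import Groth.Agent.Serre71.Finite
import Groth.Agent.QC70.CohOps
import Mathlib.Algebra.Order.BigOperators.Group.Finset

set_option autoImplicit false
set_option maxSynthPendingDepth 6
set_option linter.style.haveILetI false
set_option backward.isDefEq.respectTransparency.types false
universe u
open CategoryTheory CategoryTheory.Limits AlgebraicGeometry
open Coherent

namespace Groth.Agent.S17630

open AlgebraicGeometry CategoryTheory in
lemma finrank_le_of_exact {k : Type u} [Field k] {U V W : Type u} [AddCommGroup U] [Module k U] [AddCommGroup V]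
    [Module k V] [AddCommGroup W] [Module k W] [Module.Finite k U] [Module.Finite k V] [Module.Finite k W]
    (f : U →ₗ[k] V) (g : V →ₗ[k] W) (he : Function.Exact f g) :
    Module.finrank k V ≤ Module.finrank k U + Module.finrank k W := by
  have h1 := g.finrank_range_add_finrank_ker
  rw [LinearMap.exact_iff.1 he] at h1
  have h2 := f.finrank_range_le
  have h3 := (LinearMap.range g).finrank_le
  omega

open AlgebraicGeometry CategoryTheory in
lemma ses_bounds (k : Type u) [Field k] {X : Scheme.{u}}
    [X.Over (Spec (CommRingCat.of k))] [IsProper (X ↘ Spec (CommRingCat.of k))]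
    {S : ShortComplex X.Modules} (hS : S.ShortExact) (h₁ : Coh.IsCoh S.X₁) (h₂ : Coh.IsCoh S.X₂)
    (h₃ : Coh.IsCoh S.X₃) :
    Module.finrank k (Coh.HH X S.X₁ 0) ≤ Module.finrank k (Coh.HH X S.X₂ 0) ∧
    ∀ q, Module.finrank k (Coh.HH X S.X₁ (q + 1)) ≤
        Module.finrank k (Coh.HH X S.X₂ (q + 1)) + Module.finrank k (Coh.HH X S.X₃ q) ∧
      Module.finrank k (Coh.HH X S.X₂ q) ≤
        Module.finrank k (Coh.HH X S.X₁ q) + Module.finrank k (Coh.HH X S.X₃ q) := by
  haveI := fun n => Groth.Agent.Serre71.finite_hh_of_isProper k S.X₁ h₁ n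
  haveI := fun n => Groth.Agent.Serre71.finite_hh_of_isProper k S.X₂ h₂ n
  haveI := fun n => Groth.Agent.Serre71.finite_hh_of_isProper k S.X₃ h₃ n
  refine ⟨LinearMap.finrank_le_finrank_of_injective (Groth.Agent.Crv77.injective_f_zero k hS), fun q => ⟨?_, ?_⟩⟩
  · exact (finrank_le_of_exact _ _ (Groth.Agent.Crv77.exact_δ_f k hS q)).trans_eq (add_comm _ _)
  · exact finrank_le_of_exact _ _ (Groth.Agent.Crv77.exact_f_g k hS q)

/-- Let X be a scheme proper over a field k and 0 → C_0 → C_1 → C_2 → ⋯ an exact sequence of coherent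
O_X-modules: the composite of consecutive maps is zero, the sequence is exact at every C_j with j ≥
1, and C_0 → C_1 is a monomorphism (the source numbers the sequence from C_{−1}; its argument and
its application use that the first map is injective). Then for every i ≥ 0, |dim_k H^i(X, C_0) −
dim_k H^i(X, C_1)| ≤ Σ_{j=1}^{i+1} dim_k H^{i+1−j}(X, C_{j+1}) + Σ_{j=1}^{i} dim_k H^{i−j}(X,
C_{j+1}). (The published bound is 2 · Σ_{j=1}^{i+1} dim_k H^{i+1−j}(X, C_{j+1}); the argument given
yields the two sums here, and the published form fails for the sequence 0 → O(−3) → O(−1) → O_Z → 0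
on the projective line, Z a subscheme of length 2, with i = 1: the left side is 2 and the published
right side is 0.) -/
theorem result (k : Type u) [Field k] (X : Scheme.{u})
    [X.Over (Spec (CommRingCat.of k))] [IsProper (X ↘ Spec (CommRingCat.of k))]
    (C : ℕ → X.Modules) (hC : ∀ j, Coh.IsCoh (C j)) (d : ∀ j, C j ⟶ C (j + 1))
    (hd : ∀ j, d j ≫ d (j + 1) = 0) [Mono (d 0)]
    (hex : ∀ j, (ShortComplex.mk (d j) (d (j + 1)) (hd j)).Exact) (i : ℕ) :
    |(Module.finrank k (Coh.HH X (C 0) i) : ℤ) - (Module.finrank k (Coh.HH X (C 1) i) : ℤ)| ≤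
      (Finset.Icc 1 (i + 1)).sum (fun j => ((Module.finrank k (Coh.HH X (C (j + 1)) (i + 1 - j))) : ℤ)) +
        (Finset.Icc 1 i).sum (fun j => ((Module.finrank k (Coh.HH X (C (j + 1)) (i - j))) : ℤ)) := by
  haveI : IsLocallyNoetherian X := LocallyOfFiniteType.isLocallyNoetherian (X ↘ Spec (CommRingCat.of k))
  let h : X.Modules → ℕ → ℕ := fun M n => Module.finrank k (Coh.HH X M n)
  let K : ℕ → X.Modules := fun j => Limits.kernel (d j)
  have hK : ∀ j, Coh.IsCoh (K j) := fun j => Groth.Agent.QC70.isCoh_kernel (d j) (hC j) (hC (j + 1)).1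
  let w : ∀ j, C j ⟶ K (j + 1) := fun j => Limits.kernel.lift (d (j + 1)) (d j) (hd j)
  have hw : ∀ j, Epi (w j) := fun j => (hex j).epi_kernelLift
  let S : ℕ → ShortComplex X.Modules := fun j => ShortComplex.mk (Limits.kernel.ι (d j)) (w j)
    (by rw [← cancel_mono (Limits.kernel.ι (d (j + 1))), Category.assoc, Limits.kernel.lift_ι,
      Limits.kernel.condition, Limits.zero_comp])
  have hS : ∀ j, (S j).ShortExact := fun j =>
    { exact := ShortComplex.exact_of_f_is_kernel _
        (Limits.isKernelOfComp (Limits.kernel.ι (d (j + 1))) (d j) (Limits.kernelIsKernel (d j)) (S j).zero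
          (Limits.kernel.lift_ι _ _ _))
      epi_g := hw j }
  have hb : ∀ j, _ := fun j => ses_bounds k (hS j) (hK j) (hC j) (hK (j + 1))
  have hk0 : ∀ j, h (K j) 0 ≤ h (C j) 0 := fun j => (hb j).1
  have hk : ∀ j q, h (K j) (q + 1) ≤ h (C j) (q + 1) + h (K (j + 1)) q := fun j q => ((hb j).2 q).1
  have hsum : ∀ q j, h (K j) q ≤ ∑ t ∈ Finset.range (q + 1), h (C (j + t)) (q - t) := fun q => by
    induction q with
    | zero => exact fun j => by simpa using hk0 j
    | succ q ih =>
      intro j
      rw [Finset.sum_range_succ']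
      refine (hk j q).trans ?_
      rw [add_comm]
      refine add_le_add ((ih (j + 1)).trans_eq (Finset.sum_congr rfl fun t _ => ?_)) (by simp)
      rw [show j + 1 + t = j + (t + 1) by omega, Nat.add_sub_add_right]
  haveI : Mono (w 0) := mono_of_mono_fac (Limits.kernel.lift_ι _ _ _)
  haveI : Epi (w 0) := hw 0
  haveI : IsIso (w 0) := isIso_of_mono_of_epi _
  have hC0 : ∀ q, h (C 0) q = h (K 1) q := fun q => (Groth.Agent.Crv77.hEquiv k (asIso (w 0)) q).finrank_eq
  have haux : ∀ q, |(h (C 0) q : ℤ) - h (C 1) q| ≤ h (K 2) q + (if q = 0 then 0 else h (K 2) (q - 1) : ℕ) := by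
    intro q
    rw [hC0]
    have h2 : h (C 1) q ≤ h (K 1) q + h (K 2) q := ((hb 1).2 q).2
    have h1 : h (K 1) q ≤ (if q = 0 then 0 else h (K 2) (q - 1)) + h (C 1) q := by
      cases q with
      | zero => simpa using hk0 1
      | succ m => simpa [add_comm] using hk 1 m
    rw [abs_le]
    constructor <;> omega
  refine (haux i).trans (add_le_add ?_ ?_)
  · refine (Int.ofNat_le.2 (hsum i 2)).trans_eq ?_
    rw [Nat.cast_sum, ← Finset.Ico_add_one_right_eq_Icc, Finset.sum_Ico_eq_sum_range]
    refine Finset.sum_congr (by simp) fun t ht => ?_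
    rw [show 1 + t + 1 = 2 + t by omega, show i + 1 - (1 + t) = i - t by omega]
  · cases i with
    | zero => simp
    | succ m =>
      simp only [Nat.succ_ne_zero, if_false, Nat.add_sub_cancel]
      refine (Int.ofNat_le.2 (hsum m 2)).trans_eq ?_
      rw [Nat.cast_sum, ← Finset.Ico_add_one_right_eq_Icc, Finset.sum_Ico_eq_sum_range]
      refine Finset.sum_congr (by simp) fun t ht => ?_
      rw [show 1 + t + 1 = 2 + t by omega, show m + 1 - (1 + t) = m - t by omega]

end Groth.Agent.S17630
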