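import Groth.Statements.S17632
import Groth.Agent.Var76.MultiAsymp

set_option autoImplicit false
universe u
open CategoryTheory CategoryTheory.Limits AlgebraicGeometry
open Variety

namespace Groth.Agent.S17632

open CategoryTheory
open scoped Groth.Agent.FGA29
open Groth.Agent.Var76.Growth in
theorem ztwist_two (k : Type u) [Field k] {X : Scheme.{u}} [X.Over (Spec (CommRingCat.of k))]
    (L L' A A' : X.Modules) (p n i : ℕ) :
    W4c5asymptcohfn.hhat k X n i (W4c5asymptcohfn.ztwist X ![L, A] ![L', A'] ![(p : ℤ), -1]) =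
      W4c5asymptcohfn.hhat k X n i (CohB1.tensorMod (CohB1.tensorPow L p) A') ∧
    W4c5asymptcohfn.hhat k X n i (W4c5asymptcohfn.ztwist X ![L, A] ![L', A'] ![(p : ℤ), 0]) =
      W4c5asymptcohfn.hhat k X n i (CohB1.tensorPow L p) := by
  have aux : ∀ {P Q : X.Modules}, PicF.cl P = PicF.cl Q →
      W4c5asymptcohfn.hhat k X n i P = W4c5asymptcohfn.hhat k X n i Q := fun h => by
    obtain ⟨e⟩ := Groth.Agent.FGA29.nonempty_iso_of_cl h
    unfold W4c5asymptcohfn.hhat
    congr 1
    funext m
    rw [(Groth.Agent.Crv77.hEquiv k (Groth.Agent.Amp73.powIso e m) i).finrank_eq]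
  constructor <;> refine aux ?_ <;>
    simp [W4c5asymptcohfn.ztwist, Groth.Agent.FGA29.cl_tensor, Groth.Agent.FGA29.cl_multiTwist,
      Groth.Agent.FGA29.cl_tensorPow, Fin.prod_univ_two]

theorem sz_two (x y : ℤ) : Groth.Agent.Var76.Growth.sz ![x, y] = x.natAbs + y.natAbs := by
  simp [Groth.Agent.Var76.Growth.sz, Fin.sum_univ_two]

/-- Let X be an integral scheme, proper over an uncountable algebraically closed field k of
characteristic zero and admitting an ample invertible module, of dimension n (stated in the source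
over the complex numbers), L an invertible O_X-module and A an ample invertible O_X-module with
inverse A', i.e. A ⊗ A' ≅ O_X. Then for every i ≥ 0, (ĥ^i(X, L^{⊗p} ⊗ A') − ĥ^i(X, L^{⊗p})) / p^n
tends to 0 as p → ∞, where ĥ^i(X, M) = limsup_m dim_k H^i(X, M^{⊗m}) · n!/m^n. -/
theorem result (k : Type u) [Field k] [IsAlgClosed k] [CharZero k] [Uncountable k] (X : Scheme.{u})
    [X.Over (Spec (CommRingCat.of k))] [AlgebraicGeometry.IsIntegral X]
    [IsProper (X ↘ Spec (CommRingCat.of k))] (hproj : ∃ A : X.Modules, CohB1.IsAmple A)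
    (n : ℕ) (hn : topologicalKrullDim X = n)
    (L : X.Modules) (hL : PicF.IsInvertible L) (A A' : X.Modules) (hA : CohB1.IsAmple A)
    (hA' : ClSub.IsInverseOf A A') (i : ℕ) :
    Filter.Tendsto (fun p : ℕ =>
        (W4c5asymptcohfn.hhat k X n i (CohB1.tensorMod (CohB1.tensorPow L p) A') -
          W4c5asymptcohfn.hhat k X n i (CohB1.tensorPow L p)) / (p : ℝ) ^ n)
      Filter.atTop (nhds 0) := by
  obtain ⟨L', hL', ⟨ε⟩⟩ := Groth.Agent.An92.InvMod.exists_inverse hL
  have hL'' : ClSub.IsInverseOf L L' := ⟨Groth.Agent.EGA73.tensComm L L' ≪≫ ε⟩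
  obtain ⟨C, hC0, hC⟩ := Groth.Agent.Var76.Growth.hhat_ztwist_lipschitz k (L := ![L, A]) (M := ![L', A'])
    (fun j => by fin_cases j <;> [exact hL; exact hA.1]) (fun j => by fin_cases j <;> [exact hL''; exact hA'])
    hn.le i
  have hlim : Filter.Tendsto (fun p : ℕ => C * (Groth.Agent.Var76.Growth.phi n ((p + 1 + p : ℕ) : ℝ)) / (p : ℝ) ^ n)
      Filter.atTop (nhds 0) := by
    rcases n with _ | e
    · simp [Groth.Agent.Var76.Growth.phi]
    · have h1 : Filter.Tendsto (fun p : ℕ => C * 3 ^ e * (1 / (p : ℝ))) Filter.atTop (nhds 0) := by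
        simpa using ((tendsto_const_nhds (x := (1 : ℝ))).div_atTop tendsto_natCast_atTop_atTop).const_mul (C * 3 ^ e)
      refine squeeze_zero' (Filter.Eventually.of_forall fun p => by
        simp only [Groth.Agent.Var76.Growth.phi]; positivity) ?_ h1
      filter_upwards [Filter.eventually_ge_atTop 1] with p hp
      have hp1 : (1 : ℝ) ≤ p := by exact_mod_cast hp
      have hp0 : (0 : ℝ) < p := by linarith
      simp only [Groth.Agent.Var76.Growth.phi]
      rw [pow_succ, div_le_iff₀ (by positivity)]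
      calc C * ((p + 1 + p : ℕ) : ℝ) ^ e ≤ C * (3 * (p : ℝ)) ^ e := by
            gcongr
            push_cast
            linarith
        _ = _ := by rw [mul_pow]; field_simp
  refine squeeze_zero_norm (fun p => ?_) hlim
  obtain ⟨e₁, e₂⟩ := ztwist_two k L L' A A' p n i
  have h := hC ![(p : ℤ), -1] ![(p : ℤ), 0]
  rw [e₁, e₂, show (![(p : ℤ), -1] : Fin 2 → ℤ) - ![(p : ℤ), 0] = ![0, -1] by
    funext j; fin_cases j <;> simp, sz_two, sz_two, sz_two] at h
  simp only [Int.natAbs_natCast, Int.natAbs_zero, Int.natAbs_neg, Int.natAbs_one, zero_add, add_zero,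
    Nat.cast_one, mul_one] at h
  rw [Real.norm_eq_abs, abs_div, abs_pow, Nat.abs_cast]
  exact div_le_div_of_nonneg_right h (by positivity)

end Groth.Agent.S17632
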