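import Groth.Statements.S17633
import Groth.Agent.Var76.MultiAsymp

set_option autoImplicit false
universe u
open CategoryTheory CategoryTheory.Limits AlgebraicGeometry
open Variety

namespace Groth.Agent.S17633

open CategoryTheory

/-- Let X be an integral scheme, proper over an uncountable algebraically closed field k of
characteristic zero and admitting an ample invertible module, of dimension n (the published
statement is over the complex numbers), and let L_1, …, L_r be invertible O_X-modules with inverses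
M_1, …, M_r. For a ∈ ℤ^r write L^a = ⊗_j L_j^{a_j} (negative powers taken through the M_j) and ‖a‖ =
max_j |a_j|. Then for every i (the published statement takes 0 ≤ i ≤ n; for i > n both sides vanish)
there is a constant C such that for all a, b ∈ ℤ^r, |ĥ^i(X, L^a) − ĥ^i(X, L^b)| ≤ C · Σ_{q=1}^{n}
max(‖a‖, ‖b‖)^{n−q} · ‖a − b‖^q, where ĥ^i(X, L) = limsup_m dim_k H^i(X, L^{⊗m}) · n!/m^n. (The
published statement gives this Lipschitz-type estimate for ĥ^i as a function on the rational
Néron–Severi space with any fixed norm, together with its homogeneity of degree n; restricted to the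
classes spanned by L_1, …, L_r with the maximum norm on coordinates it reads as here.) -/
theorem result (k : Type u) [Field k] [IsAlgClosed k] [CharZero k] [Uncountable k] (X : Scheme.{u})
    [X.Over (Spec (CommRingCat.of k))] [AlgebraicGeometry.IsIntegral X]
    [IsProper (X ↘ Spec (CommRingCat.of k))] (hproj : ∃ A : X.Modules, CohB1.IsAmple A)
    (n : ℕ) (hn : topologicalKrullDim X = n)
    (r : ℕ) (L M : Fin r → X.Modules) (hL : ∀ j, PicF.IsInvertible (L j))
    (hM : ∀ j, ClSub.IsInverseOf (L j) (M j)) (i : ℕ) :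
    ∃ C : ℝ, ∀ a b : Fin r → ℤ,
      |W4c5asymptcohfn.hhat k X n i (W4c5asymptcohfn.ztwist X L M a) -
          W4c5asymptcohfn.hhat k X n i (W4c5asymptcohfn.ztwist X L M b)| ≤
        C * (Finset.Icc 1 n).sum (fun q =>
          (max ‖(fun j => ((a j : ℤ) : ℝ))‖ ‖(fun j => ((b j : ℤ) : ℝ))‖) ^ (n - q) *
            ‖(fun j => ((a j - b j : ℤ) : ℝ))‖ ^ q) := by
  obtain ⟨C, hC0, hC⟩ := Groth.Agent.Var76.Growth.hhat_ztwist_lipschitz k hL hM hn.le i
  refine ⟨C * r * (2 * (r : ℝ)) ^ (n - 1), fun a b => (hC a b).trans ?_⟩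
  rcases n with _ | e
  · simp [Groth.Agent.Var76.Growth.phi]
  · set na := ‖(fun j => ((a j : ℤ) : ℝ))‖
    set nb := ‖(fun j => ((b j : ℤ) : ℝ))‖
    set nd := ‖(fun j => ((a j - b j : ℤ) : ℝ))‖
    simp only [Groth.Agent.Var76.Growth.phi, Nat.add_sub_cancel]
    have hd : (Groth.Agent.Var76.Growth.sz (a - b) : ℝ) ≤ r * nd := Groth.Agent.Var76.Growth.sz_le_norm (a - b)
    have hS : ((Groth.Agent.Var76.Growth.sz a + Groth.Agent.Var76.Growth.sz b : ℕ) : ℝ) ≤ 2 * (r : ℝ) * max na nb := by
      push_cast
      calc _ ≤ (r : ℝ) * na + r * nb :=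
            add_le_add (Groth.Agent.Var76.Growth.sz_le_norm a) (Groth.Agent.Var76.Growth.sz_le_norm b)
        _ ≤ (r : ℝ) * max na nb + r * max na nb := by
            gcongr <;> [exact le_max_left _ _; exact le_max_right _ _]
        _ = _ := by ring
    have h0 : (0 : ℝ) ≤ max na nb := le_trans (norm_nonneg _) (le_max_left _ _)
    have hsum : max na nb ^ e * nd ≤
        (Finset.Icc 1 (e + 1)).sum (fun q => max na nb ^ (e + 1 - q) * nd ^ q) := by
      refine le_trans (le_of_eq ?_) (Finset.single_le_sum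
        (f := fun q => max na nb ^ (e + 1 - q) * nd ^ q)
        (fun q _ => mul_nonneg (pow_nonneg h0 _) (pow_nonneg (norm_nonneg _) _))
        (Finset.mem_Icc.2 ⟨le_rfl, Nat.succ_pos e⟩ : 1 ∈ Finset.Icc 1 (e + 1)))
      simp
    calc _ ≤ C * ((r : ℝ) * nd) * (2 * (r : ℝ) * max na nb) ^ e := by gcongr
      _ = C * r * (2 * (r : ℝ)) ^ e * (max na nb ^ e * nd) := by ring
      _ ≤ _ := mul_le_mul_of_nonneg_left hsum (by positivity)

end Groth.Agent.S17633
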