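import Groth.Statements.S17635
import Mathlib.Analysis.Normed.Module.Basic
import Mathlib.Tactic.Positivity
import Mathlib.Algebra.Order.BigOperators.Ring.Finset

set_option autoImplicit false
open Finset
open Variety

namespace Groth.Agent.S17635

/-- Let r and n be natural numbers and f : ℚ^r → ℝ a nonnegative function which is homogeneous of degree
n for positive rational scalars, f(q · v) = q^n · f(v) for q > 0; give ℚ^r the maximum norm ‖v‖ =
max_j |v_j| of its standard basis. Suppose that for every standard basis vector e_i there is a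
constant C_i with |f(v − b · e_i) − f(v)| ≤ C_i · Σ_{q=1}^{n} ‖v‖^{n−q} · b^q for all v ∈ ℚ^r and
all integers b ≥ 1. Then there is a constant C > 0 such that |f(v) − f(w)| ≤ C · Σ_{q=1}^{n}
max(‖v‖, ‖w‖)^{n−q} · ‖v − w‖^q for all v, w ∈ ℚ^r. (The source allows any norm on an r-dimensional
rational vector space with a chosen basis and argues with the maximum norm of that basis, which is
the case stated here.) -/
theorem result (r n : ℕ) (f : (Fin r → ℚ) → ℝ)
    (hf0 : ∀ v, 0 ≤ f v)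
    (hhom : ∀ (q : ℚ) (v : Fin r → ℚ), 0 < q → f (q • v) = (q : ℝ) ^ n * f v)
    (hdir : ∀ i : Fin r, ∃ Ci : ℝ, ∀ (v : Fin r → ℚ) (b : ℕ), 1 ≤ b →
      |f (v - (b : ℚ) • Pi.single i 1) - f v| ≤
        Ci * (Finset.Icc 1 n).sum (fun q => ‖(fun j => ((v j : ℚ) : ℝ))‖ ^ (n - q) * (b : ℝ) ^ q)) :
    ∃ C : ℝ, 0 < C ∧ ∀ v w : Fin r → ℚ,
      |f v - f w| ≤ C * (Finset.Icc 1 n).sum (fun q =>
        (max ‖(fun j => ((v j : ℚ) : ℝ))‖ ‖(fun j => ((w j : ℚ) : ℝ))‖) ^ (n - q) *
          ‖(fun j => ((v j - w j : ℚ) : ℝ))‖ ^ q) := by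
  classical
  choose Ci hCi using hdir
  refine ⟨(∑ i, |Ci i|) + 1, by positivity, fun v w => ?_⟩
  have key : ∀ v w : Fin r → ℚ, (∀ j, ∃ z : ℤ, v j - w j = z) →
      |f v - f w| ≤ (∑ i, |Ci i|) * (Finset.Icc 1 n).sum (fun q =>
        (max ‖(fun j => ((v j : ℚ) : ℝ))‖ ‖(fun j => ((w j : ℚ) : ℝ))‖) ^ (n - q) *
          ‖(fun j => ((v j - w j : ℚ) : ℝ))‖ ^ q) := by
    intro v w hz
    set M := max ‖(fun j => ((v j : ℚ) : ℝ))‖ ‖(fun j => ((w j : ℚ) : ℝ))‖ with hM
    set D := ‖(fun j => ((v j - w j : ℚ) : ℝ))‖ with hD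
    set S := (Finset.Icc 1 n).sum (fun q => M ^ (n - q) * D ^ q) with hS
    have hM0 : 0 ≤ M := le_trans (norm_nonneg _) (le_max_left _ _)
    have hS0 : 0 ≤ S := Finset.sum_nonneg fun q _ => mul_nonneg (pow_nonneg hM0 _) (pow_nonneg (norm_nonneg _) _)
    let u : Finset (Fin r) → Fin r → ℚ := fun s j => if j ∈ s then v j else w j
    have hu : ∀ s, ‖(fun j => ((u s j : ℚ) : ℝ))‖ ≤ M := by
      intro s
      refine (pi_norm_le_iff_of_nonneg hM0).2 fun j => ?_
      simp only [u]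
      split
      · exact (norm_le_pi_norm (fun j => ((v j : ℚ) : ℝ)) j).trans (le_max_left _ _)
      · exact (norm_le_pi_norm (fun j => ((w j : ℚ) : ℝ)) j).trans (le_max_right _ _)
    have hstep : ∀ (i : Fin r) (p : Fin r → ℚ) (b : ℕ), 1 ≤ b → ‖(fun j => ((p j : ℚ) : ℝ))‖ ≤ M →
        (b : ℝ) ≤ D → |f (p - (b : ℚ) • Pi.single i 1) - f p| ≤ |Ci i| * S := by
      intro i p b hb hp hbD
      refine (hCi i p b hb).trans ((mul_le_mul_of_nonneg_right (le_abs_self _)
        (Finset.sum_nonneg fun q _ => by positivity)).trans ?_)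
      refine mul_le_mul_of_nonneg_left (Finset.sum_le_sum fun q _ => ?_) (abs_nonneg _)
      gcongr
    have hsum : ∀ s : Finset (Fin r), |f (u s) - f w| ≤ (∑ i ∈ s, |Ci i|) * S := by
      intro s
      induction s using Finset.induction_on with
      | empty => simp [u]
      | @insert a s ha ih =>
        rw [Finset.sum_insert ha, add_mul]
        suffices h : |f (u (insert a s)) - f (u s)| ≤ |Ci a| * S by
          calc |f (u (insert a s)) - f w| = |(f (u (insert a s)) - f (u s)) + (f (u s) - f w)| := by ring_nf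
            _ ≤ |f (u (insert a s)) - f (u s)| + |f (u s) - f w| := abs_add_le _ _
            _ ≤ _ := add_le_add h ih
        obtain ⟨z, hz⟩ := hz a
        have hzD : |(z : ℝ)| ≤ D := by
          have h1 := norm_le_pi_norm (fun j => ((v j - w j : ℚ) : ℝ)) a
          have h2 : ((v a - w a : ℚ) : ℝ) = (z : ℝ) := by rw [hz]; norm_num
          simp only [h2, Real.norm_eq_abs] at h1
          exact h1
        have hdiff : u (insert a s) = u s + ((z : ℤ) : ℚ) • Pi.single a (1 : ℚ) := by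
          funext j
          by_cases hj : j = a
          · subst hj
            simp [u, ha, ← hz]
          · simp [u, hj]
        rcases lt_trichotomy z 0 with h | h | h
        · obtain ⟨b, rfl⟩ : ∃ b : ℕ, z = -(b : ℤ) := ⟨(-z).toNat, by omega⟩
          have hb : 1 ≤ b := by omega
          have := hstep a (u s) b hb (hu s) (by simpa using hzD)
          rw [hdiff]
          simpa [sub_eq_add_neg] using this
        · subst h
          rw [hdiff]
          simpa using mul_nonneg (abs_nonneg (Ci a)) hS0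
        · obtain ⟨b, rfl⟩ : ∃ b : ℕ, z = (b : ℤ) := ⟨z.toNat, by omega⟩
          have hb : 1 ≤ b := by omega
          have h3 := hstep a (u (insert a s)) b hb (hu _) (by simpa using hzD)
          rw [abs_sub_comm]
          rw [hdiff] at h3 ⊢
          simpa using h3
    have := hsum Finset.univ
    simpa [u] using this
  -- scaling
  obtain ⟨N, hN, hNz⟩ : ∃ N : ℕ, 0 < N ∧ ∀ j, ∃ z : ℤ, (N : ℚ) * (v j - w j) = z := by
    refine ⟨∏ j, (v j - w j).den, Finset.prod_pos fun j _ => (v j - w j).den_pos, fun j => ?_⟩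
    refine ⟨(∏ i ∈ Finset.univ.erase j, (v i - w i).den : ℕ) * (v j - w j).num, ?_⟩
    rw [← Finset.mul_prod_erase Finset.univ _ (Finset.mem_univ j)]
    push_cast
    rw [mul_comm ((v j - w j).den : ℚ), mul_assoc, mul_comm ((v j - w j).den : ℚ), Rat.mul_den_eq_num]
  have hNq : (0 : ℚ) < N := by exact_mod_cast hN
  have hk := key ((N : ℚ) • v) ((N : ℚ) • w) fun j => by simpa [mul_sub] using hNz j
  have hnorm : ∀ x : Fin r → ℚ, ‖(fun j => ((((N : ℚ) • x) j : ℚ) : ℝ))‖ = (N : ℝ) * ‖(fun j => ((x j : ℚ) : ℝ))‖ := by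
    intro x
    rw [show (fun j => ((((N : ℚ) • x) j : ℚ) : ℝ)) = (N : ℝ) • (fun j => ((x j : ℚ) : ℝ)) by
      funext j; simp]
    rw [norm_smul]; simp
  have hsub : (fun j => ((((N : ℚ) • v) j - ((N : ℚ) • w) j : ℚ) : ℝ)) = (fun j => ((((N : ℚ) • (v - w)) j : ℚ) : ℝ)) := by
    funext j; simp [mul_sub]
  rw [hsub, hnorm, hnorm, hnorm, hhom _ _ hNq, hhom _ _ hNq, ← mul_max_of_nonneg _ _ (Nat.cast_nonneg N)] at hk
  push_cast at hk
  rw [← mul_sub, abs_mul, abs_of_nonneg (pow_nonneg (Nat.cast_nonneg N) n)] at hk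
  have hpow : (Finset.Icc 1 n).sum (fun q =>
        ((N : ℝ) * max ‖(fun j => ((v j : ℚ) : ℝ))‖ ‖(fun j => ((w j : ℚ) : ℝ))‖) ^ (n - q) *
          ((N : ℝ) * ‖(fun j => (((v - w) j : ℚ) : ℝ))‖) ^ q) = (N : ℝ) ^ n * (Finset.Icc 1 n).sum (fun q =>
        (max ‖(fun j => ((v j : ℚ) : ℝ))‖ ‖(fun j => ((w j : ℚ) : ℝ))‖) ^ (n - q) *
          ‖(fun j => ((v j - w j : ℚ) : ℝ))‖ ^ q) := by
    rw [Finset.mul_sum]
    refine Finset.sum_congr rfl fun q hq => ?_
    have hqn : n - q + q = n := Nat.sub_add_cancel (Finset.mem_Icc.1 hq).2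
    conv_rhs => rw [← hqn, pow_add, hqn]
    simp only [mul_pow, Pi.sub_apply]
    ring
  rw [hpow, mul_left_comm] at hk
  have hfin := le_of_mul_le_mul_left hk (pow_pos (by exact_mod_cast hN) n)
  refine hfin.trans (mul_le_mul_of_nonneg_right (by linarith) ?_)
  exact Finset.sum_nonneg fun q _ => by positivity

end Groth.Agent.S17635
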