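import Groth.Statements.S17643
import Groth.Agent.H98TorDim.Smooth
import Groth.Agent.H98TorDim.Open
import Groth.Agent.Smooth28.SynEtale

set_option autoImplicit false
universe u
open CategoryTheory AlgebraicGeometry
attribute [local instance] HasDerivedCategory.standard
open DerSch

namespace Groth.Agent.S17643

/-- Let f : X ⟶ Y be a morphism of finite type between Noetherian schemes which is of finite
Tor-dimension (the structure sheaf of X, placed in degree 0, has finite tor amplitude stalkwise over
the local rings of Y), U ⊆ X an affine open subset and V ⊆ Y an affine open subset with f(U) ⊆ V.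
Then the restriction of f to U factors as U ⟶ W ⟶ Y with U ⟶ W a closed immersion of finite
Tor-dimension and W ⟶ Y smooth. The published section's standing conventions also take all morphisms
separated; the printed argument does not use this, so separatedness is not assumed here. -/
theorem result {X Y : Scheme.{u}}
    [IsNoetherian X] [IsNoetherian Y] (f : X ⟶ Y) [LocallyOfFiniteType f] (hf : DerSch.HasFiniteTorDim f)
    (U : X.Opens) (hU : IsAffineOpen U) (V : Y.Opens) (hV : IsAffineOpen V) (hUV : U ≤ f ⁻¹ᵁ V) :
    ∃ (W : Scheme.{u}) (g : (U : Scheme.{u}) ⟶ W) (h : W ⟶ Y),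
      IsClosedImmersion g ∧ DerSch.HasFiniteTorDim g ∧ Smooth h ∧ g ≫ h = U.ι ≫ f := by
  -- factor through affine space over the affine open
  algebraize [(f.appLE V U hUV).hom]
  have hft : Algebra.FiniteType Γ(Y, V) Γ(X, U) := f.finiteType_appLE hV hU hUV
  obtain ⟨N, π, hπ⟩ := Algebra.FiniteType.iff_quotient_mvPolynomial''.mp hft
  let W := Spec (CommRingCat.of (MvPolynomial (Fin N) Γ(Y, V)))
  let g : (U : Scheme.{u}) ⟶ W := hU.isoSpec.hom ≫ Spec.map (CommRingCat.ofHom π.toRingHom)
  let c : W ⟶ Spec Γ(Y, V) :=
    Spec.map (CommRingCat.ofHom (MvPolynomial.C : Γ(Y, V) →+* MvPolynomial (Fin N) Γ(Y, V)))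
  haveI : IsOpenImmersion hV.fromSpec := IsAffineOpen.isOpenImmersion_fromSpec hV
  haveI : IsClosedImmersion (Spec.map (CommRingCat.ofHom π.toRingHom)) :=
    IsClosedImmersion.spec_of_surjective (CommRingCat.ofHom π.toRingHom) hπ
  haveI : SmoothOfRelativeDimension N c := by
    rw [HasRingHomProperty.Spec_iff (P := @SmoothOfRelativeDimension N)]
    exact RingHom.locally_of (RingHom.isStandardSmoothOfRelativeDimension_respectsIso) _
      (RingHom.isStandardSmoothOfRelativeDimension_algebraMap N |>.mpr (Groth.Agent.Smooth28.isStandardSmooth_mvPolynomial _ N))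
  haveI : SmoothOfRelativeDimension N (c ≫ hV.fromSpec) :=
    inferInstanceAs (SmoothOfRelativeDimension (N + 0) (c ≫ hV.fromSpec))
  have e : g ≫ (c ≫ hV.fromSpec) = U.ι ≫ f := by
    simp only [g, c, Category.assoc]
    rw [← Spec.map_comp_assoc, ← CommRingCat.ofHom_comp,
      show π.toRingHom.comp MvPolynomial.C = (f.appLE V U hUV).hom from RingHom.ext fun r => π.commutes r,
      CommRingCat.ofHom_hom, IsAffineOpen.SpecMap_appLE_fromSpec f hV hU hUV, hU.isoSpec_hom,
      ← Category.assoc, hU.toSpecΓ_fromSpec]
  refine ⟨W, g, c ≫ hV.fromSpec, inferInstance, ?_, SmoothOfRelativeDimension.smooth N (c ≫ hV.fromSpec), e⟩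
  refine Groth.Agent.H98TorDim.hasFiniteTorDim_of_smooth N (c ≫ hV.fromSpec) g e ?_
  exact Groth.Agent.H98TorDim.hasFiniteTorDim_open f U hf

end Groth.Agent.S17643
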