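import Groth.Statements.S17646
import Groth.Agent.GabLoc29.Uniform

set_option autoImplicit false
universe w v u
open CategoryTheory CategoryTheory.Limits
open GabLoc

namespace Groth.Agent.S17646

/-- Let C be a Grothendieck abelian category, E an indecomposable injective object of C (E is nonzero
and whenever E ≅ A ⊞ B one of A, B is zero) and S₁, S₂ localizing classes of objects (Serre classes
closed under coproducts). If there are an object of S₁ with a nonzero morphism to E and an object of
S₂ with a nonzero morphism to E, then there is an object belonging to both S₁ and S₂ with a nonzero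
morphism to E. Thus, on the set of isomorphism classes of indecomposable injectives, the subsets of
those having S-torsion, S localizing, are closed under finite intersections (they are also closed
under unions, and form a topology). The published definition of the injective spectrum says
injective objects without the word indecomposable; the published proof of this step uses that each
point of the spectrum is uniform, which is the indecomposable reading taken here. -/
theorem result {C : Type u} [Category.{v} C] [Abelian C]
    [IsGrothendieckAbelian.{w} C] (E : C) [Injective E] (hE : ¬ IsZero E)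
    (hind : ∀ (A B : C), Nonempty (E ≅ A ⊞ B) → IsZero A ∨ IsZero B)
    (S₁ S₂ : ObjectProperty C) (h₁ : GabLoc.IsLocalizing.{w} S₁) (h₂ : GabLoc.IsLocalizing.{w} S₂)
    (ht₁ : GabLoc.HasTorsion S₁ E) (ht₂ : GabLoc.HasTorsion S₂ E) :
    GabLoc.HasTorsion (S₁ ⊓ S₂) E := by
  obtain ⟨Y₁, hY₁, f₁, hf₁⟩ := ht₁
  obtain ⟨Y₂, hY₂, f₂, hf₂⟩ := ht₂
  haveI := h₁.isSerreClass
  haveI := h₂.isSerreClass
  let A₁ := imageSubobject f₁
  let A₂ := imageSubobject f₂
  have hA₁ : A₁.arrow ≠ 0 := fun h => hf₁ (by rw [← imageSubobject_arrow_comp f₁, h, comp_zero])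
  have hA₂ : A₂.arrow ≠ 0 := fun h => hf₂ (by rw [← imageSubobject_arrow_comp f₂, h, comp_zero])
  let g := A₁.arrow ≫ cokernel.π A₂.arrow
  have hA₁' : S₁ (A₁ : C) := S₁.prop_of_epi (factorThruImageSubobject f₁) hY₁
  have hA₂' : S₂ (A₂ : C) := S₂.prop_of_epi (factorThruImageSubobject f₂) hY₂
  have hw : (kernel.ι g ≫ A₁.arrow) ≫ cokernel.π A₂.arrow = 0 := by
    rw [Category.assoc]; exact kernel.condition g
  let b : kernel g ⟶ (A₂ : C) :=
    (ShortComplex.exact_of_g_is_cokernel (ShortComplex.mk _ _ (cokernel.condition A₂.arrow))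
      (cokernelIsCokernel A₂.arrow)).lift _ hw
  have hb : b ≫ A₂.arrow = kernel.ι g ≫ A₁.arrow :=
    (ShortComplex.exact_of_g_is_cokernel (ShortComplex.mk _ _ (cokernel.condition A₂.arrow))
      (cokernelIsCokernel A₂.arrow)).lift_f _ hw
  haveI : Mono b := mono_of_mono_fac hb
  refine ⟨kernel g, ⟨S₁.prop_of_mono (kernel.ι g) hA₁', S₂.prop_of_mono b hA₂'⟩,
    kernel.ι g ≫ A₁.arrow, fun h => ?_⟩
  refine Agent.GabLoc29.not_disjoint_of_indecomposable E hind A₁ A₂ hA₁ hA₂ ?_
  exact Preadditive.mono_of_isZero_kernel g (IsZero.of_mono_eq_zero (kernel.ι g) (zero_of_comp_mono _ h))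

end Groth.Agent.S17646
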