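import Groth.Statements.S17647
import Groth.Agent.QCohLoc72.Restrict
import Groth.Agent.QCqs72.Basic
import Mathlib.CategoryTheory.Localization.Adjunction
import Mathlib.CategoryTheory.Adjunction.Restrict
set_option autoImplicit false
universe u
open CategoryTheory CategoryTheory.Limits AlgebraicGeometry
open QCohCat

namespace Groth.Agent.S17647


open AlgebraicGeometry CategoryTheory in
/-- Restriction to `U` of quasi-coherent modules. -/
noncomputable abbrev R (X : Scheme.{u}) (U : X.Opens) :
    QCohCat.QCoh X ⥤ QCohCat.QCoh (↑U : Scheme.{u}) :=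
  ObjectProperty.lift (QCohCat.isQCoh (↑U : Scheme.{u}))
    (ObjectProperty.ι (QCohCat.isQCoh X) ⋙ Scheme.Modules.restrictFunctor U.ι)
    (fun M => @Scheme.Modules.isQuasicoherent_restrictFunctor (↑U : Scheme.{u}) X U.ι
      inferInstance M.obj M.property)

open AlgebraicGeometry CategoryTheory in
theorem loc (X : Scheme.{u}) (U : X.Opens) [QuasiCompact U.ι] :
    (R X U).IsLocalization ((MorphismProperty.isomorphisms _).inverseImage (R X U)) := by
  let P : QCohCat.QCoh (↑U : Scheme.{u}) ⥤ QCohCat.QCoh X :=
    ObjectProperty.lift (QCohCat.isQCoh X)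
      (ObjectProperty.ι (QCohCat.isQCoh (↑U : Scheme.{u})) ⋙ Scheme.Modules.pushforward U.ι)
      (fun M => by
        haveI : M.obj.IsQuasicoherent := M.property
        exact QCqs72.isQuasicoherent_pushforward (M := M.obj) U.ι)
  let adj : R X U ⊣ P := (Scheme.Modules.restrictAdjunction U.ι).restrictFullyFaithful
    (ObjectProperty.fullyFaithfulι _) (ObjectProperty.fullyFaithfulι _) (Iso.refl _) (Iso.refl _)
  haveI hcomp : (P ⋙ ObjectProperty.ι (QCohCat.isQCoh X)).Faithful :=
    inferInstanceAs (ObjectProperty.ι (QCohCat.isQCoh (↑U : Scheme.{u})) ⋙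
      Scheme.Modules.pushforward U.ι).Faithful
  haveI hcompf : (P ⋙ ObjectProperty.ι (QCohCat.isQCoh X)).Full :=
    inferInstanceAs (ObjectProperty.ι (QCohCat.isQCoh (↑U : Scheme.{u})) ⋙
      Scheme.Modules.pushforward U.ι).Full
  haveI : P.Faithful := Functor.Faithful.of_comp P (ObjectProperty.ι (QCohCat.isQCoh X))
  haveI : P.Full := Functor.Full.of_comp_faithful P (ObjectProperty.ι (QCohCat.isQCoh X))
  exact adj.isLocalization

/-- Let X be a scheme and U ⊆ X an open subset whose inclusion U ⟶ X is quasi-compact, Z = X ∖ U. Then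
the restriction functor QCoh(X) ⥤ QCoh(U) between the categories of quasi-coherent modules is a
localization functor for the class of morphisms of quasi-coherent O_X-modules whose kernel and
cokernel (computed in O_X-modules) have support contained in Z: the category QCoh(U) is the quotient
of QCoh(X) by the localizing subcategory of quasi-coherent modules supported in Z, the direct image
along U ⟶ X being the fully faithful right adjoint. No hypothesis is made on X beyond the
quasi-compactness of U ⟶ X. -/
theorem result (X : Scheme.{u})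
    (U : X.Opens) [QuasiCompact U.ι] :
    (ObjectProperty.lift (QCohCat.isQCoh (↑U : Scheme.{u}))
        (ObjectProperty.ι (QCohCat.isQCoh X) ⋙ Scheme.Modules.restrictFunctor U.ι)
        (fun M => @Scheme.Modules.isQuasicoherent_restrictFunctor (↑U : Scheme.{u}) X U.ι
          inferInstance M.obj M.property)).IsLocalization
      (fun (A B : QCohCat.QCoh X) (f : A ⟶ B) =>
        CohB1.support (kernel f.hom) ⊆ (↑U : Set X)ᶜ ∧
          CohB1.support (cokernel f.hom) ⊆ (↑U : Set X)ᶜ) := by
  convert loc X U using 1
  refine MorphismProperty.ext _ _ fun A B f => ?_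
  rw [MorphismProperty.inverseImage_iff, MorphismProperty.isomorphisms.iff]
  refine Iff.trans ?_ (isIso_iff_of_reflects_iso _ (ObjectProperty.ι _))
  exact (QCohLoc72.isIso_restrict_map_iff U f.hom).symm

end Groth.Agent.S17647
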