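import Groth.Statements.S17649
import Groth.Agent.QCqs72.Basic

set_option autoImplicit false
universe u
open CategoryTheory CategoryTheory.Limits AlgebraicGeometry
open QCohCat

namespace Groth.Agent.S17649

open AlgebraicGeometry CategoryTheory Limits TopologicalSpace in
theorem isZero_of_sections {Y : Scheme.{u}} (M : Y.Modules)
    (h : ∀ (W : Y.Opens) (x : Γ(M, W)), x = 0) : IsZero M := by
  rw [IsZero.iff_id_eq_zero]
  refine Scheme.Modules.hom_ext _ _ fun W => ?_
  ext x
  exact (h W x).trans rfl

open AlgebraicGeometry CategoryTheory Limits TopologicalSpace in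
theorem sections_eq_zero {Y : Scheme.{u}} {M : Y.Modules} (h : IsZero M) (W : Y.Opens)
    (x : Γ(M, W)) : x = 0 :=
  congr((Scheme.Modules.Hom.app $(h.eq_of_src (𝟙 M) 0) W) x)

open AlgebraicGeometry CategoryTheory Limits TopologicalSpace in
theorem sections_eq_zero_of_le {Y : Scheme.{u}} {M : Y.Modules} {O : Y.Opens}
    (h : IsZero ((Scheme.Modules.restrictFunctor O.ι).obj M)) {W : Y.Opens} (hW : W ≤ O)
    (x : Γ(M, W)) : x = 0 := by
  have hW' : W = O.ι ''ᵁ (O.ι ⁻¹ᵁ W) := by
    rw [O.ι.image_preimage_eq_opensRange_inf, Scheme.Opens.opensRange_ι, inf_eq_right.mpr hW]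
  have h0 : Groth.Agent.QC70.res M hW'.ge x = 0 := sections_eq_zero h _ _
  have h1 := congrArg (Groth.Agent.QC70.res M hW'.le) h0
  rwa [Groth.Agent.QC70.res_res, Groth.Agent.QC70.res_self, Groth.Agent.QC70.res_zero] at h1

open AlgebraicGeometry CategoryTheory Limits TopologicalSpace in
theorem exists_sub {X : Scheme.{u}} (U V : X.Opens) [QuasiCompact U.ι] (F : X.Modules)
    [F.IsQuasicoherent] (h : IsZero ((Scheme.Modules.restrictFunctor (U ⊓ V).ι).obj F)) :
    ∃ (A : X.Modules) (i : A ⟶ F), Mono i ∧ A.IsQuasicoherent ∧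
      IsZero ((Scheme.Modules.restrictFunctor U.ι).obj A) ∧
      IsZero ((Scheme.Modules.restrictFunctor V.ι).obj (cokernel i)) := by
  let T := (Scheme.Modules.pushforward U.ι).obj ((Scheme.Modules.restrictFunctor U.ι).obj F)
  let η : F ⟶ T := (Scheme.Modules.restrictAdjunction U.ι).unit.app F
  have : T.IsQuasicoherent := QCqs72.isQuasicoherent_pushforward _ U.ι
  refine ⟨kernel η, kernel.ι η, inferInstance, QC70.isQuasicoherent_kernel η, ?_, ?_⟩
  · refine isZero_of_sections _ fun W x => ?_
    have h0 : η.app (U.ι ''ᵁ W) ((kernel.ι η).app (U.ι ''ᵁ W) x) = 0 :=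
      congr((Scheme.Modules.Hom.app $(kernel.condition η) (U.ι ''ᵁ W)) x)
    rw [Scheme.Modules.restrictAdjunction_unit_app_app] at h0
    have he : U.ι ''ᵁ W ≤ U.ι ''ᵁ (U.ι ⁻¹ᵁ (U.ι ''ᵁ W)) := by
      rw [U.ι.preimage_image_eq]
    have h1 : QC70.res F (U.ι.image_preimage_le _) ((kernel.ι η).app (U.ι ''ᵁ W) x) = 0 := h0
    have h2 := congrArg (QC70.res F he) h1
    rw [QC70.res_res, QC70.res_self, QC70.res_zero] at h2
    exact QC70.app_injective_of_mono (kernel.ι η) (U.ι ''ᵁ W) (h2.trans (map_zero _).symm)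
  · let m : cokernel (kernel.ι η) ⟶ T := (Abelian.coimageImageComparison η) ≫ Abelian.image.ι η
    refine isZero_of_sections _ fun W x => ?_
    have hle : U.ι ''ᵁ (U.ι ⁻¹ᵁ (V.ι ''ᵁ W)) ≤ U ⊓ V := by
      rw [U.ι.image_preimage_eq_opensRange_inf, Scheme.Opens.opensRange_ι]
      exact inf_le_inf_left _ ((V.ι.image_mono le_top).trans (by simp))
    have hx : m.app (V.ι ''ᵁ W) x = 0 := sections_eq_zero_of_le (M := F) h hle _
    exact QC70.app_injective_of_mono m (V.ι ''ᵁ W) (hx.trans (map_zero _).symm)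

/-- Suppose the scheme X is quasi-compact and quasi-separated, and take two quasi-compact opens U, V ⊆
X. Given a quasi-compact open W, denote by S_W the class of quasi-coherent O_X-modules that restrict
to zero on W. Then S_{U ∩ V} is the smallest localizing subcategory of Qcoh(X) that contains both
S_U and S_V; concretely (this is the inclusion that is not formal): any quasi-coherent O_X-module F
satisfying F|_{U ∩ V} = 0 arises as an extension of a quasi-coherent module that is zero on V by a
quasi-coherent submodule that is zero on U — one can find a monomorphism A ⟶ F where A is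
quasi-coherent, A|_U = 0 and (F/A)|_V = 0. -/
theorem result {X : Scheme.{u}}
    [CompactSpace X] [QuasiSeparatedSpace X] (U V : X.Opens) [QuasiCompact U.ι] [QuasiCompact V.ι]
    (F : X.Modules) (hF : Coh.IsQCoh F) (h : IsZero ((Scheme.Modules.restrictFunctor (U ⊓ V).ι).obj F)) :
    ∃ (A : X.Modules) (i : A ⟶ F), Mono i ∧ Coh.IsQCoh A ∧
      IsZero ((Scheme.Modules.restrictFunctor U.ι).obj A) ∧
      IsZero ((Scheme.Modules.restrictFunctor V.ι).obj (cokernel i)) := by
  have : F.IsQuasicoherent := hF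
  exact exists_sub U V F h

end Groth.Agent.S17649
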