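import Groth.Statements.S17651
import Groth.Agent.Curves2.H1Zero.Generated
import Groth.Agent.CD47.Resolution
import Groth.Agent.AbSch7.FieldH0
import Groth.Agent.SchBasics.Reduced
import Groth.Agent.Curves2.NodeReduced

set_option autoImplicit false
universe u
open CategoryTheory CategoryTheory.Limits AlgebraicGeometry TopologicalSpace
open Curves

namespace Groth.Agent.S17651

/-- Let k be an algebraically closed field and B a connected scheme, proper over k, of dimension one,
with at-worst-nodal singularities and with H^1(B, O_B) = 0. Let E be a finite locally free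
O_B-module generated by its global sections and p a closed point of B, with I_p the ideal sheaf of
functions vanishing at p. Then H^1(B, E ⊗ I_p) = 0; since E is locally free, E ⊗ I_p is the
submodule I_p E of sections vanishing at p. (The source works over the complex numbers; the
statement and its proof are unchanged over any algebraically closed field.) -/
theorem result (k : Type u) [Field k] [IsAlgClosed k]
    (B : Scheme.{u}) [B.Over (Spec (CommRingCat.of k))] [IsProper (B ↘ Spec (CommRingCat.of k))]
    [ConnectedSpace ↥B] (hdim : topologicalKrullDim ↥B = 1) (hnod : Curv2.AtWorstNodal k B)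
    (hg : Subsingleton (Coh.HH B (Coh.structureModule B) 1))
    (E : B.Modules) (hE : FlatMod.IsFinLocFree E) (hgg : Curv2.IsGloballyGenerated E)
    (p : ↥B) (hp : IsClosed ({p} : Set ↥B)) :
    Subsingleton (Coh.HH B (CohB1.tensorMod E
      (ClSub.idealMod (Scheme.IdealSheafData.vanishingIdeal (⟨{p}, hp⟩ : Closeds ↥B)))) 1) := by
  haveI := Crv77.isNoetherian_of_proper k B
  have h1 := Curves2.H1Zero.subsingleton_h1_tensor_gg (A := k) (Curves2.H1Zero.h2Zero_of_proper k hdim.le)
    (CD47.isCoh_of_isFinLocFree hE) hgg
    (Crv77.isCoh_idealMod (Scheme.IdealSheafData.vanishingIdeal (⟨{p}, hp⟩ : Closeds ↥B)))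
  refine h1 ?_
  haveI : IsReduced B := Curves2.isReduced_of_atWorstNodal k B hnod
  set I := Scheme.IdealSheafData.vanishingIdeal (⟨{p}, hp⟩ : Closeds ↥B) with hI
  refine Curves2.H1Zero.subsingleton_h1_of_surjective k (Crv77.idealSeq_shortExact I) ?_ hg
  haveI : IsReduced I.subscheme := SchBasics.isReduced_vanishingIdeal_subscheme _
  have hr : Set.range I.subschemeι = {p} := SchBasics.range_vanishingIdeal_subschemeι _
  haveI : Subsingleton I.subscheme := ⟨fun a b => I.subschemeι.isClosedEmbedding.injective (by
    rw [Set.mem_singleton_iff.1 (hr.le (Set.mem_range_self a)),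
      Set.mem_singleton_iff.1 (hr.le (Set.mem_range_self b))])⟩
  haveI : Nonempty I.subscheme := by
    obtain ⟨a, -⟩ : p ∈ Set.range I.subschemeι := hr.ge rfl
    exact ⟨a⟩
  haveI : ConnectedSpace I.subscheme :=
    { toPreconnectedSpace := ⟨Set.subsingleton_univ.isPreconnected⟩, toNonempty := inferInstance }
  have hbij := AbSch7.appTop_bijective_of_isAlgClosed (I.subschemeι ≫ B ↘ Spec (CommRingCat.of k))
  intro v
  obtain ⟨c, hc⟩ := hbij.2 v
  exact ⟨(B ↘ Spec (CommRingCat.of k)).appTop c, hc⟩

end Groth.Agent.S17651
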