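import Groth.Statements.S17653
import Groth.Agent.Ega11.SchemeDimFormula
import Groth.Agent.TopDim50.Basic
import Mathlib.AlgebraicGeometry.ZariskisMainTheorem
import Mathlib.AlgebraicGeometry.IdealSheaf.Subscheme

set_option autoImplicit false
universe u
open CategoryTheory CategoryTheory.Limits AlgebraicGeometry TopologicalSpace
open Variety

namespace Groth.Agent.S17653

open CategoryTheory AlgebraicGeometry TopologicalSpace Topology
open Groth.Agent Groth.Agent.E4O

set_option backward.isDefEq.respectTransparency false

/-- A point isolated in its fibre is quasi-finite. -/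
theorem quasiFiniteAt_of_isolated {X Y : Scheme.{u}} (f : X ⟶ Y) [LocallyOfFiniteType f] (x : X)
    (hx : ∃ U : X.Opens, x ∈ U ∧ ∀ x' ∈ U, f x' = f x → x' = x) : f.QuasiFiniteAt x := by
  rw [Scheme.Hom.quasiFiniteAt_iff_isOpen_singleton_asFiber]
  obtain ⟨U, hxU, hU⟩ := hx
  convert (U.isOpen.preimage (f.fiberι (f x)).continuous) using 1
  ext z
  simp only [Set.mem_singleton_iff, Set.mem_preimage, SetLike.mem_coe]
  refine ⟨fun h => ?_, fun h => ?_⟩
  · subst h
    simpa using hxU
  · have h1 : f (f.fiberι (f x) z) = f x := by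
      have : f.fiberι (f x) z ∈ Set.range (f.fiberι (f x)) := ⟨z, rfl⟩
      rw [Scheme.Hom.range_fiberι] at this
      exact this
    refine (f.fiberι (f x)).isEmbedding.injective ?_
    rw [hU _ h h1]
    simp

/-- Converse: a quasi-finite point has a neighbourhood meeting its fibre only there. -/
theorem exists_open_of_quasiFiniteAt {X Y : Scheme.{u}} (f : X ⟶ Y) [LocallyOfFiniteType f] (x : X)
    (hx : f.QuasiFiniteAt x) : ∃ W : Set X, IsOpen W ∧ x ∈ W ∧ ∀ x' ∈ W, f x' = f x → x' = x := by
  have h := Scheme.Hom.quasiFiniteAt_iff_isOpen_singleton_asFiber.1 hx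
  obtain ⟨W, hW, hWe⟩ := (f.fiberι (f x)).isEmbedding.isInducing.isOpen_iff.1 h
  refine ⟨W, hW, ?_, fun x' hx' he => ?_⟩
  · have : f.asFiber x ∈ (f.fiberι (f x)) ⁻¹' W := hWe ▸ rfl
    simpa using this
  · have : x' ∈ Set.range (f.fiberι (f x)) := by
      rw [Scheme.Hom.range_fiberι]; exact he
    obtain ⟨z, rfl⟩ := this
    have : z = f.asFiber x := by
      have : z ∈ (f.fiberι (f x)) ⁻¹' W := hx'
      rwa [hWe] at this
    simp [this]

/-- The fibre degree vanishes at a point isolated in its fibre. -/
theorem fdeg_eq_zero {X Y : Scheme.{u}} (g : X ⟶ Y) [LocallyOfFiniteType g] (x : X) {W : Set X}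
    (hW : IsOpen W) (hxW : x ∈ W) (h : ∀ x' ∈ W, g x' = g x → x' = x) : fdeg g x = 0 := by
  have h1 := dim_open_inter_fibreClosure (f := g) x hW hxW
  have he : W ∩ (closure {x} ∩ g ⁻¹' {g x}) = {x} := by
    ext x'
    refine ⟨fun ⟨a, _, b⟩ => h x' a b, fun hx' => ?_⟩
    rw [show x' = x from hx']
    exact ⟨hxW, subset_closure rfl, rfl⟩
  rw [he, TopDim50.dim_eq_zero_iff_finite_discrete.2 ⟨inferInstance, inferInstance⟩] at h1
  exact_mod_cast h1.symm

/-- Suppose X and Y are locally Noetherian schemes of the same pure dimension d (every irreducible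
component of X and every irreducible component of Y has topological Krull dimension d), and π : X →
Y is a proper morphism between them. If there is a point x of X which is isolated in its fibre
π⁻¹(π(x)), i.e. some open neighbourhood of x meets that fibre only in x, then the image of π, with
the subspace topology, has the same dimension as Y. -/
theorem result
    (X Y : Scheme.{u}) [IsLocallyNoetherian X] [IsLocallyNoetherian Y] (π : X ⟶ Y) [IsProper π]
    (d : WithBot ℕ∞) (hX : ∀ Z ∈ irreducibleComponents ↥X, topologicalKrullDim ↥Z = d)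
    (hY : ∀ Z ∈ irreducibleComponents ↥Y, topologicalKrullDim ↥Z = d)
    (x : ↥X) (hx : ∃ U : X.Opens, x ∈ U ∧ ∀ x' ∈ U, π x' = π x → x' = x) :
    topologicalKrullDim ↥(Set.range (fun z : ↥X => π z)) = topologicalKrullDim ↥Y := by
  classical
  have hxc : irreducibleComponent x ∈ irreducibleComponents X := irreducibleComponent_mem_irreducibleComponents x
  set T : Set X := irreducibleComponent x with hT
  let I := Scheme.IdealSheafData.vanishingIdeal ⟨T, isClosed_irreducibleComponent⟩
  let i : I.subscheme ⟶ X := I.subschemeι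
  have hrange : Set.range i = T := by
    rw [I.range_subschemeι, Scheme.IdealSheafData.coe_support_vanishingIdeal]
    rfl
  have hdimT : topologicalKrullDim I.subscheme = topologicalKrullDim T := by
    rw [← hrange]
    exact i.isEmbedding.toHomeomorph.isHomeomorph.topologicalKrullDim_eq
  have : IrreducibleSpace I.subscheme := by
    have : IrreducibleSpace T := isIrreducible_iff_irreducibleSpace.1 isIrreducible_irreducibleComponent
    have e : I.subscheme ≃ₜ T := i.isEmbedding.toHomeomorph.trans (Homeomorph.setCongr hrange)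
    exact e.irreducibleSpace_iff.2 inferInstance
  let g : I.subscheme ⟶ Y := i ≫ π
  let η := genericPoint I.subscheme
  have hηx : i η ⤳ x := by
    obtain ⟨z, hz⟩ : x ∈ Set.range i := hrange ▸ mem_irreducibleComponent
    rw [← hz]
    exact (genericPoint_specializes z).map i.continuous
  have hqf : π.QuasiFiniteAt (i η) := hηx.mem_open π.quasiFiniteLocus.2 (quasiFiniteAt_of_isolated π x hx)
  obtain ⟨W, hW, hηW, hWi⟩ := exists_open_of_quasiFiniteAt π (i η) hqf
  let q := g.toImage
  have hq : q ≫ g.imageι = g := g.toImage_imageι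
  have : LocallyOfFiniteType (q ≫ g.imageι) := by rw [hq]; infer_instance
  have : LocallyOfFiniteType q := locallyOfFiniteType_of_comp q g.imageι
  have : IsLocallyNoetherian g.image := LocallyOfFiniteType.isLocallyNoetherian g.imageι
  have hfd : fdeg q η = 0 := fdeg_eq_zero q η (hW.preimage i.continuous) hηW fun z hz he => by
    refine i.isEmbedding.injective (hWi _ hz ?_)
    have h2 := congrArg g.imageι he
    rw [← Scheme.Hom.comp_apply, ← Scheme.Hom.comp_apply, hq] at h2
    exact h2
  have h1 : topologicalKrullDim I.subscheme ≤ topologicalKrullDim g.image := by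
    have := Ega11.SchemeDimFormula.dim_le q (topologicalKrullDim g.image) fun y _ =>
      Ega11.SchemeDimFormula.stalk_dim_le _ y
    rw [hfd] at this
    simpa using this
  have hcl : IsClosed (Set.range π) := π.isClosedMap.isClosed_range
  have h2 : topologicalKrullDim g.image ≤ topologicalKrullDim ↥(Set.range π) := by
    have hsub : Set.range g.imageι ⊆ Set.range π := by
      show Set.range g.ker.subschemeι ⊆ _
      rw [Scheme.IdealSheafData.range_subschemeι, Scheme.Hom.support_ker]
      refine closure_minimal ?_ hcl
      rintro _ ⟨z, rfl⟩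
      exact ⟨i z, rfl⟩
    have e := g.imageι.isEmbedding.toHomeomorph.isHomeomorph.topologicalKrullDim_eq
    rw [e]
    exact TopDim50.dim_mono hsub
  have hdimY : topologicalKrullDim Y ≤ d := by
    rw [TopDim50.dim_eq_iSup_irreducibleComponents]
    exact iSup₂_le fun Z hZ => (hY Z hZ).le
  refine le_antisymm (topologicalKrullDim_subspace_le _ _) ?_
  calc topologicalKrullDim Y ≤ d := hdimY
    _ = topologicalKrullDim T := (hX T hxc).symm
    _ = topologicalKrullDim I.subscheme := hdimT.symm
    _ ≤ topologicalKrullDim g.image := h1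
    _ ≤ _ := h2

end Groth.Agent.S17653
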