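import Groth.Statements.S17656
import Groth.Agent.Curves2.H1Zero.GenOps
import Groth.Agent.CD47.Resolution
import Groth.Agent.RB70.ThickGen
import Groth.Agent.QC70.HomMod

set_option autoImplicit false
universe u
open CategoryTheory CategoryTheory.Limits AlgebraicGeometry TopologicalSpace
attribute [local instance] HasDerivedCategory.standard
open Curves

namespace Groth.Agent.S17656

/-- Let k be an algebraically closed field and B a connected scheme, proper over k, of dimension one,
with at-worst-nodal singularities and H^1(B, O_B) = 0, and let ω_B be its dualizing module over k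
(the cohomology sheaf in degree −1 of the upper-shriek pull-back of O_{Spec k}; the existence of the
upper-shriek functor is assumed). Call a finite locally free O_B-module deformation ample when it is
generated by global sections and H^1(B, E ⊗ ω_B) = 0. If 0 → E₁ → E₂ → E₃ → 0 is a short exact
sequence of finite locally free O_B-modules with E₁ and E₃ deformation ample, then E₂ is deformation
ample. (The source states this for a family of prestable genus-zero curves over an arbitrary base T,
with relative global generation and R^1 of the direct image in place of global generation and H^1;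
this is the case T = Spec k of a field base, the general case needing relative duality not available
here. The source also assumes the sheaves nonzero (positive rank), which the conclusion does not
need.) -/
theorem result (k : Type u) [Field k] [IsAlgClosed k]
    (B : Scheme.{u}) [B.Over (Spec (CommRingCat.of k))] [IsProper (B ↘ Spec (CommRingCat.of k))]
    [ConnectedSpace ↥B] (hdim : topologicalKrullDim ↥B = 1) (hnod : Curv2.AtWorstNodal k B)
    (hg : Subsingleton (Coh.HH B (Coh.structureModule B) 1))
    [DCoh.HasRpush (B ↘ Spec (CommRingCat.of k))] (h : DCoh.RpushPreservesQCoh (B ↘ Spec (CommRingCat.of k))) [DCoh.HasShriek (B ↘ Spec (CommRingCat.of k)) h]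
    (OY : DCoh.DQCoh (Spec (CommRingCat.of k))) (hOY : Nonempty (OY.obj ≅ DCoh.inD (Spec (CommRingCat.of k)) (Coh.structureModule (Spec (CommRingCat.of k)))))
    (S : ShortComplex B.Modules) (hS : S.ShortExact)
    (hE₁ : FlatMod.IsFinLocFree S.X₁) (hE₂ : FlatMod.IsFinLocFree S.X₂) (hE₃ : FlatMod.IsFinLocFree S.X₃)
    (h₁ : (Curv2.IsGloballyGenerated S.X₁ ∧ Subsingleton (Coh.HH B (CohB1.tensorMod S.X₁ (DCoh.dualizingMod (B ↘ Spec (CommRingCat.of k)) h OY 1)) 1))) (h₃ : (Curv2.IsGloballyGenerated S.X₃ ∧ Subsingleton (Coh.HH B (CohB1.tensorMod S.X₃ (DCoh.dualizingMod (B ↘ Spec (CommRingCat.of k)) h OY 1)) 1))) :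
    (Curv2.IsGloballyGenerated S.X₂ ∧ Subsingleton (Coh.HH B (CohB1.tensorMod S.X₂ (DCoh.dualizingMod (B ↘ Spec (CommRingCat.of k)) h OY 1)) 1)) := by
  haveI := Crv77.isNoetherian_of_proper k B
  have hc₁ := CD47.isCoh_of_isFinLocFree hE₁
  set ω := DCoh.dualizingMod (B ↘ Spec (CommRingCat.of k)) h OY 1
  refine ⟨RB70.gg_extension hS (Curves2.H1Zero.subsingleton_h1_of_gg (A := k) hdim.le hg hc₁ h₁.1) h₁.1 h₃.1, ?_⟩
  haveI hadj : (Crv77.twist ω).IsLeftAdjoint := (QC70.homModAdjR ω : Crv77.twist ω ⊣ _).isLeftAdjoint
  have hw : Crv77.twistMap S.f ω ≫ Crv77.twistMap S.g ω = 0 :=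
    ((Crv77.twist ω).map_comp S.f S.g).symm.trans (by rw [S.zero]; exact Functor.map_zero _ _ _)
  haveI : PreservesColimitsOfSize.{0, 0} (Crv77.twist ω) :=
    (QC70.homModAdjR ω : Crv77.twist ω ⊣ _).leftAdjoint_preservesColimits
  haveI := hS.epi_g
  have hc := CokernelCofork.mapIsColimit (CokernelCofork.ofπ S.g S.zero) hS.gIsCokernel (Crv77.twist ω)
  have hex : (ShortComplex.mk (Crv77.twistMap S.f ω) (Crv77.twistMap S.g ω) hw).Exact :=
    ShortComplex.exact_of_g_is_cokernel _ hc
  haveI : Epi (Crv77.twistMap S.g ω) := (Crv77.twist ω).map_epi S.g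
  let e : cokernel (Crv77.twistMap S.f ω) ≅ CohB1.tensorMod S.X₃ ω :=
    (cokernelIsCokernel (Crv77.twistMap S.f ω)).coconePointUniqueUpToIso hex.gIsCokernel
  haveI := h₃.2
  haveI := h₁.2
  have hI : Subsingleton (Coh.HH B (Abelian.image (Crv77.twistMap S.f ω)) 1) :=
    Curves2.H1Zero.subsingleton_h1_of_surjective_off (A := k) hdim.le (Abelian.factorThruImage _) Set.finite_empty (by simp)
      (fun x _ => QC70.surjective_stalkMapM_of_epi _ x) h₁.2
  have hseq : (ShortComplex.mk (Abelian.image.ι (Crv77.twistMap S.f ω)) (cokernel.π (Crv77.twistMap S.f ω))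
      (kernel.condition _)).ShortExact :=
    { exact := ShortComplex.exact_of_f_is_kernel _ (kernelIsKernel _)
      mono_f := inferInstanceAs (Mono (kernel.ι _))
      epi_g := inferInstanceAs (Epi (cokernel.π _)) }
  haveI := (Crv77.hEquiv k e 1).injective.subsingleton
  refine subsingleton_of_forall_eq 0 fun t => ?_
  obtain ⟨v, rfl⟩ := ((Crv77.exact_f_g k hseq 1) t).1 (Subsingleton.elim _ _)
  rw [Subsingleton.elim v 0]
  exact map_zero _

end Groth.Agent.S17656
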