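import Groth.Statements.S17657
import Groth.Agent.Curves2.H1Zero.GenOps
import Groth.Agent.CD47.Resolution
import Groth.Agent.Kvb46.Local
import Groth.Agent.ParaF26.Free
import Groth.Agent.EGA73.Tensor

set_option autoImplicit false
universe u
open CategoryTheory CategoryTheory.Limits AlgebraicGeometry TopologicalSpace
attribute [local instance] HasDerivedCategory.standard
open Curves

namespace Groth.Agent.S17657

/-- Let k be an algebraically closed field and B a connected scheme, proper over k, of dimension one,
with at-worst-nodal singularities and H^1(B, O_B) = 0, and let ω_B be its dualizing module over k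
(the cohomology sheaf in degree −1 of the upper-shriek pull-back of O_{Spec k}; the existence of the
upper-shriek functor is assumed). Call a finite locally free O_B-module deformation ample when it is
generated by global sections and H^1(B, E ⊗ ω_B) = 0. If E is a deformation ample finite locally
free O_B-module then every tensor power E^{⊗ n} with n ≥ 1 is deformation ample. (The source states
this for a family of prestable genus-zero curves over an arbitrary base T, with relative global
generation and R^1 of the direct image in place of global generation and H^1; this is the case T =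
Spec k of a field base, the general case needing relative duality not available here. The source
also assumes the sheaves nonzero (positive rank), which the conclusion does not need.) -/
theorem result (k : Type u) [Field k] [IsAlgClosed k]
    (B : Scheme.{u}) [B.Over (Spec (CommRingCat.of k))] [IsProper (B ↘ Spec (CommRingCat.of k))]
    [ConnectedSpace ↥B] (hdim : topologicalKrullDim ↥B = 1) (hnod : Curv2.AtWorstNodal k B)
    (hg : Subsingleton (Coh.HH B (Coh.structureModule B) 1))
    [DCoh.HasRpush (B ↘ Spec (CommRingCat.of k))] (h : DCoh.RpushPreservesQCoh (B ↘ Spec (CommRingCat.of k))) [DCoh.HasShriek (B ↘ Spec (CommRingCat.of k)) h]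
    (OY : DCoh.DQCoh (Spec (CommRingCat.of k))) (hOY : Nonempty (OY.obj ≅ DCoh.inD (Spec (CommRingCat.of k)) (Coh.structureModule (Spec (CommRingCat.of k)))))
    (E : B.Modules) (hE : FlatMod.IsFinLocFree E) (h₁ : (Curv2.IsGloballyGenerated E ∧ Subsingleton (Coh.HH B (CohB1.tensorMod E (DCoh.dualizingMod (B ↘ Spec (CommRingCat.of k)) h OY 1)) 1))) (n : ℕ) (hn : 1 ≤ n) :
    (Curv2.IsGloballyGenerated (CohB1.tensorPow E n) ∧ Subsingleton (Coh.HH B (CohB1.tensorMod (CohB1.tensorPow E n) (DCoh.dualizingMod (B ↘ Spec (CommRingCat.of k)) h OY 1)) 1)) := by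
  haveI := Crv77.isNoetherian_of_proper k B
  set ω := DCoh.dualizingMod (B ↘ Spec (CommRingCat.of k)) h OY 1
  have hfl : ∀ m, FlatMod.IsFinLocFree (CohB1.tensorPow E (m + 1)) ∧
      Curv2.IsGloballyGenerated (CohB1.tensorPow E (m + 1)) ∧
      Subsingleton (Coh.HH B (CohB1.tensorMod (CohB1.tensorPow E (m + 1)) ω) 1) := by
    intro m
    induction m with
    | zero =>
      refine ⟨ParaF26.isFinLocFree_of_iso (EGA73.tensUnitLeft E).symm hE,
        ?_, ?_⟩
      · obtain ⟨J, p, hp⟩ := h₁.1
        exact ⟨J, p ≫ (EGA73.tensUnitLeft E).inv, epi_comp _ _⟩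
      · haveI := h₁.2
        exact (Crv77.hEquiv k (EGA73.tensIso (EGA73.tensUnitLeft E) (Iso.refl ω)) 1).injective.subsingleton
    | succ m ih =>
      obtain ⟨h1, h2, h3⟩ := ih
      have hc := CD47.isCoh_of_isFinLocFree h1
      refine ⟨Kvb46.isFinLocFree_tensor h1 hE, Curves2.H1Zero.isGloballyGenerated_tensor hc h2 h₁.1, ?_⟩
      haveI := Curves2.H1Zero.subsingleton_h1_tensor_any (A := k) hdim.le hc h2 h₁.2
      exact (Crv77.hEquiv k (EGA73.tensAssoc' (CohB1.tensorPow E (m + 1)) E ω) 1).injective.subsingleton
  obtain ⟨m, rfl⟩ : ∃ m, n = m + 1 := ⟨n - 1, by omega⟩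
  exact ⟨(hfl m).2.1, (hfl m).2.2⟩

end Groth.Agent.S17657
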