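import Groth.Statements.S17661
import Groth.Agent.CartMod7.Affine
import Groth.Agent.FlatMor67.Lifts

set_option autoImplicit false
universe u
open CategoryTheory CategoryTheory.Limits AlgebraicGeometry
open Ribbon

namespace Groth.Agent.S17661

/-- Let k be a field, C a scheme locally of finite type over k and I ⊂ O_C a quasi-coherent ideal with
I² = 0, with closed subscheme D ⊂ C; suppose D is affine, connected and smooth over k and that I,
regarded as an O_D-module, is invertible (so C is a ribbon on the smooth affine scheme D, and D is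
the reduced scheme underlying C). Then the ribbon is split: the inclusion D → C admits a retraction
C → D over k. -/
theorem result (k : Type u) [Field k] (C : Scheme.{u}) [C.Over (Spec (CommRingCat.of k))]
    [LocallyOfFiniteType (C ↘ (Spec (CommRingCat.of k)))]
    (I : C.IdealSheafData) (hI : I ^ 2 = ⊥) [IsAffine I.subscheme] [ConnectedSpace I.subscheme]
    [Smooth (I.subschemeι ≫ (C ↘ (Spec (CommRingCat.of k))))]
    (hconormal : PicF.IsInvertible ((Scheme.Modules.pullback I.subschemeι).obj (ClSub.idealMod I))) :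
    ∃ r : C ⟶ I.subscheme, I.subschemeι ≫ r = 𝟙 I.subscheme ∧
      r ≫ I.subschemeι ≫ (C ↘ (Spec (CommRingCat.of k))) = C ↘ (Spec (CommRingCat.of k)) := by
  let sC := C ↘ (Spec (CommRingCat.of k))
  let g := I.subschemeι ≫ sC
  have hnil : IsNilpotent I.subschemeι.ker := by
    rw [Scheme.IdealSheafData.ker_subschemeι]; exact ⟨2, hI⟩
  haveI : Surjective I.subschemeι := Groth.Agent.CartMod7.surjective_of_nilpotent _ ⟨2, fun V => by
    have := congrArg (fun J : C.IdealSheafData => J.ideal V) hI
    rw [Scheme.IdealSheafData.ker_subschemeι]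
    simpa [Scheme.IdealSheafData.ideal_pow] using this⟩
  haveI : IsAffine C := Groth.Agent.VarGal.isAffine_of_thickening I.subschemeι
  have hUV : (⊤ : I.subscheme.Opens) ≤ g ⁻¹ᵁ ⊤ := le_rfl
  have hsm : (g.appLE ⊤ ⊤ hUV).hom.Smooth := by
    exact HasRingHomProperty.appLE @Smooth g inferInstance ⟨⊤, isAffineOpen_top _⟩ ⟨⊤, isAffineOpen_top _⟩ hUV
  obtain ⟨l, hl1, hl2⟩ := Groth.Agent.FlatMor67.exists_local_lift (f := g) (t := I.subschemeι) (a := 𝟙 _) (b := sC)
    hnil (by simp [g]) (isAffineOpen_top _) (isAffineOpen_top _) hUV (by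
      letI := (g.appLE ⊤ ⊤ hUV).hom.toAlgebra
      haveI : Algebra.Smooth _ _ := hsm
      exact Algebra.Smooth.formallySmooth)
    (isAffineOpen_top C) le_rfl le_top
  refine ⟨C.topIso.inv ≫ l, ?_, ?_⟩
  · have e : (I.subschemeι ⁻¹ᵁ ⊤ : I.subscheme.Opens).ι ≫ I.subschemeι ≫ C.topIso.inv = I.subschemeι ∣_ ⊤ := by
      rw [← cancel_mono (⊤ : C.Opens).ι, Category.assoc, Category.assoc, morphismRestrict_ι]
      simp [← Scheme.topIso_hom]
    haveI : Epi (I.subschemeι ⁻¹ᵁ ⊤ : I.subscheme.Opens).ι := by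
      change Epi (⊤ : I.subscheme.Opens).ι
      rw [← Scheme.topIso_hom]; infer_instance
    rw [← cancel_epi (I.subschemeι ⁻¹ᵁ ⊤ : I.subscheme.Opens).ι, reassoc_of% e]
    exact hl2
  · rw [Category.assoc]
    change C.topIso.inv ≫ l ≫ g = sC
    rw [hl1, ← Category.assoc]
    simp

end Groth.Agent.S17661
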