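import Groth.Statements.S18347
import Groth.Agent.Rib52.ExtClass
import Groth.Agent.An92.ExtOne
import Groth.Agent.S5005
import Groth.Agent.Amp73.GlobGen
import Groth.Agent.Mero90.Triv
import Groth.Agent.EGA73.Invertible
import Groth.Agent.Om3.Compat

set_option autoImplicit false
universe w u
open CategoryTheory CategoryTheory.Limits AlgebraicGeometry
open MultCurve

namespace Groth.Agent.S18347

/-- Let k be a field, D a reduced connected scheme locally of finite type over k with structure morphism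
pD and a universal k-derivation d₂ : O_D → Ω₂, let L be an invertible O_D-module and e ∈ Ext¹(Ω₂,
L). Then there is a ribbon C on D over k with class e: a k-scheme C locally of finite type with a
closed immersion i : D ⟶ C over k making C a ribbon on D, a universal k-derivation d₁ : O_C → Ω₁
with the map φ from the conormal bundle of D in C to i^*Ω₁ induced by d₁ and the map c : i^*Ω₁ → Ω₂
compatible with d₁ and d₂, such that φ followed by c is zero and the resulting sequence is short
exact, and an isomorphism θ from the conormal bundle to L along which the class of that short exact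
sequence becomes e. -/
theorem result (k : Type u) [Field k] (D : Scheme.{u}) (pD : D ⟶ Spec (CommRingCat.of k))
    [LocallyOfFiniteType pD] [AlgebraicGeometry.IsReduced D] [ConnectedSpace D]
    (L : D.Modules) (hL : PicF.IsInvertible L)
    (Ω₂ : D.Modules) (d₂ : OmegaSh.Der pD Ω₂) (hd₂ : OmegaSh.IsUniversal d₂) [HasExt.{w} D.Modules]
    (e : Abelian.Ext Ω₂ L 1) :
    ∃ (C : Scheme.{u}) (i : D ⟶ C) (pC : C ⟶ Spec (CommRingCat.of k)), i ≫ pC = pD ∧ MultCurve.IsRibbon i ∧
      LocallyOfFiniteType pC ∧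
      ∃ (Ω₁ : C.Modules) (d₁ : OmegaSh.Der pC Ω₁) (hd₁ : OmegaSh.IsUniversal d₁)
        (φ : Omega.conormal i ⟶ (Scheme.Modules.pullback i).obj Ω₁) (hφ : OmegaSh.IsConormalDiff i d₁ φ)
        (c : (Scheme.Modules.pullback i).obj Ω₁ ⟶ Ω₂) (hc : OmegaSh.IsDiffCompat i d₁ d₂ c)
        (hw : φ ≫ c = 0) (hS : (ShortComplex.mk φ c hw).ShortExact) (θ : Omega.conormal i ≅ L),
        hS.extClass.comp (Abelian.Ext.mk₀ θ.hom) (add_zero 1) = e := by
  obtain ⟨E, inc, proj, hiq, hES, rfl⟩ := Groth.Agent.An92.ExtOne.exists_extClass_eq e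
  let dat : Groth.Agent.Rib52.ExtData pD :=
    { L := L, E := E, Om := Ω₂, d := d₂, inc := inc, proj := proj, w := hiq, hS := hES }
  haveI : dat.L.IsQuasicoherent := Groth.Agent.Mero90.isQCoh_of_isInvertible hL
  haveI : dat.L.IsFiniteType := Groth.Agent.Amp73.isFiniteType_of_isInvertible hL
  let pC := Groth.Agent.Rib52.proj' dat
  let i := Groth.Agent.Rib52.incl dat
  haveI hft : LocallyOfFiniteType pC := Groth.Agent.Rib52.locallyOfFiniteType_proj' dat
  haveI : IsLocallyNoetherian (Groth.Agent.Rib52.extScheme dat) := LocallyOfFiniteType.isLocallyNoetherian pC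
  haveI : QuasiSeparated pC := inferInstance
  have hS1 : ∀ V : (Spec (CommRingCat.of k)).Opens, V = ⊤ ∨ V = ⊥ := fun V => by
    rcases Classical.em (∃ x, x ∈ V) with ⟨x, hx⟩ | h
    · exact Or.inl (eq_top_iff.2 fun y _ => Subsingleton.elim (α := PrimeSpectrum k) x y ▸ hx)
    · exact Or.inr (eq_bot_iff.2 fun y hy => (h ⟨y, hy⟩).elim)
  have hp : i ≫ pC = pD := Groth.Agent.Rib52.incl_proj' dat
  have hd₁ := Groth.Agent.S5005.result pC
  obtain ⟨c, hc, -⟩ := Groth.Agent.Om3.existsUnique_diffCompat i (b := 𝟙 (Spec (CommRingCat.of k)))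
    (f := pC) (f' := pD) (by rw [Category.comp_id, hp]) hd₁ d₂
  obtain ⟨φ, hφ⟩ := Groth.Agent.Rib52.exists_conormalDiff i (OmegaSh.dOmega pC)
  obtain ⟨hw, hS, θ, u, hθ, hu⟩ := Groth.Agent.Rib52.exists_sequence dat hS1 hd₁ hd₂ hφ hc
  have hinv : PicF.IsInvertible (Omega.conormal i) := Groth.Agent.EGA73.isInvertible_of_iso θ.symm hL
  have hsq := Groth.Agent.Rib52.sqZero_incl dat
  haveI := hsq.surjective
  have hR : MultCurve.IsRibbon i := by
    refine ⟨⟨inferInstance, ?_, Groth.Agent.Rib52.principal_of_isInvertible i hsq hinv⟩, inferInstance⟩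
    refine Scheme.IdealSheafData.ext ?_
    funext U
    simpa [Scheme.IdealSheafData.ideal_pow] using hsq U
  refine ⟨_, i, pC, hp, hR, hft, _, _, hd₁, φ, hφ, c, hc, hw, hS, θ, ?_⟩
  let F : ShortComplex.mk φ c hw ⟶ ShortComplex.mk inc proj hiq :=
    ShortComplex.homMk θ.hom u (𝟙 _) hθ (by simpa using hu)
  have h := ShortComplex.ShortExact.extClass_naturality (f := F) hS hES
  exact h.trans (Abelian.Ext.mk₀_id_comp _)

end Groth.Agent.S18347
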