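import Groth.Statements.S17663
import Groth.Agent.S18347
import Groth.Agent.S18345
import Groth.Agent.S5005
import Mathlib.AlgebraicGeometry.Noetherian
import Mathlib.AlgebraicGeometry.Morphisms.ClosedImmersion

set_option autoImplicit false
universe u
open CategoryTheory CategoryTheory.Limits AlgebraicGeometry
open Ribbon

namespace Groth.Agent.S17663

theorem exists_retraction_of_zero {k : Type u} [Field k] {D C : Scheme.{u}} [ConnectedSpace D] (i : D ⟶ C)
    (pC : C ⟶ Spec (CommRingCat.of k)) [LocallyOfFiniteType pC] (hR : MultCurve.IsRibbon i)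
    {Ω₁ : C.Modules} {d₁ : OmegaSh.Der pC Ω₁} (hd₁ : OmegaSh.IsUniversal d₁)
    {pD : D ⟶ Spec (CommRingCat.of k)} (hp : i ≫ pC = pD)
    {Ω₂ : D.Modules} {d₂ : OmegaSh.Der pD Ω₂} (hd₂ : OmegaSh.IsUniversal d₂)
    {φ : Omega.conormal i ⟶ (Scheme.Modules.pullback i).obj Ω₁} (hφ : OmegaSh.IsConormalDiff i d₁ φ)
    {c : (Scheme.Modules.pullback i).obj Ω₁ ⟶ Ω₂} (hc : OmegaSh.IsDiffCompat i d₁ d₂ c)
    {hw : φ ≫ c = 0} (hS : (ShortComplex.mk φ c hw).ShortExact) [HasExt.{u+1} D.Modules]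
    (h0 : hS.extClass = 0) : ∃ r : C ⟶ D, i ≫ r = 𝟙 D ∧ r ≫ i ≫ pC = pC := by
  subst hp
  exact (Groth.Agent.S18345.result k D C i pC hR Ω₁ d₁ hd₁ Ω₂ d₂ hd₂ φ hφ c hc hw hS).2 h0

/-- Let D be a reduced connected scheme of finite type over a field k and 𝓛 an invertible O_D-module.
Then some split ribbon on D has conormal bundle 𝓛: there are a k-scheme C locally of finite type
together with a quasi-coherent ideal I ⊂ O_C with I² = 0, a k-isomorphism from the closed subscheme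
V(I) to D, a retraction C → V(I) over k of the inclusion, and an isomorphism of O_D-modules between
I (regarded as a module on V(I) ≅ D) and 𝓛. -/
theorem result (k : Type u) [Field k] (D : Scheme.{u}) [D.Over (Spec (CommRingCat.of k))]
    [LocallyOfFiniteType (D ↘ (Spec (CommRingCat.of k)))] [QuasiCompact (D ↘ (Spec (CommRingCat.of k)))]
    [AlgebraicGeometry.IsReduced D] [ConnectedSpace D]
    (𝓛 : D.Modules) (h𝓛 : PicF.IsInvertible 𝓛) :
    ∃ (C : Scheme.{u}) (sC : C ⟶ (Spec (CommRingCat.of k))) (I : C.IdealSheafData) (φ : I.subscheme ≅ D) (r : C ⟶ I.subscheme),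
      LocallyOfFiniteType sC ∧ I ^ 2 = ⊥ ∧ φ.hom ≫ (D ↘ (Spec (CommRingCat.of k))) = I.subschemeι ≫ sC ∧ I.subschemeι ≫ r = 𝟙 I.subscheme ∧
        r ≫ I.subschemeι ≫ sC = sC ∧
        Nonempty ((Scheme.Modules.pullback (φ.inv ≫ I.subschemeι)).obj (ClSub.idealMod I) ≅ 𝓛) := by
  let pD := D ↘ (Spec (CommRingCat.of k))
  haveI : IsLocallyNoetherian D := LocallyOfFiniteType.isLocallyNoetherian pD
  haveI : QuasiSeparated pD := inferInstance
  letI : HasExt.{u+1} D.Modules := HasExt.standard _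
  have hd₂ := Groth.Agent.S5005.result pD
  obtain ⟨C, i, pC, hp, hR, hft, Ω₁, d₁, hd₁, φ, hφ, c, hc, hw, hS, θ, hθ⟩ :=
    Groth.Agent.S18347.result k D pD 𝓛 h𝓛 _ _ hd₂ (0 : Abelian.Ext (Omega.sheaf pD) 𝓛 1)
  haveI := hft
  haveI : IsClosedImmersion i := hR.1.1
  have h0 : hS.extClass = 0 := by
    have h1 := congrArg (fun x => x.comp (Abelian.Ext.mk₀ θ.inv) (add_zero 1)) hθ
    simp only [Abelian.Ext.comp_assoc_of_third_deg_zero, Abelian.Ext.mk₀_comp_mk₀, Iso.hom_inv_id,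
      Abelian.Ext.comp_mk₀_id, Abelian.Ext.zero_comp] at h1
    exact h1
  obtain ⟨r, hr1, hr2⟩ := exists_retraction_of_zero i pC hR hd₁ hp hd₂ hφ hc hS h0
  haveI : IsIso i.toImage := inferInstance
  let φ' : i.image ≅ D := (asIso i.toImage).symm
  have hφi : φ'.inv ≫ i.imageι = i := i.toImage_imageι
  refine ⟨C, pC, i.ker, φ', r ≫ φ'.inv, hft, hR.1.2.1, ?_, ?_, ?_, ?_⟩
  · show φ'.hom ≫ pD = i.imageι ≫ pC
    rw [← cancel_epi φ'.inv, ← Category.assoc, ← Category.assoc, φ'.inv_hom_id, Category.id_comp, hφi]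
    exact hp.symm
  · show i.imageι ≫ r ≫ φ'.inv = 𝟙 _
    rw [← cancel_epi φ'.inv, ← Category.assoc, hφi, reassoc_of% hr1, Category.comp_id]
  · show (r ≫ φ'.inv) ≫ i.imageι ≫ pC = pC
    rw [Category.assoc, reassoc_of% hφi, hr2]
  · exact ⟨(Scheme.Modules.pullbackCongr hφi).app _ ≪≫ θ⟩

end Groth.Agent.S17663
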