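import Groth.Statements.S17664
import Groth.Agent.Rib52.Split

set_option autoImplicit false
universe u
open CategoryTheory CategoryTheory.Limits AlgebraicGeometry
open Ribbon

namespace Groth.Agent.S17664

/-- Let D be a reduced connected scheme of finite type over a field k. Let C and C' be two split ribbons
on D with isomorphic conormal bundles: k-schemes with quasi-coherent ideals I ⊂ O_C, I' ⊂ O_{C'} of
square zero, k-isomorphisms φ : V(I) ≅ D, φ' : V(I') ≅ D, retractions C → V(I), C' → V(I') over k,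
with I and I' invertible when regarded as O_D-modules and an isomorphism θ between them. Then C and
C' are isomorphic over D: there is an isomorphism ψ : C ≅ C' with (V(I) → C → C') = (V(I) ≅ D ≅
V(I') → C'). -/
theorem result (k : Type u) [Field k] (D : Scheme.{u}) [D.Over (Spec (CommRingCat.of k))]
    [LocallyOfFiniteType (D ↘ (Spec (CommRingCat.of k)))] [QuasiCompact (D ↘ (Spec (CommRingCat.of k)))]
    [AlgebraicGeometry.IsReduced D] [ConnectedSpace D]
    (C : Scheme.{u}) (sC : C ⟶ (Spec (CommRingCat.of k))) (I : C.IdealSheafData) (hI : I ^ 2 = ⊥)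
    (φ : I.subscheme ≅ D) (hφ : φ.hom ≫ (D ↘ (Spec (CommRingCat.of k))) = I.subschemeι ≫ sC)
    (r : C ⟶ I.subscheme) (hr : I.subschemeι ≫ r = 𝟙 I.subscheme) (hrk : r ≫ I.subschemeι ≫ sC = sC)
    (C' : Scheme.{u}) (sC' : C' ⟶ (Spec (CommRingCat.of k))) (I' : C'.IdealSheafData) (hI' : I' ^ 2 = ⊥)
    (φ' : I'.subscheme ≅ D) (hφ' : φ'.hom ≫ (D ↘ (Spec (CommRingCat.of k))) = I'.subschemeι ≫ sC')
    (r' : C' ⟶ I'.subscheme) (hr' : I'.subschemeι ≫ r' = 𝟙 I'.subscheme) (hrk' : r' ≫ I'.subschemeι ≫ sC' = sC')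
    (h𝓛 : PicF.IsInvertible ((Scheme.Modules.pullback (φ.inv ≫ I.subschemeι)).obj (ClSub.idealMod I)))
    (h𝓛' : PicF.IsInvertible ((Scheme.Modules.pullback (φ'.inv ≫ I'.subschemeι)).obj (ClSub.idealMod I')))
    (θ : (Scheme.Modules.pullback (φ.inv ≫ I.subschemeι)).obj (ClSub.idealMod I) ≅
      (Scheme.Modules.pullback (φ'.inv ≫ I'.subschemeι)).obj (ClSub.idealMod I')) :
    ∃ ψ : C ≅ C', I.subschemeι ≫ ψ.hom = φ.hom ≫ φ'.inv ≫ I'.subschemeι ∧ ψ.hom ≫ sC' = sC := by
  let i : D ⟶ C := φ.inv ≫ I.subschemeι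
  let i' : D ⟶ C' := φ'.inv ≫ I'.subschemeι
  have hk : i.ker = I := by
    rw [Scheme.Hom.ker_comp]; simp
  have hk' : i'.ker = I' := by
    rw [Scheme.Hom.ker_comp]; simp
  have sq : Groth.Agent.Rib52.SqZero i := fun U => by
    rw [hk, ← Pi.pow_apply, ← Scheme.IdealSheafData.ideal_pow, hI]; simp
  have sq' : Groth.Agent.Rib52.SqZero i' := fun U => by
    rw [hk', ← Pi.pow_apply, ← Scheme.IdealSheafData.ideal_pow, hI']; simp
  let θ' : Omega.conormal i ≅ Omega.conormal i' :=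
    (Scheme.Modules.pullback i).mapIso (eqToIso (congrArg ClSub.idealMod hk)) ≪≫ θ ≪≫
      (Scheme.Modules.pullback i').mapIso (eqToIso (congrArg ClSub.idealMod hk'.symm))
  obtain ⟨ψ, h1, h2⟩ := Groth.Agent.Rib52.exists_iso_of_conormal i i' sq sq' (r := r ≫ φ.hom)
    (by simp [i, reassoc_of% hr]) (r' := r' ≫ φ'.hom) (by simp [i', reassoc_of% hr']) θ'
  refine ⟨ψ, ?_, ?_⟩
  · have := φ.hom ≫= h1
    simpa [i, i'] using this
  · calc ψ.hom ≫ sC' = (ψ.hom ≫ r' ≫ φ'.hom) ≫ (D ↘ (Spec (CommRingCat.of k))) := by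
          rw [Category.assoc, Category.assoc, hφ', hrk']
      _ = sC := by rw [h2, Category.assoc, hφ, hrk]

end Groth.Agent.S17664
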