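import Mathlib.RingTheory.Bialgebra.MonoidAlgebra
import Mathlib
import Groth.Statements.S17677

set_option autoImplicit false
universe u
open Hoch

namespace Groth.Agent.S17677

theorem result (k : Type u) [CommRing k] (M : Type u)
    [AddCommMonoid M] (V : Type u) [AddCommGroup V] [Module k V]
    [HopfRep.Comod k (AddMonoidAlgebra k M) V] :
    Hoch.cocycles k (AddMonoidAlgebra k M) V 1 ≤ Hoch.coboundaries k (AddMonoidAlgebra k M) V 1 := by
  open scoped TensorProduct in
  classical
  intro z hz
  let phi : AddMonoidAlgebra k M →ₗ[k] k :=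
    Finsupp.lapply 0 ∘ₗ (AddMonoidAlgebra.coeffLinearEquiv k).toLinearMap
  let pr : V ⊗[k] AddMonoidAlgebra k M →ₗ[k] V := (TensorProduct.rid k V).toLinearMap ∘ₗ phi.lTensor V
  let Ph : (V ⊗[k] AddMonoidAlgebra k M) ⊗[k] AddMonoidAlgebra k M →ₗ[k] V ⊗[k] AddMonoidAlgebra k M :=
    (TensorProduct.rid k _).toLinearMap ∘ₗ phi.lTensor _
  have h1 : Ph ∘ₗ Hoch.tail k (AddMonoidAlgebra k M) V = -LinearMap.id := by
    apply TensorProduct.ext'
    intro v a
    induction a using AddMonoidAlgebra.induction_linear with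
    | zero => simp
    | add a b ha hb => rw [TensorProduct.tmul_add, map_add, map_add, ha, hb]
    | single m r =>
      have hP : ∀ a b : AddMonoidAlgebra k M, Ph ((TensorProduct.assoc k V _ _).symm (v ⊗ₜ[k] (a ⊗ₜ[k] b))) = phi b • (v ⊗ₜ[k] a) := by
        intro a b; simp [Ph]
      have hs : AddMonoidAlgebra.single m r = r • AddMonoidAlgebra.single m (1 : k) := by simp
      rw [hs, TensorProduct.tmul_smul, map_smul, map_smul]
      congr 1
      simp only [LinearMap.comp_apply, Hoch.tail_tmul, map_sub, TensorProduct.tmul_sub,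
        AddMonoidAlgebra.comul_single, Bialgebra.comul_one, CommSemiring.comul_apply, TensorProduct.map_tmul,
        AddMonoidAlgebra.lsingle_apply, hP, LinearMap.neg_apply, LinearMap.id_apply]
      by_cases hm : m = 0
      · subst hm; simp [phi, AddMonoidAlgebra.one_def]
      · simp [phi, AddMonoidAlgebra.one_def, hm]
  have h2 : Ph ∘ₗ (Hoch.d k (AddMonoidAlgebra k M) V 0).rTensor (AddMonoidAlgebra k M) =
      Hoch.d k (AddMonoidAlgebra k M) V 0 ∘ₗ pr := by
    apply TensorProduct.ext'
    intro v a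
    simp [Ph, pr]
  have hz' : (Hoch.d k (AddMonoidAlgebra k M) V 0).rTensor (AddMonoidAlgebra k M) z +
      ((-1 : k) ^ 1) • Hoch.tail k (AddMonoidAlgebra k M) V z = 0 := hz
  have h3 := congrArg Ph hz'
  rw [map_add, map_smul, ← LinearMap.comp_apply, h2, ← LinearMap.comp_apply, h1, map_zero] at h3
  refine ⟨-(pr z), ?_⟩
  simp only [pow_one, LinearMap.comp_apply, LinearMap.neg_apply, LinearMap.id_apply, neg_smul, one_smul, neg_neg] at h3
  rw [map_neg]
  exact neg_eq_of_add_eq_zero_right h3

end Groth.Agent.S17677
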