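import Mathlib
import Groth.Statements.S17678

set_option autoImplicit false
universe u v
open DiagMon

namespace Groth.Agent.S17678

open TensorProduct Finset

theorem result (R : Type u) [CommRing R] (N : Type v)
    [AddCommGroup N] :
    (AddMonoidAlgebra.mapDomainRingHom R ((AddMonoidHom.id N).prod (AddMonoidHom.id N))).Flat := by
  classical
  let e : N × N ≃+ N × N :=
    { toFun := fun x => (x.2, x.2 + x.1), invFun := fun y => (y.2 - y.1, y.1),
      left_inv := fun x => by simp, right_inv := fun y => by simp,
      map_add' := fun x y => by ext <;> simp; abel }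
  have heq : AddMonoidAlgebra.mapDomainRingHom R ((AddMonoidHom.id N).prod (AddMonoidHom.id N)) =
      ((AddMonoidAlgebra.domCongr R R e).toRingEquiv.toRingHom.comp
        (AddMonoidAlgebra.curryAlgEquiv R).symm.toRingEquiv.toRingHom).comp
          (algebraMap (AddMonoidAlgebra R N) (AddMonoidAlgebra (AddMonoidAlgebra R N) N)) := by
    refine AddMonoidAlgebra.ringHom_ext (fun r => ?_) (fun n => ?_) <;>
      simp [AddMonoidAlgebra.coe_algebraMap, e]
  rw [heq]
  refine RingHom.Flat.comp ?_ (RingHom.Flat.comp (RingHom.Flat.of_bijective (AlgEquiv.bijective _))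
    (RingHom.Flat.of_bijective (AlgEquiv.bijective _)))
  rw [RingHom.flat_algebraMap_iff]
  infer_instance

end Groth.Agent.S17678
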