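import Mathlib
import Groth.Statements.S17679

set_option autoImplicit false
open DiagMon

namespace Groth.Agent.S17679

open TensorProduct Finset

theorem result (n : ℕ) (hn : 1 ≤ n) :
    (∃ s : Finset (Fin n → ℤ), s.card = n + 1 ∧ AddSubmonoid.closure (s : Set (Fin n → ℤ)) = ⊤) ∧
    ∀ s : Finset (Fin n → ℤ), AddSubmonoid.closure (s : Set (Fin n → ℤ)) = ⊤ → n + 1 ≤ s.card := by
  classical
  let e : Fin n → (Fin n → ℤ) := fun i => Pi.single i 1
  constructor
  · refine ⟨insert (-1) (univ.image e), ?_, ?_⟩
    · rw [card_insert_of_notMem, card_image_of_injective]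
      · simp
      · intro i j h; by_contra hne; simpa [e, hne] using congrFun h i
      · simp only [mem_image, mem_univ, true_and, not_exists]
        intro i h
        have := congrFun h i; simp [e] at this
    · rw [eq_top_iff]; rintro x -
      set S := AddSubmonoid.closure ((insert (-1) (univ.image e) : Finset (Fin n → ℤ)) : Set (Fin n → ℤ))
      obtain ⟨M, hM⟩ : ∃ M : ℕ, ∀ i, 0 ≤ x i + M := ⟨∑ i, (x i).natAbs, fun i => by
        have := single_le_sum (f := fun i => (x i).natAbs) (fun _ _ => Nat.zero_le _) (mem_univ i)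
        omega⟩
      have : x = M • (-1 : Fin n → ℤ) + ∑ i, (x i + M).toNat • e i := by
        ext j; simp [e, Finset.sum_apply, Pi.single_apply, hM j]
      rw [this]
      refine add_mem (AddSubmonoid.nsmul_mem _ (AddSubmonoid.subset_closure (by simp)) _) (sum_mem fun i _ => AddSubmonoid.nsmul_mem _ (AddSubmonoid.subset_closure (by simp)) _)
  · intro s hs
    by_contra hc
    push Not at hc
    let c : (Fin n → ℤ) →+ (Fin n → ℚ) := (Int.castAddHom ℚ).compLeft (Fin n)
    let v : s → (Fin n → ℚ) := fun x => c x.1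
    have hgen : ∀ x, ∃ f : s → ℕ, c x = ∑ y, (f y : ℚ) • v y := fun x => by
      have hx : x ∈ AddSubmonoid.closure (s : Set (Fin n → ℤ)) := by rw [hs]; trivial
      induction hx using AddSubmonoid.closure_induction with
      | mem y hy => exact ⟨Pi.single ⟨y, hy⟩ 1, by simp [Pi.single_apply, v]⟩
      | zero => exact ⟨0, by simp⟩
      | add a b _ _ ha hb =>
        obtain ⟨f, hf⟩ := ha; obtain ⟨g, hg⟩ := hb
        exact ⟨f + g, by simp [hf, hg, add_smul, sum_add_distrib]⟩
    have hspan : ⊤ ≤ Submodule.span ℚ (Set.range v) := by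
      rintro z -
      have : z = ∑ i, z i • c (e i) := by ext j; simp [c, e, Finset.sum_apply, Pi.single_apply, Function.comp_def, AddMonoidHom.compLeft]
      rw [this]
      refine sum_mem fun i _ => Submodule.smul_mem _ _ ?_
      obtain ⟨f, hf⟩ := hgen (e i)
      rw [hf]; exact sum_mem fun y _ => Submodule.smul_mem _ _ (Submodule.subset_span ⟨y, rfl⟩)
    have hli : LinearIndependent ℚ v := linearIndependent_of_top_le_span_of_card_le_finrank hspan (by simp; omega)
    have hsne : s.Nonempty := by
      by_contra h; rw [not_nonempty_iff_eq_empty] at h; subst h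
      have : (Pi.single (⟨0, hn⟩ : Fin n) (1:ℤ)) ∈ AddSubmonoid.closure ((∅ : Finset (Fin n → ℤ)) : Set (Fin n → ℤ)) := by rw [hs]; trivial
      simp at this
    obtain ⟨y, hy⟩ := hsne
    obtain ⟨f, hf⟩ := hgen (-y)
    have h0 : ∑ z, ((f z : ℚ) + if z = ⟨y, hy⟩ then 1 else 0) • v z = 0 := by
      simp only [add_smul, sum_add_distrib, ite_smul, one_smul, zero_smul, Finset.sum_ite_eq', mem_univ, if_true]
      rw [← hf]; simp [v]
    have := Fintype.linearIndependent_iff.mp hli _ h0 ⟨y, hy⟩
    simp at this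
    linarith [Nat.cast_nonneg (α := ℚ) (f ⟨y, hy⟩)]

end Groth.Agent.S17679
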