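import Mathlib
import Groth.Statements.S17682

set_option autoImplicit false
universe u v w u'
open DiagMon

namespace Groth.Agent.S17682

open TensorProduct Finset

theorem result (R : Type u) [CommRing R]
    (A : Type v) [CommRing A] [Algebra R A] (M : Type w) [AddCommMonoid M] [DecidableEq M]
    (𝒜 : M → Submodule R A) [GradedAlgebra 𝒜] (N : AddSubmonoid M) (R' : Type u') [CommRing R']
    [Algebra R R'] (F : A →ₐ[R] R') (hF : ∀ m, m ∉ N → ∀ a ∈ 𝒜 m, F a = 0) :
    ∃! f : A →ₐ[R] AddMonoidAlgebra R' M,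
      (∀ m, ∀ a ∈ 𝒜 m, f a =
          AddMonoidAlgebra.single m (Bialgebra.counitAlgHom R' (AddMonoidAlgebra R' M) (f a))) ∧
      (∀ m, m ∉ N → ∀ a ∈ 𝒜 m, f a = 0) ∧
      ∀ a, Bialgebra.counitAlgHom R' (AddMonoidAlgebra R' M) (f a) = F a := by
  let L : A →ₗ[R] AddMonoidAlgebra R' M :=
    (DirectSum.toModule R M _ fun m => (AddMonoidAlgebra.lsingle (R := R) m).comp (F.toLinearMap.comp (𝒜 m).subtype)) ∘ₗ
      (DirectSum.decomposeLinearEquiv 𝒜).toLinearMap
  have hL : ∀ m, ∀ a ∈ 𝒜 m, L a = AddMonoidAlgebra.single m (F a) := fun m a ha => by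
    simp only [L, LinearMap.comp_apply, LinearEquiv.coe_coe, DirectSum.decomposeLinearEquiv_apply,
      DirectSum.decompose_of_mem 𝒜 ha, ← DirectSum.lof_eq_of R, DirectSum.toModule_lof]
    rfl
  have hmul : ∀ a b, L (a * b) = L a * L b := by
    intro a b
    induction a using DirectSum.Decomposition.inductionOn 𝒜 with
    | zero => simp
    | homogeneous a =>
      induction b using DirectSum.Decomposition.inductionOn 𝒜 with
      | zero => simp
      | homogeneous b =>
        rw [hL _ _ a.2, hL _ _ b.2, hL _ _ (SetLike.mul_mem_graded a.2 b.2), AddMonoidAlgebra.single_mul_single, map_mul]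
      | add b c hb hc => simp [mul_add, map_add, hb, hc]
    | add a c ha hc => simp [add_mul, map_add, ha, hc]
  let f : A →ₐ[R] AddMonoidAlgebra R' M := AlgHom.ofLinearMap L
    (by rw [hL 0 1 (SetLike.one_mem_graded 𝒜), map_one, AddMonoidAlgebra.one_def]) hmul
  have hc : ∀ a, Bialgebra.counitAlgHom R' (AddMonoidAlgebra R' M) (f a) = F a := by
    intro a
    induction a using DirectSum.Decomposition.inductionOn 𝒜 with
    | zero => simp
    | homogeneous a => simp [f, hL _ _ a.2]
    | add a c ha hc => simp only [map_add, ha, hc]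
  refine ⟨f, ⟨fun m a ha => ?_, fun m hm a ha => ?_, hc⟩, fun g hg => ?_⟩
  · rw [hc]; exact hL m a ha
  · show L a = 0
    rw [hL m a ha, hF m hm a ha, AddMonoidAlgebra.single_zero]
  · refine AlgHom.ext fun a => ?_
    induction a using DirectSum.Decomposition.inductionOn 𝒜 with
    | zero => simp
    | homogeneous a => rw [hg.1 _ _ a.2, hg.2.2]; exact (hL _ _ a.2).symm
    | add a c ha hc => simp only [map_add, ha, hc]

end Groth.Agent.S17682
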