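import Mathlib
import Groth.Statements.S17683

set_option autoImplicit false
universe u
open DiagMon

namespace Groth.Agent.S17683

open TensorProduct Finset

theorem result {N : Type u} [AddCommMonoid N] (F : AddSubmonoid N) :
    (∀ a b : AddMonoidAlgebra ℤ N,
        AddMonoidAlgebra.comapDomain ((↑) : F → N) Subtype.val_injective (a * b) =
          AddMonoidAlgebra.comapDomain ((↑) : F → N) Subtype.val_injective a *
            AddMonoidAlgebra.comapDomain ((↑) : F → N) Subtype.val_injective b) ↔
      ∀ x y : N, x + y ∈ F ↔ (x ∈ F ∧ y ∈ F) := by
  classical
  have hs : ∀ (x : N) (r : ℤ), AddMonoidAlgebra.comapDomain ((↑) : F → N) Subtype.val_injective (AddMonoidAlgebra.single x r) =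
      if h : x ∈ F then AddMonoidAlgebra.single ⟨x, h⟩ r else 0 := fun x r => by
    ext z
    split_ifs with h
    · simp [Finsupp.single_apply, Subtype.ext_iff]
    · have : x ≠ z := fun e => h (e ▸ z.2)
      simp [Finsupp.single_apply, this]
  constructor
  · intro H x y
    refine ⟨fun hxy => ?_, fun h => add_mem h.1 h.2⟩
    have := H (AddMonoidAlgebra.single x 1) (AddMonoidAlgebra.single y 1)
    simp only [AddMonoidAlgebra.single_mul_single, hs, hxy, dite_true, mul_one] at this
    by_contra hc
    rw [not_and_or] at hc
    rcases hc with h | h <;> simp [h] at this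
  · intro H a b
    induction a using AddMonoidAlgebra.induction_linear with
    | zero => simp
    | add a c ha hc => simp [add_mul, ha, hc, AddMonoidAlgebra.comapDomain_add]
    | single x r =>
      induction b using AddMonoidAlgebra.induction_linear with
      | zero => simp
      | add a c ha hc => simp [mul_add, ha, hc, AddMonoidAlgebra.comapDomain_add]
      | single y t =>
        simp only [AddMonoidAlgebra.single_mul_single, hs]
        by_cases hxy : x + y ∈ F
        · obtain ⟨hx, hy⟩ := (H x y).mp hxy
          simp [hxy, hx, hy, AddMonoidAlgebra.single_mul_single]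
        · rw [dif_neg hxy]
          split_ifs with hx hy <;> simp_all [add_mem]

end Groth.Agent.S17683
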