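import Mathlib
import Groth.Statements.S17684

set_option autoImplicit false
universe u
open DiagMon

namespace Groth.Agent.S17684

open TensorProduct Finset

theorem result (M : Type u) [AddCommMonoid M] (N L L' : AddSubmonoid M)
    (hNL : N ≤ L) (hLL' : L ≤ L') (hface : ∀ x ∈ L', ∀ y ∈ L', x + y ∈ L ↔ (x ∈ L ∧ y ∈ L)) :
    ∃ N' : AddSubmonoid M, (N' : Set M) = (L' : Set M) \ ((L : Set M) \ (N : Set M)) ∧ N ≤ N' ∧
      ∀ x ∈ N', ∀ y ∈ N', x + y ∈ N ↔ (x ∈ N ∧ y ∈ N) := by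
  refine ⟨{ carrier := (L' : Set M) \ ((L : Set M) \ (N : Set M)), zero_mem' := ⟨L'.zero_mem, fun h => h.2 N.zero_mem⟩,
            add_mem' := fun {a b} ha hb => ⟨add_mem ha.1 hb.1, fun h => ?_⟩ }, rfl, fun x hx => ⟨hLL' (hNL hx), fun h => h.2 hx⟩, ?_⟩
  · have hh := (hface a ha.1 b hb.1).mp h.1
    exact h.2 (add_mem (not_not.mp fun hh' => ha.2 ⟨hh.1, hh'⟩) (not_not.mp fun hh' => hb.2 ⟨hh.2, hh'⟩))
  · intro x hx y hy
    refine ⟨fun h => ?_, fun h => add_mem h.1 h.2⟩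
    have hh := (hface x hx.1 y hy.1).mp (hNL h)
    exact ⟨not_not.mp fun hh' => hx.2 ⟨hh.1, hh'⟩, not_not.mp fun hh' => hy.2 ⟨hh.2, hh'⟩⟩

end Groth.Agent.S17684
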