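import Groth.Statements.S17685
import Groth.Agent.AlgGrp79.FixedClosed
import Groth.Agent.AlgGrp79.Pullback
-- import your own Groth.Agent.* helpers here

set_option autoImplicit false
universe u
open CategoryTheory MonoidalCategory CartesianMonoidalCategory MonObj GrpObj AlgebraicGeometry
open AlgGrp

namespace Groth.Agent.S17685

/-- Let S be a scheme, F an S-scheme that is finite locally free over S (finite, flat and locally of
finite presentation) with a section e of F over S which is a surjective closed immersion (an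
infinitesimal pointed S-scheme), and X an S-scheme with an action of the pointed scheme F, i.e. an
S-morphism F ×_S X → X through which e acts as the identity. Then the subfunctor of F-fixed points
of X, whose T-points are the T-points x of X with g · x_{T'} = x_{T'} for every S-scheme T' over T
and every T'-point g of F, is represented by a closed subscheme of X. (The source allows F and X to
be algebraic spaces over S; this row is the case of schemes.) -/
theorem result (S : Scheme.{u})
    (F X : Over S) (e : 𝟙_ (Over S) ⟶ F) (act : F ⊗ X ⟶ X) (he : (e ▷ X) ≫ act = (λ_ X).hom)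
    [IsFinite F.hom] [Flat F.hom] [LocallyOfFinitePresentation F.hom]
    [IsClosedImmersion e.left] [Surjective e.left] :
    ∃ (Z : Scheme.{u}) (i : Z ⟶ X.left), IsClosedImmersion i ∧
      ∀ (T : Over S) (x : T ⟶ X), (∃ y : T.left ⟶ Z, y ≫ i = x.left) ↔
        ∀ (T' : Over S) (t : T' ⟶ T) (g : T' ⟶ F), lift g (t ≫ x) ≫ act = t ≫ x := by
  have hF := Groth.Agent.RedPts82.isEssentiallyFree_of_finite_flat F.hom
  let c : X ⟶ X ⊗ F := lift (𝟙 X) (toUnit X ≫ e)
  have : Surjective c.left := by
    have h2 : Surjective (X ◁ e).left := MorphismProperty.of_isPullback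
      (Groth.Agent.AlgGrp79.isPullback_left (Groth.Agent.AlgGrp79.whiskerLeft_isPullback X e).flip) ‹Surjective e.left›
    have h3 : c = (ρ_ X).inv ≫ (X ◁ e) := by ext : 1 <;> simp [c, toUnit_unique ((ρ_ X).inv ≫ snd X (𝟙_ (Over S))) (toUnit X)]
    have h4 : IsIso (ρ_ X).inv.left := ((Over.forget S).mapIso (ρ_ X)).isIso_inv
    rw [h3, Over.comp_left]
    infer_instance
  obtain ⟨Z, i, hi, hZ⟩ := Groth.Agent.AlgGrp79.exists_fixed_closed hF act
    (Groth.Agent.AlgGrp79.isClosedImmersion_eqι_of_surjective _ _ c (by
      have h1 : c ≫ (β_ X F).hom = (λ_ X).inv ≫ (e ▷ X) := by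
        ext : 1 <;> simp [c, toUnit_unique ((λ_ X).inv ≫ fst (𝟙_ (Over S)) X) (toUnit X)]
      rw [← Category.assoc, h1, Category.assoc, he, Iso.inv_hom_id]
      simp [c]))
  refine ⟨Z.left, i.left, hi, fun T x => ⟨fun ⟨y, hy⟩ => (hZ T x).2 ⟨Over.homMk y ?_, ?_⟩, fun h => ?_⟩⟩
  · rw [← Over.w i, reassoc_of% hy, Over.w]
  · ext : 1; exact hy
  · obtain ⟨z, hz⟩ := (hZ T x).1 h
    exact ⟨z.left, congr($(hz).left)⟩

end Groth.Agent.S17685
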