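import Mathlib
import Groth.Statements.S17686

set_option autoImplicit false
universe u v w
open DiagMon

namespace Groth.Agent.S17686

open TensorProduct Finset

theorem result (R : Type u) [CommRing R] (A : Type v) [CommRing A]
    [Algebra R A] (M : Type w) [AddCommMonoid M] [DecidableEq M] (𝒜 : M → Submodule R A) [GradedAlgebra 𝒜]
    (J : AddSubmonoid M → Ideal A) (hJ : ∀ N, J N = Ideal.span {a : A | ∃ m : M, m ∉ N ∧ a ∈ 𝒜 m}) (N₀ : AddSubmonoid M) :
    J (sInf {N | J N = J N₀}) = J N₀ ∧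
      (∀ L, J (sInf {N | J N = J N₀}) = J L → sInf {N | J N = J N₀} ≤ L) ∧
      ((∀ L, J N₀ = J L → N₀ ≤ L) → sInf {N | J N = J N₀} = N₀) := by
  have h1 : J (sInf {N | J N = J N₀}) = J N₀ := by
    refine le_antisymm ?_ ?_
    · rw [hJ, Ideal.span_le]
      rintro a ⟨m, hm, ha⟩
      obtain ⟨N, hN, hmN⟩ : ∃ N ∈ {N | J N = J N₀}, m ∉ N := by
        by_contra hc; push Not at hc; exact hm (AddSubmonoid.mem_sInf.mpr hc)
      rw [← hN, hJ]; exact Ideal.subset_span ⟨m, hmN, ha⟩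
    · rw [hJ, hJ]
      exact Ideal.span_mono fun a ⟨m, hm, ha⟩ => ⟨m, fun h => hm (AddSubmonoid.mem_sInf.mp h N₀ (by simp [hJ])), ha⟩
  exact ⟨h1, fun L hL => sInf_le (by simp [← hL, h1]), fun H => le_antisymm (sInf_le rfl) (H _ h1.symm)⟩

end Groth.Agent.S17686
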