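import Mathlib
import Groth.Statements.S17687

set_option autoImplicit false
universe u v w
open DiagMon

namespace Groth.Agent.S17687

open TensorProduct Finset

theorem result (R : Type u) [CommRing R] (A : Type v) [CommRing A]
    [Algebra R A] [Algebra.FiniteType R A] (M : Type w) [AddCommMonoid M] [DecidableEq M]
    (𝒜 : M → Submodule R A) [GradedAlgebra 𝒜] :
    (Set.range fun N : AddSubmonoid M => Ideal.span {a : A | ∃ m : M, m ∉ N ∧ a ∈ 𝒜 m}).Finite := by
  classical
  obtain ⟨s, hs⟩ := (Algebra.FiniteType.out : (⊤ : Subalgebra R A).FG)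
  let T : Finset (M × A) := s.biUnion fun a => (DirectSum.decompose 𝒜 a).support.image fun m => (m, (DirectSum.decompose 𝒜 a m : A))
  refine Set.Finite.subset ((T.powerset.image fun U => Ideal.span (↑(U.image Prod.snd) : Set A)).finite_toSet) ?_
  rintro _ ⟨N, rfl⟩
  simp only [coe_image, Set.mem_image, mem_coe]
  refine ⟨T.filter fun x => x.1 ∉ N, mem_powerset.mpr (filter_subset _ _), ?_⟩
  set U := T.filter fun x => x.1 ∉ N
  set I : Ideal A := Ideal.span (Prod.snd '' (U : Set (M × A)))
  have hT : ∀ x ∈ T, x.2 ∈ 𝒜 x.1 := by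
    simp only [T, mem_biUnion, mem_image]
    rintro x ⟨a, -, m, -, rfl⟩; exact (DirectSum.decompose 𝒜 a m).2
  refine le_antisymm (Ideal.span_le.mpr ?_) (Ideal.span_le.mpr ?_)
  · rintro _ ⟨x, hx, rfl⟩
    obtain ⟨h1, h2⟩ := mem_filter.mp hx
    exact Ideal.subset_span ⟨x.1, h2, hT x h1⟩
  -- the part of degree in `N`
  let S : Subalgebra R A := (⨆ m : N, 𝒜 m.1).toSubalgebra
    (Submodule.mem_iSup_of_mem ⟨0, N.zero_mem⟩ (SetLike.one_mem_graded 𝒜))
    (fun a b ha hb => by
      induction ha using Submodule.iSup_induction' with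
      | mem i x hx =>
        induction hb using Submodule.iSup_induction' with
        | mem j y hy => exact Submodule.mem_iSup_of_mem (i + j) (SetLike.mul_mem_graded hx hy)
        | zero => simp
        | add y z _ _ hy hz => rw [mul_add]; exact add_mem hy hz
      | zero => simp
      | add x z _ _ hy hz => rw [add_mul]; exact add_mem hy hz)
  have hI : I.IsHomogeneous 𝒜 := Ideal.homogeneous_span 𝒜 _ (by
    rintro _ ⟨x, hx, rfl⟩; exact ⟨x.1, hT x (mem_filter.mp hx).1⟩)
  have hsub : ∀ a, a ∈ Subalgebra.toSubmodule S ⊔ I.restrictScalars R := by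
    let S' : Subalgebra R A := (Subalgebra.toSubmodule S ⊔ I.restrictScalars R).toSubalgebra
      (Submodule.mem_sup_left S.one_mem) (fun a b ha hb => by
        obtain ⟨a1, ha1, a2, ha2, rfl⟩ := Submodule.mem_sup.mp ha
        obtain ⟨b1, hb1, b2, hb2, rfl⟩ := Submodule.mem_sup.mp hb
        rw [add_mul, mul_add, mul_add, add_assoc]
        exact Submodule.add_mem_sup (S.mul_mem ha1 hb1)
          (add_mem (I.mul_mem_left _ hb2) (add_mem (I.mul_mem_right _ ha2) (I.mul_mem_right _ ha2))))
    intro a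
    have : (⊤ : Subalgebra R A) ≤ S' := by
      rw [← hs, Algebra.adjoin_le_iff]
      intro b hb
      show b ∈ Subalgebra.toSubmodule S ⊔ I.restrictScalars R
      rw [← DirectSum.sum_support_decompose 𝒜 b]
      refine sum_mem fun m hm => ?_
      have : (m, (DirectSum.decompose 𝒜 b m : A)) ∈ T := mem_biUnion.mpr ⟨b, hb, mem_image.mpr ⟨m, hm, rfl⟩⟩
      by_cases hmN : m ∈ N
      · exact Submodule.mem_sup_left (Submodule.mem_iSup_of_mem (⟨m, hmN⟩ : N) (hT _ this))
      · exact Submodule.mem_sup_right (Ideal.subset_span ⟨_, mem_filter.mpr ⟨this, hmN⟩, rfl⟩)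
    exact this Algebra.mem_top
  have key : ∀ s1, s1 ∈ ⨆ m : N, 𝒜 m.1 → ∀ m, m ∉ N → (DirectSum.decompose 𝒜 s1 m : A) = 0 := by
    intro s1 h1 m hm
    induction h1 using Submodule.iSup_induction' with
    | mem i x hx => exact DirectSum.decompose_of_mem_ne 𝒜 hx (fun e => hm (e ▸ i.2))
    | zero => simp
    | add x z _ _ hy hz => simp only [DirectSum.decompose_add, DirectSum.add_apply, Submodule.coe_add, hy, hz, add_zero]
  rintro a ⟨m, hm, ha⟩
  obtain ⟨s1, h1, i1, h2, rfl⟩ := Submodule.mem_sup.mp (hsub a)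
  rw [← DirectSum.decompose_of_mem_same 𝒜 ha, DirectSum.decompose_add]
  simpa [key s1 h1 m hm] using hI m h2

end Groth.Agent.S17687
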