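import Groth.Statements.S17688
import Groth.Agent.NeronHD28.Generic
import Mathlib.Data.Nat.ModEq
-- import your own Groth.Agent.* helpers here

set_option autoImplicit false
universe u
open CategoryTheory CategoryTheory.Limits AlgebraicGeometry MonObj
open Neron

namespace Groth.Agent.S17688

/-- Let R be a discrete valuation ring whose fraction field K has characteristic p > 0, and let U be a
flat, separated, commutative group scheme over Spec R whose generic fibre U_K is annihilated by a
power p^N of p (in the group of endomorphisms of U_K as a K-scheme, the p^N-th power of the identity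
is the unit). Then for every prime ℓ invertible in R the ℓ-th power map of U (the ℓ-th power of the
identity in the group of R-morphisms U → U) is an isomorphism. -/
theorem result
    (R : Type u) [CommRing R] [IsDomain R] [IsDiscreteValuationRing R]
    (p : ℕ) (hp : p.Prime) [CharP (FractionRing R) p]
    (U : Over (Spec (CommRingCat.of R))) [GrpObj U] [IsCommMonObj U] [Flat U.hom] [IsSeparated U.hom]
    (N : ℕ) (hN : (𝟙 (Red.bc (Neron.genPt R) U) : Red.bc (Neron.genPt R) U ⟶ Red.bc (Neron.genPt R) U) ^ (p ^ N) = 1)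
    (ℓ : ℕ) (hℓ : ℓ.Prime) (hℓu : IsUnit (ℓ : R)) :
    IsIso ((𝟙 U : U ⟶ U) ^ ℓ) := by
  have hRp : CharP R p := (RingHom.charP_iff (algebraMap R (FractionRing R)) (IsFractionRing.injective R _) p).2 ‹_›
  have hne : ℓ ≠ p := by
    rintro rfl
    rw [CharP.cast_eq_zero R ℓ] at hℓu
    exact not_isUnit_zero hℓu
  have hcop : Nat.Coprime ℓ (p ^ N) := Nat.Coprime.pow_right N ((Nat.coprime_primes hℓ hp).2 hne)
  have hone : (𝟙 U : U ⟶ U) ^ (p ^ N) = 1 := by
    refine NeronHD28.genericFibre_map_injective ?_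
    have h := hN
    rw [← CategoryTheory.Functor.map_id (Over.pullback (Neron.genPt R)) U] at h
    let φ := (Over.pullback (Neron.genPt R)).homMonoidHom (X := U) (M := U)
    show φ ((𝟙 U : U ⟶ U) ^ (p ^ N)) = φ 1
    rw [map_pow, map_one]
    exact h
  have hpp : 0 < p ^ N := pow_pos hp.pos N
  obtain ⟨a, b, hab⟩ : ∃ a b : ℕ, ℓ * a = p ^ N * b + 1 := by
    rcases Nat.lt_or_ge 1 (p ^ N) with h1 | h1
    · obtain ⟨a, _, ha⟩ := Nat.exists_mul_mod_eq_one_of_coprime hcop h1
      exact ⟨a, ℓ * a / p ^ N, by rw [← ha]; exact (Nat.div_add_mod _ _).symm⟩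
    · exact ⟨1, ℓ - 1, by rw [show p ^ N = 1 by omega]; have := hℓ.pos; omega⟩
  have hid : (𝟙 U : U ⟶ U) ^ (ℓ * a) = 𝟙 U := by
    rw [hab, pow_add, pow_mul, hone, one_pow, _root_.one_mul, pow_one]
  refine ⟨⟨(𝟙 U : U ⟶ U) ^ a, ?_, ?_⟩⟩
  · rw [MonObj.comp_pow, Category.comp_id, ← pow_mul, hid]
  · rw [MonObj.comp_pow, Category.comp_id, ← pow_mul, mul_comm, hid]

end Groth.Agent.S17688
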