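import Groth.Statements.S1841
import Groth.Agent.AbQP57.Reduce
import Groth.Agent.FBase64.Cons.FieldStage
import Groth.Agent.Amp73.Local

set_option autoImplicit false
universe u v
open CategoryTheory MonoidalCategory CartesianMonoidalCategory MonObj GrpObj AlgebraicGeometry
open GrpSch

namespace Groth.Agent.S1841

/-- A group scheme of finite type over a field is quasi-projective over the field; stated as the
existence of an ample invertible module on the underlying scheme (for schemes of finite type over a
field this is the same thing). -/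
theorem result (K : Type u) [Field K] (G : Over (Spec (CommRingCat.of K))) [GrpObj G] [LocallyOfFiniteType G.hom] [QuasiCompact G.hom] : ∃ L : G.left.Modules, CohB1.IsAmple L := by
  let σ := algebraMap K (AlgebraicClosure K)
  let φ := Spec.map (CommRingCat.ofHom σ)
  let G' : Over (Spec (CommRingCat.of (AlgebraicClosure K))) := (Over.pullback φ).obj G
  letI : GrpObj G' := Functor.grpObjObj
  haveI : LocallyOfFiniteType G'.hom := MorphismProperty.pullback_snd (P := @LocallyOfFiniteType) _ _ ‹_›
  haveI : QuasiCompact G'.hom := MorphismProperty.pullback_snd (P := @QuasiCompact) _ _ ‹_›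
  obtain ⟨L, hL⟩ := Groth.Agent.AbQP57.exists_isAmple_of_isAlgClosed G'
  have hq : RelProj.IsQuasiProjective (Limits.pullback.snd G.hom φ) :=
    ⟨‹LocallyOfFiniteType G'.hom›, ‹QuasiCompact G'.hom›, L,
      (Groth.Agent.Amp73.isRelAmple_iff_isAmple G'.hom).2 hL⟩
  obtain ⟨-, -, L', hL'⟩ := Groth.Agent.FBase64.FieldStage.isQuasiProjective_of_baseChange G.hom hq
  exact ⟨L', (Groth.Agent.Amp73.isRelAmple_iff_isAmple G.hom).1 hL'⟩

end Groth.Agent.S1841
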