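import Groth.Statements.S17694
import Groth.Agent.TorusAb7.Main
import Groth.Agent.AlgGrp79.TorusProper

set_option autoImplicit false
universe u
open CategoryTheory CategoryTheory.Limits AlgebraicGeometry MonObj
open WeilRes

namespace Groth.Agent.S17694

open MonoidalCategory CartesianMonoidalCategory GrpObj
open Groth.Agent.RedPts82

/-- Points of the multiplicative group over a base change die under a homomorphism to a Weil restriction of an
abelian scheme. -/
lemma comp_eq_one {S S' S₁ : Scheme.{u}} (f : S' ⟶ S) (E : Over S') [GrpObj E] [Smooth E.hom] [IsProper E.hom]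
    [GeometricallyConnected E.hom] (R : Over S) [GrpObj R] (q : Red.bc f R ⟶ E) [IsMonHom q]
    (hR : WeilRes.IsWeilRes f E R q) (e : S₁ ⟶ S) (φ : Red.Gm S₁ ⟶ Red.bc e R) [IsMonHom φ] : φ = 1 := by
  let D : Scheme.{u} := pullback e f
  let p₁ : D ⟶ S₁ := pullback.fst _ _
  let p₂ : D ⟶ S' := pullback.snd _ _
  obtain ⟨δ, hδm, hδi⟩ := AlgGrp79.exists_ds_iso' (S := S₁) p₁ ℤ
  have : Smooth (Red.bc p₂ E).hom := inferInstanceAs (Smooth (pullback.snd E.hom p₂))
  have : IsProper (Red.bc p₂ E).hom := inferInstanceAs (IsProper (pullback.snd E.hom p₂))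
  have : GeometricallyConnected (Red.bc p₂ E).hom :=
    inferInstanceAs (GeometricallyConnected (pullback.snd E.hom p₂))
  let iX : ∀ X : Over D, (Over.map f).obj ((Over.map p₂).obj X) ≅ (Over.map e).obj ((Over.map p₁).obj X) :=
    fun X => Over.isoMk (Iso.refl _) (by
      show 𝟙 _ ≫ (X.hom ≫ p₁) ≫ e = (X.hom ≫ p₂) ≫ f
      rw [Category.id_comp, Category.assoc, Category.assoc, pullback.condition])
  let pR : ∀ (X : Over D), (X ⟶ Red.Gm D) → ((Over.map p₂).obj X ⟶ Red.bc f R) := fun X x =>
    ofBase f ((iX X).hom ≫ toBase e (toBase p₁ (x ≫ δ) ≫ φ))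
  let h : Red.Gm D ⟶ Red.bc p₂ E := ofBase p₂ (pR _ (𝟙 _) ≫ q)
  have hpR : ∀ (X : Over D) (x : X ⟶ Red.Gm D), (Over.map p₂).map x ≫ pR _ (𝟙 _) = pR X x := by
    intro X x
    apply toBase_injective f
    rw [toBase_comp, toBase_ofBase, toBase_ofBase]
    have hsw : (Over.map f).map ((Over.map p₂).map x) ≫ (iX _).hom =
        (iX X).hom ≫ (Over.map e).map ((Over.map p₁).map x) := by
      ext : 1
      exact (Category.comp_id _).trans (Category.id_comp _).symm
    rw [Category.id_comp, reassoc_of% hsw, ← toBase_comp, ← Category.assoc, ← toBase_comp]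
  have hh : ∀ (X : Over D) (x : X ⟶ Red.Gm D), toBase p₂ (x ≫ h) = pR X x ≫ q := by
    intro X x
    rw [toBase_comp, toBase_ofBase, ← Category.assoc, hpR]
  have : IsMonHom h := isMonHom_of_points h fun X x y => toBase_injective p₂ (by
    rw [hh, toBase_mul, hh, hh, ← MonObj.mul_comp]
    congr 1
    apply toBase_injective f
    rw [toBase_mul, toBase_ofBase, toBase_ofBase, toBase_ofBase,
      @MonObj.mul_comp _ _ _ _ _ _ _ _ x y δ hδm, toBase_mul, MonObj.mul_comp, toBase_mul, MonObj.comp_mul])
  have h1 : h = 1 := TorusAb7.hom_Gm_eq_one (Red.bc p₂ E) h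
  -- conclude by the universal property
  apply toBase_injective e (X := Red.Gm S₁)
  rw [← Category.id_comp φ, toBase_one]
  let T : Over S := (Over.map e).obj (Red.Gm S₁)
  apply (hR T).1
  let P := toBase e (𝟙 (Red.Gm S₁) ≫ φ)
  show (Over.pullback f).map P ≫ q = (Over.pullback f).map (1 : T ⟶ R) ≫ q
  have hone : (Over.pullback f).map (1 : T ⟶ R) = 1 := toBase_injective f (by
    rw [← Category.id_comp ((Over.pullback f).map (1 : T ⟶ R)), toBase_comp_map, MonObj.comp_one, toBase_one])
  rw [hone, MonObj.one_comp q]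
  let lD : (Red.bc f T).left ⟶ D :=
    pullback.lift (pullback.fst T.hom f ≫ (Red.Gm S₁).hom) (pullback.snd T.hom f)
      (by rw [Category.assoc]; exact pullback.condition)
  let X : Over D := Over.mk lD
  let iV : (Over.map p₂).obj X ≅ Red.bc f T := Over.isoMk (Iso.refl _) (by
    show 𝟙 _ ≫ pullback.snd T.hom f = lD ≫ p₂
    rw [Category.id_comp, pullback.lift_snd])
  let g₁ : (Over.map p₁).obj X ⟶ Red.Gm S₁ := Over.homMk (pullback.fst T.hom f) (by
    show pullback.fst T.hom f ≫ _ = lD ≫ p₁
    rw [pullback.lift_fst])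
  let x : X ⟶ Red.Gm D := ofBase p₁ g₁ ≫ inv δ
  have hx : pR X x = iV.hom ≫ (Over.pullback f).map P := by
    apply toBase_injective f
    rw [toBase_ofBase, toBase_comp_map, show x ≫ δ = ofBase p₁ g₁ by simp [x], toBase_ofBase,
      ← Category.comp_id iV.hom, toBase_comp]
    rw [show P = toBase e φ from congrArg (toBase e) (Category.id_comp φ), ← Category.assoc]
    congr 1
  have e0 := hh X x
  rw [h1, MonObj.comp_one, toBase_one, hx, Category.assoc] at e0
  rw [← cancel_epi iV.hom, MonObj.comp_one]
  exact e0.symm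

/-- Let κ be a field, B a finite κ-algebra and E an abelian scheme over B, that is a proper smooth
B-group scheme whose geometric fibres are connected. Let R be a κ-group scheme which, with the
homomorphism q : R ×_κ Spec B → E, is the Weil restriction of E along Spec B → Spec κ. Then the
maximal torus of R is trivial; precisely, as the proof establishes, for every algebraically closed
field Ω over κ every homomorphism of Ω-group schemes from the multiplicative group over Ω to the
base change of R to Ω is trivial. -/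
theorem result
    (κ B : Type u) [Field κ] [CommRing B] [Algebra κ B] [Module.Finite κ B]
    (E : Over (Spec (CommRingCat.of B))) [GrpObj E] [IsProper E.hom] [Smooth E.hom]
    (hEc : ∀ (Ω' : Type u) [Field Ω'] (t : Spec (CommRingCat.of Ω') ⟶ Spec (CommRingCat.of B)),
      ConnectedSpace ↥(pullback E.hom t))
    (R : Over (Spec (CommRingCat.of κ))) [GrpObj R]
    (q : Red.bc (Spec.map (CommRingCat.ofHom (algebraMap κ B))) R ⟶ E) [IsMonHom q]
    (hR : WeilRes.IsWeilRes (Spec.map (CommRingCat.ofHom (algebraMap κ B))) E R q)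
    (Ω : Type u) [Field Ω] [IsAlgClosed Ω] [Algebra κ Ω]
    (φ : Red.Gm (Spec (CommRingCat.of Ω)) ⟶ Red.bc (Spec.map (CommRingCat.ofHom (algebraMap κ Ω))) R)
    [IsMonHom φ] :
    φ = 1 := by
  have : GeometricallyConnected E.hom := ⟨fun K _ y Z p r h => by
    have := hEc K y
    exact h.isoPullback.hom.homeomorph.symm.surjective.connectedSpace h.isoPullback.hom.homeomorph.symm.continuous⟩
  exact comp_eq_one _ E R q hR _ φ

end Groth.Agent.S17694
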