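import Groth.Statements.S17714
import Groth.Agent.Todd52.Basic
import Mathlib.Tactic

set_option autoImplicit false
open MoretBailly

namespace Groth.Agent.S17714

/-- Let n ≥ 2 and d ≥ 1 be natural numbers with n congruent to 0 or 1 modulo 4, and s an integer with 2s
> n + d + 1. Write B(x) = x/(1 - e^(-x)) for the exponential generating series of the Bernoulli
numbers (B'_1 = 1/2). Then for all sufficiently large natural numbers p the coefficient of x^n in
B(-dx)^(-1) B(-dpx) B(x)^(n+1) e^((dp-d-n-1+s)x) is strictly negative. (The published statement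
asserts this for every n ≥ 2 not congruent to 2 modulo 4. For n congruent to 3 modulo 4 the
coefficient is a polynomial in p of degree n - 1 with leading coefficient (2s-d-n-1) B'_(n-1)
d^(n-1)/(2 (n-1)!) > 0, so it is eventually positive: for n = 3, d = 1, s = 3 it equals (p^2 -
1)/24. The residues 0 and 1 are exactly the ones the leading-term argument gives.) -/
theorem result (n d : ℕ) (s : ℤ) (hn : 2 ≤ n)
    (hmod : n % 4 = 0 ∨ n % 4 = 1) (hd : 1 ≤ d) (hs : (n : ℤ) + d + 1 < 2 * s) :
    ∃ P : ℕ, ∀ p : ℕ, P ≤ p →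
      PowerSeries.coeff n ((PowerSeries.rescale (-(d : ℚ)) (bernoulli'PowerSeries ℚ))⁻¹ * PowerSeries.rescale (-((d : ℚ) * p)) (bernoulli'PowerSeries ℚ) * bernoulli'PowerSeries ℚ ^ (n + 1) * PowerSeries.rescale ((d : ℚ) * p - d - n - 1 + s) (PowerSeries.exp ℚ)) < 0 := by
  obtain ⟨P, hP, h⟩ := Groth.Agent.Todd52.coeff_expansion n hn d (-(d : ℚ) - n - 1 + s)
  obtain ⟨N, hN⟩ := Groth.Agent.Todd52.eventually_neg_of n hn d
    ((d : ℚ) / 2 + ((n : ℚ) + 1) / 2 + (-(d : ℚ) - n - 1 + s)) P hP (Nat.cast_pos.mpr hd) (by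
      rcases hmod with hm | hm
      · left
        rw [show n = 4 * (n / 4) by omega]
        exact Groth.Agent.Todd52.bernoulli'_four_mul_neg (by omega)
      · right
        refine ⟨bernoulli'_eq_zero_of_odd (Nat.odd_iff.mpr (by omega)) (by omega), mul_neg_of_pos_of_neg ?_ ?_⟩
        · have : ((n : ℚ) + d + 1) < 2 * s := by exact_mod_cast hs
          linarith
        · rw [show n - 1 = 4 * (n / 4) by omega]
          exact Groth.Agent.Todd52.bernoulli'_four_mul_neg (by omega))
  refine ⟨N, fun p hp => ?_⟩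
  rw [show ((d : ℚ) * p - d - n - 1 + s) = (d : ℚ) * p + (-(d : ℚ) - n - 1 + s) by ring,
    Groth.Agent.Todd52.todd_eq, h]
  exact hN p hp

end Groth.Agent.S17714
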