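import Groth.Statements.S17720
import Mathlib.RingTheory.MvPowerSeries.Inverse
import Mathlib.Algebra.Order.Antidiag.Finsupp
import Mathlib.Data.Fin.VecNotation
import Mathlib.Tactic.Ring
import Mathlib.Tactic.LinearCombination
import Mathlib.Tactic.FinCases
import Mathlib.RingTheory.LocalRing.ResidueField.Basic

set_option autoImplicit false
universe u
open CAlg

namespace Groth.Agent.S17720

open MvPowerSeries IsLocalRing

theorem decomp {A : Type u} [CommRing A] (P : MvPowerSeries (Fin 2) A) :
    ∃ P1 P2 : MvPowerSeries (Fin 2) A, P = C (constantCoeff P) + X 0 * P1 + X 1 * P2 := by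
  classical
  let P' : MvPowerSeries (Fin 2) A := fun n => if n 0 = 0 ∧ n ≠ 0 then coeff n P else 0
  have hc : ∀ n, coeff n P' = if n 0 = 0 ∧ n ≠ 0 then coeff n P else 0 := fun n => rfl
  obtain ⟨P2, h2⟩ : X 1 ∣ P' := by
    refine X_dvd_iff.mpr fun m hm => ?_
    rw [hc, if_neg]
    rintro ⟨h0, hne⟩
    exact hne (Finsupp.ext fun i => by fin_cases i <;> assumption)
  obtain ⟨P1, h1⟩ : X 0 ∣ P - C (constantCoeff P) - P' := by
    refine X_dvd_iff.mpr fun m hm => ?_
    rw [map_sub, map_sub, hc, coeff_C]
    rcases eq_or_ne m 0 with rfl | hne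
    · simp
    · simp [hne, hm]
  exact ⟨P1, P2, by rw [← h1, ← h2]; ring⟩

theorem coeff_single_mul {A : Type u} [CommRing A] (P Q : MvPowerSeries (Fin 2) A) (i : Fin 2) :
    coeff (Finsupp.single i 1) (P * Q) =
      constantCoeff P * coeff (Finsupp.single i 1) Q +
        coeff (Finsupp.single i 1) P * constantCoeff Q := by
  classical
  rw [coeff_mul, Finsupp.antidiagonal_single, Finset.sum_map, Finset.Nat.sum_antidiagonal_eq_sum_range_succ_mk]
  simp [Finset.sum_range_succ, coeff_zero_eq_constantCoeff_apply]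

variable {A : Type u} [CommRing A] {α β : A}

theorem coeff_single_rel (β : A) (W : MvPowerSeries (Fin 2) A) (i : Fin 2) :
    coeff (Finsupp.single i 1) ((X 0 * X 1 - C β) * W) = - (β * coeff (Finsupp.single i 1) W) := by
  rw [coeff_single_mul]
  simp only [map_sub]
  rw [coeff_single_mul (X 0)]
  simp only [map_sub, map_mul, constantCoeff_X, constantCoeff_C]
  rw [coeff_C_of_ne_zero (by simp)]
  ring

theorem const_rel (β : A) (W : MvPowerSeries (Fin 2) A) :
    constantCoeff ((X 0 * X 1 - C β) * W) = - (β * constantCoeff W) := by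
  simp

set_option maxHeartbeats 800000 in
theorem dvd_of_equiv [IsLocalRing A] (hα : α ∈ maximalIdeal A) (hβ : β ∈ maximalIdeal A)
    (φ : (MvPowerSeries (Fin 2) A ⧸ Ideal.span {(X 0 * X 1 - C α : MvPowerSeries (Fin 2) A)}) ≃ₐ[A] (MvPowerSeries (Fin 2) A ⧸ Ideal.span {(X 0 * X 1 - C β : MvPowerSeries (Fin 2) A)})) :
    α ∈ Ideal.span {β} := by
  classical
  set Iα := Ideal.span {(X 0 * X 1 - C α : MvPowerSeries (Fin 2) A)}
  set Iβ := Ideal.span {(X 0 * X 1 - C β : MvPowerSeries (Fin 2) A)}
  have hlift : ∀ i : Fin 2, ∃ U : MvPowerSeries (Fin 2) A,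
      Ideal.Quotient.mk Iβ U = φ (Ideal.Quotient.mk Iα (X i)) :=
    fun i => Ideal.Quotient.mk_surjective _
  choose U hU using hlift
  have hC : ∀ a : A, φ (Ideal.Quotient.mk Iα (C a)) = Ideal.Quotient.mk Iβ (C a) :=
    fun a => φ.commutes a
  -- the constant coefficients of the images lie in the maximal ideal
  have hU0 : ∀ i, constantCoeff (U i) ∈ maximalIdeal A := by
    intro i
    by_contra hn
    have h1 : IsUnit (U i) := isUnit_iff_constantCoeff.mpr (notMem_maximalIdeal.mp hn)
    have h2 : IsUnit (Ideal.Quotient.mk Iα (X i)) := by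
      have := h1.map (Ideal.Quotient.mk Iβ)
      rw [hU] at this
      exact (isUnit_map_iff φ _).mp this
    let ev : MvPowerSeries (Fin 2) A ⧸ Iα →+* ResidueField A :=
      Ideal.Quotient.lift Iα ((residue A).comp constantCoeff) (fun a ha => by
        obtain ⟨w, rfl⟩ := Ideal.mem_span_singleton'.mp ha
        have : residue A α = 0 := (residue_eq_zero_iff α).mpr hα
        simp [this])
    have h3 := h2.map ev
    rw [show ev (Ideal.Quotient.mk Iα (X i)) = residue A (constantCoeff (X i)) from rfl,
      constantCoeff_X, map_zero] at h3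
    exact not_isUnit_zero h3
  obtain ⟨W, hW⟩ : ∃ W, U 0 * U 1 - C α = (X 0 * X 1 - C β) * W := by
    refine (Ideal.mem_span_singleton (α := MvPowerSeries (Fin 2) A)).mp ?_
    have h1 : Ideal.Quotient.mk Iα (X 0) * Ideal.Quotient.mk Iα (X 1) =
        Ideal.Quotient.mk Iα (C α) := by
      rw [← map_mul]
      exact Ideal.Quotient.eq.mpr (Ideal.mem_span_singleton_self _)
    exact Ideal.Quotient.eq.mp (by rw [map_mul, hU, hU, ← map_mul φ, h1, hC])
  let L : Fin 2 → Fin 2 → A := fun j i => coeff (Finsupp.single i 1) (U j)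
  have hinv : ∀ j : Fin 2, ∃ q : Fin 2 → A, ∀ i : Fin 2,
      (q 0 * L 0 i + q 1 * L 1 i) - (if i = j then 1 else 0) ∈ maximalIdeal A := by
    intro j
    obtain ⟨P', hP'⟩ := φ.surjective (Ideal.Quotient.mk Iβ (X j))
    obtain ⟨P, rfl⟩ := Ideal.Quotient.mk_surjective P'
    obtain ⟨P1, P2, hP⟩ := decomp P
    obtain ⟨Q1, hQ1⟩ := Ideal.Quotient.mk_surjective (φ (Ideal.Quotient.mk Iα P1))
    obtain ⟨Q2, hQ2⟩ := Ideal.Quotient.mk_surjective (φ (Ideal.Quotient.mk Iα P2))
    obtain ⟨R, hR⟩ : ∃ R, (C (constantCoeff P) + U 0 * Q1 + U 1 * Q2) - X j =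
        (X 0 * X 1 - C β) * R := by
      refine (Ideal.mem_span_singleton (α := MvPowerSeries (Fin 2) A)).mp ?_
      have hq : Ideal.Quotient.mk Iβ (C (constantCoeff P) + U 0 * Q1 + U 1 * Q2) =
          φ (Ideal.Quotient.mk Iα P) := by
        conv_rhs => rw [hP]
        simp only [map_add, map_mul, hC, hU, hQ1, hQ2]
      exact Ideal.Quotient.eq.mp (hq.trans hP')
    refine ⟨![constantCoeff Q1, constantCoeff Q2], fun i => ?_⟩
    have h := congrArg (coeff (Finsupp.single i 1)) hR
    rw [coeff_single_rel, map_sub, map_add, map_add, coeff_single_mul, coeff_single_mul,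
      coeff_C_of_ne_zero (by simp), coeff_index_single_X] at h
    have e : (constantCoeff Q1 * L 0 i + constantCoeff Q2 * L 1 i) - (if i = j then 1 else 0) =
        -(β * coeff (Finsupp.single i 1) R) - constantCoeff (U 0) * coeff (Finsupp.single i 1) Q1
          - constantCoeff (U 1) * coeff (Finsupp.single i 1) Q2 := by
      rw [← h]; ring
    simp only [Matrix.cons_val_zero, Matrix.cons_val_one]
    rw [e]
    exact sub_mem (sub_mem (neg_mem (Ideal.mul_mem_right _ _ hβ))
      (Ideal.mul_mem_right _ _ (hU0 0))) (Ideal.mul_mem_right _ _ (hU0 1))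
  obtain ⟨q, hq⟩ := hinv 0
  obtain ⟨r, hr⟩ := hinv 1
  have hdet : IsUnit (L 0 0 * L 1 1 - L 0 1 * L 1 0) := by
    by_contra hn
    have hd : residue A (L 0 0 * L 1 1 - L 0 1 * L 1 0) = 0 :=
      (residue_eq_zero_iff _).mpr ((mem_maximalIdeal _).mpr hn)
    have a00 := (residue_eq_zero_iff _).mpr (hq 0)
    have a01 := (residue_eq_zero_iff _).mpr (hq 1)
    have a10 := (residue_eq_zero_iff _).mpr (hr 0)
    have a11 := (residue_eq_zero_iff _).mpr (hr 1)
    simp only [if_pos, if_neg, Fin.reduceEq, sub_zero, if_false, map_sub, map_add, map_mul,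
      map_one, map_zero, sub_eq_zero] at a00 a01 a10 a11 hd
    have key : (residue A (q 0) * residue A (r 1) - residue A (q 1) * residue A (r 0)) *
        (residue A (L 0 0) * residue A (L 1 1) - residue A (L 0 1) * residue A (L 1 0)) =
        (residue A (q 0) * residue A (L 0 0) + residue A (q 1) * residue A (L 1 0)) *
          (residue A (r 0) * residue A (L 0 1) + residue A (r 1) * residue A (L 1 1)) -
        (residue A (q 0) * residue A (L 0 1) + residue A (q 1) * residue A (L 1 1)) *
          (residue A (r 0) * residue A (L 0 0) + residue A (r 1) * residue A (L 1 0)) := by ring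
    rw [a00, a01, a10, a11, hd, sub_self, mul_zero, mul_one, zero_mul, sub_zero] at key
    exact zero_ne_one key
  have hlin : ∀ i : Fin 2, constantCoeff (U 0) * L 1 i + L 0 i * constantCoeff (U 1) ∈
      Ideal.span {β} := by
    intro i
    have h := congrArg (coeff (Finsupp.single i 1)) hW
    rw [coeff_single_rel, map_sub, coeff_single_mul, coeff_C_of_ne_zero (by simp), sub_zero] at h
    exact h ▸ neg_mem (Ideal.mul_mem_right _ _ (Ideal.mem_span_singleton_self β))
  have hU00 : constantCoeff (U 0) ∈ Ideal.span {β} := by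
    have h1 : constantCoeff (U 0) * (L 0 0 * L 1 1 - L 0 1 * L 1 0) =
        L 0 0 * (constantCoeff (U 0) * L 1 1 + L 0 1 * constantCoeff (U 1)) -
          L 0 1 * (constantCoeff (U 0) * L 1 0 + L 0 0 * constantCoeff (U 1)) := by ring
    rw [← Ideal.mul_unit_mem_iff_mem _ hdet, h1]
    exact sub_mem (Ideal.mul_mem_left _ _ (hlin 1)) (Ideal.mul_mem_left _ _ (hlin 0))
  have h := congrArg constantCoeff hW
  rw [const_rel, map_sub, map_mul, constantCoeff_C] at h
  have e : α = constantCoeff (U 0) * constantCoeff (U 1) + β * constantCoeff W := by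
    linear_combination -h
  rw [e]
  exact add_mem (Ideal.mul_mem_right _ _ hU00)
    (Ideal.mul_mem_right _ _ (Ideal.mem_span_singleton_self β))


open MvPowerSeries IsLocalRing in
/-- Let A be a Noetherian local ring and α, β two elements of its maximal ideal. If the quotient of the
power series ring in two variables over A by xy − α is isomorphic, as an A-algebra, to the quotient
by xy − β, then αA = βA. (The published statement allows any local ring A; it is taken Noetherian
here, the case in which an algebra isomorphism between these complete local rings is continuous for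
their adic topologies.) -/
theorem result
    (A : Type u) [CommRing A] [IsLocalRing A] [IsNoetherianRing A]
    (α β : A) (hα : α ∈ maximalIdeal A) (hβ : β ∈ maximalIdeal A)
    (φ : (MvPowerSeries (Fin 2) A ⧸ Ideal.span {(X 0 * X 1 - C α : MvPowerSeries (Fin 2) A)}) ≃ₐ[A] (MvPowerSeries (Fin 2) A ⧸ Ideal.span {(X 0 * X 1 - C β : MvPowerSeries (Fin 2) A)})) :
    Ideal.span {α} = Ideal.span {β} := by
  refine le_antisymm ?_ ?_
  · exact (Ideal.span_singleton_le_iff_mem _).mpr (dvd_of_equiv hα hβ φ)
  · exact (Ideal.span_singleton_le_iff_mem _).mpr (dvd_of_equiv hβ hα φ.symm)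

end Groth.Agent.S17720
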