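import Groth.Statements.S17721
import Mathlib.RingTheory.Polynomial.Content
import Mathlib.RingTheory.PowerSeries.Inverse
import Mathlib.RingTheory.LocalRing.ResidueField.Basic
import Mathlib.Tactic.Ring

set_option autoImplicit false
universe u
open CAlg

namespace Groth.Agent.S17721

open Polynomial IsLocalRing in
/-- Let R be a complete discrete valuation ring with fraction field K, and f a polynomial over R with
non-zero constant term a₀ such that a₀ does not divide some coefficient of f of positive degree
(equivalently, the Newton polygon of f has a side of negative slope). Let b be the power series over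
K with b · f = a₀, the expansion of the geometric series in 1 − f/a₀. Then the valuations of the
coefficients b_j are not bounded below: for every non-zero c in R there is an index j with c · b_j
outside R. -/
theorem result
    (R : Type u) [CommRing R] [IsDomain R] [IsDiscreteValuationRing R]
    [IsAdicComplete (maximalIdeal R) R]
    (K : Type u) [Field K] [Algebra R K] [IsFractionRing R K]
    (f : R[X]) (h0 : f.coeff 0 ≠ 0) (hslope : ∃ i : ℕ, 0 < i ∧ ¬ (f.coeff 0 ∣ f.coeff i))
    (b : PowerSeries K)
    (hb : b * ((f.map (algebraMap R K) : K[X]) : PowerSeries K) = PowerSeries.C (algebraMap R K (f.coeff 0))) :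
    ∀ c : R, c ≠ 0 → ∃ j : ℕ, algebraMap R K c * PowerSeries.coeff j b ∉ (algebraMap R K).range := by
  classical
  let _ : NormalizedGCDMonoid R := Classical.choice inferInstance
  intro c hc
  by_contra hcon
  push Not at hcon
  choose B hB using hcon
  let Bs : PowerSeries R := PowerSeries.mk B
  set g : R[X] := f.primPart with hg
  have hf : f = Polynomial.C f.content * g := f.eq_C_content_mul_primPart
  have hinjK := IsFractionRing.injective R K
  have hcontent : f.content ≠ 0 := by
    intro h
    exact h0 (by rw [hf, h, map_zero, zero_mul, Polynomial.coeff_zero])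
  have hg0 : g.coeff 0 ∈ maximalIdeal R := by
    by_contra hu
    obtain ⟨i, -, hndvd⟩ := hslope
    refine hndvd ?_
    have h1 : f.coeff 0 = f.content * g.coeff 0 := by rw [hg]; conv_lhs => rw [hf, Polynomial.coeff_C_mul]
    rw [h1, (notMem_maximalIdeal.mp hu).mul_right_dvd]
    exact Polynomial.content_dvd_coeff i
  -- the identity over `R`
  have key : Bs * (g : PowerSeries R) * PowerSeries.C f.content =
      PowerSeries.C (c * f.coeff 0) := by
    apply PowerSeries.map_injective (algebraMap R K) hinjK
    have h1 : PowerSeries.map (algebraMap R K) Bs = PowerSeries.C (algebraMap R K c) * b := by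
      ext n
      rw [PowerSeries.coeff_map, PowerSeries.coeff_mk, PowerSeries.coeff_C_mul]
      exact hB n
    have h2 : PowerSeries.map (algebraMap R K) ((g : PowerSeries R) * PowerSeries.C f.content) =
        ((f.map (algebraMap R K) : K[X]) : PowerSeries K) := by
      ext n
      rw [PowerSeries.coeff_map, Polynomial.coeff_coe, Polynomial.coeff_map, mul_comm,
        PowerSeries.coeff_C_mul, Polynomial.coeff_coe]
      conv_rhs => rw [hf, Polynomial.coeff_C_mul]
    rw [mul_assoc, map_mul, h1, h2, mul_assoc, hb, PowerSeries.map_C, map_mul, map_mul]
  -- `f.content` divides the right hand side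
  have hdvd : ∀ n, f.content ∣ PowerSeries.coeff n (PowerSeries.C (c * f.coeff 0)) := by
    intro n
    rw [PowerSeries.coeff_C]
    split_ifs
    · exact dvd_mul_of_dvd_right (Polynomial.content_dvd_coeff 0) c
    · exact dvd_zero _
  let d : R := c * g.coeff 0
  have key' : Bs * (g : PowerSeries R) = PowerSeries.C d := by
    have hd : PowerSeries.C (c * f.coeff 0) = PowerSeries.C d * PowerSeries.C f.content := by
      rw [← map_mul]
      congr 1
      show c * f.coeff 0 = c * g.coeff 0 * f.content
      conv_lhs => rw [hf, Polynomial.coeff_C_mul]
      ring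
    rw [hd] at key
    exact mul_right_cancel₀ (fun h => hcontent (by simpa using congrArg PowerSeries.constantCoeff h)) key
  obtain ⟨ϖ, hϖ⟩ := IsDiscreteValuationRing.exists_irreducible R
  have hmax : maximalIdeal R = Ideal.span {ϖ} := hϖ.maximalIdeal_eq
  let q : R →+* ResidueField R := residue R
  have hgq : g.map q ≠ 0 := by
    intro h
    have hall : Polynomial.C ϖ ∣ g := by
      rw [Polynomial.C_dvd_iff_dvd_coeff]
      intro i
      have := congrArg (fun p => Polynomial.coeff p i) h
      simp only [Polynomial.coeff_map, Polynomial.coeff_zero] at this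
      have := (residue_eq_zero_iff _).mp this
      rwa [hmax, Ideal.mem_span_singleton] at this
    exact hϖ.not_isUnit (f.isPrimitive_primPart ϖ hall)
  have ind : ∀ (n : ℕ) (B' : PowerSeries R) (d' : R),
      B' * (g : PowerSeries R) = PowerSeries.C d' → ϖ ^ n ∣ d' := by
    intro n
    induction n with
    | zero => simp
    | succ n ih =>
      intro B' d' h
      have h' : PowerSeries.map q B' * ((g.map q : (ResidueField R)[X]) : PowerSeries _) =
          PowerSeries.C (q d') := by
        have hcoe : PowerSeries.map q (g : PowerSeries R) =
            ((g.map q : (ResidueField R)[X]) : PowerSeries _) := by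
          ext i
          rw [PowerSeries.coeff_map, Polynomial.coeff_coe, Polynomial.coeff_coe, Polynomial.coeff_map]
        rw [← hcoe, ← map_mul, h, PowerSeries.map_C]
      have hqd : q d' = 0 := by
        have := congrArg PowerSeries.constantCoeff h'
        rwa [map_mul, Polynomial.constantCoeff_coe, Polynomial.coeff_map,
          (residue_eq_zero_iff _).mpr hg0, mul_zero, PowerSeries.constantCoeff_C, eq_comm] at this
      rw [hqd, map_zero, mul_eq_zero, Polynomial.coe_eq_zero_iff] at h'
      have hB' : ∀ i, ∃ e, PowerSeries.coeff i B' = ϖ * e := by
        intro i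
        have := congrArg (PowerSeries.coeff i) (h'.resolve_right hgq)
        rw [PowerSeries.coeff_map, map_zero] at this
        have := (residue_eq_zero_iff _).mp this
        rw [hmax, Ideal.mem_span_singleton] at this
        exact this
      choose e he using hB'
      have hd' := (residue_eq_zero_iff _).mp hqd
      rw [hmax, Ideal.mem_span_singleton] at hd'
      obtain ⟨d'', rfl⟩ := hd'
      have hBe : B' = PowerSeries.C ϖ * PowerSeries.mk e := by
        ext i
        rw [PowerSeries.coeff_C_mul, PowerSeries.coeff_mk, he i]
      rw [hBe, mul_assoc, map_mul] at h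
      rw [pow_succ']
      exact mul_dvd_mul_left ϖ (ih _ _ (mul_left_cancel₀
        (fun h0 => hϖ.ne_zero (by simpa using congrArg PowerSeries.constantCoeff h0)) h))
  have hd0 : d = 0 := by
    refine IsHausdorff.haus (I := maximalIdeal R) inferInstance d fun n => ?_
    rw [SModEq.zero, smul_eq_mul, Ideal.mul_top, hmax, Ideal.span_singleton_pow,
      Ideal.mem_span_singleton]
    exact ind n Bs d key'
  refine h0 ?_
  rcases mul_eq_zero.mp hd0 with h | h
  · exact absurd h hc
  · rw [hf, Polynomial.coeff_C_mul, h, mul_zero]

end Groth.Agent.S17721
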