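import Groth.Statements.S17722
import Mathlib.RingTheory.Flat.FaithfullyFlat.Algebra

set_option autoImplicit false
universe u
open CAlg

namespace Groth.Agent.S17722

/-- Let R → R' be a faithfully flat ring map between Noetherian integrally closed local domains, and p
an ideal of R. If the ideal pR' generated by the image of p is principal, then p is principal. (The
second assertion of the published lemma, descent of unique factorization, is not part of this row.) -/
theorem result
    (R R' : Type u) [CommRing R] [CommRing R'] [IsDomain R] [IsDomain R']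
    [IsNoetherianRing R] [IsNoetherianRing R'] [IsLocalRing R] [IsLocalRing R']
    [IsIntegrallyClosed R] [IsIntegrallyClosed R']
    [Algebra R R'] [Module.FaithfullyFlat R R']
    (p : Ideal R) (hp : (p.map (algebraMap R R')).IsPrincipal) :
    p.IsPrincipal := by
  obtain ⟨x, hx⟩ := hp.principal
  rcases eq_or_ne x 0 with rfl | hx0
  · have : p = ⊥ := by
      rw [← Ideal.comap_map_eq_self_of_faithfullyFlat (B := R') p, hx]
      simp [Ideal.comap_bot_of_injective _ (FaithfulSMul.algebraMap_injective R R')]
    rw [this]
    exact bot_isPrincipal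
  have key : ∃ g ∈ p, Ideal.span {algebraMap R R' g} = p.map (algebraMap R R') := by
    by_contra hcon
    have hmem : ∀ g ∈ p, algebraMap R R' g ∈ IsLocalRing.maximalIdeal R' * Ideal.span {x} := by
      intro g hg
      have hgx : algebraMap R R' g ∈ Ideal.span {x} := by
        rw [Ideal.span, ← hx]; exact Ideal.mem_map_of_mem _ hg
      obtain ⟨c, hc⟩ := Ideal.mem_span_singleton'.mp hgx
      rw [← hc]
      refine Ideal.mul_mem_mul ((IsLocalRing.mem_maximalIdeal c).mpr fun hu => hcon ⟨g, hg, ?_⟩)
        (Ideal.mem_span_singleton_self x)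
      rw [← hc, Ideal.span_singleton_mul_left_unit hu, hx]
    have hle : p.map (algebraMap R R') ≤ IsLocalRing.maximalIdeal R' * Ideal.span {x} :=
      Ideal.map_le_iff_le_comap.mpr hmem
    have hxmem : x ∈ IsLocalRing.maximalIdeal R' * Ideal.span {x} :=
      hle (hx ▸ Submodule.mem_span_singleton_self x)
    obtain ⟨y, hy, hyx⟩ := Ideal.mem_mul_span_singleton.mp hxmem
    have : y = 1 := mul_right_cancel₀ hx0 (by rw [hyx, one_mul])
    exact (IsLocalRing.mem_maximalIdeal _).mp (this ▸ hy) isUnit_one
  obtain ⟨g, -, hg⟩ := key
  refine ⟨⟨g, ?_⟩⟩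
  rw [← Ideal.span, ← Ideal.comap_map_eq_self_of_faithfullyFlat (B := R') p, ← hg,
    ← Set.image_singleton, ← Ideal.map_span, Ideal.comap_map_eq_self_of_faithfullyFlat]

end Groth.Agent.S17722
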