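import Groth.Statements.S17726
import Mathlib.RingTheory.Ideal.Operations
import Mathlib.Tactic.Ring
import Mathlib.Algebra.GroupWithZero.NonZeroDivisors

set_option autoImplicit false
universe u
open CAlg

namespace Groth.Agent.S17726

/-- Let f and g be non-zero-divisors of a commutative ring A, not both units; think of them as local
equations, at a point of the union of the supports, of two effective Cartier divisors E and D. If
the ideals generated by g^{m₁} and f^{n₁} coincide, and likewise for g^{m₂} and f^{n₂}, then m₁ n₂ =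
m₂ n₁. So all pairs (m, n) with m D = n E locally at the point are proportional, and the saturation
of the monoid they form is generated by a single element. -/
theorem result
    (A : Type u) [CommRing A] (f g : A)
    (hf : f ∈ nonZeroDivisors A) (hg : g ∈ nonZeroDivisors A) (hfg : ¬ (IsUnit f ∧ IsUnit g))
    (m₁ n₁ m₂ n₂ : ℕ)
    (h₁ : Ideal.span {g ^ m₁} = Ideal.span {f ^ n₁})
    (h₂ : Ideal.span {g ^ m₂} = Ideal.span {f ^ n₂}) :
    m₁ * n₂ = m₂ * n₁ := by
  have key : ∀ g : A, g ∈ nonZeroDivisors A → ¬ IsUnit g → ∀ a b : ℕ,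
      Ideal.span {g ^ a} = Ideal.span {g ^ b} → a = b := by
    intro g hg hu a b hab
    wlog hle : a < b generalizing a b
    · rcases Nat.lt_or_ge b a with h | h
      · exact (this b a hab.symm h).symm
      · omega
    exfalso
    have hd : g ^ b ∣ g ^ a := Ideal.span_singleton_le_span_singleton.mp hab.le
    obtain ⟨c, hc⟩ := hd
    obtain ⟨d, rfl⟩ : ∃ d, b = a + (d + 1) := ⟨b - a - 1, by omega⟩
    rw [pow_add, mul_assoc] at hc
    have h1 : g ^ a * (1 - g ^ (d + 1) * c) = 0 := by rw [mul_sub, mul_one, ← hc, sub_self]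
    have h2 := (mul_left_mem_nonZeroDivisors_eq_zero_iff (pow_mem hg a)).mp h1
    refine hu (IsUnit.of_mul_eq_one (g ^ d * c) ?_)
    rw [sub_eq_zero] at h2
    rw [← mul_assoc, ← pow_succ', ← h2]
  have hpow : ∀ (x y : A) (a b k : ℕ), Ideal.span {x ^ a} = Ideal.span {y ^ b} →
      Ideal.span {x ^ (a * k)} = Ideal.span {y ^ (b * k)} := by
    intro x y a b k h
    rw [pow_mul, pow_mul, ← Ideal.span_singleton_pow (x ^ a), ← Ideal.span_singleton_pow (y ^ b), h]
  rcases not_and_or.mp hfg with hfu | hgu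
  · have h3 := key f hf hfu (n₁ * m₂) (n₂ * m₁) (by
      rw [← hpow g f m₁ n₁ m₂ h₁, ← hpow g f m₂ n₂ m₁ h₂, mul_comm])
    by_cases hgu : IsUnit g
    · have hz : ∀ m n : ℕ, Ideal.span {g ^ m} = Ideal.span {f ^ n} → n = 0 := fun m n h =>
        key f hf hfu n 0 (by
          rw [← h, pow_zero, Ideal.span_singleton_eq_top.mpr (hgu.pow m), Ideal.span_singleton_one])
      rw [hz _ _ h₁, hz _ _ h₂, mul_zero, mul_zero]
    · exact key g hg hgu _ _ (by
        rw [hpow g f m₁ n₁ n₂ h₁, hpow g f m₂ n₂ n₁ h₂, mul_comm])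
  · exact key g hg hgu _ _ (by
      rw [hpow g f m₁ n₁ n₂ h₁, hpow g f m₂ n₂ n₁ h₂, mul_comm])

end Groth.Agent.S17726
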