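import Groth.Statements.S17727
import Groth.Agent.GrpSch58.Dense
import Mathlib.AlgebraicGeometry.AffineScheme
-- import your own Groth.Agent.* helpers here

set_option autoImplicit false
universe u
open Neron

namespace Groth.Agent.S17727

open CategoryTheory AlgebraicGeometry in
/-- Let f : E → S be a morphism of schemes and U ⊆ S a schematically dense open subscheme such that f
restricts to an isomorphism over U and the preimage of U is schematically dense in E. Then for every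
section σ of f and every point s of S there is an open neighbourhood W of σ(s) in E on which f
restricts to an open immersion. (The published statements conclude that the section lands in the
étale locus of f, in one published form for an algebraic space E, in another for f locally of finite
type over a Noetherian base; the affine-local argument gives the sharper conclusion recorded here,
for schemes.) -/
theorem result
    {E S : Scheme.{u}} (f : E ⟶ S) (U : S.Opens) (hU : CInt.IsSchematicallyDense U)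
    (hiso : IsIso (morphismRestrict f U)) (hdense : CInt.IsSchematicallyDense (f ⁻¹ᵁ U))
    (σ : S ⟶ E) (hσ : σ ≫ f = 𝟙 S) (s : S) :
    ∃ W : E.Opens, σ.base s ∈ W ∧ IsOpenImmersion (W.ι ≫ f) := by
  open CategoryTheory AlgebraicGeometry in
  obtain ⟨W₀, hW₀, hsW₀, -⟩ := exists_isAffineOpen_mem_and_subset (U := (⊤ : E.Opens)) (x := σ.base s) trivial
  have hσf : ∀ y : S, f.base (σ.base y) = y := fun y => by
    exact (Scheme.Hom.comp_apply σ f y).symm.trans (by rw [hσ]; rfl)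
  obtain ⟨V, hV, hsV, hVle⟩ := exists_isAffineOpen_mem_and_subset (U := σ ⁻¹ᵁ W₀) (x := s) hsW₀
  let W : E.Opens := W₀ ⊓ f ⁻¹ᵁ V
  have hWV : W ≤ f ⁻¹ᵁ V := inf_le_right
  have hVW : V ≤ σ ⁻¹ᵁ W := fun y hy => ⟨hVle hy, show f.base (σ.base y) ∈ V from (hσf y).symm ▸ hy⟩
  refine ⟨W, hVW hsV, ?_⟩
  let g : (W : Scheme.{u}) ⟶ V := f.resLE V W hWV
  let t : (V : Scheme.{u}) ⟶ W := σ.resLE W V hVW
  have hgι : g ≫ V.ι = W.ι ≫ f := Scheme.Hom.resLE_comp_ι _ _
  have htι : t ≫ W.ι = V.ι ≫ σ := Scheme.Hom.resLE_comp_ι _ _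
  have htg : t ≫ g = 𝟙 _ := by
    rw [← cancel_mono V.ι, Category.assoc, hgι, ← Category.assoc, htι, Category.assoc, hσ, Category.comp_id, Category.id_comp]
  let D : W.toScheme.Opens := W.ι ⁻¹ᵁ (f ⁻¹ᵁ U)
  have hD : CInt.IsSchematicallyDense D := by
    intro T a b hab
    have he : W.ι ''ᵁ T ⊓ f ⁻¹ᵁ U = W.ι ''ᵁ (T ⊓ D) := by
      ext y
      constructor
      · rintro ⟨⟨z, hz, rfl⟩, hy⟩
        exact ⟨z, ⟨hz, hy⟩, rfl⟩
      · rintro ⟨z, ⟨hz, hy⟩, rfl⟩
        exact ⟨⟨z, hz, rfl⟩, hy⟩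
    refine hdense (W.ι ''ᵁ T) ?_
    rw [Scheme.Opens.toScheme_presheaf_map] at hab
    have h1 := congrArg (E.presheaf.map (eqToHom he).op) hab
    erw [← ConcreteCategory.comp_apply, ← ConcreteCategory.comp_apply, ← Functor.map_comp] at h1
    exact h1
  have hW₀sep : IsSeparated (Limits.terminal.from (W₀ : Scheme.{u})) := by
    have : IsAffine (W₀ : Scheme.{u}) := hW₀
    infer_instance
  have hWle : W ≤ W₀ := inf_le_left
  have hgt : g ≫ t = 𝟙 _ := by
    rw [← cancel_mono (E.homOfLE hWle)]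
    refine GrpSch58.eq_of_ι_comp_eq D hD (Limits.terminal.from _) _ _ (Limits.terminal.hom_ext _ _) ?_
    rw [← cancel_mono W₀.ι]
    simp only [Category.assoc, Category.id_comp, Scheme.homOfLE_ι]
    rw [htι, ← Category.assoc g, hgι, Category.assoc]
    have hDle : D ≤ W.ι ⁻¹ᵁ (f ⁻¹ᵁ U) := le_rfl
    let r : (D : Scheme.{u}) ⟶ (f ⁻¹ᵁ U : E.Opens) := W.ι.resLE (f ⁻¹ᵁ U) D hDle
    have hr : r ≫ (f ⁻¹ᵁ U).ι = D.ι ≫ W.ι := Scheme.Hom.resLE_comp_ι _ _
    have hσU : U ≤ σ ⁻¹ᵁ (f ⁻¹ᵁ U) := fun y hy => show f.base (σ.base y) ∈ U from (hσf y).symm ▸ hy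
    let u : (U : Scheme.{u}) ⟶ (f ⁻¹ᵁ U : E.Opens) := σ.resLE (f ⁻¹ᵁ U) U hσU
    have hu : u ≫ (f ⁻¹ᵁ U).ι = U.ι ≫ σ := Scheme.Hom.resLE_comp_ι _ _
    have hfu : (f ∣_ U) ≫ u = 𝟙 _ := by
      have : u ≫ (f ∣_ U) = 𝟙 _ := by
        rw [← cancel_mono U.ι, Category.assoc, morphismRestrict_ι, ← Category.assoc, hu, Category.assoc, hσ, Category.comp_id, Category.id_comp]
      rw [← cancel_mono (f ∣_ U), Category.assoc, this, Category.comp_id, Category.id_comp]
    have key : (f ⁻¹ᵁ U).ι ≫ f ≫ σ = (f ⁻¹ᵁ U).ι := by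
      rw [← morphismRestrict_ι_assoc, ← hu, ← Category.assoc, hfu, Category.id_comp]
    calc D.ι ≫ W.ι ≫ f ≫ σ = r ≫ (f ⁻¹ᵁ U).ι ≫ f ≫ σ := by rw [← Category.assoc r, hr, Category.assoc]
      _ = D.ι ≫ W.ι := by rw [key, hr]
  have : IsIso g := ⟨⟨t, hgt, htg⟩⟩
  rw [← hgι]
  infer_instance

end Groth.Agent.S17727
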