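import Groth.Statements.S17729
import Groth.Agent.H98Node.Thick729
import Mathlib

set_option autoImplicit false
set_option maxHeartbeats 400000
set_option backward.isDefEq.respectTransparency.types false
universe u
open DualGr

namespace Groth.Agent.S17729

open CategoryTheory AlgebraicGeometry IsLocalRing in
lemma zeroDivisor_prime_mem {R : Type u} [CommRing R] (U : (Spec (CommRingCat.of R)).Opens)
    (hU : CInt.IsSchematicallyDense U) (p : Ideal R) [p.IsPrime] (b : R) (hb : b ≠ 0)
    (hpb : ∀ r ∈ p, r * b = 0) : (⟨p, inferInstance⟩ : PrimeSpectrum R) ∈ U := by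
  by_contra hp
  let β := (Scheme.ΓSpecIso (CommRingCat.of R)).inv.hom
  have hinj : Function.Injective β :=
    (Scheme.ΓSpecIso (CommRingCat.of R)).commRingCatIsoToRingEquiv.symm.injective
  apply hb
  apply hinj
  rw [map_zero]
  apply hU ⊤
  rw [map_zero]
  refine TopCat.Presheaf.section_ext (Spec (CommRingCat.of R)).sheaf _ _ _ fun u hu => ?_
  obtain ⟨s, hsp, hsu⟩ : ∃ s ∈ p, s ∉ u.asIdeal := SetLike.not_le_iff_exists.mp fun hle =>
    hp (((PrimeSpectrum.le_iff_specializes (⟨p, inferInstance⟩ : PrimeSpectrum R) u).mp hle).mem_open U.2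
      (show u ∈ U from hu.2))
  have hsunit : IsUnit ((Spec (CommRingCat.of R)).presheaf.germ ⊤ u trivial (β s)) := by
    refine (Scheme.mem_basicOpen (Spec (CommRingCat.of R)) (β s) u trivial).mp ?_
    rw [basicOpen_eq_of_affine]
    exact hsu
  refine ((Spec (CommRingCat.of R)).presheaf.germ_res_apply _ u hu (β b)).trans ?_
  refine Eq.trans ?_ (map_zero ((Spec (CommRingCat.of R)).presheaf.germ _ u hu).hom).symm
  refine (hsunit.mul_right_eq_zero).mp ?_
  rw [← map_mul, ← map_mul, hpb s hsp, map_zero, map_zero]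

open CategoryTheory AlgebraicGeometry IsLocalRing in
/-- Let R be a complete Noetherian local ring and C → Spec R a morphism locally of finite type, smooth
over a schematically dense open subscheme U of Spec R. Let c be a point of C over the closed point
whose local ring is formally a node of thickness (a) over R for an element a of R: the completion of
the local ring at c is isomorphic, compatibly with R, to R̂[[x,y]]/(xy − a). Then a is a
non-zero-divisor in R. (The published statement is for a semistable curve over a locally Noetherian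
base and a non-smooth point over a separably closed field, with the node presentation supplied by
the local structure of such curves; it is stated here over the spectrum of a complete Noetherian
local ring with the node presentation as a hypothesis, the case to which the argument reduces, and
semistability plays no further role.) -/
theorem result
    (R : Type u) [CommRing R] [IsNoetherianRing R] [IsLocalRing R]
    [IsAdicComplete (maximalIdeal R) R]
    {C : Scheme.{u}} (f : C ⟶ Spec (CommRingCat.of R)) [LocallyOfFiniteType f]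
    (U : (Spec (CommRingCat.of R)).Opens) (hU : CInt.IsSchematicallyDense U)
    (hsm : Smooth (morphismRestrict f U))
    (c : C) (hc : f.base c = closedPoint R) (a : R)
    (hnode : DualGr.IsThickNode (DualGr.stalkHom f c) a) :
    a ∈ nonZeroDivisors R := by
  by_contra ha
  obtain ⟨p, hp, hap⟩ := Set.mem_iUnion₂.mp
    ((biUnion_associatedPrimes_eq_compl_nonZeroDivisors R).ge (show a ∈ (nonZeroDivisors R : Set R)ᶜ from ha))
  obtain ⟨hpp, b, hpb⟩ := (isAssociatedPrime_iff (R := R) (M := R)).mp hp
  have hb0 : b ≠ 0 := by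
    rintro rfl
    exact hpp.ne_top (hpb.trans (Ideal.eq_top_iff_one _ |>.mpr (by simp [Submodule.mem_colon_singleton])))
  have hpU : (⟨p, hpp⟩ : PrimeSpectrum R) ∈ U := by
    refine zeroDivisor_prime_mem U hU p b hb0 fun r hr => ?_
    rw [hpb, Submodule.mem_colon_singleton, Submodule.mem_bot] at hr
    exact hr
  obtain ⟨_, ⟨V, hV, rfl⟩, hcV, -⟩ :=
    C.isBasis_affineOpens.exists_subset_of_mem_open (Set.mem_univ c) isOpen_univ
  let β : R →+* Γ(Spec (CommRingCat.of R), ⊤) := (Scheme.ΓSpecIso (CommRingCat.of R)).inv.hom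
  let γ : Γ(Spec (CommRingCat.of R), ⊤) →+* Γ(C, V) := (f.appLE ⊤ V le_top).hom
  letI algRS : Algebra R Γ(C, V) := (γ.comp β).toAlgebra
  letI : Algebra R (C.presheaf.stalk c) := (DualGr.stalkHom f c).toAlgebra
  letI : Algebra Γ(C, V) (C.presheaf.stalk c) := (C.presheaf.germ V c hcV).hom.toAlgebra
  haveI : IsScalarTower R Γ(C, V) (C.presheaf.stalk c) := IsScalarTower.of_algebraMap_eq fun r => by
    simp only [RingHom.algebraMap_toAlgebra, DualGr.stalkHom, Coh.toGlobal, RingHom.comp_apply, γ, β,
      Scheme.Hom.appLE, CommRingCat.comp_apply, CommRingCat.hom_comp]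
    rw [TopCat.Presheaf.germ_res_apply]
    rfl
  haveI := hV.isLocalization_stalk ⟨c, hcV⟩
  have hft : Algebra.FiniteType R Γ(C, V) := by
    refine RingHom.FiniteType.comp (g := γ) (f := β) (f.finiteType_appLE (isAffineOpen_top _) hV le_top) ?_
    exact RingHom.FiniteType.of_surjective _
      (Scheme.ΓSpecIso (CommRingCat.of R)).commRingCatIsoToRingEquiv.symm.surjective
  haveI : IsNoetherianRing Γ(C, V) := Algebra.FiniteType.isNoetherianRing R _
  haveI : IsNoetherianRing (C.presheaf.stalk c) :=
    IsLocalization.isNoetherianRing (hV.primeIdealOf ⟨c, hcV⟩).asIdeal.primeCompl _ inferInstance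
  obtain ⟨e, he⟩ := hnode
  refine H98Node.Thick729.core R (C.presheaf.stalk c) Γ(C, V) a p hap e he
    (hV.primeIdealOf ⟨c, hcV⟩).asIdeal fun q hq hqp => ?_
  haveI : Algebra.FinitePresentation R Γ(C, V) := Algebra.FinitePresentation.of_finiteType.mp hft
  haveI := hq
  let y : C := hV.fromSpec ⟨q, hq⟩
  have hyV : y ∈ V := by
    have : y ∈ Set.range hV.fromSpec := ⟨_, rfl⟩
    rwa [hV.range_fromSpec] at this
  have hprime : hV.primeIdealOf ⟨y, hyV⟩ = ⟨q, hq⟩ := by
    apply hV.fromSpec.isOpenEmbedding.injective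
    rw [hV.fromSpec_primeIdealOf]
  have hfy : f.base y = (⟨p, hpp⟩ : PrimeSpectrum R) := by
    apply PrimeSpectrum.ext
    ext r
    rw [← not_iff_not]
    have h1 : r ∉ (f.base y).asIdeal ↔ y ∈ f ⁻¹ᵁ (Spec (CommRingCat.of R)).basicOpen (β r) := by
      rw [basicOpen_eq_of_affine]
      rfl
    have h2 : y ∈ f ⁻¹ᵁ (Spec (CommRingCat.of R)).basicOpen (β r) ↔
        y ∈ C.basicOpen (γ (β r)) := by
      simp only [γ, Scheme.Hom.appLE, CommRingCat.comp_apply, CommRingCat.hom_comp, RingHom.comp_apply]
      rw [Scheme.basicOpen_res, Scheme.preimage_basicOpen]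
      exact ⟨fun h => ⟨hyV, h⟩, fun h => h.2⟩
    have h3 : y ∈ C.basicOpen (γ (β r)) ↔ γ (β r) ∉ q := by
      change (⟨q, hq⟩ : PrimeSpectrum Γ(C, V)) ∈ hV.fromSpec ⁻¹ᵁ C.basicOpen (γ (β r)) ↔ _
      rw [hV.fromSpec_preimage_basicOpen]
      rfl
    rw [h1, h2, h3]
    exact not_congr ⟨fun h => hqp ▸ h, fun h => (hqp.symm ▸ h : r ∈ q.comap (algebraMap R Γ(C, V)))⟩
  haveI : LocallyOfFinitePresentation f := by
    have : IsLocallyNoetherian (Spec (CommRingCat.of R)) := inferInstance
    infer_instance
  have hyU : y ∈ f ⁻¹ᵁ U := by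
    change f.base y ∈ U
    rw [hfy]
    exact hpU
  have hstalk : (f.stalkMap y).hom.FormallySmooth := by
    have h : ((f ∣_ U).stalkMap ⟨y, hyU⟩).hom.FormallySmooth :=
      Scheme.Hom.mem_smoothLocus.mp ((Scheme.Hom.smoothLocus_eq_top (f ∣_ U)).ge (Set.mem_univ _))
    exact (RingHom.FormallySmooth.respectsIso.arrow_mk_iso_iff (morphismRestrictStalkMap f U ⟨y, hyU⟩)).mp h
  have hloc := (formallySmooth_stalkMap_iff ⊤ (isAffineOpen_top _) V hV le_top hyV).mp hstalk
  rw [hprime] at hloc
  letI : Algebra R Γ(Spec (CommRingCat.of R), ⊤) := β.toAlgebra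
  letI : Algebra Γ(Spec (CommRingCat.of R), ⊤) Γ(C, V) := γ.toAlgebra
  haveI : IsScalarTower R Γ(Spec (CommRingCat.of R), ⊤) Γ(C, V) := IsScalarTower.of_algebraMap_eq fun r => rfl
  have hloc' : Algebra.IsSmoothAt Γ(Spec (CommRingCat.of R), ⊤) q := hloc
  haveI : Algebra.FormallySmooth R Γ(Spec (CommRingCat.of R), ⊤) :=
    Algebra.FormallySmooth.of_equiv (AlgEquiv.ofRingEquiv
      (f := (Scheme.ΓSpecIso (CommRingCat.of R)).commRingCatIsoToRingEquiv.symm) fun r => rfl)
  haveI : Algebra.IsSmoothAt R q :=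
    Algebra.FormallySmooth.comp R Γ(Spec (CommRingCat.of R), ⊤) (Localization.AtPrime q)
  exact Algebra.IsSmoothAt.exists_notMem_smooth R q

end Groth.Agent.S17729
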