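import Groth.Statements.S17730
import Groth.Agent.Hens22.ShQuot
import Groth.Agent.Henz21.FaithfullyFlat
import Groth.Agent.Henz21.SmoothUnibranch

set_option autoImplicit false
universe u
open Hensel

namespace Groth.Agent.S17730

open IsLocalRing in
/-- Let R be a Noetherian local ring which is strictly henselian (henselian with separably closed
residue field), Δ a prime element of R, R' a smooth R-algebra, q a prime ideal of R' containing the
image of the maximal ideal of R, and T a strict henselization of the localization R'_q. Then the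
image of Δ in T is a prime element of T. (This is the published statement, that a prime element of
the étale local ring of the base at a geometric point remains prime in the étale local ring of a
smooth scheme over it at a geometric point above, written for the base the spectrum of R; the
published hypothesis that the base be smooth-factorial, meaning that all its smooth schemes are
locally factorial, is not used by the argument and is omitted; R is taken Noetherian, which the
published statement does not state and the argument requires.) -/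
theorem result
    (R R' T : Type u) [CommRing R] [IsNoetherianRing R] [HenselianLocalRing R]
    [IsSepClosed (ResidueField R)]
    [CommRing R'] [Algebra R R'] [Algebra.Smooth R R']
    (q : Ideal R') [q.IsPrime] (hq : (maximalIdeal R).map (algebraMap R R') ≤ q)
    [CommRing T] [IsLocalRing T] [Algebra (Localization.AtPrime q) T]
    [IsLocalHom (algebraMap (Localization.AtPrime q) T)]
    [Hensel.IsStrictHenselization (Localization.AtPrime q) T]
    (Δ : R) (hΔ : Prime Δ) :
    Prime (algebraMap (Localization.AtPrime q) T
      (algebraMap R' (Localization.AtPrime q) (algebraMap R R' Δ))) := by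
  classical
  let I : Ideal R := Ideal.span {Δ}
  have hImax : I ≤ IsLocalRing.maximalIdeal R := (Ideal.span_singleton_le_iff_mem _).2 hΔ.not_unit
  haveI : I.IsPrime := (Ideal.span_singleton_prime hΔ.ne_zero).2 hΔ
  haveI : IsLocalRing (R ⧸ I) := IsLocalRing.of_surjective' (Ideal.Quotient.mk I) Ideal.Quotient.mk_surjective
  haveI : HenselianLocalRing (R ⧸ I) :=
    Groth.Agent.Henz21.henselianLocalRing_of_surjective (Ideal.Quotient.mk I) Ideal.Quotient.mk_surjective
  haveI hloc : IsLocalHom (Ideal.Quotient.mk I) := Brnch26.isLocalHom_surj (Ideal.Quotient.mk I) Ideal.Quotient.mk_surjective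
  haveI : IsSepClosed (IsLocalRing.ResidueField (R ⧸ I)) := by
    let e : IsLocalRing.ResidueField R ≃+* IsLocalRing.ResidueField (R ⧸ I) :=
      RingEquiv.ofBijective (IsLocalRing.ResidueField.map (Ideal.Quotient.mk I))
        ⟨(IsLocalRing.ResidueField.map (Ideal.Quotient.mk I)).injective, fun y => by
          obtain ⟨y, rfl⟩ := IsLocalRing.residue_surjective y
          obtain ⟨a, rfl⟩ := Ideal.Quotient.mk_surjective y
          exact ⟨IsLocalRing.residue R a, rfl⟩⟩
    refine IsSepClosed.of_exists_root _ fun f hf hirr hsep => ?_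
    obtain ⟨x, hx⟩ := IsSepClosed.exists_root (f.map e.symm.toRingHom)
      (by rw [Polynomial.degree_map]; exact (Polynomial.degree_pos_of_irreducible hirr).ne') hsep.map
    refine ⟨e x, e.symm.injective ?_⟩
    rw [map_zero]
    refine Eq.trans ?_ hx
    show e.symm.toRingHom (f.eval (e x)) = _
    rw [← Polynomial.eval_map_apply]
    exact congrArg (fun y => Polynomial.eval y (f.map e.symm.toRingHom)) (e.symm_apply_apply x)
  let π' : R' →+* TensorProduct R (R ⧸ I) R' :=
    (Algebra.TensorProduct.includeRight : R' →ₐ[R] TensorProduct R (R ⧸ I) R').toRingHom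
  have hπ' : Function.Surjective π' := Algebra.TensorProduct.includeRight_surjective R' (S := R ⧸ I)
    Ideal.Quotient.mk_surjective
  have hker' : RingHom.ker π' = I.map (algebraMap R R') := by
    ext z
    let e := TensorProduct.quotTensorEquivQuotSMul R' I
    show (1 : R ⧸ I) ⊗ₜ[R] z = 0 ↔ _
    rw [← e.map_eq_zero_iff, show (1 : R ⧸ I) = Ideal.Quotient.mk I 1 from rfl,
      TensorProduct.quotTensorEquivQuotSMul_mk_tmul, one_smul, Submodule.Quotient.mk_eq_zero,
      Ideal.smul_top_eq_map, Submodule.restrictScalars_mem]
  have hkq : RingHom.ker π' ≤ q := hker'.le.trans ((Ideal.map_mono hImax).trans hq)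
  let q' : Ideal (TensorProduct R (R ⧸ I) R') := q.map π'
  haveI hq'p : q'.IsPrime := Ideal.map_isPrime_of_surjective hπ' hkq
  have hcomap : q'.comap π' = q := by
    rw [Ideal.comap_map_of_surjective π' hπ', sup_eq_left]
    exact (RingHom.ker_eq_comap_bot π').symm.le.trans hkq
  let π : Localization.AtPrime q →+* Localization.AtPrime q' := Localization.localRingHom q q' π' hcomap.symm
  have hπval : ∀ (a : R') (s : q.primeCompl), π (IsLocalization.mk' _ a s) =
      IsLocalization.mk' _ (π' a) (⟨π' s.1, fun h => s.2 (hcomap.le (Ideal.mem_comap.2 h))⟩ : q'.primeCompl) :=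
    fun a s => Localization.localRingHom_mk' q q' π' hcomap.symm a s
  have hπ : Function.Surjective π := fun y => by
    obtain ⟨b, ⟨c, hc⟩, rfl⟩ := IsLocalization.exists_mk'_eq q'.primeCompl y
    obtain ⟨a, rfl⟩ := hπ' b
    obtain ⟨s, rfl⟩ := hπ' c
    exact ⟨IsLocalization.mk' _ a (⟨s, fun h => hc (Ideal.mem_map_of_mem π' h)⟩ : q.primeCompl), hπval _ _⟩
  let d : Localization.AtPrime q := algebraMap R' _ (algebraMap R R' Δ)
  have hkerπ : RingHom.ker π = Ideal.span {d} := by
    refine le_antisymm (fun z hz => ?_) ((Ideal.span_singleton_le_iff_mem _).2 ?_)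
    · obtain ⟨a, s, rfl⟩ := IsLocalization.exists_mk'_eq q.primeCompl z
      rw [RingHom.mem_ker, hπval, IsLocalization.mk'_eq_zero_iff] at hz
      obtain ⟨⟨c, hc⟩, hca⟩ := hz
      obtain ⟨t, rfl⟩ := hπ' c
      have h1 : t * a ∈ RingHom.ker π' := by rw [RingHom.mem_ker, map_mul]; exact hca
      rw [hker', Ideal.map_span, Set.image_singleton, Ideal.mem_span_singleton'] at h1
      obtain ⟨r, hr⟩ := h1
      refine Ideal.mem_span_singleton'.2
        ⟨IsLocalization.mk' _ r ((⟨t, fun h => hc (Ideal.mem_map_of_mem π' h)⟩ : q.primeCompl) * s), ?_⟩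
      rw [mul_comm, IsLocalization.mul_mk'_eq_mk'_of_mul, IsLocalization.mk'_eq_iff_eq]
      congr 1
      push_cast
      linear_combination (s : R') * hr
    · rw [RingHom.mem_ker]
      show π (algebraMap R' _ _) = 0
      rw [Localization.localRingHom_to_map]
      have : π' (algebraMap R R' Δ) = 0 := by
        rw [← RingHom.mem_ker, hker']
        exact Ideal.mem_map_of_mem _ (Ideal.mem_span_singleton_self Δ)
      rw [this, map_zero]
  have hle : (IsLocalRing.maximalIdeal (R ⧸ I)).map (algebraMap (R ⧸ I) (TensorProduct R (R ⧸ I) R')) ≤ q' := by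
    refine Ideal.map_le_iff_le_comap.2 fun x hx => ?_
    obtain ⟨r, rfl⟩ := Ideal.Quotient.mk_surjective x
    rw [Ideal.mem_comap]
    have e : algebraMap (R ⧸ I) (TensorProduct R (R ⧸ I) R') (Ideal.Quotient.mk I r) = π' (algebraMap R R' r) :=
      ((Algebra.TensorProduct.includeRight : R' →ₐ[R] TensorProduct R (R ⧸ I) R').commutes r).symm
    rw [e]
    exact Ideal.mem_map_of_mem π' (hq (Ideal.mem_map_of_mem _
      ((IsLocalRing.mem_maximalIdeal _).2 fun h => (IsLocalRing.mem_maximalIdeal _).1 hx (h.map _))))
  obtain ⟨hdom, hgu⟩ := Henz21.SmoothUnib.main (R ⧸ I) (TensorProduct R (R ⧸ I) R') q' hle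
  have hprime := Hens22.isPrime_map_ker_of_geomUnibranch π hπ (S := T) ⟨inferInstance, hgu⟩
  rw [hkerπ, Ideal.map_span, Set.image_singleton] at hprime
  refine (Ideal.span_singleton_prime ?_).1 hprime
  intro h0
  haveI : Module.FaithfullyFlat (Localization.AtPrime q) T := Henz21.strictHenselization_faithfullyFlat T
  have hd : d = 0 := (FaithfulSMul.algebraMap_eq_zero_iff (Localization.AtPrime q) T).1 h0
  haveI : IsLocalHom (algebraMap R (Localization.AtPrime q)) := ⟨fun x hx => by
    by_contra hx'
    rw [IsScalarTower.algebraMap_apply R R' (Localization.AtPrime q)] at hx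
    exact (IsLocalization.AtPrime.to_map_mem_maximal_iff (Localization.AtPrime q) q _).mpr
      (hq (Ideal.mem_map_of_mem _ ((IsLocalRing.mem_maximalIdeal x).mpr hx'))) hx⟩
  haveI : Module.Flat R (Localization.AtPrime q) := Module.Flat.trans R R' _
  haveI : Module.FaithfullyFlat R (Localization.AtPrime q) := Module.FaithfullyFlat.of_flat_of_isLocalHom
  exact hΔ.ne_zero ((FaithfulSMul.algebraMap_eq_zero_iff R (Localization.AtPrime q)).1
    ((IsScalarTower.algebraMap_apply R R' (Localization.AtPrime q) Δ).trans hd))

end Groth.Agent.S17730
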