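import Groth.Statements.S17735
import Groth.Agent.CAlg9.Node.Fibral
import Groth.Agent.CAlg1.Regular

set_option autoImplicit false
universe u
open CAlg

namespace Groth.Agent.S17735

set_option maxHeartbeats 1000000


open IsLocalRing in
/-- Let R be a regular local ring complete for its maximal ideal, r a non-zero element of R, A the
quotient of the power series ring in x, y over R by xy − r, B the quotient of the polynomial ring in
x, y over R by xy − r, ι : B → A the natural map, P the ideal of B generated by x, y and the maximal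
ideal of R, à the localization of B at P and φ : à → A the map extending ι. Call a prime of height
one of A (or of Ã) fibral when it contains a non-zero element of R. Then contraction along φ is a
bijection from the set of fibral height-one primes of A onto the set of fibral height-one primes of
Ã; equivalently it induces an isomorphism between the free abelian groups of fibral Weil divisors. -/
theorem result
    (R : Type u) [CommRing R] [IsRegularLocalRing R]
    [IsAdicComplete (maximalIdeal R) R]
    (r : R) (hr : r ≠ 0)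
    (ι : (MvPolynomial (Fin 2) R ⧸ Ideal.span {(MvPolynomial.X 0 * MvPolynomial.X 1 - MvPolynomial.C r : MvPolynomial (Fin 2) R)}) →+*
      (MvPowerSeries (Fin 2) R ⧸ Ideal.span {(MvPowerSeries.X 0 * MvPowerSeries.X 1 - MvPowerSeries.C r : MvPowerSeries (Fin 2) R)}))
    (hι : ι.comp (Ideal.Quotient.mk _) =
      (Ideal.Quotient.mk _).comp (MvPolynomial.coeToMvPowerSeries.ringHom : MvPolynomial (Fin 2) R →+* MvPowerSeries (Fin 2) R))
    (P : Ideal (MvPolynomial (Fin 2) R ⧸ Ideal.span {(MvPolynomial.X 0 * MvPolynomial.X 1 - MvPolynomial.C r : MvPolynomial (Fin 2) R)})) [P.IsPrime]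
    (hP : P = Ideal.span {Ideal.Quotient.mk _ (MvPolynomial.X 0), Ideal.Quotient.mk _ (MvPolynomial.X 1)} ⊔
      (maximalIdeal R).map (algebraMap R _))
    (φ : Localization.AtPrime P →+* (MvPowerSeries (Fin 2) R ⧸ Ideal.span {(MvPowerSeries.X 0 * MvPowerSeries.X 1 - MvPowerSeries.C r : MvPowerSeries (Fin 2) R)}))
    (hφ : φ.comp (algebraMap _ (Localization.AtPrime P)) = ι) :
    Set.BijOn (fun 𝔓 => Ideal.comap φ 𝔓)
      {𝔓 | 𝔓.IsPrime ∧ 𝔓.height = 1 ∧ Ideal.comap (algebraMap R _) 𝔓 ≠ ⊥}
      {𝔮 : Ideal (Localization.AtPrime P) | 𝔮.IsPrime ∧ @Ideal.height (Localization.AtPrime P) _ 𝔮 = 1 ∧ Ideal.comap (algebraMap R (Localization.AtPrime P)) 𝔮 ≠ ⊥} := by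
  have := CAlg1.isDomain_regular R
  have hxy : ∀ i, Ideal.Quotient.mk _ (MvPolynomial.X i) ∈ P := fun i => by
    rw [hP]
    refine Ideal.mem_sup_left (Ideal.subset_span ?_)
    fin_cases i <;> simp
  have hrm : r ∈ IsLocalRing.maximalIdeal R := by
    by_contra hru
    rw [IsLocalRing.mem_maximalIdeal, mem_nonunits_iff, not_not] at hru
    refine (inferInstance : P.IsPrime).ne_top (Ideal.eq_top_of_isUnit_mem P
      (P.mul_mem_right (Ideal.Quotient.mk _ (MvPolynomial.X 1)) (hxy 0)) ?_)
    rw [← map_mul, Ideal.Quotient.eq.2 (Ideal.mem_span_singleton_self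
      (MvPolynomial.X 0 * MvPolynomial.X 1 - MvPolynomial.C r : MvPolynomial (Fin 2) R))]
    exact (hru.map MvPolynomial.C).map _
  have := CAlg9.Node.isDomain_node r hrm hr
  have : IsLocalRing (MvPowerSeries (Fin 2) R ⧸ Ideal.span {(MvPowerSeries.X 0 * MvPowerSeries.X 1 - MvPowerSeries.C r : MvPowerSeries (Fin 2) R)}) :=
    IsLocalRing.of_surjective' _ Ideal.Quotient.mk_surjective
  have hιmk : ∀ f, ι (Ideal.Quotient.mk _ f) = Ideal.Quotient.mk _ (f : MvPowerSeries (Fin 2) R) :=
    fun f => RingHom.congr_fun hι f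
  have hC : ∀ c, ι (algebraMap R _ c) = Ideal.Quotient.mk _ (MvPowerSeries.C c) := fun c => by
    rw [← Ideal.Quotient.mk_algebraMap, hιmk, MvPolynomial.algebraMap_eq, MvPolynomial.coe_C]
  have hR : φ.comp (algebraMap R (Localization.AtPrime P)) = algebraMap R _ := by
    ext c
    exact (RingHom.congr_fun hφ (algebraMap R _ c)).trans (hC c)
  have h0 : ι (Ideal.Quotient.mk _ (MvPolynomial.X 0)) = Ideal.Quotient.mk _ (MvPowerSeries.X 0) := by
    rw [hιmk, MvPolynomial.coe_X]
  have h1 : ι (Ideal.Quotient.mk _ (MvPolynomial.X 1)) = Ideal.Quotient.mk _ (MvPowerSeries.X 1) := by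
    rw [hιmk, MvPolynomial.coe_X]
  have : IsLocalHom φ := CAlg9.Node.isLocalHom_of_localization (S := Localization.AtPrime P) P φ ι hφ
    (hP ▸ CAlg9.Node.map_le_maximalIdeal_node r ι _ _ h0 h1 hC)
  refine CAlg9.Node.node_bijOn r hr hrm (Localization.AtPrime P) φ
    (CAlg9.Node.flat_node r (S := Localization.AtPrime P) P.primeCompl ι hι φ hφ) hR
    (fun i => algebraMap _ (Localization.AtPrime P) (Ideal.Quotient.mk
      (Ideal.span {(MvPolynomial.X 0 * MvPolynomial.X 1 - MvPolynomial.C r : MvPolynomial (Fin 2) R)}) (MvPolynomial.X i))) fun i => ?_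
  exact (RingHom.congr_fun hφ _).trans (by rw [hιmk, MvPolynomial.coe_X])

end Groth.Agent.S17735
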