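import Groth.Statements.S17737
import Groth.Agent.H98Node.Thickness

set_option autoImplicit false
universe u
open DualGr

set_option maxHeartbeats 400000

namespace Groth.Agent.S17737

open IsLocalRing in
/-- Let R be a Noetherian local ring, A a local ring with a ring map φ : R → A, and a, b two elements of
the maximal ideal of R such that A is formally a node over R both of thickness (a) and of thickness
(b): the completion of A is isomorphic, compatibly with R, to R̂[[x,y]]/(xy − a) and also to
R̂[[x,y]]/(xy − b). Then aR = bR. (This is the uniqueness assertion: the element in a node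
presentation is not unique but the principal ideal it generates is; it is stated for presentations
with the element taken in R, whose ideal in R is then determined.) -/
theorem result
    (R A : Type u) [CommRing R] [IsLocalRing R] [IsNoetherianRing R] [CommRing A] [IsLocalRing A]
    (φ : R →+* A) (a b : R) (ha : a ∈ maximalIdeal R) (hb : b ∈ maximalIdeal R)
    (h₁ : DualGr.IsThickNode φ a) (h₂ : DualGr.IsThickNode φ b) :
    Ideal.span {a} = Ideal.span {b} := by
  have key : ∀ {a b : R}, b ∈ maximalIdeal R → DualGr.IsThickNode φ a → DualGr.IsThickNode φ b →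
      a ∈ Ideal.span {b} := by
    rintro a b hb ⟨e₁, he₁⟩ ⟨e₂, he₂⟩
    let ι := algebraMap R (Curv2.cpl R)
    have hι : maximalIdeal (Curv2.cpl R) = (maximalIdeal R).map ι := AdicCompletion.maximalIdeal_eq_map
    let E := e₁.symm.trans e₂
    let ψ := E.toRingHom.comp (Ideal.Quotient.mk _)
    refine H98Node.mem_span_of_dvd_completion hb (H98Node.dvd_of_hom ι hι.le hι.ge a
      (hι ▸ Ideal.mem_map_of_mem ι hb) rfl ψ (E.surjective.comp Ideal.Quotient.mk_surjective) (fun r => ?_) ?_)
    · show e₂ (e₁.symm (Ideal.Quotient.mk _ (MvPowerSeries.C (algebraMap R (Curv2.cpl R) r)))) = _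
      rw [← he₁, e₁.symm_apply_apply]
      exact he₂ r
    · show E (Ideal.Quotient.mk _ _) = 0
      rw [Ideal.Quotient.eq_zero_iff_mem.mpr, map_zero]
      exact Ideal.mem_span_singleton_self _
  exact le_antisymm ((Ideal.span_singleton_le_iff_mem _).mpr (key hb h₁ h₂))
    ((Ideal.span_singleton_le_iff_mem _).mpr (key ha h₂ h₁))

end Groth.Agent.S17737
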