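import Groth.Statements.S17750
import Groth.Agent.Murthy18.Basic

set_option autoImplicit false
universe u
open Goren

namespace Groth.Agent.S17750

/-- Let B be a regular local ring and p a prime ideal of B such that the integral domain B ⧸ p is a
unique factorization domain. If the local ring B ⧸ p is Cohen–Macaulay then it is Gorenstein, i.e.
has finite injective dimension as a module over itself. (For a unique factorization domain that is a
quotient of a regular local ring, Cohen–Macaulay and Gorenstein are equivalent; the converse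
implication holds for every Noetherian local ring.) -/
theorem result (B : Type u) [CommRing B] [IsRegularLocalRing B] (p : Ideal B) [p.IsPrime] [UniqueFactorizationMonoid (B ⧸ p)] [LocCoh.IsCohenMacaulayLocalRing (B ⧸ p)] : LocCoh.IsGorensteinLocalRing (B ⧸ p) := by
  have hg : Function.Surjective (Ideal.Quotient.mk p) := Ideal.Quotient.mk_surjective
  obtain ⟨n, hn⟩ := Groth.Agent.Gor18.gor_cm.exists_ringKrullDim_eq_nat (B ⧸ p)
  obtain ⟨R', _, _, g, hgs, hn'⟩ := Groth.Agent.LC16.CanonQuot.isGorQuot_of_regular (Ideal.Quotient.mk p) hg hn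
  letI : Algebra R' (B ⧸ p) := g.toAlgebra
  obtain ⟨E, _, _, φ, hφ⟩ := Groth.Agent.InjHull18.exists_hull (R := B ⧸ p) (IsLocalRing.ResidueField (B ⧸ p))
  obtain ⟨iM, hT, hfin⟩ := Groth.Agent.LC16.CanonExists.exists_module (R' := R') (R := B ⧸ p) hgs 0
  obtain ⟨eK⟩ := Groth.Agent.LC16.CanonExists.exists_dual (R' := R') (R := B ⧸ p) hgs hn' (zero_add n)
    (LinearEquiv.refl R' (Groth.Agent.LC16.CanonDual.EK (R := R') R' (B ⧸ p) 0)) hφ
  obtain ⟨e⟩ := Groth.Agent.Murthy18.nonempty_equiv_self hn hφ eK
  have h := Groth.Agent.LC16.CanonDual.injDimLT hn hφ eK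
  exact { exists_hasInjectiveDimensionLT :=
    ⟨n + 1, CategoryTheory.hasInjectiveDimensionLT_of_iso e.toModuleIso (n + 1)⟩ }

end Groth.Agent.S17750
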