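import Groth.Statements.S17754
import Mathlib.RingTheory.AdicCompletion.Noetherian
import Mathlib.RingTheory.LocalRing.Quotient
import Mathlib.RingTheory.HopkinsLevitzki
import Mathlib.RingTheory.Artinian.Ring

set_option autoImplicit false
universe u
open CAlg

namespace Groth.Agent.S17754

/-- Let R be a complete Noetherian local ring with maximal ideal m, and let I_0 ⊇ I_1 ⊇ I_2 ⊇ ⋯ be a
descending sequence of ideals of R whose intersection is zero. Then for every natural number n there
is an index s with I_s contained in m^n; that is, the filtration by the I_s is at least as fine as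
the m-adic one. -/
theorem result (R : Type u) [CommRing R] [IsNoetherianRing R] [IsLocalRing R] [IsAdicComplete (IsLocalRing.maximalIdeal R) R] (I : ℕ → Ideal R) (hI : Antitone I) (hinf : ⨅ s, I s = ⊥) (n : ℕ) : ∃ s : ℕ, I s ≤ IsLocalRing.maximalIdeal R ^ n := by
  set m := IsLocalRing.maximalIdeal R
  have hstab : ∀ k, ∃ s, ∀ t, s ≤ t → I t ⊔ m ^ k = I s ⊔ m ^ k := by
    intro k
    rcases Nat.eq_zero_or_pos k with rfl | hk
    · exact ⟨0, fun t _ => by simp⟩
    have hart : IsArtinianRing (R ⧸ m ^ k) := by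
      have := Ideal.Quotient.nontrivial_iff.mpr
        (ne_top_of_le_ne_top (IsLocalRing.maximalIdeal.isMaximal R).ne_top (Ideal.pow_le_self hk.ne'))
      have : IsLocalRing (R ⧸ m ^ k) :=
        IsLocalRing.of_surjective' (Ideal.Quotient.mk _) Ideal.Quotient.mk_surjective
      rw [isArtinianRing_iff_isNilpotent_maximalIdeal]
      refine ⟨k, ?_⟩
      rw [← IsLocalRing.map_maximalIdeal_of_surjective (Ideal.Quotient.mk (m ^ k))
        Ideal.Quotient.mk_surjective, ← Ideal.map_pow, Ideal.map_quotient_self]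
      rfl
    obtain ⟨s, hs⟩ := IsArtinian.monotone_stabilizes (R := R ⧸ m ^ k) (M := R ⧸ m ^ k)
      ⟨fun t => OrderDual.toDual ((I t).map (Ideal.Quotient.mk (m ^ k))),
        fun a b hab => Ideal.map_mono (hI hab)⟩
    refine ⟨s, fun t ht => ?_⟩
    have h : Ideal.comap (Ideal.Quotient.mk (m ^ k)) ((I s).map (Ideal.Quotient.mk (m ^ k))) =
        Ideal.comap (Ideal.Quotient.mk (m ^ k)) ((I t).map (Ideal.Quotient.mk (m ^ k))) :=
      congrArg (Ideal.comap (Ideal.Quotient.mk (m ^ k))) (hs t ht)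
    rw [Ideal.comap_map_quotientMk, Ideal.comap_map_quotientMk] at h
    rw [sup_comm, ← h, sup_comm]
  choose σ hσ using hstab
  by_contra hcon
  simp only [not_exists] at hcon
  obtain ⟨x₀, hx₀, hx₀n⟩ := SetLike.not_le_iff_exists.mp (hcon (σ n))
  let J : ℕ → Ideal R := fun k => I (σ k) ⊔ m ^ k
  have hJ : ∀ k t, J k ≤ I t ⊔ m ^ k := fun k t => by
    rcases le_total (σ k) t with h | h
    · exact (hσ k t h).ge
    · exact sup_le_sup_right (hI h) _
  have hlift : ∀ k, ∀ x ∈ J k, ∃ y ∈ J (k + 1), y - x ∈ m ^ k := by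
    intro k x hx
    obtain ⟨y, hy, z, hz, rfl⟩ := Submodule.mem_sup.mp (hJ k (σ (k + 1)) hx)
    refine ⟨y, Submodule.mem_sup_left hy, ?_⟩
    rw [sub_add_cancel_left]
    exact neg_mem hz
  choose next hnext hnext' using hlift
  let X : ∀ j, J (n + j) := fun j => Nat.rec ⟨x₀, Submodule.mem_sup_left hx₀⟩
    (fun i y => ⟨next (n + i) y.1 y.2, hnext (n + i) y.1 y.2⟩) j
  have hXc : ∀ {a b : ℕ}, a ≤ b → (X b).1 - (X a).1 ∈ m ^ (n + a) := by
    intro a b hab
    induction b, hab using Nat.le_induction with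
    | base => simp
    | succ b hb ih =>
      rw [← sub_add_sub_cancel _ (X b).1 _]
      exact add_mem (Ideal.pow_le_pow_right (by omega) (hnext' (n + b) (X b).1 (X b).2)) ih
  obtain ⟨L, hL⟩ := IsPrecomplete.prec (IsAdicComplete.toIsPrecomplete (I := m) (M := R))
    (f := fun k => (X (k - n)).1) (fun {a b} hab => by
      rw [SModEq.sub_mem, smul_eq_mul, Ideal.mul_top, ← neg_mem_iff, neg_sub]
      exact Ideal.pow_le_pow_right (by omega) (hXc (show a - n ≤ b - n by omega)))
  have hLX : ∀ k, L - (X (k - n)).1 ∈ m ^ k := fun k => by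
    have := SModEq.sub_mem.mp (hL k)
    rwa [smul_eq_mul, Ideal.mul_top, ← neg_mem_iff, neg_sub] at this
  have hLI : ∀ t, L ∈ I t := by
    intro t
    rw [← Submodule.Quotient.mk_eq_zero (I t)]
    refine IsHausdorff.haus (inferInstance : IsHausdorff m (R ⧸ I t)) _ fun k => ?_
    rw [SModEq.sub_mem, sub_zero]
    have h1 : (X k).1 ∈ I t ⊔ m ^ (n + k) := hJ (n + k) t (X k).2
    have h2 := hLX (n + k)
    rw [Nat.add_sub_cancel_left] at h2
    have h3 : L ∈ I t ⊔ m ^ (n + k) := by
      simpa using add_mem (Submodule.mem_sup_right h2) h1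
    obtain ⟨y, hy, z, hz, rfl⟩ := Submodule.mem_sup.mp h3
    rw [Submodule.Quotient.mk_add, (Submodule.Quotient.mk_eq_zero _).mpr hy, zero_add]
    have hz1 : z • (Submodule.Quotient.mk (1 : R) : R ⧸ I t) ∈ (m ^ k • ⊤ : Submodule R (R ⧸ I t)) :=
      Submodule.smul_mem_smul (Ideal.pow_le_pow_right (by omega) hz) trivial
    rwa [← Submodule.Quotient.mk_smul, smul_eq_mul, mul_one] at hz1
  have hL0 : L = 0 := by
    rw [← Ideal.mem_bot, ← hinf, Submodule.mem_iInf]
    exact hLI
  have := hLX n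
  rw [Nat.sub_self, hL0, zero_sub, neg_mem_iff] at this
  exact hx₀n this

end Groth.Agent.S17754
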