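import Groth.Statements.S17756
import Groth.Agent.InjHull18.Dual


set_option autoImplicit false
universe u
open Matlis

namespace Groth.Agent.S17756

/-- Let R be a Noetherian local ring with maximal ideal m and residue field k, E an injective hull of k,
and M a finitely generated R-module with Matlis dual M^v = Hom_R(M, E). Then the minimal number of
generators of M equals the k-dimension of the socle of M^v, the submodule of elements of M^v killed
by m (stated as its length as an R-module). -/
theorem result (R : Type u) [CommRing R] [IsNoetherianRing R] [IsLocalRing R] (E : Type u) [AddCommGroup E] [Module R E] (f : IsLocalRing.ResidueField R →ₗ[R] E) (hf : InjHull.IsInjectiveHull f) (M : Type u) [AddCommGroup M] [Module R M] [Module.Finite R M] : ((⊤ : Submodule R M).spanFinrank : ℕ∞) = Module.length R (LocCoh.torsionBy (IsLocalRing.maximalIdeal R) (M →ₗ[R] E)) := by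
  let m := IsLocalRing.maximalIdeal R
  let _ : Field (R ⧸ m) := Ideal.Quotient.field m
  let Φ : ((M ⧸ m • (⊤ : Submodule R M)) →ₗ[R] E) →ₗ[R] (M →ₗ[R] E) :=
    LinearMap.lcomp R E (m • (⊤ : Submodule R M)).mkQ
  have hΦ : Function.Injective Φ := fun a b h => Submodule.linearMap_qext _ h
  have hrange : LinearMap.range Φ = LocCoh.torsionBy m (M →ₗ[R] E) := by
    apply le_antisymm
    · rintro _ ⟨ψ, rfl⟩
      refine (Submodule.mem_torsionBySet_iff _ _).2 fun ⟨a, ha⟩ => LinearMap.ext fun x => ?_
      show a • ψ (Submodule.Quotient.mk x) = 0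
      rw [← map_smul, ← Submodule.Quotient.mk_smul,
        (Submodule.Quotient.mk_eq_zero _).2 (Submodule.smul_mem_smul ha Submodule.mem_top), map_zero]
    · intro φ hφ
      refine ⟨(m • (⊤ : Submodule R M)).liftQ φ (Submodule.smul_le.2 fun a ha x _ => ?_), rfl⟩
      have h1 := LinearMap.congr_fun ((Submodule.mem_torsionBySet_iff _ _).1 hφ ⟨a, ha⟩) x
      simpa using h1
  rw [IsLocalRing.spanFinrank_eq_finrank_quotient ⊤ Module.Finite.fg_top,
    ← ((LinearEquiv.ofInjective Φ hΦ).trans (LinearEquiv.ofEq _ _ hrange)).length_eq]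
  have hlen : Module.length R (M ⧸ m • (⊤ : Submodule R M)) =
      Module.finrank (R ⧸ m) (M ⧸ m • (⊤ : Submodule R M)) := by
    rw [Module.length_eq_of_surjective (S := R) (R := R ⧸ m) Ideal.Quotient.mk_surjective,
      Module.length_eq_rank, ← Module.finrank_eq_rank, map_natCast]
  have hfl : IsFiniteLength R (M ⧸ m • (⊤ : Submodule R M)) :=
    Module.length_ne_top_iff.1 (by rw [hlen]; exact ENat.natCast_ne_top _)
  rw [InjHull18.length_linearMap (m := m) (f := f) hf hfl
    (InjHull18.isPowerTorsion_of_isFiniteLength hfl), hlen, Nat.cast_inj]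
  exact LinearEquiv.finrank_eq
    ((Submodule.Quotient.equiv _ _ Submodule.topEquiv (by
      rw [Submodule.map_smul'', Submodule.map_top,
        LinearEquiv.range])).extendScalarsOfSurjective Ideal.Quotient.mk_surjective)

end Groth.Agent.S17756
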