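import Groth.Statements.S17760
import Groth.Agent.LC17.TopCofinite
import Groth.Agent.LC15.ExtCompare

set_option autoImplicit false
universe u
open CategoryTheory Opposite
open LocCoh

namespace Groth.Agent.S17760

/-- Let R be a Noetherian local ring, I an ideal of R and M a finitely generated R-module whose support
has dimension n. Then for every i ≥ 0 the R-module Ext^i_R(R ⧸ I, H^n_I(M)) has finite length; in
particular the top local cohomology module H^n_I(M) is I-cofinite. -/
theorem result (R : Type u) [CommRing R] [IsNoetherianRing R] [IsLocalRing R] (I : Ideal R) (M : Type u) [AddCommGroup M] [Module R M] [Module.Finite R M] (n : ℕ) (hn : Module.supportDim R M = n) (i : ℕ) : IsFiniteLength R (((Ext R (ModuleCat.{u} R) i).obj (op (ModuleCat.of R (R ⧸ I)))).obj (ModuleCat.of R (LocCoh.H I n M))) := by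
  have h := Groth.Agent.LC17.TopCofinite.isFiniteLength_EK I M hn i
  exact LinearEquiv.isFiniteLength
    ((Groth.Agent.LC15.extEquiv (ModuleCat.of R (R ⧸ I)) (ModuleCat.of R (LocCoh.H I n M)) i).symm) h

end Groth.Agent.S17760
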