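import Groth.Statements.S17761
import Groth.Agent.LC15.NonVanish
import Groth.Agent.LC15.Artin

set_option autoImplicit false
universe u
open LocCoh

namespace Groth.Agent.S17761

/-- Let R be a Noetherian local ring with maximal ideal m and M a finitely generated R-module whose
support has positive dimension n. Then the local cohomology module H^n_m(M) is not a finitely
generated R-module. -/
theorem result (R : Type u) [CommRing R] [IsNoetherianRing R] [IsLocalRing R] (M : Type u) [AddCommGroup M] [Module R M] [Module.Finite R M] (n : ℕ) (hn0 : 0 < n) (hn : Module.supportDim R M = n) : ¬ Module.Finite R (LocCoh.H (IsLocalRing.maximalIdeal R) n M) := by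
  intro hfin
  obtain ⟨s, hs⟩ := (Module.Finite.fg_top :
    (⊤ : Submodule R (LocCoh.H (IsLocalRing.maximalIdeal R) n M)).FG)
  choose k hk using Groth.Agent.LC15.isPowerTorsion_H (IsLocalRing.maximalIdeal R) n (M := M)
  haveI := Groth.Agent.LC15.nontrivial_H_supportDim n M hn
  refine not_subsingleton (LocCoh.H (IsLocalRing.maximalIdeal R) n M) ?_
  refine Groth.Agent.LC15.subsingleton_H_of_killed (IsLocalRing.maximalIdeal R) hn0
    (Groth.Agent.LC15.coheightLT_of_supportDim hn.le) (s.sup k) fun r hr y => ?_
  have hy : y ∈ Submodule.span R (s : Set _) := hs ▸ Submodule.mem_top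
  induction hy using Submodule.span_induction with
  | mem y hy => exact hk y r (Ideal.pow_le_pow_right (Finset.le_sup hy) hr)
  | zero => simp
  | add a b _ _ ha hb => rw [smul_add, ha, hb, add_zero]
  | smul c a _ ha => rw [smul_comm, ha, smul_zero]

end Groth.Agent.S17761
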