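import Groth.Statements.S17764
import Groth.Agent.InjHull18.Basic


set_option autoImplicit false
universe u
open InjHull

namespace Groth.Agent.S17764

/-- Let R be a commutative ring and M an R-module which is torsion-free (no nonzero element of R kills a
nonzero element of M) and divisible (multiplication by every nonzero element of R is surjective on
M). Then M is an injective R-module. (Over a ring with zero divisors the two hypotheses force M =
0.) -/
theorem result (R : Type u) [CommRing R] (M : Type u) [AddCommGroup M] [Module R M] [NoZeroSMulDivisors R M] (hdiv : ∀ r : R, r ≠ 0 → Function.Surjective (fun m : M => r • m)) : Module.Injective R M := by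
  refine Module.Baer.injective fun I g => ?_
  by_cases hI : I = ⊥
  · subst hI
    refine ⟨0, fun x hx => ?_⟩
    have : (⟨x, hx⟩ : (⊥ : Ideal R)) = 0 := Subtype.ext ((Submodule.mem_bot R).1 hx)
    rw [this, map_zero, LinearMap.zero_apply]
  · obtain ⟨r, hr, hr0⟩ := (Submodule.ne_bot_iff _).1 hI
    obtain ⟨y, hy⟩ := hdiv r hr0 (g ⟨r, hr⟩)
    refine ⟨LinearMap.toSpanSingleton R M y, fun s hs => ?_⟩
    have h1 : r • (g ⟨s, hs⟩ - s • y) = 0 := by
      have hy' : r • y = g ⟨r, hr⟩ := hy
      rw [smul_sub, smul_comm r s y, hy', ← map_smul, ← map_smul, ← map_sub]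
      convert map_zero g
      exact Subtype.ext (show r * s - s * r = 0 by ring)
    exact (sub_eq_zero.1 ((NoZeroSMulDivisors.eq_zero_or_eq_zero_of_smul_eq_zero h1).resolve_left hr0)).symm

end Groth.Agent.S17764
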