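import Groth.Statements.S17765
import Groth.Agent.LC17.RegularPD
import Groth.Agent.LC17.PDLoc

set_option autoImplicit false
universe u
open CategoryTheory
open LocCoh

namespace Groth.Agent.S17765

/-- Let B be a regular local ring, M a finitely generated B-module and p an associated prime ideal of M.
Then the height of p is at most the projective dimension of M: for every n such that M has
projective dimension at most n, ht p ≤ n. -/
theorem result (B : Type u) [CommRing B] [IsRegularLocalRing B] (M : Type u) [AddCommGroup M] [Module B M] [Module.Finite B M] (p : Ideal B) (hp : p ∈ associatedPrimes B M) (n : ℕ) (hn : HasProjectiveDimensionLE (ModuleCat.of B M) n) : p.height ≤ n := by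
  haveI := IsAssociatedPrime.isPrime hp
  haveI := Groth.Agent.CAlg1.regular_localization B p
  obtain ⟨m, hm⟩ := Groth.Agent.LC17.exists_annihilator_mem hp
  let L := Localization.AtPrime p
  haveI : Module.Finite L (LocalizedModule p.primeCompl M) :=
    Module.Finite.of_isLocalizedModule p.primeCompl (LocalizedModule.mkLinearMap p.primeCompl M)
  have hdep : LocCoh.depth L (LocalizedModule p.primeCompl M) = 0 := by
    by_contra hne
    exact Groth.Agent.LC17.not_nul_H0_of_associated p le_rfl hm
      ((Groth.Agent.LC17.natCast_le_depth_loc_iff p 1).mp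
        (by rw [Nat.cast_one]; exact ENat.one_le_iff_ne_zero.mpr hne) 0 zero_lt_one)
  haveI : Nontrivial (LocalizedModule p.primeCompl M) := by
    rw [← not_subsingleton_iff_nontrivial]
    intro hs
    rw [Groth.Agent.EGA4Alg4.depth_of_subsingleton] at hdep
    exact ENat.top_ne_zero hdep
  have hpd : projectiveDimension (ModuleCat.of L (LocalizedModule p.primeCompl M)) ≤ n := by
    haveI : Module.Flat B L := IsLocalization.flat _ p.primeCompl
    rw [ModuleCat.projectiveDimension_eq_of_linearEquiv
      (M := ModuleCat.of L (LocalizedModule p.primeCompl M))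
      (N := ModuleCat.of L (TensorProduct B L M)) (LocalizedModule.equivTensorProduct p.primeCompl M)]
    exact (projectiveDimension_le_iff _ _).mpr (Groth.Agent.EGA4H10.hasPD_baseChange L M n hn)
  obtain ⟨e', he'⟩ := WithBot.ne_bot_iff_exists.mp (fun h =>
    not_subsingleton (LocalizedModule p.primeCompl M)
      (ModuleCat.isZero_iff_subsingleton.mp ((projectiveDimension_eq_bot_iff (ModuleCat.of L (LocalizedModule p.primeCompl M))).mp h)))
  rw [← he'] at hpd
  have hle : e' ≤ (n : ℕ∞) := WithBot.coe_le_coe.mp hpd
  obtain ⟨e, he⟩ := ENat.ne_top_iff_exists.mp (ne_top_of_le_ne_top (ENat.natCast_ne_top n) hle)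
  have hAB := Groth.Agent.S0604.result L (LocalizedModule p.primeCompl M) e (by rw [← he', ← he]; rfl)
  obtain ⟨d, hd⟩ := ENat.ne_top_iff_exists.mp (p.height_ne_top Ideal.IsPrime.ne_top')
  have hdim : ringKrullDim L = d := by
    rw [IsLocalization.AtPrime.ringKrullDim_eq_height p L, ← hd]; rfl
  rw [Groth.Agent.CAlg1.depth_regular _ hdim, hdep, add_zero] at hAB
  rw [← hd, hAB, he]
  exact hle

end Groth.Agent.S17765
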