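import Groth.Statements.S17772
import Groth.Agent.GrMod19.Length

set_option autoImplicit false
universe u
open GrLC

namespace Groth.Agent.S17772

/-- Let R = ⊕_{n ≥ 0} R_n be a positively ℤ-graded ring which is standard graded (irrelevant ideal
generated by R_1), with R_0 Artinian, *local with unique homogeneous maximal ideal m, and
Cohen–Macaulay of Krull dimension d; let H_R(n) = ℓ_{R_0}(R_n) be its Hilbert function and P_R ∈
ℚ[X] its Hilbert polynomial (a polynomial agreeing with H_R for all large n, taken as given). Then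
the a-invariant of R, the largest degree in which H^d_m(R) is nonzero (computed from any *injective
resolution of R), equals the supremum of the integers n with P_R(n) ≠ H_R(n). (The published text
writes 'min' for this supremum; the set of such n is unbounded below whenever it is nonempty, e.g.
all n < 0 for a polynomial ring over a field, and the published one-line proof H_R(n) − P_R(n) =
(−1)^d ℓ(H^d_m(R)_n) identifies the set with the nonzero degrees of H^d_m(R), whose largest element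
is a(R).) -/
theorem result (R : Type u) [CommRing R] [LocCoh.IsCohenMacaulayRing R] (𝒜 : ℤ → AddSubgroup R) [GradedRing 𝒜] (hpos : ∀ n : ℤ, n < 0 → 𝒜 n = ⊥) (hstd : Ideal.span (⋃ n ∈ Set.Ioi (0 : ℤ), (𝒜 n : Set R)) = Ideal.span ((𝒜 1 : AddSubgroup R) : Set R)) [IsArtinianRing (GrLC.deg0 𝒜)] (m : HomogeneousIdeal 𝒜) (hm : GrLC.IsStarLocal 𝒜 m) (d : ℕ) (hd : ringKrullDim R = d) (I : GrLC.StarInjRes 𝒜 𝒜) (P : Polynomial ℚ) (hP : ∃ N : ℤ, ∀ n : ℤ, N ≤ n → P.eval (n : ℚ) = ((Module.length (GrLC.deg0 𝒜) (GrLC.comp 𝒜 𝒜 n)).toNat : ℚ)) : GrLC.endDeg (I.Hgr m d) = ⨆ (n : ℤ) (_ : P.eval (n : ℚ) ≠ ((Module.length (GrLC.deg0 𝒜) (GrLC.comp 𝒜 𝒜 n)).toNat : ℚ)), ((n : WithTop ℤ) : WithBot (WithTop ℤ)) := by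
  have hp : GrMod19.NonnegGr 𝒜 := fun n hn x hx => by rw [hpos n hn] at hx; simpa using hx
  obtain ⟨N, hN⟩ := hP
  have hd' := LC15.cdLE_of_ringKrullDim_le m.toIdeal (le_of_eq hd)
  refine iSup_congr fun n => iSup_congr_Prop ?_ fun _ => rfl
  have hf := GrMod19.serre_formula hp hm hd' (P.natDegree + 1) R 𝒜 P
    (lt_of_le_of_lt Polynomial.degree_le_natDegree (by exact_mod_cast Nat.lt_succ_self _)) ⟨N, hN⟩ I n
  rw [GrMod19.chi, Finset.sum_range_succ, Finset.sum_eq_zero (fun i hi => by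
    rw [(GrMod19.vanH_iff m I).1 (GrMod19.vanH_below hp hm hd (Finset.mem_range.1 hi) n), GrMod19.len_bot, mul_zero]),
    zero_add] at hf
  change _ ↔ P.eval (n : ℚ) ≠ GrMod19.hFun 𝒜 𝒜 n
  rw [ne_eq, ← GrMod19.Hcomp_eq_bot_iff]
  refine not_congr ⟨fun h => ?_, fun h => ?_⟩
  · rw [h, GrMod19.len_bot, mul_zero, sub_eq_zero] at hf
    exact hf.symm
  · rw [h, sub_self, eq_comm, mul_eq_zero] at hf
    exact GrMod19.eq_bot_of_len_eq_zero (GrMod19.fg_Hcomp hp hm I d n) (hf.resolve_left (pow_ne_zero _ (by norm_num)))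

end Groth.Agent.S17772
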