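import Groth.Statements.S17773
import Groth.Agent.DR39.Balance

set_option autoImplicit false
universe u
open CategoryTheory CategoryTheory.Limits
open CAlg

namespace Groth.Agent.S17773


open CategoryTheory CategoryTheory.Limits CategoryTheory.MonoidalCategory Groth.Agent.DR39

attribute [local instance] HasDerivedCategory.standard

variable {A : Type u} [CommRing A]

/-- Balancing for flat resolutions. -/
theorem balanceFlat {M N : ModuleCat.{u} A} {E F : DRing.Cx A}
    (hEb : DRing.VanishesAbove E 0) (hEp : ∀ i, Module.Flat A (E.X i)) (f : E ⟶ sgl M) [QuasiIso f]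
    (hFb : DRing.VanishesAbove F 0) (hFp : ∀ i, Module.Flat A (F.X i)) (g : F ⟶ sgl N) [QuasiIso g] (i : ℤ) :
    Nonempty ((DRing.tensorCx E N).homology i ≅ (DRing.tensorCx F M).homology i) := by
  have hE : DRing.IsKFlat A E := isKFlat_of_flat 0 hEb hEp
  have hF : DRing.IsKFlat A F := isKFlat_of_flat 0 hFb hFp
  have sy : ∀ (X Y : DRing.Cx A), IsIso (symm' X Y) := fun X Y => by
    haveI : ∀ n, IsIso ((symm' X Y).f n) := fun n =>
      ⟨(symm' Y X).f n, symmX_symmX X Y n, symmX_symmX Y X n⟩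
    exact HomologicalComplex.Hom.isIso_of_components _
  haveI := sy E F; haveI := sy E (sgl N); haveI := sy F (sgl M)
  haveI h1 : QuasiIso (g ▷ E) := quasiIso_whiskerRight hE g
  haveI h2 : QuasiIso (f ▷ F) := quasiIso_whiskerRight hF f
  let e1 : (DRing.tensorCx E N).homology i ≅ (F ⊗ E).homology i :=
    (HomologicalComplex.homologyFunctor _ _ i).mapIso (@asIso _ _ _ _ (toSingleTensor E N) (isIso_toSingleTensor E N) ≪≫ asIso (symm' E (sgl N))) ≪≫
      (isoOfQuasiIsoAt (g ▷ E) i).symm
  let e2 : (DRing.tensorCx F M).homology i ≅ (E ⊗ F).homology i :=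
    (HomologicalComplex.homologyFunctor _ _ i).mapIso (@asIso _ _ _ _ (toSingleTensor F M) (isIso_toSingleTensor F M) ≪≫ asIso (symm' F (sgl M))) ≪≫
      (isoOfQuasiIsoAt (f ▷ F) i).symm
  exact ⟨e1 ≪≫ ((HomologicalComplex.homologyFunctor _ _ i).mapIso (asIso (symm' E F))).symm ≪≫ e2.symm⟩

noncomputable abbrev ext0 (C : ChainComplex (ModuleCat.{u} A) ℕ) : DRing.Cx A := C.extend ComplexShape.embeddingDownNat

theorem vanishesAbove_ext0 (C : ChainComplex (ModuleCat.{u} A) ℕ) : DRing.VanishesAbove (ext0 C) 0 :=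
  fun i hi => CochainComplex.isZero_of_isStrictlyLE (ext0 C) 0 i hi

theorem flat_ext0 (C : ChainComplex (ModuleCat.{u} A) ℕ) (h : ∀ k, Module.Flat A (C.X k)) (i : ℤ) :
    Module.Flat A ((ext0 C).X i) := by
  by_cases hi : i ≤ 0
  · obtain ⟨k, rfl⟩ := Int.exists_eq_neg_ofNat hi
    exact Module.Flat.of_linearEquiv (HomologicalComplex.extendXIso C ComplexShape.embeddingDownNat (i := k) rfl).toLinearEquiv
  · haveI := ModuleCat.subsingleton_of_isZero (vanishesAbove_ext0 C i (by omega))
    infer_instance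

theorem emb_natAbs {n : ℤ} (hn : n ≤ 0) : ComplexShape.embeddingDownNat.f n.natAbs = n := by
  show -((n.natAbs : ℤ)) = n
  omega

theorem comm_aux (G : ModuleCat.{u} A ⥤ ModuleCat.{u} A) {X X' Y Y' T T' : ModuleCat.{u} A}
    (x : X' ≅ X) (y : Y' ≅ Y) (d : X ⟶ Y) (a : T ≅ G.obj X) (b : T' ≅ G.obj Y) :
    (a ≪≫ G.mapIso x.symm).hom ≫ G.map (x.hom ≫ d ≫ y.inv) =
      (a.hom ≫ G.map d ≫ b.inv) ≫ (b ≪≫ G.mapIso y.symm).hom := by
  simp only [Iso.trans_hom, Functor.mapIso_hom, Iso.symm_hom, Functor.map_comp, Category.assoc,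
    Iso.inv_hom_id_assoc, Iso.map_inv_hom_id_assoc]

noncomputable def mapExtIso (C : ChainComplex (ModuleCat.{u} A) ℕ) (N : ModuleCat.{u} A) :
    ext0 (((tensorRight N).mapHomologicalComplex (ComplexShape.down ℕ)).obj C) ≅ DRing.tensorCx (ext0 C) N :=
  HomologicalComplex.Hom.isoOfComponents
    (fun n => if hn : n ≤ 0 then
        HomologicalComplex.extendXIso _ ComplexShape.embeddingDownNat (i := n.natAbs) (emb_natAbs hn) ≪≫
          (tensorRight N).mapIso (HomologicalComplex.extendXIso C ComplexShape.embeddingDownNat (i := n.natAbs) (emb_natAbs hn)).symm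
      else IsZero.iso (vanishesAbove_ext0 _ n (by omega))
        ((tensorRight N).map_isZero (vanishesAbove_ext0 C n (by omega))))
    (fun n m hnm => by
      by_cases hm : m ≤ 0
      · have hnm' : n + 1 = m := hnm
        have hn : n ≤ 0 := by omega
        obtain ⟨k, rfl⟩ := Int.exists_eq_neg_ofNat hn
        obtain ⟨l, rfl⟩ := Int.exists_eq_neg_ofNat hm
        rw [dif_pos hn, dif_pos hm]
        change _ ≫ (tensorRight N).map ((ext0 C).d (-(k : ℤ)) (-(l : ℤ))) = _
        rw [HomologicalComplex.extend_d_eq C ComplexShape.embeddingDownNat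
            (i := (-(k : ℤ)).natAbs) (j := (-(l : ℤ)).natAbs) (emb_natAbs hn) (emb_natAbs hm),
          HomologicalComplex.extend_d_eq _ ComplexShape.embeddingDownNat
            (i := (-(k : ℤ)).natAbs) (j := (-(l : ℤ)).natAbs) (emb_natAbs hn) (emb_natAbs hm),
          Functor.mapHomologicalComplex_obj_d]
        exact comm_aux (tensorRight N) _ _ _ _ _
      · exact ((tensorRight N).map_isZero (vanishesAbove_ext0 C m (by omega))).eq_of_tgt _ _)

theorem homology_tensor_iso (C : ChainComplex (ModuleCat.{u} A) ℕ) (N : ModuleCat.{u} A) (i : ℕ) :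
    Nonempty ((((tensorRight N).mapHomologicalComplex (ComplexShape.down ℕ)).obj C).homology i ≅
      (DRing.tensorCx (ext0 C) N).homology (-(i : ℤ))) :=
  ⟨(HomologicalComplex.extendHomologyIso _ ComplexShape.embeddingDownNat (j := i) rfl).symm ≪≫
    (HomologicalComplex.homologyFunctor _ _ (-(i : ℤ))).mapIso (mapExtIso C N)⟩

theorem exists_toSgl (C : ChainComplex (ModuleCat.{u} A) ℕ) (M : ModuleCat.{u} A)
    (φ : C ⟶ (ChainComplex.single₀ (ModuleCat.{u} A)).obj M) [QuasiIso φ] :
    ∃ f : ext0 C ⟶ sgl M, QuasiIso f := by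
  refine ⟨(ComplexShape.embeddingDownNat.extendFunctor _).map φ ≫
    (HomologicalComplex.extendSingleIso ComplexShape.embeddingDownNat M 0 0 (by simp)).hom, ?_⟩
  have h : QuasiIso (HomologicalComplex.extendMap φ ComplexShape.embeddingDownNat) := inferInstance
  haveI : IsIso (HomologicalComplex.extendSingleIso ComplexShape.embeddingDownNat M (0 : ℕ) (0 : ℤ) (by simp)).hom :=
    Iso.isIso_hom _
  exact @quasiIso_comp _ _ _ _ _ _ _ _ _ _ _ _ _ h (@quasiIso_of_isIso _ _ _ _ _ _ _ _ (Iso.isIso_hom _) _ _)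


/-- Let R be a commutative ring, M and N two R-modules, and F a flat resolution of M: a chain complex F
of flat R-modules concentrated in non-negative degrees together with a quasi-isomorphism from F to M
placed in degree 0. Then for every i ≥ 0 the i-th homology module of the complex F ⊗_R N is
isomorphic to Tor_i^R(M, N), the i-th left derived functor of − ⊗_R N evaluated at M (existence of
an isomorphism of R-modules). -/
theorem result (R : Type u) [CommRing R] (M N : Type u) [AddCommGroup M] [Module R M] [AddCommGroup N] [Module R N] (F : ChainComplex (ModuleCat.{u} R) ℕ) (hF : ∀ i : ℕ, Module.Flat R (F.X i)) (φ : F ⟶ (ChainComplex.single₀ (ModuleCat.{u} R)).obj (ModuleCat.of R M)) [QuasiIso φ] (i : ℕ) : Nonempty ((((MonoidalCategory.tensorRight (ModuleCat.of R N)).mapHomologicalComplex (ComplexShape.down ℕ)).obj F).homology i ≅ ((Tor' (ModuleCat.{u} R) i).obj (ModuleCat.of R M)).obj (ModuleCat.of R N)) := by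
  obtain ⟨f, hf⟩ := exists_toSgl F (ModuleCat.of R M) φ
  let P : ProjectiveResolution (ModuleCat.of R M) := (HasProjectiveResolution.out (Z := ModuleCat.of R M)).some
  obtain ⟨p, hp⟩ := exists_toSgl P.complex (ModuleCat.of R M) P.π
  let Q : ProjectiveResolution (ModuleCat.of R N) := (HasProjectiveResolution.out (Z := ModuleCat.of R N)).some
  obtain ⟨q, hq⟩ := exists_toSgl Q.complex (ModuleCat.of R N) Q.π
  have hP : ∀ (Z : ModuleCat.{u} R) (S : ProjectiveResolution Z) (k : ℕ), Module.Flat R (S.complex.X k) :=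
    fun Z S k => @Module.Flat.of_projective _ _ _ _ _
      ((IsProjective.iff_projective (R := R) (S.complex.X k)).2 (S.projective k))
  obtain ⟨a⟩ := homology_tensor_iso F (ModuleCat.of R N) i
  obtain ⟨b⟩ := balanceFlat (vanishesAbove_ext0 F) (flat_ext0 F hF) f
    (vanishesAbove_ext0 Q.complex) (flat_ext0 _ (hP _ Q)) q (-(i : ℤ))
  obtain ⟨c⟩ := balanceFlat (vanishesAbove_ext0 P.complex) (flat_ext0 _ (hP _ P)) p
    (vanishesAbove_ext0 Q.complex) (flat_ext0 _ (hP _ Q)) q (-(i : ℤ))
  obtain ⟨d⟩ := homology_tensor_iso P.complex (ModuleCat.of R N) i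
  exact ⟨a ≪≫ b ≪≫ c.symm ≪≫ d.symm ≪≫
    (P.isoLeftDerivedObj ((tensoringRight (ModuleCat.{u} R)).obj (ModuleCat.of R N)) i).symm⟩

end Groth.Agent.S17773
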