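import Groth.Statements.S17779
import Mathlib.Tactic

set_option autoImplicit false
open DRR

namespace Groth.Agent.S17779

theorem step (n k : ℕ) :
    (∑ j ∈ Finset.range (n + 2), (-1 : ℤ) ^ (n + 1 - j) * ((n + 1).choose j : ℤ) * (j : ℤ) ^ (k + 1)) =
      ((n : ℤ) + 1) * ((∑ j ∈ Finset.range (n + 2), (-1 : ℤ) ^ (n + 1 - j) * ((n + 1).choose j : ℤ) * (j : ℤ) ^ k) +
        ∑ j ∈ Finset.range (n + 1), (-1 : ℤ) ^ (n - j) * (n.choose j : ℤ) * (j : ℤ) ^ k) := by
  have hA : ∑ j ∈ Finset.range (n + 2), (-1 : ℤ) ^ (n + 1 - j) * (n.choose j : ℤ) * (j : ℤ) ^ k =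
      -∑ j ∈ Finset.range (n + 1), (-1 : ℤ) ^ (n - j) * (n.choose j : ℤ) * (j : ℤ) ^ k := by
    rw [Finset.sum_range_succ, Nat.choose_eq_zero_of_lt (Nat.lt_succ_self n), Nat.cast_zero, mul_zero, zero_mul,
      add_zero, ← Finset.sum_neg_distrib]
    refine Finset.sum_congr rfl fun j hj => ?_
    rw [show n + 1 - j = n - j + 1 by rw [Finset.mem_range] at hj; omega, pow_succ]
    ring
  have hB : ∑ j ∈ Finset.range (n + 2), (-1 : ℤ) ^ (n + 1 - j) * ((n + 1).choose j : ℤ) * (j : ℤ) ^ k =
      ∑ j ∈ Finset.range (n + 2), (-1 : ℤ) ^ (n + 1 - j) * (n.choose j : ℤ) * (j : ℤ) ^ k +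
      ∑ j ∈ Finset.range (n + 1), (-1 : ℤ) ^ (n - j) * (n.choose j : ℤ) * ((j : ℤ) + 1) ^ k := by
    rw [Finset.sum_range_succ' _ (n + 1), Finset.sum_range_succ' _ (n + 1)]
    simp only [Nat.choose_succ_succ', Nat.cast_add, Nat.choose_zero_right, Nat.add_sub_add_right]
    rw [add_right_comm, ← Finset.sum_add_distrib]
    congr 1
    refine Finset.sum_congr rfl fun j _ => ?_
    push_cast
    ring
  have hC : ∑ j ∈ Finset.range (n + 2), (-1 : ℤ) ^ (n + 1 - j) * ((n + 1).choose j : ℤ) * (j : ℤ) ^ (k + 1) =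
      ((n : ℤ) + 1) * ∑ j ∈ Finset.range (n + 1), (-1 : ℤ) ^ (n - j) * (n.choose j : ℤ) * ((j : ℤ) + 1) ^ k := by
    rw [Finset.sum_range_succ', Nat.cast_zero, zero_pow (Nat.succ_ne_zero k), mul_zero, add_zero, Finset.mul_sum]
    refine Finset.sum_congr rfl fun j _ => ?_
    have h : (((n : ℤ) + 1) * (n.choose j : ℤ)) = ((n + 1).choose (j + 1) : ℤ) * ((j : ℤ) + 1) := by
      exact_mod_cast Nat.add_one_mul_choose_eq n j
    rw [Nat.add_sub_add_right, Nat.cast_add, Nat.cast_one, pow_succ]
    linear_combination (-(-1 : ℤ) ^ (n - j) * ((j : ℤ) + 1) ^ k) * h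
  rw [hC, hB, hA]
  ring

theorem main : ∀ n k : ℕ, k ≤ n + 1 →
    (∑ j ∈ Finset.range (n + 1), (-1 : ℤ) ^ (n - j) * (n.choose j : ℤ) * (j : ℤ) ^ k) =
      (if k = n + 1 then (((n + 1).choose 2 * n.factorial : ℕ) : ℤ)
        else if k = n then (n.factorial : ℤ) else 0) := by
  intro n
  induction n with
  | zero =>
    intro k hk
    rcases (by omega : k = 0 ∨ k = 1) with rfl | rfl <;> simp
  | succ n ihn =>
    intro k
    induction k with
    | zero =>
      intro _
      rw [if_neg (by omega), if_neg (by omega)]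
      have h := (Commute.all (1 : ℤ) (-1)).add_pow (n + 1)
      simp only [one_pow, one_mul, add_neg_cancel, zero_pow (Nat.succ_ne_zero n)] at h
      rw [h]
      refine Finset.sum_congr rfl fun j _ => by simp
    | succ k ihk =>
      intro hk
      rw [step n k, ihk (by omega), ihn k (by omega)]
      rcases (by omega : k < n ∨ k = n ∨ k = n + 1) with h | rfl | rfl
      · simp [show ¬ k + 1 = n + 1 + 1 by omega, show ¬ k + 1 = n + 1 by omega, show ¬ k = n + 1 + 1 by omega,
          show ¬ k = n + 1 by omega, show ¬ k = n by omega]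
      · simp only [Nat.succ_ne_self, show ¬ k = k + 1 + 1 by omega, show ¬ k = k + 1 by omega, if_true, if_false,
          show ¬ k + 1 = k + 1 + 1 by omega]
        rw [Nat.factorial_succ]; push_cast; ring
      · simp only [show ¬ n + 1 = n + 1 + 1 by omega, if_true, if_false]
        have h2 : (n + 1 + 1).choose 2 = (n + 1) + (n + 1).choose 2 := by
          rw [Nat.choose_succ_succ' (n + 1) 1, Nat.choose_one_right]
        rw [h2, Nat.factorial_succ]; push_cast; ring


/-- For natural numbers n and k with k ≤ n + 1, the alternating sum over j = 0, …, n of (−1)^(n−j) C(n,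
j) j^k (with the convention 0^0 = 1) equals n! · n(n+1)/2 when k = n + 1, equals n! when k = n, and
vanishes when k < n. (The published statement takes n ≥ 1 and divides through by n!; the case n = 0
holds as well and is included.) -/
theorem result (n k : ℕ) (hk : k ≤ n + 1) :
    (∑ j ∈ Finset.range (n + 1), (-1 : ℤ) ^ (n - j) * (n.choose j : ℤ) * (j : ℤ) ^ k) =
      (if k = n + 1 then (((n + 1).choose 2 * n.factorial : ℕ) : ℤ)
        else if k = n then (n.factorial : ℤ) else 0) := by
  exact main n k hk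

end Groth.Agent.S17779
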