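import Groth.Statements.S17780
import Groth.Agent.S17779
import Mathlib.Tactic

set_option autoImplicit false
universe u
open DRR

namespace Groth.Agent.S17780

/-- For x, y in a commutative ring and a natural number n, (n+1)! · x · y^n equals the sum over j = 0,
…, n of (−1)^(n−j) C(n, j) (x + j y)^(n+1), minus (n · (n+1)!/2) · y^(n+1). (The published identity
is stated in ℚ[x, y] with an overall factor 1/(n+1) and the coefficients C(n, j)(−1)^(n−j)/n!; it is
given here multiplied through by (n+1)!, which makes it an identity with integer coefficients valid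
in every commutative ring; n · (n+1)!/2 is an integer.) -/
theorem result (A : Type u) [CommRing A] (x y : A) (n : ℕ) :
    ((n + 1).factorial : A) * x * y ^ n =
      (∑ j ∈ Finset.range (n + 1), (-1 : A) ^ (n - j) * (n.choose j : A) * (x + (j : A) * y) ^ (n + 1))
        - ((n * (n + 1).factorial / 2 : ℕ) : A) * y ^ (n + 1) := by
  have hS : ∀ k, k ≤ n + 1 →
      (∑ j ∈ Finset.range (n + 1), (-1 : A) ^ (n - j) * (n.choose j : A) * (j : A) ^ k) =
        (((if k = n + 1 then (((n + 1).choose 2 * n.factorial : ℕ) : ℤ)
          else if k = n then (n.factorial : ℤ) else 0) : ℤ) : A) := by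
    intro k hk
    rw [← Groth.Agent.S17779.result n k hk]
    push_cast
    rfl
  have h : (∑ j ∈ Finset.range (n + 1), (-1 : A) ^ (n - j) * (n.choose j : A) * (x + (j : A) * y) ^ (n + 1)) =
      ∑ k ∈ Finset.range (n + 2), ((n + 1).choose k : A) * x ^ (n + 1 - k) * y ^ k *
        ∑ j ∈ Finset.range (n + 1), (-1 : A) ^ (n - j) * (n.choose j : A) * (j : A) ^ k := by
    simp only [Finset.mul_sum]
    rw [Finset.sum_comm]
    refine Finset.sum_congr rfl fun j _ => ?_
    rw [add_comm x, add_pow, Finset.mul_sum]
    refine Finset.sum_congr rfl fun k _ => ?_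
    rw [mul_pow]; ring
  rw [h, Finset.sum_range_succ, Finset.sum_range_succ, Finset.sum_eq_zero (s := Finset.range n), zero_add,
    hS n (by omega), hS (n + 1) le_rfl]
  · have e : n * (n + 1).factorial / 2 = (n + 1).choose 2 * n.factorial := by
      rw [Nat.choose_two_right, Nat.factorial_succ, Nat.add_sub_cancel,
        Nat.div_mul_right_comm (Nat.two_dvd_mul_sub_one (n + 1) |> fun h => by simpa using h)]
      congr 1; ring
    rw [e]
    simp only [if_neg (show ¬ n = n + 1 by omega), if_true, Int.cast_natCast, Nat.choose_self, Nat.sub_self,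
      Nat.choose_succ_self_right, show n + 1 - n = 1 by omega, Nat.factorial_succ]
    push_cast
    ring
  · intro k hk
    rw [Finset.mem_range] at hk
    rw [hS k (by omega), if_neg (by omega), if_neg (by omega), Int.cast_zero, mul_zero]

end Groth.Agent.S17780
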