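import Groth.Statements.S17781
import Mathlib.Data.Nat.Choose.Dvd
import Mathlib.Algebra.GCDMonoid.Finset
import Mathlib.Algebra.GCDMonoid.Nat
import Mathlib.Data.Nat.Factorization.Basic

set_option autoImplicit false
open Variety

namespace Groth.Agent.S17781

theorem not_dvd_choose_pred {p v d : ℕ} (hp : p.Prime) (hd : d ≠ 0) (hv : p ^ v ∣ d) :
    ∀ j < p ^ v, ¬ p ∣ (d - 1).choose j := by
  intro j
  induction j with
  | zero => intro _; simpa using hp.ne_one
  | succ j ih =>
    intro hj hdvd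
    apply ih (by omega)
    obtain ⟨e, rfl⟩ : ∃ e, d = e + 1 := ⟨d - 1, by omega⟩
    simp only [Nat.add_sub_cancel] at hdvd ⊢
    have h1 : p ∣ (e + 1).choose (j + 1) := by
      by_contra hc
      have h2 : p ^ v ∣ (e + 1).choose (j + 1) * (j + 1) := by
        rw [← Nat.add_one_mul_choose_eq]
        exact hv.mul_right _
      have h3 := ((Nat.Prime.coprime_iff_not_dvd hp).2 hc).pow_left v
      exact absurd (Nat.le_of_dvd (by omega) (h3.dvd_of_dvd_mul_left h2)) (by omega)
    rw [Nat.choose_succ_succ] at h1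
    exact (Nat.dvd_add_left hdvd).1 h1

/-- Let d ≥ 1 and N ≥ 1 be integers and let I(d, N) be the greatest common divisor of the quotients d/δ
over the divisors δ of d with 1 ≤ δ ≤ N. Then I(d, N) equals the greatest common divisor of the
integers χ(d, n) = 1 − (−1)^n C(d − 1, n) for 1 ≤ n ≤ N (χ(d, n) is the Euler characteristic of O_H
for a degree-d hypersurface H in projective n-space). Both greatest common divisors are taken in ℤ,
normalised to be non-negative. -/
theorem result (d N : ℕ) (hd : 1 ≤ d) (hN : 1 ≤ N) :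
    (Finset.Icc 1 N).gcd (fun n => 1 - (-1 : ℤ) ^ n * ((d - 1).choose n : ℤ)) =
      ((Finset.Icc 1 N).filter (fun δ => δ ∣ d)).gcd (fun δ => ((d / δ : ℕ) : ℤ)) := by
  classical
  set a : ℕ → ℤ := fun n => 1 - (-1 : ℤ) ^ n * ((d - 1).choose n : ℤ) with ha
  have hrec : ∀ n, a (n + 1) = a n + (-1) ^ n * (d.choose (n + 1) : ℤ) := by
    intro n
    obtain ⟨e, rfl⟩ : ∃ e, d = e + 1 := ⟨d - 1, by omega⟩
    simp only [ha, Nat.add_sub_cancel, Nat.choose_succ_succ, pow_succ]
    push_cast
    ring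
  have hA : (Finset.Icc 1 N).gcd a = (Finset.Icc 1 N).gcd (fun n => (d.choose n : ℤ)) := by
    refine dvd_antisymm_of_normalize_eq Finset.normalize_gcd Finset.normalize_gcd
      (Finset.dvd_gcd fun n hn => ?_) ?_
    · obtain ⟨n, rfl⟩ : ∃ j, n = j + 1 := ⟨n - 1, by simp at hn; omega⟩
      have h : (d.choose (n + 1) : ℤ) = (-1) ^ n * (a (n + 1) - a n) := by
        rw [hrec, add_sub_cancel_left, ← mul_assoc, ← mul_pow]; simp
      rw [h]
      refine dvd_mul_of_dvd_right (dvd_sub (Finset.gcd_dvd hn) ?_) _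
      rcases n with _ | n
      · simp [ha]
      · exact Finset.gcd_dvd (by simp at hn ⊢; omega)
    · suffices h : ∀ n ≤ N, (Finset.Icc 1 N).gcd (fun n => (d.choose n : ℤ)) ∣ a n by
        exact Finset.dvd_gcd fun n hn => h n (by simp at hn; omega)
      intro n
      induction n with
      | zero => intro _; simp [ha]
      | succ n ih =>
        intro hn
        rw [hrec]
        exact dvd_add (ih (by omega)) (dvd_mul_of_dvd_right (Finset.gcd_dvd (by simp; omega)) _)
  rw [hA]
  have key : ((Finset.Icc 1 N).gcd fun n => d.choose n) =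
      ((Finset.Icc 1 N).filter (fun δ => δ ∣ d)).gcd (fun δ => d / δ) := by
    refine Nat.dvd_antisymm (Finset.dvd_gcd fun δ hδ => ?_) (Finset.dvd_gcd fun n hn => ?_)
    · obtain ⟨hδN, hδd⟩ := Finset.mem_filter.1 hδ
      simp at hδN
      rw [Nat.dvd_iff_prime_pow_dvd_dvd]
      intro p b hp hpb
      obtain ⟨α, w, hw, hδeq⟩ := Nat.exists_eq_pow_mul_and_not_dvd (n := δ) (by omega) p hp.ne_one
      have hαd : p ^ α ∣ d := (Dvd.intro w hδeq.symm).trans hδd
      have hαδ : p ^ α ≤ δ := by
        rw [hδeq]; exact Nat.le_mul_of_pos_right _ (Nat.pos_of_ne_zero fun h => by simp [h] at hw)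
      have hpos : 0 < p ^ α := pow_pos hp.pos _
      have hb : p ^ b ∣ d.choose (p ^ α) :=
        hpb.trans (Finset.gcd_dvd (by simp; omega))
      have hne := not_dvd_choose_pred hp (by omega : d ≠ 0) hαd (p ^ α - 1) (by omega)
      have h1 : p ^ α * p ^ b ∣ d * (d - 1).choose (p ^ α - 1) := by
        have := Nat.add_one_mul_choose_eq (d - 1) (p ^ α - 1)
        rw [Nat.sub_add_cancel (by omega : 1 ≤ d), Nat.sub_add_cancel hpos] at this
        rw [this, mul_comm (d.choose _)]
        exact Nat.mul_dvd_mul_left _ hb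
      rw [← pow_add] at h1
      have h2 : p ^ (α + b) ∣ d := (((Nat.Prime.coprime_iff_not_dvd hp).2 hne).pow_left _).dvd_of_dvd_mul_right h1
      rw [← Nat.mul_div_cancel' hδd, hδeq, pow_add, mul_assoc, ← hδeq] at h2
      exact (((Nat.Prime.coprime_iff_not_dvd hp).2 hw).pow_left _).dvd_of_dvd_mul_left
        (Nat.dvd_of_mul_dvd_mul_left hpos h2)
    · simp at hn
      obtain ⟨e, he⟩ : ∃ e, d = e + 1 := ⟨d - 1, by omega⟩
      obtain ⟨i, hi⟩ : ∃ i, n = i + 1 := ⟨n - 1, by omega⟩
      set g := Nat.gcd d n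
      have hg : g ∣ d := Nat.gcd_dvd_left d n
      have hgn : g ≤ n := Nat.le_of_dvd (by omega) (Nat.gcd_dvd_right d n)
      have hg0 : 0 < g := Nat.gcd_pos_of_pos_left _ (by omega)
      have hG : ((Finset.Icc 1 N).filter (fun δ => δ ∣ d)).gcd (fun δ => d / δ) ∣ d / g :=
        Finset.gcd_dvd (by simp [hg]; omega)
      refine hG.trans ?_
      have hmul : d ∣ d.choose n * n := ⟨e.choose i, by rw [he, hi, Nat.add_one_mul_choose_eq]⟩
      have hco : Nat.Coprime (d / g) (n / g) := Nat.coprime_div_gcd_div_gcd hg0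
      refine hco.dvd_of_dvd_mul_right ?_
      rw [← Nat.mul_div_assoc _ (Nat.gcd_dvd_right d n)]
      exact Nat.div_dvd_div hg hmul
  have hcast : ∀ (s : Finset ℕ) (f : ℕ → ℕ), s.gcd (fun x => (f x : ℤ)) = ((s.gcd f : ℕ) : ℤ) := by
    intro s f
    induction s using Finset.induction_on with
    | empty => simp
    | @insert x s hx ih => rw [Finset.gcd_insert, Finset.gcd_insert, ih]; rfl
  rw [hcast, hcast, key]

end Groth.Agent.S17781
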