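import Groth.Statements.S17785
import Mathlib.RingTheory.DedekindDomain.IntegralClosure
import Mathlib.RingTheory.DedekindDomain.PID
import Mathlib.RingTheory.DedekindDomain.Ideal.Lemmas
import Mathlib.FieldTheory.PurelyInseparable.Basic
import Mathlib.FieldTheory.SeparableClosure
import Mathlib.RingTheory.Polynomial.Eisenstein.Basic
import Mathlib.RingTheory.Polynomial.GaussLemma
import Mathlib.RingTheory.AdjoinRoot
import Mathlib.RingTheory.Norm.Transitivity
import Mathlib.RingTheory.UniqueFactorizationDomain.Multiplicative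

set_option autoImplicit false
universe u
open Variety

namespace Groth.Agent.S17785

open scoped BigOperators

/-- The gcd occurring in the statement. -/
def gg (d N : ℕ) : ℕ := ((Finset.Icc 1 N).filter (fun δ => δ ∣ d)).gcd (fun δ => d / δ)

theorem gg_dvd_of_congr {d N a b c e j l : ℕ} (hd : 1 ≤ d) (hl : l ≤ N) (hjl : j < l)
    (h : d * a + j * c = d * b + l * c) (he : c = e) : gg d N ∣ e := by
  subst he
  set h' := Nat.gcd d c with hh'
  have hpos : 0 < h' := Nat.gcd_pos_of_pos_left _ hd
  have hdvd : d ∣ (l - j) * c := by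
    have : (l - j) * c = d * a - d * b := by rw [Nat.sub_mul]; omega
    rw [this, ← Nat.mul_sub]
    exact Dvd.intro _ rfl
  have hδ : d / h' ∣ l - j := by
    obtain ⟨w, hw⟩ := hdvd
    have h1 : d / h' ∣ (l - j) * (c / h') := ⟨w, by
      apply Nat.eq_of_mul_eq_mul_right hpos
      rw [mul_assoc, Nat.div_mul_cancel (Nat.gcd_dvd_right _ _), hw, mul_right_comm, Nat.div_mul_cancel (Nat.gcd_dvd_left _ _)]⟩
    exact (Nat.coprime_div_gcd_div_gcd hpos).dvd_of_dvd_mul_right h1
  have hmem : d / h' ∈ (Finset.Icc 1 N).filter (fun δ => δ ∣ d) := by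
    rw [Finset.mem_filter, Finset.mem_Icc]
    exact ⟨⟨Nat.div_pos (Nat.gcd_le_left _ hd) hpos, (Nat.le_of_dvd (by omega) hδ).trans (by omega)⟩,
      Nat.div_dvd_of_dvd (Nat.gcd_dvd_left _ _)⟩
  refine (Finset.gcd_dvd hmem).trans ?_
  rw [Nat.div_div_self (Nat.gcd_dvd_left _ _) (by omega)]
  exact Nat.gcd_dvd_right _ _

/-- If a twisted diagonal equation has a nonzero solution, the minimal multiplicity is attained twice,
so `t` times the ramification index is divisible by the gcd. -/
theorem gg_dvd_multiplicity {B : Type u} [CommRing B] [IsDomain B] [UniqueFactorizationMonoid B] {π ϖ : B}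
    (hπ : Prime π) (hϖ : ϖ ≠ 0) (d N t : ℕ) (hd : 1 ≤ d) (x : Fin (N + 1) → B) (hx : x ≠ 0)
    (heq : x 0 ^ d = ∑ i : Fin N, ϖ ^ (t * ((i : ℕ) + 1)) * x i.succ ^ d) :
    gg d N ∣ t * multiplicity π ϖ := by
  classical
  let T : Fin (N + 1) → B := fun j => ϖ ^ (t * (j : ℕ)) * x j ^ d
  obtain ⟨j₀, hj₀⟩ : ∃ j, x j ≠ 0 := Function.ne_iff.1 hx
  have hfin : ∀ {b : B}, b ≠ 0 → FiniteMultiplicity π b := fun hb => FiniteMultiplicity.of_prime_left hπ hb
  have hT : ∀ j, x j ≠ 0 → T j ≠ 0 := fun j hj => mul_ne_zero (pow_ne_zero _ hϖ) (pow_ne_zero _ hj)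
  have hmult : ∀ j, x j ≠ 0 → multiplicity π (T j) = d * multiplicity π (x j) + (j : ℕ) * (t * multiplicity π ϖ) := by
    intro j hj
    show multiplicity π (ϖ ^ (t * (j : ℕ)) * x j ^ d) = _
    rw [multiplicity_mul hπ (hfin (hT j hj)), (hfin hϖ).multiplicity_pow hπ, (hfin hj).multiplicity_pow hπ]
    ring
  obtain ⟨j, hjS, hmin⟩ := Finset.exists_min_image (Finset.univ.filter fun j => x j ≠ 0)
    (fun j => multiplicity π (T j)) ⟨j₀, by simp [hj₀]⟩
  have hj : x j ≠ 0 := by simpa using hjS
  obtain ⟨l, hlj, hl, hle⟩ : ∃ l, l ≠ j ∧ x l ≠ 0 ∧ multiplicity π (T l) = multiplicity π (T j) := by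
    by_contra hcon
    push Not at hcon
    have hrest : ∀ l, l ≠ j → π ^ (multiplicity π (T j) + 1) ∣ T l := by
      intro l hl
      by_cases hx0 : x l = 0
      · simp [T, hx0, zero_pow (show d ≠ 0 by omega)]
      · exact (hfin (hT l hx0)).pow_dvd_iff_le_multiplicity.2
          (lt_of_le_of_ne (hmin l (by simp [hx0])) (Ne.symm (hcon l hl hx0)))
    have hsum : (if j = 0 then T 0 else -T j) = ∑ l ∈ Finset.univ.erase j, (if l = 0 then -T 0 else T l) := by
      have h0 : T 0 - ∑ i : Fin N, T i.succ = 0 := by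
        simp only [T, Fin.val_zero, mul_zero, pow_zero, one_mul, Fin.val_succ, heq, sub_self]
      have h1 : ∑ l, (if l = 0 then -T 0 else T l) = 0 := by
        rw [Fin.sum_univ_succ]
        simp only [if_pos, Fin.succ_ne_zero, if_false]
        linear_combination -h0
      rw [← Finset.add_sum_erase _ _ (Finset.mem_univ j)] at h1
      by_cases hj0 : j = 0
      · subst hj0
        simp only [if_pos] at h1 ⊢
        linear_combination -h1
      · simp only [if_neg hj0] at h1 ⊢
        linear_combination -h1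
    have hdvd : π ^ (multiplicity π (T j) + 1) ∣ T j := by
      have : π ^ (multiplicity π (T j) + 1) ∣ (if j = 0 then T 0 else -T j) := hsum ▸ Finset.dvd_sum fun l hl => by
        by_cases hl0 : l = 0
        · rw [if_pos hl0, dvd_neg]; exact hl0 ▸ hrest l (Finset.ne_of_mem_erase hl)
        · rw [if_neg hl0]; exact hrest l (Finset.ne_of_mem_erase hl)
      by_cases hj0 : j = 0
      · rw [if_pos hj0] at this; exact hj0 ▸ this
      · rwa [if_neg hj0, dvd_neg] at this
    exact absurd ((hfin (hT j hj)).pow_dvd_iff_le_multiplicity.1 hdvd) (by omega)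
  rw [hmult l hl, hmult j hj] at hle
  rcases Nat.lt_or_gt_of_ne (Fin.val_ne_of_ne hlj) with h | h
  · exact gg_dvd_of_congr hd (Nat.lt_succ_iff.1 j.2) h hle rfl
  · exact gg_dvd_of_congr hd (Nat.lt_succ_iff.1 l.2) h hle.symm rfl

/-- The separable case, with a weight `t`. -/
theorem gg_dvd_finrank (R : Type u) [CommRing R] [IsDomain R] [IsDiscreteValuationRing R] (K : Type u) [Field K]
    [Algebra R K] [IsFractionRing R K] (L : Type u) [Field L] [Algebra K L] [Algebra R L] [IsScalarTower R K L]
    [FiniteDimensional K L] [Algebra.IsSeparable K L] (ϖ : R) (hϖ : Irreducible ϖ) (d N t : ℕ) (hd : 1 ≤ d)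
    (x : Fin (N + 1) → L) (hx : x ≠ 0)
    (heq : x 0 ^ d = ∑ i : Fin N, algebraMap R L ϖ ^ (t * ((i : ℕ) + 1)) * x i.succ ^ d) :
    gg d N ∣ t * Module.finrank K L := by
  classical
  let B := integralClosure R L
  have : IsDedekindDomain B := IsIntegralClosure.isDedekindDomain R K L B
  have : Module.Finite R B := IsIntegralClosure.finite R K L B
  have hRL : Function.Injective (algebraMap R L) := by
    rw [IsScalarTower.algebraMap_eq R K L]
    exact (algebraMap K L).injective.comp (IsFractionRing.injective R K)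
  have : Module.IsTorsionFree R L := Module.isTorsionFree_iff_algebraMap_injective.2 hRL
  have : Module.Free R B := IsIntegralClosure.module_free R K L B
  have hrank : Module.finrank R B = Module.finrank K L := IsIntegralClosure.rank R K L B
  have : IsFractionRing B L := IsIntegralClosure.isFractionRing_of_finite_extension R K L B
  have hinjB : Function.Injective (algebraMap R B) := fun a b h => hRL (congrArg Subtype.val h)
  have : FaithfulSMul R B := (faithfulSMul_iff_algebraMap_injective _ _).2 hinjB
  have : Algebra.IsIntegral R B := IsIntegralClosure.isIntegral_algebra R L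
  have : IsPrincipalIdealRing B := IsPrincipalIdealRing.of_finite_primes (by
    refine ((IsDedekindDomain.primesOver_finite (IsLocalRing.maximalIdeal R) B).insert ⊥).subset fun P hP => ?_
    have hP' : P.IsPrime := hP
    by_cases h : P = ⊥
    · exact Or.inl h
    · have : P.IsMaximal := hP'.isMaximal h
      exact Or.inr ⟨hP', ⟨(IsLocalRing.eq_maximalIdeal (Ideal.isMaximal_comap_of_isIntegral_of_isMaximal P)).symm⟩⟩)
  set ϖB : B := algebraMap R B ϖ
  have hϖB : ϖB ≠ 0 := (map_ne_zero_iff _ hinjB).2 hϖ.ne_zero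
  -- clear denominators
  obtain ⟨⟨s, hs⟩, hsx⟩ := IsLocalization.exist_integer_multiples (nonZeroDivisors B) Finset.univ x
  choose y hy using fun i => hsx i (Finset.mem_univ i)
  have hy' : ∀ i, algebraMap B L (y i) = algebraMap B L s * x i := fun i => (hy i).trans (Algebra.smul_def s (x i))
  have hs0 : algebraMap B L s ≠ 0 :=
    (map_ne_zero_iff _ (IsFractionRing.injective B L)).2 (nonZeroDivisors.ne_zero hs)
  have hy0 : y ≠ 0 := by
    obtain ⟨j, hj⟩ := Function.ne_iff.1 hx
    refine Function.ne_iff.2 ⟨j, fun h => hj ?_⟩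
    have := hy' j
    rw [h] at this
    exact (mul_eq_zero.1 (this.symm.trans (map_zero _))).resolve_left hs0
  have heqB : y 0 ^ d = ∑ i : Fin N, ϖB ^ (t * ((i : ℕ) + 1)) * y i.succ ^ d := by
    apply IsFractionRing.injective B L
    simp only [map_pow, map_sum, map_mul, hy', mul_pow, heq, Finset.mul_sum]
    refine Finset.sum_congr rfl fun i _ => ?_
    rw [show algebraMap B L ϖB = algebraMap R L ϖ from rfl]
    ring
  have hone : ∀ π : B, Prime π → gg d N ∣ t * multiplicity π ϖB := fun π hπ =>
    gg_dvd_multiplicity hπ hϖB d N t hd y hy0 heqB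
  -- norms
  have hpr : Prime ϖ := hϖ.prime
  have hNne : ∀ b : B, b ≠ 0 → Algebra.norm R b ≠ 0 := fun b hb => Algebra.norm_ne_zero_iff.2 hb
  have key : ∀ b : B, b ≠ 0 → (∀ π : B, Prime π → gg d N ∣ t * multiplicity π b) →
      gg d N ∣ t * multiplicity ϖ (Algebra.norm R b) := by
    intro b
    refine UniqueFactorizationMonoid.induction_on_coprime b (fun h => absurd rfl h) ?_ ?_ ?_
    · intro u hu _ _
      rw [multiplicity_eq_zero.2 fun h => hpr.not_isUnit (isUnit_of_dvd_unit h (hu.map (Algebra.norm R)))]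
      simp
    · intro p i hp hne h
      have h1 := h p hp
      rw [multiplicity_pow_self_of_prime hp] at h1
      rw [map_pow, (FiniteMultiplicity.of_prime_left hpr (hNne p hp.ne_zero)).multiplicity_pow hpr, ← mul_assoc]
      exact h1.mul_right _
    · intro a c hac ha hc hne h
      have hane : a ≠ 0 := left_ne_zero_of_mul hne
      have hcne : c ≠ 0 := right_ne_zero_of_mul hne
      have hsplit : ∀ π : B, Prime π → gg d N ∣ t * multiplicity π a ∧ gg d N ∣ t * multiplicity π c := by
        intro π hπ
        have h1 := h π hπ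
        rw [multiplicity_mul hπ (FiniteMultiplicity.of_prime_left hπ hne)] at h1
        by_cases hd' : π ∣ a
        · rw [multiplicity_eq_zero.2 (fun hc' => hπ.not_isUnit (hac hd' hc')), add_zero] at h1
          exact ⟨h1, by rw [multiplicity_eq_zero.2 (fun hc' => hπ.not_isUnit (hac hd' hc'))]; simp⟩
        · rw [multiplicity_eq_zero.2 hd', zero_add] at h1
          exact ⟨by rw [multiplicity_eq_zero.2 hd']; simp, h1⟩
      rw [map_mul, multiplicity_mul hpr (FiniteMultiplicity.of_prime_left hpr
        (mul_ne_zero (hNne a hane) (hNne c hcne))), mul_add]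
      exact dvd_add (ha hane fun π hπ => (hsplit π hπ).1) (hc hcne fun π hπ => (hsplit π hπ).2)
  have := key ϖB hϖB hone
  rwa [Algebra.norm_algebraMap, multiplicity_pow_self_of_prime hpr, hrank] at this

/-- The general case. -/
theorem gg_dvd_finrank' (R : Type u) [CommRing R] [IsDomain R] [IsDiscreteValuationRing R] (K : Type u) [Field K]
    [Algebra R K] [IsFractionRing R K] (L : Type u) [Field L] [Algebra K L]
    [FiniteDimensional K L] (ϖ : R) (hϖ : Irreducible ϖ) (d N : ℕ) (hd : 1 ≤ d)
    (x : Fin (N + 1) → L) (hx : x ≠ 0)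
    (heq : x 0 ^ d = ∑ i : Fin N, algebraMap K L (algebraMap R K (ϖ ^ ((i : ℕ) + 1))) * x i.succ ^ d) :
    gg d N ∣ Module.finrank K L := by
  classical
  let E := separableClosure K L
  let q := ringExpChar E
  have : ExpChar L q := expChar_of_injective_algebraMap (algebraMap E L).injective q
  have hpoly := (isPurelyInseparable_iff_minpoly_eq_X_pow_sub_C (F := E) (E := L) q).1 inferInstance
  choose n a hn using hpoly
  obtain ⟨i₀, -, hmax⟩ := Finset.exists_max_image Finset.univ (fun i => n (x i)) Finset.univ_nonempty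
  set r := n (x i₀)
  have hdvd : q ^ r ∣ Module.finrank E L := by
    have := minpoly.degree_dvd (K := E) (Algebra.IsIntegral.isIntegral (x i₀))
    rwa [hn, Polynomial.natDegree_X_pow_sub_C] at this
  have hmem : ∀ i, ∃ y : E, algebraMap E L y = x i ^ (q ^ r) := by
    intro i
    have h1 : Polynomial.aeval (x i) (minpoly E (x i)) = 0 := minpoly.aeval E (x i)
    rw [hn] at h1
    simp only [map_sub, map_pow, Polynomial.aeval_X, Polynomial.aeval_C, sub_eq_zero] at h1
    refine ⟨a (x i) ^ (q ^ (r - n (x i))), ?_⟩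
    rw [map_pow, ← h1, ← pow_mul, ← pow_add, Nat.add_sub_cancel' (hmax i (Finset.mem_univ i))]
  choose y hy using hmem
  letI : Algebra R E := ((algebraMap K E).comp (algebraMap R K)).toAlgebra
  have : IsScalarTower R K E := IsScalarTower.of_algebraMap_eq fun _ => rfl
  have hy0 : y ≠ 0 := by
    obtain ⟨j, hj⟩ := Function.ne_iff.1 hx
    refine Function.ne_iff.2 ⟨j, fun h => hj ?_⟩
    have := hy j
    rw [h] at this
    exact eq_zero_of_pow_eq_zero (show x j ^ (q ^ r) = 0 by rw [← this]; exact map_zero _)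
  have := gg_dvd_finrank R K E ϖ hϖ d N (q ^ r) hd y hy0 (by
    apply (algebraMap E L).injective
    have h1 := congrArg (iterateFrobenius L q r) heq
    simp only [map_sum, map_mul, map_pow, iterateFrobenius_def] at h1
    simp only [map_sum, map_mul, map_pow, hy]
    rw [h1]
    refine Finset.sum_congr rfl fun i _ => ?_
    rw [show algebraMap E L (algebraMap R E ϖ) = algebraMap K L (algebraMap R K ϖ) from rfl, ← pow_mul])
  rw [← Module.finrank_mul_finrank K E L, mul_comm]
  exact this.trans (Nat.mul_dvd_mul_right hdvd _)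

/-- Closure of a set of integers contains the gcd of naturals in it. -/
theorem gcd_mem {H : AddSubgroup ℤ} (s : Finset ℕ) (f : ℕ → ℕ) (h : ∀ δ ∈ s, (f δ : ℤ) ∈ H) :
    ((s.gcd f : ℕ) : ℤ) ∈ H := by
  induction s using Finset.cons_induction with
  | empty => simp
  | cons a s ha ih =>
    rw [Finset.cons_eq_insert, Finset.gcd_insert]
    show ((Nat.gcd (f a) (s.gcd f) : ℕ) : ℤ) ∈ H
    rw [Nat.gcd_eq_gcd_ab]
    have h1 := h a (Finset.mem_cons_self a s)
    have h2 := ih fun δ hδ => h δ (Finset.mem_cons_of_mem hδ)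
    exact add_mem (by rw [mul_comm]; exact zsmul_mem h1 _) (by rw [mul_comm]; exact zsmul_mem h2 _)

/-- Let R be a discrete valuation ring with fraction field K and uniformizer π, and let d, N ≥ 1.
Consider the hypersurface X in projective N-space over K defined by x_0^d = π x_1^d + π^2 x_2^d + ⋯
+ π^N x_N^d. Its index over K — the greatest common divisor of the degrees of its closed points,
equivalently of the degrees [L : K] of the finite field extensions L over which the equation has a
non-zero solution — equals I(d, N), the greatest common divisor of the quotients d/δ over the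
divisors δ of d with 1 ≤ δ ≤ N. Stated as an equality of subgroups of ℤ: the subgroup generated by
those degrees [L : K] is the subgroup generated by I(d, N). -/
theorem result (R : Type u) [CommRing R] [IsDomain R]
    [IsDiscreteValuationRing R] (K : Type u) [Field K] [Algebra R K] [IsFractionRing R K]
    (ϖ : R) (hϖ : Irreducible ϖ) (d N : ℕ) (hd : 1 ≤ d) (hN : 1 ≤ N) :
    AddSubgroup.closure {m : ℤ | ∃ (L : Type u) (_ : Field L) (_ : Algebra K L),
        FiniteDimensional K L ∧ m = (Module.finrank K L : ℤ) ∧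
        ∃ x : Fin (N + 1) → L, x ≠ 0 ∧
          x 0 ^ d = ∑ i : Fin N, algebraMap K L (algebraMap R K (ϖ ^ ((i : ℕ) + 1))) * x i.succ ^ d} =
      AddSubgroup.zmultiples ((((Finset.Icc 1 N).filter (fun δ => δ ∣ d)).gcd (fun δ => d / δ) : ℕ) : ℤ) := by
  classical
  apply le_antisymm
  · rw [AddSubgroup.closure_le]
    rintro m ⟨L, _, _, hfd, rfl, x, hx, heq⟩
    have := hfd
    rw [SetLike.mem_coe, Int.mem_zmultiples_iff]
    exact Int.natCast_dvd_natCast.2 (gg_dvd_finrank' R K L ϖ hϖ d N hd x hx heq)
  · rw [AddSubgroup.zmultiples_le]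
    refine gcd_mem _ _ fun δ hδ => AddSubgroup.subset_closure ?_
    rw [Finset.mem_filter, Finset.mem_Icc] at hδ
    obtain ⟨⟨hδ1, hδN⟩, hδd⟩ := hδ
    set e := d / δ
    have he : 0 < e := Nat.div_pos (Nat.le_of_dvd (by omega) hδd) hδ1
    let P : Polynomial R := Polynomial.X ^ e - Polynomial.C ϖ
    have hPm : P.Monic := Polynomial.monic_X_pow_sub_C ϖ he.ne'
    have hPdeg : P.natDegree = e := Polynomial.natDegree_X_pow_sub_C
    have hPirr : Irreducible P := by
      refine Polynomial.IsEisensteinAt.irreducible (𝓟 := Ideal.span {ϖ}) ?_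
        ((Ideal.span_singleton_prime hϖ.ne_zero).2 hϖ.prime) hPm.isPrimitive (by omega)
      refine ⟨?_, fun {i} hi => ?_, ?_⟩
      · rw [hPm.leadingCoeff]
        exact fun h => hϖ.not_isUnit (isUnit_of_dvd_one (Ideal.mem_span_singleton.1 h))
      · rw [hPdeg] at hi
        rw [Polynomial.coeff_sub, Polynomial.coeff_X_pow, if_neg (by omega), zero_sub, Polynomial.coeff_C]
        split_ifs <;> simp [Ideal.mem_span_singleton]
      · rw [Polynomial.coeff_sub, Polynomial.coeff_X_pow, if_neg (by omega), zero_sub, Polynomial.coeff_C_zero,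
          Ideal.span_singleton_pow, Ideal.mem_span_singleton, dvd_neg]
        intro h
        rw [pow_two] at h
        exact hϖ.not_isUnit (isUnit_of_dvd_one ((mul_dvd_mul_iff_left hϖ.ne_zero).1 (by simpa using h)))
    let f : Polynomial K := P.map (algebraMap R K)
    have : Fact (Irreducible f) := ⟨(hPm.irreducible_iff_irreducible_map_fraction_map (K := K)).1 hPirr⟩
    have hfm : f.Monic := hPm.map _
    refine ⟨AdjoinRoot f, inferInstance, inferInstance, (AdjoinRoot.powerBasis hfm.ne_zero).finite, ?_,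
      fun j => if j = 0 then AdjoinRoot.root f else if (j : ℕ) = δ then 1 else 0, ?_, ?_⟩
    · rw [(AdjoinRoot.powerBasis hfm.ne_zero).finrank, AdjoinRoot.powerBasis_dim, hPm.natDegree_map, hPdeg]
    · refine Function.ne_iff.2 ⟨⟨δ, by omega⟩, ?_⟩
      have hne : (⟨δ, by omega⟩ : Fin (N + 1)) ≠ 0 := by
        intro h; have := congrArg Fin.val h; simp at this; omega
      simp [hne]
    · have hroot : AdjoinRoot.root f ^ e = algebraMap K (AdjoinRoot f) (algebraMap R K ϖ) := by
        have h1 : Polynomial.aeval (AdjoinRoot.root f) f = 0 := by rw [AdjoinRoot.aeval_eq, AdjoinRoot.mk_self]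
        simpa [f, P, sub_eq_zero] using h1
      rw [Finset.sum_eq_single ⟨δ - 1, by omega⟩]
      · simp only [if_pos, Fin.succ_ne_zero, if_false, Fin.val_succ, show δ - 1 + 1 = δ by omega, one_pow, mul_one]
        rw [map_pow, map_pow, ← hroot, ← pow_mul, Nat.div_mul_cancel hδd]
      · intro i _ hi
        have : (i : ℕ) + 1 ≠ δ := fun h => hi (Fin.ext (by show (i : ℕ) = δ - 1; omega))
        simp [this, zero_pow (show d ≠ 0 by omega), Fin.succ_ne_zero]
      · simp

end Groth.Agent.S17785
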