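import Groth.Statements.S2946
import Groth.Agent.Lef91Conn

set_option autoImplicit false
universe u
open CategoryTheory CategoryTheory.Limits AlgebraicGeometry
open Lef

namespace Groth.Agent.S2946

/-- Let X be a locally Noetherian scheme and 𝓘 a quasi-coherent ideal sheaf with Y = V(𝓘), and suppose
Lef(X, Y) holds (this prelude's Lef.LefCond). Then for every open U of X containing Y, Y is
connected if and only if U is connected. -/
theorem result (X : Scheme.{u}) [IsLocallyNoetherian X] (𝓘 : X.IdealSheafData) (h : Lef.LefCond X 𝓘) (U : X.Opens) (hU : (𝓘.support : Set X) ⊆ (U : Set X)) : ConnectedSpace (𝓘.support : Set X) ↔ ConnectedSpace U := by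
  have hF := Lef91.formalFunctions (h U hU (Coh.structureModule (U : Scheme.{u})) Formal27.isFinLocFree_unitMod)
  refine Iff.trans ?_ (Lef91.connectedSpace_support_iff hF)
  have e : ((𝓘.comap U.ι).support : Set (U : Scheme.{u})) = Subtype.val ⁻¹' (𝓘.support : Set X) :=
    congrArg SetLike.coe (Scheme.IdealSheafData.support_comap 𝓘 U.ι)
  let h₀ : ((𝓘.comap U.ι).support : Set (U : Scheme.{u})) ≃ₜ (𝓘.support : Set X) :=
    { toFun := fun z => ⟨z.1.1, e.le z.2⟩
      invFun := fun y => ⟨⟨y.1, hU y.2⟩, e.ge y.2⟩
      left_inv := fun z => rfl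
      right_inv := fun y => rfl
      continuous_toFun := (continuous_subtype_val.comp continuous_subtype_val).subtype_mk _
      continuous_invFun := (continuous_subtype_val.subtype_mk _).subtype_mk _ }
  exact ⟨fun _ => h₀.symm.surjective.connectedSpace h₀.symm.continuous,
    fun _ => h₀.surjective.connectedSpace h₀.continuous⟩

end Groth.Agent.S2946
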