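import Groth.Statements.S17790
import Groth.Agent.FEt83.ClopensOfFF
import Groth.Agent.S2946

set_option autoImplicit false
universe u
open CategoryTheory CategoryTheory.Limits AlgebraicGeometry
open Pi1

namespace Groth.Agent.S17790

open CategoryTheory CategoryTheory.Limits AlgebraicGeometry TopologicalSpace

set_option backward.isDefEq.respectTransparency.types false in
/-- A space admitting an equivalence of categories of covers with a connected one is connected. -/
theorem connectedSpace_of_ff {S T : Scheme.{u}} (f : S ⟶ T) [ConnectedSpace T]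
    (h : (FEt.restrict f).Full ∧ (FEt.restrict f).Faithful) : ConnectedSpace S := by
  let Y : FEt.Cat T := MorphismProperty.Over.mk ⊤ (𝟙 T) (MorphismProperty.id_mem _ _)
  have hcond : ∀ z : ↥(pullback Y.hom f), pullback.fst Y.hom f z = f (pullback.snd Y.hom f z) := fun z =>
    congr($(pullback.condition (f := Y.hom) (g := f)) z)
  have hne : Nonempty S := by
    obtain ⟨z, -⟩ := FEt83.meetsClopens_of_faithful h.2 Y Set.univ isClopen_univ
      ⟨Classical.arbitrary T, trivial⟩
    exact ⟨pullback.snd Y.hom f z⟩
  have : PreconnectedSpace S := by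
    rw [preconnectedSpace_iff_clopen]
    intro D hD
    obtain ⟨E, hE, hpre⟩ := FEt83.liftsClopens_of_full h.1 Y (pullback.snd Y.hom f ⁻¹' D)
      (hD.preimage (pullback.snd Y.hom f).continuous)
    have hsurj : ∀ s : S, ∃ z, pullback.snd Y.hom f z = s := fun s => by
      obtain ⟨z, -, hz⟩ := Scheme.Pullback.exists_preimage_pullback (f := Y.hom) (g := f) (f s) s rfl
      exact ⟨z, hz⟩
    have key : f ⁻¹' E = D := Set.ext fun s => by
      obtain ⟨z, rfl⟩ := hsurj s
      refine Iff.trans ?_ (Set.ext_iff.mp hpre z)
      show f (pullback.snd Y.hom f z) ∈ E ↔ pullback.fst Y.hom f z ∈ E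
      rw [hcond z]
      rfl
    rcases @isClopen_iff T _ ‹ConnectedSpace T›.toPreconnectedSpace E |>.mp hE with hE0 | hE1
    · exact Or.inl (key ▸ hE0 ▸ rfl)
    · exact Or.inr (key ▸ hE1 ▸ rfl)
  exact { toNonempty := hne }

/-- Let A be a Noetherian local ring and I an ideal for which A is I-adically complete and A/I is local;
write X = Spec A, Y = V(I) and U for the punctured spectrum. Suppose that A is pure (the pair formed
by X and its closed point is pure) and that the effective Lefschetz condition Leff(U, U ∩ Y) holds.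
Then Y minus the closed point, i.e. U ∩ Y, is a connected (nonempty) subset of X. -/
theorem result (A : Type u) [CommRing A] [IsLocalRing A] [IsNoetherianRing A] (I : Ideal A) [IsAdicComplete I A] [IsLocalRing (A ⧸ I)] (hpure : SGA2.IsPurePair (Spec (CommRingCat.of A)) (FEt.puncturedSpec A)) (hleff : LefX.LeffCond (↑(FEt.puncturedSpec A) : Scheme.{u}) ((Spec.map (CommRingCat.ofHom (Ideal.Quotient.mk I))).ker.comap (FEt.puncturedSpec A).ι)) : IsConnected (((Spec.map (CommRingCat.ofHom (Ideal.Quotient.mk I))).ker.support : Set ↥(Spec (CommRingCat.of A))) ∩ (FEt.puncturedSpec A : Set ↥(Spec (CommRingCat.of A)))) := by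
  let X := Spec (CommRingCat.of A)
  let U := FEt.puncturedSpec A
  have hconnX : ConnectedSpace (PrimeSpectrum A) := by
    have : PreconnectedSpace (PrimeSpectrum A) := by
      rw [preconnectedSpace_iff_clopen]
      intro D hD
      rcases em (IsLocalRing.closedPoint A ∈ D) with h | h
      · exact Or.inr (Set.eq_univ_of_forall fun p => (IsLocalRing.specializes_closedPoint p).mem_open hD.2 h)
      · exact Or.inl (Set.eq_empty_of_forall_notMem fun p hp =>
          h ((IsLocalRing.specializes_closedPoint p).mem_closed hD.1 hp))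
    exact { toNonempty := ⟨IsLocalRing.closedPoint A⟩ }
  have hX : ConnectedSpace X := hconnX
  have : ConnectedSpace ((⊤ : X.Opens) : Scheme.{u}) :=
    (X.topIso.inv.homeomorph.surjective).connectedSpace X.topIso.inv.continuous
  have := hpure ⊤
  have hc : ConnectedSpace ((⊤ ⊓ U : X.Opens) : Scheme.{u}) :=
    connectedSpace_of_ff (X.homOfLE (inf_le_left : ⊤ ⊓ U ≤ ⊤)) ⟨inferInstance, inferInstance⟩
  have hUc : ConnectedSpace (U : Scheme.{u}) := by
    rwa [top_inf_eq] at hc
  let 𝓘 := (Spec.map (CommRingCat.ofHom (Ideal.Quotient.mk I))).ker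
  have : IsLocallyNoetherian (U : Scheme.{u}) := isLocallyNoetherian_of_isOpenImmersion U.ι
  have hs : ((𝓘.comap U.ι).support : Set (U : Scheme.{u})) = Subtype.val ⁻¹' (𝓘.support : Set X) :=
    congrArg SetLike.coe (Scheme.IdealSheafData.support_comap 𝓘 U.ι)
  have h1 : ConnectedSpace ((𝓘.comap U.ι).support : Set (U : Scheme.{u})) :=
    (S2946.result (U : Scheme.{u}) (𝓘.comap U.ι) hleff.1 ⊤ (by simp)).mpr
      ((U : Scheme.{u}).topIso.inv.homeomorph.surjective.connectedSpace (U : Scheme.{u}).topIso.inv.continuous)
  have h2 := (isConnected_iff_connectedSpace.mpr h1).image Subtype.val continuous_subtype_val.continuousOn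
  refine (congrArg _root_.IsConnected ?_).mp h2
  refine (congrArg (fun s : Set (U : Scheme.{u}) => Subtype.val '' s) hs).trans ?_
  exact Set.image_preimage_eq_inter_range.trans (congrArg ((𝓘.support : Set X) ∩ ·) Subtype.range_coe)

end Groth.Agent.S17790
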