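import Groth.Statements.S17797
import Mathlib.RingTheory.EssentialFiniteness
import Mathlib.RingTheory.AlgebraicIndependent.TranscendenceBasis
import Mathlib.RingTheory.Localization.AtPrime.Basic
import Mathlib.RingTheory.IntegralClosure.Algebra.Basic
import Mathlib.RingTheory.LocalRing.ResidueField.Basic
import Mathlib.RingTheory.Jacobson.Ring

set_option autoImplicit false
universe u
open CAlg

namespace Groth.Agent.S17797

set_option maxHeartbeats 1600000 in
/-- Suppose k is a field of characteristic zero and S is a local domain that is an essentially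
finite-type k-algebra. Then there are an extension field K of k, a K-algebra A of finite type and a
maximal ideal m of A such that S is isomorphic over k to the localization A_m. -/
theorem result (k : Type u) [Field k] [CharZero k] (S : Type u) [CommRing S] [IsDomain S] [IsLocalRing S] [Algebra k S] [Algebra.EssFiniteType k S] : ∃ (K : Type u) (_ : Field K) (_ : Algebra k K) (A : Type u) (_ : CommRing A) (_ : Algebra K A) (_ : Algebra k A) (_ : IsScalarTower k K A) (_ : Algebra.FiniteType K A) (m : Ideal A) (_ : m.IsMaximal), Nonempty (S ≃ₐ[k] Localization.AtPrime m) := by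

  classical
  obtain ⟨s, hs⟩ := exists_isTranscendenceBasis k (IsLocalRing.ResidueField S)
  choose t ht using fun x : s => IsLocalRing.residue_surjective (x : IsLocalRing.ResidueField S)
  let P := MvPolynomial s k
  let ev : P →ₐ[k] S := MvPolynomial.aeval t
  have hres : ∀ p, IsLocalRing.residue S (ev p) =
      MvPolynomial.aeval (Subtype.val : s → IsLocalRing.ResidueField S) p := by
    intro p
    have e : (IsScalarTower.toAlgHom k S (IsLocalRing.ResidueField S)).comp ev =
        MvPolynomial.aeval (Subtype.val : s → IsLocalRing.ResidueField S) :=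
      MvPolynomial.algHom_ext fun i => by
        rw [AlgHom.comp_apply, MvPolynomial.aeval_X, MvPolynomial.aeval_X]; exact ht i
    exact DFunLike.congr_fun e p
  have hunit : ∀ p : nonZeroDivisors P, IsUnit (ev.toRingHom p) := fun p => by
    apply IsLocalRing.notMem_maximalIdeal.mp
    rw [← IsLocalRing.residue_eq_zero_iff]
    show IsLocalRing.residue S (ev p) ≠ 0
    rw [hres]
    exact fun h => nonZeroDivisors.coe_ne_zero p (hs.1.eq_zero_of_aeval_eq_zero _ h)
  let K := FractionRing P
  let φ : K →+* S := IsLocalization.lift (g := ev.toRingHom) hunit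
  letI : Algebra K S := φ.toAlgebra
  haveI : IsScalarTower k K S := IsScalarTower.of_algebraMap_eq fun a => by
    show _ = φ (algebraMap k K a)
    rw [IsScalarTower.algebraMap_apply k P K, IsLocalization.lift_eq]
    exact (ev.commutes a).symm
  let A := Algebra.adjoin K ((Algebra.EssFiniteType.finset k S : Finset S) : Set S)
  haveI : Algebra.FiniteType K A := (Subalgebra.fg_iff_finiteType A).mp (Subalgebra.fg_adjoin_finset _)
  let m : Ideal A := (IsLocalRing.maximalIdeal S).comap A.val
  haveI : m.IsPrime := inferInstance
  -- the residue field of `S` is algebraic over `K`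
  let θ : Algebra.adjoin k (Set.range (Subtype.val : s → IsLocalRing.ResidueField S)) →+* K :=
    (algebraMap P K).comp hs.1.aevalEquiv.symm.toRingEquiv.toRingHom
  have hθ : ∀ a, algebraMap K (IsLocalRing.ResidueField S) (θ a) =
      (a : IsLocalRing.ResidueField S) := by
    intro a
    obtain ⟨p, rfl⟩ := hs.1.aevalEquiv.surjective a
    show IsLocalRing.residue S (φ (algebraMap P K (hs.1.aevalEquiv.symm (hs.1.aevalEquiv p)))) = _
    rw [AlgEquiv.symm_apply_apply, IsLocalization.lift_eq]
    exact hres p
  have hθinj : Function.Injective θ :=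
    (IsFractionRing.injective P K).comp hs.1.aevalEquiv.symm.injective
  haveI : Algebra.IsAlgebraic K (IsLocalRing.ResidueField S) := ⟨fun x => by
    obtain ⟨f, hf0, hfx⟩ := hs.isAlgebraic.isAlgebraic x
    refine ⟨f.map θ, (Polynomial.map_ne_zero_iff hθinj).mpr hf0, ?_⟩
    rw [Polynomial.aeval_def, Polynomial.eval₂_map]
    rw [Polynomial.aeval_def] at hfx
    rw [show (algebraMap K (IsLocalRing.ResidueField S)).comp θ = algebraMap _ (IsLocalRing.ResidueField S) from
      RingHom.ext fun a => hθ a]
    exact hfx⟩
  haveI : m.IsMaximal := by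
    let ρ : A ⧸ m →ₐ[K] IsLocalRing.ResidueField S :=
      Ideal.Quotient.liftₐ m ((IsScalarTower.toAlgHom K S (IsLocalRing.ResidueField S)).comp A.val)
        fun a ha => (IsLocalRing.residue_eq_zero_iff (A.val a)).mpr ha
    have hρ : Function.Injective ρ := by
      rw [injective_iff_map_eq_zero]
      intro q hq
      obtain ⟨a, rfl⟩ := Ideal.Quotient.mk_surjective q
      exact Ideal.Quotient.eq_zero_iff_mem.mpr ((IsLocalRing.residue_eq_zero_iff (A.val a)).mp hq)
    haveI : Algebra.IsAlgebraic K (A ⧸ m) := Algebra.IsAlgebraic.of_injective ρ hρ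
    haveI : Algebra.IsIntegral K (A ⧸ m) := inferInstance
    exact Ideal.Quotient.maximal_of_isField _ (isField_of_isIntegral_of_isField' (R := K) (S := A ⧸ m) (Field.toIsField K))
  have hsub : ∀ x, x ∈ Algebra.EssFiniteType.subalgebra k S → x ∈ A := fun x hx =>
    (Algebra.adjoin_le (S := A.restrictScalars k) (fun y hy => Algebra.subset_adjoin hy)) hx
  haveI : IsLocalization.AtPrime S m := by
    refine ⟨⟨fun y => IsLocalRing.notMem_maximalIdeal.mp y.2, fun z => ?_,
      fun {a b} h => ⟨1, by rw [show a = b from Subtype.ext h]⟩⟩⟩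
    obtain ⟨⟨a, b⟩, hab⟩ := IsLocalization.surj (Algebra.EssFiniteType.submonoid k S) z
    exact ⟨(⟨a, hsub _ a.2⟩, ⟨⟨(b : Algebra.EssFiniteType.subalgebra k S), hsub _ b.1.2⟩,
      IsLocalRing.notMem_maximalIdeal.mpr b.2⟩), hab⟩
  exact ⟨K, inferInstance, inferInstance, A, inferInstance, inferInstance, inferInstance,
    inferInstance, inferInstance, m, inferInstance,
    ⟨((IsLocalization.algEquiv m.primeCompl S (Localization.AtPrime m)).restrictScalars k)⟩⟩

end Groth.Agent.S17797
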