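import Groth.Statements.S17802
import Groth.Agent.LC17.GrConormal
import Groth.Agent.Ega11.FibreComp

set_option autoImplicit false
universe u
open LocCoh

namespace Groth.Agent.S17802

/-- Let (R, m) be a universally catenary Noetherian local domain, I ⊆ m an ideal with R/I
equidimensional, and r a natural number such that the associated graded ring ⊕ Iⁿ/Iⁿ⁺¹, i.e. the
Rees algebra of I modulo the ideal generated by I, satisfies Serre's condition S_r. Let ad(I) be the
analytic deviation: the Krull dimension of ⊕ Iⁿ/mIⁿ (the Rees algebra modulo m) minus the height of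
I. Then for every n ≥ 0 and every prime ideal p ⊇ I of R, the depth of the R_p-module (Iⁿ/Iⁿ⁺¹)_p is
at least min(r, dim (R/I)_p − ad(I)); equivalently every natural number d with d ≤ r and d + dim(⊕
Iⁿ/mIⁿ) ≤ height(p/I) + ht(I) satisfies d ≤ depth (Iⁿ/Iⁿ⁺¹)_p. -/
theorem result (R : Type u) [CommRing R] [IsDomain R] [IsLocalRing R] [IsNoetherianRing R] (huc : CAlg.IsUniversallyCatenary R) (I : Ideal R) (hI : I ≤ IsLocalRing.maximalIdeal R) (heq : EGA4.IsEquidim (R ⧸ I)) (r : ℕ) (hS : LocCoh.HasSk r (↥(reesAlgebra I) ⧸ Ideal.map (algebraMap R ↥(reesAlgebra I)) I) (↥(reesAlgebra I) ⧸ Ideal.map (algebraMap R ↥(reesAlgebra I)) I)) (n : ℕ) (p : Ideal R) [p.IsPrime] (hp : I ≤ p) (d : ℕ) (hdr : d ≤ r) (hd : (d : WithBot ℕ∞) + ringKrullDim (↥(reesAlgebra I) ⧸ Ideal.map (algebraMap R ↥(reesAlgebra I)) (IsLocalRing.maximalIdeal R)) ≤ (((p.map (Ideal.Quotient.mk I)).height : ℕ∞) : WithBot ℕ∞) + ((I.height : ℕ∞) : WithBot ℕ∞)) : (d : ℕ∞) ≤ LocCoh.depth (Localization.AtPrime p) (LocalizedModule p.primeCompl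 (↥(I ^ n) ⧸ (I • (⊤ : Submodule R ↥(I ^ n))))) := by
  classical
  set J := I.map (algebraMap R ↥(reesAlgebra I)) with hJ
  let M := ↥(I ^ n) ⧸ (I • (⊤ : Submodule R ↥(I ^ n)))
  have hsm : ∀ x : ↥(I ^ n), x ∈ I • (⊤ : Submodule R ↥(I ^ n)) ↔ (x : R) ∈ I * I ^ n := fun x => by
    have e : (I • (⊤ : Submodule R ↥(I ^ n))).map (I ^ n : Ideal R).subtype = I * I ^ n := by
      rw [Submodule.map_smul'', Submodule.map_top, Submodule.range_subtype, smul_eq_mul]
    rw [← e]
    exact (Function.Injective.mem_set_image (I ^ n : Ideal R).injective_subtype).symm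
  have hd' : (d : WithBot ℕ∞) + ringKrullDim (↥(reesAlgebra I) ⧸
      Ideal.map (algebraMap R ↥(reesAlgebra I)) (IsLocalRing.maximalIdeal R)) ≤ ((p.height : ℕ∞) : WithBot ℕ∞) := by
    refine hd.trans ?_
    rw [← WithBot.coe_add]
    exact WithBot.coe_le_coe.2 (Groth.Agent.LC17.GrConormal.height_map_add_height_le I p hp)
  refine (Groth.Agent.LC17.natCast_le_depth_loc_iff (M := M) p d).mpr fun i hi => ?_
  by_cases hI0 : I = ⊥
  · -- the Rees algebra of the zero ideal
    rcases Nat.eq_zero_or_pos n with hn | hn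
    · subst hn
      have hh : (d : ℕ∞) ≤ p.height := by
        cases hl : ringKrullDim (↥(reesAlgebra I) ⧸ Ideal.map (algebraMap R ↥(reesAlgebra I)) (IsLocalRing.maximalIdeal R)) with
        | bot =>
          haveI : Nontrivial (↥(reesAlgebra I) ⧸ Ideal.map (algebraMap R ↥(reesAlgebra I)) (IsLocalRing.maximalIdeal R)) :=
            Ideal.Quotient.nontrivial_iff.2 (ne_top_of_le_ne_top (Ideal.IsPrime.ne_top
              (Ideal.IsPrime.comap (Groth.Agent.LC17.GrConormal.eps I) (K := IsLocalRing.maximalIdeal R)))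
              (Groth.Agent.LC17.GrConormal.eps_map_le I))
          have h0 := ringKrullDim_nonneg_of_nontrivial (R := ↥(reesAlgebra I) ⧸ Ideal.map (algebraMap R ↥(reesAlgebra I)) (IsLocalRing.maximalIdeal R))
          rw [hl] at h0
          simp at h0
        | coe w =>
          rw [hl, ← WithBot.coe_natCast, ← WithBot.coe_add] at hd'
          exact le_trans le_self_add (WithBot.coe_le_coe.1 hd')
      have hbij : Function.Bijective ((Ideal.Quotient.mk J).comp (algebraMap R ↥(reesAlgebra I))) := by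
        have hJ0 : J = ⊥ := by rw [hJ, hI0, Ideal.map_bot]
        refine ⟨fun a b h => ?_, fun y => ?_⟩
        · refine Groth.Agent.LC17.GrConormal.algebraMap_injective I ?_
          have := Ideal.Quotient.eq.1 (show Ideal.Quotient.mk J (algebraMap R _ a) = Ideal.Quotient.mk J (algebraMap R _ b) from h)
          rw [hJ0, Ideal.mem_bot] at this
          exact sub_eq_zero.1 this
        · obtain ⟨f, rfl⟩ := Ideal.Quotient.mk_surjective y
          refine ⟨Groth.Agent.LC17.GrConormal.eps I f, congrArg (Ideal.Quotient.mk J) (Subtype.ext ?_)⟩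
          refine Polynomial.ext fun j => ?_
          show (Polynomial.C ((f : Polynomial R).coeff 0)).coeff j = (f : Polynomial R).coeff j
          rcases Nat.eq_zero_or_pos j with rfl | hj
          · simp
          · rw [Polynomial.coeff_C, if_neg hj.ne']
            have h1 : (f : Polynomial R).coeff j ∈ I ^ j := f.2 j
            rw [show I ^ j = ⊥ by rw [hI0, Ideal.bot_pow hj.ne'], Ideal.mem_bot] at h1
            exact h1.symm
      have hR : LocCoh.HasSk r R R := Groth.Agent.Ega11.FibreComp.hasSk_of_ringEquiv (RingEquiv.ofBijective _ hbij).symm r hS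
      have hdep : (d : ℕ∞) ≤ LocCoh.depth (Localization.AtPrime p) (LocalizedModule p.primeCompl R) :=
        le_trans (le_min (by exact_mod_cast hdr) hh) ((Groth.Agent.CAlg1.hasSk_self_iff r).mp hR p)
      have e : M ≃ₗ[R] R := (Submodule.quotEquivOfEqBot _ (by rw [hI0, Submodule.bot_smul])).trans
        (LinearEquiv.ofTop _ (by rw [pow_zero, Ideal.one_eq_top]))
      exact (Groth.Agent.LC17.nul_H_congr p i e).2 ((Groth.Agent.LC17.natCast_le_depth_loc_iff (M := R) p d).mp hdep i hi)
    · haveI : Subsingleton M := by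
        haveI : Subsingleton ↥(I ^ n) := by rw [hI0, Ideal.bot_pow hn.ne']; infer_instance
        exact (Submodule.mkQ_surjective _).subsingleton
      exact Groth.Agent.LC17.nul_H_of_nul p i Groth.Agent.LC17.nul_of_subsingleton
  have hG := Groth.Agent.LC17.GrConormal.idealDepth_bound I huc hI r hS p hp d hdr hd' hI0 i hi
  let ι : ↥(I ^ n) →ₗ[R] ↥(reesAlgebra I) :=
    { toFun := fun a => Groth.Agent.LC17.GrConormal.mon I n a.1 a.2
      map_add' := fun a b => Subtype.ext ((Polynomial.monomial n).map_add a.1 b.1)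
      map_smul' := fun c a => Subtype.ext ((Polynomial.monomial n).map_smul c a.1) }
  let π : ↥(reesAlgebra I) →ₗ[R] ↥(I ^ n) :=
    { toFun := fun f => ⟨(f : Polynomial R).coeff n, f.2 n⟩
      map_add' := fun a b => Subtype.ext (Polynomial.coeff_add _ _ _)
      map_smul' := fun c a => Subtype.ext (Polynomial.coeff_smul c _ n) }
  let f : M →ₗ[R] ↥(reesAlgebra I) ⧸ J := Submodule.liftQ _ ((Ideal.Quotient.mkₐ R J).toLinearMap ∘ₗ ι) (by
    intro x hx
    refine Submodule.smul_induction_on hx (fun c hc y _ => ?_) (fun x y hx hy => add_mem hx hy)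
    refine LinearMap.mem_ker.2 ?_
    show Ideal.Quotient.mk J (ι (c • y)) = 0
    rw [map_smul, Algebra.smul_def]
    exact Ideal.Quotient.eq_zero_iff_mem.2 (Ideal.mul_mem_right _ _ (Ideal.mem_map_of_mem _ hc)))
  let g : (↥(reesAlgebra I) ⧸ J) →ₗ[R] M :=
    (Submodule.liftQ (J.restrictScalars R) ((Submodule.mkQ _) ∘ₗ π) (fun x hx => by
      refine LinearMap.mem_ker.2 ((Submodule.Quotient.mk_eq_zero _).2 ((hsm _).2 ?_))
      exact Groth.Agent.LC17.GrConormal.coeff_mem_smul I hx n)) ∘ₗ
      (Submodule.Quotient.restrictScalarsEquiv R J).symm.toLinearMap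
  have hgf : ∀ x, g (f x) = x := fun x => by
    obtain ⟨a, rfl⟩ := Submodule.mkQ_surjective _ x
    show Submodule.mkQ _ (π (ι a)) = Submodule.mkQ _ a
    congr 1
    exact Subtype.ext (Polynomial.coeff_monomial_same n a.1)
  refine Groth.Agent.LC17.Nul.of_injective (f := Groth.Agent.LC15.Hmap p i f)
    (Function.LeftInverse.injective (g := Groth.Agent.LC15.Hmap p i g) fun y => ?_) hG
  rw [← LinearMap.comp_apply, ← Groth.Agent.LC15.Hmap_comp, show g ∘ₗ f = LinearMap.id from LinearMap.ext hgf,
    Groth.Agent.LC15.Hmap_id, LinearMap.id_apply]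

end Groth.Agent.S17802
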