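import Groth.Statements.S17803
import Groth.Agent.Cohen12.NormalCompletion
import Groth.Agent.Cohen12.FiniteLift
import Groth.Agent.EGA4Alg4.RegCompletion

set_option autoImplicit false
universe u
open EGA4

namespace Groth.Agent.S17803

/-- Let A be an excellent normal domain which is a quotient of a regular ring, I an ideal of A and f ∈
A. Then the I-adic completion of the localization A_f is a normal ring (its localization at every
prime ideal is an integrally closed domain), and it is a quotient of a regular ring. -/
theorem result (A : Type u) [CommRing A] [IsDomain A] [IsIntegrallyClosed A] (hexc : EGA4.IsExcellent A) (hreg : ∃ (R : Type u) (_ : CommRing R) (_ : IsRegularRing R) (φ : R →+* A), Function.Surjective φ) (I : Ideal A) (f : A) : EGA4.IsNormalRing (AdicCompletion (I.map (algebraMap A (Localization.Away f))) (Localization.Away f)) ∧ ∃ (R' : Type u) (_ : CommRing R') (_ : IsRegularRing R') (ψ : R' →+* AdicCompletion (I.map (algebraMap A (Localization.Away f))) (Localization.Away f)), Function.Surjective ψ := by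
  classical
  have : IsNoetherianRing A := hexc.1
  let Af := Localization.Away f
  have : IsNoetherianRing Af := IsLocalization.isNoetherianRing (Submonoid.powers f) Af inferInstance
  refine ⟨Cohen12.isNormalRing_adicCompletion (EGA4H10.isGRing_localization hexc.2.2.1 (Submonoid.powers f)) ?_ _, ?_⟩
  · by_cases hf : f = 0
    · intro P hP
      refine absurd ((Ideal.eq_top_iff_one P).mpr ?_) hP.ne_top
      have h : Subsingleton Af := (IsLocalization.uniqueOfZeroMem (M := Submonoid.powers f)
        ⟨1, by simp [hf]⟩).instSubsingleton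
      rw [Subsingleton.elim (1 : Af) 0]
      exact zero_mem P
    · have hle : Submonoid.powers f ≤ nonZeroDivisors A := powers_le_nonZeroDivisors_of_noZeroDivisors hf
      have : IsDomain Af := IsLocalization.isDomain_localization hle
      have : IsIntegrallyClosed Af := isIntegrallyClosed_of_isLocalization _ (Submonoid.powers f) hle
      exact EGA4H10.normal_of_domain Af
  obtain ⟨R, _, hRreg, ψ, hψ⟩ := hreg
  obtain ⟨g, rfl⟩ := hψ f
  let Rg := Localization.Away g
  let Af' := Localization.Away (ψ g)
  let ψg : Rg →+* Af' := IsLocalization.Away.map Rg Af' ψ g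
  have hψg : Function.Surjective ψg := by
    intro z
    obtain ⟨a, ⟨_, n, rfl⟩, rfl⟩ := IsLocalization.exists_mk'_eq (Submonoid.powers (ψ g)) z
    obtain ⟨r, rfl⟩ := hψ a
    refine ⟨IsLocalization.mk' Rg r (⟨g ^ n, n, rfl⟩ : Submonoid.powers g), ?_⟩
    show IsLocalization.map _ ψ _ _ = _
    rw [IsLocalization.map_mk']
    congr 1
    exact Subtype.ext (map_pow ψ g n)
  have : IsRegularRing Rg := by
    have : IsNoetherianRing Rg := IsLocalization.isNoetherianRing (Submonoid.powers g) Rg inferInstance
    refine isRegularRing_iff.mpr fun P _ => ?_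
    exact IsRegularLocalRing.of_ringEquiv
      (IsLocalization.localizationLocalizationAtPrimeIsoLocalization (Submonoid.powers g) P).toRingEquiv
  let I' : Ideal Af' := I.map (algebraMap A Af')
  let : Algebra Rg Af' := ψg.toAlgebra
  let J : Ideal Rg := I'.comap ψg
  let C := AdicCompletion I' Af'
  let JR := J.map (algebraMap Rg (AdicCompletion J Rg))
  have : IsAdicComplete (I'.map (algebraMap Af' C)) C := AdicCompletion.isAdicComplete_self I' (IsNoetherian.noetherian _)
  have : IsAdicComplete JR (AdicCompletion J Rg) := AdicCompletion.isAdicComplete_self J (IsNoetherian.noetherian _)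
  have hJI : J.map ψg = I' := Ideal.map_comap_of_surjective _ hψg _
  let φ₀ : Rg →ₐ[Rg] C := Algebra.ofId Rg C
  have hφ₀ : J.map φ₀.toRingHom = I'.map (algebraMap Af' C) := by
    rw [show φ₀.toRingHom = (algebraMap Af' C).comp ψg from IsScalarTower.algebraMap_eq Rg Af' C, ← Ideal.map_map, hJI]
  obtain ⟨φ, hφ⟩ := Cohen12.exists_algHom_extension J (I'.map (algebraMap Af' C)) φ₀ hφ₀.le
  refine ⟨AdicCompletion J Rg, inferInstance, EGA4Alg4.RegCompletion13.isRegularRing_adicCompletion J, φ.toRingHom, ?_⟩
  have hJR : JR.map φ.toRingHom = I'.map (algebraMap Af' C) := by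
    rw [Ideal.map_map, ← hφ₀]
    congr 1
    exact RingHom.ext hφ
  have : IsHausdorff (JR.map φ.toRingHom) C := by rw [hJR]; infer_instance
  refine surjective_of_mk_map_comp_surjective (I := JR) φ.toRingHom ?_
  intro z
  obtain ⟨x, rfl⟩ := Ideal.Quotient.mk_surjective z
  obtain ⟨a, ha⟩ := Ideal.Quotient.mk_surjective (AdicCompletion.evalOneₐ I' x)
  obtain ⟨r, rfl⟩ := hψg a
  refine ⟨algebraMap Rg _ r, ?_⟩
  show Ideal.Quotient.mk _ (φ (algebraMap Rg _ r)) = Ideal.Quotient.mk _ x
  rw [Ideal.Quotient.eq, hφ, hJR, ← AdicCompletion.ker_evalOneₐ_eq_map I' (IsNoetherian.noetherian _)]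
  show AdicCompletion.evalOneₐ I' (algebraMap Rg C r - x) = 0
  rw [map_sub, IsScalarTower.algebraMap_apply Rg Af' C, AlgHom.commutes, ← ha, Ideal.Quotient.algebraMap_eq]
  exact sub_self _

end Groth.Agent.S17803
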