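import Groth.Statements.S17825


set_option autoImplicit false
universe u
open CategoryTheory CategoryTheory.Limits AlgebraicGeometry
open JacVar

namespace Groth.Agent.S17825

/-- Let S be a scheme, Y an S-scheme separated over S, F a presheaf of sets on the category of
S-schemes, f : h_Y ⟶ F a morphism from the functor of points of Y, and s : F ⟶ h_Y a section of f (s
followed by f is the identity). Then F is represented by a closed subscheme of Y: there are an
S-scheme Z, a morphism i : Z ⟶ Y over S which is a closed immersion, and an isomorphism F ≅ h_Z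
whose composite with h_i : h_Z ⟶ h_Y is s. (The published lemma treats the case where Y is the r-th
symmetric power of a curve, F the functor of degree-r invertible families modulo twisting and f the
divisor-class map.) -/
theorem result {S : Scheme.{u}} (Y : Over S) [IsSeparated Y.hom]
    (F : (Over S)ᵒᵖ ⥤ Type u) (f : yoneda.obj Y ⟶ F) (s : F ⟶ yoneda.obj Y) (hsf : s ≫ f = 𝟙 F) :
    ∃ (Z : Over S) (i : Z ⟶ Y), IsClosedImmersion i.left ∧
      ∃ e : F ≅ yoneda.obj Z, e.hom ≫ yoneda.map i = s := by
  let p : Y ⟶ Y := yoneda.preimage (f ≫ s)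
  have hp : yoneda.map p = f ≫ s := Functor.map_preimage _ _
  have hpp : p ≫ p = p := by
    apply yoneda.map_injective
    rw [yoneda.map_comp, hp, Category.assoc, ← Category.assoc s, hsf, Category.id_comp]
  let i : equalizer p (𝟙 Y) ⟶ Y := equalizer.ι p (𝟙 Y)
  let r : Y ⟶ equalizer p (𝟙 Y) := equalizer.lift p (by rw [hpp, Category.comp_id])
  have hri : r ≫ i = p := equalizer.lift_ι _ _
  have hir : i ≫ r = 𝟙 _ := by
    apply equalizer.hom_ext
    rw [Category.assoc]
    show i ≫ r ≫ i = 𝟙 _ ≫ i
    rw [hri, Category.id_comp]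
    simpa using equalizer.condition p (𝟙 Y)
  refine ⟨equalizer p (𝟙 Y), i, inferInstance,
    ⟨s ≫ yoneda.map r, yoneda.map i ≫ f, ?_, ?_⟩, ?_⟩
  · rw [Category.assoc, ← Category.assoc (yoneda.map r), ← yoneda.map_comp, hri, hp]
    simp [reassoc_of% hsf, hsf]
  · have : f ≫ s ≫ yoneda.map r = yoneda.map (p ≫ r) := by rw [yoneda.map_comp, hp, Category.assoc]
    rw [Category.assoc, this, ← yoneda.map_comp, ← yoneda.map_id]
    congr 1
    have hic : i ≫ p = i := by simpa using equalizer.condition p (𝟙 Y)
    rw [← Category.assoc, hic, hir]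
  · simp only [Category.assoc, ← yoneda.map_comp, hri, hp]
    simp [reassoc_of% hsf]

end Groth.Agent.S17825
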