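import Groth.Statements.S17831
import Groth.Agent.AutVec57.VectorField
import Groth.Agent.AlgGrp79.Act

set_option autoImplicit false
set_option backward.isDefEq.respectTransparency.types false
universe u
open CategoryTheory MonoidalCategory CartesianMonoidalCategory MonObj GrpObj AlgebraicGeometry
open AutSch

namespace Groth.Agent.S17831

/-- Let k be a field and X a proper k-scheme of dimension at most 1, and let the k-group scheme G,
locally of finite type over k, with its action a be the automorphism group scheme of X over k. Then
G → Spec k is unramified exactly when Der_k(O_X, O_X) = 0, i.e. when every k-derivation of O_X into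
O_X takes the value zero on every section over every open. (Unramified is stated as formally
unramified, G being locally of finite type. The published statement also lists as equivalent that
the automorphism group scheme is geometrically reduced of dimension zero, and a condition on the
moduli stack of curves; this row states the unramified condition only.) -/
theorem result (k : Type u) [Field k]
    (X : Over (Spec (CommRingCat.of k))) [IsProper X.hom] (hdim : topologicalKrullDim ↥X.left ≤ 1)
    (G : Over (Spec (CommRingCat.of k))) [GrpObj G] [LocallyOfFiniteType G.hom] (a : AlgGrp.Action G X)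
    (hG : AutSch.Represents X G a) :
    FormallyUnramified G.hom ↔
      ∀ (D : OmegaSh.Der X.hom (Coh.structureModule X.left)) (U : X.left.Opens) (s : Γ(X.left, U)),
        D.app U s = 0 := by
  have hsec : X ◁ AutVec57.dualPt k = fst X (𝟙_ _) ≫ AutVec57.sec X := by
    refine CartesianMonoidalCategory.hom_ext _ _ ?_ ?_
    · rw [whiskerLeft_fst, Category.assoc, lift_fst, Category.comp_id]
    · rw [whiskerLeft_snd, Category.assoc, lift_snd, ← Category.assoc]
      congr 1
      exact toUnit_unique _ _
  have hfam1 : ∀ T : Over (Spec (CommRingCat.of k)), AutSch.famOf a (1 : T ⟶ G) = fst X T := fun T => by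
    rw [AutSch.famOf, MonObj.comp_one]
    exact AlgGrp79.one_act' a _
  have hauto : ∀ T : Over (Spec (CommRingCat.of k)), AutSch.IsAutFamily (fst X T) := fun T => by
    show IsIso (lift (fst X T) (snd X T))
    rw [lift_fst_snd]
    infer_instance
  have huniq : ∀ (T : Over (Spec (CommRingCat.of k))) (g : T ⟶ G), AutSch.famOf a g = fst X T → g = 1 :=
    fun T g hg => (hG.2 T (fst X T) (hauto T) trivial).unique hg (hfam1 T)
  constructor
  · intro _ D U s
    let v := AutVec57.ofDer D
    obtain ⟨g, hg, -⟩ := hG.2 (AutVec57.dualT k) v.fam v.isAutFamily trivial
    have hg0 : AutVec57.dualPt k ≫ g = 1 := huniq _ _ (by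
      rw [AutSch.famOf_comp, hg]
      show (X ◁ AutVec57.dualPt k) ≫ v.fam = _
      rw [hsec, Category.assoc, v.sec_fam, Category.comp_id])
    rw [AutVec57.tangent_of_formallyUnramified G g hg0, hfam1] at hg
    exact v.eq_zero_of_fam_eq hg.symm U s
  · intro hD
    refine AutVec57.formallyUnramified_of_tangent G fun g hg => huniq _ _ ?_
    refine AutVec57.eq_fst_of_der hD _ ?_
    have h1 : AutSch.pullFam (AutVec57.dualPt k) (AutSch.famOf a g) = fst X (𝟙_ _) := by
      rw [← AutSch.famOf_comp, hg, hfam1]
    change (X ◁ AutVec57.dualPt k) ≫ _ = _ at h1
    rw [hsec, Category.assoc] at h1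
    have h2 := congrArg (fun e => lift (𝟙 X) (toUnit X) ≫ e) h1
    simpa using h2

end Groth.Agent.S17831
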