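import Groth.Statements.S17832
import Groth.Agent.AutFib57.Birational
import Groth.Agent.Approx60.Segre

set_option autoImplicit false
set_option linter.style.haveILetI false
set_option backward.isDefEq.respectTransparency.types false
universe u
open CategoryTheory MonoidalCategory CartesianMonoidalCategory MonObj GrpObj AlgebraicGeometry
open AutSch

namespace Groth.Agent.S17832

/-- Over an algebraically closed field k, let X and Y be normal projective varieties (integral k-schemes
whose local rings are integrally closed domains, each admitting a closed immersion into a projective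
space over k) and f : X → Y a birational k-morphism: f restricts to an isomorphism over some
non-empty open subset of Y. Let (GX, aX) and (GY, aY) be the automorphism group schemes of X and Y
with their universal actions, both locally of finite type, and let H be a closed subgroup scheme of
GY (e : H → GY a homomorphism which is a closed immersion) whose action on Y through e lifts to an
action b of H on X for which f is equivariant. Then the homomorphism ρ : H → GX through which b is
obtained from the universal action is a closed immersion. (The published statement takes for H the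
reduced automorphism group of Y; the form here allows any closed subgroup scheme of the automorphism
group scheme whose action lifts.) -/
theorem result (k : Type u) [Field k] [IsAlgClosed k]
    (X Y : Over (Spec (CommRingCat.of k))) [IsIntegral X.left] [IsIntegral Y.left]
    (hXn : Pi1.IsNormalScheme X.left) (hYn : Pi1.IsNormalScheme Y.left)
    (hX : RelProj.IsHProjective X.hom) (hY : RelProj.IsHProjective Y.hom)
    (f : X ⟶ Y) (U : Y.left.Opens) (hU : (U : Set ↥Y.left).Nonempty) (hf : IsIso (f.left ∣_ U))
    (GX : Over (Spec (CommRingCat.of k))) [GrpObj GX] [LocallyOfFiniteType GX.hom] (aX : AlgGrp.Action GX X)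
    (hGX : AutSch.Represents X GX aX)
    (GY : Over (Spec (CommRingCat.of k))) [GrpObj GY] [LocallyOfFiniteType GY.hom] (aY : AlgGrp.Action GY Y)
    (hGY : AutSch.Represents Y GY aY)
    (H : Over (Spec (CommRingCat.of k))) [GrpObj H] (e : H ⟶ GY) [IsMonHom e] (he : IsClosedImmersion e.left)
    (b : AlgGrp.Action H X) (hb : (H ◁ f) ≫ (e ▷ Y) ≫ aY.act = b.act ≫ f)
    (ρ : H ⟶ GX) [IsMonHom ρ] (hρ : (ρ ▷ X) ≫ aX.act = b.act) :
    IsClosedImmersion ρ.left := by
  haveI : IsProper X.hom := by
    obtain ⟨n, i, hi, e⟩ := hX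
    haveI := hi
    haveI := Groth.Agent.Approx60.Segre.isProper_toBase n (Spec (CommRingCat.of k))
    rw [← e]
    infer_instance
  haveI : IsProper Y.hom := by
    obtain ⟨n, i, hi, e⟩ := hY
    haveI := hi
    haveI := Groth.Agent.Approx60.Segre.isProper_toBase n (Spec (CommRingCat.of k))
    rw [← e]
    infer_instance
  haveI : IsProper f.left := by
    haveI : IsProper (f.left ≫ Y.hom) := by rw [Over.w f]; infer_instance
    exact IsProper.of_comp f.left Y.hom
  haveI := hf
  have happ : ∀ V : Y.left.Opens, IsIso (f.left.app V) := fun V =>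
    Groth.Agent.Curves2.isIso_app_of_birational f.left (fun y => (hYn y).2) U hU V
  obtain ⟨Z, z, hz, hmem⟩ := Groth.Agent.AutFib57.exists_compatLocus f aX
  have hfam : ∀ {T : Over (Spec (CommRingCat.of k))} (h : T ⟶ H),
      AutSch.famOf aX (h ≫ ρ) = AutSch.famOf b h := fun {T} h => by
    simp only [AutSch.famOf]
    rw [← hρ, lift_whiskerRight_assoc, Category.assoc]
  have heq : ∀ {T : Over (Spec (CommRingCat.of k))} (h : T ⟶ H),
      AutSch.famOf b h ≫ f = (f ▷ T) ≫ AutSch.famOf aY (h ≫ e) := fun {T} h => by
    simp only [AutSch.famOf, Category.assoc]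
    rw [← hb, lift_whiskerLeft_assoc, lift_whiskerRight_assoc, comp_lift_assoc, whiskerRight_snd_assoc,
      whiskerRight_fst, Category.assoc]
  obtain ⟨u, hu⟩ := (hmem H ρ).2 ⟨by
    have h := hfam (𝟙 H)
    rw [Category.id_comp] at h
    rw [h]
    exact Groth.Agent.AutFib57.compat_of_descends f (Groth.Agent.AutFib57.endOf_comm f (heq _)), by
    have h := hfam (𝟙 H)⁻¹
    rw [GrpObj.inv_comp, Category.id_comp] at h
    rw [h]
    exact Groth.Agent.AutFib57.compat_of_descends f (Groth.Agent.AutFib57.endOf_comm f (heq _))⟩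
  obtain ⟨hC, hC'⟩ := (hmem Z z).1 ⟨𝟙 Z, Category.id_comp z⟩
  obtain ⟨ψ, hψ, hψc⟩ := Groth.Agent.AutFib57.descends_iff f happ aX z hC hC'
  obtain ⟨ζ, hζ, -⟩ := (AutSch.represents_iff GY aY).1 hGY Z ψ hψ
  have hζf : AutSch.famOf aX z ≫ f = (f ▷ Z) ≫ AutSch.famOf aY ζ := by
    have := congrArg (· ≫ fst Y Z) hψc
    rw [hζ]
    simpa using this
  have hnat : ∀ {T T' : Over (Spec (CommRingCat.of k))} (t : T' ⟶ T) (ψ : Y ⊗ T ⟶ Y),
      (f ▷ T') ≫ AutSch.pullFam t ψ = (X ◁ t) ≫ (f ▷ T) ≫ ψ := fun {T T'} t ψ => by
    simp only [AutSch.pullFam]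
    rw [← whisker_exchange_assoc]
  have hpz : ∀ {T : Over (Spec (CommRingCat.of k))} (t : T ⟶ Z),
      AutSch.famOf aX (t ≫ z) ≫ f = (f ▷ T) ≫ AutSch.famOf aY (t ≫ ζ) := fun {T} t => by
    rw [AutSch.famOf_comp, AutSch.famOf_comp, hnat, ← hζf]
    simp [AutSch.pullFam]
  have hue : u ≫ ζ = e := by
    refine ((AutSch.represents_iff GY aY).1 hGY H _ (Groth.Agent.AutFib57.isIso_endOf_famOf aY e)).unique
      ?_ rfl
    apply Groth.Agent.AutFib57.whiskerRight_cancel f happ
    rw [← hpz u, hu, ← Category.id_comp ρ, hfam, heq, Category.id_comp]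
  let P : Over (Spec (CommRingCat.of k)) :=
    Over.mk (CategoryTheory.Limits.pullback.fst ζ.left e.left ≫ Z.hom)
  let p₁ : P ⟶ Z := Over.homMk (CategoryTheory.Limits.pullback.fst ζ.left e.left) rfl
  let p₂ : P ⟶ H := Over.homMk (CategoryTheory.Limits.pullback.snd ζ.left e.left) (by
    show CategoryTheory.Limits.pullback.snd ζ.left e.left ≫ H.hom = CategoryTheory.Limits.pullback.fst ζ.left e.left ≫ Z.hom
    rw [← Over.w e, ← Over.w ζ, ← Category.assoc, ← CategoryTheory.Limits.pullback.condition, Category.assoc])
  have hp : p₁ ≫ ζ = p₂ ≫ e := Over.OverMorphism.ext CategoryTheory.Limits.pullback.condition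
  have hback : p₂ ≫ u = p₁ := by
    haveI := hz
    have : (p₂ ≫ u) ≫ z = p₁ ≫ z := by
      refine ((AutSch.represents_iff GX aX).1 hGX P _ (Groth.Agent.AutFib57.isIso_endOf_famOf aX (p₁ ≫ z))).unique
        ?_ rfl
      refine Groth.Agent.AutFib57.famOf_lift_unique f U hU (Groth.Agent.AutFib57.isIso_endOf_famOf aX _)
        ?_ (hpz p₁)
      rw [Category.assoc, hu, hfam, heq, hp]
    apply Over.OverMorphism.ext
    rw [← cancel_mono z.left]
    exact congrArg Over.Hom.left this
  let l : H.left ⟶ CategoryTheory.Limits.pullback ζ.left e.left :=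
    CategoryTheory.Limits.pullback.lift u.left (𝟙 _) (by rw [← Over.comp_left, hue, Category.id_comp])
  haveI := hz
  haveI := he
  have hl : IsIso l := ⟨p₂.left, CategoryTheory.Limits.pullback.lift_snd _ _ _, by
    refine CategoryTheory.Limits.pullback.hom_ext ?_ ?_
    · rw [Category.assoc, CategoryTheory.Limits.pullback.lift_fst, Category.id_comp]
      exact congrArg Over.Hom.left hback
    · rw [Category.assoc, CategoryTheory.Limits.pullback.lift_snd, Category.id_comp, Category.comp_id]
      rfl⟩
  have hρl : ρ.left = l ≫ CategoryTheory.Limits.pullback.fst ζ.left e.left ≫ z.left := by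
    rw [CategoryTheory.Limits.pullback.lift_fst_assoc, ← hu]
    rfl
  rw [hρl]
  infer_instance

end Groth.Agent.S17832
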