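import Groth.Statements.S17833
import Groth.Agent.AlgGrp79.Act
import Groth.Agent.AlgGrp79.Pullback
import Groth.Agent.AlgGrp79.Cover
import Groth.Agent.AlgGrp79.KernelPts
import Groth.Agent.AlgGrp79.SepDense
import Groth.Agent.AlgGrp79.ProdDense
import Groth.Agent.AlgGrp79.KernelDescent
import Groth.Agent.AlgGrp79.PtsLemmas
import Groth.Agent.AlgGrp79.ProperAffine

set_option autoImplicit false
universe u
open CategoryTheory MonoidalCategory CartesianMonoidalCategory MonObj GrpObj AlgebraicGeometry
open AlgGrp

namespace Groth.Agent.S17833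
open Groth.Agent.AlgGrp79 CategoryTheory.Limits
open scoped commutatorElement

/-- Over an algebraically closed field k, let G be a connected smooth k-group scheme of finite type (in
the terminology of the notes, a smooth connected algebraic group), and H an affine normal subgroup
scheme of G such that the quotient G/H is an abelian variety: here j : H → G is the kernel of a flat
surjective homomorphism q : G → Q of k-group schemes with Q proper over k, and H is affine. Then an
automorphism u of the algebraic group G which fixes H pointwise (j ∘ u = j) and induces the identity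
of Q (q ∘ u = q) is the identity. Equivalently, the map from the group of automorphisms of G fixing
H pointwise to the automorphism group of G/H is injective. -/
theorem result (k : Type u) [Field k] [IsAlgClosed k]
    (G H Q : Over (Spec (CommRingCat.of k))) [GrpObj G] [GrpObj H] [GrpObj Q]
    [Smooth G.hom] [QuasiCompact G.hom] [ConnectedSpace ↥G.left]
    [IsAffine H.left] [IsProper Q.hom]
    (j : H ⟶ G) [IsMonHom j] (q : G ⟶ Q) [IsMonHom q] [Flat q.left] [Surjective q.left]
    (hker : AlgGrp.IsKernel j q)
    (u : G ≅ G) [IsMonHom u.hom] (hH : j ≫ u.hom = j) (hQ : u.hom ≫ q = q) :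
    u.hom = 𝟙 G := by
  have := mono_of_isKernel hker
  obtain ⟨d, hd⟩ := exists_ker_of_comp_one hker (u.hom * (𝟙 G)⁻¹) (by
    rw [mul_comp', GrpObj.inv_comp, hQ, Category.id_comp, mul_inv_cancel])
  have hcov : IsCov q := isCov_of_flat_surjective q
  obtain ⟨e, he⟩ := hcov.desc d fun T a b hab => by
    obtain ⟨n, hn⟩ := exists_ker_of_comp_one hker (a⁻¹ * b) (by
      rw [mul_comp', GrpObj.inv_comp, hab, inv_mul_cancel])
    have hb : b = a * (n ≫ j) := by rw [hn, mul_inv_cancel_left]
    rw [← cancel_mono j, Category.assoc, Category.assoc, hd, MonObj.comp_mul, MonObj.comp_mul, GrpObj.comp_inv,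
      GrpObj.comp_inv, Category.comp_id, Category.comp_id, hb, mul_comp', Category.assoc, hH, _root_.mul_inv_rev]
    group
  have hQc : ConnectedSpace Q.left := q.left.surjective.connectedSpace q.left.continuous
  have : LocallyOfFiniteType H.hom := by
    rw [← Over.w j]
    have : LocallyOfFiniteType j.left :=
      MorphismProperty.of_isPullback (P := @LocallyOfFiniteType) (isPullback_left hker).flip
        (by
          have : LocallyOfFiniteType (η[Q].left ≫ Q.hom) := by rw [Over.w]; exact inferInstanceAs (LocallyOfFiniteType (𝟙 (Spec (CommRingCat.of k))))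
          exact locallyOfFiniteType_of_comp _ Q.hom)
    infer_instance
  have hsub := subsingleton_range_of_proper_to_affine Q.hom e.left H.hom (Over.w e)
  have hd1 : η[G] ≫ d = 1 := by
    rw [← cancel_mono j, Category.assoc, hd, MonObj.comp_mul, GrpObj.comp_inv, MonObj.one_comp, IsMonHom.one_hom, Category.comp_id,
      mul_inv_cancel]
  have key : d = 1 := by
    have := isSeparated_grp H
    refine PtsDense.hom_ext (K' := k) (ptsDense_of_smooth G) d 1 fun g => ?_
    let w : Pt k k ⟶ 𝟙_ (Over (Spec (CommRingCat.of k))) := toUnit _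
    have hw : (Over.homMk (𝟙 _) (by simp) : 𝟙_ (Over (Spec (CommRingCat.of k))) ⟶ Pt k k) ≫ w = 𝟙 _ := toUnit_unique _ _
    let v : 𝟙_ (Over (Spec (CommRingCat.of k))) ⟶ Pt k k := Over.homMk (𝟙 _) (by simp)
    have hwv : w ≫ v = 𝟙 _ := by
      ext : 1
      show w.left ≫ 𝟙 _ = 𝟙 _
      have := Over.w w
      simpa [w] using this
    have hp : v ≫ g ≫ d = 1 := by
      refine Eq.trans (pts_eq_of_apply_eq _ (η[G] ≫ d) ?_) hd1
      rw [← he]
      simp only [Over.comp_left, Scheme.Hom.comp_apply]
      exact hsub ⟨_, rfl⟩ ⟨_, rfl⟩
    have := congrArg (w ≫ ·) hp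
    simp only [reassoc_of% hwv, MonObj.comp_one] at this
    rw [this, MonObj.comp_one]
  rw [key, MonObj.one_comp] at hd
  exact (mul_inv_eq_one.1 hd.symm)
end Groth.Agent.S17833
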