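import Groth.Statements.S17837
import Groth.Agent.AutFib57.Descends
import Groth.Agent.Approx60.Segre

set_option autoImplicit false
set_option linter.style.haveILetI false
set_option backward.isDefEq.respectTransparency.types false
universe u
open CategoryTheory MonoidalCategory CartesianMonoidalCategory MonObj GrpObj AlgebraicGeometry
open AutSch

namespace Groth.Agent.S17837

/-- Over an algebraically closed field k, let f : X → Y be a fibration: X and Y are projective varieties
(integral k-schemes with closed immersions into projective spaces over k) and f is a k-morphism with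
O_Y → f_*O_X an isomorphism (bijective on sections over every open of Y). Let (GX, aX) be the
automorphism group scheme of X with its universal action, locally of finite type, and let the
k-group scheme Gf with its action af on X represent the automorphisms of f: the families φ of
automorphisms of X parametrised by T whose associated T-automorphism of X × T descends along f × T
to the T-automorphism associated with some family of automorphisms of Y. Then the homomorphism ρ :
Gf → GX through which af is obtained from the universal action (the first projection from the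
automorphism group scheme of f) is a closed immersion. -/
theorem result (k : Type u) [Field k] [IsAlgClosed k]
    (X Y : Over (Spec (CommRingCat.of k))) [IsIntegral X.left] [IsIntegral Y.left]
    (hX : RelProj.IsHProjective X.hom) (hY : RelProj.IsHProjective Y.hom)
    (f : X ⟶ Y) (hf : ∀ U : Y.left.Opens, IsIso (f.left.app U))
    (GX : Over (Spec (CommRingCat.of k))) [GrpObj GX] [LocallyOfFiniteType GX.hom] (aX : AlgGrp.Action GX X)
    (hGX : AutSch.Represents X GX aX)
    (Gf : Over (Spec (CommRingCat.of k))) [GrpObj Gf] (af : AlgGrp.Action Gf X)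
    (hGf : AutSch.RepresentsSub X
      (fun T φ => ∃ ψ : Y ⊗ T ⟶ Y, AutSch.IsAutFamily ψ ∧ AutSch.endOf φ ≫ (f ▷ T) = (f ▷ T) ≫ AutSch.endOf ψ) Gf af)
    (ρ : Gf ⟶ GX) [IsMonHom ρ] (hρ : (ρ ▷ X) ≫ aX.act = af.act) :
    IsClosedImmersion ρ.left := by
  haveI : IsProper X.hom := by
    obtain ⟨n, i, hi, e⟩ := hX
    haveI := hi
    haveI := Groth.Agent.Approx60.Segre.isProper_toBase n (Spec (CommRingCat.of k))
    rw [← e]
    infer_instance
  haveI : IsProper Y.hom := by
    obtain ⟨n, i, hi, e⟩ := hY
    haveI := hi
    haveI := Groth.Agent.Approx60.Segre.isProper_toBase n (Spec (CommRingCat.of k))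
    rw [← e]
    infer_instance
  haveI : IsProper f.left := by
    haveI : IsProper (f.left ≫ Y.hom) := by rw [Over.w f]; infer_instance
    exact IsProper.of_comp f.left Y.hom
  obtain ⟨Z, z, hz, hmem⟩ := Groth.Agent.AutFib57.exists_compatLocus f aX
  have hfam : ∀ {T : Over (Spec (CommRingCat.of k))} (h : T ⟶ Gf),
      AutSch.famOf aX (h ≫ ρ) = AutSch.famOf af h := fun {T} h => by
    simp only [AutSch.famOf]
    rw [← hρ, lift_whiskerRight_assoc, Category.assoc]
  obtain ⟨u, hu⟩ := (hmem Gf ρ).2 ⟨by
    obtain ⟨ψ, -, hψ⟩ := hGf.1 Gf (𝟙 Gf)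
    have h := hfam (𝟙 Gf)
    rw [Category.id_comp] at h
    rw [h]
    exact Groth.Agent.AutFib57.compat_of_descends f hψ, by
    obtain ⟨ψ, -, hψ⟩ := hGf.1 Gf (𝟙 Gf)⁻¹
    have h := hfam (𝟙 Gf)⁻¹
    rw [GrpObj.inv_comp, Category.id_comp] at h
    rw [h]
    exact Groth.Agent.AutFib57.compat_of_descends f hψ⟩
  obtain ⟨hC, hC'⟩ := (hmem Z z).1 ⟨𝟙 Z, Category.id_comp z⟩
  obtain ⟨w, hw, -⟩ := hGf.2 Z (AutSch.famOf aX z) (Groth.Agent.AutFib57.isIso_endOf_famOf aX z)
    (Groth.Agent.AutFib57.descends_iff f hf aX z hC hC')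
  have hwρ : w ≫ ρ = z :=
    ((AutSch.represents_iff GX aX).1 hGX Z _ (Groth.Agent.AutFib57.isIso_endOf_famOf aX z)).unique
      ((hfam w).trans hw) rfl
  have huw : u ≫ w = 𝟙 Gf := by
    obtain ⟨g₀, -, huniq⟩ := hGf.2 Gf (AutSch.famOf af (𝟙 Gf))
      (Groth.Agent.AutFib57.isIso_endOf_famOf af (𝟙 Gf)) (hGf.1 Gf _)
    refine (huniq _ ?_).trans (huniq _ rfl).symm
    show AutSch.famOf af (u ≫ w) = AutSch.famOf af (𝟙 Gf)
    rw [← hfam, ← hfam, Category.assoc, hwρ, hu, Category.id_comp]
  haveI := hz
  haveI : Mono z.left := inferInstance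
  have hwu : w.left ≫ u.left = 𝟙 _ := by
    rw [← cancel_mono z.left, Category.id_comp, Category.assoc, ← Over.comp_left, hu, ← Over.comp_left, hwρ]
  haveI : IsIso u.left := ⟨w.left, by rw [← Over.comp_left, huw]; rfl, hwu⟩
  rw [← hu, Over.comp_left]
  infer_instance

end Groth.Agent.S17837
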