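import Groth.Statements.S17840
import Groth.Agent.Cyc90.FlatRelDim

set_option autoImplicit false
universe u
open CategoryTheory AlgebraicGeometry
open Cyc

namespace Groth.Agent.S17840

/-- Let (Y, δY) be a locally Noetherian scheme with universally catenary local rings and a dimension
function, f : X ⟶ Y a flat morphism locally of finite type between irreducible schemes with generic
points ξ and η, and δX the induced function on X, δX(x) = δY(f x) + trdeg_{κ(f x)} κ(x). Put d =
δX(ξ) − δY(η). Then d ≥ 0, every irreducible component of every fibre of f has dimension d, and for
every point x of X the fibre of f over f(x) has dimension d. (The published statement is for schemes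
separated of finite type over a Noetherian excellent regular separated base S with δ the S-dimension
— transcendence degree of the residue field minus the dimension of the local ring of S at the image
point — and for the fibre over every point of Y; the fibre over a point outside f(X) is empty, so
the dimension statement is made here at points of the image; this row allows any dimension function
δY on a locally Noetherian Y with universally catenary local rings, with δX induced from it.) -/
theorem result {X Y : Scheme.{u}} (f : X ⟶ Y) [Flat f] [LocallyOfFiniteType f]
    [IrreducibleSpace X] [IrreducibleSpace Y] (δX : X → ℤ) (δY : Y → ℤ) (hY : Cyc.IsSetup Y δY)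
    (hδ : Cyc.DeltaCompat f δX δY) :
    0 ≤ δX (genericPoint X) - δY (genericPoint Y) ∧
      Cyc.HasRelDim f (δX (genericPoint X) - δY (genericPoint Y)).toNat ∧
      ∀ x : X, topologicalKrullDim ↥(f.fiber (f x)) =
        ((δX (genericPoint X) - δY (genericPoint Y)).toNat : WithBot ℕ∞) := by
  have key := fun z hz => Groth.Agent.Cyc90.fdeg_eq_of_flat_of_irreducible f hY hδ z hz
  have hd : ∀ z, Groth.Agent.E4O.IsFibreMax f z → Groth.Agent.E4O.fdeg f z =
      (δX (genericPoint X) - δY (genericPoint Y)).toNat := fun z hz => by
    have := key z hz
    omega
  refine ⟨?_, fun y T hT => ?_, fun x => ?_⟩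
  · obtain ⟨z, -, -, hz, -⟩ := Groth.Agent.E4O.exists_isFibreMax_specializes f (genericPoint X)
    have := key z hz
    omega
  · obtain ⟨z, -, hz, hT⟩ := Groth.Agent.E4O.exists_of_mem_irreducibleComponents_fiber f hT
    rw [hT, hd _ hz]
  · refine le_antisymm ((Groth.Agent.E4O.dim_fiber_le_iff f _ _).2 fun z hz => ?_) ?_
    · obtain ⟨w, -, -, hw, -, hle⟩ := Groth.Agent.E4O.exists_isFibreMax_specializes f z
      rw [hd w hw] at hle
      exact_mod_cast hle
    · obtain ⟨w, -, hwx, hw, -⟩ := Groth.Agent.E4O.exists_isFibreMax_specializes f x
      have := Groth.Agent.E4O.le_dim_fiber f w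
      rw [hd w hw, hwx] at this
      exact this

end Groth.Agent.S17840
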