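import Groth.Statements.S17843
import Mathlib.RingTheory.FinitePresentation
import Mathlib.Algebra.Polynomial.Lifts
import Mathlib.RingTheory.Localization.Integer
import Mathlib.RingTheory.Ideal.Quotient.Operations

set_option autoImplicit false
universe u v
open CAlg

namespace Groth.Agent.S17843

/-- In the case of an affine scheme of finite presentation, let B be a finitely presented R-algebra, r ∈
R, and x : B → R[1/r][T] an R-algebra homomorphism whose value at T = 0, a homomorphism B → R[1/r],
is induced by a homomorphism x̃₀ : B → R. Then for every large enough n, the homomorphism x(rⁿT) : B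
→ R[1/r][T] is induced by a homomorphism x̃ : B → R[T] whose value at T = 0 is x̃₀. The published
statement is for algebraic spaces locally of finite presentation over R; this row takes an affine
scheme of finite presentation. -/
theorem result
    (R : Type u) (B : Type v) [CommRing R] [CommRing B] [Algebra R B]
    [Algebra.FinitePresentation R B] (r : R)
    (x : B →ₐ[R] Polynomial (Localization.Away r))
    (x₀ : B →ₐ[R] R)
    (hx₀ : (algebraMap R (Localization.Away r)).comp x₀.toRingHom =
      (Polynomial.evalRingHom 0).comp x.toRingHom) :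
    ∃ N : ℕ, ∀ n : ℕ, N ≤ n →
      ∃ y : B →ₐ[R] Polynomial R,
        (Polynomial.evalRingHom 0).comp y.toRingHom = x₀.toRingHom ∧
        (Polynomial.mapRingHom (algebraMap R (Localization.Away r))).comp y.toRingHom =
          (Polynomial.aeval (Polynomial.C (algebraMap R (Localization.Away r) (r ^ n)) * Polynomial.X) :
              Polynomial (Localization.Away r) →ₐ[Localization.Away r] Polynomial (Localization.Away r)).toRingHom.comp
            x.toRingHom := by

  classical
  set S := Submonoid.powers r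
  let L := Localization.Away r
  let α : R →+* L := algebraMap R L
  obtain ⟨m, φ, hφ, hker⟩ := ‹Algebra.FinitePresentation R B›.out
  obtain ⟨G, hG'⟩ := hker
  have hG : Ideal.span (G : Set (MvPolynomial (Fin m) R)) = RingHom.ker φ :=
    hG'.trans (Ideal.ext fun _ => Iff.rfl)
  let P : Fin m → Polynomial L := fun i => x (φ (MvPolynomial.X i))
  have hP0 : ∀ i, (P i).coeff 0 = α (x₀ (φ (MvPolynomial.X i))) := fun i => by
    have := RingHom.congr_fun hx₀ (φ (MvPolynomial.X i))
    rw [Polynomial.coeff_zero_eq_eval_zero]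
    exact this.symm
  obtain ⟨⟨_, N0, rfl⟩, ht⟩ := IsLocalization.exist_integer_multiples S
    (Finset.univ.sigma fun i => (P i).support : Finset ((_ : Fin m) × ℕ)) (fun z => (P z.1).coeff z.2)
  -- lifts of the rescaled polynomials
  have hW : ∀ i, ∃ W : Polynomial R, W.coeff 0 = x₀ (φ (MvPolynomial.X i)) ∧
      W.map α = (P i).comp (Polynomial.C (α (r ^ N0)) * Polynomial.X) := by
    intro i
    have hl : (P i).comp (Polynomial.C (α (r ^ N0)) * Polynomial.X) ∈ Polynomial.lifts α := by
      rw [Polynomial.lifts_iff_coeff_lifts]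
      intro d
      rw [Polynomial.comp_C_mul_X_coeff]
      rcases d with _ | d
      · exact ⟨x₀ (φ (MvPolynomial.X i)), by rw [pow_zero, mul_one, hP0]⟩
      · by_cases hd : d + 1 ∈ (P i).support
        · obtain ⟨a, ha⟩ := ht ⟨i, d + 1⟩ (Finset.mem_sigma.mpr ⟨Finset.mem_univ _, hd⟩)
          refine ⟨a * (r ^ N0) ^ d, ?_⟩
          rw [map_mul, map_pow]
          show algebraMap R L a * _ = _
          rw [ha, Algebra.smul_def]
          show α (r ^ N0) * (P i).coeff (d + 1) * _ = _
          ring
        · exact ⟨0, by rw [map_zero, Polynomial.notMem_support_iff.mp hd, zero_mul]⟩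
    obtain ⟨W, hW⟩ := (Polynomial.mem_lifts _).mp hl
    refine ⟨W - Polynomial.C (W.coeff 0) + Polynomial.C (x₀ (φ (MvPolynomial.X i))), by simp, ?_⟩
    have h0 : α (W.coeff 0) = α (x₀ (φ (MvPolynomial.X i))) := by
      rw [← Polynomial.coeff_map, hW, Polynomial.comp_C_mul_X_coeff, hP0, pow_zero, mul_one]
    rw [Polynomial.map_add, Polynomial.map_sub, Polynomial.map_C, Polynomial.map_C, h0, hW,
      sub_add_cancel]
  choose W hW0 hWmap using hW
  let ψ : MvPolynomial (Fin m) R →ₐ[R] Polynomial R := MvPolynomial.aeval W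
  let xs : MvPolynomial (Fin m) R →ₐ[R] Polynomial L :=
    ((Polynomial.aeval (R := L) (Polynomial.C (α (r ^ N0)) * Polynomial.X)).restrictScalars R).comp
      (x.comp φ)
  have hψ : ∀ F, (ψ F).map α = xs F := by
    intro F
    have : (Polynomial.mapRingHom α).comp ψ.toRingHom = xs.toRingHom := by
      refine MvPolynomial.ringHom_ext (fun c => ?_) fun i => ?_
      · show (ψ (MvPolynomial.C c)).map α = xs (MvPolynomial.C c)
        rw [← MvPolynomial.algebraMap_eq, AlgHom.commutes, AlgHom.commutes]
        show (Polynomial.C c).map α = Polynomial.C (α c)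
        rw [Polynomial.map_C]
      · show (ψ (MvPolynomial.X i)).map α = xs (MvPolynomial.X i)
        rw [show ψ (MvPolynomial.X i) = W i from MvPolynomial.aeval_X _ _, hWmap]
        rfl
    exact RingHom.congr_fun this F
  have hψ0 : ∀ F, (ψ F).coeff 0 = x₀ (φ F) := by
    intro F
    have : (Polynomial.aeval (0 : R)).comp ψ = x₀.comp φ := by
      refine MvPolynomial.algHom_ext fun i => ?_
      show Polynomial.aeval (0 : R) (ψ (MvPolynomial.X i)) = _
      rw [show ψ (MvPolynomial.X i) = W i from MvPolynomial.aeval_X _ _,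
        ← Polynomial.coeff_zero_eq_aeval_zero, hW0]
      rfl
    have := AlgHom.congr_fun this F
    rwa [AlgHom.comp_apply, ← Polynomial.coeff_zero_eq_aeval_zero] at this
  have hkill : ∀ F ∈ G, ∀ d, ∃ e, r ^ e * (ψ F).coeff d = 0 := by
    intro F hF d
    have h : α ((ψ F).coeff d) = 0 := by
      rw [← Polynomial.coeff_map, hψ]
      have : φ F = 0 := (hG ▸ Submodule.subset_span hF : F ∈ RingHom.ker φ)
      show (Polynomial.aeval (R := L) (Polynomial.C (α (r ^ N0)) * Polynomial.X) (x (φ F))).coeff d = 0
      rw [this, map_zero, map_zero, Polynomial.coeff_zero]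
    obtain ⟨⟨_, e, rfl⟩, he⟩ := (IsLocalization.map_eq_zero_iff S L _).mp h
    exact ⟨e, he⟩
  choose ek hek using hkill
  obtain ⟨E, hE⟩ : ∃ E, ∀ F (hF : F ∈ G), ∀ d ∈ (ψ F).support, ek F hF d ≤ E := by
    refine ⟨G.attach.sup fun F => (ψ F.1).support.sup fun d => ek F.1 F.2 d, fun F hF d hd => ?_⟩
    refine le_trans ?_ (Finset.le_sup (Finset.mem_attach G ⟨F, hF⟩))
    exact Finset.le_sup (f := ek F hF) hd
  refine ⟨N0 + E, fun n hn => ?_⟩
  obtain ⟨j, rfl⟩ := Nat.exists_eq_add_of_le (le_trans (Nat.le_add_right N0 E) hn)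
  let ψn : MvPolynomial (Fin m) R →ₐ[R] Polynomial R :=
    (Polynomial.aeval (Polynomial.C (r ^ j) * Polynomial.X)).comp ψ
  have hψn : ∀ F, ψn F = (ψ F).comp (Polynomial.C (r ^ j) * Polynomial.X) := fun F => rfl
  have hkerle : RingHom.ker φ ≤ RingHom.ker ψn := by
    rw [← hG]
    refine Submodule.span_le.mpr fun F hF => ?_
    show ψn F = 0
    ext d
    rw [hψn, Polynomial.comp_C_mul_X_coeff, Polynomial.coeff_zero]
    rcases d with _ | d
    · have : φ F = 0 := (hG ▸ Submodule.subset_span hF : F ∈ RingHom.ker φ)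
      rw [hψ0, this, map_zero, zero_mul]
    · by_cases hd : d + 1 ∈ (ψ F).support
      · have h1 : ek F hF (d + 1) ≤ j := by
          have h2 : ek F hF (d + 1) ≤ E := hE F hF _ hd
          omega
        have hk : r ^ j * (ψ F).coeff (d + 1) = 0 := by
          rw [← Nat.sub_add_cancel h1, pow_add, mul_assoc, hek F hF (d + 1), mul_zero]
        rw [pow_succ, ← mul_assoc, mul_comm (Polynomial.coeff _ _), mul_assoc,
          mul_comm (Polynomial.coeff _ _), hk, mul_zero]
      · rw [Polynomial.notMem_support_iff.mp hd, zero_mul]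
  let y : B →ₐ[R] Polynomial R :=
    (Ideal.Quotient.liftₐ (RingHom.ker φ) ψn hkerle).comp
      (Ideal.quotientKerAlgEquivOfSurjective hφ).symm.toAlgHom
  have hy : ∀ F, y (φ F) = ψn F := by
    intro F
    show Ideal.Quotient.liftₐ (RingHom.ker φ) ψn hkerle
      ((Ideal.quotientKerAlgEquivOfSurjective hφ).symm (φ F)) = _
    rw [show φ F = Ideal.quotientKerAlgEquivOfSurjective hφ (Ideal.Quotient.mk _ F) from rfl,
      AlgEquiv.symm_apply_apply]
    rfl
  refine ⟨y, RingHom.ext fun b => ?_, RingHom.ext fun b => ?_⟩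
  · obtain ⟨F, rfl⟩ := hφ b
    show (y (φ F)).eval 0 = x₀ (φ F)
    rw [hy, hψn, ← Polynomial.coeff_zero_eq_eval_zero, Polynomial.comp_C_mul_X_coeff, pow_zero,
      mul_one, hψ0]
  · obtain ⟨F, rfl⟩ := hφ b
    show (y (φ F)).map α = (x (φ F)).comp (Polynomial.C (α (r ^ (N0 + j))) * Polynomial.X)
    rw [hy, hψn, Polynomial.map_comp, hψ, Polynomial.map_mul, Polynomial.map_C, Polynomial.map_X]
    show ((x (φ F)).comp (Polynomial.C (α (r ^ N0)) * Polynomial.X)).comp _ = _
    rw [Polynomial.comp_assoc]
    congr 1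
    rw [Polynomial.mul_comp, Polynomial.C_comp, Polynomial.X_comp, ← mul_assoc, ← Polynomial.C_mul,
      ← map_mul, ← pow_add]

end Groth.Agent.S17843
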