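import Groth.Statements.S17844
import Groth.Agent.Tors37.QuillenAffine

set_option autoImplicit false
open CategoryTheory CategoryTheory.Limits MonoidalCategory CartesianMonoidalCategory MonObj GrpObj AlgebraicGeometry
universe u
open NonAbH1

namespace Groth.Agent.S17844

/-- For torsors under a group scheme locally of finite presentation, let S be an affine scheme, G an
S-group scheme locally of finite presentation and X an fppf torsor over the affine space 𝔸ⁿ_S (n
finite) under the base change of G. Suppose that Zariski locally on S the torsor X descends: every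
point of S has an open neighbourhood U ↪ S and a torsor P under G_U over U whose base change to 𝔸ⁿ_U
is equivariantly isomorphic to the restriction of X (both regarded as actions of the base change of
G along 𝔸ⁿ_U → S through the canonical identifications of iterated base changes). Then X is
equivariantly isomorphic to the base change of a G-torsor over S. The published statement also
allows more general group functors and graded algebras in place of the polynomial algebra;
affineness of S cannot be dropped. -/
theorem result
    (S : Scheme.{u}) [IsAffine S] (n : Type u) [Finite n]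
    (G : Over S) [GrpObj G] [LocallyOfFinitePresentation G.hom]
    (X : NonAbH1.TorsorSch (Red.bc (𝔸(n; S) ↘ S) G) Scheme.fppfPrecoverage)
    (hloc : ∀ s : S, ∃ (U : Scheme.{u}) (j : U ⟶ S) (_ : IsOpenImmersion j), s ∈ Set.range j.base ∧
      ∃ P : NonAbH1.TorsorSch (Red.bc j G) Scheme.fppfPrecoverage,
        Nonempty (NonAbH1.EquivIso
          ((P.act.bc (pullback.snd (𝔸(n; S) ↘ S) j)).restrict
            (ActBC.bcCompIso (pullback.snd (𝔸(n; S) ↘ S) j) j G rfl).inv)
          ((X.act.bc (pullback.fst (𝔸(n; S) ↘ S) j)).restrict
            (ActBC.bcCompIso (pullback.fst (𝔸(n; S) ↘ S) j) (𝔸(n; S) ↘ S) G pullback.condition).inv))) :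
    ∃ P : NonAbH1.TorsorSch G Scheme.fppfPrecoverage,
      Nonempty (NonAbH1.EquivIso (P.act.bc (𝔸(n; S) ↘ S)) X.act) := by
  have : IsIso (AffineSpace.map n S.isoSpec.inv) :=
    ⟨AffineSpace.map n S.isoSpec.hom, by rw [← AffineSpace.map_comp, Iso.inv_hom_id, AffineSpace.map_id],
      by rw [← AffineSpace.map_comp, Iso.hom_inv_id, AffineSpace.map_id]⟩
  have hσ : ((AffineSpace.SpecIso n Γ(S, ⊤)).symm ≪≫ asIso (AffineSpace.map n S.isoSpec.inv)).hom ≫ (𝔸(n; S) ↘ S) =
      Spec.map (CommRingCat.ofHom (algebraMap Γ(S, ⊤) (MvPolynomial n Γ(S, ⊤)))) ≫ S.isoSpec.symm.hom := by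
    simp only [Iso.trans_hom, Iso.symm_hom, asIso_hom, Category.assoc, AffineSpace.map_over,
      AffineSpace.SpecIso_inv_over_assoc]
    rfl
  exact Groth.Agent.Tors37.exists_descent_of_locally S.isoSpec.symm n _ hσ X.isTorsor hloc

end Groth.Agent.S17844
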