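import Groth.Statements.S17849
import Mathlib
import Mathlib.Tactic

set_option autoImplicit false
open CategoryTheory
open GalLat

namespace Groth.Agent.S17849

section
attribute [local instance 10000] Rep.hV2
attribute [local instance 10000] Prod.instModule

open CategoryTheory in
theorem isZero_H1_iff {G : Type} [Group G] (A : Rep ℤ G) :
    Limits.IsZero (groupCohomology A 1) ↔
      ∀ f : G → A, (∀ g h, f (g * h) = A.ρ g (f h) + f g) → ∃ m : A, ∀ g, f g = A.ρ g m - m := by
  constructor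
  · intro hz f hf
    have hmem : f ∈ groupCohomology.cocycles₁ A := (groupCohomology.mem_cocycles₁_iff f).2 hf
    haveI := ModuleCat.subsingleton_of_isZero hz
    obtain ⟨m, hm⟩ := (groupCohomology.H1π_eq_zero_iff ⟨f, hmem⟩).1 (Subsingleton.elim _ _)
    exact ⟨m, fun g => (congrFun hm g).symm⟩
  · intro h
    refine ModuleCat.isZero_iff_subsingleton.2 (subsingleton_of_forall_eq 0 fun x => ?_)
    induction x using groupCohomology.H1_induction_on with
    | h y =>
      obtain ⟨m, hm⟩ := h y ((groupCohomology.mem_cocycles₁_iff _).1 y.2)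
      exact (groupCohomology.H1π_eq_zero_iff y).2 ⟨m, funext fun g => (hm g).symm⟩

open CategoryTheory in
theorem exact_iff {G : Type} [Group G] (S : ShortComplex (Rep.{0} ℤ G)) :
    S.Exact ↔ ∀ y : S.X₂, S.g.hom y = 0 → ∃ x : S.X₁, S.f.hom x = y := by
  rw [← S.exact_map_iff_of_faithful (forget₂ (Rep.{0} ℤ G) (ModuleCat.{0} ℤ)), ShortComplex.moduleCat_exact_iff]
  rfl

/-- The linear map on the permutation module with given values. -/
noncomputable def lft {X N : Type} [AddCommGroup N] [Module ℤ N] (v : X → N) :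
    MonoidAlgebra ℤ X →ₗ[ℤ] N :=
  (Finsupp.linearCombination ℤ v) ∘ₗ (MonoidAlgebra.coeffLinearEquiv ℤ).toLinearMap

theorem lft_single {X N : Type} [AddCommGroup N] [Module ℤ N] (v : X → N) (x : X) :
    lft v (MonoidAlgebra.single x 1) = v x := by
  simp only [lft, LinearMap.comp_apply, LinearEquiv.coe_coe, MonoidAlgebra.coeffLinearEquiv_apply, MonoidAlgebra.coeff_single, Finsupp.linearCombination_single]
  exact ‹Module ℤ N›.one_smul (v x)

theorem hom_ext_single {X N : Type} [AddCommGroup N] [Module ℤ N] {f g : MonoidAlgebra ℤ X →ₗ[ℤ] N}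
    (h : ∀ x, f (MonoidAlgebra.single x 1) = g (MonoidAlgebra.single x 1)) : f = g := by
  ext x
  simpa using h x

open CategoryTheory in
theorem splitting_of_cocycles {Γ : Type} [Group Γ] (Λ : Rep.{0} ℤ Γ)
    (hH : ∀ (S : Subgroup Γ) (f : S → Λ), (∀ g h : S, f (g * h) = Λ.ρ (g : Γ) (f h) + f g) →
      ∃ m : Λ, ∀ g : S, f g = Λ.ρ (g : Γ) m - m)
    (X : Type) [MulAction Γ X] (E : ShortComplex (Rep.{0} ℤ Γ)) (hE : E.ShortExact)
    (e₁ : E.X₁ ≅ Λ) (e₃ : E.X₃ ≅ Rep.ofMulAction ℤ Γ X) : Nonempty E.Splitting := by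
  classical
  haveI := hE.mono_f
  haveI := hE.epi_g
  let i : Λ.V →ₗ[ℤ] E.X₂.V := (e₁.inv ≫ E.f).hom.toLinearMap
  let π : E.X₂.V →ₗ[ℤ] MonoidAlgebra ℤ X := (E.g ≫ e₃.hom).hom.toLinearMap
  have hi : Function.Injective i := (Rep.mono_iff_injective _).1 inferInstance
  have hπ : Function.Surjective π := (Rep.epi_iff_surjective _).1 inferInstance
  have hic : ∀ g l, i (Λ.ρ g l) = E.X₂.ρ g (i l) := fun g l => Rep.hom_comm_apply (e₁.inv ≫ E.f) g l
  have hπc : ∀ g y, π (E.X₂.ρ g y) = Representation.ofMulAction ℤ Γ X g (π y) := fun g y =>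
    Rep.hom_comm_apply (E.g ≫ e₃.hom) g y
  have hex : ∀ y, π y = 0 → ∃ l, i l = y := by
    intro y hy
    have h0 : E.g.hom y = 0 := by
      rw [← Rep.inv_hom_apply _ _ e₃ (E.g.hom y), show e₃.hom.hom (E.g.hom y) = 0 from hy, map_zero]
    obtain ⟨x, rfl⟩ := (exact_iff E).1 hE.exact y h0
    refine ⟨e₁.hom.hom x, ?_⟩
    show E.f.hom (e₁.inv.hom (e₁.hom.hom x)) = E.f.hom x
    rw [Rep.inv_hom_apply]
  have hlift : ∀ x : X, ∃ y, π y = MonoidAlgebra.single x 1 ∧
      ∀ g : MulAction.stabilizer Γ x, E.X₂.ρ (g : Γ) y = y := by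
    intro x
    obtain ⟨y, hy⟩ := hπ (MonoidAlgebra.single x 1)
    have hd : ∀ g : MulAction.stabilizer Γ x, ∃ l, i l = E.X₂.ρ (g : Γ) y - y := by
      intro g
      refine hex _ ?_
      rw [map_sub, hπc, hy, Representation.ofMulAction_single, MulAction.mem_stabilizer_iff.1 g.2, sub_self]
    choose f hf using hd
    obtain ⟨m, hm⟩ := hH _ f (fun g h => hi (by
      simp only [map_add, hic, hf, map_sub, Subgroup.coe_mul, map_mul, Module.End.mul_apply]
      abel))
    refine ⟨y - i m, ?_, fun g => ?_⟩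
    · rw [map_sub, hy, sub_eq_self]
      show e₃.hom.hom (E.g.hom (E.f.hom (e₁.inv.hom m))) = 0
      rw [← Rep.comp_apply E.f E.g, E.zero]
      exact map_zero e₃.hom.hom
    · have h1 := hf g
      rw [hm g, map_sub, hic] at h1
      rw [map_sub]
      rw [← sub_eq_zero]
      rw [← sub_eq_zero] at h1
      rw [← neg_eq_zero, ← h1]
      abel
  choose y hy hy' using hlift
  let r : X → X := fun x => (Quotient.mk'' x : MulAction.orbitRel.Quotient Γ X).out
  have hr : ∀ x, ∃ t : Γ, t • r x = x := fun x => by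
    have : (MulAction.orbitRel Γ X) x (r x) := Quotient.exact (Quotient.out_eq _).symm
    exact this
  choose t ht using hr
  let w : X → E.X₂.V := fun x => E.X₂.ρ (t x) (y (r x))
  have hw : ∀ (g : Γ) (x : X), E.X₂.ρ g (w x) = w (g • x) := by
    intro g x
    have hrg : r (g • x) = r x := congrArg Quotient.out (Quotient.sound (MulAction.mem_orbit x g) :
      (Quotient.mk'' (g • x) : MulAction.orbitRel.Quotient Γ X) = Quotient.mk'' x)
    have hst : (t (g • x))⁻¹ * (g * t x) ∈ MulAction.stabilizer Γ (r x) := by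
      rw [MulAction.mem_stabilizer_iff, mul_smul, mul_smul, ht, inv_smul_eq_iff, ← hrg, ht]
    show E.X₂.ρ g (E.X₂.ρ (t x) (y (r x))) = E.X₂.ρ (t (g • x)) (y (r (g • x)))
    rw [hrg]
    conv_rhs => rw [← hy' (r x) ⟨_, hst⟩]
    rw [← Module.End.mul_apply, ← map_mul, ← Module.End.mul_apply, ← map_mul, mul_inv_cancel_left]
  have hπw : ∀ x, π (w x) = MonoidAlgebra.single x 1 := fun x => by
    show π (E.X₂.ρ (t x) (y (r x))) = _
    rw [hπc, hy, Representation.ofMulAction_single, ht]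
  let s : Rep.ofMulAction ℤ Γ X ⟶ E.X₂ := Rep.ofHom ⟨lft w, fun g => hom_ext_single fun x => by
    show lft w (Representation.ofMulAction ℤ Γ X g (MonoidAlgebra.single x 1)) =
      E.X₂.ρ g (lft w (MonoidAlgebra.single x 1))
    rw [Representation.ofMulAction_single, lft_single, lft_single, hw]⟩
  refine ⟨ShortComplex.Splitting.ofExactOfSection E hE.exact (e₃.hom ≫ s) ?_ inferInstance⟩
  rw [← cancel_mono e₃.hom, Category.id_comp, Category.assoc, Category.assoc]
  have hs : s ≫ E.g ≫ e₃.hom = 𝟙 (Rep.ofMulAction ℤ Γ X) := by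
    apply Rep.hom_ext
    apply Representation.IntertwiningMap.toLinearMap_injective
    refine hom_ext_single fun x => ?_
    show π (lft w (MonoidAlgebra.single x 1)) = MonoidAlgebra.single x 1
    rw [lft_single, hπw]
  rw [hs, Category.comp_id]

open CategoryTheory in
theorem cocycle_of_splittings {Γ : Type} [Group Γ] [Finite Γ] (Λ : Rep.{0} ℤ Γ)
    (h : ∀ (X : Type) [MulAction Γ X] [Finite X] (E : ShortComplex (Rep ℤ Γ)),
        E.ShortExact → Nonempty (E.X₁ ≅ Λ) → Nonempty (E.X₃ ≅ Rep.ofMulAction ℤ Γ X) →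
          Nonempty E.Splitting)
    (S : Subgroup Γ) (f : S → Λ) (hf : ∀ g h : S, f (g * h) = Λ.ρ (g : Γ) (f h) + f g) :
    ∃ m : Λ, ∀ g : S, f g = Λ.ρ (g : Γ) m - m := by
  classical
  let X := Γ ⧸ S
  let x₀ : X := ((1 : Γ) : Γ ⧸ S)
  let r : X → Γ := Function.update (fun x => x.out) x₀ 1
  have hr : ∀ x, (r x : Γ ⧸ S) = x := by
    intro x
    by_cases hx : x = x₀
    · subst hx
      simp [r, x₀]
    · simp [r, Function.update_of_ne hx]
  have hmem : ∀ (g : Γ) (x : X), (r (g • x))⁻¹ * g * r x ∈ S := by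
    intro g x
    rw [mul_assoc, ← QuotientGroup.eq, hr]
    conv_lhs => rw [← hr x]
    rfl
  let c : Γ → X → Λ.V := fun g x => Λ.ρ (r (g • x)) (f ⟨_, hmem g x⟩)
  have hc : ∀ g h x, c (g * h) x = Λ.ρ g (c h x) + c g (h • x) := by
    intro g h x
    have he : (⟨_, hmem (g * h) x⟩ : S) = ⟨_, hmem g (h • x)⟩ * ⟨_, hmem h x⟩ := by
      apply Subtype.ext
      simp only [Subgroup.coe_mul, mul_smul]
      group
    show Λ.ρ (r ((g * h) • x)) (f ⟨_, hmem (g * h) x⟩) = _
    rw [he, hf, map_add, ← Module.End.mul_apply, ← map_mul]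
    show _ = Λ.ρ g (Λ.ρ (r (h • x)) _) + Λ.ρ (r (g • h • x)) _
    rw [← Module.End.mul_apply (Λ.ρ g), ← map_mul, mul_smul]
    simp only [mul_inv_rev, inv_inv, mul_assoc]
    rw [mul_inv_cancel_left]
  let ρE : Γ → Module.End ℤ (Λ.V × MonoidAlgebra ℤ X) := fun g =>
    LinearMap.prod (Λ.ρ g ∘ₗ LinearMap.fst ℤ _ _ + lft (c g) ∘ₗ LinearMap.snd ℤ _ _)
      (Representation.ofMulAction ℤ Γ X g ∘ₗ LinearMap.snd ℤ _ _)
  have hρE : ∀ g l p, ρE g (l, p) = (Λ.ρ g l + lft (c g) p, Representation.ofMulAction ℤ Γ X g p) :=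
    fun g l p => rfl
  have hc1 : ∀ p, lft (c 1) p = 0 := by
    intro p
    have h1 : lft (c 1) = (0 : MonoidAlgebra ℤ X →ₗ[ℤ] Λ.V) := hom_ext_single fun x => by
      rw [lft_single, LinearMap.zero_apply]
      have := hc 1 1 x
      rw [mul_one, map_one, one_smul] at this
      simpa using this
    rw [h1, LinearMap.zero_apply]
  have hcm : ∀ g g' p, lft (c (g * g')) p =
      Λ.ρ g (lft (c g') p) + lft (c g) (Representation.ofMulAction ℤ Γ X g' p) := by
    intro g g' p
    exact LinearMap.congr_fun (show lft (c (g * g')) =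
        Λ.ρ g ∘ₗ lft (c g') + lft (c g) ∘ₗ Representation.ofMulAction ℤ Γ X g' from
      hom_ext_single fun x => by
        rw [LinearMap.add_apply, LinearMap.comp_apply, LinearMap.comp_apply,
          Representation.ofMulAction_single, lft_single, lft_single, lft_single, hc]) p
  let τ : Representation ℤ Γ (Λ.V × MonoidAlgebra ℤ X) :=
    { toFun := ρE
      map_one' := LinearMap.ext fun z => by
        obtain ⟨l, p⟩ := z
        rw [hρE, hc1, map_one, map_one, add_zero]
        rfl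
      map_mul' := fun g g' => LinearMap.ext fun z => by
        obtain ⟨l, p⟩ := z
        rw [Module.End.mul_apply, hρE, hρE, hρE, hcm, map_mul, map_mul, map_add, add_assoc]
        rfl }
  let fE : Λ ⟶ Rep.of τ := Rep.ofHom ⟨LinearMap.inl ℤ _ _, fun g => LinearMap.ext fun l => by
    show (Λ.ρ g l, (0 : MonoidAlgebra ℤ X)) = ρE g (l, 0)
    rw [hρE, map_zero, map_zero, add_zero]⟩
  let gE : Rep.of τ ⟶ Rep.ofMulAction ℤ Γ X :=
    Rep.ofHom ⟨LinearMap.snd ℤ _ _, fun g => LinearMap.ext fun z => rfl⟩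
  have hzero : fE ≫ gE = 0 := by
    apply Rep.hom_ext
    apply Representation.IntertwiningMap.toLinearMap_injective
    exact LinearMap.ext fun l => rfl
  have hSE : (ShortComplex.mk fE gE hzero).ShortExact :=
    { exact := (exact_iff _).2 fun z hz => ⟨z.1, Prod.ext rfl hz.symm⟩
      mono_f := (Rep.mono_iff_injective _).2 fun a b hab => congrArg Prod.fst hab
      epi_g := (Rep.epi_iff_surjective _).2 fun p => ⟨(0, p), rfl⟩ }
  obtain ⟨spl⟩ := h X _ hSE ⟨Iso.refl _⟩ ⟨Iso.refl _⟩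
  let z : Λ.V × MonoidAlgebra ℤ X := spl.s.hom (MonoidAlgebra.single x₀ 1)
  have hz : z.2 = MonoidAlgebra.single x₀ 1 := by
    have := congrArg (fun φ => φ.hom (MonoidAlgebra.single x₀ 1)) spl.s_g
    exact this
  refine ⟨-z.1, fun g => ?_⟩
  have hgx : (g : Γ) • x₀ = x₀ := QuotientGroup.eq.2 (by simp)
  have h1 : ρE (g : Γ) z = z := by
    have := Rep.hom_comm_apply spl.s (g : Γ) (MonoidAlgebra.single x₀ 1)
    rw [show (Rep.ofMulAction ℤ Γ X).ρ (g : Γ) (MonoidAlgebra.single x₀ 1) = MonoidAlgebra.single x₀ 1 from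
      (Representation.ofMulAction_single _ _ _).trans (by rw [hgx])] at this
    exact this.symm
  have h2 : Λ.ρ (g : Γ) z.1 + c g x₀ = z.1 := by
    have := congrArg Prod.fst h1
    rw [show ρE (g : Γ) z = ρE (g : Γ) (z.1, z.2) from rfl, hρE, hz, lft_single] at this
    exact this
  have h3 : c (g : Γ) x₀ = f g := by
    have hr0 : r x₀ = 1 := Function.update_self _ _ _
    show Λ.ρ (r ((g : Γ) • x₀)) (f ⟨_, hmem (g : Γ) x₀⟩) = f g
    have he : (⟨_, hmem (g : Γ) x₀⟩ : S) = g := Subtype.ext (by simp [hgx, hr0])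
    rw [he, hgx, hr0, map_one]
    rfl
  rw [h3] at h2
  rw [map_neg, eq_comm, ← sub_eq_zero]
  rw [← sub_eq_zero] at h2
  rw [← neg_eq_zero, ← h2]
  abel

end


/-- For a finite group Γ and a Γ-lattice Λ (finitely generated free ℤ-module with Γ-action) the
following are equivalent: (i) H¹(Γ', Λ) = 0 for every subgroup Γ' ≤ Γ; (ii) Ext¹ over ℤ[Γ] of P into
Λ vanishes for every permutation lattice P = ℤ[X], X a finite Γ-set. Condition (ii) is stated
through Yoneda extensions: every short exact sequence 0 → Λ' → E → P → 0 of ℤ-linear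
Γ-representations with Λ' ≅ Λ and P ≅ ℤ[X] splits. (These are the lattices called coflasque.) The
group, the lattice and the Γ-sets are taken in the lowest universe. -/
theorem result
    (Γ : Type) [Group Γ] [Finite Γ] (Λ : Rep ℤ Γ) [Module.Free ℤ Λ.V] [Module.Finite ℤ Λ.V] :
    (∀ Γ' : Subgroup Γ, Limits.IsZero (groupCohomology (Rep.res Γ'.subtype Λ) 1)) ↔
      ∀ (X : Type) [MulAction Γ X] [Finite X] (E : ShortComplex (Rep ℤ Γ)),
        E.ShortExact → Nonempty (E.X₁ ≅ Λ) → Nonempty (E.X₃ ≅ Rep.ofMulAction ℤ Γ X) →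
          Nonempty E.Splitting := by
  constructor
  · intro hz X _ _ E hE e₁ e₃
    obtain ⟨e₁⟩ := e₁
    obtain ⟨e₃⟩ := e₃
    exact splitting_of_cocycles Λ
      (fun S f hf => (isZero_H1_iff (Rep.res S.subtype Λ)).1 (hz S) f hf) X E hE e₁ e₃
  · intro h Γ'
    exact (isZero_H1_iff (Rep.res Γ'.subtype Λ)).2 fun f hf => cocycle_of_splittings Λ h Γ' f hf

end Groth.Agent.S17849
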