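import Groth.Statements.S17850
import Groth.Agent.Tors37.QuillenIdeal

set_option autoImplicit false
open CategoryTheory CategoryTheory.Limits MonoidalCategory CartesianMonoidalCategory MonObj GrpObj AlgebraicGeometry
universe u
open NonAbH1

namespace Groth.Agent.S17850

/-- In ideal form, let R be a ring, G an R-group scheme locally of finite presentation and X an fppf
torsor over 𝔸ⁿ_R (n finite) under the base change of G. Say that X descends over R[1/r] when there
is a torsor P under the base change of G to R[1/r] whose base change to 𝔸ⁿ over R[1/r] is
equivariantly isomorphic to the restriction of X (both compared as actions of the base change of G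
to 𝔸ⁿ over R[1/r] through the canonical identifications of iterated base changes). Then the set of r
∈ R over which X descends is an ideal. The published statement also allows more general group
functors and graded algebras. -/
theorem result
    (R : Type u) [CommRing R] (n : Type u) [Finite n]
    (G : Over (Spec (CommRingCat.of R))) [GrpObj G] [LocallyOfFinitePresentation G.hom]
    (X : NonAbH1.TorsorSch (Red.bc (𝔸(n; Spec (CommRingCat.of R)) ↘ Spec (CommRingCat.of R)) G) Scheme.fppfPrecoverage) :
    ∃ I : Ideal R, ∀ r : R, r ∈ I ↔
      ∃ P : NonAbH1.TorsorSch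
          (Red.bc (Spec.map (CommRingCat.ofHom (algebraMap R (Localization.Away r)))) G) Scheme.fppfPrecoverage,
        Nonempty (NonAbH1.EquivIso
          ((P.act.bc (pullback.snd (𝔸(n; Spec (CommRingCat.of R)) ↘ Spec (CommRingCat.of R))
              (Spec.map (CommRingCat.ofHom (algebraMap R (Localization.Away r)))))).restrict
            (ActBC.bcCompIso (pullback.snd (𝔸(n; Spec (CommRingCat.of R)) ↘ Spec (CommRingCat.of R))
                (Spec.map (CommRingCat.ofHom (algebraMap R (Localization.Away r)))))
              (Spec.map (CommRingCat.ofHom (algebraMap R (Localization.Away r)))) G rfl).inv)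
          ((X.act.bc (pullback.fst (𝔸(n; Spec (CommRingCat.of R)) ↘ Spec (CommRingCat.of R))
              (Spec.map (CommRingCat.ofHom (algebraMap R (Localization.Away r)))))).restrict
            (ActBC.bcCompIso (pullback.fst (𝔸(n; Spec (CommRingCat.of R)) ↘ Spec (CommRingCat.of R))
                (Spec.map (CommRingCat.ofHom (algebraMap R (Localization.Away r)))))
              (𝔸(n; Spec (CommRingCat.of R)) ↘ Spec (CommRingCat.of R)) G pullback.condition).inv)) := by
  obtain ⟨R', _, _, hff, ⟨D⟩⟩ := Groth.Agent.Tors37.exists_datum n X.isTorsor
    (AffineSpace.SpecIso n (CommRingCat.of R)).symm (AffineSpace.SpecIso_inv_over (CommRingCat.of R))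
  have := hff
  refine ⟨D.ideal, fun r => ⟨fun h => D.descent_of_desc X.isTorsor h _ (𝟙 _) (Category.id_comp _) (𝟙 _)
    (Category.id_comp _), ?_⟩⟩
  rintro ⟨P, ⟨e⟩⟩
  exact D.desc_of_descent _ (𝟙 _) (Category.id_comp _) P.act e

end Groth.Agent.S17850
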