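import Groth.Statements.S17856
import Groth.Agent.Approx60.Absolute
import Groth.Agent.PiSpec3.Glue
open CategoryTheory CategoryTheory.Limits Groth.Agent.Approx60 Groth.Agent.PiSpec3

set_option autoImplicit false
open CategoryTheory AlgebraicGeometry
universe u
open Algz

namespace Groth.Agent.S17856

/-- Let `X` be a quasi-compact quasi-separated scheme and `A i` an arbitrary family of commutative
rings. Sending a morphism from the spectrum of the product ring to `X` to the family of its
composites with the morphisms `Spec (A i) ⟶ Spec (∏ A i)` induced by the projections is a bijection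
onto the set of all families of morphisms `Spec (A i) ⟶ X`. (Both quasi-compactness and
quasi-separatedness of `X` are needed.) -/
theorem result (X : Scheme.{u}) [CompactSpace X] [QuasiSeparatedSpace X]
    {ι : Type u} (A : ι → CommRingCat.{u}) :
    Function.Bijective (fun f : Spec (CommRingCat.of (∀ i, A i)) ⟶ X =>
      fun i : ι => Spec.map (CommRingCat.ofHom (Pi.evalRingHom (fun j => (A j : Type u)) i)) ≫ f) := by
  refine ⟨pointsPi_injective A X, fun f => ?_⟩
  obtain ⟨J, _, _, D, π, hD, ⟨hc⟩⟩ := exists_approximation X
  have key : ∀ j, ∃ g : Spec (CommRingCat.of (∀ i, A i)) ⟶ D.obj j, ∀ i, ev i ≫ g = f i ≫ π.app j := fun j =>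
    have := hD.compact j
    have := hD.lft j
    exists_glue fun i => f i ≫ π.app j
  choose g hg using key
  let s : Cone D :=
    { pt := Spec (CommRingCat.of (∀ i, A i))
      π :=
      { app := g
        naturality := fun j k a => by
          have := hD.lft k
          have := quasiSeparatedSpace_of_lft_toZ (D.obj k)
          show 𝟙 _ ≫ g k = g j ≫ D.map a
          rw [Category.id_comp]
          refine pointsPi_injective A (D.obj k) (funext fun i => ?_)
          show ev i ≫ g k = ev i ≫ g j ≫ D.map a
          rw [← Category.assoc, hg, hg, Category.assoc]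
          exact congrArg (f i ≫ ·) ((Category.id_comp _).symm.trans (π.naturality a)) } }
  refine ⟨hc.lift s, funext fun i => hc.hom_ext fun j => ?_⟩
  show (ev i ≫ hc.lift s) ≫ π.app j = f i ≫ π.app j
  rw [Category.assoc]
  exact (congrArg (ev i ≫ ·) (hc.fac s j)).trans (hg j i)

end Groth.Agent.S17856
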