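import Groth.Statements.S17863
import Mathlib

set_option autoImplicit false
open CategoryTheory AlgebraicGeometry
universe u
open Algz

set_option maxHeartbeats 400000

namespace Groth.Agent.S17863

/-- Let `A` be a commutative ring which is `I`-adically complete for an ideal `I` and let `X` be a
quasi-affine scheme. Then the natural map from `X(A)` to compatible systems in the `X(A/I^n)` is
bijective: two morphisms `Spec A ⟶ X` with the same restriction to every `Spec (A/I^n)` are equal,
and every family of morphisms `Spec (A/I^n) ⟶ X` compatible with the transition maps `Spec (A/I^n) ⟶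
Spec (A/I^(n+1))` is the family of restrictions of a morphism `Spec A ⟶ X`. -/
theorem result (A : Type u) [CommRing A] (I : Ideal A) [IsAdicComplete I A]
    (X : Scheme.{u}) [X.IsQuasiAffine] :
    (∀ f g : Spec (CommRingCat.of A) ⟶ X,
      (∀ n : ℕ, Spec.map (CommRingCat.ofHom (Ideal.Quotient.mk (I ^ n))) ≫ f =
        Spec.map (CommRingCat.ofHom (Ideal.Quotient.mk (I ^ n))) ≫ g) → f = g) ∧
    (∀ e : ∀ n : ℕ, Spec (CommRingCat.of (A ⧸ I ^ n)) ⟶ X,
      (∀ n : ℕ, Spec.map (CommRingCat.ofHom (Ideal.Quotient.factorPowSucc I n)) ≫ e (n + 1) = e n) →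
      ∃ f : Spec (CommRingCat.of A) ⟶ X,
        ∀ n : ℕ, Spec.map (CommRingCat.ofHom (Ideal.Quotient.mk (I ^ n))) ≫ f = e n) := by
  let j := X.toSpecΓ
  constructor
  · intro f g h
    rw [← cancel_mono j, ← Spec.map_preimage (f ≫ j), ← Spec.map_preimage (g ≫ j)]
    congr 1
    ext x
    refine IsHausdorff.eq_iff_smodEq (I := I) |>.mpr fun n => ?_
    rw [smul_eq_mul, Ideal.mul_top]
    have := congrArg (fun m => Spec.preimage (m ≫ j)) (h n)
    simp only [Category.assoc, Spec.preimage_comp, Spec.preimage_map] at this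
    have hn := congr($this x)
    exact SModEq.sub_mem.mpr (Ideal.Quotient.eq.mp hn)
  · intro e he
    have hsucc : ∀ n, (Ideal.Quotient.factorPow I (Nat.le_succ n)).comp (Spec.preimage (e (n + 1) ≫ j)).hom =
        (Spec.preimage (e n ≫ j)).hom := by
      intro n
      conv_rhs => rw [← he n, Category.assoc, Spec.preimage_comp, Spec.preimage_map]
      rfl
    let φ := IsAdicComplete.StrictMono.liftRingHom I strictMono_id (fun n => (Spec.preimage (e n ≫ j)).hom) (fun {m} => hsucc m)
    have hφ : ∀ n, Spec.map (CommRingCat.ofHom (Ideal.Quotient.mk (I ^ n))) ≫ Spec.map (CommRingCat.ofHom φ) = e n ≫ j := by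
      intro n
      rw [← Spec.map_comp, ← CommRingCat.ofHom_comp]
      conv_rhs => rw [← Spec.map_preimage (e n ≫ j)]
      congr 1
      ext x
      exact IsAdicComplete.StrictMono.mk_liftRingHom I strictMono_id _ _ x
    have hrange : Set.range (Spec.map (CommRingCat.ofHom φ)) ⊆ Set.range j := by
      rintro _ ⟨P, rfl⟩
      obtain ⟨M, hM, hPM⟩ := Ideal.exists_le_maximal P.asIdeal P.2.ne_top
      have hIM : I ≤ M := (IsAdicComplete.le_jacobson_bot I).trans (sInf_le ⟨bot_le, hM⟩)
      let P' : PrimeSpectrum A := ⟨M, hM.isPrime⟩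
      have hs : P ⤳ P' := (PrimeSpectrum.le_iff_specializes P P').mp hPM
      refine (hs.map (Spec.map (CommRingCat.ofHom φ)).continuous).mem_open j.isOpenEmbedding.isOpen_range ?_
      obtain ⟨Q, hQ⟩ : P' ∈ Set.range (PrimeSpectrum.comap (Ideal.Quotient.mk (I ^ 1))) := by
        rw [_root_.range_comap_of_surjective _ _ Ideal.Quotient.mk_surjective, PrimeSpectrum.mem_zeroLocus, Ideal.mk_ker, pow_one]
        exact hIM
      refine ⟨e 1 Q, ?_⟩
      refine ((Scheme.Hom.comp_apply (e 1) j Q).symm.trans (congrArg (fun m : Spec (CommRingCat.of (A ⧸ I ^ 1)) ⟶ _ => m Q) (hφ 1).symm)).trans ?_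
      show Spec.map (CommRingCat.ofHom φ) (Spec.map (CommRingCat.ofHom (Ideal.Quotient.mk (I ^ 1))) Q) = _
      exact congrArg (Spec.map (CommRingCat.ofHom φ)) hQ
    refine ⟨IsOpenImmersion.lift j _ hrange, fun n => ?_⟩
    rw [← cancel_mono j, Category.assoc, IsOpenImmersion.lift_fac, hφ]

end Groth.Agent.S17863
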