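import Groth.Statements.S17865
import Groth.Agent.H98Nis.Chain

set_option autoImplicit false
open CategoryTheory AlgebraicGeometry
universe u
open Algz

set_option maxHeartbeats 400000

namespace Groth.Agent.S17865

/-- In the case of schemes. Let `f : U ⟶ Y` be a Nisnevich cover of length at most `m` of quasi-compact
quasi-separated schemes (an etale morphism together with a chain of `m` closed constructible subsets
`∅ = Z_0 ⊆ ⋯ ⊆ Z_m = Y` such that `f` has a section over each `Z_(k+1) ∖ Z_k`), and `g : Y' ⟶ Y` a
morphism from a quasi-compact quasi-separated scheme. Then the base change `U ×_Y Y' ⟶ Y'` is a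
Nisnevich cover of length at most `m`. (The original form is for quasi-compact quasi-separated
algebraic spaces; stated here for schemes.) -/
theorem result {U Y Y' : Scheme.{u}} (f : U ⟶ Y) (g : Y' ⟶ Y)
    [CompactSpace U] [QuasiSeparatedSpace U] [CompactSpace Y] [QuasiSeparatedSpace Y]
    [CompactSpace Y'] [QuasiSeparatedSpace Y'] (m : ℕ)
    (hf : W4c5algebraiztannaka.IsNisCoverLen f m) :
    W4c5algebraiztannaka.IsNisCoverLen (Limits.pullback.snd f g) m := by
  have hqc : QuasiCompact g := by
    have : QuasiCompact (g ≫ Limits.terminal.from Y) := by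
      rw [Limits.terminal.comp_from]; exact (compactSpace_iff_quasiCompact Y').mp inferInstance
    exact QuasiCompact.of_comp g (Limits.terminal.from Y)
  obtain ⟨het, hc⟩ := H98Nis.isNisCoverLen_iff.mp hf
  have h := H98Nis.chain_pullback g hc
  rw [Set.preimage_empty, Set.preimage_univ] at h
  exact H98Nis.isNisCoverLen_iff.mpr ⟨(haveI := het; inferInstance), h⟩

end Groth.Agent.S17865
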