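import Groth.Statements.S17877
import Groth.Agent.H98Kaehler.Gens

set_option autoImplicit false
universe u
open GRRSing

namespace Groth.Agent.S17877

/-- Let K be a field with algebraic closure K̄ and Z = Spec A an affine scheme of finite type over K of
dimension d whose geometric fibre Spec (K̄ ⊗_K A) is integral with at most hypersurface
singularities (at every prime the embedding dimension of the local ring, the dimension of 𝔪/𝔪² over
the residue field, is at most the height of the prime plus one). Then for every prime p of A the
(Ω_{A/K})_p is generated over A_p by at most d + 1 elements. (The published statement is for any Z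
of finite type over K; the assertion is local on Z and the hypotheses pass to affine opens.) -/
theorem result
    {K : Type u} [Field K] {A : Type u} [CommRing A] [Algebra K A] [Algebra.FiniteType K A]
    [IsDomain (TensorProduct K (AlgebraicClosure K) A)]
    (hhyp : ∀ (q : Ideal (TensorProduct K (AlgebraicClosure K) A)) [q.IsPrime],
      (Module.finrank (IsLocalRing.ResidueField (Localization.AtPrime q))
          (IsLocalRing.CotangentSpace (Localization.AtPrime q)) : ℕ∞) ≤ q.height + 1)
    (d : ℕ) (hd : ringKrullDim A = d) (p : Ideal A) [p.IsPrime] :
    ∃ s : Finset (LocalizedModule p.primeCompl (KaehlerDifferential K A)),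
      s.card ≤ d + 1 ∧ Submodule.span (Localization.AtPrime p) (s : Set (LocalizedModule p.primeCompl (KaehlerDifferential K A))) = ⊤ := by
  classical
  letI : Algebra A (TensorProduct K (AlgebraicClosure K) A) := Algebra.TensorProduct.rightAlgebra
  haveI hint : Algebra.IsIntegral A (TensorProduct K (AlgebraicClosure K) A) := by
    let e : TensorProduct K A (AlgebraicClosure K) ≃ₐ[A] TensorProduct K (AlgebraicClosure K) A :=
      AlgEquiv.ofRingEquiv (f := Algebra.TensorProduct.comm K A (AlgebraicClosure K)) fun a => by
        simp [RingHom.algebraMap_toAlgebra]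
    exact Algebra.IsIntegral.of_surjective (R := A) (A := TensorProduct K A (AlgebraicClosure K)) e.toAlgHom e.surjective
  have hinj : Function.Injective (algebraMap A (TensorProduct K (AlgebraicClosure K) A)) :=
    Algebra.TensorProduct.includeRight_injective (algebraMap K (AlgebraicClosure K)).injective
  have hdim := Groth.Agent.EGA4Alg4.ringKrullDim_eq_of_integral A (TensorProduct K (AlgebraicClosure K) A) hinj
  rw [hd] at hdim
  obtain ⟨m, hm, hpm⟩ := Ideal.exists_le_maximal p Ideal.IsPrime.ne_top'
  obtain ⟨q, hq, hqm⟩ := Ideal.exists_ideal_over_maximal_of_isIntegral (S := TensorProduct K (AlgebraicClosure K) A) m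
    (by rw [(RingHom.injective_iff_ker_eq_bot _).mp hinj]; exact bot_le)
  haveI := hq
  haveI : IsNoetherianRing (TensorProduct K (AlgebraicClosure K) A) :=
    Algebra.FiniteType.isNoetherianRing (AlgebraicClosure K) _
  have hht : q.height ≤ (d : ℕ∞) := by
    have h1 := Ideal.height_le_ringKrullDim_of_ne_top hq.ne_top
    rw [hdim] at h1
    exact_mod_cast h1
  have hc : Module.finrank (TensorProduct K (AlgebraicClosure K) A ⧸ q) q.Cotangent ≤ d + 1 := by
    refine (Groth.Agent.Var76.RegKaehler.finrank_cotangent_le q).trans ?_
    rw [IsLocalRing.spanFinrank_maximalIdeal_eq_finrank_cotangentSpace]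
    exact_mod_cast (hhyp q).trans (add_le_add hht le_rfl)
  exact Groth.Agent.H98Kaehler.exists_span_localized m p hpm (d + 1)
    ((Groth.Agent.H98Kaehler.finrank_fibre_le_of_geometric (L := AlgebraicClosure K) m q hqm).trans hc)

end Groth.Agent.S17877
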