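import Groth.Statements.S17878
import Mathlib

set_option autoImplicit false
universe u
open Filter Topology
open GRRSing

set_option maxHeartbeats 400000

namespace Groth.Agent.S17878

/-- Let T be a nonzero commutative normed ℂ-algebra such that the map ℂ → T/nilradical(T) is surjective,
let P = Σ_j d_j x ^ j be a polynomial over T and put h_k = P(k). Let E_0, E_1, … be the rational
numbers with 2/(e^t + 1) = Σ_j E_j t ^ j / j! (so E_0 = 1, E_1 = -1/2). Then for every complex y
with |y| < 1 the series Σ_k h_k y ^ k converges in T, and as y → -1 along real y in (-1, 1) its sum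
tends to (1/2) Σ_j E_j d_j. (The published statement allows any norm topology on T as a complex
vector space; this row takes T a normed ℂ-algebra.) -/
theorem result {T : Type u} [NormedCommRing T] [NormedAlgebra ℂ T] [Nontrivial T]
    (hT : Function.Surjective (algebraMap ℂ (T ⧸ nilradical T)))
    (E : ℕ → ℚ) (hE : PowerSeries.mk (fun j => E j / (j.factorial : ℚ)) * (PowerSeries.exp ℚ + 1) = 2)
    (P : Polynomial T) :
    (∀ y : ℂ, ‖y‖ < 1 → Summable (fun k : ℕ => y ^ k • P.eval (k : T))) ∧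
    Tendsto (fun y : ℝ => ∑' k : ℕ, ((y : ℂ) ^ k) • P.eval (k : T)) (𝓝[Set.Ioo (-1 : ℝ) 1] (-1 : ℝ))
      (𝓝 ((2 : ℂ)⁻¹ • ∑ j ∈ Finset.range (P.natDegree + 1), ((E j : ℚ) : ℂ) • P.coeff j)) := by
  have hsum : ∀ (j : ℕ) (y : ℂ), ‖y‖ < 1 → Summable fun k : ℕ => (k : ℂ) ^ j * y ^ k := fun j y hy =>
    summable_pow_mul_geometric_of_norm_lt_one j hy
  have hsplit : ∀ (y : ℂ) (k : ℕ), y ^ k • P.eval (k : T) =
      ∑ j ∈ Finset.range (P.natDegree + 1), ((k : ℂ) ^ j * y ^ k) • P.coeff j := by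
    intro y k
    rw [Polynomial.eval_eq_sum_range, Finset.smul_sum]
    refine Finset.sum_congr rfl fun j _ => ?_
    rw [Algebra.smul_def, Algebra.smul_def, map_mul, map_pow (algebraMap ℂ T) (k : ℂ), map_natCast]
    ring
  have hsumT : ∀ (j : ℕ) (y : ℂ), ‖y‖ < 1 → Summable fun k : ℕ => ((k : ℂ) ^ j * y ^ k) • P.coeff j :=
    fun j y hy => (hsum j y hy).smul_const _
  constructor
  · intro y hy
    simp only [hsplit]
    exact summable_sum fun j _ => hsumT j y hy
  -- the recursion for the Euler numbers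
  have hrec : ∀ j : ℕ, (∑ i ∈ Finset.range j, (j.choose i : ℚ) * E i) + 2 * E j = if j = 0 then 2 else 0 := by
    intro j
    have h := congrArg (PowerSeries.coeff j) hE
    rw [PowerSeries.coeff_mul, Finset.Nat.sum_antidiagonal_eq_sum_range_succ_mk, Finset.sum_range_succ] at h
    simp only [PowerSeries.coeff_mk, map_add, PowerSeries.coeff_exp, PowerSeries.coeff_one, Nat.sub_self] at h
    have h' : ∀ i ∈ Finset.range j, (j.choose i : ℚ) * E i =
        (j.factorial : ℚ) * (E i / (i.factorial : ℚ) * (algebraMap ℚ ℚ (1 / ((j - i).factorial : ℚ)) + if j - i = 0 then 1 else 0)) := by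
      intro i hi
      have hij : i < j := Finset.mem_range.mp hi
      rw [if_neg (by omega), add_zero, Nat.cast_choose ℚ hij.le]
      simp only [Algebra.algebraMap_self, RingHom.id_apply]
      field_simp
    rw [Finset.sum_congr rfl h', ← Finset.mul_sum]
    have h2 : PowerSeries.coeff j (2 : PowerSeries ℚ) = if j = 0 then 2 else 0 := by
      rw [show (2 : PowerSeries ℚ) = PowerSeries.C 2 from (map_ofNat (PowerSeries.C (R := ℚ)) 2).symm, PowerSeries.coeff_C]
    rw [h2] at h
    have hj : (j.factorial : ℚ) ≠ 0 := by exact_mod_cast j.factorial_ne_zero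
    simp only [Nat.factorial_zero, Nat.cast_one, div_one, map_one, if_true] at h
    rcases eq_or_ne j 0 with rfl | hne
    · simp only [Finset.range_zero, Finset.sum_empty, Nat.factorial_zero, Nat.cast_one, div_one, mul_zero, zero_add, if_true] at h ⊢
      linarith
    · rw [if_neg hne] at h ⊢
      generalize (∑ i ∈ Finset.range j, E i / (i.factorial : ℚ) * _) = S at h ⊢
      field_simp at h
      linear_combination h
  let f : ℕ → ℂ → ℂ := fun j y => ∑' k : ℕ, (k : ℂ) ^ j * y ^ k
  have hfrec : ∀ (j : ℕ) (y : ℂ), ‖y‖ < 1 →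
      f j y * (1 - y) = (if j = 0 then 1 else 0) + y * ∑ i ∈ Finset.range j, (j.choose i : ℂ) * f i y := by
    intro j y hy
    have h0 : f j y = (if j = 0 then 1 else 0) + ∑' k : ℕ, ((k + 1 : ℕ) : ℂ) ^ j * y ^ (k + 1) := by
      show ∑' k : ℕ, _ = _
      rw [(hsum j y hy).tsum_eq_zero_add]
      congr 1
      rcases j with _ | j <;> simp
    have h1 : ∑' k : ℕ, ((k + 1 : ℕ) : ℂ) ^ j * y ^ (k + 1) = y * ∑ i ∈ Finset.range (j + 1), (j.choose i : ℂ) * f i y := by
      have e : ∀ k : ℕ, ((k + 1 : ℕ) : ℂ) ^ j * y ^ (k + 1) =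
          ∑ i ∈ Finset.range (j + 1), y * (j.choose i : ℂ) * ((k : ℂ) ^ i * y ^ k) := fun k => by
        push_cast
        rw [add_pow, Finset.sum_mul]
        refine Finset.sum_congr rfl fun i _ => ?_
        ring
      simp only [e]
      rw [Summable.tsum_finsetSum fun i _ => (hsum i y hy).mul_left _, Finset.mul_sum]
      refine Finset.sum_congr rfl fun i _ => ?_
      rw [tsum_mul_left]; ring
    rw [h1, Finset.sum_range_succ, Nat.choose_self, Nat.cast_one, one_mul, mul_add] at h0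
    linear_combination h0
  have hnear : ∀ᶠ y : ℝ in 𝓝[Set.Ioo (-1 : ℝ) 1] (-1 : ℝ), ‖(y : ℂ)‖ < 1 := by
    filter_upwards [self_mem_nhdsWithin] with y hy
    simpa [abs_lt] using hy
  have hlim : ∀ j : ℕ, Tendsto (fun y : ℝ => f j (y : ℂ)) (𝓝[Set.Ioo (-1 : ℝ) 1] (-1 : ℝ)) (𝓝 ((E j : ℂ) / 2)) := by
    intro j
    induction j using Nat.strong_induction_on with
    | _ j ih =>
      have hy : Tendsto (fun y : ℝ => (y : ℂ)) (𝓝[Set.Ioo (-1 : ℝ) 1] (-1 : ℝ)) (𝓝 (-1 : ℂ)) :=
        tendsto_nhdsWithin_of_tendsto_nhds (Complex.continuous_ofReal.tendsto' _ _ (by simp))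
      have h : Tendsto (fun y : ℝ => ((if j = 0 then 1 else 0) + (y : ℂ) * ∑ i ∈ Finset.range j, (j.choose i : ℂ) * f i y) / (1 - (y : ℂ)))
          (𝓝[Set.Ioo (-1 : ℝ) 1] (-1 : ℝ))
          (𝓝 (((if j = 0 then 1 else 0) + (-1 : ℂ) * ∑ i ∈ Finset.range j, (j.choose i : ℂ) * ((E i : ℂ) / 2)) / (1 - (-1 : ℂ)))) :=
        ((hy.mul (tendsto_finsetSum _ fun i hi => (ih i (Finset.mem_range.mp hi)).const_mul _)).const_add _).div
          (hy.const_sub _) (by norm_num)
      have hval : ((if j = 0 then 1 else 0) + (-1 : ℂ) * ∑ i ∈ Finset.range j, (j.choose i : ℂ) * ((E i : ℂ) / 2)) / (1 - (-1 : ℂ)) = (E j : ℂ) / 2 := by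
        have hr : (∑ i ∈ Finset.range j, (j.choose i : ℂ) * (E i : ℂ)) + 2 * (E j : ℂ) = if j = 0 then 2 else 0 := by
          have := congrArg (fun q : ℚ => (q : ℂ)) (hrec j)
          push_cast at this
          split_ifs at this ⊢ <;> simpa using this
        simp only [← mul_div_assoc, ← Finset.sum_div]
        split_ifs at hr ⊢ <;> linear_combination (-1 / 4 : ℂ) * hr
      rw [hval] at h
      refine h.congr' ?_
      filter_upwards [hnear] with y hy'
      have hne : (1 : ℂ) - (y : ℂ) ≠ 0 := fun h0 => by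
        rw [← sub_eq_zero.mp h0] at hy'; simp at hy'
      rw [div_eq_iff hne, hfrec j _ hy']
  have htot : Tendsto (fun y : ℝ => ∑ j ∈ Finset.range (P.natDegree + 1), f j (y : ℂ) • P.coeff j)
      (𝓝[Set.Ioo (-1 : ℝ) 1] (-1 : ℝ)) (𝓝 ((2 : ℂ)⁻¹ • ∑ j ∈ Finset.range (P.natDegree + 1), ((E j : ℚ) : ℂ) • P.coeff j)) := by
    simp only [Finset.smul_sum, smul_smul, ← div_eq_inv_mul]
    exact tendsto_finsetSum _ fun j _ => (hlim j).smul_const _
  refine htot.congr' ?_
  filter_upwards [hnear] with y hy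
  simp only [hsplit]
  rw [Summable.tsum_finsetSum fun j _ => hsumT j _ hy]
  exact Finset.sum_congr rfl fun j _ => ((hsum j _ hy).tsum_smul_const _).symm

end Groth.Agent.S17878
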