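import Groth.Statements.S17881
import Mathlib.RingTheory.LocalRing.Basic
import Mathlib.RingTheory.Coprime.Basic

set_option autoImplicit false
universe u
open CAlg

namespace Groth.Agent.S17881

/-- Let O be a subring of a nontrivial commutative ring A. The following are equivalent: (i) A is a
local ring, every non-unit of A belongs to O, and for every unit u of A one of u, u⁻¹ belongs to O —
equivalently O is the preimage in the local ring A of a valuation ring of the residue field of A,
which makes O a semi-valuation ring with semi-fraction ring A; (ii) for all f, g in A generating the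
unit ideal, either f ∈ gO or g ∈ fO. (A is taken nontrivial: over the zero ring (ii) holds and (i)
fails.) -/
theorem result (A : Type u) [CommRing A] [Nontrivial A]
    (O : Subring A) :
    (IsLocalRing A ∧ (∀ a : A, ¬ IsUnit a → a ∈ O) ∧ (∀ u : Aˣ, (u : A) ∈ O ∨ ((u⁻¹ : Aˣ) : A) ∈ O)) ↔
      ∀ f g : A, IsCoprime f g → (∃ o ∈ O, f = g * o) ∨ (∃ o ∈ O, g = f * o) := by
  constructor
  · rintro ⟨_, hnu, hu⟩ f g ⟨a, b, hab⟩
    have key : ∀ f g : A, IsUnit g → (∃ o ∈ O, f = g * o) ∨ (∃ o ∈ O, g = f * o) := by
      intro f g hg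
      obtain ⟨u, rfl⟩ := hg
      by_cases hf : IsUnit f
      · obtain ⟨v, rfl⟩ := hf
        rcases hu (u⁻¹ * v) with h | h
        · exact Or.inl ⟨_, h, by simp⟩
        · exact Or.inr ⟨_, h, by simp⟩
      · refine Or.inl ⟨(u⁻¹ : Aˣ) * f, hnu _ fun h => hf ?_, by simp⟩
        simpa using h
    rcases IsLocalRing.isUnit_or_isUnit_of_add_one hab with h | h
    · exact (key g f (isUnit_of_mul_isUnit_right h)).symm
    · exact key f g (isUnit_of_mul_isUnit_right h)
  · intro h
    have hloc : IsLocalRing A := by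
      refine IsLocalRing.of_isUnit_or_isUnit_one_sub_self fun a => ?_
      rcases h a (1 - a) ⟨1, 1, by ring⟩ with ⟨o, -, ho⟩ | ⟨o, -, ho⟩
      · exact Or.inr (IsUnit.of_mul_eq_one (a := 1 - a) (1 + o) (by
          rw [mul_add, mul_one, ← ho]; ring))
      · exact Or.inl (IsUnit.of_mul_eq_one (a := a) (1 + o) (by
          rw [mul_add, mul_one, ← ho]; ring))
    refine ⟨hloc, fun a ha => ?_, fun u => ?_⟩
    · rcases h a 1 isCoprime_one_right with ⟨o, ho, hao⟩ | ⟨o, -, hao⟩
      · rw [one_mul] at hao
        exact hao ▸ ho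
      · exact absurd (IsUnit.of_mul_eq_one (a := a) o hao.symm) ha
    · rcases h (u : A) 1 isCoprime_one_right with ⟨o, ho, hao⟩ | ⟨o, ho, hao⟩
      · rw [one_mul] at hao
        exact Or.inl (hao ▸ ho)
      · exact Or.inr (Units.inv_eq_of_mul_eq_one_right hao.symm ▸ ho)

end Groth.Agent.S17881
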