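import Groth.Statements.S17882
import Mathlib.LinearAlgebra.Matrix.Adjugate
import Mathlib.LinearAlgebra.Matrix.ToLinearEquiv

set_option autoImplicit false
universe u
open CAlg

namespace Groth.Agent.S17882

/-- Let B be a commutative ring, r ≥ 1, N a finitely generated submodule of B^r, and n_1, …, n_r ∈ N.
Suppose the determinant of the matrix with rows n_1, …, n_r is a nonzerodivisor of B and that the
determinant of every matrix whose rows lie in N is a multiple of it (the image of the top exterior
power of N in that of B^r ≅ B is the principal ideal generated by n_1 ∧ ⋯ ∧ n_r, a nonzerodivisor).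
Then n_1, …, n_r are linearly independent over B and span N: N is free of rank r with this basis. -/
theorem result (B : Type u) [CommRing B] (r : ℕ) (hr : 0 < r)
    (N : Submodule B (Fin r → B)) (hN : N.FG) (n : Fin r → (Fin r → B)) (hn : ∀ i, n i ∈ N)
    (hgen : ∀ m : Fin r → (Fin r → B), (∀ i, m i ∈ N) →
      Matrix.det (Matrix.of m) ∈ Ideal.span {Matrix.det (Matrix.of n)})
    (hnzd : Matrix.det (Matrix.of n) ∈ nonZeroDivisors B) :
    LinearIndependent B n ∧ Submodule.span B (Set.range n) = N := by
  classical
  set D := Matrix.det (Matrix.of n)
  constructor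
  · rw [Fintype.linearIndependent_iff]
    intro c hc i
    have h1 : Matrix.vecMul c (Matrix.of n) = 0 := by
      funext j
      have := congrFun hc j
      simpa [Matrix.vecMul, dotProduct, Finset.sum_apply] using this
    have h2 := congrArg (fun v => Matrix.vecMul v (Matrix.of n).adjugate) h1
    simp only [Matrix.vecMul_vecMul, Matrix.mul_adjugate, Matrix.vecMul_smul, Matrix.vecMul_one,
      Matrix.zero_vecMul] at h2
    exact (mul_left_mem_nonZeroDivisors_eq_zero_iff hnzd).mp (congrFun h2 i)
  · refine le_antisymm (Submodule.span_le.mpr (by rintro _ ⟨i, rfl⟩; exact hn i)) fun v hv => ?_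
    have hc : ∀ i, ∃ e, Matrix.cramer (Matrix.of n).transpose v i = D * e := by
      intro i
      have h := hgen (Function.update n i v) fun j => by
        rcases eq_or_ne j i with rfl | hji
        · simpa using hv
        · simpa [hji] using hn j
      rw [Ideal.mem_span_singleton'] at h
      obtain ⟨e, he⟩ := h
      refine ⟨e, ?_⟩
      rw [Matrix.cramer_apply, Matrix.updateCol_transpose, Matrix.det_transpose, mul_comm, he]
      rfl
    choose e he using hc
    have h1 := Matrix.mulVec_cramer (Matrix.of n).transpose v
    rw [Matrix.det_transpose] at h1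
    have hv' : v = ∑ i, e i • n i := by
      funext j
      refine sub_eq_zero.mp ((mul_left_mem_nonZeroDivisors_eq_zero_iff hnzd).mp ?_)
      rw [mul_sub, sub_eq_zero]
      have := congrFun h1 j
      simp only [Matrix.mulVec, dotProduct, Matrix.transpose_apply, Matrix.of_apply, he,
        Pi.smul_apply, smul_eq_mul] at this
      rw [← this, Finset.sum_apply, Finset.mul_sum]
      exact Finset.sum_congr rfl fun i _ => by simp only [Pi.smul_apply, smul_eq_mul]; ring
    rw [hv']
    exact Submodule.sum_mem _ fun i _ => Submodule.smul_mem _ _ (Submodule.subset_span ⟨i, rfl⟩)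

end Groth.Agent.S17882
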