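import Groth.Statements.S17887
import Groth.Agent.H98Strict.Transform
import Groth.Agent.Div89.BlowUp

set_option autoImplicit false
universe u
open CategoryTheory AlgebraicGeometry
open BlowUp

namespace Groth.Agent.S17887

/-- Let X be a Noetherian scheme, U ⊆ X an open subscheme that is schematically dense in X, I a
quasi-coherent ideal sheaf on X whose support does not meet U, and π : X' → X a blowing-up of X
along I. Then π⁻¹(U) is schematically dense in X'. -/
theorem result {X X' : Scheme.{u}} [IsNoetherian X]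
    (U : X.Opens) [IsSchemeTheoreticallyDominant U.ι] (𝓘 : X.IdealSheafData)
    (hU : Disjoint (𝓘.support : Set X) (U : Set X)) (π : X' ⟶ X) (hπ : BlowUp.IsBlowUp π 𝓘) :
    IsSchemeTheoreticallyDominant (π ⁻¹ᵁ U).ι := by
  let V : X.Opens := 𝓘.support.compl
  have hUV : U ≤ V := fun x hx h => hU.le_bot ⟨h, hx⟩
  have hiso : IsIso (π ∣_ V) := Groth.Agent.Div89.isIso_off_center hπ
  obtain ⟨hd, -⟩ := Groth.Agent.H98Strict.dominant_compl hπ.1
  have hE : (𝓘.comap π).support.compl = π ⁻¹ᵁ V := by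
    rw [Scheme.IdealSheafData.support_comap]; rfl
  rw [hE] at hd
  let j := X'.homOfLE ((TopologicalSpace.Opens.map π.base).monotone hUV : π ⁻¹ᵁ U ≤ π ⁻¹ᵁ V)
  have hflat : Flat ((π ⁻¹ᵁ V).ι ≫ π) := by
    rw [← morphismRestrict_ι]; infer_instance
  have hP : IsPullback (π ∣_ U) j U.ι ((π ⁻¹ᵁ V).ι ≫ π) := by
    refine IsOpenImmersion.isPullback _ _ _ _ ?_ ?_
    · simp [j]
    · rw [Scheme.Hom.comp_preimage, Scheme.Opens.opensRange_ι, Scheme.opensRange_homOfLE]
  have hj : IsSchemeTheoreticallyDominant j := IsSchemeTheoreticallyDominant.of_isPullback hP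
  have : (π ⁻¹ᵁ U).ι = j ≫ (π ⁻¹ᵁ V).ι := (Scheme.homOfLE_ι _ _).symm
  rw [this]
  infer_instance

end Groth.Agent.S17887
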