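import Groth.Statements.S1789
import Groth.Agent.DR39.NormShriek

set_option autoImplicit false
universe u
open CategoryTheory
attribute [local instance] HasDerivedCategory.standard
open Dual2

namespace Groth.Agent.S1789

/-- Let R → A be a ring map of finite type between Noetherian rings with R local, where φ^!(K) is formed
from a presentation ψ : R[x_1, …, x_n] → A as RHom_P(A, K ⊗^L_R P)[n], assuming the derived base
change to P exists and taking for RHom_P(A, −) a right adjoint of restriction of scalars along ψ.
Let m be a maximal ideal of A lying over the maximal ideal of R and ω a normalized dualizing complex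
for R. Assuming the derived base change D(A) → D(A_m) exists, the base change of φ^!(ω) to A_m is a
normalized dualizing complex for A_m. -/
theorem result (R A : Type u) [CommRing R] [CommRing A] [IsNoetherianRing R] [IsNoetherianRing A] [Algebra R A] (n : ℕ) (ψ : MvPolynomial (Fin n) R →ₐ[R] A) (hψ : Function.Surjective ψ) [DRing.HasLBaseChange (algebraMap R (MvPolynomial (Fin n) R))] (Rψ : Dual.D (MvPolynomial (Fin n) R) ⥤ Dual.D A) (adj : DRing.restrictD ψ.toRingHom ⊣ Rψ) [IsLocalRing R] (m : Ideal A) [m.IsMaximal] (hm : m.comap (algebraMap R A) = IsLocalRing.maximalIdeal R) (ω : Dual.D R) (hω : Dual.IsDualizing R ω) (hn : Dual.IsNormalized R ω) [DRing.HasLBaseChange (algebraMap A (Localization.AtPrime m))] : Dual.IsDualizing (Localization.AtPrime m) ((DRing.LBaseChange (algebraMap A (Localization.AtPrime m))).obj (Dual2.shriekVia n Rψ ω)) ∧ Dual.IsNormalized (Localization.AtPrime m) ((DRing.LBaseChange (algebraMap A (Localization.AtPrime m))).obj (Dual2.shriekVia n Rψ ω)) := by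
  haveI : Algebra.Smooth R (MvPolynomial (Fin n) R) := ⟨inferInstance, inferInstance⟩
  letI := ψ.toRingHom.toAlgebra
  haveI : IsScalarTower R (MvPolynomial (Fin n) R) A :=
    IsScalarTower.of_algebraMap_eq fun r => (ψ.commutes r).symm
  haveI : Module.Finite (MvPolynomial (Fin n) R) A :=
    Module.Finite.of_surjective (Algebra.linearMap (MvPolynomial (Fin n) R) A) hψ
  obtain ⟨e⟩ := DR39.lbcIso (A := R) (MvPolynomial (Fin n) R) ω
  let W := ((Rψ.obj ((DR39.DF (DR39.extA R (MvPolynomial (Fin n) R))).obj ω))⟦(n : ℤ)⟧)
  have hW : Dual.IsDualizing A W := DR39.isDualizing_shift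
    (DR39.isDualizing_right (B := A) adj (DR39.isDualizing_smooth hω (MvPolynomial (Fin n) R))) (n : ℤ)
  let eW : Dual2.shriekVia n Rψ ω ≅ W := (CategoryTheory.shiftFunctor (Dual.D A) (n : ℤ)).mapIso (Rψ.mapIso e)
  haveI : Module.Flat A (Localization.AtPrime m) := IsLocalization.flat _ m.primeCompl
  obtain ⟨e2⟩ := DR39.lbcIso (A := A) (Localization.AtPrime m) (Dual2.shriekVia n Rψ ω)
  let eT := e2 ≪≫ (DR39.DF (DR39.extA A (Localization.AtPrime m))).mapIso eW
  refine ⟨DR39.isDualizing_of_iso (DR39.isDualizing_atPrime hW m) eT.symm, fun i hi => ?_⟩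
  exact @Equiv.subsingleton _ _ (Iso.homToEquiv ((CategoryTheory.shiftFunctor _ i).mapIso eT))
    (DR39.normalized_localization hW m
      (DR39.normalized_shriek (A := A) n hψ Rψ adj m hm hω hn) i hi)

end Groth.Agent.S1789
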