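import Groth.Statements.S17899
import Groth.Agent.EtAlg23.MilnorAlgebra
import Groth.Agent.Glue24.Milnor
import Groth.Agent.S0406
import Mathlib.RingTheory.Flat.TorsionFree
import Mathlib.RingTheory.Valuation.ValuationRing

set_option autoImplicit false
universe u
open TensorProduct
open CAlg

namespace Groth.Agent.S17899

/-- Let A be a local ring with residue field K, R a valuation ring of K and O ⊆ A the preimage of R
under A → K (so O is a semi-valuation ring with semi-fraction ring A, S = Spec O is glued from U =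
Spec A and T = Spec R). Let C be an O-algebra of finite type which is U-admissible (C → A ⊗_O C
injective) and such that A ⊗_O C is flat and of finite presentation over A. Then C is flat and of
finite presentation over O. (The published assertion is more general: the base may be any
quasi-compact quasi-separated U-admissible scheme over Spec O, and the scheme over it any
quasi-compact quasi-separated admissible scheme. This row is the case of an affine scheme over Spec
O itself, the case in which the published proof carries out its argument.) -/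
theorem result
    (A : Type u) [CommRing A] [IsLocalRing A] (R : ValuationSubring (IsLocalRing.ResidueField A))
    (O : Subring A) (hO : O = R.toSubring.comap (IsLocalRing.residue A))
    (C : Type u) [CommRing C] [Algebra ↥O C] [Algebra.FiniteType ↥O C]
    (hadm : Function.Injective (Algebra.TensorProduct.includeRight : C →ₐ[↥O] A ⊗[↥O] C))
    (hflat : Module.Flat A (A ⊗[↥O] C)) (hfp : Algebra.FinitePresentation A (A ⊗[↥O] C)) :
    Module.Flat ↥O C ∧ Algebra.FinitePresentation ↥O C := by
  classical
  have hmemO : ∀ a, a ∈ O ↔ IsLocalRing.residue A a ∈ R := fun a => by rw [hO]; rfl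
  let q : ↥O →+* ↥R := ((IsLocalRing.residue A).comp O.subtype).codRestrict R fun o => (hmemO _).1 o.2
  let _ : Algebra ↥O ↥R := q.toAlgebra
  have : IsScalarTower ↥O ↥R (IsLocalRing.ResidueField A) := IsScalarTower.of_algebraMap_eq fun _ => rfl
  have : IsScalarTower ↥O A (IsLocalRing.ResidueField A) := IsScalarTower.of_algebraMap_eq fun _ => rfl
  have hsq : EtMil.IsFibreSquare ↥O ↥R A (IsLocalRing.ResidueField A) := by
    refine ⟨IsLocalRing.residue_surjective, fun b a h => ?_⟩
    have hb : IsLocalRing.residue A a = (b : IsLocalRing.ResidueField A) := h.symm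
    exact ⟨⟨a, (hmemO a).2 (hb ▸ b.2)⟩, ⟨Subtype.ext hb, rfl⟩, fun y hy => Subtype.ext hy.2⟩
  have hRflat : Module.Flat ↥R (↥R ⊗[↥O] C) := by
    rw [Module.Flat.flat_iff_torsion_eq_bot_of_isBezout, eq_bot_iff]
    rintro z ⟨⟨r, hr⟩, hrz⟩
    obtain ⟨c, rfl⟩ := TensorProduct.mk_surjective ↥O C ↥R (Glue24.Milnor.surjective_left hsq) z
    obtain ⟨s, hs⟩ := Glue24.Milnor.surjective_left hsq r
    have hsu : IsUnit (s : A) := by
      rw [← IsLocalRing.residue_ne_zero_iff_isUnit]
      intro h
      refine nonZeroDivisors.ne_zero hr ?_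
      rw [← hs]
      exact Subtype.ext h
    have h0 : ((1 : ↥R) ⊗ₜ[↥O] (s • c) : ↥R ⊗[↥O] C) = 0 := by
      rw [TensorProduct.tmul_smul, ← algebraMap_smul ↥R s, hs]
      exact hrz
    have hJ := Glue24.Milnor.mem_smul_top_of_tmul_eq_zero (Glue24.Milnor.surjective_left hsq) h0
    obtain ⟨u, hu⟩ := hsu
    have key : ∀ x ∈ (RingHom.ker (algebraMap ↥O ↥R)) • (⊤ : Submodule ↥O C),
        ∃ y ∈ (RingHom.ker (algebraMap ↥O ↥R)) • (⊤ : Submodule ↥O C),
          ((↑u⁻¹ : A) ⊗ₜ[↥O] x : A ⊗[↥O] C) = 1 ⊗ₜ y := by
      intro x hx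
      refine Submodule.smul_induction_on hx ?_ ?_
      · intro j hj d _
        have hj0 : IsLocalRing.residue A (j : A) = 0 := congrArg Subtype.val (RingHom.mem_ker.1 hj)
        have hmem : (↑u⁻¹ * (j : A)) ∈ O := by
          rw [hmemO, map_mul, hj0, mul_zero]; exact R.zero_mem
        refine ⟨(⟨_, hmem⟩ : ↥O) • d, Submodule.smul_mem_smul ?_ trivial, ?_⟩
        · rw [RingHom.mem_ker]
          refine Subtype.ext ?_
          show IsLocalRing.residue A (↑u⁻¹ * (j : A)) = 0
          rw [map_mul, hj0, mul_zero]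
        · rw [← TensorProduct.smul_tmul, ← TensorProduct.smul_tmul]
          congr 1
          show (j : A) * ↑u⁻¹ = (↑u⁻¹ * (j : A)) * 1
          ring
      · rintro a b ⟨y, hy, hy'⟩ ⟨y', hy₁, hy₁'⟩
        exact ⟨y + y', add_mem hy hy₁, by rw [TensorProduct.tmul_add, TensorProduct.tmul_add, hy', hy₁']⟩
    obtain ⟨y, hy, hy'⟩ := key _ hJ
    have hcy : c = y := hadm (by
      show ((1 : A) ⊗ₜ[↥O] c) = 1 ⊗ₜ y
      rw [← hy', ← TensorProduct.smul_tmul]
      congr 1
      show (1 : A) = (s : A) * ↑u⁻¹
      rw [← hu, Units.mul_inv])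
    rw [hcy, Submodule.mem_bot]
    refine Submodule.smul_induction_on hy ?_ ?_
    · intro j hj d _
      rw [TensorProduct.mk_apply, TensorProduct.tmul_smul, ← algebraMap_smul ↥R j, RingHom.mem_ker.1 hj, zero_smul]
    · intro a b ha hb
      rw [map_add, ha, hb, add_zero]
  have hfl : Module.Flat ↥O C := Glue24.Milnor.flat (L' := C) hsq
  have : Algebra.FinitePresentation ↥R (↥R ⊗[↥O] C) :=
    S0406.result (R := ↥R) (S := ↥R ⊗[↥O] C)
  exact ⟨hfl, EtAlg23.finitePresentation_of_square (E := C) hsq⟩

end Groth.Agent.S17899
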