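import Groth.Statements.S17901
import Groth.Agent.H98.FibreSq

set_option autoImplicit false
universe u
open TensorProduct
open Pinch

namespace Groth.Agent.S17901

/-- Let R be a commutative ring and let B' → B → A, B' → A' → A be a fibre square of R-algebras (B' = B
×_A A') with A' → A surjective, where B, A' and A are flat over R. Then for every commutative
R-algebra R' the square obtained by applying R' ⊗_R − is again a fibre square: R' ⊗_R A' → R' ⊗_R A
is surjective and every pair of elements of R' ⊗_R B and R' ⊗_R A' with the same image in R' ⊗_R A
is the image of a unique element of R' ⊗_R B'. (The published lemma concludes that the base-changed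
square of spectra is co-cartesian in ringed spaces; this row states the ring form, surjective edge
and fibre product, which its proof establishes before translating it to ringed spaces.) -/
theorem result (R B' B A' A : Type u) [CommRing R] [CommRing B'] [CommRing B] [CommRing A'] [CommRing A]
    [Algebra B' B] [Algebra B' A'] [Algebra B A] [Algebra A' A] [Algebra B' A]
    [IsScalarTower B' B A] [IsScalarTower B' A' A]
    [Algebra R B'] [Algebra R B] [Algebra R A'] [Algebra R A]
    [IsScalarTower R B' B] [IsScalarTower R B' A'] [IsScalarTower R B' A] [IsScalarTower R B A] [IsScalarTower R A' A]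
    (hsq : EtMil.IsFibreSquare B' B A' A)
    [Module.Flat R B] [Module.Flat R A'] [Module.Flat R A]
    (R' : Type u) [CommRing R'] [Algebra R R'] :
    Function.Surjective (Algebra.TensorProduct.map (AlgHom.id R R') (IsScalarTower.toAlgHom R A' A)) ∧
    ∀ (x : R' ⊗[R] B) (y : R' ⊗[R] A'),
      Algebra.TensorProduct.map (AlgHom.id R R') (IsScalarTower.toAlgHom R B A) x =
        Algebra.TensorProduct.map (AlgHom.id R R') (IsScalarTower.toAlgHom R A' A) y →
      ∃! z : R' ⊗[R] B',
        Algebra.TensorProduct.map (AlgHom.id R R') (IsScalarTower.toAlgHom R B' B) z = x ∧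
        Algebra.TensorProduct.map (AlgHom.id R R') (IsScalarTower.toAlgHom R B' A') z = y := by
  let ι := Groth.Agent.H98.FibreSq.inc R B' B A'
  let δ := Groth.Agent.H98.FibreSq.diff R B A' A
  have hδ : Function.Surjective δ := Groth.Agent.H98.FibreSq.diff_surjective hsq
  have hι : Function.Injective ι := Groth.Agent.H98.FibreSq.inc_injective hsq
  have hex : Function.Exact ι δ := Groth.Agent.H98.FibreSq.exact_inc_diff hsq
  have hinj := LinearMap.lTensor_injective_of_exact_of_flat δ hδ ι hι hex R'
  have hex' := lTensor_exact R' hex hδ
  let e := TensorProduct.prodRight R R R' B A'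
  have key : ∀ w : R' ⊗[R] (B × A'), δ.lTensor R' w =
      Algebra.TensorProduct.map (AlgHom.id R R') (IsScalarTower.toAlgHom R B A) (e w).1 -
        Algebra.TensorProduct.map (AlgHom.id R R') (IsScalarTower.toAlgHom R A' A) (e w).2 := by
    intro w
    induction w using TensorProduct.induction_on with
    | zero => simp
    | tmul r x => simp [δ, e, Groth.Agent.H98.FibreSq.diff_apply, TensorProduct.tmul_sub]
    | add a b ha hb => simp only [map_add, Prod.fst_add, Prod.snd_add, ha, hb]; abel
  have key2 : ∀ z : R' ⊗[R] B', e (ι.lTensor R' z) =
      (Algebra.TensorProduct.map (AlgHom.id R R') (IsScalarTower.toAlgHom R B' B) z,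
        Algebra.TensorProduct.map (AlgHom.id R R') (IsScalarTower.toAlgHom R B' A') z) := by
    intro z
    induction z using TensorProduct.induction_on with
    | zero => simp only [map_zero, Prod.mk_zero_zero]
    | tmul r x => simp [ι, e, Groth.Agent.H98.FibreSq.inc_apply]
    | add a b ha hb => simp only [map_add, ha, hb, Prod.mk_add_mk]
  constructor
  · exact LinearMap.lTensor_surjective R' (g := (IsScalarTower.toAlgHom R A' A).toLinearMap) hsq.1
  · intro x y hxy
    obtain ⟨z, hz⟩ := (hex' (e.symm (x, y))).mp (by rw [key, LinearEquiv.apply_symm_apply, hxy, sub_self])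
    refine ⟨z, ?_, ?_⟩
    · have := key2 z
      rw [hz, LinearEquiv.apply_symm_apply, Prod.mk.injEq] at this
      exact ⟨this.1.symm, this.2.symm⟩
    · intro z' ⟨h1, h2⟩
      apply hinj
      rw [hz]
      apply e.injective
      rw [LinearEquiv.apply_symm_apply, key2, h1, h2]

end Groth.Agent.S17901
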