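import Groth.Statements.S17902
import Mathlib.Algebra.Module.FinitePresentation
import Mathlib.RingTheory.Spectrum.Prime.Topology
import Mathlib.RingTheory.LocalRing.Module
import Mathlib.RingTheory.Localization.Module
import Mathlib.LinearAlgebra.Matrix.Charpoly.LinearMap

set_option autoImplicit false
universe u
open CAlg

namespace Groth.Agent.S17902


open Finset

section
variable {A : Type u} [CommRing A] {M : Type u} [AddCommGroup M] [Module A M]

/-- The localization of `φ` at `S` is bijective. -/
structure LocIso (S : Submonoid A) {n : ℕ} (φ : (Fin n → A) →ₗ[A] M) : Prop where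
  inj : ∀ x, φ x = 0 → ∃ u ∈ S, u • x = 0
  surj : ∀ y : M, ∃ u ∈ S, ∃ x, φ x = u • y

variable {n : ℕ}

theorem LocIso.mono {S T : Submonoid A} {φ : (Fin n → A) →ₗ[A] M} (h : LocIso S φ) (hST : S ≤ T) :
    LocIso T φ :=
  ⟨fun x hx => let ⟨u, hu, e⟩ := h.inj x hx; ⟨u, hST hu, e⟩,
   fun y => let ⟨u, hu, e⟩ := h.surj y; ⟨u, hST hu, e⟩⟩

theorem locIso_iff (S : Submonoid A) (φ : (Fin n → A) →ₗ[A] M) :
    LocIso S φ ↔ Function.Bijective (LocalizedModule.map S φ) := by
  constructor
  · intro h
    refine ⟨(injective_iff_map_eq_zero _).mpr fun z hz => ?_, fun z => ?_⟩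
    · induction z using LocalizedModule.induction_on with | _ x s
      rw [LocalizedModule.map_mk, ← LocalizedModule.zero_mk 1, LocalizedModule.mk_eq] at hz
      obtain ⟨u, hu⟩ := hz
      simp only [one_smul, smul_zero, Submonoid.smul_def] at hu
      rw [← map_smul] at hu
      obtain ⟨v, hv, e⟩ := h.inj _ hu
      rw [← LocalizedModule.zero_mk 1, LocalizedModule.mk_eq]
      refine ⟨⟨v, hv⟩ * u, ?_⟩
      simpa [Submonoid.smul_def, mul_smul] using e
    · induction z using LocalizedModule.induction_on with | _ y s
      obtain ⟨u, hu, x, hx⟩ := h.surj y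
      refine ⟨LocalizedModule.mk x (⟨u, hu⟩ * s), ?_⟩
      rw [LocalizedModule.map_mk, hx]
      exact LocalizedModule.mk_cancel_common_left ⟨u, hu⟩ s y
  · intro h
    refine ⟨fun x hx => ?_, fun y => ?_⟩
    · have : LocalizedModule.map S φ (LocalizedModule.mk x 1) = 0 := by
        rw [LocalizedModule.map_mk, hx, LocalizedModule.zero_mk]
      have := h.1 (this.trans (map_zero _).symm)
      rw [← LocalizedModule.zero_mk 1, LocalizedModule.mk_eq] at this
      obtain ⟨u, hu⟩ := this
      exact ⟨u, u.2, by simpa [Submonoid.smul_def] using hu⟩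
    · obtain ⟨z, hz⟩ := h.2 (LocalizedModule.mk y 1)
      induction z using LocalizedModule.induction_on with | _ x s
      rw [LocalizedModule.map_mk, LocalizedModule.mk_eq] at hz
      obtain ⟨u, hu⟩ := hz
      simp only [one_smul, Submonoid.smul_def] at hu
      exact ⟨u * s, S.mul_mem u.2 s.2, (u : A) • x, by rw [map_smul, hu, mul_smul]⟩

theorem exists_locIso_of_basis (g : A)
    (b : Module.Basis (Fin n) (Localization.Away g) (LocalizedModule (Submonoid.powers g) M)) :
    ∃ m : Fin n → M, LocIso (Submonoid.powers g) (Fintype.linearCombination A m) := by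
  classical
  set S := Submonoid.powers g
  choose mu hmu using fun j => IsLocalizedModule.surj S (LocalizedModule.mkLinearMap S M) (b j)
  refine ⟨fun j => (mu j).1, fun x hx => ?_, fun y => ?_⟩
  · have h1 : ∑ j, algebraMap A (Localization.Away g) (x j * (mu j).2) • b j = 0 := by
      simp only [algebraMap_smul, mul_smul]
      have h := congrArg (LocalizedModule.mkLinearMap S M) hx
      rw [Fintype.linearCombination_apply, map_sum, map_zero] at h
      rw [← h]
      refine Finset.sum_congr rfl fun j _ => ?_
      rw [map_smul, ← hmu j, Submonoid.smul_def]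
    have h2 := Fintype.linearIndependent_iff.mp b.linearIndependent _ h1
    choose u hu using fun j => (IsLocalization.map_eq_zero_iff S (Localization.Away g) _).mp (h2 j)
    refine ⟨∏ j, (u j : A) * (mu j).2, prod_mem fun j _ => S.mul_mem (u j).2 (mu j).2.2, ?_⟩
    funext i
    rw [Pi.smul_apply, smul_eq_mul, ← Finset.prod_erase_mul _ _ (Finset.mem_univ i), Pi.zero_apply]
    calc _ = (∏ j ∈ univ.erase i, (u j : A) * (mu j).2) * (u i * (x i * (mu i).2)) := by ring
      _ = 0 := by rw [hu i, mul_zero]
  · let c := b.repr (LocalizedModule.mkLinearMap S M y)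
    obtain ⟨t, ht⟩ := IsLocalization.exist_integer_multiples S (Finset.univ : Finset (Fin n))
      (fun j => c j)
    choose a ha using fun j => ht j (Finset.mem_univ j)
    let x : Fin n → A := fun j => a j * ∏ i ∈ univ.erase j, ((mu i).2 : A)
    have key : LocalizedModule.mkLinearMap S M (Fintype.linearCombination A (fun j => (mu j).1) x)
        = LocalizedModule.mkLinearMap S M (((t : A) * ∏ i, ((mu i).2 : A)) • y) := by
      rw [map_smul, ← b.sum_repr (LocalizedModule.mkLinearMap S M y), Finset.smul_sum,
        Fintype.linearCombination_apply, map_sum]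
      refine Finset.sum_congr rfl fun j _ => ?_
      rw [map_smul, ← hmu j, Submonoid.smul_def, smul_smul, ← smul_assoc]
      rw [← algebraMap_smul (Localization.Away g) (x j * ((mu j).2 : A))]
      congr 1
      rw [show x j * ((mu j).2 : A) = a j * ∏ i, ((mu i).2 : A) by
        rw [← Finset.prod_erase_mul _ _ (Finset.mem_univ j)]; ring, map_mul, ha j, Algebra.smul_def,
        Algebra.smul_def, map_mul]
      ring
    obtain ⟨v, hv⟩ := IsLocalizedModule.exists_of_eq (S := S) key
    refine ⟨v * ((t : A) * ∏ i, ((mu i).2 : A)), S.mul_mem v.2 (S.mul_mem t.2 (prod_mem fun i _ => (mu i).2.2)),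
      (v : A) • x, ?_⟩
    rw [Submonoid.smul_def, Submonoid.smul_def] at hv
    rw [map_smul, hv, smul_smul]

theorem locIso_of_congr [Module.Finite A M] (p : Ideal A) [p.IsPrime]
    (φ ψ : (Fin n → A) →ₗ[A] M) (hψ : LocIso p.primeCompl ψ) (e : A) (he : e ∉ p)
    (hcong : ∀ x, φ x - e • ψ x ∈ p • (⊤ : Submodule A M)) : LocIso p.primeCompl φ := by
  classical
  obtain ⟨G, hG⟩ := Module.Finite.fg_top (R := A) (M := M)
  choose u hu x hx using fun y => hψ.surj y
  let c : A := e * ∏ y ∈ G, u y
  have hc : c ∈ p.primeCompl := p.primeCompl.mul_mem he (prod_mem fun y _ => hu y)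
  let Q := M ⧸ LinearMap.range φ
  have hrange : LinearMap.range (c • (LinearMap.id : Q →ₗ[A] Q)) ≤ p • ⊤ := by
    rintro _ ⟨q, rfl⟩
    obtain ⟨z, rfl⟩ := Submodule.mkQ_surjective _ q
    show c • (LinearMap.range φ).mkQ z ∈ _
    rw [← map_smul]
    have hz : z ∈ Submodule.span A (G : Set M) := hG ▸ Submodule.mem_top
    have key : c • z ∈ LinearMap.range φ ⊔ p • (⊤ : Submodule A M) := by
      induction hz using Submodule.span_induction with
      | mem y hy =>
        rw [show c • y = (∏ i ∈ G.erase y, u i) • (e • ψ (x y)) by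
          rw [hx, smul_smul, smul_smul]; congr 1
          rw [show c = e * ∏ i ∈ G, u i from rfl, ← Finset.prod_erase_mul _ _ hy]; ring]
        refine Submodule.smul_mem _ _ ?_
        rw [show e • ψ (x y) = φ (x y) + -(φ (x y) - e • ψ (x y)) by abel]
        exact add_mem (Submodule.mem_sup_left ⟨_, rfl⟩)
          (Submodule.mem_sup_right (neg_mem (hcong _)))
      | zero => simp
      | add a b _ _ ha hb => rw [smul_add]; exact add_mem ha hb
      | smul r a _ ha => rw [smul_comm]; exact Submodule.smul_mem _ _ ha
    obtain ⟨a, ha, b, hb, hab⟩ := Submodule.mem_sup.mp key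
    rw [← hab, map_add, show (LinearMap.range φ).mkQ a = 0 from
      (Submodule.Quotient.mk_eq_zero _).mpr ha, zero_add]
    have := Submodule.mem_map_of_mem (f := (LinearMap.range φ).mkQ) hb
    rw [Submodule.map_smul'', Submodule.map_top, Submodule.range_mkQ] at this
    exact this
  obtain ⟨f, hfm, -, hf, hf0⟩ :=
    LinearMap.exists_monic_and_natDegree_eq_and_coeff_mem_pow_and_aeval_eq_zero
      A (c • LinearMap.id : Q →ₗ[A] Q) p hrange
  let C : A := f.eval c
  have hC : C ∉ p := by
    intro h
    have hsum : C - c ^ f.natDegree ∈ p := by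
      rw [show C = ∑ i ∈ range (f.natDegree + 1), f.coeff i * c ^ i from f.eval_eq_sum_range c,
        Finset.sum_range_succ, hfm.coeff_natDegree, one_mul, add_sub_cancel_right]
      refine Ideal.sum_mem _ fun i hi => p.mul_mem_right _ ?_
      have := hf i
      exact Ideal.pow_le_self (by have := Finset.mem_range.mp hi; omega) this
    exact hc (‹p.IsPrime›.mem_of_pow_mem _ (by simpa using sub_mem h hsum))
  have hsurj : ∀ y : M, C • y ∈ LinearMap.range φ := by
    intro y
    have h := LinearMap.congr_fun hf0 ((LinearMap.range φ).mkQ y)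
    rw [show (c • LinearMap.id : Q →ₗ[A] Q) = algebraMap A (Module.End A Q) c from rfl,
      Polynomial.aeval_algebraMap_apply_eq_algebraMap_eval] at h
    rw [← Submodule.Quotient.mk_eq_zero]
    exact h
  rw [locIso_iff] at hψ ⊢
  have hφ : Function.Surjective (LocalizedModule.map p.primeCompl φ) := by
    intro z
    induction z using LocalizedModule.induction_on with | _ y s
    obtain ⟨a, ha⟩ := hsurj y
    refine ⟨LocalizedModule.mk a (⟨C, hC⟩ * s), ?_⟩
    rw [LocalizedModule.map_mk, ha]
    exact LocalizedModule.mk_cancel_common_left ⟨C, hC⟩ s y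
  let eψ := LinearEquiv.ofBijective (LocalizedModule.map p.primeCompl ψ) hψ
  have : Module.Finite (Localization p.primeCompl) (LocalizedModule p.primeCompl (Fin n → A)) :=
    inferInstance
  have hb : Function.Bijective (eψ.symm.toLinearMap ∘ₗ LocalizedModule.map p.primeCompl φ) :=
    OrzechProperty.bijective_of_surjective_endomorphism _ (eψ.symm.surjective.comp hφ)
  have := eψ.bijective.comp hb
  simpa [Function.comp_def] using this

end


/-- Let A be a commutative ring, M a finitely generated projective A-module, n a natural number and P a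
finite set of prime ideals of A such that for every p in P there is g outside p with M_g free of
rank n over A_g. Then there exist n elements of M and an open subset U of Spec A containing P such
that for every prime q in U the images of these elements in M_q form a basis of M_q over A_q. (The
published conclusion is that the associated sheaf is free of rank n on some open neighbourhood of P;
the form given here, with n global elements of M, is what its proof produces.) -/
theorem result (A : Type u) [CommRing A] (M : Type u) [AddCommGroup M] [Module A M]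
    [Module.Finite A M] [Module.Projective A M] (n : ℕ) (P : Finset (PrimeSpectrum A))
    (hP : ∀ p ∈ P, ∃ g : A, g ∉ p.asIdeal ∧
      Nonempty (Module.Basis (Fin n) (Localization.Away g) (LocalizedModule (Submonoid.powers g) M))) :
    ∃ (s : Fin n → M) (U : Set (PrimeSpectrum A)), IsOpen U ∧ (∀ p ∈ P, p ∈ U) ∧
      ∀ q ∈ U,
        LinearIndependent (Localization.AtPrime q.asIdeal)
            (fun j => LocalizedModule.mkLinearMap q.asIdeal.primeCompl M (s j)) ∧
          Submodule.span (Localization.AtPrime q.asIdeal)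
            (Set.range fun j => LocalizedModule.mkLinearMap q.asIdeal.primeCompl M (s j)) = ⊤ := by

  classical
  haveI : Module.FinitePresentation A M := Module.finitePresentation_of_projective A M
  choose g hg hb using hP
  have hm' : ∀ p : PrimeSpectrum A, ∃ m : Fin n → M, ∀ hp : p ∈ P,
      LocIso (Submonoid.powers (g p hp)) (Fintype.linearCombination A m) := by
    intro p
    by_cases hp : p ∈ P
    · obtain ⟨m, hm⟩ := exists_locIso_of_basis (g p hp) (hb p hp).some
      exact ⟨m, fun _ => hm⟩
    · exact ⟨0, fun h => absurd h hp⟩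
  choose m hm using hm'
  let Pm := P.filter fun p => Maximal (· ∈ P) p
  have hsep : ∀ p ∈ Pm, ∀ q ∈ Pm.erase p, ∃ a : A, a ∈ q.asIdeal ∧ a ∉ p.asIdeal := by
    intro p hp q hq
    rw [Finset.mem_erase] at hq
    refine Set.not_subset.mp fun h : q.asIdeal ≤ p.asIdeal => hq.1 ?_
    exact (Finset.mem_filter.mp hq.2).2.eq_of_le (Finset.mem_filter.mp hp).1 h
  choose a ha ha' using hsep
  let e : PrimeSpectrum A → A := fun p =>
    if hp : p ∈ Pm then ∏ q ∈ (Pm.erase p).attach, a p hp q.1 q.2 else 0
  let s : Fin n → M := fun j => ∑ p ∈ Pm, e p • m p j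
  let φ := Fintype.linearCombination A s
  have hiso : ∀ p ∈ Pm, LocIso p.asIdeal.primeCompl φ := by
    intro p hp
    have hpP := (Finset.mem_filter.mp hp).1
    refine locIso_of_congr p.asIdeal φ (Fintype.linearCombination A (m p))
      ((hm p hpP).mono (Submonoid.powers_le.mpr (hg p hpP))) (e p) ?_ fun x => ?_
    · intro h
      rw [show e p = _ from dif_pos hp] at h
      obtain ⟨q, -, hq⟩ := Ideal.IsPrime.prod_mem_iff.mp h
      exact ha' p hp q.1 q.2 hq
    · simp only [φ, Fintype.linearCombination_apply, Finset.smul_sum]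
      rw [← Finset.sum_sub_distrib]
      refine sum_mem fun j _ => ?_
      rw [smul_comm (e p), ← smul_sub]
      refine Submodule.smul_mem _ _ ?_
      show ∑ q ∈ Pm, e q • m q j - e p • m p j ∈ _
      rw [← Finset.sum_erase_add _ _ hp, add_sub_cancel_right]
      refine sum_mem fun q hq => Submodule.smul_mem_smul ?_ Submodule.mem_top
      have hqm := Finset.mem_of_mem_erase hq
      rw [show e q = _ from dif_pos hqm]
      have hpq : p ∈ Pm.erase q := Finset.mem_erase.mpr ⟨(Finset.ne_of_mem_erase hq).symm, hp⟩
      exact Ideal.prod_mem (I := p.asIdeal) (i := (⟨p, hpq⟩ : {r // r ∈ Pm.erase q}))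
        (Finset.mem_attach _ _) (ha q hqm p hpq)
  have hloc : ∀ p ∈ Pm, ∃ h : A, h ∉ p.asIdeal ∧ LocIso (Submonoid.powers h) φ := by
    intro p hp
    obtain ⟨h, hh, hbij⟩ := Module.FinitePresentation.exists_notMem_bijective φ p.asIdeal
      (LocalizedModule.mkLinearMap p.asIdeal.primeCompl (Fin n → A))
      (LocalizedModule.mkLinearMap p.asIdeal.primeCompl M) ((locIso_iff _ _).mp (hiso p hp))
    exact ⟨h, hh, (locIso_iff _ _).mpr hbij⟩
  choose h hh hiso' using hloc
  refine ⟨s, ⋃ (p) (hp : p ∈ Pm), (PrimeSpectrum.basicOpen (h p hp) : Set (PrimeSpectrum A)),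
    isOpen_iUnion fun p => isOpen_iUnion fun hp => PrimeSpectrum.isOpen_basicOpen, ?_, ?_⟩
  · intro p hp
    obtain ⟨p0, hle, hp0⟩ := P.exists_le_maximal hp
    have hp0' : p0 ∈ Pm := Finset.mem_filter.mpr ⟨hp0.1, hp0⟩
    exact Set.mem_iUnion₂.mpr ⟨p0, hp0', fun hmem => hh p0 hp0' (hle hmem)⟩
  · intro q hq
    obtain ⟨p, hp, hqp⟩ := Set.mem_iUnion₂.mp hq
    have hbij := (locIso_iff _ _).mp ((hiso' p hp).mono (T := q.asIdeal.primeCompl)
      (Submonoid.powers_le.mpr hqp))
    let E := LinearEquiv.ofBijective (LocalizedModule.map q.asIdeal.primeCompl φ) hbij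
    let b := ((Pi.basisFun A (Fin n)).ofIsLocalizedModule (Localization.AtPrime q.asIdeal)
      q.asIdeal.primeCompl (LocalizedModule.mkLinearMap q.asIdeal.primeCompl (Fin n → A))).map E
    have hbs : (fun j => LocalizedModule.mkLinearMap q.asIdeal.primeCompl M (s j)) = ⇑b := by
      funext j
      simp [b, E, φ, Fintype.linearCombination_apply, LocalizedModule.map_mk, Pi.single_apply]
    rw [hbs]
    exact ⟨b.linearIndependent, b.span_eq⟩

end Groth.Agent.S17902
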