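import Groth.Statements.S17903
import Mathlib
import Groth.Agent.Pinch2.Ringed

set_option autoImplicit false
set_option linter.style.haveILetI false
set_option linter.style.longLine false
universe u
open CategoryTheory AlgebraicGeometry
open Pinch

namespace Groth.Agent.S17903

open CategoryTheory CategoryTheory.Limits AlgebraicGeometry

/-- Let S be a scheme and Z → X, Z → Z', X → X', Z' → X' a commutative square of S-schemes in which Z →
X and Z' → X' are closed immersions and Z → Z' and X → X' are affine, and which is a pushout square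
in the category of ringed spaces. If X, Z and Z' are flat over S then X' is flat over S. -/
theorem result {S X Z Z' X' : Scheme.{u}}
    (fX : X ⟶ S) (fZ' : Z' ⟶ S) (fX' : X' ⟶ S) (ι : Z ⟶ X) (q : Z ⟶ Z') (π : X ⟶ X') (ι' : Z' ⟶ X')
    [IsClosedImmersion ι] [IsClosedImmersion ι'] [IsAffineHom q] [IsAffineHom π]
    (hq : q ≫ fZ' = ι ≫ fX) (hπ : π ≫ fX' = fX) (hι' : ι' ≫ fX' = fZ')
    (hpo : IsPushout ((Scheme.forgetToLocallyRingedSpace ⋙ LocallyRingedSpace.forgetToSheafedSpace).map ι) ((Scheme.forgetToLocallyRingedSpace ⋙ LocallyRingedSpace.forgetToSheafedSpace).map q)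
      ((Scheme.forgetToLocallyRingedSpace ⋙ LocallyRingedSpace.forgetToSheafedSpace).map π) ((Scheme.forgetToLocallyRingedSpace ⋙ LocallyRingedSpace.forgetToSheafedSpace).map ι'))
    [Flat fX] [Flat (ι ≫ fX)] [Flat fZ'] :
    Flat fX' := by
  have hS : IsPushout ι q π ι' := Groth.Agent.Pinch2.isPushout_of_toRS hpo
  have H := Groth.Agent.Pinch2.hasPairs_of_cover hS.w
  haveI : Flat (π ≫ fX') := by rw [hπ]; infer_instance
  haveI : Flat (ι' ≫ fX') := by rw [hι']; infer_instance
  haveI : Flat (ι ≫ π ≫ fX') := by rw [hπ]; infer_instance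
  exact Groth.Agent.Pinch2.flat_of_cover hS.w fX' fun V hV => Groth.Agent.Pinch2.fibAt_of_isPushout H hS hV

end Groth.Agent.S17903
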