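import Groth.Statements.S17904
import Mathlib
import Groth.Agent.Pinch2.Ringed

set_option autoImplicit false
set_option linter.style.haveILetI false
set_option linter.style.longLine false
universe u
open CategoryTheory AlgebraicGeometry
open Pinch

namespace Groth.Agent.S17904

open CategoryTheory CategoryTheory.Limits AlgebraicGeometry

/-- Let S be a scheme and Z → X, Z → Z', X → X', Z' → X' a commutative square of S-schemes in which Z →
X and Z' → X' are closed immersions and Z → Z' and X → X' are affine, which is a pushout square in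
the category of ringed spaces, with X, Z and Z' flat over S. Then for every morphism T → S the
square of base changes Z_T → X_T, Z_T → Z'_T, X_T → X'_T, Z'_T → X'_T is a pushout square in the
category of ringed spaces. -/
theorem result {S X Z Z' X' : Scheme.{u}}
    (fX : X ⟶ S) (fZ' : Z' ⟶ S) (fX' : X' ⟶ S) (ι : Z ⟶ X) (q : Z ⟶ Z') (π : X ⟶ X') (ι' : Z' ⟶ X')
    [IsClosedImmersion ι] [IsClosedImmersion ι'] [IsAffineHom q] [IsAffineHom π]
    (hq : q ≫ fZ' = ι ≫ fX) (hπ : π ≫ fX' = fX) (hι' : ι' ≫ fX' = fZ')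
    (hpo : IsPushout ((Scheme.forgetToLocallyRingedSpace ⋙ LocallyRingedSpace.forgetToSheafedSpace).map ι) ((Scheme.forgetToLocallyRingedSpace ⋙ LocallyRingedSpace.forgetToSheafedSpace).map q)
      ((Scheme.forgetToLocallyRingedSpace ⋙ LocallyRingedSpace.forgetToSheafedSpace).map π) ((Scheme.forgetToLocallyRingedSpace ⋙ LocallyRingedSpace.forgetToSheafedSpace).map ι'))
    [Flat fX] [Flat (ι ≫ fX)] [Flat fZ']
    {T : Scheme.{u}} (g : T ⟶ S) :
    IsPushout
      ((Scheme.forgetToLocallyRingedSpace ⋙ LocallyRingedSpace.forgetToSheafedSpace).map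
        ((Over.pullback g).map (Over.homMk ι rfl : Over.mk (ι ≫ fX) ⟶ Over.mk fX)).left)
      ((Scheme.forgetToLocallyRingedSpace ⋙ LocallyRingedSpace.forgetToSheafedSpace).map
        ((Over.pullback g).map (Over.homMk q hq : Over.mk (ι ≫ fX) ⟶ Over.mk fZ')).left)
      ((Scheme.forgetToLocallyRingedSpace ⋙ LocallyRingedSpace.forgetToSheafedSpace).map
        ((Over.pullback g).map (Over.homMk π hπ : Over.mk fX ⟶ Over.mk fX')).left)
      ((Scheme.forgetToLocallyRingedSpace ⋙ LocallyRingedSpace.forgetToSheafedSpace).map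
        ((Over.pullback g).map (Over.homMk ι' hι' : Over.mk fZ' ⟶ Over.mk fX')).left) := by
  have hS : IsPushout ι q π ι' := Groth.Agent.Pinch2.isPushout_of_toRS hpo
  have H := Groth.Agent.Pinch2.hasPairs_of_cover hS.w
  haveI : Flat (ι ≫ π ≫ fX') := by rw [hπ]; infer_instance
  let iT := ((Over.pullback g).map (Over.homMk ι rfl : Over.mk (ι ≫ fX) ⟶ Over.mk fX)).left
  let qT := ((Over.pullback g).map (Over.homMk q hq : Over.mk (ι ≫ fX) ⟶ Over.mk fZ')).left
  let πT := ((Over.pullback g).map (Over.homMk π hπ : Over.mk fX ⟶ Over.mk fX')).left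
  let jT := ((Over.pullback g).map (Over.homMk ι' hι' : Over.mk fZ' ⟶ Over.mk fX')).left
  have pX := Groth.Agent.Pinch2.isPullback_of_lift hπ g πT (pullback.lift_fst _ _ _) (pullback.lift_snd _ _ _)
  have pY := Groth.Agent.Pinch2.isPullback_of_lift hι' g jT (pullback.lift_fst _ _ _) (pullback.lift_snd _ _ _)
  have pi : IsPullback (pullback.fst (ι ≫ fX) g) iT ι (pullback.fst fX g) :=
    Groth.Agent.Pinch2.isPullback_of_lift rfl g iT (pullback.lift_fst _ _ _) (pullback.lift_snd _ _ _)
  have hw : iT ≫ πT = qT ≫ jT := by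
    refine pullback.hom_ext ?_ ?_
    · rw [Category.assoc, Category.assoc]
      erw [pullback.lift_fst, pullback.lift_fst, pullback.lift_fst_assoc, pullback.lift_fst_assoc]
      simp [hS.w]
    · rw [Category.assoc, Category.assoc]
      erw [pullback.lift_snd, pullback.lift_snd, pullback.lift_snd, pullback.lift_snd]
  have h2 : IsPushout iT qT πT jT := Groth.Agent.Pinch2.isPushout_baseChange_of_flat
    (IsPullback.of_hasPullback fX' g) pX pY pi (pullback.lift_fst _ _ _) hw H hS (Or.inr ‹_›)
  haveI : IsClosedImmersion iT := MorphismProperty.of_isPullback pi ‹_›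
  haveI : IsAffineHom πT := MorphismProperty.of_isPullback pX ‹_›
  haveI : IsClosedImmersion jT := MorphismProperty.of_isPullback pY ‹_›
  exact Groth.Agent.Pinch2.isPushout_toRS (Groth.Agent.Pinch2.hasPairs_of_cover hw) h2

end Groth.Agent.S17904
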