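import Groth.Statements.S17905
import Mathlib
import Groth.Agent.Pinch2.Ringed

set_option autoImplicit false
set_option linter.style.haveILetI false
set_option linter.style.longLine false
universe u
open CategoryTheory AlgebraicGeometry
open Pinch

namespace Groth.Agent.S17905

open CategoryTheory CategoryTheory.Limits AlgebraicGeometry TopologicalSpace

lemma app_injective {Z T : Scheme.{u}} (ξ : Z ⟶ T) [IsAffineHom ξ] [Flat ξ] [Surjective ξ] (B : T.Opens) :
    Function.Injective (ξ.app B) := by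
  intro s t hst
  let K := {W : T.Opens // IsAffineOpen W ∧ W ≤ B}
  refine TopCat.Sheaf.eq_of_locally_eq' T.sheaf (fun k : K => k.1) B (fun k => homOfLE k.2.2) (fun p hp => ?_) s t
    fun k => ?_
  · obtain ⟨W, hW, hpW, hle⟩ := exists_isAffineOpen_mem_and_subset (x := p) (U := B) hp
    exact Opens.mem_iSup.2 ⟨⟨W, hW, hle⟩, hpW⟩
  have hW := k.2.1.preimage ξ
  have hp : IsPullback (Spec.map (ξ.appLE k.1 (ξ ⁻¹ᵁ k.1) le_rfl)) hW.fromSpec k.2.1.fromSpec ξ :=
    IsOpenImmersion.isPullback _ _ _ _ (k.2.1.SpecMap_appLE_fromSpec ξ hW le_rfl).symm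
      (by rw [k.2.1.opensRange_fromSpec, hW.opensRange_fromSpec])
  have hinj : Function.Injective (ξ.app k.1) := by
    rw [Scheme.Hom.app_eq_appLE]
    exact ((flat_and_surjective_SpecMap_iff _).1 ⟨MorphismProperty.of_isPullback (P := @Flat) hp.flip ‹_›,
      MorphismProperty.of_isPullback (P := @Surjective) hp.flip ‹_›⟩).injective
  refine hinj ?_
  show (T.presheaf.map (homOfLE k.2.2).op ≫ ξ.app k.1) s = (T.presheaf.map (homOfLE k.2.2).op ≫ ξ.app k.1) t
  rw [ξ.naturality, CommRingCat.comp_apply, CommRingCat.comp_apply, hst]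

/-- Transport along the equality of the two preimages. -/
noncomputable def Z_res {XT YT ZT PT : Scheme.{u}} {i : ZT ⟶ XT} {j : ZT ⟶ YT} {a : XT ⟶ PT} {b : YT ⟶ PT}
    (w : i ≫ a = j ≫ b) (O : PT.Opens) : Γ(ZT, j ⁻¹ᵁ (b ⁻¹ᵁ O)) ⟶ Γ(ZT, i ⁻¹ᵁ (a ⁻¹ᵁ O)) :=
  ZT.presheaf.map (eqToHom (Groth.Agent.Pinch2.preimage_le w O)).op

lemma Z_res_injective {XT YT ZT PT : Scheme.{u}} {i : ZT ⟶ XT} {j : ZT ⟶ YT} {a : XT ⟶ PT} {b : YT ⟶ PT}
    (w : i ≫ a = j ≫ b) (O : PT.Opens) : Function.Injective (Z_res w O) := by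
  haveI : IsIso (Z_res w O) := by unfold Z_res; infer_instance
  exact (ConcreteCategory.bijective_of_isIso (Z_res w O)).1

/-- Functions on a pinching are the functions on the upper part. -/
lemma bijective_app {XT YT ZT PT T : Scheme.{u}} {i : ZT ⟶ XT} {j : ZT ⟶ YT} [IsClosedImmersion i]
    [IsAffineHom j] [Flat j] [Surjective j] {a : XT ⟶ PT} {b : YT ⟶ PT} [IsAffineHom a] [IsAffineHom b]
    (w : i ≫ a = j ≫ b) (f' : PT ⟶ T) (f : XT ⟶ T) (hf : a ≫ f' = f) (U : T.Opens)
    (hfib : Groth.Agent.Pinch2.FibAt i j a b w (f' ⁻¹ᵁ U)) (hbij : Function.Bijective (f.app U)) :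
    Function.Bijective (f'.app U) := by
  subst hf
  have happ : ∀ t, (a ≫ f').app U t = a.app (f' ⁻¹ᵁ U) (f'.app U t) := fun t =>
    congr($(Scheme.Hom.comp_app a f' U) t)
  refine ⟨fun t t' h => hbij.1 (by rw [happ, happ, h]), fun s => ?_⟩
  obtain ⟨t, ht⟩ := hbij.2 (a.app (f' ⁻¹ᵁ U) s)
  refine ⟨t, hfib.1 _ _ ((happ t).symm.trans ht) ?_⟩
  refine app_injective j (b ⁻¹ᵁ (f' ⁻¹ᵁ U)) ?_
  have key : ∀ r, Z_res (i := i) w (f' ⁻¹ᵁ U) (j.app _ (b.app (f' ⁻¹ᵁ U) r)) =
      i.app _ (a.app (f' ⁻¹ᵁ U) r) := fun r => by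
    show (b.app (f' ⁻¹ᵁ U) ≫ j.app _ ≫ ZT.presheaf.map _) r = (a.app (f' ⁻¹ᵁ U) ≫ i.app _) r
    simp only [Scheme.Hom.app_eq_appLE, Scheme.Hom.appLE_map, Scheme.Hom.appLE_comp_appLE, w]
  have hle := Groth.Agent.Pinch2.preimage_le w (f' ⁻¹ᵁ U)
  refine (Z_res_injective (i := i) w _) ?_
  rw [key, key, (happ t).symm.trans ht]

/-- Let S be a scheme and Z → X, Z → Z', X → X', Z' → X' a commutative square of S-schemes which is a
pushout square in the category of ringed spaces, with Z → X and Z' → X' closed immersions, X → X'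
affine, Z → Z' finite, flat and surjective, and X, Z, Z' flat over S. Suppose that for every T → S
the map O_T → (f_T)_* O_{X_T} induced by the base change f_T : X_T → T of X → S is an isomorphism.
Then for every T → S the map O_T → (f'_T)_* O_{X'_T} induced by the base change of X' → S is an
isomorphism. (The published lemma is stated for the pinching of a finite surjective Z → Z' whose
fibres lie in affine opens of X, with X → S admitting a section; this row assumes X → X' only affine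
and drops the affine-fibre and section conditions, which the printed proof does not use.) -/
theorem result {S X Z Z' X' : Scheme.{u}}
    (fX : X ⟶ S) (fZ' : Z' ⟶ S) (fX' : X' ⟶ S) (ι : Z ⟶ X) (q : Z ⟶ Z') (π : X ⟶ X') (ι' : Z' ⟶ X')
    [IsClosedImmersion ι] [IsClosedImmersion ι'] [IsFinite q] [Flat q] [Surjective q] [IsAffineHom π]
    (hq : q ≫ fZ' = ι ≫ fX) (hπ : π ≫ fX' = fX) (hι' : ι' ≫ fX' = fZ')
    (hpo : IsPushout ((Scheme.forgetToLocallyRingedSpace ⋙ LocallyRingedSpace.forgetToSheafedSpace).map ι) ((Scheme.forgetToLocallyRingedSpace ⋙ LocallyRingedSpace.forgetToSheafedSpace).map q)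
      ((Scheme.forgetToLocallyRingedSpace ⋙ LocallyRingedSpace.forgetToSheafedSpace).map π) ((Scheme.forgetToLocallyRingedSpace ⋙ LocallyRingedSpace.forgetToSheafedSpace).map ι'))
    [Flat fX] [Flat (ι ≫ fX)] [Flat fZ']
    (hX : ∀ (T : Scheme.{u}) (g : T ⟶ S) (U : T.Opens), IsIso ((Limits.pullback.snd fX g).app U))
    (T : Scheme.{u}) (g : T ⟶ S) (U : T.Opens) :
    IsIso ((Limits.pullback.snd fX' g).app U) := by
  have hS : IsPushout ι q π ι' := Groth.Agent.Pinch2.isPushout_of_toRS hpo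
  have H := Groth.Agent.Pinch2.hasPairs_of_cover hS.w
  haveI : Flat (ι ≫ π ≫ fX') := by rw [hπ]; infer_instance
  let iT := ((Over.pullback g).map (Over.homMk ι rfl : Over.mk (ι ≫ fX) ⟶ Over.mk fX)).left
  let qT := ((Over.pullback g).map (Over.homMk q hq : Over.mk (ι ≫ fX) ⟶ Over.mk fZ')).left
  let πT := ((Over.pullback g).map (Over.homMk π hπ : Over.mk fX ⟶ Over.mk fX')).left
  let jT := ((Over.pullback g).map (Over.homMk ι' hι' : Over.mk fZ' ⟶ Over.mk fX')).left
  have pX := Groth.Agent.Pinch2.isPullback_of_lift hπ g πT (pullback.lift_fst _ _ _) (pullback.lift_snd _ _ _)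
  have pY := Groth.Agent.Pinch2.isPullback_of_lift hι' g jT (pullback.lift_fst _ _ _) (pullback.lift_snd _ _ _)
  have pi : IsPullback (pullback.fst (ι ≫ fX) g) iT ι (pullback.fst fX g) :=
    Groth.Agent.Pinch2.isPullback_of_lift rfl g iT (pullback.lift_fst _ _ _) (pullback.lift_snd _ _ _)
  have pq : IsPullback (pullback.fst (ι ≫ fX) g) qT q (pullback.fst fZ' g) :=
    Groth.Agent.Pinch2.isPullback_of_lift hq g qT (pullback.lift_fst _ _ _) (pullback.lift_snd _ _ _)
  have hw : iT ≫ πT = qT ≫ jT := by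
    refine pullback.hom_ext ?_ ?_
    · rw [Category.assoc, Category.assoc]
      erw [pullback.lift_fst, pullback.lift_fst, pullback.lift_fst_assoc, pullback.lift_fst_assoc]
      simp [hS.w]
    · rw [Category.assoc, Category.assoc]
      erw [pullback.lift_snd, pullback.lift_snd, pullback.lift_snd, pullback.lift_snd]
  have h2 : IsPushout iT qT πT jT := Groth.Agent.Pinch2.isPushout_baseChange_of_flat
    (IsPullback.of_hasPullback fX' g) pX pY pi (pullback.lift_fst _ _ _) hw H hS (Or.inr ‹_›)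
  haveI : IsClosedImmersion iT := MorphismProperty.of_isPullback pi ‹_›
  haveI : IsAffineHom qT := MorphismProperty.of_isPullback pq inferInstance
  haveI : Flat qT := MorphismProperty.of_isPullback pq ‹_›
  haveI : Surjective qT := MorphismProperty.of_isPullback (P := @Surjective) pq ‹_›
  haveI : IsAffineHom πT := MorphismProperty.of_isPullback pX ‹_›
  haveI : IsClosedImmersion jT := MorphismProperty.of_isPullback pY ‹_›
  refine (ConcreteCategory.isIso_iff_bijective _).2 (bijective_app hw (pullback.snd fX' g) (pullback.snd fX g)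
    (pullback.lift_snd _ _ _) U (Groth.Agent.Pinch2.fibAt_all (Groth.Agent.Pinch2.hasPairs_of_cover hw) h2 _) ?_)
  haveI := hX T g U
  exact ConcreteCategory.bijective_of_isIso _

end Groth.Agent.S17905
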