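import Groth.Statements.S17917
import Groth.Agent.RefCh18.Twist
import Groth.Agent.Curves2.ProjLineProper

set_option autoImplicit false
set_option backward.isDefEq.respectTransparency.types false
universe u
open CategoryTheory CategoryTheory.Limits AlgebraicGeometry
open RefCh

namespace Groth.Agent.S17917

/-- Let k be an algebraically closed field, X an integral normal scheme of dimension s + 2 admitting a
closed immersion into some P^N_k over k, and L_1, …, L_s invertible O_X-modules with inverses M_1,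
…, M_s. Let ℒ_1 be a coherent reflexive O_X-module of rank one (ℒ_1 = O_X(D_1) for a Weil divisor
D_1, with dual ℒ_1^∨ = O_X(-D_1)) and ℒ_2 an invertible O_X-module (a Cartier divisor D_2) with
inverse 𝓜_2. With q(ℱ) the limit of 2 χ(c_1(L_1) ⋯ c_1(L_s) · [ℱ^[m]]) / m^2 (reflexive powers,
FGA.intNum in the M_i), assumed to exist for ℒ_1, ℒ_2 and the reflexive hull ℒ_1 ⊗̂ ℒ_2 of ℒ_1 ⊗
ℒ_2, one has (q(ℒ_1 ⊗̂ ℒ_2) - q(ℒ_1) - q(ℒ_2)) / 2 = χ(c_1(ℒ_2) c_1(L_1) ⋯ c_1(L_s) · ([O_X] -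
[ℒ_1^∨])), the right side written as the difference of the alternating sums FGA.intNum in (𝓜_2, M_1,
…, M_s) of O_X and of ℒ_1^∨; that is, D_1 · D_2 · L_1 ⋯ L_s equals the usual intersection number of
the Cartier divisor D_2 and the L_i with the cycle of D_1. (The published text normalises D^2 · L_1
⋯ L_s as twice the limit of χ(c_1(L_1) ⋯ c_1(L_s) · ([O_X] - [O_X(-mD)])) / m^2, the negative of the
number used here, and with that sign the identity fails for two lines on the projective plane, where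
it would read -1 = 1.) -/
theorem result (k : Type u) [Field k] [IsAlgClosed k] (X : Scheme.{u}) [X.Over (Spec (CommRingCat.of k))]
    [AlgebraicGeometry.IsIntegral X] (hnorm : Pi1.IsNormalScheme X) (s : ℕ) (hdim : topologicalKrullDim X = (s + 2 : ℕ))
    (hproj : ∃ (N : ℕ) (ι : X ⟶ CohB1.ProjSpace N k), IsClosedImmersion ι ∧ ι ≫ CohB1.ProjSpace.toSpec N k = X ↘ Spec (CommRingCat.of k))
    (L M : Fin s → X.Modules) (hL : ∀ i, PicF.IsInvertible (L i))
    (hLM : ∀ i, Nonempty (CohB1.tensorMod (L i) (M i) ≅ Coh.structureModule X))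
    (ℒ₁ ℒ₂ 𝓜₂ : X.Modules) (h₁ : RefHull.IsRef1 ℒ₁) (h₂ : PicF.IsInvertible ℒ₂)
    (h₂' : Nonempty (CohB1.tensorMod ℒ₂ 𝓜₂ ≅ Coh.structureModule X))
    (q₁ q₂ q₁₂ : ℝ)
    (hq₁ : Filter.Tendsto (fun m : ℕ => (2 : ℝ) * (FGA.intNum k X (s + 2) M (RefPow.refPow ℒ₁ m) : ℝ) / ((m : ℝ) ^ 2)) Filter.atTop (nhds q₁))
    (hq₂ : Filter.Tendsto (fun m : ℕ => (2 : ℝ) * (FGA.intNum k X (s + 2) M (RefPow.refPow ℒ₂ m) : ℝ) / ((m : ℝ) ^ 2)) Filter.atTop (nhds q₂))
    (hq₁₂ : Filter.Tendsto (fun m : ℕ => (2 : ℝ) * (FGA.intNum k X (s + 2) M (RefPow.refPow (RefPow.refTensor ℒ₁ ℒ₂) m) : ℝ) / ((m : ℝ) ^ 2)) Filter.atTop (nhds q₁₂)) :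
    (q₁₂ - q₁ - q₂) / 2 =
      ((FGA.intNum k X (s + 2) (Fin.cons 𝓜₂ M) (Coh.structureModule X) -
        FGA.intNum k X (s + 2) (Fin.cons 𝓜₂ M) (RefHull.dual ℒ₁) : ℤ) : ℝ) := by
  obtain ⟨N, ι, hι, hιk⟩ := hproj
  haveI : IsProper (CohB1.ProjSpace.toSpec N k) := Groth.Agent.Curves2.ProjLine.isProper_toSpec k N
  haveI : IsProper (X ↘ Spec (CommRingCat.of k)) := hιk ▸ inferInstance
  haveI := Groth.Agent.Crv77.isNoetherian_of_proper k X
  set δ : X → ℤ := fun x => (Groth.Agent.WC97.tdegN (X ↘ Spec (CommRingCat.of k)) x : ℤ) with hδdef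
  have hD : Cyc.DeltaCompat (X ↘ Spec (CommRingCat.of k)) δ (fun _ => 0) := Groth.Agent.FGA29.deltaCompat_tdegN k
  have hδ : Cyc.IsSetup X δ := Groth.Agent.Cyc90.isSetup_of_field _ δ hD
  have hδη : δ (genericPoint X) = ((s + 2 : ℕ) : ℤ) := by
    have h := (Groth.Agent.RefCh18.tdegN_generic k (X := X)).symm.trans hdim
    have h' : Groth.Agent.WC97.tdegN (X ↘ Spec (CommRingCat.of k)) (genericPoint X) = s + 2 := by
      exact_mod_cast h
    simp only [hδdef, h']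
  have hM := fun i => Groth.Agent.RefCh18.invertible_right (hLM i)
  have h2i := Groth.Agent.RefCh18.invertible_right h₂'
  let K := Cyc.CohLe δ ((s + 2 : ℕ) : ℤ)
  let capM := Groth.Agent.RefCh18.capHom (n := ((s + 2 : ℕ) : ℤ)) hδ M hM
  let ψ := (Groth.Agent.RefCh18.chiHom (n := ((s + 2 : ℕ) : ℤ)) k hD hδ).comp capM
  let c := Groth.Agent.RefCh18.capOp (n := ((s + 2 : ℕ) : ℤ)) hδ h2i
  let t := fun x => Groth.Agent.RefCh18.tensOp (n := ((s + 2 : ℕ) : ℤ)) hδ h₂ x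
  let o := KZero.clSub K (Coh.structureModule X)
  let y := o - KZero.clSub K ℒ₁
  have hle : ∀ P : X.Modules, RefHull.IsRef1 P → Cyc.CohLe δ ((s + 2 : ℕ) : ℤ) P := fun P hP =>
    Groth.Agent.RefCh18.cohLe_top hδ hδη hP.1
  have hval : ∀ P : X.Modules, RefHull.IsRef1 P →
      FGA.intNum k X (s + 2) M P = ψ (KZero.clSub K P) := fun P hP => by
    rw [Groth.Agent.FGA29.intNum_eq_intE k hdim.le hM hP.1]
    exact (Groth.Agent.RefCh18.chiHom_capHom k hD hδ M hM (hle P hP)).symm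
  have hval' : ∀ P : X.Modules, RefHull.IsRef1 P →
      FGA.intNum k X (s + 2) (Fin.cons 𝓜₂ M) P = ψ (c (KZero.clSub K P)) := fun P hP => by
    rw [Groth.Agent.FGA29.intNum_eq_intE k hdim.le (Groth.Agent.RefCh18.isInvertible_cons h2i hM) hP.1]
    exact (Groth.Agent.RefCh18.chiHom_capHom k hD hδ _ (Groth.Agent.RefCh18.isInvertible_cons h2i hM) (hle P hP)).symm
  have hkill : ∀ x ∈ Groth.Agent.RefCh18.filt δ ((s + 2 : ℕ) : ℤ) ((s : ℤ) - 1), ψ x = 0 := fun x hx => by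
    have hmem := Groth.Agent.RefCh18.capHom_mem hδ M hM (by omega) hx
    rw [Groth.Agent.RefCh18.filt_eq_bot (Groth.Agent.RefCh18.delta_nonneg hδ hdim.le hδη) (by omega)] at hmem
    show Groth.Agent.RefCh18.chiHom k hD hδ (capM x) = 0
    rw [show capM x = 0 from hmem, map_zero]
  have hc3 : ∀ x j, ψ (t^[j] (c (c (c x)))) = 0 := fun x j => by
    refine hkill _ (Groth.Agent.RefCh18.tens_iterate_mem hδ h₂ (by omega) ?_ j)
    have h := Groth.Agent.RefCh18.capOp_mem hδ h2i (by omega) (Groth.Agent.RefCh18.capOp_mem hδ h2i (by omega)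
      (Groth.Agent.RefCh18.capOp_mem hδ h2i le_rfl
        (Groth.Agent.RefCh18.mem_filt_of_coh (n := ((s + 2 : ℕ) : ℤ)) (fun z => Groth.Agent.RefCh18.delta_le_top hδ hδη z) x)))
    rwa [show ((s + 2 : ℕ) : ℤ) - 1 - 1 - 1 = (s : ℤ) - 1 by push_cast; ring] at h
  have hF : ∀ m : ℕ, ψ (c (KZero.clSub K (RefPow.refPow ℒ₁ m))) = ψ (c o) - (m : ℤ) * ψ (c y) ∧
      ψ (c (c (KZero.clSub K (RefPow.refPow ℒ₁ m)))) = ψ (c (c o)) := fun m => by
    have hy := Groth.Agent.RefCh18.refPow_mem hnorm hδ hδη h₁ m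
    have h1 : ψ (c ((o - KZero.clSub K (RefPow.refPow ℒ₁ m)) - (m : ℤ) • y)) = 0 := by
      refine hkill _ ?_
      have h := Groth.Agent.RefCh18.capOp_mem hδ h2i (by omega) hy
      rwa [show ((s + 2 : ℕ) : ℤ) - 2 - 1 = (s : ℤ) - 1 by push_cast; ring] at h
    have h2 : ψ (c (c (o - KZero.clSub K (RefPow.refPow ℒ₁ m)))) = 0 := by
      refine hkill _ ?_
      have h := Groth.Agent.RefCh18.capOp_mem hδ h2i (by omega) (Groth.Agent.RefCh18.capOp_mem hδ h2i (by omega)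
        (Groth.Agent.RefCh18.clSub_unit_sub_mem hnorm hδ hδη (Groth.Agent.RefCh18.isRef1_refPow hnorm h₁ m)))
      rwa [show ((s + 2 : ℕ) : ℤ) - 1 - 1 - 1 = (s : ℤ) - 1 by push_cast; ring] at h
    rw [map_sub c, map_sub c, map_zsmul c, map_sub ψ, map_sub ψ, map_zsmul ψ, smul_eq_mul] at h1
    rw [map_sub c, map_sub c, map_sub ψ] at h2
    omega
  have hR12 := Groth.Agent.RefCh18.isRef1_refTensor hnorm h₁ (Groth.Agent.RefCh18.isRef1_invertible hnorm h₂)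
  have hO : RefHull.IsRef1 (Coh.structureModule X) := Groth.Agent.Div89.Ref1.isRef1_structureModule
  have e12 : ∀ m : ℕ, 2 * FGA.intNum k X (s + 2) M (RefPow.refPow (RefPow.refTensor ℒ₁ ℒ₂) m) =
      2 * FGA.intNum k X (s + 2) M (RefPow.refPow ℒ₁ m) + 2 * (m : ℤ) * (ψ (c o) - (m : ℤ) * ψ (c y)) +
        (m : ℤ) * ((m : ℤ) + 1) * ψ (c (c o)) := fun m => by
    have hP := Groth.Agent.RefCh18.isRef1_refPow hnorm hR12 m
    obtain ⟨e⟩ := Groth.Agent.RefCh18.refPow_twist_iso hnorm h₂ h₁ m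
    have hQ := Groth.Agent.RefCh18.iterT_clSub hδ h₂ (hle _ (Groth.Agent.RefCh18.isRef1_refPow hnorm h₁ m)) m
    rw [hval _ hP, hval _ (Groth.Agent.RefCh18.isRef1_refPow hnorm h₁ m),
      Groth.Agent.RefCh18.clSub_congr_iso e (hle _ hP) hQ.1, hQ.2,
      Groth.Agent.RefCh18.eval_twist hδ h₂ h2i h₂' ψ _ (hc3 _) m, (hF m).1, (hF m).2]
  have e2 : ∀ m : ℕ, 2 * FGA.intNum k X (s + 2) M (RefPow.refPow ℒ₂ m) =
      2 * ψ o + 2 * (m : ℤ) * ψ (c o) + (m : ℤ) * ((m : ℤ) + 1) * ψ (c (c o)) := fun m => by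
    have hP := Groth.Agent.RefCh18.isRef1_refPow hnorm (Groth.Agent.RefCh18.isRef1_invertible hnorm h₂) m
    obtain ⟨e⟩ := Groth.Agent.RefCh18.refPow_invertible_iso hnorm h₂ m
    have hQ := Groth.Agent.RefCh18.iterT_clSub hδ h₂ (hle _ hO) m
    rw [hval _ hP, Groth.Agent.RefCh18.clSub_congr_iso e (hle _ hP) hQ.1, hQ.2,
      Groth.Agent.RefCh18.eval_twist hδ h₂ h2i h₂' ψ _ (hc3 _) m]
  have hrhs : FGA.intNum k X (s + 2) (Fin.cons 𝓜₂ M) (Coh.structureModule X) -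
      FGA.intNum k X (s + 2) (Fin.cons 𝓜₂ M) (RefHull.dual ℒ₁) = - ψ (c y) := by
    obtain ⟨hd, ⟨e⟩⟩ := Groth.Agent.RefCh18.dual_tensor_iso hnorm h₁
    have hy := Groth.Agent.RefCh18.refTensor_mem hnorm hδ hδη h₁ hd
    rw [Groth.Agent.RefCh18.clSub_congr_iso e (hle _ (Groth.Agent.RefCh18.isRef1_refTensor hnorm h₁ hd)) (hle _ hO)] at hy
    have h1 : ψ (c ((o - o) - (y + (o - KZero.clSub K (RefHull.dual ℒ₁))))) = 0 := by
      refine hkill _ ?_
      have h := Groth.Agent.RefCh18.capOp_mem hδ h2i (by omega) hy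
      rwa [show ((s + 2 : ℕ) : ℤ) - 2 - 1 = (s : ℤ) - 1 by push_cast; ring] at h
    rw [hval' _ hO, hval' _ hd]
    show ψ (c o) - _ = _
    simp only [y, map_sub, map_add] at h1 ⊢
    omega
  have hlim : ∀ α β : ℝ, Filter.Tendsto (fun m : ℕ => (2 : ℝ) * (α - (m : ℝ) * β) / ((m : ℝ) ^ 2)) Filter.atTop (nhds 0) :=
    Groth.Agent.RefCh18.tendsto_affine_div_sq
  have key : Filter.Tendsto (fun _ : ℕ => (-2 : ℝ) * ((ψ (c y) : ℤ) : ℝ)) Filter.atTop (nhds (q₁₂ - q₁ - q₂)) := by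
    have h := (((hq₁₂.sub hq₁).sub hq₂).add (hlim ((ψ o : ℤ) : ℝ) 0))
    rw [add_zero] at h
    refine h.congr' ?_
    filter_upwards [Filter.eventually_ne_atTop 0] with m hm
    have hm' : (m : ℝ) ≠ 0 := Nat.cast_ne_zero.2 hm
    have a := congrArg (fun z : ℤ => (z : ℝ)) (e12 m)
    have b := congrArg (fun z : ℤ => (z : ℝ)) (e2 m)
    push_cast at a b
    field_simp
    linear_combination (a - b) / 2
  have hq := tendsto_nhds_unique key tendsto_const_nhds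
  rw [hrhs]
  push_cast
  linarith

end Groth.Agent.S17917
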