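import Groth.Statements.S17919
import Groth.Agent.RefCh18.FrobTf
import Groth.Agent.RefCh18.Pair
import Groth.Agent.Curves2.ProjLineProper

set_option autoImplicit false
set_option backward.isDefEq.respectTransparency.types false
universe u
open CategoryTheory CategoryTheory.Limits AlgebraicGeometry
open RefCh

namespace Groth.Agent.S17919

/-- Let k be an algebraically closed field of characteristic p > 0, X an integral normal scheme of
dimension s + 3 admitting a closed immersion into some P^N_k over k, L_1, …, L_s, A and B invertible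
O_X-modules with inverses M_1, …, M_s, A' and B', E a coherent reflexive O_X-module, and (G_m) its
reflexive Frobenius pull-backs F_X^[m] E (G_0 = E, G_{m+1} ≅ (F_X^* G_m)^**). Suppose χ(c_1(A)
c_1(L_1) ⋯ c_1(L_s) · [G_m]) / p^{2m} → a, χ(c_1(B) c_1(L_1) ⋯ c_1(L_s) · [G_m]) / p^{2m} → b and
χ(c_1(A ⊗ B) c_1(L_1) ⋯ c_1(L_s) · [G_m]) / p^{2m} → c as m → ∞ (alternating sums FGA.intNum in (A',
M_1, …, M_s), (B', M_1, …, M_s) and (A' ⊗ B', M_1, …, M_s)). Then c = a + b: the number ∫_X ch_2(E)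
L_0 L_1 ⋯ L_s, defined as such a limit, is additive in the invertible module L_0. -/
theorem result (k : Type u) [Field k] [IsAlgClosed k] (X : Scheme.{u}) [X.Over (Spec (CommRingCat.of k))]
    [AlgebraicGeometry.IsIntegral X] (hnorm : Pi1.IsNormalScheme X) (s : ℕ) (hdim : topologicalKrullDim X = (s + 3 : ℕ))
    (hproj : ∃ (N : ℕ) (ι : X ⟶ CohB1.ProjSpace N k), IsClosedImmersion ι ∧ ι ≫ CohB1.ProjSpace.toSpec N k = X ↘ Spec (CommRingCat.of k))
    (p : ℕ) [Fact p.Prime] [CharP k p] [FrobSch.IsCharP X p]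
    (L M : Fin s → X.Modules) (hL : ∀ i, PicF.IsInvertible (L i))
    (hLM : ∀ i, Nonempty (CohB1.tensorMod (L i) (M i) ≅ Coh.structureModule X))
    (A A' B B' : X.Modules) (hA : PicF.IsInvertible A) (hB : PicF.IsInvertible B)
    (hAA' : Nonempty (CohB1.tensorMod A A' ≅ Coh.structureModule X))
    (hBB' : Nonempty (CohB1.tensorMod B B' ≅ Coh.structureModule X))
    (E : X.Modules) (hE : Coh.IsCoh E) (hEr : RefHull.IsReflexive E)
    (G : ℕ → X.Modules) (hG0 : G 0 = E)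
    (hG : ∀ m, Nonempty (G (m + 1) ≅ RefHull.ddual ((Scheme.Modules.pullback (FrobSch.frob X p)).obj (G m)))) (a b c : ℝ)
    (ha : Filter.Tendsto (fun m : ℕ => (FGA.intNum k X (s + 3) (Fin.cons A' M) (G m) : ℝ) / ((p : ℝ) ^ (2 * m))) Filter.atTop (nhds a))
    (hb : Filter.Tendsto (fun m : ℕ => (FGA.intNum k X (s + 3) (Fin.cons B' M) (G m) : ℝ) / ((p : ℝ) ^ (2 * m))) Filter.atTop (nhds b))
    (hc : Filter.Tendsto (fun m : ℕ => (FGA.intNum k X (s + 3) (Fin.cons (CohB1.tensorMod A' B') M) (G m) : ℝ) / ((p : ℝ) ^ (2 * m))) Filter.atTop (nhds c)) :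
    c = a + b := by
  obtain ⟨N, ι, hι, hιk⟩ := hproj
  haveI : IsProper (CohB1.ProjSpace.toSpec N k) := Groth.Agent.Curves2.ProjLine.isProper_toSpec k N
  haveI : IsProper (X ↘ Spec (CommRingCat.of k)) := hιk ▸ inferInstance
  haveI := Groth.Agent.Crv77.isNoetherian_of_proper k X
  set δ : X → ℤ := fun x => (Groth.Agent.WC97.tdegN (X ↘ Spec (CommRingCat.of k)) x : ℤ) with hδdef
  have hD : Cyc.DeltaCompat (X ↘ Spec (CommRingCat.of k)) δ (fun _ => 0) := Groth.Agent.FGA29.deltaCompat_tdegN k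
  have hδ : Cyc.IsSetup X δ := Groth.Agent.Cyc90.isSetup_of_field _ δ hD
  have hδη : δ (genericPoint X) = ((s + 3 : ℕ) : ℤ) := by
    have h := (Groth.Agent.RefCh18.tdegN_generic k (X := X)).symm.trans hdim
    have h' : Groth.Agent.WC97.tdegN (X ↘ Spec (CommRingCat.of k)) (genericPoint X) = s + 3 := by
      exact_mod_cast h
    simp only [hδdef, h']
  have hM := fun i => Groth.Agent.RefCh18.invertible_right (hLM i)
  have hA' := Groth.Agent.RefCh18.invertible_right hAA'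
  have hB' := Groth.Agent.RefCh18.invertible_right hBB'
  have hAB := Groth.Agent.EGA73.isInvertible_tensorMod hA' hB'
  obtain ⟨r, P, hP, hmem⟩ := Groth.Agent.RefCh18.frobPull_mem p hnorm hδ hδη hE hEr G hG0 hG
  have hcoh : ∀ m, Cyc.CohLe δ ((s + 3 : ℕ) : ℤ) (G m) := fun m =>
    Groth.Agent.RefCh18.cohLe_top hδ hδη (hmem m).1
  let K := Cyc.CohLe δ ((s + 3 : ℕ) : ℤ)
  let χ := Groth.Agent.RefCh18.chiHom (n := ((s + 3 : ℕ) : ℤ)) k hD hδ
  let capM := Groth.Agent.RefCh18.capHom (n := ((s + 3 : ℕ) : ℤ)) hδ M hM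
  let cA := Groth.Agent.RefCh18.capOp (n := ((s + 3 : ℕ) : ℤ)) hδ hA'
  let cB := Groth.Agent.RefCh18.capOp (n := ((s + 3 : ℕ) : ℤ)) hδ hB'
  let T := χ.comp (capM.comp (cA.comp cB))
  let o := KZero.clSub K (Coh.structureModule X)
  let F := fun m => KZero.clSub K (G m)
  have hint : ∀ (C : X.Modules) (hC : PicF.IsInvertible C) (m : ℕ),
      FGA.intNum k X (s + 3) (Fin.cons C M) (G m) =
        χ (capM (Groth.Agent.RefCh18.capOp hδ hC (F m))) := fun C hC m => by
    rw [Groth.Agent.FGA29.intNum_eq_intE k hdim.le (Groth.Agent.RefCh18.isInvertible_cons hC hM) (hmem m).1,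
      ← Groth.Agent.RefCh18.chiHom_capHom k hD hδ _ (Groth.Agent.RefCh18.isInvertible_cons hC hM) (hcoh m)]
    rfl
  have hlin : ∀ m : ℕ, T (F m) = T (r • o) - ((p ^ m : ℕ) : ℤ) * T (o - KZero.clSub K P) := fun m => by
    have hz : capM (cA (cB (F m - (r • o - ((p ^ m : ℕ) : ℤ) • (o - KZero.clSub K P))))) = 0 := by
      have hm := Groth.Agent.RefCh18.capHom_mem hδ M hM (m := ((s + 3 : ℕ) : ℤ) - 2 - 1 - 1) (by omega)
        (Groth.Agent.RefCh18.capOp_mem hδ hA' (by omega) (Groth.Agent.RefCh18.capOp_mem hδ hB' (by omega) (hmem m).2))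
      rw [Groth.Agent.RefCh18.filt_eq_bot (Groth.Agent.RefCh18.delta_nonneg hδ hdim.le hδη) (by omega)] at hm
      exact hm
    have h0 : T (F m - (r • o - ((p ^ m : ℕ) : ℤ) • (o - KZero.clSub K P))) = 0 := by
      show χ (capM (cA (cB _))) = 0
      rw [hz, map_zero]
    rw [map_sub, map_sub T (r • o), map_zsmul T ((p ^ m : ℕ) : ℤ), smul_eq_mul] at h0
    omega
  have hlim0 := (Groth.Agent.RefCh18.tendsto_affine_div_sq ((T (r • o) : ℤ) : ℝ)
    ((T (o - KZero.clSub K P) : ℤ) : ℝ)).comp (tendsto_pow_atTop_atTop_of_one_lt (Fact.out : p.Prime).one_lt)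
  have hsum : ∀ m : ℕ, (FGA.intNum k X (s + 3) (Fin.cons (CohB1.tensorMod A' B') M) (G m) : ℝ) / ((p : ℝ) ^ (2 * m)) =
      (FGA.intNum k X (s + 3) (Fin.cons A' M) (G m) : ℝ) / ((p : ℝ) ^ (2 * m)) +
      (FGA.intNum k X (s + 3) (Fin.cons B' M) (G m) : ℝ) / ((p : ℝ) ^ (2 * m)) -
      (2 : ℝ) * (((T (r • o) : ℤ) : ℝ) - (((p ^ m : ℕ) : ℕ) : ℝ) * ((T (o - KZero.clSub K P) : ℤ) : ℝ)) /
        ((((p ^ m : ℕ) : ℕ) : ℝ) ^ 2) / 2 := fun m => by
    rw [hint _ hAB m, hint _ hA' m, hint _ hB' m, Groth.Agent.RefCh18.capOp_tensor hδ hA' hB' hAB, map_sub, map_add,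
      map_sub, map_add, show χ (capM (Groth.Agent.RefCh18.capOp hδ hA' (Groth.Agent.RefCh18.capOp hδ hB' (F m)))) =
        T (F m) from rfl, hlin m]
    push_cast
    ring
  have hlim := (ha.add hb).sub (hlim0.div_const 2)
  rw [zero_div, sub_zero] at hlim
  exact tendsto_nhds_unique hc (hlim.congr fun m => (hsum m).symm)

end Groth.Agent.S17919
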