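import Groth.Statements.S17929
import Groth.Agent.RefCh18.Sum

set_option autoImplicit false
universe u
open CategoryTheory CategoryTheory.Limits AlgebraicGeometry
open RefCh

namespace Groth.Agent.S17929

/-- Let k be an algebraically closed field, X an integral normal scheme of dimension n = s + 2 admitting
a closed immersion into some P^N_k over k, δ a dimension function on X (Cyc.IsSetup) with δ(generic
point) = n, L_1, …, L_s, A and B invertible O_X-modules with inverses M_1, …, M_s, A' and B' (so A'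
⊗ B' is an inverse of A ⊗ B), and ℒ a coherent reflexive O_X-module of rank one (ℒ = O_X(-D)). For a
family (N_0, …, N_s) of modules put S_N(ℒ) = Σ_{I ⊆ {0, …, s}} (-1)^{|I|} ([N_I ⊗ O_X] - [N_I ⊗ ℒ])
in K(X) = K_0(Coh(X)) (classes KZero.clSub of coherent modules), N_I = ⊗_{i∈I} N_i, so that S_{(A',
M_1, …, M_s)}(O_X(-D)) = c_1(A) c_1(L_1) ⋯ c_1(L_s) · [O_D]. Then S_{(A' ⊗ B', M)}(ℒ) = S_{(A',
M)}(ℒ) + S_{(B', M)}(ℒ): the K(X)-valued symbol c_1(L_0) c_1(L_1) ⋯ c_1(L_s) · [O_D] is additive,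
hence ℤ-linear, in the invertible module L_0. -/
theorem result (k : Type u) [Field k] [IsAlgClosed k] (X : Scheme.{u}) [X.Over (Spec (CommRingCat.of k))]
    [AlgebraicGeometry.IsIntegral X] (hnorm : Pi1.IsNormalScheme X) (s : ℕ) (hdim : topologicalKrullDim X = (s + 2 : ℕ))
    (hproj : ∃ (N : ℕ) (ι : X ⟶ CohB1.ProjSpace N k), IsClosedImmersion ι ∧ ι ≫ CohB1.ProjSpace.toSpec N k = X ↘ Spec (CommRingCat.of k))
    (δ : X → ℤ) (hδ : Cyc.IsSetup X δ) (hδη : δ (genericPoint X) = (s + 2 : ℕ))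
    (L M : Fin s → X.Modules) (hL : ∀ i, PicF.IsInvertible (L i))
    (hLM : ∀ i, Nonempty (CohB1.tensorMod (L i) (M i) ≅ Coh.structureModule X))
    (A A' B B' : X.Modules) (hA : PicF.IsInvertible A) (hB : PicF.IsInvertible B)
    (hAA' : Nonempty (CohB1.tensorMod A A' ≅ Coh.structureModule X))
    (hBB' : Nonempty (CohB1.tensorMod B B' ≅ Coh.structureModule X))
    (ℒ : X.Modules) (hℒ : RefHull.IsRef1 ℒ) :
    (∑ I : Finset (Fin (s + 1)), ((-1 : ℤ) ^ I.card) •
        (KZero.clSub (Cyc.CohLe δ (s + 2 : ℕ)) (CohB1.tensorMod (FGA.tensorList ((I.sort (· ≤ ·)).map (Fin.cons (CohB1.tensorMod A' B') M))) (Coh.structureModule X)) -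
          KZero.clSub (Cyc.CohLe δ (s + 2 : ℕ)) (CohB1.tensorMod (FGA.tensorList ((I.sort (· ≤ ·)).map (Fin.cons (CohB1.tensorMod A' B') M))) ℒ))) =
      (∑ I : Finset (Fin (s + 1)), ((-1 : ℤ) ^ I.card) •
        (KZero.clSub (Cyc.CohLe δ (s + 2 : ℕ)) (CohB1.tensorMod (FGA.tensorList ((I.sort (· ≤ ·)).map (Fin.cons A' M))) (Coh.structureModule X)) -
          KZero.clSub (Cyc.CohLe δ (s + 2 : ℕ)) (CohB1.tensorMod (FGA.tensorList ((I.sort (· ≤ ·)).map (Fin.cons A' M))) ℒ))) +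
      (∑ I : Finset (Fin (s + 1)), ((-1 : ℤ) ^ I.card) •
        (KZero.clSub (Cyc.CohLe δ (s + 2 : ℕ)) (CohB1.tensorMod (FGA.tensorList ((I.sort (· ≤ ·)).map (Fin.cons B' M))) (Coh.structureModule X)) -
          KZero.clSub (Cyc.CohLe δ (s + 2 : ℕ)) (CohB1.tensorMod (FGA.tensorList ((I.sort (· ≤ ·)).map (Fin.cons B' M))) ℒ))) := by
  haveI := hδ.1
  have hM := fun i => Groth.Agent.RefCh18.invertible_right (hLM i)
  have hA' := Groth.Agent.RefCh18.invertible_right hAA'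
  have hB' := Groth.Agent.RefCh18.invertible_right hBB'
  have h1 := Groth.Agent.RefCh18.cohLe_top hδ hδη Groth.Agent.Div89.isCoh_structureModule
  have h2 := Groth.Agent.RefCh18.cohLe_top hδ hδη hℒ.1
  have hAB := Groth.Agent.EGA73.isInvertible_tensorMod hA' hB'
  rw [Groth.Agent.RefCh18.sum_clSub_sub hδ _ (Groth.Agent.RefCh18.isInvertible_cons hAB hM) h1 h2,
    Groth.Agent.RefCh18.sum_clSub_sub hδ _ (Groth.Agent.RefCh18.isInvertible_cons hA' hM) h1 h2,
    Groth.Agent.RefCh18.sum_clSub_sub hδ _ (Groth.Agent.RefCh18.isInvertible_cons hB' hM) h1 h2,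
    Groth.Agent.RefCh18.capHom_cons hδ hAB hM, Groth.Agent.RefCh18.capHom_cons hδ hA' hM,
    Groth.Agent.RefCh18.capHom_cons hδ hB' hM, Groth.Agent.RefCh18.capOp_tensor hδ hA' hB' hAB,
    map_sub, map_add, sub_eq_self]
  have hmem := Groth.Agent.RefCh18.capHom_mem hδ M hM (m := ((s + 2 : ℕ) : ℤ) - 1 - 1 - 1) (by omega)
    (Groth.Agent.RefCh18.capOp_mem hδ hA' (by omega) (Groth.Agent.RefCh18.capOp_mem hδ hB' (by omega)
      (Groth.Agent.RefCh18.clSub_unit_sub_mem hnorm hδ hδη hℒ)))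
  rw [Groth.Agent.RefCh18.filt_eq_bot (Groth.Agent.RefCh18.delta_nonneg hδ hdim.le hδη) (by omega)] at hmem
  exact hmem

end Groth.Agent.S17929
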