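import Groth.Statements.S17930
import Groth.Agent.RefCh18.Bc
import Groth.Agent.Curves2.ProjLineProper

set_option autoImplicit false
set_option backward.isDefEq.respectTransparency.types false
universe u
open CategoryTheory CategoryTheory.Limits AlgebraicGeometry
open RefCh

namespace Groth.Agent.S17930

/-- Let k be an algebraically closed field of characteristic p > 0, X an integral normal scheme of
dimension s + 2 admitting a closed immersion into some P^N_k over k, L_1, …, L_s invertible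
O_X-modules with inverses M_1, …, M_s, E a coherent reflexive O_X-module and (G_m) its reflexive
Frobenius pull-backs (G_0 = E, G_{m+1} ≅ (F_X^* G_m)^**). Let K ⊇ k be an algebraically closed
extension field, X_K = X ×_k Spec K with projection π : X_K → X, and (G'_m) reflexive Frobenius
pull-backs of E_K = π^*E on X_K (G'_0 = π^*E, G'_{m+1} ≅ (F_{X_K}^* G'_m)^**). If χ(c_1(L_1) ⋯
c_1(L_s) · [G_m]) / p^{2m} → b (alternating sums FGA.intNum over k in the M_i) and χ(c_1(π^*L_1) ⋯
c_1(π^*L_s) · [G'_m]) / p^{2m} → b' (alternating sums FGA.intNum over K in the π^*M_i), then b' = b: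
the number ∫_X ch_2(E) L_1 ⋯ L_s is unchanged by algebraically closed base field extension. -/
theorem result (k : Type u) [Field k] [IsAlgClosed k] (X : Scheme.{u}) [X.Over (Spec (CommRingCat.of k))]
    [AlgebraicGeometry.IsIntegral X] (hnorm : Pi1.IsNormalScheme X) (s : ℕ) (hdim : topologicalKrullDim X = (s + 2 : ℕ))
    (hproj : ∃ (N : ℕ) (ι : X ⟶ CohB1.ProjSpace N k), IsClosedImmersion ι ∧ ι ≫ CohB1.ProjSpace.toSpec N k = X ↘ Spec (CommRingCat.of k))
    (p : ℕ) [Fact p.Prime] [CharP k p] [FrobSch.IsCharP X p]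
    (L M : Fin s → X.Modules) (hL : ∀ i, PicF.IsInvertible (L i))
    (hLM : ∀ i, Nonempty (CohB1.tensorMod (L i) (M i) ≅ Coh.structureModule X))
    (E : X.Modules) (hE : Coh.IsCoh E) (hEr : RefHull.IsReflexive E)
    (G : ℕ → X.Modules) (hG0 : G 0 = E)
    (hG : ∀ m, Nonempty (G (m + 1) ≅ RefHull.ddual ((Scheme.Modules.pullback (FrobSch.frob X p)).obj (G m)))) (b : ℝ)
    (hb : Filter.Tendsto (fun m : ℕ => (FGA.intNum k X (s + 2) M (G m) : ℝ) / ((p : ℝ) ^ (2 * m))) Filter.atTop (nhds b))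
    (K : Type u) [Field K] [IsAlgClosed K] [Algebra k K] [FrobSch.IsCharP (Curv2.bc k X K) p]
    (G' : ℕ → (Curv2.bc k X K).Modules) (hG'0 : G' 0 = (Scheme.Modules.pullback (Curv2.bcFst k X K)).obj E)
    (hG' : ∀ m, Nonempty (G' (m + 1) ≅ RefHull.ddual ((Scheme.Modules.pullback (FrobSch.frob (Curv2.bc k X K) p)).obj (G' m))))
    (b' : ℝ)
    (hb' : letI : (Curv2.bc k X K).Over (Spec (CommRingCat.of K)) := ⟨Curv2.bcSnd k X K⟩
      Filter.Tendsto (fun m : ℕ => (FGA.intNum K (Curv2.bc k X K) (s + 2) (fun i => (Scheme.Modules.pullback (Curv2.bcFst k X K)).obj (M i)) (G' m) : ℝ) / ((p : ℝ) ^ (2 * m))) Filter.atTop (nhds b')) :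
    b' = b := by
  obtain ⟨N, ι, hι, hιk⟩ := hproj
  haveI : IsProper (CohB1.ProjSpace.toSpec N k) := Groth.Agent.Curves2.ProjLine.isProper_toSpec k N
  haveI : IsProper (X ↘ Spec (CommRingCat.of k)) := hιk ▸ inferInstance
  haveI := Groth.Agent.Crv77.isNoetherian_of_proper k X
  letI : (Curv2.bc k X K).Over (Spec (CommRingCat.of K)) := ⟨Curv2.bcSnd k X K⟩
  haveI hp : IsProper ((Curv2.bc k X K) ↘ Spec (CommRingCat.of K)) := inferInstanceAs (IsProper (pullback.snd _ _))
  haveI := Groth.Agent.RefCh18.isIntegral_bc_of_normal k X K hnorm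
  haveI := Groth.Agent.Crv77.isNoetherian_of_proper K (Curv2.bc k X K)
  have hdimK : topologicalKrullDim (Curv2.bc k X K) ≤ ((s + 2 : ℕ) : WithBot ℕ∞) :=
    ((Groth.Agent.FBase64.topologicalKrullDim_bc (X ↘ Spec (CommRingCat.of k)) K).trans hdim).le
  have hM := fun i => Groth.Agent.RefCh18.invertible_right (hLM i)
  have hiso := Groth.Agent.RefCh18.frobPull_bc k K p hnorm hE hEr G hG0 hG G' hG'0 hG'
  have hc := fun m => (Groth.Agent.RefCh18.frobPull_reflexive p hE hEr G hG0 hG m).1
  have heq : ∀ m, FGA.intNum K (Curv2.bc k X K) (s + 2) (fun i => (Scheme.Modules.pullback (Curv2.bcFst k X K)).obj (M i)) (G' m) =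
      FGA.intNum k X (s + 2) M (G m) := fun m => by
    obtain ⟨e⟩ := hiso m
    rw [Groth.Agent.FGA29.intNum_eq_intE K hdimK (fun i => Groth.Agent.Amp73.isInvertible_pullback _ (hM i))
        (Groth.Agent.Crv77.isCoh_of_iso e.symm (Groth.Agent.ConsProp93.isCoh_pullback _ (hc m))),
      Groth.Agent.FGA29.intNum_eq_intE k hdim.le hM (hc m)]
    exact Groth.Agent.RefCh18.intE_bc k K hM (hc m) e
  exact tendsto_nhds_unique hb' (hb.congr fun m => by rw [heq m])

end Groth.Agent.S17930
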