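import Groth.Statements.S17933
import Groth.Agent.MultH.Duality

set_option autoImplicit false
universe u
open MultCrv

namespace Groth.Agent.S17933

open Groth.Agent.MultH

/-- Let R be a discrete valuation ring, n ≥ 1, A = R[X]/(X^n) with z the class of X, and M a finitely
generated A-module. Then M is torsion-free as an R-module if and only if the submodule M^(1) of
elements killed by z is a free R-module. (This is the statement at a closed point of the sheaf
statement: for a primitive multiple curve of multiplicity n the local ring at a closed point is of
the form R[X]/(X^n) with R the local ring of the reduced smooth curve, torsion-freeness is the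
absence of sections with finite support, and local freeness on the reduced curve is freeness of the
stalk; the row is stated for every discrete valuation ring R.) -/
theorem result (R : Type u) [CommRing R] [IsDomain R] [IsDiscreteValuationRing R] (n : ℕ) (hn : 1 ≤ n) (M : Type u) [AddCommGroup M] [Module (MultCrv.Rn R n) M] [Module R M] [IsScalarTower R (MultCrv.Rn R n) M] [Module.Finite (MultCrv.Rn R n) M] : Module.IsTorsionFree R M ↔ Module.Free R ↥(MultCrv.filt2 R n M 1) := by
  have := finite_R (R := R) (n := n) (M := M)
  constructor
  · intro h
    have : Module.IsTorsionFree R ↥(filt2 R n M 1) := isTorsionFree_of fun r u hr hru =>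
      Subtype.ext (eq_zero_of_smul (M := M) hr (congrArg Subtype.val hru))
    have : Module.Finite R ↥((filt2 R n M 1).restrictScalars R) := inferInstance
    have : Module.Finite R ↥(filt2 R n M 1) := this
    exact Module.free_of_finite_type_torsion_free'
  · intro h
    refine isTorsionFree_of fun r u hr hru => ?_
    by_contra hu
    classical
    have hex : ∃ k, z R n ^ k • u = 0 := ⟨n, by rw [z_pow_n]; exact zero_smul (Rn R n) u⟩
    obtain ⟨k, hk⟩ := Nat.exists_eq_succ_of_ne_zero (n := Nat.find hex)
      (fun h0 => hu (by simpa [h0] using Nat.find_spec hex))
    have hmem : z R n ^ k • u ∈ filt2 R n M 1 := by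
      show z R n ^ 1 • (z R n ^ k • u) = 0
      rw [smul_smul, ← pow_add, add_comm 1 k]
      exact (hk ▸ Nat.find_spec hex : z R n ^ k.succ • u = 0)
    have h2 : r • (⟨z R n ^ k • u, hmem⟩ : ↥(filt2 R n M 1)) = 0 := Subtype.ext (by
      show r • (z R n ^ k • u) = 0
      rw [MultH.smul_comm' r, hru, smul_zero])
    have h3 := congrArg Subtype.val ((smul_eq_zero.mp h2).resolve_left hr)
    exact Nat.find_min hex (m := k) (by omega) h3

end Groth.Agent.S17933
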