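import Groth.Statements.S17934
import Groth.Agent.MultH.Duality

set_option autoImplicit false
universe u
open MultCrv

namespace Groth.Agent.S17934

open Groth.Agent.MultH

/-- Let R be a discrete valuation ring, n ≥ 1, A = R[X]/(X^n) with z the class of X, and M a finitely
generated A-module that is torsion-free as an R-module. Then for 1 ≤ i ≤ n the graded piece
M^(i)/M^(i-1) of the second canonical filtration (M^(i) the elements killed by z^i) is a free
R-module. (Statement at a closed point of the sheaf statement on a primitive multiple curve of
multiplicity n, whose local rings are of the form R[X]/(X^n) with R the local ring of the reduced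
smooth curve; stated for every discrete valuation ring R.) -/
theorem result (R : Type u) [CommRing R] [IsDomain R] [IsDiscreteValuationRing R] (n : ℕ) (hn : 1 ≤ n) (M : Type u) [AddCommGroup M] [Module (MultCrv.Rn R n) M] [Module R M] [IsScalarTower R (MultCrv.Rn R n) M] [Module.Finite (MultCrv.Rn R n) M] [Module.IsTorsionFree R M] (i : ℕ) (hi : 1 ≤ i) (hin : i ≤ n) : Module.Free R (MultCrv.G2 R n M i) := by
  have := finite_R (R := R) (n := n) (M := M)
  have : Module.IsTorsionFree R (MultCrv.G2 R n M i) := by
    refine isTorsionFree_of fun r v hr hrv => ?_
    induction v using Submodule.Quotient.induction_on with | H u =>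
    rw [← Submodule.Quotient.mk_smul, Submodule.Quotient.mk_eq_zero] at hrv
    rw [Submodule.Quotient.mk_eq_zero]
    change z R n ^ (i - 1) • (r • (u : M)) = 0 at hrv
    change z R n ^ (i - 1) • (u : M) = 0
    rw [← MultH.smul_comm'] at hrv
    exact eq_zero_of_smul hr hrv
  have hf : Module.Finite (Rn R n) (MultCrv.G2 R n M i) := inferInstance
  have : Module.Finite R (MultCrv.G2 R n M i) := Module.Finite.trans (Rn R n) _
  exact Module.free_of_finite_type_torsion_free'

end Groth.Agent.S17934
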