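import Groth.Statements.S17935
import Groth.Agent.MultH.Duality

set_option autoImplicit false
universe u
open MultCrv

namespace Groth.Agent.S17935

open Groth.Agent.MultH

/-- Let R be a discrete valuation ring, n ≥ 1, A = R[X]/(X^n), and M a finitely generated A-module. Then
M is reflexive over A (the evaluation map into the double A-dual is bijective) if and only if M is
torsion-free as an R-module. (Statement at a closed point of the sheaf statement on a primitive
multiple curve of multiplicity n, whose local rings are of the form R[X]/(X^n) with R the local ring
of the reduced smooth curve, torsion-freeness of a coherent sheaf there meaning no nonzero subsheaf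
with finite support; stated for every discrete valuation ring R.) -/
theorem result (R : Type u) [CommRing R] [IsDomain R] [IsDiscreteValuationRing R] (n : ℕ) (hn : 1 ≤ n) (M : Type u) [AddCommGroup M] [Module (MultCrv.Rn R n) M] [Module R M] [IsScalarTower R (MultCrv.Rn R n) M] [Module.Finite (MultCrv.Rn R n) M] : Module.IsReflexive (MultCrv.Rn R n) M ↔ Module.IsTorsionFree R M := by
  constructor
  · intro h
    refine isTorsionFree_of fun r u hr hru => ?_
    refine h.bijective_dual_eval'.1 (LinearMap.ext fun φ => ?_)
    simp only [map_zero, LinearMap.zero_apply, Module.Dual.eval_apply]
    exact torsionFree_Rn hn hr (by rw [← LinearMap.map_smul_of_tower, hru, map_zero])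
  · intro h
    have := finite_R (R := R) (n := n) (M := M)
    have := free_R (R := R) (n := n) (M := M)
    refine ⟨?_, fun Φ => ?_⟩
    · refine (injective_iff_map_eq_zero _).mpr fun u hu => ?_
      refine (Module.forall_dual_apply_eq_zero_iff R u).mp fun g => ?_
      have := congrArg (tau hn) (LinearMap.congr_fun hu (hat hn g))
      simpa [tau_hat] using this
    · let L : Module.Dual R (Module.Dual R M) :=
        { toFun := fun g => tau hn (Φ (hat hn g))
          map_add' := fun a b => by
            have : hat hn (a + b) = hat hn a + hat (n := n) hn b :=
              ext_tau hn fun u => by simp [tau_hat]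
            rw [this, map_add, map_add]
          map_smul' := fun r a => by
            have h1 : hat hn (r • a) = (algebraMap R (Rn R n) r) • hat (n := n) hn a :=
              ext_tau hn fun u => by
                simp only [LinearMap.smul_apply, tau_hat, algebraMap_smul, map_smul]
            rw [h1, map_smul, algebraMap_smul, map_smul]
            rfl }
      obtain ⟨u, hu⟩ := (Module.IsReflexive.bijective_dual_eval' (R := R) (M := M)).2 L
      refine ⟨u, ext_tau hn fun φ => ?_⟩
      have h1 := LinearMap.congr_fun hu ((tau hn).comp (φ.restrictScalars R))
      have h2 : hat hn ((tau hn).comp (φ.restrictScalars R)) = φ :=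
        ext_tau hn fun v => by simp [tau_hat]
      simpa [L, h2] using h1

end Groth.Agent.S17935
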