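import Groth.Statements.S17940
import Groth.Agent.MultH.Basic
import Groth.Agent.S17945

set_option autoImplicit false
universe u
open MultCrv

namespace Groth.Agent.S17940

open Groth.Agent.MultH

/-- Let R be a discrete valuation ring, n ≥ 1, A = R[X]/(X^n) with z the class of X, and M an A-module
that is quasi-free of type (m_1, …, m_n), i.e. isomorphic to the direct sum of m_i copies of
A/(z^i). Let φ be a surjective A-linear map from a finitely generated free module A^r onto M that is
bijective modulo z (the preimage of zM is zA^r). Then the kernel of φ is quasi-free of type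
(m_{n-1}, m_{n-2}, …, m_1, 0). (Statement at a closed point of the sheaf statement on a primitive
multiple curve of multiplicity n with local rings R[X]/(X^n), for the kernel of a surjection from a
vector bundle onto a quasi locally free sheaf that is an isomorphism on the reduced curve; stated
for every discrete valuation ring R.) -/
theorem result (R : Type u) [CommRing R] [IsDomain R] [IsDiscreteValuationRing R] (n : ℕ) (hn : 1 ≤ n) (m : Fin n → ℕ) (M : Type u) [AddCommGroup M] [Module (MultCrv.Rn R n) M] (hM : MultCrv.IsQuasiFreeOfType R n M m) (r : ℕ) (φ : (Fin r → MultCrv.Rn R n) →ₗ[MultCrv.Rn R n] M) (hφ : Function.Surjective φ) (hφz : ∀ f : Fin r → MultCrv.Rn R n, φ f ∈ MultCrv.filt R n M 1 → f ∈ MultCrv.filt R n (Fin r → MultCrv.Rn R n) 1) : MultCrv.IsQuasiFreeOfType R n ↥(LinearMap.ker φ) (MultCrv.revType n m) := by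
  obtain ⟨e⟩ := hM
  let F0 := (i : Fin n) → (Fin (m i) → Rn R n)
  let π : F0 →ₗ[Rn R n] QFModel R n m := (QFModel.equivPi R n m).symm.toLinearMap.comp
    (LinearMap.pi fun i => LinearMap.pi fun j =>
      (Submodule.mkQ (Ideal.span {z R n ^ (i.1 + 1)})).comp
        ((LinearMap.proj (R := Rn R n) (φ := fun _ : Fin (m i) => Rn R n) j).comp
          (LinearMap.proj (R := Rn R n) (φ := fun i : Fin n => Fin (m i) → Rn R n) i)))
  have hπval : ∀ (v : F0) i j, QFModel.equivPi R n m (π v) i j =
      Submodule.Quotient.mk (v i j) := fun v i j => rfl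
  have hπsurj : Function.Surjective π := by
    intro q
    choose v hv using fun i j => Submodule.Quotient.mk_surjective _ (QFModel.equivPi R n m q i j)
    exact ⟨v, (QFModel.equivPi R n m).injective (funext fun i => funext fun j => hv i j)⟩
  have hker : ∀ v : F0, π v = 0 → ∀ i j, ∃ c, c * z R n ^ (i.1 + 1) = v i j := by
    intro v hv i j
    have h := hπval v i j
    rw [hv, map_zero, Pi.zero_apply, Pi.zero_apply] at h
    exact Ideal.mem_span_singleton'.mp ((Submodule.Quotient.mk_eq_zero _).mp h.symm)
  have hkerz : ∀ v : F0, π v = 0 → ∃ w : F0, z R n • w = v := by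
    intro v hv
    choose c hc using hker v hv
    refine ⟨fun i j => c i j * z R n ^ i.1, funext fun i => funext fun j => ?_⟩
    rw [← hc i j]
    change z R n * (c i j * z R n ^ i.1) = c i j * z R n ^ (i.1 + 1)
    rw [pow_succ]; ring
  obtain ⟨ψ, hψ⟩ := Module.projective_lifting_property π (e.toLinearMap.comp φ) hπsurj
  have hψ' : ∀ u, π (ψ u) = e (φ u) := fun u => LinearMap.congr_fun hψ u
  have hψsurj : Function.Surjective ψ := by
    refine (S17945.result R n hn _ _ ψ).mpr fun v => ?_
    obtain ⟨u, hu⟩ := hφ (e.symm (π v))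
    obtain ⟨w, hw⟩ := hkerz (v - ψ u) (by rw [map_sub, hψ', hu, e.apply_symm_apply, sub_self])
    exact ⟨u, w, by simpa using hw⟩
  have hψinj : Function.Injective ψ := by
    obtain ⟨s, hs⟩ := Module.projective_lifting_property ψ LinearMap.id hψsurj
    have hs' : ∀ v, ψ (s v) = v := fun v => LinearMap.congr_fun hs v
    refine (injective_iff_map_eq_zero ψ).mpr fun u hu => ?_
    have key : ∀ k : ℕ, ∃ w, ψ w = 0 ∧ u = z R n ^ k • w := by
      intro k
      induction k with
      | zero => exact ⟨u, hu, by simp⟩
      | succ k ih =>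
        obtain ⟨w, hw, rfl⟩ := ih
        have hφw : φ w = 0 := e.injective (by rw [← hψ', hw, map_zero, map_zero])
        obtain ⟨w', hw'⟩ := hφz w (by rw [hφw]; exact zero_mem _)
        have hw'' : z R n • w' = w := by simpa using hw'
        refine ⟨w' - s (ψ w'), by rw [map_sub, hs', sub_self], ?_⟩
        rw [pow_succ]
        refine Eq.trans ?_ (mul_smul (z R n ^ k) (z R n) (w' - s (ψ w'))).symm
        congr 1
        rw [smul_sub, hw'', ← map_smul, ← map_smul, hw'', hw, map_zero, sub_zero]
    obtain ⟨w, -, hw⟩ := key n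
    rw [hw, z_pow_n]
    exact zero_smul (Rn R n) w
  -- multiplication by a power of `z`
  let μ : ∀ a b : ℕ, n ≤ a + b → Oi R n a →ₗ[Rn R n] Rn R n := fun a b h =>
    (Ideal.span {z R n ^ a}).liftQ (LinearMap.toSpanSingleton _ _ (z R n ^ b)) (by
      intro x hx
      obtain ⟨c, rfl⟩ := Ideal.mem_span_singleton'.mp hx
      rw [LinearMap.mem_ker, LinearMap.toSpanSingleton_apply, smul_eq_mul, mul_assoc, ← pow_add,
        z_pow_eq_zero h, mul_zero])
  have hμinj : ∀ a b (h : a + b = n) q, μ a b h.ge q = 0 → q = 0 := by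
    intro a b h q hq
    induction q using Submodule.Quotient.induction_on with | H p =>
    obtain ⟨f, rfl⟩ := Ideal.Quotient.mk_surjective p
    have hq' : (Ideal.Quotient.mk _ f : Rn R n) * z R n ^ b = 0 := hq
    rw [z, ← map_pow, ← map_mul, Ideal.Quotient.eq_zero_iff_mem, Ideal.mem_span_singleton] at hq'
    obtain ⟨g, hg⟩ : (Polynomial.X : Polynomial R) ^ a ∣ f := by
      have h2 : (Polynomial.X : Polynomial R) ^ a * Polynomial.X ^ b ∣ f * Polynomial.X ^ b := by
        rwa [← pow_add, h]
      exact (mul_dvd_mul_iff_right (pow_ne_zero b Polynomial.X_ne_zero)).mp h2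
    rw [Submodule.Quotient.mk_eq_zero, Ideal.mem_span_singleton, hg, map_mul, map_pow]
    exact dvd_mul_right _ _
  have hrev : ∀ (i : Fin n) (h : i.1 + 1 < n), revType n m ⟨n - 2 - i.1, by omega⟩ = m i := by
    intro i h
    rw [revType, dif_pos (show n - 2 - i.1 + 1 < n by omega)]
    exact congrArg m (Fin.ext (show n - 2 - (n - 2 - i.1) = i.1 by omega))
  let G : ∀ i : Fin n, Fin (m i) → (QFModel R n (revType n m) →ₗ[Rn R n] Rn R n) := fun i j =>
    if h : i.1 + 1 < n then
      (μ (n - 2 - i.1 + 1) (i.1 + 1) (by omega)).comp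
        ((LinearMap.proj (Fin.cast (hrev i h).symm j)).comp
          ((LinearMap.proj (⟨n - 2 - i.1, by omega⟩ : Fin n)).comp
            (QFModel.equivPi R n (revType n m)).toLinearMap))
    else 0
  let Θ : QFModel R n (revType n m) →ₗ[Rn R n] F0 :=
    LinearMap.pi fun i => LinearMap.pi fun j => G i j
  have hΘzero : ∀ x (i : Fin n), ¬ i.1 + 1 < n → ∀ j, Θ x i j = 0 := by
    intro x i h j
    change G i j x = 0
    simp only [G]
    rw [dif_neg h]
    rfl
  have hΘval : ∀ x (i : Fin n) (h : i.1 + 1 < n) j, Θ x i j =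
      μ (n - 2 - i.1 + 1) (i.1 + 1) (by omega)
        (QFModel.equivPi R n (revType n m) x ⟨n - 2 - i.1, by omega⟩ (Fin.cast (hrev i h).symm j)) := by
    intro x i h j
    change G i j x = _
    simp only [G]
    rw [dif_pos h]
    rfl
  have hrevlast : ∀ k : Fin n, ¬ k.1 + 1 < n → revType n m k = 0 := fun k h => dif_neg h
  have hΘinj : Function.Injective Θ := by
    refine (injective_iff_map_eq_zero Θ).mpr fun x hx => ?_
    refine (QFModel.equivPi R n (revType n m)).injective (funext fun k => funext fun j => ?_)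
    rw [map_zero, Pi.zero_apply, Pi.zero_apply]
    by_cases hk : k.1 + 1 < n
    swap
    · exact absurd j.2 (by have := hrevlast k hk; omega)
    let i : Fin n := ⟨n - 2 - k.1, by omega⟩
    have hi : i.1 + 1 < n := by simp only [i]; omega
    have hki : (⟨n - 2 - i.1, by omega⟩ : Fin n) = k := Fin.ext (by simp only [i]; omega)
    have hall : ∀ j' : Fin (revType n m ⟨n - 2 - i.1, by omega⟩),
        QFModel.equivPi R n (revType n m) x ⟨n - 2 - i.1, by omega⟩ j' = 0 := by
      intro j'
      have := hΘval x i hi (Fin.cast (hrev i hi) j')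
      rw [hx] at this
      have h2 := hμinj _ _ (by omega) _ this.symm
      simpa using h2
    have hgen : ∀ (k' : Fin n), k' = k → (∀ j' : Fin (revType n m k'),
        QFModel.equivPi R n (revType n m) x k' j' = 0) →
        QFModel.equivPi R n (revType n m) x k j = 0 := by
      rintro _ rfl h
      exact h j
    exact hgen _ hki hall
  have hrange : LinearMap.range Θ = LinearMap.ker π := by
    apply le_antisymm
    · rintro _ ⟨x, rfl⟩
      refine LinearMap.mem_ker.mpr ((QFModel.equivPi R n m).injective ?_)
      funext i j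
      rw [hπval, map_zero, Pi.zero_apply, Pi.zero_apply, Submodule.Quotient.mk_eq_zero]
      by_cases h : i.1 + 1 < n
      · rw [hΘval x i h j]
        induction QFModel.equivPi R n (revType n m) x ⟨n - 2 - i.1, by omega⟩
          (Fin.cast (hrev i h).symm j) using Submodule.Quotient.induction_on with | H p =>
        exact Ideal.mem_span_singleton'.mpr ⟨p, rfl⟩
      · rw [hΘzero x i h j]
        exact zero_mem _
    · intro y hy
      choose c hc using hker y (LinearMap.mem_ker.mp hy)
      let x : (k : Fin n) → Fin (revType n m k) → Oi R n (k.1 + 1) := fun k j =>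
        if h : k.1 + 1 < n then
          Submodule.Quotient.mk (c ⟨n - 2 - k.1, by omega⟩ (Fin.cast (dif_pos h) j))
        else 0
      refine ⟨(QFModel.equivPi R n (revType n m)).symm x, ?_⟩
      funext i j
      by_cases h : i.1 + 1 < n
      · rw [hΘval _ i h j, LinearEquiv.apply_symm_apply, ← hc i j]
        simp only [x]
        rw [dif_pos (show n - 2 - i.1 + 1 < n by omega)]
        change _ * z R n ^ (i.1 + 1) = _
        congr 1
        have hgen : ∀ (i' : Fin n), i' = i → ∀ j' : Fin (m i'), j'.1 = j.1 → c i' j' = c i j := by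
          rintro _ rfl j' hj'
          rw [Fin.ext hj']
        exact hgen _ (Fin.ext (show n - 2 - (n - 2 - i.1) = i.1 by omega)) _ rfl
      · rw [hΘzero _ i h j, ← hc i j, z_pow_eq_zero (by omega)]
        exact (mul_zero (c i j)).symm
  let ψe : (Fin r → Rn R n) ≃ₗ[Rn R n] F0 := LinearEquiv.ofBijective ψ ⟨hψinj, hψsurj⟩
  have hmap : (LinearMap.ker φ).map (ψe : (Fin r → Rn R n) →ₗ[Rn R n] F0) = LinearMap.ker π := by
    apply le_antisymm
    · rintro _ ⟨u, hu, rfl⟩
      exact LinearMap.mem_ker.mpr ((hψ' u).trans (by rw [LinearMap.mem_ker.mp hu, map_zero]))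
    · intro v hv
      obtain ⟨u, rfl⟩ := hψsurj v
      refine ⟨u, LinearMap.mem_ker.mpr (e.injective ?_), rfl⟩
      rw [← hψ', LinearMap.mem_ker.mp hv, map_zero]
  exact ⟨(ψe.submoduleMap _).trans ((LinearEquiv.ofEq _ _ (hmap.trans hrange.symm)).trans
    (LinearEquiv.ofInjective Θ hΘinj).symm)⟩

end Groth.Agent.S17940
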