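import Groth.Statements.S17943
import Groth.Agent.MultH.Duality

set_option autoImplicit false
universe u
open MultCrv

namespace Groth.Agent.S17943

open Groth.Agent.MultH

/-- Let R be a discrete valuation ring, n ≥ 1, A = R[X]/(X^n) with z the class of X, and M a finitely
generated A-module. For 0 ≤ i < n the R-modules G^(i+1)(M) = M^(i+1)/M^(i) (M^(j) the elements
killed by z^j) and G_i(M) = z^i M/z^(i+1) M have the same rank over R. (Statement at a closed point
of the sheaf statement on a primitive multiple curve of multiplicity n with local rings R[X]/(X^n),
where the rank of a coherent sheaf on the reduced smooth curve is its generic rank, here the rank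
over R of the stalk; the equality of degrees that the published statement gives together with this
rank equality is a statement on the global curve and is not part of this row; stated for every
discrete valuation ring R.) -/
theorem result (R : Type u) [CommRing R] [IsDomain R] [IsDiscreteValuationRing R] (n : ℕ) (hn : 1 ≤ n) (M : Type u) [AddCommGroup M] [Module (MultCrv.Rn R n) M] [Module R M] [IsScalarTower R (MultCrv.Rn R n) M] [Module.Finite (MultCrv.Rn R n) M] (i : ℕ) (hi : i < n) : Module.finrank R (MultCrv.G2 R n M (i + 1)) = Module.finrank R (MultCrv.G1 R n M i) := by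
  have := finite_R (R := R) (n := n) (M := M)
  have key : ∀ (S T : Submodule (Rn R n) M), T ≤ S →
      Module.finrank R (↥S ⧸ T.comap S.subtype) + Module.finrank R ↥T = Module.finrank R ↥S := by
    intro S T hTS
    have : Module.Finite R ↥S := Module.Finite.trans (Rn R n) _
    have h1 := Submodule.finrank_quotient_add_finrank (R := R)
      ((T.comap S.subtype).restrictScalars R)
    rw [(Submodule.Quotient.restrictScalarsEquiv R (T.comap S.subtype)).finrank_eq] at h1
    have h2 : Module.finrank R ↥((T.comap S.subtype).restrictScalars R) = Module.finrank R ↥T :=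
      ((Submodule.comapSubtypeEquivOfLe hTS).restrictScalars R).finrank_eq
    rw [h2] at h1
    exact h1
  have nk : ∀ j, Module.finrank R ↥(filt R n M j) + Module.finrank R ↥(filt2 R n M j) =
      Module.finrank R M := by
    intro j
    let f : M →ₗ[R] M := ((z R n ^ j) • (LinearMap.id : M →ₗ[Rn R n] M)).restrictScalars R
    have h1 := Submodule.finrank_quotient_add_finrank (R := R) (LinearMap.ker f)
    rw [f.quotKerEquivRange.finrank_eq] at h1
    exact h1
  have hle1 : filt R n M (i + 1) ≤ filt R n M i := by
    rintro _ ⟨v, rfl⟩
    refine ⟨z R n • v, ?_⟩
    simp only [LinearMap.smul_apply, LinearMap.id_apply, smul_smul, pow_succ]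
  have hle2 : filt2 R n M i ≤ filt2 R n M (i + 1) := by
    intro v hv
    change z R n ^ (i + 1) • v = 0
    have hv' : z R n ^ i • v = 0 := hv
    rw [pow_succ', mul_smul, hv', smul_zero]
  have e1 := key _ _ hle1
  have e2 := key _ _ hle2
  have e3 : Module.finrank R (MultCrv.G2 R n M (i + 1)) + Module.finrank R ↥(filt2 R n M i) =
      Module.finrank R ↥(filt2 R n M (i + 1)) := e2
  have e4 : Module.finrank R (MultCrv.G1 R n M i) + Module.finrank R ↥(filt R n M (i + 1)) =
      Module.finrank R ↥(filt R n M i) := e1
  have := nk i
  have := nk (i + 1)
  omega

end Groth.Agent.S17943
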