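import Groth.Statements.S17944
import Groth.Agent.MultH.Duality

set_option autoImplicit false
universe u
open MultCrv

namespace Groth.Agent.S17944

open Groth.Agent.MultH

/-- Let R be a discrete valuation ring, n ≥ 1, A = R[X]/(X^n) with z the class of X, and M a finitely
generated A-module. Then the graded pieces G_i(M) = z^i M/z^(i+1) M are free R-modules for all 0 ≤ i
< n if and only if the modules Γ^(i)(M) are free R-modules for all 0 ≤ i < n, where Γ^(i)(M) is the
cokernel of the map M^(i+2)/M^(i+1) → M^(i+1)/M^(i) induced by multiplication by z (M^(j) the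
elements killed by z^j). (Statement at a closed point P of the sheaf statement on a primitive
multiple curve of multiplicity n, whose local rings are R[X]/(X^n) with R the local ring of the
reduced smooth curve: the published conditions are local freeness on the reduced curve of the
corresponding sheaves, read here at P; the published statement also asserts that these conditions
are equivalent to the stalk being quasi-free, i.e. isomorphic to a direct sum of modules A/(z^j),
which is not part of this row; stated for every discrete valuation ring R.) -/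
theorem result (R : Type u) [CommRing R] [IsDomain R] [IsDiscreteValuationRing R] (n : ℕ) (hn : 1 ≤ n) (M : Type u) [AddCommGroup M] [Module (MultCrv.Rn R n) M] [Module R M] [IsScalarTower R (MultCrv.Rn R n) M] [Module.Finite (MultCrv.Rn R n) M] : (∀ i : ℕ, i < n → Module.Free R (MultCrv.G1 R n M i)) ↔ (∀ i : ℕ, i < n → Module.Free R (MultCrv.Gam2 R n M i)) := by
  have := finite_R (R := R) (n := n) (M := M)
  have freeOf : ∀ (Q : Type u) [AddCommGroup Q] [Module (Rn R n) Q] [Module R Q]
      [IsScalarTower R (Rn R n) Q] [Module.Finite (Rn R n) Q],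
      (Module.Free R Q ↔ ∀ (r : R) (v : Q), r ≠ 0 → r • v = 0 → v = 0) := by
    intro Q _ _ _ _ _
    have := finite_R (R := R) (n := n) (M := Q)
    refine ⟨fun h r v hr hrv => (smul_eq_zero.mp hrv).resolve_left hr, fun h => ?_⟩
    have := isTorsionFree_of h
    exact free_R (R := R) (n := n) (M := Q)
  simp only [freeOf]
  -- `N j = zM + M^(j)`
  let InN : ℕ → M → Prop := fun j v => ∃ w, z R n ^ j • (v - z R n • w) = 0
  have hG1 : ∀ j, (∀ (r : R) (v : G1 R n M j), r ≠ 0 → r • v = 0 → v = 0) ↔
      ∀ (r : R) (u : M), r ≠ 0 → InN j (r • u) → InN j u := by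
    intro j
    have hmk : ∀ (s : ↥(filt R n M j)) (u : M), z R n ^ j • u = (s : M) →
        ((Submodule.Quotient.mk s : G1 R n M j) = 0 ↔ InN j u) := by
      intro s u hs
      rw [Submodule.Quotient.mk_eq_zero, Submodule.mem_comap]
      change (∃ w, (z R n ^ (j + 1) • (LinearMap.id : M →ₗ[Rn R n] M)) w = (s : M)) ↔ _
      refine exists_congr fun w => ?_
      simp only [LinearMap.smul_apply, LinearMap.id_apply]
      rw [← hs, smul_sub, smul_smul, ← pow_succ, sub_eq_zero, eq_comm]
    constructor
    · intro h r u hr hu
      let s : ↥(filt R n M j) := ⟨z R n ^ j • u, ⟨u, rfl⟩⟩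
      refine (hmk s u rfl).mp (h r _ hr ?_)
      rw [← Submodule.Quotient.mk_smul]
      exact (hmk _ (r • u) (MultH.smul_comm' r (z R n ^ j) u).symm).mpr hu
    · intro h r v hr hv
      induction v using Submodule.Quotient.induction_on with | H s =>
      obtain ⟨u, hu⟩ := s.2
      simp only [LinearMap.smul_apply, LinearMap.id_apply] at hu
      rw [← Submodule.Quotient.mk_smul] at hv
      refine (hmk s u hu).mpr (h r u hr ((hmk _ (r • u) ?_).mp hv))
      rw [← MultH.smul_comm', hu]
      rfl
  have hGam : ∀ j, (∀ (r : R) (v : Gam2 R n M j), r ≠ 0 → r • v = 0 → v = 0) ↔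
      ∀ (r : R) (u : M), z R n ^ (j + 1) • u = 0 → r ≠ 0 → InN j (r • u) → InN j u := by
    intro j
    have hmk : ∀ (u : ↥(filt2 R n M (j + 1))),
        (Submodule.Quotient.mk (Submodule.Quotient.mk u : G2 R n M (j + 1)) : Gam2 R n M j) = 0 ↔
          InN j (u : M) := by
      intro u
      rw [Submodule.Quotient.mk_eq_zero]
      constructor
      · rintro ⟨q, hq⟩
        induction q using Submodule.Quotient.induction_on with | H w =>
        rw [lamG2, Submodule.mapQ_apply, Submodule.Quotient.eq] at hq
        refine ⟨(w : M), ?_⟩
        change z R n ^ (j + 1 - 1) • (z R n • (w : M) - (u : M)) = 0 at hq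
        rw [Nat.add_sub_cancel] at hq
        rw [← neg_sub, smul_neg, hq, neg_zero]
      · rintro ⟨w, hw⟩
        have hzw : z R n ^ (j + 2) • w = 0 := by
          have h1 : z R n ^ (j + 1) • ((u : M) - z R n • w) = 0 := by
            rw [pow_succ', mul_smul, hw, smul_zero]
          have hu2 : z R n ^ (j + 1) • (u : M) = 0 := u.2
          rw [smul_sub, hu2, zero_sub, neg_eq_zero, smul_smul,
            ← pow_succ] at h1
          exact h1
        refine ⟨Submodule.Quotient.mk ⟨w, hzw⟩, ?_⟩
        rw [lamG2, Submodule.mapQ_apply, Submodule.Quotient.eq]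
        change z R n ^ (j + 1 - 1) • (z R n • w - (u : M)) = 0
        rw [Nat.add_sub_cancel, ← neg_sub, smul_neg, hw, neg_zero]
    constructor
    · intro h r u hu hr hru
      let s : ↥(filt2 R n M (j + 1)) := ⟨u, hu⟩
      refine (hmk s).mp (h r _ hr ?_)
      rw [← Submodule.Quotient.mk_smul, ← Submodule.Quotient.mk_smul]
      exact (hmk _).mpr hru
    · intro h r v hr hv
      induction v using Submodule.Quotient.induction_on with | H g =>
      induction g using Submodule.Quotient.induction_on with | H s =>
      rw [← Submodule.Quotient.mk_smul, ← Submodule.Quotient.mk_smul] at hv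
      exact (hmk s).mpr (h r s s.2 hr ((hmk _).mp hv))
  simp only [hG1, hGam]
  constructor
  · exact fun h j hj r u _ hr hru => h j hj r u hr hru
  · intro h j hj
    have key : ∀ d j, n ≤ j + d → ∀ (r : R) (u : M), r ≠ 0 → InN j (r • u) → InN j u := by
      intro d
      induction d with
      | zero =>
        intro j hj r u _ _
        exact ⟨0, by rw [z_pow_eq_zero (by omega)]; exact zero_smul (Rn R n) (u - z R n • (0 : M))⟩
      | succ d ih =>
        intro j hj r u hr hru
        by_cases hjn : n ≤ j
        · exact ih j (by omega) r u hr hru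
        obtain ⟨w₀, hw₀⟩ := hru
        obtain ⟨w, hw⟩ := ih (j + 1) (by omega) r u hr
          ⟨w₀, by rw [pow_succ', mul_smul, hw₀, smul_zero]⟩
        obtain ⟨w', hw'⟩ := h j (by omega) r (u - z R n • w) hw hr
          ⟨w₀ - r • w, by
            have e : r • (u - z R n • w) - z R n • (w₀ - r • w) = r • u - z R n • w₀ := by
              rw [smul_sub, smul_sub, MultH.smul_comm' r]; abel
            rw [e]; exact hw₀⟩
        refine ⟨w + w', ?_⟩
        rw [smul_add, ← sub_sub]
        exact hw'
    exact key n j (by omega)

end Groth.Agent.S17944
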