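import Groth.Statements.S17949
import Groth.Agent.Hens22.SphBasic

set_option autoImplicit false
universe u
open CategoryTheory AlgebraicGeometry Opposite
open HensSch

namespace Groth.Agent.S17949

open TopologicalSpace


/-- Let `X` be a Henselian scheme and let `U = Sph(A, I)`, `V = Sph(B, J)` be affine Henselian opens of
`X` (open immersions `iU`, `iV` of the affine Henselian spectra of Henselian pairs). Then every
point of `U ∩ V` lies in an open subset of `X` which is at the same time the image of a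
distinguished open `D(f) ∩ V(I)` of `U` and the image of a distinguished open `D(g) ∩ V(J)` of `V`. -/
theorem result (X : LocallyRingedSpace.{u}) (hX : HensSch.IsHensScheme X)
    (U V : LocallyRingedSpace.{u}) (iU : U ⟶ X) [LocallyRingedSpace.IsOpenImmersion iU]
    (iV : V ⟶ X) [LocallyRingedSpace.IsOpenImmersion iV]
    (A : Type u) [CommRing A] (I : Ideal A) [HenselianRing A I] (πU : U ⟶ HensSch.specLRS A)
    (hU : HensSch.IsSph A I U πU)
    (B : Type u) [CommRing B] (J : Ideal B) [HenselianRing B J] (πV : V ⟶ HensSch.specLRS B)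
    (hV : HensSch.IsSph B J V πV)
    (x : X) (hxU : x ∈ Set.range iU.base) (hxV : x ∈ Set.range iV.base) :
    ∃ (f : A) (g : B), x ∈ iU.base '' (HensSch.dOpen πU f : Set U) ∧
      iU.base '' (HensSch.dOpen πU f : Set U) = iV.base '' (HensSch.dOpen πV g : Set V) := by
  obtain ⟨u, rfl⟩ := hxU
  obtain ⟨v, hv⟩ := hxV
  let PU : Opens X := (LocallyRingedSpace.IsOpenImmersion.opensFunctor iU).obj ⊤
  obtain ⟨g, hvg, hgU⟩ := Hens22.Sph.exists_dOpen hV
    (U := (Opens.map iV.base).obj PU) (x := v) (by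
      show iV.base v ∈ PU
      rw [hv]
      exact ⟨u, trivial, rfl⟩)
  let PV : Opens X := (LocallyRingedSpace.IsOpenImmersion.opensFunctor iV).obj (HensSch.dOpen πV g)
  obtain ⟨f, huf, hfV⟩ := Hens22.Sph.exists_dOpen hU
    (U := (Opens.map iU.base).obj PV) (x := u) ⟨v, hvg, hv⟩
  let s : X.presheaf.obj (op PU) :=
    LocallyRingedSpace.IsOpenImmersion.invApp iU ⊤ (Hens22.Sph.glob πU f)
  have h1 : (Opens.map iU.base).obj (X.toRingedSpace.basicOpen s) = HensSch.dOpen πU f := by
    rw [LocallyRingedSpace.preimage_basicOpen iU s, ← Hens22.Sph.basicOpen_glob]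
    have h2 : iU.c.app (op PU) s = U.presheaf.map (eqToHom (by
        show op ⊤ = op ((Opens.map iU.base).obj PU)
        exact congrArg op (Opens.ext (Set.preimage_image_eq _
          (PresheafedSpace.IsOpenImmersion.base_open (f := iU.toHom)).injective).symm)))
        (Hens22.Sph.glob πU f) := by
      show (LocallyRingedSpace.IsOpenImmersion.invApp iU ⊤ ≫ iU.c.app (op PU)) _ = _
      rw [LocallyRingedSpace.IsOpenImmersion.invApp_app]
    erw [h2, RingedSpace.basicOpen_res_eq]
  have hsub : X.toRingedSpace.basicOpen s ≤ PU := X.toRingedSpace.basicOpen_le s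
  let t : Hens22.Sph.O πV g := V.presheaf.map (homOfLE hgU).op (iV.c.app (op PU) s)
  obtain ⟨b, hb⟩ := Hens22.Sph.basicOpen_section hV t
  have hb' : HensSch.dOpen πV b =
      HensSch.dOpen πV g ⊓ (Opens.map iV.base).obj (X.toRingedSpace.basicOpen s) := by
    rw [← hb, LocallyRingedSpace.preimage_basicOpen iV s]
    exact V.toRingedSpace.basicOpen_res (homOfLE hgU).op _
  refine ⟨f, b, ⟨u, huf, rfl⟩, Set.ext fun y => ⟨?_, ?_⟩⟩
  · rintro ⟨w, hw, rfl⟩
    obtain ⟨z, hz, hzw⟩ := hfV hw
    refine ⟨z, ?_, hzw⟩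
    rw [hb']
    refine ⟨hz, ?_⟩
    show iV.base z ∈ X.toRingedSpace.basicOpen s
    rw [show iV.base z = iU.base w from hzw]
    rw [← h1] at hw
    exact hw
  · rintro ⟨z, hz, rfl⟩
    rw [hb'] at hz
    have hzs : iV.base z ∈ X.toRingedSpace.basicOpen s := hz.2
    obtain ⟨w, -, hw⟩ := hsub hzs
    refine ⟨w, ?_, hw⟩
    rw [← h1]
    show iU.base w ∈ X.toRingedSpace.basicOpen s
    rw [show iU.base w = iV.base z from hw]
    exact hzs

end Groth.Agent.S17949
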