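import Groth.Statements.S17953
import Groth.Agent.Hens22.SphFlat
import Groth.Agent.Hens22.PullFlat

set_option autoImplicit false
universe u
open CategoryTheory AlgebraicGeometry Opposite
open HensSch

namespace Groth.Agent.S17953

/-- Let `ι : Xh ⟶ X` be the Henselization of a quasi-compact scheme `X` along a closed subset `Y`
containing every closed point of `X`. Then `F ↦ F^h = ι^* F` is faithful on quasi-coherent
`O_X`-modules. (The published statement has no condition on `X` or `Y`; for `X = Spec (k × k)`, `Y`
one of the two points and `F` the quasi-coherent module supported at the other point, `F^h = 0`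
while `F` has nonzero endomorphisms, so faithfulness fails. The published argument, faithful
flatness of the local rings of `Xh` over those of `X` at points of `Y`, gives faithfulness exactly
when every point of `X` specializes to a point of `Y`, which the two hypotheses here ensure.) -/
theorem result (X : Scheme.{u}) [CompactSpace X] (Y : Set X)
    (hY : ∀ x : X, IsClosed ({x} : Set X) → x ∈ Y)
    (Xh : LocallyRingedSpace.{u}) (ι : Xh ⟶ X.toLocallyRingedSpace)
    (hh : HensSch.IsHenselizationAlong X Y Xh ι)
    (F G : X.Modules) [F.IsQuasicoherent] [G.IsQuasicoherent] :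
    Function.Injective ((HensSch.pullMod ι).map : (F ⟶ G) → ((HensSch.pullMod ι).obj F ⟶ (HensSch.pullMod ι).obj G)) := by
  intro f₀ g₀ hfg
  let f : @Quiver.Hom X.Modules _ F G := f₀
  let g : @Quiver.Hom X.Modules _ F G := g₀
  show f = g
  have := (HensSch.pullPushAdj ι).left_adjoint_additive
  apply sub_eq_zero.1
  refine Hens22.PullFlat.eq_zero_of_map_eq_zero (Hens22.Sph.flat_stalkMap_henselization hh) (f - g)
    (fun p => ?_) (((HensSch.pullMod ι).map_sub).trans (sub_eq_zero.2 hfg))
  obtain ⟨q, hqc, hqcl⟩ := IsClosed.exists_closed_singleton (isClosed_closure (s := {p}))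
    ⟨p, subset_closure rfl⟩
  obtain ⟨z, hz⟩ := hh.2.2.1.symm ▸ hY q hqcl
  exact ⟨z, specializes_iff_mem_closure.2 (by rw [show Hens22.PullFlat.pt ι z = q from hz]; exact hqc)⟩

end Groth.Agent.S17953
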