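import Groth.Statements.S17955
import Groth.Agent.Hens22.HensFull

set_option autoImplicit false
universe u
open CategoryTheory AlgebraicGeometry Opposite
open HensSch

namespace Groth.Agent.S17955

/-- Let `(A, I)` be a Noetherian Henselian pair with `A` `I`-adically complete, `X` a proper `A`-scheme
and `ι : Xh ⟶ X` its `I`-adic Henselization. Then `F ↦ F^h = ι^* F` is fully faithful on coherent
`O_X`-modules: for coherent `F, G` the map `Hom(F, G) → Hom(F^h, G^h)` is bijective. (Exactness of
this functor is the content of the separate exactness statement for Henselizations.) -/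
theorem result (A : Type u) [CommRing A] (I : Ideal A) [IsNoetherianRing A]
    [HenselianRing A I] [IsAdicComplete I A]
    (X : Scheme.{u}) (s : X ⟶ Spec (CommRingCat.of A)) [IsProper s]
    (Xh : LocallyRingedSpace.{u}) (ι : Xh ⟶ X.toLocallyRingedSpace)
    (hh : HensSch.IsHenselizationAlong X (s.base ⁻¹' PrimeSpectrum.zeroLocus (I : Set A)) Xh ι)
    (F G : X.Modules) (hF : Coh.IsCoh F) (hG : Coh.IsCoh G) :
    Function.Bijective ((HensSch.pullMod ι).map : (F ⟶ G) → ((HensSch.pullMod ι).obj F ⟶ (HensSch.pullMod ι).obj G)) := by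
  letI : X.Over (Spec (CommRingCat.of A)) := ⟨s⟩
  haveI : IsProper (X ↘ Spec (CommRingCat.of A)) := ‹IsProper s›
  haveI := LocallyOfFiniteType.isLocallyNoetherian (X ↘ Spec (CommRingCat.of A))
  haveI := hF.1
  haveI := hF.2
  haveI := hG.1
  have hflat := Hens22.Sph.flat_stalkMap_henselization hh
  refine ⟨fun f₀ g₀ hfg => ?_, fun h => ?_⟩
  · let f : @Quiver.Hom X.Modules _ F G := f₀
    let g : @Quiver.Hom X.Modules _ F G := g₀
    show f = g
    have := (HensSch.pullPushAdj ι).left_adjoint_additive
    apply sub_eq_zero.1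
    exact Hens22.PullFlat.eq_zero_of_map_eq_zero hflat (f - g)
      (Hens22.HensCoh.exists_specializes I hh)
      (((HensSch.pullMod ι).map_sub).trans (sub_eq_zero.2 hfg))
  · exact Hens22.HensFull.exists_map_eq F G ι hflat h
      (Hens22.HensCoh.eta_bijective I hh (Groth.Agent.QC70.isCoh_homMod hF hG)).2

end Groth.Agent.S17955
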