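import Groth.Statements.S17958
import Groth.Agent.Hens22.Triangle
import Groth.Agent.Hens22.PairNormal
import Groth.Agent.Hens22.Integral

set_option autoImplicit false
open CategoryTheory AlgebraicGeometry Opposite
open HensSch

namespace Groth.Agent.S17958

/-- Let `R` be a Henselization of the pair `(ℂ[x, y], (x y (x + y − 1)))` (with `x, y` the two variables
of `MvPolynomial (Fin 2) ℂ`), let `K` be an algebraic closure of the fraction field `ℂ(x, y)` into
which `R` is embedded over `ℂ[x, y]`, let `A` be the integral closure of `R` in `K` and `I = x y (x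
+ y − 1) A`. Then `(A, I)` is a Henselian pair and, for `(X, π)` the affine Henselian spectrum of
`(A, I)`, the first sheaf cohomology group `H¹(X, O_X)` is nonzero (so the vanishing of higher
cohomology of quasi-coherent modules on affine Henselian spectra fails in characteristic zero). -/
theorem result
    (R : Type) [CommRing R] [Algebra (MvPolynomial (Fin 2) ℂ) R]
    (hR : Hens2.IsPairHenselization (MvPolynomial (Fin 2) ℂ)
      (Ideal.span {MvPolynomial.X 0 * MvPolynomial.X 1 * (MvPolynomial.X 0 + MvPolynomial.X 1 - 1)}) R)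
    (K : Type) [Field K] [Algebra (MvPolynomial (Fin 2) ℂ) K]
    [NoZeroSMulDivisors (MvPolynomial (Fin 2) ℂ) K] [IsAlgClosure (MvPolynomial (Fin 2) ℂ) K]
    [Algebra R K] [IsScalarTower (MvPolynomial (Fin 2) ℂ) R K]
    (hinj : Function.Injective (algebraMap R K))
    (X : LocallyRingedSpace.{0}) (π : X ⟶ HensSch.specLRS (integralClosure R K))
    (hX : HensSch.IsSph (integralClosure R K)
      (Ideal.map (algebraMap R (integralClosure R K))
        (Ideal.map (algebraMap (MvPolynomial (Fin 2) ℂ) R)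
          (Ideal.span {MvPolynomial.X 0 * MvPolynomial.X 1 * (MvPolynomial.X 0 + MvPolynomial.X 1 - 1)})))
      X π) :
    HenselianRing (integralClosure R K)
      (Ideal.map (algebraMap R (integralClosure R K))
        (Ideal.map (algebraMap (MvPolynomial (Fin 2) ℂ) R)
          (Ideal.span {MvPolynomial.X 0 * MvPolynomial.X 1 * (MvPolynomial.X 0 + MvPolynomial.X 1 - 1)}))) ∧
    Nontrivial (ModSite.HC X.sheaf (ModSite.unit X.sheaf) 1) := by
  haveI : IsAlgClosed K := IsAlgClosure.isAlgClosed (MvPolynomial (Fin 2) ℂ)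
  haveI : Algebra.IsAlgebraic (MvPolynomial (Fin 2) ℂ) K := IsAlgClosure.isAlgebraic
  have hPK : Function.Injective (algebraMap (MvPolynomial (Fin 2) ℂ) K) :=
    FaithfulSMul.algebraMap_injective _ _
  haveI : CharZero K := charZero_of_injective_ringHom hPK
  haveI : IsDomain R := hinj.isDomain (algebraMap R K)
  haveI : FaithfulSMul R K := (faithfulSMul_iff_algebraMap_injective R K).2 hinj
  have hPR : Function.Injective (algebraMap (MvPolynomial (Fin 2) ℂ) R) := by
    rw [IsScalarTower.algebraMap_eq (MvPolynomial (Fin 2) ℂ) R K, RingHom.coe_comp] at hPK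
    exact hPK.of_comp
  haveI : Algebra.IsAlgebraic R K := Algebra.IsAlgebraic.extendScalars hPR
  haveI : IsIntegrallyClosed R := Hens22.isIntegrallyClosed_pairHens hR
  haveI := hR.1
  refine ⟨Hens22.henselianRing_of_isIntegral _ _, ?_⟩
  -- six primes of `R`
  let t : MvPolynomial (Fin 2) ℂ :=
    MvPolynomial.X 0 * MvPolynomial.X 1 * (MvPolynomial.X 0 + MvPolynomial.X 1 - 1)
  have hlift : ∀ {D : Type} [CommRing D] (g : MvPolynomial (Fin 2) ℂ →+* D), g t = 0 →
      ∃! g' : R →+* D, g'.comp (algebraMap (MvPolynomial (Fin 2) ℂ) R) = g := fun {D} _ g hg =>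
    hR.2 D ⊥ g (Hens22.Glue.henselianRing_bot D) (le_of_eq ((Ideal.map_eq_bot_iff_le_ker _).2
      ((Ideal.span_singleton_le_iff_mem _).2 hg)))
  have hline : ∀ v : Fin 2 → Polynomial ℂ, v 0 * v 1 * (v 0 + v 1 - 1) = 0 →
      ∃ g : R →+* Polynomial ℂ, g.comp (algebraMap (MvPolynomial (Fin 2) ℂ) R) =
        (MvPolynomial.aeval v).toRingHom := fun v hv =>
    (hlift (MvPolynomial.aeval v).toRingHom (by simpa [t] using hv)).exists
  have hpoint : ∀ w : Fin 2 → ℂ, w 0 * w 1 * (w 0 + w 1 - 1) = 0 →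
      ∃ g : R →+* ℂ, g.comp (algebraMap (MvPolynomial (Fin 2) ℂ) R) =
        (MvPolynomial.aeval w).toRingHom := fun w hw =>
    (hlift (MvPolynomial.aeval w).toRingHom (by simpa [t] using hw)).exists
  have hle : ∀ (v : Fin 2 → Polynomial ℂ) (w : Fin 2 → ℂ) (g : R →+* Polynomial ℂ) (h : R →+* ℂ),
      w 0 * w 1 * (w 0 + w 1 - 1) = 0 →
      g.comp (algebraMap (MvPolynomial (Fin 2) ℂ) R) = (MvPolynomial.aeval v).toRingHom →
      h.comp (algebraMap (MvPolynomial (Fin 2) ℂ) R) = (MvPolynomial.aeval w).toRingHom →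
      ∀ c : ℂ, (∀ i, (v i).eval c = w i) → RingHom.ker g ≤ RingHom.ker h := by
    intro v w g h hw hg hh c hc r hr
    have h1 : (Polynomial.evalRingHom c).comp g = h := by
      refine (hlift (MvPolynomial.aeval w).toRingHom (by simpa [t] using hw)).unique ?_ hh
      rw [RingHom.comp_assoc, hg]
      refine MvPolynomial.ringHom_ext (fun r => by simp) fun i => ?_
      simpa using hc i
    rw [RingHom.mem_ker] at hr ⊢
    rw [← h1, RingHom.comp_apply, hr, map_zero]
  obtain ⟨g₁, hg₁⟩ := hline ![Polynomial.X, 0] (by simp)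
  obtain ⟨g₂, hg₂⟩ := hline ![0, Polynomial.X] (by simp)
  obtain ⟨g₃, hg₃⟩ := hline ![Polynomial.X, 1 - Polynomial.X] (by simp)
  obtain ⟨h₀, hh₀⟩ := hpoint ![0, 0] (by simp)
  obtain ⟨h₁, hh₁⟩ := hpoint ![1, 0] (by simp)
  obtain ⟨h₂, hh₂⟩ := hpoint ![0, 1] (by simp)
  let r : MvPolynomial (Fin 2) ℂ →+* R := algebraMap _ R
  have e₁ : ∀ q, g₁ (r q) = MvPolynomial.aeval ![Polynomial.X, (0 : Polynomial ℂ)] q := RingHom.congr_fun hg₁
  have e₂ : ∀ q, g₂ (r q) = MvPolynomial.aeval ![(0 : Polynomial ℂ), Polynomial.X] q := RingHom.congr_fun hg₂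
  have e₃ : ∀ q, g₃ (r q) = MvPolynomial.aeval ![Polynomial.X, (1 - Polynomial.X : Polynomial ℂ)] q :=
    RingHom.congr_fun hg₃
  have f₀ : ∀ q, h₀ (r q) = MvPolynomial.aeval ![(0 : ℂ), 0] q := RingHom.congr_fun hh₀
  have f₁ : ∀ q, h₁ (r q) = MvPolynomial.aeval ![(1 : ℂ), 0] q := RingHom.congr_fun hh₁
  have f₂ : ∀ q, h₂ (r q) = MvPolynomial.aeval ![(0 : ℂ), 1] q := RingHom.congr_fun hh₂
  have hX1 : (Polynomial.X - 1 : Polynomial ℂ) ≠ 0 := by
    simpa using Polynomial.X_sub_C_ne_zero (1 : ℂ)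
  haveI : (RingHom.ker g₁).IsPrime := RingHom.ker_isPrime g₁
  haveI : (RingHom.ker g₂).IsPrime := RingHom.ker_isPrime g₂
  haveI : (RingHom.ker g₃).IsPrime := RingHom.ker_isPrime g₃
  haveI : (RingHom.ker h₀).IsPrime := RingHom.ker_isPrime h₀
  haveI : (RingHom.ker h₁).IsPrime := RingHom.ker_isPrime h₁
  haveI : (RingHom.ker h₂).IsPrime := RingHom.ker_isPrime h₂
  refine Hens22.AbsClosed.nontrivial_H1 hX (r (MvPolynomial.X 0)) (r (MvPolynomial.X 1))
    (r (MvPolynomial.X 0 + MvPolynomial.X 1 - 1)) (by rw [map_sub, map_add, map_one]; ring) ?_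
    (RingHom.ker g₁) (RingHom.ker g₂) (RingHom.ker g₃) (RingHom.ker h₀) (RingHom.ker h₁) (RingHom.ker h₂)
    ?_ ?_ ?_ ?_ ?_ ?_ ?_ ?_ ?_ ?_
    (hle _ _ g₁ h₀ (by simp) hg₁ hh₀ 0 (by intro i; fin_cases i <;> simp))
    (hle _ _ g₂ h₀ (by simp) hg₂ hh₀ 0 (by intro i; fin_cases i <;> simp))
    (hle _ _ g₁ h₁ (by simp) hg₁ hh₁ 1 (by intro i; fin_cases i <;> simp))
    (hle _ _ g₃ h₁ (by simp) hg₃ hh₁ 1 (by intro i; fin_cases i <;> simp))
    (hle _ _ g₃ h₂ (by simp) hg₃ hh₂ 0 (by intro i; fin_cases i <;> simp))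
    (hle _ _ g₂ h₂ (by simp) hg₂ hh₂ 1 (by intro i; fin_cases i <;> simp))
  · rw [Ideal.map_span, Set.image_singleton, Ideal.map_span, Set.image_singleton, ← map_mul, ← map_mul]
  all_goals simp [RingHom.mem_ker, e₁, e₂, e₃, f₀, f₁, f₂, hX1]

end Groth.Agent.S17958
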