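import Groth.Statements.S17964
import Groth.Agent.Hens22.Couple

set_option autoImplicit false
open CategoryTheory CategoryTheory.Limits AlgebraicGeometry
universe u
open Hensel

namespace Groth.Agent.S17964

/-- Let (X_j) be a family of schemes indexed by a type ι, with closed immersions i_j : X_{j,0} ⟶ X_j,
and consider the induced morphism of disjoint unions ∐ X_{j,0} ⟶ ∐ X_j. Then the couple (∐ X_j, ∐
X_{j,0}) is henselian (for every finite morphism g : Y ⟶ ∐ X_j, every open-closed subset of the
fibre product of Y with ∐ X_{j,0} is the inverse image under the first projection of exactly one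
open-closed subset of Y) if and only if each couple (X_j, X_{j,0}) is henselian. -/
theorem result {ι : Type u} (X X₀ : ι → Scheme.{u})
    (i : ∀ j, X₀ j ⟶ X j) [∀ j, IsClosedImmersion (i j)] :
    (∀ (Y : Scheme.{u}) (g : Y ⟶ ∐ X), IsFinite g →
      ∀ V : Set ↥(pullback g (Limits.Sigma.map i)), IsClopen V →
        ∃! U : Set ↥Y, IsClopen U ∧ (pullback.fst g (Limits.Sigma.map i)).base ⁻¹' U = V) ↔
    ∀ j : ι, ∀ (Y : Scheme.{u}) (g : Y ⟶ X j), IsFinite g →
      ∀ V : Set ↥(pullback g (i j)), IsClopen V →
        ∃! U : Set ↥Y, IsClopen U ∧ (pullback.fst g (i j)).base ⁻¹' U = V := by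
  have : IsClosedImmersion (Limits.Sigma.map i) := Groth.Agent.Hens22.isClosedImmersion_sigmaMap i
  constructor
  · intro h j Y g hg
    exact (Groth.Agent.Hens22.isHenselianCouple_iff (i j) g).2 ((Groth.Agent.Hens22.coupleAt_sigma_iff i).1
      (fun Y g hg => (Groth.Agent.Hens22.isHenselianCouple_iff (Limits.Sigma.map i) g).1 (h Y g hg)) j Y g hg)
  · intro h Y g hg
    exact (Groth.Agent.Hens22.isHenselianCouple_iff (Limits.Sigma.map i) g).2
      ((Groth.Agent.Hens22.coupleAt_sigma_iff i).2
        (fun j Y g hg => (Groth.Agent.Hens22.isHenselianCouple_iff (i j) g).1 (h j Y g hg)) Y g hg)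

end Groth.Agent.S17964
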