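import Groth.Statements.S17968
import Groth.Agent.Hensel20.PairApi
import Groth.Agent.Hens22.Coprime

set_option autoImplicit false
universe u
open Hensel

namespace Groth.Agent.S17968

open Polynomial

/-- Let A be a commutative ring and I an ideal contained in the Jacobson radical of A. Suppose that for
every natural number m and every monic polynomial p over A whose reduction modulo I is the reduction
of (T^2 - T)^m, every idempotent of B/IB is the image of an idempotent of B, where B = A[T]/(p).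
Then (A, I) is a henselian pair. -/
theorem result (A : Type u) [CommRing A]
    (I : Ideal A) (hI : I ≤ Ideal.jacobson ⊥)
    (h : ∀ (m : ℕ) (p : Polynomial A), p.Monic →
      Polynomial.map (Ideal.Quotient.mk I) p =
        Polynomial.map (Ideal.Quotient.mk I) ((Polynomial.X ^ 2 - Polynomial.X) ^ m) →
      Set.SurjOn (Ideal.Quotient.mk (Ideal.map (algebraMap A (AdjoinRoot p)) I))
        {e : AdjoinRoot p | IsIdempotentElem e} {e | IsIdempotentElem e}) :
    HenselianRing A I := by
  refine Hensel20.henselianRing_of_hasGabberRoots hI fun n P hP hPI => ?_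
  have hX1 : (X - 1 : A[X]).Monic := by simpa using monic_X_sub_C (1 : A)
  let f := P * (X - 1) ^ n
  have hf : f.Monic := hP.mul (hX1.pow n)
  have hfI : f.map (Ideal.Quotient.mk I) = X ^ (n + 1) * (X - 1) ^ (n + 1) := by
    simp only [f, Polynomial.map_mul, hPI, Polynomial.map_pow, Polynomial.map_sub, map_X,
      Polynomial.map_one]
    ring
  have hfI' : f.map (Ideal.Quotient.mk I) = ((X ^ 2 - X) ^ (n + 1) : A[X]).map (Ideal.Quotient.mk I) := by
    simp only [hfI, Polynomial.map_pow, Polynomial.map_sub, map_X, ← mul_pow]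
    ring
  obtain ⟨v₀, w, hvw⟩ : IsCoprime ((X - 1 : (A ⧸ I)[X]) ^ (n + 1)) (X ^ (n + 1)) :=
    IsCoprime.pow ⟨-1, 1, by ring⟩
  obtain ⟨v, rfl⟩ := Polynomial.map_surjective (Ideal.Quotient.mk I) Ideal.Quotient.mk_surjective v₀
  let H : A[X] := (X - 1) ^ (n + 1)
  have hH : H.map (Ideal.Quotient.mk I) = (X - 1) ^ (n + 1) := by simp [H]
  have hε : IsIdempotentElem
      (Ideal.Quotient.mk (I.map (algebraMap A (AdjoinRoot f))) (AdjoinRoot.mk f (v * H))) := by
    obtain ⟨w', hw'⟩ := Polynomial.map_surjective (Ideal.Quotient.mk I) Ideal.Quotient.mk_surjective w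
    rw [IsIdempotentElem, ← map_mul, ← map_mul, Ideal.Quotient.eq, ← map_sub,
      show AdjoinRoot.mk f (v * H * (v * H) - v * H) =
        AdjoinRoot.mk f (v * H * (v * H) - v * H + f * (v * w')) by simp,
      ← AdjoinRoot.aeval_eq]
    refine Hensel20.aeval_mem_map_of_coeff (fun i => ?_) _
    rw [← Ideal.Quotient.eq_zero_iff_mem, ← coeff_map]
    simp only [Polynomial.map_add, Polynomial.map_sub, Polynomial.map_mul, hH, hw']
    rw [show f.map (Ideal.Quotient.mk I) = _ from hfI]
    convert coeff_zero i using 2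
    linear_combination (v.map (Ideal.Quotient.mk I) * (X - 1) ^ (n + 1)) * hvw
  obtain ⟨e, he, hev⟩ := h (n + 1) f hf hfI' hε
  have : Module.Finite A (AdjoinRoot f) := hf.finite_adjoinRoot
  obtain ⟨g, k, hgk, hg, hgI, hkI⟩ := Hensel20.exists_factor_of_idempotent hI f (X ^ (n + 1))
    ((X - 1) ^ (n + 1)) (monic_X_pow _) hfI v ⟨w, hvw⟩ H hH e he
    (by rw [← Submodule.map_top]; exact Module.Finite.fg_top.map _) (Ideal.Quotient.eq.1 hev)
  have hco : IsCoprime g ((X - 1) ^ n) := by
    refine Hens22.isCoprime_of_map (Ideal.Quotient.mk I) Ideal.Quotient.mk_surjective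
      (Ideal.mk_ker.trans_le hI) hg ?_
    rw [hgI, Polynomial.map_pow, Polynomial.map_sub, map_X, Polynomial.map_one]
    exact IsCoprime.pow ⟨1, -1, by ring⟩
  obtain ⟨q, hq⟩ := hco.dvd_of_dvd_mul_right (⟨k, hgk⟩ : g ∣ P * (X - 1) ^ n)
  have hqm : q.Monic := hg.of_mul_monic_left (hq ▸ hP)
  have hqI : q.map (Ideal.Quotient.mk I) = X - 1 := by
    refine (monic_X_pow (n + 1)).isRegular.left ?_
    show X ^ (n + 1) * q.map (Ideal.Quotient.mk I) = X ^ (n + 1) * (X - 1)
    rw [← hgI, ← Polynomial.map_mul, ← hq, hPI, hgI]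
  rcases subsingleton_or_nontrivial (A ⧸ I) with hs | hn
  · have htop : I = ⊤ := Ideal.Quotient.subsingleton_iff.1 hs
    have : Subsingleton A := subsingleton_of_zero_eq_one (isUnit_zero_iff.1
      (Hensel20.isUnit_of_sub_one_mem hI (a := (0 : A)) (by simp [htop])))
    exact ⟨1, Subsingleton.elim _ _, by simp⟩
  have hdeg : q.natDegree = 1 := by
    rw [← hqm.natDegree_map (Ideal.Quotient.mk I), hqI, ← C_1, natDegree_X_sub_C]
  refine ⟨-q.coeff 0, ?_, ?_⟩
  · rw [IsRoot.def, hq, eval_mul, hqm.eq_X_add_C hdeg]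
    simp
  · rw [← Ideal.Quotient.eq, map_neg, ← coeff_map, hqI, map_one]
    simp [coeff_one_zero]

end Groth.Agent.S17968
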