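import Groth.Statements.S17969
import Mathlib.RingTheory.Polynomial.GaussLemma
import Mathlib.LinearAlgebra.Charpoly.Basic
import Mathlib.RingTheory.Localization.BaseChange
import Mathlib.RingTheory.IntegralClosure.IsIntegral.Basic
import Mathlib.RingTheory.Adjoin.Basic
import Mathlib.RingTheory.TensorProduct.Finite
import Mathlib.FieldTheory.Minpoly.Field

set_option autoImplicit false
universe u
open scoped TensorProduct
open CAlg

namespace Groth.Agent.S17969

/-- Let A be an integrally closed domain with fraction field K and B a commutative A-algebra which is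
finite and torsion-free as an A-module and generated as an A-algebra by a single element x. Let P be
the characteristic polynomial of multiplication by 1 ⊗ x on the finite free K-module K ⊗_A B. Then P
has coefficients in A, namely P is the image of a monic polynomial over A, and the kernel of the
A-algebra map A[T] → B sending T to x is generated by that polynomial, so that B is A[T]/(P). -/
theorem result
    (A : Type u) [CommRing A] [IsDomain A] [IsIntegrallyClosed A]
    (B : Type u) [CommRing B] [Algebra A B] [Module.Finite A B] [NoZeroSMulDivisors A B]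
    (x : B) (hx : Algebra.adjoin A {x} = ⊤) :
    ∃ P : Polynomial A, P.Monic ∧
      Polynomial.map (algebraMap A (FractionRing A)) P =
        (LinearMap.mulLeft (FractionRing A) ((1 : FractionRing A) ⊗ₜ[A] x)).charpoly ∧
      RingHom.ker (Polynomial.aeval x).toRingHom = Ideal.span {P} := by
  classical
  let K := FractionRing A
  let y : K ⊗[A] B := (1 : K) ⊗ₜ[A] x
  let L := LinearMap.mulLeft K y
  let μ := minpoly K y
  have hint : IsIntegral A x := Algebra.IsIntegral.isIntegral x
  obtain ⟨q, hq, hqx⟩ := hint
  have hye : ∀ p : Polynomial A, Polynomial.aeval y (p.map (algebraMap A K)) =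
      (1 : K) ⊗ₜ[A] Polynomial.aeval x p := fun p => by
    rw [Polynomial.aeval_map_algebraMap]
    exact Polynomial.aeval_algHom_apply (Algebra.TensorProduct.includeRight : B →ₐ[A] K ⊗[A] B) x p
  have hqy : Polynomial.aeval y (q.map (algebraMap A K)) = 0 := by
    rw [hye, show Polynomial.aeval x q = 0 from hqx, TensorProduct.tmul_zero]
  have hyint : IsIntegral K y := ⟨q.map _, hq.map _, hqy⟩
  have hμ : μ.Monic := minpoly.monic hyint
  obtain ⟨P, hPμ⟩ := IsIntegrallyClosed.eq_map_mul_C_of_dvd K hq (minpoly.dvd K y hqy)
  rw [hμ.leadingCoeff, map_one, mul_one] at hPμ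
  have hPmonic : P.Monic :=
    Polynomial.monic_of_injective (IsFractionRing.injective A K) (hPμ.symm ▸ hμ)
  have hadj : Algebra.adjoin K {y} = ⊤ := by
    rw [eq_top_iff]
    rintro z -
    induction z with
    | zero => exact zero_mem _
    | tmul c b =>
      have hb : b ∈ Algebra.adjoin A {x} := hx ▸ Algebra.mem_top
      rw [Algebra.adjoin_singleton_eq_range_aeval] at hb
      obtain ⟨p, rfl⟩ := hb
      show c ⊗ₜ[A] Polynomial.aeval x p ∈ _
      rw [show c ⊗ₜ[A] Polynomial.aeval x p = c • ((1 : K) ⊗ₜ[A] Polynomial.aeval x p) by
        rw [TensorProduct.smul_tmul', smul_eq_mul, mul_one], ← hye]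
      exact Subalgebra.smul_mem _ (Polynomial.aeval_mem_adjoin_singleton K y) c
    | add a b ha hb => exact add_mem ha hb
  have hchar : L.charpoly = μ := by
    refine Polynomial.eq_of_monic_of_dvd_of_natDegree_le hμ L.charpoly_monic (minpoly.dvd K y ?_) ?_
    · have h := L.aeval_self_charpoly
      rw [show L = Algebra.lmul K (K ⊗[A] B) y from rfl, Polynomial.aeval_algHom_apply] at h
      have h2 := LinearMap.congr_fun h 1
      simp only [Algebra.coe_lmul_eq_mul, LinearMap.mul_apply', mul_one, LinearMap.zero_apply] at h2
      exact h2
    · rw [L.charpoly_natDegree]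
      have hsurj : Function.Surjective (Fintype.linearCombination K fun i : Fin μ.natDegree => y ^ (i : ℕ)) := by
        intro z
        have hz : z ∈ Algebra.adjoin K {y} := hadj ▸ Algebra.mem_top
        rw [Algebra.adjoin_singleton_eq_range_aeval] at hz
        obtain ⟨p, rfl⟩ := hz
        refine ⟨fun i => (p %ₘ μ).coeff i, ?_⟩
        show _ = Polynomial.aeval y p
        conv_rhs => rw [← Polynomial.modByMonic_add_div p μ, map_add, map_mul,
          show Polynomial.aeval y μ = 0 from minpoly.aeval K y, zero_mul, add_zero]
        rcases eq_or_ne μ 1 with h1 | h1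
        · have : Subsingleton (K ⊗[A] B) := by
            have h0 := minpoly.aeval K y
            rw [show minpoly K y = 1 from h1, map_one] at h0
            exact subsingleton_of_zero_eq_one h0.symm
          exact Subsingleton.elim _ _
        rw [Polynomial.aeval_eq_sum_range' (Polynomial.natDegree_modByMonic_lt p hμ h1),
          Fintype.linearCombination_apply, Fin.sum_univ_eq_sum_range
          (fun i => (p %ₘ μ).coeff i • y ^ i)]
      have h3 := LinearMap.finrank_le_finrank_of_surjective hsurj
      rwa [Module.finrank_fin_fun] at h3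
  refine ⟨P, hPmonic, hPμ.trans hchar.symm, ?_⟩
  have hinj : Function.Injective (TensorProduct.mk A K B 1) := by
    rw [injective_iff_map_eq_zero]
    intro b hb
    obtain ⟨s, hs⟩ := (IsLocalizedModule.eq_zero_iff (nonZeroDivisors A) (TensorProduct.mk A K B 1)).mp hb
    exact (smul_eq_zero.mp hs).resolve_left (nonZeroDivisors.coe_ne_zero s)
  ext p
  rw [RingHom.mem_ker, Ideal.mem_span_singleton]
  show Polynomial.aeval x p = 0 ↔ P ∣ p
  rw [← Polynomial.map_dvd_map (algebraMap A K) (IsFractionRing.injective A K) hPmonic, hPμ,
    minpoly.dvd_iff, hye]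
  exact (map_eq_zero_iff _ hinj).symm

end Groth.Agent.S17969
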