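import Groth.Statements.S1797
import Groth.Agent.LC17.HLVT
import Groth.Agent.LC17.PunctAffine
import Groth.Agent.CplGal24.NormalTensor

set_option autoImplicit false
universe u
open LocCoh

namespace Groth.Agent.S1797

/-- Let A be an excellent normal Noetherian local ring (an integrally closed domain) and I an ideal with
dim V(I) ≥ 1, i.e. dim A/I ≥ 1. Then cd(A, I) < dim A: for every A-module M, H^i_I(M) = 0 whenever i
≥ dim A. Moreover, if dim A = 2 then the open subscheme Spec A ∖ V(I) is affine. -/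
theorem result (A : Type u) [CommRing A] [IsDomain A] [IsLocalRing A] [IsNoetherianRing A] [IsIntegrallyClosed A] (hA : EGA4.IsExcellent A) (I : Ideal A) (hI : (1 : WithBot ℕ∞) ≤ ringKrullDim (A ⧸ I)) : (∀ (M : Type u) [AddCommGroup M] [Module A M] (i : ℕ), ringKrullDim A ≤ (i : WithBot ℕ∞) → Subsingleton (LocCoh.H I i M)) ∧ (ringKrullDim A = 2 → AlgebraicGeometry.IsAffine (↑(LocCoh.puncturedOpen A I) : AlgebraicGeometry.Scheme.{u})) := by
  obtain ⟨hd1, -⟩ := CplGal24.isDomain_isIntegrallyClosed_cpl_self A hA.2.2.1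
  set C := AdicCompletion (IsLocalRing.maximalIdeal A) A with hC
  haveI : IsDomain C := hd1
  haveI : IsNoetherianRing C := Groth.Agent.EGA4H10.isNoetherianRing_cpl (A := A)
  obtain ⟨d, hd⟩ := Groth.Agent.LC17.exists_ringKrullDim_quotient_eq (I := (⊥ : Ideal A)) bot_ne_top
  rw [ringKrullDim_eq_of_ringEquiv (RingEquiv.quotientBot A)] at hd
  haveI : IsLocalHom (algebraMap A C) :=
    ((IsLocalRing.local_hom_TFAE _).out 2 0 rfl rfl).mp AdicCompletion.maximalIdeal_eq_map.symm.le
  haveI : Module.FaithfullyFlat A C := Module.FaithfullyFlat.of_flat_of_isLocalHom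
  have hdim : 1 ≤ ringKrullDim (C ⧸ (I.map (algebraMap A C))) := by
    by_contra hlt
    have hI' : I ≠ ⊤ := fun e => by
      haveI : Subsingleton (A ⧸ I) := Ideal.Quotient.subsingleton_iff.2 e
      rw [ringKrullDim_eq_bot_of_subsingleton] at hI
      exact absurd hI (by simp)
    have hne : I.map (algebraMap A C) ≠ ⊤ := fun e => hI' (by
      rw [← Ideal.comap_map_eq_self_of_faithfullyFlat (B := C) I, e, Ideal.comap_top])
    obtain ⟨c, hc⟩ := Groth.Agent.LC17.exists_ringKrullDim_quotient_eq hne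
    rw [hc] at hlt
    have hc0 : c = 0 := by
      by_contra h0
      exact hlt (by exact_mod_cast (show 1 ≤ c by omega))
    have hrad := Groth.Agent.LC17.maximalIdeal_le_radical_of_dim_le_zero (J := I.map (algebraMap A C))
      (by rw [hc, hc0])
    obtain ⟨N, hN⟩ := Ideal.exists_pow_le_of_le_radical_of_fg hrad (IsNoetherian.noetherian _)
    have hle : IsLocalRing.maximalIdeal A ^ N ≤ I := by
      rw [← Ideal.comap_map_eq_self_of_faithfullyFlat (B := C) I, ← Ideal.map_le_iff_le_comap, Ideal.map_pow]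
      exact le_trans (Ideal.pow_right_mono AdicCompletion.maximalIdeal_eq_map.symm.le N) hN
    have : ringKrullDim (A ⧸ I) ≤ ((0 : ℕ) : WithBot ℕ∞) := by
      refine Groth.Agent.LC17.ringKrullDim_quotient_le_iff.2 fun p hp hIp => ?_
      have hpm : p = IsLocalRing.maximalIdeal A := le_antisymm (IsLocalRing.le_maximalIdeal hp.ne_top)
        (fun a ha => hp.mem_of_pow_mem N (hIp (hle (Ideal.pow_mem_pow ha N))))
      subst hpm
      rw [ringKrullDim_eq_zero_of_isField ((Ideal.Quotient.maximal_ideal_iff_isField_quotient _).1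
        (IsLocalRing.maximalIdeal.isMaximal A))]
      rfl
    exact absurd (hI.trans this) (by norm_num)
  have hvan : ∀ (M : Type u) [AddCommGroup M] [Module A M] (i : ℕ), ringKrullDim A ≤ (i : WithBot ℕ∞) →
      Subsingleton (LocCoh.H I i M) := fun M _ _ i hi => by
    refine Groth.Agent.LC17.hlvt A I d hd (fun p hp _ => ?_) M i (by rw [hd] at hi; exact_mod_cast hi)
    have hp0 : p = ⊥ := le_bot_iff.1 (hp.2 ⟨Ideal.isPrime_bot, le_rfl⟩ bot_le)
    subst hp0
    rwa [sup_bot_eq]
  refine ⟨hvan, fun h2 => Groth.Agent.LC17.isAffine_punctured I fun M _ _ i hi => hvan M i ?_⟩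
  rw [h2]
  exact_mod_cast (show 2 ≤ i by omega)

end Groth.Agent.S1797
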