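import Groth.Statements.S17972
import Groth.Agent.Hens22.EtaleLift
import Mathlib.RingTheory.Smooth.StandardSmoothOfFree
import Mathlib.RingTheory.RingHom.LocallyStandardSmooth
import Mathlib.Algebra.MvPolynomial.PDeriv

set_option autoImplicit false
universe u
open Hensel

namespace Groth.Agent.S17972

/-- Let A be a henselian local ring with maximal ideal m, let P_1, …, P_n be polynomials over A in n
variables and a₀ ∈ A^n a point with P_i(a₀) ∈ m for all i whose Jacobian determinant
det(∂P_i/∂T_j)(a₀) is a unit of A, i.e. nonzero in the residue field. Then there is a ∈ A^n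
congruent to a₀ modulo m in each coordinate with P_i(a) = 0 for all i. -/
theorem result
    (A : Type u) [CommRing A] [HenselianLocalRing A] (n : ℕ)
    (P : Fin n → MvPolynomial (Fin n) A) (a₀ : Fin n → A)
    (h₀ : ∀ i, MvPolynomial.eval a₀ (P i) ∈ IsLocalRing.maximalIdeal A)
    (hJ : IsUnit (Matrix.of (fun i j => MvPolynomial.eval a₀ (MvPolynomial.pderiv j (P i)))).det) :
    ∃ a : Fin n → A, (∀ i, MvPolynomial.eval a (P i) = 0) ∧
      ∀ j, a j - a₀ j ∈ IsLocalRing.maximalIdeal A := by
  classical
  let S₀ := MvPolynomial (Fin n) A ⧸ Ideal.span (Set.range P)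
  let Q : Algebra.PreSubmersivePresentation A S₀ (Fin n) (Fin n) :=
    Algebra.PreSubmersivePresentation.naive (v := P) id Function.injective_id
  let d : S₀ := Q.jacobian
  let W := Localization.Away d
  let R := (Algebra.PreSubmersivePresentation.localizationAway W d).comp Q
  have hjac : IsUnit R.jacobian := by
    rw [Algebra.PreSubmersivePresentation.comp_jacobian_eq_jacobian_smul_jacobian,
      Algebra.PreSubmersivePresentation.localizationAway_jacobian, Algebra.smul_def]
    have : IsUnit (algebraMap S₀ W d) :=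
      IsLocalization.map_units W (⟨d, 1, by simp⟩ : Submonoid.powers d)
    exact this.mul this
  let R' : Algebra.SubmersivePresentation A W (Unit ⊕ Fin n) (Unit ⊕ Fin n) :=
    { __ := R, jacobian_isUnit := hjac }
  have hW : Algebra.Etale A W := by
    rw [Algebra.Etale.iff_isStandardSmoothOfRelativeDimension_zero]
    refine R'.isStandardSmoothOfRelativeDimension ?_
    show Nat.card (Unit ⊕ Fin n) - Nat.card (Unit ⊕ Fin n) = 0
    omega
  let k := A ⧸ IsLocalRing.maximalIdeal A
  have hev : ∀ p : MvPolynomial (Fin n) A, MvPolynomial.aeval (fun i => Ideal.Quotient.mk _ (a₀ i)) p =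
      (Ideal.Quotient.mk (IsLocalRing.maximalIdeal A) (MvPolynomial.eval a₀ p) : k) := fun p => by
    rw [MvPolynomial.aeval_def, MvPolynomial.eval_eq', MvPolynomial.eval₂_eq']
    simp [map_sum, map_prod]
  let π₀ : S₀ →ₐ[A] k := Ideal.Quotient.liftₐ _
    (MvPolynomial.aeval (fun i => Ideal.Quotient.mk _ (a₀ i))) (fun p hp => by
      refine (Ideal.span_le (I := RingHom.ker (MvPolynomial.aeval
        (fun i => (Ideal.Quotient.mk _ (a₀ i) : k)) : MvPolynomial (Fin n) A →ₐ[A] k))).2 ?_ hp
      rintro _ ⟨j, rfl⟩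
      rw [SetLike.mem_coe, RingHom.mem_ker, hev]
      exact Ideal.Quotient.eq_zero_iff_mem.2 (h₀ j))
  have hd : IsUnit (π₀ d) := by
    have hdet : d = Ideal.Quotient.mk _ Q.jacobiMatrix.det := by
      show Q.jacobian = _
      rw [Q.jacobian_eq_jacobiMatrix_det]
      rfl
    rw [hdet]
    show IsUnit (MvPolynomial.aeval (fun i => (Ideal.Quotient.mk _ (a₀ i) : k)) Q.jacobiMatrix.det)
    rw [hev, RingHom.map_det]
    convert hJ.map (Ideal.Quotient.mk (IsLocalRing.maximalIdeal A)) using 2
    rw [← Matrix.det_transpose]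
    congr 1
    ext i j : 1
    simp only [Matrix.transpose_apply, RingHom.mapMatrix_apply, Matrix.map_apply, Matrix.of_apply]
    exact congrArg _ (Algebra.PreSubmersivePresentation.jacobiMatrix_apply _ _ _)
  have hu : ∀ y : Submonoid.powers d, IsUnit (π₀ y) := by
    rintro ⟨_, m, rfl⟩
    rw [map_pow]
    exact hd.pow m
  let π : W →ₐ[A] k := IsLocalization.liftAlgHom (M := Submonoid.powers d) hu
  obtain ⟨f, hf⟩ := Hens22.exists_lift (IsLocalRing.maximalIdeal A) W π
  let g : MvPolynomial (Fin n) A →ₐ[A] A :=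
    (f.comp (IsScalarTower.toAlgHom A S₀ W)).comp (Ideal.Quotient.mkₐ A _)
  refine ⟨fun j => g (MvPolynomial.X j), fun i => ?_, fun j => ?_⟩
  · have h1 : MvPolynomial.aeval (fun j => g (MvPolynomial.X j)) (P i) = g (P i) :=
      (DFunLike.congr_fun (MvPolynomial.aeval_unique g) (P i)).symm
    rw [← MvPolynomial.aeval_eq_eval, h1]
    show f (algebraMap S₀ W (Ideal.Quotient.mk _ (P i))) = 0
    rw [Ideal.Quotient.eq_zero_iff_mem.2 (Ideal.subset_span (Set.mem_range_self i) :
      P i ∈ Ideal.span (Set.range P)), map_zero, map_zero]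
  · refine Ideal.Quotient.eq.1 ((DFunLike.congr_fun hf
      (algebraMap S₀ W (Ideal.Quotient.mk _ (MvPolynomial.X j)))).trans ?_)
    show π (algebraMap S₀ W (Ideal.Quotient.mk _ (MvPolynomial.X j))) = _
    simp only [π, IsLocalization.liftAlgHom_apply, IsLocalization.lift_eq]
    exact MvPolynomial.aeval_X _ j

end Groth.Agent.S17972
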