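import Groth.Statements.S17974
import Mathlib.RingTheory.Unramified.Finite

set_option autoImplicit false
universe u
open Unram

namespace Groth.Agent.S17974

/-- Let A be a commutative ring, B an unramified A-algebra (formally unramified and of finite type), C
an A-algebra, p a prime ideal of C, and u, v : B → C two A-algebra homomorphisms which agree after
composition with C → C/p. Then there is an element f of C not in p such that u and v agree after
composition with the localization map C → C[1/f]. -/
theorem result
    (A : Type u) [CommRing A] (B : Type u) [CommRing B] [Algebra A B]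
    [Algebra.FormallyUnramified A B] [Algebra.FiniteType A B]
    (C : Type u) [CommRing C] [Algebra A C] (p : Ideal C) [p.IsPrime]
    (u v : B →ₐ[A] C)
    (huv : (Ideal.Quotient.mk p).comp u.toRingHom = (Ideal.Quotient.mk p).comp v.toRingHom) :
    ∃ f : C, f ∉ p ∧
      (algebraMap C (Localization.Away f)).comp u.toRingHom =
        (algebraMap C (Localization.Away f)).comp v.toRingHom := by
  obtain ⟨t, ht1, ht2⟩ := Algebra.FormallyUnramified.iff_exists_tensorProduct.mp
    (inferInstance : Algebra.FormallyUnramified A B)
  let L := Algebra.TensorProduct.lift u v fun _ _ ↦ Commute.all _ _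
  refine ⟨L t, fun hmem ↦ ?_, ?_⟩
  · have h1 : (Ideal.Quotient.mk p).comp L.toRingHom =
        ((Ideal.Quotient.mk p).comp u.toRingHom).comp (Algebra.TensorProduct.lmul' A).toRingHom := by
      refine RingHom.ext fun z ↦ ?_
      induction z with
      | zero => simp
      | add x y hx hy => rw [map_add, map_add, hx, hy]
      | tmul a b =>
        have hb := congr($huv b)
        simp only [RingHom.comp_apply, AlgHom.toRingHom_eq_coe, RingHom.coe_coe] at hb ⊢
        simp [L, map_mul, hb]
    have h2 := congr($h1 t)
    simp only [RingHom.comp_apply, AlgHom.toRingHom_eq_coe, RingHom.coe_coe, ht2, map_one] at h2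
    rw [Ideal.Quotient.eq_zero_iff_mem.mpr hmem] at h2
    exact zero_ne_one h2
  · ext b
    have h := congrArg L (ht1 b)
    simp only [L, map_mul, map_sub, map_zero, Algebra.TensorProduct.lift_tmul, map_one, one_mul,
      mul_one] at h
    refine ((IsLocalization.Away.algebraMap_isUnit (L t)).mul_left_inj).mp ?_
    simp only [RingHom.comp_apply, AlgHom.toRingHom_eq_coe, RingHom.coe_coe, ← map_mul]
    rw [sub_mul, sub_eq_zero] at h
    exact congrArg _ h.symm

end Groth.Agent.S17974
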