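import Groth.Statements.S17975
import Mathlib.RingTheory.Nakayama
import Mathlib.RingTheory.AdjoinRoot

set_option autoImplicit false
universe u
open Hensel

namespace Groth.Agent.S17975

open Polynomial

/-- Let A be a local ring with maximal ideal m and residue field k, C a commutative A-algebra which is
finitely generated as an A-module, Q₀ a monic polynomial of degree n over k, e an A-algebra
isomorphism from C/mC to k[T]/(Q₀), and x an element of C whose class is sent by e to the class of
T. Then x generates C as an A-algebra, and x is a root of a monic polynomial Q over A of degree n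
whose reduction modulo m equals Q₀. -/
theorem result
    (A : Type u) [CommRing A] [IsLocalRing A] (C : Type u) [CommRing C] [Algebra A C] [Module.Finite A C]
    (Q₀ : Polynomial (IsLocalRing.ResidueField A)) (hQ₀ : Q₀.Monic)
    (e : (C ⧸ Ideal.map (algebraMap A C) (IsLocalRing.maximalIdeal A)) ≃ₐ[A] AdjoinRoot Q₀)
    (x : C) (hx : e (Ideal.Quotient.mk (Ideal.map (algebraMap A C) (IsLocalRing.maximalIdeal A)) x) = AdjoinRoot.root Q₀) :
    Algebra.adjoin A {x} = ⊤ ∧
      ∃ Q : Polynomial A, Q.Monic ∧ Q.natDegree = Q₀.natDegree ∧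
        Polynomial.map (IsLocalRing.residue A) Q = Q₀ ∧ Polynomial.aeval x Q = 0 := by
  classical
  let mk := Ideal.Quotient.mk (Ideal.map (algebraMap A C) (IsLocalRing.maximalIdeal A))
  have hx' : ∀ P : A[X], e (mk (aeval x P)) = AdjoinRoot.mk Q₀ (P.map (IsLocalRing.residue A)) := by
    intro P
    rw [show mk (aeval x P) = aeval (mk x) P from
      (aeval_algHom_apply (Ideal.Quotient.mkₐ A _) x P).symm, ← aeval_algHom_apply, hx,
      ← AdjoinRoot.aeval_eq, ← IsLocalRing.ResidueField.algebraMap_eq, aeval_map_algebraMap]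
  set n := Q₀.natDegree
  let N : Submodule A C := Submodule.span A (Set.range fun i : Fin n => x ^ (i : ℕ))
  have hN : N = ⊤ := by
    refine eq_top_iff.2 (Submodule.le_of_le_smul_of_le_jacobson_bot (I := IsLocalRing.maximalIdeal A) Module.Finite.fg_top
      (IsLocalRing.maximalIdeal_le_jacobson ⊥) fun c _ => ?_)
    obtain ⟨q₀, hq₀⟩ := AdjoinRoot.mk_surjective (e (mk c))
    obtain ⟨q, hq⟩ := Polynomial.map_surjective _ IsLocalRing.residue_surjective (q₀ %ₘ Q₀)
    let P : A[X] := ∑ i : Fin n, monomial (i : ℕ) (q.coeff i)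
    have hP : P.map (IsLocalRing.residue A) = q.map (IsLocalRing.residue A) := by
      ext j
      simp only [P, Polynomial.map_sum, finsetSum_coeff, map_monomial, coeff_monomial]
      by_cases hj : j < n
      · rw [Finset.sum_eq_single ⟨j, hj⟩ (fun i _ hi => if_neg fun h => hi (Fin.ext h)) (by simp)]
        simp [coeff_map]
      · rw [Finset.sum_eq_zero fun i _ => if_neg (by omega)]
        rw [hq, coeff_eq_zero_of_degree_lt]
        exact (degree_modByMonic_lt _ hQ₀).trans_le (degree_le_natDegree.trans (by exact_mod_cast (by omega : n ≤ j)))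
    have hPN : aeval x P ∈ N := by
      simp only [P, map_sum, aeval_monomial, ← Algebra.smul_def]
      exact Submodule.sum_mem _ fun i _ => Submodule.smul_mem _ _ (Submodule.subset_span ⟨i, rfl⟩)
    have : mk c = mk (aeval x P) := e.injective (by
      rw [hx', hP, hq, ← hq₀, AdjoinRoot.mk_eq_mk]
      exact ⟨q₀ /ₘ Q₀, by linear_combination -(modByMonic_add_div q₀ Q₀)⟩)
    refine Submodule.mem_sup.2 ⟨_, hPN, c - aeval x P, ?_, add_sub_cancel _ _⟩
    rw [Ideal.smul_top_eq_map]
    exact Ideal.Quotient.eq.1 this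
  refine ⟨?_, ?_⟩
  · refine Algebra.eq_top_iff.2 fun c => ?_
    have hc : c ∈ N := hN ▸ Submodule.mem_top
    refine (Submodule.span_le.2 ?_ : N ≤ Subalgebra.toSubmodule (Algebra.adjoin A {x})) hc
    rintro _ ⟨i, rfl⟩
    exact pow_mem (Algebra.self_mem_adjoin_singleton A x) _
  · obtain ⟨a, ha⟩ := Submodule.mem_span_range_iff_exists_fun A |>.1 (hN ▸ Submodule.mem_top : x ^ n ∈ N)
    have hlt : (∑ i : Fin n, monomial (i : ℕ) (a i)).degree < (n : WithBot ℕ) := by
        refine (degree_sum_le _ _).trans_lt ((Finset.sup_lt_iff (WithBot.bot_lt_coe n)).2 fun i _ => ?_)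
        exact (degree_monomial_le _ _).trans_lt (WithBot.coe_lt_coe.2 i.2)
    have hmon : (X ^ n - ∑ i : Fin n, monomial (i : ℕ) (a i)).Monic := monic_X_pow_sub (by simpa using hlt)
    have haev : aeval x (X ^ n - ∑ i : Fin n, monomial (i : ℕ) (a i)) = 0 := by
        rw [map_sub, map_pow, aeval_X, map_sum, sub_eq_zero]
        refine ha.symm.trans (Finset.sum_congr rfl fun i _ => ?_)
        rw [aeval_monomial, Algebra.smul_def]
    have hdeg : (X ^ n - ∑ i : Fin n, monomial (i : ℕ) (a i)).natDegree = n := by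
        apply natDegree_eq_of_degree_eq_some
        rw [degree_sub_eq_left_of_degree_lt (by rw [degree_X_pow]; exact hlt), degree_X_pow]
    refine ⟨X ^ n - ∑ i : Fin n, monomial (i : ℕ) (a i), ?_, ?_, ?_, ?_⟩
    · exact hmon
    · exact hdeg
    · have hdvd : Q₀ ∣ (X ^ n - ∑ i : Fin n, monomial (i : ℕ) (a i)).map (IsLocalRing.residue A) := by
        rw [← AdjoinRoot.mk_eq_zero, ← hx', haev, map_zero, map_zero]
      refine Polynomial.eq_of_monic_of_dvd_of_natDegree_le hQ₀ (hmon.map _) hdvd ?_
      rw [hmon.natDegree_map, hdeg]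
    · exact haev

end Groth.Agent.S17975
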