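import Groth.Statements.S17979
import Groth.Agent.Hens22.Coprime

set_option autoImplicit false
universe u
open Hensel

namespace Groth.Agent.S17979

/-- Let A be a local ring with residue field k and Q, R polynomials over A with Q monic. If the images
of Q and R in k[T] generate the unit ideal, then Q and R already generate the unit ideal of A[T]. -/
theorem result (A : Type u) [CommRing A] [IsLocalRing A]
    (Q R : Polynomial A) (hQ : Q.Monic)
    (h : IsCoprime (Polynomial.map (IsLocalRing.residue A) Q) (Polynomial.map (IsLocalRing.residue A) R)) :
    IsCoprime Q R := by
  exact Hens22.isCoprime_of_map (IsLocalRing.residue A) IsLocalRing.residue_surjective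
    ((IsLocalRing.ker_residue (R := A)).trans_le (IsLocalRing.maximalIdeal_le_jacobson ⊥)) hQ h

end Groth.Agent.S17979
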