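import Groth.Statements.S17985
import Groth.Agent.WeilNum32.Gor
import Mathlib.RingTheory.KrullDimension.PID
import Mathlib.RingTheory.Ideal.GoingUp

set_option autoImplicit false
universe u
open MvPolynomial
open WeilNum

namespace Groth.Agent.S17985

theorem dim_eq_of_finite_int {L : Type*} [CommRing L] [CharZero L] {R : Type*} [CommRing R]
    [Module.Finite ℤ R] (f : R → L)
    (hc : ∀ c : ℤ, f (c : R) = c) :
    ringKrullDim R = 1 := by
  have hinj : Function.Injective (algebraMap ℤ R) := fun a b hab => by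
    have := congrArg f hab
    rw [algebraMap_int_eq, eq_intCast, eq_intCast, hc, hc] at this
    exact_mod_cast this
  have : Algebra.IsIntegral ℤ R := Algebra.IsIntegral.of_finite ℤ R
  rw [← IsPrincipalIdealRing.ringKrullDim_eq_one ℤ Int.not_isField]
  refine le_antisymm (Order.krullDim_le_of_strictMono (PrimeSpectrum.comap (algebraMap ℤ R))
    fun _ _ h => Ideal.IsIntegral.comap_lt_comap h) ?_
  refine iSup_le fun l => ?_
  obtain ⟨Q, -, hQ, hQc⟩ := Ideal.exists_ideal_over_prime_of_isIntegral (S := R) l.head.asIdeal ⊥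
    (by rw [← RingHom.ker_eq_comap_bot, (RingHom.injective_iff_ker_eq_bot _).mp hinj]; exact bot_le)
  have : Q.LiesOver l.head.asIdeal := ⟨hQc.symm⟩
  obtain ⟨L, hL, -, -⟩ := Ideal.exists_ltSeries_of_hasGoingUp l Q
  exact le_of_eq_of_le (by rw [hL]) (le_iSup _ L)


/-- Let p be a prime, e ≥ 1 and q = p^e. Let (π_i) be a nonempty finite family of pairwise nonconjugate
Weil q-numbers: π_i is an element of a field K_i of characteristic zero, integral over ℤ with
minimal polynomial P_i, every complex root of P_i has absolute value √q, and P_i ≠ P_j for i ≠ j.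
Suppose the total degree Σ_i deg P_i is even, equal to 2D. Let R_w be the minimal central order, the
image of ℤ[F, V] → ∏_i K_i, F ↦ (π_i), V ↦ (q/π_i). Then R_w is free of rank 2D as a ℤ-module, has
Krull dimension 1, and is a Gorenstein ring (Noetherian, with all localizations at primes of finite
injective dimension over themselves). -/
theorem result (p e : ℕ) [Fact p.Prime] (he : 0 < e)
    (ι : Type) [Fintype ι] (K : ι → Type u) [∀ i, Field (K i)] [∀ i, CharZero (K i)] (π : ∀ i, K i)
    (hint : ∀ i, IsIntegral ℤ (π i))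
    (hweil : ∀ i, ∀ z ∈ (minpoly ℤ (π i)).aroots ℂ, ‖z‖ = Real.sqrt ((p : ℝ) ^ e))
    (hinj : ∀ i j, minpoly ℤ (π i) = minpoly ℤ (π j) → i = j)
    [Nonempty ι] (D : ℕ) (hD : ∑ i, (minpoly ℤ (π i)).natDegree = 2 * D) :
    Module.Free ℤ (MvPolynomial.aeval ![fun i => π i, fun i => ((p : K i) ^ e) / π i] :
        MvPolynomial (Fin 2) ℤ →ₐ[ℤ] ((i : ι) → K i)).range ∧
      Module.finrank ℤ (MvPolynomial.aeval ![fun i => π i, fun i => ((p : K i) ^ e) / π i] :
        MvPolynomial (Fin 2) ℤ →ₐ[ℤ] ((i : ι) → K i)).range = 2 * D ∧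
      ringKrullDim (MvPolynomial.aeval ![fun i => π i, fun i => ((p : K i) ^ e) / π i] :
        MvPolynomial (Fin 2) ℤ →ₐ[ℤ] ((i : ι) → K i)).range = 1 ∧
      LocCoh.IsGorensteinRing (MvPolynomial.aeval ![fun i => π i, fun i => ((p : K i) ^ e) / π i] :
        MvPolynomial (Fin 2) ℤ →ₐ[ℤ] ((i : ι) → K i)).range := by
  have hW : ∀ i, WeilNum32.WeilPoly (p ^ e) (minpoly ℤ (π i)) :=
    fun i => WeilNum32.WeilPoly.of_minpoly (Fact.out : p.Prime) (hint i) (hweil i)
  have hq : 0 < p ^ e := pow_pos (Fact.out : p.Prime).pos e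
  have hphi : (MvPolynomial.aeval ![fun i => π i, fun i => ((p : K i) ^ e) / π i] :
      MvPolynomial (Fin 2) ℤ →ₐ[ℤ] ((i : ι) → K i)) = WeilNum32.phi (p ^ e) π := by
    simp [WeilNum32.phi]
  obtain ⟨hfin, hfree, hrk⟩ := WeilNum32.finrank_range_of_eq π hint hinj hW _ hphi
  refine ⟨hfree, hrk.trans hD, ?_, WeilNum32.gorRing_range π hint hinj hq hW
    (by rw [WeilNum32.natDegree_prodPoly π hint, hD]) _ hphi⟩
  have : CharZero ((i : ι) → K i) := ⟨fun a b hab =>
    Nat.cast_injective (congrFun hab (Classical.arbitrary ι))⟩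
  exact dim_eq_of_finite_int Subtype.val (fun c => SubringClass.coe_intCast _ c)

end Groth.Agent.S17985
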