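import Groth.Statements.S17986
import Groth.Agent.WeilNum32.Rational

set_option autoImplicit false
universe u
open MvPolynomial
open scoped Classical
open WeilNum

namespace Groth.Agent.S17986

/-- Let p be a prime, e ≥ 1, and assume q = p^e = s² for an integer s (of either sign; s is then a
rational Weil q-number). Let (π_i) be a finite family of pairwise nonconjugate nonrational Weil
q-numbers: π_i lies in a field K_i of characteristic zero, is integral over ℤ with minimal
polynomial P_i of degree different from 1, every complex root of P_i has absolute value √q, and P_i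
≠ P_j for i ≠ j (since q is a square these π_i are nonreal, so Σ_i deg P_i = 2D is even). Put P_v =
∏_i P_i and let h ∈ ℤ[F, V] (F = X_0, V = X_1) be any polynomial with F^D · h ≡ P_v(F) modulo FV −
q. Consider the ring map ℤ[F, V] → (∏_i K_i) × ℚ sending F to ((π_i)_i, s) and V to ((q/π_i)_i, s);
its image R_w is the minimal central order of the family enlarged by s. Then: (1) its kernel is the
ideal generated by FV − q, h · (F − s) and h · (V − s); (2) R_w is a Gorenstein ring if and only if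
every π_i is ordinary, meaning that exactly half of the roots of P_i in an algebraic closure of ℚ_p,
counted with multiplicity, are p-adic units. -/
theorem result (p e : ℕ) [Fact p.Prime] (he : 0 < e)
    (s : ℤ) (hs : s ^ 2 = (p : ℤ) ^ e)
    (ι : Type) [Fintype ι] (K : ι → Type u) [∀ i, Field (K i)] [∀ i, CharZero (K i)] (π : ∀ i, K i)
    (hint : ∀ i, IsIntegral ℤ (π i)) (hdeg : ∀ i, (minpoly ℤ (π i)).natDegree ≠ 1)
    (hweil : ∀ i, ∀ z ∈ (minpoly ℤ (π i)).aroots ℂ, ‖z‖ = Real.sqrt ((p : ℝ) ^ e))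
    (hinj : ∀ i j, minpoly ℤ (π i) = minpoly ℤ (π j) → i = j)
    (D : ℕ) (hD : ∑ i, (minpoly ℤ (π i)).natDegree = 2 * D)
    (h : MvPolynomial (Fin 2) ℤ)
    (hh : X 0 ^ D * h - Polynomial.aeval (X 0 : MvPolynomial (Fin 2) ℤ) (∏ i, minpoly ℤ (π i)) ∈
      Ideal.span ({X 0 * X 1 - C ((p : ℤ) ^ e)} : Set (MvPolynomial (Fin 2) ℤ))) :
    RingHom.ker (MvPolynomial.aeval ![(⟨fun i => π i, (s : ℚ)⟩ : ((i : ι) → K i) × ℚ), ⟨fun i => ((p : K i) ^ e) / π i, (s : ℚ)⟩] :
        MvPolynomial (Fin 2) ℤ →ₐ[ℤ] (((i : ι) → K i) × ℚ)) =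
        Ideal.span {X 0 * X 1 - C ((p : ℤ) ^ e), h * (X 0 - C s), h * (X 1 - C s)} ∧
      (LocCoh.IsGorensteinRing (MvPolynomial.aeval ![(⟨fun i => π i, (s : ℚ)⟩ : ((i : ι) → K i) × ℚ), ⟨fun i => ((p : K i) ^ e) / π i, (s : ℚ)⟩] :
        MvPolynomial (Fin 2) ℤ →ₐ[ℤ] (((i : ι) → K i) × ℚ)).range ↔
        ∀ i, 2 * Multiset.card (((minpoly ℤ (π i)).aroots (PadicAlgCl p)).filter (fun z => ‖z‖ = 1)) = (minpoly ℤ (π i)).natDegree) := by
  have hW : ∀ i, WeilNum32.WeilPoly (p ^ e) (minpoly ℤ (π i)) :=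
    fun i => WeilNum32.WeilPoly.of_minpoly (Fact.out : p.Prime) (hint i) (hweil i)
  have hq : 0 < p ^ e := pow_pos (Fact.out : p.Prime).pos e
  have hfv : (X 0 * X 1 - C ((p : ℤ) ^ e) : MvPolynomial (Fin 2) ℤ) = WeilNum32.fv (p ^ e) := by
    simp [WeilNum32.fv]
  rw [hfv] at hh ⊢
  refine WeilNum32.rational_main π hint hinj hq hW (by rw [hs, Nat.cast_pow]) hdeg
    (by rw [WeilNum32.natDegree_prodPoly π hint, hD]) h hh he rfl _ ?_
  refine MvPolynomial.algHom_ext fun l => ?_
  fin_cases l <;> simp [WeilNum32.phiS, WeilNum32.phi, WeilNum32.evS]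

end Groth.Agent.S17986
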