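import Groth.Statements.S17988
import Groth.Agent.CAlg9.Torsionless
import Groth.Agent.EGA4Alg4.IntegralDim
import Mathlib.RingTheory.SimpleModule.InjectiveProjective
import Mathlib.RingTheory.Artinian.Module
import Mathlib.RingTheory.Localization.Finiteness
import Mathlib.RingTheory.LocalProperties.Reduced
import Mathlib.LinearAlgebra.FreeModule.PID
import Mathlib.RingTheory.KrullDimension.PID
import Mathlib.LinearAlgebra.Dual.Lemmas

set_option autoImplicit false
universe u
open CAlg

namespace Groth.Agent.S17988

/-- Let Λ be a principal ideal domain and S a commutative Λ-algebra which is finitely generated and free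
as a Λ-module and reduced as a ring; let M be a finitely generated S-module. Then M is torsionless
(the canonical map M → M** to the double S-dual is injective) if and only if M is free as a
Λ-module. If in addition S is a Gorenstein ring (it has Krull dimension at most 1, being finite over
Λ), then M is reflexive (M → M** bijective) if and only if M is free as a Λ-module, so that for such
S torsionless and reflexive finitely generated modules coincide. The published statement is the case
Λ = ℤ, resp. Λ = ℤ_ℓ for a prime ℓ, with S the minimal central order R_w of a finite set of Weil
q-numbers, resp. its ℓ-adic completion R_w ⊗ ℤ_ℓ, under the assumption that R_w is Gorenstein; the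
argument given there uses only that S is finite free over Λ, reduced, and (for reflexivity)
Gorenstein of dimension one. -/
theorem result (Λ : Type u) [CommRing Λ] [IsDomain Λ] [IsPrincipalIdealRing Λ]
    (S : Type u) [CommRing S] [Algebra Λ S] [Module.Finite Λ S] [Module.Free Λ S] [IsReduced S]
    (M : Type u) [AddCommGroup M] [Module S M] [Module Λ M] [IsScalarTower Λ S M] [Module.Finite S M] :
    (Function.Injective (Module.Dual.eval S M) ↔ Module.Free Λ M) ∧
      (LocCoh.IsGorensteinRing S → (Module.IsReflexive S M ↔ Module.Free Λ M)) := by
  have key : Function.Injective (Module.Dual.eval S M) ↔ Module.Free Λ M := by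
    have : Module.Finite Λ M := Module.Finite.trans S M
    have : IsNoetherianRing S := IsNoetherianRing.of_finite Λ S
    constructor
    · intro h
      obtain ⟨n, i, hi⟩ := Groth.Agent.CAlg9.Torsionless.exists_injective_of_eval_injective h
      have : Module.IsTorsionFree Λ M :=
        Function.Injective.moduleIsTorsionFree i hi fun r x => LinearMap.map_smul_of_tower i r x
      exact Module.free_of_finite_type_torsion_free'
    · intro hfree
      let P : Submonoid S := Algebra.algebraMapSubmonoid S (nonZeroDivisors Λ)
      let T := Localization P
      have : IsScalarTower Λ (Localization (nonZeroDivisors Λ)) T :=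
        isScalarTower_localizationAlgebra (nonZeroDivisors Λ) S
      have : Module.Finite (Localization (nonZeroDivisors Λ)) T :=
        Module.Finite.of_isLocalization Λ S (nonZeroDivisors Λ)
      let : Field (Localization (nonZeroDivisors Λ)) := IsFractionRing.toField Λ
      have : IsArtinianRing T := IsArtinianRing.of_finite (Localization (nonZeroDivisors Λ)) T
      have : IsSemisimpleRing T := IsArtinianRing.isSemisimpleRing_of_isReduced T
      have hP : P ≤ nonZeroDivisors S := by
        rintro _ ⟨c, hc, rfl⟩
        refine mem_nonZeroDivisors_iff_right.mpr fun z hz => ?_
        have h : c • z = 0 := by rw [Algebra.smul_def, mul_comm]; exact hz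
        exact (smul_eq_zero.mp h).resolve_left (nonZeroDivisors.ne_zero hc)
      have hST : Function.Injective (algebraMap S T) := IsLocalization.injective T hP
      let ι : M →ₗ[S] LocalizedModule P M := LocalizedModule.mkLinearMap P M
      have hι : Function.Injective ι := by
        refine (injective_iff_map_eq_zero ι).mpr fun m hm => ?_
        obtain ⟨⟨_, c, hc, rfl⟩, he⟩ := (IsLocalizedModule.eq_zero_iff P ι).mp hm
        have h : c • m = 0 := by rw [← algebraMap_smul S c m]; exact he
        exact (smul_eq_zero.mp h).resolve_left (nonZeroDivisors.ne_zero hc)
      have : Module.Projective T (LocalizedModule P M) := Module.projective_of_isSemisimpleRing _ _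
      refine (injective_iff_map_eq_zero _).mpr fun m hm => ?_
      apply hι
      rw [map_zero, ← Module.forall_dual_apply_eq_zero_iff T]
      intro g
      let h : M →ₗ[S] T := (g.restrictScalars S).comp ι
      obtain ⟨gens, hgens⟩ := Module.Finite.fg_top (R := S) (M := M)
      classical
      obtain ⟨b, hb⟩ := IsLocalization.exist_integer_multiples_of_finset P (gens.image h)
      have hint : ∀ x, (b : S) • h x ∈ LinearMap.range (Algebra.linearMap S T) := by
        intro x
        have hx : x ∈ Submodule.span S (gens : Set M) := hgens ▸ Submodule.mem_top
        refine (Submodule.span_le.mpr ?_ : Submodule.span S (gens : Set M) ≤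
          (LinearMap.range (Algebra.linearMap S T)).comap ((b : S) • h)) hx
        intro y hy
        exact hb _ (Finset.mem_image_of_mem h hy)
      let f : M →ₗ[S] S := (LinearEquiv.ofInjective (Algebra.linearMap S T) hST).symm.toLinearMap.comp
        (LinearMap.codRestrict _ ((b : S) • h) hint)
      have hf : algebraMap S T (f m) = (b : S) • h m :=
        congrArg Subtype.val
          ((LinearEquiv.ofInjective (Algebra.linearMap S T) hST).apply_symm_apply ⟨_, hint m⟩)
      rw [show f m = 0 from LinearMap.congr_fun hm f, map_zero, Algebra.smul_def, eq_comm] at hf
      exact (IsUnit.mul_right_eq_zero (IsLocalization.map_units T b)).mp hf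
  refine ⟨key, fun hG => ⟨fun h => key.mp (Module.bijective_dual_eval S M).1, fun h => ?_⟩⟩
  refine Groth.Agent.CAlg9.Torsionless.isReflexive_of_eval_injective ?_ (key.mpr h)
  have : Ring.KrullDimLE 1 Λ := inferInstance
  exact le_trans (Groth.Agent.EGA4Alg4.ringKrullDim_le_of_integral Λ S)
    (Ring.krullDimLE_iff.mp this)

end Groth.Agent.S17988
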