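import Groth.Statements.S17990
import Groth.Agent.Gor18.Dim
import Groth.Agent.TF3.DualLoc
import Mathlib.RingTheory.LocalProperties.Exactness

set_option autoImplicit false
universe u
open CAlg

namespace Groth.Agent.S17990

open IsLocalRing

theorem local_iso {R N : Type u} [CommRing R] [IsLocalRing R] [IsNoetherianRing R] [IsReduced R]
    [Ring.KrullDimLE 1 R] [AddCommGroup N] [Module R N] [Module.IsReflexive R N]
    (h : Function.Bijective (algebraMap R (Module.End R N))) : Nonempty (N ≃ₗ[R] R) := by
  classical
  by_cases hA : ∃ (f : N →ₗ[R] R) (v : N), IsUnit (f v)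
  · obtain ⟨f, v, hu⟩ := hA
    obtain ⟨w, hw⟩ : ∃ w, f w = 1 := ⟨hu.unit⁻¹.1 • v, by rw [map_smul, smul_eq_mul, hu.val_inv_mul]⟩
    obtain ⟨c, hc⟩ := h.2 (f.smulRight w)
    have hcm : ∀ m, c • m = f m • w := fun m => by
      simpa [Module.algebraMap_end_apply] using LinearMap.congr_fun hc m
    have hc1 : c = 1 := by
      have := congrArg f (hcm w)
      rwa [map_smul, map_smul, hw, smul_eq_mul, mul_one, smul_eq_mul, one_mul] at this
    refine ⟨LinearEquiv.ofLinearMap f (LinearMap.toSpanSingleton R N w) ?_ ?_⟩
    · exact LinearMap.ext_ring (by simp [hw])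
    · refine LinearMap.ext fun m => ?_
      have := hcm m
      rw [hc1, one_smul] at this
      simpa using this.symm
  · exfalso
    push Not at hA
    by_cases hreg : ∃ x ∈ maximalIdeal R, IsSMulRegular R x
    · obtain ⟨x, hxm, hx⟩ := hreg
      have hxN : x ∈ nonZeroDivisors R :=
        mem_nonZeroDivisors_iff_right.mpr fun z hz => hx (by simp [smul_eq_mul, mul_comm x z, hz])
      -- some power of the maximal ideal lies in `(x)`
      have hrad : maximalIdeal R ≤ (Ideal.span {x}).radical := by
        rw [Ideal.radical_eq_sInf]
        refine le_sInf fun P hP => ?_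
        have hPp : P.IsPrime := hP.2
        have hxP : x ∈ P := hP.1 (Ideal.mem_span_singleton_self x)
        rcases Ring.krullDimLE_one_iff.mp inferInstance P hP.2 with hmin | hmax
        · exact absurd hxN (Set.disjoint_left.mp (Ideal.disjoint_nonZeroDivisors_of_mem_minimalPrimes hmin) hxP)
        · exact (eq_maximalIdeal hmax).ge
      obtain ⟨k, hk⟩ := Ideal.exists_pow_le_of_le_radical_of_fg hrad (IsNoetherian.noetherian _)
      have hex : ∃ k, (maximalIdeal R) ^ k ≤ Ideal.span {x} := ⟨k, hk⟩
      obtain ⟨j, hj⟩ : ∃ j, Nat.find hex = j + 1 := by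
        refine Nat.exists_eq_succ_of_ne_zero fun h0 => ?_
        have := Nat.find_spec hex
        rw [h0, pow_zero, Ideal.one_eq_top, top_le_iff] at this
        exact (maximalIdeal.isMaximal R).ne_top
          (top_le_iff.mp (this ▸ (Ideal.span_singleton_le_iff_mem _).mpr hxm))
      obtain ⟨a, haj, hax⟩ := SetLike.not_le_iff_exists.mp (Nat.find_min hex (show j < Nat.find hex by omega))
      have ham : ∀ t ∈ maximalIdeal R, a * t ∈ LinearMap.range (LinearMap.mulLeft R x) := by
        intro t ht
        have := Nat.find_spec hex (show a * t ∈ _ from by rw [hj, pow_succ]; exact Ideal.mul_mem_mul haj ht)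
        obtain ⟨r, hr⟩ := Ideal.mem_span_singleton'.mp this
        exact ⟨r, by simpa [mul_comm] using hr⟩
      have hinj : Function.Injective (LinearMap.mulLeft R x) := fun p q h => hx h
      let dv := LinearEquiv.ofInjective (LinearMap.mulLeft R x) hinj
      let pre : (N →ₗ[R] R) → (N →ₗ[R] R) := fun f =>
        dv.symm.toLinearMap.comp (LinearMap.codRestrict _ (a • f) (fun v => by
          rw [LinearMap.smul_apply, smul_eq_mul]
          exact ham _ ((mem_maximalIdeal _).mpr (hA f v))))
      have hpre : ∀ f v, x * pre f v = a * f v := fun f v => congrArg Subtype.val (dv.apply_symm_apply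
        ⟨(a • f) v, ham _ ((mem_maximalIdeal _).mpr (hA f v))⟩)
      let θ : Module.Dual R N →ₗ[R] Module.Dual R N :=
        { toFun := pre
          map_add' := fun f g => LinearMap.ext fun v => hx (by
            simp only [smul_eq_mul, LinearMap.add_apply, mul_add, hpre])
          map_smul' := fun r f => LinearMap.ext fun v => hx (by
            simp only [smul_eq_mul, LinearMap.smul_apply, RingHom.id_apply, hpre, mul_left_comm x r]
            ring) }
      let φ : Module.End R N :=
        (Module.evalEquiv R N).symm.toLinearMap ∘ₗ θ.dualMap ∘ₗ (Module.evalEquiv R N).toLinearMap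
      obtain ⟨s, hs⟩ := h.2 φ
      have hxs : algebraMap R (Module.End R N) (x * s) = algebraMap R (Module.End R N) a := by
        refine LinearMap.ext fun v => (Module.bijective_dual_eval R N).1 (LinearMap.ext fun f => ?_)
        rw [map_mul, hs]
        simp [φ, θ, Module.algebraMap_end_apply, hpre]
      exact hax (Ideal.mem_span_singleton'.mpr ⟨s, by rw [← h.1 hxs, mul_comm]⟩)
    · -- no regular element: `R` is a field
      have hsoc : LocCoh.torsionBy (maximalIdeal R) R ≠ ⊥ := fun h0 =>
        hreg (Groth.Agent.Gor18.socle_eq_bot_iff_exists_regular.mp h0)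
      obtain ⟨c, hc, hc0⟩ := (Submodule.ne_bot_iff _).mp hsoc
      have hcu : IsUnit c := by
        by_contra hcu
        refine hc0 ((pow_eq_zero_iff two_ne_zero).mp ?_)
        rw [pow_two]
        exact (Submodule.mem_torsionBySet_iff _ _).mp hc ⟨c, (mem_maximalIdeal _).mpr hcu⟩
      have hm0 : ∀ t ∈ maximalIdeal R, t = 0 := fun t ht =>
        hcu.mul_left_eq_zero.mp ((Submodule.mem_torsionBySet_iff _ _).mp hc ⟨t, ht⟩)
      have hN : Subsingleton N := subsingleton_of_forall_eq 0 fun v =>
        (Module.bijective_dual_eval R N).1 (LinearMap.ext fun f => by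
          rw [Module.Dual.eval_apply, map_zero, LinearMap.zero_apply,
            hm0 _ ((mem_maximalIdeal _).mpr (hA f v))])
      exact one_ne_zero (h.1 (Subsingleton.elim (algebraMap R (Module.End R N) 1) (algebraMap R _ 0)))


/-- Let S be a reduced Gorenstein ring (Noetherian, all localizations at primes of finite injective
dimension over themselves) whose Krull dimension is ≤ 1; let M be a finitely generated S-module
which is reflexive (M → M** bijective). Then M is locally free of rank 1, i.e. the localization M_P
is isomorphic to S_P as an S_P-module for every prime ideal P of S, if and only if the natural ring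
map S → End_S(M), sending s to multiplication by s, is bijective. -/
theorem result (S : Type u) [CommRing S]
    [IsReduced S] [LocCoh.IsGorensteinRing S] (hdim : ringKrullDim S ≤ 1)
    (M : Type u) [AddCommGroup M] [Module S M] [Module.Finite S M] [Module.IsReflexive S M] :
    (∀ (P : Ideal S) (_ : P.IsPrime),
        Nonempty (LocalizedModule P.primeCompl M ≃ₗ[Localization.AtPrime P] Localization.AtPrime P)) ↔
      Function.Bijective (algebraMap S (Module.End S M)) := by
  have : Module.FinitePresentation S M := Module.finitePresentation_of_finite S M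
  constructor
  · intro hloc
    refine bijective_of_isLocalized_maximal
      (fun P _ => Localization.AtPrime P) (fun P _ => Algebra.linearMap S (Localization.AtPrime P))
      (fun P _ => Module.End (Localization.AtPrime P) (LocalizedModule P.primeCompl M))
      (fun P _ => LocalizedModule.map P.primeCompl)
      (Algebra.linearMap S (Module.End S M)) fun P hP => ?_
    have key : IsLocalizedModule.map P.primeCompl (Algebra.linearMap S (Localization.AtPrime P))
        (LocalizedModule.map P.primeCompl) (Algebra.linearMap S (Module.End S M)) =
        (Algebra.linearMap (Localization.AtPrime P)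
          (Module.End (Localization.AtPrime P) (LocalizedModule P.primeCompl M))).restrictScalars S := by
      refine IsLocalizedModule.ext P.primeCompl (Algebra.linearMap S (Localization.AtPrime P))
        (IsLocalizedModule.map_units (LocalizedModule.map P.primeCompl (M := M) (N := M))) ?_
      refine LinearMap.ext fun s => ?_
      rw [LinearMap.comp_apply, IsLocalizedModule.map_apply]
      refine LinearMap.ext fun z => ?_
      induction z using LocalizedModule.induction_on with
      | h m t =>
        simp [Module.algebraMap_end_apply, LocalizedModule.map_mk, LocalizedModule.smul'_mk]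
    rw [key, LinearMap.coe_restrictScalars]
    obtain ⟨e⟩ := hloc P hP.isPrime
    refine ⟨fun a b hab => ?_, fun φ => ⟨e (φ (e.symm 1)), LinearMap.ext fun z => ?_⟩⟩
    · have := congrArg e (LinearMap.congr_fun hab (e.symm 1))
      simpa [Module.algebraMap_end_apply] using this
    · apply e.injective
      have hz : z = e z • e.symm 1 := e.injective (by simp)
      rw [Algebra.linearMap_apply, Module.algebraMap_end_apply, map_smul, smul_eq_mul, mul_comm]
      conv_rhs => rw [hz, map_smul, map_smul, smul_eq_mul]
  · intro hbij P hP
    have hb := hbij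
    have : Ring.KrullDimLE 1 S := Ring.krullDimLE_iff.mpr (by exact_mod_cast hdim)
    have : Ring.KrullDimLE 1 (Localization.AtPrime P) := Ring.krullDimLE_iff.mpr
      (by rw [IsLocalization.AtPrime.ringKrullDim_eq_height P (Localization.AtPrime P)]
          exact (Ideal.height_le_ringKrullDim_of_ne_top hP.ne_top).trans (by exact_mod_cast hdim))
    have : Module.IsReflexive (Localization.AtPrime P) (LocalizedModule P.primeCompl M) :=
      Groth.Agent.TF3.isReflexive_localized P
    refine local_iso ⟨?_, fun φ => ?_⟩
    · refine (injective_iff_map_eq_zero _).mpr fun z hz => ?_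
      obtain ⟨c, t, rfl⟩ := IsLocalization.exists_mk'_eq P.primeCompl z
      rw [IsLocalization.mk'_eq_zero_iff]
      have h0 : LocalizedModule.map P.primeCompl (algebraMap S (Module.End S M) c) = 0 := by
        refine LinearMap.ext fun w => ?_
        induction w using LocalizedModule.induction_on with
        | h m s =>
          have h1 := LinearMap.congr_fun hz (LocalizedModule.mk m s)
          rw [Module.algebraMap_end_apply, LinearMap.zero_apply] at h1
          have h2 := congrArg (fun y => algebraMap S (Localization.AtPrime P) (t : S) • y) h1
          simp only [smul_zero, ← mul_smul, IsLocalization.mk'_spec'] at h2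
          rw [LinearMap.zero_apply, ← h2]
          simp [Module.algebraMap_end_apply, LocalizedModule.map_mk, algebraMap_smul, LocalizedModule.smul'_mk]
      obtain ⟨r, hr⟩ := (IsLocalizedModule.eq_zero_iff P.primeCompl
        (LocalizedModule.map P.primeCompl (M := M) (N := M))).mp h0
      refine ⟨r, hb.1 ?_⟩
      rw [map_mul, map_zero, ← hr, Submonoid.smul_def, Algebra.smul_def]
    · obtain ⟨⟨ψ, t⟩, ht⟩ := IsLocalizedModule.surj P.primeCompl
        (LocalizedModule.map P.primeCompl (M := M) (N := M)) φ
      obtain ⟨c, rfl⟩ := hb.2 ψ
      refine ⟨IsLocalization.mk' _ c t, ?_⟩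
      have hu : IsUnit (algebraMap S (Localization.AtPrime P) (t : S)) :=
        IsLocalization.map_units _ t
      refine LinearMap.ext fun w => hu.smul_left_cancel.mp ?_
      have h1 := LinearMap.congr_fun ht w
      rw [Submonoid.smul_def, LinearMap.smul_apply, ← algebraMap_smul (Localization.AtPrime P) (t : S)] at h1
      rw [h1, Module.algebraMap_end_apply, ← mul_smul, IsLocalization.mk'_spec']
      induction w using LocalizedModule.induction_on with
      | h m s => simp [Module.algebraMap_end_apply, LocalizedModule.map_mk, algebraMap_smul, LocalizedModule.smul'_mk]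

end Groth.Agent.S17990
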