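import Groth.Statements.S18015
import Mathlib.RingTheory.Ideal.AssociatedPrime.Finiteness
import Mathlib.Algebra.Homology.ShortComplex.ModuleCat

set_option autoImplicit false
universe u
open CategoryTheory
open Coh

namespace Groth.Agent.S18015

/-- Let A be a Noetherian commutative ring and F an additive functor from A-modules to A-modules which
is half-exact, i.e. for every short exact sequence 0 → M' → M → M'' → 0 the sequence F(M') → F(M) →
F(M'') is exact at F(M). Then F(M) is a finitely generated A-module for every finitely generated
A-module M if and only if F(A/p) is a finitely generated A-module for every prime ideal p of A. (The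
published statement takes F from quasi-coherent sheaves on Spec A to abelian groups, with A acting
on each F(M) through F; this row allows any additive functor between A-module categories, A-linear
or not, and the same argument applies, since it uses only that each map F(f) is A-linear.) -/
theorem result {A : Type u} [CommRing A] [IsNoetherianRing A]
    (F : ModuleCat.{u} A ⥤ ModuleCat.{u} A) [F.Additive]
    (hF : ∀ S : ShortComplex (ModuleCat.{u} A), S.ShortExact → (S.map F).Exact) :
    (∀ M : ModuleCat.{u} A, Module.Finite A M → Module.Finite A (F.obj M)) ↔
      ∀ p : PrimeSpectrum A, Module.Finite A (F.obj (ModuleCat.of A (A ⧸ p.asIdeal))) := by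
  refine ⟨fun h p => h _ inferInstance, fun h M hM => ?_⟩
  have key : ∀ (N : Type u) [AddCommGroup N] [Module A N] (_ : Module.Finite A N),
      Module.Finite A (F.obj (ModuleCat.of A N)) := by
    intro N _ _ hN
    induction hN using IsNoetherianRing.induction_on_isQuotientEquivQuotientPrime A with
    | subsingleton N =>
      have : Subsingleton (F.obj (ModuleCat.of A N)) :=
        ModuleCat.subsingleton_of_isZero (F.map_isZero (ModuleCat.isZero_of_subsingleton _))
      infer_instance
    | quotient N p e =>
      have := h p
      exact Module.Finite.equiv (F.mapIso e.toModuleIso).toLinearEquiv.symm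
    | exact N₁ N₂ N₃ f g hf hg hfg h₁ h₃ =>
      have hS : (ShortComplex.moduleCatMk f g (hfg.linearMap_comp_eq_zero)).ShortExact :=
        { exact := (ShortComplex.ShortExact.moduleCat_exact_iff_function_exact _).mpr hfg
          mono_f := (ModuleCat.mono_iff_injective _).mpr hf
          epi_g := (ModuleCat.epi_iff_surjective _).mpr hg }
      have hex := (ShortComplex.ShortExact.moduleCat_exact_iff_function_exact _).mp (hF _ hS)
      refine ⟨?_⟩
      refine Submodule.fg_of_fg_map_of_fg_inf_ker
        (F.map (ModuleCat.ofHom g)).hom (IsNoetherian.noetherian _) ?_
      have hfg2 : (LinearMap.range (F.map (ModuleCat.ofHom f)).hom).FG := by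
        rw [LinearMap.range_eq_map]; exact (Module.Finite.fg_top).map _
      have he2 : LinearMap.ker (F.map (ModuleCat.ofHom g)).hom =
          LinearMap.range (F.map (ModuleCat.ofHom f)).hom := LinearMap.exact_iff.mp hex
      rw [top_inf_eq, he2]
      exact hfg2
  exact key M hM

end Groth.Agent.S18015
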