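import Groth.Statements.S18016
import Groth.Agent.LimTop61.NilPair

set_option autoImplicit false
universe u
open CategoryTheory CategoryTheory.Limits
open Lim

namespace Groth.Agent.S18016

/-- In ring form, let R be a commutative ring, f : B → D any map of R-algebras and i : D' → D a
surjective map of R-algebras every element of whose kernel is nilpotent (so Spec D → Spec D' is a
locally nilpotent closed immersion of affine R-schemes and Spec D → Spec B is affine), and let q₁ :
P → B, q₂ : P → D' exhibit P as the fibre product ring B ×_D D' (the pushout of the two affine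
schemes). Then the diagram B → D ← D' is a filtered colimit, in R-algebras, of diagrams B_j → D_j ←
D'_j of R-algebras of finite presentation in which D'_j → D_j is surjective with locally nilpotent
kernel; and the fibre products P_j = B_j ×_{D_j} D'_j form a compatible diagram whose colimit is P.
Moreover: if f is surjective (resp. surjective with locally nilpotent kernel, resp. integral) then
every B_j → D_j can be taken surjective (resp. surjective with locally nilpotent kernel, resp.
integral). (The published statement also covers two further classes, maps that become a closed or a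
locally nilpotent immersion after composing with a locally nilpotent closed immersion; those two
clauses are not stated here.) -/
theorem result {R B D D' P : Type u} [CommRing R] [CommRing B]
    [CommRing D] [CommRing D'] [CommRing P] [Algebra R B] [Algebra R D] [Algebra R D'] [Algebra R P]
    (f : B →ₐ[R] D) (i : D' →ₐ[R] D) (hi : Function.Surjective i)
    (hnil : ∀ x ∈ RingHom.ker i.toRingHom, IsNilpotent x) (q₁ : P →ₐ[R] B) (q₂ : P →ₐ[R] D')
    (hP : IsPullback (CommRingCat.ofHom q₁.toRingHom) (CommRingCat.ofHom q₂.toRingHom)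
      (CommRingCat.ofHom f.toRingHom) (CommRingCat.ofHom i.toRingHom)) :
    ∃ (ι : Type u) (_ : SmallCategory ι) (_ : IsFiltered ι) (DB DD DD' DP : ι ⥤ Under (CommRingCat.of R))
      (φ : DB ⟶ DD) (ψ : DD' ⟶ DD) (π₁ : DP ⟶ DB) (π₂ : DP ⟶ DD')
      (cB : DB ⟶ (Functor.const ι).obj (Under.mk (CommRingCat.ofHom (algebraMap R B))))
      (cD : DD ⟶ (Functor.const ι).obj (Under.mk (CommRingCat.ofHom (algebraMap R D))))
      (cD' : DD' ⟶ (Functor.const ι).obj (Under.mk (CommRingCat.ofHom (algebraMap R D'))))
      (cP : DP ⟶ (Functor.const ι).obj (Under.mk (CommRingCat.ofHom (algebraMap R P)))),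
      Nonempty (IsColimit (Cocone.mk _ cB)) ∧ Nonempty (IsColimit (Cocone.mk _ cD)) ∧
      Nonempty (IsColimit (Cocone.mk _ cD')) ∧ Nonempty (IsColimit (Cocone.mk _ cP)) ∧
      (∀ j, (φ.app j).right ≫ (cD.app j).right = (cB.app j).right ≫ CommRingCat.ofHom f.toRingHom) ∧
      (∀ j, (ψ.app j).right ≫ (cD.app j).right = (cD'.app j).right ≫ CommRingCat.ofHom i.toRingHom) ∧
      (∀ j, (π₁.app j).right ≫ (cB.app j).right = (cP.app j).right ≫ CommRingCat.ofHom q₁.toRingHom) ∧
      (∀ j, (π₂.app j).right ≫ (cD'.app j).right = (cP.app j).right ≫ CommRingCat.ofHom q₂.toRingHom) ∧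
      (∀ j, (DB.obj j).hom.hom.FinitePresentation ∧ (DD.obj j).hom.hom.FinitePresentation ∧
        (DD'.obj j).hom.hom.FinitePresentation) ∧
      (∀ j, Function.Surjective (ψ.app j).right.hom ∧ ∀ x ∈ RingHom.ker (ψ.app j).right.hom, IsNilpotent x) ∧
      (∀ j, IsPullback (π₁.app j).right (π₂.app j).right (φ.app j).right (ψ.app j).right) ∧
      (Function.Surjective f → ∀ j, Function.Surjective (φ.app j).right.hom) ∧
      (Function.Surjective f → (∀ x ∈ RingHom.ker f.toRingHom, IsNilpotent x) →
        ∀ j, Function.Surjective (φ.app j).right.hom ∧ ∀ x ∈ RingHom.ker (φ.app j).right.hom, IsNilpotent x) ∧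
      (f.toRingHom.IsIntegral → ∀ j, (φ.app j).right.hom.IsIntegral) := by
  open Groth.Agent.LimTop61.NilPair in
  have hq : ∀ p, f (q₁ p) = i (q₂ p) := fun p => congrArg (fun q => q.hom p) hP.w
  have hstd := IsPullback.of_isLimit (CommRingCat.pullbackConeIsLimit
    (CommRingCat.ofHom f.toRingHom) (CommRingCat.ofHom i.toRingHom))
  let e := hP.isoIsPullback _ _ hstd
  have hval : ∀ p, q₁ p = (e.hom.hom p).1.1 ∧ q₂ p = (e.hom.hom p).1.2 := fun p =>
    ⟨(congrArg (fun q => q.hom p) (hP.isoIsPullback_hom_fst _ _ hstd)).symm,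
      (congrArg (fun q => q.hom p) (hP.isoIsPullback_hom_snd _ _ hstd)).symm⟩
  have hinj : Function.Bijective e.hom.hom := ConcreteCategory.bijective_of_isIso e.hom
  have he : ∀ z : B × D', f z.1 = i z.2 → ∃! p, q₁ p = z.1 ∧ q₂ p = z.2 := by
    intro z hz
    obtain ⟨p, hp⟩ := hinj.2 ⟨z, hz⟩
    have hp' : ∀ p', q₁ p' = z.1 ∧ q₂ p' = z.2 ↔ (e.hom.hom p').1 = z := fun p' => by
      rw [Prod.ext_iff, (hval p').1, (hval p').2]
    refine ⟨p, (hp' p).2 (congrArg Subtype.val hp), fun p' h' => ?_⟩
    exact hinj.1 (Subtype.ext (((hp' p').1 h').trans (congrArg Subtype.val hp).symm))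
  open Groth.Agent.LimTop61.NilPair in
  obtain ⟨cP', hcP, hπ1, hπ2⟩ := exists_cP f i hi hnil hq he
  open Groth.Agent.LimTop61.NilPair in
  refine ⟨Stage f i, inferInstance, isFiltered hi hnil, DB f i, DD f i, DD' f i, DP f i, natφ f i,
    natψ f i, natπ₁ f i, natπ₂ f i, cB f i, cD f i, cD' f i, cP', isColimitB f i hi hnil, isColimitD f i hi hnil,
    isColimitD' f i hi hnil, hcP,
    fun s => CommRingCat.hom_ext (RingHom.ext (gD_φm s)),
    fun s => CommRingCat.hom_ext (RingHom.ext (gD_ψm s)), hπ1, hπ2, fun s => ?_,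
    fun s => ⟨s.surj, s.nil⟩, fun s => isPullback f i s, fun h s => s.surjf h,
    fun h h' s => ⟨s.surjf h, s.nilf h h'⟩, fun h s => s.intf h⟩
  exact ⟨RingHom.finitePresentation_algebraMap.2 (Algebra.FinitePresentation.quotient s.I_fg),
    RingHom.finitePresentation_algebraMap.2 (Algebra.FinitePresentation.quotient s.K_fg),
    RingHom.finitePresentation_algebraMap.2 (Algebra.FinitePresentation.quotient s.I'_fg)⟩

end Groth.Agent.S18016
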