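import Groth.Statements.S18019
import Mathlib.Tactic

set_option autoImplicit false
universe u
open ClassStk

namespace Groth.Agent.S18019

open Polynomial in
/-- Let R be an integral domain of characteristic 2 and let a be a nonzero element of R, so that x ↦ x +
a defines an R-algebra involution of the polynomial ring R[x] (an action of the group of order two).
A polynomial f is invariant, f(x + a) = f(x), if and only if f belongs to the R-subalgebra generated
by u = x (x + a); in other words the ring of invariants is the polynomial ring R[u]. -/
theorem result (R : Type u) [CommRing R] [IsDomain R]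
    [CharP R 2] (a : R) (ha : a ≠ 0) (f : Polynomial R) :
    f.comp (X + C a) = f ↔ f ∈ Algebra.adjoin R ({X * (X + C a)} : Set (Polynomial R)) := by
  have h2a : a + a = 0 := CharTwo.add_self_eq_zero a
  have hu : (X * (X + C a)).comp (X + C a) = X * (X + C a) := by
    rw [mul_comp, add_comp, X_comp, C_comp, add_assoc, ← C_add, h2a, C_0, add_zero, mul_comm]
  constructor
  · suffices h : ∀ n, ∀ g : Polynomial R, g.natDegree ≤ n → g.comp (X + C a) = g →
        g ∈ Algebra.adjoin R ({X * (X + C a)} : Set (Polynomial R)) from h _ f le_rfl
    intro n
    induction n using Nat.strong_induction_on with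
    | _ n ih =>
      intro g hgn hg
      have h0 : g - C (g.coeff 0) = g.comp (X + C a) - C (g.coeff 0) := by rw [hg]
      have hga : g.eval a = g.eval 0 := by
        conv_rhs => rw [← hg, eval_comp]
        simp
      obtain ⟨g₁, hg₁⟩ : X ∣ g - C (g.coeff 0) := X_dvd_iff.mpr (by simp)
      have hra : g₁.IsRoot a := by
        have := congrArg (eval a) hg₁
        rw [eval_sub, eval_C, eval_mul, eval_X, hga, ← coeff_zero_eq_eval_zero, sub_self] at this
        exact (mul_eq_zero.mp this.symm).resolve_left ha
      obtain ⟨g₂, rfl⟩ := dvd_iff_isRoot.mpr hra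
      rw [sub_eq_add_neg X (C a), ← C_neg, CharTwo.neg_eq, ← mul_assoc] at hg₁
      have hg' : g = X * (X + C a) * g₂ + C (g.coeff 0) := by rw [← hg₁, sub_add_cancel]
      by_cases hz : g₂ = 0
      · rw [hg', hz, mul_zero, zero_add]
        exact Subalgebra.algebraMap_mem _ _
      have hu0 : X * (X + C a) ≠ 0 := mul_ne_zero X_ne_zero (X_add_C_ne_zero a)
      have hcomp : g₂.comp (X + C a) = g₂ := by
        refine mul_left_cancel₀ hu0 ?_
        have := congrArg (fun q => q.comp (X + C a)) hg₁
        simp only [sub_comp, C_comp, hg] at this
        rw [mul_comp, hu, hg₁] at this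
        exact this.symm
      have hdeg : g₂.natDegree + 2 ≤ g.natDegree := by
        have := congrArg natDegree hg₁
        rw [natDegree_sub_C, natDegree_mul hu0 hz, natDegree_mul X_ne_zero (X_add_C_ne_zero a),
          natDegree_X, natDegree_X_add_C] at this
        omega
      rw [hg']
      exact add_mem (mul_mem (Algebra.subset_adjoin rfl) (ih g₂.natDegree (by omega) g₂ le_rfl hcomp))
        (Subalgebra.algebraMap_mem _ _)
  · intro hf
    induction hf using Algebra.adjoin_induction with
    | mem x hx =>
      obtain rfl := Set.mem_singleton_iff.mp hx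
      exact hu
    | algebraMap r => exact C_comp
    | add x y _ _ hx hy => rw [add_comp, hx, hy]
    | mul x y _ _ hx hy => rw [mul_comp, hx, hy]

end Groth.Agent.S18019
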