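import Groth.Statements.S18020
import Groth.Agent.Inertia52.Eigen

set_option autoImplicit false
open W4c5stacksedinertia

namespace Groth.Agent.S18020

open W4c5stacksedinertia in
/-- In the rational vector space K with basis the isomorphism classes of finite groups (the class of a
group standing for its classifying groupoid), the inertia operator, which sends the class of a
finite group to the sum over its conjugacy classes of the classes of the centralizers of
representatives, preserves the subspace spanned by the classes of groups of order at most `n`. -/
theorem result (n : ℕ) (v : K) (hv : v ∈ Kle n) :
    inertia v ∈ Kle n := by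
  refine Groth.Agent.Inertia52.supported_induction (P := fun x => inertia x ∈ Kle n) v hv (by simp)
    (fun x y hx hy => by rw [map_add]; exact add_mem hx hy)
    (fun c x hx => by rw [map_smul]; exact Submodule.smul_mem _ c hx) (fun i hi => ?_)
  obtain ⟨w, hw, hw'⟩ := Groth.Agent.Inertia52.inertiaR_single 1 i
  rw [inertia, hw]
  refine add_mem (Submodule.smul_mem _ _ ?_) ?_
  · exact Finsupp.single_mem_supported ℚ 1 hi
  · exact Finsupp.supported_mono (fun j hj => le_trans hj.2.le hi) hw'

end Groth.Agent.S18020
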