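import Groth.Statements.S18022
import Groth.Agent.Inertia52.Eigen

set_option autoImplicit false
open W4c5stacksedinertia

namespace Groth.Agent.S18022

open W4c5stacksedinertia in
/-- In the rational vector space K with basis the isomorphism classes of finite groups (the class of a
group standing for its classifying groupoid), the operator `inertiaR r` (class of `G` goes to the
sum, over conjugacy classes of `r`-tuples of pairwise distinct pairwise commuting elements, of the
classes of their common centralizers) preserves the descending filtration by the order of the centre
and acts on its `k`-th graded piece as multiplication by `r! * Nat.choose k r`: for `v` in the span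
of classes with centre of order at least `k`, `inertiaR r v - (r! * Nat.choose k r) • v` lies in the
span of classes with centre of order at least `k + 1`. -/
theorem result (r k : ℕ) (v : K) (hv : v ∈ Kge k) :
    inertiaR r v - ((Nat.factorial r * Nat.choose k r : ℕ) : ℚ) • v ∈ Kge (k + 1) := by
  refine Groth.Agent.Inertia52.supported_induction
    (P := fun x => inertiaR r x - ((Nat.factorial r * Nat.choose k r : ℕ) : ℚ) • x ∈ Kge (k + 1)) v hv (by simp)
    (fun x y hx hy => by
      have := add_mem hx hy
      rw [map_add, smul_add]
      convert this using 1
      abel)
    (fun c x hx => by
      rw [map_smul, smul_comm, ← smul_sub]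
      exact Submodule.smul_mem _ c hx) (fun i hi => ?_)
  obtain ⟨w, hw, hw'⟩ := Groth.Agent.Inertia52.inertiaR_single r i
  rw [hw, ← Nat.descFactorial_eq_factorial_mul_choose, add_sub_right_comm, ← sub_smul]
  refine add_mem ?_ ?_
  · rcases Nat.lt_or_ge k i.centerCard with h | h
    · exact Submodule.smul_mem _ _ (Finsupp.single_mem_supported ℚ 1 h)
    · rw [show i.centerCard = k from le_antisymm h hi, sub_self, zero_smul]
      exact zero_mem _
  · exact Finsupp.supported_mono (fun j hj => lt_of_le_of_lt hi hj.1) hw'

end Groth.Agent.S18022
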