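import Groth.Statements.S18024
import Groth.Agent.Inertia52.Eigen

set_option autoImplicit false
open W4c5stacksedinertia

namespace Groth.Agent.S18024

open W4c5stacksedinertia in
/-- In the rational vector space K with basis the isomorphism classes of finite groups (the class of a
group standing for its classifying groupoid), for every `r` the kernel of `inertiaR r` is the span
of the eigenspaces of the inertia operator with eigenvalue a natural number `k < r`. -/
theorem result (r : ℕ) :
    LinearMap.ker (inertiaR r) = ⨆ k ∈ Finset.range r, Module.End.eigenspace inertia (k : ℚ) := by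
  classical
  apply le_antisymm
  · intro v hv
    have key : ∀ (u : K) (k : ℕ), Groth.Agent.Inertia52.proj k (inertiaR r u) =
        ((k.descFactorial r : ℕ) : ℚ) • Groth.Agent.Inertia52.proj k u := by
      intro u
      refine Groth.Agent.Inertia52.eigGe_induction (P := fun u => ∀ k : ℕ,
        Groth.Agent.Inertia52.proj k (inertiaR r u) =
          ((k.descFactorial r : ℕ) : ℚ) • Groth.Agent.Inertia52.proj k u) u
        (fun k => by simp [Groth.Agent.Inertia52.proj_zero]) ?_ ?_
      · intro x y hx hy k
        rw [map_add, Groth.Agent.Inertia52.proj_add, Groth.Agent.Inertia52.proj_add, hx, hy, smul_add]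
      · intro j _ x hx k
        rw [Groth.Agent.Inertia52.inertiaR_eigen r j x hx, Groth.Agent.Inertia52.proj_eigen k j x hx,
          Groth.Agent.Inertia52.proj_eigen k j _ (by rw [map_smul, hx, smul_comm])]
        split_ifs with h
        · rw [h]
        · rw [smul_zero]
    rw [← (Groth.Agent.Inertia52.proj_support v).2]
    refine finsum_induction (· ∈ ⨆ k ∈ Finset.range r, Module.End.eigenspace inertia (k : ℚ))
      (zero_mem _) (fun _ _ => add_mem) (fun k => ?_)
    rcases Nat.lt_or_ge k r with h | h
    · exact Submodule.mem_iSup_of_mem k
        (Submodule.mem_iSup_of_mem (Finset.mem_range.mpr h) (Groth.Agent.Inertia52.proj_mem k v))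
    · have hk := key v k
      rw [LinearMap.mem_ker.mp hv, Groth.Agent.Inertia52.proj_zero, eq_comm, smul_eq_zero] at hk
      rw [hk.resolve_left (Nat.cast_ne_zero.mpr (fun hc => by
        rw [Nat.descFactorial_eq_zero_iff_lt] at hc; omega))]
      exact zero_mem _
  · refine iSup₂_le fun k hk x hx => ?_
    rw [LinearMap.mem_ker, Groth.Agent.Inertia52.inertiaR_eigen r k x (Module.End.mem_eigenspace_iff.mp hx),
      Nat.descFactorial_eq_zero_iff_lt.mpr (Finset.mem_range.mp hk)]
    simp

end Groth.Agent.S18024
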