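import Groth.Statements.S18040
import Groth.Agent.CAlg6.CayleyBach
-- import your own Groth.Agent.* helpers here

set_option autoImplicit false
universe u
open AdjLin

namespace Groth.Agent.S18040

/-- Let k be an algebraically closed field of characteristic zero and Z a finite set of points of
projective 3-space over k, realised as points of the projectivization of k⁴, a homogeneous form in
four variables being evaluated at the chosen representative of a point (its vanishing does not
depend on the choice). Suppose Z has the Cayley–Bacharach property in degree n: every form of degree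
n vanishing at all points of Z but one vanishes at that point as well. Then for every m ≤ n, either
there is a nonzero form of degree n − m vanishing at every point of Z, or the rank of the evaluation
map from forms of degree m to functions on Z is at most the number of points of Z minus the
dimension of the space of forms of degree n − m. -/
theorem result (k : Type u) [Field k] [IsAlgClosed k] [CharZero k]
    (Z : Finset (Projectivization k (Fin 4 → k))) (n : ℕ)
    (hCB : (∀ z ∈ Z, ∀ p : MvPolynomial (Fin 4) k, p.IsHomogeneous n →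
      (∀ z' ∈ Z, z' ≠ z → MvPolynomial.eval z'.rep p = 0) → MvPolynomial.eval z.rep p = 0))
    (m : ℕ) (hm : m ≤ n) :
    (∃ s : MvPolynomial (Fin 4) k, s.IsHomogeneous (n - m) ∧ s ≠ 0 ∧ ∀ z ∈ Z, MvPolynomial.eval z.rep s = 0) ∨
      Module.finrank k (LinearMap.range
          ((LinearMap.pi fun z : ↥Z => (MvPolynomial.aeval (R := k) z.1.rep).toLinearMap) ∘ₗ
            (MvPolynomial.homogeneousSubmodule (Fin 4) k m).subtype)) +
        Module.finrank k ↥(MvPolynomial.homogeneousSubmodule (Fin 4) k (n - m)) ≤ Z.card := by
  classical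
  let E : ∀ j, ↥(MvPolynomial.homogeneousSubmodule (Fin 4) k j) →ₗ[k] (↥Z → k) := fun j =>
    (LinearMap.pi fun z : ↥Z => (MvPolynomial.aeval (R := k) z.1.rep).toLinearMap) ∘ₗ
      (MvPolynomial.homogeneousSubmodule (Fin 4) k j).subtype
  have hE : ∀ j (p : ↥(MvPolynomial.homogeneousSubmodule (Fin 4) k j)) (z : ↥Z),
      E j p z = MvPolynomial.eval z.1.rep p.1 := fun j p z => by
    simp [E, MvPolynomial.aeval_eq_eval]
  by_cases hinj : Function.Injective (E (n - m))
  swap
  · left
    obtain ⟨p, hp, hp0⟩ : ∃ p, E (n - m) p = 0 ∧ p ≠ 0 := by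
      rw [← LinearMap.ker_eq_bot, LinearMap.ker_eq_bot'] at hinj
      push Not at hinj
      exact hinj
    exact ⟨p.1, p.2, fun h => hp0 (Subtype.ext h), fun z hz => by
      rw [← hE (n - m) p ⟨z, hz⟩, hp]; rfl⟩
  right
  -- a functional killing forms of degree `n` and no point
  obtain ⟨φ, hφ, hφ0⟩ := Module.Dual.exists_forall_mem_ne_zero_of_forall_exists
    (LinearMap.range (E n)).dualAnnihilator
    (fun z : ↥Z => Module.Dual.eval k (↥Z → k) (Pi.single z 1)) fun z => by
      have hnot : Pi.single z (1 : k) ∉ LinearMap.range (E n) := by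
        rintro ⟨p, hp⟩
        have h1 := hCB z.1 z.2 p.1 p.2 fun z' hz' hne => by
          rw [← hE n p ⟨z', hz'⟩, hp, Pi.single_eq_of_ne fun h => hne (congrArg Subtype.val h)]
        rw [← hE n p z, hp, Pi.single_eq_same] at h1
        exact one_ne_zero h1
      obtain ⟨f, hf1, hf2⟩ := Submodule.exists_dual_map_eq_bot_of_notMem hnot inferInstance
      refine ⟨f, (Submodule.mem_dualAnnihilator f).2 fun w hw => ?_, hf1⟩
      have : f w ∈ (LinearMap.range (E n)).map f := ⟨w, hw, rfl⟩
      rw [hf2] at this
      exact this
  let T : (↥Z → k) →ₗ[k] Module.Dual k (↥Z → k) :=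
    (LinearMap.mul k (↥Z → k)).compr₂ φ
  have hT : ∀ v w, T v w = φ (v * w) := fun v w => rfl
  have hTinj : Function.Injective T := by
    rw [← LinearMap.ker_eq_bot, LinearMap.ker_eq_bot']
    intro v hv
    funext z
    have h1 := hT v (Pi.single z 1)
    rw [hv, LinearMap.zero_apply, show v * Pi.single z 1 = v z • Pi.single z 1 by
      funext y; by_cases hy : y = z <;> simp [hy], map_smul, smul_eq_mul] at h1
    exact (mul_eq_zero.1 h1.symm).resolve_right (hφ0 z)
  have hle : (LinearMap.range (E (n - m))).map T ≤ (LinearMap.range (E m)).dualAnnihilator := by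
    rintro _ ⟨_, ⟨q, rfl⟩, rfl⟩
    rw [Submodule.mem_dualAnnihilator]
    rintro _ ⟨p, rfl⟩
    rw [hT]
    refine (Submodule.mem_dualAnnihilator φ).1 hφ _ ⟨⟨q.1 * p.1, ?_⟩, ?_⟩
    · have h1 : (q.1 * p.1).IsHomogeneous (n - m + m) := q.2.mul p.2
      rw [Nat.sub_add_cancel hm] at h1
      exact h1
    · funext z
      rw [hE, Pi.mul_apply, hE, hE, MvPolynomial.eval_mul]
  have h2 := Submodule.finrank_mono hle
  rw [← (Submodule.equivMapOfInjective T hTinj _).finrank_eq,
    LinearMap.finrank_range_of_inj hinj] at h2
  have h3 := Subspace.finrank_add_finrank_dualAnnihilator_eq (LinearMap.range (E m))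
  rw [Module.finrank_pi, Fintype.card_coe] at h3
  change Module.finrank k ↥(LinearMap.range (E m)) + _ ≤ _
  omega

end Groth.Agent.S18040
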