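import Groth.Statements.S18042
import Groth.Agent.CAlg6.CayleyBach
-- import your own Groth.Agent.* helpers here

set_option autoImplicit false
universe u
open AdjLin

namespace Groth.Agent.S18042

/-- Let k be an algebraically closed field of characteristic zero, n ≥ 1, and Z a finite set of points
of projective 3-space over k (points of the projectivization of k⁴, forms in four variables being
evaluated at the chosen representative) with the Cayley–Bacharach property in degree n: every form
of degree n vanishing at all points of Z but one vanishes at that point as well. If Z has at most 3n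
+ 1 points, then either all points of Z lie in one plane (a common 3-dimensional subspace of k⁴), or
they lie on the union of two skew lines (two 2-dimensional subspaces of k⁴ meeting in zero), each
line carrying at least n + 1 points of Z, and Z has at least 2n + 3 points. (The source states this
for an arbitrary zero-dimensional subscheme, with a third alternative, containment in the
first-order thickening of a line; for the reduced subschemes treated here that alternative is a case
of coplanarity.) -/
theorem result (k : Type u) [Field k] [IsAlgClosed k] [CharZero k]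
    (Z : Finset (Projectivization k (Fin 4 → k))) (n : ℕ) (hn : 1 ≤ n)
    (hCB : (∀ z ∈ Z, ∀ p : MvPolynomial (Fin 4) k, p.IsHomogeneous n →
      (∀ z' ∈ Z, z' ≠ z → MvPolynomial.eval z'.rep p = 0) → MvPolynomial.eval z.rep p = 0))
    (hcard : Z.card ≤ 3 * n + 1) :
    (∃ W : Submodule k (Fin 4 → k), Module.finrank k ↥W = 3 ∧ ∀ z ∈ Z, z.submodule ≤ W) ∨
      (∃ W₁ W₂ : Submodule k (Fin 4 → k), Module.finrank k ↥W₁ = 2 ∧ Module.finrank k ↥W₂ = 2 ∧ W₁ ⊓ W₂ = ⊥ ∧
        (∀ z ∈ Z, z.submodule ≤ W₁ ∨ z.submodule ≤ W₂) ∧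
        n + 1 ≤ Set.ncard {z : Projectivization k (Fin 4 → k) | z ∈ Z ∧ z.submodule ≤ W₁} ∧
        n + 1 ≤ Set.ncard {z : Projectivization k (Fin 4 → k) | z ∈ Z ∧ z.submodule ≤ W₂} ∧
        2 * n + 3 ≤ Z.card) := by
  by_cases hW : ∃ W : Submodule k (Fin 4 → k), Module.finrank k W = 3 ∧ ∀ z ∈ Z, z.rep ∈ W
  · obtain ⟨W, h3, hWZ⟩ := hW
    refine Or.inl ⟨W, h3, fun z hz => ?_⟩
    rw [Projectivization.submodule_eq, Submodule.span_le, Set.singleton_subset_iff]
    exact hWZ z hz
  push Not at hW
  obtain ⟨W₁, W₂, h₁, h₂, hinf, hcov, S₁, S₂, hS₁, hS₂, hdis, hS₁W, hS₂W, hc₁, hc₂⟩ :=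
    CAlg6.CayleyBach.CB.coplanar_or_skew rfl hn hCB hcard hW
  have hle : ∀ (W : Submodule k (Fin 4 → k)) (z : Projectivization k (Fin 4 → k)),
      z.submodule ≤ W ↔ z.rep ∈ W := fun W z => by
    rw [Projectivization.submodule_eq, Submodule.span_le, Set.singleton_subset_iff, SetLike.mem_coe]
  have hfin : ∀ W : Submodule k (Fin 4 → k),
      {z : Projectivization k (Fin 4 → k) | z ∈ Z ∧ z.submodule ≤ W}.Finite :=
    fun W => Z.finite_toSet.subset fun z hz => hz.1
  refine Or.inr ⟨W₁, W₂, h₁, h₂, hinf, fun z hz => by simpa only [hle] using hcov z hz, ?_, ?_, ?_⟩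
  · refine hc₁.trans ?_
    rw [← Set.ncard_coe_finset]
    exact Set.ncard_le_ncard (fun z hz => ⟨hS₁ hz, (hle _ _).2 (hS₁W z hz)⟩) (hfin W₁)
  · refine (show n + 1 ≤ S₂.card by omega).trans ?_
    rw [← Set.ncard_coe_finset]
    exact Set.ncard_le_ncard (fun z hz => ⟨hS₂ hz, (hle _ _).2 (hS₂W z hz)⟩) (hfin W₂)
  · classical
    have := Finset.card_le_card (Finset.union_subset hS₁ hS₂)
    rw [Finset.card_union_of_disjoint hdis] at this
    omega

end Groth.Agent.S18042
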