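import Groth.Statements.S18063
import Groth.Agent.AlgGrp79.CommSpecial

set_option autoImplicit false
universe u
open CategoryTheory MonoidalCategory CartesianMonoidalCategory MonObj GrpObj AlgebraicGeometry CategoryTheory.Limits
open AlgGrp

namespace Groth.Agent.S18063
open Groth.Agent.AlgGrp79 CategoryTheory.Limits
open scoped commutatorElement

/-- A is a discrete valuation ring, K denotes its field of fractions and k its residue field, and G is
an A-group scheme that is flat, separated and of finite presentation. If the generic fibre G_K is
commutative, then the special fibre G_k is commutative. (The published statement does not require G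
separated over A, and its proof argues by density of the generic fibre; without separatedness the
conclusion fails: gluing copies of Spec A indexed by a finite non-abelian group along their common
generic point gives a flat group scheme of finite presentation over A whose generic fibre is the
trivial group and whose special fibre is that non-abelian constant group. So G is taken separated
here.) -/
theorem result (A : Type u) [CommRing A] [IsDomain A] [IsDiscreteValuationRing A]
    (K : Type u) [Field K] [Algebra A K] [IsFractionRing A K]
    (G : Over (Spec (CommRingCat.of A))) [GrpObj G] [Flat G.hom] [LocallyOfFinitePresentation G.hom] [QuasiCompact G.hom]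
    [IsSeparated G.hom] [IsCommMonObj (Red.bc (Spec.map (CommRingCat.ofHom (algebraMap A K))) G)] :
    IsCommMonObj (Red.bc (Spec.map (CommRingCat.ofHom (algebraMap A (IsLocalRing.ResidueField A)))) G) := by
  let η' := Spec.map (CommRingCat.ofHom (algebraMap A K))
  have : IsDominant η' := by
    refine ⟨?_⟩
    show DenseRange (PrimeSpectrum.comap (algebraMap A K))
    rw [PrimeSpectrum.denseRange_comap_iff_ker_le_nilRadical]
    rw [(RingHom.injective_iff_ker_eq_bot _).1 (IsFractionRing.injective A K)]
    exact bot_le
  have : IsSchemeTheoreticallyDominant η' := .of_isDominant η'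
  have : IsSeparated (fst G G).left := MorphismProperty.pullback_fst (P := @IsSeparated) _ _ inferInstance
  have : Flat (fst G G).left := MorphismProperty.pullback_fst (P := @Flat) _ _ inferInstance
  have : Flat (G ⊗ G).hom := by rw [← Over.w (fst G G)]; infer_instance
  let W : Over (Spec (CommRingCat.of A)) := Over.mk (pullback.snd η' (G ⊗ G).hom ≫ (G ⊗ G).hom)
  let ι' : W ⟶ G ⊗ G := Over.homMk (pullback.snd η' (G ⊗ G).hom) rfl
  have hW : fst G G * snd G G = snd G G * fst G G := by
    ext : 1
    refine eq_of_schemeTheoreticallyDominant G.hom (pullback.snd η' (G ⊗ G).hom) _ _ (by rw [Over.w, Over.w]) ?_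
    let W' : Over (Spec (CommRingCat.of K)) := Over.mk (pullback.fst η' (G ⊗ G).hom)
    let c : (Over.map η').obj W' ⟶ W := Over.homMk (𝟙 _) (by
      show 𝟙 _ ≫ pullback.snd η' (G ⊗ G).hom ≫ (G ⊗ G).hom = pullback.fst η' (G ⊗ G).hom ≫ η'
      rw [Category.id_comp, pullback.condition])
    have hc := congrArg (Groth.Agent.RedPts82.toBase η') (IsMulCommutative.is_comm (M := W' ⟶ Red.bc η' G)
      (self := (isCommMonObj_iff_isMulCommutative _).1 ‹_› W') |>.comm (Groth.Agent.RedPts82.ofBase η' (c ≫ ι' ≫ fst G G)) (Groth.Agent.RedPts82.ofBase η' (c ≫ ι' ≫ snd G G)))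
    rw [Groth.Agent.RedPts82.toBase_mul, Groth.Agent.RedPts82.toBase_mul, Groth.Agent.RedPts82.toBase_ofBase, Groth.Agent.RedPts82.toBase_ofBase, ← MonObj.comp_mul, ← MonObj.comp_mul,
      ← MonObj.comp_mul, ← MonObj.comp_mul] at hc
    have h2 : (c ≫ ι' ≫ (fst G G * snd G G)).left = (c ≫ ι' ≫ (snd G G * fst G G)).left := congrArg CommaMorphism.left hc
    simpa [c, ι'] using h2
  refine (isCommMonObj_iff_isMulCommutative _).2 fun X => ⟨⟨fun x y => ?_⟩⟩
  apply Groth.Agent.RedPts82.toBase_injective
  rw [Groth.Agent.RedPts82.toBase_mul, Groth.Agent.RedPts82.toBase_mul]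
  have := congrArg (fun t => lift (Groth.Agent.RedPts82.toBase _ x) (Groth.Agent.RedPts82.toBase _ y) ≫ t) hW
  simp only [MonObj.comp_mul, lift_fst, lift_snd] at this
  exact this
end Groth.Agent.S18063
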