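import Groth.Statements.S18065
import Groth.Agent.AlgGrp33.AffFlat
-- import your own Groth.Agent.* helpers here

set_option autoImplicit false
universe u
open CategoryTheory MonoidalCategory CartesianMonoidalCategory MonObj GrpObj AlgebraicGeometry CategoryTheory.Limits
open AlgGrp

namespace Groth.Agent.S18065

/-- Suppose A is a discrete valuation ring, and write K for its field of fractions and k for its residue
field; let G be a flat A-group scheme of finite presentation, not assumed separated. If the generic
fibre G_K is affine, then the special fibre G_k is affine. -/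
theorem result (A : Type u) [CommRing A] [IsDomain A] [IsDiscreteValuationRing A]
    (K : Type u) [Field K] [Algebra A K] [IsFractionRing A K]
    (G : Over (Spec (CommRingCat.of A))) [GrpObj G] [Flat G.hom] [LocallyOfFinitePresentation G.hom] [QuasiCompact G.hom]
    [IsAffine (Red.bc (Spec.map (CommRingCat.ofHom (algebraMap A K))) G).left] :
    IsAffine (Red.bc (Spec.map (CommRingCat.ofHom (algebraMap A (IsLocalRing.ResidueField A)))) G).left := by
  let L := AlgebraicClosure K
  let k := IsLocalRing.ResidueField A
  let K' := AlgebraicClosure k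
  let θ : A →+* L := (algebraMap K L).comp (algebraMap A K)
  have hθ : Function.Injective θ := (algebraMap K L).injective.comp (IsFractionRing.injective A K)
  let e₀ : A ≃+* θ.range := RingEquiv.ofBijective θ.rangeRestrict
    ⟨fun a b hab => hθ (congrArg Subtype.val hab), θ.rangeRestrict_surjective⟩
  obtain ⟨V, ψ, hV, hψr, hker⟩ := AlgGrp33.Place.exists_valuationSubring θ.range
    (((algebraMap k K').comp (IsLocalRing.residue A)).comp e₀.symm.toRingHom)
  let u : A →+* V := (Subring.inclusion hV).comp θ.rangeRestrict
  have hu : ∀ a, ψ (u a) = algebraMap k K' (IsLocalRing.residue A a) := fun a =>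
    (hψr _).trans (congrArg (fun b => algebraMap k K' (IsLocalRing.residue A b)) (e₀.symm_apply_apply a))
  have hsurj : Function.Surjective ψ := by
    refine AlgGrp33.Place.surjective_of_isAlgebraic V ψ hker (F := k) ?_
    rintro _ ⟨c, rfl⟩
    obtain ⟨a, rfl⟩ := IsLocalRing.residue_surjective c
    exact ⟨u a, hu a⟩
  letI : Algebra V K' := ψ.toAlgebra
  let t : Spec (CommRingCat.of V) ⟶ Spec (CommRingCat.of A) := Spec.map (CommRingCat.ofHom u)
  let tK : Spec (CommRingCat.of K) ⟶ Spec (CommRingCat.of A) := Spec.map (CommRingCat.ofHom (algebraMap A K))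
  let tk : Spec (CommRingCat.of k) ⟶ Spec (CommRingCat.of A) := Spec.map (CommRingCat.ofHom (algebraMap A k))
  let aL : Spec (CommRingCat.of L) ⟶ Spec (CommRingCat.of K) := Spec.map (CommRingCat.ofHom (algebraMap K L))
  let ak : Spec (CommRingCat.of K') ⟶ Spec (CommRingCat.of k) := Spec.map (CommRingCat.ofHom (algebraMap k K'))
  have hL : AlgGrp33.SpecPts.sp V L ≫ t = aL ≫ tK := by
    rw [← Spec.map_comp, ← Spec.map_comp, ← CommRingCat.ofHom_comp, ← CommRingCat.ofHom_comp]
    rfl
  have hk : AlgGrp33.SpecPts.sp V K' ≫ t = ak ≫ tk := by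
    rw [← Spec.map_comp, ← Spec.map_comp, ← CommRingCat.ofHom_comp, ← CommRingCat.ofHom_comp,
      show (algebraMap V K').comp u = (algebraMap k K').comp (algebraMap A k) from RingHom.ext hu]
  have : IsAffine (pullback G.hom tK) := ‹IsAffine (Red.bc (Spec.map (CommRingCat.ofHom (algebraMap A K))) G).left›
  have : IsAffine (pullback (pullback.snd G.hom tK) aL) := inferInstance
  have : IsAffine (Red.bc (AlgGrp33.SpecPts.sp V L ≫ t) G).left := by
    rw [hL]
    exact IsAffine.of_isIso (pullbackLeftPullbackSndIso G.hom tK aL).inv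
  have h := AlgGrp33.AffFlat.isAffine_special (L := L) (K := K') hsurj t G
  rw [hk] at h
  have : IsAffine (pullback G.hom (ak ≫ tk)) := h
  have : IsAffine (pullback (pullback.snd G.hom tk) ak) := IsAffine.of_isIso (pullbackLeftPullbackSndIso G.hom tk ak).hom
  have hflat : Flat ak := by
    rw [HasRingHomProperty.Spec_iff (P := @Flat)]
    exact RingHom.flat_algebraMap_iff.2 (inferInstance : Module.Flat k _)
  have hs : Surjective ak := ⟨fun _ => ⟨IsLocalRing.closedPoint _, Subsingleton.elim (α := PrimeSpectrum k) _ _⟩⟩
  have := Unr55.isAffineHom.{u}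
  have : IsAffineHom (pullback.snd G.hom tk) :=
    MorphismProperty.of_pullback_snd_of_descendsAlong (P := @IsAffineHom) (Q := Unr55.fpqc)
      ⟨⟨hs, hflat⟩, inferInstance⟩ (isAffineHom_of_isAffine (pullback.snd (pullback.snd G.hom tk) ak))
  exact isAffine_of_isAffineHom (pullback.snd G.hom tk)

end Groth.Agent.S18065
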