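import Groth.Statements.S18068
import Groth.Agent.AlgGrp79.AntiAffine
import Groth.Agent.AlgGrp79.Homogeneous
import Groth.Agent.AlgGrp79.SepDense
import Groth.Agent.AGF80.NormalInv
import Groth.Agent.S0348
-- import your own Groth.Agent.* helpers here

set_option autoImplicit false
universe u
open CategoryTheory MonoidalCategory CartesianMonoidalCategory MonObj GrpObj AlgebraicGeometry CategoryTheory.Limits
open AlgGrp

namespace Groth.Agent.S18068

open Groth.Agent in
theorem antiAff_of_isogeny {k : Type u} [Field k] {G H : Over (Spec (CommRingCat.of k))} [GrpObj G] [Smooth G.hom]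
    [ConnectedSpace ↥G.left] [GrpObj H] [Smooth H.hom] [ConnectedSpace ↥H.left] (f : G ⟶ H) [Surjective f.left]
    [IsFinite f.left] (hH : AlgGrp79.AntiAff H) : AlgGrp79.AntiAff G := by
  haveI := AlgGrp79.isReduced_of_smooth G.hom
  haveI := AlgGrp79.isReduced_of_smooth H.hom
  haveI : IrreducibleSpace G.left := S0348.result k G
  haveI : IrreducibleSpace H.left := S0348.result k H
  haveI : AlgebraicGeometry.IsIntegral G.left := isIntegral_of_irreducibleSpace_of_isReduced _
  haveI : AlgebraicGeometry.IsIntegral H.left := isIntegral_of_irreducibleSpace_of_isReduced _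
  have hgen : f.left.base (genericPoint G.left) = genericPoint H.left := by
    refine ((genericPoint_spec G.left).image f.left.base.hom.continuous).eq ?_
    rw [Set.image_univ, f.left.surjective.range_eq, closure_univ]
    exact genericPoint_spec H.left
  let jm : H.left.functionField ⟶ G.left.functionField :=
    H.left.presheaf.stalkSpecializes (specializes_of_eq hgen) ≫ f.left.stalkMap (genericPoint G.left)
  refine ⟨AlgGrp79.const_injective η[G], fun b => ?_⟩
  let cG := ((Scheme.ΓSpecIso (CommRingCat.of k)).inv ≫ G.hom.appTop).hom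
  let cH := ((Scheme.ΓSpecIso (CommRingCat.of k)).inv ≫ H.hom.appTop).hom
  let gG := (G.left.presheaf.germ ⊤ (genericPoint G.left) trivial).hom
  let gH := (H.left.presheaf.germ ⊤ (genericPoint H.left) trivial).hom
  have hjm : ∀ (V : H.left.Opens) (hV : genericPoint H.left ∈ V) (c : Γ(H.left, V)),
      jm.hom (H.left.presheaf.germ V _ hV c) =
        G.left.presheaf.germ (f.left ⁻¹ᵁ V) (genericPoint G.left) (hgen.symm ▸ hV : f.left.base _ ∈ V) (f.left.app V c) := by
    intro V hV c
    show f.left.stalkMap _ (H.left.presheaf.stalkSpecializes _ (H.left.presheaf.germ V _ hV c)) = _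
    erw [TopCat.Presheaf.germ_stalkSpecializes_apply]
    exact Scheme.Hom.germ_stalkMap_apply f.left V _ _ c
  letI : Algebra H.left.functionField G.left.functionField := jm.hom.toAlgebra
  have key : ∀ (V : H.left.Opens) (hV : IsAffineOpen V) (hg : genericPoint H.left ∈ V),
      IsIntegral H.left.functionField (gG b) ∧ ∀ i, (minpoly H.left.functionField (gG b)).coeff i ∈
        Set.range (H.left.presheaf.germ V (genericPoint H.left) hg) := by
    intro V hV hg
    haveI : Nonempty ↥(V : Scheme.{u}) := ⟨⟨_, hg⟩⟩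
    haveI : IsAffine (V : Scheme.{u}) := hV
    haveI : IsIntegrallyClosed Γ(H.left, V) := by
      have h := AGF80.NormalInv.isIntegrallyClosed_sections (X := (V : Scheme.{u})) (V.ι ≫ H.hom)
      exact IsIntegrallyClosed.of_equiv V.topIso.commRingCatIsoToRingEquiv
    haveI := functionField_isFractionRing_of_isAffineOpen H.left V hV
    let gD := (G.left.presheaf.germ (f.left ⁻¹ᵁ V) (genericPoint G.left) (hgen.symm ▸ hg : f.left.base _ ∈ V)).hom
    letI : Algebra Γ(H.left, V) G.left.functionField := (gD.comp (f.left.app V).hom).toAlgebra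
    haveI : IsScalarTower Γ(H.left, V) H.left.functionField G.left.functionField :=
      IsScalarTower.of_algebraMap_eq fun c => (hjm V hg c).symm
    have hint : IsIntegral Γ(H.left, V) (gG b) := by
      letI : Algebra Γ(H.left, V) Γ(G.left, f.left ⁻¹ᵁ V) := (f.left.app V).hom.toAlgebra
      haveI : Module.Finite Γ(H.left, V) Γ(G.left, f.left ⁻¹ᵁ V) := IsFinite.finite_app (f := f.left) V hV
      have h1 : IsIntegral Γ(H.left, V) ((G.left.presheaf.map (homOfLE le_top).op) b : Γ(G.left, f.left ⁻¹ᵁ V)) :=
        Algebra.IsIntegral.isIntegral _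
      let φ : Γ(G.left, f.left ⁻¹ᵁ V) →ₐ[Γ(H.left, V)] G.left.functionField :=
        { gD with commutes' := fun _ => rfl }
      have h2 := h1.map φ
      convert h2 using 1
      exact (TopCat.Presheaf.germ_res_apply G.left.presheaf (homOfLE le_top) _ (hgen.symm ▸ hg : f.left.base _ ∈ V) b).symm
    haveI : FaithfulSMul Γ(H.left, V) H.left.functionField :=
      (faithfulSMul_iff_algebraMap_injective _ _).2 (IsFractionRing.injective _ _)
    refine ⟨hint.tower_top, fun i => ?_⟩
    rw [minpoly.isIntegrallyClosed_eq_field_fractions' H.left.functionField hint, Polynomial.coeff_map]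
    exact ⟨_, rfl⟩
  obtain ⟨_, ⟨V₀, hV₀, rfl⟩, hg₀, -⟩ :=
    H.left.isBasis_affineOpens.exists_subset_of_mem_open (Set.mem_univ (genericPoint H.left)) isOpen_univ
  have hint := (key V₀ hV₀ hg₀).1
  have hcoef : ∀ i, ∃ c : k, gH (cH c) = (minpoly H.left.functionField (gG b)).coeff i := by
    intro i
    let W := {V : H.left.affineOpens // genericPoint H.left ∈ V.1}
    choose sV hsV using fun V : W => (key V.1.1 V.1.2 V.2).2 i
    have hcov : iSup (fun V : W => V.1.1) = ⊤ := by
      refine eq_top_iff.2 fun x _ => ?_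
      obtain ⟨_, ⟨U, hU, rfl⟩, hxU, -⟩ :=
        H.left.isBasis_affineOpens.exists_subset_of_mem_open (Set.mem_univ x) isOpen_univ
      exact TopologicalSpace.Opens.mem_iSup.2 ⟨⟨⟨U, hU⟩,
        (genericPoint_spec H.left).mem_open_set_iff U.isOpen |>.2 ⟨x, trivial, hxU⟩⟩, hxU⟩
    have hcompat : TopCat.Presheaf.IsCompatible H.left.sheaf.obj (fun V : W => V.1.1) sV := by
      intro V V'
      refine germ_injective_of_isIntegral H.left (genericPoint H.left) (U := V.1.1 ⊓ V'.1.1) ⟨V.2, V'.2⟩ ?_
      erw [TopCat.Presheaf.germ_res_apply, TopCat.Presheaf.germ_res_apply]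
      exact (hsV V).trans (hsV V').symm
    obtain ⟨s, hs, -⟩ := H.left.sheaf.existsUnique_gluing' (fun V : W => V.1.1) ⊤
      (fun V => homOfLE le_top) hcov.ge sV hcompat
    obtain ⟨c, rfl⟩ := hH.2 s
    refine ⟨c, ?_⟩
    rw [← hsV ⟨⟨V₀, hV₀⟩, hg₀⟩, ← hs ⟨⟨V₀, hV₀⟩, hg₀⟩]
    exact (TopCat.Presheaf.germ_res_apply H.left.presheaf (homOfLE le_top) _ hg₀ _).symm
  letI : Algebra k G.left.functionField := (gG.comp cG).toAlgebra
  have hck : ∀ c, jm.hom (gH (cH c)) = gG (cG c) := by
    intro c
    refine (hjm ⊤ trivial _).trans ?_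
    exact congrArg gG (congrArg (fun q => q.hom c) (AlgGrp79.const_comp f))
  obtain ⟨Q, hQ, hQd, hQm⟩ := Polynomial.lifts_and_degree_eq_and_monic
    ((Polynomial.lifts_iff_coeff_lifts (f := gH.comp cH) _).2 fun i => (hcoef i)) (minpoly.monic hint)
  have hQ0 : Polynomial.eval₂ (gG.comp cG) (gG b) Q = 0 := by
    have h := minpoly.aeval H.left.functionField (gG b)
    rw [← hQ, Polynomial.aeval_def, Polynomial.eval₂_map] at h
    rw [show gG.comp cG = (algebraMap H.left.functionField G.left.functionField).comp (gH.comp cH) from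
      RingHom.ext fun c => (hck c).symm]
    exact h
  have hgG : Function.Injective gG := germ_injective_of_isIntegral G.left (genericPoint G.left) (U := ⊤) trivial
  haveI : Nonempty ↥((⊤ : G.left.Opens) : Scheme.{u}) := ⟨⟨genericPoint G.left, trivial⟩⟩
  haveI : IsDomain Γ(G.left, ⊤) := inferInstance
  letI : Algebra k Γ(G.left, ⊤) := cG.toAlgebra
  have hb : IsIntegral k b := ⟨Q, hQm, hgG (by rw [Polynomial.hom_eval₂, map_zero]; exact hQ0)⟩
  obtain ⟨e₀, he₀⟩ : ∃ e₀ : Γ(G.left, ⊤) →ₐ[k] k, True := by
    refine ⟨{ (Scheme.ΓSpecIso (CommRingCat.of k)).hom.hom.comp η[G].left.appTop.hom with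
      commutes' := fun c => ?_ }, trivial⟩
    have h := congrArg (fun q => q.hom c) (AlgGrp79.const_comp η[G])
    refine (congrArg (Scheme.ΓSpecIso (CommRingCat.of k)).hom.hom h).trans ?_
    show (Scheme.ΓSpecIso (CommRingCat.of k)).hom.hom ((Scheme.Hom.appTop (𝟙 (Spec (CommRingCat.of k))))
      ((Scheme.ΓSpecIso (CommRingCat.of k)).inv c)) = c
    exact (Scheme.ΓSpecIso (CommRingCat.of k)).commRingCatIsoToRingEquiv.apply_symm_apply c
  refine ⟨e₀ b, ?_⟩
  have hfld : IsField (Algebra.adjoin k ({b} : Set Γ(G.left, ⊤))) := by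
    haveI := Algebra.IsIntegral.adjoin (R := k) (S := {b}) (fun x hx => hx ▸ hb)
    exact isField_of_isIntegral_of_isField' (Field.toIsField k)
  letI := hfld.toField
  have h1 : (⟨cG (e₀ b), Subalgebra.algebraMap_mem _ _⟩ : Algebra.adjoin k ({b} : Set Γ(G.left, ⊤))) =
      ⟨b, Algebra.self_mem_adjoin_singleton k b⟩ := by
    refine ((e₀.comp (Algebra.adjoin k ({b} : Set Γ(G.left, ⊤))).val).toRingHom).injective ?_
    exact e₀.commutes (e₀ b)
  exact congrArg Subtype.val h1

/-- Let k be a field and f : G → H an isogeny (a surjective homomorphism with finite kernel, i.e.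
surjective and finite) of connected commutative algebraic groups over k. Then G is anti-affine (O(G)
= k) if and only if H is anti-affine. -/
theorem result (k : Type u) [Field k]
    (G H : Over (Spec (CommRingCat.of k))) [GrpObj G] [Smooth G.hom] [QuasiCompact G.hom] [ConnectedSpace ↥G.left] [IsCommMonObj G]
    [GrpObj H] [Smooth H.hom] [QuasiCompact H.hom] [ConnectedSpace ↥H.left] [IsCommMonObj H]
    (f : G ⟶ H) [IsMonHom f] [Surjective f.left] [IsFinite f.left] :
    Function.Bijective ((Scheme.ΓSpecIso (CommRingCat.of k)).inv ≫ G.hom.appTop).hom ↔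
      Function.Bijective ((Scheme.ΓSpecIso (CommRingCat.of k)).inv ≫ H.hom.appTop).hom := by
  haveI : Surjective f.left := inferInstance
  refine ⟨fun hG => ?_, antiAff_of_isogeny f⟩
  haveI := Groth.Agent.AlgGrp79.isReduced_of_smooth H.hom
  haveI := Groth.Agent.AlgGrp79.flat_of_surjective_hom f
  haveI : Epi f.left := Flat.epi_of_flat_of_surjective f.left
  exact Groth.Agent.AlgGrp79.antiAff_of_surjective_comp f hG (Groth.Agent.AlgGrp79.appTop_injective_of_epi f.left)

end Groth.Agent.S18068
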