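import Groth.Statements.S18072
import Groth.Agent.AlgGrp33.IsogSub
-- import your own Groth.Agent.* helpers here

set_option autoImplicit false
universe u
open CategoryTheory MonoidalCategory CartesianMonoidalCategory MonObj GrpObj AlgebraicGeometry CategoryTheory.Limits
open AlgGrp

namespace Groth.Agent.S18072

/-- Let F be a field and f : G → H an isogeny between affine smooth connected F-groups (a surjective
homomorphism with finite kernel, i.e. surjective and finite). Then each of the properties unipotent,
solvable, nilpotent and commutative holds for G exactly when it holds for H; here unipotence is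
expressed as: the base change to an algebraic closure contains no non-trivial subtorus, solvable and
nilpotent through the derived and upper central series of the groups of points. -/
theorem result (F : Type u) [Field F]
    (G H : Over (Spec (CommRingCat.of F))) [GrpObj G] [Smooth G.hom] [QuasiCompact G.hom] [IsAffine G.left] [ConnectedSpace ↥G.left]
    [GrpObj H] [Smooth H.hom] [QuasiCompact H.hom] [IsAffine H.left] [ConnectedSpace ↥H.left]
    (f : G ⟶ H) [IsMonHom f] [Surjective f.left] [IsFinite f.left] :
    (Red.HasNoSubtorus (AlgebraicClosure F) (Red.bc (Spec.map (CommRingCat.ofHom (algebraMap F (AlgebraicClosure F)))) G) ↔ Red.HasNoSubtorus (AlgebraicClosure F) (Red.bc (Spec.map (CommRingCat.ofHom (algebraMap F (AlgebraicClosure F)))) H)) ∧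
    (Red.IsSolvableGrp G ↔ Red.IsSolvableGrp H) ∧ (AGF.IsNilpotentGrp G ↔ AGF.IsNilpotentGrp H) ∧
    (IsCommMonObj G ↔ IsCommMonObj H) := by
  let t := Spec.map (CommRingCat.ofHom (algebraMap F (AlgebraicClosure F)))
  obtain ⟨_, _⟩ := AlgGrp33.IsogSub.bc_props t f
  have : LocallyOfFiniteType (Red.bc t G).hom := inferInstanceAs (LocallyOfFiniteType (pullback.snd G.hom t))
  have : QuasiCompact (Red.bc t G).hom := inferInstanceAs (QuasiCompact (pullback.snd G.hom t))
  have : LocallyOfFiniteType (Red.bc t H).hom := inferInstanceAs (LocallyOfFiniteType (pullback.snd H.hom t))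
  have : QuasiCompact (Red.bc t H).hom := inferInstanceAs (QuasiCompact (pullback.snd H.hom t))
  have := AlgGrp33.IsogSub.geometricallyIntegral_of_smooth G
  have := AlgGrp33.IsogSub.geometricallyIntegral_of_smooth H
  refine ⟨AlgGrp33.IsogSub.hasNoSubtorus_iff ((Over.pullback t).map f),
    ⟨AlgGrp33.IsogWords.solvable_of_surjective f, AlgGrp33.IsogWords.solvable_of_finite f⟩,
    ⟨AlgGrp33.IsogWords.nilpotent_of_surjective f, AlgGrp33.IsogWords.nilpotent_of_finite f⟩,
    fun _ => AlgGrp33.IsogSub.isCommMonObj_of_pts fun a b =>
      AlgGrp33.IsogWords.comm_of_surjective f (fun c d => _root_.mul_comm c d) a b,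
    fun _ => AlgGrp33.IsogSub.isCommMonObj_of_pts fun a b =>
      AlgGrp33.IsogWords.comm_of_finite f (fun c d => _root_.mul_comm c d) a b⟩

end Groth.Agent.S18072
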