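import Groth.Statements.S18074
import Groth.Agent.AlgGrp33.AffineProper
import Groth.Agent.AlgGrp79.GLFrame
import Groth.Agent.AlgGrp79.AffineKernelHom
import Groth.Agent.S4362
-- import your own Groth.Agent.* helpers here

set_option autoImplicit false
universe u
open CategoryTheory MonoidalCategory CartesianMonoidalCategory MonObj GrpObj AlgebraicGeometry CategoryTheory.Limits
open AlgGrp

namespace Groth.Agent.S18074

open CategoryTheory MonoidalCategory CartesianMonoidalCategory MonObj AlgebraicGeometry CategoryTheory.Limits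
open Groth.Agent.AlgGrp79

variable {k : Type u} [Field k]

lemma lft_GLZ (n : ℕ) : LocallyOfFiniteType (FrB.GLZ.{u} n).hom := by
  show LocallyOfFiniteType (Spec.map (CommRingCat.ofHom (algebraMap (ULift.{u} ℤ) (CoordGrp.GLn n (ULift.{u} ℤ)))))
  rw [HasRingHomProperty.Spec_iff (P := @LocallyOfFiniteType)]
  have : Algebra.FiniteType (ULift.{u} ℤ) (CoordGrp.GLn n (ULift.{u} ℤ)) := by
    have : Algebra.FiniteType (ULift.{u} ℤ) (CoordGrp.GLb n (ULift.{u} ℤ)) :=
      inferInstanceAs (Algebra.FiniteType (ULift.{u} ℤ) (MvPolynomial (CoordGrp.GLPoly.Idx n) (ULift.{u} ℤ)))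
    exact Algebra.FiniteType.of_surjective (CoordGrp.GLn.mk n (ULift.{u} ℤ)) Ideal.Quotient.mk_surjective
  exact RingHom.finiteType_algebraMap.2 this

lemma isIso_hom_of_antiAff_affine {H : Over (Spec (CommRingCat.of k))} [IsAffine H.left]
    (hH : Function.Bijective ((Scheme.ΓSpecIso (CommRingCat.of k)).inv ≫ H.hom.appTop).hom) : Red.IsTrivialGrp H := by
  have : IsIso ((Scheme.ΓSpecIso (CommRingCat.of k)).inv ≫ H.hom.appTop) :=
    (ConcreteCategory.isIso_iff_bijective _).2 hH
  have h : IsIso H.hom.appTop := IsIso.of_isIso_comp_left (Scheme.ΓSpecIso (CommRingCat.of k)).inv _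
  have e : H.hom = H.left.isoSpec.hom ≫ Spec.map H.hom.appTop ≫ (Spec (CommRingCat.of k)).isoSpec.inv := by
    rw [Scheme.isoSpec_hom_naturality_assoc, Iso.hom_inv_id, Category.comp_id]
  show IsIso H.hom
  rw [e]
  infer_instance

/-- a non-affine group all whose proper closed subgroups are affine is anti-affine -/
lemma antiAff_of_minimal {G : Over (Spec (CommRingCat.of k))} [GrpObj G] [LocallyOfFiniteType G.hom] [QuasiCompact G.hom]
    (hG : ¬ IsAffine G.left) (hH : ∀ (H : Over (Spec (CommRingCat.of k))) [GrpObj H] (h : H ⟶ G) [IsMonHom h]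
      [IsClosedImmersion h.left], ¬ IsIso h → IsAffine H.left) :
    Function.Bijective ((Scheme.ΓSpecIso (CommRingCat.of k)).inv ≫ G.hom.appTop).hom := by
  refine (antiAff_iff_hom_GLn G).2 fun n ρ hρ => ?_
  have hGL : IsAffine (FrB.GLn n (Spec (CommRingCat.of k))).left := by
    have : IsAffine (FrB.GLZ.{u} n).left := inferInstanceAs (IsAffine (Spec _))
    show IsAffine (pullback (FrB.GLZ n).hom _)
    infer_instance
  obtain ⟨K, _, i, _, _, hker, -⟩ := AlgGrp33.AffineProper.exists_kernel ρ
  by_cases hi : IsIso i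
  · rw [← cancel_epi i, hker.w, one_def', comp_toUnit_assoc]
  · exfalso
    have := hH K i hi
    have hKa : IsAffineHom K.hom := inferInstance
    have : LocallyOfFiniteType (FrB.GLn n (Spec (CommRingCat.of k))).hom := by
      have : LocallyOfFiniteType (FrB.GLZ.{u} n).hom := lft_GLZ n
      exact inferInstanceAs (LocallyOfFiniteType (pullback.snd (FrB.GLZ.{u} n).hom _))
    have : IsAffineHom ρ.left := isAffineHom_hom_of_affine_kernel ρ i hker hKa
    exact hG (isAffine_of_isAffineHom ρ.left)

/-- Let k be a field and G a non-trivial k-group scheme of finite type. Then G is non-affine with every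
closed subgroup scheme H ≠ G affine if and only if G is anti-affine and every anti-affine closed
subgroup scheme H ≠ G of G is trivial. -/
theorem result (k : Type u) [Field k]
    (G : Over (Spec (CommRingCat.of k))) [GrpObj G] [LocallyOfFiniteType G.hom] [QuasiCompact G.hom] (hG : ¬ Red.IsTrivialGrp G) :
    (¬ IsAffine G.left ∧ ∀ (H : Over (Spec (CommRingCat.of k))) [GrpObj H] (h : H ⟶ G) [IsMonHom h] [IsClosedImmersion h.left], ¬ IsIso h → IsAffine H.left) ↔
    (Function.Bijective ((Scheme.ΓSpecIso (CommRingCat.of k)).inv ≫ G.hom.appTop).hom ∧ ∀ (H : Over (Spec (CommRingCat.of k))) [GrpObj H] (h : H ⟶ G) [IsMonHom h] [IsClosedImmersion h.left], ¬ IsIso h → Function.Bijective ((Scheme.ΓSpecIso (CommRingCat.of k)).inv ≫ H.hom.appTop).hom → Red.IsTrivialGrp H) := by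
  have := isSeparated_grp G
  have : IsLocallyNoetherian G.left := LocallyOfFiniteType.isLocallyNoetherian G.hom
  have : CompactSpace G.left := QuasiCompact.compactSpace_of_compactSpace G.hom
  have : AlgebraicGeometry.IsNoetherian G.left := {}
  constructor
  · rintro ⟨hna, hsub⟩
    refine ⟨antiAff_of_minimal hna hsub, fun H _ h _ _ hh hHa => ?_⟩
    have := hsub H h hh
    exact isIso_hom_of_antiAff_affine hHa
  · rintro ⟨haa, hsub⟩
    refine ⟨fun hA => hG (isIso_hom_of_antiAff_affine haa), fun H _ h _ _ hh => ?_⟩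
    by_contra hHna
    have := S4362.result G.left
    let P : Set G.left.IdealSheafData := {I | ∃ (K : Over (Spec (CommRingCat.of k))) (_ : GrpObj K) (j : K ⟶ G),
      IsMonHom j ∧ IsClosedImmersion j.left ∧ ¬ IsAffine K.left ∧ (∃ g : K ⟶ H, g ≫ h = j) ∧ j.left.ker = I}
    have hP : h.left.ker ∈ P := ⟨H, ‹_›, h, ‹_›, ‹_›, hHna, ⟨𝟙 H, Category.id_comp h⟩, rfl⟩
    obtain ⟨I, ⟨K, _, j, hjm, hjc, hKna, ⟨g, hg⟩, hI⟩, hmax⟩ := WellFounded.has_min wellFounded_gt P ⟨_, hP⟩
    have : LocallyOfFiniteType K.hom := by rw [← Over.w j]; infer_instance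
    have : QuasiCompact K.hom := by rw [← Over.w j]; infer_instance
    have := Over.mono_of_mono_left h
    have hKaa := antiAff_of_minimal hKna fun K' _ j' _ _ hj' => by
      by_contra hK'
      have hcc : IsClosedImmersion (j' ≫ j).left := inferInstanceAs (IsClosedImmersion (j'.left ≫ j.left))
      have hle : j.left.ker ≤ (j' ≫ j).left.ker := Scheme.Hom.le_ker_comp j'.left j.left
      have heq : (j' ≫ j).left.ker = j.left.ker := by
        by_contra hne
        exact hmax _ ⟨K', ‹_›, j' ≫ j, inferInstance, hcc, hK', ⟨j' ≫ g, by rw [Category.assoc, hg]⟩, rfl⟩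
          (hI ▸ lt_of_le_of_ne hle (Ne.symm hne))
      let s := IsClosedImmersion.lift (j' ≫ j).left j.left heq.le
      have hs : s ≫ j'.left = 𝟙 K.left := by
        rw [← cancel_mono j.left, Category.assoc, ← Over.comp_left, IsClosedImmersion.lift_fac, Category.id_comp]
      have : IsSplitEpi j'.left := ⟨⟨s, hs⟩⟩
      have : IsIso j'.left := isIso_of_mono_of_isSplitEpi _
      exact hj' (by
        have : IsIso ((Over.forget _).map j') := ‹IsIso j'.left›
        exact isIso_of_reflects_iso j' (Over.forget _))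
    have hjnot : ¬ IsIso j := fun hj => by
      have : IsSplitEpi h := ⟨⟨inv j ≫ g, by rw [Category.assoc, hg, IsIso.inv_hom_id]⟩⟩
      exact hh (isIso_of_mono_of_isSplitEpi h)
    have hKtriv : Red.IsTrivialGrp K := hsub K j hjnot hKaa
    apply hKna
    have : IsIso K.hom := hKtriv
    exact .of_isIso K.hom

end Groth.Agent.S18074
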