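import Groth.Statements.S1809
import Groth.Agent.DR39.CMLocusSch

set_option autoImplicit false
universe u
open CategoryTheory CategoryTheory.Limits AlgebraicGeometry
attribute [local instance] HasDerivedCategory.standard
open Dual

namespace Groth.Agent.S1809

/-- Let X be a locally Noetherian scheme and ω a dualizing complex on X (affine-locally the derived
tilde of a dualizing complex of the ring; exactness of restriction of module sheaves to opens and of
M ↦ M~ is assumed through instance binders). Then for every point x the local ring O_{X,x} is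
Cohen–Macaulay if and only if exactly one cohomology sheaf of ω has nonzero stalk at x; and the set
of points whose local ring is Cohen–Macaulay is open. -/
theorem result (X : Scheme.{u}) [IsLocallyNoetherian X] [∀ (U : Scheme.{u}) (j : U ⟶ X) [IsOpenImmersion j], PreservesFiniteLimits (Scheme.Modules.restrictFunctor j)] [∀ (R : CommRingCat.{u}), PreservesFiniteLimits (tilde.functor R)] (ω : DCoh.D X) (hω : Dual2.IsDualizingSch X ω) : (∀ x : X, LocCoh.IsCohenMacaulayLocalRing (X.presheaf.stalk x) ↔ ∃! i : ℤ, Nontrivial ((DCoh.HD ω i).presheaf.stalk x)) ∧ IsOpen {x : X | LocCoh.IsCohenMacaulayLocalRing (X.presheaf.stalk x)} := by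
  have key : ∀ x : X, ∃ (A : Type u) (_ : CommRing A) (j : Spec (CommRingCat.of A) ⟶ X)
      (_ : IsOpenImmersion j), x ∈ Set.range j := fun x => by
    obtain ⟨U, hU, hxU, -⟩ := exists_isAffineOpen_mem_and_subset (X := X) (x := x) (U := ⊤) trivial
    refine ⟨Γ(X, U), inferInstance, hU.fromSpec, inferInstanceAs (IsOpenImmersion hU.fromSpec), ?_⟩
    rw [hU.range_fromSpec]
    exact hxU
  refine ⟨fun x => ?_, isOpen_iff_forall_mem_open.2 fun x hx => ?_⟩
  · obtain ⟨A, _, j, _, y, rfl⟩ := key x
    obtain ⟨w, hw, ⟨e⟩⟩ := hω A j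
    rw [DR39.cm_stalk_iff ω A j y, DR39.cm_atPrime_iff_existsUnique hw y]
    exact existsUnique_congr fun i => (DR39.nontrivial_stalk_HD_iff ω A j w e y i).symm
  · obtain ⟨A, _, j, _, y, rfl⟩ := key x
    obtain ⟨w, hw, -⟩ := hω A j
    refine ⟨j '' {p : PrimeSpectrum A | LocCoh.IsCohenMacaulayLocalRing (Localization.AtPrime p.asIdeal)}, ?_,
      j.isOpenEmbedding.isOpenMap _ (DR39.isOpen_cm_ring hw), ⟨y, (DR39.cm_stalk_iff ω A j y).1 hx, rfl⟩⟩
    rintro _ ⟨p, hp, rfl⟩
    exact (DR39.cm_stalk_iff ω A j p).2 hp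

end Groth.Agent.S1809
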