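import Groth.Statements.S18097
import Groth.Agent.AlgGrp33.SpecStep
import Groth.Agent.Grpd80.DimStab
import Groth.Agent.AlgGrp33.WordSpec
-- import your own Groth.Agent.* helpers here

set_option autoImplicit false
universe u
open CategoryTheory MonoidalCategory CartesianMonoidalCategory MonObj GrpObj AlgebraicGeometry CategoryTheory.Limits
open AlgGrp

namespace Groth.Agent.S18097

open Groth.Agent.AlgGrp79 Groth.Agent.AlgGrp33 in
theorem fst_isMonHom {S : Scheme.{u}} (G : Over S) [GrpObj G] (t : S ⟶ S) (ht : t = 𝟙 S) :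
    IsMonHom (Over.homMk (pullback.fst G.hom t) (by rw [pullback.condition, ht, Category.comp_id]; rfl) : Red.bc t G ⟶ G) := by
  subst ht
  refine isMonHom_of_forall _ fun T g h => ?_
  have key : ∀ p : T ⟶ Red.bc (𝟙 S) G, p ≫ (Over.homMk (pullback.fst G.hom (𝟙 S)) (by rw [pullback.condition, Category.comp_id]; rfl) : Red.bc (𝟙 S) G ⟶ G) =
      (Over.homMk (𝟙 T.left) (by simp) : T ⟶ Over.mk (T.hom ≫ 𝟙 S)) ≫ (SpecPts.toPt (𝟙 S) G T).symm p := fun p => by
    ext
    exact (Category.id_comp _).symm
  rw [key, key, key, map_mul, MonObj.comp_mul]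

/-- Let k be an algebraically closed field, F an algebraically closed field extension of k, G an
algebraic k-group (a k-group scheme of finite type) and d a natural number. Then G_F contains a
smooth connected solvable closed subgroup of dimension at least d if and only if G does; that is,
D'_s(k, G) = D'_s(F, G). -/
theorem result (k : Type u) [Field k] [IsAlgClosed k]
    (F : Type u) [Field F] [IsAlgClosed F] [Algebra k F]
    (G : Over (Spec (CommRingCat.of k))) [GrpObj G] [LocallyOfFiniteType G.hom] [QuasiCompact G.hom] (d : ℕ) :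
    (∃ (U : Over (Spec (CommRingCat.of F))) (_ : GrpObj U) (i : U ⟶ Red.bc (Spec.map (CommRingCat.ofHom (algebraMap k F))) G), IsMonHom i ∧ IsClosedImmersion i.left ∧
        Smooth U.hom ∧ ConnectedSpace ↥U.left ∧ Red.IsSolvableGrp U ∧ (d : WithBot ℕ∞) ≤ topologicalKrullDim ↥U.left) ↔
    (∃ (U : Over (Spec (CommRingCat.of k))) (_ : GrpObj U) (i : U ⟶ G), IsMonHom i ∧ IsClosedImmersion i.left ∧
        Smooth U.hom ∧ ConnectedSpace ↥U.left ∧ Red.IsSolvableGrp U ∧ (d : WithBot ℕ∞) ≤ topologicalKrullDim ↥U.left) := by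
  have hne : Nonempty G.left := ⟨η[G].left (IsLocalRing.closedPoint k)⟩
  constructor
  · rintro ⟨U, _, i, _, _, _, _, hlaw, hdim⟩
    let R₀ : Subring F := (algebraMap k F).range
    let e₀ : k ≃+* R₀ := RingEquiv.ofBijective (algebraMap k F).rangeRestrict
      ⟨fun a b hab => (algebraMap k F).injective (congrArg Subtype.val hab), (algebraMap k F).rangeRestrict_surjective⟩
    obtain ⟨V, ψ, hV, hψ, hker⟩ := AlgGrp33.Place.exists_valuationSubring R₀ e₀.symm.toRingHom
    let u : k →+* V := (Subring.inclusion hV).comp (algebraMap k F).rangeRestrict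
    have hu : ∀ c, ψ (u c) = c := fun c => (hψ _).trans (e₀.symm_apply_apply c)
    letI : Algebra V k := ψ.toAlgebra
    let t : Spec (CommRingCat.of V) ⟶ Spec (CommRingCat.of k) := Spec.map (CommRingCat.ofHom u)
    have hL : AlgGrp33.SpecPts.sp V F ≫ t = Spec.map (CommRingCat.ofHom (algebraMap k F)) := by
      rw [← Spec.map_comp, ← CommRingCat.ofHom_comp]
      rfl
    have hK : AlgGrp33.SpecPts.sp V k ≫ t = 𝟙 _ := by
      rw [← Spec.map_comp, ← CommRingCat.ofHom_comp, show (algebraMap V k).comp u = RingHom.id k from RingHom.ext hu]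
      exact Spec.map_id _
    obtain ⟨C, hC, c, hcm, hcc, hCs, hCc, hCd, -, -, hsol⟩ :=
      AlgGrp33.SpecStep.exists_spec_conn (K := k) (fun c => ⟨u c, hu c⟩) t hL hK G i
    let e : Red.bc (𝟙 (Spec (CommRingCat.of k))) G ⟶ G :=
      Over.homMk (pullback.fst G.hom (𝟙 _)) (by rw [pullback.condition, Category.comp_id]; rfl)
    have : IsMonHom e := fst_isMonHom G _ rfl
    have : IsClosedImmersion (c ≫ e).left := inferInstanceAs (IsClosedImmersion (c.left ≫ pullback.fst G.hom (𝟙 _)))
    exact ⟨C, hC, c ≫ e, inferInstance, this, hCs, hCc, hsol hlaw, hCd ▸ hdim⟩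
  · rintro ⟨U, _, i, _, _, _, _, hlaw, hdim⟩
    let t := Spec.map (CommRingCat.ofHom (algebraMap k F))
    have := AlgGrp33.IsogSub.geometricallyIntegral_of_smooth U
    have h1 := AlgGrp79.map_left_isPullback t i
    have hc : IsClosedImmersion ((Over.pullback t).map i).left := MorphismProperty.of_isPullback h1 ‹IsClosedImmersion i.left›
    have : GeometricallyIntegral (Red.bc t U).hom := inferInstanceAs (GeometricallyIntegral (pullback.snd U.hom t))
    have hI : IsIntegral (Red.bc t U).left := GeometricallyIntegral.isIntegral_of_subsingleton (Red.bc t U).hom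
    exact ⟨Red.bc t U, inferInstance, (Over.pullback t).map i, inferInstance, hc,
      inferInstanceAs (Smooth (pullback.snd U.hom t)), inferInstanceAs (ConnectedSpace ↥(Red.bc t U).left),
      AlgGrp33.WordSpec.solvable_bc t hlaw, hdim.trans (Grpd80.dim_bc_eq U.hom).ge⟩

end Groth.Agent.S18097
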