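import Groth.Statements.S18100
import Groth.Agent.AlgGrp33.GenAbelian
-- import your own Groth.Agent.* helpers here

set_option autoImplicit false
universe u
open CategoryTheory MonoidalCategory CartesianMonoidalCategory MonObj GrpObj AlgebraicGeometry CategoryTheory.Limits
open AlgGrp

namespace Groth.Agent.S18100

open CategoryTheory CategoryTheory.Limits MonoidalCategory CartesianMonoidalCategory MonObj AlgebraicGeometry

variable {k : Type u} [Field k]

lemma aux (G : Over (Spec (CommRingCat.of k))) [GrpObj G] [LocallyOfFiniteType G.hom]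
    (hmin : ∀ (H : Over (Spec (CommRingCat.of k))) [GrpObj H] (h : H ⟶ G) [IsMonHom h] [IsClosedImmersion h.left],
      ¬ IsIso h → Function.Bijective ((Scheme.ΓSpecIso (CommRingCat.of k)).inv ≫ H.hom.appTop).hom → Red.IsTrivialGrp H)
    (hnp : ¬ IsProper G.hom) (Z : Over (Spec (CommRingCat.of k))) (z : Z ⟶ G) [IsClosedImmersion z.left] [IsProper Z.hom]
    [GeometricallyIntegral Z.hom] : topologicalKrullDim ↥Z.left = 0 := by
  obtain ⟨M, _, i, _, _, _, _, d, hd⟩ := AlgGrp33.GenAbelian.exists_generated z
  have : IsIntegral Z.left := GeometricallyIntegral.isIntegral_of_subsingleton Z.hom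
  have hM : Red.IsTrivialGrp M := by
    refine hmin M i (fun hi => hnp ?_) (Alb96.antiAffine_of_geometricallyIntegral M)
    have : IsIso ((Over.forget _).map (inv i)) := inferInstance
    have : IsIso (inv i).left := this
    rw [← Over.w (inv i)]
    infer_instance
  have : IsIso M.hom := hM
  have := Over.mono_of_mono_left z
  have hd1 : d = toUnit (Z ⊗ Z) ≫ η[M] := by
    apply Over.OverMorphism.ext
    rw [← cancel_mono M.hom, Over.w, Over.w]
  have h1 : fst Z Z ≫ z = snd Z Z ≫ z := by
    rw [← mul_inv_eq_one, ← hd, hd1, Category.assoc, IsMonHom.one_hom, ← Hom.one_def]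
  have h2 : fst Z Z = snd Z Z := (cancel_mono z).1 h1
  have : Subsingleton ↥Z.left := ⟨fun a b => by
    obtain ⟨w, hw1, hw2⟩ := Scheme.Pullback.exists_preimage_pullback (f := Z.hom) (g := Z.hom) a b
      (Subsingleton.elim (α := PrimeSpectrum k) _ _)
    have h3 : pullback.fst Z.hom Z.hom = pullback.snd Z.hom Z.hom := congrArg CommaMorphism.left h2
    rw [← hw1, ← hw2, h3]⟩
  have : Nonempty ↥Z.left := inferInstance
  obtain ⟨x⟩ := (inferInstance : Nonempty ↥Z.left)
  have : Nonempty (TopologicalSpace.IrreducibleCloseds ↥Z.left) :=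
    ⟨⟨closure {x}, isIrreducible_singleton.closure, isClosed_closure⟩⟩
  exact le_antisymm (topologicalKrullDim_zero_of_discreteTopology _) Order.krullDim_nonneg

/-- Let k be a field and G a non-trivial anti-affine k-group scheme of finite type with no anti-affine
closed subgroup scheme other than G and the trivial one. Then G is either an abelian variety (proper
over k), or every complete subvariety of G has dimension zero: any closed subscheme of G that is
geometrically integral and proper over k has dimension 0. -/
theorem result (k : Type u) [Field k]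
    (G : Over (Spec (CommRingCat.of k))) [GrpObj G] [LocallyOfFiniteType G.hom] [QuasiCompact G.hom] (hG : ¬ Red.IsTrivialGrp G)
    (hGa : Function.Bijective ((Scheme.ΓSpecIso (CommRingCat.of k)).inv ≫ G.hom.appTop).hom)
    (hmin : ∀ (H : Over (Spec (CommRingCat.of k))) [GrpObj H] (h : H ⟶ G) [IsMonHom h] [IsClosedImmersion h.left], ¬ IsIso h → Function.Bijective ((Scheme.ΓSpecIso (CommRingCat.of k)).inv ≫ H.hom.appTop).hom → Red.IsTrivialGrp H) :
    IsProper G.hom ∨
      ∀ (Z : Over (Spec (CommRingCat.of k))) (z : Z ⟶ G) [IsClosedImmersion z.left] [IsProper Z.hom] [GeometricallyIntegral Z.hom],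
        topologicalKrullDim ↥Z.left = 0 := by
  refine or_iff_not_imp_left.2 fun hnp => ?_
  intro Z z _ _ _
  exact aux G hmin hnp Z z

end Groth.Agent.S18100
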