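import Groth.Statements.S18101
import Groth.Agent.AlgGrp79.VectorAction
import Groth.Agent.AlgGrp79.JetAffine
-- import your own Groth.Agent.* helpers here

set_option autoImplicit false
universe u
open CategoryTheory MonoidalCategory CartesianMonoidalCategory MonObj GrpObj AlgebraicGeometry CategoryTheory.Limits
open AlgGrp

namespace Groth.Agent.S18101

/-- Let k be a field and G a k-group scheme of finite type. Then G is anti-affine, i.e. O(G) = k, if and
only if every action of G on a variety having a fixed point is trivial; the fixed point is taken
k-rational here (the published condition allows any closed fixed point, which gives a formally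
stronger necessary condition; the equivalence with a rational fixed point is what the published
argument through linear representations yields). -/
theorem result (k : Type u) [Field k]
    (G : Over (Spec (CommRingCat.of k))) [GrpObj G] [LocallyOfFiniteType G.hom] [QuasiCompact G.hom] :
    Function.Bijective ((Scheme.ΓSpecIso (CommRingCat.of k)).inv ≫ G.hom.appTop).hom ↔
      ∀ (X : Over (Spec (CommRingCat.of k))) [LocallyOfFiniteType X.hom] [QuasiCompact X.hom] [IsSeparated X.hom] [GeometricallyIntegral X.hom]
        (a : AlgGrp.Action G X) (x : 𝟙_ (Over (Spec (CommRingCat.of k))) ⟶ X), a.IsFixedPt x → a.act = snd G X := by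
  constructor
  · intro hG X _ _ _ _ a x hx
    haveI : IsIntegral X.left := GeometricallyIntegral.isIntegral_of_subsingleton X.hom
    haveI : IsLocallyNoetherian X.left := LocallyOfFiniteType.isLocallyNoetherian X.hom
    obtain ⟨n, ρ, hρ, hfwd, -⟩ := AlgGrp79.exists_rep_fixedPt a x hx
    have h1 := AlgGrp79.VectorAction.rep_trivial_of_antiAff hG ρ
    have := hfwd G (𝟙 G) (by rw [h1, MonObj.comp_one]) (G ⊗ X) (fst G X) (snd G X)
    simpa using this
  · intro h
    refine AlgGrp79.VectorAction.antiAff_of_reps_trivial G fun n ρ hρ => ?_
    obtain ⟨a, ha⟩ := AlgGrp79.VectorAction.exists_action ρ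
    obtain ⟨o, ho⟩ := AlgGrp79.VectorAction.exists_fixedPt ρ a ha
    haveI := AlgGrp79.VectorAction.lft_Aff (k := k) (n := n)
    haveI := AlgGrp79.VectorAction.geometricallyIntegral_Aff (k := k) (n := n)
    haveI : IsAffine (AlgGrp79.VectorAction.Aff k n).left := inferInstanceAs (IsAffine (Spec (CommRingCat.of _)))
    haveI : IsAffineHom (AlgGrp79.VectorAction.Aff k n).hom := inferInstance
    exact AlgGrp79.VectorAction.eq_one_of_trivial ρ a ha (h (AlgGrp79.VectorAction.Aff k n) a o ho)

end Groth.Agent.S18101
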