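import Groth.Statements.S18102
import Groth.Agent.AlgGrp33.IsogSub
-- import your own Groth.Agent.* helpers here

set_option autoImplicit false
universe u
open CategoryTheory MonoidalCategory CartesianMonoidalCategory MonObj GrpObj AlgebraicGeometry CategoryTheory.Limits
open AlgGrp

namespace Groth.Agent.S18102

open CategoryTheory CategoryTheory.Limits MonoidalCategory CartesianMonoidalCategory MonObj GrpObj AlgebraicGeometry

/-- Let k be a field with algebraic closure k̄ and f : G → H an isogeny of algebraic k-groups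
(surjective homomorphism with finite kernel, i.e. surjective and finite). Then for every d, G_{k̄}
contains a smooth connected affine solvable closed subgroup of dimension at least d if and only if
H_{k̄} does; that is, d_s(G) = d_s(H). -/
theorem result (k : Type u) [Field k]
    (G H : Over (Spec (CommRingCat.of k))) [GrpObj G] [LocallyOfFiniteType G.hom] [QuasiCompact G.hom]
    [GrpObj H] [LocallyOfFiniteType H.hom] [QuasiCompact H.hom]
    (f : G ⟶ H) [IsMonHom f] [Surjective f.left] [IsFinite f.left] (d : ℕ) :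
    (∃ (U : Over (Spec (CommRingCat.of (AlgebraicClosure k)))) (_ : GrpObj U) (i : U ⟶ Red.bc (Spec.map (CommRingCat.ofHom (algebraMap k (AlgebraicClosure k)))) G), IsMonHom i ∧ IsClosedImmersion i.left ∧
        Smooth U.hom ∧ IsAffine U.left ∧ ConnectedSpace ↥U.left ∧ Red.IsSolvableGrp U ∧ (d : WithBot ℕ∞) ≤ topologicalKrullDim ↥U.left) ↔
    (∃ (U : Over (Spec (CommRingCat.of (AlgebraicClosure k)))) (_ : GrpObj U) (i : U ⟶ Red.bc (Spec.map (CommRingCat.ofHom (algebraMap k (AlgebraicClosure k)))) H), IsMonHom i ∧ IsClosedImmersion i.left ∧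
        Smooth U.hom ∧ IsAffine U.left ∧ ConnectedSpace ↥U.left ∧ Red.IsSolvableGrp U ∧ (d : WithBot ℕ∞) ≤ topologicalKrullDim ↥U.left) := by
  let t := Spec.map (CommRingCat.ofHom (algebraMap k (AlgebraicClosure k)))
  obtain ⟨_, _⟩ := AlgGrp33.IsogSub.bc_props t f
  have : LocallyOfFiniteType (Red.bc t G).hom := inferInstanceAs (LocallyOfFiniteType (pullback.snd G.hom t))
  have : QuasiCompact (Red.bc t G).hom := inferInstanceAs (QuasiCompact (pullback.snd G.hom t))
  have : LocallyOfFiniteType (Red.bc t H).hom := inferInstanceAs (LocallyOfFiniteType (pullback.snd H.hom t))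
  have : QuasiCompact (Red.bc t H).hom := inferInstanceAs (QuasiCompact (pullback.snd H.hom t))
  constructor
  · rintro ⟨U, _, i, _, _, _, ha, _, hs, hd⟩
    have : QuasiCompact U.hom := by rw [← Over.w i]; infer_instance
    have : IsFinite (i ≫ (Over.pullback t).map f).left :=
      inferInstanceAs (IsFinite (i.left ≫ ((Over.pullback t).map f).left))
    obtain ⟨V, _, j, p, hj, _, hjc, _, _, _, _, hVc, _, hdim, hVa⟩ :=
      AlgGrp33.IsogSub.exists_image (i ≫ (Over.pullback t).map f)
    have := AlgGrp33.IsogSub.geometricallyIntegral_of_smooth V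
    exact ⟨V, ‹_›, j, hj, hjc, ‹_›, hVa ha, hVc, AlgGrp33.IsogWords.solvable_of_surjective p hs, hdim.symm ▸ hd⟩
  · rintro ⟨V, _, i, _, _, _, ha, _, hs, hd⟩
    obtain ⟨U, _, u, p, hu, _, huc, _, _, _, _, hUc, _, hdim, hUa⟩ :=
      AlgGrp33.IsogSub.exists_preimage ((Over.pullback t).map f) i
    have := AlgGrp33.IsogSub.geometricallyIntegral_of_smooth U
    exact ⟨U, ‹_›, u, hu, huc, ‹_›, hUa ha, hUc, AlgGrp33.IsogWords.solvable_of_finite p hs, hdim.symm ▸ hd⟩

end Groth.Agent.S18102
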