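import Groth.Statements.S18110
import Groth.Agent.DR29.CartierSmooth

set_option autoImplicit false
universe u
open DeRham

namespace Groth.Agent.S18110

open exteriorPower in
/-- Let p be a prime, A a perfect ring of characteristic p (its Frobenius is bijective), B a smooth
A-algebra, and d a de Rham differential on the exterior powers of Ω_{B/A} (a degreewise family
obeying the de Rham rule with d ∘ d = 0). Then there is exactly one additive map C from the closed
1-forms (the kernel of d in degree 1) to the 1-forms such that C(f^p ω) = f C(ω) for f in B and ω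
closed, C(ω) = 0 if and only if ω is exact, and C(f^{p-1} df) = df for f in B. (The source states
this for all degrees r at once on a smooth scheme over a perfect base, with two further conditions,
C(1) = 1 in degree 0 and multiplicativity for wedge products of closed forms, which involve other
degrees; this row is the degree-one, affine case, where those two conditions are empty.) -/
theorem result
    (p : ℕ) [Fact p.Prime] (A B : Type u) [CommRing A] [CharP A p] [PerfectRing A p]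
    [CommRing B] [Algebra A B] [Algebra.Smooth A B]
    (d : ∀ q : ℕ, ↥(⋀[B]^q (Ω[B⁄A])) →ₗ[A] ↥(⋀[B]^(q + 1) (Ω[B⁄A])))
    (hd : DeRham.IsDiff (KaehlerDifferential.D A B) d) :
    ∃! C : ↥(DeRham.cocycles d 1) →+ ↥(⋀[B]^1 (Ω[B⁄A])),
      (∀ (f : B) (ω ω' : ↥(DeRham.cocycles d 1)),
          (ω' : ↥(⋀[B]^1 (Ω[B⁄A]))) = f ^ p • (ω : ↥(⋀[B]^1 (Ω[B⁄A]))) → C ω' = f • C ω) ∧
      (∀ ω : ↥(DeRham.cocycles d 1), C ω = 0 ↔ (ω : ↥(⋀[B]^1 (Ω[B⁄A]))) ∈ DeRham.coboundaries d 1) ∧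
      (∀ (f : B) (ω : ↥(DeRham.cocycles d 1)),
          (ω : ↥(⋀[B]^1 (Ω[B⁄A]))) = f ^ (p - 1) • d 0 ((exteriorPower.zeroEquiv B (Ω[B⁄A])).symm f) →
            C ω = d 0 ((exteriorPower.zeroEquiv B (Ω[B⁄A])).symm f)) := by
  by_cases hB : Subsingleton B
  · haveI : Subsingleton ↥(⋀[B]^1 (Ω[B⁄A])) := Module.subsingleton B _
    exact ⟨0, ⟨fun _ _ _ _ => Subsingleton.elim _ _,
      fun ω => ⟨fun _ => by rw [Subsingleton.elim (ω : ↥(⋀[B]^1 (Ω[B⁄A]))) 0]; exact zero_mem _,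
        fun _ => Subsingleton.elim _ _⟩,
      fun _ _ _ => Subsingleton.elim _ _⟩, fun C _ => AddMonoidHom.ext fun _ => Subsingleton.elim _ _⟩
  haveI : Nontrivial B := not_subsingleton_iff_nontrivial.1 hB
  haveI : CharP B p := (CharP.charP_iff_prime_eq_zero (Fact.out : p.Prime)).2 (by
    rw [← map_natCast (algebraMap A B), CharP.cast_eq_zero, map_zero])
  obtain ⟨Φ, hΦ, hΦD⟩ := Groth.Agent.DR29.CartierSmooth.exists_phi p (A := A) (B := B)
  obtain ⟨hinj, hdec⟩ := Groth.Agent.DR29.CartierSmooth.main p hd hΦ hΦD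
  have hd0 : ∀ g : B, d 0 ((zeroEquiv B (Ω[B⁄A])).symm g) =
      (oneEquiv B (Ω[B⁄A])).symm (KaehlerDifferential.D A B g) := by
    intro g
    have h0 : (zeroEquiv B (Ω[B⁄A])).symm g =
        DeRham.gen (KaehlerDifferential.D A B) 0 g Fin.elim0 := by
      rw [LinearEquiv.symm_apply_eq, DeRham.gen, map_smul, zeroEquiv_ιMulti, smul_eq_mul, mul_one]
    rw [h0, hd.1, eq_comm, LinearEquiv.symm_apply_eq, oneEquiv_ιMulti]
    simp
  have hexact : ∀ ω : Ω[B⁄A], (oneEquiv B (Ω[B⁄A])).symm ω ∈ DeRham.coboundaries d 1 ↔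
      ω ∈ (KaehlerDifferential.D A B).toLinearMap.toAddMonoidHom.range := by
    intro ω
    constructor
    · rintro ⟨x, hx⟩
      refine ⟨zeroEquiv B (Ω[B⁄A]) x, ?_⟩
      rw [← (zeroEquiv B (Ω[B⁄A])).symm_apply_apply x, hd0] at hx
      exact (oneEquiv B (Ω[B⁄A])).symm.injective hx
    · rintro ⟨g, rfl⟩
      exact ⟨_, hd0 g⟩
  have hclosed : ∀ b g : B,
      d 1 ((oneEquiv B (Ω[B⁄A])).symm (b ^ p • g ^ (p - 1) • KaehlerDifferential.D A B g)) = 0 := by
    intro b g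
    have hgen : (oneEquiv B (Ω[B⁄A])).symm (b ^ p • g ^ (p - 1) • KaehlerDifferential.D A B g) =
        DeRham.gen (KaehlerDifferential.D A B) 1 (b ^ p * g ^ (p - 1)) (fun _ => g) := by
      rw [LinearEquiv.symm_apply_eq, DeRham.gen, map_smul, oneEquiv_ιMulti, smul_smul]
    rw [hgen, hd.1, Derivation.leibniz, Derivation.leibniz_pow _ b, ← Nat.cast_smul_eq_nsmul B p,
      CharP.cast_eq_zero, zero_smul, smul_zero, add_zero, Derivation.leibniz_pow,
      ← Nat.cast_smul_eq_nsmul B (p - 1), smul_smul, smul_smul, Groth.Agent.DR29.cons_smul,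
      (ιMulti B 2).map_eq_zero_of_eq _ (i := 0) (j := 1) (by simp) (by decide), smul_zero]
  have hex : ∀ ω : ↥(DeRham.cocycles d 1), ∃ η : Ω[B⁄A],
      Φ η = QuotientAddGroup.mk (oneEquiv B (Ω[B⁄A]) (ω : ↥(⋀[B]^1 (Ω[B⁄A])))) := by
    intro ω
    obtain ⟨n, h, b, x, hω⟩ := hdec (oneEquiv B (Ω[B⁄A]) (ω : ↥(⋀[B]^1 (Ω[B⁄A]))))
      (by rw [LinearEquiv.symm_apply_apply]; exact LinearMap.mem_ker.1 ω.2)
    refine ⟨∑ k, b k • KaehlerDifferential.D A B (x k), ?_⟩
    rw [hω, QuotientAddGroup.mk_add, (QuotientAddGroup.eq_zero_iff (KaehlerDifferential.D A B h)).2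
      (show KaehlerDifferential.D A B h ∈
        (KaehlerDifferential.D A B).toLinearMap.toAddMonoidHom.range from ⟨h, rfl⟩),
      zero_add, map_sum, QuotientAddGroup.mk_sum]
    exact Finset.sum_congr rfl fun k _ => hΦ _ _ _ (hΦD _)
  choose η hη using hex
  have hadd : ∀ ω ω', η (ω + ω') = η ω + η ω' := fun ω ω' => hinj (by
    rw [map_add, hη, hη, hη, ← QuotientAddGroup.mk_add, Submodule.coe_add, map_add])
  let C : ↥(DeRham.cocycles d 1) →+ ↥(⋀[B]^1 (Ω[B⁄A])) :=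
    (oneEquiv B (Ω[B⁄A])).symm.toLinearMap.toAddMonoidHom.comp (AddMonoidHom.mk' η hadd)
  have hC : ∀ ω, C ω = (oneEquiv B (Ω[B⁄A])).symm (η ω) := fun ω => rfl
  refine ⟨C, ⟨?_, ?_, ?_⟩, ?_⟩
  · intro f ω ω' h
    rw [hC, hC, ← map_smul]
    congr 1
    refine hinj ?_
    rw [hη, hΦ f _ _ (hη ω), h, map_smul]
  · intro ω
    rw [hC, LinearEquiv.map_eq_zero_iff, ← hinj.eq_iff, hη, map_zero, QuotientAddGroup.eq_zero_iff, ← hexact,
      LinearEquiv.symm_apply_apply]
  · intro f ω h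
    rw [hC, hd0]
    congr 1
    refine hinj ?_
    rw [hη, hΦD, h, map_smul, hd0, LinearEquiv.apply_symm_apply]
  · rintro C' ⟨h1, h2, h3⟩
    refine AddMonoidHom.ext fun ω => ?_
    obtain ⟨n, h, b, x, hω⟩ := hdec (oneEquiv B (Ω[B⁄A]) (ω : ↥(⋀[B]^1 (Ω[B⁄A]))))
      (by rw [LinearEquiv.symm_apply_apply]; exact LinearMap.mem_ker.1 ω.2)
    let e : ↥(DeRham.cocycles d 1) := ⟨(oneEquiv B (Ω[B⁄A])).symm (KaehlerDifferential.D A B h),
      LinearMap.mem_ker.2 (by rw [← hd0]; exact LinearMap.congr_fun (hd.2 0) _)⟩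
    let t : B → Fin n → ↥(DeRham.cocycles d 1) := fun c k =>
      ⟨(oneEquiv B (Ω[B⁄A])).symm (c ^ p • x k ^ (p - 1) • KaehlerDifferential.D A B (x k)),
        LinearMap.mem_ker.2 (hclosed c (x k))⟩
    have hsum : ω = e + ∑ k, t (b k) k := by
      apply Subtype.ext
      rw [Submodule.coe_add, Submodule.coe_sum]
      show _ = (oneEquiv B (Ω[B⁄A])).symm (KaehlerDifferential.D A B h) +
        ∑ k, (oneEquiv B (Ω[B⁄A])).symm (b k ^ p • x k ^ (p - 1) • KaehlerDifferential.D A B (x k))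
      rw [← map_sum, ← map_add, ← hω, LinearEquiv.symm_apply_apply]
    have he' : C' e = 0 := (h2 e).2 ((hexact _).2 ⟨h, rfl⟩)
    have he : C e = 0 := by
      rw [hC, LinearEquiv.map_eq_zero_iff, ← hinj.eq_iff, hη, map_zero, QuotientAddGroup.eq_zero_iff]
      refine ⟨h, ?_⟩
      simp [e]
    rw [hsum, map_add, map_add, map_sum, map_sum, he, he']
    refine congrArg (0 + ·) (Finset.sum_congr rfl fun k _ => ?_)
    rw [h1 (b k) (t 1 k) (t (b k) k) (by simp [t, map_smul]), h3 (x k) (t 1 k) (by simp [t, hd0]), hd0, hC,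
      ← map_smul]
    congr 1
    refine hinj ?_
    rw [hη, hΦ (b k) _ _ (hΦD (x k))]
    simp [t]

end Groth.Agent.S18110
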