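import Groth.Statements.S18127


set_option autoImplicit false
universe u
open LocAlg

namespace Groth.Agent.S18127

/-- Let R be a local ring with maximal ideal m and algebraically closed residue field, and M an n × n
matrix over R whose reduction modulo m has rank at most r. Then the determinant of M lies in m^(n −
r). (The published setting is the local ring of germs of holomorphic functions at a point of a
complex manifold, where this says that the determinant vanishes to order at least n − r at a point
where the matrix has rank at most r.) -/
theorem result
    {R : Type u} [CommRing R] [IsLocalRing R] [IsAlgClosed (IsLocalRing.ResidueField R)]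
    {n : ℕ} (M : Matrix (Fin n) (Fin n) R) (r : ℕ)
    (hr : (M.map (IsLocalRing.residue R)).rank ≤ r) :
    M.det ∈ IsLocalRing.maximalIdeal R ^ (n - r) := by
  classical
  let k := IsLocalRing.ResidueField R
  let N := M.map (IsLocalRing.residue R)
  let L : (Fin n → k) →ₗ[k] (Fin n → k) := N.transpose.mulVecLin
  have hL : n - r ≤ Module.finrank k (LinearMap.ker L) := by
    have h1 := L.finrank_range_add_finrank_ker
    rw [Module.finrank_fin_fun] at h1
    have h2 : Module.finrank k (LinearMap.range L) ≤ r := by
      have : N.transpose.rank ≤ r := by rw [Matrix.rank_transpose]; exact hr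
      exact this
    omega
  obtain ⟨K', hK'⟩ := (LinearMap.ker L).exists_isCompl
  let bK := Module.finBasis k (LinearMap.ker L)
  let bK' := Module.finBasis k K'
  let b0 := (bK.prod bK').map (Submodule.prodEquivOfIsCompl _ _ hK')
  let e := Fintype.equivOfCardEq (α := Fin (Module.finrank k (LinearMap.ker L)) ⊕ Fin (Module.finrank k K'))
    (β := Fin n) (by
      rw [← Module.finrank_eq_card_basis b0, Module.finrank_fin_fun, Fintype.card_fin])
  let b := b0.reindex e
  choose P hP using fun i j : Fin n => IsLocalRing.residue_surjective (b i j)
  have hunit : IsUnit (Matrix.of P).det := by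
    by_contra hu
    have h0 : IsLocalRing.residue R (Matrix.of P).det = 0 := by
      rw [IsLocalRing.residue_eq_zero_iff]; exact hu
    rw [RingHom.map_det] at h0
    have hb : (Matrix.of fun i j => b i j).det ≠ 0 := by
      have := b.linearIndependent
      have h := Matrix.linearIndependent_rows_iff_isUnit.1
        (show LinearIndependent k (Matrix.of fun i j => b i j).row from this)
      exact ((Matrix.isUnit_iff_isUnit_det _).1 h).ne_zero
    refine hb (Eq.trans ?_ h0)
    congr 1
    ext i j
    simp [hP]
  let S : Finset (Fin n) := Finset.univ.image fun l => e (Sum.inl l)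
  have hS : n - r ≤ S.card := by
    show n - r ≤ (Finset.univ.image fun l => e (Sum.inl l)).card
    rw [Finset.card_image_of_injective _ (fun x y h => Sum.inl_injective (e.injective h)), Finset.card_univ,
      Fintype.card_fin]
    exact hL
  have hrow : ∀ i ∈ S, ∀ j, (Matrix.of P * M) i j ∈ IsLocalRing.maximalIdeal R := by
    intro i hi j
    obtain ⟨l, -, rfl⟩ := Finset.mem_image.1 hi
    rw [← IsLocalRing.residue_eq_zero_iff, Matrix.mul_apply, map_sum]
    have hker : L (b (e (Sum.inl l))) = 0 := by
      have : b (e (Sum.inl l)) = (bK l : Fin n → k) := by simp [b, b0]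
      rw [this]
      exact (bK l).2
    have h2 := congrFun hker j
    simp only [L, Matrix.mulVecLin_apply, Matrix.mulVec, dotProduct, Pi.zero_apply,
      Matrix.transpose_apply] at h2
    rw [← h2]
    exact Finset.sum_congr rfl fun x _ => by simp [N, hP, mul_comm]
  have hdet : (Matrix.of P * M).det ∈ IsLocalRing.maximalIdeal R ^ (n - r) := by
    rw [← Matrix.det_transpose, Matrix.det_apply]
    refine Ideal.sum_mem _ fun σ _ => Submodule.smul_of_tower_mem _ _ ?_
    refine Ideal.pow_le_pow_right hS ?_
    rw [← Finset.prod_compl_mul_prod S]
    refine Ideal.mul_mem_left _ _ ?_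
    rw [← Finset.prod_const]
    exact Ideal.prod_mem_prod fun i hi => hrow i hi (σ i)
  rw [Matrix.det_mul] at hdet
  exact (Ideal.unit_mul_mem_iff_mem _ hunit).1 hdet

end Groth.Agent.S18127
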