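import Groth.Statements.S18136
import Mathlib.RingTheory.Ideal.Cotangent
import Mathlib.LinearAlgebra.Finsupp.LinearCombination
import Mathlib.Data.Fintype.Sum
import Mathlib.Data.Finset.Order
import Mathlib.RingTheory.Ideal.Maps

set_option autoImplicit false
universe u v
open IsLocalRing
open CAlg

namespace Groth.Agent.S18136

/-- Let A be a regular local ring with maximal ideal m and residue field k, written as a directed
colimit of regular local rings A_j with local transition maps (compatible maps ψ_j : A_j → A that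
are jointly surjective, an element dying in A dying at some later stage). Let f_1, …, f_c, g_1, …,
g_d ∈ m have linearly independent classes in m/m^2 over k, and put I = (f_1, …, f_c) ⊆ I' = (f_1, …,
f_c, g_1, …, g_d) (so I is generated by part of a regular system of parameters of A and I'/I by part
of a regular system of parameters of A/I; for a regular local ring the condition on I ⊆ I' is stated
through such a joint family). Then there are an index j_0 and ideals I_j ⊆ I'_j ⊆ A_j for j ≥ j_0
such that: each I_j is generated by c elements and I'_j by these together with d further elements of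
the maximal ideal m_j, the c + d classes in m_j/m_j^2 being linearly independent over the residue
field of A_j; the transition maps carry I_i, I'_i onto generators of I_j, I'_j for j_0 ≤ i ≤ j; and
I_j, I'_j generate I, I' in A. -/
theorem result
    {A : Type u} [CommRing A] [IsRegularLocalRing A]
    {ι : Type v} [Preorder ι] [Nonempty ι] [IsDirected ι (· ≤ ·)]
    (B : ι → Type u) [∀ j, CommRing (B j)] [∀ j, IsRegularLocalRing (B j)]
    (φ : ∀ i j, i ≤ j → (B i →+* B j)) (hφloc : ∀ i j (h : i ≤ j), IsLocalHom (φ i j h))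
    (hφ : ∀ i j l (hij : i ≤ j) (hjl : j ≤ l), (φ j l hjl).comp (φ i j hij) = φ i l (hij.trans hjl))
    (ψ : ∀ j, B j →+* A) (hψ : ∀ i j (h : i ≤ j), (ψ j).comp (φ i j h) = ψ i)
    (hsurj : ∀ a : A, ∃ j, ∃ x : B j, ψ j x = a)
    (hker : ∀ j (x : B j), ψ j x = 0 → ∃ l, ∃ h : j ≤ l, φ j l h x = 0)
    (c d : ℕ) (f : Fin c → maximalIdeal A) (g : Fin d → maximalIdeal A)
    (hind : LinearIndependent (ResidueField A) (⇑(maximalIdeal A).toCotangent ∘ Sum.elim f g)) :
    ∃ j₀ : ι, ∃ (P : ∀ j, j₀ ≤ j → Ideal (B j)) (Q : ∀ j, j₀ ≤ j → Ideal (B j)),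
      (∀ j (hj : j₀ ≤ j), ∃ (F : Fin c → maximalIdeal (B j)) (E : Fin d → maximalIdeal (B j)),
        LinearIndependent (ResidueField (B j)) (⇑(maximalIdeal (B j)).toCotangent ∘ Sum.elim F E) ∧
        P j hj = Ideal.span (Set.range (fun s => (F s : B j))) ∧
        Q j hj = P j hj ⊔ Ideal.span (Set.range (fun t => (E t : B j)))) ∧
      (∀ i j (hi : j₀ ≤ i) (hij : i ≤ j),
        (P i hi).map (φ i j hij) = P j (le_trans hi hij) ∧ (Q i hi).map (φ i j hij) = Q j (le_trans hi hij)) ∧
      (∀ j (hj : j₀ ≤ j),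
        (P j hj).map (ψ j) = Ideal.span (Set.range (fun s => (f s : A))) ∧
        (Q j hj).map (ψ j) = Ideal.span (Set.range (fun s => (f s : A))) ⊔ Ideal.span (Set.range (fun t => (g t : A)))) := by

  classical
  have hψloc : ∀ j (x : B j), x ∈ maximalIdeal (B j) → ψ j x ∈ maximalIdeal A := by
    intro j x hx
    rw [mem_maximalIdeal, mem_nonunits_iff] at hx ⊢
    intro hu
    obtain ⟨v, hv⟩ := hu.exists_right_inv
    obtain ⟨i, y, rfl⟩ := hsurj v
    obtain ⟨l, hjl, hil⟩ := exists_ge_ge j i
    obtain ⟨m, hlm, hm⟩ := hker l (φ j l hjl x * φ i l hil y - 1) (by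
      rw [map_sub, map_mul, map_one, ← RingHom.comp_apply, hψ, ← RingHom.comp_apply, hψ, hv, sub_self])
    rw [map_sub, map_one, map_mul, sub_eq_zero, ← RingHom.comp_apply, hφ] at hm
    haveI := hφloc j m (hjl.trans hlm)
    exact hx ((isUnit_map_iff (φ j m (hjl.trans hlm)) x).mp (.of_mul_eq_one _ hm))
  have hφmem : ∀ i j (h : i ≤ j) (x : B i), x ∈ maximalIdeal (B i) → φ i j h x ∈ maximalIdeal (B j) := by
    intro i j h x hx
    rw [mem_maximalIdeal, mem_nonunits_iff] at hx ⊢
    haveI := hφloc i j h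
    exact fun hu => hx ((isUnit_map_iff (φ i j h) x).mp hu)
  let v : Fin c ⊕ Fin d → maximalIdeal A := Sum.elim f g
  choose iv xv hxv using fun s => hsurj (v s : A)
  obtain ⟨j₀, hj₀⟩ := Finset.exists_le (Finset.univ.image iv)
  let G : ∀ j, j₀ ≤ j → Fin c ⊕ Fin d → B j := fun j hj s =>
    φ j₀ j hj (φ (iv s) j₀ (hj₀ _ (Finset.mem_image_of_mem _ (Finset.mem_univ s))) (xv s))
  have hGψ : ∀ j hj s, ψ j (G j hj s) = (v s : A) := fun j hj s => by
    simp only [G]
    rw [← RingHom.comp_apply, hψ, ← RingHom.comp_apply, hψ, hxv]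
  have hGφ : ∀ i j (hi : j₀ ≤ i) (hij : i ≤ j) s, φ i j hij (G i hi s) = G j (hi.trans hij) s :=
    fun i j hi hij s => by simp only [G]; rw [← RingHom.comp_apply, hφ]
  have hunit : ∀ j (x : B j), ψ j x ∈ maximalIdeal A → x ∈ maximalIdeal (B j) := fun j x hx => by
    rw [mem_maximalIdeal, mem_nonunits_iff] at hx ⊢
    exact fun hu => hx (hu.map (ψ j))
  have hGm : ∀ j hj s, G j hj s ∈ maximalIdeal (B j) := fun j hj s =>
    hunit j _ (by rw [hGψ]; exact (v s).2)
  refine ⟨j₀, fun j hj => Ideal.span (Set.range fun s => G j hj (Sum.inl s)),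
    fun j hj => Ideal.span (Set.range fun s => G j hj (Sum.inl s)) ⊔
      Ideal.span (Set.range fun t => G j hj (Sum.inr t)), fun j hj => ?_, fun i j hi hij => ?_, fun j hj => ?_⟩
  · refine ⟨fun s => ⟨_, hGm j hj (Sum.inl s)⟩, fun t => ⟨_, hGm j hj (Sum.inr t)⟩, ?_, rfl, rfl⟩
    rw [Fintype.linearIndependent_iff]
    intro k hk s
    choose a ha using fun s => Ideal.Quotient.mk_surjective (I := maximalIdeal (B j)) (k s)
    have h1 : (maximalIdeal (B j)).toCotangent
        (∑ s, a s • (⟨G j hj s, hGm j hj s⟩ : maximalIdeal (B j))) = 0 := by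
      rw [map_sum, ← hk]
      refine Finset.sum_congr rfl fun s _ => ?_
      rw [map_smul, ← ha s]
      rcases s with s | s <;> rfl
    rw [Ideal.toCotangent_eq_zero] at h1
    simp only [AddSubmonoidClass.coe_finsetSum, SetLike.val_smul, smul_eq_mul] at h1
    have h2 : ∑ s, ψ j (a s) * (v s : A) ∈ maximalIdeal A ^ 2 := by
      have h3 := Ideal.mem_map_of_mem (ψ j) h1
      rw [Ideal.map_pow] at h3
      have h4 := Ideal.pow_right_mono ((Ideal.map_le_iff_le_comap.mpr fun x hx => hψloc j x hx) : (maximalIdeal (B j)).map (ψ j) ≤ maximalIdeal A) 2 h3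
      simpa [map_sum, hGψ] using h4
    have h5 : (maximalIdeal A).toCotangent (∑ s, ψ j (a s) • v s) = 0 := by
      rw [Ideal.toCotangent_eq_zero]
      simpa using h2
    rw [map_sum] at h5
    have h6 := Fintype.linearIndependent_iff.mp hind (fun s => residue A (ψ j (a s))) (by
      rw [← h5]
      refine Finset.sum_congr rfl fun s _ => ?_
      rw [map_smul]; rfl) s
    rw [← ha s]
    exact Ideal.Quotient.eq_zero_iff_mem.mpr (hunit j _ (Ideal.Quotient.eq_zero_iff_mem.mp h6))
  · simp only [Ideal.map_sup, Ideal.map_span, ← Set.range_comp, Function.comp_def, hGφ i j hi hij]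
    exact ⟨trivial, trivial⟩
  · simp only [Ideal.map_sup, Ideal.map_span, ← Set.range_comp, Function.comp_def, hGψ j hj]
    exact ⟨rfl, rfl⟩

end Groth.Agent.S18136
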