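import Groth.Statements.S1815
import Groth.Agent.LC15.CechNat
import Groth.Agent.LC15.CechQuot
import Groth.Agent.LC15.RlimTower

set_option autoImplicit false
universe u
open CategoryTheory CategoryTheory.Limits
attribute [local instance] HasDerivedCategory.standard
open LocCoh

namespace Groth.Agent.S1815

/-- Let I and J be ideals of a Noetherian ring A and M a finite A-module; assume RΓ_J exists as a total
right derived functor, derived I-completion exists, and D(A) has countable products. Then the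
derived I-completion of RΓ_J(M) is a derived limit of the inverse system n ↦ RΓ_J(M/I^nM)
(transition maps induced by the quotient maps), and its cohomology vanishes in negative degrees. -/
theorem result (A : Type u) [CommRing A] [IsNoetherianRing A] (I J : Ideal A) [DRing.HasRgammaI J] [DRing.HasDerivedCompletion I] [∀ K : ℕ → Dual.D A, HasProduct K] (M : Type u) [AddCommGroup M] [Module A M] [Module.Finite A M] : DCoh.IsRlim (fun n : ℕ => (DRing.RgammaI J).obj (Dual.inD A (M ⧸ (I ^ n • ⊤ : Submodule A M)))) (fun n : ℕ => (DRing.RgammaI J).map ((DerivedCategory.singleFunctor (ModuleCat.{u} A) 0).map (ModuleCat.ofHom (Submodule.mapQ (I ^ (n + 1) • ⊤ : Submodule A M) (I ^ n • ⊤ : Submodule A M) LinearMap.id (Submodule.smul_mono (Ideal.pow_le_pow_right (Nat.le_succ n)) le_rfl))))) ((DRing.derivedCompletion I).obj ((DRing.RgammaI J).obj (Dual.inD A M))).obj ∧ ∀ i : ℤ, i < 0 → Subsingleton (Dual.HD A ((DRing.derivedCompletion I).obj ((DRing.RgammaI J).obj (Dual.inD A M))).obj i) := by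
  classical
  obtain ⟨fs, hfs⟩ := Groth.Agent.DR40.exists_list_of_fg (IsNoetherian.noetherian J)
  let C := DerCA.extCech (ModuleCat.of A M) fs
  let N : ℕ → ModuleCat.{u} A := fun n => ModuleCat.of A (M ⧸ (I ^ n • ⊤ : Submodule A M))
  let t : ∀ n, N (n + 1) ⟶ N n := fun n => ModuleCat.ofHom (Submodule.mapQ (I ^ (n + 1) • ⊤ : Submodule A M)
    (I ^ n • ⊤ : Submodule A M) LinearMap.id (Submodule.smul_mono (Ideal.pow_le_pow_right (Nat.le_succ n)) le_rfl))
  let g : ∀ n, ModuleCat.of A M ⟶ N n := fun n => ModuleCat.ofHom (I ^ n • ⊤ : Submodule A M).mkQ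
  have hdeg := fun n => Groth.Agent.LC15.CechQuot.degreewise_quot (g n) (I ^ n) (Submodule.mkQ_surjective _)
    (fun x => Submodule.Quotient.mk_eq_zero _) fs
  have hq : ∀ n, Groth.Agent.LC16.CechPairs.Cmap fs (g (n + 1)) ≫ Groth.Agent.LC16.CechPairs.Cmap fs (t n) = Groth.Agent.LC16.CechPairs.Cmap fs (g n) :=
    fun n => (Groth.Agent.LC15.CechQuot.Cmap_comp fs (g (n + 1)) (t n)).trans
      (congrArg (Groth.Agent.LC16.CechPairs.Cmap fs) (ModuleCat.hom_ext (LinearMap.ext fun _ => rfl)))
  haveI := Groth.Agent.LC15.CechNat.isIso_toRgamma J fs hfs (ModuleCat.of A M)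
  haveI := fun n => Groth.Agent.LC15.CechNat.isIso_toRgamma J fs hfs (N n)
  have hc : Groth.Agent.DR40.IsCompl I ((Groth.Agent.DR39.QA A).map ((Groth.Agent.LC15.ComplCx.uC I).app C)) :=
    Groth.Agent.LC15.ComplCx.isCompl_uC_extCech M fs
  obtain ⟨w, -⟩ := (Groth.Agent.LC15.ComplCx.IsCompl.iso_comp hc
    (asIso (Groth.Agent.LC15.CechNat.toRgamma J fs hfs (ModuleCat.of A M))).symm).unique
    (Groth.Agent.DR40.isCompl_unit I ((DRing.RgammaI J).obj (Dual.inD A M)))
  refine ⟨Groth.Agent.LC15.RlimTower.isRlim (fun n => Groth.Agent.LC16.CechPairs.Cmap fs (t n)) I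
    (fun n => Groth.Agent.LC16.CechPairs.Cmap fs (g n)) hq (fun n q => (hdeg n q).2) (fun n q => (hdeg n q).1) _
    (fun n => asIso (Groth.Agent.LC15.CechNat.toRgamma J fs hfs (N n)))
    (fun n => Groth.Agent.LC15.CechNat.toRgamma_naturality J fs hfs (t n)) w, fun i hi => ?_⟩
  haveI : Subsingleton (C.X i : Type u) := Groth.Agent.LC16.CechPairs.subsingleton_X fs (ModuleCat.of A M) i hi
  haveI : Subsingleton (AdicCompletion I (C.X i)) := ⟨fun x y => by
    obtain ⟨a, rfl⟩ := AdicCompletion.mk_surjective I (C.X i) x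
    obtain ⟨b, rfl⟩ := AdicCompletion.mk_surjective I (C.X i) y
    exact congrArg _ (Subtype.ext (funext fun n => Subsingleton.elim _ _))⟩
  refine (Groth.Agent.DR39.isZero_HF_iff _ i).1 (IsZero.of_iso ?_ ((Groth.Agent.DR39.HF A i).mapIso w.symm ≪≫ Groth.Agent.DR39.HQIso _ i))
  exact (((Groth.Agent.LC15.ComplCx.GC I).obj C).sc i).isZero_homology_of_isZero_X₂ (ModuleCat.isZero_of_subsingleton (ModuleCat.of A (AdicCompletion I (C.X i))))

end Groth.Agent.S1815
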