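import Groth.Statements.S18150
import Groth.Agent.Frob53.KodairaAux
import Groth.Agent.S18151

set_option autoImplicit false
set_option linter.unusedVariables false
set_option linter.style.haveILetI false
universe u
open CategoryTheory AlgebraicGeometry Opposite TopologicalSpace
open FrobSch

namespace Groth.Agent.S18150

/-- Let p be a prime, k a perfect field of characteristic p, and X an irreducible smooth proper k-scheme
of dimension n. Let φ be the p-th power map on the sheaf of additive groups underlying O_X and
suppose X is Frobenius split: φ admits a retraction s, an additive endomorphism of O_X with s ∘ φ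
the identity and s(a^p·b) = a·s(b) on every open. Then Kodaira vanishing holds on X: for every ample
invertible module L with tensor inverse L⁻¹ and every i < n, the cohomology group H^i(X, L⁻¹)
vanishes. (The source allows X Gorenstein projective; X is taken smooth, proper with an ample
invertible module, and irreducible so that n is the dimension of every component.) -/
theorem result (p : ℕ) [Fact p.Prime]
    (k : Type u) [Field k] [CharP k p] [PerfectRing k p]
    (X : Scheme.{u}) [X.Over (Spec (CommRingCat.of k))] [IsProper (X ↘ Spec (CommRingCat.of k))]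
    [Smooth (X ↘ Spec (CommRingCat.of k))] [IrreducibleSpace X] (n : ℕ) (hn : topologicalKrullDim X = n)
    (φ : Coh.toAb (Coh.structureModule X) ⟶ Coh.toAb (Coh.structureModule X))
    (hφ : ∀ (U : X.Opens) (t : Γ(X, U)), φ.hom.app (op U) t = t ^ p)
    (s : Coh.toAb (Coh.structureModule X) ⟶ Coh.toAb (Coh.structureModule X))
    (hs : φ ≫ s = 𝟙 _)
    (hlin : ∀ (U : X.Opens) (a b : Γ(X, U)),
      s.hom.app (op U) (a ^ p * b) = a * @id Γ(X, U) (s.hom.app (op U) b))
    (L Linv : X.Modules) (hL : CohB1.IsAmple L) (hLinv : ClSub.IsInverseOf Linv L)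
    (i : ℕ) (hi : i < n) :
    Subsingleton (Coh.HH X Linv i) := by
  haveI : CharP (CommRingCat.of k) p := ‹CharP k p›
  have hp : 2 ≤ p := (Fact.out (p := p.Prime)).two_le
  have hLi : PicF.IsInvertible Linv := (hLinv.elim fun f => Groth.Agent.Inv57.isInvertible_of_tensorMod_iso f)
  obtain ⟨e₀, he₀⟩ := Groth.Agent.Frob53.Kodaira.exists_vanish k n hn hL hLinv hp
  have key : ∀ e, Module.finrank k (Coh.HH X Linv i) ≤
      Module.finrank k (Coh.HH X (CohB1.tensorPow Linv (p ^ e)) i) := by
    intro e
    induction e with
    | zero =>
      rw [pow_zero]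
      exact (Groth.Agent.Crv77.hEquiv k (Groth.Agent.EGA73.tensUnitLeft Linv).symm i).finrank_eq.le
    | succ e ih =>
      refine ih.trans ((Groth.Agent.S18151.result p k X φ hφ s hs hlin _
        (Groth.Agent.EGA73.isInvertible_tensorPow hLi (p ^ e)) i).trans ?_)
      exact (Groth.Agent.Crv77.hEquiv k (Groth.Agent.HypSq53.nonempty_iso_of_cl_eq
        (Groth.Agent.Frob53.Kodaira.cl_pow_pow Linv (p ^ e) p)).some i).finrank_eq.le
  haveI := he₀ e₀ le_rfl i hi
  have h0 : Module.finrank k (Coh.HH X Linv i) = 0 :=
    Nat.le_zero.1 ((key e₀).trans (Module.finrank_zero_of_subsingleton).le)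
  haveI : Module.Finite k (Coh.HH X Linv i) :=
    Groth.Agent.Serre71.finite_hh_of_isProper k Linv (Groth.Agent.Crv77.isCoh_of_isInvertible hLi) i
  exact Module.finrank_zero_iff.1 h0
end Groth.Agent.S18150
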