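import Groth.Statements.S18156
import Groth.Agent.CAlg9.AdicComplete

set_option autoImplicit false
universe u v
open CAlg

namespace Groth.Agent.S18156

/-- Let k be a field and A a regular local ring that is a k-algebra, with maximal ideal m and m-adic
completion Â. Then every k-derivation D of A into itself extends to a k-derivation D̂ of Â into
itself along the canonical map ρ : A → Â, in the sense that D̂(ρ(a)) = ρ(D(a)) for every a ∈ A. (The
source works throughout over an algebraically closed field of characteristic p; neither assumption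
enters this statement.) -/
theorem result
    (k : Type u) [Field k] (A : Type v) [CommRing A] [Algebra k A] [IsRegularLocalRing A]
    (D : Derivation k A A) :
    ∃ Dhat : Derivation k (AdicCompletion (IsLocalRing.maximalIdeal A) A)
        (AdicCompletion (IsLocalRing.maximalIdeal A) A),
      ∀ a : A, Dhat (algebraMap A (AdicCompletion (IsLocalRing.maximalIdeal A) A) a) =
        algebraMap A (AdicCompletion (IsLocalRing.maximalIdeal A) A) (D a) := by
  classical
  set m := IsLocalRing.maximalIdeal A
  let C := AdicCompletion m A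
  have hmem : ∀ n (a : A), a ∈ (m ^ n • ⊤ : Submodule A A) ↔ a ∈ m ^ n := fun n a => by
    rw [smul_eq_mul, Ideal.mul_top]
  have hD : ∀ n, ∀ a ∈ m ^ (n + 1), D a ∈ m ^ n := by
    intro n
    induction n with
    | zero => intro a _; simp
    | succ n ih =>
      intro a ha
      rw [pow_succ] at ha
      refine Submodule.mul_induction_on ha (fun y hy z hz => ?_) fun y z hy hz => ?_
      · rw [D.leibniz]
        refine add_mem (Ideal.mul_mem_right _ _ hy) ?_
        rw [smul_eq_mul, pow_succ']
        exact Ideal.mul_mem_mul hz (ih y hy)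
      · rw [map_add]; exact add_mem hy hz
  have hmk : ∀ n (a b : A),
      (Submodule.Quotient.mk a : A ⧸ (m ^ n • ⊤ : Submodule A A)) = Submodule.Quotient.mk b ↔ a - b ∈ m ^ n :=
    fun n a b => by rw [Submodule.Quotient.eq, hmem]
  have hcong : ∀ n (a b : A), a - b ∈ m ^ (n + 1) → D a - D b ∈ m ^ n := fun n a b h => by
    rw [← map_sub]; exact hD n _ h
  choose r hr using fun (n : ℕ) (x : C) => Groth.Agent.CAlg9.exists_of_val_eq m x n
  let f : C → C := fun x => ⟨fun n => Submodule.Quotient.mk (D (r (n + 1) x)), by
    intro i j hij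
    show (Submodule.Quotient.mk (D (r (j + 1) x)) : A ⧸ (m ^ i • ⊤ : Submodule A A)) =
      Submodule.Quotient.mk (D (r (i + 1) x))
    rw [hmk]
    refine hcong i _ _ ?_
    rw [← hmk, ← hr (i + 1) x, ← x.prop (show i + 1 ≤ j + 1 by omega), hr (j + 1) x]
    rfl⟩
  have hf : ∀ (x : C) n (a : A), x.val (n + 1) = Submodule.Quotient.mk a →
      (f x).val n = Submodule.Quotient.mk (D a) := by
    intro x n a h
    show (Submodule.Quotient.mk (D (r (n + 1) x)) : A ⧸ (m ^ n • ⊤ : Submodule A A)) = _
    rw [hmk]
    refine hcong n _ _ ?_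
    rw [← hmk, ← hr (n + 1) x, h]
  have hsmul : ∀ (c : k) (x : C) n (a : A), x.val n = Submodule.Quotient.mk a →
      (c • x).val n = Submodule.Quotient.mk (c • a) := by
    intro c x n a h
    rw [AdicCompletion.val_smul_apply, h, ← Submodule.Quotient.mk_smul]
  have hmul : ∀ (x y : C) n (a b : A), x.val n = Submodule.Quotient.mk a →
      y.val n = Submodule.Quotient.mk b → (x * y).val n = Submodule.Quotient.mk (a * b) := by
    intro x y n a b h1 h2
    show x.val n * y.val n = _
    rw [h1, h2]
    rfl
  let L : C →ₗ[k] C :=
    { toFun := f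
      map_add' := fun x y => AdicCompletion.ext fun n => by
        rw [AdicCompletion.val_add_apply, hf (x + y) n (r (n + 1) x + r (n + 1) y) (by
          rw [AdicCompletion.val_add_apply, hr, hr, Submodule.Quotient.mk_add]),
          hf x n _ (hr _ x), hf y n _ (hr _ y), map_add, Submodule.Quotient.mk_add]
      map_smul' := fun c x => AdicCompletion.ext fun n => by
        rw [RingHom.id_apply, hf (c • x) n _ (hsmul c x _ _ (hr _ x)),
          hsmul c (f x) n _ (hf x n _ (hr _ x)), D.map_smul] }
  refine ⟨Derivation.mk' L fun x y => AdicCompletion.ext fun n => ?_, fun a => AdicCompletion.ext fun n => ?_⟩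
  · show (f (x * y)).val n = (x * f y + y * f x).val n
    have hxn : x.val n = Submodule.Quotient.mk (r (n + 1) x) := by
      rw [← x.prop (show n ≤ n + 1 by omega), hr]; rfl
    have hyn : y.val n = Submodule.Quotient.mk (r (n + 1) y) := by
      rw [← y.prop (show n ≤ n + 1 by omega), hr]; rfl
    rw [AdicCompletion.val_add_apply, hf (x * y) n _ (hmul x y _ _ _ (hr _ x) (hr _ y)),
      hmul x (f y) n _ _ hxn (hf y n _ (hr _ y)), hmul y (f x) n _ _ hyn (hf x n _ (hr _ x)),
      D.leibniz, Submodule.Quotient.mk_add]
    simp only [smul_eq_mul]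
  · show (f (algebraMap A C a)).val n = _
    rw [hf (algebraMap A C a) n a rfl]
    rfl

end Groth.Agent.S18156
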