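import Groth.Statements.S18157
import Groth.Agent.FrobDiv3.Sheaf
import Groth.Agent.FrobDiv3.Section
import Groth.Agent.FrobDet31.Main
import Groth.Agent.Var76.Kleiman
import Groth.Agent.Lift3.FrameLemmas
import Groth.Agent.Om3.DetSeq

set_option autoImplicit false
universe u
open CategoryTheory CategoryTheory.Limits AlgebraicGeometry TopologicalSpace
open Lift

set_option linter.style.haveILetI false
set_option backward.isDefEq.respectTransparency.types false
set_option maxHeartbeats 1000000

open Groth.Agent QC70 exteriorPower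

noncomputable section

namespace Groth.Agent.S18157

/-- A chart with coordinates around a point. -/
theorem exists_chart {k : Type u} [Field k] {X : Scheme.{u}} (f : X ⟶ Spec (CommRingCat.of k)) [QuasiSeparated f]
    [IsIntegral X] (d : ℕ) [hs : SmoothOfRelativeDimension d f] (x : X) :
    ∃ (U : X.affineOpens) (t : Fin d → Γ(X, U.1)) (b : Module.Basis (Fin d) Γ(X, U.1) Γ(Omega.sheaf f, U.1)),
      x ∈ U.1 ∧ ∀ i, b i = OmegaSh.dSect f U.1 (t i) := by
  obtain ⟨V, hV, W, hW, hxW, e, hstd⟩ := hs.exists_isStandardSmoothOfRelativeDimension x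
  letI := (f.appLE V W e).hom.toAlgebra
  have hstd' : Algebra.IsStandardSmoothOfRelativeDimension d Γ(Spec (CommRingCat.of k), V) Γ(X, W) :=
    (RingHom.isStandardSmoothOfRelativeDimension_algebraMap d).1 hstd
  have := hstd'.isStandardSmooth
  have : Nonempty W := ⟨⟨x, hxW⟩⟩
  have hr : Module.finrank Γ(X, W) Ω[Γ(X, W)⁄Γ(Spec (CommRingCat.of k), V)] = d :=
    Module.finrank_eq_of_rank_eq (Algebra.IsStandardSmoothOfRelativeDimension.rank_kaehlerDifferential d)
  obtain ⟨ι, σ, _, _, P, -⟩ := hstd'.out
  have := Fintype.ofFinite ((Set.range P.map)ᶜ : Set ι)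
  have hc : Fintype.card ((Set.range P.map)ᶜ : Set ι) = d := (Module.finrank_eq_card_basis P.basisKaehler).symm.trans hr
  let b₀ := P.basisKaehler.reindex (Fintype.equivFinOfCardEq hc)
  have := Omega57.isIso_toSect f hW hV e
  let j := (asIso (OmAff.toSect f V W e)).toLinearEquiv
  refine ⟨⟨W, hW⟩, fun i => P.val ((Fintype.equivFinOfCardEq hc).symm i).1, b₀.map j, hxW, fun i => ?_⟩
  rw [Module.Basis.map_apply, Module.Basis.reindex_apply, Algebra.SubmersivePresentation.basisKaehler_apply]
  exact OmAff.toSect_d f V W e _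

/-- Fix an algebraically closed field k whose characteristic is p, and consider an integral k-scheme X
that is smooth and proper of dimension d, with canonical module ω taken to be a d-th exterior power
of Ω_{X/k}. Assume we have a scheme X~ that is flat over Spec W_2(k), a morphism i : X → X~
exhibiting X as the base change of X~ along Spec k → Spec W_2(k) (coming from the residue map), and
an endomorphism F~ of X~ satisfying i ∘ F_X = F~ ∘ i, with F_X denoting the absolute Frobenius; in
other words, a W_2-lifting of the Frobenius of X. Then, for any n ≥ 1 and any O_X-module N which is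
a tensor inverse of ω^{⊗(p^n − 1)}, the global sections H^0(X, N) form a nonzero group. (In the
publication the claim is that no such lifting exists for a proper smooth variety whose Kodaira
dimension is at least 1; what is formalized here is the non-vanishing of global sections that yields
this.) -/
theorem result
    (p : ℕ) [Fact p.Prime] (k : Type u) [Field k] [IsAlgClosed k] [CharP k p]
    (X : Scheme.{u}) (f : X ⟶ Spec (CommRingCat.of k)) [IsProper f] [Smooth f]
    [AlgebraicGeometry.IsIntegral X] [FrobSch.IsCharP X p]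
    (d : ℕ) (hd : topologicalKrullDim X = d)
    (W : X.Modules) (hW : ExtPow.IsExtPow d (Omega.sheaf f) W)
    (Xl : Scheme.{u}) (g : Xl ⟶ Spec (CommRingCat.of (FrobAlg.W2 p k))) [Flat g]
    (i : X ⟶ Xl) (hsq : IsPullback i f g (Spec.map (CommRingCat.ofHom (FrobAlg.res p k))))
    (Fl : Xl ⟶ Xl) (hF : i ≫ Fl = FrobSch.frob X p ≫ i)
    (n : ℕ) (hn : 0 < n) (N : X.Modules) (hN : ClSub.IsInverseOf N (CohB1.tensorPow W (p ^ n - 1))) :
    Nontrivial (Coh.HH X N 0) := by
  haveI : SmoothOfRelativeDimension d f := Var76.Kleiman.smoothOfRelativeDimension_of_dim f d hd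
  haveI : (Omega.sheaf f).IsQuasicoherent := Omega57.isQuasicoherent_omega f
  haveI : W.IsQuasicoherent := Om3.isQuasicoherent_of_isExtPow hW
  obtain ⟨φ, hφ⟩ := FrobDiv3.exists_hom hsq hF
  obtain ⟨χ, ψ, hψ⟩ := FrobDiv3.exists_wedge hW φ
  choose U t b hx hb using exists_chart f d
  let e : ∀ x, Γ(W, (U x).1) := fun x => χ (U x) (ιMulti _ d (b x))
  have he : ∀ x, Var76.LineBundle.IsFrame W (U x).1 (e x) := fun x => by
    refine Lift3.FrameLemmas.isFrame_of_bijective (U x).2 _ ?_
    have h1 := (χ (U x)).bijective.comp (Om3.DetSeq.bijective_smul_top (b x))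
    refine (congrArg Function.Bijective (funext fun a => ?_)).mp h1
    exact map_smul (χ (U x)) a _
  have hinv : PicF.IsInvertible W := Mero90.isInvertible_of_frames fun x => ⟨_, hx x, _, he x⟩
  obtain ⟨x⟩ : Nonempty X := inferInstance
  haveI : Nonempty (U x).1 := ⟨⟨x, hx x⟩⟩
  let S := Spec (CommRingCat.of k)
  let r := (Scheme.ΓSpecIso (CommRingCat.of k)).commRingCatIsoToRingEquiv
  letI : Field Γ(S, ⊤) := (r.toMulEquiv.isField (Field.toIsField k)).toField
  haveI : CharP Γ(S, ⊤) p := charP_of_injective_ringHom r.symm.injective p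
  letI := (f.appLE ⊤ (U x).1 le_top).hom.toAlgebra
  have := Omega57.isIso_toSect f (U x).2 (isAffineOpen_top S) (le_top : (U x).1 ≤ f ⁻¹ᵁ ⊤)
  let j := (asIso (OmAff.toSect f ⊤ (U x).1 le_top)).toLinearEquiv
  let bA : Module.Basis (Fin d) Γ(X, (U x).1) Ω[Γ(X, (U x).1)⁄Γ(S, ⊤)] := (b x).map j.symm
  have hj : ∀ a, j (KaehlerDifferential.D Γ(S, ⊤) Γ(X, (U x).1) a) = OmegaSh.dSect f (U x).1 a :=
    fun a => OmAff.toSect_d f ⊤ (U x).1 le_top a
  have hbA : ∀ l, bA l = KaehlerDifferential.D Γ(S, ⊤) Γ(X, (U x).1) (t x l) := fun l => by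
    rw [Module.Basis.map_apply, hb, ← hj]
    exact j.symm_apply_apply _
  choose c hc using fun l => hφ (U x).1 (U x).2 (t x l)
  have hdet := FrobDet31.det_ne_zero (t x) bA hbA p c
  refine FrobDiv3.nontrivial_hh_inverse ψ hinv n (he x) hdet ?_ hN
  refine (FrobDiv3.semi_wedge χ hψ (U x) (b x)).trans (congrArg (· • e x) (congrArg Matrix.det ?_))
  ext l m
  simp only [Matrix.of_apply]
  have hv : FrobDiv3.semi φ (U x).1 (b x l) =
      t x l ^ (p - 1) • b x l + OmegaSh.dSect f (U x).1 (c l) := by
    rw [hb]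
    exact hc l
  rw [hv, map_add, map_smul, Finsupp.add_apply, Finsupp.smul_apply, Module.Basis.repr_self, Finsupp.single_apply,
    Module.Basis.coord_apply, Module.Basis.map_repr, smul_eq_mul, mul_ite, mul_one, mul_zero]
  refine congrArg₂ (· + ·) (by simp [eq_comm]) ?_
  show _ = (b x).repr (j.symm.symm _) m
  rw [LinearEquiv.symm_symm, hj]

end Groth.Agent.S18157
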