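import Groth.Statements.S18161
import Groth.Agent.Sga84.FibreCard
import Groth.Agent.Hensel20.EtaleDescent
import Mathlib.AlgebraicGeometry.ValuativeCriterion
import Mathlib.AlgebraicGeometry.ZariskisMainTheorem

set_option autoImplicit false
universe u
open BSB

namespace Groth.Agent.S18161

open AlgebraicGeometry CategoryTheory CategoryTheory.Limits IsLocalRing

variable {T S : Scheme.{u}} (f : T ⟶ S)

/-- Geometric fibres have `d` points. -/
theorem card_points [Etale f] [QuasiCompact f] (d : ℕ)
    (hd : ∀ s : S, Module.finrank (S.residueField s) Γ(f.fiber s, ⊤) = d)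
    (Ω : Type u) [Field Ω] [IsAlgClosed Ω] (α : Spec (CommRingCat.of Ω) ⟶ S) :
    Finite {q : Spec (CommRingCat.of Ω) ⟶ T // q ≫ f = α} ∧
      Nat.card {q : Spec (CommRingCat.of Ω) ⟶ T // q ≫ f = α} = d := by
  obtain ⟨⟨s, φ⟩, rfl⟩ := (Scheme.SpecToEquivOfField Ω S).symm.surjective α
  have := Groth.Agent.Hensel20.locallyQuasiFinite_of_etale f
  have hfin : IsFinite (f.fiberToSpecResidueField s) := inferInstance
  have hetale : Etale (f.fiberToSpecResidueField s) := MorphismProperty.pullback_snd _ _ inferInstance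
  have : IsAffine (f.fiber s) := isAffine_of_isAffineHom (f.fiberToSpecResidueField s)
  let g : S.residueField s ⟶ Γ(f.fiber s, ⊤) :=
    (Scheme.ΓSpecIso (S.residueField s)).inv ≫ (f.fiberToSpecResidueField s).appTop
  have hg : (f.fiber s).isoSpec.inv ≫ f.fiberToSpecResidueField s = Spec.map g := by
    have h1 := Scheme.isoSpec_inv_naturality (f.fiberToSpecResidueField s)
    rw [← h1, Scheme.isoSpec_Spec_inv, ← Spec.map_comp]
  have hgfin : g.hom.Finite := by
    rw [← IsFinite.SpecMap_iff, ← hg]; infer_instance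
  have hget : g.hom.Etale := by
    rw [← HasRingHomProperty.Spec_iff (P := @Etale), ← hg]; infer_instance
  have : Algebra.Etale (S.residueField s) Γ(f.fiber s, ⊤) := hget
  have : Module.Finite (S.residueField s) Γ(f.fiber s, ⊤) := hgfin
  letI : Algebra (S.residueField s) Ω := φ.hom.toAlgebra
  obtain ⟨h1, h2⟩ := Groth.Agent.FibreCard84.natCard_algHom (S.residueField s) Γ(f.fiber s, ⊤) Ω
  let E : (Γ(f.fiber s, ⊤) →ₐ[S.residueField s] Ω) →
      {q : Spec (CommRingCat.of Ω) ⟶ T // q ≫ f = Spec.map φ ≫ S.fromSpecResidueField s} := fun a =>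
    ⟨Spec.map (CommRingCat.ofHom a.toRingHom) ≫ (f.fiber s).isoSpec.inv ≫ f.fiberι s, by
      have hcomp : g ≫ CommRingCat.ofHom a.toRingHom = φ := CommRingCat.hom_ext (RingHom.ext a.commutes)
      rw [Category.assoc, Category.assoc, show f.fiberι s ≫ f = f.fiberToSpecResidueField s ≫ S.fromSpecResidueField s
        from pullback.condition, reassoc_of% hg, ← Spec.map_comp_assoc, hcomp]⟩
  have hE : Function.Bijective E := by
    constructor
    · intro a b hab
      have h := congrArg Subtype.val hab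
      simp only [E] at h
      have key : Spec.map (CommRingCat.ofHom a.toRingHom) ≫ (f.fiber s).isoSpec.inv =
          Spec.map (CommRingCat.ofHom b.toRingHom) ≫ (f.fiber s).isoSpec.inv := by
        refine pullback.hom_ext ((Category.assoc _ _ _).trans (h.trans (Category.assoc _ _ _).symm)) ?_
        have ha : g ≫ CommRingCat.ofHom a.toRingHom = φ := CommRingCat.hom_ext (RingHom.ext a.commutes)
        have hb : g ≫ CommRingCat.ofHom b.toRingHom = φ := CommRingCat.hom_ext (RingHom.ext b.commutes)
        refine (Category.assoc _ _ _).trans (Eq.trans ?_ (Category.assoc _ _ _).symm)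
        show Spec.map (CommRingCat.ofHom a.toRingHom) ≫ ((f.fiber s).isoSpec.inv ≫ f.fiberToSpecResidueField s) =
          Spec.map (CommRingCat.ofHom b.toRingHom) ≫ ((f.fiber s).isoSpec.inv ≫ f.fiberToSpecResidueField s)
        rw [hg, ← Spec.map_comp, ← Spec.map_comp, ha, hb]
      rw [cancel_mono, Spec.map_inj] at key
      exact AlgHom.coe_ringHom_injective (congrArg CommRingCat.Hom.hom key)
    · rintro ⟨q, hq⟩
      let q' : Spec (CommRingCat.of Ω) ⟶ f.fiber s := pullback.lift q (Spec.map φ) hq
      obtain ⟨a, ha⟩ := Spec.map_surjective (q' ≫ (f.fiber s).isoSpec.hom)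
      have hga : g ≫ a = φ := Spec.map_injective <| by
        rw [Spec.map_comp, ha, ← hg, Category.assoc, Iso.hom_inv_id_assoc]
        exact pullback.lift_snd _ _ _
      refine ⟨{ a.hom with commutes' := fun r => DFunLike.congr_fun (congrArg CommRingCat.Hom.hom hga) r },
        Subtype.ext ?_⟩
      show Spec.map a ≫ (f.fiber s).isoSpec.inv ≫ f.fiberι s = q
      rw [ha, Category.assoc, Iso.hom_inv_id_assoc]
      exact pullback.lift_fst _ _ _
  let e := Equiv.ofBijective E hE
  exact ⟨Finite.of_equiv _ e, (Nat.card_congr e).symm.trans (h2.trans (hd s))⟩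

/-- Two lifts of a map from a local scheme agreeing at a point over the closed point are equal. -/
theorem lift_ext_of_closedPoint [Etale f] {V Ω : Type u} [CommRing V] [IsLocalRing V] [Field Ω]
    (ρ : V →+* Ω) [IsLocalHom ρ] {l₁ l₂ : Spec (CommRingCat.of V) ⟶ T} (h : l₁ ≫ f = l₂ ≫ f)
    (h0 : Spec.map (CommRingCat.ofHom ρ) ≫ l₁ = Spec.map (CommRingCat.ofHom ρ) ≫ l₂) : l₁ = l₂ := by
  let w : Spec (CommRingCat.of V) ⟶ pullback f f := pullback.lift l₁ l₂ h
  have hc : Spec.map (CommRingCat.ofHom ρ) (closedPoint Ω) = closedPoint V :=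
    IsLocalRing.comap_closedPoint ρ
  have hw : Spec.map (CommRingCat.ofHom ρ) ≫ w = (Spec.map (CommRingCat.ofHom ρ) ≫ l₁) ≫ pullback.diagonal f := by
    apply pullback.hom_ext
    · rw [Category.assoc, show w ≫ pullback.fst f f = l₁ from pullback.lift_fst _ _ _, Category.assoc,
        pullback.diagonal_fst, Category.comp_id]
    · rw [Category.assoc, show w ≫ pullback.snd f f = l₂ from pullback.lift_snd _ _ _, Category.assoc,
        pullback.diagonal_snd, Category.comp_id, h0]
  have hrange : Set.range w ⊆ Set.range (pullback.diagonal f) := by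
    rintro _ ⟨z, rfl⟩
    refine ((IsLocalRing.specializes_closedPoint z).map w.continuous).mem_open
      (pullback.diagonal f).isOpenEmbedding.isOpen_range ?_
    refine ⟨(Spec.map (CommRingCat.ofHom ρ) ≫ l₁) (closedPoint Ω), ?_⟩
    rw [← Scheme.Hom.comp_apply, ← hw, Scheme.Hom.comp_apply, hc]
  have hf := IsOpenImmersion.lift_fac (pullback.diagonal f) w hrange
  calc l₁ = w ≫ pullback.fst f f := (pullback.lift_fst _ _ _).symm
    _ = w ≫ pullback.snd f f := by
      rw [← hf, Category.assoc, Category.assoc, pullback.diagonal_fst, pullback.diagonal_snd]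
    _ = l₂ := pullback.lift_snd _ _ _

/-- Uniqueness over valuation rings with algebraically closed fraction field. -/
theorem lifts_unique [Etale f] [QuasiCompact f] [UniversallyClosed f] (d : ℕ)
    (hd : ∀ s : S, Module.finrank (S.residueField s) Γ(f.fiber s, ⊤) = d)
    (V K : Type u) [CommRing V] [IsDomain V] [ValuationRing V] [Field K] [IsAlgClosed K] [Algebra V K]
    [IsFractionRing V K] {l₁ l₂ : Spec (CommRingCat.of V) ⟶ T} (h : l₁ ≫ f = l₂ ≫ f)
    (hK : Spec.map (CommRingCat.ofHom (algebraMap V K)) ≫ l₁ =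
      Spec.map (CommRingCat.ofHom (algebraMap V K)) ≫ l₂) : l₁ = l₂ := by
  let α := l₂ ≫ f
  let Ω := AlgebraicClosure (ResidueField V)
  let ρ : V →+* Ω := (algebraMap (ResidueField V) Ω).comp (residue V)
  have : IsLocalHom ρ := RingHom.isLocalHom_comp _ _
  let L := {l : Spec (CommRingCat.of V) ⟶ T // l ≫ f = α}
  let b : L → {q : Spec (CommRingCat.of Ω) ⟶ T // q ≫ f = Spec.map (CommRingCat.ofHom ρ) ≫ α} :=
    fun l => ⟨Spec.map (CommRingCat.ofHom ρ) ≫ l.1, by rw [Category.assoc, l.2]⟩
  let a : L → {q : Spec (CommRingCat.of K) ⟶ T // q ≫ f = Spec.map (CommRingCat.ofHom (algebraMap V K)) ≫ α} :=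
    fun l => ⟨Spec.map (CommRingCat.ofHom (algebraMap V K)) ≫ l.1, by rw [Category.assoc, l.2]⟩
  have hb : Function.Injective b := fun x y hxy => Subtype.ext
    (lift_ext_of_closedPoint f ρ (x.2.trans y.2.symm) (congrArg Subtype.val hxy))
  have hex : ValuativeCriterion.Existence f := by
    have := (inferInstance : UniversallyClosed f)
    rw [UniversallyClosed.eq_valuativeCriterion] at this
    exact this.1
  have ha : Function.Surjective a := by
    rintro ⟨q, hq⟩
    obtain ⟨⟨l, hl1, hl2⟩⟩ := (hex { R := V, K := K, i₁ := q, i₂ := α, commSq := ⟨hq⟩ }).exists_lift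
    exact ⟨⟨l, hl2⟩, Subtype.ext hl1⟩
  obtain ⟨hfin, h0⟩ := card_points f d hd Ω (Spec.map (CommRingCat.ofHom ρ) ≫ α)
  obtain ⟨hfin1, h1⟩ := card_points f d hd K (Spec.map (CommRingCat.ofHom (algebraMap V K)) ≫ α)
  have : Finite L := Finite.of_injective b hb
  have hle : Nat.card L ≤ d := h0 ▸ Nat.card_le_card_of_injective b hb
  have hge : d ≤ Nat.card L := h1 ▸ Nat.card_le_card_of_surjective a ha
  have hbij : Function.Bijective a :=
    (Nat.bijective_iff_surjective_and_card a).mpr ⟨ha, by rw [h1]; omega⟩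
  exact congrArg Subtype.val (hbij.1 (a₁ := ⟨l₁, h⟩) (a₂ := ⟨l₂, rfl⟩) (Subtype.ext hK))

/-- Injective local maps of local rings detect morphisms. -/
theorem ext_of_injective {V W : Type u} [CommRing V] [IsLocalRing V] [CommRing W] [IsLocalRing W] (ψ : V →+* W)
    [IsLocalHom ψ] (hψ : Function.Injective ψ) {l₁ l₂ : Spec (CommRingCat.of V) ⟶ T}
    (h : Spec.map (CommRingCat.ofHom ψ) ≫ l₁ = Spec.map (CommRingCat.ofHom ψ) ≫ l₂) : l₁ = l₂ := by
  obtain ⟨⟨t₁, a₁, ha₁⟩, rfl⟩ := (SpecToEquivOfLocalRing T (CommRingCat.of V)).symm.surjective l₁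
  obtain ⟨⟨t₂, a₂, ha₂⟩, rfl⟩ := (SpecToEquivOfLocalRing T (CommRingCat.of V)).symm.surjective l₂
  change Spec.map _ ≫ Spec.map a₁ ≫ T.fromSpecStalk t₁ = Spec.map _ ≫ Spec.map a₂ ≫ T.fromSpecStalk t₂ at h
  have hpt : ∀ (t : T) (a : T.presheaf.stalk t ⟶ CommRingCat.of V), IsLocalHom a.hom →
      (Spec.map (CommRingCat.ofHom ψ) ≫ Spec.map a ≫ T.fromSpecStalk t) (closedPoint W) = t := by
    intro t a ha
    simp only [Scheme.Hom.comp_apply]
    rw [show Spec.map (CommRingCat.ofHom ψ) (closedPoint W) = closedPoint V from IsLocalRing.comap_closedPoint ψ,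
      show Spec.map a (closedPoint V) = closedPoint _ from IsLocalRing.comap_closedPoint a.hom]
    exact Scheme.fromSpecStalk_closedPoint
  obtain rfl : t₁ = t₂ := by rw [← hpt t₁ a₁ ha₁, h, hpt t₂ a₂ ha₂]
  rw [← Category.assoc, ← Category.assoc, cancel_mono, ← Spec.map_comp, ← Spec.map_comp, Spec.map_inj] at h
  have : a₁ = a₂ := CommRingCat.hom_ext (RingHom.ext fun x => hψ (congrArg (fun m => m.hom x) h))
  subst this
  rfl

theorem uniqueness [Etale f] [QuasiCompact f] [UniversallyClosed f] (d : ℕ)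
    (hd : ∀ s : S, Module.finrank (S.residueField s) Γ(f.fiber s, ⊤) = d) :
    ValuativeCriterion.Uniqueness f := by
  intro Sq
  refine ⟨fun x y => CommSq.LiftStruct.ext ?_⟩
  let Kb := AlgebraicClosure Sq.K
  let φ : Sq.R →+* Kb := (algebraMap Sq.K Kb).comp (algebraMap Sq.R Sq.K)
  have hφ : Function.Injective φ := (algebraMap Sq.K Kb).injective.comp (IsFractionRing.injective Sq.R Sq.K)
  obtain ⟨B, hB, hloc⟩ := (LocalSubring.range φ).exists_le_valuationSubring
  have hmem : ∀ r, φ r ∈ B := fun r => hB ⟨r, rfl⟩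
  let ψ : Sq.R →+* B := φ.codRestrict B.toSubring hmem
  have : IsLocalHom ψ := by
    constructor
    intro r hr
    have h1 : IsUnit (φ.rangeRestrict r) := hloc.map_nonunit (φ.rangeRestrict r) hr
    let e := RingEquiv.ofBijective φ.rangeRestrict ⟨fun a b h => hφ (congrArg Subtype.val h), φ.rangeRestrict_surjective⟩
    exact (MulEquiv.isUnit_map e).mp h1
  refine ext_of_injective ψ (fun a b h => hφ (congrArg Subtype.val h)) ?_
  refine lifts_unique f d hd B Kb ?_ ?_
  · rw [Category.assoc, Category.assoc, x.fac_right, y.fac_right]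
  · have hc : CommRingCat.ofHom ψ ≫ CommRingCat.ofHom (algebraMap B Kb) =
        CommRingCat.ofHom (algebraMap Sq.R Sq.K) ≫ CommRingCat.ofHom (algebraMap Sq.K Kb) := rfl
    rw [← Category.assoc, ← Spec.map_comp, ← Category.assoc, ← Spec.map_comp, hc, Spec.map_comp, Category.assoc,
      Category.assoc, x.fac_left, y.fac_left]


open AlgebraicGeometry CategoryTheory in
/-- Let f : T ⟶ S be an étale, quasi-compact, quasi-separated and universally closed morphism of
schemes, and suppose that for some natural number d the global functions of every scheme-theoretic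
fibre of f form a d-dimensional vector space over the residue field of the corresponding point of S.
Then f is finite. (Separatedness of f is not assumed.) -/
theorem result {T S : Scheme.{u}} (f : T ⟶ S)
    [Etale f] [QuasiCompact f] [QuasiSeparated f] [UniversallyClosed f] (d : ℕ)
    (hd : ∀ s : S, Module.finrank (S.residueField s) Γ(f.fiber s, ⊤) = d) :
    IsFinite f := by
  have : IsSeparated f := IsSeparated.of_valuativeCriterion f (uniqueness f d hd)
  have : IsProper f := ⟨⟩
  have := Groth.Agent.Hensel20.locallyQuasiFinite_of_etale f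
  exact IsFinite.of_isProper_of_locallyQuasiFinite f

end Groth.Agent.S18161
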