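import Groth.Statements.S18165
import Groth.Agent.EqHens25.Fixed
import Mathlib.AlgebraicGeometry.Morphisms.Smooth

set_option autoImplicit false
universe u
open BSB

namespace Groth.Agent.S18165

open AlgebraicGeometry CategoryTheory IsLocalRing

/-- Left translation transported along an enumeration. -/
abbrev transportAction {G α ι : Type*} [Group G] (e : G × α ≃ ι) : MulAction G ι where
  smul g i := e (g * (e.symm i).1, (e.symm i).2)
  one_smul i := by
    show e (1 * (e.symm i).1, (e.symm i).2) = i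
    simp
  mul_smul g h i := by
    show e (g * h * (e.symm i).1, (e.symm i).2) =
      e (g * (e.symm (e (h * (e.symm i).1, (e.symm i).2))).1, (e.symm (e (h * (e.symm i).1, (e.symm i).2))).2)
    simp [mul_assoc]

open MvPolynomial in
/-- Equivariant lifting of points of smooth algebras. -/
theorem exists_algHom {A : Type u} [CommRing A] [HenselianLocalRing A]
    {G : Type u} [Group G] [Finite G] [MulSemiringAction G A]
    (hG : IsUnit ((Nat.card G : ℕ) : ResidueField A))
    (htriv : ∀ (g : G) (a : A), g • a - a ∈ maximalIdeal A)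
    {B : Type u} [CommRing B] [Algebra A B] [Algebra.Smooth A B] (γ : G → (B →+* B))
    (hγA : ∀ g a, γ g (algebraMap A B a) = algebraMap A B (g • a))
    (hγ1 : ∀ b, γ 1 b = b) (hγmul : ∀ g h b, γ (g * h) b = γ g (γ h b))
    (χ : B →ₐ[A] ResidueField A) (hχ : ∀ g b, χ (γ g b) = χ b) :
    ∃ τ : B →ₐ[A] A, (∀ b, residue A (τ b) = χ b) ∧ ∀ g b, τ (γ g b) = g • τ b := by
  classical
  have : Fintype G := Fintype.ofFinite G
  have hGA : IsUnit (Fintype.card G : A) := by
    rw [Nat.card_eq_fintype_card] at hG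
    exact isUnit_of_map_unit (residue A) _ (by rwa [map_natCast])
  obtain ⟨n, π₀, hπ₀⟩ := Algebra.FiniteType.iff_quotient_mvPolynomial''.mp (inferInstance : Algebra.FiniteType A B)
  obtain ⟨N, ⟨e⟩⟩ : ∃ N, Nonempty (G × Fin n ≃ Fin N) := ⟨_, ⟨Fintype.equivFin _⟩⟩
  letI : MulAction G (Fin N) := transportAction e
  have hsmul : ∀ (g : G) i, g • i = e (g * (e.symm i).1, (e.symm i).2) := fun _ _ => rfl
  let gen : Fin N → B := fun i => γ (e.symm i).1 (π₀ (X (e.symm i).2))
  let π : MvPolynomial (Fin N) A →ₐ[A] B := aeval gen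
  have hπ : Function.Surjective π := by
    intro b
    obtain ⟨p, rfl⟩ := hπ₀ b
    refine ⟨rename (fun l => e (1, l)) p, ?_⟩
    rw [show π (rename (fun l => e (1, l)) p) = aeval (fun l => π₀ (X l)) p by
      simp [π, gen, aeval_rename, Function.comp_def, hγ1]]
    exact (DFunLike.congr_fun (aeval_unique π₀) p).symm
  have hπact : ∀ (g : G) p, π (Groth.Agent.EqHens25.act g p) = γ g (π p) := by
    intro g p
    induction p using MvPolynomial.induction_on with
    | C a => simp [π, hγA]
    | add p q hp hq => simp [hp, hq]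
    | mul_X p i hp =>
      simp only [map_mul, hp, Groth.Agent.EqHens25.act_X]
      congr 1
      show aeval gen (X (g • i)) = γ g (aeval gen (X i))
      rw [aeval_X, aeval_X]
      simp [gen, hsmul, hγmul]
  let P := MvPolynomial (Fin N) A
  let K : Ideal P := RingHom.ker π
  have hfg : K.FG := Algebra.FinitePresentation.ker_fG_of_surjective π hπ
  let π₂ : P ⧸ K ^ 2 →ₐ[A] B := Ideal.Quotient.liftₐ _ π fun a ha =>
    RingHom.mem_ker.mp (Ideal.pow_le_self two_ne_zero ha)
  have hπ₂ : Function.Surjective π₂ := fun b => by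
    obtain ⟨p, rfl⟩ := hπ b; exact ⟨Ideal.Quotient.mk _ p, rfl⟩
  have hnil : IsNilpotent (RingHom.ker π₂) := by
    have : RingHom.ker π₂ ≤ K.map (Ideal.Quotient.mkₐ A (K ^ 2)) := fun z hz => by
      obtain ⟨p, rfl⟩ := Ideal.Quotient.mk_surjective z
      exact Ideal.mem_map_of_mem (Ideal.Quotient.mkₐ A (K ^ 2)) (show p ∈ K from hz)
    refine ⟨2, le_bot_iff.mp ((Ideal.pow_right_mono this 2).trans ?_)⟩
    rw [← Ideal.map_pow, Ideal.map_le_iff_le_comap]
    exact fun p hp => Ideal.Quotient.eq_zero_iff_mem.mpr hp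
  let s : B →ₐ[A] P ⧸ K ^ 2 := Algebra.FormallySmooth.liftOfSurjective (AlgHom.id A B) π₂ hπ₂ hnil
  have hs : ∀ b, π₂ (s b) = b := Algebra.FormallySmooth.liftOfSurjective_apply _ π₂ hπ₂ hnil
  choose y hy using fun k => Ideal.Quotient.mk_surjective (s (gen k))
  have hcK : ∀ k, X k - y k ∈ K := fun k => by
    show π (X k - y k) = 0
    rw [map_sub, show π (y k) = π₂ (s (gen k)) from congrArg π₂ (hy k), hs, sub_eq_zero]
    simp [π]
  have hsplit : ∀ p ∈ K, p - ∑ k, pderiv k p * (X k - y k) ∈ K ^ 2 := by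
    intro p hp
    have h1 := Groth.Agent.Hensel20.aeval_add_sub_mem (A := A) (X : Fin N → P) (fun k => y k - X k)
      (fun k => by rw [← neg_sub]; exact neg_mem (hcK k)) p
    rw [show (X : Fin N → P) + (fun k => y k - X k) = y from funext fun k => add_sub_cancel _ _] at h1
    simp only [aeval_X_left_apply] at h1
    have h2 : aeval y p ∈ K ^ 2 := by
      rw [← Ideal.Quotient.eq_zero_iff_mem]
      have h3 : s.comp π = (Ideal.Quotient.mkₐ A (K ^ 2)).comp (aeval y) := MvPolynomial.algHom_ext fun k => by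
        simp [π, hy]
      exact (DFunLike.congr_fun h3 p).symm.trans ((congrArg s hp).trans (map_zero s))
    have h4 := sub_mem h2 h1
    convert h4 using 1
    rw [show ∑ k, pderiv k p * (X k - y k) = -∑ k, pderiv k p * (y k - X k) by
      rw [← Finset.sum_neg_distrib]; exact Finset.sum_congr rfl fun k _ => by ring]
    ring
  choose x₀ hx₀ using fun k => residue_surjective (χ (gen k))
  have hev : ∀ p : P, residue A (eval x₀ p) = χ (π p) := by
    intro p
    induction p using MvPolynomial.induction_on with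
    | C a => simp [π]
    | add p q hp hq => simp [hp, hq]
    | mul_X p i hp => simp [hp, hx₀, π]
  have hK : ∀ (g : G), ∀ p ∈ K, Groth.Agent.EqHens25.act g p ∈ K := fun g p hp => by
    show π _ = 0
    rw [hπact, show π p = 0 from hp, map_zero]
  obtain ⟨a, ha, hag, hax⟩ := Groth.Agent.EqHens25.exists_fixed_point hGA htriv K hfg hK _ hcK hsplit x₀
    (fun p hp => by rw [← residue_eq_zero_iff, hev, show π p = 0 from hp, map_zero]) (fun g k => by
      rw [← residue_eq_zero_iff, map_sub, hx₀, hx₀, sub_eq_zero]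
      rw [← hχ g (gen k)]
      congr 1
      simp [gen, hsmul, hγmul])
  let τ₀ : P ⧸ K →ₐ[A] A := Ideal.Quotient.liftₐ K (aeval a) fun p hp => by rw [aeval_eq_eval]; exact ha p hp
  let τ : B →ₐ[A] A := τ₀.comp (Ideal.quotientKerAlgEquivOfSurjective hπ).symm.toAlgHom
  have hτ : ∀ p, τ (π p) = eval a p := fun p => by
    show τ₀ ((Ideal.quotientKerAlgEquivOfSurjective hπ).symm (π p)) = _
    rw [Ideal.quotientKerAlgEquivOfSurjective_symm_apply]
    show aeval a p = _
    rw [aeval_eq_eval]
  refine ⟨τ, fun b => ?_, fun g b => ?_⟩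
  · obtain ⟨p, rfl⟩ := hπ b
    rw [hτ, ← hev, ← sub_eq_zero, ← map_sub, residue_eq_zero_iff]
    exact Groth.Agent.EqHens25.eval_sub_mem a x₀ hax p
  · obtain ⟨p, rfl⟩ := hπ b
    rw [← hπact, hτ, hτ, Groth.Agent.EqHens25.eval_act]
    rw [show (fun k => g⁻¹ • a (g • k)) = a from funext fun k => by rw [← hag, inv_smul_smul]]

/-- An affine open neighbourhood stable under the action. -/
theorem exists_stable_affine {X : Scheme.{u}} {G : Type u} [Group G] [Finite G] (σ : G → (X ⟶ X))
    (hσ1 : σ 1 = 𝟙 X) (hσmul : ∀ g h : G, σ (g * h) = σ g ≫ σ h) (x : X) (hx : ∀ g, σ g x = x) :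
    ∃ V : X.Opens, IsAffineOpen V ∧ x ∈ V ∧ ∀ g, σ g ⁻¹ᵁ V = V := by
  classical
  have : Fintype G := Fintype.ofFinite G
  obtain ⟨U, hU', hxU, -⟩ := X.isBasis_affineOpens.exists_subset_of_mem_open (Set.mem_univ x) isOpen_univ
  obtain ⟨U, hU, rfl⟩ := hU'
  let W : X.Opens := Finset.univ.inf fun g => σ g ⁻¹ᵁ U
  have hW : ∀ g, W ≤ σ g ⁻¹ᵁ U := fun g => Finset.inf_le (Finset.mem_univ g)
  have hmem : ∀ (f : G → X.Opens) (z : X), z ∈ Finset.univ.inf f ↔ ∀ g, z ∈ f g := by
    intro f z
    rw [← SetLike.mem_coe, TopologicalSpace.Opens.coe_finset_inf]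
    simp [Finset.inf_eq_iInf]
  have hxW : x ∈ W := (hmem _ _).mpr fun g => by
    show σ g x ∈ U
    rw [hx]; exact hxU
  have hWU : W ≤ U := fun z hz => by
    have := (hmem _ _).mp hz 1
    rw [hσ1] at this
    exact this
  obtain ⟨f, hfW, hxf⟩ := hU.exists_basicOpen_le ⟨x, hxW⟩ hxU
  let V₀ := X.basicOpen f
  have hV₀ : IsAffineOpen V₀ := hU.basicOpen f
  have hle : ∀ g, V₀ ≤ σ g ⁻¹ᵁ U := fun g => hfW.trans (hW g)
  let r : G → Γ(X, V₀) := fun g => (σ g).appLE U V₀ (hle g) f
  have hr : ∀ g, X.basicOpen (r g) = V₀ ⊓ σ g ⁻¹ᵁ V₀ := fun g => Scheme.basicOpen_appLE _ _ _ _ _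
  let V : X.Opens := X.basicOpen (∏ g, r g)
  have hV : ∀ z, z ∈ V ↔ ∀ g, σ g z ∈ V₀ := by
    intro z
    constructor
    · intro hz g
      have h1 : z ∈ X.basicOpen (r g) := by
        have : X.basicOpen (∏ g, r g) ≤ X.basicOpen (r g) := by
          rw [← Finset.mul_prod_erase Finset.univ r (Finset.mem_univ g), X.basicOpen_mul]
          exact inf_le_left
        exact this hz
      rw [hr] at h1
      exact h1.2
    · intro hz
      have hz1 : z ∈ V₀ := by simpa [hσ1] using hz 1
      have key : ∀ s : Finset G, z ∈ X.basicOpen (∏ g ∈ s, r g) := by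
        intro s
        induction s using Finset.induction_on with
        | empty => rw [Finset.prod_empty, X.basicOpen_of_isUnit isUnit_one]; exact hz1
        | insert g s hg ih =>
          rw [Finset.prod_insert hg, X.basicOpen_mul, hr]
          exact ⟨⟨hz1, hz g⟩, ih⟩
      exact key _
  refine ⟨V, hV₀.basicOpen _, (hV x).mpr fun g => by rw [hx]; exact hxf, fun h => ?_⟩
  ext z
  show σ h z ∈ V ↔ z ∈ V
  rw [hV, hV]
  have e : ∀ g, σ g (σ h z) = σ (h * g) z := fun g => by rw [hσmul]; rfl
  simp only [e]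
  exact ⟨fun H g => by simpa using H (h⁻¹ * g), fun H g => H (h * g)⟩


open AlgebraicGeometry CategoryTheory in
/-- Let A be a Henselian local ring with residue field κ and f : X ⟶ Spec A a smooth morphism. Let a
finite group G, of order invertible in κ, act on A by ring automorphisms inducing the identity on κ,
and on X by morphisms σ_g with σ_1 = 𝟙 and σ_{gh} = σ_g ≫ σ_h, compatibly with f (σ_g ≫ f = f ≫ Spec
of the action of g on A). If x is a κ-point of X over the closed point that is fixed by every σ_g,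
then f has a section a : Spec A ⟶ X through x which is equivariant: Spec of the action of g,
followed by a, equals a followed by σ_g. -/
theorem result (A : Type u) [CommRing A] [HenselianLocalRing A]
    (X : Scheme.{u}) (f : X ⟶ Spec (CommRingCat.of A)) [Smooth f]
    (G : Type u) [Group G] [Finite G] [MulSemiringAction G A]
    (hG : IsUnit ((Nat.card G : ℕ) : IsLocalRing.ResidueField A))
    (htriv : ∀ (g : G) (a : A), g • a - a ∈ IsLocalRing.maximalIdeal A)
    (σ : G → (X ⟶ X)) (hσ1 : σ 1 = 𝟙 X) (hσmul : ∀ g h : G, σ (g * h) = σ g ≫ σ h)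
    (hσf : ∀ g : G, σ g ≫ f = f ≫ Spec.map (CommRingCat.ofHom (MulSemiringAction.toRingHom G A g)))
    (x : Spec (CommRingCat.of (IsLocalRing.ResidueField A)) ⟶ X)
    (hx : x ≫ f = Spec.map (CommRingCat.ofHom (IsLocalRing.residue A)))
    (hfix : ∀ g : G, x ≫ σ g = x) :
    ∃ a : Spec (CommRingCat.of A) ⟶ X, a ≫ f = 𝟙 _ ∧
      Spec.map (CommRingCat.ofHom (IsLocalRing.residue A)) ≫ a = x ∧
      ∀ g : G, Spec.map (CommRingCat.ofHom (MulSemiringAction.toRingHom G A g)) ≫ a = a ≫ σ g := by
  obtain ⟨V, hV, hxV, hVσ⟩ := exists_stable_affine σ hσ1 hσmul (x (closedPoint _)) fun g => by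
    show (x ≫ σ g) (closedPoint _) = _
    rw [hfix]
  let B : Type u := Γ(X, V)
  let j : Spec (CommRingCat.of B) ⟶ X := hV.fromSpec
  have hj : ∀ g, Set.range (j ≫ σ g) ⊆ Set.range j := by
    rintro g _ ⟨z, rfl⟩
    rw [hV.range_fromSpec]
    have : j z ∈ σ g ⁻¹ᵁ V := by
      rw [hVσ]
      exact hV.range_fromSpec.le ⟨z, rfl⟩
    exact this
  let γ : G → (CommRingCat.of B ⟶ CommRingCat.of B) := fun g => Spec.preimage (IsOpenImmersion.lift j (j ≫ σ g) (hj g))
  have hγ : ∀ g, Spec.map (γ g) ≫ j = j ≫ σ g := fun g => by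
    rw [Spec.map_preimage, IsOpenImmersion.lift_fac]
  let ψ := Spec.preimage (j ≫ f)
  letI : Algebra A B := ψ.hom.toAlgebra
  have : Algebra.Smooth A B := by
    have h : Smooth (Spec.map ψ) := by rw [Spec.map_preimage]; infer_instance
    exact HasRingHomProperty.Spec_iff.mp h
  have hr : Set.range x ⊆ Set.range j := by
    rintro _ ⟨z, rfl⟩
    rw [hV.range_fromSpec, Subsingleton.elim z (closedPoint _)]
    exact hxV
  let φ := Spec.preimage (IsOpenImmersion.lift j x hr)
  have hφ : Spec.map φ ≫ j = x := by rw [Spec.map_preimage, IsOpenImmersion.lift_fac]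
  have hψ : Spec.map ψ = j ≫ f := Spec.map_preimage _
  have hψφ : ψ ≫ φ = CommRingCat.ofHom (residue A) := Spec.map_injective <| by
    rw [Spec.map_comp, hψ, ← Category.assoc, hφ, hx]
  obtain ⟨τ, hτ, hτg⟩ := exists_algHom (B := B) hG htriv (fun g => (γ g).hom) (fun g a => by
      have : ψ ≫ γ g = CommRingCat.ofHom (MulSemiringAction.toRingHom G A g) ≫ ψ := Spec.map_injective <| by
        rw [Spec.map_comp, Spec.map_comp, hψ, ← Category.assoc, hγ, Category.assoc, hσf, ← Category.assoc]
      exact DFunLike.congr_fun (congrArg CommRingCat.Hom.hom this) a) (fun b => by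
      have : γ 1 = 𝟙 _ := Spec.map_injective <| by
        rw [← cancel_mono j, hγ, hσ1, Spec.map_id, Category.comp_id, Category.id_comp]
      exact DFunLike.congr_fun (congrArg CommRingCat.Hom.hom this) b) (fun g h b => by
      have : γ (g * h) = γ h ≫ γ g := Spec.map_injective <| by
        rw [← cancel_mono j, hγ, Spec.map_comp, Category.assoc, hγ, hσmul, ← Category.assoc, ← hγ g,
          Category.assoc]
      exact DFunLike.congr_fun (congrArg CommRingCat.Hom.hom this) b)
    { φ.hom with commutes' := fun a => RingHom.congr_fun (congrArg CommRingCat.Hom.hom hψφ) a }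
    (fun g b => by
      have : γ g ≫ φ = φ := Spec.map_injective <| by
        rw [← cancel_mono j, Spec.map_comp, Category.assoc, hγ, ← Category.assoc, hφ, hfix]
      exact DFunLike.congr_fun (congrArg CommRingCat.Hom.hom this) b)
  let t : CommRingCat.of B ⟶ CommRingCat.of A := CommRingCat.ofHom τ.toRingHom
  refine ⟨Spec.map t ≫ j, ?_, ?_, fun g => ?_⟩
  · rw [Category.assoc, ← hψ, ← Spec.map_comp]
    exact (congrArg Spec.map (CommRingCat.hom_ext (RingHom.ext τ.commutes) : ψ ≫ t = 𝟙 _)).trans (Spec.map_id _)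
  · rw [← Category.assoc, ← Spec.map_comp,
      show t ≫ CommRingCat.ofHom (residue A) = φ from CommRingCat.hom_ext (RingHom.ext hτ), hφ]
  · rw [Category.assoc, ← hγ, ← Category.assoc, ← Category.assoc, ← Spec.map_comp, ← Spec.map_comp]
    congr 2
    exact CommRingCat.hom_ext (RingHom.ext fun b => (hτg g b).symm)

end Groth.Agent.S18165
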