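import Groth.Statements.S18175
import Groth.Agent.LLS31.Bridge

set_option autoImplicit false
open FunFld

namespace Groth.Agent.S18175

/-- Let `k` be an algebraically closed field of characteristic zero and `K/k` a function field of one
variable (the function field of a smooth projective curve over `k`). A `g^r_d` is a divisor `D` of
degree `d` with a subspace `V ⊆ L(D)` of dimension `r + 1`; for a place `P` and `n ≥ 0`, `V(-nP) = V
∩ L(D - nP)` is the space of members vanishing to order at least `n` at `P`, so `dim V(-nP)` counts
the vanishing orders `m_0 < ⋯ < m_r` of `V` at `P` that are at least `n`, and the weight of `V` at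
`P` is `∑_{n=1}^{d} dim V(-nP) - r(r+1)/2`. Assume `K` has genus `0` and the `g^r_d` `(D, V)` has at
least a cusp at the place `Q` (`dim V(-2Q) ≥ r`), and let `P, P'` be places other than `Q`. Then up
to a constant factor there is at most one member of `V` vanishing only at `P` and `P'`: if `f, g ∈
V` are nonzero and the divisors `div f + D`, `div g + D` are both supported on `{P, P'}`, then `g =
c f` for some `c ∈ k`. (In the source `Q` is the point where the rational component `Y` meets a
chain of curves ending in a curve of positive genus, a situation that forces the cusp condition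
assumed here.) (The source states this for curves over the complex numbers.) -/
theorem result
    (k : Type*) [Field k] [IsAlgClosed k] [CharZero k]
    (K : Type*) [Field K] [Algebra k K] (hK : FunFld.IsFunctionField k K) (hg0 : FunFld.genus k K = 0)
    (d r : ℕ) (D : FunFld.Divisor k K) (hD : D.deg = d)
    (V : Submodule k K) (hV : V ≤ FunFld.L D) (hVr : Module.finrank k ↥V = r + 1)
    (Q : FunFld.Place k K) (hcusp : r ≤ Module.finrank k ↥(V ⊓ FunFld.L (D - Finsupp.single Q ((2 : ℤ)))))
    (P P' : FunFld.Place k K) (hP : P ≠ Q) (hP' : P' ≠ Q)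
    (f g : K) (hf : f ∈ V) (hg : g ∈ V) (hf0 : f ≠ 0) (hg0' : g ≠ 0)
    (hfs : ∀ R : FunFld.Place k K, R ≠ P → R ≠ P' → (FunFld.div k f + D) R = 0)
    (hgs : ∀ R : FunFld.Place k K, R ≠ P → R ≠ P' → (FunFld.div k g + D) R = 0) :
    ∃ c : k, g = c • f := by
  have hs := Groth.Agent.LLS31.isSeries_of hK hD hV hVr
  have hval : ∀ x ∈ V, x ≠ 0 → ∀ R : FunFld.Place k K, (FunFld.div k x + D) R = 0 →
      R.1 x = WithZero.exp (D R) := by
    intro x hx hx0 R h0
    rw [Finsupp.add_apply,
      Groth.Agent.LLS31.div_apply_of_mem_L hK hs.neg (hV hx) hx0 R] at h0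
    rw [← WithZero.exp_log (x := R.1 x) (by simpa using hx0)]
    congr 1
    rw [FunFld.Place.ord] at h0
    omega
  exact (Groth.Agent.LLS31.isGenusZero_of hK hg0).eq_smul_of_supported hs hcusp hP hP' hf hg hf0
    hg0' (fun R h1 h2 => hval f hf hf0 R (hfs R h1 h2)) (fun R h1 h2 => hval g hg hg0' R (hgs R h1 h2))

end Groth.Agent.S18175
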