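import Groth.Statements.S18182
import Groth.Agent.LLS31.GenusPos
import Groth.Agent.Exp31.Good
import Groth.Agent.FF30.Degree

set_option autoImplicit false
open FunFld

namespace Groth.Agent.S18182

/-- Let `k` be an algebraically closed field of characteristic zero and `K/k` a function field of one
variable (the function field of a smooth projective curve over `k`). A `g^r_d` is a divisor `D` of
degree `d` with a subspace `V ⊆ L(D)` of dimension `r + 1`; for a place `P` and `n ≥ 0`, `V(-nP) = V
∩ L(D - nP)` is the space of members vanishing to order at least `n` at `P`, so `dim V(-nP)` counts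
the vanishing orders `m_0 < ⋯ < m_r` of `V` at `P` that are at least `n`, and the weight of `V` at
`P` is `∑_{n=1}^{d} dim V(-nP) - r(r+1)/2`. Assume `K` has genus one, fix a place `P` and natural
numbers `d` and `r ≥ 1`. Then only finitely many places `Q ≠ P` admit a `g^r_d` `(D, V)` whose
weights at `P` and `Q` are large in the sense `w(V, P) + w(V, Q) ≥ (r+1)(d-r) - (r-1)`, that is
`(r+1)d + 1 ≤ ∑_{n=1}^{d} dim V(-nP) + ∑_{n=1}^{d} dim V(-nQ) + r`. (In the source `K` is an
elliptic tail of a flag curve degenerating a general curve of genus `g`, `P` its node, `Q` the limit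
of a moving ramification point, and the weight hypothesis is what `ρ ≤ 0` gives; the finiteness of
torsion points of bounded order on an elliptic curve is used.) (The source states this for curves
over the complex numbers.) -/
theorem result
    (k : Type*) [Field k] [IsAlgClosed k] [CharZero k]
    (K : Type*) [Field K] [Algebra k K] (hK : FunFld.IsFunctionField k K) (hg1 : FunFld.genus k K = 1)
    (P : FunFld.Place k K) (d r : ℕ) (hr : 1 ≤ r) :
    Set.Finite {Q : FunFld.Place k K | Q ≠ P ∧ ∃ (D : FunFld.Divisor k K) (V : Submodule k K),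
      D.deg = d ∧ V ≤ FunFld.L D ∧ Module.finrank k ↥V = r + 1 ∧
      (r + 1) * d + 1 ≤
        (∑ n ∈ Finset.range d, Module.finrank k ↥(V ⊓ FunFld.L (D - Finsupp.single P ((n : ℤ) + 1)))) +
          (∑ n ∈ Finset.range d, Module.finrank k ↥(V ⊓ FunFld.L (D - Finsupp.single Q ((n : ℤ) + 1)))) + r} := by
  classical
  have hfin : (⋃ m ∈ Finset.Icc 1 d, {Q : Place k K | ∃ g ∈ L (Finsupp.single P (m : ℤ)), g ≠ 0 ∧
      Q.1 g ≤ WithZero.exp (-(Module.finrank k ↥(L (Finsupp.single P (m : ℤ))) : ℤ))}).Finite :=
    Set.Finite.biUnion (Finset.finite_toSet _) fun m _ => by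
      have := Groth.Agent.LLS31.finiteDimensional_L hK (Finsupp.single P (m : ℤ)) P
      exact Groth.Agent.Exp31.finite_setOf_exists_vanish hK _
  refine hfin.subset ?_
  rintro Q ⟨hQP, D, V, hD, hV, hr', hw⟩
  have hs := Groth.Agent.LLS31.isSeries_of hK hD hV hr'
  obtain ⟨m, hm1, hmd, x, hx0, hdiv⟩ := hs.exists_principal_multiple (Ne.symm hQP) hw
  have hord : ∀ R : Place k K, R.ord x = (Finsupp.single Q (m : ℤ) - Finsupp.single P (m : ℤ)) R := by
    intro R
    rw [← (Groth.Agent.FF30.FF.of_isFunctionField hK).div_apply x R, hdiv]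
  refine Set.mem_biUnion (Finset.mem_Icc.2 ⟨hm1, hmd⟩) ⟨x, fun R => ?_, hx0, ?_⟩
  · rw [Groth.Agent.FF30.val_eq R hx0, hord, WithZero.exp_le_exp, Finsupp.sub_apply]
    simp only [Finsupp.single_apply]
    split_ifs <;> omega
  · rw [Groth.Agent.FF30.val_eq Q hx0, hord, WithZero.exp_le_exp, Finsupp.sub_apply,
      Finsupp.single_eq_same, Finsupp.single_eq_of_ne hQP]
    have := Groth.Agent.LLS31.finrank_L_single_le hK (by omega) P m hm1
    omega

end Groth.Agent.S18182
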