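import Groth.Statements.S18189
import Groth.Agent.OrbRR52.Basic
import Mathlib.Tactic

set_option autoImplicit false
open OrbRR

namespace Groth.Agent.S18189

/-- Let N ≥ 1 be a natural number, let ζ ∈ ℂ be a primitive N-th root of unity, and put f(i) = i(i −
N)/2 + (N² − 1)/12 for 0 ≤ i < N. For every natural number m the complex number ε_m = (1/N)
∑_{i=0}^{N−1} f(i) ζ^{mi}, an eigenvalue of the symmetric circulant N × N matrix with (i, j) entry
f(j − i)/N, is real and nonnegative. -/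
theorem result (N : ℕ) (hN : 0 < N) (ζ : ℂ)
    (hζ : IsPrimitiveRoot ζ N) (m : ℕ) :
    (∑ i ∈ Finset.range N,
        ((i : ℂ) * ((i : ℂ) - (N : ℂ)) / 2 + ((N : ℂ) ^ 2 - 1) / 12) / (N : ℂ) * ζ ^ (m * i)).im = 0 ∧
    0 ≤ (∑ i ∈ Finset.range N,
        ((i : ℂ) * ((i : ℂ) - (N : ℂ)) / 2 + ((N : ℂ) ^ 2 - 1) / 12) / (N : ℂ) * ζ ^ (m * i)).re := by
  have key : ∑ i ∈ Finset.range N,
      ((i : ℂ) * ((i : ℂ) - (N : ℂ)) / 2 + ((N : ℂ) ^ 2 - 1) / 12) / (N : ℂ) * ζ ^ (m * i) =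
      (((∑ l ∈ Finset.Ioo 0 N, if N ∣ l + m then (Complex.normSq (1 - ζ ^ l))⁻¹ else 0 : ℝ)) : ℂ) := by
    rw [Finset.sum_congr rfl fun i hi => by
      rw [← Groth.Agent.OrbRR52.trig_eq (K := ℂ) (by norm_num) hζ (Finset.mem_range.mp hi),
        Groth.Agent.OrbRR52.trig, Finset.sum_div, Finset.sum_mul]]
    rw [Finset.sum_comm, Complex.ofReal_sum]
    refine Finset.sum_congr rfl fun l _ => ?_
    rw [Groth.Agent.OrbRR52.denom_eq_normSq hN.ne' hζ l, Finset.sum_congr rfl fun i _ =>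
      show ζ ^ (l * i) / ((Complex.normSq (1 - ζ ^ l) : ℝ) : ℂ) / (N : ℂ) * ζ ^ (m * i) =
        ζ ^ (i * (l + m)) * (((Complex.normSq (1 - ζ ^ l) : ℝ) : ℂ)⁻¹ * (N : ℂ)⁻¹) by
          rw [mul_add i, pow_add, mul_comm i l, mul_comm i m]; ring, ← Finset.sum_mul]
    split_ifs with h
    · obtain ⟨c, hc⟩ := h
      rw [Finset.sum_congr rfl fun i _ => show ζ ^ (i * (l + m)) = 1 by
        rw [hc, mul_comm i, mul_assoc, pow_mul, hζ.pow_eq_one, one_pow], Finset.sum_const, Finset.card_range,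
        nsmul_eq_mul, mul_one, Complex.ofReal_inv]
      field_simp [Nat.cast_ne_zero.mpr hN.ne']
    · rw [Groth.Agent.OrbRR52.sum_range_pow hζ h, zero_mul, Complex.ofReal_zero]
  rw [key]
  refine ⟨Complex.ofReal_im _, ?_⟩
  rw [Complex.ofReal_re]
  refine Finset.sum_nonneg fun l _ => ?_
  split_ifs
  · exact inv_nonneg.mpr (Complex.normSq_nonneg _)
  · exact le_rfl

end Groth.Agent.S18189
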