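import Groth.Statements.S18190
import Groth.Agent.OrbRR52.Basic
import Mathlib.Tactic
import Mathlib.LinearAlgebra.Matrix.PosDef
import Mathlib.RingTheory.RootsOfUnity.Complex

set_option autoImplicit false
open OrbRR

namespace Groth.Agent.S18190

/-- Let N ≥ 1 and let f : ℤ/Nℤ → ℚ be f(x) = x(x − N)/2 + (N² − 1)/12, where x is read as its
representative with 0 ≤ x < N. The real N × N matrix indexed by ℤ/Nℤ whose (i, j) entry is f(j −
i)/N, a symmetric circulant matrix, is positive semidefinite. -/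
theorem result (N : ℕ) [NeZero N] :
    (Matrix.of fun i j : ZMod N =>
        ((((j - i).val : ℝ) * (((j - i).val : ℝ) - (N : ℝ))) / 2 + ((N : ℝ) ^ 2 - 1) / 12) / (N : ℝ)).PosSemidef := by
  have hN : 0 < N := Nat.pos_of_ne_zero (NeZero.ne N)
  obtain ⟨ζ, hζ⟩ : ∃ ζ : ℂ, IsPrimitiveRoot ζ N := ⟨_, Complex.isPrimitiveRoot_exp N hN.ne'⟩
  refine Matrix.PosSemidef.of_dotProduct_mulVec_nonneg ?_ fun v => ?_
  · ext i j
    simp only [Matrix.conjTranspose_apply, Matrix.of_apply, star_trivial]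
    rcases eq_or_ne i j with rfl | hij
    · rfl
    · haveI : NeZero (j - i) := ⟨sub_ne_zero.mpr (Ne.symm hij)⟩
      rw [← neg_sub j i, ZMod.val_neg_of_ne_zero, Nat.cast_sub (ZMod.val_lt _).le]
      ring
  · have key : ((star v ⬝ᵥ (Matrix.of fun i j : ZMod N =>
        ((((j - i).val : ℝ) * (((j - i).val : ℝ) - (N : ℝ))) / 2 + ((N : ℝ) ^ 2 - 1) / 12) / (N : ℝ)).mulVec v : ℝ) : ℂ) =
        (((∑ l ∈ Finset.Ioo 0 N, (Complex.normSq (1 - ζ ^ l))⁻¹ * (N : ℝ)⁻¹ *
          Complex.normSq (∑ j : ZMod N, (v j : ℂ) * ζ ^ (l * j.val)) : ℝ)) : ℂ) := by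
      have hl : ∀ l : ℕ, ((Complex.normSq (∑ j : ZMod N, (v j : ℂ) * ζ ^ (l * j.val)) : ℝ) : ℂ) =
          ∑ i : ZMod N, ∑ j : ZMod N, (v i : ℂ) * (v j : ℂ) * ((starRingEnd ℂ) (ζ ^ (l * i.val)) * ζ ^ (l * j.val)) := by
        intro l
        rw [Complex.normSq_eq_conj_mul_self, map_sum, Finset.sum_mul_sum]
        refine Finset.sum_congr rfl fun i _ => Finset.sum_congr rfl fun j _ => ?_
        rw [map_mul, Complex.conj_ofReal]
        ring
      simp only [dotProduct, Matrix.mulVec, Matrix.of_apply, star_trivial, Finset.mul_sum, Complex.ofReal_sum,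
        Complex.ofReal_mul, Complex.ofReal_inv, Complex.ofReal_natCast, hl]
      push_cast
      rw [Finset.sum_comm (s := Finset.Ioo 0 N)]
      refine Finset.sum_congr rfl fun i _ => ?_
      rw [Finset.sum_comm (s := Finset.Ioo 0 N)]
      refine Finset.sum_congr rfl fun j _ => ?_
      rw [← Groth.Agent.OrbRR52.trig_eq (K := ℂ) (by norm_num) hζ (ZMod.val_lt (j - i)),
        Groth.Agent.OrbRR52.trig, Finset.sum_div, Finset.sum_mul, Finset.mul_sum]
      refine Finset.sum_congr rfl fun l _ => ?_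
      rw [Groth.Agent.OrbRR52.denom_eq_normSq hN.ne' hζ l]
      have hmod : ζ ^ (l * (j - i).val) * ζ ^ (l * i.val) = ζ ^ (l * j.val) := by
        rw [← pow_add, ← mul_add]
        have h2 : (((j - i).val + i.val : ℕ) : ZMod N) = ((j.val : ℕ) : ZMod N) := by simp
        have h1 : l * ((j - i).val + i.val) ≡ l * j.val [MOD N] :=
          ((ZMod.natCast_eq_natCast_iff _ _ _).mp h2).mul_left _
        exact pow_eq_pow_of_modEq h1 hζ.pow_eq_one
      have hconj : (starRingEnd ℂ) (ζ ^ (l * i.val)) * ζ ^ (l * i.val) = 1 := by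
        rw [← Complex.normSq_eq_conj_mul_self, Complex.normSq_eq_norm_sq, norm_pow, hζ.norm'_eq_one hN.ne']
        simp
      rw [← hmod, show (starRingEnd ℂ) (ζ ^ (l * i.val)) = (ζ ^ (l * i.val))⁻¹ from eq_inv_of_mul_eq_one_left hconj]
      have hne : ζ ^ (l * i.val) ≠ 0 := pow_ne_zero _ (hζ.ne_zero hN.ne')
      field_simp
    rw [Complex.ofReal_inj.mp key]
    exact Finset.sum_nonneg fun l _ => mul_nonneg (mul_nonneg (inv_nonneg.mpr (Complex.normSq_nonneg _))
      (inv_nonneg.mpr (Nat.cast_nonneg _))) (Complex.normSq_nonneg _)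

end Groth.Agent.S18190
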