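import Groth.Statements.S18199
import Groth.Agent.LocImm58.Factor
import Mathlib.AlgebraicGeometry.Morphisms.Proper

set_option autoImplicit false
universe u
open LocImm

namespace Groth.Agent.S18199

open CategoryTheory AlgebraicGeometry in
/-- A separated, universally closed morphism of Noetherian schemes that is essentially of finite type is
proper; thus no new class of proper-like morphisms arises among essentially finite-type ones. -/
theorem result {X S : Scheme.{u}} [IsNoetherian X] [IsNoetherian S] (f : X ⟶ S) [IsSeparated f] [EssFT.EssFiniteType f] [UniversallyClosed f] : IsProper f := by
  obtain ⟨Y, k, p, _, hk, _, _, _, rfl⟩ := Groth.Agent.LocImm58.exists_factorization f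
  have : UniversallyClosed k := UniversallyClosed.of_comp_of_isSeparated k p
  have : IsOpenImmersion k := Groth.Agent.LocImm58.isOpenImmersion_of_isClosed_range k hk
    k.isClosedMap.isClosed_range
  exact {}

end Groth.Agent.S18199
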