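import Groth.Statements.S18200
import Groth.Agent.LocImm58.Locus
import Groth.Agent.S0385
import Mathlib.AlgebraicGeometry.ZariskisMainTheorem

set_option autoImplicit false
universe u
open LocImm

namespace Groth.Agent.S18200

open CategoryTheory AlgebraicGeometry in
/-- Let `f : X ⟶ Y` be a separated morphism of Noetherian schemes that is essentially quasi-finite:
essentially of finite type with every fibre the spectrum of a finite algebra over the residue field
(equivalently, `f` locally quasi-finite in the fibrewise sense, which carries no finite-type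
condition). Then `f` factors as a localizing immersion `i : X ⟶ Z` (localizing and injective on
points, `Z` Noetherian) followed by a finite morphism `h : Z ⟶ Y`. -/
theorem result {X Y : Scheme.{u}} [IsNoetherian X] [IsNoetherian Y] (f : X ⟶ Y) [IsSeparated f] [EssFT.EssFiniteType f] [LocallyQuasiFinite f] :
    ∃ (Z : Scheme.{u}) (i : X ⟶ Z) (h : Z ⟶ Y), IsNoetherian Z ∧ LocImm.IsLocImmersion i ∧ IsFinite h ∧ i ≫ h = f := by
  obtain ⟨Y₀, k, p, _, hk, _, _, _, rfl⟩ := Groth.Agent.LocImm58.exists_factorization f
  have hrange : Set.range k ⊆ (p.quasiFiniteLocus : Set Y₀) := by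
    rintro _ ⟨x, rfl⟩
    have := Groth.Agent.LocImm58.isIso_stalkMap k hk.1 x
    have h := (k ≫ p).quasiFiniteAt x
    simp only [Scheme.Hom.QuasiFiniteAt, Scheme.Hom.stalkMap_comp] at h
    show (p.stalkMap (k x)).hom.QuasiFinite
    exact (RingHom.QuasiFinite.respectsIso.cancel_right_isIso _ (k.stalkMap x)).1 h
  let U := p.quasiFiniteLocus
  have := Groth.Agent.LocImm58.isNoetherian_opens U
  let k' := IsOpenImmersion.lift U.ι k (by rw [Scheme.Opens.range_ι]; exact hrange)
  have hk' : k' ≫ U.ι = k := IsOpenImmersion.lift_fac _ _ _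
  obtain ⟨T, j, π, _, _, _, e⟩ := Groth.Agent.S0385.result (U.ι ≫ p)
  have : IsLocallyNoetherian T := LocallyOfFiniteType.isLocallyNoetherian π
  have : CompactSpace T := QuasiCompact.compactSpace_of_compactSpace π
  have : IsNoetherian T := { }
  refine ⟨T, k' ≫ j, π, inferInstance, Groth.Agent.LocImm58.isLocImmersion_comp k' j
    (Groth.Agent.LocImm58.isLocImmersion_of_comp_openImmersion k' U.ι (hk'.symm ▸ hk))
    (Groth.Agent.LocImm58.isLocImmersion_of_isOpenImmersion j), inferInstance, ?_⟩
  rw [Category.assoc, e, reassoc_of% hk']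

end Groth.Agent.S18200
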