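import Groth.Statements.S18209
import Groth.Agent.LocImm58.Blow
import Groth.Agent.S18198

set_option autoImplicit false
universe u
open LocImm

namespace Groth.Agent.S18209

open CategoryTheory AlgebraicGeometry Limits in
/-- Let `f : X ⟶ Y` and `g : Y ⟶ Z` be separated morphisms of Noetherian schemes, essentially of finite
type, such that `f` and `f ≫ g` are localizing immersions (localizing and injective on points). Then
there are blow-ups `b : Ỹ ⟶ Y` and `c : Z̃ ⟶ Z` in quasi-coherent (hence coherent) ideals whose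
closed subschemes are disjoint from the image of `X`, and a localizing immersion `g' : Ỹ ⟶ Z̃`
lifting `g`, i.e. `g' ≫ c = b ≫ g`. -/
theorem result {X Y Z : Scheme.{u}} [IsNoetherian X] [IsNoetherian Y] [IsNoetherian Z]
    (f : X ⟶ Y) (g : Y ⟶ Z) [IsSeparated f] [IsSeparated g] [EssFT.EssFiniteType f] [EssFT.EssFiniteType g]
    (hf : LocImm.IsLocImmersion f) (hfg : LocImm.IsLocImmersion (f ≫ g)) :
    ∃ (𝓘 : Y.IdealSheafData) (𝓙 : Z.IdealSheafData) (Yt Zt : Scheme.{u}) (b : Yt ⟶ Y) (c : Zt ⟶ Z) (g' : Yt ⟶ Zt),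
      BlowUp.IsBlowUp b 𝓘 ∧ Disjoint (𝓘.support : Set Y) (Set.range (fun x => f x)) ∧
      BlowUp.IsBlowUp c 𝓙 ∧ Disjoint (𝓙.support : Set Z) (Set.range (fun x => g (f x))) ∧
      LocImm.IsLocImmersion g' ∧ g' ≫ c = b ≫ g := by
  obtain ⟨Yb, k, gb, _, hk, _, hkg⟩ := Groth.Agent.S18198.result g
  subst hkg
  have hfk := Groth.Agent.LocImm58.isLocImmersion_comp f k hf hk
  have hfg' : LocImm.IsLocImmersion ((f ≫ k) ≫ gb) := by rwa [Category.assoc]
  obtain ⟨W, l, g₁, g₂, -, hg₁, hg₂, e, e₁, e₂⟩ :=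
    Groth.Agent.LocImm58.exists_common_open (f ≫ k) ((f ≫ k) ≫ gb) gb (𝟙 Z) hfk hfg'
      (Category.comp_id _).symm
  rw [Category.comp_id] at e
  have : IsOpenImmersion (g₁ ≫ gb) := by rw [e]; infer_instance
  obtain ⟨I, J, Yt, c, hc, hI, hcg, hJ⟩ := Groth.Agent.LocImm58.exists_common_blowUp gb g₁
  obtain ⟨hb, hloc⟩ := Groth.Agent.LocImm58.exists_pullback_blowUp k hk hc
  refine ⟨I.comap k, J, pullback k c, Yt, pullback.fst k c, c ≫ gb, pullback.snd k c, hb, ?_, hcg,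
    hJ.mono_right ?_, hloc, by rw [pullback.condition_assoc]⟩
  · refine Groth.Agent.LocImm58.disjoint_support_comap k (hI.mono_right ?_)
    rintro _ ⟨_, ⟨x, rfl⟩, rfl⟩
    exact ⟨l x, by rw [← Scheme.Hom.comp_apply, e₁]; rfl⟩
  · rintro _ ⟨x, rfl⟩
    exact ⟨l x, by
      rw [← Scheme.Hom.comp_apply, ← Category.assoc, e₁]; rfl⟩

end Groth.Agent.S18209
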