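import Groth.Statements.S1821
import Groth.Agent.DR39.RelComp

set_option autoImplicit false
universe u
open CategoryTheory
open scoped TensorProduct
attribute [local instance] HasDerivedCategory.standard
open Dual2

namespace Groth.Agent.S1821

/-- Let R → A and A → B be flat ring maps of finite presentation, K a relative dualizing complex for R →
A and L a complex of B-modules whose class is a relative dualizing complex for A → B (relative
dualizing in the sense: R-perfect with RHom_{S⊗S}(S, − ⊗^L (S ⊗ S)) ≅ S, the base change and RHom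
functors being the assumed ones). Assuming the derived base change D(A) → D(B) and − ⊗^L_B L exist,
(K ⊗^L_A B) ⊗^L_B L is a relative dualizing complex for R → B. -/
theorem result (R A B : Type u) [CommRing R] [CommRing A] [CommRing B] [Algebra R A] [Algebra A B] [Algebra R B] [IsScalarTower R A B] [Module.Flat R A] [Algebra.FinitePresentation R A] [Module.Flat A B] [Algebra.FinitePresentation A B] [DRing.HasLBaseChange (Algebra.TensorProduct.includeLeftRingHom : A →+* TensorProduct R A A)] (RμA : Dual.D (TensorProduct R A A) ⥤ Dual.D A) (adjA : DRing.restrictD (Algebra.TensorProduct.lmul' R (S := A)).toRingHom ⊣ RμA) [DRing.HasLBaseChange (Algebra.TensorProduct.includeLeftRingHom : B →+* TensorProduct A B B)] (RμBA : Dual.D (TensorProduct A B B) ⥤ Dual.D B) (adjBA : DRing.restrictD (Algebra.TensorProduct.lmul' A (S := B)).toRingHom ⊣ RμBA) [DRing.HasLBaseChange (Algebra.TensorProduct.includeLeftRingHom : B →+* TensorProduct R B B)] (RμB : Dual.D (TensorProduct R B B) ⥤ Dual.D B) (adjB : DRing.restrictD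 (Algebra.TensorProduct.lmul' R (S := B)).toRingHom ⊣ RμB) (K : Dual.D A) (hK : Dual2.IsRelDualizing R A RμA K) (L : DRing.Cx B) (hL : Dual2.IsRelDualizing A B RμBA (DRing.toD L)) [DRing.HasLBaseChange (algebraMap A B)] [DRing.HasLTensorCx B L] : Dual2.IsRelDualizing R B RμB ((DRing.LTensorCx B L).obj ((DRing.LBaseChange (algebraMap A B)).obj K)) := by
  obtain ⟨n, ψ, hψ⟩ := Algebra.FiniteType.iff_quotient_mvPolynomial''.1 (inferInstance : Algebra.FiniteType R A)
  obtain ⟨m, χ, hχ⟩ := Algebra.FiniteType.iff_quotient_mvPolynomial''.1 (inferInstance : Algebra.FiniteType A B)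
  haveI : Algebra.FinitePresentation R B := Algebra.FinitePresentation.trans R A B
  haveI : Module.Flat R B := Module.Flat.trans R A B
  obtain ⟨k, θ, hθ⟩ := Algebra.FiniteType.iff_quotient_mvPolynomial''.1 (inferInstance : Algebra.FiniteType R B)
  haveI := Groth.Agent.Shriek42.hasLB (algebraMap R (MvPolynomial (Fin n) R))
  haveI := Groth.Agent.Shriek42.hasLB (algebraMap A (MvPolynomial (Fin m) A))
  haveI := Groth.Agent.Shriek42.hasLB (algebraMap R (MvPolynomial (Fin k) R))
  haveI := Groth.Agent.DTen43.hasLTen (A := B)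
  haveI := Groth.Agent.DTen43.hasLTen₃ B
  haveI := Groth.Agent.DTen43.isSymMonoidal B
  let adjψ := Groth.Agent.Shriek42.rightDAdj ψ.toRingHom
  let adjχ := Groth.Agent.Shriek42.rightDAdj χ.toRingHom
  let adjθ := Groth.Agent.Shriek42.rightDAdj θ.toRingHom
  obtain ⟨eK⟩ := Groth.Agent.DR39.RelDual.nonempty_iso_shriek RμA adjA n ψ hψ _ adjψ hK
  obtain ⟨eL⟩ := Groth.Agent.DR39.RelDual.nonempty_iso_shriek RμBA adjBA m χ hχ _ adjχ hL
  obtain ⟨c⟩ := Groth.Agent.DR39.RelDual.shriekVia_comp n ψ hψ _ adjψ m χ hχ _ adjχ k θ hθ _ adjθ (Dual.inD R R) 0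
    (fun i hi => (Groth.Agent.DR39.isZero_HF_iff _ i).1 (DerivedCategory.isZero_of_isGE _ 0 i hi))
  obtain ⟨t⟩ := Groth.Agent.DR39.RelDual.shriek_iso_ten (R := A) (A := B) m χ hχ _ adjχ
    (Dual2.shriekVia n (Groth.Agent.Shriek42.rightD ψ.toRingHom) (Dual.inD R R))
  let X := (DRing.LBaseChange (algebraMap A B)).obj K
  haveI := Groth.Agent.DR39.isIso_toLTensorCx L X
  exact Groth.Agent.DR39.RelDual.isRelDualizing_of_iso
    (Groth.Agent.DR39.RelDual.isRelDualizing k θ hθ _ adjθ RμB adjB)
    (c ≪≫ t ≪≫ (DTen.LTen₂ B).mapIso (Iso.prod eL.symm ((DRing.LBaseChange (algebraMap A B)).mapIso eK.symm)) ≪≫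
      Groth.Agent.DTen43.braid (DRing.toD L) X ≪≫ @asIso _ _ _ _ ((DTen.toLTensorCx B L).app X) this)

end Groth.Agent.S1821
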