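import Groth.Statements.S18210
import Groth.Agent.LocImm58.Spread
import Groth.Agent.FlatMor68.GlueMany

set_option autoImplicit false
universe u
open LocImm

namespace Groth.Agent.S18210

open CategoryTheory AlgebraicGeometry Limits in
/-- Let `S` be a Noetherian scheme, `U` and `Y_1, …, Y_n` Noetherian schemes separated and essentially
of finite type over `S`, and `f_i : U ⟶ Y_i` localizing immersions over `S` (localizing and
injective on points). Then there are blow-ups `b_i : Ỹ_i ⟶ Y_i` in quasi-coherent ideals whose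
closed subschemes miss `f_i(U)`, a separated `S`-scheme `Z` of finite type, lifts `u_i : U ⟶ Ỹ_i` of
the `f_i`, and localizing immersions `g_i : Ỹ_i ⟶ Z` over `S` with dense image such that all
composites `u_i ≫ g_i` coincide. (The published statement does not require the `Y_i` to be separated
over `S`; its proof factors each `Y_i ⟶ S` through the main factorization result, which needs it,
and without it the line with a doubled point over a field, with `U` the complement of the doubled
point, is a counterexample, since a scheme admitting a localizing immersion into a separated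
`S`-scheme is separated over `S`.) -/
theorem result {S U : Scheme.{u}} [IsNoetherian S] [IsNoetherian U] {n : ℕ}
    (gU : U ⟶ S) (Y : Fin n → Scheme.{u}) [∀ i, IsNoetherian (Y i)] (q : ∀ i, Y i ⟶ S)
    [∀ i, IsSeparated (q i)] [∀ i, EssFT.EssFiniteType (q i)]
    (f : ∀ i, U ⟶ Y i) (hf : ∀ i, LocImm.IsLocImmersion (f i)) (hfq : ∀ i, f i ≫ q i = gU) :
    ∃ (Z : Scheme.{u}) (r : Z ⟶ S) (_ : IsSeparated r) (_ : LocallyOfFiniteType r) (_ : QuasiCompact r)
      (𝓘 : ∀ i, (Y i).IdealSheafData) (Yt : Fin n → Scheme.{u}) (b : ∀ i, Yt i ⟶ Y i) (u : ∀ i, U ⟶ Yt i) (g : ∀ i, Yt i ⟶ Z),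
      (∀ i, BlowUp.IsBlowUp (b i) (𝓘 i) ∧ Disjoint ((𝓘 i).support : Set (Y i)) (Set.range (fun x => f i x)) ∧
        u i ≫ b i = f i ∧ LocImm.IsLocImmersion (g i) ∧ Dense (Set.range (fun x => g i x)) ∧ g i ≫ r = b i ≫ q i) ∧
      (∀ i i', u i ≫ g i = u i' ≫ g i') := by
  rcases isEmpty_or_nonempty (Fin n) with hn | ⟨⟨i₀⟩⟩
  · exact ⟨S, 𝟙 S, inferInstance, inferInstance, inferInstance, isEmptyElim, isEmptyElim, isEmptyElim,
      isEmptyElim, isEmptyElim, isEmptyElim, isEmptyElim⟩
  choose P k p hP hk hsep hft hqc hkp using fun i => Groth.Agent.LocImm58.exists_factorization (q i)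
  have hfk : ∀ i, (f i ≫ k i) ≫ p i = gU := fun i => by rw [Category.assoc, hkp, hfq]
  obtain ⟨W, kW, gW, w, _, _, _, hd, hw⟩ := Groth.Agent.LocImm58.exists_common_open_dense i₀ gU P p
    (fun i => f i ≫ k i) (fun i => Groth.Agent.LocImm58.isLocImmersion_comp _ _ (hf i) (hk i)) hfk
  have hwo := fun i => (hw i).1
  choose K P1 b1 l hb1 hK hl hlo hld using fun i => Groth.Agent.LocImm58.exists_blowUp_dense (w i)
  have hb1p := fun i => Groth.Agent.LocImm58.isProper_blowUp (hb1 i)
  have := fun i => Groth.Agent.LocImm58.isNoetherian_blowUp (hb1 i)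
  obtain ⟨Xc, r, hr₁, hr₂, hr₃, I2, P2, b2, o, u2, h2, hcov, hu⟩ :=
    Groth.Agent.FlatMor68.GlueMany.main gW P1 (fun i => b1 i ≫ p i) l
      (fun i => by rw [reassoc_of% (hl i), (hw i).2.2])
  have hcomp : ∀ i, ∃ L : (P i).IdealSheafData, BlowUp.IsBlowUp (b2 i ≫ b1 i) L ∧
      BlowUp.IsAdmissibleFor (w i).opensRange L := fun i => by
    refine Groth.Agent.FlatCrit65.Blow.exists_admissible_comp
      ⟨Groth.Agent.LocImm58.isFiniteTypeIdeal_of_isLocallyNoetherian _, hK i⟩ (hb1 i) (I2 i)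
      ⟨(h2 i).2.1.1, (h2 i).2.1.2.mono_right ?_⟩ (h2 i).1
    intro y hy
    show y ∈ Set.range (l i)
    rw [Groth.Agent.LocImm58.range_lift_blowUp (hb1 i) (w i) (hK i) (l i) (hl i)]
    exact hy
  choose L hL hLa using hcomp
  have hlift : ∀ i, f i ≫ k i = (kW ≫ u2 i) ≫ b2 i ≫ b1 i := fun i => by
    rw [Category.assoc, reassoc_of% (h2 i).2.2.2.2, hl i, (hw i).2.1]
  have hpb := fun i => Groth.Agent.LocImm58.exists_pullback_blowUp (k i) (hk i) (hL i)
  refine ⟨Xc, r, hr₁, hr₃, hr₂, fun i => (L i).comap (k i), fun i => pullback (k i) (b2 i ≫ b1 i),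
    fun i => pullback.fst (k i) (b2 i ≫ b1 i), fun i => pullback.lift (f i) (kW ≫ u2 i) (hlift i),
    fun i => pullback.snd (k i) (b2 i ≫ b1 i) ≫ o i, fun i => ⟨(hpb i).1, ?_, pullback.lift_fst _ _ _,
      ?_, ?_, ?_⟩, fun i i' => ?_⟩
  · refine Groth.Agent.LocImm58.disjoint_support_comap (k i) ((hLa i).2.mono_right ?_)
    rintro _ ⟨_, ⟨x, rfl⟩, rfl⟩
    exact ⟨kW x, by rw [← Scheme.Hom.comp_apply, (hw i).2.1]; rfl⟩
  · have := (h2 i).2.2.1
    have := Groth.Agent.LocImm58.isProper_blowUp (hL i)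
    have := Groth.Agent.LocImm58.isNoetherian_blowUp (hL i)
    have := Groth.Agent.LocImm58.isNoetherian_blowUp (hpb i).1
    exact Groth.Agent.LocImm58.isLocImmersion_comp _ _ (hpb i).2
      (Groth.Agent.LocImm58.isLocImmersion_of_isOpenImmersion (o i))
  · have hdu : ∀ i, Dense (Set.range (kW ≫ u2 i)) := fun i => by
      have : Dense (Set.range (u2 i)) := Groth.Agent.LocImm58.dense_range_lift_blowUp (h2 i).1 (l i)
        (h2 i).2.1.2 (u2 i) (h2 i).2.2.2.2
      exact DenseRange.comp (g := u2 i) this hd (u2 i).continuous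
    intro y
    obtain ⟨j, z, rfl⟩ := Set.mem_iUnion.1 (hcov.symm ▸ Set.mem_univ y)
    refine closure_mono ?_ (map_mem_closure (o j).continuous (hdu j z) (t := Set.range (kW ≫ u2 j ≫ o j)) ?_)
    · rintro _ ⟨x, rfl⟩
      refine ⟨pullback.lift (f i) (kW ≫ u2 i) (hlift i) x, ?_⟩
      rw [hu j i]
      simp only [← Scheme.Hom.comp_apply, pullback.lift_snd_assoc, Category.assoc]
    · rintro _ ⟨x, rfl⟩
      exact ⟨x, rfl⟩
  · dsimp only
    rw [Category.assoc, (h2 i).2.2.2.1, ← hkp, pullback.condition_assoc, Category.assoc]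
  · rw [pullback.lift_snd_assoc, pullback.lift_snd_assoc, Category.assoc, Category.assoc, hu i i']

end Groth.Agent.S18210
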