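import Groth.Statements.S18211
import Groth.Agent.LocImm58.Spread
import Groth.Agent.S18198
import Groth.Agent.S4418
import Groth.Agent.S9708
import Groth.Agent.Div89.BlowLocal

set_option autoImplicit false
universe u
open LocImm

namespace Groth.Agent.S18211

open CategoryTheory AlgebraicGeometry Limits in
/-- Let `π : Y ⟶ S` be a separated morphism of Noetherian schemes, essentially of finite type, and `f :
U ⟶ Y` a localizing immersion (localizing and injective on points) with dense image such that `U ⟶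
S` is essentially quasi-projective: it factors as a localizing immersion `j : U ⟶ P` followed by a
projective morphism `P ⟶ S` (in the sense of the relative homogeneous spectrum of a quasi-coherent
graded algebra generated in degree one with degree-one part of finite type). Then there is a blow-up
`Ỹ ⟶ Y` in a quasi-coherent ideal whose closed subscheme misses `f(U)` such that `Ỹ ⟶ S` is
essentially quasi-projective in the same sense. -/
theorem result {U Y S P : Scheme.{u}} [IsNoetherian U] [IsNoetherian Y] [IsNoetherian S] [IsNoetherian P]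
    (π : Y ⟶ S) [IsSeparated π] [EssFT.EssFiniteType π] (f : U ⟶ Y) (hf : LocImm.IsLocImmersion f)
    (hfd : Dense (Set.range (fun x => f x))) (j : U ⟶ P) (p : P ⟶ S) (hj : LocImm.IsLocImmersion j)
    (hp : RelProj.IsProjective p) (hc : j ≫ p = f ≫ π) :
    ∃ (𝓘 : Y.IdealSheafData) (Yt P' : Scheme.{u}) (b : Yt ⟶ Y) (j' : Yt ⟶ P') (p' : P' ⟶ S),
      BlowUp.IsBlowUp b 𝓘 ∧ Disjoint (𝓘.support : Set Y) (Set.range (fun x => f x)) ∧
      LocImm.IsLocImmersion j' ∧ RelProj.IsProjective p' ∧ j' ≫ p' = b ≫ π := by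
  obtain ⟨Yb, k, pb, _, hk, _, rfl⟩ := Groth.Agent.S18198.result π
  have := (Groth.Agent.S4418.result p hp).2
  obtain ⟨W, kW, g₁, g₂, -, hg₁, hg₂, e, e₁, e₂⟩ := Groth.Agent.LocImm58.exists_common_open (f ≫ k) j pb p
    (Groth.Agent.LocImm58.isLocImmersion_comp f k hf hk) hj (by rw [Category.assoc]; exact hc.symm)
  have : IsNoetherian W :=
    { toIsLocallyNoetherian := LocallyOfFiniteType.isLocallyNoetherian g₁
      toCompactSpace := by
        have := g₁.isOpenEmbedding.isInducing.noetherianSpace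
        infer_instance }
  let γ : W ⟶ pullback pb p := pullback.lift g₁ g₂ e
  have hγ : γ ≫ pullback.fst pb p = g₁ := pullback.lift_fst _ _ _
  have : QuasiCompact (γ ≫ pullback.fst pb p) := by rw [hγ]; infer_instance
  have : QuasiCompact γ := QuasiCompact.of_comp γ (pullback.fst pb p)
  let φ := γ.imageι ≫ pullback.fst pb p
  have : IsIso (φ ∣_ g₁.opensRange) :=
    Groth.Agent.FlatCrit65.Blow.isIso_image_comp_restrict (pullback.fst pb p) γ g₁ hγ
  obtain ⟨I, P1, c, hbc, hadm, -, h, hh⟩ := Groth.Agent.FlatCrit65.Blow.exists_dominating_blowUp φ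
    g₁.opensRange (Groth.Agent.LocImm58.isCompact_of_isNoetherian _)
  have := Groth.Agent.LocImm58.isProper_blowUp hbc
  have := Groth.Agent.LocImm58.isNoetherian_blowUp hbc
  obtain ⟨w, hw⟩ := Groth.Agent.LocImm58.exists_lift_blowUp hbc g₁ hadm.2
  have := Groth.Agent.LocImm58.isOpenImmersion_lift_blowUp hbc g₁ hadm.2 w hw
  have key : w ≫ h = γ.toImage := by
    refine Groth.Agent.FlatCrit65.Blow.eq_of_isIso_restrict φ g₁.isoOpensRange.hom _ _ ?_ ?_
    · rw [Category.assoc, hh, hw, Scheme.Hom.isoOpensRange_hom_ι]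
    · simp only [φ, Scheme.Hom.toImage_imageι_assoc, hγ, Scheme.Hom.isoOpensRange_hom_ι]
  let ψ := h ≫ γ.imageι ≫ pullback.snd pb p
  have : IsProper (h ≫ φ) := by rw [hh]; infer_instance
  have : IsProper h := IsProper.of_comp h φ
  have hwψ : w ≫ ψ = g₂ := by
    simp only [ψ, reassoc_of% key, Scheme.Hom.toImage_imageι_assoc, γ, pullback.lift_snd]
  have : IsOpenImmersion (w ≫ ψ) := by rw [hwψ]; infer_instance
  obtain ⟨I2, J2, Yt, c2, hc2, hI2, hJ2, -⟩ := Groth.Agent.LocImm58.exists_common_blowUp ψ w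
  obtain ⟨L, hL, hLa⟩ := Groth.Agent.FlatCrit65.Blow.exists_admissible_comp (U := g₁.opensRange) hadm hbc I2
    ⟨Groth.Agent.LocImm58.isFiniteTypeIdeal_of_isLocallyNoetherian _, hI2.mono_right (by
      rw [Groth.Agent.LocImm58.range_lift_blowUp hbc g₁ hadm.2 w hw]
      exact subset_rfl)⟩ hc2
  obtain ⟨hb, hloc⟩ := Groth.Agent.LocImm58.exists_pullback_blowUp k hk hL
  refine ⟨L.comap k, pullback k (c2 ≫ c), Yt, pullback.fst k (c2 ≫ c), pullback.snd k (c2 ≫ c),
    (c2 ≫ ψ) ≫ p, hb, ?_, hloc, Groth.Agent.S9708.result _ _ (Groth.Agent.Div89.BlowLocal.isProjective_of_isBlowUp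
      J2 (Groth.Agent.LocImm58.isFiniteTypeIdeal_of_isLocallyNoetherian _) _ hJ2) hp, ?_⟩
  · refine Groth.Agent.LocImm58.disjoint_support_comap k (hLa.2.mono_right ?_)
    rintro _ ⟨_, ⟨x, rfl⟩, rfl⟩
    exact ⟨kW x, by rw [← Scheme.Hom.comp_apply, e₁]; rfl⟩
  · rw [pullback.condition_assoc, ← hh]
    simp only [ψ, φ, Category.assoc, pullback.condition]

end Groth.Agent.S18211
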