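import Groth.Statements.S18215
import Groth.Agent.LocImm58.Blow

set_option autoImplicit false
universe u
open LocImm

namespace Groth.Agent.S18215

open CategoryTheory AlgebraicGeometry Limits in
/-- Let `S` be a Noetherian scheme, `a : X ⟶ S` separated and essentially of finite type, `b : Y ⟶ S`
proper, with `X, Y` Noetherian, `Z` a Noetherian scheme with a localizing immersion `j : Z ⟶ X`
(localizing and injective on points) whose image is dense, and `f : Z ⟶ Y` a morphism over `S`. Then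
there are a blow-up `c : X̃ ⟶ X` in a quasi-coherent ideal whose closed subscheme misses `j(Z)`, the
lift `e : Z ⟶ X̃` of `j` (`e ≫ c = j`) and a morphism `f' : X̃ ⟶ Y` over `S` extending `f` (`e ≫ f'
= f`): after an admissible blow-up the rational map `f` is defined everywhere. -/
theorem result {S X Y Z : Scheme.{u}} [IsNoetherian S] [IsNoetherian X] [IsNoetherian Y] [IsNoetherian Z]
    (a : X ⟶ S) (b : Y ⟶ S) [IsSeparated a] [EssFT.EssFiniteType a] [IsProper b]
    (j : Z ⟶ X) (hj : LocImm.IsLocImmersion j) (hjd : Dense (Set.range (fun x => j x))) (f : Z ⟶ Y) (hjf : j ≫ a = f ≫ b) :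
    ∃ (𝓘 : X.IdealSheafData) (Xt : Scheme.{u}) (c : Xt ⟶ X) (e : Z ⟶ Xt) (f' : Xt ⟶ Y),
      BlowUp.IsBlowUp c 𝓘 ∧ Disjoint (𝓘.support : Set X) (Set.range (fun x => j x)) ∧
      e ≫ c = j ∧ e ≫ f' = f ∧ c ≫ a = f' ≫ b := by
  obtain ⟨U, z, s, hz, hs, hzs⟩ := Groth.Agent.LocImm58.exists_extend j hj a b f hjf
  let γ : (U : Scheme.{u}) ⟶ pullback a b := pullback.lift U.ι s hs.symm
  have hγ : γ ≫ pullback.fst a b = U.ι := pullback.lift_fst _ _ _
  have : QuasiCompact (γ ≫ pullback.fst a b) := by rw [hγ]; infer_instance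
  have : QuasiCompact γ := QuasiCompact.of_comp γ (pullback.fst a b)
  let φ := γ.imageι ≫ pullback.fst a b
  have : IsIso (φ ∣_ U.ι.opensRange) :=
    Groth.Agent.FlatCrit65.Blow.isIso_image_comp_restrict (pullback.fst a b) γ U.ι hγ
  obtain ⟨𝓘, Xt, c, hc, hadm, -, h, hh⟩ := Groth.Agent.FlatCrit65.Blow.exists_dominating_blowUp φ
    U.ι.opensRange (Groth.Agent.LocImm58.isCompact_of_isNoetherian _)
  have hjU : Set.range (fun x => j x) ⊆ (U.ι.opensRange : Set X) := by
    rintro _ ⟨x, rfl⟩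
    exact ⟨z x, by rw [← Scheme.Hom.comp_apply, hz]⟩
  have hdis : Disjoint (𝓘.support : Set X) (Set.range (fun x => j x)) := hadm.2.mono_right hjU
  obtain ⟨e, he⟩ := Groth.Agent.LocImm58.exists_lift_blowUp hc j hdis
  have key : e ≫ h = z ≫ γ.toImage := by
    refine Groth.Agent.FlatCrit65.Blow.eq_of_isIso_restrict φ (z ≫ U.ι.isoOpensRange.hom) _ _ ?_ ?_
    · rw [Category.assoc, hh, he, Category.assoc, Scheme.Hom.isoOpensRange_hom_ι, hz]
    · simp only [φ, Category.assoc, Scheme.Hom.toImage_imageι_assoc, hγ,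
        Scheme.Hom.isoOpensRange_hom_ι]
  refine ⟨𝓘, Xt, c, e, h ≫ γ.imageι ≫ pullback.snd a b, hc, hdis, he, ?_, ?_⟩
  · rw [reassoc_of% key, Scheme.Hom.toImage_imageι_assoc, pullback.lift_snd, hzs]
  · rw [← hh]
    simp only [φ, Category.assoc, pullback.condition]

end Groth.Agent.S18215
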