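import Groth.Statements.S18234
import Groth.Agent.Mag88.Unram

set_option autoImplicit false
universe u
open CategoryTheory MonoidalCategory CartesianMonoidalCategory AlgebraicGeometry Opposite
open Magnet

namespace Groth.Agent.S18234

/-- Let S be a scheme, M a finitely generated abelian group, N a submonoid of M, X and Y schemes over S
with actions of the diagonalizable group scheme D(M)_S, and f : X → Y a formally unramified
equivariant S-morphism. If the attractors X^N and Y^N are represented by S-schemes Z_X and Z_Y, and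
j : Z_X → Z_Y is the S-morphism that corresponds to f^N under the two representing bijections, then
j is formally unramified. (Stated for schemes; the published statement is for algebraic spaces over
S.) -/
theorem result (S : Scheme.{u}) (M : Type) [AddCommGroup M]
    [AddGroup.FG M] (N : AddSubmonoid M) {X Y : Over S} (aX : Magnet.MonAct (Magnet.AMonS S M) X)
    (aY : Magnet.MonAct (Magnet.AMonS S M) Y) (f : X ⟶ Y) (hf : Magnet.MonAct.IsEquivariant aX aY f)
    [FormallyUnramified f.left] {ZX ZY : Over S} (eX : (Magnet.attr aX N).RepresentableBy ZX) (eY : (Magnet.attr aY N).RepresentableBy ZY)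
    (j : ZX ⟶ ZY) (hj : ∀ (T : Over S) (z : T ⟶ ZX),
      eY.homEquiv (z ≫ j) = (Magnet.MonAct.eqvHom.postcomp (Magnet.subAct S M N) f hf).app (op T) (eX.homEquiv z)) :
    FormallyUnramified j.left := by
  refine Groth.Agent.Mag88.formallyUnramified_of_lifting j.left fun R I hI g₁ g₂ hc hj' => ?_
  have w : g₂ ≫ ZX.hom = g₁ ≫ ZX.hom := by
    rw [← CategoryTheory.Over.w j, ← Category.assoc, ← Category.assoc, hj']
  let T : CategoryTheory.Over S := CategoryTheory.Over.mk (g₁ ≫ ZX.hom)
  let z₁ : T ⟶ ZX := CategoryTheory.Over.homMk g₁ rfl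
  let z₂ : T ⟶ ZX := CategoryTheory.Over.homMk g₂ w
  let s : CategoryTheory.Over.mk (Spec.map (CommRingCat.ofHom (Ideal.Quotient.mk I)) ≫ g₁ ≫ ZX.hom) ⟶ T :=
    CategoryTheory.Over.homMk (Spec.map (CommRingCat.ofHom (Ideal.Quotient.mk I))) rfl
  have hz : z₁ = z₂ := eX.homEquiv.injective (by
    refine Groth.Agent.Mag88.attr_postcomp_unique (g₁ ≫ ZX.hom) (CommRingCat.ofHom (Ideal.Quotient.mk I)) N aX aY f hf
      Ideal.Quotient.mk_surjective (fun x y hx hy => ?_) _ _ ?_ ?_
    · have h2 : x * y ∈ I * I := Ideal.mul_mem_mul (Ideal.Quotient.eq_zero_iff_mem.1 hx) (Ideal.Quotient.eq_zero_iff_mem.1 hy)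
      rw [← pow_two, hI] at h2
      exact h2
    · refine (eX.homEquiv_comp s z₁).symm.trans (Eq.trans ?_ (eX.homEquiv_comp s z₂))
      exact congrArg _ (CategoryTheory.Over.OverMorphism.ext hc)
    · exact congrArg Subtype.val (((hj T z₁).symm.trans (congrArg _ (CategoryTheory.Over.OverMorphism.ext (show (z₁ ≫ j).left = (z₂ ≫ j).left from hj')))).trans (hj T z₂)))
  exact congrArg CategoryTheory.Over.Hom.left hz

end Groth.Agent.S18234
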