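import Groth.Statements.S18238
import Groth.Agent.Hopf35.SharpGraded
import Mathlib.Algebra.MonoidAlgebra.Grading

set_option autoImplicit false
universe u
open DiagMon

namespace Groth.Agent.S18238

theorem result (R : Type u) [CommRing R] (N : Type)
    [AddCommMonoid N] [AddMonoid.FG N] [IsCancelAdd N] (hsharp : ∀ n : N, IsAddUnit n → n = 0)
    [Algebra.Smooth R (AddMonoidAlgebra R N)] :
    ∃ (P : Type u) (_ : AddCommGroup P) (_ : Module R P), Module.Finite R P ∧ Module.Projective R P ∧
      Nonempty (AddMonoidAlgebra R N ≃ₐ[R] SymmetricAlgebra R P) := by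
  classical
  refine Groth.Agent.Hopf35.SharpGraded.exists_algEquiv_symmetricAlgebra (R := R) (S := R)
    (AddMonoidAlgebra.grade R : N → Submodule R (AddMonoidAlgebra R N)) hsharp
    (fun a b h => ?_) fun a => ?_
  · have h' := congrArg (fun f : AddMonoidAlgebra R N => f.coeff 0) h
    simpa [AddMonoidAlgebra.coe_algebraMap] using h'
  · rw [AddMonoidAlgebra.mem_grade_iff']
    constructor
    · rintro ⟨c, rfl⟩; exact ⟨c, rfl⟩
    · rintro ⟨c, rfl⟩; exact ⟨c, rfl⟩

end Groth.Agent.S18238
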