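import Groth.Statements.S18239
import Groth.Agent.Hopf35.SharpGraded

set_option autoImplicit false
universe u
open DiagMon

namespace Groth.Agent.S18239

theorem result (R : Type u) [CommRing R] (A : Type u)
    [CommRing A] [Algebra R A] (N : Type) [AddCommMonoid N] [DecidableEq N] [AddMonoid.FG N] [IsCancelAdd N]
    (hsharp : ∀ n : N, IsAddUnit n → n = 0) (𝒜 : N → Submodule R A) [GradedAlgebra 𝒜]
    [Algebra.Smooth R A] :
    ∃ (P : Type u) (_ : AddCommGroup P) (_ : Module (𝒜 0) P), Module.Finite (𝒜 0) P ∧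
      Module.Projective (𝒜 0) P ∧ Nonempty (A ≃ₐ[𝒜 0] SymmetricAlgebra (𝒜 0) P) := by
  haveI : IsScalarTower R (𝒜 0) A := IsScalarTower.of_algebraMap_eq fun _ => rfl
  refine Groth.Agent.Hopf35.SharpGraded.exists_algEquiv_symmetricAlgebra (R := R) (S := 𝒜 0) 𝒜 hsharp
    (fun a b h => Subtype.ext h) fun a => ⟨fun h => ⟨⟨a, h⟩, rfl⟩, ?_⟩
  rintro ⟨c, rfl⟩
  exact c.2

end Groth.Agent.S18239
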