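import Groth.Statements.S18247
import Groth.Agent.Curves2.NSNSRel

set_option autoImplicit false
universe u
open W4c5m1nsnscurves
open Curves

namespace Groth.Agent.S18247

open MvPolynomial in
/-- the inverse on generators -/
noncomputable def w : UGen 2 → MvPolynomial (Fin 6) ℤ
  | .a => X 0
  | .ci i => ![X 1, X 3] i
  | .cbi i => ![X 2, X 4] i
  | .cij i _ _ => ![X 5, X 0 + X 1 + X 2 + X 3 + X 4 - X 5] i
  | .c => (X 0 + X 1 + X 2 + X 3 + X 4 - X 5) * X 3 + X 5 * X 1 - X 1 * X 3
  | .cb => (X 0 + X 1 + X 2 + X 3 + X 4 - X 5) * X 2 + X 5 * X 4 - X 2 * X 4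

theorem isSol_w : Curves2.IsSol w := by
  refine ⟨fun i j h => ?_, fun i j h => ?_, fun i j h => ?_, fun i j l hij hjl hil => ?_⟩
  · fin_cases i <;> fin_cases j <;> first | (exact absurd rfl h) | (simp [w]; done) | (simp [w]; ring)
  · fin_cases i <;> fin_cases j <;> first | (exact absurd rfl h) | (simp [w]; done) | (simp [w]; ring)
  · fin_cases i <;> fin_cases j <;> first | (exact absurd rfl h) | (simp [w]; done) | (simp [w]; ring)
  · exfalso; omega


/-- Case n = 5: the coordinate ring of U_5 over ℤ (m = 2 indices, standing for the points 4 and 5;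
generators a, c, c̄, c_4, c̄_4, c_5, c̄_5, c_{45}, c_{54} with the linear and the two quadratic
relations for the one pair of indices, and no triple) is the polynomial ring on a, c_4, c̄_4, c_5,
c̄_5, c_{45}: the ℤ-algebra map from the polynomial ring in six variables sending the variables to
these six classes, in this order, is bijective. -/
theorem result :
    Function.Bijective (MvPolynomial.aeval (R := ℤ) (S₁ := URing ℤ 2)
      ![ugen ℤ 2 .a, ugen ℤ 2 (.ci 0), ugen ℤ 2 (.cbi 0), ugen ℤ 2 (.ci 1), ugen ℤ 2 (.cbi 1),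
        ugen ℤ 2 (.cij 0 1 Fin.zero_ne_one)]) := by
  let φ : MvPolynomial (Fin 6) ℤ →ₐ[ℤ] URing ℤ 2 := MvPolynomial.aeval (R := ℤ) (S₁ := URing ℤ 2)
    ![ugen ℤ 2 .a, ugen ℤ 2 (.ci 0), ugen ℤ 2 (.cbi 0), ugen ℤ 2 (.ci 1), ugen ℤ 2 (.cbi 1),
      ugen ℤ 2 (.cij 0 1 Fin.zero_ne_one)]
  let ψ : URing ℤ 2 →ₐ[ℤ] MvPolynomial (Fin 6) ℤ := Curves2.liftU w isSol_w
  have h1 : ψ.comp φ = AlgHom.id ℤ _ := by
    refine MvPolynomial.algHom_ext fun i => ?_
    fin_cases i <;> simp [φ, ψ, w]
  have hs := Curves2.isSol_ugen ℤ 2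
  have hlin := hs.lin 0 1 Fin.zero_ne_one
  have h2 : φ.comp ψ = AlgHom.id ℤ _ := by
    refine Curves2.algHom_ext_U fun g => ?_
    rw [AlgHom.comp_apply, Curves2.liftU_ugen, AlgHom.id_apply]
    cases g with
    | a => simp [φ, w]
    | ci i => fin_cases i <;> simp [φ, w]
    | cbi i => fin_cases i <;> simp [φ, w]
    | c =>
      simp [φ, w]
      linear_combination hs.qc 0 1 Fin.zero_ne_one - ugen ℤ 2 (.ci 1) * hlin
    | cb =>
      simp [φ, w]
      linear_combination hs.qb 0 1 Fin.zero_ne_one - ugen ℤ 2 (.cbi 0) * hlin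
    | cij i j h =>
      fin_cases i <;> fin_cases j <;> first | (exact absurd rfl h) | skip
      · simp [φ, w]
      · simp [φ, w]
        linear_combination -hlin
  exact (AlgEquiv.ofAlgHom φ ψ h2 h1).bijective

end Groth.Agent.S18247
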