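import Groth.Statements.S18248
import Groth.Agent.Curves2.NSNSRel
import Mathlib.RingTheory.Ideal.Cotangent
import Mathlib.Algebra.TrivSqZeroExt.Basic

set_option autoImplicit false
universe u
open W4c5m1nsnscurves
open Curves

namespace Groth.Agent.S18248

/-- the weight-one generators -/
abbrev W (m : ℕ) : Type := Option ((Fin m ⊕ Fin m) ⊕ {q : Fin m × Fin m // q.1 < q.2})

/-- their number -/
theorem two_mul_card_W (m : ℕ) : 2 * Fintype.card (W m) = (m + 2) * (m + 1) := by
  have h : 2 * Fintype.card {q : Fin m × Fin m // q.1 < q.2} + m = m * m := by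
    have hsum := Fintype.card_congr (Equiv.sumCompl (fun q : Fin m × Fin m => q.1 < q.2))
    have h2 := Fintype.card_congr (Equiv.sumCompl (fun q : {q : Fin m × Fin m // ¬ q.1 < q.2} => q.1.1 = q.1.2))
    rw [Fintype.card_sum] at hsum h2
    have e1 : Fintype.card {q : {q : Fin m × Fin m // ¬ q.1 < q.2} // q.1.1 = q.1.2} = m :=
      (Fintype.card_congr
        { toFun := fun q => q.1.1.1
          invFun := fun i => ⟨⟨(i, i), lt_irrefl i⟩, rfl⟩
          left_inv := by rintro ⟨⟨⟨i, j⟩, h⟩, e⟩; simp at e; subst e; rfl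
          right_inv := fun _ => rfl }).trans (Fintype.card_fin m)
    have e2 : Fintype.card {q : {q : Fin m × Fin m // ¬ q.1 < q.2} // ¬ q.1.1 = q.1.2} =
        Fintype.card {q : Fin m × Fin m // q.1 < q.2} :=
      Fintype.card_congr
        { toFun := fun q => ⟨(q.1.1.2, q.1.1.1), lt_of_le_of_ne (not_lt.mp q.1.2) (fun e => q.2 e.symm)⟩
          invFun := fun q => ⟨⟨(q.1.2, q.1.1), not_lt.mpr q.2.le⟩, fun e => q.2.ne e.symm⟩
          left_inv := fun _ => rfl
          right_inv := fun _ => rfl }
    rw [Fintype.card_prod, Fintype.card_fin] at hsum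
    omega
  simp only [W, Fintype.card_option, Fintype.card_sum, Fintype.card_fin]
  nlinarith [h]

/-- the class of a weight-one generator -/
noncomputable def wgen (R : Type u) [CommRing R] (m : ℕ) : W m → URing R m
  | none => ugen R m .a
  | some (.inl (.inl i)) => ugen R m (.ci i)
  | some (.inl (.inr i)) => ugen R m (.cbi i)
  | some (.inr q) => ugen R m (.cij q.1.1 q.1.2 (ne_of_lt q.2))

theorem ugen_cij_mem (R : Type u) [CommRing R] (m : ℕ) {σ : Type*} [SetLike σ (URing R m)]
    [AddSubgroupClass σ (URing R m)] (S : σ) (h : ∀ x, wgen R m x ∈ S) (i j : Fin m) (hij : i ≠ j) :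
    ugen R m (.cij i j hij) ∈ S := by
  rcases lt_or_gt_of_ne hij with hlt | hlt
  · exact h (some (.inr ⟨(i, j), hlt⟩))
  · have e := (Curves2.isSol_ugen R m).lin i j hij
    rw [eq_sub_of_add_eq e]
    exact sub_mem (add_mem (add_mem (add_mem (add_mem (h none) (h (some (.inl (.inl i)))))
      (h (some (.inl (.inr i))))) (h (some (.inl (.inl j))))) (h (some (.inl (.inr j)))))
      (h (some (.inr ⟨(j, i), hlt⟩)))

/-- linearised coordinates -/
noncomputable def lw (k : Type u) [CommRing k] (m : ℕ) : UGen m → (W m → k)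
  | .a => Pi.single none 1
  | .ci i => Pi.single (some (.inl (.inl i))) 1
  | .cbi i => Pi.single (some (.inl (.inr i))) 1
  | .cij i j h => if hlt : i < j then Pi.single (some (.inr ⟨(i, j), hlt⟩)) 1 else
      Pi.single none 1 + Pi.single (some (.inl (.inl i))) 1 + Pi.single (some (.inl (.inr i))) 1 +
        Pi.single (some (.inl (.inl j))) 1 + Pi.single (some (.inl (.inr j))) 1 -
        Pi.single (some (.inr ⟨(j, i), lt_of_le_of_ne (not_lt.mp hlt) h.symm⟩)) 1
  | .c => 0
  | .cb => 0

theorem isSol_lw (k : Type u) [CommRing k] (m : ℕ) :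
    Curves2.IsSol (fun g => (TrivSqZeroExt.inr (lw k m g) : TrivSqZeroExt k (W m → k))) := by
  refine ⟨fun i j h => ?_, fun i j h => ?_, fun i j h => ?_, fun i j l hij hjl hil => ?_⟩
  · simp only [← TrivSqZeroExt.inr_add]
    congr 1
    rcases lt_or_gt_of_ne h with hlt | hlt
    · simp [lw, hlt, hlt.not_gt] <;> abel
    · simp [lw, hlt, hlt.not_gt] <;> abel
  · simp [lw]
  · simp [lw]
  · simp [lw, mul_add, add_mul, TrivSqZeroExt.inr_mul_inr]


/-- Let m ≥ 2, so that n = m + 3 ≥ 5 points are marked. For every field k, the Zariski cotangent space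
of U_n over k at the origin, that is I/I² for the ideal I of the coordinate ring of U_n over k
generated by the classes of all the generators a, c, c̄, c_i, c̄_i, c_{ij}, has dimension (n − 1)(n
− 2)/2 = (m + 2)(m + 1)/2 over k; and the weight-one classes a, c_i, c̄_i (all indices i) and c_{ij}
(i < j) generate the coordinate ring of U_n over ℤ as a ℤ-algebra (so they form a minimal generating
set). -/
theorem result (m : ℕ) (hm : 2 ≤ m) :
    (∀ (k : Type u) [Field k], Module.finrank k (uorigin k m).Cotangent = (m + 2) * (m + 1) / 2) ∧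
    Algebra.adjoin ℤ ({ugen ℤ m .a} ∪ Set.range (fun i : Fin m => ugen ℤ m (.ci i)) ∪
        Set.range (fun i : Fin m => ugen ℤ m (.cbi i)) ∪
        Set.range (fun q : {q : Fin m × Fin m // q.1 < q.2} => ugen ℤ m (.cij q.1.1 q.1.2 (ne_of_lt q.2)))) = ⊤ := by
  refine ⟨fun k _ => ?_, ?_⟩
  · have hs := Curves2.isSol_ugen k m
    let f : URing k m →ₐ[k] TrivSqZeroExt k (W m → k) := Curves2.liftU _ (isSol_lw k m)
    have hfst : ∀ x ∈ uorigin k m, (f x).fst = 0 := by
      intro x hx
      have h : uorigin k m ≤ RingHom.ker ((TrivSqZeroExt.fstHom k k (W m → k)).comp f).toRingHom := by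
        rw [uorigin, Ideal.span_le]
        rintro _ ⟨g, rfl⟩
        simp [f]
      exact h hx
    let g : ↥(uorigin k m) →ₗ[k] (W m → k) :=
      ((TrivSqZeroExt.sndHom k (W m → k)).restrictScalars k).comp (f.toLinearMap.comp ((uorigin k m).subtype.restrictScalars k))
    have hker : ((uorigin k m) • (⊤ : Submodule (URing k m) ↥(uorigin k m))).restrictScalars k ≤ LinearMap.ker g := by
      intro x hx
      rw [Submodule.restrictScalars_mem] at hx
      refine Submodule.smul_induction_on hx (fun r hr y _ => ?_) (fun y z hy hz => add_mem hy hz)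
      rw [LinearMap.mem_ker]
      show (f (r * y.1)).snd = 0
      rw [map_mul, TrivSqZeroExt.snd_mul, hfst r hr, hfst y.1 y.2]
      simp
    let e : (uorigin k m).Cotangent →ₗ[k] (W m → k) :=
      (((uorigin k m) • (⊤ : Submodule (URing k m) ↥(uorigin k m))).restrictScalars k).liftQ g hker
    let gen : W m → ↥(uorigin k m) := fun x => ⟨wgen k m x, by
      apply Ideal.subset_span
      rcases x with _ | ((i | i) | q) <;> exact ⟨_, rfl⟩⟩
    let s : (W m → k) →ₗ[k] (uorigin k m).Cotangent :=
      (Pi.basisFun k (W m)).constr k (fun x => (uorigin k m).toCotangent (gen x))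
    have hsx : ∀ x, s (Pi.single x 1) = (uorigin k m).toCotangent (gen x) := by
      intro x
      rw [← Pi.basisFun_apply]
      exact (Pi.basisFun k (W m)).constr_basis _ _ x
    have he : ∀ x, e ((uorigin k m).toCotangent (gen x)) = Pi.single x 1 := by
      intro x
      show (f (gen x).1).snd = _
      rcases x with _ | ((i | i) | q) <;> simp [gen, wgen, f, lw]
      simp [q.2]
    have hes : e.comp s = LinearMap.id := by
      apply (Pi.basisFun k (W m)).ext
      intro x
      rw [LinearMap.comp_apply, Pi.basisFun_apply, hsx, he]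
      rfl
    have hsurj : Function.Surjective s := by
      let J : Ideal (URing k m) := Ideal.span (Set.range (wgen k m))
      have hW : ∀ x, wgen k m x ∈ J := fun x => Ideal.subset_span ⟨x, rfl⟩
      have hJ : uorigin k m ≤ J := by
        have hc := ugen_cij_mem k m J hW
        rw [uorigin, Ideal.span_le]
        rintro _ ⟨x, rfl⟩
        obtain ⟨h01⟩ : Nonempty {q : Fin m × Fin m // q.1 ≠ q.2} :=
          ⟨⟨(⟨0, by omega⟩, ⟨1, by omega⟩), by simp [Fin.ext_iff]⟩⟩
        cases x with
        | a => exact hW none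
        | ci i => exact hW (some (.inl (.inl i)))
        | cbi i => exact hW (some (.inl (.inr i)))
        | cij i j h => exact hc i j h
        | c =>
          obtain ⟨⟨i, j⟩, h⟩ := h01
          rw [← hs.qc i j h]
          exact sub_mem (add_mem (J.mul_mem_right _ (hc j i h.symm)) (J.mul_mem_right _ (hc i j h)))
            (J.mul_mem_right _ (hW (some (.inl (.inl i)))))
        | cb =>
          obtain ⟨⟨i, j⟩, h⟩ := h01
          rw [← hs.qb i j h]
          exact sub_mem (add_mem (J.mul_mem_right _ (hc j i h.symm)) (J.mul_mem_right _ (hc i j h)))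
            (J.mul_mem_right _ (hW (some (.inl (.inr i)))))
      intro y
      obtain ⟨⟨y, hy⟩, rfl⟩ := (uorigin k m).toCotangent_surjective y
      obtain ⟨a, ha⟩ := Ideal.mem_span_range_iff_exists_fun.mp (hJ hy)
      have hy' : (⟨y, hy⟩ : ↥(uorigin k m)) = ∑ x, a x • gen x := Subtype.ext (by rw [Submodule.coe_sum]; exact ha.symm)
      choose c hc using fun x : W m => show ∃ c : k, a x - algebraMap k (URing k m) c ∈ uorigin k m by
        induction a x using Quotient.inductionOn' with
        | h p =>
          show ∃ c : k, Ideal.Quotient.mk _ p - algebraMap k (URing k m) c ∈ uorigin k m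
          induction p using MvPolynomial.induction_on with
          | C r => exact ⟨r, by simp [IsScalarTower.algebraMap_apply k (MvPolynomial (UGen m) k) (URing k m)]⟩
          | add p q hp hq =>
            obtain ⟨c, hc⟩ := hp
            obtain ⟨d, hd⟩ := hq
            exact ⟨c + d, by rw [map_add, map_add, add_sub_add_comm]; exact add_mem hc hd⟩
          | mul_X p g _ =>
            refine ⟨0, ?_⟩
            rw [map_zero, sub_zero, map_mul]
            exact Ideal.mul_mem_left _ _ (Ideal.subset_span ⟨g, rfl⟩)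
      refine ⟨∑ x, c x • Pi.single x 1, ?_⟩
      rw [hy', map_sum, map_sum]
      refine Finset.sum_congr rfl fun x _ => ?_
      rw [map_smul, hsx, map_smul, ← algebraMap_smul (URing k m) (c x), ← sub_eq_zero, ← sub_smul,
        ← map_smul, Ideal.toCotangent_eq_zero]
      rw [sq]
      show (algebraMap k (URing k m) (c x) - a x) * (gen x).1 ∈ _
      refine Ideal.mul_mem_mul ?_ (gen x).2
      rw [← neg_sub]; exact neg_mem (hc x)
    let E : (W m → k) ≃ₗ[k] (uorigin k m).Cotangent :=
      LinearEquiv.ofBijective s ⟨Function.LeftInverse.injective (g := e) (fun v => LinearMap.congr_fun hes v), hsurj⟩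
    rw [← E.finrank_eq, Module.finrank_fintype_fun_eq_card]
    have := two_mul_card_W m
    omega
  · have hs := Curves2.isSol_ugen ℤ m
    let S : Subalgebra ℤ (URing ℤ m) := Algebra.adjoin ℤ ({ugen ℤ m .a} ∪ Set.range (fun i : Fin m => ugen ℤ m (.ci i)) ∪
        Set.range (fun i : Fin m => ugen ℤ m (.cbi i)) ∪
        Set.range (fun q : {q : Fin m × Fin m // q.1 < q.2} => ugen ℤ m (.cij q.1.1 q.1.2 (ne_of_lt q.2))))
    have hW : ∀ x, wgen ℤ m x ∈ S := by
      rintro (_ | ((i | i) | q)) <;> apply Algebra.subset_adjoin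
      · exact Or.inl (Or.inl (Or.inl rfl))
      · exact Or.inl (Or.inl (Or.inr ⟨i, rfl⟩))
      · exact Or.inl (Or.inr ⟨i, rfl⟩)
      · exact Or.inr ⟨q, rfl⟩
    have hc := ugen_cij_mem ℤ m S hW
    have hall : ∀ g, ugen ℤ m g ∈ S := by
      intro g
      obtain ⟨⟨i₀, j₀⟩, h₀⟩ : ∃ q : Fin m × Fin m, q.1 ≠ q.2 :=
        ⟨(⟨0, by omega⟩, ⟨1, by omega⟩), by simp [Fin.ext_iff]⟩
      cases g with
      | a => exact hW none
      | ci i => exact hW (some (.inl (.inl i)))
      | cbi i => exact hW (some (.inl (.inr i)))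
      | cij i j h => exact hc i j h
      | c =>
        rw [← hs.qc i₀ j₀ h₀]
        exact sub_mem (add_mem (mul_mem (hc _ _ _) (hW (some (.inl (.inl j₀))))) (mul_mem (hc _ _ _) (hW (some (.inl (.inl i₀))))))
          (mul_mem (hW (some (.inl (.inl i₀)))) (hW (some (.inl (.inl j₀)))))
      | cb =>
        rw [← hs.qb i₀ j₀ h₀]
        exact sub_mem (add_mem (mul_mem (hc _ _ _) (hW (some (.inl (.inr i₀))))) (mul_mem (hc _ _ _) (hW (some (.inl (.inr j₀))))))
          (mul_mem (hW (some (.inl (.inr i₀)))) (hW (some (.inl (.inr j₀)))))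
    rw [eq_top_iff]
    rintro x -
    obtain ⟨p, rfl⟩ := Ideal.Quotient.mk_surjective x
    induction p using MvPolynomial.induction_on with
    | C r => exact S.algebraMap_mem r
    | add p q hp hq => rw [map_add]; exact add_mem hp hq
    | mul_X p g hp => rw [map_mul]; exact mul_mem hp (hall g)

end Groth.Agent.S18248
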