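import Groth.Statements.S18256
import Groth.Agent.ArtF85.Basic
import Mathlib.RingTheory.LocalRing.Module
import Mathlib.RingTheory.Flat.Basic

set_option autoImplicit false
universe u
open ArtFun

namespace Groth.Agent.S18256

open CategoryTheory TensorProduct in
/-- Let R be an Artinian local ring with residue field k and M a finitely generated R-module. Suppose
that for every small extension p : A' → A of local Artinian R-algebras with residue field k (p
surjective, its kernel I a nonzero principal ideal killed by the maximal ideal of A'), the map M ⊗_R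
I → M ⊗_R A' induced by the inclusion I ⊆ A' is injective (equivalently, the sequence 0 → M ⊗_R I →
M ⊗_R A' → M ⊗_R A → 0 is exact). Then M is a free R-module. (The printed conclusion reads free over
the residue field; the proof establishes freeness over R, which is what is stated here.) -/
theorem result
    (R : Type u) [CommRing R] [IsArtinianRing R] [IsLocalRing R]
    (k : Type u) [Field k] [Algebra R k] (hk : Function.Surjective (algebraMap R k))
    (M : Type u) [AddCommGroup M] [Module R M] [Module.Finite R M]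
    (h : ∀ (A' A : ArtFun.Art R k) (p : A' ⟶ A), ArtFun.Art.IsSmallExt p →
      Function.Injective
        (LinearMap.lTensor M (((RingHom.ker p.toAlgHom).restrictScalars R).subtype))) :
    Module.Free R M := by
  classical
  let R₀ : ArtFun.Art R k := ArtFun.Art.of R (Algebra.ofId R k) hk
  suffices H : ∀ I : Ideal R, I ≤ IsLocalRing.maximalIdeal R → Function.Injective (I.subtype.lTensor M) by
    haveI : Module.FinitePresentation R M := Module.finitePresentation_of_finite R M
    exact Module.free_of_maximalIdeal_rTensor_injective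
      ((LinearMap.lTensor_inj_iff_rTensor_inj M _).1 (H _ le_rfl))
  intro I
  induction I using WellFoundedLT.induction with
  | _ I ih =>
    intro hI
    rcases eq_or_ne I ⊥ with rfl | hne
    · intro x y _
      exact Subsingleton.elim x y
    have hlt : IsLocalRing.maximalIdeal R * I < I := lt_of_le_of_ne Ideal.mul_le_right fun e => hne
      (Submodule.eq_bot_of_le_smul_of_le_jacobson_bot (IsLocalRing.maximalIdeal R) I (IsNoetherian.noetherian _)
        (by rw [smul_eq_mul, e]) (IsLocalRing.maximalIdeal_le_jacobson _))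
    obtain ⟨J, ⟨hJ1, hJ2⟩, hJmax⟩ := exists_maximal_of_wellFoundedGT
      (P := fun J : Ideal R => IsLocalRing.maximalIdeal R * I ≤ J ∧ J < I) ⟨_, le_rfl, hlt⟩
    obtain ⟨a, haI, haJ⟩ := SetLike.exists_of_lt hJ2
    have hsup : J ⊔ Ideal.span {a} = I := by
      refine eq_of_le_of_not_lt (sup_le hJ2.le ((Ideal.span_singleton_le_iff_mem _).2 haI)) fun hlt' => haJ ?_
      exact hJmax ⟨hJ1.trans le_sup_left, hlt'⟩ le_sup_left (Submodule.mem_sup_right (Ideal.mem_span_singleton_self a))
    have hJm : J ≤ IsLocalRing.maximalIdeal R := hJ2.le.trans hI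
    let hJI : J ≤ RingHom.ker (ArtFun.Art.quotMk R₀ I hI).toAlgHom :=
      fun x hx => (Ideal.Quotient.eq_zero_iff_mem : Ideal.Quotient.mk I x = 0 ↔ x ∈ I).2 (hJ2.le hx)
    let p := ArtFun.Art.quotFactor (C := R₀) hJm (ArtFun.Art.quotMk R₀ I hI) hJI
    let ma : ArtFun.Art.quot R₀ J hJm := Ideal.Quotient.mk J a
    have hmem : ∀ x : R, Ideal.Quotient.mk J x ∈ RingHom.ker p.toAlgHom ↔ x ∈ I :=
      fun x => RingHom.mem_ker.trans (Ideal.Quotient.eq_zero_iff_mem : Ideal.Quotient.mk I x = 0 ↔ x ∈ I)
    have hker : RingHom.ker p.toAlgHom = Ideal.span {ma} := by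
      refine le_antisymm (fun y hy => ?_) ((Ideal.span_singleton_le_iff_mem _).2 ((hmem a).2 haI))
      obtain ⟨x, rfl⟩ := (Ideal.Quotient.mk_surjective : Function.Surjective (Ideal.Quotient.mk J)) y
      have hx := (hmem x).1 hy
      rw [← hsup, Submodule.mem_sup] at hx
      obtain ⟨j, hj, z, hz, rfl⟩ := hx
      obtain ⟨c, rfl⟩ := Ideal.mem_span_singleton'.1 hz
      refine Ideal.mem_span_singleton'.2 ⟨(Ideal.Quotient.mk J c : R ⧸ J), ?_⟩
      change Ideal.Quotient.mk J c * Ideal.Quotient.mk J a = Ideal.Quotient.mk J (j + c * a)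
      rw [map_add, map_mul, (Ideal.Quotient.eq_zero_iff_mem : Ideal.Quotient.mk J j = 0 ↔ j ∈ J).2 hj, zero_add]
    have hp : ArtFun.Art.IsSmallExt p := by
      refine ArtF85.isSmallExt_of_ker (fun y => ?_) (t := ma)
        (fun e => haJ ((Ideal.Quotient.eq_zero_iff_mem : Ideal.Quotient.mk J a = 0 ↔ a ∈ J).1 e)) hker fun y hy => ?_
      · obtain ⟨x, rfl⟩ := (Ideal.Quotient.mk_surjective : Function.Surjective (Ideal.Quotient.mk I)) y
        exact ⟨Ideal.Quotient.mk J x, rfl⟩
      · obtain ⟨x, rfl⟩ := (Ideal.Quotient.mk_surjective : Function.Surjective (Ideal.Quotient.mk J)) y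
        have hx : x ∈ IsLocalRing.maximalIdeal R :=
          (ArtFun.Art.mem_maximalIdeal_iff R₀ x).2 ((ArtFun.Art.mem_maximalIdeal_iff (ArtFun.Art.quot R₀ J hJm) (Ideal.Quotient.mk J x)).1 hy :)
        change Ideal.Quotient.mk J x * Ideal.Quotient.mk J a = 0
        rw [← map_mul]
        exact (Ideal.Quotient.eq_zero_iff_mem : Ideal.Quotient.mk J (x * a) = 0 ↔ _).2 (hJ1 (Ideal.mul_mem_mul hx haI))
    let q : I →ₗ[R] (RingHom.ker p.toAlgHom).restrictScalars R :=
      { toFun := fun x => ⟨Ideal.Quotient.mk J (x : R), (hmem x).2 x.2⟩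
        map_add' := fun x y => Subtype.ext (map_add (Ideal.Quotient.mk J) (x : R) (y : R))
        map_smul' := fun r x => Subtype.ext (by
          change Ideal.Quotient.mk J (r * (x : R)) = r • Ideal.Quotient.mk J (x : R)
          rw [map_mul, Algebra.smul_def]; rfl) }
    have hq : Function.Surjective q := fun y => by
      obtain ⟨x, hx⟩ := (Ideal.Quotient.mk_surjective : Function.Surjective (Ideal.Quotient.mk J)) y.1
      exact ⟨⟨x, (hmem x).1 (hx ▸ y.2)⟩, Subtype.ext hx⟩
    have hex : Function.Exact (Submodule.inclusion hJ2.le) q := fun x => by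
      constructor
      · intro hx
        exact ⟨⟨x, (Ideal.Quotient.eq_zero_iff_mem : Ideal.Quotient.mk J (x : R) = 0 ↔ _).1 (congrArg Subtype.val hx)⟩, rfl⟩
      · rintro ⟨y, rfl⟩
        exact Subtype.ext ((Ideal.Quotient.eq_zero_iff_mem : Ideal.Quotient.mk J (y : R) = 0 ↔ _).2 y.2)
    refine (injective_iff_map_eq_zero _).2 fun x hx => ?_
    have hcomm : ((RingHom.ker p.toAlgHom).restrictScalars R).subtype ∘ₗ q =
        (Algebra.linearMap R (ArtFun.Art.quot R₀ J hJm)) ∘ₗ I.subtype := LinearMap.ext fun y => rfl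
    have h1 : q.lTensor M x = 0 := by
      refine h _ _ p hp ?_
      rw [map_zero, ← LinearMap.lTensor_comp_apply, hcomm, LinearMap.lTensor_comp_apply, hx, map_zero]
    obtain ⟨y, rfl⟩ := (lTensor_exact M hex hq x).1 h1
    rw [← LinearMap.lTensor_comp_apply, Submodule.subtype_comp_inclusion] at hx
    rw [(injective_iff_map_eq_zero _).1 (ih J hJ2 hJm) y hx, map_zero]

end Groth.Agent.S18256
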