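import Groth.Statements.S18257
import Groth.Agent.Units47.Coho

set_option autoImplicit false
universe u
open UnitsSh Groth.Agent

namespace Groth.Agent.S18257

open CategoryTheory CategoryTheory.Limits AlgebraicGeometry in
/-- In the case of the multiplicative group, for schemes and with Zariski cohomology of the sheaf of
units. Let A be a local ring with maximal ideal m, t a nonzero element of m with m·t = 0, and X' a
scheme flat over Spec A; let i : X ⟶ X' be the closed subscheme cut out by t (base change to A/(t))
and X₀ the closed fibre (base change to the residue field). If H^{q+1}(X₀, O_{X₀}) = 0, then the map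
H^q(X', O_{X'}^×) → H^q(X', i_* O_X^×) induced by the units map of i is surjective. (The published
statement covers any smooth commutative group scheme in place of the multiplicative group, with the
Lie algebra of its closed fibre in place of O_{X₀}, uses étale cohomology, and takes A Artinian;
this row allows any local ring A with t as stated.) -/
theorem result
    (A : Type u) [CommRing A] [IsLocalRing A]
    (t : A) (ht0 : t ≠ 0) (ht : t ∈ IsLocalRing.maximalIdeal A)
    (hmt : ∀ x ∈ IsLocalRing.maximalIdeal A, x * t = 0)
    (X' : Scheme.{u}) [X'.Over (Spec (CommRingCat.of A))] [Flat (X' ↘ Spec (CommRingCat.of A))]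
    (q : ℕ)
    (hvan : Subsingleton (Coh.HH
      (pullback (X' ↘ Spec (CommRingCat.of A)) (Spec.map (CommRingCat.ofHom (IsLocalRing.residue A))))
      (Coh.structureModule _) (q + 1))) :
    Function.Surjective (Sheaf.H.map (UnitsSh.comap
      (pullback.fst (X' ↘ Spec (CommRingCat.of A))
        (Spec.map (CommRingCat.ofHom (Ideal.Quotient.mk (Ideal.span ({t} : Set A))))))) q) := by
  open Units47 in
  have h0 : IsIso (iSub (X' ↘ Spec (CommRingCat.of A)) (RingHom.id A)) := by
    have : IsIso (CommRingCat.ofHom (RingHom.id A)) := (ConcreteCategory.isIso_iff_bijective _).2 Function.bijective_id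
    infer_instance
  open Units47 in
  exact surjH_step (X' ↘ Spec (CommRingCat.of A)) (φ := RingHom.id A)
    (ψ := Ideal.Quotient.mk (Ideal.span ({t} : Set A))) (ρ := IsLocalRing.residue A)
    (Ideal.Quotient.mk (Ideal.span ({t} : Set A))) t Function.surjective_id (RingHom.comp_id _)
    Ideal.Quotient.mk_surjective IsLocalRing.residue_surjective
    (by rw [Ideal.mk_ker, (RingHom.injective_iff_ker_eq_bot (RingHom.id A)).1 Function.injective_id, bot_sup_eq])
    (fun a => by
      rw [IsLocalRing.ker_residue, RingHom.mem_ker, RingHom.id_apply]
      refine ⟨hmt a, fun ha => by_contra fun h => ht0 ?_⟩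
      obtain ⟨c, hc⟩ := (IsLocalRing.notMem_maximalIdeal.1 h).exists_left_inv
      rw [← one_mul t, ← hc, mul_assoc, ha, mul_zero])
    (by rw [RingHom.mem_ker, RingHom.id_apply, hmt t ht])
    (by
      rw [Ideal.mk_ker, Ideal.span_le, Set.singleton_subset_iff]
      exact mem_nilradical.2 ⟨2, by rw [pow_two, hmt t ht]⟩)
    q (surjH_of_isIso _ q) hvan

end Groth.Agent.S18257
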