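import Mathlib
import Groth.Agent.Hopf35.PointCfg
import Groth.Statements.S18263

set_option autoImplicit false
universe u
open InvQ

namespace Groth.Agent.S18263

theorem result (k : Type u) [Field k] [IsAlgClosed k] (n m : ℕ) (hn : 1 ≤ n) (hmn : m ≤ n)
    (hm : (Nat.factorial m : k) ≠ 0) (p : Fin m → Fin (n + 1) → k) (hp : ∀ i, p i ≠ 0)
    (a : CoordGrp.FormIdx (n + 1) m → k)
    (ha : CoordGrp.formPoly a = ∏ i, ∑ j, MvPolynomial.C (p i j) * MvPolynomial.X j) :
    ¬ @GLin.IsStableVec k _ (CoordGrp.SLn (n + 1) k) _ _ (CoordGrp.FormIdx (n + 1) m)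
      (GLin.comodAlong ((CoordGrp.SLn.mkHom (n + 1) k).comp (CoordGrp.Mat.toGLn (n + 1) k)) (CoordGrp.formsCoact k (n + 1) m))
      (GLin.isCoactAlg_comodAlong ((CoordGrp.SLn.mkHom (n + 1) k).comp (CoordGrp.Mat.toGLn (n + 1) k)) (CoordGrp.formsCoact k (n + 1) m) (CoordGrp.formsCoact_isCoactAlg k (n + 1) m)) a := by
  classical
  obtain ⟨W, hpW, hW, hW'⟩ : ∃ W : Submodule k (Fin (n + 1) → k), (∀ i, p i ∈ W) ∧ W ≠ ⊥ ∧ W ≠ ⊤ := by
    have hd : Module.finrank k (Submodule.span k (Set.range p)) ≤ m :=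
      (finrank_range_le_card p).trans (by simp)
    by_cases h0 : Submodule.span k (Set.range p) = ⊥
    · refine ⟨k ∙ (Pi.single 0 1 : Fin (n + 1) → k), fun i => ?_, by simp, fun ht => ?_⟩
      · have : p i ∈ Submodule.span k (Set.range p) := Submodule.subset_span ⟨i, rfl⟩
        rw [h0] at this
        exact absurd this (hp i)
      · have := congrArg (fun W : Submodule k (Fin (n + 1) → k) => Module.finrank k W) ht
        simp [finrank_span_singleton] at this
        omega
    · refine ⟨Submodule.span k (Set.range p), fun i => Submodule.subset_span ⟨i, rfl⟩, h0, fun ht => ?_⟩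
      rw [ht, finrank_top, Module.finrank_fin_fun] at hd
      omega
  refine Hopf35.PointCfg.not_stable_of_le hm p a ha W hW hW' ?_
  rw [Nat.card_congr (Equiv.subtypeUnivEquiv hpW), Nat.card_eq_fintype_card, Fintype.card_fin]
  exact Nat.mul_le_mul_left _ ((Submodule.finrank_le W).trans (by simp))

end Groth.Agent.S18263
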