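import Groth.Statements.S18265
import Mathlib.RingTheory.IntegralClosure.IntegrallyClosed
import Mathlib.RingTheory.Polynomial.UniqueFactorization
import Mathlib.RingTheory.PrincipalIdealDomain
import Mathlib

set_option autoImplicit false
universe u v w
open InvQ

namespace Groth.Agent.S18265

/-- fixed subalgebras of endomorphisms of an integrally closed domain are integrally closed -/
theorem isIntegrallyClosed_of_fixed {k T : Type*} [CommRing k] [CommRing T] [IsDomain T] [Algebra k T]
    [IsIntegrallyClosed T] (R : Subalgebra k T)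
    (hfix : ∀ t : T, ∀ b ∈ R, b ≠ 0 → t * b ∈ R → t ∈ R) : IsIntegrallyClosed R := by
  refine (isIntegrallyClosed_iff (FractionRing R)).mpr fun {x} hx => ?_
  obtain ⟨a, b, hb, rfl⟩ := IsFractionRing.div_surjective R x
  have hb0 : (b : R) ≠ 0 := nonZeroDivisors.ne_zero hb
  let j : FractionRing R →+* FractionRing T :=
    IsFractionRing.map (j := (R.val : R →+* T)) (show Function.Injective (R.val : R →+* T) from Subtype.val_injective)
  have hj : ∀ r : R, j (algebraMap R (FractionRing R) r) = algebraMap T (FractionRing T) (r : T) :=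
    fun r => IsLocalization.map_eq _ r
  obtain ⟨p, hp, hpx⟩ := hx
  have hint : IsIntegral T (j (algebraMap R (FractionRing R) a / algebraMap R (FractionRing R) b)) := by
    refine ⟨p.map (R.val : R →+* T), hp.map _, ?_⟩
    rw [Polynomial.eval₂_map]
    have h := congrArg j hpx
    rw [Polynomial.hom_eval₂, map_zero] at h
    rw [← h]
    congr 1
    exact RingHom.ext fun r => (hj r).symm
  obtain ⟨t, ht⟩ := IsIntegrallyClosed.isIntegral_iff.mp hint
  rw [map_div₀, hj, hj] at ht
  have hbT : algebraMap T (FractionRing T) (b : T) ≠ 0 := by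
    rw [Ne, map_eq_zero_iff _ (IsFractionRing.injective T (FractionRing T))]
    exact fun h => hb0 (Subtype.ext h)
  rw [eq_div_iff hbT, ← map_mul] at ht
  have htb : t * (b : T) = a := IsFractionRing.injective T (FractionRing T) ht
  have htR : t ∈ R := hfix t b b.2 (fun h => hb0 (Subtype.ext h)) (htb ▸ a.2)
  refine ⟨⟨t, htR⟩, ?_⟩
  rw [eq_div_iff (fun h => hb0 ((map_eq_zero_iff _ (IsFractionRing.injective R (FractionRing R))).mp h)),
    ← map_mul]
  exact congrArg _ (Subtype.ext htb)

theorem result (k : Type u) [Field k] [IsAlgClosed k] (n m : ℕ) :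
    IsIntegrallyClosed (W4c5pointsetsdelpezzo.invRing k n m) := by
  refine isIntegrallyClosed_of_fixed _ fun t b hb hb0 htb => ?_
  simp only [W4c5pointsetsdelpezzo.invRing, Algebra.mem_inf, Algebra.mem_iInf, AlgHom.mem_equalizer,
    AlgHom.id_apply] at hb htb ⊢
  refine ⟨fun g => ?_, fun s => ?_⟩
  · have h := htb.1 g
    rw [map_mul, hb.1 g] at h
    exact mul_right_cancel₀ hb0 h
  · have h := htb.2 s
    rw [map_mul, hb.2 s] at h
    exact mul_right_cancel₀ hb0 h

end Groth.Agent.S18265
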