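import Groth.Statements.S18266
import Groth.Agent.Lim60.GenericFibre
-- import your own Groth.Agent.* helpers here

set_option autoImplicit false
set_option backward.isDefEq.respectTransparency.types false
set_option linter.style.haveILetI false
universe u
open CategoryTheory AlgebraicGeometry
open FDesc

namespace Groth.Agent.S18266

/-- Let A be a discrete valuation ring, η the generic point of Spec A, and f : X → Spec A a morphism
from an arbitrary scheme X. The scheme-theoretic closure of the generic fibre X_η in X (the flat
completion) is flat over Spec A, and it is the largest closed subscheme of X flat over Spec A: for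
every closed immersion i : Z → X with Z flat over Spec A, the ideal sheaf of the flat completion is
contained in the ideal sheaf of i. -/
theorem result (A : Type u) [CommRing A] [IsDomain A]
    [IsDiscreteValuationRing A] {X : Scheme.{u}} (f : X ⟶ Spec (CommRingCat.of A))
    (η : ↥(Spec (CommRingCat.of A))) (hη : η.asIdeal = ⊥) :
    Flat ((f.fiberι η).imageι ≫ f) ∧
      ∀ (Z : Scheme.{u}) (i : Z ⟶ X), IsClosedImmersion i → Flat (i ≫ f) → (f.fiberι η).ker ≤ i.ker := by
  haveI : IsIntegral (Spec (CommRingCat.of A)) := inferInstance
  obtain rfl : η = genericPoint (Spec (CommRingCat.of A)) := by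
    rw [genericPoint_eq_bot_of_affine]; exact PrimeSpectrum.ext hη
  haveI : IsAffineHom (f.fiberι (genericPoint (Spec (CommRingCat.of A)))) := Lim60.GenFib.isAffineHom_fiberι f
  refine ⟨Lim60.GenFib.flat_image f (fun y => ?_) _ (fun z => ?_), fun Z i hi hfl => ?_⟩
  · let e := (Spec.stalkIso (CommRingCat.of A) y).commRingCatIsoToRingEquiv
    haveI : IsNoetherianRing (Localization.AtPrime (R := A) y.asIdeal) :=
      IsLocalization.isNoetherianRing y.asIdeal.primeCompl _ (inferInstanceAs (IsNoetherianRing A))
    haveI : IsDedekindDomain (Localization.AtPrime (R := A) y.asIdeal) :=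
      Localization.AtPrime.isDedekindDomain A y.asIdeal
    haveI : ValuationRing (Localization.AtPrime (R := A) y.asIdeal) :=
      (show ValuationRing (Localization.AtPrime (R := A) y.asIdeal) ↔
          IsDedekindDomain (Localization.AtPrime (R := A) y.asIdeal) from
        (tfae_of_isNoetherianRing_of_isLocalRing_of_isDomain _).out 1 2).mpr inferInstance
    exact Function.Surjective.valuationRing e.symm.toRingHom e.symm.surjective
  · have h : f.fiberι (genericPoint (Spec (CommRingCat.of A))) z ∈ Set.range (f.fiberι (genericPoint (Spec (CommRingCat.of A)))) := ⟨z, rfl⟩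
    rw [Scheme.Hom.range_fiberι] at h
    exact h
  · haveI := hi
    haveI := hfl
    refine le_trans ?_ (Lim60.GenFib.ker_le_of_flat f i (Limits.pullback.fst i _) (Limits.pullback.snd i _)
      (IsPullback.of_hasPullback i _))
    exact Scheme.Hom.le_ker_comp _ _

end Groth.Agent.S18266
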