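import Groth.Agent.AlgGrp79.GenSubgroup
import Groth.Agent.WC97.Reduced
import Groth.Agent.SchBasics.Reduced
import Groth.Statements.S18272

set_option autoImplicit false
open CategoryTheory MonoidalCategory CartesianMonoidalCategory MonObj GrpObj AlgebraicGeometry
open AbVar

namespace Groth.Agent.S18272

theorem result
    (A : Over (Spec (CommRingCat.of ℂ))) [GrpObj A] [IsProper A.hom] [AlgebraicGeometry.IsIntegral A.left]
    (G : Type) [Group G] (f : (𝟙_ (Over (Spec (CommRingCat.of ℂ))) ⟶ A) →* G)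
    (V : Set ↥A.left) (hVcl : IsClosed V) (hVirr : IsIrreducible V)
    (hV1 : Set.range ⇑(η[A]).left ⊆ V)
    (hVker : ∀ a : 𝟙_ (Over (Spec (CommRingCat.of ℂ))) ⟶ A, Set.range ⇑a.left ⊆ V → f a = 1) :
    ∃ (B : Over (Spec (CommRingCat.of ℂ))) (_ : GrpObj B) (incl : B ⟶ A), IsMonHom incl ∧ IsClosedImmersion incl.left ∧
      AlgebraicGeometry.IsIntegral B.left ∧ V ⊆ Set.range ⇑incl.left ∧
      ∀ b : 𝟙_ (Over (Spec (CommRingCat.of ℂ))) ⟶ B, f (b ≫ incl) = 1 := by
  classical
  haveI : JacobsonSpace A.left := LocallyOfFiniteType.jacobsonSpace A.hom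
  let I := Scheme.IdealSheafData.vanishingIdeal (⟨V, hVcl⟩ : TopologicalSpace.Closeds A.left)
  have hrange : Set.range I.subschemeι = V := by
    rw [Scheme.IdealSheafData.range_subschemeι]
    simp [I]
  let X : Over (Spec (CommRingCat.of ℂ)) := Over.mk (I.subschemeι ≫ A.hom)
  let j : X ⟶ A := Over.homMk I.subschemeι rfl
  haveI : IsClosedImmersion j.left := inferInstanceAs (IsClosedImmersion I.subschemeι)
  haveI hX1 : LocallyOfFiniteType X.hom := inferInstanceAs (LocallyOfFiniteType (I.subschemeι ≫ A.hom))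
  have hX2 : QuasiCompact X.hom := inferInstanceAs (QuasiCompact (I.subschemeι ≫ A.hom))
  have hred : IsReduced X.left := SchBasics.isReduced_vanishingIdeal_subscheme _
  have hirr : IrreducibleSpace X.left := by
    have h : IsIrreducible (Set.univ : Set X.left) := by
      have hr : Set.range j.left = V := hrange
      let e := j.left.isClosedEmbedding.isEmbedding.toHomeomorph
      haveI : IrreducibleSpace (Set.range j.left) := hr ▸ Subtype.irreducibleSpace hVirr
      rw [← e.symm.surjective.range_eq, ← Set.image_univ]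
      exact (IrreducibleSpace.isIrreducible_univ _).image e.symm e.symm.continuous.continuousOn
    exact { isPreirreducible_univ := h.2, toNonempty := ⟨h.1.some⟩ }
  haveI : IsReduced (𝟙_ (Over (Spec (CommRingCat.of ℂ)))).left := inferInstanceAs (IsReduced (Spec (CommRingCat.of ℂ)))
  obtain ⟨x, hx⟩ := AlgGrp79.exists_lift_of_range_subset j η[A] (hV1.trans hrange.symm.subset)
  let F : AlgGrp79.Fam A := ⟨X, j, x, hx.trans (MonObj.one_eq_one (M := A)), hred, hirr, hX1, hX2⟩
  obtain ⟨D, hD, i, hi, hci, hsm, hDirr, hDpts⟩ := AlgGrp79.exists_generated F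
  have hsub : Subgroup.closure F.pts ≤ f.ker := by
    refine (Subgroup.closure_le _).2 ?_
    rintro _ ⟨p, rfl⟩
    refine MonoidHom.mem_ker.2 (hVker _ ?_)
    rintro _ ⟨q, rfl⟩
    rw [← hrange]
    exact ⟨p.left q, rfl⟩
  haveI : IsReduced D.left := WC97.isReduced_of_smooth D.hom
  haveI : IrreducibleSpace D.left := hDirr
  refine ⟨D, hD, i, hi, hci, isIntegral_of_irreducibleSpace_of_isReduced _, ?_, fun b => MonoidHom.mem_ker.1 (hsub ?_)⟩
  · have hsubset : Set.range j.left ⊆ Set.range i.left := by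
      refine AlgGrp79.range_subset_of_pts j i.left.isClosedEmbedding.isClosed_range fun p => ?_
      obtain ⟨d, hd⟩ : p ≫ j ∈ Set.range fun d : 𝟙_ (Over (Spec (CommRingCat.of ℂ))) ⟶ D => d ≫ i :=
        hDpts ▸ Subgroup.subset_closure ⟨p, rfl⟩
      rw [← show d ≫ i = p ≫ j from hd]
      exact ⟨_, rfl⟩
    exact hrange ▸ hsubset
  · rw [← SetLike.mem_coe, ← hDpts]
    exact ⟨b, rfl⟩

end Groth.Agent.S18272
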