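import Groth.Statements.S18283
import Mathlib

set_option autoImplicit false
universe u v
open CAlgX

namespace Groth.Agent.S18283

/-- Let A be a commutative ring, ι a finite index type, H a finite set of indices (the head indices) and
c : ι → ι → A a table of coefficients; for j ∈ H put f_j = e_j − Σ_{i ∉ H} c_{ji} e_i in the free
module A^ι, so that each f_j has head e_j with coefficient 1 and tail supported outside H. If a
submodule M of A^ι contains every f_j with j ∈ H, then M is the A-span of these f_j if and only if
every wedge product of |H|+1 elements of M vanishes in the (|H|+1)-st exterior power of A^ι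
(equivalently, every (|H|+1)-minor of every matrix whose rows lie in M vanishes). The published
statement is the case where A is a Noetherian algebra over a field of characteristic zero, A^ι is
the degree-(m+1) part of the polynomial ring over A with its basis of terms, H is the set of
degree-(m+1) terms of a strongly stable monomial ideal generated in degree m, and M is the
degree-(m+1) part of an ideal generated by a marked set on that monomial ideal; this row allows any
commutative ring and any submodule containing the marked polynomials. -/
theorem result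
    {A : Type u} [CommRing A] {ι : Type v} [Fintype ι] [DecidableEq ι]
    (H : Finset ι) (c : ι → ι → A) (M : Submodule A (ι → A))
    (hf : ∀ j ∈ H, (Pi.single j (1 : A) - ∑ i ∈ Hᶜ, c j i • Pi.single i (1 : A)) ∈ M) :
    M = Submodule.span A ((fun j => Pi.single j (1 : A) - ∑ i ∈ Hᶜ, c j i • Pi.single i (1 : A)) '' ↑H)
      ↔ ∀ v : Fin (H.card + 1) → ι → A, (∀ k, v k ∈ M) →
          exteriorPower.ιMulti A (H.card + 1) v = 0 := by
  classical
  set f : ι → ι → A := fun j => Pi.single j (1 : A) - ∑ i ∈ Hᶜ, c j i • Pi.single i (1 : A) with hfdef
  have hfH : ∀ j, ∀ l ∈ H, f j l = (Pi.single j (1 : A) : ι → A) l := by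
    intro j l hl
    simp only [hfdef, Pi.sub_apply, Finset.sum_apply, Pi.smul_apply, smul_eq_mul]
    rw [Finset.sum_eq_zero fun i hi => ?_, sub_zero]
    have : l ≠ i := fun h => (Finset.mem_compl.1 hi) (h ▸ hl)
    rw [Pi.single_eq_of_ne this, mul_zero]
  constructor
  · intro hM v hv
    have hv' : ∀ k, ∃ a : H → A, ∑ j, a j • f j = v k := by
      intro k
      have := hM ▸ hv k
      rw [Set.image_eq_range] at this
      exact (Submodule.mem_span_range_iff_exists_fun A).1 this
    choose a ha using hv'
    rw [← funext ha]
    rw [← AlternatingMap.coe_multilinearMap, MultilinearMap.map_sum]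
    refine Finset.sum_eq_zero fun g _ => ?_
    rw [MultilinearMap.map_smul_univ]
    obtain ⟨x, y, hxy, hne⟩ : ∃ x y, g x = g y ∧ x ≠ y := by
      by_contra hh
      push Not at hh
      have := Fintype.card_le_of_injective g fun x y h => hh x y h
      simp at this
    rw [AlternatingMap.coe_multilinearMap,
      AlternatingMap.map_eq_zero_of_eq (i := x) (j := y) _ _ (congrArg (fun j : H => f j) hxy) hne, smul_zero]
  · intro h
    refine le_antisymm (fun m hm => ?_) (Submodule.span_le.2 (Set.image_subset_iff.2 hf))
    let m' : ι → A := m - ∑ j ∈ H, m j • f j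
    have hm' : m' ∈ M := M.sub_mem hm (M.sum_mem fun j hj => M.smul_mem _ (hf j hj))
    have hzero : ∀ l ∈ H, m' l = 0 := by
      intro l hl
      simp only [m', Pi.sub_apply, Finset.sum_apply, Pi.smul_apply, smul_eq_mul, hfH _ l hl]
      rw [Finset.sum_eq_single l (fun j _ hne => by rw [Pi.single_eq_of_ne (Ne.symm hne), mul_zero])
        (fun hn => absurd hl hn), Pi.single_eq_same, mul_one, sub_self]
    suffices m' = 0 by
      have h2 : m = ∑ j ∈ H, m j • f j := sub_eq_zero.1 this
      rw [h2]
      exact Submodule.sum_mem _ fun j hj => Submodule.smul_mem _ _ (Submodule.subset_span ⟨j, hj, rfl⟩)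
    funext i
    by_cases hi : i ∈ H
    · exact hzero i hi
    let e : Fin H.card ≃ H := H.equivFin.symm
    let idx : Fin (H.card + 1) → ι := Fin.snoc (fun k => (e k : ι)) i
    let v : Fin (H.card + 1) → ι → A := Fin.snoc (fun k => f (e k)) m'
    have hv : ∀ k, v k ∈ M := by
      intro k
      induction k using Fin.lastCases with
      | last => simpa [v] using hm'
      | cast k => simpa [v] using hf _ (e k).2
    let D : (ι → A) [⋀^Fin (H.card + 1)]→ₗ[A] A :=
      (Matrix.detRowAlternating : (Fin (H.card + 1) → A) [⋀^Fin (H.card + 1)]→ₗ[A] A).compLinearMap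
        (LinearMap.funLeft A A idx)
    have hD : D v = 0 := by
      have h1 := congrArg (exteriorPower.alternatingMapLinearEquiv D) (h v hv)
      rwa [exteriorPower.alternatingMapLinearEquiv_apply_ιMulti, map_zero] at h1
    change (Matrix.of fun a b => v a (idx b)).det = 0 at hD
    rw [Matrix.det_succ_row _ (Fin.last H.card), Fin.sum_univ_castSucc] at hD
    have hs : (Matrix.of fun a b => v a (idx b)).submatrix Fin.castSucc Fin.castSucc = 1 := by
      ext a b
      simp only [Matrix.submatrix_apply, Matrix.of_apply, v, idx, Fin.snoc_castSucc]
      rw [hfH _ _ (e b).2, Matrix.one_apply]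
      rcases eq_or_ne a b with rfl | hne
      · simp
      · rw [if_neg hne, Pi.single_eq_of_ne]
        exact fun hh => hne (e.injective (Subtype.ext hh.symm))
    simp only [Matrix.of_apply, Fin.succAbove_last, hs] at hD
    simp only [v, idx, Fin.snoc_last, Fin.snoc_castSucc, hzero _ (e _).2, mul_zero, zero_mul,
      Finset.sum_const_zero, zero_add, Matrix.det_one, mul_one, Fin.val_last, Even.neg_one_pow ⟨H.card, rfl⟩, one_mul] at hD
    exact hD

end Groth.Agent.S18283
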