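import Groth.Statements.S18304
import Groth.Agent.Mag88.Atlas

set_option autoImplicit false
universe u
open CategoryTheory MonoidalCategory CartesianMonoidalCategory MonObj AlgebraicGeometry Opposite
open Magnet

namespace Groth.Agent.S18304

/-- Let M be a finitely generated commutative group, X an S-scheme with an action of the diagonalizable
group scheme D(M)_S, N a submonoid (magnet) of M and Z the subgroup of M underlying the face N* of
invertible elements of N. Suppose given an S-affine N*-FPR atlas: an S-scheme U affine over S with a
D(M)_S-action and an equivariant morphism f : U → X over S which is étale and surjective and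
fixed-point reflecting for the induced actions of D(M/Z)_S (the square of D(M/Z)_S-fixed-point
functors over U → X is cartesian). Assume that N is finitely generated as a monoid, or that X is
locally of finite presentation and separated over S. Then the attractors X^N and X^{N*} are
representable by S-schemes Z_N and Z_*, and the face projection X^N → X^{N*} corresponds to an
affine morphism Z_N → Z_*. (The published statement allows any commutative group M, X an algebraic
space and an atlas that is a disjoint union of S-affine schemes each stable under D(M)_S, assumes in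
its first alternative only that X is separated, and lists further permanence properties of X^N —
quasi-separated, separated, locally of finite presentation, quasi-compact, of finite presentation —
which are not restated here. Its argument uses the base change of étale equivariant maps along faces
and the identification of attractors of subgroups with fixed points, both established for M finitely
generated, so M is taken finitely generated here; and finite presentation is assumed with
separatedness because the directed-union step used in that case needs it.) -/
theorem result (S : Scheme.{u}) (M : Type) [AddCommGroup M]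
    [AddGroup.FG M] (X U : Over S) (aX : AlgGrp.Action (Red.DS S M) X) (aU : AlgGrp.Action (Red.DS S M) U)
    [IsAffineHom U.hom] (f : U ⟶ X) [Etale f.left] [Surjective f.left]
    (hf : Magnet.MonAct.IsEquivariant (Magnet.MonAct.ofAction aU) (Magnet.MonAct.ofAction aX) f)
    (N : AddSubmonoid M) (Z : AddSubgroup M) (hZ : Z.toAddSubmonoid = Magnet.unitFace N)
    (hfZ : Magnet.MonAct.IsEquivariant
      ((Magnet.MonAct.ofAction aU).restrict (Magnet.AMonS.map S (QuotientAddGroup.mk' Z)))
      ((Magnet.MonAct.ofAction aX).restrict (Magnet.AMonS.map S (QuotientAddGroup.mk' Z))) f)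
    (hfpr : IsPullback (Magnet.MonAct.fixedPsh.map f hfZ)
      (Magnet.MonAct.fixedPshι ((Magnet.MonAct.ofAction aU).restrict (Magnet.AMonS.map S (QuotientAddGroup.mk' Z))))
      (Magnet.MonAct.fixedPshι ((Magnet.MonAct.ofAction aX).restrict (Magnet.AMonS.map S (QuotientAddGroup.mk' Z))))
      (yoneda.map f))
    (h : N.FG ∨ (IsSeparated X.hom ∧ LocallyOfFinitePresentation X.hom)) :
    ∃ (ZN Zs : Over S) (eN : (Magnet.attr (Magnet.MonAct.ofAction aX) N).RepresentableBy ZN)
      (es : (Magnet.attr (Magnet.MonAct.ofAction aX) (Magnet.unitFace N)).RepresentableBy Zs) (j : ZN ⟶ Zs),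
      IsAffineHom j.left ∧ ∀ (T : Over S) (z : T ⟶ ZN),
        es.homEquiv (z ≫ j) = (Magnet.attrFace (Magnet.MonAct.ofAction aX) (Magnet.isFace_unitFace N)).app (op T)
          (eN.homEquiv z) := by
  subst_vars
  let a : Magnet.MonAct (Magnet.AMonS S M) X := Magnet.MonAct.ofAction aX
  let b : Magnet.MonAct (Magnet.AMonS S M) U := Magnet.MonAct.ofAction aU
  have hQ : Magnet.IsFace N Z.toAddSubmonoid := hZ ▸ Magnet.isFace_unitFace N
  obtain ⟨Zs, W, i, i', c, es, eW, hi, hi', hpb, -, -, hcomp⟩ :=
    Groth.Agent.Mag88.exists_atlas_base a b f hf Z hfZ hfpr (Groth.Agent.Mag88.exists_fixed_closed b Z)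
  obtain ⟨V, iV, eV, s, -, -, hsA, hs⟩ := Groth.Agent.Mag88.exists_affine_attr_map b hQ i' eW
  obtain ⟨ZN, j, eN, hj, hjN⟩ := Groth.Agent.Mag88.exists_atlas_attr a b f hf hQ
    (fun T => Groth.Agent.Mag88.faceLiftAt a b f hf hQ h T) c (Groth.Agent.Mag88.fppfSurj_of_isPullback f hpb) es eW
    hcomp eV s hs
  revert hQ es eW hcomp hs hjN
  generalize Magnet.isFace_unitFace N = hF
  revert hF
  rw [← hZ]
  intro hF hQ es eW hcomp hs hjN
  exact ⟨ZN, Zs, eN, es, j, hj, hjN⟩

end Groth.Agent.S18304
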