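import Groth.Statements.S18310
import Groth.Agent.AlgSt88.StackFieldChart
import Groth.Agent.AlgSt88.HenselStLift

set_option autoImplicit false
universe u
open AlgSt

namespace Groth.Agent.S18310

open CategoryTheory AlgebraicGeometry in
/-- Let S be a scheme, 𝒵 an algebraic stack over (Sch/S) for the fppf topology whose diagonal 𝒵 → 𝒵
×_{(Sch/S)} 𝒵 is separated (representable by algebraic spaces with closed-immersion relative
diagonal; no quasi-compactness is assumed), R a Henselian local ring with a structure morphism Spec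
R → S, and z : (Sch/Spec R) → 𝒵 a functor over (Sch/S) (an R-point of 𝒵). Then there are an affine
scheme Z over S, a functor p : (Sch/Z) → 𝒵 over (Sch/S) which is representable by algebraic spaces
and smooth, and an S-morphism g : Spec R → Z such that g followed by p is isomorphic to z over
(Sch/S). The source assumes only that the fibre of the diagonal over the image in S of the closed
point of Spec R is separated; the diagonal itself is taken separated here. -/
theorem result {S : Scheme.{u}} (𝒵 : AlgSt.Cat S)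
    (h𝒵 : AlgSt.IsAlgStack Scheme.fppfPrecoverage 𝒵)
    (hΔ : AlgSt.RepByAlgSpWith AlgSp.IsSeparatedMor (FibCat.diag (FibCat.toSelf 𝒵)))
    (R : Type u) [CommRing R] [HenselianLocalRing R] (str : Spec (CommRingCat.of R) ⟶ S)
    (z : FibCat.overCat (Over.mk str) ⥤ᵇ 𝒵) :
    ∃ (Z : Over S) (_ : IsAffine Z.left) (p : FibCat.overCat Z ⥤ᵇ 𝒵) (g : Over.mk str ⟶ Z),
      AlgSt.RepByAlgSpWith (AlgSp.LocP @Smooth) p ∧
        Nonempty (BasedFunctor.comp (AlgSt.overMap g) p ≅ z) := by
  let π : R →+* IsLocalRing.ResidueField R := IsLocalRing.residue R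
  let T₀ : Over S := Over.mk (Spec.map (CommRingCat.ofHom π) ≫ str)
  let ι : T₀ ⟶ Over.mk str := Over.homMk (Spec.map (CommRingCat.ofHom π)) rfl
  obtain ⟨Z, hZaff, p, u₀, hp, ⟨e⟩⟩ := Groth.Agent.AlgSt88.exists_affine_chart_stack_fieldPoint
    (K := Scheme.fppfPrecoverage) Groth.Agent.AlgSt88.etale_le_fppf_gc h𝒵 (BasedFunctor.comp (AlgSt.overMap ι) z)
  let Zs : AlgSp.Space S := ⟨(AlgSp.yon S).obj Z, AlgSp.IsAlgSpace.yon_obj Z⟩
  let f : AlgSt.ofSp Zs.obj ⥤ᵇ 𝒵 := BasedFunctor.comp (AlgSt.toOverCat Z) p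
  have hf : AlgSt.RepByAlgSpWith (AlgSp.LocP @Smooth) f :=
    (Groth.Agent.AlgSt88.repByAlgSpWith_precomp_equiv (Groth.Agent.AlgSt88.isEquivOver_toOverCat Z)).2 hp
  obtain ⟨j₀⟩ := Groth.Agent.AlgSt88.overMap_iso u₀
  obtain ⟨z', hz', ⟨e'⟩⟩ := Groth.Agent.AlgSt88.exists_lift_stack_henselian Zs f hf π
    IsLocalRing.residue_surjective z ι rfl ((AlgSp.yon S).map u₀)
    (Groth.Agent.AlgSt88.bRight j₀ p ≪≫ e)
  obtain ⟨g, hg⟩ := (AlgSp.yon S).map_surjective z'
  subst hg
  obtain ⟨j⟩ := Groth.Agent.AlgSt88.overMap_iso g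
  exact ⟨Z, hZaff, p, g, hp, ⟨(Groth.Agent.AlgSt88.bRight j p).symm ≪≫ e'⟩⟩

end Groth.Agent.S18310
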