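import Groth.Statements.S18311
import Groth.Agent.AlgSt88.HenselCharts

set_option autoImplicit false
universe u
open CategoryTheory CategoryTheory.Limits AlgebraicGeometry
open AlgSp

namespace Groth.Agent.S18311

/-- Let S be a scheme, X an algebraic space over S, and R a Henselian local ring with a structure
morphism Spec R → S. Then there are a scheme Z separated over S and a representable étale morphism p
: h_Z → X such that, for every ideal a of R, every point h_{Spec (R/a)} → X over S (Spec (R/a)
mapping to S through Spec R) is h_g followed by p for some S-morphism g : Spec (R/a) → Z. The source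
states this for algebraic stacks whose diagonal has a separated S-fibre over the image of the closed
point, with Z smooth over the stack in general, Z étale over it when the stack is an algebraic space
(a clause of the same statement; no quasi-separatedness assumed), and essential surjectivity on
R/a-points; only the algebraic-space case is stated here. -/
theorem result {S : Scheme.{u}} (X : AlgSp.Space S)
    (R : Type u) [CommRing R] [HenselianLocalRing R] (str : Spec (CommRingCat.of R) ⟶ S) :
    ∃ (Z : Over S) (p : (AlgSp.yon S).obj Z ⟶ X.obj), IsSeparated Z.hom ∧ AlgSp.RepWith @Etale p ∧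
      ∀ (a : Ideal R) (x : (AlgSp.yon S).obj (Over.mk (Spec.map (CommRingCat.ofHom (Ideal.Quotient.mk a)) ≫ str)) ⟶ X.obj),
        ∃ g : Over.mk (Spec.map (CommRingCat.ofHom (Ideal.Quotient.mk a)) ≫ str) ⟶ Z, (AlgSp.yon S).map g ≫ p = x := by
  have := Groth.Agent.AlgSt88.small_fieldPoints X.property
    (Spec.map (CommRingCat.ofHom (IsLocalRing.residue R)) ≫ str)
  obtain ⟨Z, P, hZ, hP, hl⟩ := Groth.Agent.AlgSt88.exists_chart_quotient_points X.property str
    (equivShrink.{u} _).symm
  refine ⟨Groth.Agent.SpPts86.sigmaOver Z, P, ?_, hP, hl⟩
  have h1 := hZ
  have h2 : (∐ fun i => (Z i).left).IsSeparated := Groth.Agent.SpPts86.isSeparated_sigma _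
  have : IsSeparated ((Groth.Agent.SpPts86.sigmaOver Z).hom ≫ terminal.from S) := by
    rw [terminal.comp_from]
    exact h2.isSeparated_terminal_from
  exact IsSeparated.of_comp (Groth.Agent.SpPts86.sigmaOver Z).hom (terminal.from S)

end Groth.Agent.S18311
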