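import Groth.Statements.S18313
import Groth.Agent.AlgSt88.SmoothQuotLift
import Groth.Agent.SpFP87.LocP

set_option autoImplicit false
universe u
open CategoryTheory CategoryTheory.Limits AlgebraicGeometry
open AlgSp

namespace Groth.Agent.S18313

/-- Let R be a Henselian local ring, S = Spec R, and X an algebraic space over S which is smooth over S,
in the sense that there are a scheme U over S with smooth structure morphism U → S and a
representable étale, representable surjective morphism h_U → X. Then for every ideal a ≠ R, every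
point h_{Spec (R/a)} → X over S is the composite of h_q with a point h_S → X over S, where q : Spec
(R/a) → S is the closed immersion. The source states this for smooth algebraic stacks over R whose
diagonal has a separated fibre over the closed point (essential surjectivity on R/a-points); the
algebraic-space case is stated here. -/
theorem result (R : Type u) [CommRing R] [HenselianLocalRing R]
    (X : AlgSp.Space (Spec (CommRingCat.of R)))
    (hX : ∃ (U : Over (Spec (CommRingCat.of R))) (c : (AlgSp.yon (Spec (CommRingCat.of R))).obj U ⟶ X.obj),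
      Smooth U.hom ∧ AlgSp.RepWith @Etale c ∧ AlgSp.RepWith @Surjective c)
    (a : Ideal R) (ha : a ≠ ⊤)
    (x₀ : (AlgSp.yon (Spec (CommRingCat.of R))).obj (Over.mk (Spec.map (CommRingCat.ofHom (Ideal.Quotient.mk a)))) ⟶ X.obj) :
    ∃ x : (AlgSp.yon (Spec (CommRingCat.of R))).obj (Over.mk (𝟙 (Spec (CommRingCat.of R)))) ⟶ X.obj,
      (AlgSp.yon (Spec (CommRingCat.of R))).map (Over.homMk (Spec.map (CommRingCat.ofHom (Ideal.Quotient.mk a)))
        (Category.comp_id _) : Over.mk (Spec.map (CommRingCat.ofHom (Ideal.Quotient.mk a))) ⟶ Over.mk (𝟙 _)) ≫ x = x₀ := by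
  obtain ⟨U, c, hU, hc, hcs⟩ := hX
  let T : Over (Spec (CommRingCat.of R)) := Over.mk (𝟙 _)
  have hT : IsTerminal ((AlgSp.yon (Spec (CommRingCat.of R))).obj T) :=
    IsTerminal.isTerminalObj (AlgSp.yon (Spec (CommRingCat.of R))) T Over.mkIdTerminal
  have hf : AlgSp.LocP @Smooth (hT.from X.obj) :=
    Groth.Agent.SpFP87.locP_of_chart (b := 𝟙 _) (h := Over.homMk U.hom (Category.comp_id _)) X.property.diag
      (AlgSp.IsAlgSpace.yon_obj T).diag hc hcs (AlgSp.repWith_id _ T) (hT.hom_ext _ _) hU
  have := Groth.Agent.AlgSt88.small_fieldPoints X.property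
    (Spec.map (CommRingCat.ofHom (IsLocalRing.residue R)) ≫ 𝟙 (Spec (CommRingCat.of R)))
  obtain ⟨Z, P, hZ, hP, hl⟩ := Groth.Agent.AlgSt88.exists_chart_quotient_points X.property
    (𝟙 (Spec (CommRingCat.of R))) (equivShrink.{u} _).symm
  let W := Groth.Agent.SpPts86.sigmaOver Z
  have hW : Smooth W.hom := hf (b := 𝟙 _) (h := (Over.homMk W.hom (Category.comp_id _) : W ⟶ T)) P hP
    (AlgSp.repWith_id _ T) (hT.hom_ext _ _)
  let T₀ : Over (Spec (CommRingCat.of R)) := Over.mk (Spec.map (CommRingCat.ofHom (Ideal.Quotient.mk a)))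
  let T₁ : Over (Spec (CommRingCat.of R)) :=
    Over.mk (Spec.map (CommRingCat.ofHom (Ideal.Quotient.mk a)) ≫ 𝟙 _)
  let c₁ : T₁ ≅ T₀ := Over.isoMk (Iso.refl _) ((Category.id_comp _).trans (Category.comp_id _).symm)
  obtain ⟨g₁, hg₁⟩ := hl a ((AlgSp.yon _).map c₁.hom ≫ x₀)
  have hg : (AlgSp.yon _).map (c₁.inv ≫ g₁) ≫ P = x₀ := by
    rw [Functor.map_comp, Category.assoc, hg₁, ← Category.assoc, ← Functor.map_comp, Iso.inv_hom_id,
      CategoryTheory.Functor.map_id, Category.id_comp]
  obtain ⟨u, hu, hu'⟩ := Groth.Agent.AlgSt88.exists_section_of_smooth_quotient a ha W.hom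
    (c₁.inv ≫ g₁).left (Over.w (c₁.inv ≫ g₁))
  refine ⟨(AlgSp.yon _).map (Over.homMk u hu : T ⟶ W) ≫ P, ?_⟩
  refine ((Category.assoc _ _ _).symm.trans ?_).trans hg
  rw [← Functor.map_comp]
  exact congrArg (fun f => (AlgSp.yon _).map f ≫ P) (Over.OverMorphism.ext hu')

end Groth.Agent.S18313
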