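import Groth.Statements.S18317
import Groth.Statements.S18317
import Groth.Agent.H98ConnTors.Basic
import Mathlib.AlgebraicGeometry.Morphisms.FormallyUnramified

set_option autoImplicit false
universe u
open CategoryTheory AlgebraicGeometry
open NonAbH1

namespace Groth.Agent.S18317

/-- Let K be a field and G a finite connected K-group scheme (G → Spec K finite, G connected as a
topological space). Then every G-torsor X over Spec K for the étale topology (a K-scheme with an
action of G whose shear map G ×_K X → X ×_K X is an isomorphism and which acquires a section over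
the members of some étale covering of Spec K) is trivial: X has a K-point. -/
theorem result (K : Type u) [Field K]
    (G X : Over (Spec (CommRingCat.of K))) [GrpObj G] [IsFinite G.hom] [ConnectedSpace G.left]
    (a : AlgGrp.Action G X) (h : NonAbH1.IsTorsorFor Scheme.etalePrecoverage a) :
    NonAbH1.HasSectionOver X (𝟙 (Spec (CommRingCat.of K))) := by
  obtain ⟨hps, R, hR, hsec⟩ := h
  have := Groth.Agent.H98ConnTors.universallyInjective_hom (G := G)
  have hui := Groth.Agent.H98ConnTors.universallyInjective_torsor a hps
  obtain ⟨Y, g, hg, ⟨y, -⟩⟩ := (Presieve.mem_comap_jointlySurjectivePrecoverage_iff Scheme.forget).1 hR.1 (IsLocalRing.closedPoint K)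
  obtain ⟨σ, hσ⟩ := hsec g hg
  have hge : Etale g := hR.2 hg
  subst hσ
  have hpi := ((((tfae_universallyInjective X.hom).out 0 2 rfl rfl).1 hui).2) (σ y)
  have hb : Function.Bijective (X.hom.residueFieldMap (σ y)) := by
    algebraize [(X.hom.residueFieldMap (σ y)).hom, (σ.residueFieldMap y).hom]
    letI : Algebra ((Spec (CommRingCat.of K)).residueField (X.hom (σ y))) (Y.residueField y) :=
      ((σ ≫ X.hom).residueFieldMap y).hom.toAlgebra
    have : Algebra.IsSeparable ((Spec (CommRingCat.of K)).residueField (X.hom (σ y))) (Y.residueField y) :=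
      (inferInstance : letI : Algebra ((Spec (CommRingCat.of K)).residueField ((σ ≫ X.hom) y)) (Y.residueField y) :=
          ((σ ≫ X.hom).residueFieldMap y).hom.toAlgebra
        Algebra.IsSeparable ((Spec (CommRingCat.of K)).residueField ((σ ≫ X.hom) y)) (Y.residueField y))
    have : IsScalarTower ((Spec (CommRingCat.of K)).residueField (X.hom (σ y))) (X.left.residueField (σ y))
        (Y.residueField y) := IsScalarTower.of_algebraMap_eq' (by
      change ((σ ≫ X.hom).residueFieldMap y).hom = (σ.residueFieldMap y).hom.comp (X.hom.residueFieldMap (σ y)).hom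
      rw [Scheme.residueFieldMap_comp]; rfl)
    have := Algebra.isSeparable_tower_bot_of_isSeparable ((Spec (CommRingCat.of K)).residueField (X.hom (σ y)))
      (X.left.residueField (σ y)) (Y.residueField y)
    exact IsPurelyInseparable.bijective_algebraMap_of_isSeparable _ (X.left.residueField (σ y))
  have : IsIso (X.hom.residueFieldMap (σ y)) := (ConcreteCategory.isIso_iff_bijective _).2 hb
  let t := X.hom (σ y)
  let q := (Spec (CommRingCat.of K)).fromSpecResidueField t
  have : Surjective q := ⟨fun z => ⟨IsLocalRing.closedPoint _, Subsingleton.elim (α := Spec (CommRingCat.of K)) _ _⟩⟩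
  have : IsClosedImmersion q := IsClosedImmersion.of_isPreimmersion q
    (by rw [q.surjective.range_eq]; exact isClosed_univ)
  have hqi : IsIso q := isIso_of_isClosedImmersion_of_surjective q
  refine ⟨inv q ≫ inv (Spec.map (X.hom.residueFieldMap (σ y))) ≫ X.left.fromSpecResidueField (σ y), ?_⟩
  rw [Category.assoc, Category.assoc, ← Scheme.Hom.SpecMap_residueFieldMap_fromSpecResidueField]
  simp [q, t]

end Groth.Agent.S18317
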