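import Groth.Statements.S18319
import Groth.Agent.H98ConnTors.Basic

set_option autoImplicit false
universe u
open CategoryTheory AlgebraicGeometry
open NonAbH1

namespace Groth.Agent.S18319

/-- Let K be a perfect field and G a finite connected K-group scheme (G → Spec K finite, G connected).
Then every G-torsor X over Spec K for the fppf topology (simply transitive action, a section over
the members of some fppf covering of Spec K) is trivial: X has a K-point. -/
theorem result (K : Type u) [Field K]
    [PerfectField K] (G X : Over (Spec (CommRingCat.of K))) [GrpObj G] [IsFinite G.hom] [ConnectedSpace G.left]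
    (a : AlgGrp.Action G X) (h : NonAbH1.IsTorsorFor Scheme.fppfPrecoverage a) :
    NonAbH1.HasSectionOver X (𝟙 (Spec (CommRingCat.of K))) := by
  obtain ⟨hps, R, hR, hsec⟩ := h
  have := Groth.Agent.H98ConnTors.universallyInjective_hom (G := G)
  have := Groth.Agent.H98ConnTors.universallyInjective_torsor a hps
  obtain ⟨x⟩ : Nonempty X.left := by
    obtain ⟨Y, g, hg, hy⟩ := (Presieve.mem_comap_jointlySurjectivePrecoverage_iff Scheme.forget).1 hR.1 (IsLocalRing.closedPoint K)
    obtain ⟨y, -⟩ := hy
    obtain ⟨s, -⟩ := hsec g hg
    exact ⟨s y⟩
  exact Groth.Agent.H98ConnTors.exists_section x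

end Groth.Agent.S18319
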