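import Groth.Statements.S18328
import Groth.Agent.AlgSt88.SpQuotDiag

set_option autoImplicit false
universe u
open CategoryTheory AlgebraicGeometry MonoidalCategory
open AlgSt

namespace Groth.Agent.S18328

/-- Let S be a scheme and G a group algebraic space over S, given as a group object over the terminal
fppf sheaf h_S on schemes over S whose underlying sheaf is an algebraic space. Let P be a property
of morphisms of fppf sheaves over S; assume P is preserved under base change and that, for morphisms
of algebraic spaces, P can be checked fppf-locally on the target (for every fppf covering of an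
algebraic space by algebraic spaces, a morphism of algebraic spaces to it has P if and only if all
its base changes do). If G → h_S has P, then the diagonal of the classifying stack BG over (Sch/S)
(objects over T: the fppf G_T-torsors given as fppf sheaves) is representable by algebraic spaces
with property P, and the functor h_S → BG given by the trivial torsor is representable by algebraic
spaces with property P. -/
theorem result (S : Scheme.{u})
    (G : Over ((AlgSp.yon S).obj (Over.mk (𝟙 S)))) [GrpObj G] (hG : AlgSp.IsAlgSpace G.left)
    (P : MorphismProperty (AlgSp.Sp S)) [P.IsStableUnderBaseChange]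
    (hloc : AlgSp.IsLocalOnBase AlgSp.IsFppfCover P) (hP : P G.hom) :
    AlgSt.RepByAlgSpWith P (FibCat.diag (FibCat.toSelf (AlgSt.SpBG Scheme.fppfPrecoverage G))) ∧
      AlgSt.RepByAlgSpWith P (AlgSt.spQuotMap Scheme.fppfPrecoverage G (AlgSt.trivGAction G)) := by
  haveI : Precoverage.HasIsos Scheme.fppfPrecoverage.{u} := inferInstance
  have hB := AlgSp.IsAlgSpace.yon_obj (Over.mk (𝟙 S))
  have hb : Groth.Agent.AlgSt88.StableBC P := fun _ _ _ _ _ _ _ _ _ _ _ _ sq h => P.of_isPullback sq h
  have hu := Groth.Agent.AlgSt88.repByAlgSpWith_spQuotMap_of_local (a := AlgSt.trivGAction G) P hb hloc hB hG hP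
  exact ⟨Groth.Agent.AlgSt88.repByAlgSpWith_diag_of_lifts hloc (Groth.Agent.AlgSt88.isStack_spQuotSt _)
    (Stk.isFibGrpd_ofPsh _) (Groth.Agent.AlgSt88.repByAlgSp_ofSp ⟨_, hB⟩)
    Groth.Agent.AlgSt88.isEquivOver_toSelf_ofSp_terminal _ hu Groth.Agent.AlgSt88.liftsLocally_spQuotMap, hu⟩

end Groth.Agent.S18328
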