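import Groth.Statements.S18342
import Groth.Agent.VB30.Apply


set_option autoImplicit false
universe u
open CategoryTheory CategoryTheory.Limits AlgebraicGeometry
open VBCurve

namespace Groth.Agent.S18342
set_option backward.isDefEq.respectTransparency.types false

/-- Let k be an algebraically closed field of characteristic zero and X a smooth proper geometrically
connected curve over k (topological dimension one) of genus g ≥ 2. Let E be a finite locally free
O_X-module of rank r ≥ 1 and degree 0, and F a finite locally free O_X-module of rank n ≥ 1 and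
degree n(g − 1), degrees being χ − rank · χ(O_X). If every morphism E → F is zero, then E is
slope-semistable: deg G · r ≤ 0 for every finite locally free submodule G of E of positive rank. The
published statement concerns quasi-parabolic bundles of rank r with trivial determinant and flags at
a finite set of points, and says that for n ≥ ⌈r²/4⌉ the closed substack of bundles that are not
semistable for a given system of weights is the base locus of the parabolic theta functions of order
n, these being attached to semistable F; this row is one inclusion of it (a bundle at which the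
theta function of some F does not vanish is semistable) for a single bundle with no parabolic
points, for every n ≥ 1 and every F of the stated rank and degree, with degree 0 in place of trivial
determinant, and with the vanishing of Hom(E, F) in place of the vanishing of both Hom(E, F) and
Ext^1(E, F). -/
theorem result (k : Type u) [Field k] [IsAlgClosed k] [CharZero k]
    (X : Scheme.{u}) [X.Over (Spec (CommRingCat.of k))]
    [IsProper (X ↘ Spec (CommRingCat.of k))] [Smooth (X ↘ Spec (CommRingCat.of k))]
    [GeometricallyConnected (X ↘ Spec (CommRingCat.of k))] (hdim : topologicalKrullDim ↥X = 1)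
    (g : ℕ) (hg : Curv2.genus k X = g) (hg2 : 2 ≤ g)
    (E : X.Modules) (r : ℕ) (hr : 0 < r) (hE : FlatMod.IsFinLocFreeOfRank r E)
    (hEdeg : Curv2.deg k X E r = 0)
    (F : X.Modules) (n : ℕ) (hn : 0 < n) (hF : FlatMod.IsFinLocFreeOfRank n F)
    (hFdeg : Curv2.deg k X F n = (n : ℤ) * ((g : ℤ) - 1))
    (hhom : ∀ φ : E ⟶ F, φ = 0) :
    ModFun.IsSlopeSemistable k X E r := by
  have := VB30.isIntegral_of_geomConnected k X
  have hS : CrvPic30.Setup k X := CrvPic30.setup_of_smooth_algClosed hdim
  have hc := VB30.cur_of_setup hS
  have lE := VB30.isFinLocFree_of_rank hE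
  have eE := VB30.rk_eq_of_isFinLocFreeOfRank hE
  have lF := VB30.isFinLocFree_of_rank hF
  have eF := VB30.rk_eq_of_isFinLocFreeOfRank hF
  rw [VB30.deg_eq_dg hE] at hEdeg
  rw [VB30.deg_eq_dg hF] at hFdeg
  refine VB30.slope_of_ss hE fun G i hi h0 hG => ?_
  rw [hEdeg, zero_mul]
  refine mul_nonpos_of_nonpos_of_nonneg ?_ (Int.natCast_nonneg _)
  obtain ⟨G', i', a, hi', ha, -, hG', hQ, hrk, hd⟩ := hc.exists_saturation i (VB30.isCoh_of_isFinLocFree hG) lE
  refine hd.trans ?_
  obtain ⟨lH, rH, dH⟩ := hc.homMod_lf lE lF
  obtain ⟨lH', rH', dH'⟩ := hc.homMod_lf hG' lF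
  have hT := VB30.shortExact_homComap_lf (VB30.shortExact_cokernel i') hQ F
  have hχ := VB30.euler_structureModule hS
  have z : Module.finrank k (Coh.HH X (QC70.homMod E F) 0) = 0 := by
    have : Subsingleton (Coh.HH X (QC70.homMod E F) 0) :=
      subsingleton_of_forall_eq 0 fun x => VB30.homOf_injective ((hhom _).trans VB30.homOf_zero.symm)
    exact Module.finrank_zero_of_subsingleton
  have e := hc.h0_sub_h1 (VB30.isCoh_of_isFinLocFree lH)
  rw [dH, rH, hχ, eE, eF, hEdeg, hFdeg, hg, z] at e
  push_cast at e
  have h1E : Module.finrank k (Coh.HH X (QC70.homMod E F) 1) = 0 := by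
    have : (Module.finrank k (Coh.HH X (QC70.homMod E F) 1) : ℤ) = 0 := by linarith
    exact_mod_cast this
  have := hc.curveCoh.finite _ (VB30.isCoh_of_isFinLocFree lH) 1
  have : Module.Free k (Coh.HH X (QC70.homMod E F) 1) := Module.Free.of_divisionRing k _
  have s1 : Subsingleton (Coh.HH X (QC70.homMod E F) 1) := Module.finrank_zero_iff.1 h1E
  have v2 := hc.curveCoh.vanish _ (VB30.isCoh_of_isFinLocFree (hc.homMod_lf hQ lF).1) 2 le_rfl
  have h1G : Subsingleton (Coh.HH X (QC70.homMod G' F) 1) := subsingleton_of_forall_eq 0 fun y => by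
    obtain ⟨x, hx⟩ := (Crv77.exact_g_δ k hT 1 y).1 (@Subsingleton.elim _ v2 _ _)
    exact hx.symm.trans ((congrArg _ (@Subsingleton.elim _ s1 x 0)).trans (map_zero _))
  have e' := hc.h0_sub_h1 (VB30.isCoh_of_isFinLocFree lH')
  have z' : Module.finrank k (Coh.HH X (QC70.homMod G' F) 1) = 0 := Module.finrank_zero_of_subsingleton
  rw [dH', rH', hχ, eF, hFdeg, hg, z'] at e'
  push_cast at e'
  have hn' : (1 : ℤ) ≤ n := by exact_mod_cast hn
  have hpos := Int.natCast_nonneg (Module.finrank k (Coh.HH X (QC70.homMod G' F) 0))
  nlinarith

end Groth.Agent.S18342
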