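import Groth.Statements.S18343
import Groth.Agent.CartMod7.Affine
import Groth.Agent.QC70.Comap

set_option autoImplicit false
universe u
open CategoryTheory CategoryTheory.Limits AlgebraicGeometry
open MultCurve

namespace Groth.Agent.S18343

/-- Suppose C is a ribbon on the reduced scheme D via the closed immersion i : D ⟶ C (meaning the ideal
of D squares to zero and is locally generated by a single section z whose annihilator lies in (z)),
and consider an arbitrary morphism of schemes f : C ⟶ X. The morphism f is a closed immersion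
exactly when two things hold: the composite i ≫ f, i.e. f restricted to D, is a closed immersion,
and pulling back along f the ideal of the scheme-theoretic image of D in X yields the entire ideal
of D in C. This second requirement amounts to surjectivity of the map α_f that sends the pullback of
the conormal sheaf of the image of D in X onto the conormal bundle of D in C. (The statement is
given for arbitrary schemes and any morphism f; the published version assumes all schemes are of
finite type over a field and D is connected, but the proof relies on neither assumption.) -/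
theorem result (D C X : Scheme.{u}) (i : D ⟶ C)
    (hR : MultCurve.IsRibbon i) (f : C ⟶ X) :
    IsClosedImmersion f ↔ (IsClosedImmersion (i ≫ f) ∧ (i ≫ f).ker.comap f = i.ker) := by
  obtain ⟨⟨hi, hsq, -⟩, -⟩ := hR
  haveI := hi
  constructor
  · intro hf
    haveI := hf
    refine ⟨inferInstance, ?_⟩
    rw [← Scheme.IdealSheafData.ker_fst_of_isClosedImmersion]
    have hp : IsPullback i (𝟙 D) f (i ≫ f) := by
      refine IsPullback.of_vert_isIso_mono ?_
      exact ⟨by rw [Category.id_comp]⟩
    rw [← hp.isoPullback_inv_fst, Scheme.Hom.ker_comp_of_isIso]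
  · rintro ⟨h1, h2⟩
    haveI := h1
    have hnil : ∃ n : ℕ, ∀ V : C.affineOpens, i.ker.ideal V ^ n = ⊥ := ⟨2, fun V => by
      have := congrArg (fun J : C.IdealSheafData => J.ideal V) hsq
      simpa [Scheme.IdealSheafData.ideal_pow] using this⟩
    haveI := Groth.Agent.CartMod7.surjective_of_nilpotent i hnil
    haveI hA : IsAffineHom f := ⟨fun V hV =>
      Groth.Agent.CartMod7.isAffineOpen_map i (i ≫ f) f.base rfl hV⟩
    refine isClosedImmersion_iff_isAffineHom.mpr ⟨hA, fun U hU => ?_⟩
    let V : C.affineOpens := ⟨f ⁻¹ᵁ U, hU.preimage f⟩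
    have hJ : i.ker.ideal V = ((i ≫ f).ker.ideal ⟨U, hU⟩).map (f.app U).hom := by
      rw [← h2]; exact Groth.Agent.QC70.ideal_comap_preimage f _ ⟨U, hU⟩
    have hsurj : Function.Surjective ((i ≫ f).app U) := (i ≫ f).app_surjective U hU
    have hker : ∀ s, i.app (f ⁻¹ᵁ U) s = 0 → s ∈ i.ker.ideal V := fun s hs => by
      rw [Scheme.Hom.ker_apply]; exact hs
    have hI2 : i.ker.ideal V * i.ker.ideal V = ⊥ := by
      have := congrArg (fun J : C.IdealSheafData => J.ideal V) hsq
      simpa [Scheme.IdealSheafData.ideal_pow, sq] using this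
    have hmod : ∀ s : Γ(C, f ⁻¹ᵁ U), ∃ r, s - f.app U r ∈ i.ker.ideal V := fun s => by
      obtain ⟨r, hr⟩ := hsurj (i.app (f ⁻¹ᵁ U) s)
      refine ⟨r, hker _ ?_⟩
      rw [map_sub, sub_eq_zero]
      rw [Scheme.Hom.comp_app] at hr
      exact hr.symm
    have hI : ∀ a ∈ i.ker.ideal V, a ∈ Set.range (f.app U) := by
      intro a ha
      rw [hJ, Ideal.map] at ha
      suffices h : a ∈ (f.app U).hom.range ∧ a ∈ i.ker.ideal V from h.1
      induction ha using Submodule.span_induction with
      | mem a ha =>
        obtain ⟨r, hr, rfl⟩ := ha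
        exact ⟨⟨r, rfl⟩, hJ ▸ Ideal.mem_map_of_mem _ hr⟩
      | zero => exact ⟨zero_mem _, zero_mem _⟩
      | add a b _ _ ha hb => exact ⟨add_mem ha.1 hb.1, add_mem ha.2 hb.2⟩
      | smul s a _ ha =>
        refine ⟨?_, Submodule.smul_mem _ _ ha.2⟩
        obtain ⟨t, ht⟩ := hmod s
        have h0 : (s - f.app U t) * a = 0 := by
          rw [← Ideal.mem_bot, ← hI2]; exact Ideal.mul_mem_mul ht ha.2
        rw [sub_mul, sub_eq_zero] at h0
        rw [smul_eq_mul, h0]
        exact mul_mem ⟨t, rfl⟩ ha.1
    intro s
    obtain ⟨r, hr⟩ := hmod s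
    obtain ⟨r', hr'⟩ := hI _ hr
    exact ⟨r + r', by rw [map_add, hr']; abel⟩

end Groth.Agent.S18343
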