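import Groth.Statements.S18348
import Groth.Agent.Rib52.Induced
import Mathlib.Algebra.Homology.DerivedCategory.Ext.ExactSequences

set_option autoImplicit false
universe w u
open CategoryTheory CategoryTheory.Limits AlgebraicGeometry
open MultCurve

namespace Groth.Agent.S18348

/-- Let k be a field and D a reduced connected scheme locally of finite type over k, with structure
morphism pD and a universal k-derivation d₂ : O_D → Ω₂. Let C and C′ be ribbons on D over k
(k-schemes locally of finite type with closed immersions i, i′ of D over k making them ribbons),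
each with its restricted cotangent sequence 0 → L → Ω_C|_D → Ω_D → 0 presented by a universal
k-derivation d₁ : O_C → Ω₁, the fixed universal k-derivation d₂ of D, the map φ from the conormal
bundle L of D in C to i^*Ω₁ induced by d₁ and the map c : i^*Ω₁ → Ω₂ compatible with d₁ and d₂,
assumed short exact, that is, with φ and φ′ injective, with classes e ∈ Ext¹(Ω₂, L) and e′ ∈
Ext¹(Ω₂, L′). Then C and C′ are isomorphic over D (by an isomorphism under D that is a k-morphism)
if and only if there is an isomorphism of O_D-modules α : L ≅ L′ carrying e to e′. In particular a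
ribbon with short exact restricted cotangent sequence is determined up to isomorphism over D by its
conormal bundle together with its class. (The published statement asserts the uniqueness for all
ribbons, treating the restricted cotangent sequence as short exact for every ribbon; it is so over a
perfect field but not in general: for k of characteristic p and a ∈ k not a p-th power, D = Spec
k(a^{1/p}) has Ext¹(Ω_D, L) = 0 for every L, yet the split ribbon with conormal bundle O_D and Spec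
k[x]/((x^p − a)²) are ribbons on D with conormal bundle O_D that are not isomorphic over D, the
second having φ = 0; so short exactness is assumed here for both ribbons. The published statement
also, for D proper over k, phrases the criterion as e = a·e′ with a a nonzero scalar, identifying
the automorphisms of the line bundle L with the nonzero constants; that identification needs Γ(D,
O_D) = k and fails, for example, for the projective line over a quadratic extension of k regarded as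
a k-scheme, so the criterion is stated here with an arbitrary automorphism of the conormal bundle,
in which form it holds for every reduced connected D.) -/
theorem result (k : Type u) [Field k] (D : Scheme.{u})
    (pD : D ⟶ Spec (CommRingCat.of k)) [LocallyOfFiniteType pD] [ConnectedSpace D]
    (Ω₂ : D.Modules) (d₂ : OmegaSh.Der pD Ω₂) (hd₂ : OmegaSh.IsUniversal d₂) [HasExt.{w} D.Modules]
    (C : Scheme.{u}) (i : D ⟶ C) (pC : C ⟶ Spec (CommRingCat.of k)) [LocallyOfFiniteType pC]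
    (hp : i ≫ pC = pD) (hR : MultCurve.IsRibbon i)
    (Ω₁ : C.Modules) (d₁ : OmegaSh.Der pC Ω₁) (hd₁ : OmegaSh.IsUniversal d₁)
    (φ : Omega.conormal i ⟶ (Scheme.Modules.pullback i).obj Ω₁) (hφ : OmegaSh.IsConormalDiff i d₁ φ)
    (c : (Scheme.Modules.pullback i).obj Ω₁ ⟶ Ω₂) (hc : OmegaSh.IsDiffCompat i d₁ d₂ c)
    (hw : φ ≫ c = 0) (hS : (ShortComplex.mk φ c hw).ShortExact)
    (C' : Scheme.{u}) (i' : D ⟶ C') (pC' : C' ⟶ Spec (CommRingCat.of k)) [LocallyOfFiniteType pC']
    (hp' : i' ≫ pC' = pD) (hR' : MultCurve.IsRibbon i')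
    (Ω₁' : C'.Modules) (d₁' : OmegaSh.Der pC' Ω₁') (hd₁' : OmegaSh.IsUniversal d₁')
    (φ' : Omega.conormal i' ⟶ (Scheme.Modules.pullback i').obj Ω₁') (hφ' : OmegaSh.IsConormalDiff i' d₁' φ')
    (c' : (Scheme.Modules.pullback i').obj Ω₁' ⟶ Ω₂) (hc' : OmegaSh.IsDiffCompat i' d₁' d₂ c')
    (hw' : φ' ≫ c' = 0) (hS' : (ShortComplex.mk φ' c' hw').ShortExact) :
    (∃ ψ : C ≅ C', i ≫ ψ.hom = i' ∧ ψ.hom ≫ pC' = pC) ↔
      ∃ α : Omega.conormal i ≅ Omega.conormal i',
        hS.extClass.comp (Abelian.Ext.mk₀ α.hom) (add_zero 1) = hS'.extClass := by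
  haveI : IsClosedImmersion i := hR.1.1
  haveI : IsClosedImmersion i' := hR'.1.1
  have hsq : Groth.Agent.Rib52.SqZero i := fun U => by
    have h2 := congrArg (fun J : C.IdealSheafData => J.ideal U) hR.1.2.1
    simpa [Scheme.IdealSheafData.ideal_pow] using h2
  have hsq' : Groth.Agent.Rib52.SqZero i' := fun U => by
    have h2 := congrArg (fun J : C'.IdealSheafData => J.ideal U) hR'.1.2.1
    simpa [Scheme.IdealSheafData.ideal_pow] using h2
  constructor
  · rintro ⟨ψ, hψi, hψk⟩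
    have hψi' : i' ≫ ψ.inv = i := by rw [← hψi]; simp
    have hψk' : ψ.inv ≫ pC = pC' := by rw [← hψk]; simp
    obtain ⟨s, hsv, hs⟩ := Groth.Agent.Rib52.exists_induced i ψ.hom hψi hψk d₁ hd₁'
    obtain ⟨s', hsv', hs'⟩ := Groth.Agent.Rib52.exists_induced i' ψ.inv hψi' hψk' d₁' hd₁
    have e1 : s ≫ c = c' := hs hc hc'
    have e2 : s' ≫ c' = c := hs' hc' hc
    have h12 : s ≫ s' = 𝟙 _ := Groth.Agent.Rib52.hom_ext_pullVal i' hd₁' fun V y => by
      have h0 : i' ⁻¹ᵁ V = i ⁻¹ᵁ (ψ.hom ⁻¹ᵁ V) := by rw [← Scheme.Hom.comp_preimage, hψi]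
      have h1 : i' ⁻¹ᵁ V ≤ i' ⁻¹ᵁ (ψ.inv ⁻¹ᵁ (ψ.hom ⁻¹ᵁ V)) := by
        rw [← Scheme.Hom.comp_preimage ψ.inv ψ.hom, ψ.inv_hom_id]; exact le_rfl
      simp only [Scheme.Modules.Hom.comp_app, ConcreteCategory.comp_apply]
      rw [hsv V _ le_rfl h0.le y, hsv' (ψ.hom ⁻¹ᵁ V) _ h0.le h1]
      have h2 : ψ.inv.app (ψ.hom ⁻¹ᵁ V) (ψ.hom.app V y) = C'.presheaf.map (homOfLE (show ψ.inv ⁻¹ᵁ (ψ.hom ⁻¹ᵁ V) ≤ V by
          rw [← Scheme.Hom.comp_preimage, ψ.inv_hom_id]; exact le_rfl)).op y := by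
        simp only [Scheme.Hom.app_eq_appLE, ← ConcreteCategory.comp_apply, Scheme.Hom.appLE_comp_appLE]
        exact congr($(OmegaSh.id_appLE_eq ψ.inv_hom_id _ _) y)
      rw [h2, Groth.Agent.Rib52.pullVal_res i' d₁' le_rfl h1 _ le_rfl, Groth.Agent.Rib52.res_id]
      rfl
    have h21 : s' ≫ s = 𝟙 _ := Groth.Agent.Rib52.hom_ext_pullVal i hd₁ fun V y => by
      have h0 : i ⁻¹ᵁ V = i' ⁻¹ᵁ (ψ.inv ⁻¹ᵁ V) := by rw [← Scheme.Hom.comp_preimage, hψi']
      have h1 : i ⁻¹ᵁ V ≤ i ⁻¹ᵁ (ψ.hom ⁻¹ᵁ (ψ.inv ⁻¹ᵁ V)) := by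
        rw [← Scheme.Hom.comp_preimage ψ.hom ψ.inv, ψ.hom_inv_id]; exact le_rfl
      simp only [Scheme.Modules.Hom.comp_app, ConcreteCategory.comp_apply]
      rw [hsv' V _ le_rfl h0.le y, hsv (ψ.inv ⁻¹ᵁ V) _ h0.le h1]
      have h2 : ψ.hom.app (ψ.inv ⁻¹ᵁ V) (ψ.inv.app V y) = C.presheaf.map (homOfLE (show ψ.hom ⁻¹ᵁ (ψ.inv ⁻¹ᵁ V) ≤ V by
          rw [← Scheme.Hom.comp_preimage, ψ.hom_inv_id]; exact le_rfl)).op y := by
        simp only [Scheme.Hom.app_eq_appLE, ← ConcreteCategory.comp_apply, Scheme.Hom.appLE_comp_appLE]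
        exact congr($(OmegaSh.id_appLE_eq ψ.hom_inv_id _ _) y)
      rw [h2, Groth.Agent.Rib52.pullVal_res i d₁ le_rfl h1 _ le_rfl, Groth.Agent.Rib52.res_id]
      rfl
    haveI := hS.mono_f
    haveI := hS'.mono_f
    have hl : (φ' ≫ s) ≫ c = 0 := by rw [Category.assoc, e1, hw']
    have hl' : (φ ≫ s') ≫ c' = 0 := by rw [Category.assoc, e2, hw]
    let a := hS.exact.lift (φ' ≫ s) hl
    let b := hS'.exact.lift (φ ≫ s') hl'
    have ha : a ≫ φ = φ' ≫ s := hS.exact.lift_f _ _
    have hb : b ≫ φ' = φ ≫ s' := hS'.exact.lift_f _ _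
    let α : Omega.conormal i ≅ Omega.conormal i' :=
      { hom := b
        inv := a
        hom_inv_id := by
          rw [← cancel_mono (ShortComplex.mk φ c hw).f]
          show (b ≫ a) ≫ φ = 𝟙 _ ≫ φ
          rw [Category.assoc, ha, ← Category.assoc, hb, Category.assoc, h21, Category.comp_id, Category.id_comp]
        inv_hom_id := by
          rw [← cancel_mono (ShortComplex.mk φ' c' hw').f]
          show (a ≫ b) ≫ φ' = 𝟙 _ ≫ φ'
          rw [Category.assoc, hb, ← Category.assoc, ha, Category.assoc, h12, Category.comp_id, Category.id_comp] }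
    let F : ShortComplex.mk φ c hw ⟶ ShortComplex.mk φ' c' hw' :=
      ShortComplex.homMk b s' (𝟙 _) hb (by simpa using e2)
    refine ⟨α, ?_⟩
    have h := ShortComplex.ShortExact.extClass_naturality (f := F) hS hS'
    simpa [F, α] using h
  · rintro ⟨α, hα⟩
    have hx : hS'.extClass.comp (Abelian.Ext.mk₀ (α.inv ≫ φ)) (add_zero 1) = 0 := by
      rw [← hα, Abelian.Ext.comp_assoc_of_third_deg_zero, Abelian.Ext.mk₀_comp_mk₀, Iso.hom_inv_id_assoc]
      exact hS.extClass_comp
    obtain ⟨x₂, hx₂⟩ := Abelian.Ext.contravariant_sequence_exact₁ hS' _ (Abelian.Ext.mk₀ (α.inv ≫ φ)) (add_zero 1) hx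
    obtain ⟨s₀, rfl⟩ := (Abelian.Ext.mk₀_bijective _ _).2 x₂
    rw [Abelian.Ext.mk₀_comp_mk₀] at hx₂
    have hs₀ : φ' ≫ s₀ = α.inv ≫ φ := (Abelian.Ext.mk₀_bijective _ _).1 hx₂
    haveI := hS'.epi_g
    let t := hS'.exact.desc (s₀ ≫ c) (by
      show φ' ≫ s₀ ≫ c = 0
      rw [← Category.assoc, hs₀, Category.assoc, hw, comp_zero])
    have ht : c' ≫ t = s₀ ≫ c := hS'.exact.g_desc _ _
    let F₀ : ShortComplex.mk φ' c' hw' ⟶ ShortComplex.mk φ c hw := ShortComplex.homMk α.inv s₀ t hs₀.symm ht.symm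
    have h := ShortComplex.ShortExact.extClass_naturality (f := F₀) hS' hS
    have h' : hS'.extClass.comp (Abelian.Ext.mk₀ α.inv) (add_zero 1) = hS.extClass := by
      rw [← hα, Abelian.Ext.comp_assoc_of_third_deg_zero, Abelian.Ext.mk₀_comp_mk₀, Iso.hom_inv_id,
        Abelian.Ext.comp_mk₀_id]
    have h0 : (Abelian.Ext.mk₀ t).comp hS.extClass (zero_add 1) = hS.extClass := h.symm.trans h'
    obtain ⟨y, hy⟩ := Abelian.Ext.covariant_sequence_exact₃ Ω₂ hS (Abelian.Ext.mk₀ (t - 𝟙 Ω₂)) (n₁ := 1) (zero_add 1) (by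
      have e : Abelian.Ext.mk₀ t = Abelian.Ext.mk₀ (t - 𝟙 Ω₂) + Abelian.Ext.mk₀ (𝟙 Ω₂) := by
        rw [← Abelian.Ext.mk₀_add, sub_add_cancel]
      rw [e, Abelian.Ext.add_comp, Abelian.Ext.mk₀_id_comp] at h0
      simpa using h0)
    obtain ⟨σ, rfl⟩ := (Abelian.Ext.mk₀_bijective _ _).2 y
    rw [Abelian.Ext.mk₀_comp_mk₀] at hy
    have hσ : σ ≫ c = t - 𝟙 Ω₂ := (Abelian.Ext.mk₀_bijective _ _).1 hy
    let s := s₀ - c' ≫ σ
    have hs1 : α.inv ≫ φ = φ' ≫ s := by
      simp only [s, Preadditive.comp_sub]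
      rw [← Category.assoc φ', hw', zero_comp, sub_zero, hs₀]
    have hs2 : s ≫ c = c' := by
      simp only [s, Preadditive.sub_comp, Category.assoc]
      rw [hσ, Preadditive.comp_sub, ht, Category.comp_id]; abel
    let F : ShortComplex.mk φ' c' hw' ⟶ ShortComplex.mk φ c hw :=
      ShortComplex.homMk α.inv s (𝟙 _) hs1 (by simpa using hs2)
    haveI : IsIso s := ShortComplex.isIso₂_of_shortExact_of_isIso₁₃' F hS' hS
      (inferInstanceAs (IsIso α.inv)) (inferInstanceAs (IsIso (𝟙 Ω₂)))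
    obtain ⟨g, h1, h2, h3⟩ := Groth.Agent.Rib52.exists_hom_of_diff i hsq hφ hS hc i' (hp'.trans hp.symm) hc' s hs2
    haveI := Groth.Agent.Rib52.isIso_of_diff i hsq hφ hS hc i' hsq' hφ' hS' hc' s hs2 g h1 h3
    exact ⟨asIso g, h1, h2⟩

end Groth.Agent.S18348
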