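import Groth.Statements.S18351
import Groth.Agent.Om3.Conormal
import Groth.Agent.Om3.Compat
import Mathlib.Algebra.Homology.DerivedCategory.Ext.ExtClass

set_option autoImplicit false
universe w u
open CategoryTheory CategoryTheory.Limits AlgebraicGeometry
open MultCurve

namespace Groth.Agent.S18351

theorem pullbackId_inv_app_apply {X : Scheme.{u}} (M : X.Modules) (U : X.Opens) (x : Γ(M, U)) :
    ((Scheme.Modules.pullbackId X).inv.app M).app U x = OmegaSh.pullSect (𝟙 X) M U x := by
  have h := unit_conjugateEquiv .id (Scheme.Modules.pullbackPushforwardAdjunction (𝟙 X))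
    (Scheme.Modules.pullbackId X).hom M
  rw [Scheme.Modules.conjugateEquiv_pullbackId_hom] at h
  have h' : x = ((Scheme.Modules.pullbackId X).hom.app M).app U (OmegaSh.pullSect (𝟙 X) M U x) :=
    congr(Scheme.Modules.Hom.app $h U x)
  conv_lhs => rw [h']
  exact congr(Scheme.Modules.Hom.app $((Scheme.Modules.pullbackId X).hom_inv_id_app M) U
    (OmegaSh.pullSect (𝟙 X) M U x))

/-- Let k be a field and D a reduced connected scheme locally of finite type over k with a universal
k-derivation d₂ : O_D → Ω₂. Let C and C′ be ribbons on D over k (k-schemes locally of finite type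
with closed immersions i, i′ of D over k making them ribbons), each with its restricted cotangent
sequence presented by a universal k-derivation (d₁, resp. d₁′), the map from the conormal bundle (𝓛,
resp. 𝓛′) induced by it and the map to Ω₂ compatible with d₂, assumed short exact, with classes e_C
∈ Ext¹(Ω₂, 𝓛) and e_{C′} ∈ Ext¹(Ω₂, 𝓛′). Let g : C ⟶ C′ be a morphism over D and over k, and let α :
𝓛′ → 𝓛 be the map of conormal bundles induced by g (pulled back along the identity of D). Then
e_{C′} composed with α equals e_C: together with the restriction to D of the differential of g, α is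
a morphism from the restricted cotangent sequence of C′ to that of C. (This is the form in which the
blow-up morphism X ⟶ C of a ribbon C along an effective Cartier divisor of D relates the two
classes; that such a blow-up X is again a ribbon on D, with conormal bundle 𝓛(δ), is a separate
statement, and the identification of α with multiplication by the section of δ is not asserted here.
Valid for every morphism of ribbons over D.) -/
theorem result (k : Type u) [Field k] (D : Scheme.{u})
    (pD : D ⟶ Spec (CommRingCat.of k)) [LocallyOfFiniteType pD] [ConnectedSpace D]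
    (Ω₂ : D.Modules) (d₂ : OmegaSh.Der pD Ω₂) (hd₂ : OmegaSh.IsUniversal d₂) [HasExt.{w} D.Modules]
    (C : Scheme.{u}) (i : D ⟶ C) (pC : C ⟶ Spec (CommRingCat.of k)) [LocallyOfFiniteType pC]
    (hp : i ≫ pC = pD) (hR : MultCurve.IsRibbon i)
    (Ω₁ : C.Modules) (d₁ : OmegaSh.Der pC Ω₁) (hd₁ : OmegaSh.IsUniversal d₁)
    (φ : Omega.conormal i ⟶ (Scheme.Modules.pullback i).obj Ω₁) (hφ : OmegaSh.IsConormalDiff i d₁ φ)
    (c : (Scheme.Modules.pullback i).obj Ω₁ ⟶ Ω₂) (hc : OmegaSh.IsDiffCompat i d₁ d₂ c)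
    (hw : φ ≫ c = 0) (hS : (ShortComplex.mk φ c hw).ShortExact)
    (C' : Scheme.{u}) (i' : D ⟶ C') (pC' : C' ⟶ Spec (CommRingCat.of k)) [LocallyOfFiniteType pC']
    (hp' : i' ≫ pC' = pD) (hR' : MultCurve.IsRibbon i')
    (Ω₁' : C'.Modules) (d₁' : OmegaSh.Der pC' Ω₁') (hd₁' : OmegaSh.IsUniversal d₁')
    (φ' : Omega.conormal i' ⟶ (Scheme.Modules.pullback i').obj Ω₁') (hφ' : OmegaSh.IsConormalDiff i' d₁' φ')
    (c' : (Scheme.Modules.pullback i').obj Ω₁' ⟶ Ω₂) (hc' : OmegaSh.IsDiffCompat i' d₁' d₂ c')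
    (hw' : φ' ≫ c' = 0) (hS' : (ShortComplex.mk φ' c' hw').ShortExact)
    (g : C ⟶ C') (hgi : i ≫ g = i') (hgk : g ≫ pC' = pC)
    (α : (Scheme.Modules.pullback (𝟙 D)).obj (Omega.conormal i') ⟶ Omega.conormal i)
    (hα : OmegaSh.IsConormalMap i i' g (𝟙 D) α) :
    hS'.extClass.comp (Abelian.Ext.mk₀ ((Scheme.Modules.pullbackId D).inv.app (Omega.conormal i') ≫ α)) (add_zero 1) =
      hS.extClass := by
  obtain rfl := hgi
  obtain ⟨θ, hθ, -⟩ := Groth.Agent.Om3.existsUnique_diffCompat g (b := 𝟙 (Spec (CommRingCat.of k)))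
    (by rw [Category.comp_id, hgk]) hd₁' d₁
  let β : Ω₁' ⟶ (Scheme.Modules.pushforward (i ≫ g)).obj ((Scheme.Modules.pullback i).obj Ω₁) :=
    (Scheme.Modules.pullbackPushforwardAdjunction g).homEquiv _ _ θ ≫
      (Scheme.Modules.pushforward g).map ((Scheme.Modules.pullbackPushforwardAdjunction i).unit.app Ω₁) ≫
      (Scheme.Modules.pushforwardComp i g).hom.app _
  let ψ := ((Scheme.Modules.pullbackPushforwardAdjunction (i ≫ g)).homEquiv _ _).symm β
  have hψ : ∀ (U' : C'.Opens) (t : Γ(C', U')),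
      ψ.app ((i ≫ g) ⁻¹ᵁ U') (OmegaSh.pullSect (i ≫ g) Ω₁' U' (d₁'.app U' t)) =
        OmegaSh.pullSect i Ω₁ (g ⁻¹ᵁ U') (d₁.app (g ⁻¹ᵁ U') (g.app U' t)) := fun U' t => by
    have h1 : (Scheme.Modules.pullbackPushforwardAdjunction (i ≫ g)).homEquiv _ _ ψ = β :=
      Equiv.apply_symm_apply _ _
    rw [Adjunction.homEquiv_unit] at h1
    refine (congr(Scheme.Modules.Hom.app $h1 U' (d₁'.app U' t))).trans ?_
    exact congrArg (OmegaSh.pullSect i Ω₁ (g ⁻¹ᵁ U')) (hθ U' t)
  have hψc : ψ ≫ c = c' := by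
    obtain ⟨c₀, -, hu⟩ := Groth.Agent.Om3.existsUnique_diffCompat (i ≫ g) (b := 𝟙 (Spec (CommRingCat.of k)))
      (by rw [Category.comp_id, hp']) hd₁' d₂
    refine (hu _ fun U' t => ?_).trans (hu _ hc').symm
    refine (congrArg (c.app _) (hψ U' t)).trans ?_
    refine (hc (g ⁻¹ᵁ U') (g.app U' t)).trans ?_
    rfl
  have hφψ : ((Scheme.Modules.pullbackId D).inv.app (Omega.conormal (i ≫ g)) ≫ α) ≫ φ = φ' ≫ ψ := by
    apply ((Scheme.Modules.pullbackPushforwardAdjunction (i ≫ g)).homEquiv (ClSub.idealMod (i ≫ g).ker) _).injective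
    refine Scheme.Modules.hom_ext _ _ fun U' => ?_
    ext s'
    rw [Adjunction.homEquiv_unit, Adjunction.homEquiv_unit]
    show φ.app _ (α.app _ (((Scheme.Modules.pullbackId D).inv.app _).app _ (OmegaSh.conormalSect (i ≫ g) U' s'))) =
      ψ.app _ (φ'.app _ (OmegaSh.conormalSect (i ≫ g) U' s'))
    rw [hφ' U' s', hψ, pullbackId_inv_app_apply]
    haveI : IsClosedImmersion i := hR.1.1
    obtain ⟨s, hs⟩ := Groth.Agent.Om3.exists_sect i (i ≫ g) g (𝟙 D) (Category.id_comp _) U' s'
    have hα' := hα.2 U' s' s hs _ le_rfl le_rfl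
    rw [← hs, ← hφ (g ⁻¹ᵁ U') s]
    refine congrArg (φ.app _) ?_
    refine Eq.trans ?_ (hα'.trans ?_)
    · exact (Groth.Agent.QC70.res_self (M := Omega.conormal i) _).symm
    · exact Groth.Agent.QC70.res_self (M := Omega.conormal i) _
  let f : ShortComplex.mk φ' c' hw' ⟶ ShortComplex.mk φ c hw :=
    ShortComplex.homMk ((Scheme.Modules.pullbackId D).inv.app _ ≫ α) ψ (𝟙 _) hφψ
      (by simpa using hψc)
  have h := ShortComplex.ShortExact.extClass_naturality (f := f) hS' hS
  simpa [f] using h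

end Groth.Agent.S18351
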