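import Groth.Statements.S18352
import Groth.Agent.Curves2.NormalAscent
import Groth.Agent.Curves2.SmoothNormal
import Groth.Agent.FlatMor68.FibreStalk

set_option autoImplicit false
universe u
open Curv2

namespace Groth.Agent.S18352

open CategoryTheory AlgebraicGeometry in
/-- Let S be an integral Noetherian scheme all of whose local rings are integrally closed domains, and
let f : C → S be a flat, proper, locally finitely presented morphism of schemes whose fibres are
geometrically reduced and geometrically connected, all of Krull dimension one, and whose fibre over
the generic point of S is smooth over the residue field there. Then every local ring of C is an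
integrally closed domain. The total space C is a scheme here; the source also allows an algebraic
space. -/
theorem result (S C : Scheme.{u}) [IsIntegral S] [IsNoetherian S]
    (hS : Pi1.IsNormalScheme S) (f : C ⟶ S) [Flat f] [IsProper f] [LocallyOfFinitePresentation f]
    [GeometricallyReduced f] [GeometricallyConnected f]
    (hdim : ∀ s : ↥S, topologicalKrullDim ↥(f.fiber s) = 1)
    (hsm : Smooth (f.fiberToSpecResidueField (genericPoint ↥S))) :
    Pi1.IsNormalScheme C := by
  have hred : ∀ s, IsReduced (f.fiber s) := fun s => inferInstance
  refine Groth.Agent.Curves2.isNormalScheme_of_flat_of_fibres f hS hred fun y hy => ?_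
  let e := Groth.Agent.FlatMor68.FibreStalk.fibreStalkEquivAt f y
  have hbot : (IsLocalRing.maximalIdeal (S.presheaf.stalk (f y))).map (f.stalkMap y).hom = ⊥ := by
    have hmax := Groth.Agent.FlatMor68.GenStalk.maximalIdeal_stalk_eq_bot_of_maximal (f y)
      (fun z hz => by
        refine (Specializes.antisymm hz ?_).eq
        rw [hy]; exact genericPoint_specializes z)
    rw [hmax, Ideal.map_bot]
  let e' : C.presheaf.stalk y ≃+* _ := ((RingEquiv.quotientBot _).symm.trans
    (Ideal.quotEquivOfEq hbot.symm)).trans e
  have hz : f y = genericPoint S := hy
  have key : ∀ (s : S) (_ : s = genericPoint S) (w : f.fiber s),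
      IsDomain ((f.fiber s).presheaf.stalk w) ∧ IsIntegrallyClosed ((f.fiber s).presheaf.stalk w) := by
    rintro s rfl w
    exact @Groth.Agent.Curves2.isIntegrallyClosed_stalk_of_smooth (S.residueField (genericPoint S))
      _ (f.fiber (genericPoint S)) (f.fiberToSpecResidueField (genericPoint S)) hsm w
  obtain ⟨h1, h2⟩ := key (f y) hy (f.asFiber y)
  have : IsDomain (C.presheaf.stalk y) := Function.Injective.isDomain e' e'.injective
  exact ⟨this, IsIntegrallyClosed.of_equiv e'.symm⟩

end Groth.Agent.S18352
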