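import Groth.Statements.S18353
import Groth.Agent.Curves2.BirationalPush
import Groth.Agent.Curves2.NormalAscentGeneric
import Groth.Agent.SchBasics.Local
import Mathlib.AlgebraicGeometry.Morphisms.UniversallyOpen

set_option autoImplicit false
universe u
open Curv2

namespace Groth.Agent.S18353
open AlgebraicGeometry CategoryTheory in
theorem isIntegral_total (S C : Scheme.{u}) [IsIntegral S] [IsNoetherian S] (hS : Pi1.IsNormalScheme S)
    (f : C ⟶ S) [Flat f] [IsProper f] [LocallyOfFinitePresentation f] [GeometricallyReduced f]
    [GeometricallyConnected f] (hsm : Smooth (f.fiberToSpecResidueField (genericPoint ↥S))) :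
    IsIntegral C ∧ Pi1.IsNormalScheme C := by
  have hN : Pi1.IsNormalScheme C := by
    refine Groth.Agent.Curves2.isNormalScheme_of_flat_of_fibres f hS (fun s => inferInstance)
      fun y hy => ?_
    exact Groth.Agent.Curves2.normal_stalk_over_generic f hsm y hy
  refine ⟨?_, hN⟩
  have : IsLocallyNoetherian C := LocallyOfFiniteType.isLocallyNoetherian f
  exact Groth.Agent.SchBasics.isIntegral_iff_connectedSpace_and_isDomain.mpr
    ⟨GeometricallyConnected.connectedSpace f f.isOpenMap, fun x => (hN x).1⟩


open CategoryTheory AlgebraicGeometry in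
/-- Let S be an integral Noetherian scheme all of whose local rings are integrally closed domains, and
let f₁ : C₁ → S and f₂ : C₂ → S be flat, proper, locally finitely presented morphisms of schemes
whose fibres are geometrically reduced and geometrically connected, all of Krull dimension one, and
whose fibres over the generic point of S are smooth. Let φ : C₁ → C₂ be a morphism over S which is
birational, in the sense that it restricts to an isomorphism over some dense open subset of C₂. Then
the canonical map O_{C₂} → φ_* O_{C₁} is an isomorphism: for every open V of C₂ the pull-back map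
from sections over V to sections over φ⁻¹(V) is an isomorphism of rings. The total spaces are
schemes here; the source also allows algebraic spaces. -/
theorem result (S C₁ C₂ : Scheme.{u}) [IsIntegral S]
    [IsNoetherian S] (hS : Pi1.IsNormalScheme S) (f₁ : C₁ ⟶ S) (f₂ : C₂ ⟶ S)
    [Flat f₁] [IsProper f₁] [LocallyOfFinitePresentation f₁] [GeometricallyReduced f₁] [GeometricallyConnected f₁]
    [Flat f₂] [IsProper f₂] [LocallyOfFinitePresentation f₂] [GeometricallyReduced f₂] [GeometricallyConnected f₂]
    (hdim₁ : ∀ s : ↥S, topologicalKrullDim ↥(f₁.fiber s) = 1) (hdim₂ : ∀ s : ↥S, topologicalKrullDim ↥(f₂.fiber s) = 1)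
    (hsm₁ : Smooth (f₁.fiberToSpecResidueField (genericPoint ↥S)))
    (hsm₂ : Smooth (f₂.fiberToSpecResidueField (genericPoint ↥S)))
    (φ : C₁ ⟶ C₂) (hφ : φ ≫ f₂ = f₁) (hbir : ∃ U : C₂.Opens, Dense (U : Set ↥C₂) ∧ IsIso (φ ∣_ U)) :
    ∀ V : C₂.Opens, IsIso (φ.app V) := by
  obtain ⟨h1, -⟩ := isIntegral_total S C₁ hS f₁ hsm₁
  obtain ⟨h2, hN⟩ := isIntegral_total S C₂ hS f₂ hsm₂
  obtain ⟨U, hU, hiso⟩ := hbir
  have : IsProper φ := by
    have : IsProper (φ ≫ f₂) := hφ ▸ inferInstance
    exact MorphismProperty.of_postcomp (W := @IsProper) (W' := @IsSeparated) φ f₂ inferInstance inferInstance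
  exact fun V => Groth.Agent.Curves2.isIso_app_of_birational φ (fun y => (hN y).2) U hU.nonempty V

end Groth.Agent.S18353
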