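import Groth.Statements.S18360
import Groth.Agent.S1376
-- import your own Groth.Agent.* helpers here

set_option autoImplicit false
universe u
open CategoryTheory CategoryTheory.Limits AlgebraicGeometry
open Alter
open TopologicalSpace Opposite

namespace Groth.Agent.S18360

/-- Every point has an affine neighbourhood. -/
theorem exists_isAffineOpen_mem {Y : Scheme.{u}} (y : Y) : ∃ U : Y.Opens, IsAffineOpen U ∧ y ∈ U := by
  obtain ⟨U, hU, hy, -⟩ := exists_isAffineOpen_mem_and_subset (X := Y) (x := y) (U := ⊤) trivial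
  exact ⟨U, hU, hy⟩

/-- A root, in a field, of a split polynomial comes from the ring over which it splits. -/
theorem root_mem_range {R Ω : Type*} [CommRing R] [Field Ω] (h : R →+* Ω) {f : Polynomial R}
    (hf : f.Splits) (x : Ω) : f.map h ≠ 0 → (f.map h).IsRoot x → x ∈ h.range := by
  induction hf using Submonoid.closure_induction with
  | mem g hg =>
    rcases hg with ⟨a, rfl⟩ | ⟨a, rfl⟩
    · intro h0 hx
      simp only [Polynomial.map_C, Polynomial.IsRoot, Polynomial.eval_C] at hx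
      exact absurd (by rw [Polynomial.map_C, hx, map_zero]) h0
    · intro _ hx
      simp only [Polynomial.map_add, Polynomial.map_X, Polynomial.map_C, Polynomial.IsRoot,
        Polynomial.eval_add, Polynomial.eval_X, Polynomial.eval_C] at hx
      exact ⟨-a, by rw [map_neg, eq_neg_of_add_eq_zero_left hx]⟩
  | one => intro _ hx; simp at hx
  | mul a b _ _ ha hb =>
    intro h0 hx
    rw [Polynomial.map_mul] at h0 hx
    rcases Polynomial.root_mul.1 hx with hr | hr
    · exact ha (left_ne_zero_of_mul h0) hr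
    · exact hb (right_ne_zero_of_mul h0) hr

/-- Splitting persists along a further morphism. -/
theorem splits_comp {X Y Z : Scheme.{u}} (a : X ⟶ Y) (b : Y ⟶ Z) {U : Z.Opens} (P : Polynomial Γ(Z, U))
    (h : (P.map (b.app U).hom).Splits) : (P.map ((a ≫ b).app U).hom).Splits := by
  have h' := h.map (a.app (b ⁻¹ᵁ U)).hom
  rw [Polynomial.map_map] at h'
  exact h'

/-- One polynomial is split by a finite surjective cover. -/
theorem exists_cover_splits {Y : Scheme.{u}} [IsNoetherian Y] (U : Y.affineOpens)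
    (P : Polynomial Γ(Y, U.1)) (hP : P.Monic) :
    ∃ (V' : Scheme.{u}) (π : V' ⟶ Y), IsFinite π ∧ Surjective π ∧ (P.map (π.app U.1).hom).Splits := by
  rcases subsingleton_or_nontrivial Γ(Y, U.1) with h | h
  · refine ⟨Y, 𝟙 Y, inferInstance, inferInstance, ?_⟩
    haveI : Subsingleton (Polynomial Γ(Y, U.1)) := inferInstance
    rw [show P = 1 from Subsingleton.elim _ _, Polynomial.map_one]
    exact Polynomial.Splits.one
  obtain ⟨S, _, _, _, _, _, hS⟩ := hP.exists_splits_map
  let φ : Γ(Y, U.1) ⟶ CommRingCat.of S := CommRingCat.ofHom (algebraMap _ S)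
  haveI : IsFinite (Spec.map φ) :=
    (IsFinite.SpecMap_iff φ).2 (RingHom.finite_algebraMap.2 inferInstance)
  haveI : Surjective (Spec.map φ) := by
    refine ⟨fun x => ?_⟩
    exact PrimeSpectrum.comap_surjective_of_faithfullyFlat (A := Γ(Y, U.1)) (B := S) x
  let v : Spec (CommRingCat.of S) ⟶ (U.1 : Scheme.{u}) := Spec.map φ ≫ U.2.isoSpec.inv
  obtain ⟨V', π, j, hπs, hπf, hsq⟩ :=
    Groth.Agent.S1376.result U.1 U.2.isCompact v
  refine ⟨V', π, hπf, hπs, ?_⟩
  haveI : IsOpenImmersion j := MorphismProperty.of_isPullback (P := @IsOpenImmersion) hsq.flip inferInstance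
  have hrange : (π ⁻¹ᵁ U.1) ≤ j.opensRange := by
    intro z hz
    have hz' : π z ∈ Set.range U.1.ι := by simpa using hz
    obtain ⟨w, hw⟩ := hz'
    obtain ⟨p, hp, -⟩ := Scheme.Pullback.exists_preimage_pullback (f := π) (g := U.1.ι) z w hw.symm
    refine ⟨hsq.isoPullback.inv p, ?_⟩
    rw [← Scheme.Hom.comp_apply, hsq.isoPullback_inv_fst, hp]
  haveI := Scheme.Hom.isIso_app j (π ⁻¹ᵁ U.1) hrange
  have htop : (⊤ : (Spec (CommRingCat.of S)).Opens) ≤ (v ≫ U.1.ι) ⁻¹ᵁ U.1 := fun w _ => (v w).2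
  have hkey : (v ≫ U.1.ι).appLE U.1 ⊤ htop = φ ≫ (Scheme.ΓSpecIso (CommRingCat.of S)).inv := by
    have hv : v ≫ U.1.ι = Spec.map φ ≫ U.2.fromSpec := by
      exact Category.assoc _ _ _
    have hU2 : IsAffineOpen U.1 := U.2
    apply Spec.map_injective
    rw [← cancel_mono hU2.fromSpec, IsAffineOpen.SpecMap_appLE_fromSpec _ hU2 (isAffineOpen_top _), hv,
      IsAffineOpen.fromSpec_top, Scheme.isoSpec_Spec_inv, Spec.map_comp, Category.assoc]
  have hcomp : π.app U.1 ≫ j.appLE (π ⁻¹ᵁ U.1) ⊤ (fun w _ => by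
      show π (j w) ∈ U.1
      rw [← Scheme.Hom.comp_apply, hsq.w]
      exact (v w).2) = φ ≫ (Scheme.ΓSpecIso (CommRingCat.of S)).inv := by
    rw [← hkey]
    simp only [Scheme.Hom.app_eq_appLE, Scheme.Hom.appLE_comp_appLE, hsq.w]
  have htop' : j ⁻¹ᵁ (π ⁻¹ᵁ U.1) = ⊤ := by
    ext w
    simp only [Opens.coe_top, Set.mem_univ, iff_true, SetLike.mem_coe]
    show π (j w) ∈ U.1
    rw [← Scheme.Hom.comp_apply, hsq.w]
    exact (v w).2
  haveI : IsIso (j.appLE (π ⁻¹ᵁ U.1) ⊤ htop'.ge) := by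
    rw [Scheme.Hom.appLE, show homOfLE htop'.ge = eqToHom htop'.symm from Subsingleton.elim _ _]
    infer_instance
  have hinj : π.app U.1 = φ ≫ (Scheme.ΓSpecIso (CommRingCat.of S)).inv ≫ inv (j.appLE (π ⁻¹ᵁ U.1) ⊤ htop'.ge) := by
    rw [← Category.assoc, ← hcomp, Category.assoc, IsIso.hom_inv_id, Category.comp_id]
  rw [hinj]
  simp only [CommRingCat.hom_comp, ← Polynomial.map_map]
  exact (hS.map _).map _

/-- Finitely many polynomials are split by one finite surjective cover. -/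
theorem exists_cover_splits_all {Y : Scheme.{u}} [IsNoetherian Y] {κ : Type*} (U : κ → Y.affineOpens)
    (P : ∀ k, Polynomial Γ(Y, (U k).1)) (hP : ∀ k, (P k).Monic) (s : Finset κ) :
    ∃ (Y' : Scheme.{u}) (g : Y' ⟶ Y), IsFinite g ∧ Surjective g ∧
      ∀ k ∈ s, ((P k).map (g.app (U k).1).hom).Splits := by
  classical
  induction s using Finset.induction with
  | empty => exact ⟨Y, 𝟙 Y, inferInstance, inferInstance, by simp⟩
  | insert k s _ ih =>
    obtain ⟨Y₁, g, _, _, hg⟩ := ih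
    obtain ⟨Y₂, h, _, _, hh⟩ := exists_cover_splits (U k) (P k) (hP k)
    refine ⟨pullback g h, pullback.fst g h ≫ g, inferInstance, inferInstance, fun l hl => ?_⟩
    rcases Finset.mem_insert.1 hl with rfl | hl
    · have hpc : pullback.fst g h ≫ g = pullback.snd g h ≫ h := pullback.condition
      rw [hpc]
      exact splits_comp _ _ _ hh
    · exact splits_comp _ _ _ (hg l hl)

/-- A point of an integral scheme lifts through a finite morphism as soon as the defining polynomials
split over it. -/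
theorem exists_lift {Y F' G : Scheme.{u}} [IsIntegral G] (σ : F' ⟶ Y) [IsFinite σ] (τ : G ⟶ Y)
    (hη : τ (genericPoint G) ∈ Set.range σ) {κ : Type*} (U : κ → Y.affineOpens)
    (hU : ∀ y : Y, ∃ k, y ∈ (U k).1) (t : ∀ k, Finset Γ(F', σ ⁻¹ᵁ (U k).1))
    (ht : ∀ k, letI := (σ.app (U k).1).hom.toAlgebra
      Submodule.span Γ(Y, (U k).1) (t k : Set Γ(F', σ ⁻¹ᵁ (U k).1)) = ⊤)
    (hsplit : ∀ k, ∀ b ∈ t k, ∃ P : Polynomial Γ(Y, (U k).1), P.Monic ∧
      P.eval₂ (σ.app (U k).1).hom b = 0 ∧ (P.map (τ.app (U k).1).hom).Splits) :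
    ∃ φ : G ⟶ F', φ ≫ σ = τ := by
  obtain ⟨x, hx⟩ := hη
  obtain ⟨z, hzf, hzs⟩ := Scheme.Pullback.exists_preimage_pullback (f := σ) (g := τ) x (genericPoint G) hx
  let Z := pullback σ τ
  let ψ : Spec (Z.residueField z) ⟶ F' := Z.fromSpecResidueField z ≫ pullback.fst σ τ
  let ω : Spec (Z.residueField z) ⟶ G := Z.fromSpecResidueField z ≫ pullback.snd σ τ
  have hψω : ψ ≫ σ = ω ≫ τ := by simp [ψ, ω, pullback.condition]
  have hω : ∀ p, ω p = genericPoint G := fun p => by
    show pullback.snd σ τ (Z.fromSpecResidueField z p) = _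
    rw [Scheme.fromSpecResidueField_apply, hzs]
  have hψ : ∀ p, ψ p = x := fun p => by
    show pullback.fst σ τ (Z.fromSpecResidueField z p) = _
    rw [Scheme.fromSpecResidueField_apply, hzf]
  -- the morphism over each affine piece containing the image of the generic point
  have local' : ∀ k : {k : κ // τ (genericPoint G) ∈ (U k).1},
      ∃ (φ : ((τ ⁻¹ᵁ (U k.1).1 : G.Opens) : Scheme.{u}) ⟶ F')
        (j : Spec (Z.residueField z) ⟶ (τ ⁻¹ᵁ (U k.1).1 : G.Opens)),
        φ ≫ σ = (τ ⁻¹ᵁ (U k.1).1).ι ≫ τ ∧ j ≫ (τ ⁻¹ᵁ (U k.1).1).ι = ω ∧ j ≫ φ = ψ := by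
    rintro ⟨k, hk⟩
    let W : G.Opens := τ ⁻¹ᵁ (U k).1
    have hUk : IsAffineOpen (U k).1 := (U k).2
    haveI : IsOpenImmersion hUk.fromSpec := inferInstance
    have hV : IsAffineOpen (σ ⁻¹ᵁ (U k).1) := (U k).2.preimage σ
    have hψV : Set.range ψ ⊆ Set.range hV.fromSpec := by
      rw [hV.range_fromSpec]
      rintro _ ⟨p, rfl⟩
      show σ (ψ p) ∈ (U k).1
      rw [hψ, hx]
      exact hk
    have hωW : Set.range ω ⊆ Set.range W.ι := by
      rw [Scheme.Opens.range_ι]
      rintro _ ⟨p, rfl⟩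
      show τ (ω p) ∈ (U k).1
      rw [hω]
      exact hk
    let ψ' := IsOpenImmersion.lift hV.fromSpec ψ hψV
    let j := IsOpenImmersion.lift W.ι ω hωW
    let b : Γ(F', σ ⁻¹ᵁ (U k).1) ⟶ Z.residueField z := Spec.preimage ψ'
    let c : Γ(G, W) ⟶ Z.residueField z := Spec.preimage (j ≫ W.toSpecΓ)
    have hW : W.toSpecΓ ≫ Spec.map (τ.app (U k).1) ≫ hUk.fromSpec = W.ι ≫ τ := by
      rw [Scheme.Opens.toSpecΓ_naturality_assoc, IsAffineOpen.toSpecΓ_fromSpec, morphismRestrict_ι]
    have hσ : Spec.map (σ.app (U k).1) ≫ hUk.fromSpec = hV.fromSpec ≫ σ := by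
      rw [Scheme.Hom.app_eq_appLE]
      exact IsAffineOpen.SpecMap_appLE_fromSpec σ (U k).2 hV le_rfl
    have hbc : σ.app (U k).1 ≫ b = τ.app (U k).1 ≫ c := by
      apply Spec.map_injective
      rw [← cancel_mono hUk.fromSpec, Spec.map_comp, Spec.map_comp, Category.assoc, Category.assoc,
        Spec.map_preimage, Spec.map_preimage, Category.assoc, hW, hσ, IsOpenImmersion.lift_fac_assoc,
        IsOpenImmersion.lift_fac_assoc, hψω]
    have hcinj : Function.Injective c.hom := by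
      rw [injective_iff_map_eq_zero]
      intro f hf
      have h1 : (j ≫ W.toSpecΓ) ⁻¹ᵁ PrimeSpectrum.basicOpen f = ⊥ := by
        rw [← Spec.map_preimage (j ≫ W.toSpecΓ)]
        ext p
        simp only [Opens.coe_bot, Set.mem_empty_iff_false, iff_false, SetLike.mem_coe]
        intro hp
        refine hp ?_
        show c.hom f ∈ p.asIdeal
        rw [hf]
        exact zero_mem _
      refine (basicOpen_eq_bot_iff f).1 (Opens.ext (Set.eq_empty_of_forall_notMem fun q hq => ?_))
      let p : Spec (Z.residueField z) := IsLocalRing.closedPoint (Z.residueField z)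
      have hgen : genericPoint G ∈ G.basicOpen f :=
        ((genericPoint_spec G).mem_open_set_iff (G.basicOpen f).2).2 ⟨q, by simpa using hq⟩
      have hp : p ∈ (j ≫ W.toSpecΓ) ⁻¹ᵁ PrimeSpectrum.basicOpen f := by
        show j p ∈ W.toSpecΓ ⁻¹ᵁ PrimeSpectrum.basicOpen f
        rw [Scheme.Opens.toSpecΓ_preimage_basicOpen]
        show W.ι (j p) ∈ G.basicOpen f
        rw [← Scheme.Hom.comp_apply, IsOpenImmersion.lift_fac, hω]
        exact hgen
      rw [h1] at hp
      exact hp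
    have hrange : ∀ y, b.hom y ∈ c.hom.range := by
      letI := (σ.app (U k).1).hom.toAlgebra
      have hA : ∀ a, b.hom ((σ.app (U k).1).hom a) ∈ c.hom.range := fun a =>
        ⟨(τ.app (U k).1).hom a, (congr($(hbc).hom a)).symm⟩
      intro y
      have hy : y ∈ Submodule.span Γ(Y, (U k).1) (t k : Set Γ(F', σ ⁻¹ᵁ (U k).1)) := by
        rw [ht k]; trivial
      induction hy using Submodule.span_induction with
      | mem y hy =>
        obtain ⟨P, hPm, hPy, hPs⟩ := hsplit k y hy
        refine root_mem_range c.hom hPs (b.hom y) ((hPm.map _).map _).ne_zero ?_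
        rw [Polynomial.map_map, ← CommRingCat.hom_comp, ← hbc, CommRingCat.hom_comp, Polynomial.IsRoot,
          ← Polynomial.eval₂_eq_eval_map, ← Polynomial.hom_eval₂, hPy, map_zero]
      | zero => exact ⟨0, by rw [map_zero, map_zero]⟩
      | add a a' _ _ ha ha' => rw [map_add]; exact add_mem ha ha'
      | smul a y _ hy =>
        rw [Algebra.smul_def, RingHom.algebraMap_toAlgebra, map_mul]
        exact mul_mem (hA a) hy
    let e := RingEquiv.ofBijective c.hom.rangeRestrict
      ⟨fun a a' h => hcinj (congrArg Subtype.val h), c.hom.rangeRestrict_surjective⟩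
    let θ : Γ(F', σ ⁻¹ᵁ (U k).1) ⟶ Γ(G, W) :=
      CommRingCat.ofHom (e.symm.toRingHom.comp (b.hom.codRestrict c.hom.range hrange))
    have hθ : θ ≫ c = b := by
      ext y
      exact congrArg Subtype.val (e.apply_symm_apply ⟨b.hom y, hrange y⟩)
    have hθσ : σ.app (U k).1 ≫ θ = τ.app (U k).1 := by
      ext a
      apply hcinj
      have h1 := congr($(hθ).hom ((σ.app (U k).1).hom a))
      have h2 := congr($(hbc).hom a)
      exact h1.trans h2
    refine ⟨W.toSpecΓ ≫ Spec.map θ ≫ hV.fromSpec, j, ?_, IsOpenImmersion.lift_fac _ _ _, ?_⟩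
    · rw [Category.assoc, Category.assoc, ← hσ, ← Spec.map_comp_assoc, hθσ, hW]
    · rw [← Category.assoc j, ← Spec.map_preimage (j ≫ W.toSpecΓ), ← Spec.map_comp_assoc, hθ,
        Spec.map_preimage, IsOpenImmersion.lift_fac]
  choose φ j hφσ hj hjφ using local'
  let 𝒰 : G.OpenCover := Scheme.openCoverOfIsOpenCover G
    (fun k : {k : κ // τ (genericPoint G) ∈ (U k).1} => τ ⁻¹ᵁ (U k.1).1) (by
      rw [IsOpenCover, eq_top_iff]
      intro q _
      obtain ⟨k, hk⟩ := hU (τ q)
      exact Opens.mem_iSup.2 ⟨⟨k, ((genericPoint_specializes q).map τ.continuous).mem_open (U k).1.2 hk⟩, hk⟩)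
  refine ⟨𝒰.glueMorphisms φ fun k l => ?_, ?_⟩
  · haveI : IsReduced (pullback (𝒰.f k) (𝒰.f l)) :=
      isReduced_of_isOpenImmersion (pullback.fst (𝒰.f k) (𝒰.f l) ≫ 𝒰.f k)
    let m : Spec (Z.residueField z) ⟶ pullback (𝒰.f k) (𝒰.f l) :=
      pullback.lift (j k) (j l) ((hj k).trans (hj l).symm)
    haveI : IsDominant m := by
      refine ⟨?_⟩
      let o := pullback.fst (𝒰.f k) (𝒰.f l) ≫ 𝒰.f k
      have hd : Dense ({genericPoint G} : Set G) := dense_iff_closure_eq.2 (genericPoint_spec G).def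
      refine Dense.mono ?_ (hd.preimage o.isOpenEmbedding.isOpenMap)
      intro q hq
      refine ⟨IsLocalRing.closedPoint (Z.residueField z), o.isOpenEmbedding.injective ?_⟩
      rw [Set.mem_preimage, Set.mem_singleton_iff] at hq
      have hmo : m ≫ o = ω := (pullback.lift_fst_assoc _ _ _ _).trans (hj k)
      rw [hq]
      show (m ≫ o) _ = _
      rw [hmo]
      exact hω _
    refine ext_of_isDominant_of_isSeparated σ ?_ m ?_
    · exact ((Category.assoc _ _ _).trans ((congrArg (_ ≫ ·) (hφσ k)).trans (pullback.condition_assoc τ))).trans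
        (((Category.assoc _ _ _).trans (congrArg (_ ≫ ·) (hφσ l))).symm)
    · exact ((pullback.lift_fst_assoc _ _ _ _).trans (hjφ k)).trans
        ((pullback.lift_snd_assoc _ _ _ _).trans (hjφ l)).symm
  · refine Scheme.Cover.hom_ext 𝒰 _ _ fun k => ?_
    exact (Category.assoc _ _ _).symm.trans ((congrArg (· ≫ σ) (Scheme.Cover.ι_glueMorphisms 𝒰 φ _ k)).trans (hφσ k))

end Groth.Agent.S18360

namespace Groth.Agent.S18360

/-- Let Y be a Noetherian scheme, i : F ⟶ Y a closed immersion and s : F' ⟶ F a finite surjective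
morphism. Then there are a scheme Y' and a finite surjective morphism g : Y' ⟶ Y such that every
irreducible component of F ×_Y Y', with its reduced closed-subscheme structure, is the source of an
F-morphism to F': for every reduced scheme G and every closed immersion ι : G ⟶ F ×_Y Y' whose image
is an irreducible component, there is φ : G ⟶ F' with φ ≫ s = ι ≫ pr₁. -/
theorem result {Y F F' : Scheme.{u}} [IsNoetherian Y]
    (i : F ⟶ Y) [IsClosedImmersion i] (s : F' ⟶ F) [IsFinite s] [Surjective s] :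
    ∃ (Y' : Scheme.{u}) (g : Y' ⟶ Y), IsFinite g ∧ Surjective g ∧
      ∀ (G : Scheme.{u}) (ι : G ⟶ pullback i g) [IsClosedImmersion ι] [AlgebraicGeometry.IsReduced G],
        Set.range ι.base ∈ irreducibleComponents ↥(pullback i g) →
          ∃ φ : G ⟶ F', φ ≫ s = ι ≫ pullback.fst i g := by
  classical
  have hfin : ∀ U : Y.affineOpens, ∃ t : Finset Γ(F', (s ≫ i) ⁻¹ᵁ U.1),
      letI := ((s ≫ i).app U.1).hom.toAlgebra
      Submodule.span Γ(Y, U.1) (t : Set Γ(F', (s ≫ i) ⁻¹ᵁ U.1)) = ⊤ := by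
    intro U
    letI := ((s ≫ i).app U.1).hom.toAlgebra
    haveI : Module.Finite Γ(Y, U.1) Γ(F', (s ≫ i) ⁻¹ᵁ U.1) := (s ≫ i).finite_app U.1 U.2
    exact Module.Finite.fg_top
  obtain ⟨c, hc⟩ := CompactSpace.elim_nhds_subcover (fun y : Y =>
    ((exists_isAffineOpen_mem y).choose : Set Y)) fun y =>
      (exists_isAffineOpen_mem y).choose.2.mem_nhds (exists_isAffineOpen_mem y).choose_spec.2
  let U : {y // y ∈ c} → Y.affineOpens := fun y =>
    ⟨(exists_isAffineOpen_mem y.1).choose, (exists_isAffineOpen_mem y.1).choose_spec.1⟩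
  choose t ht using fun k => hfin (U k)
  have hint : ∀ e : (k : {y // y ∈ c}) × {b // b ∈ t k}, ∃ P : Polynomial Γ(Y, (U e.1).1),
      P.Monic ∧ P.eval₂ ((s ≫ i).app (U e.1).1).hom e.2.1 = 0 := fun e =>
    ((s ≫ i).finite_app (U e.1).1 (U e.1).2).to_isIntegral e.2.1
  choose P hPm hP0 using hint
  obtain ⟨Y', g, hgf, hgs, hg⟩ :=
    exists_cover_splits_all (fun e : (k : {y // y ∈ c}) × {b // b ∈ t k} => U e.1) P hPm Finset.univ
  refine ⟨Y', g, hgf, hgs, fun G ι _ _ hι => ?_⟩
  haveI : IrreducibleSpace G := by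
    haveI : IrreducibleSpace (Set.range ι.base) :=
      Subtype.irreducibleSpace hι.1
    let e := ι.isClosedEmbedding.isEmbedding.toHomeomorph
    rw [irreducibleSpace_def]
    have := (IrreducibleSpace.isIrreducible_univ (Set.range ι.base)).image e.symm e.symm.continuous.continuousOn
    rwa [Set.image_univ, EquivLike.range_eq_univ] at this
  haveI := isIntegral_of_irreducibleSpace_of_isReduced G
  let τ : G ⟶ Y := ι ≫ pullback.snd i g ≫ g
  have hτ : τ = (ι ≫ pullback.fst i g) ≫ i := by simp [τ, pullback.condition]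
  have hη : τ (genericPoint G) ∈ Set.range (s ≫ i) := by
    obtain ⟨w, hw⟩ := Surjective.surj (f := s) ((ι ≫ pullback.fst i g) (genericPoint G))
    exact ⟨w, by rw [hτ]; simp [hw]⟩
  obtain ⟨φ, hφ⟩ := exists_lift (s ≫ i) τ hη U (fun y => by
      have : y ∈ ⋃ x ∈ c, ((exists_isAffineOpen_mem x).choose : Set Y) := hc ▸ Set.mem_univ y
      obtain ⟨x, hx, hxy⟩ := Set.mem_iUnion₂.1 this
      exact ⟨⟨x, hx⟩, hxy⟩) t ht (fun k b hb => ⟨P ⟨k, b, hb⟩, hPm _, hP0 ⟨k, b, hb⟩, by
      show ((P ⟨k, b, hb⟩).map ((ι ≫ pullback.snd i g ≫ g).app (U k).1).hom).Splits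
      rw [← Category.assoc]
      exact splits_comp _ _ _ (hg ⟨k, b, hb⟩ (Finset.mem_univ _))⟩)
  refine ⟨φ, ?_⟩
  rw [← cancel_mono i, Category.assoc, hφ, hτ]

end Groth.Agent.S18360
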