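import Groth.Statements.S18362
import Groth.Agent.Sga84.RootDescent
import Groth.Agent.Sga84.SplitEtale
import Groth.Agent.FinHopf34.Conn
import Groth.Agent.CAlg6.RegularNormal
import Mathlib.RingTheory.Etale.Pi
import Mathlib.FieldTheory.IsSepClosed


set_option autoImplicit false
universe u
open SGA1t

namespace Groth.Agent.S18362

open Polynomial TensorProduct IsLocalRing

theorem injective_of_loc {R S T : Type u} [CommRing R] [CommRing S] [Algebra R S] [CommRing T] (M : Submonoid R)
    [IsLocalization M S] (f : S →+* T) (h : Function.Injective (f.comp (algebraMap R S))) : Function.Injective f := by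
  refine (IsLocalization.injective_iff_map_algebraMap_eq M f).mpr fun a b => ⟨fun e => congrArg f e, fun e => ?_⟩
  rw [h e]

theorem isSepClosed_of_equiv {k k' : Type u} [Field k] [Field k'] [IsSepClosed k] (e : k ≃+* k') : IsSepClosed k' := by
  refine IsSepClosed.of_exists_root k' fun p hp hirr hsep => ?_
  have hd : (p.map e.symm.toRingHom).degree ≠ 0 := by
    rw [Polynomial.degree_map_eq_of_injective e.symm.injective]
    exact (Polynomial.degree_pos_of_irreducible hirr).ne'
  obtain ⟨y, hy⟩ := IsSepClosed.exists_root (p.map e.symm.toRingHom) hd (hsep.map)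
  refine ⟨e y, ?_⟩
  have h := congrArg e hy
  rw [map_zero, ← RingEquiv.coe_toRingHom, ← eval₂_hom, eval₂_map] at h
  simpa using h


/-- Let A be a regular local ring which is henselian with separably closed residue field of
characteristic p > 0, and let f be an element of A such that A/(f) is a regular local ring in which
p is nonzero. Write A₁ = A[t]/(t^p - f) and let B be a finite étale algebra over A[1/f]. If there is
a finite étale A₁-algebra C₁ with C₁[1/f] isomorphic to A₁ ⊗_A B as A₁-algebras, then there is a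
finite étale A-algebra C with C[1/f] isomorphic to B as A-algebras. The published statement also
assumes the cover connected and tamely ramified along f = 0; this row assumes neither, tameness
being automatic here because the generic point of the divisor f = 0 has residue characteristic zero. -/
theorem result {A : Type u} [CommRing A]
    [IsRegularLocalRing A] [HenselianLocalRing A] [IsSepClosed (IsLocalRing.ResidueField A)]
    (p : ℕ) [Fact p.Prime] [CharP (IsLocalRing.ResidueField A) p] (f : A)
    (hreg : IsRegularLocalRing (A ⧸ Ideal.span {f})) (hp : (p : A) ∉ Ideal.span {f})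
    (B : Type u) [CommRing B] [Algebra A B] [Algebra (Localization.Away f) B]
    [IsScalarTower A (Localization.Away f) B] [Module.Finite (Localization.Away f) B]
    [Algebra.Etale (Localization.Away f) B]
    (h : ∃ (C₁ : Type u) (_ : CommRing C₁) (_ : Algebra (AdjoinRoot (Polynomial.X ^ p - Polynomial.C f)) C₁),
      Module.Finite (AdjoinRoot (Polynomial.X ^ p - Polynomial.C f)) C₁ ∧
      Algebra.Etale (AdjoinRoot (Polynomial.X ^ p - Polynomial.C f)) C₁ ∧
      Nonempty (Localization.Away (algebraMap (AdjoinRoot (Polynomial.X ^ p - Polynomial.C f)) C₁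
          (AdjoinRoot.of (Polynomial.X ^ p - Polynomial.C f) f))
        ≃ₐ[AdjoinRoot (Polynomial.X ^ p - Polynomial.C f)]
          TensorProduct A (AdjoinRoot (Polynomial.X ^ p - Polynomial.C f)) B)) :
    ∃ (C : Type u) (_ : CommRing C) (_ : Algebra A C), Module.Finite A C ∧ Algebra.Etale A C ∧
      Nonempty (Localization.Away (algebraMap A C f) ≃ₐ[A] B) := by
  classical
  have := CAlg1.isDomain_regular A
  have hic := Groth.Agent.CAlg6.isIntegrallyClosed_of_regular A
  have hpp : p.Prime := Fact.out
  by_cases hf0 : f = 0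
  · subst hf0
    have : Subsingleton (Localization.Away (0 : A)) :=
      IsLocalization.subsingleton (M := Submonoid.powers (0 : A)) (Submonoid.mem_powers (0 : A))
    have hB : Subsingleton B := (algebraMap (Localization.Away (0 : A)) B).codomain_trivial
    have : Subsingleton (Localization.Away (algebraMap A (Localization.Away (0 : A)) 0)) :=
      (algebraMap (Localization.Away (0 : A)) _).codomain_trivial
    have : Module.Finite A (Localization.Away (0 : A)) := ⟨⟨∅, Subsingleton.elim _ _⟩⟩
    exact ⟨Localization.Away (0 : A), inferInstance, inferInstance, inferInstance,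
      Algebra.Etale.of_isLocalizationAway (0 : A), ⟨AlgEquiv.ofBijective
        { toFun := fun _ => 0
          map_one' := Subsingleton.elim _ _
          map_mul' := fun _ _ => Subsingleton.elim _ _
          map_zero' := rfl
          map_add' := fun _ _ => Subsingleton.elim _ _
          commutes' := fun _ => Subsingleton.elim _ _ }
        ⟨fun _ _ _ => Subsingleton.elim _ _, fun y => ⟨0, Subsingleton.elim _ _⟩⟩⟩⟩
  have hfm : f ∈ maximalIdeal A := by
    by_contra hfm
    have : Subsingleton (A ⧸ Ideal.span {f}) :=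
      Ideal.Quotient.subsingleton_iff.mpr (Ideal.span_singleton_eq_top.mpr (notMem_maximalIdeal.mp hfm))
    exact zero_ne_one (α := A ⧸ Ideal.span {f}) (Subsingleton.elim _ _)
  have hfprime : Prime f := by
    rw [← Ideal.span_singleton_prime hf0, ← Ideal.Quotient.isDomain_iff_prime]
    exact CAlg1.isDomain_regular _
  have hpm : (p : A) ∈ maximalIdeal A := by
    rw [← residue_eq_zero_iff, map_natCast]
    exact CharP.cast_eq_zero _ p
  let g : A[X] := X ^ p - C f
  have hg : g.Monic := monic_X_pow_sub_C f hpp.ne_zero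
  have hgd : g.natDegree = p := natDegree_X_pow_sub_C
  let A₁ := AdjoinRoot g
  let T : A₁ := AdjoinRoot.root g
  have hT : T ^ p = AdjoinRoot.of g f := by
    have := AdjoinRoot.eval₂_root g
    simp only [g, eval₂_sub, eval₂_X_pow, eval₂_C] at this
    exact sub_eq_zero.mp this
  have : Module.Free A A₁ := hg.free_adjoinRoot
  have : Module.Finite A A₁ := hg.finite_adjoinRoot
  -- `A₁` is strictly henselian
  let π : A₁ →+* ResidueField A := AdjoinRoot.lift (residue A) 0 (by
    simp [g, zero_pow hpp.ne_zero, (residue_eq_zero_iff f).mpr hfm])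
  have hπs : Function.Surjective π := fun y => by
    obtain ⟨c, rfl⟩ := residue_surjective y
    exact ⟨AdjoinRoot.of g c, AdjoinRoot.lift_of _⟩
  have hker : ∀ M : Ideal A₁, M.IsMaximal → RingHom.ker π ≤ M := by
    intro M hM z hz
    have hc : M.comap (algebraMap A A₁) = maximalIdeal A :=
      eq_maximalIdeal (Ideal.isMaximal_comap_of_isIntegral_of_isMaximal M)
    obtain ⟨h, rfl⟩ := AdjoinRoot.mk_surjective z
    have hTM : T ∈ M := hM.isPrime.mem_of_pow_mem p (hT ▸ hc.ge hfm)
    have h0 : h.coeff 0 ∈ maximalIdeal A := by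
      rw [← residue_eq_zero_iff]
      have : π (AdjoinRoot.mk g h) = 0 := hz
      rwa [show π (AdjoinRoot.mk g h) = h.eval₂ (residue A) 0 from AdjoinRoot.lift_mk _ _,
        eval₂_at_zero] at this
    rw [← X_mul_divX_add h, map_add, map_mul, AdjoinRoot.mk_X, AdjoinRoot.mk_C]
    exact add_mem (M.mul_mem_right _ hTM) (hc.ge h0)
  have hMmax : (RingHom.ker π).IsMaximal := RingHom.ker_isMaximal_of_surjective π hπs
  have : IsLocalRing A₁ := IsLocalRing.of_unique_max_ideal
    ⟨RingHom.ker π, hMmax, fun M hM => (hMmax.eq_of_le hM.ne_top (hker M hM)).symm⟩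
  have : HenselianLocalRing A₁ := Groth.Agent.FinHopf34.henselianLocalRing_of_finite (R := A)
  have : IsSepClosed (ResidueField A₁) := isSepClosed_of_equiv
    ((RingHom.quotientKerEquivOfSurjective hπs).symm.trans
      (Ideal.quotEquivOfEq (eq_maximalIdeal hMmax)))
  -- the splitting
  obtain ⟨C₁, _, _, hC₁f, hC₁e, ⟨eC⟩⟩ := h
  have := hC₁f
  have := hC₁e
  obtain ⟨ι, _, ⟨eι⟩⟩ := Groth.Agent.SplitEtale84.exists_algEquiv_pi A₁ C₁
  let L1 := Localization.Away (AdjoinRoot.of g f)
  obtain ⟨eL⟩ := Groth.Agent.SplitEtale84.exists_away_pi (AdjoinRoot.of g f) L1 eι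
  let Φ : A₁ ⊗[A] B ≃ₐ[A₁] (ι → L1) := eC.symm.trans eL
  let φ : ι → B →ₐ[A] L1 := fun i =>
    (((Pi.evalAlgHom A₁ (fun _ : ι => L1) i).comp Φ.toAlgHom).restrictScalars A).comp
      Algebra.TensorProduct.includeRight
  -- the field containing everything
  let K := FractionRing A
  have hnp : ∀ b : K, b ^ p ≠ algebraMap A K f := by
    intro b hb
    have hbi : IsIntegral A b := IsIntegral.of_pow hpp.pos (hb ▸ isIntegral_algebraMap)
    obtain ⟨c, rfl⟩ := IsIntegrallyClosed.isIntegral_iff.mp hbi
    rw [← map_pow] at hb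
    have hcp : c ^ p = f := IsFractionRing.injective A K hb
    have hirr := hfprime.irreducible
    rw [← hcp] at hirr
    exact not_irreducible_pow hpp.one_lt.ne' hirr
  let gK : K[X] := g.map (algebraMap A K)
  have hgK : gK = X ^ p - C (algebraMap A K f) := by simp [gK, g]
  have hirrK : Irreducible gK := hgK ▸ X_pow_sub_C_irreducible_of_prime hpp hnp
  have : Fact (Irreducible gK) := ⟨hirrK⟩
  let E := AdjoinRoot gK
  let ι₁ : A₁ →ₐ[A] E := AdjoinRoot.liftAlgHom g (Algebra.ofId A E) (AdjoinRoot.root gK) (by
    have := AdjoinRoot.eval₂_root gK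
    rwa [show gK = g.map (algebraMap A K) from rfl, eval₂_map] at this)
  have hι₁of : ∀ c, ι₁ (AdjoinRoot.of g c) = algebraMap A E c := ι₁.commutes
  have hι₁mk : ∀ h : A[X], ι₁ (AdjoinRoot.mk g h) = AdjoinRoot.mk gK (h.map (algebraMap A K)) := fun h => by
    induction h using Polynomial.induction_on' with
    | add p q hp hq => simp only [map_add, Polynomial.map_add, hp, hq]
    | monomial k c =>
      rw [← C_mul_X_pow_eq_monomial, Polynomial.map_mul, Polynomial.map_C, Polynomial.map_pow, Polynomial.map_X]
      simp only [map_mul, map_pow, AdjoinRoot.mk_X, AdjoinRoot.mk_C]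
      rw [hι₁of, show ι₁ (AdjoinRoot.root g) = AdjoinRoot.root gK from AdjoinRoot.liftAlgHom_root ..,
        IsScalarTower.algebraMap_apply A K E]
      rfl
  have hι₁inj : Function.Injective ι₁ := by
    refine (injective_iff_map_eq_zero ι₁).mpr fun z hz => ?_
    obtain ⟨h, rfl⟩ := AdjoinRoot.mk_surjective z
    rw [hι₁mk, AdjoinRoot.mk_eq_zero] at hz
    rw [AdjoinRoot.mk_eq_zero]
    exact (Polynomial.map_dvd_map (algebraMap A K) (IsFractionRing.injective A K) hg).mp hz
  have hfE : algebraMap A E f ≠ 0 := by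
    rw [IsScalarTower.algebraMap_apply A K E]
    exact (map_ne_zero_iff _ (algebraMap K E).injective).mpr
      ((map_ne_zero_iff _ (IsFractionRing.injective A K)).mpr hf0)
  let Af := Localization.Away f
  have hAK : IsUnit (algebraMap A K f) :=
    ((map_ne_zero_iff _ (IsFractionRing.injective A K)).mpr hf0).isUnit
  let jK : Af →+* K := IsLocalization.Away.lift f hAK
  have hjK : ∀ a, jK (algebraMap A Af a) = algebraMap A K a := IsLocalization.Away.lift_eq f hAK
  let : Algebra Af E := ((algebraMap K E).comp jK).toAlgebra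
  have : IsScalarTower A Af E := .of_algebraMap_eq fun a => by
    show _ = algebraMap K E (jK (algebraMap A Af a))
    rw [hjK, ← IsScalarTower.algebraMap_apply]
  have hle : Submonoid.powers f ≤ nonZeroDivisors A := powers_le_nonZeroDivisors_of_noZeroDivisors hf0
  have : IsDomain Af := IsLocalization.isDomain_of_le_nonZeroDivisors (S := Af) (M := Submonoid.powers f) hle
  have : IsIntegrallyClosed Af := isIntegrallyClosed_of_isLocalization Af _ hle
  have hEinj : Function.Injective (algebraMap Af E) := by
    refine ((algebraMap K E).injective).comp ?_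
    refine injective_of_loc (Submonoid.powers f) jK ?_
    rw [RingHom.ext hjK (f := jK.comp (algebraMap A Af))]
    exact IsFractionRing.injective A K
  let ι₂ : L1 →ₐ[A] E := IsLocalization.liftAlgHom (M := Submonoid.powers (AdjoinRoot.of g f)) (f := ι₁) (by
    rintro ⟨_, k, rfl⟩
    show IsUnit (ι₁ (AdjoinRoot.of g f ^ k))
    rw [map_pow]
    refine (IsUnit.mk0 _ ?_).pow k
    rw [show AdjoinRoot.of g f = algebraMap A A₁ f from rfl, AlgHom.commutes]
    exact hfE)
  have hι₂ : ∀ z, ι₂ (algebraMap A₁ L1 z) = ι₁ z := IsLocalization.lift_eq _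
  have hι₂inj : Function.Injective ι₂ :=
    injective_of_loc (Submonoid.powers (AdjoinRoot.of g f)) ι₂.toRingHom
      (fun a b hab => hι₁inj ((hι₂ a).symm.trans (hab.trans (hι₂ b))))
  let φE : ι → B →ₐ[Af] E := fun i =>
    { (ι₂.comp (φ i)).toRingHom with
      commutes' := fun c => by
        refine RingHom.congr_fun (IsLocalization.ringHom_ext (Submonoid.powers f)
          (j := (ι₂.comp (φ i)).toRingHom.comp (algebraMap Af B)) (k := algebraMap Af E) (RingHom.ext fun a => ?_)) c
        show ι₂ (φ i (algebraMap Af B (algebraMap A Af a))) = algebraMap Af E (algebraMap A Af a)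
        rw [← IsScalarTower.algebraMap_apply, ← IsScalarTower.algebraMap_apply, AlgHom.commutes, AlgHom.commutes] }
  have : Algebra.Etale A Af := Algebra.Etale.of_isLocalizationAway f
  have : Algebra.Etale A B := Algebra.Etale.comp A Af B
  -- each component takes values in `A[1/f]`
  have hval : ∀ i b, φE i b ∈ Set.range (algebraMap K E) := by
    intro i b₁
    by_contra hb₁
    let F := IntermediateField.adjoin K ({φE i b₁} : Set E)
    have hF : F = ⊤ := by
      have hfr : Module.finrank K E = p := by
        rw [(AdjoinRoot.powerBasis hirrK.ne_zero).finrank, AdjoinRoot.powerBasis_dim, hgK, natDegree_X_pow_sub_C]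
      have : FiniteDimensional K E := Module.Finite.of_basis (AdjoinRoot.powerBasis hirrK.ne_zero).basis
      have := IntermediateField.isSimpleOrder_of_finrank_prime K E (hfr.symm ▸ hpp)
      refine (eq_bot_or_eq_top F).resolve_left fun hbot => hb₁ ?_
      have hm := IntermediateField.mem_adjoin_simple_self K (φE i b₁)
      rw [show IntermediateField.adjoin K ({φE i b₁} : Set E) = ⊥ from hbot] at hm
      exact IntermediateField.mem_bot.mp hm
    have hcl : AdjoinRoot.root gK ∈ Subfield.closure ((φE i).range : Set E) := by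
      have h1 : AdjoinRoot.root gK ∈ F.toSubfield := by rw [hF]; trivial
      rw [IntermediateField.adjoin_toSubfield] at h1
      refine (Subfield.closure_le.mpr ?_) h1
      rintro _ (⟨c, rfl⟩ | rfl)
      · obtain ⟨u, v, -, rfl⟩ := IsFractionRing.div_surjective (A := A) c
        rw [map_div₀, ← IsScalarTower.algebraMap_apply, ← IsScalarTower.algebraMap_apply,
          IsScalarTower.algebraMap_apply A Af E u, IsScalarTower.algebraMap_apply A Af E v]
        exact div_mem (Subfield.subset_closure (Subalgebra.algebraMap_mem _ _))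
          (Subfield.subset_closure (Subalgebra.algebraMap_mem _ _))
      · exact Subfield.subset_closure ⟨b₁, rfl⟩
    obtain ⟨u, hu, v, hv, huv⟩ := Subfield.mem_closure_iff.mp hcl
    have hsub : Subring.closure ((φE i).range : Set E) ≤ (φE i).range.toSubring :=
      Subring.closure_le.mpr le_rfl
    have hroot : AdjoinRoot.root gK ≠ 0 := by
      intro h0
      have hpow := AdjoinRoot.eval₂_root gK
      rw [show gK = g.map (algebraMap A K) from rfl, eval₂_map, h0] at hpow
      simp [g, zero_pow hpp.ne_zero] at hpow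
      exact hf0 hpow
    have hv0 : v ≠ 0 := fun h0 => hroot (by rw [← huv, h0, div_zero])
    have hint : IsIntegral Af (AdjoinRoot.root gK) := by
      refine IsIntegral.of_pow hpp.pos ?_
      have : (AdjoinRoot.root gK : E) ^ p = algebraMap A E f := by
        have := congrArg ι₁ hT
        rw [map_pow] at this
        exact (congrArg (· ^ p) (AdjoinRoot.liftAlgHom_root ..).symm).trans (this.trans (ι₁.commutes f))
      rw [this, IsScalarTower.algebraMap_apply A Af E]
      exact isIntegral_algebraMap
    obtain ⟨b₀, hb₀⟩ := Groth.Agent.RootDescent84.mem_range_of_isIntegral hEinj (φE i) hint (hsub hu) (hsub hv) hv0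
      ((div_eq_iff hv0).mp huv).symm
    have hb₀' : φ i b₀ = algebraMap A₁ L1 T := hι₂inj (by
      rw [hι₂]
      exact hb₀.trans (AdjoinRoot.liftAlgHom_root ..).symm)
    -- unramifiedness contradiction
    let M := L1 ⧸ Ideal.span {(p : L1)}
    have hM : Nontrivial M := by
      refine Ideal.Quotient.nontrivial_iff.mpr fun htop => ?_
      obtain ⟨w, hw⟩ := isUnit_iff_exists_inv.mp (Ideal.span_singleton_eq_top.mp htop)
      obtain ⟨k, y, hy⟩ := IsLocalization.Away.surj (AdjoinRoot.of g f) w
      have h1 : algebraMap A₁ L1 ((p : A₁) * y) = algebraMap A₁ L1 (AdjoinRoot.of g f ^ k) := by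
        rw [map_mul, map_natCast, map_pow, ← hy, ← mul_assoc, hw, one_mul]
      have h2 := hι₁inj (by rw [← hι₂, h1, hι₂] : ι₁ ((p : A₁) * y) = ι₁ (AdjoinRoot.of g f ^ k))
      let r : A₁ →ₗ[A] A := (lcoeff A 0).comp (AdjoinRoot.modByMonicHom hg)
      have hof : ∀ c, r (AdjoinRoot.of g c) = c := fun c => by
        show (AdjoinRoot.modByMonicHom hg (AdjoinRoot.mk g (C c))).coeff 0 = c
        rw [AdjoinRoot.modByMonicHom_mk, (modByMonic_eq_self_iff hg).mpr (by
          rw [degree_eq_natDegree hg.ne_zero, hgd]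
          exact (degree_C_le).trans_lt (by exact_mod_cast hpp.pos)), coeff_C_zero]
      have h3 := congrArg r h2
      rw [← map_pow, hof, show (p : A₁) * y = (p : A) • y by rw [Nat.cast_smul_eq_nsmul, nsmul_eq_mul],
        map_smul, smul_eq_mul] at h3
      rcases k with _ | k
      · exact (IsLocalRing.mem_maximalIdeal _).mp hpm (isUnit_iff_exists_inv.mpr ⟨r y, by rwa [pow_zero] at h3⟩)
      · have hdvd : f ^ (k + 1) ∣ (p : A) * r y := ⟨1, by rw [mul_one]; exact h3⟩
        obtain ⟨c, hc⟩ := hfprime.pow_dvd_of_dvd_mul_left (k + 1) (fun hd => hp (Ideal.mem_span_singleton.mpr hd)) hdvd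
        refine (IsLocalRing.mem_maximalIdeal _).mp hpm (isUnit_iff_exists_inv.mpr ⟨c, ?_⟩)
        rw [hc, mul_left_comm] at h3
        exact mul_left_cancel₀ (pow_ne_zero _ hf0) (h3.trans (mul_one _).symm)
    let D := DualNumber M
    let m : L1 →ₐ[A] M := Ideal.Quotient.mkₐ A _
    let incl : M →ₐ[A] D := (TrivSqZeroExt.inlAlgHom M M M).restrictScalars A
    let t : M := m (algebraMap A₁ L1 T)
    let s : D := incl t + TrivSqZeroExt.inr t
    have hε : (TrivSqZeroExt.inr t : D) ^ 2 = 0 := by rw [pow_two, TrivSqZeroExt.inr_mul_inr]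
    have hpD : (p : D) = 0 := by
      rw [← map_natCast incl, show (p : M) = 0 from by
        rw [← map_natCast (Ideal.Quotient.mk (Ideal.span {(p : L1)}))]
        exact Ideal.Quotient.eq_zero_iff_mem.mpr (Ideal.mem_span_singleton_self _), map_zero]
    have hs : s ^ p = algebraMap A D f := by
      obtain ⟨q, hq⟩ := (Commute.all (incl t) (TrivSqZeroExt.inr t : D)).exists_add_pow_prime_eq hpp
      rw [hq, hpD, zero_mul, zero_mul, zero_mul, add_zero,
        show (TrivSqZeroExt.inr t : D) ^ p = 0 from pow_eq_zero_of_le hpp.two_le hε, add_zero]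
      simp only [t, ← map_pow]
      exact (congrArg (fun z => incl (m (algebraMap A₁ L1 z))) hT).trans
        (((incl.comp m).comp (IsScalarTower.toAlgHom A A₁ L1)).commutes f)
    let τ₁ : A₁ →ₐ[A] D := AdjoinRoot.liftAlgHom g (Algebra.ofId A D) s (by simp [g, hs])
    have hu : ∀ y : Submonoid.powers (AdjoinRoot.of g f), IsUnit (τ₁ y) := by
      rintro ⟨_, k, rfl⟩
      show IsUnit (τ₁ (AdjoinRoot.of g f ^ k))
      rw [map_pow τ₁]
      refine IsUnit.pow k ?_
      have := (IsLocalization.Away.algebraMap_isUnit (S := L1) (AdjoinRoot.of g f)).map (incl.comp m)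
      exact ((τ₁.commutes f).trans (((incl.comp m).comp (IsScalarTower.toAlgHom A A₁ L1)).commutes f).symm) ▸ this
    let τ : L1 →ₐ[A] D := @IsLocalization.liftAlgHom A _ A₁ _ _ (Submonoid.powers (AdjoinRoot.of g f)) L1 _ _ _ _ D _ _ _ τ₁ hu
    have hτ : ∀ z, τ (algebraMap A₁ L1 z) = τ₁ z := IsLocalization.lift_eq _
    let σ : L1 →ₐ[A] D := incl.comp m
    have hfst : (TrivSqZeroExt.fstHom M M M).toRingHom.comp τ.toRingHom =
        (TrivSqZeroExt.fstHom M M M).toRingHom.comp σ.toRingHom := by
      refine IsLocalization.ringHom_ext (Submonoid.powers (AdjoinRoot.of g f)) ?_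
      refine Ideal.Quotient.ringHom_ext (Polynomial.ringHom_ext (fun c => ?_) ?_)
      · show TrivSqZeroExt.fst (τ (algebraMap A₁ L1 (algebraMap A A₁ c))) =
          TrivSqZeroExt.fst (σ (algebraMap A₁ L1 (algebraMap A A₁ c)))
        rw [← IsScalarTower.algebraMap_apply, AlgHom.commutes, AlgHom.commutes]
      · show TrivSqZeroExt.fst (τ (algebraMap A₁ L1 T)) = TrivSqZeroExt.fst (σ (algebraMap A₁ L1 T))
        rw [hτ, show τ₁ T = s from AdjoinRoot.liftAlgHom_root ..]
        show TrivSqZeroExt.fst (incl t + TrivSqZeroExt.inr t) = TrivSqZeroExt.fst (incl t)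
        exact (TrivSqZeroExt.fst_add _ _).trans (by rw [TrivSqZeroExt.fst_inr, add_zero])
    have hker : IsNilpotent (RingHom.ker (TrivSqZeroExt.fstHom M M M).toRingHom) := by
      refine ⟨2, ?_⟩
      rw [Submodule.pow_succ, Submodule.pow_one, Ideal.zero_eq_bot, eq_bot_iff, Ideal.mul_le]
      intro a ha b hb
      refine Ideal.mem_bot.mpr (TrivSqZeroExt.ext ?_ ?_)
      · rw [TrivSqZeroExt.fst_mul, show TrivSqZeroExt.fst a = 0 from ha, zero_mul]; rfl
      · rw [TrivSqZeroExt.snd_mul, show TrivSqZeroExt.fst a = 0 from ha, show TrivSqZeroExt.fst b = 0 from hb]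
        simp
    have heq : τ.comp (φ i) = σ.comp (φ i) := Algebra.FormallyUnramified.ext' (R := A) (A := B) (B := D)
      (TrivSqZeroExt.fstHom M M M).toRingHom hker _ _ fun b => RingHom.congr_fun hfst (φ i b)
    have h4 := congrArg TrivSqZeroExt.snd (AlgHom.congr_fun heq b₀)
    simp only [AlgHom.comp_apply, hb₀', hτ] at h4
    rw [show τ₁ T = s from AdjoinRoot.liftAlgHom_root ..] at h4
    have ht : t = 0 := by
      have : TrivSqZeroExt.snd (incl t + TrivSqZeroExt.inr t) = TrivSqZeroExt.snd (incl t) := h4
      rw [show TrivSqZeroExt.snd (incl t + TrivSqZeroExt.inr t) =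
        TrivSqZeroExt.snd (incl t) + TrivSqZeroExt.snd (TrivSqZeroExt.inr t : D) from rfl] at this
      exact (add_eq_left (a := TrivSqZeroExt.snd (incl t))).mp this
    have htu : IsUnit t := (((isUnit_pow_iff hpp.ne_zero).mp (
      ((congrArg (algebraMap A₁ L1) hT).symm.trans (map_pow (algebraMap A₁ L1) T p)) ▸
      (IsLocalization.Away.algebraMap_isUnit (S := L1) (AdjoinRoot.of g f)) : IsUnit (algebraMap A₁ L1 T ^ p)))).map m
    rw [ht] at htu
    exact not_isUnit_zero htu
  let jL : Af →ₐ[A] L1 := IsLocalization.liftAlgHom (M := Submonoid.powers f) (f := Algebra.ofId A L1) (by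
    rintro ⟨_, k, rfl⟩
    show IsUnit (algebraMap A L1 (f ^ k))
    rw [map_pow, IsScalarTower.algebraMap_apply A A₁ L1]
    exact (IsLocalization.Away.algebraMap_isUnit (AdjoinRoot.of g f)).pow k)
  have hjL : ∀ c, ι₂ (jL c) = algebraMap Af E c := fun c => RingHom.congr_fun
    (IsLocalization.ringHom_ext (Submonoid.powers f) (j := (ι₂.comp jL).toRingHom) (k := algebraMap Af E)
      (RingHom.ext fun a => by
        show ι₂ (jL (algebraMap A Af a)) = _
        rw [AlgHom.commutes, AlgHom.commutes]
        exact IsScalarTower.algebraMap_apply A Af E a)) c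
  have hjLinj : Function.Injective jL := fun a b hab => hEinj (by rw [← hjL, ← hjL, hab])
  -- coefficient functional
  let c0 : E →ₗ[K] K := (lcoeff K 0).comp (AdjoinRoot.modByMonicHom (hg.map (algebraMap A K)))
  let r : A₁ →ₗ[A] A := (lcoeff A 0).comp (AdjoinRoot.modByMonicHom hg)
  have hc0 : ∀ z, c0 (ι₁ z) = algebraMap A K (r z) := fun z => by
    obtain ⟨h, rfl⟩ := AdjoinRoot.mk_surjective z
    show (AdjoinRoot.modByMonicHom (hg.map (algebraMap A K)) (ι₁ (AdjoinRoot.mk g h))).coeff 0 = _
    rw [hι₁mk, AdjoinRoot.modByMonicHom_mk, ← Polynomial.map_modByMonic _ hg, coeff_map]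
    show _ = algebraMap A K ((AdjoinRoot.modByMonicHom hg (AdjoinRoot.mk g h)).coeff 0)
    rw [AdjoinRoot.modByMonicHom_mk]
  have hr1 : r 1 = 1 := by
    show (AdjoinRoot.modByMonicHom hg (1 : A₁)).coeff 0 = 1
    rw [← map_one (AdjoinRoot.mk g), AdjoinRoot.modByMonicHom_mk, (modByMonic_eq_self_iff hg).mpr (by
      rw [degree_one, degree_eq_natDegree hg.ne_zero, hgd]
      exact_mod_cast hpp.pos), coeff_one_zero]
  have hone : c0 1 = 1 := by rw [← map_one ι₁, hc0, hr1, map_one]
  have hc0K : ∀ x, c0 (algebraMap K E x) = x := fun x => by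
    rw [Algebra.algebraMap_eq_smul_one, map_smul, hone, smul_eq_mul, mul_one]
  have hmem : ∀ i b, ∃ c : Af, φ i b = jL c := by
    intro i b
    obtain ⟨κ, hκ⟩ := hval i b
    obtain ⟨k, y, hy⟩ := IsLocalization.Away.surj (AdjoinRoot.of g f) (φ i b)
    have h1 : ι₁ y = algebraMap K E (κ * algebraMap A K (f ^ k)) := by
      rw [← hι₂, ← hy, map_mul, map_pow ι₂, hι₂, map_mul (algebraMap K E), hκ, ← IsScalarTower.algebraMap_apply,
        map_pow (algebraMap A E), hι₁of]
      rfl
    have h2 : κ * algebraMap A K (f ^ k) = algebraMap A K (r y) := by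
      rw [← hc0, h1, hc0K]
    refine ⟨IsLocalization.mk' Af (r y) (⟨f ^ k, pow_mem (Submonoid.mem_powers f) k⟩ : Submonoid.powers f), hι₂inj ?_⟩
    rw [hjL]
    show φE i b = algebraMap K E (jK _)
    rw [← hκ]
    refine congrArg _ (mul_right_cancel₀ (b := algebraMap A K (f ^ k))
      ((map_ne_zero_iff _ (IsFractionRing.injective A K)).mpr (pow_ne_zero _ hf0)) ?_)
    rw [h2]
    conv_rhs => rw [← hjK (f ^ k), ← map_mul]
    exact (hjK (r y)).symm.trans (congrArg jK (IsLocalization.mk'_spec Af (r y)
      (⟨f ^ k, pow_mem (Submonoid.mem_powers f) k⟩ : Submonoid.powers f)).symm)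
  choose χf hχf using hmem
  let χ : B →ₐ[A] (ι → Af) :=
    { toFun := fun b i => χf i b
      map_one' := funext fun i => hjLinj (by rw [← hχf, map_one, Pi.one_apply, map_one])
      map_mul' := fun a b => funext fun i => hjLinj (by rw [← hχf, map_mul, Pi.mul_apply, map_mul, hχf, hχf])
      map_zero' := funext fun i => hjLinj (by rw [← hχf, map_zero, Pi.zero_apply, map_zero])
      map_add' := fun a b => funext fun i => hjLinj (by rw [← hχf, map_add, Pi.add_apply, map_add, hχf, hχf])
      commutes' := fun a => funext fun i => hjLinj (by rw [← hχf, AlgHom.commutes, Pi.algebraMap_apply, AlgHom.commutes]) }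
  have hΦ : ∀ (z : A₁ ⊗[A] B) i, algebraMap A K 1 = 1 → c0 (ι₂ (Φ z i)) =
      jK (χ (TensorProduct.lid A B (r.rTensor B z)) i) := by
    intro z i _
    induction z using TensorProduct.induction_on with
    | zero => simp
    | add x y hx hy =>
      simp only [map_add, Pi.add_apply, hx, hy]
    | tmul a b =>
      have h1 : Φ (a ⊗ₜ b) i = algebraMap A₁ L1 a * φ i b := by
        have hab : a ⊗ₜ[A] b = algebraMap A₁ (A₁ ⊗[A] B) a * (1 ⊗ₜ b) := by
          rw [Algebra.TensorProduct.algebraMap_apply, Algebra.algebraMap_self_apply,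
            Algebra.TensorProduct.tmul_mul_tmul, mul_one, one_mul]
        rw [hab, map_mul, AlgEquiv.commutes, Pi.mul_apply, Pi.algebraMap_apply]
        rfl
      rw [h1, map_mul, hι₂, hχf, hjL]
      show c0 (ι₁ a * algebraMap K E (jK (χf i b))) = _
      rw [mul_comm, ← Algebra.smul_def, map_smul, hc0, smul_eq_mul, LinearMap.rTensor_tmul, TensorProduct.lid_tmul,
        map_smul, Pi.smul_apply, Algebra.smul_def, map_mul, hjK, mul_comm]
      rfl
  have hjKinj : Function.Injective jK :=
    injective_of_loc (Submonoid.powers f) jK fun a b hab =>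
      IsFractionRing.injective A K ((hjK a).symm.trans (hab.trans (hjK b)))
  have hχinj : Function.Injective χ := by
    intro a b hab
    have : (Φ (1 ⊗ₜ a) : ι → L1) = Φ (1 ⊗ₜ b) := funext fun i => by
      show φ i a = φ i b
      rw [hχf, hχf]
      exact congrArg jL (congrFun hab i)
    have h' := congrArg (fun z => TensorProduct.lid A B (r.rTensor B z)) (Φ.injective this)
    simpa [hr1] using h'
  have hχsurj : Function.Surjective χ := by
    intro y
    refine ⟨TensorProduct.lid A B (r.rTensor B (Φ.symm fun i => jL (y i))), funext fun i => hjKinj ?_⟩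
    rw [← hΦ _ i (map_one _), AlgEquiv.apply_symm_apply, hjL]
    exact hc0K (jK (y i))
  obtain ⟨eA⟩ := Groth.Agent.SplitEtale84.exists_away_pi f Af (AlgEquiv.refl : (ι → A) ≃ₐ[A] (ι → A))
  exact ⟨ι → A, inferInstance, inferInstance, inferInstance, inferInstance,
    ⟨eA.trans (AlgEquiv.ofBijective χ ⟨hχinj, hχsurj⟩).symm⟩⟩

end Groth.Agent.S18362
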