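import Groth.Statements.S18363
import Mathlib

set_option autoImplicit false
universe u
open CategoryTheory
open CAlg

namespace Groth.Agent.S18363


open IsLocalRing CategoryTheory

/-- In a reduced Noetherian local ring of dimension one, an ideal meeting the punctured spectrum
trivially contains a nonzerodivisor. -/
theorem exists_nzd {B : Type u} [CommRing B] [IsNoetherianRing B] [IsLocalRing B] [IsReduced B]
    (hdim : ringKrullDim B = 1) (I : Ideal B) (n : ℕ) (hI : maximalIdeal B ^ n ≤ I) :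
    ∃ x ∈ I, x ∈ nonZeroDivisors B := by
  classical
  have hfin := minimalPrimes.finite_of_isNoetherianRing B
  have hne : ∀ q ∈ minimalPrimes B, ¬ I ≤ q := by
    intro q hq hle
    haveI := hq.1.1
    have h1 : maximalIdeal B = q := ((maximalIdeal.isMaximal B).eq_of_le hq.1.1.ne_top
      (fun z hz => hq.1.1.mem_of_pow_mem n (hle (hI (Ideal.pow_mem_pow hz n)))))
    have h2 : (maximalIdeal B).height = 0 := Ideal.height_eq_zero_iff.mpr (h1 ▸ hq)
    have h3 := IsLocalRing.maximalIdeal_height_eq_ringKrullDim (R := B)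
    rw [hdim, h2] at h3
    exact absurd h3 (by decide)
  have : ¬ (I : Set B) ⊆ ⋃ q ∈ (hfin.toFinset : Set (Ideal B)), (q : Set B) := fun hsub => by
    obtain ⟨q, hq, hle⟩ := (Ideal.subset_union_prime ⊥ ⊥ fun q hq _ _ => (hfin.mem_toFinset.mp hq).1.1).mp hsub
    exact hne q (hfin.mem_toFinset.mp hq) hle
  obtain ⟨x, hxI, hx⟩ := Set.not_subset.mp this
  refine ⟨x, hxI, mem_nonZeroDivisors_iff_right.mpr fun y hy => ?_⟩
  have h0 : y ∈ sInf (⊥ : Ideal B).minimalPrimes := by
    refine Submodule.mem_sInf.mpr fun q hq => ?_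
    refine ((hq.1.1.mem_or_mem (hy.symm ▸ zero_mem q)).resolve_right fun hxq => hx ?_)
    exact Set.mem_biUnion (hfin.mem_toFinset.mpr hq) hxq
  rw [Ideal.sInf_minimalPrimes] at h0
  simpa using (nilradical_eq_zero B).le h0


/-- Let R be a Noetherian local ring with maximal ideal m, and P, Q ideals of R such that P + Q contains
a power of m while R/P and R/Q are both reduced of Krull dimension one. Let I and J be nonzero
finitely generated R-modules with P·I = 0 and Q·J = 0, such that every element of R whose class in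
R/P is a non-zero-divisor acts injectively on I, and every element whose class in R/Q is a
non-zero-divisor acts injectively on J. Then the group Ext¹_R(I, J) is nonzero. (This is the stalk
statement behind the existence of a non-split extension of a torsion-free rank-one sheaf on a
subcurve Y by one on a subcurve Z of a reduced projective curve, at a point where Y and Z meet
without sharing a component; in that situation the modules moreover have rank one at the generic
points of their supports and P ∩ Q = 0, two assumptions the argument does not use.) -/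
theorem result
    (R : Type u) [CommRing R] [IsNoetherianRing R] [IsLocalRing R]
    (P Q : Ideal R) (hPQ : ∃ n : ℕ, IsLocalRing.maximalIdeal R ^ n ≤ P ⊔ Q)
    [IsReduced (R ⧸ P)] [IsReduced (R ⧸ Q)]
    (hPdim : ringKrullDim (R ⧸ P) = 1) (hQdim : ringKrullDim (R ⧸ Q) = 1)
    (I J : Type u) [AddCommGroup I] [Module R I] [Module.Finite R I] [Nontrivial I]
    [AddCommGroup J] [Module R J] [Module.Finite R J] [Nontrivial J]
    (hPI : ∀ p ∈ P, ∀ x : I, p • x = 0) (hQJ : ∀ q ∈ Q, ∀ y : J, q • y = 0)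
    (hItf : ∀ r : R, Ideal.Quotient.mk P r ∈ nonZeroDivisors (R ⧸ P) → ∀ x : I, r • x = 0 → x = 0)
    (hJtf : ∀ r : R, Ideal.Quotient.mk Q r ∈ nonZeroDivisors (R ⧸ Q) → ∀ y : J, r • y = 0 → y = 0) :
    Nontrivial (Abelian.Ext (ModuleCat.of R I) (ModuleCat.of R J) 1) := by
  classical
  obtain ⟨n, hn⟩ := hPQ
  haveI : Nontrivial (R ⧸ Q) := by
    by_contra h
    haveI := not_nontrivial_iff_subsingleton.mp h
    rw [ringKrullDim_eq_bot_of_subsingleton] at hQdim
    exact absurd hQdim (by decide)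
  haveI := IsLocalRing.of_surjective' (Ideal.Quotient.mk Q) Ideal.Quotient.mk_surjective
  haveI : IsLocalHom (Ideal.Quotient.mk Q) := IsLocalHom.of_surjective _ Ideal.Quotient.mk_surjective
  have hQm : Q ≤ maximalIdeal R := le_maximalIdeal (Ideal.Quotient.nontrivial_iff.mp inferInstance)
  have hmap : (maximalIdeal R).map (Ideal.Quotient.mk Q) = maximalIdeal (R ⧸ Q) := by
    refine le_antisymm (Ideal.map_le_iff_le_comap.mpr fun b hb => map_nonunit _ b hb) fun x hx => ?_
    obtain ⟨b, rfl⟩ := Ideal.Quotient.mk_surjective x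
    exact Ideal.mem_map_of_mem _ ((mem_maximalIdeal _).mpr fun hu => (mem_maximalIdeal _).mp hx (hu.map _))
  obtain ⟨x, hxI, hxnzd⟩ := exists_nzd hQdim (P.map (Ideal.Quotient.mk Q)) n (by
    rw [← hmap, ← Ideal.map_pow]
    refine (Ideal.map_mono hn).trans (le_of_eq ?_)
    rw [Ideal.map_sup, Ideal.map_quotient_self, sup_bot_eq])
  obtain ⟨p, hpP, rfl⟩ := (Ideal.mem_map_iff_of_surjective _ Ideal.Quotient.mk_surjective).mp hxI
  have hinj := hJtf p hxnzd
  have hPm : P ≤ maximalIdeal R := le_maximalIdeal (by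
    rintro rfl
    haveI : Subsingleton (R ⧸ (⊤ : Ideal R)) := Ideal.Quotient.subsingleton_iff.mpr rfl
    rw [ringKrullDim_eq_bot_of_subsingleton] at hPdim
    exact absurd hPdim (by decide))
  let N : Submodule R J := LinearMap.range (p • LinearMap.id : J →ₗ[R] J)
  have hNmem : ∀ y, p • y ∈ N := fun y => ⟨y, rfl⟩
  have hNtop : N ≠ ⊤ := by
    intro htop
    have : (⊤ : Submodule R J) ≤ maximalIdeal R • ⊤ := by
      intro y _
      obtain ⟨z, hz⟩ := htop.ge (Submodule.mem_top (x := y))
      rw [← hz]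
      exact Submodule.smul_mem_smul (hPm hpP) Submodule.mem_top
    exact top_ne_bot (Submodule.eq_bot_of_le_smul_of_le_jacobson_bot (maximalIdeal R) ⊤
      Module.Finite.fg_top this (maximalIdeal_le_jacobson ⊥))
  haveI : Nontrivial (J ⧸ N) := Submodule.Quotient.nontrivial_iff.mpr hNtop
  -- the maximal ideal is associated to `J / pJ`
  obtain ⟨𝔮, h𝔮⟩ := associatedPrimes.nonempty R (J ⧸ N)
  obtain ⟨h𝔮p, y, hy⟩ := isAssociatedPrime_iff.mp (AssociatedPrimes.mem_iff.mp h𝔮)
  have hmem : ∀ r, r ∈ 𝔮 ↔ r • y = 0 := fun r => by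
    rw [hy, Submodule.mem_colon_singleton, Submodule.mem_bot]
  have hQ𝔮 : Q ≤ 𝔮 := fun q hq => (hmem q).mpr (by
    obtain ⟨j, rfl⟩ := Submodule.Quotient.mk_surjective N y
    rw [← Submodule.Quotient.mk_smul, hQJ q hq j, Submodule.Quotient.mk_zero])
  have hp𝔮 : p ∈ 𝔮 := (hmem p).mpr (by
    obtain ⟨j, rfl⟩ := Submodule.Quotient.mk_surjective N y
    rw [← Submodule.Quotient.mk_smul, Submodule.Quotient.mk_eq_zero]
    exact hNmem j)
  have h𝔮m : 𝔮 = maximalIdeal R := by
    by_contra hne
    haveI : (𝔮.map (Ideal.Quotient.mk Q)).IsPrime :=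
      Ideal.map_isPrime_of_surjective Ideal.Quotient.mk_surjective (by rwa [Ideal.mk_ker])
    have hlt : 𝔮.map (Ideal.Quotient.mk Q) < maximalIdeal (R ⧸ Q) := by
      refine lt_of_le_of_ne (le_maximalIdeal (Ideal.IsPrime.ne_top inferInstance)) fun he => hne ?_
      have := congrArg (Ideal.comap (Ideal.Quotient.mk Q)) (he.trans hmap.symm)
      rwa [Ideal.comap_map_of_surjective' _ Ideal.Quotient.mk_surjective, Ideal.mk_ker, sup_eq_left.mpr hQ𝔮,
        Ideal.comap_map_of_surjective' _ Ideal.Quotient.mk_surjective, Ideal.mk_ker, sup_eq_left.mpr hQm] at this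
    have h1 := Ideal.height_strict_mono_of_isPrime hlt
    have h3 := IsLocalRing.maximalIdeal_height_eq_ringKrullDim (R := R ⧸ Q)
    rw [hQdim] at h3
    have h4 : (maximalIdeal (R ⧸ Q)).height = 1 := by exact_mod_cast h3
    rw [h4, ENat.lt_one_iff_eq_zero, Ideal.height_eq_zero_iff] at h1
    exact notMem_nonZeroDivisors_of_mem_mem_minimalPrimes (Ideal.mem_map_of_mem _ hp𝔮) h1 hxnzd
  have hy0 : y ≠ 0 := fun h0 => h𝔮p.ne_top (Ideal.eq_top_iff_one _ |>.mpr ((hmem 1).mpr (by rw [h0, smul_zero])))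
  -- a nonzero map `I → J / pJ`
  haveI : Nontrivial (I ⧸ (maximalIdeal R • ⊤ : Submodule R I)) := Submodule.Quotient.nontrivial_iff.mpr fun h =>
    top_ne_bot (Submodule.eq_bot_of_le_smul_of_le_jacobson_bot (maximalIdeal R) ⊤
      Module.Finite.fg_top h.ge (maximalIdeal_le_jacobson ⊥))
  let W := I ⧸ (maximalIdeal R • ⊤ : Submodule R I)
  letI := Ideal.Quotient.field (maximalIdeal R)
  obtain ⟨w, hw⟩ := exists_ne (0 : W)
  obtain ⟨l, hl⟩ := Module.Projective.exists_dual_ne_zero (R ⧸ maximalIdeal R) hw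
  let sy : (R ⧸ maximalIdeal R) →ₗ[R] (J ⧸ N) :=
    Submodule.liftQ _ (LinearMap.toSpanSingleton R _ y) fun r hr => (hmem r).mp (h𝔮m.ge hr)
  let f : I →ₗ[R] (J ⧸ N) := sy ∘ₗ l.restrictScalars R ∘ₗ Submodule.mkQ _
  have hf : f ≠ 0 := by
    intro h0
    obtain ⟨i, rfl⟩ := Submodule.Quotient.mk_surjective _ w
    obtain ⟨c, hc⟩ := Ideal.Quotient.mk_surjective (l (Submodule.Quotient.mk i))
    have h1 : c • y = 0 := by
      have := LinearMap.congr_fun h0 i
      rw [show f i = sy (l (Submodule.Quotient.mk i)) from rfl, ← hc] at this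
      exact this
    exact hl (by rw [← hc, Ideal.Quotient.eq_zero_iff_mem, ← h𝔮m]; exact (hmem c).mpr h1)
  have hpinj : Function.Injective (p • LinearMap.id : J →ₗ[R] J) :=
    (injective_iff_map_eq_zero _).mpr fun z hz => hinj z hz
  let S : ShortComplex (ModuleCat.{u} R) := ShortComplex.mk (ModuleCat.ofHom (p • LinearMap.id : J →ₗ[R] J))
    (ModuleCat.ofHom N.mkQ) (by
      ext z
      exact (Submodule.Quotient.mk_eq_zero _).mpr (hNmem z))
  have hS : S.ShortExact :=
    { exact := (ShortComplex.ShortExact.moduleCat_exact_iff_function_exact S).mpr (LinearMap.exact_map_mkQ_range _)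
      mono_f := (ModuleCat.mono_iff_injective _).mpr hpinj
      epi_g := (ModuleCat.epi_iff_surjective _).mpr N.mkQ_surjective }
  refine nontrivial_iff.mpr ⟨(Abelian.Ext.mk₀ (ModuleCat.ofHom f)).comp hS.extClass (zero_add 1), 0, fun h0 => ?_⟩
  obtain ⟨x₂, hx₂⟩ := Abelian.Ext.covariant_sequence_exact₃ _ hS (Abelian.Ext.mk₀ (ModuleCat.ofHom f)) (zero_add 1) h0
  obtain ⟨g, rfl⟩ := (Abelian.Ext.mk₀_bijective _ _).2 x₂
  have hg : g = 0 := by
    ext i
    refine hinj (g.hom i) ?_
    rw [← map_smul, hPI p hpP i, map_zero]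
  rw [hg, Abelian.Ext.mk₀_zero, Abelian.Ext.zero_comp] at hx₂
  have := (Abelian.Ext.mk₀_eq_zero_iff _).mp hx₂.symm
  exact hf (ModuleCat.hom_ext_iff.mp this)

end Groth.Agent.S18363
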