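import Groth.Statements.S18364
import Groth.Agent.CAlg9.Decompose
import Mathlib.RingTheory.Ideal.Operations
import Mathlib.Algebra.Module.Submodule.Pointwise

set_option autoImplicit false
universe u
open CAlg

namespace Groth.Agent.S18364

/-- Let A be a Noetherian ring, π an element of A, and (𝔓_i)_{i ∈ ι} an injective finite family listing
exactly the minimal prime ideals over (π). Let M be a finitely generated A-module and M̄ = M/πM. For
a subset T of ι let K(T) ⊆ M̄ be the submodule of elements whose image in the localisation of M̄ at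
𝔓_i is zero for every i ∈ T, and N(T) ⊆ M its preimage in M. Assume K(ι) = 0, i.e. no nonzero
element of M̄ vanishes at all the minimal primes (every associated prime of M̄ is one of the 𝔓_i).
Then for every subset Y of ι with complement Z one has N(Y) ∩ N(Z) = πM, and the same construction
applied to the module N(Y) instead of M — the preimage in N(Y) of the elements of N(Y)/πN(Y)
vanishing at every 𝔓_i with i ∈ Z — is, as a submodule of M, equal to N(Y) ∩ N(Z). (Geometric
meaning: A is the local ring of a flat family of curves over a discrete valuation ring with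
uniformizer π at a point of the reduced special fibre, M the stalk of a torsion-free rank-one sheaf
I, Y a set of components of the special fibre through the point, and N(Y) the stalk of the kernel
I^Y of I → I(s)_Y; the statement is (I^Y)^Z = I^Y ∩ I^Z = πI. Reducedness of A/πA, flatness and rank
one are not used.) -/
theorem result
    (A : Type u) [CommRing A] [IsNoetherianRing A] (π : A)
    (ι : Type) [Finite ι] (𝔓 : ι → Ideal A) [∀ i, (𝔓 i).IsPrime]
    (h𝔓 : ∀ i, 𝔓 i ∈ (Ideal.span {π}).minimalPrimes) (h𝔓inj : Function.Injective 𝔓)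
    (h𝔓surj : ∀ 𝔔 ∈ (Ideal.span {π}).minimalPrimes, ∃ i, 𝔓 i = 𝔔)
    (M : Type u) [AddCommGroup M] [Module A M] [Module.Finite A M]
    (K : Set ι → Submodule A (M ⧸ Ideal.span {π} • (⊤ : Submodule A M)))
    (hK : ∀ T : Set ι, K T = ⨅ i ∈ T, LinearMap.ker
      (LocalizedModule.mkLinearMap (𝔓 i).primeCompl (M ⧸ Ideal.span {π} • (⊤ : Submodule A M))))
    (htf : K Set.univ = ⊥)
    (N : Set ι → Submodule A M)
    (hN : ∀ T : Set ι, N T = (K T).comap (Submodule.mkQ (Ideal.span {π} • (⊤ : Submodule A M))))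
    (Y : Set ι) :
    N Y ⊓ N Yᶜ = Ideal.span {π} • (⊤ : Submodule A M) ∧
    Submodule.map (N Y).subtype
      ((⨅ i ∈ Yᶜ, LinearMap.ker (LocalizedModule.mkLinearMap (𝔓 i).primeCompl
          (↥(N Y) ⧸ Ideal.span {π} • (⊤ : Submodule A ↥(N Y))))).comap
        (Submodule.mkQ (Ideal.span {π} • (⊤ : Submodule A ↥(N Y)))))
      = N Y ⊓ N Yᶜ := by

  have hmemK : ∀ (T : Set ι) x, x ∈ K T ↔ ∀ i ∈ T, ∃ s ∉ 𝔓 i, s • x = 0 := fun T x => by
    rw [hK]; exact Groth.Agent.CAlg9.mem_iInf_ker_iff 𝔓 T x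
  have hNZ : N Y ⊓ N Yᶜ = Ideal.span {π} • (⊤ : Submodule A M) := by
    rw [hN, hN, ← Submodule.comap_inf]
    have h0 : K Y ⊓ K Yᶜ = ⊥ := by
      rw [eq_bot_iff, ← htf]
      intro x hx
      rw [hmemK]
      intro i _
      by_cases hi : i ∈ Y
      · exact (hmemK _ _).mp hx.1 i hi
      · exact (hmemK _ _).mp hx.2 i hi
    rw [h0, Submodule.comap_bot, Submodule.ker_mkQ]
  refine ⟨hNZ, le_antisymm ?_ ?_⟩
  · rintro _ ⟨x, hx, rfl⟩
    refine ⟨x.2, ?_⟩
    show (x : M) ∈ N Yᶜ
    rw [hN, Submodule.mem_comap, hmemK]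
    intro i hi
    rw [SetLike.mem_coe, Submodule.mem_comap, Groth.Agent.CAlg9.mem_iInf_ker_iff] at hx
    obtain ⟨s, hs, h⟩ := hx i hi
    refine ⟨s, hs, ?_⟩
    rw [← map_smul, Submodule.mkQ_apply, Submodule.Quotient.mk_eq_zero] at h ⊢
    have h' := Submodule.mem_map_of_mem (f := (N Y).subtype) h
    rw [Submodule.map_smul''] at h'
    exact (Submodule.smul_mono le_rfl le_top : _ ≤ Ideal.span {π} • (⊤ : Submodule A M)) h'
  · rintro x ⟨hxY, hxZ⟩
    refine ⟨⟨x, hxY⟩, ?_, rfl⟩
    rw [SetLike.mem_coe, Submodule.mem_comap, Groth.Agent.CAlg9.mem_iInf_ker_iff]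
    intro i hi
    obtain ⟨t, ht, htv⟩ := Groth.Agent.CAlg9.exists_smul_vanish 𝔓 π h𝔓 h𝔓inj Y hi
    have hxN : (x : M) ∈ N Yᶜ := hxZ
    rw [hN, Submodule.mem_comap, hmemK] at hxN
    obtain ⟨s, hs, h⟩ := hxN i hi
    rw [← map_smul, Submodule.mkQ_apply, Submodule.Quotient.mk_eq_zero, Submodule.ideal_span_singleton_smul, Submodule.mem_smul_pointwise_iff_exists] at h
    obtain ⟨m, -, hm⟩ := h
    have htm : t • m ∈ N Y := by
      rw [hN, Submodule.mem_comap, hmemK]
      intro j hj
      obtain ⟨s', hs', h'⟩ := htv j hj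
      refine ⟨s', hs', ?_⟩
      rw [← map_smul, Submodule.mkQ_apply, Submodule.Quotient.mk_eq_zero, smul_smul]
      exact Submodule.smul_mem_smul h' Submodule.mem_top
    refine ⟨t * s, fun hh => ((inferInstance : (𝔓 i).IsPrime).mem_or_mem hh).elim ht hs, ?_⟩
    rw [← map_smul, Submodule.mkQ_apply, Submodule.Quotient.mk_eq_zero]
    have : (t * s) • (⟨x, hxY⟩ : ↥(N Y)) = π • (⟨t • m, htm⟩ : ↥(N Y)) := by
      apply Subtype.ext
      show (t * s) • x = π • t • m
      rw [mul_smul, ← hm, smul_comm]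
    rw [this]
    exact Submodule.smul_mem_smul (Ideal.mem_span_singleton_self π) Submodule.mem_top

end Groth.Agent.S18364
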