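import Groth.Statements.S18365
import Groth.Agent.CAlg9.Decompose
import Mathlib.RingTheory.Ideal.Operations
import Mathlib.Algebra.Module.Submodule.Pointwise

set_option autoImplicit false
universe u
open CAlg

namespace Groth.Agent.S18365

/-- Let A be a Noetherian ring, π an element of A, (𝔓_i)_{i ∈ ι} an injective finite family listing
exactly the minimal prime ideals over (π), and M a finitely generated A-module on which π acts
injectively; put M̄ = M/πM. For T ⊆ ι let K(T) ⊆ M̄ be the submodule of elements whose image in the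
localisation of M̄ at 𝔓_i vanishes for every i ∈ T, and N(T) ⊆ M its preimage; assume K(ι) = 0.
Suppose that M̄ decomposes at Y, i.e. K(Y) + K(Yᶜ) = M̄, and that for a subset Z the module
N(Y)/πN(Y) decomposes at Z, i.e. its submodule of elements vanishing at every 𝔓_i (i ∈ Z) and its
submodule of elements vanishing at every 𝔓_i (i ∉ Z) together span it. Then M̄ decomposes at Z: K(Z)
+ K(Zᶜ) = M̄. (Geometric meaning: for a flat family of curves over a discrete valuation ring with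
uniformizer π, I a torsion-free rank-one sheaf flat over the base, Y a subcurve of the special fibre
X(s) at which I(s) decomposes and I^Y = ker(I → I(s)_Y): if I^Y(s) decomposes at a subcurve Z then
so does I(s); decomposition of a sheaf at Z is the surjectivity of I(s) → I(s)_Z ⊕ I(s)_{Z^c},
checked on stalks. Reducedness of the special fibre and rank one are not used.) -/
theorem result
    (A : Type u) [CommRing A] [IsNoetherianRing A] (π : A)
    (ι : Type) [Finite ι] (𝔓 : ι → Ideal A) [∀ i, (𝔓 i).IsPrime]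
    (h𝔓 : ∀ i, 𝔓 i ∈ (Ideal.span {π}).minimalPrimes) (h𝔓inj : Function.Injective 𝔓)
    (h𝔓surj : ∀ 𝔔 ∈ (Ideal.span {π}).minimalPrimes, ∃ i, 𝔓 i = 𝔔)
    (M : Type u) [AddCommGroup M] [Module A M] [Module.Finite A M]
    (hπ : ∀ m : M, π • m = 0 → m = 0)
    (K : Set ι → Submodule A (M ⧸ Ideal.span {π} • (⊤ : Submodule A M)))
    (hK : ∀ T : Set ι, K T = ⨅ i ∈ T, LinearMap.ker
      (LocalizedModule.mkLinearMap (𝔓 i).primeCompl (M ⧸ Ideal.span {π} • (⊤ : Submodule A M))))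
    (htf : K Set.univ = ⊥)
    (N : Set ι → Submodule A M)
    (hN : ∀ T : Set ι, N T = (K T).comap (Submodule.mkQ (Ideal.span {π} • (⊤ : Submodule A M))))
    (Y Z : Set ι) (hY : K Y ⊔ K Yᶜ = ⊤)
    (K' : Set ι → Submodule A (↥(N Y) ⧸ Ideal.span {π} • (⊤ : Submodule A ↥(N Y))))
    (hK' : ∀ T : Set ι, K' T = ⨅ i ∈ T, LinearMap.ker
      (LocalizedModule.mkLinearMap (𝔓 i).primeCompl (↥(N Y) ⧸ Ideal.span {π} • (⊤ : Submodule A ↥(N Y)))))
    (hZ : K' Z ⊔ K' Zᶜ = ⊤) :
    K Z ⊔ K Zᶜ = ⊤ := by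

  have hmemK : ∀ (T : Set ι) x, x ∈ K T ↔ ∀ i ∈ T, ∃ s ∉ 𝔓 i, s • x = 0 := fun T x => by
    rw [hK]; exact Groth.Agent.CAlg9.mem_iInf_ker_iff 𝔓 T x
  have hmemK' : ∀ (T : Set ι) x, x ∈ K' T ↔ ∀ i ∈ T, ∃ s ∉ 𝔓 i, s • x = 0 := fun T x => by
    rw [hK']; exact Groth.Agent.CAlg9.mem_iInf_ker_iff 𝔓 T x
  have hzero : ∀ T x, x ∈ K T → x ∈ K Tᶜ → x = 0 := by
    intro T x h1 h2
    rw [← Submodule.mem_bot (R := A), ← htf, hmemK]
    intro i _
    by_cases hi : i ∈ T
    · exact (hmemK _ _).mp h1 i hi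
    · exact (hmemK _ _).mp h2 i hi
  have hPN : (Ideal.span {π} • (⊤ : Submodule A M)) ≤ N Y := fun p hp => by
    rw [hN, Submodule.mem_comap, Submodule.mkQ_apply, (Submodule.Quotient.mk_eq_zero _).mpr hp]
    exact zero_mem _
  let ψ : (↥(N Y) ⧸ Ideal.span {π} • (⊤ : Submodule A ↥(N Y))) →ₗ[A] M ⧸ (Ideal.span {π} • (⊤ : Submodule A M)) :=
    Submodule.mapQ _ (Ideal.span {π} • (⊤ : Submodule A M)) (N Y).subtype (by
      rw [← Submodule.map_le_iff_le_comap, Submodule.map_smul'']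
      exact Submodule.smul_mono le_rfl le_top)
  have hψ : ∀ n : N Y, ψ (Submodule.Quotient.mk n) = Submodule.Quotient.mk (n : M) := fun n => rfl
  have hψY : ∀ x, ψ x ∈ K Y := fun x => by
    induction x using Submodule.Quotient.induction_on with | _ n
    rw [hψ]
    have : (n : M) ∈ (K Y).comap (Ideal.span {π} • (⊤ : Submodule A M)).mkQ := (hN Y).le n.2
    exact this
  have hψT : ∀ T x, x ∈ K' T → ψ x ∈ K T := fun T x hx => (hmemK _ _).mpr fun i hi => by
    obtain ⟨s, hs, h⟩ := (hmemK' _ _).mp hx i hi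
    exact ⟨s, hs, by rw [← map_smul, h, map_zero]⟩
  have step1 : ∀ x, x ∈ K Y → x ∈ K Z ⊔ K Zᶜ := by
    intro x hx
    induction x using Submodule.Quotient.induction_on with | _ n
    have hn : n ∈ N Y := (hN Y).ge hx
    obtain ⟨a, ha, b, hb, hab⟩ := Submodule.mem_sup.mp (hZ.ge
      (Submodule.mem_top : Submodule.Quotient.mk (⟨n, hn⟩ : N Y) ∈ ⊤))
    have h := congrArg ψ hab
    rw [map_add, hψ] at h
    rw [← h]
    exact Submodule.add_mem_sup (hψT _ _ ha) (hψT _ _ hb)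
  have step3 : ∀ T, T = Z ∨ T = Zᶜ → ∀ x : M ⧸ (Ideal.span {π} • (⊤ : Submodule A M)), (∀ i ∈ T, ∃ s ∉ 𝔓 i, s • x ∈ K Y) →
      x ∈ K Z ⊔ K Zᶜ := by
    intro T hT x hx
    obtain ⟨u, hu, v, hv, rfl⟩ := Submodule.mem_sup.mp (hY.ge (Submodule.mem_top : x ∈ ⊤))
    refine add_mem (step1 u hu) ?_
    have hvT : v ∈ K T := (hmemK _ _).mpr fun i hi => by
      obtain ⟨s, hs, h⟩ := hx i hi
      refine ⟨s, hs, hzero Y _ ?_ (Submodule.smul_mem _ s hv)⟩
      have := Submodule.sub_mem _ h (Submodule.smul_mem _ s hu)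
      rwa [smul_add, add_sub_cancel_left] at this
    rcases hT with rfl | rfl
    · exact Submodule.mem_sup_left hvT
    · exact Submodule.mem_sup_right hvT
  have hdiv : ∀ y : M, Submodule.Quotient.mk (p := (Ideal.span {π} • (⊤ : Submodule A M))) y = 0 → ∃ m, π • m = y := fun y hy => by
    rw [Submodule.Quotient.mk_eq_zero, Submodule.ideal_span_singleton_smul,
      Submodule.mem_smul_pointwise_iff_exists] at hy
    obtain ⟨m, -, hm⟩ := hy
    exact ⟨m, hm⟩
  have hlift : ∀ T, ∀ a₀ : N Y, Submodule.Quotient.mk a₀ ∈ K' T → ∀ a' : M, π • a' = a₀ →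
      ∀ i ∈ T, ∃ s ∉ 𝔓 i, s • Submodule.Quotient.mk (p := (Ideal.span {π} • (⊤ : Submodule A M))) a' ∈ K Y := by
    intro T a₀ ha a' ha' i hi
    obtain ⟨s, hs, h⟩ := (hmemK' _ _).mp ha i hi
    rw [← Submodule.Quotient.mk_smul, Submodule.Quotient.mk_eq_zero,
      Submodule.ideal_span_singleton_smul, Submodule.mem_smul_pointwise_iff_exists] at h
    obtain ⟨n, -, hn⟩ := h
    refine ⟨s, hs, ?_⟩
    have hn' : π • (n : M) = s • (a₀ : M) := congrArg Subtype.val hn
    have : (n : M) = s • a' := sub_eq_zero.mp (hπ _ (by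
      rw [smul_sub, hn', ← ha', smul_comm, sub_self]))
    rw [← Submodule.Quotient.mk_smul, ← this, ← hψ]
    exact hψY _
  rw [eq_top_iff]
  rintro x -
  induction x using Submodule.Quotient.induction_on with | _ m
  have hπm : π • m ∈ N Y :=
    hPN (Submodule.smul_mem_smul (Ideal.mem_span_singleton_self π) Submodule.mem_top)
  obtain ⟨a, ha, b, hb, hab⟩ := Submodule.mem_sup.mp (hZ.ge
    (Submodule.mem_top : Submodule.Quotient.mk (⟨π • m, hπm⟩ : N Y) ∈ ⊤))
  obtain ⟨a₀, rfl⟩ := Submodule.Quotient.mk_surjective _ a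
  obtain ⟨b₀, rfl⟩ := Submodule.Quotient.mk_surjective _ b
  have hsum : ψ (Submodule.Quotient.mk a₀) + ψ (Submodule.Quotient.mk b₀) = 0 := by
    rw [← map_add, hab, hψ, Submodule.Quotient.mk_eq_zero]
    exact Submodule.smul_mem_smul (Ideal.mem_span_singleton_self π) Submodule.mem_top
  have ha0 : ψ (Submodule.Quotient.mk a₀) = 0 := hzero Z _ (hψT _ _ ha) (by
    rw [eq_neg_of_add_eq_zero_left hsum]; exact neg_mem (hψT _ _ hb))
  have hb0 : ψ (Submodule.Quotient.mk b₀) = 0 := by rwa [ha0, zero_add] at hsum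
  obtain ⟨a', ha'⟩ := hdiv (a₀ : M) (by rwa [hψ] at ha0)
  obtain ⟨b', hb'⟩ := hdiv (b₀ : M) (by rwa [hψ] at hb0)
  rw [← Submodule.Quotient.mk_add, Submodule.Quotient.eq, Submodule.ideal_span_singleton_smul,
    Submodule.mem_smul_pointwise_iff_exists] at hab
  obtain ⟨n, -, hn⟩ := hab
  have hn' : π • (n : M) = a₀ + b₀ - π • m := congrArg Subtype.val hn
  have hm : m = a' + b' - n := sub_eq_zero.mp (hπ _ (by
    rw [smul_sub, smul_sub, smul_add, ha', hb', hn']; abel))
  rw [hm, Submodule.Quotient.mk_sub, Submodule.Quotient.mk_add]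
  exact Submodule.sub_mem _ (add_mem (step3 Z (Or.inl rfl) _ (hlift Z a₀ ha a' ha'))
    (step3 Zᶜ (Or.inr rfl) _ (hlift Zᶜ b₀ hb b' hb'))) (step1 _ (by rw [← hψ]; exact hψY _))

end Groth.Agent.S18365
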