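import Groth.Statements.S18366
import Groth.Agent.AlgGrp79.SepPoint

set_option autoImplicit false
universe u
open CategoryTheory CategoryTheory.Limits AlgebraicGeometry
open Variety

namespace Groth.Agent.S18366

open CategoryTheory CategoryTheory.Limits AlgebraicGeometry
open scoped TensorProduct

set_option backward.isDefEq.respectTransparency false

/-- Let k be a separably closed field and X a non-empty k-scheme of finite type which is geometrically
reduced. Then X has a k-rational point, i.e. the structure morphism admits a section. (Non-emptiness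
is part of the hypotheses: the empty scheme is geometrically reduced of finite type and has no
point. The published statement does not assume X non-empty; this row does, since the empty scheme
has no rational point.) -/
theorem result (k : Type u) [Field k] [IsSepClosed k]
    {X : Scheme.{u}} (f : X ⟶ Spec (CommRingCat.of k)) [LocallyOfFiniteType f] [QuasiCompact f] [GeometricallyReduced f]
    [Nonempty X] :
    ∃ s : Spec (CommRingCat.of k) ⟶ X, s ≫ f = 𝟙 (Spec (CommRingCat.of k)) := by
  obtain ⟨x⟩ := ‹Nonempty X›
  obtain ⟨W, hW, hxW, -⟩ := exists_isAffineOpen_mem_and_subset (U := (⊤ : X.Opens)) (x := x) trivial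
  obtain ⟨φ, hφ⟩ := Spec.map_surjective (hW.fromSpec ≫ f)
  let A : CommRingCat := Γ(X, W)
  letI : Algebra k A := φ.hom.toAlgebra
  have hft : Algebra.FiniteType k A := by
    rw [← RingHom.finiteType_algebraMap]
    show φ.hom.FiniteType
    rw [← HasRingHomProperty.Spec_iff (P := @LocallyOfFiniteType), hφ]
    infer_instance
  have : Nonempty W := ⟨⟨x, hxW⟩⟩
  have : Nonempty (Spec A) := ⟨hW.isoSpec.hom ⟨x, hxW⟩⟩
  have : Nontrivial A := PrimeSpectrum.nonempty_iff_nontrivial.1 ‹Nonempty (Spec A)›
  let K := AlgebraicClosure k
  let i : Spec (CommRingCat.of K) ⟶ Spec (CommRingCat.of k) := Spec.map (CommRingCat.ofHom (algebraMap k K))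
  have : IsReduced (pullback f i) :=
    GeometricallyReduced.geometrically_isReduced i _ _ (IsPullback.of_hasPullback f i)
  let j : pullback (Spec.map (CommRingCat.ofHom (algebraMap k A))) i ⟶ pullback f i :=
    pullback.map _ _ _ _ hW.fromSpec (𝟙 _) (𝟙 _) ((Category.comp_id _).trans hφ) (by simp)
  have : IsReduced (pullback (Spec.map (CommRingCat.ofHom (algebraMap k A))) i) := isReduced_of_isOpenImmersion j
  have : IsReduced (Spec (CommRingCat.of (A ⊗[k] K))) := isReduced_of_isOpenImmersion (pullbackSpecIso k A K).inv
  have : _root_.IsReduced (A ⊗[k] K) := (affine_isReduced_iff (CommRingCat.of (A ⊗[k] K))).1 ‹_›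
  have : _root_.IsReduced (K ⊗[k] A) :=
    isReduced_of_injective (Algebra.TensorProduct.comm k K A) (AlgEquiv.injective _)
  obtain ⟨ψ⟩ := AlgGrp79.exists_point_of_geomReduced k A
  refine ⟨Spec.map (CommRingCat.ofHom ψ.toRingHom) ≫ hW.fromSpec, ?_⟩
  rw [Category.assoc, ← hφ, ← Spec.map_comp, ← Spec.map_id]
  congr 1
  ext r
  exact ψ.commutes r

end Groth.Agent.S18366
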