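import Groth.Statements.S18368
import Groth.Agent.Rig93.Group
-- import your own Groth.Agent.* helpers here

set_option autoImplicit false
universe u
open CategoryTheory CategoryTheory.Limits MonoidalCategory CartesianMonoidalCategory AlgebraicGeometry
open AbVar

namespace Groth.Agent.S18368

/-- Let k be a field, X and Y geometrically integral k-schemes of finite type with X proper, Z a
separated k-scheme and f : X ×_k Y → Z a k-morphism (products in the cartesian monoidal category of
k-schemes). If for some algebraically closed field K over k there are points y₀ : Spec K → Y and z₀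
: Spec K → Z over k such that f restricted to X ×_k Spec K along y₀ is the constant map z₀, then f
factors uniquely through the second projection: there is exactly one g : Y → Z over k with f = pr₂ ≫
g. (The target Z is not assumed to be of finite type over k.) -/
theorem result (k : Type u) [Field k]
    (X Y Z : Over (Spec (CommRingCat.of k)))
    [IsProper X.hom] [GeometricallyIntegral X.hom]
    [LocallyOfFiniteType Y.hom] [QuasiCompact Y.hom] [GeometricallyIntegral Y.hom]
    [IsSeparated Z.hom] (f : X ⊗ Y ⟶ Z)
    (K : Type u) [Field K] [Algebra k K] [IsAlgClosed K]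
    (y₀ : (Over.mk (Spec.map (CommRingCat.ofHom (algebraMap k K))) : Over (Spec (CommRingCat.of k))) ⟶ Y)
    (z₀ : (Over.mk (Spec.map (CommRingCat.ofHom (algebraMap k K))) : Over (Spec (CommRingCat.of k))) ⟶ Z)
    (h : (X ◁ y₀) ≫ f = snd X _ ≫ z₀) :
    ∃! g : Y ⟶ Z, f = snd X Y ≫ g := by
  have : IsIntegral Y.left := GeometricallyIntegral.isIntegral_of_subsingleton Y.hom
  have : IsLocallyNoetherian Y.left := LocallyOfFiniteType.isLocallyNoetherian Y.hom
  have : IsProper (snd X Y).left := inferInstanceAs (IsProper (Limits.pullback.snd X.hom Y.hom))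
  have : Flat (snd X Y).left := inferInstanceAs (Flat (Limits.pullback.snd X.hom Y.hom))
  have : IsSeparated (snd Z Y).left := inferInstanceAs (IsSeparated (Limits.pullback.snd Z.hom Y.hom))
  have h0' : ∀ y : Y.left, Function.Bijective
      (Limits.pullback.snd (snd X Y).left (Y.left.fromSpecResidueField y)).appTop :=
    fun y => Rig93.h0_baseChange X.hom Y.hom (fun s => Rig93.h0_of_geometricallyIntegral X.hom s) y
  let W : Over (Spec (CommRingCat.of k)) := Over.mk (Spec.map (CommRingCat.ofHom (algebraMap k K)))
  have hF : (lift f (snd X Y)).left ≫ (snd Z Y).left = (snd X Y).left := by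
    rw [← Over.comp_left, lift_snd]
  have hs : (X ◁ y₀) ≫ lift f (snd X Y) = snd X W ≫ lift z₀ y₀ := by
    rw [comp_lift, comp_lift, h, whiskerLeft_snd]
  have hpb : IsPullback (X ◁ y₀).left (snd X W).left (snd X Y).left y₀.left := by
    refine IsPullback.of_right (v₁₃ := X.hom) (h₁₂ := (fst X Y).left) (h₂₂ := Y.hom) ?_ ?_
      (IsPullback.of_hasPullback X.hom Y.hom)
    · rw [← Over.comp_left, whiskerLeft_fst, show y₀.left ≫ Y.hom = W.hom from Over.w y₀]
      exact IsPullback.of_hasPullback X.hom W.hom
    · rw [← Over.comp_left, whiskerLeft_snd, Over.comp_left]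
  let c : W.left := IsLocalRing.closedPoint K
  have hcol : y₀.left c ∈ Rig93.collapse (snd X Y).left (lift f (snd X Y)).left := by
    have hv : ∀ z : ↥(X ⊗ Y).left, (snd X Y).left z = y₀.left c →
        (lift f (snd X Y)).left z = (lift z₀ y₀).left c := by
      intro z hz
      obtain ⟨w, hw, hwc⟩ := Scheme.exists_preimage_of_isPullback hpb z c hz
      rw [← hw, ← hwc]
      exact congrArg (fun m : X ⊗ W ⟶ Z ⊗ Y => m.left w) hs
    exact fun z z' hz hz' => (hv z hz).trans (hv z' hz').symm
  obtain ⟨t, ht, htF⟩ := Rig93.exists_factor_of_proper (snd X Y).left (snd Z Y).left _ hF h0' _ hcol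
  have hw : (t ≫ (fst Z Y).left) ≫ Z.hom = Y.hom := by
    rw [Category.assoc, Over.w, ← Over.w (snd Z Y), reassoc_of% ht]
  have hg : f = snd X Y ≫ Over.homMk (t ≫ (fst Z Y).left) hw := by
    ext : 1
    show f.left = (snd X Y).left ≫ t ≫ (fst Z Y).left
    rw [← lift_fst f (snd X Y), Over.comp_left, ← Category.assoc, ← htF]
  refine ⟨_, hg, fun g' hg' => ?_⟩
  have : Surjective (snd X Y).left := ⟨fun y => Rig93.surjective_of_h0 _ y (h0' y)⟩
  ext : 1
  rw [← cancel_epi (snd X Y).left, ← Over.comp_left, ← Over.comp_left, ← hg', ← hg]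

end Groth.Agent.S18368
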