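import Groth.Agent.AbTI73.DescendTI
import Groth.Agent.Desc59.AmpleDesc
import Groth.Agent.S18385
import Groth.Statements.S18369
-- import your own Groth.Agent.* helpers here

set_option autoImplicit false
set_option maxSynthPendingDepth 6
set_option linter.style.haveILetI false
set_option backward.isDefEq.respectTransparency.types false
universe u
open CategoryTheory CategoryTheory.Limits MonoidalCategory CartesianMonoidalCategory MonObj GrpObj AlgebraicGeometry
open AbVar
open Groth.Agent.AbSquare57 (pb pb_comp pb_cls pb_id)

namespace Groth.Agent.S18369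

/-- Let k be a field, A an abelian variety over k (a proper smooth k-group scheme with geometrically
connected fibres) with group law m : A × A → A and projections p₁, p₂, L an ample invertible
O_A-module, and N an invertible O_A-module whose class lies in the dual abelian variety, expressed
as m^*N ≅ p₁^*N ⊗ p₂^*N. Then L ⊗ N is again ample; so ampleness of an invertible module on A
depends only on its class modulo Pic⁰. -/
theorem result (k : Type u) [Field k]
    (A : Over (Spec (CommRingCat.of k))) [GrpObj A] [IsProper A.hom] [Smooth A.hom] [GeometricallyConnected A.hom]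
    (L N : A.left.Modules) (hL : CohB1.IsAmple L) (hN : PicF.IsInvertible N)
    (hN0 : Nonempty ((Scheme.Modules.pullback μ[A].left).obj N ≅
      CohB1.tensorMod ((Scheme.Modules.pullback (fst A A).left).obj N) ((Scheme.Modules.pullback (snd A A).left).obj N))) :
    CohB1.IsAmple (CohB1.tensorMod L N) := by
  haveI := S18385.geometricallyIntegral_field A.hom
  let K' := AlgebraicClosure k
  haveI := AbTI73.isProper_bX K' A
  haveI := AbTI73.geometricallyIntegral_bX K' A
  let B := AbTI73.bX K' A
  let π := AbTI73.bπ K' A
  have h1 : PicF.IsInvertible ((Scheme.Modules.pullback (fst A A).left).obj N) := PicLoc.isInvertible_pullback _ hN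
  have h2 : PicF.IsInvertible ((Scheme.Modules.pullback (snd A A).left).obj N) := PicLoc.isInvertible_pullback _ hN
  have hlam : AbTI73.lam (PicGrp.cls N hN) = 1 := by
    rw [AbTI73.lam, div_eq_one, pb_cls (fst A A).left hN, pb_cls (snd A A).left hN, AbTI73.cls_mul_cls', AbTI73.add,
      ← MonObj.mul_eq_mul (M := A), AbTI73.pb_eq_cls_iff]
    exact hN0
  have hTI := AbTI73.isTI_bX_of_lam_eq_one K' _ hlam
  haveI : IsAffineHom π := MorphismProperty.pullback_fst (P := @IsAffineHom) _ _ inferInstance
  let L₁ : B.left.Modules := (Scheme.Modules.pullback π).obj L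
  have hL₁ : CohB1.IsAmple L₁ := Amp73.isAmple_pullback π (Amp73.isQuasiAffine_of_isAffineHom π) hL
  obtain ⟨x, hx⟩ := AbTI73.exists_phi_eq (AbTI73.vanishingTI (A := B)) (AbTI73.finite_fixing hL₁) hTI
  haveI : IsAffineHom (Ampl73.rT x).left := inferInstance
  have hLN := EGA73.isInvertible_tensorMod hL.1 hN
  obtain ⟨e⟩ : Nonempty ((Scheme.Modules.pullback (Ampl73.rT x).left).obj L₁ ≅
      (Scheme.Modules.pullback π).obj (CohB1.tensorMod L N)) := by
    refine (AbTI73.pb_eq_cls_iff _ hL₁.1 (PicLoc.isInvertible_pullback π hLN)).1 ?_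
    rw [← pb_cls π hLN, ← AbTI73.cls_mul_cls' hL.1 hN, map_mul, ← hx, AbTI73.phi]
    rw [pb_cls π hL.1, mul_div_cancel]
  exact Desc59.AmpleDesc.isAmple_of_pullback A.hom
    (IsPullback.of_hasPullback A.hom (AbTI73.bsMap k K')) hLN
    (Amp73.isAmple_of_iso e (Amp73.isAmple_pullback _ (Amp73.isQuasiAffine_of_isAffineHom _) hL₁))

end Groth.Agent.S18369
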