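import Groth.Statements.S1837
import Groth.Agent.Glue50.Maximal

set_option autoImplicit false
universe u
open TensorProduct
open CycAlg

namespace Groth.Agent.S1837

/-- Let A be Noetherian with pairwise distinct maximal ideals 𝔪₁, …, 𝔪_r, and for each i a ring map φ_i
from A_{𝔪_i} to B_i whose kernel and cokernel are killed by a power of 𝔪_i. Then there is an
A-algebra B whose base change to each A_{𝔪_i} is isomorphic to B_i and whose structure map has
kernel and cokernel killed by a power of 𝔪₁ ∩ … ∩ 𝔪_r; if every φ_i is finite (resp. injective,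
resp. surjective) B can be taken with the same property. -/
theorem result (A : Type u) [CommRing A] [IsNoetherianRing A] (r : ℕ) (m : Fin r → Ideal A) (hm : ∀ i, (m i).IsMaximal) (hinj : Function.Injective m) (B : Fin r → Type u) [∀ i, CommRing (B i)] [∀ i, Algebra (Localization.AtPrime (m i)) (B i)] (hker : ∀ i, ∃ n : ℕ, ∀ x ∈ RingHom.ker (algebraMap (Localization.AtPrime (m i)) (B i)), ∀ y ∈ Ideal.map (algebraMap A (Localization.AtPrime (m i))) (m i) ^ n, y * x = 0) (hcoker : ∀ i, ∃ n : ℕ, ∀ y ∈ Ideal.map (algebraMap A (Localization.AtPrime (m i))) (m i) ^ n, ∀ b : B i, y • b ∈ (algebraMap (Localization.AtPrime (m i)) (B i)).range) : ∃ (C : Type u) (_ : CommRing C) (_ : Algebra A C), (∀ i, Nonempty ((Localization.AtPrime (m i)) ⊗[A] C ≃ₐ[Localization.AtPrime (m i)] B i)) ∧ (∃ n : ℕ, (∀ x ∈ RingHom.ker (algebraMap A C), ∀ y ∈ (⨅ i, m i) ^ n, y * x = 0) ∧ (∀ y ∈ (⨅ i, m i) ^ n, ∀ c : C, y • c ∈ (algebraMap A C).range)) ∧ ((∀ i, (algebraMap (Localization.AtPrime (m i)) (B i)).Finite) → (algebraMap A C).Finite)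 ∧ ((∀ i, Function.Injective (algebraMap (Localization.AtPrime (m i)) (B i))) → Function.Injective (algebraMap A C)) ∧ ((∀ i, Function.Surjective (algebraMap (Localization.AtPrime (m i)) (B i))) → Function.Surjective (algebraMap A C)) := by
  classical
  haveI := hm
  choose nk hnk using hker
  choose nc hnc using hcoker
  let n := Finset.univ.sup fun i => max (nk i) (nc i)
  have hn : ∀ i, nk i ≤ n ∧ nc i ≤ n := fun i =>
    ⟨(le_max_left _ _).trans (Finset.le_sup (f := fun i => max (nk i) (nc i)) (Finset.mem_univ i)),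
      (le_max_right _ _).trans (Finset.le_sup (f := fun i => max (nk i) (nc i)) (Finset.mem_univ i))⟩
  letI : ∀ i, Algebra A (B i) := fun i => Algebra.compHom (B i) (algebraMap A (Localization.AtPrime (m i)))
  haveI : ∀ i, IsScalarTower A (Localization.AtPrime (m i)) (B i) := fun i =>
    IsScalarTower.of_algebraMap_eq fun _ => rfl
  have hpow : ∀ (i) (k : ℕ), k ≤ n → ∀ y ∈ m i ^ n,
      algebraMap A (Localization.AtPrime (m i)) y ∈ Ideal.map (algebraMap A (Localization.AtPrime (m i))) (m i) ^ k := by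
    intro i k hk y hy
    rw [← Ideal.map_pow]
    exact Ideal.mem_map_of_mem _ (Ideal.pow_le_pow_right hk hy)
  have hker' : ∀ i (x : Localization.AtPrime (m i)), algebraMap (Localization.AtPrime (m i)) (B i) x = 0 →
      ∀ y ∈ m i ^ n, y • x = 0 := fun i x hx y hy => by
    rw [Algebra.smul_def]
    exact hnk i x hx _ (hpow i _ (hn i).1 y hy)
  have hcok' : ∀ i (y : A), y ∈ m i ^ n → ∀ b : B i,
      y • b ∈ (algebraMap (Localization.AtPrime (m i)) (B i)).range := fun i y hy b => by
    rw [← IsScalarTower.algebraMap_smul (Localization.AtPrime (m i)) y b]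
    exact hnc i _ (hpow i _ (hn i).2 y hy) b
  let R : Submodule A (Groth.Agent.Glue50.Amb m B) := LinearMap.range (Algebra.linearMap A _)
  have hR : ∀ a, algebraMap A (Groth.Agent.Glue50.Amb m B) a ∈ R := fun a => ⟨a, rfl⟩
  -- injectivity up to the kernels
  have hzero : ∀ a : A, algebraMap A (Groth.Agent.Glue50.Amb m B) a = 0 → ∀ y : A,
      (∀ i, y • algebraMap A (Localization.AtPrime (m i)) a = 0) → y * a = 0 := by
    intro a ha y hy
    refine MaximalSpectrum.toPiLocalization_injective (R := A) (funext fun q => ?_)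
    simp only [MaximalSpectrum.toPiLocalization_apply_apply, map_zero, Pi.zero_apply]
    by_cases h : ∀ i, q.asIdeal ≠ m i
    · have h0 : algebraMap A (Localization.AtPrime q.asIdeal) a = 0 :=
        congrArg (fun z : Groth.Agent.Glue50.Amb m B => z.2 ⟨q, h⟩) ha
      rw [map_mul, h0, mul_zero]
    · push Not at h
      obtain ⟨i, hi⟩ := h
      obtain ⟨⟨t, ht⟩, ht0⟩ := (IsLocalization.map_eq_zero_iff (m i).primeCompl (Localization.AtPrime (m i)) (y * a)).1
        (by rw [map_mul, ← Algebra.smul_def]; exact hy i)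
      exact (IsLocalization.map_eq_zero_iff q.asIdeal.primeCompl (Localization.AtPrime q.asIdeal) (y * a)).2
        ⟨⟨t, by rw [Ideal.mem_primeCompl_iff, hi]; exact ht⟩, ht0⟩
  refine ⟨Groth.Agent.Glue50.glue m B, inferInstance, inferInstance, fun i => ?_, ⟨n, ?_, ?_⟩, fun hfin => ?_,
    fun hi' => ?_, fun hs' => ?_⟩
  · have hb := Groth.Agent.Glue50.isBaseChange (B := B) hinj n hker' hcok' i
    let g : Localization.AtPrime (m i) ⊗[A] Groth.Agent.Glue50.glue m B →ₐ[Localization.AtPrime (m i)] B i :=
      Algebra.TensorProduct.lift (Algebra.ofId _ _) (Groth.Agent.Glue50.proj i) fun _ _ => Commute.all _ _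
    have hg : ∀ z, g z = hb.equiv z := fun z => by
      induction z using TensorProduct.induction_on with
      | zero => rw [map_zero, map_zero]
      | tmul s x =>
        rw [Algebra.TensorProduct.lift_tmul, IsBaseChange.equiv_tmul, Algebra.smul_def]
        rfl
      | add x y hx hy => rw [map_add, map_add, hx, hy]
    exact ⟨AlgEquiv.ofBijective g (by
      have : (g : Localization.AtPrime (m i) ⊗[A] Groth.Agent.Glue50.glue m B → B i) = hb.equiv := funext hg
      rw [this]; exact hb.equiv.bijective)⟩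
  · intro x hx y hy
    refine hzero x (congrArg Subtype.val (RingHom.mem_ker.1 hx)) y fun i => ?_
    refine hker' i _ ?_ y (Ideal.pow_right_mono (iInf_le m i) n hy)
    exact congrArg (fun z : Groth.Agent.Glue50.Amb m B => z.1 i) (congrArg Subtype.val (RingHom.mem_ker.1 hx))
  · intro y hy c
    obtain ⟨a, ha⟩ : (y • c : Groth.Agent.Glue50.glue m B).1 ∈ R := by
      refine Groth.Agent.Glue50.mem_of_local hinj n hker' R hR (y • c).2 fun i => ?_
      obtain ⟨a, s, hs, hsa⟩ := Groth.Agent.Glue50.exists_frac (hcok' i y (Ideal.pow_right_mono (iInf_le m i) n hy) (c.1.1 i))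
      exact ⟨_, hR a, (Groth.Agent.Glue50.glue m B).algebraMap_mem a, s, hs, hsa.symm⟩
    exact ⟨a, Subtype.ext ha⟩
  · rw [RingHom.finite_algebraMap]
    have hfin' : ∀ i, Module.Finite (Localization.AtPrime (m i)) (B i) := fun i => RingHom.finite_algebraMap.1 (hfin i)
    choose G hG using fun i => (hfin' i).fg_top
    choose x hx s hs hxs using fun p : Σ i, {b // b ∈ G i} =>
      Groth.Agent.Glue50.exists_preimage hinj n hker' hcok' p.1 p.2.1
    let S : Submodule A (Groth.Agent.Glue50.Amb m B) := Submodule.span A (Set.range x ∪ {1})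
    have hSle : S ≤ Subalgebra.toSubmodule (Groth.Agent.Glue50.glue m B) := Submodule.span_le.2 (by
      rintro z (⟨p, rfl⟩ | rfl)
      exacts [hx p, (Groth.Agent.Glue50.glue m B).one_mem])
    have hS1 : ∀ a, algebraMap A (Groth.Agent.Glue50.Amb m B) a ∈ S := fun a => by
      rw [Algebra.algebraMap_eq_smul_one]
      exact S.smul_mem a (Submodule.subset_span (Or.inr rfl))
    have heq : Subalgebra.toSubmodule (Groth.Agent.Glue50.glue m B) = S := by
      refine le_antisymm (fun z hz => ?_) hSle
      refine Groth.Agent.Glue50.mem_of_local hinj n hker' S hS1 hz fun i => ?_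
      suffices h : ∀ v : B i, ∃ d ∈ S, ∃ t, t ∉ m i ∧ d.1 i = t • v by
        obtain ⟨d, hd, t, ht, hdt⟩ := h (z.1 i)
        exact ⟨d, hd, hSle hd, t, ht, hdt⟩
      intro v
      have hv : v ∈ Submodule.span (Localization.AtPrime (m i)) (G i : Set (B i)) := hG i ▸ Submodule.mem_top
      induction hv using Submodule.span_induction with
      | mem v hv => exact ⟨x ⟨i, v, hv⟩, Submodule.subset_span (Or.inl ⟨_, rfl⟩), s ⟨i, v, hv⟩, hs ⟨i, v, hv⟩, hxs ⟨i, v, hv⟩⟩
      | zero => exact ⟨0, zero_mem _, 1, fun h => (hm i).ne_top ((Ideal.eq_top_iff_one _).2 h), by simp⟩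
      | add v w _ _ hv hw =>
        obtain ⟨d, hd, t, ht, hdt⟩ := hv
        obtain ⟨e, he, u, hu, heu⟩ := hw
        refine ⟨u • d + t • e, add_mem (S.smul_mem u hd) (S.smul_mem t he), t * u,
          fun h => ((hm i).isPrime.mem_or_mem h).elim ht hu, ?_⟩
        show u • d.1 i + t • e.1 i = _
        rw [hdt, heu, smul_smul, smul_smul, smul_add, mul_comm u t]
      | smul c v _ hv =>
        obtain ⟨d, hd, t, ht, hdt⟩ := hv
        obtain ⟨a, u, rfl⟩ := IsLocalization.exists_mk'_eq (m i).primeCompl c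
        refine ⟨a • d, S.smul_mem a hd, t * u, fun h => ((hm i).isPrime.mem_or_mem h).elim ht u.2, ?_⟩
        show a • d.1 i = _
        rw [hdt, mul_smul, ← IsScalarTower.algebraMap_smul (Localization.AtPrime (m i)) (u : A)
          (IsLocalization.mk' (Localization.AtPrime (m i)) a u • v), smul_smul (algebraMap A _ (u : A)),
          mul_comm (algebraMap A _ (u : A)), IsLocalization.mk'_spec, algebraMap_smul, smul_comm]
    exact Module.Finite.iff_fg.2 (heq ▸ Submodule.fg_span ((Set.finite_range x).union (Set.finite_singleton 1)) :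
      (Subalgebra.toSubmodule (Groth.Agent.Glue50.glue m B)).FG)
  · refine (injective_iff_map_eq_zero _).2 fun a ha => ?_
    have h1 := hzero a (congrArg Subtype.val ha) 1 fun i => by
      rw [one_smul]
      refine (map_eq_zero_iff _ (hi' i)).1 ?_
      exact congrArg (fun z : Groth.Agent.Glue50.Amb m B => z.1 i) (congrArg Subtype.val ha)
    rwa [one_mul] at h1
  · intro z
    obtain ⟨a, ha⟩ : z.1 ∈ R := by
      refine Groth.Agent.Glue50.mem_of_local hinj n hker' R hR z.2 fun i => ?_
      obtain ⟨a, s, hs, hsa⟩ := Groth.Agent.Glue50.exists_frac (b := z.1.1 i) (hs' i _)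
      exact ⟨_, hR a, (Groth.Agent.Glue50.glue m B).algebraMap_mem a, s, hs, hsa.symm⟩
    exact ⟨a, Subtype.ext ha⟩

end Groth.Agent.S1837
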