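import Mathlib
import Groth.Statements.S18372

set_option autoImplicit false
universe u
open CategoryTheory CategoryTheory.Limits MonoidalCategory CartesianMonoidalCategory MonObj GrpObj AlgebraicGeometry
open AbVar

namespace Groth.Agent.S18372

theorem result (k : Type u) [Field k] [IsAlgClosed k]
    (A : Over (Spec (CommRingCat.of k))) [GrpObj A] [IsProper A.hom] [Smooth A.hom] [GeometricallyConnected A.hom]
    (U : A.left.Opens) (hU : IsAffineOpen U) (he : Set.range η[A].left.base ⊆ (U : Set A.left)) :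
    Set.Finite {x : 𝟙_ (Over (Spec (CommRingCat.of k))) ⟶ A |
      (𝟙 A * (toUnit A ≫ x)).left.base ⁻¹' ((U : Set A.left)ᶜ) = (U : Set A.left)ᶜ} := by
  classical
  let ptA : (𝟙_ (Over (Spec (CommRingCat.of k))) ⟶ A) → A.left := fun x => x.left (IsLocalRing.closedPoint k)
  have hinj : Function.Injective ptA := fun x y h =>
    Over.OverMorphism.ext (AlgebraicGeometry.ext_of_apply_closedPoint_eq A.hom (Over.w x) (Over.w y) h)
  haveI : JacobsonSpace A.left := LocallyOfFiniteType.jacobsonSpace A.hom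
  let P : (𝟙_ (Over (Spec (CommRingCat.of k))) ⟶ A) → (A ⟶ A) := fun d => (toUnit A ≫ d) * (𝟙 A)⁻¹
  have hP : ∀ d x : 𝟙_ (Over (Spec (CommRingCat.of k))) ⟶ A, x ≫ P d = d * x⁻¹ := fun d x => by
    simp [P, MonObj.comp_mul, GrpObj.comp_inv]
  have hcomp : ∀ (x : 𝟙_ (Over (Spec (CommRingCat.of k))) ⟶ A) (f : A ⟶ A), ptA (x ≫ f) = f.left (ptA x) := fun x f => rfl
  let D : Set A.left := (U : Set A.left)ᶜ
  let Z : Set A.left := ⋂ d ∈ {d : 𝟙_ (Over (Spec (CommRingCat.of k))) ⟶ A | ptA d ∈ D}, (P d).left ⁻¹' D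
  have hZ : IsClosed Z :=
    isClosed_biInter fun d _ => (U.2.isClosed_compl).preimage (P d).left.continuous
  have hZU : Z ⊆ U := by
    by_contra hne
    obtain ⟨z, hz, hzU⟩ := Set.not_subset.1 hne
    obtain ⟨w, ⟨hwZ, hwD⟩, hwc⟩ := nonempty_inter_closedPoints (X := A.left) (Z := Z ∩ D) ⟨z, hz, hzU⟩
      (hZ.inter U.2.isClosed_compl).isLocallyClosed
    let d : 𝟙_ (Over (Spec (CommRingCat.of k))) ⟶ A :=
      Over.homMk (pointOfClosedPoint A.hom w hwc) (pointOfClosedPoint_comp A.hom w hwc)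
    have hd : ptA d = w := pointOfClosedPoint_apply A.hom w hwc (IsLocalRing.closedPoint k)
    have h1 : (P d).left w ∈ D := Set.mem_iInter₂.1 hwZ d (show ptA d ∈ D from hd ▸ hwD)
    rw [← hd, ← hcomp, hP, mul_inv_cancel] at h1
    refine h1 (he ⟨IsLocalRing.closedPoint k, ?_⟩)
    rw [MonObj.one_eq_one]
  have hsub : {x : 𝟙_ (Over (Spec (CommRingCat.of k))) ⟶ A |
      (𝟙 A * (toUnit A ≫ x)).left.base ⁻¹' ((U : Set A.left)ᶜ) = (U : Set A.left)ᶜ} ⊆ ptA ⁻¹' Z := by
    intro x hx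
    refine Set.mem_iInter₂.2 fun d (hd : ptA d ∈ D) => ?_
    show (P d).left (ptA x) ∈ D
    rw [← hcomp, hP]
    show ptA (d * x⁻¹) ∈ (U : Set A.left)ᶜ
    rw [← Set.mem_setOf.1 hx]
    show (𝟙 A * (toUnit A ≫ x)).left (ptA (d * x⁻¹)) ∈ D
    rw [← hcomp]
    have : (d * x⁻¹) ≫ (𝟙 A * (toUnit A ≫ x)) = d := by simp [MonObj.comp_mul]
    rw [this]
    exact hd
  refine Set.Finite.subset (Set.Finite.preimage hinj.injOn ?_) hsub
  let I := Scheme.IdealSheafData.vanishingIdeal (⟨Z, hZ⟩ : TopologicalSpace.Closeds A.left)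
  have hrange : Set.range I.subschemeι = Z := by
    rw [Scheme.IdealSheafData.range_subschemeι]
    simp [I]
  have hle : Set.range I.subschemeι ⊆ Set.range U.ι := by
    rw [hrange, Scheme.Opens.range_ι]; exact hZU
  let j := IsOpenImmersion.lift U.ι I.subschemeι hle
  haveI : IsClosedImmersion j := by
    haveI : IsClosedImmersion (j ≫ U.ι) := by rw [IsOpenImmersion.lift_fac]; infer_instance
    exact IsClosedImmersion.of_comp j U.ι
  haveI : IsAffine (U : Scheme.{u}) := hU
  haveI : IsAffine I.subscheme := isAffine_of_isAffineHom j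
  haveI : IsFinite (I.subschemeι ≫ A.hom) := IsFinite.iff_isProper_and_isAffineHom.2 ⟨inferInstance, inferInstance⟩
  haveI : Finite I.subscheme := by
    have h := (I.subschemeι ≫ A.hom).finite_preimage_singleton (IsLocalRing.closedPoint k)
    exact Set.finite_univ_iff.1 (h.subset fun _ _ => Set.mem_singleton_iff.2
      (Subsingleton.elim (α := Spec (CommRingCat.of k)) _ _))
  rw [← hrange]
  exact Set.finite_range _

end Groth.Agent.S18372
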