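import Groth.Statements.S18377
import Groth.Agent.VerlindeC52.Schur
import Groth.Agent.VerlindeC52.Staircase

set_option autoImplicit false
open Complex
open VerlindeComb

namespace Groth.Agent.S18377

/-- Let r, k ≥ 1 be integers and v_1 > v_2 > ⋯ > v_r ≥ 0 integers below r + k; put z_j = exp(2πi v_j /
(r + k)) and, for μ = (μ_1, …, μ_r), let S_μ(z) = det(z_j^{μ_i + r - i}) / det(z_j^{r - i}) be the
value of the Schur polynomial (the z_j are distinct, so the Vandermonde denominator is nonzero).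
Then, summing over all μ with k > μ_1 ≥ ⋯ ≥ μ_r ≥ 0 and writing μ* = (k - μ_r, …, k - μ_1), one has
Σ_μ S_μ(z) S_{μ*}(z) = exp(2πi k (v_1 + ⋯ + v_r) / (r + k)) · k (r + k)^{r-1} / ∏_{i<j} (2 sin(π
(v_i - v_j) / (r + k)))². Indices are 0-based below: μ i stands for μ_{i+1}. -/
theorem result (r k : ℕ) (hr : 1 ≤ r) (hk : 1 ≤ k)
    (v : Fin r → ℕ) (hv : StrictAnti v) (hvlt : ∀ i, v i < r + k)
    (z : Fin r → ℂ) (hz : ∀ j, z j = Complex.exp (2 * Real.pi * Complex.I * (v j : ℂ) / ((r : ℂ) + k)))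
    (S : (Fin r → ℕ) → ℂ)
    (hS : ∀ μ : Fin r → ℕ, S μ =
      (Matrix.of fun i j : Fin r => z j ^ (μ i + (r - 1 - (i : ℕ)))).det /
        (Matrix.of fun i j : Fin r => z j ^ (r - 1 - (i : ℕ))).det) :
    (∑ μ ∈ (Finset.univ : Finset (Fin r → Fin k)).filter (fun μ : Fin r → Fin k => Antitone μ),
        S (fun i => (μ i : ℕ)) * S (fun i => k - (μ (Fin.rev i) : ℕ))) =
      Complex.exp (2 * Real.pi * Complex.I * (k : ℂ) * ((∑ j, v j : ℕ) : ℂ) / ((r : ℂ) + k)) *
        ((k : ℂ) * ((r : ℂ) + k) ^ (r - 1)) /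
        (∏ p ∈ (Finset.univ : Finset (Fin r × Fin r)).filter (fun p => p.1 < p.2),
          (((2 : ℝ) * Real.sin (Real.pi * ((v p.1 : ℝ) - (v p.2 : ℝ)) / ((r : ℝ) + k))) ^ 2 : ℝ) : ℂ) := by
  classical
  haveI : NeZero (r + k) := ⟨by omega⟩
  obtain ⟨L, hL⟩ : ∃ L, L + 1 = r + k := ⟨r + k - 1, by omega⟩
  set sgn : ℂ := ((Equiv.Perm.sign (Fin.revPerm (n := r)) : ℤ) : ℂ) with hsgn
  set D : ℂ := Groth.Agent.VerlindeC52.zalt (N := r + k) (Groth.Agent.VerlindeC52.stair r)
    (Groth.Agent.VerlindeC52.res (r + k) v) with hD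
  set vi : Fin r → ℤ := fun j => (v j : ℤ) with hvi
  set p : (Fin r → ℕ) → (Fin r → ZMod (r + k)) := fun e => Groth.Agent.VerlindeC52.res (r + k) e with hp
  let F : (Fin r → ℕ) → ℂ := fun e =>
    Groth.Agent.VerlindeC52.zalt vi (p e) * Groth.Agent.VerlindeC52.zalt (fun j => - vi j) (p e)
  have hDne : D ≠ 0 := Groth.Agent.VerlindeC52.zalt_stair_ne_zero _
    (Groth.Agent.VerlindeC52.res_injective v hv.injective hvlt)
  have htr : ∀ (c : Fin r → ℤ) (e : Fin r → ℕ),
      Groth.Agent.VerlindeC52.zalt (fun i => (e i : ℤ)) (fun j => ((c j : ℤ) : ZMod (r + k))) =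
        Groth.Agent.VerlindeC52.zalt c (p e) := by
    intro c e
    unfold Groth.Agent.VerlindeC52.zalt
    rw [← Matrix.det_transpose]
    congr 1
    ext i j
    simp [Matrix.transpose_apply, hp, Groth.Agent.VerlindeC52.res, mul_comm]
  have hterm : ∀ μ : Fin r → Fin k,
      S (fun i => (μ i : ℕ)) * S (fun i => k - (μ (Fin.rev i) : ℕ)) =
        (sgn * Complex.exp (2 * Real.pi * Complex.I * ((L : ℤ) : ℂ) * ((∑ j, v j : ℕ) : ℂ) / ((r + k : ℕ) : ℂ)) / (D * D)) *
          F (fun i => (μ i : ℕ) + (r - 1 - (i : ℕ))) := by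
    intro μ
    rw [hS, hS, Groth.Agent.VerlindeC52.det_stair_eq_zalt v z hz,
      Groth.Agent.VerlindeC52.det_pow_eq_zalt _ v z hz, Groth.Agent.VerlindeC52.det_pow_eq_zalt _ v z hz, ← hD]
    set e : Fin r → ℕ := fun i => (μ i : ℕ) + (r - 1 - (i : ℕ)) with he
    have hres : Groth.Agent.VerlindeC52.res (r + k) v = fun j => ((vi j : ℤ) : ZMod (r + k)) := by
      funext j; simp [hvi, Groth.Agent.VerlindeC52.res]
    have h1 : (fun i : Fin r => ((k - (μ (Fin.rev i) : ℕ) + (r - 1 - (i : ℕ)) : ℕ) : ℤ)) =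
        fun i => (L : ℤ) - (e (Fin.rev i) : ℤ) := by
      funext i
      have := (μ (Fin.rev i)).isLt; have := i.isLt
      simp only [he, Fin.val_rev]
      omega
    have h2 : Groth.Agent.VerlindeC52.zalt (fun i => -(e i : ℤ)) (Groth.Agent.VerlindeC52.res (r + k) v) =
        Groth.Agent.VerlindeC52.zalt (fun j => - vi j) (p e) := by
      rw [← htr (fun j => - vi j) e]
      unfold Groth.Agent.VerlindeC52.zalt
      congr 1
      ext i j
      simp [hvi, Groth.Agent.VerlindeC52.res]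
    have h3 := Groth.Agent.VerlindeC52.zalt_rev_const (fun i => (e i : ℤ)) (L : ℤ) (Groth.Agent.VerlindeC52.res (r + k) v)
    rw [h1, h3, h2, Groth.Agent.VerlindeC52.prod_stdAddChar]
    rw [show (fun i : Fin r => (((μ i : ℕ) + (r - 1 - (i : ℕ)) : ℕ) : ℤ)) = fun i => (e i : ℤ) from rfl,
      hres, htr vi e]
    simp only [F, ← hsgn]
    field_simp
  rw [Finset.sum_congr rfl fun μ _ => hterm μ, ← Finset.mul_sum]
  have hbij := Groth.Agent.VerlindeC52.sum_antitone_eq_strictAnti (r := r) (M := k) (L := L) hr (by omega)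
    (fun _ => True) (fun _ => True) (fun _ => Iff.rfl) F
  simp only [and_true] at hbij
  rw [Finset.sum_congr (s₂ := Finset.univ.filter (fun μ : Fin r → Fin k => Antitone μ)) (Finset.ext fun μ => by simp) (fun _ _ => rfl), hbij]
  have hperm := Groth.Agent.VerlindeC52.sum_injective_eq_perm_mul (r := r) (T := Fin L)
    (fun e => F (fun i => (e i : ℕ))) (fun σ e => by
      simp only [F]
      rw [show p (fun i => ((e ∘ σ) i : ℕ)) = p (fun i => (e i : ℕ)) ∘ σ from rfl,
        Groth.Agent.VerlindeC52.zalt_perm, Groth.Agent.VerlindeC52.zalt_perm, mul_mul_mul_comm,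
        Groth.Agent.VerlindeC52.sgn_mul_self, one_mul]) (fun e he => by
      have : ¬ Function.Injective (p (fun i => (e i : ℕ))) := fun h => he fun a b hab =>
        h (by simp [hp, Groth.Agent.VerlindeC52.res, hab])
      simp only [F, Groth.Agent.VerlindeC52.zalt_eq_zero _ _ this, zero_mul])
  have hcb := Groth.Agent.VerlindeC52.sum_det_mul_det (r := r) (T := Fin L)
    (fun i t => ZMod.stdAddChar ((vi i : ZMod (r + k)) * ((t : ℕ) : ZMod (r + k))))
    (fun i t => ZMod.stdAddChar (((-vi i : ℤ) : ZMod (r + k)) * ((t : ℕ) : ZMod (r + k))))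
  set u : Fin r → ℂ := fun i => ZMod.stdAddChar (((vi i : ℤ) : ZMod (r + k)) * (L : ZMod (r + k))) with hu
  set w : Fin r → ℂ := fun i => ZMod.stdAddChar (((-vi i : ℤ) : ZMod (r + k)) * (L : ZMod (r + k))) with hw
  have hK : (Matrix.of fun i l : Fin r => ∑ t : Fin L,
      ZMod.stdAddChar ((vi i : ZMod (r + k)) * ((t : ℕ) : ZMod (r + k))) *
        ZMod.stdAddChar (((-vi l : ℤ) : ZMod (r + k)) * ((t : ℕ) : ZMod (r + k)))) =
      Matrix.of fun i l : Fin r => (if i = l then ((r + k : ℕ) : ℂ) else 0) - u i * w l := by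
    ext i l
    simp only [Matrix.of_apply, hu, hw, ← AddChar.map_add_eq_mul, ← add_mul, ← Int.cast_add]
    set a : ZMod (r + k) := ((vi i + -vi l : ℤ) : ZMod (r + k)) with ha
    have hbij' : Function.Bijective (fun t : Fin (L + 1) => ((t : ℕ) : ZMod (r + k))) := by
      rw [Fintype.bijective_iff_injective_and_card]
      refine ⟨fun a b h => Fin.ext ?_, by simp [hL]⟩
      have := congrArg ZMod.val h
      have := a.isLt; have := b.isLt
      simp only [ZMod.val_natCast] at *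
      rwa [Nat.mod_eq_of_lt (by omega), Nat.mod_eq_of_lt (by omega)] at *
    have hall := (Equiv.ofBijective _ hbij').sum_comp (fun t => ZMod.stdAddChar (a * t))
    rw [Groth.Agent.VerlindeC52.sum_stdAddChar, Fin.sum_univ_castSucc] at hall
    simp only [Equiv.ofBijective_apply, Fin.val_castSucc, Fin.val_last] at hall
    rw [eq_sub_iff_add_eq, hall]
    refine if_congr ?_ rfl rfl
    constructor
    · intro h0
      rw [ha, Int.cast_add, Int.cast_neg, ← sub_eq_add_neg, sub_eq_zero] at h0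
      exact Groth.Agent.VerlindeC52.res_injective v hv.injective hvlt (by simpa [hvi, Groth.Agent.VerlindeC52.res] using h0)
    · rintro rfl; simp [ha]
  rw [hK, Groth.Agent.VerlindeC52.det_smul_one_sub hr u w (fun i => by
    simp only [hu, hw, ← AddChar.map_add_eq_mul, ← add_mul, ← Int.cast_add]; simp)
    ((r + k : ℕ) : ℂ) (Nat.cast_ne_zero.mpr (by omega))] at hcb
  have hsum : ∑ e : Fin r → Fin L, F (fun i => (e i : ℕ)) =
      (r.factorial : ℂ) * (((r + k : ℕ) : ℂ) ^ (r - 1) * (((r + k : ℕ) : ℂ) - r)) := by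
    rw [← hcb]; rfl
  rw [hperm] at hsum
  have hX := mul_left_cancel₀ (Nat.cast_ne_zero.mpr r.factorial_ne_zero) hsum
  rw [show (Finset.univ.filter fun e : Fin r → Fin L => StrictAnti e).sum (fun e => F (fun i => (e i : ℕ))) = _ from hX]
  have hvd := Groth.Agent.VerlindeC52.stair_vdm (N := r + k) v
  rw [← hD, ← hsgn] at hvd
  push_cast at hvd ⊢
  rw [hvd]
  have hs : sgn * sgn = 1 := Groth.Agent.VerlindeC52.sgn_mul_self _
  have hs0 : sgn ≠ 0 := fun h => by rw [h, mul_zero] at hs; exact zero_ne_one hs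
  have hexp : Complex.exp (2 * Real.pi * Complex.I * (L : ℂ) * (∑ j, (v j : ℂ)) / ((r : ℂ) + k)) *
      Complex.exp (-(2 * Real.pi * Complex.I * ((r - 1 : ℕ) : ℂ) * (∑ j, (v j : ℂ)) / ((r : ℂ) + k))) =
      Complex.exp (2 * Real.pi * Complex.I * (k : ℂ) * (∑ j, (v j : ℂ)) / ((r : ℂ) + k)) := by
    rw [← Complex.exp_add]
    congr 1
    have : (L : ℂ) = ((r - 1 : ℕ) : ℂ) + k := by
      rw [← Nat.cast_add]; congr 1; omega
    rw [this]; ring
  rw [← hexp]
  field_simp
  linear_combination (k : ℂ) * ((r : ℂ) + k) ^ (r - 1) * hs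

end Groth.Agent.S18377
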