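import Groth.Statements.S18378
import Groth.Agent.VerlindeC52.Schur
import Groth.Agent.VerlindeC52.Staircase

set_option autoImplicit false
open Complex
open VerlindeComb

namespace Groth.Agent.S18378

/-- Let r, k ≥ 1 be integers and v, v' two integer vectors with r + k > v_1 > ⋯ > v_r ≥ 0 and r + k >
v'_1 > ⋯ > v'_r ≥ 0 whose difference v - v' is not a constant vector (a, …, a). Put z_j = exp(2πi
v_j / (r + k)), z'_j = exp(2πi v'_j / (r + k)), let S_μ(w) = det(w_j^{μ_i + r - i}) / det(w_j^{r -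
i}) be the Schur value at w = z or z', and write |x| for the sum of the coordinates of a vector and
μ* = (k - μ_r, …, k - μ_1). Then the sum over all μ with k ≥ μ_1 ≥ ⋯ ≥ μ_{r-1} ≥ μ_r = 0 of exp(-2πi
|μ| |v| / (r (r + k))) · exp(-2πi |μ*| |v'| / (r (r + k))) · S_μ(z) · S_{μ*}(z') is zero. The
vanishing is the orthogonality of distinct characters and holds exactly for non-equivalent v, v';
for v - v' constant the sum is nonzero. Indices are 0-based below: μ i stands for μ_{i+1}. -/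
theorem result (r k : ℕ) (hr : 1 ≤ r)
    (hk : 1 ≤ k) (v v' : Fin r → ℕ) (hv : StrictAnti v) (hvlt : ∀ i, v i < r + k) (hv' : StrictAnti v')
    (hv'lt : ∀ i, v' i < r + k) (hne : ¬ ∃ a : ℤ, ∀ i, (v i : ℤ) - (v' i : ℤ) = a)
    (z z' : Fin r → ℂ) (hz : ∀ j, z j = Complex.exp (2 * Real.pi * Complex.I * (v j : ℂ) / ((r : ℂ) + k)))
    (hz' : ∀ j, z' j = Complex.exp (2 * Real.pi * Complex.I * (v' j : ℂ) / ((r : ℂ) + k)))
    (S S' : (Fin r → ℕ) → ℂ)
    (hS : ∀ μ : Fin r → ℕ, S μ =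
      (Matrix.of fun i j : Fin r => z j ^ (μ i + (r - 1 - (i : ℕ)))).det /
        (Matrix.of fun i j : Fin r => z j ^ (r - 1 - (i : ℕ))).det)
    (hS' : ∀ μ : Fin r → ℕ, S' μ =
      (Matrix.of fun i j : Fin r => z' j ^ (μ i + (r - 1 - (i : ℕ)))).det /
        (Matrix.of fun i j : Fin r => z' j ^ (r - 1 - (i : ℕ))).det) :
    (∑ μ ∈ (Finset.univ : Finset (Fin r → Fin (k + 1))).filter
        (fun μ : Fin r → Fin (k + 1) => Antitone μ ∧ ∀ i : Fin r, (i : ℕ) = r - 1 → (μ i : ℕ) = 0),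
      Complex.exp (-(2 * Real.pi * Complex.I * ((∑ i, (μ i : ℕ) : ℕ) : ℂ) * ((∑ j, v j : ℕ) : ℂ) /
          ((r : ℂ) * ((r : ℂ) + k)))) *
      Complex.exp (-(2 * Real.pi * Complex.I * ((∑ i, (k - (μ (Fin.rev i) : ℕ)) : ℕ) : ℂ) *
          ((∑ j, v' j : ℕ) : ℂ) / ((r : ℂ) * ((r : ℂ) + k)))) *
      S (fun i => (μ i : ℕ)) * S' (fun i => k - (μ (Fin.rev i) : ℕ))) = 0 := by
  classical
  haveI : NeZero (r + k) := ⟨by omega⟩
  set sgn : ℂ := ((Equiv.Perm.sign (Fin.revPerm (n := r)) : ℤ) : ℂ) with hsgn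
  set A : Fin r → ℤ := fun i => (v i : ℤ) with hA
  set B : Fin r → ℤ := fun i => -(v' (Fin.rev i) : ℤ) with hB
  set D : ℂ := Groth.Agent.VerlindeC52.zalt (N := r + k) (Groth.Agent.VerlindeC52.stair r)
    (Groth.Agent.VerlindeC52.res (r + k) v) with hD
  set D' : ℂ := Groth.Agent.VerlindeC52.zalt (N := r + k) (Groth.Agent.VerlindeC52.stair r)
    (Groth.Agent.VerlindeC52.res (r + k) v') with hD'
  have hDne : D ≠ 0 := Groth.Agent.VerlindeC52.zalt_stair_ne_zero _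
    (Groth.Agent.VerlindeC52.res_injective v hv.injective hvlt)
  have hDne' : D' ≠ 0 := Groth.Agent.VerlindeC52.zalt_stair_ne_zero _
    (Groth.Agent.VerlindeC52.res_injective v' hv'.injective hv'lt)
  obtain ⟨L, hL⟩ : ∃ L, L + 1 = r + k := ⟨r + k - 1, by omega⟩
  set T : (Fin r → ℕ) → ℂ := fun e =>
    Groth.Agent.VerlindeC52.twist (N := r + k) A B (fun j => (e j : ℤ)) with hT
  set dd : ℕ := ∑ i : Fin r, (r - 1 - (i : ℕ)) with hdd
  set K : ℂ := Complex.exp (2 * Real.pi * Complex.I * (((r - 1 : ℕ) : ℂ) * ((∑ j, v' j : ℕ) : ℂ) / ((r : ℂ) + k) +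
    (dd : ℂ) * (((∑ j, v j : ℕ) : ℂ) - ((∑ j, v' j : ℕ) : ℂ)) / ((r : ℂ) * ((r : ℂ) + k)))) / (D * D') with hK
  have hterm : ∀ μ : Fin r → Fin (k + 1),
      Complex.exp (-(2 * Real.pi * Complex.I * ((∑ i, (μ i : ℕ) : ℕ) : ℂ) * ((∑ j, v j : ℕ) : ℂ) /
          ((r : ℂ) * ((r : ℂ) + k)))) *
        Complex.exp (-(2 * Real.pi * Complex.I * ((∑ i, (k - (μ (Fin.rev i) : ℕ)) : ℕ) : ℂ) *
          ((∑ j, v' j : ℕ) : ℂ) / ((r : ℂ) * ((r : ℂ) + k)))) *
        S (fun i => (μ i : ℕ)) * S' (fun i => k - (μ (Fin.rev i) : ℕ)) =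
        K * T (fun i => (μ i : ℕ) + (r - 1 - (i : ℕ))) := by
    intro μ
    rw [hS, hS', Groth.Agent.VerlindeC52.det_stair_eq_zalt v z hz,
      Groth.Agent.VerlindeC52.det_stair_eq_zalt v' z' hz',
      Groth.Agent.VerlindeC52.det_pow_eq_zalt _ v z hz, Groth.Agent.VerlindeC52.det_pow_eq_zalt _ v' z' hz', ← hD, ← hD']
    set e : Fin r → ℕ := fun i => (μ i : ℕ) + (r - 1 - (i : ℕ)) with he
    have h1 : (fun i : Fin r => ((k - (μ (Fin.rev i) : ℕ) + (r - 1 - (i : ℕ)) : ℕ) : ℤ)) =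
        fun i => (L : ℤ) - (e (Fin.rev i) : ℤ) := by
      funext i
      have := (μ (Fin.rev i)).isLt; have := i.isLt
      simp only [he, Fin.val_rev]
      omega
    have hza : Groth.Agent.VerlindeC52.zalt (fun i => (e i : ℤ)) (Groth.Agent.VerlindeC52.res (r + k) v) =
        Groth.Agent.VerlindeC52.zalt A (fun j => (((e j : ℤ)) : ZMod (r + k))) := by
      unfold Groth.Agent.VerlindeC52.zalt
      rw [← Matrix.det_transpose]
      congr 1
      ext i j
      simp [Matrix.transpose_apply, Groth.Agent.VerlindeC52.res, hA, mul_comm]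
    have hzb : Groth.Agent.VerlindeC52.zalt B (fun j => (((e j : ℤ)) : ZMod (r + k))) =
        sgn * Groth.Agent.VerlindeC52.zalt (fun i => -(e i : ℤ)) (Groth.Agent.VerlindeC52.res (r + k) v') := by
      rw [hB, Groth.Agent.VerlindeC52.zalt_rev (fun i => -(v' i : ℤ)), ← hsgn]
      congr 1
      unfold Groth.Agent.VerlindeC52.zalt
      rw [← Matrix.det_transpose]
      congr 1
      ext i j
      simp [Matrix.transpose_apply, Groth.Agent.VerlindeC52.res, mul_comm]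
    have h3 := Groth.Agent.VerlindeC52.zalt_rev_const (fun i => (e i : ℤ)) (L : ℤ) (Groth.Agent.VerlindeC52.res (r + k) v')
    rw [h1, h3, Groth.Agent.VerlindeC52.prod_stdAddChar,
      show (fun i : Fin r => (((μ i : ℕ) + (r - 1 - (i : ℕ)) : ℕ) : ℤ)) = fun i => (e i : ℤ) from rfl, hza]
    simp only [hT, Groth.Agent.VerlindeC52.twist]
    rw [hzb, hK, ← hsgn]
    have hSB : ((∑ i, A i + ∑ i, B i : ℤ) : ℂ) = ((∑ j, v j : ℕ) : ℂ) - ((∑ j, v' j : ℕ) : ℂ) := by
      have : ∑ i, B i = -((∑ j, v' j : ℕ) : ℤ) := by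
        simp only [hB, Finset.sum_neg_distrib, Nat.cast_sum]
        rw [show (∑ x : Fin r, (v' (Fin.rev x) : ℤ)) = ∑ x : Fin r, (v' x : ℤ) from
          Equiv.sum_comp Fin.revPerm (fun i => (v' i : ℤ))]
      rw [this]; simp [hA, sub_eq_add_neg]
    have hse : ((∑ j, (e j : ℤ) : ℤ) : ℂ) = ((∑ i, (μ i : ℕ) : ℕ) : ℂ) + (dd : ℂ) := by
      simp [he, hdd, Finset.sum_add_distrib]
    have hsk : ((∑ i, (k - (μ (Fin.rev i) : ℕ)) : ℕ) : ℂ) = (r : ℂ) * k - ((∑ i, (μ i : ℕ) : ℕ) : ℂ) := by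
      have h4 : (∑ i, (k - (μ (Fin.rev i) : ℕ))) + ∑ i, (μ i : ℕ) = r * k := by
        rw [show (∑ i, (μ i : ℕ)) = ∑ i, (μ (Fin.rev i) : ℕ) from
          (Equiv.sum_comp Fin.revPerm (fun i => (μ i : ℕ))).symm, ← Finset.sum_add_distrib,
          Finset.sum_congr rfl (fun i _ => Nat.sub_add_cancel (Nat.lt_succ_iff.mp (μ (Fin.rev i)).isLt))]
        simp
      rw [eq_sub_iff_add_eq]
      exact_mod_cast h4
    rw [hSB, hse, hsk]
    set P : ℂ := ((∑ i, (μ i : ℕ) : ℕ) : ℂ) with hPdef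
    set a : ℂ := ((∑ j, v j : ℕ) : ℂ) with hadef
    set b : ℂ := ((∑ j, v' j : ℕ) : ℂ) with hbdef
    have hrc : (r : ℂ) ≠ 0 := Nat.cast_ne_zero.mpr (by omega)
    have hnc : (r : ℂ) + k ≠ 0 := by exact_mod_cast (show r + k ≠ 0 by omega)
    have hLc : ((L : ℤ) : ℂ) = ((r - 1 : ℕ) : ℂ) + k := by
      rw [Int.cast_natCast, ← Nat.cast_add]; congr 1; omega
    have hexp : Complex.exp (-(2 * Real.pi * Complex.I * P * a / ((r : ℂ) * ((r : ℂ) + k)))) *
        Complex.exp (-(2 * Real.pi * Complex.I * ((r : ℂ) * k - P) * b / ((r : ℂ) * ((r : ℂ) + k)))) *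
        Complex.exp (2 * Real.pi * Complex.I * ((L : ℤ) : ℂ) * b / ((r + k : ℕ) : ℂ)) =
        Complex.exp (2 * Real.pi * Complex.I * (((r - 1 : ℕ) : ℂ) * b / ((r : ℂ) + k) +
          (dd : ℂ) * (a - b) / ((r : ℂ) * ((r : ℂ) + k)))) *
        Complex.exp (-(2 * Real.pi * Complex.I * (a - b) * (P + (dd : ℂ)) / ((r : ℂ) * ((r + k : ℕ) : ℂ)))) := by
      rw [← Complex.exp_add, ← Complex.exp_add, ← Complex.exp_add, hLc]
      congr 1
      push_cast
      field_simp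
      ring
    linear_combination (sgn / (D * D') * Groth.Agent.VerlindeC52.zalt A (fun j => (((e j : ℤ)) : ZMod (r + k))) *
      Groth.Agent.VerlindeC52.zalt (fun i => -(e i : ℤ)) (Groth.Agent.VerlindeC52.res (r + k) v')) * hexp
  rw [Finset.sum_congr rfl fun μ _ => hterm μ, ← Finset.mul_sum]
  refine mul_eq_zero_of_right _ ?_
  have hbij := Groth.Agent.VerlindeC52.sum_antitone_eq_strictAnti (r := r) (M := k + 1) (L := r + k) hr (by omega)
    (fun μ => ∀ i : Fin r, (i : ℕ) = r - 1 → μ i = 0) (fun e => ∀ i : Fin r, (i : ℕ) = r - 1 → e i = 0)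
    (fun μ => by
      constructor
      · intro h i hi; show μ i + _ = 0; rw [h i hi, hi]; simp
      · intro h i hi; have := h i hi; simp only at this; omega) T
  refine Eq.trans (Finset.sum_congr (Finset.ext fun μ => ?_) (fun _ _ => rfl)) (hbij.trans ?_)
  · simp only [Finset.mem_filter]
  rw [Finset.sum_congr (s₂ := Groth.Agent.VerlindeC52.alcove r (r + k))
      (Finset.ext fun e => by simp [Groth.Agent.VerlindeC52.mem_alcove]) (fun _ _ => rfl)]
  simp only [hT]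
  refine Groth.Agent.VerlindeC52.sum_twist_eq_zero hr A B ?_ ?_ ?_ ?_ ?_
  · exact fun i j hij => by simp only [hA]; exact_mod_cast hv hij
  · exact fun i j hij => by
      simp only [hB]
      exact neg_lt_neg (by exact_mod_cast hv' (Fin.rev_lt_rev.mpr hij))
  · intro i j; have := hvlt i; simp only [hA]; omega
  · intro i j; have := hv'lt (Fin.rev j); simp only [hB]; omega
  · rintro ⟨c, hc⟩
    apply hne
    refine ⟨c, fun i => ?_⟩
    have := hc i
    simp only [hA, hB, Fin.rev_rev] at this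
    linarith

end Groth.Agent.S18378
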