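import Groth.Statements.S18379
import Groth.Agent.VerlindeC52.Schur

set_option autoImplicit false
open VerlindeComb

namespace Groth.Agent.S18379

/-- Let r, k ≥ 1 be integers. Summing over all integer vectors v with r + k > v_1 > v_2 > ⋯ > v_{r-1} >
v_r = 0, one has Σ_v ∏_{i<j} (2 sin(π (v_i - v_j) / (r + k)))² = r (r + k)^{r-1}; that is, the
genus-zero Verlinde number of rank r and level k with no parabolic points, defined as (r (r +
k)^{r-1})⁻¹ times this sum, equals 1. Indices are 0-based below: v i stands for v_{i+1}. -/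
theorem result (r k : ℕ) (hr : 1 ≤ r) (hk : 1 ≤ k) :
    (∑ v ∈ (Finset.univ : Finset (Fin r → Fin (r + k))).filter
        (fun v : Fin r → Fin (r + k) => StrictAnti v ∧ ∀ i : Fin r, (i : ℕ) = r - 1 → (v i : ℕ) = 0),
      ∏ p ∈ (Finset.univ : Finset (Fin r × Fin r)).filter (fun p => p.1 < p.2),
        ((2 : ℝ) * Real.sin (Real.pi * ((v p.1 : ℕ) - (v p.2 : ℕ) : ℝ) / ((r : ℝ) + k))) ^ 2) =
      (r : ℝ) * ((r : ℝ) + k) ^ (r - 1) := by
  haveI : NeZero (r + k) := ⟨by omega⟩
  have h := Groth.Agent.VerlindeC52.alcove_mul_eq (N := r + k) (Groth.Agent.VerlindeC52.stair r)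
    (fun i => - Groth.Agent.VerlindeC52.stair r i) (by simp) hr
  have hm : (Matrix.of fun i l : Fin r =>
      if ((Groth.Agent.VerlindeC52.stair r i + -Groth.Agent.VerlindeC52.stair r l : ℤ) : ZMod (r + k)) = 0
      then ((r + k : ℕ) : ℂ) else 0) = Matrix.diagonal (fun _ => ((r + k : ℕ) : ℂ)) := by
    ext i l
    rw [Matrix.of_apply, Matrix.diagonal_apply]
    refine if_congr ?_ rfl rfl
    constructor
    · intro h0
      obtain ⟨m, hm⟩ := (ZMod.intCast_zmod_eq_zero_iff_dvd _ _).mp h0
      simp only [Groth.Agent.VerlindeC52.stair] at hm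
      have := i.isLt; have := l.isLt
      have hm0 : m = 0 := by
        by_contra hne
        rcases lt_or_gt_of_ne hne with h3 | h3
        · have : ((r + k : ℕ) : ℤ) * m ≤ -((r + k : ℕ) : ℤ) := by nlinarith
          omega
        · have : ((r + k : ℕ) : ℤ) * 1 ≤ ((r + k : ℕ) : ℤ) * m := by nlinarith
          omega
      subst hm0
      apply Fin.ext; omega
    · rintro rfl; simp
  rw [hm, Matrix.det_diagonal, Finset.prod_const, Finset.card_univ, Fintype.card_fin] at h
  apply Complex.ofReal_injective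
  rw [Complex.ofReal_sum]
  have hN : ((r + k : ℕ) : ℂ) ≠ 0 := Nat.cast_ne_zero.mpr (by omega)
  obtain ⟨q, rfl⟩ := Nat.exists_eq_add_of_le' hr
  apply mul_left_cancel₀ hN
  refine Eq.trans (congrArg _ (Finset.sum_congr (Finset.ext fun v => by
    simp [Groth.Agent.VerlindeC52.mem_alcove]) fun v _ => ?_)) (h.trans ?_)
  · have e := Groth.Agent.VerlindeC52.vdm_eq (N := q + 1 + k) (fun j => ((v j : ℕ)))
    push_cast at e ⊢
    exact e.symm
  · push_cast
    ring

end Groth.Agent.S18379
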