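import Groth.Statements.S18381
import Groth.Agent.S18377

set_option autoImplicit false
open Complex
open VerlindeComb

namespace Groth.Agent.S18381

/-- Fix integers r, k ≥ 1. For g ≥ 0, d ∈ ℤ and parabolic data ω given by a finite family of partitions
λ_x with k ≥ λ_{x,1} ≥ ⋯ ≥ λ_{x,r} ≥ 0, write |ω| = Σ_x |λ_x|, z(v)_j = exp(2πi v_j / (r + k)),
S_λ(v) = det(z(v)_j^{λ_i + r - i}) / det(z(v)_j^{r - i}) (Schur value), P(v) = ∏_{i<j} (2 sin(π (v_i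
- v_j)/(r + k)))², and let V_g(r, d, ω) = (-1)^{d(r-1)} (k/r)^g (r (r+k)^{r-1})^{g-1} Σ_v exp(2πi
(d/r - |ω| / (r (r+k))) Σ_j v_j) · ∏_x S_{λ_x}(v) / P(v)^{g-1}, the sum over integer vectors r + k >
v_1 > ⋯ > v_{r-1} > v_r = 0 (the right-hand side of the Verlinde formula; it depends on ω only
through |ω| and the function v ↦ ∏_x S_{λ_x}(v), and is written that way below, with (r
(r+k)^{r-1})^{g-1} as the g-th power divided once and 1/P^{g-1} as P/P^g). Then V_{g+1}(r, d, ω) =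
Σ_μ V_g(r, d, ω^μ), the sum over all μ with k > μ_1 ≥ ⋯ ≥ μ_r ≥ 0, where ω^μ adjoins to ω the two
partitions μ and μ* = (k - μ_r, …, k - μ_1). Indices are 0-based below. -/
theorem result (r k : ℕ) (hr : 1 ≤ r) (hk : 1 ≤ k)
    (g : ℕ) (d : ℤ) (ι : Type) [Fintype ι] (lam : ι → Fin r → ℕ)
    (hlam : ∀ x, Antitone (lam x) ∧ ∀ i, lam x i ≤ k)
    (z : (Fin r → ℕ) → Fin r → ℂ)
    (hz : ∀ v j, z v j = Complex.exp (2 * Real.pi * Complex.I * (v j : ℂ) / ((r : ℂ) + k)))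
    (S : (Fin r → ℕ) → (Fin r → ℕ) → ℂ)
    (hS : ∀ μ v, S μ v = (Matrix.of fun i j : Fin r => z v j ^ (μ i + (r - 1 - (i : ℕ)))).det /
        (Matrix.of fun i j : Fin r => z v j ^ (r - 1 - (i : ℕ))).det)
    (P : (Fin r → ℕ) → ℝ)
    (hP : ∀ v, P v = ∏ p ∈ (Finset.univ : Finset (Fin r × Fin r)).filter (fun p => p.1 < p.2),
        ((2 : ℝ) * Real.sin (Real.pi * ((v p.1 : ℝ) - (v p.2 : ℝ)) / ((r : ℝ) + k))) ^ 2)
    (V : ℕ → ℤ → ℕ → ((Fin r → ℕ) → ℂ) → ℂ)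
    (hV : ∀ (g' : ℕ) (d' : ℤ) (w : ℕ) (Sω : (Fin r → ℕ) → ℂ), V g' d' w Sω =
        (-1 : ℂ) ^ (d' * ((r : ℤ) - 1)) * ((k : ℂ) / r) ^ g' *
          ((((r : ℂ) * ((r : ℂ) + k) ^ (r - 1)) ^ g') / ((r : ℂ) * ((r : ℂ) + k) ^ (r - 1))) *
          ∑ v ∈ (Finset.univ : Finset (Fin r → Fin (r + k))).filter
            (fun v : Fin r → Fin (r + k) => StrictAnti v ∧ ∀ i : Fin r, (i : ℕ) = r - 1 → (v i : ℕ) = 0),
            Complex.exp (2 * Real.pi * Complex.I * ((d' : ℂ) / r - (w : ℂ) / ((r : ℂ) * ((r : ℂ) + k))) *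
                ((∑ j, (v j : ℕ) : ℕ) : ℂ)) *
              Sω (fun j => (v j : ℕ)) *
              (((P (fun j => (v j : ℕ)) : ℂ)) / ((P (fun j => (v j : ℕ)) : ℂ)) ^ g')) :
    V (g + 1) d (∑ x, ∑ i, lam x i) (fun v => ∏ x, S (lam x) v) =
      ∑ μ ∈ (Finset.univ : Finset (Fin r → Fin k)).filter (fun μ : Fin r → Fin k => Antitone μ),
        V g d ((∑ x, ∑ i, lam x i) + (∑ i, (μ i : ℕ)) + (∑ i, (k - (μ (Fin.rev i) : ℕ))))
          (fun v => (∏ x, S (lam x) v) * S (fun i => (μ i : ℕ)) v *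
            S (fun i => k - (μ (Fin.rev i) : ℕ)) v) := by
  classical
  haveI : NeZero (r + k) := ⟨by omega⟩
  rw [hV]
  simp only [hV]
  conv_rhs => rw [← Finset.mul_sum, Finset.sum_comm]
  rw [Finset.mul_sum, Finset.mul_sum]
  refine Finset.sum_congr rfl fun v hv => ?_
  set w : Fin r → ℕ := fun j => (v j : ℕ) with hw
  have hanti : StrictAnti w := fun a b h => (Finset.mem_filter.mp hv).2.1 h
  have key := Groth.Agent.S18377.result r k hr hk w hanti (fun i => (v i).isLt) (z w) (hz w) (fun μ => S μ w) (fun μ => hS μ w)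
  set Pv : ℂ := ((P w : ℝ) : ℂ) with hPv
  have hPne : Pv ≠ 0 := by
    rw [hPv, Complex.ofReal_ne_zero, hP]
    refine Finset.prod_ne_zero_iff.mpr fun p hp => pow_ne_zero 2 (mul_ne_zero two_ne_zero ?_)
    rw [Real.sin_ne_zero_iff]
    intro n hn
    have hlt : w p.2 < w p.1 := hanti (Finset.mem_filter.mp hp).2
    have hN : ((r : ℝ) + k) ≠ 0 := by
      exact_mod_cast (show r + k ≠ 0 by omega)
    field_simp at hn
    have h2 : ((n * ((r : ℤ) + k) : ℤ) : ℝ) = (((w p.1 : ℤ) - (w p.2 : ℤ) : ℤ) : ℝ) := by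
      push_cast; linarith
    have h3 : n * ((r : ℤ) + k) = (w p.1 : ℤ) - (w p.2 : ℤ) := by exact_mod_cast h2
    have hb : w p.1 < r + k := (v p.1).isLt
    rcases lt_trichotomy n 0 with hn' | hn' | hn'
    · nlinarith
    · subst hn'; omega
    · nlinarith
  rw [← Complex.ofReal_prod, ← hP w, ← hPv] at key
  have hsplit : ∀ μ ∈ (Finset.univ : Finset (Fin r → Fin k)).filter (fun μ : Fin r → Fin k => Antitone μ),
      Complex.exp (2 * Real.pi * Complex.I * ((d : ℂ) / r -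
          (((∑ x, ∑ i, lam x i) + (∑ i, (μ i : ℕ)) + (∑ i, (k - (μ (Fin.rev i) : ℕ))) : ℕ) : ℂ) / ((r : ℂ) * ((r : ℂ) + k))) *
            ((∑ j, (v j : ℕ) : ℕ) : ℂ)) *
          ((∏ x, S (lam x) w) * S (fun i => (μ i : ℕ)) w * S (fun i => k - (μ (Fin.rev i) : ℕ)) w) * (Pv / Pv ^ g) =
      (Complex.exp (2 * Real.pi * Complex.I * ((d : ℂ) / r - ((∑ x, ∑ i, lam x i : ℕ) : ℂ) / ((r : ℂ) * ((r : ℂ) + k))) *
            ((∑ j, (v j : ℕ) : ℕ) : ℂ)) *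
          Complex.exp (-(2 * Real.pi * Complex.I * (k : ℂ) * ((∑ j, w j : ℕ) : ℂ) / ((r : ℂ) + k))) *
          (∏ x, S (lam x) w) * (Pv / Pv ^ g)) *
        (S (fun i => (μ i : ℕ)) w * S (fun i => k - (μ (Fin.rev i) : ℕ)) w) := by
    intro μ _
    have hsum : (∑ i, (μ i : ℕ)) + (∑ i, (k - (μ (Fin.rev i) : ℕ))) = r * k := by
      rw [show (∑ i, (μ i : ℕ)) = ∑ i, (μ (Fin.rev i) : ℕ) from
        (Equiv.sum_comp Fin.revPerm (fun i => (μ i : ℕ))).symm, ← Finset.sum_add_distrib,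
        Finset.sum_congr rfl (fun i _ => Nat.add_sub_cancel' (μ (Fin.rev i)).isLt.le)]
      simp
    rw [add_assoc, hsum, ← Complex.exp_add]
    have hr0 : (r : ℂ) ≠ 0 := Nat.cast_ne_zero.mpr (by omega)
    have hN : (r : ℂ) + k ≠ 0 := by exact_mod_cast (show r + k ≠ 0 by omega)
    have he : 2 * (Real.pi : ℂ) * Complex.I * ((d : ℂ) / r - ((((∑ x, ∑ i, lam x i) + r * k : ℕ)) : ℂ) / ((r : ℂ) * ((r : ℂ) + k))) * ((∑ j, w j : ℕ) : ℂ) =
        2 * Real.pi * Complex.I * ((d : ℂ) / r - ((∑ x, ∑ i, lam x i : ℕ) : ℂ) / ((r : ℂ) * ((r : ℂ) + k))) * ((∑ j, w j : ℕ) : ℂ) +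
          -(2 * Real.pi * Complex.I * (k : ℂ) * ((∑ j, w j : ℕ) : ℂ) / ((r : ℂ) + k)) := by
      rw [Nat.cast_add, Nat.cast_mul]
      field_simp
      ring
    rw [he]
    ring
  rw [Finset.sum_congr rfl hsplit, ← Finset.mul_sum, key]
  have hr0 : (r : ℂ) ≠ 0 := Nat.cast_ne_zero.mpr (by omega)
  have hN : (r : ℂ) + k ≠ 0 := by exact_mod_cast (show r + k ≠ 0 by omega)
  have hee : Complex.exp (-(2 * Real.pi * Complex.I * (k : ℂ) * ((∑ j, w j : ℕ) : ℂ) / ((r : ℂ) + k))) *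
      Complex.exp (2 * Real.pi * Complex.I * (k : ℂ) * ((∑ j, w j : ℕ) : ℂ) / ((r : ℂ) + k)) = 1 := by
    rw [← Complex.exp_add, neg_add_cancel, Complex.exp_zero]
  set E : ℂ := Complex.exp (2 * Real.pi * Complex.I * ((d : ℂ) / r - ((∑ x, ∑ i, lam x i : ℕ) : ℂ) / ((r : ℂ) * ((r : ℂ) + k))) *
      ((∑ j, (v j : ℕ) : ℕ) : ℂ)) with hE
  rw [pow_succ ((k : ℂ) / r), pow_succ ((r : ℂ) * ((r : ℂ) + k) ^ (r - 1)), pow_succ Pv]
  generalize Complex.exp (-(2 * Real.pi * Complex.I * (k : ℂ) * ((∑ j, w j : ℕ) : ℂ) / ((r : ℂ) + k))) = ea at hee ⊢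
  generalize Complex.exp (2 * Real.pi * Complex.I * (k : ℂ) * ((∑ j, w j : ℕ) : ℂ) / ((r : ℂ) + k)) = eb at hee ⊢
  have hM : (r : ℂ) * ((r : ℂ) + k) ^ (r - 1) ≠ 0 := mul_ne_zero hr0 (pow_ne_zero _ hN)
  field_simp
  linear_combination (-((k : ℂ) * ((k : ℂ) / r) ^ g * E * ∏ x, S (lam x) w)) * hee

end Groth.Agent.S18381
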