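import Groth.Statements.S18384
import Groth.Agent.QC70.StalkLoc
import Mathlib.RingTheory.Filtration
import Mathlib.AlgebraicGeometry.Morphisms.ClosedImmersion

set_option autoImplicit false
set_option maxSynthPendingDepth 6
set_option linter.style.haveILetI false
set_option backward.isDefEq.respectTransparency.types false
universe u
open CategoryTheory CategoryTheory.Limits AlgebraicGeometry
open Coherent

namespace Groth.Agent.S18384

open TopologicalSpace Opposite
open Groth.Agent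

variable {X S : Scheme.{u}}

theorem appLE_of_affine {V : S.Opens} (hV : IsAffineOpen V) {R : CommRingCat.{u}} (q : Γ(S, V) ⟶ R)
    (e : (⊤ : (Spec R).Opens) ≤ (Spec.map q ≫ hV.fromSpec) ⁻¹ᵁ V) :
    (Spec.map q ≫ hV.fromSpec).appLE V ⊤ e = q ≫ (Scheme.ΓSpecIso R).inv := by
  rw [Scheme.Hom.comp_appLE, IsAffineOpen.fromSpec_app_self, Category.assoc, Scheme.Hom.map_appLE]
  show (Scheme.ΓSpecIso Γ(S, V)).inv ≫ (Spec.map q).appLE ⊤ ⊤ le_top = _
  rw [show (Spec.map q).appLE ⊤ ⊤ le_top = (Spec.map q).appTop from (Scheme.Hom.app_eq_appLE _).symm,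
    Scheme.ΓSpecIso_inv_naturality]

/-- The germs of the ideal vanish on the fibre. -/
theorem germ_eq_zero [IsLocallyNoetherian X] (p : X ⟶ S) (t : S) (I : X.IdealSheafData)
    (h : ∀ n : ℕ, ∃ g : pullback p (Spec.map (CommRingCat.ofHom (Ideal.Quotient.mk
        (IsLocalRing.maximalIdeal ↑(S.presheaf.stalk t) ^ (n + 1)))) ≫ S.fromSpecStalk t) ⟶ I.subscheme,
        g ≫ I.subschemeι = pullback.fst p _) {x : X} (hx : p x = t) (V : X.affineOpens) (hxV : x ∈ V.1)
    {f : Γ(X, V.1)} (hf : f ∈ I.ideal V) : X.presheaf.germ V.1 x hxV f = 0 := by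
  subst hx
  let O := X.presheaf.stalk x
  let J : Ideal O := (IsLocalRing.maximalIdeal (S.presheaf.stalk (p x))).map (p.stalkMap x).hom
  haveI : IsNoetherianRing O := inferInstanceAs (IsNoetherianRing (X.presheaf.stalk x))
  have hJ : J ≤ IsLocalRing.maximalIdeal O :=
    Ideal.map_le_iff_le_comap.2 fun a ha hu => ha (IsLocalHom.map_nonunit (f := (p.stalkMap x).hom) a hu)
  have key : ∀ n : ℕ, X.presheaf.germ V.1 x hxV f ∈ J ^ (n + 1) := by
    intro n
    obtain ⟨g, hg⟩ := h n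
    let q : O ⟶ CommRingCat.of (O ⧸ J ^ (n + 1)) := CommRingCat.ofHom (Ideal.Quotient.mk _)
    let c : Spec (CommRingCat.of (O ⧸ J ^ (n + 1))) ⟶ X := Spec.map q ≫ X.fromSpecStalk x
    have hle : IsLocalRing.maximalIdeal (S.presheaf.stalk (p x)) ^ (n + 1) ≤
        (J ^ (n + 1)).comap (p.stalkMap x).hom := by
      rw [← Ideal.map_le_iff_le_comap, Ideal.map_pow]
    let b : CommRingCat.of (S.presheaf.stalk (p x) ⧸ IsLocalRing.maximalIdeal (S.presheaf.stalk (p x)) ^ (n + 1)) ⟶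
        CommRingCat.of (O ⧸ J ^ (n + 1)) := CommRingCat.ofHom (Ideal.quotientMap _ (p.stalkMap x).hom hle)
    have hb : CommRingCat.ofHom (Ideal.Quotient.mk _) ≫ b = p.stalkMap x ≫ q := rfl
    let s := pullback.lift (f := p) c (Spec.map b) (by
      rw [Category.assoc, ← Scheme.SpecMap_stalkMap_fromSpecStalk, ← Spec.map_comp_assoc,
        ← Spec.map_comp_assoc, hb])
    have hc : c = (s ≫ g) ≫ I.subschemeι := by rw [Category.assoc, hg, pullback.lift_fst]
    have hker : I ≤ c.ker := by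
      rw [hc]
      exact (Scheme.IdealSheafData.ker_subschemeι I).ge.trans ((s ≫ g).le_ker_comp _)
    have h0 : (c.app V.1).hom f = 0 := c.ideal_ker_le V (hker V hf)
    have hc' : c = Spec.map (X.presheaf.germ V.1 x hxV ≫ q) ≫ V.2.fromSpec := by
      show Spec.map q ≫ X.fromSpecStalk x = _
      rw [← V.2.fromSpecStalk_eq_fromSpecStalk hxV, IsAffineOpen.fromSpecStalk, ← Spec.map_comp_assoc]
    have e : (⊤ : (Spec _).Opens) ≤ (Spec.map (X.presheaf.germ V.1 x hxV ≫ q) ≫ V.2.fromSpec) ⁻¹ᵁ V.1 :=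
      fun z _ => V.2.range_fromSpec.subset ⟨_, rfl⟩
    have h1 : ((Spec.map (X.presheaf.germ V.1 x hxV ≫ q) ≫ V.2.fromSpec).appLE V.1 ⊤ e).hom f = 0 := by
      rw [← hc'] at e
      show _ = _
      simp only [← hc']
      exact (congrArg ((Spec (CommRingCat.of (O ⧸ J ^ (n + 1)))).presheaf.map (homOfLE e).op).hom h0).trans (map_zero _)
    rw [appLE_of_affine V.2] at h1
    have h2 : q (X.presheaf.germ V.1 x hxV f) = 0 :=
      (Scheme.ΓSpecIso (CommRingCat.of (O ⧸ J ^ (n + 1)))).symm.commRingCatIsoToRingEquiv.injective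
        (h1.trans (map_zero _).symm)
    exact Ideal.Quotient.eq_zero_iff_mem.1 h2
  have hmem : X.presheaf.germ V.1 x hxV f ∈ (⨅ n : ℕ, J ^ n : Ideal O) := by
    rw [Submodule.mem_iInf]
    intro n
    exact Ideal.pow_le_pow_right (Nat.le_succ n) (key n)
  rwa [Ideal.iInf_pow_eq_bot_of_isLocalRing J (fun hJ' => Ideal.IsMaximal.ne_top inferInstance
    (top_le_iff.1 (hJ'.ge.trans hJ))), Submodule.mem_bot] at hmem

/-- The ideal vanishes near the fibre. -/
theorem exists_basicOpen_ideal_eq_bot [IsLocallyNoetherian X] (I : X.IdealSheafData) (V : X.affineOpens)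
    {x : X} (hxV : x ∈ V.1) (h : ∀ f ∈ I.ideal V, X.presheaf.germ V.1 x hxV f = 0) :
    ∃ a : Γ(X, V.1), x ∈ X.basicOpen a ∧ I.ideal (X.affineBasicOpen a) = ⊥ := by
  classical
  haveI := IsLocallyNoetherian.component_noetherian V
  obtain ⟨gs, hgs⟩ := (IsNoetherian.noetherian (I.ideal V) : (I.ideal V).FG)
  letI : Algebra Γ(X, V.1) (X.presheaf.stalk x) := (X.presheaf.germ V.1 x hxV).hom.toAlgebra
  haveI : IsLocalization.AtPrime (X.presheaf.stalk x) (V.2.primeIdealOf ⟨x, hxV⟩).asIdeal :=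
    V.2.isLocalization_stalk ⟨x, hxV⟩
  choose c hc using fun g : gs => (IsLocalization.map_eq_zero_iff
    (V.2.primeIdealOf ⟨x, hxV⟩).asIdeal.primeCompl (X.presheaf.stalk x) g.1).1
      (h g.1 (hgs ▸ Ideal.subset_span g.2))
  refine ⟨∏ g, (c g).1, (QC70.mem_basicOpen_iff_primeCompl V.2 hxV _).2
    (Submonoid.prod_mem _ fun g _ => (c g).2), ?_⟩
  rw [← I.map_ideal_basicOpen, ← hgs, Ideal.map_span]
  refine Ideal.span_eq_bot.2 ?_
  rintro _ ⟨g, hg, rfl⟩
  have h0 : (∏ g', (c g').1) * g = 0 := by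
    obtain ⟨d, hd⟩ := Finset.dvd_prod_of_mem (fun g' : gs => (c g').1) (Finset.mem_univ ⟨g, hg⟩)
    rw [hd, mul_right_comm, hc ⟨g, hg⟩, zero_mul]
  have hu : IsUnit ((X.presheaf.map (homOfLE <| X.basicOpen_le (∏ g', (c g').1)).op).hom (∏ g', (c g').1)) :=
    RingedSpace.isUnit_res_basicOpen _ _
  refine hu.mul_right_eq_zero.1 ?_
  rw [← map_mul, h0, map_zero]

/-- Let p : X → S be a morphism of locally Noetherian schemes, t a point of S, m the maximal ideal of
the local ring O_{S,t}, and Z the closed subscheme of X defined by a quasi-coherent ideal I. Suppose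
that for every n ≥ 1 the projection X ×_S Spec(O_{S,t}/m^n) → X factors through Z. Then there is an
open subscheme U of X containing every point of the fibre p⁻¹(t) such that the inclusion U → X
factors through Z. -/
theorem result {X S : Scheme.{u}}
    [IsLocallyNoetherian X] [IsLocallyNoetherian S] (p : X ⟶ S) (t : S) (I : X.IdealSheafData)
    (h : ∀ n : ℕ, ∃ g : pullback p (Spec.map (CommRingCat.ofHom (Ideal.Quotient.mk
        (IsLocalRing.maximalIdeal ↑(S.presheaf.stalk t) ^ (n + 1)))) ≫ S.fromSpecStalk t) ⟶ I.subscheme,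
        g ≫ I.subschemeι = pullback.fst p _) :
    ∃ U : X.Opens, (∀ x : X, p.base x = t → x ∈ U) ∧
      ∃ g : (U : Scheme.{u}) ⟶ I.subscheme, g ≫ I.subschemeι = U.ι := by
  let U : X.Opens := ⨆ (W : X.affineOpens) (_ : I.ideal W = ⊥), W.1
  refine ⟨U, fun x hx => ?_, ?_⟩
  · obtain ⟨_, ⟨V, hV, rfl⟩, hxV, -⟩ :=
      X.isBasis_affineOpens.exists_subset_of_mem_open (Set.mem_univ x) isOpen_univ
    obtain ⟨a, hxa, ha⟩ := exists_basicOpen_ideal_eq_bot I ⟨V, hV⟩ hxV
      fun f hf => germ_eq_zero p t I h hx ⟨V, hV⟩ hxV hf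
    exact Opens.mem_iSup.2 ⟨X.affineBasicOpen a, Opens.mem_iSup.2 ⟨ha, hxa⟩⟩
  · refine ⟨IsClosedImmersion.lift I.subschemeι U.ι ?_, IsClosedImmersion.lift_fac _ _ _⟩
    rw [Scheme.IdealSheafData.ker_subschemeι]
    refine Scheme.IdealSheafData.le_ofIdeals_iff.2 fun V f hf => ?_
    show (U.ι.app V.1).hom f = 0
    apply (U : Scheme.{u}).IsSheaf.section_ext
    intro y hy
    obtain ⟨W, hW⟩ := Opens.mem_iSup.1 y.2
    obtain ⟨hW', hyW⟩ := Opens.mem_iSup.1 hW
    obtain ⟨W₀, hW₀, hyW₀, hle⟩ := exists_isAffineOpen_mem_and_subset (X := X) (x := U.ι y)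
      (U := V.1 ⊓ W.1) ⟨hy, hyW⟩
    have hV₀ : (⟨W₀, hW₀⟩ : X.affineOpens) ≤ V := fun z hz => (hle hz).1
    have hW₁ : (⟨W₀, hW₀⟩ : X.affineOpens) ≤ W := fun z hz => (hle hz).2
    have h0 : X.presheaf.map (homOfLE hV₀).op f = 0 := by
      have hm : X.presheaf.map (homOfLE hV₀).op f ∈ I.ideal ⟨W₀, hW₀⟩ := by
        rw [← I.map_ideal hV₀]; exact Ideal.mem_map_of_mem _ hf
      rw [← I.map_ideal hW₁, hW', Ideal.map_bot] at hm
      exact hm
    refine ⟨U.ι ⁻¹ᵁ W₀, fun z hz => (hle hz).1, hyW₀, ?_⟩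
    rw [map_zero, Scheme.Opens.ι_app]
    refine Eq.trans ?_ ((congrArg (X.presheaf.map (homOfLE (U.ι.image_preimage_le W₀)).op) h0).trans (map_zero _))
    show (X.presheaf.map _ ≫ X.presheaf.map _) f = (X.presheaf.map _ ≫ X.presheaf.map _) f
    rw [← Functor.map_comp, ← Functor.map_comp]
    rfl

end Groth.Agent.S18384
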