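import Groth.Statements.S18389


set_option autoImplicit false
universe u
open LVCorr

namespace Groth.Agent.S18389

open AlgebraicGeometry CategoryTheory in
/-- Let j : C → C̄ be an open immersion with dense image and jX : X → X̄ an open immersion, and let c₁ :
C → X and c̄₁ : C̄ → X̄ satisfy j followed by c̄₁ equals c₁ followed by jX, with c̄₁ separated. Let
U be an open subset of X such that c₁⁻¹(U) is dense in C and the restriction c₁⁻¹(U) → U of c₁ is
proper. Then c̄₁⁻¹(jX(U)) = j(c₁⁻¹(U)) as open subsets of C̄. (In the source all schemes are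
separated of finite type over a field, C̄ and X̄ are compactifications of a correspondence and of X,
so that c̄₁ is automatically separated.) -/
theorem result {C Cb X Xb : Scheme.{u}}
    (j : C ⟶ Cb) [IsOpenImmersion j] (hj : DenseRange j.base)
    (jX : X ⟶ Xb) [IsOpenImmersion jX] (c₁ : C ⟶ X) (cb₁ : Cb ⟶ Xb) [IsSeparated cb₁]
    (h : j ≫ cb₁ = c₁ ≫ jX) (U : X.Opens) (hU : Dense ((c₁ ⁻¹ᵁ U : C.Opens) : Set C))
    [IsProper (c₁ ∣_ U)] :
    cb₁ ⁻¹ᵁ (jX ''ᵁ U) = j ''ᵁ (c₁ ⁻¹ᵁ U) := by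
  have key : ∀ x ∈ c₁ ⁻¹ᵁ U, j.base x ∈ cb₁ ⁻¹ᵁ (jX ''ᵁ U) := by
    intro x hx
    show cb₁.base (j.base x) ∈ jX ''ᵁ U
    rw [← Scheme.Hom.comp_apply, h, Scheme.Hom.comp_apply]
    exact ⟨c₁.base x, hx, rfl⟩
  apply le_antisymm
  swap
  · rintro _ ⟨x, hx, rfl⟩
    exact key x hx
  set W := c₁ ⁻¹ᵁ U with hW
  set V := cb₁ ⁻¹ᵁ (jX ''ᵁ U) with hV
  let ψ : W.toScheme ⟶ V.toScheme := IsOpenImmersion.lift V.ι (W.ι ≫ j) (by
    rintro _ ⟨⟨x, hx⟩, rfl⟩
    rw [Scheme.Opens.range_ι]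
    exact key x hx)
  have hψ : ψ ≫ V.ι = W.ι ≫ j := IsOpenImmersion.lift_fac _ _ _
  have hcomp : ψ ≫ (cb₁ ∣_ (jX ''ᵁ U)) = (c₁ ∣_ U) ≫ (jX.isoImage U).hom := by
    rw [← cancel_mono (jX ''ᵁ U).ι, Category.assoc, Category.assoc, morphismRestrict_ι, Scheme.Hom.isoImage_hom_ι,
      reassoc_of% hψ, morphismRestrict_ι_assoc, h]
  have : IsProper ψ := by
    have : IsProper (ψ ≫ (cb₁ ∣_ (jX ''ᵁ U))) := by rw [hcomp]; infer_instance
    exact IsProper.of_comp ψ (cb₁ ∣_ (jX ''ᵁ U))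
  have hclosed : IsClosed (Set.range ψ.base) := ψ.isClosedMap.isClosed_range
  intro y hy
  have hd : Dense (Set.range (W.ι ≫ j).base) := by
    have e : Set.range (W.ι ≫ j).base = j.base '' (W : Set C) := by
      rw [Scheme.Hom.comp_base, TopCat.coe_comp, Set.range_comp, Scheme.Opens.range_ι]
    rw [e]
    exact hj.dense_image j.continuous hU
  have hd' : Dense (Set.range ψ.base) := by
    have e : Set.range ψ.base = V.ι.base ⁻¹' Set.range (W.ι ≫ j).base := by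
      rw [← hψ, Scheme.Hom.comp_base, TopCat.coe_comp, Set.range_comp, Set.preimage_image_eq _ V.ι.isOpenEmbedding.injective]
    rw [e]
    exact hd.preimage V.ι.isOpenEmbedding.isOpenMap
  obtain ⟨w, hw⟩ : (⟨y, hy⟩ : V) ∈ Set.range ψ.base := by
    rw [← hclosed.closure_eq]; exact hd' _
  refine ⟨W.ι.base w, w.2, ?_⟩
  have := congrArg (fun m : W.toScheme ⟶ Cb => m.base w) hψ
  simp only [Scheme.Hom.comp_apply] at this
  refine Eq.trans this.symm ?_
  rw [hw]
  rfl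

end Groth.Agent.S18389
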