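import Groth.Statements.S18395
import Groth.Agent.LVCorr4.Sep

set_option autoImplicit false
universe u
open LVCorr

namespace Groth.Agent.S18395

open AlgebraicGeometry CategoryTheory in
/-- Let X and C be schemes separated and of finite type over a field k, let c₁, c₂ : C → X be morphisms
over k (a correspondence C → X × X), and fix an open U ⊆ X whose preimage c₁⁻¹(U) forms a dense
subset of C, such that the restriction c₁⁻¹(U) → U of c₁ is proper, and the closed subset Z = X ∖ U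
is locally invariant: every point x of Z has an open neighbourhood U' such that every y in C with
c₂(y) ∈ Z ∩ U' and c₁(y) ∈ U' satisfies c₁(y) ∈ Z. Then the correspondence has a compactification
for which the complement of U is again locally invariant: there are schemes C̄ and X̄ proper over k,
open immersions j : C → C̄ and jX : X → X̄ over k with dense images, and morphisms c̄₁, c̄₂ : C̄ →
X̄ over k with j followed by c̄ᵢ equal to cᵢ followed by jX, such that X̄ ∖ jX(U) is locally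
invariant for (c̄₁, c̄₂) in the same sense. (The source has k algebraically closed.) -/
theorem result {C X : Scheme.{u}} (k : Type u) [Field k]
    (pC : C ⟶ Spec (CommRingCat.of k)) [IsSeparated pC] [QuasiCompact pC] [LocallyOfFiniteType pC]
    (pX : X ⟶ Spec (CommRingCat.of k)) [IsSeparated pX] [QuasiCompact pX] [LocallyOfFiniteType pX]
    (c₁ c₂ : C ⟶ X) (hc₁ : c₁ ≫ pX = pC) (hc₂ : c₂ ≫ pX = pC) (U : X.Opens)
    (hU : Dense ((c₁ ⁻¹ᵁ U : C.Opens) : Set C)) [IsProper (c₁ ∣_ U)]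
    (hZ : ∀ x ∈ ((U : Set X)ᶜ), ∃ U' : Set X, IsOpen U' ∧ x ∈ U' ∧
        ∀ y, c₂.base y ∈ ((U : Set X)ᶜ) → c₂.base y ∈ U' → c₁.base y ∈ U' → c₁.base y ∈ ((U : Set X)ᶜ)) :
    ∃ (Cb Xb : Scheme.{u}) (pCb : Cb ⟶ Spec (CommRingCat.of k)) (pXb : Xb ⟶ Spec (CommRingCat.of k))
      (j : C ⟶ Cb) (jX : X ⟶ Xb) (cb₁ cb₂ : Cb ⟶ Xb),
      IsProper pCb ∧ IsProper pXb ∧ IsOpenImmersion j ∧ IsOpenImmersion jX ∧
      DenseRange j.base ∧ DenseRange jX.base ∧ j ≫ pCb = pC ∧ jX ≫ pXb = pX ∧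
      cb₁ ≫ pXb = pCb ∧ cb₂ ≫ pXb = pCb ∧ j ≫ cb₁ = c₁ ≫ jX ∧ j ≫ cb₂ = c₂ ≫ jX ∧
      ∀ x ∈ ((jX.base '' (U : Set X))ᶜ), ∃ U' : Set Xb, IsOpen U' ∧ x ∈ U' ∧
        ∀ y, cb₂.base y ∈ ((jX.base '' (U : Set X))ᶜ) → cb₂.base y ∈ U' → cb₁.base y ∈ U' → cb₁.base y ∈ ((jX.base '' (U : Set X))ᶜ) := by
  classical
  haveI : IsNoetherian C := LVCorr4.isNoetherian_of_lft pC
  -- the moved part of the correspondence
  let F : Set C := c₁.base ⁻¹' (U : Set X) ∩ c₂.base ⁻¹' ((U : Set X)ᶜ)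
  obtain ⟨S, hSfin, hSF, hScov⟩ : ∃ S : Set C, S.Finite ∧ S ⊆ F ∧ ∀ y ∈ F, ∃ η ∈ S, η ⤳ y := by
    obtain ⟨K, hKfin, hKcl, hKirr, hK⟩ :=
      TopologicalSpace.NoetherianSpace.exists_finite_set_isClosed_irreducible (isClosed_closure (s := F))
    haveI : Finite K := hKfin.to_subtype
    let gp : K → C := fun s => (hKirr _ s.2).genericPoint
    refine ⟨Set.range gp ∩ F, (Set.finite_range gp).inter_of_left _, Set.inter_subset_right, fun y hy => ?_⟩
    obtain ⟨s, hs, hys⟩ := Set.mem_sUnion.1 (hK ▸ subset_closure hy : y ∈ ⋃₀ K)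
    have hg := (hKirr s hs).isGenericPoint_genericPoint (hKcl s hs)
    have hsp : gp ⟨s, hs⟩ ⤳ y := hg.specializes hys
    refine ⟨gp ⟨s, hs⟩, ⟨⟨⟨s, hs⟩, rfl⟩, ?_, ?_⟩, hsp⟩
    · exact hsp.mem_open ((c₁ ⁻¹ᵁ U).2) hy.1
    · have hmem : gp ⟨s, hs⟩ ∈ closure F := by
        rw [hK]; exact Set.mem_sUnion.2 ⟨s, hs, hg.mem⟩
      exact closure_minimal Set.inter_subset_right (U.2.isClosed_compl.preimage c₂.continuous) hmem
  haveI : Finite S := hSfin.to_subtype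
  obtain ⟨Xb, jX, pXb, hpXb, hjX, hjXd, hjXp, hsep⟩ := LVCorr4.exists_compactification_separating k pX
    (fun η : S => closure {c₁.base η.1}) (fun η : S => closure {c₂.base η.1})
    (fun _ => isClosed_closure) (fun _ => isClosed_closure) (fun η => by
      rw [← Set.subset_empty_iff]
      rintro x ⟨hx₁, hx₂⟩
      have hxZ : x ∈ ((U : Set X)ᶜ) :=
        closure_minimal (t := (U : Set X)ᶜ) (Set.singleton_subset_iff.2 (hSF η.2).2) U.2.isClosed_compl hx₂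
      obtain ⟨U', hU'o, hxU', hU'⟩ := hZ x hxZ
      exact hU' η.1 (hSF η.2).2 ((specializes_iff_mem_closure.2 hx₂).mem_open hU'o hxU')
        ((specializes_iff_mem_closure.2 hx₁).mem_open hU'o hxU') (hSF η.2).1)
  haveI := hpXb
  haveI := hjX
  obtain ⟨Cb, pCb, j, cb₁, cb₂, hpCb, hj, hjd, hjp, hb₁, hb₂, hjb₁, hjb₂⟩ :=
    LVCorr4.exists_compactification_pair pC pXb pXb (c₁ ≫ jX) (c₂ ≫ jX)
      (by rw [Category.assoc, hjXp, hc₁]) (by rw [Category.assoc, hjXp, hc₂])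
  refine ⟨Cb, Xb, pCb, pXb, j, jX, cb₁, cb₂, hpCb, hpXb, hj, hjX, hjd, hjXd, hjp, hjXp, hb₁, hb₂, hjb₁, hjb₂, ?_⟩
  haveI := hpCb
  haveI := hj
  -- over `U` nothing is added
  have hover : ∀ y : Cb, cb₁.base y ∈ jX.base '' (U : Set X) → ∃ z, c₁.base z ∈ U ∧ j.base z = y := by
    intro y hy
    let g := U.ι ≫ jX
    let W := g.opensRange
    have hW : (W : Set Xb) = jX.base '' (U : Set X) := by
      rw [Scheme.Hom.coe_opensRange, Scheme.Hom.comp_base, TopCat.coe_comp, Set.range_comp, Scheme.Opens.range_ι]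
    let a := (c₁ ⁻¹ᵁ U).ι ≫ j
    have ha : a ≫ cb₁ = (c₁ ∣_ U) ≫ g := by
      simp only [a, g, Category.assoc, hjb₁, morphismRestrict_ι_assoc]
    have hrange : Set.range a.base ⊆ Set.range (cb₁ ⁻¹ᵁ W).ι.base := by
      rw [Scheme.Opens.range_ι]
      rintro _ ⟨z, rfl⟩
      show cb₁ (a z) ∈ W
      rw [← Scheme.Hom.comp_apply, ha]
      exact ⟨_, rfl⟩
    let r := IsOpenImmersion.lift (cb₁ ⁻¹ᵁ W).ι a hrange
    have hr : r ≫ (cb₁ ⁻¹ᵁ W).ι = a := IsOpenImmersion.lift_fac _ _ _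
    haveI : IsSeparated (cb₁ ≫ pXb) := by rw [hb₁]; infer_instance
    haveI : IsSeparated cb₁ := IsSeparated.of_comp cb₁ pXb
    haveI : IsSeparated (cb₁ ∣_ W) := IsZariskiLocalAtTarget.restrict (P := @IsSeparated) inferInstance W
    haveI : IsProper (r ≫ (cb₁ ∣_ W)) := by
      have : r ≫ (cb₁ ∣_ W) = (c₁ ∣_ U) ≫ g.isoOpensRange.hom := by
        rw [← cancel_mono W.ι]
        simp only [Category.assoc, morphismRestrict_ι, Scheme.Hom.isoOpensRange_hom_ι]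
        rw [reassoc_of% hr, ha, Scheme.Hom.isoOpensRange_hom_ι]
      rw [this]; infer_instance
    haveI : IsProper r := IsProper.of_comp r (cb₁ ∣_ W)
    have hyW : y ∈ cb₁ ⁻¹ᵁ W := show cb₁.base y ∈ (W : Set Xb) by rwa [hW]
    have hdense : Dense (Set.range a.base) := by
      rw [Scheme.Hom.comp_base, TopCat.coe_comp, Set.range_comp, Scheme.Opens.range_ι]
      exact hjd.dense_image j.continuous hU
    obtain ⟨z, hz⟩ : (⟨y, hyW⟩ : (cb₁ ⁻¹ᵁ W : Cb.Opens)) ∈ Set.range r.base := by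
      refine r.isClosedMap.isClosed_range.closure_subset (mem_closure_iff.2 ?_)
      rintro O hO hyO
      obtain ⟨_, ⟨p, hpO, rfl⟩, z, hz⟩ := hdense.inter_open_nonempty
        ((cb₁ ⁻¹ᵁ W).ι.base '' O) ((cb₁ ⁻¹ᵁ W).ι.isOpenEmbedding.isOpenMap O hO) ⟨_, ⟨_, hyO, rfl⟩⟩
      exact ⟨p, hpO, z, (cb₁ ⁻¹ᵁ W).ι.isOpenEmbedding.injective (by rw [← Scheme.Hom.comp_apply, hr]; exact hz)⟩
    refine ⟨(c₁ ⁻¹ᵁ U).ι z, z.2, ?_⟩
    rw [← Scheme.Hom.comp_apply]
    show a z = y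
    rw [← hr, Scheme.Hom.comp_apply, hz]
    rfl
  intro x hx
  let A : S → Set Xb := fun η => closure (jX.base '' closure {c₁.base η.1})
  let B : S → Set Xb := fun η => closure (jX.base '' closure {c₂.base η.1})
  refine ⟨⋂ η : S, (if x ∈ A η then (B η)ᶜ else (A η)ᶜ), isOpen_iInter_of_finite fun η => ?_, ?_, ?_⟩
  · split_ifs <;> exact isClosed_closure.isOpen_compl
  · refine Set.mem_iInter.2 fun η => ?_
    split_ifs with h
    · exact fun hB => Set.eq_empty_iff_forall_notMem.1 (hsep η) x ⟨h, hB⟩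
    · exact h
  intro y hy₂ hy₂' hy₁'
  intro hy₁
  obtain ⟨z, hz₁, rfl⟩ := hover y hy₁
  have e₁ : cb₁.base (j.base z) = jX.base (c₁.base z) := by
    rw [← Scheme.Hom.comp_apply, hjb₁, Scheme.Hom.comp_apply]
  have e₂ : cb₂.base (j.base z) = jX.base (c₂.base z) := by
    rw [← Scheme.Hom.comp_apply, hjb₂, Scheme.Hom.comp_apply]
  have hz₂ : c₂.base z ∈ ((U : Set X)ᶜ) := fun h => hy₂ ⟨_, h, e₂.symm⟩
  obtain ⟨η, hη, hsp⟩ := hScov z ⟨hz₁, hz₂⟩
  have h1 : jX.base (c₁.base z) ∈ A ⟨η, hη⟩ :=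
    subset_closure ⟨_, (hsp.map c₁.continuous).mem_closure, rfl⟩
  have h2 : jX.base (c₂.base z) ∈ B ⟨η, hη⟩ :=
    subset_closure ⟨_, (hsp.map c₂.continuous).mem_closure, rfl⟩
  have m₁ := Set.mem_iInter.1 hy₁' ⟨η, hη⟩
  have m₂ := Set.mem_iInter.1 hy₂' ⟨η, hη⟩
  rw [e₁] at m₁
  rw [e₂] at m₂
  split_ifs at m₁ m₂ with h
  · exact m₂ h2
  · exact m₁ h1

end Groth.Agent.S18395
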