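import Groth.Statements.S18399
import Groth.Agent.CAlg9.Fixed
import Mathlib.RingTheory.RegularLocalRing.Defs

set_option autoImplicit false
universe u
open CAlg

namespace Groth.Agent.S18399

/-- Let k be a field and A a regular local k-algebra with residue field k (the structure map from k onto
the residue field of A is surjective), let σ be a k-algebra endomorphism of A of finite order n with
n invertible in k, and let I_σ be the ideal of A generated by the elements f - σ f. Then I_σ is
generated by finitely many elements of the maximal ideal whose classes in the cotangent space m/m^2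
are linearly independent over the residue field. (Such elements are part of a regular system of
parameters of A, hence part of a regular sequence, which is the printed conclusion; the generators
with independent classes are what the argument produces.) -/
theorem result {k : Type u} [Field k] {A : Type u} [CommRing A] [Algebra k A] [IsRegularLocalRing A] (hres : Function.Surjective ⇑(algebraMap k (IsLocalRing.ResidueField A))) (σ : A →ₐ[k] A) (n : ℕ) (hσ : ∀ a : A, (⇑σ)^[n] a = a) (hn : (n : k) ≠ 0) : ∃ (m : ℕ) (f : Fin m → ↥(IsLocalRing.maximalIdeal A)), Ideal.span (Set.range fun i : Fin m => (f i : A)) = Ideal.span (Set.range fun a : A => a - σ a) ∧ LinearIndependent (IsLocalRing.ResidueField A) (fun i : Fin m => (IsLocalRing.maximalIdeal A).toCotangent (f i)) := by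

  classical
  have hn0 : n ≠ 0 := by rintro rfl; exact hn Nat.cast_zero
  have hbij : Function.Bijective σ := by
    refine ⟨fun a b h => ?_, fun a => ⟨(⇑σ)^[n - 1] a, ?_⟩⟩
    · have := congrArg (⇑σ)^[n - 1] h
      rwa [← Function.iterate_succ_apply, ← Function.iterate_succ_apply,
        Nat.succ_eq_add_one, Nat.sub_add_cancel (Nat.pos_of_ne_zero hn0), hσ, hσ] at this
    · rw [← Function.iterate_succ_apply' (⇑σ),
        Nat.succ_eq_add_one, Nat.sub_add_cancel (Nat.pos_of_ne_zero hn0), hσ]
  let τ : A ≃ₐ[k] A := AlgEquiv.ofBijective σ hbij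
  have hτ : ∀ a, τ a = σ a := fun a => rfl
  have hpow : ∀ (j : ℕ) a, (τ ^ j) a = (⇑σ)^[j] a := by
    intro j
    induction j with
    | zero => intro a; rfl
    | succ j ih => intro a; rw [pow_succ', AlgEquiv.mul_apply, ih, hτ, Function.iterate_succ_apply']
  have hτn : τ ^ n = 1 := AlgEquiv.ext fun a => by rw [hpow, hσ, AlgEquiv.one_apply]
  have hfin : IsOfFinOrder τ := isOfFinOrder_iff_pow_eq_one.mpr ⟨n, Nat.pos_of_ne_zero hn0, hτn⟩
  have : Finite (Subgroup.zpowers τ) := hfin.finite_zpowers
  letI := Fintype.ofFinite (Subgroup.zpowers τ)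
  have hG : (Fintype.card (Subgroup.zpowers τ) : k) ≠ 0 := by
    rw [← Nat.card_eq_fintype_card, Nat.card_zpowers]
    obtain ⟨c, hc⟩ := orderOf_dvd_of_pow_eq_one hτn
    intro h
    exact hn (by rw [hc, Nat.cast_mul, h, zero_mul])
  obtain ⟨r, f, h1, h2⟩ :=
    Groth.Agent.CAlg9.fixedIdeal_generators hres (Subgroup.zpowers τ).subtype hG
  refine ⟨r, f, h1.trans (le_antisymm (Ideal.span_le.mpr ?_) (Ideal.span_le.mpr ?_)), h2⟩
  · rintro _ ⟨⟨g, hg⟩, a, rfl⟩
    rw [← IsOfFinOrder.mem_powers_iff_mem_zpowers hfin] at hg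
    obtain ⟨j, rfl⟩ := hg
    show (τ ^ j) a - a ∈ Ideal.span _
    rw [hpow]
    clear h1
    induction j with
    | zero => simp
    | succ j ih =>
      rw [Function.iterate_succ_apply',
        show σ ((⇑σ)^[j] a) - a = ((⇑σ)^[j] a - a) - ((⇑σ)^[j] a - σ ((⇑σ)^[j] a)) by ring]
      exact sub_mem (ih (Subgroup.pow_mem _ (Subgroup.mem_zpowers τ) _)) (Ideal.subset_span ⟨_, rfl⟩)
  · rintro _ ⟨a, rfl⟩
    show a - σ a ∈ Ideal.span _
    rw [← neg_sub, neg_mem_iff]
    exact Ideal.subset_span ⟨⟨τ, Subgroup.mem_zpowers τ⟩, a, rfl⟩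

end Groth.Agent.S18399
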