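import Groth.Statements.S18402
import Mathlib.AlgebraicGeometry.Geometrically.Irreducible
import Mathlib.AlgebraicGeometry.Morphisms.QuasiFinite
import Groth.Agent.FEt83.Generalizing

set_option autoImplicit false
universe u
open Pi1

namespace Groth.Agent.S18402

set_option backward.isDefEq.respectTransparency.types false in
open AlgebraicGeometry CategoryTheory CategoryTheory.Limits in
/-- Let X be an irreducible scheme and π : W ⟶ X a flat morphism whose fibre over every field-valued
point of X is irreducible (so every fibre is geometrically irreducible and π is surjective). Then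
for every finite étale cover Z of X with Z connected, the base change of Z along π is connected.
Ranging over all finite étale covers of X, this says that the monodromy group of each cover (the
image of the fundamental group in the permutations of a geometric fibre) is unchanged by pullback
along π. The published statement asserts that equality of monodromy groups, for generically finite,
generically étale covers between irreducible algebraic stacks. -/
theorem result {X W : Scheme.{u}}
    [IrreducibleSpace X] (π : W ⟶ X) [Flat π] [GeometricallyIrreducible π]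
    (Z : FEt.Cat X) [ConnectedSpace Z.left] :
    ConnectedSpace ↥(pullback Z.hom π) := by
  let z : Z.left ⟶ X := Z.hom
  have : IsFinite z := Z.prop.1
  have : Etale z := Z.prop.2
  let p : (pullback z π : Scheme.{u}) ⟶ Z.left := pullback.fst z π
  have : GeometricallyIrreducible p := inferInstance
  have : Flat p := MorphismProperty.pullback_fst _ _ inferInstance
  have : Surjective p := inferInstance
  have hpz : GeneralizingMap z := Groth.Agent.FEt83.generalizingMap_of_flat z
  have hpp : GeneralizingMap p := Groth.Agent.FEt83.generalizingMap_of_flat p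
  show ConnectedSpace ↥(pullback z π)
  rw [connectedSpace_iff_clopen]
  refine ⟨⟨(p.surjective (Classical.arbitrary Z.left)).choose⟩, fun C hC => ?_⟩
  let η : X := genericPoint X
  have hfib : (z ⁻¹' {η}).Finite := z.finite_preimage_singleton η
  have key (D : Set (pullback z π : Scheme.{u})) (hD : IsClopen D) : IsClosed (p '' D) ∧
      Disjoint (p '' D) (p '' Dᶜ) := by
    have hdisj (D : Set (pullback z π : Scheme.{u})) (hD : IsClopen D) :
        Disjoint (p '' D) (p '' Dᶜ) := by
      rw [Set.disjoint_left]
      rintro y ⟨a, ha, rfl⟩ ⟨b, hb, hab⟩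
      have hc : _root_.IsPreconnected (p ⁻¹' {p a}) := by
        rw [← p.range_fiberι, ← Set.image_univ]
        exact (IrreducibleSpace.isIrreducible_univ _).isPreirreducible.isPreconnected.image _
          (p.fiberι _).continuous.continuousOn
      exact hb (hc.subset_isClopen hD ⟨a, rfl, ha⟩ hab)
    have hgen (D : Set (pullback z π : Scheme.{u})) (hD : IsClopen D) :
        StableUnderGeneralization (p '' D) := by
      rintro y y' hy' ⟨a, ha, rfl⟩
      obtain ⟨a', ha', rfl⟩ := hpp hy'
      exact ⟨a', hD.2.stableUnderGeneralization ha' ha, rfl⟩
    refine ⟨?_, hdisj D hD⟩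
    have huniv (y : Z.left) : y ∈ p '' D ∨ y ∈ p '' Dᶜ := by
      obtain ⟨a, rfl⟩ := p.surjective y
      by_cases ha : a ∈ D
      exacts [.inl ⟨a, ha, rfl⟩, .inr ⟨a, ha, rfl⟩]
    have e : p '' D = ⋃ g ∈ z ⁻¹' {η} ∩ p '' D, closure {g} := by
      refine Set.Subset.antisymm (fun y hy => ?_) (Set.iUnion₂_subset fun g hg y hy => ?_)
      · obtain ⟨g, hg, hgη⟩ := hpz (genericPoint_specializes (z y))
        exact Set.mem_biUnion ⟨hgη, hgen D hD hg hy⟩ hg.mem_closure
      · rcases huniv y with h | h
        · exact h
        · exact ((Set.disjoint_left.mp (hdisj D hD) hg.2)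
            (hgen Dᶜ hD.compl (specializes_iff_mem_closure.mpr hy) h)).elim
    rw [e]
    exact (hfib.subset Set.inter_subset_left).isClosed_biUnion fun _ _ => isClosed_closure
  have hop : IsClopen (p '' C) := by
    refine ⟨(key C hC).1, isClosed_compl_iff.mp ?_⟩
    have : (p '' C)ᶜ = p '' Cᶜ := by
      refine Set.Subset.antisymm (fun y hy => ?_)
        (Set.disjoint_right.mp (key C hC).2)
      obtain ⟨a, rfl⟩ := p.surjective y
      exact ⟨a, fun ha => hy ⟨a, ha, rfl⟩, rfl⟩
    rw [this]
    exact (key Cᶜ hC.compl).1
  rcases isClopen_iff.mp hop with h | h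
  · exact .inl (Set.image_eq_empty.mp h)
  · refine .inr (Set.eq_univ_iff_forall.mpr fun a => ?_)
    by_contra ha
    exact Set.disjoint_left.mp (key C hC).2 (h ▸ Set.mem_univ (p a)) ⟨a, ha, rfl⟩

end Groth.Agent.S18402
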