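import Groth.Statements.S18403
import Groth.Agent.Hesse51.Transport
import Mathlib.Analysis.Complex.Polynomial.Basic

set_option autoImplicit false
universe u
open Cubic

namespace Groth.Agent.S18403

open MvPolynomial in
/-- Let f be a nonzero homogeneous cubic in three variables over ℂ whose plane curve is smooth (at every
nonzero zero of f some partial derivative of f is nonzero). Then f is projectively equivalent to a
Hesse cubic: there are an invertible matrix A, a constant c ≠ 0 and a parameter k with k³ ≠ 1 such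
that the linear substitution X_i ↦ Σ_j A_ij X_j carries f to c · (X₀³ + X₁³ + X₂³ − 3k·X₀X₁X₂). -/
theorem result (f : MvPolynomial (Fin 3) ℂ) (hf : f.IsHomogeneous 3)
    (hf0 : f ≠ 0) (hsm : ∀ v : Fin 3 → ℂ, v ≠ 0 → eval v f = 0 → ∃ i : Fin 3, eval v (pderiv i f) ≠ 0) :
    ∃ (A : Matrix (Fin 3) (Fin 3) ℂ) (k c : ℂ), IsUnit A.det ∧ k ^ 3 ≠ 1 ∧ c ≠ 0 ∧
      aeval (fun i : Fin 3 => ∑ j : Fin 3, C (A i j) * X j) f = C c * HesseCubic.form k := by
  obtain ⟨Φ, k, c, hk1, hc, hΦ⟩ := Groth.Agent.Hesse51.exists_hesse f hf hsm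
  refine ⟨LinearMap.toMatrix' Φ.toLinearMap, k, c, ?_, hk1, hc, MvPolynomial.funext fun v => ?_⟩
  · rw [← Matrix.isUnit_iff_isUnit_det, ← Matrix.mulVec_injective_iff_isUnit]
    intro x y h
    simpa [LinearMap.toMatrix'_mulVec] using h
  · rw [Groth.Agent.Eckardt51.eval_aeval_matrix, LinearMap.toMatrix'_mulVec,
      Groth.Agent.Eckardt51.eval_eq_f hf, map_mul, eval_C, Groth.Agent.Hesse51.eval_form]
    exact hΦ v

end Groth.Agent.S18403
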