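import Groth.Statements.S18404
import Groth.Agent.Hesse51.Basic
import Mathlib.Analysis.Complex.Basic

set_option autoImplicit false
universe u
open Cubic

namespace Groth.Agent.S18404

open MvPolynomial in
/-- Let k ∈ ℂ with k³ ≠ 1 and let h = X₀³ + X₁³ + X₂³ − 3k·X₀X₁X₂ be the Hesse cubic. For a nonzero
vector v with h(v) = 0, the corresponding point is a flex of the plane curve of h — some line
through it meets the curve there with multiplicity three, i.e. there is a vector w linearly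
independent from v with h(v + t·w) = t³·h(w) for every t — exactly when v is a scalar multiple of
one of the nine vectors (0, 1, −γ), (−γ, 0, 1), (1, −γ, 0) with γ³ = 1. -/
theorem result (k : ℂ) (hk : k ^ 3 ≠ 1) (v : Fin 3 → ℂ) (hv : v ≠ 0)
    (hCv : eval v (HesseCubic.form k) = 0) :
    (∃ w : Fin 3 → ℂ, LinearIndependent ℂ ![v, w] ∧
        ∀ t : ℂ, eval (v + t • w) (HesseCubic.form k) = t ^ 3 * eval w (HesseCubic.form k)) ↔
      ∃ γ c : ℂ, γ ^ 3 = 1 ∧ (v = c • ![0, 1, -γ] ∨ v = c • ![-γ, 0, 1] ∨ v = c • ![1, -γ, 0]) := by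
  rw [Groth.Agent.Hesse51.eval_form] at hCv
  simp only [Groth.Agent.Hesse51.eval_form, ← Groth.Agent.Hesse51.Hk_f]
  have hf : (Groth.Agent.Hesse51.Hk k).f v = 0 := by rw [Groth.Agent.Hesse51.Hk_f]; exact hCv
  constructor
  · rintro ⟨w, hw, h⟩
    obtain ⟨h1, h2⟩ := (Groth.Agent.Hesse51.flex_iff _ v w hf).1 h
    exact Groth.Agent.Hesse51.exists_flexDir_classify hk hv hCv ⟨hw, h1, h2⟩
  · rintro ⟨γ, c, hγ, h⟩
    obtain ⟨u, hu, hvu⟩ : ∃ u, (u = ![0, 1, -γ] ∨ u = ![-γ, 0, 1] ∨ u = ![1, -γ, 0]) ∧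
        v = c • u := by
      rcases h with h | h | h
      exacts [⟨_, Or.inl rfl, h⟩, ⟨_, Or.inr (Or.inl rfl), h⟩, ⟨_, Or.inr (Or.inr rfl), h⟩]
    subst hvu
    have hc : c ≠ 0 := fun h => hv (by rw [h, zero_smul])
    obtain ⟨Q, hQ, hQk, hQu⟩ := Groth.Agent.Hesse51.exists_symm_base hγ hu
    obtain ⟨hind, h1, h2⟩ := Groth.Agent.Hesse51.flexDir_base k
    have hT := (Groth.Agent.Hesse51.Hk k).T_map_of_f_map Q.mulVec (Matrix.mulVec_add Q) 1
      (fun x => by rw [one_mul, Groth.Agent.Hesse51.Hk_f, Groth.Agent.Hesse51.Hk_f, hQk])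
    refine ⟨Q.mulVec ![1, -k, 0], ?_, (Groth.Agent.Hesse51.flex_iff _ _ _ hf).2 ?_⟩
    · rw [← hQu]
      refine LinearIndependent.pair_iff.2 fun s t hst => ?_
      rw [smul_smul, ← Matrix.mulVec_smul, ← Matrix.mulVec_smul, ← Matrix.mulVec_add] at hst
      have h0 := Matrix.mulVec_injective_iff_isUnit.2 ((Matrix.isUnit_iff_isUnit_det Q).2 hQ)
        (hst.trans (Matrix.mulVec_zero Q).symm)
      obtain ⟨hs, ht⟩ := LinearIndependent.pair_iff.1 hind _ _ h0
      exact ⟨(mul_eq_zero.1 hs).resolve_right hc, ht⟩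
    · rw [← hQu]
      simp only [map_smul, LinearMap.smul_apply, smul_eq_mul, hT, h1, h2, mul_zero, and_self]

end Groth.Agent.S18404
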