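import Groth.Statements.S18405
import Groth.Agent.Hesse51.Transport
import Mathlib.Analysis.Complex.Polynomial.Basic

set_option autoImplicit false
universe u
open Cubic

namespace Groth.Agent.S18405

open MvPolynomial in
/-- Let f be a nonzero homogeneous cubic in three variables over ℂ whose plane curve is smooth (at every
nonzero zero of f some partial derivative is nonzero), and let A be an invertible matrix whose
linear substitution X_i ↦ Σ_j A_ij X_j multiplies f by a constant, so that v ↦ A·v is a projective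
automorphism of the curve. If A·v is proportional to v for every flex v of the curve (every nonzero
zero v of f through which some line meets the curve with multiplicity three: there is w linearly
independent from v with f(v + t·w) = t³·f(w) for all t), then A is a scalar matrix: the projective
automorphisms of a smooth plane cubic act faithfully on its flexes. -/
theorem result (f : MvPolynomial (Fin 3) ℂ) (hf : f.IsHomogeneous 3)
    (hf0 : f ≠ 0) (hsm : ∀ v : Fin 3 → ℂ, v ≠ 0 → eval v f = 0 → ∃ i : Fin 3, eval v (pderiv i f) ≠ 0)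
    (A : Matrix (Fin 3) (Fin 3) ℂ) (hA : IsUnit A.det)
    (hAf : ∃ c : ℂ, aeval (fun i : Fin 3 => ∑ j : Fin 3, C (A i j) * X j) f = C c * f)
    (hfix : ∀ v : Fin 3 → ℂ, v ≠ 0 → eval v f = 0 →
      (∃ w : Fin 3 → ℂ, LinearIndependent ℂ ![v, w] ∧ ∀ t : ℂ, eval (v + t • w) f = t ^ 3 * eval w f) →
      ∃ d : ℂ, A.mulVec v = d • v) :
    ∃ c : ℂ, A = c • (1 : Matrix (Fin 3) (Fin 3) ℂ) := by
  obtain ⟨Φ, k, c, hk1, hc, hΦ⟩ := Groth.Agent.Hesse51.exists_hesse f hf hsm
  obtain ⟨ω, hω⟩ := HasEnoughRootsOfUnity.exists_primitiveRoot ℂ 3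
  obtain ⟨d, hd⟩ := Groth.Agent.Hesse51.eq_smul_of_fixing hΦ hc hω.pow_eq_one
    (hω.ne_one (by norm_num)) (Matrix.mulVecLin A) (fun v hv hfv hw => by
      obtain ⟨w, hwi, h1, h2⟩ := hw
      refine hfix v hv (by rwa [Groth.Agent.Eckardt51.eval_eq_f hf]) ⟨w, hwi, ?_⟩
      simp only [Groth.Agent.Eckardt51.eval_eq_f hf]
      exact (Groth.Agent.Hesse51.flex_iff _ v w hfv).2 ⟨h1, h2⟩)
  refine ⟨d, (Matrix.toLin' (R := ℂ) (m := Fin 3) (n := Fin 3)).injective
    (LinearMap.ext fun v => ?_)⟩
  rw [Matrix.toLin'_apply, map_smul, Matrix.toLin'_one]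
  exact hd v

end Groth.Agent.S18405
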