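import Groth.Statements.S18406
import Groth.Agent.Hesse51.Transport
import Mathlib.Analysis.Complex.Polynomial.Basic

set_option autoImplicit false
universe u
open Cubic

namespace Groth.Agent.S18406

open MvPolynomial in
/-- Let f be a nonzero homogeneous cubic in three variables over ℂ whose plane curve is smooth (at every
nonzero zero of f some partial derivative is nonzero), and let v and v′ be flexes of the curve, that
is nonzero zeros of f through each of which some line meets the curve with multiplicity three (there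
is a vector w linearly independent from the point with f(point + t·w) = t³·f(w) for every t). Then a
projective automorphism of the curve carries the point of v to the point of v′: there are an
invertible matrix A whose substitution X_i ↦ Σ_j A_ij X_j multiplies f by a constant c, and a
constant d with A·v = d·v′. (The published statement gives more: a subgroup of the projective
automorphism group isomorphic to C₃ × C₃ acts simply transitively on the nine flexes; only
transitivity is stated here.) -/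
theorem result (f : MvPolynomial (Fin 3) ℂ) (hf : f.IsHomogeneous 3)
    (hf0 : f ≠ 0) (hsm : ∀ v : Fin 3 → ℂ, v ≠ 0 → eval v f = 0 → ∃ i : Fin 3, eval v (pderiv i f) ≠ 0)
    (v v' : Fin 3 → ℂ) (hv : v ≠ 0) (hv' : v' ≠ 0) (hfv : eval v f = 0) (hfv' : eval v' f = 0)
    (hflex : (∃ w : Fin 3 → ℂ, LinearIndependent ℂ ![v, w] ∧ ∀ t : ℂ, eval (v + t • w) f = t ^ 3 * eval w f))
    (hflex' : (∃ w : Fin 3 → ℂ, LinearIndependent ℂ ![v', w] ∧ ∀ t : ℂ, eval (v' + t • w) f = t ^ 3 * eval w f)) :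
    ∃ (A : Matrix (Fin 3) (Fin 3) ℂ) (c d : ℂ), IsUnit A.det ∧
      aeval (fun i : Fin 3 => ∑ j : Fin 3, C (A i j) * X j) f = C c * f ∧ A.mulVec v = d • v' := by
  obtain ⟨Φ, k, c, hk1, hc, hΦ⟩ := Groth.Agent.Hesse51.exists_hesse f hf hsm
  obtain ⟨w, hw, hwf⟩ := hflex
  obtain ⟨w', hw', hwf'⟩ := hflex'
  simp only [Groth.Agent.Eckardt51.eval_eq_f hf] at hfv hfv' hwf hwf'
  obtain ⟨Q, hQ, hQk, d, hd, hdv⟩ := Groth.Agent.Hesse51.flex_classify hΦ hc hk1 hv hfv
    ⟨hw, (Groth.Agent.Hesse51.flex_iff _ v w hfv).1 hwf⟩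
  obtain ⟨Q', hQ', hQk', d', hd', hdv'⟩ := Groth.Agent.Hesse51.flex_classify hΦ hc hk1 hv' hfv'
    ⟨hw', (Groth.Agent.Hesse51.flex_iff _ v' w' hfv').1 hwf'⟩
  let P : Matrix (Fin 3) (Fin 3) ℂ := LinearMap.toMatrix' Φ.toLinearMap
  let P' : Matrix (Fin 3) (Fin 3) ℂ := LinearMap.toMatrix' Φ.symm.toLinearMap
  have hP : ∀ x, P.mulVec x = Φ x := LinearMap.toMatrix'_mulVec _
  have hP' : ∀ x, P'.mulVec x = Φ.symm x := LinearMap.toMatrix'_mulVec _
  have hPP : P * P' = 1 := by
    rw [← LinearMap.toMatrix'_comp, LinearEquiv.comp_coe, LinearEquiv.symm_trans_self]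
    simp
  have hQQ : ∀ x, Groth.Agent.Hesse51.hk k (Q⁻¹.mulVec x) = Groth.Agent.Hesse51.hk k x := fun x => by
    rw [← hQk k (Q⁻¹.mulVec x), Matrix.mulVec_mulVec, Matrix.mul_nonsing_inv _ hQ, Matrix.one_mulVec]
  refine ⟨P * (Q' * Q⁻¹) * P', 1, d / d', ?_, ?_, ?_⟩
  · have hd1 : P.det * P'.det = 1 := by rw [← Matrix.det_mul, hPP, Matrix.det_one]
    simp only [Matrix.det_mul]
    refine IsUnit.mul (IsUnit.mul (IsUnit.of_mul_eq_one _ hd1) (IsUnit.mul hQ' ?_))
      (IsUnit.of_mul_eq_one _ ((mul_comm _ _).trans hd1))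
    exact (Matrix.isUnit_iff_isUnit_det _).1 ((Matrix.isUnit_nonsing_inv_iff).2
      ((Matrix.isUnit_iff_isUnit_det _).2 hQ))
  · rw [Groth.Agent.Eckardt51.preserves_iff]
    intro x
    obtain ⟨y, rfl⟩ := Φ.surjective x
    rw [one_mul, ← Matrix.mulVec_mulVec, ← Matrix.mulVec_mulVec, ← Matrix.mulVec_mulVec, hP', hP,
      Φ.symm_apply_apply, Groth.Agent.Eckardt51.eval_eq_f hf, Groth.Agent.Eckardt51.eval_eq_f hf,
      hΦ, hΦ, hQk', hQQ]
  · rw [← Matrix.mulVec_mulVec, ← Matrix.mulVec_mulVec, hP', hP, hdv, map_smul,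
      Φ.symm_apply_apply, Matrix.mulVec_smul, Matrix.mulVec_mulVec (v := ![0, 1, -1]),
      mul_assoc Q', Matrix.nonsing_inv_mul _ hQ, mul_one, map_smul, hdv', smul_smul,
      div_mul_cancel₀ _ hd']

end Groth.Agent.S18406
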