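import Groth.Statements.S18409
import Groth.Agent.Eckardt51.Bridge

set_option autoImplicit false
universe u
open Cubic

namespace Groth.Agent.S18409

open MvPolynomial in
/-- Let f be a nonzero homogeneous cubic in four variables over ℂ whose surface S = V_+(f) ⊂ P³ is
smooth (at every nonzero zero of f some partial derivative is nonzero); a line on S is a
2-dimensional subspace of ℂ⁴ on which f vanishes, and an Eckardt point of S is a nonzero vector
lying on three distinct lines on S. Let e and e′ be Eckardt points of S that are not proportional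
and let L be their span, a plane in ℂ⁴, i.e. the line of P³ through the two points. Then exactly one
of the two cases occurs: either f vanishes identically on L (the line lies on S), or L contains a
third Eckardt point e″, proportional to neither e nor e′, and every zero of f in L is proportional
to e, e′ or e″ (the line meets S in exactly three points, all Eckardt points). -/
theorem result (f : MvPolynomial (Fin 4) ℂ) (hf : f.IsHomogeneous 3)
    (hf0 : f ≠ 0) (hsm : ∀ v : Fin 4 → ℂ, v ≠ 0 → eval v f = 0 → ∃ i : Fin 4, eval v (pderiv i f) ≠ 0)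
    (e e' : Fin 4 → ℂ) (he : e ≠ 0) (he' : e' ∉ Submodule.span ℂ {e})
    (hE : (∃ U : Fin 3 → Submodule ℂ (Fin 4 → ℂ), Function.Injective U ∧
        ∀ i : Fin 3, Module.finrank ℂ ↥(U i) = 2 ∧ e ∈ U i ∧ ∀ u ∈ U i, eval u f = 0))
    (hE' : (∃ U : Fin 3 → Submodule ℂ (Fin 4 → ℂ), Function.Injective U ∧
        ∀ i : Fin 3, Module.finrank ℂ ↥(U i) = 2 ∧ e' ∈ U i ∧ ∀ u ∈ U i, eval u f = 0)) :
    Xor (∀ u ∈ Submodule.span ℂ {e, e'}, eval u f = 0)
      (∃ e'' : Fin 4 → ℂ, e'' ∈ Submodule.span ℂ {e, e'} ∧ e'' ∉ Submodule.span ℂ {e} ∧ e'' ∉ Submodule.span ℂ {e'} ∧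
        (∃ U : Fin 3 → Submodule ℂ (Fin 4 → ℂ), Function.Injective U ∧
        ∀ i : Fin 3, Module.finrank ℂ ↥(U i) = 2 ∧ e'' ∈ U i ∧ ∀ u ∈ U i, eval u f = 0) ∧
        ∀ u ∈ Submodule.span ℂ {e, e'}, eval u f = 0 →
          u ∈ Submodule.span ℂ {e} ∨ u ∈ Submodule.span ℂ {e'} ∨ u ∈ Submodule.span ℂ {e''}) := by
  have he0' : e' ≠ 0 := fun h => he' (h ▸ Submodule.zero_mem _)
  obtain ⟨M, hM, hT, hL, hfe⟩ := Groth.Agent.Eckardt51.exists_canonical hf hsm he hE
  obtain ⟨M', -, hT', -, hfe'⟩ := Groth.Agent.Eckardt51.exists_canonical hf hsm he0' hE'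
  by_cases hline : ∀ u ∈ Submodule.span ℂ {e, e'}, eval u f = 0
  · refine Or.inl ⟨hline, ?_⟩
    rintro ⟨e'', he'', h1, h2, -, hz⟩
    obtain ⟨a, b, rfl⟩ := Submodule.mem_span_pair.1 he''
    have hb : b ≠ 0 := fun h => h1 (by
      rw [h, zero_smul, add_zero]
      exact Submodule.smul_mem _ _ (Submodule.mem_span_singleton_self e))
    have ha : a ≠ 0 := fun h => h2 (by
      rw [h, zero_smul, zero_add]
      exact Submodule.smul_mem _ _ (Submodule.mem_span_singleton_self e'))
    have indep : ∀ x y : ℂ, x • e + y • e' = 0 → x = 0 ∧ y = 0 :=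
      LinearIndependent.pair_iff.1 ((LinearIndependent.pair_iff' he).2 fun t h =>
        he' (h ▸ Submodule.smul_mem _ _ (Submodule.mem_span_singleton_self e)))
    have hu : (2 * a) • e + b • e' ∈ Submodule.span ℂ {e, e'} :=
      Submodule.mem_span_pair.2 ⟨_, _, rfl⟩
    rcases hz _ hu (hline _ hu) with h | h | h <;> obtain ⟨t, ht⟩ := Submodule.mem_span_singleton.1 h
    · exact hb (indep (2 * a - t) b (by rw [← sub_eq_zero.2 ht.symm]; module)).2
    · exact ha (by simpa using (indep (2 * a) (b - t) (by rw [← sub_eq_zero.2 ht.symm]; module)).1)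
    · obtain ⟨h1, h2⟩ := indep (2 * a - t * a) (b - t * b) (by rw [← sub_eq_zero.2 ht.symm]; module)
      have : t = 1 := mul_right_cancel₀ hb (by linear_combination -h2)
      subst this
      exact ha (by linear_combination h1)
  · refine Or.inr ⟨?_, hline⟩
    simp only [Groth.Agent.Eckardt51.eval_eq_f hf] at hline
    obtain ⟨hMe', -, hz⟩ :=
      (Groth.Agent.Eckardt51.ofPoly f).secant hfe hfe' hT hT' hline
    refine ⟨Groth.Agent.Eckardt51.Sym3.hom e M e', ?_, ?_, ?_,
      Groth.Agent.Eckardt51.isEckPt_mulVec hf hsm he hE hE' hM hT, ?_⟩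
    · rw [Groth.Agent.Eckardt51.Sym3.hom_apply]
      exact Submodule.sub_mem _ (Submodule.subset_span (by simp))
        (Submodule.smul_mem _ _ (Submodule.subset_span (by simp)))
    · intro h
      rw [Groth.Agent.Eckardt51.Sym3.hom_apply] at h
      have h3 := add_mem h
        (Submodule.smul_mem _ (2 * M e') (Submodule.mem_span_singleton_self e))
      exact he' (by simpa using h3)
    · intro h
      obtain ⟨t, ht⟩ := Submodule.mem_span_singleton.1 h
      rw [Groth.Agent.Eckardt51.Sym3.hom_apply] at ht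
      have h1 := (LinearIndependent.pair_iff.1 ((LinearIndependent.pair_iff' he).2 fun t h =>
        he' (Submodule.mem_span_singleton.2 ⟨t, h⟩))) (2 * M e') (t - 1)
          (by rw [← sub_eq_zero.2 ht]; module)
      exact hMe' (by simpa using h1.1)
    · intro u hu hfu
      exact hz u hu (by rwa [← Groth.Agent.Eckardt51.eval_eq_f hf])

end Groth.Agent.S18409
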