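import Groth.Statements.S18411
import Groth.Agent.Eckardt51.Bridge

set_option autoImplicit false
universe u
open Cubic

namespace Groth.Agent.S18411

open MvPolynomial in
/-- Let f be a nonzero homogeneous cubic in four variables over ℂ whose surface S = V_+(f) ⊂ P³ is
smooth (at every nonzero zero of f some partial derivative is nonzero); a line on S is a
2-dimensional subspace of ℂ⁴ on which f vanishes, and an Eckardt point of S is a nonzero vector
lying on three distinct lines on S. Let e, e′, e″ be pairwise non-proportional Eckardt points of S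
spanning a single plane L = span(e, e′) of ℂ⁴ on which f does not vanish identically (three
collinear Eckardt points whose line is not on S), and let A, A′, A″ be their Eckardt involutions: an
involutory matrix A (A² = 1) whose +1-eigenspace is a hyperplane and with A·e = −e, such that the
substitution X_i ↦ Σ_j A_ij X_j multiplies f by a constant — that is, a projective involution
preserving S whose fixed locus is the disjoint union of a plane and the point of e, and likewise for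
e′ and e″. Then the three involutions generate, as projective transformations, a group isomorphic to
the symmetric group on three letters: the product A·A′ is not a scalar matrix, its cube is, and A″
is a scalar multiple of A·A′·A. -/
theorem result (f : MvPolynomial (Fin 4) ℂ) (hf : f.IsHomogeneous 3)
    (hf0 : f ≠ 0) (hsm : ∀ v : Fin 4 → ℂ, v ≠ 0 → eval v f = 0 → ∃ i : Fin 4, eval v (pderiv i f) ≠ 0)
    (e e' e'' : Fin 4 → ℂ) (he : e ≠ 0) (he' : e' ∉ Submodule.span ℂ {e})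
    (he''1 : e'' ∉ Submodule.span ℂ {e}) (he''2 : e'' ∉ Submodule.span ℂ {e'}) (he''L : e'' ∈ Submodule.span ℂ {e, e'})
    (hE : (∃ U : Fin 3 → Submodule ℂ (Fin 4 → ℂ), Function.Injective U ∧
        ∀ i : Fin 3, Module.finrank ℂ ↥(U i) = 2 ∧ e ∈ U i ∧ ∀ u ∈ U i, eval u f = 0))
    (hE' : (∃ U : Fin 3 → Submodule ℂ (Fin 4 → ℂ), Function.Injective U ∧
        ∀ i : Fin 3, Module.finrank ℂ ↥(U i) = 2 ∧ e' ∈ U i ∧ ∀ u ∈ U i, eval u f = 0))
    (hE'' : (∃ U : Fin 3 → Submodule ℂ (Fin 4 → ℂ), Function.Injective U ∧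
        ∀ i : Fin 3, Module.finrank ℂ ↥(U i) = 2 ∧ e'' ∈ U i ∧ ∀ u ∈ U i, eval u f = 0))
    (hL : ¬ ∀ u ∈ Submodule.span ℂ {e, e'}, eval u f = 0)
    (A A' A'' : Matrix (Fin 4) (Fin 4) ℂ)
    (hA : A * A = 1 ∧ Module.finrank ℂ ↥(LinearMap.ker (Matrix.toLin' A - LinearMap.id)) = 3 ∧
        A.mulVec e = -e ∧ ∃ c : ℂ, aeval (fun i : Fin 4 => ∑ j : Fin 4, C (A i j) * X j) f = C c * f)
    (hA' : A' * A' = 1 ∧ Module.finrank ℂ ↥(LinearMap.ker (Matrix.toLin' A' - LinearMap.id)) = 3 ∧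
        A'.mulVec e' = -e' ∧ ∃ c : ℂ, aeval (fun i : Fin 4 => ∑ j : Fin 4, C (A' i j) * X j) f = C c * f)
    (hA'' : A'' * A'' = 1 ∧ Module.finrank ℂ ↥(LinearMap.ker (Matrix.toLin' A'' - LinearMap.id)) = 3 ∧
        A''.mulVec e'' = -e'' ∧ ∃ c : ℂ, aeval (fun i : Fin 4 => ∑ j : Fin 4, C (A'' i j) * X j) f = C c * f) :
    (¬ ∃ c : ℂ, A * A' = c • (1 : Matrix (Fin 4) (Fin 4) ℂ)) ∧ (∃ c : ℂ, (A * A') ^ 3 = c • (1 : Matrix (Fin 4) (Fin 4) ℂ)) ∧
      ∃ c : ℂ, A'' = c • (A * A' * A) := by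
  have he0' : e' ≠ 0 := fun h => he' (h ▸ Submodule.zero_mem _)
  have he0'' : e'' ≠ 0 := fun h => he''1 (h ▸ Submodule.zero_mem _)
  have hAA : A * A = 1 := hA.1
  have hAA' : A' * A' = 1 := hA'.1
  obtain ⟨M, hM, hT, hAx⟩ := Groth.Agent.Eckardt51.canonical_inv hf hsm he hE hA
  obtain ⟨M', hM', hT', hA'x⟩ := Groth.Agent.Eckardt51.canonical_inv hf hsm he0' hE' hA'
  have hfe := ((Groth.Agent.Eckardt51.isEckPt_iff hf e).1 hE).f_eq_zero
  have hfe' := ((Groth.Agent.Eckardt51.isEckPt_iff hf e').1 hE').f_eq_zero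
  have hfe'' := ((Groth.Agent.Eckardt51.isEckPt_iff hf e'').1 hE'').f_eq_zero
  simp only [Groth.Agent.Eckardt51.eval_eq_f hf] at hL
  obtain ⟨hMe', hM'e, hz⟩ := (Groth.Agent.Eckardt51.ofPoly f).secant hfe hfe' hT hT' hL
  obtain ⟨-, -, hz'⟩ := (Groth.Agent.Eckardt51.ofPoly f).secant hfe' hfe hT' hT
    (by rw [Set.pair_comm]; exact hL)
  have hs : e'' ∈ Submodule.span ℂ {Groth.Agent.Eckardt51.Sym3.hom e M e'} :=
    ((hz e'' he''L hfe'').resolve_left he''1).resolve_left he''2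
  have hs' : e'' ∈ Submodule.span ℂ {Groth.Agent.Eckardt51.Sym3.hom e' M' e} :=
    ((hz' e'' (by rwa [Set.pair_comm]) hfe'').resolve_left he''2).resolve_left he''1
  have key : ∀ (a b : Fin 4 → ℂ) (P Q : Matrix (Fin 4) (Fin 4) ℂ)
      (N N' : (Fin 4 → ℂ) →ₗ[ℂ] ℂ), N a = 1 → N' b = 1 →
      (∀ x, P.mulVec x = Groth.Agent.Eckardt51.Sym3.hom a N x) →
      (∀ x, Q.mulVec x = Groth.Agent.Eckardt51.Sym3.hom b N' x) →
      (∀ x, (Groth.Agent.Eckardt51.ofPoly f).f (P.mulVec x) =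
        (Groth.Agent.Eckardt51.ofPoly f).f x) →
      (∀ x, (Groth.Agent.Eckardt51.ofPoly f).f (Q.mulVec x) =
        (Groth.Agent.Eckardt51.ofPoly f).f x) →
      e'' ∈ Submodule.span ℂ {Groth.Agent.Eckardt51.Sym3.hom a N b} →
      A'' = P * Q * P := by
    intro a b P Q N N' hN hN' hP hQ hPf hQf hmem
    obtain ⟨d, hd⟩ := Submodule.mem_span_singleton.1 hmem
    have hd0 : d ≠ 0 := fun h => he0'' (by rw [← hd, h, zero_smul])
    have hAB : ∀ x, (P * Q * P).mulVec x = Groth.Agent.Eckardt51.Sym3.hom e''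
        (d⁻¹ • N'.comp (Groth.Agent.Eckardt51.Sym3.hom a N)) x := by
      intro x
      rw [← Matrix.mulVec_mulVec, ← Matrix.mulVec_mulVec, hP, hQ, hP,
        Groth.Agent.Eckardt51.Sym3.hom_apply b N', map_sub, map_smul,
        Groth.Agent.Eckardt51.Sym3.hom_hom hN,
        Groth.Agent.Eckardt51.Sym3.hom_apply e'', ← hd]
      simp only [LinearMap.smul_apply, LinearMap.comp_apply, smul_eq_mul, smul_smul]
      congr 2
      field_simp
    have hN'' : (d⁻¹ • N'.comp (Groth.Agent.Eckardt51.Sym3.hom a N)) e'' = 1 := by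
      rw [← hd]
      simp [Groth.Agent.Eckardt51.Sym3.hom_hom hN, hN', hd0]
    refine (Groth.Agent.Eckardt51.existsUnique_inv hf hsm he0'' hE'').unique hA''
      ((Groth.Agent.Eckardt51.isEckInv_iff hf he0'' _).2 ⟨_, hN'', ?_, 1, fun x => ?_⟩)
    · exact LinearMap.ext fun x => by rw [Matrix.toLin'_apply, hAB]
    · rw [one_mul, ← hAB, ← Matrix.mulVec_mulVec, ← Matrix.mulVec_mulVec, hPf, hQf, hPf]
  have hAf : ∀ x, (Groth.Agent.Eckardt51.ofPoly f).f (A.mulVec x) =
      (Groth.Agent.Eckardt51.ofPoly f).f x := fun x => by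
    rw [hAx, (Groth.Agent.Eckardt51.ofPoly f).f_hom hfe hT]
  have hA'f : ∀ x, (Groth.Agent.Eckardt51.ofPoly f).f (A'.mulVec x) =
      (Groth.Agent.Eckardt51.ofPoly f).f x := fun x => by
    rw [hA'x, (Groth.Agent.Eckardt51.ofPoly f).f_hom hfe' hT']
  have h1 : A'' = A * A' * A := key e e' A A' M M' hM hM' hAx hA'x hAf hA'f hs
  have h2 : A'' = A' * A * A' := key e' e A' A M' M hM' hM hA'x hAx hA'f hAf hs'
  refine ⟨?_, ⟨1, ?_⟩, ⟨1, by rw [one_smul, h1]⟩⟩
  · rintro ⟨c, hc⟩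
    have hA'' : A' = c • A := by
      calc A' = A * (A * A') := by rw [← mul_assoc, hAA, one_mul]
        _ = c • A := by rw [hc, Matrix.mul_smul, mul_one]
    have hneg : A'.mulVec e' = -e' := hA'.2.2.1
    rw [hA'', Matrix.smul_mulVec, hAx, Groth.Agent.Eckardt51.Sym3.hom_apply] at hneg
    obtain ⟨hc1, hc2⟩ := (LinearIndependent.pair_iff.1 ((LinearIndependent.pair_iff' he).2
      fun t h => he' (Submodule.mem_span_singleton.2 ⟨t, h⟩)))
      (-(c * (2 * M e'))) (c + 1) (by rw [← sub_eq_zero.2 hneg]; module)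
    have : c = -1 := by linear_combination hc2
    exact hMe' (by rw [this] at hc1; linear_combination hc1 / 2)
  · rw [one_smul]
    calc (A * A') ^ 3 = (A * A' * A) * (A' * A * A') := by noncomm_ring
      _ = A'' * A'' := by rw [← h1, ← h2]
      _ = 1 := hA''.1

end Groth.Agent.S18411
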