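import Mathlib
import Groth.Statements.S18415
import Groth.Agent.Unr55.Et.Stalk

set_option autoImplicit false
universe u
open CategoryTheory AlgebraicGeometry
open EtCoh

namespace Groth.Agent.S18415

/-- Let p be a prime and X a scheme with p = 0 in Γ(X, O_X). Then the Artin–Schreier endomorphism x ↦
x^p − x of the additive group sheaf G_a on the small étale site of X is an epimorphism of abelian
étale sheaves (the right-hand exactness of 0 → Z/p → G_a → G_a → 0 on X_et). (The published example
takes X a variety over a field of characteristic p; this row assumes only that p = 0 in Γ(X, O_X).) -/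
theorem result
    (p : ℕ) (hp : p.Prime) {X : Scheme.{u}} (h0 : (p : Γ(X, ⊤)) = 0) :
    Epi (W4c5etcohweilstudent.artinSchreierEndo X p hp h0) := by
  haveI : (forget AddCommGrpCat.{u + 1}).ReflectsIsomorphisms := inferInstance
  refine (CategoryTheory.Sheaf.isLocallySurjective_iff_epi' (A := AddCommGrpCat.{u + 1}) _).1 ⟨fun {U} s => ?_⟩
  obtain ⟨s⟩ := s
  refine Groth.Agent.Unr55.EtSh.mem_topology fun x => ?_
  obtain ⟨W, hW, hxW, -⟩ := exists_isAffineOpen_mem_and_subset (x := x) (U := ⊤) trivial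
  have h0U := W4c5etcohweilstudent.natCast_eq_zero_etale p h0 U
  have hA : (p : Γ(U.left, W)) = 0 := by
    rw [← map_natCast (U.left.presheaf.map (homOfLE (le_top : W ≤ ⊤)).op).hom, h0U, map_zero]
  let a : Γ(U.left, W) := U.left.presheaf.map (homOfLE (le_top : W ≤ ⊤)).op (s : Γ(U.left, ⊤))
  let f : Polynomial Γ(U.left, W) := Polynomial.X ^ p - (Polynomial.X + Polynomial.C a)
  have hf : f.Monic := Polynomial.monic_X_pow_sub (lt_of_le_of_lt (Polynomial.degree_add_le _ _)
    (max_lt (lt_of_le_of_lt Polynomial.degree_X_le (by exact_mod_cast hp.one_lt))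
      (lt_of_le_of_lt Polynomial.degree_C_le (by exact_mod_cast hp.pos))))
  let P : StandardEtalePair Γ(U.left, W) := ⟨f, hf, 1, -1, 0, 0, by
    simp [f, Polynomial.derivative_X_pow, hA]⟩
  let w : Spec (CommRingCat.of P.Ring) ⟶ U.left :=
    Spec.map (CommRingCat.ofHom (algebraMap Γ(U.left, W) P.Ring)) ≫ hW.fromSpec
  haveI : Etale (Spec.map (CommRingCat.ofHom (algebraMap Γ(U.left, W) P.Ring))) :=
    (HasRingHomProperty.Spec_iff (P := @Etale)).mpr (RingHom.etale_algebraMap.mpr inferInstance)
  haveI : Etale U.hom := U.prop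
  haveI : Etale (w ≫ U.hom) := inferInstance
  let V : X.Etale := MorphismProperty.Over.mk ⊤ (w ≫ U.hom) inferInstance
  let g : V ⟶ U := MorphismProperty.Over.homMk w rfl trivial
  -- a point over `x`
  have hx' : x ∈ Set.range hW.fromSpec := by rw [hW.range_fromSpec]; exact hxW
  obtain ⟨q₀, hq⟩ := hx'
  let q : PrimeSpectrum Γ(U.left, W) := q₀
  haveI : Nontrivial Γ(U.left, W) := PrimeSpectrum.nonempty_iff_nontrivial.mp ⟨q⟩
  let K := AlgebraicClosure q.asIdeal.ResidueField
  obtain ⟨r, hr⟩ := IsAlgClosed.exists_root (f.map (algebraMap Γ(U.left, W) K)) (by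
    rw [hf.degree_map, Polynomial.degree_eq_natDegree hf.ne_zero]
    have hnd : f.natDegree = p := by
      refine Polynomial.natDegree_eq_of_degree_eq_some ?_
      rw [Polynomial.degree_sub_eq_left_of_degree_lt, Polynomial.degree_X_pow]
      rw [Polynomial.degree_X_pow]
      exact lt_of_le_of_lt (Polynomial.degree_add_le _ _)
        (max_lt (lt_of_le_of_lt Polynomial.degree_X_le (by exact_mod_cast hp.one_lt))
          (lt_of_le_of_lt Polynomial.degree_C_le (by exact_mod_cast hp.pos)))
    rw [hnd]; exact_mod_cast hp.ne_zero)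
  let φ : P.Ring →ₐ[Γ(U.left, W)] K := P.lift r ⟨by
    rw [Polynomial.IsRoot, Polynomial.eval_map] at hr
    exact hr, by simp [P]⟩
  refine ⟨V, g, (⟨RingHom.ker φ, RingHom.ker_isPrime _⟩ : PrimeSpectrum P.Ring), ⟨ULift.up
    ((Scheme.ΓSpecIso (CommRingCat.of P.Ring)).inv P.X), ?_⟩, ?_⟩
  · refine congrArg ULift.up ?_
    have hroot : P.X ^ p - P.X = algebraMap Γ(U.left, W) P.Ring a := by
      have h : Polynomial.aeval P.X f = 0 := P.hasMap_X.1
      simp only [f, map_sub, map_pow, map_add, Polynomial.aeval_X, Polynomial.aeval_C] at h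
      linear_combination h
    show ((Scheme.ΓSpecIso (CommRingCat.of P.Ring)).inv P.X) ^ p -
      ((Scheme.ΓSpecIso (CommRingCat.of P.Ring)).inv P.X) = w.appTop (s : Γ(U.left, ⊤))
    have e : hW.fromSpec.appTop = U.left.presheaf.map (homOfLE (le_top : W ≤ ⊤)).op ≫
        (Scheme.ΓSpecIso Γ(U.left, W)).inv := by
      refine (IsAffineOpen.fromSpec_app_of_le hW ⊤ le_top).trans ?_
      congr 1
    rw [← map_pow, ← map_sub, hroot]
    show _ = (Spec.map (CommRingCat.ofHom (algebraMap Γ(U.left, W) P.Ring))).appTop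
      (hW.fromSpec.appTop (s : Γ(U.left, ⊤)))
    rw [e]
    exact congrArg (fun ψ => (CommRingCat.Hom.hom ψ) a)
      (Scheme.ΓSpecIso_inv_naturality (CommRingCat.ofHom (algebraMap Γ(U.left, W) P.Ring)))
  · show w _ = x
    show hW.fromSpec ((Spec.map (CommRingCat.ofHom (algebraMap Γ(U.left, W) P.Ring))) _) = x
    rw [← hq]
    congr 1
    refine PrimeSpectrum.ext ?_
    show (RingHom.ker φ).comap (algebraMap Γ(U.left, W) P.Ring) = q.asIdeal
    ext b
    rw [Ideal.mem_comap, RingHom.mem_ker]
    rw [φ.commutes, IsScalarTower.algebraMap_apply Γ(U.left, W)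
      q.asIdeal.ResidueField K, map_eq_zero,
      Ideal.algebraMap_residueField_eq_zero]

end Groth.Agent.S18415
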