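import Groth.Statements.S18416
import Mathlib.RingTheory.Smooth.StandardSmoothOfFree
import Mathlib.RingTheory.RingHom.Etale
import Mathlib.RingTheory.Etale.Basic
import Mathlib.RingTheory.Unramified.Basic

set_option autoImplicit false
universe u v w
open CAlg

namespace Groth.Agent.S18416


section
open KaehlerDifferential TensorProduct

/-- A smooth algebra cut by elements whose differentials form a basis becomes étale. -/
theorem etale_quotient_of_basis {C : Type v} {B' : Type w} [CommRing C] [CommRing B'] [Algebra C B']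
    [Algebra.Smooth C B'] {κ : Type w} [Finite κ] (e : κ → B')
    (b : Module.Basis κ B' (Ω[B'⁄C])) (hb : ∀ i, b i = D C B' (e i)) :
    Algebra.Etale C (B' ⧸ Ideal.span (Set.range e)) := by
  classical
  have hsurj : Function.Surjective (algebraMap B' (B' ⧸ Ideal.span (Set.range e))) :=
    Ideal.Quotient.mk_surjective
  haveI : Algebra.FinitePresentation C (B' ⧸ Ideal.span (Set.range e)) :=
    Algebra.FinitePresentation.quotient (Submodule.fg_span (Set.finite_range e))
  haveI : Algebra.FormallyUnramified C (B' ⧸ Ideal.span (Set.range e)) := by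
    rw [Algebra.formallyUnramified_iff]
    refine subsingleton_of_forall_eq 0 fun z => ?_
    obtain ⟨y, rfl⟩ := KaehlerDifferential.map_surjective_of_surjective C C B' _ hsurj z
    have h0 : KaehlerDifferential.map C C B' (B' ⧸ Ideal.span (Set.range e)) = 0 := by
      refine b.ext fun i => ?_
      rw [hb, LinearMap.zero_apply, KaehlerDifferential.map_D]
      rw [show algebraMap B' (B' ⧸ Ideal.span (Set.range e)) (e i) = 0 from
        Ideal.Quotient.eq_zero_iff_mem.mpr (Ideal.subset_span ⟨i, rfl⟩), map_zero]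
    rw [h0]; rfl
  have hker : RingHom.ker (algebraMap B' (B' ⧸ Ideal.span (Set.range e))) = Ideal.span (Set.range e) :=
    Ideal.mk_ker
  haveI : Algebra.FormallySmooth C (B' ⧸ Ideal.span (Set.range e)) := by
    rw [Algebra.FormallySmooth.iff_split_injection hsurj]
    set I := RingHom.ker (algebraMap B' (B' ⧸ Ideal.span (Set.range e)))
    let v : κ → I.Cotangent := fun i => I.toCotangent ⟨e i, hker ▸ Ideal.subset_span ⟨i, rfl⟩⟩
    let l0 : Ω[B'⁄C] →ₗ[B'] I.Cotangent := b.constr B' v
    letI : Module (B' ⧸ Ideal.span (Set.range e)) I.Cotangent :=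
      Module.compHom _ (Ideal.quotientMap I (RingHom.id B') (by rw [Ideal.comap_id]; exact hker.ge))
    haveI : IsScalarTower B' (B' ⧸ Ideal.span (Set.range e)) I.Cotangent :=
      IsScalarTower.of_algebraMap_smul fun a m => by
        show (Ideal.Quotient.mk I a) • m = a • m
        exact algebraMap_smul (B' ⧸ I) a m
    refine ⟨(l0.liftBaseChange (B' ⧸ Ideal.span (Set.range e))).restrictScalars B', LinearMap.ext fun m => ?_⟩
    obtain ⟨⟨x, hx⟩, rfl⟩ := I.toCotangent_surjective m
    rw [LinearMap.comp_apply, kerCotangentToTensor_toCotangent, LinearMap.restrictScalars_apply, LinearMap.liftBaseChange_tmul, one_smul,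
      LinearMap.id_apply]
    have hxs : x ∈ Ideal.span (Set.range e) := hker ▸ hx
    let : Fintype κ := Fintype.ofFinite κ
    obtain ⟨c, hc⟩ := (Submodule.mem_span_range_iff_exists_fun B').mp hxs
    have hx' : (⟨x, hx⟩ : I) = ∑ i, c i • (⟨e i, hker ▸ Ideal.subset_span ⟨i, rfl⟩⟩ : I) :=
      Subtype.ext (by simp [← hc])
    rw [hx', map_sum]
    have hD : D C B' (∑ i, c i • e i) = ∑ i, (c i • D C B' (e i) + e i • D C B' (c i)) := by
      simp [smul_eq_mul, Derivation.leibniz]
    rw [AddSubmonoidClass.coe_finsetSum]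
    simp only [SetLike.val_smul]
    rw [hD, map_sum]
    refine Finset.sum_congr rfl fun i _ => ?_
    rw [map_add, map_smul, map_smul, ← hb, Module.Basis.constr_basis, map_smul,
      Ideal.Cotangent.smul_eq_zero_of_mem (show e i ∈ I by rw [hker]; exact Ideal.subset_span ⟨i, rfl⟩), add_zero]
  exact Algebra.Etale.iff_formallyUnramified_and_smooth.mpr ⟨inferInstance, ⟨inferInstance, inferInstance⟩⟩

end


/-- Let R → C and C → B be smooth ring homomorphisms, J an ideal of B and K the preimage of J in C, and
suppose that C surjects onto A = B/J (so that C/K = B/J = A). Then for every prime x of A there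
exist f ∈ B whose image in A does not lie in x and an ideal J₀ of B_f contained in J B_f such that
the composite C → B_f → B_f/J₀ is étale. -/
theorem result (R : Type u) (C : Type v) (B : Type w)
    [CommRing R] [CommRing C] [CommRing B] [Algebra R C] [Algebra C B] [Algebra R B] [IsScalarTower R C B]
    [Algebra.Smooth R C] [Algebra.Smooth C B] (J : Ideal B)
    (hsurj : Function.Surjective ((Ideal.Quotient.mk J).comp (algebraMap C B)))
    (x : PrimeSpectrum (B ⧸ J)) :
    ∃ f : B, Ideal.Quotient.mk J f ∉ x.asIdeal ∧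
      ∃ J₀ : Ideal (Localization.Away f), J₀ ≤ J.map (algebraMap B (Localization.Away f)) ∧
        ((Ideal.Quotient.mk J₀).comp ((algebraMap B (Localization.Away f)).comp (algebraMap C B))).Etale := by

  classical
  let P : Ideal B := x.asIdeal.comap (Ideal.Quotient.mk J)
  haveI : P.IsPrime := inferInstance
  let T := Localization.AtPrime P
  have hrange : Set.range (KaehlerDifferential.map C C B T ∘ KaehlerDifferential.D C B) ⊆
      Set.range (fun j : J => KaehlerDifferential.map C C B T (KaehlerDifferential.D C B (j : B))) := by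
    rintro _ ⟨b, rfl⟩
    obtain ⟨c, hc⟩ := hsurj (Ideal.Quotient.mk J b)
    refine ⟨⟨b - algebraMap C B c, Ideal.Quotient.eq.mp hc.symm⟩, ?_⟩
    simp
  haveI : Module.FinitePresentation T (Ω[T⁄C]) := Module.finitePresentation_of_projective T _
  obtain ⟨κ, a, b, hb⟩ := Module.exists_basis_of_span_of_flat
    (fun j : J => KaehlerDifferential.map C C B T (KaehlerDifferential.D C B (j : B)))
    (top_le_iff.mp ((KaehlerDifferential.span_range_map_derivation_of_isLocalization C B T P.primeCompl).ge.trans
      (Submodule.span_mono hrange)))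
  let e : (κ →₀ B) →ₗ[B] Ω[B⁄C] :=
    Finsupp.linearCombination B fun i : κ => KaehlerDifferential.D C B (a i : B)
  let l₁ : (κ →₀ B) →ₗ[B] (κ →₀ T) := Finsupp.mapRange.linearMap (Algebra.linearMap B T)
  let l₂ : Ω[B⁄C] →ₗ[B] Ω[T⁄C] := KaehlerDifferential.map C C B T
  let eₚ : (κ →₀ T) →ₗ[T] Ω[T⁄C] := IsLocalizedModule.mapExtendScalars P.primeCompl l₁ l₂ T e
  have he : eₚ = b.repr.symm := by
    ext i
    trans IsLocalizedModule.map P.primeCompl l₁ l₂ e <| l₁ <| Finsupp.single i 1
    · simp [eₚ, -IsLocalizedModule.map_apply, l₁]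
    · simp [l₂, e, hb]
  have heₚ : Function.Bijective eₚ := he ▸ b.repr.symm.bijective
  haveI : Finite κ := Module.Finite.finite_basis b
  obtain ⟨g, hg, h⟩ := Module.FinitePresentation.exists_notMem_bijective e P l₁ l₂ heₚ
  let B' := Localization.Away g
  let l₁ₜ : (κ →₀ B) →ₗ[B] (κ →₀ B') := Finsupp.mapRange.linearMap (Algebra.linearMap B B')
  let l₂ₜ : Ω[B⁄C] →ₗ[B] Ω[B'⁄C] := KaehlerDifferential.map C C B B'
  rw [← IsLocalizedModule.map_bijective_iff_localizedModuleMap_bijective l₁ₜ l₂ₜ] at h
  let eₜ' : (κ →₀ B') →ₗ[B'] Ω[B'⁄C] :=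
    IsLocalizedModule.mapExtendScalars (Submonoid.powers g) l₁ₜ l₂ₜ B' e
  let bb : Module.Basis κ B' (Ω[B'⁄C]) := .ofRepr (LinearEquiv.ofBijective eₜ' h).symm
  have hbb : ∀ i, bb i = KaehlerDifferential.D C B' (algebraMap B B' (a i : B)) := fun i => by
    show eₜ' (Finsupp.single i 1) = _
    trans IsLocalizedModule.map (Submonoid.powers g) l₁ₜ l₂ₜ e <| l₁ₜ <| Finsupp.single i 1
    · simp [eₜ', -IsLocalizedModule.map_apply, l₁ₜ]
    · simp [l₂ₜ, e]
  haveI : Algebra.Smooth B B' := Algebra.Smooth.of_isLocalization_Away g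
  haveI : Algebra.Smooth C B' := Algebra.Smooth.comp C B B'
  have het := etale_quotient_of_basis (fun i => algebraMap B B' (a i : B)) bb hbb
  refine ⟨g, hg, Ideal.span (Set.range fun i => algebraMap B B' (a i : B)),
    Ideal.span_le.mpr (Set.range_subset_iff.mpr fun i => Ideal.mem_map_of_mem _ (a i).2), ?_⟩
  exact RingHom.etale_algebraMap.mpr het

end Groth.Agent.S18416
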