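import Groth.Statements.S18417
import Groth.Agent.EGA4Alg4.QuasiReg
import Mathlib.RingTheory.Smooth.Basic
import Mathlib.RingTheory.MvPolynomial.Ideal

set_option autoImplicit false
universe u v
open CAlg

namespace Groth.Agent.S18417

/-- Let R → A be a ring homomorphism and x_1, …, x_d a weakly regular sequence in A generating an ideal
J such that B = A/J is formally smooth over R. Then for every N ≥ 1 there is an isomorphism of
R-algebras e : A/J^N ≅ B[T_1, …, T_d]/(T_1, …, T_d)^N which sends the class of x_i to the class of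
T_i and which is compatible with the projections to B: for every a ∈ A, e(a mod J^N) is congruent to
the constant a mod J modulo the ideal generated by the variables. (The source also assumes R → A
smooth, which its argument does not use, and a regular sequence; weak regularity is what the
argument uses.) -/
theorem result
    (R : Type u) (A : Type v) [CommRing R] [CommRing A] [Algebra R A] (d : ℕ) (x : Fin d → A)
    (hreg : RingTheory.Sequence.IsWeaklyRegular A (List.ofFn x))
    [Algebra.FormallySmooth R (A ⧸ Ideal.span (Set.range x))] (N : ℕ) (hN : 1 ≤ N) :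
    ∃ e : (A ⧸ Ideal.span (Set.range x) ^ N) ≃ₐ[R]
        (MvPolynomial (Fin d) (A ⧸ Ideal.span (Set.range x)) ⧸
          Ideal.span (Set.range (MvPolynomial.X : Fin d → MvPolynomial (Fin d) (A ⧸ Ideal.span (Set.range x)))) ^ N),
      (∀ i : Fin d, e (Ideal.Quotient.mk _ (x i)) = Ideal.Quotient.mk _ (MvPolynomial.X i)) ∧
      ∀ a : A, e (Ideal.Quotient.mk _ a) - Ideal.Quotient.mk _ (MvPolynomial.C (Ideal.Quotient.mk _ a)) ∈
        (Ideal.span (Set.range (MvPolynomial.X : Fin d → MvPolynomial (Fin d) (A ⧸ Ideal.span (Set.range x))))).map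
          (Ideal.Quotient.mk _) := by

  classical
  set J := Ideal.span (Set.range x) with hJdef
  set T := Ideal.span (Set.range (MvPolynomial.X : Fin d → MvPolynomial (Fin d) (A ⧸ J))) with hT
  have hTv : T = MvPolynomial.idealOfVars (Fin d) (A ⧸ J) := rfl
  have hN0 : N ≠ 0 := Nat.one_le_iff_ne_zero.mp hN
  have hle : J ^ N ≤ J := Ideal.pow_le_self hN0
  let q : A ⧸ J ^ N →ₐ[R] A ⧸ J := Ideal.Quotient.factorₐ R hle
  have hq : Function.Surjective q := fun z => by
    obtain ⟨a, rfl⟩ := Ideal.Quotient.mk_surjective z; exact ⟨Ideal.Quotient.mk _ a, rfl⟩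
  have hqker : ∀ z, q z = 0 ↔ z ∈ J.map (Ideal.Quotient.mk (J ^ N)) := fun z => by
    obtain ⟨a, rfl⟩ := Ideal.Quotient.mk_surjective z
    show Ideal.Quotient.mk J a = 0 ↔ _
    rw [Ideal.mem_map_iff_of_surjective _ Ideal.Quotient.mk_surjective, Ideal.Quotient.eq_zero_iff_mem]
    refine ⟨fun h => ⟨a, h, rfl⟩, fun ⟨b, hb, hab⟩ => ?_⟩
    have h3 := sub_mem hb (hle (Ideal.Quotient.eq.mp hab))
    rwa [sub_sub_cancel] at h3
  have hnil : IsNilpotent (RingHom.ker (q : A ⧸ J ^ N →+* A ⧸ J)) := by
    refine ⟨N, le_bot_iff.mp ((Ideal.pow_right_mono (fun z hz => (hqker z).mp hz) N).trans ?_)⟩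
    rw [← Ideal.map_pow, Ideal.map_quotient_self]
  let σ := Algebra.FormallySmooth.liftOfSurjective (AlgHom.id R (A ⧸ J)) q hq hnil
  have hσ : ∀ b, q (σ b) = b :=
    DFunLike.congr_fun (Algebra.FormallySmooth.comp_liftOfSurjective _ q hq hnil)
  letI : Algebra (A ⧸ J) (A ⧸ J ^ N) := σ.toRingHom.toAlgebra
  haveI : IsScalarTower R (A ⧸ J) (A ⧸ J ^ N) := IsScalarTower.of_algebraMap_eq fun r => (σ.commutes r).symm
  let Ψ : MvPolynomial (Fin d) (A ⧸ J) →ₐ[A ⧸ J] A ⧸ J ^ N :=
    MvPolynomial.aeval fun i => Ideal.Quotient.mk (J ^ N) (x i)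
  set J' := J.map (Ideal.Quotient.mk (J ^ N)) with hJ'
  have hJ'X : J' = Ideal.span (Set.range fun i => Ideal.Quotient.mk (J ^ N) (x i)) := by
    rw [hJ', hJdef, Ideal.map_span, ← Set.range_comp]; rfl
  have hΨT : ∀ n, ∀ P ∈ T ^ n, Ψ P ∈ J' ^ n := by
    intro n P hP
    have h := Ideal.mem_map_of_mem Ψ hP
    rw [Ideal.map_pow] at h
    refine Ideal.pow_right_mono ?_ n h
    rw [hT, Ideal.map_span, hJ'X, ← Set.range_comp]
    refine Ideal.span_mono (Set.range_subset_iff.mpr fun i => ⟨i, ?_⟩)
    simp [Ψ]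
  have hlift : ∀ a : A, Ψ (MvPolynomial.C (Ideal.Quotient.mk J a)) - Ideal.Quotient.mk (J ^ N) a ∈ J' := by
    intro a
    rw [← hqker, map_sub, MvPolynomial.aeval_C]
    show q (σ (Ideal.Quotient.mk J a)) - q (Ideal.Quotient.mk (J ^ N) a) = 0
    rw [hσ, sub_eq_zero]; rfl
  have hΨmap : ∀ k, ∀ P : MvPolynomial (Fin d) A, P.IsHomogeneous k →
      Ψ (MvPolynomial.map (Ideal.Quotient.mk J) P) - Ideal.Quotient.mk (J ^ N) (MvPolynomial.eval x P)
        ∈ J' ^ (k + 1) := by
    intro k P hP
    rw [P.as_sum, map_sum, map_sum, map_sum, map_sum, ← Finset.sum_sub_distrib]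
    refine Ideal.sum_mem _ fun e he => ?_
    rw [MvPolynomial.map_monomial, MvPolynomial.eval_monomial, MvPolynomial.aeval_monomial, map_mul,
      map_finsuppProd, pow_succ']
    simp only [map_pow, ← sub_mul]
    refine Ideal.mul_mem_mul ?_ ?_
    · have := hlift (P.coeff e)
      rwa [MvPolynomial.aeval_C] at this
    · have hk : e.sum (fun _ n => n) = k := by
        have h1 := hP (MvPolynomial.mem_support_iff.mp he)
        rw [Finsupp.weight_apply] at h1
        simpa using h1
      rw [← hk, Finsupp.sum, Finsupp.prod, hJ'X, ← Finset.prod_pow_eq_pow_sum]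
      exact Ideal.prod_mem_prod fun i _ => Ideal.pow_mem_pow (Ideal.subset_span (Set.mem_range_self i)) _
  have hqr := Groth.Agent.EGA4Alg4.isQuasiRegular_of_isWeaklyRegular d x hreg
  -- injectivity
  have hker : ∀ G, Ψ G = 0 → ∀ k ≤ N, G ∈ T ^ k := by
    intro G hG k
    induction k with
    | zero => intro _; simp
    | succ k ih =>
      intro hk
      have hGk := ih (by omega)
      rw [hTv, MvPolynomial.mem_pow_idealOfVars_iff'] at hGk ⊢
      have hdiff : G - MvPolynomial.homogeneousComponent k G ∈ T ^ (k + 1) := by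
        rw [hTv, MvPolynomial.mem_pow_idealOfVars_iff']
        intro e he
        rw [MvPolynomial.coeff_sub, MvPolynomial.coeff_homogeneousComponent]
        split_ifs with h
        · exact sub_self _
        · rw [sub_zero]; exact hGk e (by omega)
      obtain ⟨P, hP⟩ := MvPolynomial.map_surjective (Ideal.Quotient.mk J) Ideal.Quotient.mk_surjective G
      have hP' : MvPolynomial.map (Ideal.Quotient.mk J) (MvPolynomial.homogeneousComponent k P) =
          MvPolynomial.homogeneousComponent k G := by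
        ext e
        rw [MvPolynomial.coeff_map, MvPolynomial.coeff_homogeneousComponent,
          MvPolynomial.coeff_homogeneousComponent]
        split_ifs
        · rw [← MvPolynomial.coeff_map, hP]
        · exact map_zero _
      have h1 := hΨmap k _ (MvPolynomial.homogeneousComponent_isHomogeneous k P)
      have h2 := hΨT _ _ hdiff
      rw [map_sub, hG, zero_sub, neg_mem_iff, ← hP'] at h2
      have h3 := sub_mem h2 h1
      rw [sub_sub_cancel, hJ', ← Ideal.map_pow,
        Ideal.mem_map_iff_of_surjective _ Ideal.Quotient.mk_surjective] at h3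
      obtain ⟨b, hb, hbe⟩ := h3
      have hev : MvPolynomial.eval x (MvPolynomial.homogeneousComponent k P) ∈ J ^ (k + 1) := by
        have h4 := sub_mem hb (Ideal.pow_le_pow_right hk (Ideal.Quotient.eq.mp hbe))
        rwa [sub_sub_cancel] at h4
      have hc := hqr k _ (MvPolynomial.homogeneousComponent_isHomogeneous k P) hev
      intro e he
      rcases Nat.lt_or_ge e.degree k with h | h
      · exact hGk e h
      · have hek : e.degree = k := by omega
        have := hc e
        rw [MvPolynomial.coeff_homogeneousComponent, if_pos hek, ← hJdef] at this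
        rw [← hP, MvPolynomial.coeff_map]
        exact Ideal.Quotient.eq_zero_iff_mem.mpr this
  -- surjectivity
  have hsurj : Function.Surjective Ψ := by
    have hgen : ∀ j, ∀ z ∈ J' ^ j, ∃ P, z - Ψ P ∈ J' ^ (j + 1) := by
      intro j z hz
      rw [hJ', ← Ideal.map_pow, Ideal.mem_map_iff_of_surjective _ Ideal.Quotient.mk_surjective] at hz
      obtain ⟨a, ha, rfl⟩ := hz
      obtain ⟨P, hP, rfl⟩ := (Ideal.mem_span_pow_iff_exists_isHomogeneous _ _).mp ha
      refine ⟨MvPolynomial.map (Ideal.Quotient.mk J) P, ?_⟩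
      rw [← neg_sub]; exact neg_mem (hΨmap j P hP)
    have : ∀ j z, ∃ P, z - Ψ P ∈ J' ^ j := by
      intro j
      induction j with
      | zero => intro z; exact ⟨0, by simp⟩
      | succ j ihj =>
        intro z
        obtain ⟨P, hP⟩ := ihj z
        obtain ⟨Q, hQ⟩ := hgen j _ hP
        exact ⟨P + Q, by rwa [map_add, ← sub_sub]⟩
    intro z
    obtain ⟨P, hP⟩ := this N z
    rw [hJ', ← Ideal.map_pow, Ideal.map_quotient_self, Ideal.mem_bot, sub_eq_zero] at hP
    exact ⟨P, hP.symm⟩
  have hTN : ∀ G ∈ T ^ N, (Ψ.restrictScalars R) G = 0 := fun G hG => by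
    have := hΨT N G hG
    rwa [hJ', ← Ideal.map_pow, Ideal.map_quotient_self, Ideal.mem_bot] at this
  let Φ := Ideal.Quotient.liftₐ (T ^ N) (Ψ.restrictScalars R) hTN
  have hΦ : Function.Bijective Φ := by
    refine ⟨(injective_iff_map_eq_zero _).mpr fun z hz => ?_, fun z => ?_⟩
    · obtain ⟨G, rfl⟩ := Ideal.Quotient.mk_surjective z
      exact Ideal.Quotient.eq_zero_iff_mem.mpr (hker G hz N le_rfl)
    · obtain ⟨G, hG⟩ := hsurj z
      exact ⟨Ideal.Quotient.mk _ G, hG⟩
  refine ⟨(AlgEquiv.ofBijective Φ hΦ).symm, fun i => ?_, fun a => ?_⟩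
  · rw [AlgEquiv.symm_apply_eq]
    exact (MvPolynomial.aeval_X (R := A ⧸ J) (fun j => Ideal.Quotient.mk (J ^ N) (x j)) i).symm
  · obtain ⟨G, hG⟩ := hsurj (Ideal.Quotient.mk (J ^ N) a)
    have e : (AlgEquiv.ofBijective Φ hΦ).symm (Ideal.Quotient.mk (J ^ N) a) = Ideal.Quotient.mk _ G := by
      rw [AlgEquiv.symm_apply_eq]; exact hG.symm
    rw [e, ← map_sub]
    refine Ideal.mem_map_of_mem _ ?_
    have h0 : G - MvPolynomial.C (Ideal.Quotient.mk J a) =
        (G - MvPolynomial.C (MvPolynomial.constantCoeff G)) +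
          MvPolynomial.C (MvPolynomial.constantCoeff G - Ideal.Quotient.mk J a) := by
      rw [map_sub]; ring
    have hTG : G - MvPolynomial.C (MvPolynomial.constantCoeff G) ∈ T := by
      rw [← pow_one T, hTv, MvPolynomial.mem_pow_idealOfVars_iff']
      intro e he
      have : e = 0 := by
        rw [← Finsupp.degree_eq_zero_iff]; omega
      subst this
      simp [MvPolynomial.constantCoeff_eq]
    have hc : MvPolynomial.constantCoeff G - Ideal.Quotient.mk J a = 0 := by
      have h5 := hΨT 1 _ (by rwa [pow_one])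
      rw [pow_one, ← hqker, map_sub, hG, MvPolynomial.aeval_C, map_sub, sub_eq_zero] at h5
      rw [sub_eq_zero]
      exact (h5.trans (hσ _)).symm
    rw [h0, hc, map_zero, add_zero]
    exact hTG

end Groth.Agent.S18417
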