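import Groth.Statements.S18418
import Groth.Agent.FL52.Basic

set_option autoImplicit false
universe u v
open FonLaf

namespace Groth.Agent.S18418

/-- Let k be a perfect field of characteristic p and W = W(k) its ring of Witt vectors with Frobenius σ.
Fix r and W-modules of finite length N_0 = M, N_1, N_2, … with W-linear maps α_i : N_{i+1} → N_i and
σ-semilinear maps φ_i : N_i → M such that φ_i ∘ α_i = p φ_{i+1} for all i < r. Let ι be the map
sending (x_1, …, x_r) ∈ N_1 ⊕ ⋯ ⊕ N_r to (α_0 x_1, α_1 x_2 − p x_1, …, α_{r−1} x_r − p x_{r−1}, −p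
x_r) ∈ N_0 ⊕ ⋯ ⊕ N_r, and Φ the map N_0 ⊕ ⋯ ⊕ N_r → M, (y_i) ↦ Σ_i φ_i(y_i). Suppose that Φ is
surjective and that its kernel is contained in the image of ι (with the displayed relation this says
that Φ induces a σ-semilinear bijection from the cokernel of ι onto M). Then for every i < r the map
α_i is injective and its image is a direct summand of N_i (so the N_i form a filtration of M by
direct summands, the data of a Fontaine–Laffaille module). Families are indexed by all natural
numbers; only the indices ≤ r enter. -/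
theorem result (p : ℕ) [Fact p.Prime]
    (k : Type u) [Field k] [CharP k p] [PerfectRing k p] (r : ℕ)
    (N : ℕ → Type v) [∀ i, AddCommGroup (N i)] [∀ i, Module (WittVector p k) (N i)]
    (hfl : ∀ i, IsFiniteLength (WittVector p k) (N i))
    (α : ∀ i, N (i + 1) →ₗ[WittVector p k] N i)
    (φ : ∀ i, N i →ₛₗ[(WittVector.frobenius : WittVector p k →+* WittVector p k)] N 0)
    (hφ : ∀ i, i < r → ∀ y : N (i + 1), φ i (α i y) = (p : WittVector p k) • φ (i + 1) y)
    (hsurj : ∀ m : N 0, ∃ y : (i : ℕ) → N i, (∀ i, r < i → y i = 0) ∧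
      (Finset.range (r + 1)).sum (fun i => φ i (y i)) = m)
    (hker : ∀ y : (i : ℕ) → N i, (∀ i, r < i → y i = 0) →
      (Finset.range (r + 1)).sum (fun i => φ i (y i)) = 0 →
        ∃ z : (i : ℕ) → N (i + 1), (∀ i, r ≤ i → z i = 0) ∧
          y 0 = α 0 (z 0) ∧ ∀ i, y (i + 1) = α (i + 1) (z (i + 1)) - (p : WittVector p k) • z i)
    (i : ℕ) (hi : i < r) :
    Function.Injective (α i) ∧
      ∃ Q : Submodule (WittVector p k) (N i), IsCompl (LinearMap.range (α i)) Q := by
  classical
  set W := WittVector p k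
  have hirr : Irreducible (p : W) := WittVector.irreducible p
  have hmax : (p : W) ∈ IsLocalRing.maximalIdeal W := hirr.not_isUnit
  have hfin : ∀ j, IsNoetherian W (N j) ∧ IsArtinian W (N j) := fun j =>
    isFiniteLength_iff_isNoetherian_isArtinian.1 (hfl j)
  haveI : ∀ j, IsNoetherian W (N j) := fun j => (hfin j).1
  haveI : ∀ j, IsArtinian W (N j) := fun j => (hfin j).2
  haveI : RingHomSurjective (WittVector.frobenius : W →+* W) := ⟨(WittVector.frobenius_bijective p k).2⟩
  let ext : ((j : Fin r) → N ((j : ℕ) + 1)) →ₗ[W] ((j : ℕ) → N (j + 1)) :=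
    LinearMap.pi fun j => if h : j < r then LinearMap.proj (⟨j, h⟩ : Fin r) else 0
  let thN : ((j : ℕ) → N (j + 1)) →ₗ[W] ((j : ℕ) → N j) :=
    LinearMap.pi fun j => match j with
      | 0 => (α 0).comp (LinearMap.proj 0)
      | j + 1 => (α (j + 1)).comp (LinearMap.proj (j + 1)) - (p : W) • LinearMap.proj j
  let θ : ((j : Fin r) → N ((j : ℕ) + 1)) →ₗ[W] ((j : Fin (r + 1)) → N (j : ℕ)) :=
    (LinearMap.pi fun j : Fin (r + 1) => LinearMap.proj (j : ℕ)) ∘ₗ thN ∘ₗ ext
  let Φ : ((j : Fin (r + 1)) → N (j : ℕ)) →ₛₗ[(WittVector.frobenius : W →+* W)] N 0 :=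
    ∑ j : Fin (r + 1), (φ (j : ℕ)).comp (LinearMap.proj j)
  have hΦ : Function.Surjective Φ := by
    intro m
    obtain ⟨y, _, hy⟩ := hsurj m
    refine ⟨fun j => y j, ?_⟩
    rw [← hy, ← Fin.sum_univ_eq_sum_range (fun i => φ i (y i))]
    simp [Φ, LinearMap.sum_apply]
  have hk : LinearMap.ker Φ ≤ LinearMap.range θ := by
    intro x hx
    let y : (j : ℕ) → N j := fun j => if h : j < r + 1 then x ⟨j, h⟩ else 0
    obtain ⟨z, hz0, hza, hzb⟩ := hker y (fun j hj => dif_neg (by omega)) (by
      rw [← Fin.sum_univ_eq_sum_range (fun i => φ i (y i))]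
      refine Eq.trans ?_ (LinearMap.mem_ker.1 hx)
      simp [Φ, LinearMap.sum_apply, y, Fin.is_le])
    refine ⟨fun j => z j, ?_⟩
    have hext : ext (fun j => z j) = z := by
      funext j
      by_cases h : j < r
      · simp [ext, h]
      · simp [ext, h, hz0 j (by omega)]
    funext ⟨j, hj⟩
    simp only [θ, LinearMap.comp_apply, hext, LinearMap.pi_apply, LinearMap.proj_apply]
    cases j with
    | zero => simpa [thN, y, hj] using hza.symm
    | succ j => simpa [thN, y, hj, show j < r by omega] using (hzb j).symm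
  have key : ∀ (m : ℕ) (w : N (i + 1)), α i w ∈ FL52.sm ((p : W) ^ m) (N i) →
      (p : W) • w ∈ FL52.sm ((p : W) ^ m) (N (i + 1)) → w ∈ FL52.sm ((p : W) ^ m) (N (i + 1)) := by
    intro m w ha hb
    let e : ((j : Fin (r + 1)) → N (j : ℕ)) ≃ₗ[W] N 0 × ((j : Fin r) → N ((j : ℕ) + 1)) :=
      (Fin.consLinearEquiv W (fun j : Fin (r + 1) => N (j : ℕ))).symm
    have h := FL52.comap_sm_le e θ Φ hΦ hk ((p : W) ^ m) (by rw [map_pow, map_natCast])
      (y := Pi.single (⟨i, hi⟩ : Fin r) w) ?_
    · obtain ⟨y, hy⟩ := h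
      refine ⟨y ⟨i, hi⟩, ?_⟩
      have := congrFun hy ⟨i, hi⟩
      simpa using this
    · have hext : ext (Pi.single (⟨i, hi⟩ : Fin r) w) = Pi.single i w := by
        funext j
        by_cases h : j < r
        · rcases eq_or_ne j i with rfl | hne
          · simp [ext, h]
          · simp [ext, h, hne, Fin.ext_iff]
        · simp [ext, h, show j ≠ i by omega]
      have hc : ∀ j : Fin (r + 1), θ (Pi.single (⟨i, hi⟩ : Fin r) w) j ∈ FL52.sm ((p : W) ^ m) (N (j : ℕ)) := by
        rintro ⟨j, hj⟩
        simp only [θ, LinearMap.comp_apply, hext, LinearMap.pi_apply, LinearMap.proj_apply]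
        cases j with
        | zero =>
          rcases eq_or_ne 0 i with h | h
          · subst h; simpa [thN] using ha
          · simp [thN, h]
        | succ j =>
          rcases eq_or_ne j i with h | h
          · subst h; simpa [thN] using hb
          · rcases eq_or_ne (j + 1) i with h' | h'
            · subst h'; simpa [thN] using ha
            · simp [thN, h, h']
      choose y hy using hc
      exact ⟨y, funext hy⟩
  have hdown : ∀ (m : ℕ) (w : N (i + 1)), α i w ∈ FL52.sm ((p : W) ^ m) (N i) →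
      w ∈ FL52.sm ((p : W) ^ m) (N (i + 1)) := by
    intro m w ha
    have : ∀ t, t ≤ m → (p : W) ^ (m - t) • w ∈ FL52.sm ((p : W) ^ m) (N (i + 1)) := by
      intro t
      induction t with
      | zero => exact fun _ => ⟨w, rfl⟩
      | succ t ih =>
        intro ht
        refine key m _ ?_ ?_
        · rw [map_smul]
          exact Submodule.smul_mem _ _ ha
        · rw [smul_smul, ← pow_succ', show m - (t + 1) + 1 = m - t by omega]
          exact ih (by omega)
    simpa using this m le_rfl
  have hinj : Function.Injective (α i) := (injective_iff_map_eq_zero _).2 fun w hw => by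
    obtain ⟨m, hm⟩ := FL52.exists_pow_smul_eq_zero hmax (N (i + 1)) (hfl _)
    obtain ⟨y, hy⟩ := hdown m w (by rw [hw]; exact zero_mem _)
    exact hy.symm.trans (hm y)
  refine ⟨hinj, FL52.exists_isCompl_of_pure hirr ?_ _ ?_⟩
  · exact FL52.exists_pow_smul_eq_zero hmax (N i) (hfl _)
  · rintro e x ⟨w, hw⟩
    obtain ⟨w', rfl⟩ := hdown e w ⟨x, hw.symm⟩
    refine ⟨α i w', ⟨w', rfl⟩, ?_⟩
    rw [← map_smul]
    exact hw

end Groth.Agent.S18418
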