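import Groth.Statements.S18419
import Groth.Agent.DR29.Variable
import Groth.Agent.DR29.Functorial
import Groth.Agent.DPow29.Dual
import Mathlib.RingTheory.Adjoin.Basic

set_option autoImplicit false
universe u v
open DPow

namespace Groth.Agent.S18419

/-- The dual number attached to a partial derivative. -/
theorem exists_partial (B : Type u) [CommRing B] {J : Ideal B} (δ : DividedPowers J) (n : ℕ)
    (P : Type u) [CommRing P] [Algebra B P] (JP : Ideal P) (δP : DividedPowers JP) (X : Fin n → P)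
    (hX : ∀ i, X i ∈ JP) (hmor : δ.IsDPMorphism δP (algebraMap B P))
    (huniv : ∀ (C : Type u) [CommRing C] [Algebra B C] (K : Ideal C) (ε : DividedPowers K),
      δ.IsDPMorphism ε (algebraMap B C) → ∀ k : Fin n → C, (∀ i, k i ∈ K) →
        ∃! φ : P →ₐ[B] C, (∀ i, φ (X i) = k i) ∧ δP.IsDPMorphism ε φ.toRingHom) (i : Fin n) :
    ∃ D : Derivation B P P, (∀ l, D (X l) = if l = i then 1 else 0) ∧
      ∀ x ∈ JP, ∀ m, D (δP.dpow (m + 1) x) = δP.dpow m x * D x := by
  classical
  let T := TrivSqZeroExt P P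
  have hmorT : δ.IsDPMorphism (Agent.DPow29.dualDividedPowers δP) (algebraMap B T) := by
    refine ⟨Ideal.map_le_iff_le_comap.mpr fun a ha => ?_, fun a ha => ?_⟩
    · show (algebraMap B T a).fst ∈ JP
      rw [TrivSqZeroExt.algebraMap_eq_inl', TrivSqZeroExt.fst_inl]
      exact hmor.ideal_comp (Ideal.mem_map_of_mem _ ha)
    · rw [TrivSqZeroExt.algebraMap_eq_inl', TrivSqZeroExt.algebraMap_eq_inl',
        Agent.DPow29.dualDividedPowers_inl δP (hmor.ideal_comp (Ideal.mem_map_of_mem _ ha)),
        hmor.dpow_comp a ha]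
  obtain ⟨φ, ⟨hφ, hφd⟩, -⟩ := huniv T _ (Agent.DPow29.dualDividedPowers δP) hmorT
    (fun l => TrivSqZeroExt.inl (X l) + TrivSqZeroExt.inr (if l = i then 1 else 0)) fun l => by
      show (TrivSqZeroExt.inl (X l) + TrivSqZeroExt.inr _ : T).fst ∈ JP
      rw [TrivSqZeroExt.fst_add, TrivSqZeroExt.fst_inl, TrivSqZeroExt.fst_inr, add_zero]
      exact hX l
  obtain ⟨χ, -, huniq⟩ := huniv P JP δP hmor X hX
  have hid : (AlgHom.id B P) = χ :=
    huniq _ ⟨fun _ => rfl, ⟨Ideal.map_le_iff_le_comap.mpr fun x hx => hx, fun _ _ => rfl⟩⟩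
  let π : P →ₐ[B] P := ((TrivSqZeroExt.fstHom P P P).restrictScalars B).comp φ
  have hπ : π = χ := by
    refine huniq π ⟨fun l => ?_, ⟨Ideal.map_le_iff_le_comap.mpr fun x hx => ?_, fun {m} x hx => ?_⟩⟩
    · show (φ (X l)).fst = X l
      rw [hφ, TrivSqZeroExt.fst_add, TrivSqZeroExt.fst_inl, TrivSqZeroExt.fst_inr, add_zero]
    · exact hφd.ideal_comp (Ideal.mem_map_of_mem _ hx)
    · have h := congrArg TrivSqZeroExt.fst (hφd.dpow_comp (n := m) x hx)
      exact ((Agent.DPow29.fst_dualDpow δP (hφd.ideal_comp (Ideal.mem_map_of_mem _ hx)) m).symm).trans h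
  have hfst : ∀ x, (φ x).fst = x := fun x => by
    have h := DFunLike.congr_fun (hπ.trans hid.symm) x
    exact h
  let D : Derivation B P P := Derivation.mk'
    { toFun := fun x => (φ x).snd
      map_add' := fun x y => by rw [map_add, TrivSqZeroExt.snd_add]
      map_smul' := fun c x => by rw [map_smul, TrivSqZeroExt.snd_smul, RingHom.id_apply] }
    fun x y => by
      show (φ (x * y)).snd = x * (φ y).snd + y * (φ x).snd
      rw [map_mul, Agent.DPow29.snd_mul', hfst, hfst]
  refine ⟨D, fun l => ?_, fun x hx m => ?_⟩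
  · show (φ (X l)).snd = _
    rw [hφ, TrivSqZeroExt.snd_add, TrivSqZeroExt.snd_inl, TrivSqZeroExt.snd_inr, zero_add]
  · show (φ (δP.dpow (m + 1) x)).snd = δP.dpow m x * (φ x).snd
    have hmem : (φ x).fst ∈ JP := by rw [hfst]; exact hx
    have h := congrArg TrivSqZeroExt.snd (hφd.dpow_comp (n := m + 1) x hx)
    refine h.symm.trans ?_
    show (Agent.DPow29.dualDpow δP (m + 1) (φ x)).snd = _
    rw [Agent.DPow29.snd_dualDpow_succ δP hmem, hfst]

/-- The divided power polynomial algebra is generated by the divided powers of the variables. -/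
theorem adjoin_eq_top (B : Type u) [CommRing B] {J : Ideal B} (δ : DividedPowers J) (n : ℕ)
    (P : Type u) [CommRing P] [Algebra B P] (JP : Ideal P) (δP : DividedPowers JP) (X : Fin n → P)
    (hX : ∀ i, X i ∈ JP) (hmor : δ.IsDPMorphism δP (algebraMap B P))
    (huniv : ∀ (C : Type u) [CommRing C] [Algebra B C] (K : Ideal C) (ε : DividedPowers K),
      δ.IsDPMorphism ε (algebraMap B C) → ∀ k : Fin n → C, (∀ i, k i ∈ K) →
        ∃! φ : P →ₐ[B] C, (∀ i, φ (X i) = k i) ∧ δP.IsDPMorphism ε φ.toRingHom)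
    (z : P →ₐ[B] B) (hz : ∀ i, z (X i) = 0) (hzmor : δP.IsDPMorphism δ z.toRingHom) :
    Algebra.adjoin B {y : P | ∃ l m, y = δP.dpow m (X l)} = ⊤ := by
  classical
  let Q := Algebra.adjoin B {y : P | ∃ l m, y = δP.dpow m (X l)}
  let W : P → Prop := fun y => y ∈ JP ∧ ∀ m, δP.dpow m y ∈ Q
  have hW0 : W 0 := ⟨zero_mem _, fun m => by
    rcases Nat.eq_zero_or_pos m with rfl | hm
    · rw [δP.dpow_zero (zero_mem _)]; exact one_mem Q
    · rw [δP.dpow_eval_zero hm.ne']; exact zero_mem Q⟩
  have hWadd : ∀ a b, W a → W b → W (a + b) := fun a b ha hb => ⟨add_mem ha.1 hb.1, fun m => by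
    rw [δP.dpow_add ha.1 hb.1]
    exact sum_mem fun k _ => mul_mem (ha.2 _) (hb.2 _)⟩
  have hWmul : ∀ a b, a ∈ Q → W b → W (a * b) := fun a b ha hb => ⟨JP.mul_mem_left _ hb.1, fun m => by
    rw [δP.dpow_mul hb.1]
    exact mul_mem (pow_mem ha _) (hb.2 _)⟩
  have hWB : ∀ a ∈ J, W (algebraMap B P a) := fun a ha =>
    ⟨hmor.ideal_comp (Ideal.mem_map_of_mem _ ha), fun m => by
      rw [hmor.dpow_comp a ha]; exact Q.algebraMap_mem _⟩
  have hQ : ∀ q ∈ Q, W (q - algebraMap B P (z q)) := by
    intro q hq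
    induction hq using Algebra.adjoin_induction with
    | mem q hq =>
      obtain ⟨l, m, rfl⟩ := hq
      rcases Nat.eq_zero_or_pos m with rfl | hm
      · rw [δP.dpow_zero (hX l), map_one, map_one, sub_self]; exact hW0
      · have hzd : z (δP.dpow m (X l)) = 0 := by
          have h := hzmor.dpow_comp (n := m) _ (hX l)
          refine h.symm.trans ?_
          show δ.dpow m (z (X l)) = 0
          rw [hz, δ.dpow_eval_zero hm.ne']
        rw [hzd, map_zero, sub_zero]
        refine ⟨δP.dpow_mem hm.ne' (hX l), fun j => ?_⟩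
        rw [δP.dpow_comp hm.ne' (hX l)]
        exact mul_mem (natCast_mem Q _) (Algebra.subset_adjoin ⟨l, j * m, rfl⟩)
    | algebraMap r => rw [AlgHom.commutes, Algebra.algebraMap_self, RingHom.id_apply, sub_self]; exact hW0
    | add a b _ _ ha hb =>
      rw [map_add, map_add, add_sub_add_comm]; exact hWadd _ _ ha hb
    | mul a b ha' hb' ha hb =>
      rw [show a * b - algebraMap B P (z (a * b)) = a * (b - algebraMap B P (z b)) +
        algebraMap B P (z b) * (a - algebraMap B P (z a)) by rw [map_mul, map_mul]; ring]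
      exact hWadd _ _ (hWmul _ _ ha' hb) (hWmul _ _ (Q.algebraMap_mem _) ha)
  have hdpow : ∀ q : Q, (q : P) ∈ JP → ∀ m, δP.dpow m (q : P) ∈ Q := fun q hq m => by
    have hzq : z q ∈ J := hzmor.ideal_comp (Ideal.mem_map_of_mem _ hq)
    have h := hWadd _ _ (hQ q q.2) (hWB _ hzq)
    rw [sub_add_cancel] at h
    exact h.2 m
  let K : Ideal Q := JP.comap Q.val.toRingHom
  have hK : ∀ q, q ∈ K ↔ (q : P) ∈ JP := fun _ => Iff.rfl
  let ε : DividedPowers K :=
    { dpow := fun m q => if h : (q : P) ∈ JP then ⟨δP.dpow m q, hdpow q h m⟩ else 0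
      dpow_null := fun {m q} h => dif_neg h
      dpow_zero := fun {q} h => by
        rw [dif_pos ((hK q).mp h)]; exact Subtype.ext (δP.dpow_zero ((hK q).mp h))
      dpow_one := fun {q} h => by
        rw [dif_pos ((hK q).mp h)]; exact Subtype.ext (δP.dpow_one ((hK q).mp h))
      dpow_mem := fun {m q} hm h => by
        rw [dif_pos ((hK q).mp h)]; exact δP.dpow_mem hm ((hK q).mp h)
      dpow_add := fun {m x y} hx hy => by
        replace hx : (x : P) ∈ JP := hx
        replace hy : (y : P) ∈ JP := hy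
        have hxy : ((x + y : Q) : P) ∈ JP := add_mem hx hy
        simp only [dif_pos hx, dif_pos hy, dif_pos hxy]
        refine Subtype.ext ?_
        rw [AddSubmonoidClass.coe_finsetSum]
        exact δP.dpow_add hx hy
      dpow_mul := fun {m a x} hx => by
        replace hx : (x : P) ∈ JP := hx
        have hax : ((a * x : Q) : P) ∈ JP := JP.mul_mem_left _ hx
        simp only [dif_pos hx, dif_pos hax]
        exact Subtype.ext (δP.dpow_mul hx)
      mul_dpow := fun {m k x} hx => by
        replace hx : (x : P) ∈ JP := hx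
        simp only [dif_pos hx]
        exact Subtype.ext ((δP.mul_dpow hx).trans (by simp))
      dpow_comp := fun {m k x} hk hx => by
        replace hx : (x : P) ∈ JP := hx
        simp only [dif_pos hx, dif_pos (δP.dpow_mem hk hx)]
        exact Subtype.ext ((δP.dpow_comp hk hx).trans (by simp)) }
  have hmorQ : δ.IsDPMorphism ε (algebraMap B Q) := by
    refine ⟨Ideal.map_le_iff_le_comap.mpr fun a ha => hmor.ideal_comp (Ideal.mem_map_of_mem _ ha),
      fun a ha => ?_⟩
    refine (dif_pos (hmor.ideal_comp (Ideal.mem_map_of_mem _ ha))).trans ?_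
    exact Subtype.ext (hmor.dpow_comp a ha)
  have hXQ : ∀ l, X l ∈ Q := fun l => Algebra.subset_adjoin ⟨l, 1, (δP.dpow_one (hX l)).symm⟩
  obtain ⟨φ, ⟨hφ, hφd⟩, -⟩ := huniv Q K ε hmorQ (fun l => ⟨X l, hXQ l⟩) fun l => hX l
  obtain ⟨χ, -, huniq⟩ := huniv P JP δP hmor X hX
  have hid : (AlgHom.id B P) = χ :=
    huniq _ ⟨fun _ => rfl, ⟨Ideal.map_le_iff_le_comap.mpr fun x hx => hx, fun _ _ => rfl⟩⟩
  have hπ : Q.val.comp φ = χ := by
    refine huniq _ ⟨fun l => congrArg Subtype.val (hφ l), ⟨Ideal.map_le_iff_le_comap.mpr fun x hx => ?_,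
      fun {m} x hx => ?_⟩⟩
    · exact hφd.ideal_comp (Ideal.mem_map_of_mem _ hx)
    · have hxQ : (φ x : P) ∈ JP := hφd.ideal_comp (Ideal.mem_map_of_mem _ hx)
      have h := congrArg Subtype.val (hφd.dpow_comp (n := m) x hx)
      refine Eq.trans ?_ h
      show δP.dpow m (φ x : P) =
        ((if h : ((φ x : Q) : P) ∈ JP then (⟨δP.dpow m (φ x), hdpow _ h m⟩ : Q) else 0 : Q) : P)
      rw [dif_pos hxQ]
  refine eq_top_iff.mpr fun x _ => ?_
  have h := DFunLike.congr_fun (hπ.trans hid.symm) x
  rw [← show (φ x : P) = x from h]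
  exact (φ x).2

open exteriorPower in
/-- Let R be a ring and (B, J, δ) a divided power ring with B an R-algebra, and let P = B⟨X_1, …, X_n⟩
be the divided power polynomial algebra over it: a divided power ring (P, J_P, δ_P) with a B-algebra
structure making B → P a divided power morphism and elements X_i ∈ J_P, universal among divided
power rings (C, K, ε) receiving a divided power morphism from (B, J, δ) together with chosen
elements k_i ∈ K. Let z : P → B be the B-algebra retraction sending each X_i to 0 that is a divided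
power morphism (it kills all X_i^[m], m ≥ 1). Form the divided power Kähler differentials on both
sides — Ω_{P/R} modulo the P-submodule generated by the d(δ_P^{[m+1]}x) − δ_P^{[m]}x·dx (x ∈ J_P, m
≥ 0), and likewise Ω_{B/R} modulo the relations from (J, δ) — with their induced derivations, let
d_P and d_B be de Rham differentials on the exterior powers of these receptacles and ψ the map of de
Rham complexes induced by z, compatible with d_P and d_B. Then ψ is a quasi-isomorphism: in every
degree i, every closed i-form on the B side is, up to an exact form, the image of a closed i-form on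
the P side, and a closed i-form on the P side whose image is exact is itself exact. (The source
states more: the map is a filtered homotopy equivalence for the divided power Hodge filtrations;
only the quasi-isomorphism is stated here.) -/
theorem result (R : Type v) [CommRing R]
    (B : Type u) [CommRing B] [Algebra R B] (J : Ideal B) (δ : DividedPowers J) (n : ℕ)
    (P : Type u) [CommRing P] [Algebra B P] [Algebra R P] [IsScalarTower R B P]
    (JP : Ideal P) (δP : DividedPowers JP) (X : Fin n → P) (hX : ∀ i, X i ∈ JP)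
    (hmor : δ.IsDPMorphism δP (algebraMap B P))
    (huniv : ∀ (C : Type u) [CommRing C] [Algebra B C] (K : Ideal C) (ε : DividedPowers K),
      δ.IsDPMorphism ε (algebraMap B C) → ∀ k : Fin n → C, (∀ i, k i ∈ K) →
        ∃! φ : P →ₐ[B] C, (∀ i, φ (X i) = k i) ∧ δP.IsDPMorphism ε φ.toRingHom)
    (z : P →ₐ[B] B) (hz : ∀ i, z (X i) = 0) (hzmor : δP.IsDPMorphism δ z.toRingHom)
    (NP : Submodule P (Ω[P⁄R]))
    (hNP : NP = Submodule.span P {ω : Ω[P⁄R] | ∃ x ∈ JP, ∃ m : ℕ,
      ω = KaehlerDifferential.D R P (δP.dpow (m + 1) x) - δP.dpow m x • KaehlerDifferential.D R P x})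
    (NB : Submodule B (Ω[B⁄R]))
    (hNB : NB = Submodule.span B {ω : Ω[B⁄R] | ∃ x ∈ J, ∃ m : ℕ,
      ω = KaehlerDifferential.D R B (δ.dpow (m + 1) x) - δ.dpow m x • KaehlerDifferential.D R B x})
    (dP : ∀ p : ℕ, ↥(⋀[P]^p (Ω[P⁄R] ⧸ NP)) →ₗ[R] ↥(⋀[P]^(p + 1) (Ω[P⁄R] ⧸ NP)))
    (hdP : DeRham.IsDiff (NP.mkQ.compDer (KaehlerDifferential.D R P)) dP)
    (dB : ∀ p : ℕ, ↥(⋀[B]^p (Ω[B⁄R] ⧸ NB)) →ₗ[R] ↥(⋀[B]^(p + 1) (Ω[B⁄R] ⧸ NB)))
    (hdB : DeRham.IsDiff (NB.mkQ.compDer (KaehlerDifferential.D R B)) dB)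
    (ψ : ∀ p : ℕ, ↥(⋀[P]^p (Ω[P⁄R] ⧸ NP)) →+ ↥(⋀[B]^p (Ω[B⁄R] ⧸ NB)))
    (hψ : DeRham.IsCxMap (NP.mkQ.compDer (KaehlerDifferential.D R P))
      (NB.mkQ.compDer (KaehlerDifferential.D R B)) z.toRingHom ψ)
    (hψd : ∀ (p : ℕ) (x : ↥(⋀[P]^p (Ω[P⁄R] ⧸ NP))), ψ (p + 1) (dP p x) = dB p (ψ p x)) (i : ℕ) :
    (∀ c ∈ DeRham.cocycles dB i, ∃ c' ∈ DeRham.cocycles dP i, ψ i c' - c ∈ DeRham.coboundaries dB i) ∧
      (∀ c' ∈ DeRham.cocycles dP i, ψ i c' ∈ DeRham.coboundaries dB i → c' ∈ DeRham.coboundaries dP i) := by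
  classical
  have hspan : Submodule.span P (Set.range (NP.mkQ.compDer (KaehlerDifferential.D R P))) = ⊤ := by
    rw [show Set.range (NP.mkQ.compDer (KaehlerDifferential.D R P)) =
      NP.mkQ '' Set.range (KaehlerDifferential.D R P) from Set.range_comp NP.mkQ (KaehlerDifferential.D R P), Submodule.span_image,
      KaehlerDifferential.span_range_derivation, Submodule.map_top, Submodule.range_mkQ]
  have hspanB : Submodule.span B (Set.range (NB.mkQ.compDer (KaehlerDifferential.D R B))) = ⊤ := by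
    rw [show Set.range (NB.mkQ.compDer (KaehlerDifferential.D R B)) =
      NB.mkQ '' Set.range (KaehlerDifferential.D R B) from Set.range_comp NB.mkQ (KaehlerDifferential.D R B), Submodule.span_image,
      KaehlerDifferential.span_range_derivation, Submodule.map_top, Submodule.range_mkQ]
  let DP := NP.mkQ.compDer (KaehlerDifferential.D R P)
  have hrel : ∀ x ∈ JP, ∀ m, DP (δP.dpow (m + 1) x) = δP.dpow m x • DP x := fun x hx m => by
    show NP.mkQ (KaehlerDifferential.D R P _) = δP.dpow m x • NP.mkQ (KaehlerDifferential.D R P x)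
    rw [← map_smul, Submodule.mkQ_apply, Submodule.mkQ_apply, Submodule.Quotient.eq, hNP]
    exact Submodule.subset_span ⟨x, hx, m, rfl⟩
  let f₀ : Ω[B⁄R] →ₗ[B] (Ω[P⁄R] ⧸ NP) :=
    (NP.mkQ.restrictScalars B).comp (KaehlerDifferential.map R R B P)
  have hf₀ : NB ≤ LinearMap.ker f₀ := by
    rw [hNB, Submodule.span_le]
    rintro _ ⟨x, hx, m, rfl⟩
    have hx' : algebraMap B P x ∈ JP := hmor.ideal_comp (Ideal.mem_map_of_mem _ hx)
    show f₀ _ = 0
    rw [map_sub, map_smul, sub_eq_zero]
    show NP.mkQ (KaehlerDifferential.map R R B P (KaehlerDifferential.D R B _)) =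
      δ.dpow m x • NP.mkQ (KaehlerDifferential.map R R B P (KaehlerDifferential.D R B x))
    rw [KaehlerDifferential.map_D, KaehlerDifferential.map_D, ← algebraMap_smul P (δ.dpow m x),
      ← hmor.dpow_comp x hx, ← hmor.dpow_comp x hx]
    exact hrel _ hx' m
  obtain ⟨ι, hι⟩ := Agent.DR29.exists_isCxMap_of_linear
    (NB.mkQ.compDer (KaehlerDifferential.D R B)) DP (Submodule.liftQ NB f₀ hf₀) fun a => by
      show f₀ (KaehlerDifferential.D R B a) = NP.mkQ (KaehlerDifferential.D R P _)
      exact congrArg NP.mkQ (KaehlerDifferential.map_D R R B P a)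
  have hψι : ∀ q x, ψ q (ι q x) = x := fun q x => by
    refine Agent.DR29.induction_gen hspanB (P := fun x => ψ q (ι q x) = x) (by simp)
      (fun x y hx hy => by rw [map_add, map_add, hx, hy]) (fun b₀ b => ?_) x
    rw [hι, hψ]
    simp
  have hιd : ∀ q x, ι (q + 1) (dB q x) = dP q (ι q x) :=
    Agent.DR29.comm_of_isCxMap hspanB hdB.1 hdP.1 hι
  let gens : ℕ → Set P := fun j => {y | ∃ l : Fin n, (l : ℕ) < j ∧ ∃ m, y = δP.dpow m (X l)}
  let S : ℕ → Subring P := fun j => (Algebra.adjoin B (gens j)).toSubring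
  have htop : S n = ⊤ := by
    have h : Algebra.adjoin B (gens n) = ⊤ := by
      rw [← adjoin_eq_top B δ n P JP δP X hX hmor huniv z hz hzmor]
      congr 1
      ext y
      exact ⟨fun ⟨l, _, m, h⟩ => ⟨l, m, h⟩, fun ⟨l, m, h⟩ => ⟨l, l.2, m, h⟩⟩
    exact eq_top_iff.mpr fun y _ => (h ▸ Algebra.mem_top : y ∈ Algebra.adjoin B (gens n))
  have step : ∀ j : ℕ, j ≤ n → ∀ q (ω : ↥(⋀[P]^q (Ω[P⁄R] ⧸ NP))), ω ∈ Agent.DR29.subForms DP (S j) q →
      dP q ω = 0 → ∃ g ∈ Agent.DR29.subForms DP (S 0) q, dP q g = 0 ∧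
        ω - g ∈ DeRham.coboundaries dP q := by
    intro j
    induction j with
    | zero => exact fun _ q ω hω hc => ⟨ω, hω, hc, by rw [sub_self]; exact zero_mem _⟩
    | succ j ih =>
      intro hj q ω hω hc
      let i : Fin n := ⟨j, hj⟩
      obtain ⟨D, hDX, hDd⟩ := exists_partial B δ n P JP δP X hX hmor huniv i
      let θ₀ : Ω[P⁄R] →ₗ[P] P := (D.restrictScalars R).liftKaehlerDifferential
      have hθ₀D : ∀ y, θ₀ (KaehlerDifferential.D R P y) = D y := fun y =>
        Derivation.liftKaehlerDifferential_comp_D _ y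
      have hθ₀ : NP ≤ LinearMap.ker θ₀ := by
        rw [hNP, Submodule.span_le]
        rintro _ ⟨x, hx, m, rfl⟩
        show θ₀ _ = 0
        rw [map_sub, map_smul, hθ₀D, hθ₀D, hDd x hx, smul_eq_mul, sub_self]
      let θ := NP.liftQ θ₀ hθ₀
      have hθ : ∀ y, θ (DP y) = D y := hθ₀D
      let e : ℕ → P := fun m => δP.dpow m (X i)
      have hS : ∀ s ∈ S j, θ (DP s) = 0 := by
        intro s hs
        rw [hθ]
        replace hs : s ∈ Algebra.adjoin B (gens j) := hs
        induction hs using Algebra.adjoin_induction with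
        | mem s hs =>
          obtain ⟨l, hl, m, rfl⟩ := hs
          have hli : l ≠ i := fun h => by rw [h] at hl; exact lt_irrefl _ hl
          rcases m with _ | m
          · rw [δP.dpow_zero (hX l), Derivation.map_one_eq_zero]
          · rw [hDd _ (hX l), hDX, if_neg hli, mul_zero]
        | algebraMap r => exact D.map_algebraMap r
        | add a b ha' hb' ha hb => rw [map_add, ha, hb, add_zero]
        | mul a b ha' hb' ha hb => rw [D.leibniz, ha, hb, smul_zero, smul_zero, add_zero]
      have hT : ∀ t ∈ S (j + 1), t ∈ Agent.DR29.extended e (S j) := by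
        intro t ht
        replace ht : t ∈ Algebra.adjoin B (gens (j + 1)) := ht
        induction ht using Algebra.adjoin_induction with
        | mem t ht =>
          obtain ⟨l, hl, m, rfl⟩ := ht
          rcases lt_or_eq_of_le (Nat.lt_succ_iff.mp hl) with h | h
          · refine AddSubgroup.subset_closure ⟨0, δP.dpow m (X l),
              Algebra.subset_adjoin ⟨l, h, m, rfl⟩, ?_⟩
            show δP.dpow 0 (X i) * _ = _
            rw [δP.dpow_zero (hX i), one_mul]
          · refine AddSubgroup.subset_closure ⟨m, 1, one_mem (S j), ?_⟩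
            rw [mul_one, show l = i from Fin.ext h]
        | algebraMap r =>
          refine AddSubgroup.subset_closure ⟨0, algebraMap B P r, Subalgebra.algebraMap_mem _ r, ?_⟩
          show δP.dpow 0 (X i) * _ = _
          rw [δP.dpow_zero (hX i), one_mul]
        | add a b ha' hb' ha hb => exact add_mem ha hb
        | mul a b ha' hb' ha hb =>
          have hmul : ∀ x ∈ Agent.DR29.extended e (S j), ∀ y ∈ Agent.DR29.extended e (S j),
              x * y ∈ Agent.DR29.extended e (S j) := by
            intro x hx y hy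
            induction hx using AddSubgroup.closure_induction with
            | mem x hx =>
              induction hy using AddSubgroup.closure_induction with
              | mem y hy =>
                obtain ⟨m, s, hs, rfl⟩ := hx
                obtain ⟨k, s', hs', rfl⟩ := hy
                refine AddSubgroup.subset_closure ⟨m + k, ((m + k).choose m : P) * (s * s'),
                  mul_mem (natCast_mem (S j) _) (mul_mem hs hs'), ?_⟩
                simp only [e]
                rw [mul_mul_mul_comm, δP.mul_dpow (hX i)]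
                ring
              | zero => rw [mul_zero]; exact zero_mem _
              | add a b _ _ ha hb => rw [mul_add]; exact add_mem ha hb
              | neg a _ ha => rw [mul_neg]; exact neg_mem ha
            | zero => rw [zero_mul]; exact zero_mem _
            | add a b _ _ ha hb => rw [add_mul]; exact add_mem ha hb
            | neg a _ ha => rw [neg_mul]; exact neg_mem ha
          exact hmul _ ha _ hb
      obtain ⟨g, hg, hgc, hgd⟩ := Agent.DR29.eliminate hspan hdP (X i) e (δP.dpow_zero (hX i))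
        (fun m => hrel _ (hX i) m)
        (fun m k => ⟨(m + k).choose m, (δP.mul_dpow (hX i)).trans (nsmul_eq_mul _ _).symm⟩)
        θ (by rw [hθ, hDX, if_pos rfl]) (S j) (S (j + 1)) hS hT q ω hω hc
      obtain ⟨g', hg', hgc', hgd'⟩ := ih (Nat.le_of_succ_le hj) q g hg hgc
      refine ⟨g', hg', hgc', ?_⟩
      rw [← sub_add_sub_cancel ω g g']
      exact add_mem hgd hgd'
  have hrange : ∀ q g, g ∈ Agent.DR29.subForms DP (S 0) q → ∃ x, ι q x = g := by
    intro q g hg
    refine AddSubgroup.closure_le (ι q).range |>.mpr ?_ hg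
    rintro _ ⟨b₀, h₀, b, hb, rfl⟩
    have hmem : ∀ y ∈ S 0, ∃ a, algebraMap B P a = y := fun y hy => by
      have h : y ∈ Algebra.adjoin B (gens 0) := hy
      rw [show gens 0 = ∅ from Set.eq_empty_iff_forall_notMem.mpr fun y ⟨l, hl, _⟩ => Nat.not_lt_zero _ hl,
        Algebra.adjoin_empty] at h
      exact Algebra.mem_bot.mp h
    obtain ⟨a₀, rfl⟩ := hmem _ h₀
    choose a ha using fun i => hmem _ (hb i)
    refine ⟨DeRham.gen (NB.mkQ.compDer (KaehlerDifferential.D R B)) q a₀ a, ?_⟩
    rw [hι]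
    exact congrArg₂ (DeRham.gen DP q) rfl (funext ha)
  refine ⟨fun c hc => ⟨ι i c, ?_, ?_⟩, fun c' hc' hex => ?_⟩
  · show dP i (ι i c) = 0
    rw [← hιd, show dB i c = 0 from hc, map_zero]
  · rw [hψι, sub_self]; exact zero_mem _
  · obtain ⟨g, hg, hgc, hgd⟩ := step n le_rfl i c'
      (htop ▸ Agent.DR29.subForms_top hspan i c') hc'
    obtain ⟨x, rfl⟩ := hrange i g hg
    rcases i with _ | q
    · have h1 : c' - ι 0 x = 0 := hgd
      have h2 : ψ 0 c' = 0 := hex
      have h3 : x = 0 := by
        rw [← hψι 0 x, ← sub_eq_zero.mp h1, h2]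
      rw [sub_eq_zero.mp h1, h3, map_zero]
      exact zero_mem _
    · obtain ⟨η, hη⟩ := hgd
      obtain ⟨ξ, hξ⟩ := hex
      refine ⟨η + ι q (ξ - ψ q η), ?_⟩
      rw [map_add, ← hιd, hη, map_sub, ← hψd, hη, hξ, map_sub, map_sub, map_sub, hψι]
      abel

end Groth.Agent.S18419
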