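import Groth.Statements.S1842
import Groth.Agent.AbDeg57.RankPow

set_option autoImplicit false
set_option backward.isDefEq.respectTransparency.types false
universe u v
open CategoryTheory MonoidalCategory CartesianMonoidalCategory MonObj GrpObj AlgebraicGeometry
open GrpSch

namespace Groth.Agent.S1842

/-- Let A be an abelian variety of dimension g over a field (a proper, geometrically integral group
scheme) and d a nonzero integer. Multiplication by d (the d-th power of the identity in the group
Hom(A, A)) is finite and flat, and its rank function is constant with value d^(2g). (The source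
writes no hypothesis on d; d = 0 is excluded here since the constant map is not finite in positive
dimension.) -/
theorem result (K : Type u) [Field K] (A : Over (Spec (CommRingCat.of K))) [GrpObj A] [IsProper A.hom] [GeometricallyIntegral A.hom] (g : ℕ) (hg : topologicalKrullDim A.left = g) (d : ℤ) (hd : d ≠ 0) : IsFinite (𝟙 A ^ d).left ∧ Flat (𝟙 A ^ d).left ∧ ∀ a : A.left, Scheme.Hom.finrank (𝟙 A ^ d).left a = d.natAbs ^ (2 * g) := by
  obtain ⟨n, rfl | rfl⟩ := d.eq_nat_or_neg
  · have hn : 1 ≤ n := by omega
    rw [zpow_natCast, Int.natAbs_natCast]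
    exact ⟨AbDeg57.isFinite_pow n hn, AbDeg57.flat_pow n hn, AbDeg57.finrank_pow g hg n hn⟩
  · have hn : 1 ≤ n := by omega
    rw [zpow_neg, zpow_natCast, Int.natAbs_neg, Int.natAbs_natCast]
    haveI := AbDeg57.isIso_inv_left (A := A)
    haveI := AbDeg57.isFinite_pow (A := A) n hn
    haveI := AbDeg57.flat_pow (A := A) n hn
    have e : (𝟙 A ^ n)⁻¹ = (𝟙 A)⁻¹ ≫ 𝟙 A ^ n := by
      rw [MonObj.comp_pow, Category.comp_id, inv_pow]
    rw [e, Over.comp_left]
    refine ⟨inferInstance, inferInstance, fun a => ?_⟩
    rw [Scheme.Hom.finrank_comp_left_of_isIso]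
    exact AbDeg57.finrank_pow g hg n hn a

end Groth.Agent.S1842
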