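import Groth.Statements.S18421
import Groth.Agent.DPow29.Construct
import Mathlib.RingTheory.PowerSeries.Basic

set_option autoImplicit false
universe u v w
open DPow

namespace Groth.Agent.S18421

/-- The augmentation of the divided power polynomial algebra. -/
theorem exists_aug (R : Type u) [CommRing R] (Λ : Type w) (P : Type v) [CommRing P] [Algebra R P]
    (x : Λ → ℕ → P) (hx0 : ∀ l, x l 0 = 1)
    (hxmul : ∀ l n m, x l n * x l m = ((n + m).choose n : P) * x l (n + m))
    (b : Module.Basis (Λ →₀ ℕ) R P) (hb : ∀ e : Λ →₀ ℕ, b e = e.prod (fun l k => x l k)) :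
    ∃ ε : P →ₐ[R] R,
      (∀ y ∈ Ideal.span {y : P | ∃ (l : Λ) (n : ℕ), 1 ≤ n ∧ y = x l n}, ε y = 0) ∧
      ∀ y, y - algebraMap R P (ε y) ∈ Ideal.span {y : P | ∃ (l : Λ) (n : ℕ), 1 ≤ n ∧ y = x l n} := by
  classical
  obtain ⟨ε, hε⟩ := Agent.DPow29.exists_algHom x hx0 hxmul b hb
    (fun _ n => if n = 0 then (1 : R) else 0) (fun _ => if_pos rfl) (fun l n m => by
      rcases Nat.eq_zero_or_pos n with rfl | hn
      · simp
      · simp [hn.ne', (show n + m ≠ 0 by omega)])
  have h1 : ∀ y ∈ Ideal.span {y : P | ∃ (l : Λ) (n : ℕ), 1 ≤ n ∧ y = x l n}, ε y = 0 := fun y hy =>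
    show y ∈ RingHom.ker ε.toRingHom from (Ideal.span_le.mpr (by
      rintro _ ⟨l, n, hn, rfl⟩
      exact (hε l n).trans (if_neg (by omega)))) hy
  refine ⟨ε, h1, fun y => ?_⟩
  have hy : y ∈ Submodule.span R (Set.range b) := b.mem_span y
  induction hy using Submodule.span_induction with
  | mem y hy =>
    obtain ⟨e, rfl⟩ := hy
    rcases eq_or_ne e 0 with rfl | he
    · rw [Agent.DPow29.basis_zero x hx0 b hb, map_one, map_one, sub_self]; exact zero_mem _
    · have hm := Agent.DPow29.basis_mem_gens x hx0 b hb he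
      rw [h1 _ hm, map_zero, sub_zero]; exact hm
  | zero => simp
  | add p q _ _ hp hq => rw [map_add, map_add, add_sub_add_comm]; exact add_mem hp hq
  | smul r p _ hp =>
    rw [map_smul, smul_eq_mul, map_mul, Algebra.smul_def, ← mul_sub]
    exact Ideal.mul_mem_left _ _ hp

/-- Let (R, I, γ) be a divided power ring, Λ a set and P = R⟨X_λ : λ ∈ Λ⟩ the divided power polynomial
algebra, presented concretely as an R-algebra P with elements x l n = X_λ^[n] such that X_λ^[0] = 1,
X_λ^[n] · X_λ^[m] = C(n+m, n) X_λ^[n+m], and the monomials ∏_λ X_λ^[e_λ] form an R-basis of P; let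
P_+ be the ideal generated by the X_λ^[n] with n ≥ 1 and δ_+ a divided power structure on P_+ with
δ_+,n(X_λ^[1]) = X_λ^[n]. Put J = IP + P_+. Then there is exactly one divided power structure δ on J
which is compatible with γ (the structure map R → P is a divided power morphism from (I, γ) to (J,
δ)) and with δ_+ (δ_n(y) = δ_+,n(y) for all y ∈ P_+ and all n). -/
theorem result (R : Type u) [CommRing R] {I : Ideal R}
    (γ : DividedPowers I) (Λ : Type w)
    (P : Type v) [CommRing P] [Algebra R P] (x : Λ → ℕ → P)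
    (hx0 : ∀ l, x l 0 = 1)
    (hxmul : ∀ l n m, x l n * x l m = ((n + m).choose n : P) * x l (n + m))
    (b : Module.Basis (Λ →₀ ℕ) R P) (hb : ∀ e : Λ →₀ ℕ, b e = e.prod (fun l k => x l k))
    (δplus : DividedPowers (Ideal.span {y : P | ∃ (l : Λ) (n : ℕ), 1 ≤ n ∧ y = x l n}))
    (hδplus : ∀ (l : Λ) (n : ℕ), δplus.dpow n (x l 1) = x l n) :
    ∃! δ : DividedPowers (I.map (algebraMap R P) ⊔ Ideal.span {y : P | ∃ (l : Λ) (n : ℕ), 1 ≤ n ∧ y = x l n}),
      γ.IsDPMorphism δ (algebraMap R P) ∧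
        ∀ (n : ℕ) (y : P), y ∈ Ideal.span {y : P | ∃ (l : Λ) (n : ℕ), 1 ≤ n ∧ y = x l n} →
          δ.dpow n y = δplus.dpow n y := by
  classical
  let Pp : Ideal P := Ideal.span {y : P | ∃ (l : Λ) (n : ℕ), 1 ≤ n ∧ y = x l n}
  let J : Ideal P := I.map (algebraMap R P) ⊔ Pp
  obtain ⟨ε, hε0, hεsub⟩ := exists_aug R Λ P x hx0 hxmul b hb
  let al := algebraMap R P
  have hεal : ∀ r, ε (al r) = r := fun r => ε.commutes r
  have hJ : ∀ z, z ∈ J ↔ ε z ∈ I := by
    intro z
    constructor
    · intro hz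
      have h : J ≤ I.comap ε.toRingHom := by
        refine sup_le (Ideal.map_le_iff_le_comap.mpr fun r hr => ?_) fun y hy => ?_
        · show ε (al r) ∈ I
          rwa [hεal]
        · show ε y ∈ I
          rw [hε0 y hy]; exact zero_mem _
      exact h hz
    · intro hz
      rw [← add_sub_cancel (al (ε z)) z]
      exact add_mem (le_sup_left (b := Pp) (Ideal.mem_map_of_mem _ hz))
        (le_sup_right (a := I.map al) (hεsub z))
  let E : P → PowerSeries P := fun z =>
    PowerSeries.map al (γ.exp (ε z)) * δplus.exp (z - al (ε z))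
  let dp : ℕ → P → P := fun n z => if z ∈ J then PowerSeries.coeff n (E z) else 0
  have hdp : ∀ {n z}, z ∈ J → dp n z = PowerSeries.coeff n (E z) := fun h => if_pos h
  have hexp0 : δplus.exp 0 = 1 := by
    ext n
    rw [DividedPowers.exp, PowerSeries.coeff_mk, PowerSeries.coeff_one]
    rcases Nat.eq_zero_or_pos n with rfl | hn
    · rw [δplus.dpow_zero (zero_mem _), if_pos rfl]
    · rw [δplus.dpow_eval_zero hn.ne', if_neg hn.ne']
  have hγ0 : γ.exp 0 = 1 := by
    ext n
    rw [DividedPowers.exp, PowerSeries.coeff_mk, PowerSeries.coeff_one]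
    rcases Nat.eq_zero_or_pos n with rfl | hn
    · rw [γ.dpow_zero (zero_mem _), if_pos rfl]
    · rw [γ.dpow_eval_zero hn.ne', if_neg hn.ne']
  have hdpI : ∀ n, ∀ a ∈ I, dp n (al a) = al (γ.dpow n a) := fun n a ha => by
    rw [hdp ((hJ _).mpr (by rwa [hεal]))]
    simp only [E, hεal, sub_self]
    rw [hexp0, mul_one, PowerSeries.coeff_map, DividedPowers.exp, PowerSeries.coeff_mk]
  have hdpP : ∀ n, ∀ y ∈ Pp, dp n y = δplus.dpow n y := fun n y hy => by
    rw [hdp ((hJ _).mpr (by rw [hε0 y hy]; exact zero_mem _))]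
    simp only [E, hε0 y hy, map_zero, sub_zero]
    rw [hγ0, map_one, one_mul, DividedPowers.exp, PowerSeries.coeff_mk]
  have hterms : ∀ {n z}, z ∈ J → dp n z = ∑ k ∈ Finset.antidiagonal n,
      al (γ.dpow k.1 (ε z)) * δplus.dpow k.2 (z - al (ε z)) := fun h => by
    rw [hdp h, PowerSeries.coeff_mul]
    exact Finset.sum_congr rfl fun k _ => by
      rw [PowerSeries.coeff_map, DividedPowers.exp, PowerSeries.coeff_mk, DividedPowers.exp,
        PowerSeries.coeff_mk]
  have hEadd : ∀ z z', z ∈ J → z' ∈ J → E (z + z') = E z * E z' := fun z z' hz hz' => by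
    simp only [E]
    rw [map_add, map_add, γ.exp_add ((hJ z).mp hz) ((hJ z').mp hz'), map_mul, add_sub_add_comm,
      δplus.exp_add (hεsub z) (hεsub z'), mul_mul_mul_comm]
  have hadd : ∀ {n z z'}, z ∈ J → z' ∈ J →
      dp n (z + z') = ∑ k ∈ Finset.antidiagonal n, dp k.1 z * dp k.2 z' := fun hz hz' => by
    rw [hdp (add_mem hz hz'), hEadd _ _ hz hz', PowerSeries.coeff_mul]
    exact Finset.sum_congr rfl fun k _ => by rw [hdp hz, hdp hz']
  have hresc : ∀ (r s : P) (a : R), a ∈ I →
      PowerSeries.rescale r (PowerSeries.map al (γ.exp a)) * PowerSeries.rescale s (PowerSeries.map al (γ.exp a)) =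
        PowerSeries.rescale (r + s) (PowerSeries.map al (γ.exp a)) := fun r s a ha => by
    ext n
    rw [PowerSeries.coeff_mul, PowerSeries.coeff_rescale, Commute.add_pow' (Commute.all r s),
      Finset.sum_mul]
    refine Finset.sum_congr rfl fun k hk => ?_
    simp only [PowerSeries.coeff_rescale, PowerSeries.coeff_map, DividedPowers.exp, PowerSeries.coeff_mk]
    rw [mul_mul_mul_comm, ← map_mul, γ.mul_dpow ha, Finset.mem_antidiagonal.mp hk, map_mul, map_natCast,
      nsmul_eq_mul]
    ring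
  have hEmul : ∀ c z, z ∈ J → E (c * z) = PowerSeries.rescale c (E z) := fun c z hz => by
    have ha : ε z ∈ I := (hJ z).mp hz
    have hc : c - al (ε c) ∈ Pp := hεsub c
    have hy : z - al (ε z) ∈ Pp := hεsub z
    have h1 : c * z - al (ε (c * z)) = al (ε z) * (c - al (ε c)) + c * (z - al (ε z)) := by
      rw [map_mul, map_mul]; ring
    have e1 : PowerSeries.map al (γ.exp (ε (c * z))) =
        PowerSeries.rescale (al (ε c)) (PowerSeries.map al (γ.exp (ε z))) := by
      ext n
      simp only [PowerSeries.coeff_rescale, PowerSeries.coeff_map, DividedPowers.exp,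
        PowerSeries.coeff_mk, map_mul ε, γ.dpow_mul ha, map_mul al, map_pow]
    have e2 : δplus.exp (al (ε z) * (c - al (ε c))) =
        PowerSeries.rescale (c - al (ε c)) (PowerSeries.map al (γ.exp (ε z))) := by
      ext n
      simp only [PowerSeries.coeff_rescale, PowerSeries.coeff_map, DividedPowers.exp, PowerSeries.coeff_mk]
      rw [δplus.dpow_mul hc, ← map_pow, ← γ.factorial_mul_dpow_eq_pow ha, map_mul, map_natCast,
        ← δplus.factorial_mul_dpow_eq_pow hc]
      ring
    have e3 : δplus.exp (c * (z - al (ε z))) = PowerSeries.rescale c (δplus.exp (z - al (ε z))) := by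
      ext n
      simp only [PowerSeries.coeff_rescale, DividedPowers.exp, PowerSeries.coeff_mk, δplus.dpow_mul hy]
    simp only [E]
    rw [h1, δplus.exp_add (Ideal.mul_mem_left _ _ hc) (Ideal.mul_mem_left _ _ hy), e1, e2, e3,
      ← mul_assoc, hresc _ _ _ ha, add_sub_cancel, map_mul]
  have hmul : ∀ {n c z}, z ∈ J → dp n (c * z) = c ^ n * dp n z := fun hz => by
    rw [hdp (J.mul_mem_left _ hz), hEmul _ _ hz, PowerSeries.coeff_rescale, hdp hz]
  have hzero : ∀ {z}, z ∈ J → dp 0 z = 1 := fun hz => by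
    rw [hterms hz, Finset.Nat.antidiagonal_zero, Finset.sum_singleton, γ.dpow_zero ((hJ _).mp hz),
      δplus.dpow_zero (hεsub _), map_one, one_mul]
  have hmem : ∀ {n z}, n ≠ 0 → z ∈ J → dp n z ∈ J := fun {n z} hn hz => by
    rw [hterms hz]
    refine J.sum_mem fun k hk => ?_
    rcases Nat.eq_zero_or_pos k.1 with h | h
    · exact J.mul_mem_left _ (le_sup_right (a := I.map al) (δplus.dpow_mem
        (by have := Finset.mem_antidiagonal.mp hk; omega) (hεsub z)))
    · exact J.mul_mem_right _ (le_sup_left (b := Pp) (Ideal.mem_map_of_mem _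
        (γ.dpow_mem h.ne' ((hJ z).mp hz))))
  obtain ⟨T, _, _, _, xT, bT, hT0, hTmul, hbT⟩ := Agent.DPow29.exists_model Bool ℤ
  obtain ⟨γT, hγT⟩ := Agent.DPow29.exists_dividedPowers_of_isAddTorsionFree xT hT0 hTmul
  letI : Algebra (MvPolynomial ℤ ℤ) P :=
    (MvPolynomial.eval₂Hom (Int.castRingHom P) (fun i : ℤ => (i : P))).toAlgebra
  have key : ∀ z ∈ J, ∃ (φ : T →+* P) (w : T),
      w ∈ Ideal.span {y : T | ∃ (l : Bool) (n : ℕ), 1 ≤ n ∧ y = xT l n} ∧ φ w = z ∧
      ∀ q ∈ Ideal.span {y : T | ∃ (l : Bool) (n : ℕ), 1 ≤ n ∧ y = xT l n},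
        φ q ∈ J ∧ ∀ m, dp m (φ q) = φ (γT.dpow m q) := by
    intro z hz
    have ha : ε z ∈ I := (hJ z).mp hz
    have hy : z - al (ε z) ∈ Pp := hεsub z
    let img : Bool → ℕ → P := fun l n => bif l then al (γ.dpow n (ε z)) else δplus.dpow n (z - al (ε z))
    obtain ⟨φ, hφ⟩ := Agent.DPow29.exists_algHom xT hT0 hTmul bT hbT img
      (fun l => by cases l <;> simp [img, γ.dpow_zero ha, δplus.dpow_zero hy])
      (fun l n m => by
        cases l
        · exact δplus.mul_dpow hy
        · show al _ * al _ = _ * al _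
          rw [← map_mul, γ.mul_dpow ha, map_mul, map_natCast])
    refine ⟨φ.toRingHom, xT true 1 + xT false 1, add_mem (Agent.DPow29.mem_gens xT _ le_rfl)
      (Agent.DPow29.mem_gens xT _ le_rfl), ?_, fun q hq => ?_⟩
    · show φ (_ + _) = z
      rw [map_add, hφ, hφ]
      simp [img, γ.dpow_one ha, δplus.dpow_one hy]
    · induction hq using Submodule.span_induction with
      | mem q hq =>
        obtain ⟨l, k, hk, rfl⟩ := hq
        have hin : φ (xT l k) ∈ J := by
          rw [hφ]
          cases l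
          · exact le_sup_right (a := I.map al) (δplus.dpow_mem (by omega) hy)
          · exact le_sup_left (b := Pp) (Ideal.mem_map_of_mem _ (γ.dpow_mem (by omega) ha))
        refine ⟨hin, fun m => ?_⟩
        show dp m (φ (xT l k)) = φ (γT.dpow m (xT l k))
        rw [← hγT l k, γT.dpow_comp (by omega) (Agent.DPow29.mem_gens xT l le_rfl), hγT, hγT, map_mul,
          map_natCast, hφ, hφ]
        cases l
        · show dp m (δplus.dpow k _) = _ * δplus.dpow _ _
          rw [hdpP _ _ (δplus.dpow_mem (by omega) hy), δplus.dpow_comp (by omega) hy]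
        · show dp m (al _) = _ * al _
          rw [hdpI _ _ (γ.dpow_mem (by omega) ha), γ.dpow_comp (by omega) ha, map_mul, map_natCast]
      | zero =>
        refine ⟨by rw [map_zero]; exact zero_mem _, fun m => ?_⟩
        show dp m (φ 0) = φ (γT.dpow m 0)
        rw [map_zero φ, ← mul_zero (0 : P), hmul (zero_mem _)]
        rcases Nat.eq_zero_or_pos m with rfl | hm
        · rw [γT.dpow_zero (zero_mem _), map_one φ, hzero (zero_mem _), pow_zero, one_mul]
        · rw [γT.dpow_eval_zero hm.ne', map_zero φ, zero_pow hm.ne', zero_mul]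
      | add p q hp hq ihp ihq =>
        refine ⟨by rw [map_add]; exact add_mem ihp.1 ihq.1, fun m => ?_⟩
        rw [map_add, hadd ihp.1 ihq.1, γT.dpow_add hp hq, map_sum]
        exact Finset.sum_congr rfl fun k _ => by rw [map_mul, ihp.2, ihq.2]
      | smul c q hq ihq =>
        rw [smul_eq_mul, map_mul]
        refine ⟨J.mul_mem_left _ ihq.1, fun m => ?_⟩
        rw [hmul ihq.1, γT.dpow_mul hq, map_mul, map_pow, ihq.2]
  let δJ : DividedPowers J :=
    { dpow := dp
      dpow_null := fun h => if_neg h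
      dpow_zero := hzero
      dpow_one := fun {z} hz => by
        obtain ⟨φ, w, hw, rfl, hφw⟩ := key z hz
        rw [(hφw w hw).2, γT.dpow_one hw]
      dpow_mem := hmem
      dpow_add := hadd
      dpow_mul := hmul
      mul_dpow := fun {m n z} hz => by
        obtain ⟨φ, w, hw, rfl, hφw⟩ := key z hz
        rw [(hφw w hw).2, (hφw w hw).2, (hφw w hw).2, ← map_mul, γT.mul_dpow hw, map_mul, map_natCast]
      dpow_comp := fun {m n z} hn hz => by
        obtain ⟨φ, w, hw, rfl, hφw⟩ := key z hz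
        rw [(hφw w hw).2, (hφw _ (γT.dpow_mem hn hw)).2, (hφw w hw).2, γT.dpow_comp hn hw, map_mul,
          map_natCast] }
  refine ⟨δJ, ⟨⟨le_sup_left, fun a ha => hdpI _ a ha⟩, hdpP⟩, ?_⟩
  rintro δ' ⟨hm, hp⟩
  refine DividedPowers.dpow_eq_from_gens δJ δ' (S := (al '' I) ∪ (Pp : Set P)) ?_ ?_
  · rw [Ideal.span_union, Ideal.span_eq]
    exact rfl
  · rintro n z (⟨a, ha, rfl⟩ | hz)
    · exact (hdpI n a ha).trans (hm.dpow_comp a ha).symm
    · exact (hdpP n z hz).trans (hp n z hz).symm

end Groth.Agent.S18421
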