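import Mathlib.Algebra.Algebra.Shrink
import Groth.Statements.S18423
import Groth.Agent.FEt83.DiscrPurity

set_option autoImplicit false
universe u v
open Pi1

namespace Groth.Agent.S18423

/-- Let A be a Noetherian local ring of Krull dimension at least 2 and B a finite flat commutative
A-algebra. If B is etale over A at every prime of B lying over a non-maximal prime of A (that is,
Spec B is etale over the punctured spectrum of A), then B is etale over A. -/
theorem result (A : Type u) (B : Type v) [CommRing A] [CommRing B]
    [Algebra A B] [IsNoetherianRing A] [IsLocalRing A] (hdim : (2 : WithBot ℕ∞) ≤ ringKrullDim A)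
    [Module.Finite A B] [Module.Flat A B]
    (h : ∀ q : PrimeSpectrum B, q.asIdeal.comap (algebraMap A B) ≠ IsLocalRing.maximalIdeal A →
      Algebra.IsEtaleAt A q.asIdeal) :
    Algebra.Etale A B := by
  obtain ⟨n, f, hf⟩ := Module.Finite.exists_fin' A B
  have : Small.{u} B := small_of_surjective hf
  let e : Shrink.{u} B ≃ₐ[A] B := Shrink.algEquiv A B
  have : Module.Finite A (Shrink.{u} B) := Module.Finite.equiv e.symm.toLinearEquiv
  have : Module.Flat A (Shrink.{u} B) := Module.Flat.of_linearEquiv e.toLinearEquiv
  have : Algebra.Etale A (Shrink.{u} B) := by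
    refine Groth.Agent.FEt83.etale_of_flat_of_etale_off_closedPoint hdim fun q hq => ?_
    let q' : PrimeSpectrum B := ⟨q.asIdeal.comap e.symm.toRingHom, inferInstance⟩
    have hc : q'.asIdeal.comap (algebraMap A B) = q.asIdeal.comap (algebraMap A (Shrink.{u} B)) := by
      ext a
      show e.symm (algebraMap A B a) ∈ q.asIdeal ↔ algebraMap A (Shrink.{u} B) a ∈ q.asIdeal
      rw [e.symm.commutes]
    have : Algebra.IsEtaleAt A q'.asIdeal := h q' (hc ▸ hq)
    have hM : Submonoid.map e.toRingEquiv.toMonoidHom q.asIdeal.primeCompl =
        q'.asIdeal.primeCompl := by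
      ext b
      constructor
      · rintro ⟨c, hc, rfl⟩ (hmem : e.symm (e c) ∈ q.asIdeal)
        exact hc (e.symm_apply_apply c ▸ hmem)
      · exact fun hb => ⟨e.symm b, hb, e.apply_symm_apply b⟩
    let E := IsLocalization.ringEquivOfRingEquiv (Localization.AtPrime q.asIdeal)
      (Localization.AtPrime q'.asIdeal) e.toRingEquiv hM
    let E' : Localization.AtPrime q.asIdeal ≃ₐ[A] Localization.AtPrime q'.asIdeal :=
      AlgEquiv.ofRingEquiv (f := E) fun a => by
        rw [IsScalarTower.algebraMap_apply A (Shrink.{u} B) (Localization.AtPrime q.asIdeal),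
          IsLocalization.ringEquivOfRingEquiv_eq]
        show algebraMap B _ (e (algebraMap A _ a)) = _
        rw [e.commutes, ← IsScalarTower.algebraMap_apply]
    exact Algebra.FormallyEtale.of_equiv E'.symm
  exact Algebra.Etale.of_equiv e

end Groth.Agent.S18423
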