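import Groth.Statements.S18425
import Groth.Agent.GalCat83.AutTop
import Mathlib.CategoryTheory.Galois.Examples

set_option autoImplicit false
universe u
open Pi1

namespace Groth.Agent.S18425

open CategoryTheory

variable {G : Type u} [Group G]

/-- The forgetful functor. -/
abbrev Ff (G : Type u) [Group G] := Action.forget FintypeCat.{u} G

lemma rho_mul (X : Action FintypeCat.{u} G) (g h : G) (x : X.V) :
    (X.ρ (g * h)).hom x = (X.ρ g).hom ((X.ρ h).hom x) := by
  rw [map_mul]; rfl

lemma rho_one (X : Action FintypeCat.{u} G) (x : X.V) : (X.ρ 1).hom x = x := by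
  rw [map_one]; rfl

/-- The permutations of an action. -/
def permHom (X : Action FintypeCat.{u} G) : G →* Equiv.Perm X.V where
  toFun g :=
    { toFun := fun x ↦ (X.ρ g).hom x
      invFun := fun x ↦ (X.ρ g⁻¹).hom x
      left_inv := fun x ↦ (rho_mul X g⁻¹ g x).symm.trans (by rw [inv_mul_cancel]; exact rho_one X x)
      right_inv := fun x ↦ (rho_mul X g g⁻¹ x).symm.trans (by rw [mul_inv_cancel]; exact rho_one X x) }
  map_one' := Equiv.ext fun x ↦ rho_one X x
  map_mul' := fun g h ↦ Equiv.ext fun x ↦ rho_mul X g h x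

/-- The regular finite `G`-set of a finite quotient. -/
noncomputable def regular (H : FiniteIndexNormalSubgroup (GrpCat.of G)) :
    Action FintypeCat.{u} G :=
  haveI : H.toSubgroup.FiniteIndex := H.isFiniteIndex'
  haveI : Fintype (G ⧸ H.toSubgroup) := Fintype.ofFinite _
  letI : MulAction G (FintypeCat.of (G ⧸ H.toSubgroup)) :=
    MulAction.compHom (G ⧸ H.toSubgroup) (QuotientGroup.mk' H.toSubgroup)
  Action.FintypeCat.ofMulAction G (FintypeCat.of (G ⧸ H.toSubgroup))

/-- Right translation. -/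
noncomputable def rightMul (H : FiniteIndexNormalSubgroup (GrpCat.of G)) (r : G ⧸ H.toSubgroup) :
    regular H ⟶ regular H :=
  ⟨FintypeCat.homMk (fun q ↦ @id (G ⧸ H.toSubgroup) q * r),
    fun g ↦ ConcreteCategory.hom_ext _ _ fun q ↦
      mul_assoc (QuotientGroup.mk' H.toSubgroup g) (@id (G ⧸ H.toSubgroup) q) r⟩

/-- Transition maps of regular sets. -/
noncomputable def trans {H K : FiniteIndexNormalSubgroup (GrpCat.of G)} (h : H ≤ K) :
    regular H ⟶ regular K :=
  ⟨FintypeCat.homMk (fun q ↦
      QuotientGroup.map H.toSubgroup K.toSubgroup (MonoidHom.id G) h (@id (G ⧸ H.toSubgroup) q)),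
    fun g ↦ ConcreteCategory.hom_ext _ _ fun q ↦
      map_mul (QuotientGroup.map H.toSubgroup K.toSubgroup (MonoidHom.id G) h)
        (QuotientGroup.mk' H.toSubgroup g) (@id (G ⧸ H.toSubgroup) q)⟩

/-- Evaluation at the distinguished points. -/
noncomputable def ev (σ : Aut (Ff G)) (H : FiniteIndexNormalSubgroup (GrpCat.of G)) :
    G ⧸ H.toSubgroup :=
  σ.hom.app (regular H) (1 : G ⧸ H.toSubgroup)

lemma ev_mul (σ τ : Aut (Ff G)) (H : FiniteIndexNormalSubgroup (GrpCat.of G)) :
    ev (σ * τ) H = ev σ H * ev τ H := by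
  have h1 : @id (G ⧸ H.toSubgroup)
      (σ.hom.app (regular H) (@id (G ⧸ H.toSubgroup) (1 * ev τ H))) = ev σ H * ev τ H :=
    ConcreteCategory.congr_hom (σ.hom.naturality (rightMul H (ev τ H))) (1 : G ⧸ H.toSubgroup)
  rw [one_mul] at h1
  exact h1

open CategoryTheory in
/-- In the case of a discrete group G, let F be the forgetful functor from the category of finite G-sets
to finite sets. -/
theorem result (G : Type u) [Group G] :
    ∃ φ : (ProfiniteGrp.ProfiniteCompletion.completion (GrpCat.of G)) ≃ₜ* Aut (Action.forget FintypeCat.{u} G),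
      ∀ (g : G) (X : Action FintypeCat.{u} G) (x : X.V),
        (φ (ProfiniteGrp.ProfiniteCompletion.etaFn (GrpCat.of G) g)).hom.app X x = (X.ρ g).hom x := by
  let iota : G → Aut (Ff G) := fun g ↦ NatIso.ofComponents
    (fun X ↦ FintypeCat.equivEquivIso (permHom X g))
    (fun {X Y} f ↦ ConcreteCategory.hom_ext _ _ fun x ↦
      (ConcreteCategory.congr_hom (f.comm g) x).symm)
  let ψ : Aut (Ff G) → ProfiniteGrp.ProfiniteCompletion.completion (GrpCat.of G) := fun σ ↦
    ⟨fun H ↦ ev σ H, fun {H K} f ↦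
      (ConcreteCategory.congr_hom (σ.hom.naturality (trans f.le)) (1 : G ⧸ H.toSubgroup)).symm⟩
  have hψι : ∀ g, ψ (iota g) = ProfiniteGrp.ProfiniteCompletion.etaFn (GrpCat.of G) g := fun g ↦
    Subtype.ext (funext fun H ↦ mul_one (QuotientGroup.mk' H.toSubgroup g))
  have hcont : Continuous ψ := continuous_induced_rng.mpr (continuous_pi fun H ↦
    continuous_iff_continuousAt.mpr fun σ ↦ Filter.Tendsto.congr'
      (f₁ := fun _ ↦ (ψ σ).1 H) (f₂ := fun τ ↦ (ψ τ).1 H)
      ((GalCat83.AutTop.eventually_app_eq (F := Ff G) σ (regular H)).mono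
        fun τ h ↦ (h (1 : G ⧸ H.toSubgroup)).symm) tendsto_const_nhds)
  have hinj : Function.Injective ψ := by
    intro σ τ h
    apply Iso.ext
    apply NatTrans.ext
    funext X
    refine ConcreteCategory.hom_ext _ _ fun x ↦ ?_
    let act := permHom X
    have : act.ker.FiniteIndex := Subgroup.finiteIndex_ker act
    let H : FiniteIndexNormalSubgroup (GrpCat.of G) := { toSubgroup := act.ker }
    let m : regular H ⟶ X :=
      ⟨FintypeCat.homMk (fun q ↦ QuotientGroup.kerLift act (@id (G ⧸ act.ker) q) x),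
        fun g ↦ ConcreteCategory.hom_ext _ _ fun q ↦ by
          change QuotientGroup.kerLift act (QuotientGroup.mk' act.ker g * @id (G ⧸ act.ker) q) x =
            act g (QuotientGroup.kerLift act (@id (G ⧸ act.ker) q) x)
          rw [map_mul]
          rfl⟩
    have key : ∀ ρ : Aut (Ff G), (ρ.hom.app X (act 1 x) : X.V) =
        QuotientGroup.kerLift act (@id (G ⧸ act.ker) (ev ρ H)) x := fun ρ ↦
      ConcreteCategory.congr_hom (ρ.hom.naturality m) (1 : G ⧸ act.ker)
    have h2 : ev σ H = ev τ H := congrFun (congrArg Subtype.val h) H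
    have h3 := key σ
    rw [h2, ← key τ, map_one] at h3
    exact h3
  have hsurj : Function.Surjective ψ := by
    intro y
    have hcl : IsClosed (Set.range ψ) := (isCompact_range hcont).isClosed
    have hsub : Set.range (ProfiniteGrp.ProfiniteCompletion.etaFn (GrpCat.of G)) ⊆ Set.range ψ := by
      rintro _ ⟨g, rfl⟩
      exact ⟨iota g, hψι g⟩
    exact closure_minimal hsub hcl
      (ProfiniteGrp.ProfiniteCompletion.denseRange (G := GrpCat.of G) y)
  let Ψ : Aut (Ff G) ≃* ProfiniteGrp.ProfiniteCompletion.completion (GrpCat.of G) :=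
    MulEquiv.ofBijective (MonoidHom.mk' ψ fun σ τ ↦ Subtype.ext (funext fun H ↦ ev_mul σ τ H))
      ⟨hinj, hsurj⟩
  have hΨ : Continuous Ψ := hcont
  refine ⟨(ContinuousMulEquiv.mk Ψ hΨ (Continuous.continuous_symm_of_equiv_compact_to_t2
    (f := Ψ.toEquiv) hΨ)).symm, fun g X x ↦ ?_⟩
  have : Ψ.symm (ProfiniteGrp.ProfiniteCompletion.etaFn (GrpCat.of G) g) = iota g := by
    rw [MulEquiv.symm_apply_eq]
    exact (hψι g).symm
  change (Ψ.symm _).hom.app X x = _
  rw [this]
  rfl

end Groth.Agent.S18425
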