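import Groth.Statements.S18428
import Groth.Agent.GalCat83.AutTop
import Mathlib.CategoryTheory.Action.Concrete
import Mathlib.CategoryTheory.Galois.Examples

set_option autoImplicit false
universe u
open scoped FintypeCatDiscrete
open Pi1

namespace Groth.Agent.S18428

open CategoryTheory

variable {G : Type u} [Group G] [TopologicalSpace G]

/-- The forgetful functor to finite sets. -/
abbrev Ff (G : Type u) [Group G] [TopologicalSpace G] :=
  forget₂ (ContAction FintypeCat.{u} G) FintypeCat.{u}

lemma isOpen_fix (X : ContAction FintypeCat.{u} G) (x : X.obj.V) :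
    IsOpen {g : G | (X.obj.ρ g).hom x = x} := by
  have := X.property
  rw [Action.isContinuous_def] at this
  exact (isOpen_discrete ({x} : Set X.obj.V)).preimage (this.comp (Continuous.prodMk_left x))

lemma rho_mul (X : Action FintypeCat.{u} G) (g h : G) (x : X.V) :
    (X.ρ (g * h)).hom x = (X.ρ g).hom ((X.ρ h).hom x) := by
  rw [map_mul]; rfl

lemma rho_one (X : Action FintypeCat.{u} G) (x : X.V) : (X.ρ 1).hom x = x := by
  rw [map_one]; rfl

/-- The permutations of an action. -/
def permHom (X : Action FintypeCat.{u} G) : G →* Equiv.Perm X.V where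
  toFun g :=
    { toFun := fun x ↦ (X.ρ g).hom x
      invFun := fun x ↦ (X.ρ g⁻¹).hom x
      left_inv := fun x ↦ (rho_mul X g⁻¹ g x).symm.trans (by rw [inv_mul_cancel]; exact rho_one X x)
      right_inv := fun x ↦ (rho_mul X g g⁻¹ x).symm.trans (by rw [mul_inv_cancel]; exact rho_one X x) }
  map_one' := Equiv.ext fun x ↦ rho_one X x
  map_mul' := fun g h ↦ Equiv.ext fun x ↦ rho_mul X g h x

/-- The canonical map to the automorphisms of the fibre functor. -/
def iota (G : Type u) [Group G] [TopologicalSpace G] : G →* Aut (Ff G) where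
  toFun g := NatIso.ofComponents
    (fun X ↦ FintypeCat.equivEquivIso (permHom X.obj g))
    (fun {X Y} f ↦ ConcreteCategory.hom_ext _ _ fun x ↦
      (ConcreteCategory.congr_hom (f.hom.comm g) x).symm)
  map_one' := by
    apply Iso.ext
    apply NatTrans.ext
    funext X
    exact ConcreteCategory.hom_ext _ _ fun x ↦ rho_one X.obj x
  map_mul' g h := by
    apply Iso.ext
    apply NatTrans.ext
    funext X
    exact ConcreteCategory.hom_ext _ _ fun x ↦ rho_mul X.obj g h x

/-- A finite group with a continuous homomorphism from `G`, as a finite `G`-set. -/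
noncomputable def regular [IsTopologicalGroup G] {Q : Type u} [Group Q] [Finite Q] (π : G →* Q)
    (hπ : IsOpen (π.ker : Set G)) : ContAction FintypeCat.{u} G :=
  haveI : Fintype Q := Fintype.ofFinite Q
  letI : MulAction G (FintypeCat.of Q) := MulAction.compHom Q π
  { obj := Action.FintypeCat.ofMulAction G (FintypeCat.of Q)
    property := by
      rw [Action.isContinuous_def]
      let : TopologicalSpace Q := ⊥
      have : DiscreteTopology Q := ⟨rfl⟩
      have : Continuous π := by
        apply continuous_of_continuousAt_one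
        rw [continuousAt_def, map_one]
        intro A hA
        exact Filter.mem_of_superset (hπ.mem_nhds π.ker.one_mem) fun g hg ↦ by
          change π g ∈ A
          rw [MonoidHom.mem_ker.mp hg]
          exact mem_of_mem_nhds hA
      change Continuous fun p : G × Q ↦ π p.1 * p.2
      fun_prop }

/-- Right translation. -/
noncomputable def rightMul [IsTopologicalGroup G] {Q : Type u} [Group Q] [Finite Q] (π : G →* Q)
    (hπ : IsOpen (π.ker : Set G)) (r : Q) : regular π hπ ⟶ regular π hπ :=
  ObjectProperty.homMk ⟨FintypeCat.homMk (fun q ↦ @id Q q * r),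
    fun g ↦ ConcreteCategory.hom_ext _ _ fun q ↦ mul_assoc (π g) (@id Q q) r⟩

open CategoryTheory in
/-- Let G be a topological group, consider the category of finite sets (with the discrete topology)
equipped with a continuous action of G, and let F be the forgetful functor to finite sets. -/
theorem result (G : Type u) [Group G]
    [TopologicalSpace G] [IsTopologicalGroup G] :
    ∃ ι : G →* Aut (forget₂ (ContAction FintypeCat.{u} G) FintypeCat.{u}),
      Continuous ι ∧
      (∀ (g : G) (X : ContAction FintypeCat.{u} G) (x : X.obj.V), (ι g).hom.app X x = (X.obj.ρ g).hom x) ∧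
      DenseRange ι ∧
      ∀ (Q : Type u) [Group Q] [Finite Q] [TopologicalSpace Q] [DiscreteTopology Q] (π : G →* Q),
        Continuous π → ∃! ψ : Aut (forget₂ (ContAction FintypeCat.{u} G) FintypeCat.{u}) →* Q,
          Continuous ψ ∧ ψ.comp ι = π := by
  classical
  have hdense : DenseRange (iota G) := by
    refine GalCat83.AutTop.denseRange_of _ fun σ I ↦ ?_
    let act : G →* (∀ X : I, Equiv.Perm X.1.obj.V) :=
      Pi.monoidHom fun X ↦ permHom X.1.obj
    have hker : (act.ker : Set G) = ⋂ X : I, ⋂ x : X.1.obj.V, {g | (X.1.obj.ρ g).hom x = x} := by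
      ext g
      simp only [SetLike.mem_coe, MonoidHom.mem_ker, Set.mem_iInter]
      exact ⟨fun h X x ↦ congrArg (fun f : ∀ X : I, Equiv.Perm X.1.obj.V ↦ f X x) h,
        fun h ↦ funext fun X ↦ Equiv.ext (h X)⟩
    have hopen : IsOpen ((QuotientGroup.mk' act.ker).ker : Set G) := by
      rw [QuotientGroup.ker_mk', hker]
      exact isOpen_iInter_of_finite fun X ↦ isOpen_iInter_of_finite fun x ↦ isOpen_fix X.1 x
    have : Finite (G ⧸ act.ker) :=
      Finite.of_injective (QuotientGroup.kerLift act) (QuotientGroup.kerLift_injective act)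
    let R := regular (QuotientGroup.mk' act.ker) hopen
    obtain ⟨g, hg⟩ := QuotientGroup.mk'_surjective act.ker
      (σ.hom.app R (1 : G ⧸ act.ker) : G ⧸ act.ker)
    refine ⟨g, fun X hX x ↦ ?_⟩
    let m : R ⟶ X := ObjectProperty.homMk
      ⟨FintypeCat.homMk fun q : G ⧸ act.ker ↦ QuotientGroup.kerLift act q ⟨X, hX⟩ x,
        fun h ↦ ConcreteCategory.hom_ext _ _ fun q ↦ by
          change QuotientGroup.kerLift act (QuotientGroup.mk' act.ker h * @id (G ⧸ act.ker) q) ⟨X, hX⟩ x =
            act h ⟨X, hX⟩ (QuotientGroup.kerLift act q ⟨X, hX⟩ x)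
          rw [map_mul]
          rfl⟩
    have h1 : (σ.hom.app X (act 1 ⟨X, hX⟩ x) : X.obj.V) = QuotientGroup.kerLift act
        (σ.hom.app R (1 : G ⧸ act.ker) : G ⧸ act.ker) ⟨X, hX⟩ x :=
      ConcreteCategory.congr_hom (σ.hom.naturality m) (1 : G ⧸ act.ker)
    rw [map_one, ← hg] at h1
    exact h1.symm
  refine ⟨iota G, GalCat83.AutTop.continuous_of_fibres _ fun X a ↦ ?_, fun g X x ↦ rfl, hdense,
    fun Q _ _ _ _ π hπ ↦ ?_⟩
  · have h : ∀ x : X.obj.V, ∀ᶠ b in nhds a, (X.obj.ρ (a⁻¹ * b)).hom x = x := fun x ↦ by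
      have ho := (isOpen_fix X x).preimage (continuous_const_mul a⁻¹)
      refine ho.mem_nhds ?_
      change (X.obj.ρ (a⁻¹ * a)).hom x = x
      rw [inv_mul_cancel]
      exact rho_one X.obj x
    exact (Filter.eventually_all.mpr h).mono fun b hb x ↦ by
      change (X.obj.ρ b).hom x = (X.obj.ρ a).hom x
      refine Eq.trans ?_ (congrArg (fun y ↦ (X.obj.ρ a).hom y) (hb x))
      refine Eq.trans ?_ (rho_mul X.obj a _ x)
      rw [mul_inv_cancel_left]
  · have hker : IsOpen (π.ker : Set G) := (isOpen_discrete ({1} : Set Q)).preimage hπ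
    let R := regular π hker
    have hr : ∀ (σ : Aut (Ff G)) (r : Q),
        @id Q (σ.hom.app R r) = @id Q (σ.hom.app R (1 : Q)) * r := fun σ r ↦ by
      have h1 : @id Q (σ.hom.app R (@id Q ((1 : Q) * r))) = @id Q (σ.hom.app R (1 : Q)) * r :=
        ConcreteCategory.congr_hom (σ.hom.naturality (rightMul π hker r)) (1 : Q)
      rwa [one_mul] at h1
    let ψ : Aut (Ff G) →* Q := MonoidHom.mk' (fun σ ↦ σ.hom.app R (1 : Q))
      fun σ τ ↦ hr σ (τ.hom.app R (1 : Q))
    have hψc : Continuous ψ :=
      GalCat83.AutTop.continuous_app (F := Ff G) R (Q := Q) fun f ↦ f (1 : Q)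
    have hψι : ψ.comp (iota G) = π := MonoidHom.ext fun g ↦ mul_one (π g)
    refine ⟨ψ, ⟨hψc, hψι⟩, fun ψ' ⟨hc, hψ'⟩ ↦ ?_⟩
    apply DFunLike.coe_injective
    refine hdense.equalizer hc hψc ?_
    funext g
    exact (DFunLike.congr_fun hψ' g).trans (DFunLike.congr_fun hψι g).symm

end Groth.Agent.S18428
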