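import Groth.Statements.S18429
import Mathlib.Tactic

set_option autoImplicit false
universe u
open SpinCurv

namespace Groth.Agent.S18429

/-- Let n ≥ 1 and r ≥ 2 be integers and let e_0, …, e_{nr} be integers with e_0 = e_{nr} = 0 (the
coefficients of a chain of nr - 1 exceptional curves joining two non-exceptional components with
coefficient zero) such that at every interior index 1 ≤ j ≤ nr - 1 the second difference e_{j-1} - 2
e_j + e_{j+1} (the degree of the divisor Σ e_i E_i on the j-th curve of the chain) is divisible by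
r. Then there are integers e'_0, …, e'_{nr}, with e'_j ≡ e_j modulo r for every interior j, with
e'_0 = e'_{nr} = 0 and every e'_j ≤ 0, whose second differences at the interior indices are each 0
or r, and are nonzero at no two distinct interior indices. -/
theorem result (n r : ℕ) (hn : 1 ≤ n) (hr : 2 ≤ r)
    (e : ℕ → ℤ) (he0 : e 0 = 0) (henr : e (n * r) = 0)
    (hdiv : ∀ j : ℕ, 1 ≤ j → j < n * r → (r : ℤ) ∣ e (j - 1) - 2 * e j + e (j + 1)) :
    ∃ e' : ℕ → ℤ, e' 0 = 0 ∧ e' (n * r) = 0 ∧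
      (∀ j : ℕ, 1 ≤ j → j < n * r → (r : ℤ) ∣ e' j - e j) ∧
      (∀ j : ℕ, j ≤ n * r → e' j ≤ 0) ∧
      (∀ j : ℕ, 1 ≤ j → j < n * r →
        (e' (j - 1) - 2 * e' j + e' (j + 1) = 0 ∨ e' (j - 1) - 2 * e' j + e' (j + 1) = r)) ∧
      (∀ j j' : ℕ, 1 ≤ j → j < n * r → 1 ≤ j' → j' < n * r →
        e' (j - 1) - 2 * e' j + e' (j + 1) ≠ 0 → e' (j' - 1) - 2 * e' j' + e' (j' + 1) ≠ 0 → j = j') := by
  set a : ℤ := e 1 % r with ha
  have hr0 : (0 : ℤ) < r := by exact_mod_cast (by omega : 0 < r)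
  have ha0 : 0 ≤ a := Int.emod_nonneg _ hr0.ne'
  have har : a < r := Int.emod_lt_of_pos _ hr0
  set T : ℤ := n * a with hT
  have hN : (((n * r : ℕ)) : ℤ) = n * r := Nat.cast_mul n r
  have hT0 : 0 ≤ T := by positivity
  have hTN : T < n * r := by
    rw [hT]; exact mul_lt_mul_of_pos_left har (by exact_mod_cast hn)
  have hmod : ∀ j : ℕ, j ≤ n * r → (r : ℤ) ∣ e j - j * a := by
    intro j
    induction j using Nat.strong_induction_on with
    | _ j ih =>
      intro hj
      match j with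
      | 0 => simp [he0]
      | 1 => exact ⟨e 1 / r, by simp [ha, Int.emod_def]⟩
      | j + 2 =>
        have h := hdiv (j + 1) (by omega) (by omega)
        rw [Nat.add_sub_cancel] at h
        obtain ⟨c1, hc1⟩ := ih (j + 1) (by omega) (by omega)
        obtain ⟨c0, hc0⟩ := ih j (by omega) (by omega)
        obtain ⟨c2, hc2⟩ := h
        refine ⟨2 * c1 - c0 + c2, ?_⟩
        push_cast at hc1 hc0 hc2 ⊢
        linear_combination 2 * hc1 - hc0 + hc2
  refine ⟨fun j => if (j : ℤ) ≤ T then (a - r) * j else a * ((j : ℤ) - n * r), ?_, ?_, ?_, ?_, ?_, ?_⟩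
  · simp [hT0]
  · simp only [hN, if_neg (not_le.mpr hTN), sub_self, mul_zero]
  · intro j _ hj
    have h := hmod j hj.le
    dsimp only
    split_ifs
    · obtain ⟨c, hc⟩ := h
      exact ⟨-(j : ℤ) - c, by linear_combination -hc⟩
    · obtain ⟨c, hc⟩ := h
      exact ⟨-(a * n) - c, by linear_combination -hc⟩
  · intro j hj
    have hj' : (j : ℤ) ≤ n * r := by exact_mod_cast hj
    dsimp only
    split_ifs <;> nlinarith
  · intro j hj1 hj
    have hjj : ((j - 1 : ℕ) : ℤ) = (j : ℤ) - 1 := by omega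
    simp only [hjj, Nat.cast_add, Nat.cast_one]
    rcases lt_trichotomy (j : ℤ) T with h | h | h
    · left; rw [if_pos (by linarith), if_pos h.le, if_pos (by linarith)]; ring
    · right; rw [if_pos (by linarith), if_pos h.le, if_neg (by linarith), h, hT]; ring
    · left
      rw [if_neg (by linarith : ¬ (j : ℤ) ≤ T), if_neg (by linarith : ¬ (j : ℤ) + 1 ≤ T)]
      by_cases h' : (j : ℤ) - 1 ≤ T
      · have : (j : ℤ) = T + 1 := by omega
        rw [if_pos h', this, hT]; ring
      · rw [if_neg h']; ring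
  · intro j j' hj1 hj hj'1 hj' h1 h2
    have key : ∀ i : ℕ, 1 ≤ i →
        ((if ((i - 1 : ℕ) : ℤ) ≤ T then (a - r) * ((i - 1 : ℕ) : ℤ) else a * (((i - 1 : ℕ) : ℤ) - n * r)) -
          2 * (if (i : ℤ) ≤ T then (a - r) * i else a * ((i : ℤ) - n * r)) +
          (if ((i + 1 : ℕ) : ℤ) ≤ T then (a - r) * ((i + 1 : ℕ) : ℤ) else a * (((i + 1 : ℕ) : ℤ) - n * r))) ≠ 0 →
        (i : ℤ) = T := by
      intro i hi hne
      have hjj : ((i - 1 : ℕ) : ℤ) = (i : ℤ) - 1 := by omega
      simp only [hjj, Nat.cast_add, Nat.cast_one] at hne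
      by_contra hiT
      apply hne
      rcases lt_or_gt_of_ne hiT with h | h
      · rw [if_pos (by linarith), if_pos h.le, if_pos (by linarith)]; ring
      · rw [if_neg (by linarith : ¬ (i : ℤ) ≤ T), if_neg (by linarith : ¬ (i : ℤ) + 1 ≤ T)]
        by_cases h' : (i : ℤ) - 1 ≤ T
        · have : (i : ℤ) = T + 1 := by omega
          rw [if_pos h', this, hT]; ring
        · rw [if_neg h']; ring
    exact_mod_cast (key j hj1 h1).trans (key j' hj'1 h2).symm

end Groth.Agent.S18429
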