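import Groth.Statements.S18430
import Mathlib.Tactic

set_option autoImplicit false
universe u
open SpinCurv

namespace Groth.Agent.S18430

/-- Let n ≥ 1 and r ≥ 2 be integers and let e_0, …, e_{nr} be integers, thought of as the coefficients
of two non-exceptional components C = E_0 and D = E_{nr} of the special fibre and of the chain of nr
- 1 exceptional curves joining them. If at every interior index 1 ≤ j ≤ nr - 1 the second difference
e_{j-1} - 2 e_j + e_{j+1} is divisible by r (the degree of the divisor on each exceptional curve of
the chain is a multiple of r), then e_0 ≡ e_{nr} modulo r. (The published statement deduces from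
this step, using that the special fibre is connected, that all non-exceptional components are joined
by such chains and that one non-exceptional coefficient may be taken to be 0, that every
non-exceptional coefficient can be assumed divisible by r; only the chain step is stated here.) -/
theorem result (n r : ℕ) (hn : 1 ≤ n) (hr : 2 ≤ r)
    (e : ℕ → ℤ)
    (hdiv : ∀ j : ℕ, 1 ≤ j → j < n * r → (r : ℤ) ∣ e (j - 1) - 2 * e j + e (j + 1)) :
    (r : ℤ) ∣ e (n * r) - e 0 := by
  set d : ℕ → ℤ := fun j => e (j + 1) - e j with hd
  have hcong : ∀ j, j < n * r → (r : ℤ) ∣ d j - d 0 := by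
    intro j
    induction j with
    | zero => intro _; simp
    | succ j ih =>
      intro hj
      have h1 := hdiv (j + 1) (by omega) hj
      rw [Nat.add_sub_cancel] at h1
      obtain ⟨c1, hc1⟩ := h1
      obtain ⟨c0, hc0⟩ := ih (by omega)
      simp only [hd] at hc0 ⊢
      exact ⟨c0 + c1, by linear_combination hc0 + hc1⟩
  have hsum : e (n * r) - e 0 = ∑ j ∈ Finset.range (n * r), (d j - d 0) + ((n * r : ℕ) : ℤ) * d 0 := by
    rw [Finset.sum_sub_distrib, Finset.sum_range_sub, Finset.sum_const, Finset.card_range, nsmul_eq_mul]
    ring
  rw [hsum]
  exact dvd_add (Finset.dvd_sum fun j hj => hcong j (Finset.mem_range.mp hj)) ((Dvd.intro_left _ (by push_cast; rfl)).mul_right _)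

end Groth.Agent.S18430
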