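import Groth.Statements.S18431
import Mathlib.Tactic

set_option autoImplicit false
universe u
open SpinCurv

namespace Groth.Agent.S18431

/-- Let R be a Noetherian local ring in which the natural number r is invertible and let ξ, ζ ∈ R
satisfy ξ^r = 1 and ζ^r = 1. Then either ξ = ζ, or ξ - ζ is a unit of R. (Consequently an element of
R annihilated by ξ - ζ is zero unless ξ = ζ. In the published setting R is moreover complete; the
step does not use completeness.) -/
theorem result (R : Type u) [CommRing R] [IsNoetherianRing R] [IsLocalRing R]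
    (r : ℕ) (hr : IsUnit (r : R)) (ξ ζ : R) (hξ : ξ ^ r = 1) (hζ : ζ ^ r = 1) :
    ξ = ζ ∨ IsUnit (ξ - ζ) := by
  by_cases h : IsUnit (ξ - ζ)
  · exact Or.inr h
  left
  have hm : ξ - ζ ∈ IsLocalRing.maximalIdeal R := h
  rcases Nat.eq_zero_or_pos r with rfl | hr0
  · rw [Nat.cast_zero, isUnit_zero_iff] at hr
    haveI := subsingleton_of_zero_eq_one hr
    exact Subsingleton.elim _ _
  have hζu : IsUnit ζ := IsUnit.of_pow_eq_one hζ (by omega)
  have hgs : (∑ i ∈ Finset.range r, ξ ^ i * ζ ^ (r - 1 - i)) * (ξ - ζ) = 0 := by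
    rw [geom_sum₂_mul, hξ, hζ, sub_self]
  have hu : IsUnit (∑ i ∈ Finset.range r, ξ ^ i * ζ ^ (r - 1 - i)) := by
    rw [← IsLocalRing.notMem_maximalIdeal, ← Ideal.Quotient.eq_zero_iff_mem]
    simp only [map_sum, map_mul, map_pow, Ideal.Quotient.eq.mpr hm, ← pow_add]
    rw [Finset.sum_congr rfl fun i hi => by
      rw [show i + (r - 1 - i) = r - 1 by rw [Finset.mem_range] at hi; omega], Finset.sum_const, Finset.card_range,
      ← map_pow, ← map_nsmul, Ideal.Quotient.eq_zero_iff_mem, nsmul_eq_mul]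
    rw [IsLocalRing.notMem_maximalIdeal]
    exact hr.mul (hζu.pow _)
  exact sub_eq_zero.mp ((hu.mul_right_eq_zero).mp hgs)

end Groth.Agent.S18431
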