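import Groth.Statements.S18432
import Mathlib
import Groth.Agent.Node52.Power

set_option autoImplicit false
universe u
open SpinCurv

namespace Groth.Agent.S18432

variable {R : Type u} [CommRing R] {I : Ideal R} [IsAdicComplete I R] {p q : R} (hπ : p * q ∈ I)

open Node52

theorem alpha_apply (v : Fin 2 → NodeRing R (p * q)) :
    Matrix.mulVec (nodeAlpha R p q) v 0 = NodeRing.x R (p * q) * v 0 + algebraMap R _ p * v 1 ∧
    Matrix.mulVec (nodeAlpha R p q) v 1 = algebraMap R _ q * v 0 + NodeRing.y R (p * q) * v 1 := by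
  constructor <;> simp [nodeAlpha, Matrix.mulVec, dotProduct, Fin.sum_univ_two]

/-- the two invariants deciding the image under `α` -/
noncomputable def inv1 (v : Fin 2 → NodeRing R (p * q)) (i : ℕ) : R :=
  pcoord hπ (v 0) i + p * pcoord hπ (v 1) ((i : ℤ) + 1)

noncomputable def inv2 (v : Fin 2 → NodeRing R (p * q)) (j : ℕ) : R :=
  pcoord hπ (v 1) (-(j : ℤ)) + q * pcoord hπ (v 0) (-(j : ℤ) - 1)

theorem coord_alpha_zero (v : Fin 2 → NodeRing R (p * q)) (d : ℤ) :
    pcoord hπ (Matrix.mulVec (nodeAlpha R p q) v 0) d =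
      if 1 ≤ d then inv1 hπ v (d - 1).toNat else p * inv2 hπ v (-d).toNat := by
  rw [(alpha_apply v).1, map_add, Pi.add_apply, pcoord_x_mul, pcoord_algebraMap_mul]
  split_ifs with h
  · rw [inv1, Int.toNat_of_nonneg (by omega), sub_add_cancel]; ring
  · rw [inv2, Int.toNat_of_nonneg (by omega), neg_neg]; ring

theorem coord_alpha_one (v : Fin 2 → NodeRing R (p * q)) (d : ℤ) :
    pcoord hπ (Matrix.mulVec (nodeAlpha R p q) v 1) d =
      if 0 ≤ d then q * inv1 hπ v d.toNat else inv2 hπ v (-(d + 1)).toNat := by
  rw [(alpha_apply v).2, map_add, Pi.add_apply, pcoord_y_mul, pcoord_algebraMap_mul]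
  split_ifs with h1 h2
  · omega
  · rw [inv2, Int.toNat_of_nonneg (by omega), neg_neg, add_sub_cancel_right]; ring
  · rw [inv1, Int.toNat_of_nonneg (by omega)]; ring
  · omega

theorem alpha_eq_iff (v w : Fin 2 → NodeRing R (p * q)) :
    Matrix.mulVec (nodeAlpha R p q) v = Matrix.mulVec (nodeAlpha R p q) w ↔
      inv1 hπ v = inv1 hπ w ∧ inv2 hπ v = inv2 hπ w := by
  constructor
  · intro h
    constructor
    · funext i
      have := coord_alpha_zero hπ v ((i : ℤ) + 1)
      rw [h, coord_alpha_zero, if_pos (by omega), if_pos (by omega), add_sub_cancel_right, Int.toNat_natCast] at this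
      exact this.symm
    · funext j
      have := coord_alpha_one hπ v (-(j : ℤ) - 1)
      rw [h, coord_alpha_one, if_neg (by omega), if_neg (by omega), sub_add_cancel, neg_neg, Int.toNat_natCast] at this
      exact this.symm
  · rintro ⟨h1, h2⟩
    funext i
    apply (pcoord hπ).injective
    funext d
    fin_cases i
    · exact (coord_alpha_zero hπ v d).trans (by rw [h1, h2]; exact (coord_alpha_zero hπ w d).symm)
    · exact (coord_alpha_one hπ v d).trans (by rw [h1, h2]; exact (coord_alpha_one hπ w d).symm)


/-- Let R be a complete Noetherian local ring, p, q elements of its maximal ideal, A = R[[x, y]]/(xy -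
pq), and α(p, q) the A-linear endomorphism of A² with matrix (x p; q y), sending a column (a, b) to
(x a + p b, q a + y b). Then the kernel of α(p, q) is the submodule of A² generated by the columns
(p, -x) and (y, -q); equivalently the image of α(p, q) (the standard rank-one torsion-free module
E(p, q)) is presented by two generators ξ, v with the relations p ξ = x v and y ξ = q v. -/
theorem result (R : Type u) [CommRing R] [IsNoetherianRing R] [IsLocalRing R]
    [IsAdicComplete (IsLocalRing.maximalIdeal R) R]
    (p q : R) (hp : p ∈ IsLocalRing.maximalIdeal R) (hq : q ∈ IsLocalRing.maximalIdeal R) :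
    LinearMap.ker (Matrix.mulVecLin (SpinCurv.nodeAlpha R p q)) =
      Submodule.span (SpinCurv.NodeRing R (p * q))
        {![algebraMap R (SpinCurv.NodeRing R (p * q)) p, -SpinCurv.NodeRing.x R (p * q)],
         ![SpinCurv.NodeRing.y R (p * q), -algebraMap R (SpinCurv.NodeRing R (p * q)) q]} := by
  have hπ : p * q ∈ IsLocalRing.maximalIdeal R := Ideal.mul_mem_left _ _ hq
  apply le_antisymm
  · intro v hv
    have h0 : Matrix.mulVec (nodeAlpha R p q) v = Matrix.mulVec (nodeAlpha R p q) 0 := by
      rw [Matrix.mulVec_zero]; exact hv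
    obtain ⟨h1, h2⟩ := (alpha_eq_iff hπ _ _).1 h0
    have e1 : ∀ i : ℕ, Node52.pcoord hπ (v 0) i + p * Node52.pcoord hπ (v 1) ((i : ℤ) + 1) = 0 := fun i =>
      (congrFun h1 i).trans (by simp [inv1])
    have e2 : ∀ j : ℕ, Node52.pcoord hπ (v 1) (-(j : ℤ)) + q * Node52.pcoord hπ (v 0) (-(j : ℤ) - 1) = 0 := fun j =>
      (congrFun h2 j).trans (by simp [inv2])
    rw [Submodule.mem_span_pair]
    let c := (Node52.pcoord hπ).symm fun d => if 0 ≤ d then -Node52.pcoord hπ (v 1) (d + 1) else 0
    let e := (Node52.pcoord hπ).symm fun d => if d ≤ 0 then Node52.pcoord hπ (v 0) (d - 1) else 0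
    refine ⟨c, e, funext fun i => (Node52.pcoord hπ).injective (funext fun d => ?_)⟩
    fin_cases i
    · show Node52.pcoord hπ (c * algebraMap R _ p + e * NodeRing.y R (p * q)) d = Node52.pcoord hπ (v 0) d
      rw [map_add, Pi.add_apply, mul_comm c, mul_comm e, Node52.pcoord_algebraMap_mul, Node52.pcoord_y_mul]
      simp only [c, e, LinearEquiv.apply_symm_apply]
      by_cases hd : 0 ≤ d
      · obtain ⟨i, rfl⟩ := Int.eq_ofNat_of_zero_le hd
        rw [if_pos hd, if_neg (show ¬ ((i : ℤ) + 1 ≤ 0) by omega), mul_zero, add_zero]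
        linear_combination -(e1 i)
      · rw [if_neg hd, if_pos (show d ≤ -1 by omega), if_pos (show d + 1 ≤ 0 by omega), add_sub_cancel_right, mul_zero, one_mul, zero_add]
    · show Node52.pcoord hπ (c * -NodeRing.x R (p * q) + e * -algebraMap R _ q) d = Node52.pcoord hπ (v 1) d
      rw [show c * -NodeRing.x R (p * q) = -(NodeRing.x R (p * q) * c) by ring, show e * -algebraMap R _ q = -(algebraMap R _ q * e) by ring,
        map_add, map_neg, map_neg, Pi.add_apply, Pi.neg_apply, Pi.neg_apply,
        Node52.pcoord_algebraMap_mul, Node52.pcoord_x_mul]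
      simp only [c, e, LinearEquiv.apply_symm_apply]
      by_cases hd : 1 ≤ d
      · rw [if_pos hd, if_pos (show 0 ≤ d - 1 by omega), if_neg (show ¬ d ≤ 0 by omega), sub_add_cancel]
        ring
      · obtain ⟨j, rfl⟩ : ∃ j : ℕ, d = -(j : ℤ) := ⟨(-d).toNat, by omega⟩
        rw [if_neg hd, if_neg (show ¬ 0 ≤ -(j : ℤ) - 1 by omega), if_pos (show -(j : ℤ) ≤ 0 by omega)]
        linear_combination -(e2 j)
  · rw [Submodule.span_le]
    have hxy : NodeRing.x R (p * q) * NodeRing.y R (p * q) = algebraMap R _ p * algebraMap R _ q := by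
      rw [← map_mul, ← map_mul]
      exact Ideal.Quotient.eq.2 (Ideal.subset_span rfl)
    rintro _ (rfl | rfl)
    all_goals
      refine LinearMap.mem_ker.2 ?_
      rw [Matrix.mulVecLin_apply]
      funext i
      fin_cases i
      · refine (alpha_apply _).1.trans ?_
        simp only [Matrix.cons_val_zero, Matrix.cons_val_one, Pi.zero_apply]
        first | linear_combination hxy | linear_combination -hxy | ring1
      · refine (alpha_apply _).2.trans ?_
        simp only [Matrix.cons_val_zero, Matrix.cons_val_one, Pi.zero_apply]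
        first | linear_combination hxy | linear_combination -hxy | ring1

end Groth.Agent.S18432
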