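import Groth.Statements.S18433
import Mathlib
import Groth.Agent.Node52.Power

set_option autoImplicit false
universe u
open SpinCurv

namespace Groth.Agent.S18433

variable {R : Type u} [CommRing R] {I : Ideal R} [IsAdicComplete I R] {p q : R} (hπ : p * q ∈ I)

open Node52

theorem alpha_apply (v : Fin 2 → NodeRing R (p * q)) :
    Matrix.mulVec (nodeAlpha R p q) v 0 = NodeRing.x R (p * q) * v 0 + algebraMap R _ p * v 1 ∧
    Matrix.mulVec (nodeAlpha R p q) v 1 = algebraMap R _ q * v 0 + NodeRing.y R (p * q) * v 1 := by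
  constructor <;> simp [nodeAlpha, Matrix.mulVec, dotProduct, Fin.sum_univ_two]

/-- the two invariants deciding the image under `α` -/
noncomputable def inv1 (v : Fin 2 → NodeRing R (p * q)) (i : ℕ) : R :=
  pcoord hπ (v 0) i + p * pcoord hπ (v 1) ((i : ℤ) + 1)

noncomputable def inv2 (v : Fin 2 → NodeRing R (p * q)) (j : ℕ) : R :=
  pcoord hπ (v 1) (-(j : ℤ)) + q * pcoord hπ (v 0) (-(j : ℤ) - 1)

theorem coord_alpha_zero (v : Fin 2 → NodeRing R (p * q)) (d : ℤ) :
    pcoord hπ (Matrix.mulVec (nodeAlpha R p q) v 0) d =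
      if 1 ≤ d then inv1 hπ v (d - 1).toNat else p * inv2 hπ v (-d).toNat := by
  rw [(alpha_apply v).1, map_add, Pi.add_apply, pcoord_x_mul, pcoord_algebraMap_mul]
  split_ifs with h
  · rw [inv1, Int.toNat_of_nonneg (by omega), sub_add_cancel]; ring
  · rw [inv2, Int.toNat_of_nonneg (by omega), neg_neg]; ring

theorem coord_alpha_one (v : Fin 2 → NodeRing R (p * q)) (d : ℤ) :
    pcoord hπ (Matrix.mulVec (nodeAlpha R p q) v 1) d =
      if 0 ≤ d then q * inv1 hπ v d.toNat else inv2 hπ v (-(d + 1)).toNat := by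
  rw [(alpha_apply v).2, map_add, Pi.add_apply, pcoord_y_mul, pcoord_algebraMap_mul]
  split_ifs with h1 h2
  · omega
  · rw [inv2, Int.toNat_of_nonneg (by omega), neg_neg, add_sub_cancel_right]; ring
  · rw [inv1, Int.toNat_of_nonneg (by omega)]; ring
  · omega

theorem alpha_eq_iff (v w : Fin 2 → NodeRing R (p * q)) :
    Matrix.mulVec (nodeAlpha R p q) v = Matrix.mulVec (nodeAlpha R p q) w ↔
      inv1 hπ v = inv1 hπ w ∧ inv2 hπ v = inv2 hπ w := by
  constructor
  · intro h
    constructor
    · funext i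
      have := coord_alpha_zero hπ v ((i : ℤ) + 1)
      rw [h, coord_alpha_zero, if_pos (by omega), if_pos (by omega), add_sub_cancel_right, Int.toNat_natCast] at this
      exact this.symm
    · funext j
      have := coord_alpha_one hπ v (-(j : ℤ) - 1)
      rw [h, coord_alpha_one, if_neg (by omega), if_neg (by omega), sub_add_cancel, neg_neg, Int.toNat_natCast] at this
      exact this.symm
  · rintro ⟨h1, h2⟩
    funext i
    apply (pcoord hπ).injective
    funext d
    fin_cases i
    · exact (coord_alpha_zero hπ v d).trans (by rw [h1, h2]; exact (coord_alpha_zero hπ w d).symm)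
    · exact (coord_alpha_one hπ v d).trans (by rw [h1, h2]; exact (coord_alpha_one hπ w d).symm)

theorem inv_std (f g : PowerSeries R) :
    inv1 hπ ![NodeRing.ofX R (p * q) f, NodeRing.ofY R (p * q) g] = (fun i => PowerSeries.coeff i f) ∧
    inv2 hπ ![NodeRing.ofX R (p * q) f, NodeRing.ofY R (p * q) g] = (fun i => PowerSeries.coeff i g) := by
  constructor <;> funext i
  · simp only [inv1, Matrix.cons_val_zero, Matrix.cons_val_one, pcoord_ofX, pcoord_ofY]
    rw [if_pos (by omega), if_neg (by omega), Int.toNat_natCast, mul_zero, add_zero]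
  · simp only [inv2, Matrix.cons_val_zero, Matrix.cons_val_one, pcoord_ofX, pcoord_ofY]
    rw [if_pos (by omega), if_neg (by omega), neg_neg, Int.toNat_natCast, mul_zero, add_zero]


/-- Let R be a complete Noetherian local ring, p, q elements of its maximal ideal, A = R[[x, y]]/(xy -
pq), and α(p, q) the endomorphism (a, b) ↦ (x a + p b, q a + y b) of A². Restrict α(p, q) to pairs
(f, g) with f a power series in x alone and g a power series in y alone: the resulting map R[[x]] ×
R[[y]] → A², (f, g) ↦ (x f + p g, q f + y g), is injective and has the same image as α(p, q). Thus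
the image E(p, q) of α(p, q) is identified, R-linearly, with R[[x]] ⊕ R[[y]]. -/
theorem result (R : Type u) [CommRing R] [IsNoetherianRing R] [IsLocalRing R]
    [IsAdicComplete (IsLocalRing.maximalIdeal R) R]
    (p q : R) (hp : p ∈ IsLocalRing.maximalIdeal R) (hq : q ∈ IsLocalRing.maximalIdeal R) :
    Function.Injective (fun fg : PowerSeries R × PowerSeries R =>
        Matrix.mulVec (SpinCurv.nodeAlpha R p q)
          ![SpinCurv.NodeRing.ofX R (p * q) fg.1, SpinCurv.NodeRing.ofY R (p * q) fg.2]) ∧
    Set.range (fun fg : PowerSeries R × PowerSeries R =>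
        Matrix.mulVec (SpinCurv.nodeAlpha R p q)
          ![SpinCurv.NodeRing.ofX R (p * q) fg.1, SpinCurv.NodeRing.ofY R (p * q) fg.2]) =
      Set.range (Matrix.mulVec (SpinCurv.nodeAlpha R p q)) := by
  have hπ : p * q ∈ IsLocalRing.maximalIdeal R := Ideal.mul_mem_left _ _ hq
  refine ⟨fun a b hab => ?_, Set.Subset.antisymm (Set.range_subset_iff.2 fun fg => ⟨_, rfl⟩) (Set.range_subset_iff.2 fun v => ?_)⟩
  · obtain ⟨h1, h2⟩ := (alpha_eq_iff hπ _ _).1 hab
    rw [(inv_std hπ _ _).1, (inv_std hπ _ _).1] at h1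
    rw [(inv_std hπ _ _).2, (inv_std hπ _ _).2] at h2
    exact Prod.ext (PowerSeries.ext (congrFun h1)) (PowerSeries.ext (congrFun h2))
  · refine ⟨(PowerSeries.mk (inv1 hπ v), PowerSeries.mk (inv2 hπ v)), (alpha_eq_iff hπ _ _).2 ⟨?_, ?_⟩⟩
    · rw [(inv_std hπ _ _).1]; funext i; simp
    · rw [(inv_std hπ _ _).2]; funext i; simp

end Groth.Agent.S18433
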