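import Groth.Statements.S18434
import Mathlib
import Groth.Agent.Node52.Power

set_option autoImplicit false
universe u
open SpinCurv

namespace Groth.Agent.S18434

theorem zero_mem_bot (k : Type u) [Field k] : (0 : k) ∈ (⊥ : Ideal k) := zero_mem _

open Node52 in
theorem xpow_coord (k : Type u) [Field k] (a : NodeRing k 0) (u : ℕ) (hu : 1 ≤ u) (d : ℤ) :
    pcoord (zero_mem_bot k) (NodeRing.x k 0 ^ u * a) d =
      if (u : ℤ) ≤ d then pcoord (zero_mem_bot k) a (d - u) else 0 := by
  induction u, hu using Nat.le_induction generalizing d with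
  | base => rw [pow_one, pcoord_x_mul]; push_cast; split_ifs <;> simp
  | succ u hu ih =>
    rw [pow_succ', mul_assoc, pcoord_x_mul, ih]
    push_cast
    by_cases h : (u : ℤ) + 1 ≤ d
    · rw [if_pos h, if_pos (by omega), if_pos (by omega), one_mul, show d - 1 - (u : ℤ) = d - (u + 1) by omega]
    · rw [if_neg h, if_neg (show ¬ ((u : ℤ) ≤ d - 1) by omega), mul_zero]

open Node52 in
theorem ypow_coord (k : Type u) [Field k] (a : NodeRing k 0) (u : ℕ) (hu : 1 ≤ u) (d : ℤ) :
    pcoord (zero_mem_bot k) (NodeRing.y k 0 ^ u * a) d =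
      if d ≤ -(u : ℤ) then pcoord (zero_mem_bot k) a (d + u) else 0 := by
  induction u, hu using Nat.le_induction generalizing d with
  | base => rw [pow_one, pcoord_y_mul]; push_cast; split_ifs <;> simp
  | succ u hu ih =>
    rw [pow_succ', mul_assoc, pcoord_y_mul, ih]
    push_cast
    by_cases h : d ≤ -((u : ℤ) + 1)
    · rw [if_pos h, if_pos (by omega), if_pos (by omega), one_mul, show d + 1 + (u : ℤ) = d + (u + 1) by omega]
    · rw [if_neg h, if_neg (show ¬ (d + 1 ≤ -(u : ℤ)) by omega), mul_zero]


/-- Let k be a field, u, v ≥ 1 integers and w ∈ k nonzero. In the ring A = k[[x, y]]/(xy), the quotient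
A/(x^u, w y^v) has dimension u + v - 1 over k (a basis is 1, x, …, x^{u-1}, y, …, y^{v-1}); this is
the length of the cokernel at the node of a map whose image is generated by x^u and w y^v. -/
theorem result (k : Type u) [Field k] (u v : ℕ) (hu : 1 ≤ u) (hv : 1 ≤ v)
    (w : k) (hw : w ≠ 0) :
    Module.finrank k (SpinCurv.NodeRing k 0 ⧸
      Ideal.span {SpinCurv.NodeRing.x k 0 ^ u, algebraMap k (SpinCurv.NodeRing k 0) w * SpinCurv.NodeRing.y k 0 ^ v}) =
      u + v - 1 := by
  classical
  let e := Node52.pcoord (zero_mem_bot k)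
  let S := {d : ℤ // d ∈ Finset.Ioo (-(v : ℤ)) u}
  let P : SpinCurv.NodeRing k 0 →ₗ[k] (S → k) := LinearMap.funLeft k k (Subtype.val : S → ℤ) ∘ₗ e.toLinearMap
  have hsurj : Function.Surjective P := by
    intro c
    refine ⟨e.symm (Function.extend Subtype.val c 0), funext fun d => ?_⟩
    show e (e.symm _) d.1 = c d
    rw [LinearEquiv.apply_symm_apply, Subtype.val_injective.extend_apply]
  have hker : LinearMap.ker P = (Ideal.span {SpinCurv.NodeRing.x k 0 ^ u, algebraMap k (SpinCurv.NodeRing k 0) w * SpinCurv.NodeRing.y k 0 ^ v}).restrictScalars k := by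
    ext a
    rw [Submodule.restrictScalars_mem, LinearMap.mem_ker, Ideal.mem_span_pair]
    constructor
    · intro h
      let c := e.symm fun d => if 0 ≤ d then e a (d + u) else 0
      let c' := e.symm fun d => if d ≤ 0 then w⁻¹ * e a (d - v) else 0
      refine ⟨c, c', e.injective (funext fun d => ?_)⟩
      rw [mul_comm c, mul_comm c', mul_assoc, map_add, Pi.add_apply, Node52.pcoord_algebraMap_mul, xpow_coord k _ u hu, ypow_coord k _ v hv]
      simp only [c, c']
      simp only [e, LinearEquiv.apply_symm_apply]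
      by_cases h1 : (u : ℤ) ≤ d
      · rw [if_pos h1, if_pos (by omega), if_neg (by omega), sub_add_cancel, mul_zero, add_zero]
      · rw [if_neg h1]
        by_cases h2 : d ≤ -(v : ℤ)
        · rw [if_pos h2, if_pos (by omega), add_sub_cancel_right, zero_add, ← mul_assoc, mul_inv_cancel₀ hw, one_mul]
        · rw [if_neg h2, mul_zero, add_zero]
          exact (congrFun h ⟨d, Finset.mem_Ioo.2 ⟨by omega, by omega⟩⟩).symm
    · rintro ⟨c, c', rfl⟩
      funext d
      have hd := Finset.mem_Ioo.1 d.2
      show e _ d.1 = 0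
      rw [mul_comm c, mul_comm c', mul_assoc, map_add, Pi.add_apply, Node52.pcoord_algebraMap_mul, xpow_coord k _ u hu, ypow_coord k _ v hv,
        if_neg (by omega), if_neg (by omega), mul_zero, add_zero]
  rw [← (Submodule.Quotient.restrictScalarsEquiv k _).finrank_eq, ← hker, (P.quotKerEquivOfSurjective hsurj).finrank_eq,
    Module.finrank_pi, Fintype.card_coe, Int.card_Ioo]
  omega

end Groth.Agent.S18434
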