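import Groth.Statements.S18435
import Mathlib
import Groth.Agent.Node52.Poly

set_option autoImplicit false
universe u
open SpinCurv

namespace Groth.Agent.S18435

theorem coord_y_mul {k : Type u} [Field k] (a : PolyNodeRing k 0) (d : ℤ) (hd : d ≤ 0) :
    Node52.coordEquiv 0 (PolyNodeRing.y k 0 * a) (d - 1) = Node52.coordEquiv 0 a d := by
  refine LinearMap.congr_fun (f := (Finsupp.lapply (d - 1)) ∘ₗ (Node52.coordEquiv (0 : k)).toLinearMap ∘ₗ LinearMap.mulLeft k (PolyNodeRing.y k 0))
    (g := (Finsupp.lapply d) ∘ₗ (Node52.coordEquiv (0 : k)).toLinearMap) (Node52.ext_mon fun m => ?_) a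
  simp only [LinearMap.comp_apply, LinearEquiv.coe_coe, Finsupp.lapply_apply, LinearMap.mulLeft_apply, Node52.coordEquiv_mon]
  have hm : PolyNodeRing.y k 0 * Node52.mon 0 m = ((0 : k) ^ min m.toNat ((-m).toNat + 1)) • Node52.mon 0 (m - 1) := by
    rw [Node52.mon, mul_left_comm, ← pow_succ', Node52.x_pow_y_pow]
    congr 2
    omega
  rw [hm, map_smul, Node52.coordEquiv_mon, Finsupp.smul_single, smul_eq_mul, mul_one]
  by_cases h : m = d
  · subst h
    rw [show min m.toNat ((-m).toNat + 1) = 0 by omega, pow_zero, Finsupp.single_eq_same, Finsupp.single_eq_same]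
  · rw [Finsupp.single_eq_of_ne (by omega), Finsupp.single_eq_of_ne (Ne.symm h)]


/-- Let k be a field and A = k[x, y]/(xy) the node, with the two affine charts U = Spec k[s, y]/(sy) and
V = Spec k[t, x]/(tx) of the curve obtained by the (p, q)-construction with p = q = 0, glued along
k[s, s⁻¹] by t = s⁻¹ (y ↦ 0 from U, x ↦ 0 from V), and with A → O(U) given by x ↦ 0, y ↦ y and A →
O(V) by x ↦ x, y ↦ 0. A global section of O(1) is a pair (g, f) with g = s f on U ∩ V. If such a
pair is annihilated by both x and y (acting through the two restriction maps), then g = 0 and f = 0;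
so the module of global sections of O(1) has no nonzero element killed by the maximal ideal (x, y),
i.e. its direct image on the node is torsion-free there. All three coordinate rings are written as
the quotient of the polynomial ring in two variables by the product of the variables, and the four
restriction homomorphisms are k-algebra maps pinned by their values on generators. (The published
proof reduces the torsion-freeness of the direct image of O(1), for general R, p, q, to exactly this
case of a field with p = q = 0.) -/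
theorem result (k : Type u) [Field k]
    (rU : SpinCurv.PolyNodeRing k 0 →ₐ[k] SpinCurv.PolyNodeRing k 0)
    (hrUx : rU (SpinCurv.PolyNodeRing.x k 0) = 0)
    (hrUy : rU (SpinCurv.PolyNodeRing.y k 0) = SpinCurv.PolyNodeRing.y k 0)
    (rV : SpinCurv.PolyNodeRing k 0 →ₐ[k] SpinCurv.PolyNodeRing k 0)
    (hrVx : rV (SpinCurv.PolyNodeRing.x k 0) = SpinCurv.PolyNodeRing.y k 0)
    (hrVy : rV (SpinCurv.PolyNodeRing.y k 0) = 0)
    (gU : SpinCurv.PolyNodeRing k 0 →ₐ[k] LaurentPolynomial k)
    (hgUs : gU (SpinCurv.PolyNodeRing.x k 0) = LaurentPolynomial.T 1)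
    (hgUy : gU (SpinCurv.PolyNodeRing.y k 0) = 0)
    (gV : SpinCurv.PolyNodeRing k 0 →ₐ[k] LaurentPolynomial k)
    (hgVt : gV (SpinCurv.PolyNodeRing.x k 0) = LaurentPolynomial.T (-1))
    (hgVx : gV (SpinCurv.PolyNodeRing.y k 0) = 0)
    (g f : SpinCurv.PolyNodeRing k 0) (hsec : gU g = LaurentPolynomial.T 1 * gV f)
    (hx : rU (SpinCurv.PolyNodeRing.x k 0) * g = 0 ∧ rV (SpinCurv.PolyNodeRing.x k 0) * f = 0)
    (hy : rU (SpinCurv.PolyNodeRing.y k 0) * g = 0 ∧ rV (SpinCurv.PolyNodeRing.y k 0) * f = 0) :
    g = 0 ∧ f = 0 := by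
  have h0 : ∀ a : PolyNodeRing k 0, PolyNodeRing.y k 0 * a = 0 → ∀ d : ℤ, d ≤ 0 → Node52.coordEquiv 0 a d = 0 := by
    intro a ha d hd
    rw [← coord_y_mul a d hd, ha, map_zero, Finsupp.zero_apply]
  have hg0 := h0 g (by rw [← hrUy]; exact hy.1)
  have hf0 := h0 f (by rw [← hrVx]; exact hx.2)
  have hgUy' : gU (PolyNodeRing.y k 0) = LaurentPolynomial.C (0 : k) * LaurentPolynomial.T (-1) := by
    rw [hgUy, map_zero, zero_mul]
  have hgVx' : gV (PolyNodeRing.y k 0) = LaurentPolynomial.C (0 : k) * LaurentPolynomial.T 1 := by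
    rw [hgVx, map_zero, zero_mul]
  obtain ⟨h, hh⟩ := (Node52.mem_range_sec_iff gU hgUs hgUy' gV hgVt hgVx' 1 (by norm_num) (g, f)).1 hsec
  have key : h = 0 := by
    ext d
    rw [Finsupp.zero_apply]
    by_cases hd : 1 ≤ d
    · have := hf0 (1 - d) (by omega)
      rw [← show (Node52.sec 0 0 1 h).2 = f from by rw [hh], Node52.sec_snd, if_pos (by omega), one_mul] at this
      exact this
    · have := hg0 d (by omega)
      rw [← show (Node52.sec 0 0 1 h).1 = g from by rw [hh], Node52.sec_fst] at this
      split_ifs at this with h1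
      · rwa [show (d - 1).toNat = 0 by omega, pow_zero, one_mul] at this
      · rwa [one_mul] at this
  rw [key, map_zero] at hh
  exact ⟨(congrArg Prod.fst hh).symm, (congrArg Prod.snd hh).symm⟩

end Groth.Agent.S18435
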