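import Groth.Statements.S18437
import Mathlib
import Groth.Agent.Node52.Poly

set_option autoImplicit false
universe u
open SpinCurv

namespace Groth.Agent.S18437

/-- the pivot position in degree `D` -/
def piv (n : ℕ) (D : ℤ) : ℕ := (min (max ((n : ℤ) - D) 0) n).toNat

theorem piv_le (n : ℕ) (D : ℤ) : piv n D < n + 1 := by unfold piv; omega

variable {R : Type u} [CommRing R] (p q : R) (n : ℕ)

/-- basis vector of total degree `D` at position `i` -/
noncomputable def ev (i : Fin (n + 1)) (D : ℤ) : Fin (n + 1) → PolyNodeRing R (p * q) :=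
  Pi.single i (Node52.mon (p * q) (D - n + (i : ℕ)))

/-- the span of the relations -/
noncomputable def rel : Submodule (PolyNodeRing R (p * q)) (Fin (n + 1) → PolyNodeRing R (p * q)) :=
  Submodule.span (PolyNodeRing R (p * q))
        (Set.range (fun i : Fin n =>
            (Pi.single (Fin.castSucc i) (algebraMap R (PolyNodeRing R (p * q)) p) -
              Pi.single (Fin.succ i) (PolyNodeRing.x R (p * q)) : Fin (n + 1) → PolyNodeRing R (p * q))) ∪
         Set.range (fun i : Fin n =>
            (Pi.single (Fin.castSucc i) (PolyNodeRing.y R (p * q)) -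
              Pi.single (Fin.succ i) (algebraMap R (PolyNodeRing R (p * q)) q) : Fin (n + 1) → PolyNodeRing R (p * q))))

theorem step_up (D : ℤ) (i : Fin n) (hi : 0 ≤ D - n + (i : ℕ)) :
    p • ev p q n i.castSucc D - ev p q n i.succ D ∈ rel p q n := by
  have hgen : (Pi.single (Fin.castSucc i) (algebraMap R (PolyNodeRing R (p * q)) p) -
              Pi.single (Fin.succ i) (PolyNodeRing.x R (p * q)) : Fin (n + 1) → PolyNodeRing R (p * q)) ∈ rel p q n :=
    Submodule.subset_span (Or.inl ⟨i, rfl⟩)
  have h := Submodule.smul_mem _ (Node52.mon (p * q) (D - n + (i : ℕ))) hgen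
  obtain ⟨e, he⟩ : ∃ e : ℕ, D - n + (i : ℕ) = e := ⟨_, (Int.toNat_of_nonneg hi).symm⟩
  rw [smul_sub, ← Pi.single_smul, ← Pi.single_smul, smul_eq_mul, smul_eq_mul, mul_comm _ (algebraMap R _ p), ← Node52.smul_eq, he, Node52.mon_natCast, ← pow_succ, ← Node52.mon_natCast, ← Node52.mon_natCast] at h
  rw [ev, ev, Fin.val_castSucc, Fin.val_succ, ← Pi.single_smul, he, show D - n + ((i : ℕ) + 1 : ℕ) = ((e + 1 : ℕ) : ℤ) by omega]
  exact h

theorem step_down (D : ℤ) (i : Fin n) (hi : D - n + (i : ℕ) + 1 ≤ 0) :
    ev p q n i.castSucc D - q • ev p q n i.succ D ∈ rel p q n := by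
  have hgen : (Pi.single (Fin.castSucc i) (PolyNodeRing.y R (p * q)) -
              Pi.single (Fin.succ i) (algebraMap R (PolyNodeRing R (p * q)) q) : Fin (n + 1) → PolyNodeRing R (p * q)) ∈ rel p q n :=
    Submodule.subset_span (Or.inr ⟨i, rfl⟩)
  have h := Submodule.smul_mem _ (Node52.mon (p * q) (D - n + (i : ℕ) + 1)) hgen
  obtain ⟨e, he⟩ : ∃ e : ℕ, D - n + (i : ℕ) + 1 = -(e : ℤ) := ⟨(-(D - n + (i : ℕ) + 1)).toNat, by omega⟩
  rw [smul_sub, ← Pi.single_smul, ← Pi.single_smul, smul_eq_mul, smul_eq_mul, mul_comm _ (algebraMap R _ q), ← Node52.smul_eq, he, Node52.mon_neg, ← pow_succ, ← Node52.mon_neg, ← Node52.mon_neg] at h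
  rw [ev, ev, Fin.val_castSucc, Fin.val_succ, ← Pi.single_smul, show D - n + (i : ℕ) = -((e + 1 : ℕ) : ℤ) by omega, show D - n + ((i : ℕ) + 1 : ℕ) = -(e : ℤ) by omega]
  exact h

/-- the span of the relations and the pivots -/
noncomputable def big : Submodule R (Fin (n + 1) → PolyNodeRing R (p * q)) :=
  (rel p q n).restrictScalars R ⊔
    LinearMap.range (Finsupp.linearCombination R fun D => ev p q n ⟨piv n D, piv_le n D⟩ D)

theorem ev_mem_big (D : ℤ) : ∀ (k : ℕ) (i : Fin (n + 1)), (i : ℕ) + k = piv n D ∨ piv n D + k = i → ev p q n i D ∈ big p q n := by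
  intro k
  induction k with
  | zero =>
    intro i hi
    obtain rfl : i = ⟨piv n D, piv_le n D⟩ := Fin.ext (by simpa [eq_comm] using hi)
    exact Submodule.mem_sup_right ⟨Finsupp.single D 1, by rw [Finsupp.linearCombination_single, one_smul]⟩
  | succ k ih =>
    intro i hi
    rcases hi with hi | hi
    · have hlt : (i : ℕ) < n := by have := piv_le n D; omega
      have hs : ev p q n (⟨i, hlt⟩ : Fin n).succ D ∈ big p q n := ih _ (Or.inl (by simp only [Fin.val_succ]; omega))
      have hd : D - n + (i : ℕ) + 1 ≤ 0 := by unfold piv at hi; omega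
      have := add_mem (Submodule.mem_sup_left (step_down p q n D ⟨i, hlt⟩ hd) : _ ∈ big p q n) (Submodule.smul_mem _ q hs)
      rwa [sub_add_cancel] at this
    · obtain ⟨j, rfl⟩ : ∃ j : Fin n, i = j.succ := ⟨⟨(i : ℕ) - 1, by omega⟩, Fin.ext (by simp only [Fin.val_succ]; omega)⟩
      rw [Fin.val_succ] at hi
      have hs : ev p q n j.castSucc D ∈ big p q n := ih _ (Or.inr (by rw [Fin.val_castSucc]; omega))
      have hd : 0 ≤ D - n + (j : ℕ) := by unfold piv at hi; omega
      have := sub_mem (Submodule.smul_mem _ p hs) (Submodule.mem_sup_left (step_up p q n D j hd) : _ ∈ big p q n)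
      rwa [sub_sub_cancel] at this

theorem big_eq_top : big p q n = ⊤ := by
  refine eq_top_iff.2 fun F _ => ?_
  rw [← Finset.univ_sum_single F]
  refine sum_mem fun i _ => ?_
  have : LinearMap.range (LinearMap.single R (fun _ : Fin (n + 1) => PolyNodeRing R (p * q)) i) ≤ big p q n := by
    rw [LinearMap.range_le_iff_comap, eq_top_iff]
    intro a _
    show Pi.single i a ∈ big p q n
    rw [← (Node52.coordEquiv (p * q)).symm_apply_apply a]
    generalize Node52.coordEquiv (p * q) a = c
    induction c using Finsupp.induction_linear with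
    | zero => simp
    | add f g hf hg => rw [map_add, Pi.single_add]; exact add_mem hf hg
    | single d r =>
      have h1 : (Node52.coordEquiv (p * q)).symm (Finsupp.single d r) = r • Node52.mon (p * q) d := by
        rw [LinearEquiv.symm_apply_eq, map_smul, Node52.coordEquiv_mon, Finsupp.smul_single, smul_eq_mul, mul_one]
      rw [h1, Pi.single_smul]
      refine Submodule.smul_mem _ _ ?_
      obtain ⟨D, rfl⟩ : ∃ D, d = D - n + (i : ℕ) := ⟨d + n - (i : ℕ), by omega⟩
      exact ev_mem_big p q n D (((i : ℕ) : ℤ) - piv n D).natAbs i (by omega)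
  exact this ⟨F i, rfl⟩


/-- Let R be a commutative ring and p, q ∈ R; put A = R[x, y]/(xy - pq) and consider the two affine
charts U = Spec R[s, y]/(sy - q) and V = Spec R[t, x]/(xt - p) of the curve obtained from Spec A by
blowing up as in the (p, q)-construction, glued along R[s, s⁻¹] by t = s⁻¹ (so y = q s⁻¹ on U and x
= p s on V), with the projection to Spec A given by x ↦ p s, y ↦ y on U and x ↦ x, y ↦ q t on V. For
n ≥ 0 the twisting sheaf O(n) is vⁿ O on U and ξⁿ O on V with ξ = s v, so its global sections are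
the pairs (g, f) of functions on U and V with g = sⁿ f on U ∩ V. Then the map A^{n+1} → O(U) × O(V)
sending (F_0, …, F_n), i.e. the section Σ F_i ξ^{n-i} v^i, to (Σ F_i|_U s^{n-i}, Σ F_i|_V t^i) has
image exactly the set of such pairs, and F is sent to zero exactly when it lies in the A-submodule
of A^{n+1} generated by the vectors p e_i - x e_{i+1} and y e_i - q e_{i+1} for 0 ≤ i < n (e_0, …,
e_n the standard basis). So the global sections of O(n) form the degree-n piece of A[ξ, v]/(p ξ - x
v, q v - y ξ). For n = 0 this says that a ↦ (a|_U, a|_V) is injective on A with image the pairs of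
functions that agree on U ∩ V, so that the functions on the blown-up curve are exactly the functions
on Spec A (the direct image of its structure sheaf is the structure sheaf of Spec A); for n = 1 it
presents the global sections of O(1) as A ξ ⊕ A v modulo the relations p ξ = x v and y ξ = q v. Here
R[s, y]/(sy - q) and R[t, x]/(xt - p) are both written as the quotient of the polynomial ring in two
variables by (first variable)·(second variable) - constant, the homomorphisms rU, rV are the
restriction maps from A to the two charts and gU, gV the restriction maps from the charts to their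
intersection R[s, s⁻¹] (Laurent polynomials), each pinned by its values on the two generators. (The
published setting has R complete local and p, q in the maximal ideal, and reduces to this polynomial
computation, which uses neither.) -/
theorem result (R : Type u) [CommRing R] (p q : R)
    (rU : SpinCurv.PolyNodeRing R (p * q) →ₐ[R] SpinCurv.PolyNodeRing R q)
    (hrUx : rU (SpinCurv.PolyNodeRing.x R (p * q)) = algebraMap R _ p * SpinCurv.PolyNodeRing.x R q)
    (hrUy : rU (SpinCurv.PolyNodeRing.y R (p * q)) = SpinCurv.PolyNodeRing.y R q)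
    (rV : SpinCurv.PolyNodeRing R (p * q) →ₐ[R] SpinCurv.PolyNodeRing R p)
    (hrVx : rV (SpinCurv.PolyNodeRing.x R (p * q)) = SpinCurv.PolyNodeRing.y R p)
    (hrVy : rV (SpinCurv.PolyNodeRing.y R (p * q)) = algebraMap R _ q * SpinCurv.PolyNodeRing.x R p)
    (gU : SpinCurv.PolyNodeRing R q →ₐ[R] LaurentPolynomial R)
    (hgUs : gU (SpinCurv.PolyNodeRing.x R q) = LaurentPolynomial.T 1)
    (hgUy : gU (SpinCurv.PolyNodeRing.y R q) = LaurentPolynomial.C q * LaurentPolynomial.T (-1))
    (gV : SpinCurv.PolyNodeRing R p →ₐ[R] LaurentPolynomial R)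
    (hgVt : gV (SpinCurv.PolyNodeRing.x R p) = LaurentPolynomial.T (-1))
    (hgVx : gV (SpinCurv.PolyNodeRing.y R p) = LaurentPolynomial.C p * LaurentPolynomial.T 1) (n : ℕ) :
    Set.range (fun F : Fin (n + 1) → SpinCurv.PolyNodeRing R (p * q) =>
        (∑ i : Fin (n + 1), rU (F i) * SpinCurv.PolyNodeRing.x R q ^ (n - (i : ℕ)),
         ∑ i : Fin (n + 1), rV (F i) * SpinCurv.PolyNodeRing.x R p ^ (i : ℕ))) =
      {gf : SpinCurv.PolyNodeRing R q × SpinCurv.PolyNodeRing R p |
        gU gf.1 = LaurentPolynomial.T (n : ℤ) * gV gf.2} ∧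
    {F : Fin (n + 1) → SpinCurv.PolyNodeRing R (p * q) |
        (∑ i : Fin (n + 1), rU (F i) * SpinCurv.PolyNodeRing.x R q ^ (n - (i : ℕ)),
         ∑ i : Fin (n + 1), rV (F i) * SpinCurv.PolyNodeRing.x R p ^ (i : ℕ)) = 0} =
      (Submodule.span (SpinCurv.PolyNodeRing R (p * q))
        (Set.range (fun i : Fin n =>
            (Pi.single (Fin.castSucc i) (algebraMap R (SpinCurv.PolyNodeRing R (p * q)) p) -
              Pi.single (Fin.succ i) (SpinCurv.PolyNodeRing.x R (p * q)) : Fin (n + 1) → SpinCurv.PolyNodeRing R (p * q))) ∪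
         Set.range (fun i : Fin n =>
            (Pi.single (Fin.castSucc i) (SpinCurv.PolyNodeRing.y R (p * q)) -
              Pi.single (Fin.succ i) (algebraMap R (SpinCurv.PolyNodeRing R (p * q)) q) : Fin (n + 1) → SpinCurv.PolyNodeRing R (p * q)))) :
        Set (Fin (n + 1) → SpinCurv.PolyNodeRing R (p * q))) := by
  let Φ : (Fin (n + 1) → PolyNodeRing R (p * q)) →ₗ[R] PolyNodeRing R q × PolyNodeRing R p :=
    { toFun := fun F => (∑ i : Fin (n + 1), rU (F i) * PolyNodeRing.x R q ^ (n - (i : ℕ)),
         ∑ i : Fin (n + 1), rV (F i) * PolyNodeRing.x R p ^ (i : ℕ))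
      map_add' := fun F G => by simp [add_mul, Finset.sum_add_distrib]
      map_smul' := fun r F => by simp [smul_mul_assoc, Finset.smul_sum] }
  have hsingle : ∀ i a, Φ (Pi.single i a) = (rU a * PolyNodeRing.x R q ^ (n - (i : ℕ)), rV a * PolyNodeRing.x R p ^ (i : ℕ)) := by
    intro i a
    refine Prod.ext ?_ ?_ <;>
      simp [Φ, Pi.single_apply, apply_ite rU, apply_ite rV, ite_mul]
  let K : Submodule (PolyNodeRing R (p * q)) (Fin (n + 1) → PolyNodeRing R (p * q)) :=
    { carrier := {F | Φ F = 0}
      add_mem' := fun {a b} ha hb => by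
        rw [Set.mem_setOf_eq] at *
        rw [map_add, ha, hb, add_zero]
      zero_mem' := map_zero Φ
      smul_mem' := fun c F hF => by
        rw [Set.mem_setOf_eq] at *
        obtain ⟨h1, h2⟩ := Prod.ext_iff.1 hF
        refine Prod.ext ?_ ?_
        · show ∑ i, rU ((c • F) i) * _ = 0
          simp only [Pi.smul_apply, smul_eq_mul, map_mul, mul_assoc, ← Finset.mul_sum]
          exact mul_eq_zero_of_right _ h1
        · show ∑ i, rV ((c • F) i) * _ = 0
          simp only [Pi.smul_apply, smul_eq_mul, map_mul, mul_assoc, ← Finset.mul_sum]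
          exact mul_eq_zero_of_right _ h2 }
  have hrel : rel p q n ≤ K := by
    refine Submodule.span_le.2 ?_
    rintro _ (⟨i, rfl⟩ | ⟨i, rfl⟩)
    · show Φ _ = 0
      rw [map_sub, hsingle, hsingle, hrUx, hrVx, AlgHom.commutes, AlgHom.commutes, Fin.val_castSucc, Fin.val_succ,
        show n - (i : ℕ) = n - ((i : ℕ) + 1) + 1 by omega, pow_succ, pow_succ, ← Node52.xy p, Prod.mk_sub_mk, Prod.mk_eq_zero]
      constructor <;> ring
    · show Φ _ = 0
      rw [map_sub, hsingle, hsingle, hrUy, hrVy, AlgHom.commutes, AlgHom.commutes, Fin.val_castSucc, Fin.val_succ,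
        show n - (i : ℕ) = n - ((i : ℕ) + 1) + 1 by omega, pow_succ, pow_succ, ← Node52.xy q, Prod.mk_sub_mk, Prod.mk_eq_zero]
      constructor <;> ring
  have hrU : ∀ e : ℕ, rU (Node52.mon (p * q) (-(e : ℤ))) = PolyNodeRing.y R q ^ e := fun e => by
    rw [Node52.mon_neg, map_pow, hrUy]
  have hpiv : Φ ∘ₗ (Finsupp.linearCombination R fun D => ev p q n ⟨piv n D, piv_le n D⟩ D) = Node52.sec q p n := by
    refine Finsupp.lhom_ext fun D r => ?_
    rw [LinearMap.comp_apply, Node52.sec, Finsupp.linearCombination_single, Finsupp.linearCombination_single, map_smul]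
    congr 1
    rw [ev, hsingle, Node52.secv]
    simp only [piv]
    by_cases hD : 0 ≤ D
    · rw [if_pos hD]
      by_cases hDn : D ≤ n
      · obtain ⟨e, rfl⟩ := Int.eq_ofNat_of_zero_le hD
        have he : (min (max ((n : ℤ) - (e : ℕ)) 0) n).toNat = n - e := by omega
        simp only [he]
        rw [show ((e : ℤ) - n + ((n - e : ℕ) : ℤ)) = ((0 : ℕ) : ℤ) by omega, Node52.mon_natCast, pow_zero, map_one, map_one,
          show ((e : ℤ) - n).toNat = 0 by omega, show n - (n - e) = e by omega, Node52.mon_natCast,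
          show (n : ℤ) - e = ((n - e : ℕ) : ℤ) by omega, Node52.mon_natCast, pow_zero, one_smul, one_mul, one_mul]
      · obtain ⟨e, rfl⟩ : ∃ e : ℕ, D = (n : ℤ) + e := ⟨(D - n).toNat, by omega⟩
        have he : (min (max ((n : ℤ) - ((n : ℤ) + (e : ℕ))) 0) n).toNat = 0 := by omega
        simp only [he]
        rw [show ((n : ℤ) + e - n + ((0 : ℕ) : ℤ)) = (e : ℤ) by omega, Node52.mon_natCast, map_pow, map_pow, hrUx, hrVx,
          show ((n : ℤ) + e - n).toNat = e by omega, show (n : ℤ) + e = ((n + e : ℕ) : ℤ) by omega, Node52.mon_natCast,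
          show (n : ℤ) - ((n + e : ℕ) : ℤ) = -(e : ℤ) by omega, Node52.mon_neg, pow_zero, mul_one, Nat.sub_zero,
          Node52.smul_eq, map_pow, mul_pow, mul_assoc, ← pow_add, Nat.add_comm]
    · rw [if_neg hD]
      obtain ⟨e, rfl⟩ : ∃ e : ℕ, D = -(e : ℤ) := ⟨(-D).toNat, by omega⟩
      have he : (min (max ((n : ℤ) - -(e : ℤ)) 0) n).toNat = n := by omega
      simp only [he]
      rw [show (-(e : ℤ) - n + ((n : ℕ) : ℤ)) = -(e : ℤ) by omega, hrU, Node52.mon_neg, map_pow, hrVy,
        show (- -(e : ℤ)).toNat = e by omega, show (n : ℤ) - -(e : ℤ) = ((n + e : ℕ) : ℤ) by omega, Node52.mon_natCast, Node52.mon_neg,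
        Node52.smul_eq, Nat.sub_self, pow_zero, mul_one, map_pow, mul_pow, mul_assoc, ← pow_add, Nat.add_comm]
  have hdec : ∀ F, ∃ h, F - (Finsupp.linearCombination R fun D => ev p q n ⟨piv n D, piv_le n D⟩ D) h ∈ rel p q n := fun F => by
    obtain ⟨a, ha, _, ⟨h, rfl⟩, hab⟩ := Submodule.mem_sup.1 (show F ∈ big p q n from (big_eq_top p q n) ▸ Submodule.mem_top)
    exact ⟨h, by rw [← hab, add_sub_cancel_right]; exact ha⟩
  have hΦ : ∀ F h, F - (Finsupp.linearCombination R fun D => ev p q n ⟨piv n D, piv_le n D⟩ D) h ∈ rel p q n →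
      Φ F = Node52.sec q p n h := fun F h hF => by
    rw [← hpiv, LinearMap.comp_apply, ← sub_eq_zero, ← map_sub]
    exact hrel hF
  constructor
  · ext gf
    rw [Set.mem_setOf_eq, Node52.mem_range_sec_iff gU hgUs hgUy gV hgVt hgVx n (by omega) gf]
    constructor
    · rintro ⟨F, rfl⟩
      obtain ⟨h, hh⟩ := hdec F
      exact ⟨h, (hΦ F h hh).symm⟩
    · rintro ⟨h, rfl⟩
      exact ⟨_, LinearMap.congr_fun hpiv h⟩
  · ext F
    constructor
    · intro hF
      obtain ⟨h, hh⟩ := hdec F
      have h0 : h = 0 := Node52.sec_injective q p n (by rw [← hΦ F h hh, map_zero]; exact hF)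
      rw [h0, map_zero, sub_zero] at hh
      exact hh
    · exact fun hF => hrel hF

end Groth.Agent.S18437
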