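import Groth.Statements.S18449
import Groth.Agent.Surf15.Quot

set_option autoImplicit false
universe u
open CategoryTheory CategoryTheory.Limits AlgebraicGeometry TopologicalSpace
open Surf

namespace Groth.Agent.S18449

/-- Let k be an algebraically closed field of characteristic zero and X a smooth projective surface over
k (an integral scheme, proper and smooth over k, of dimension 2). Let Z be a nonzero effective
Cartier divisor on X, given by its ideal sheaf I_Z ≠ O_X, and consider the nonzero effective Cartier
divisors Z' ≤ Z, i.e. those with I_Z = I_{Z'} · J for some effective Cartier ideal J. Then H¹(Z',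
O_{Z'}) = 0 for every such Z' if and only if χ(O_{Z'}) ≥ 1, i.e. the arithmetic genus 1 − χ(O_{Z'})
is at most 0, for every such Z'; here cohomology and Euler characteristics are computed on X through
the direct image of O_{Z'}. The published statement is about the cycles supported on the exceptional
curves of a resolution of a normal surface singularity over the complex numbers, where the first
condition is rationality of the singularity; this row states the equivalence, which the printed
induction proves using only adjunction and the sub-divisors of the given cycle, for the sub-divisors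
of one effective divisor. -/
theorem result (k : Type u) [Field k] [IsAlgClosed k] [CharZero k]
    (X : Scheme.{u}) [X.Over (Spec (CommRingCat.of k))] [IsProper (X ↘ (Spec (CommRingCat.of k)))]
    [Smooth (X ↘ (Spec (CommRingCat.of k)))] [IsIntegral X] (hdim : topologicalKrullDim X = 2)
    (Z : X.IdealSheafData) (hZ : FGA.IsEffCartier Z) (hZ0 : Z ≠ ⊤) :
    (∀ Z' J : X.IdealSheafData, FGA.IsEffCartier Z' → FGA.IsEffCartier J → Z' ≠ ⊤ → Z = Z' * J →
        Subsingleton (Coh.HH X (ClSub.quotMod Z') 1)) ↔
      (∀ Z' J : X.IdealSheafData, FGA.IsEffCartier Z' → FGA.IsEffCartier J → Z' ≠ ⊤ → Z = Z' * J →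
        1 ≤ Curv2.euler k X (ClSub.quotMod Z')) := by
  have hreg : ∀ x : X, IsRegularLocalRing (X.presheaf.stalk x) :=
    NeronHD28.regular_stalk_of_smooth (X ↘ (Spec (CommRingCat.of k)))
  constructor
  · intro h Z' J hZ' hJ hne heq
    obtain ⟨he, h0⟩ := Surf15.euler_quot_effCartier (k := k) hdim hZ' hne
    have := h Z' J hZ' hJ hne heq
    rw [he, Module.finrank_zero_of_subsingleton (M := Coh.HH X (ClSub.quotMod Z') 1)]
    omega
  · intro h Z' J hZ' hJ hne heq
    obtain ⟨r, C, hinj, hC, hsupp⟩ := Surf15.exists_curves (k := k) hdim hreg hZ'
    have hcur := fun i => (hC i).1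
    obtain ⟨a, rfl⟩ := Surf15.exists_eq_prod (k := k) hdim hreg hcur hZ' hsupp
    refine Surf15.h1_trivial_of_euler_pos (k := k) hdim hreg hcur a (fun b hb hb0 => ?_)
      fun e => hne (e ▸ Surf15.prod_pow_eq_top (k := k) C)
    refine h _ ((∏ i, C i ^ (a i - b i)) * J) (Surf15.isEffCartier_prod_pow (k := k) hdim hreg hcur b)
      (Div89.isEffCartier_mul (Surf15.isEffCartier_prod_pow (k := k) hdim hreg hcur _) hJ)
      (Surf15.prod_pow_ne_top (k := k) hdim hreg hcur hinj hb0) ?_
    rw [heq, ← mul_assoc, ← Finset.prod_mul_distrib]
    refine congrArg (· * J) (Finset.prod_congr rfl fun i _ => ?_)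
    rw [← pow_add, Nat.add_sub_cancel' (hb i)]


end Groth.Agent.S18449
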