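import Groth.Statements.S18451
import Groth.Agent.Surf15.Pos
import Groth.Agent.Surf15.Form
import Groth.Agent.An92.Ample.Inverse

set_option autoImplicit false
universe u
open CategoryTheory CategoryTheory.Limits AlgebraicGeometry TopologicalSpace
open Surf

namespace Groth.Agent.S18451

/-- Let k be an algebraically closed field of characteristic zero and X a smooth projective surface over
k (integral, proper and smooth over k, of dimension 2, carrying an ample invertible module). Let
C_1, …, C_r be pairwise distinct integral curves on X (integral closed one-dimensional subschemes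
with ideal sheaves I_1, …, I_r) and write G_{ij} = (I_i·I_j) = χ(O_X) − χ(I_i) − χ(I_j) + χ(I_i ⊗
I_j) for their intersection matrix. Suppose the classes of the C_i span a negative definite
sublattice modulo numerical equivalence: for every integer vector a such that Σ_i a_i [C_i] is
numerically nontrivial, meaning that Σ_i a_i (I_i·M) ≠ 0 for some invertible O_X-module M, one has
Σ_{i,j} a_i a_j G_{ij} < 0. Then the classes are linearly independent, i.e. G itself is negative
definite: Σ_{i,j} a_i a_j G_{ij} < 0 for every nonzero integer vector a. -/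
theorem result (k : Type u) [Field k] [IsAlgClosed k] [CharZero k]
    (X : Scheme.{u}) [X.Over (Spec (CommRingCat.of k))] [IsProper (X ↘ (Spec (CommRingCat.of k)))]
    [Smooth (X ↘ (Spec (CommRingCat.of k)))] [IsIntegral X] (hdim : topologicalKrullDim X = 2)
    (hproj : ∃ H : X.Modules, CohB1.IsAmple H)
    (r : ℕ) (C : Fin r → X.IdealSheafData) (hC : Function.Injective C)
    (hCi : ∀ i, IsIntegral (C i).subscheme) (hCd : ∀ i, topologicalKrullDim ((C i).support : Set X) = 1)
    (hneg : ∀ a : Fin r → ℤ,
      (∃ M : X.Modules, PicF.IsInvertible M ∧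
        ∑ i, a i * FGA.intNum k X 2 ![(ClSub.idealMod (C i)), M] (Coh.structureModule X) ≠ 0) →
      ∑ i, ∑ j, a i * a j * FGA.intNum k X 2 ![(ClSub.idealMod (C i)), (ClSub.idealMod (C j))] (Coh.structureModule X) < 0) :
    ∀ a : Fin r → ℤ, a ≠ 0 →
      ∑ i, ∑ j, a i * a j * FGA.intNum k X 2 ![(ClSub.idealMod (C i)), (ClSub.idealMod (C j))] (Coh.structureModule X) < 0 := by
  letI := hdim
  have hreg : ∀ x : X, IsRegularLocalRing (X.presheaf.stalk x) :=
    NeronHD28.regular_stalk_of_smooth (X ↘ (Spec (CommRingCat.of k)))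
  haveI := Crv77.isNoetherian_of_proper k X
  have hcur : ∀ i, Surf15.IsCurve (C i) := fun i => ⟨hCi i, hCd i⟩
  have hinv : ∀ i, PicF.IsInvertible (ClSub.idealMod (C i)) := fun i =>
    (Curves2.isInvertible_idealMod_iff _).2 ((hcur i).isEffCartier (k := k) hdim hreg)
  have hoff : ∀ i j, i ≠ j → 0 ≤ Surf15.inter k (ClSub.idealMod (C i)) (ClSub.idealMod (C j)) :=
    fun i j h => Surf15.inter_nonneg hdim hreg (hcur i) ((hcur j).isEffCartier (k := k) hdim hreg)
      ((hcur i).not_subset (hcur j) (k := k) fun e => h (hC e))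
  obtain ⟨H, hH⟩ := hproj
  obtain ⟨M, hM, hMH⟩ := An92.InvMod.exists_inverse hH.1
  have hpos : ∀ i, 0 < Surf15.inter k (ClSub.idealMod (C i)) M := fun i =>
    Surf15.inter_pos hdim ((hcur i).isEffCartier (k := k) hdim hreg) (hcur i).ne_top hH hMH
  intro a ha
  by_cases hnt : ∃ N : X.Modules, PicF.IsInvertible N ∧
      ∑ i, a i * FGA.intNum k X 2 ![(ClSub.idealMod (C i)), N] (Coh.structureModule X) ≠ 0
  · exact hneg a hnt
  exfalso
  push Not at hnt
  have hn : ∀ t : Fin r → ℤ, (∀ i, t i ≤ 0) → t ≠ 0 →
      ∑ i, ∑ j, t i * t j * Surf15.inter k (ClSub.idealMod (C i)) (ClSub.idealMod (C j)) < 0 := by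
    intro t ht ht0
    refine hneg t ⟨M, hM, fun h => ht0 (funext fun i => ?_)⟩
    have h1 := (Finset.sum_eq_zero_iff_of_nonpos fun i _ =>
      mul_nonpos_of_nonpos_of_nonneg (ht i) (hpos i).le).1 h i (Finset.mem_univ i)
    exact (mul_eq_zero.1 h1).resolve_right (hpos i).ne'
  have h1 := Surf15.coeff_nonneg _ hoff a hn fun j _ => (hnt _ (hinv j)).le
  have h2 := Surf15.coeff_nonneg _ hoff (-a) hn fun j _ => le_of_eq (by
    simp only [Pi.neg_apply, neg_mul, Finset.sum_neg_distrib]
    exact neg_eq_zero.2 (hnt _ (hinv j)))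
  exact ha (funext fun i => le_antisymm (by simpa using h2 i) (h1 i))


end Groth.Agent.S18451
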