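import Groth.Statements.S18456
import Groth.Agent.Surf15.Quot

set_option autoImplicit false
universe u
open CategoryTheory CategoryTheory.Limits AlgebraicGeometry TopologicalSpace
open Surf

namespace Groth.Agent.S18456

/-- Let k be an algebraically closed field of characteristic zero and X a smooth projective surface over
k (integral, proper and smooth over k, of dimension 2). Let C_1, …, C_r be pairwise distinct
integral curves on X with ideal sheaves I_i, each with H¹(C_i, O_{C_i}) = 0 (so C_i ≅ P¹) and
self-intersection (I_i·I_i) = −2, and with negative definite intersection matrix: Σ_{i,j} a_i a_j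
(I_i·I_j) < 0 for every nonzero integer vector a, where (A·B) = χ(O_X) − χ(A) − χ(B) + χ(A ⊗ B).
Then H¹(Z, O_Z) = 0 for every nonzero effective Cartier divisor Z on X supported on ⋃ C_i,
cohomology computed on X through the direct image of O_Z. The published statement concludes that the
singularity obtained by contracting the configuration over the complex numbers is rational; the
vanishing for all supported nonzero effective divisors is the form of rationality the printed
argument establishes, and this row states that form. -/
theorem result (k : Type u) [Field k] [IsAlgClosed k] [CharZero k]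
    (X : Scheme.{u}) [X.Over (Spec (CommRingCat.of k))] [IsProper (X ↘ (Spec (CommRingCat.of k)))]
    [Smooth (X ↘ (Spec (CommRingCat.of k)))] [IsIntegral X] (hdim : topologicalKrullDim X = 2)
    (r : ℕ) (C : Fin r → X.IdealSheafData) (hC : Function.Injective C)
    (hCi : ∀ i, IsIntegral (C i).subscheme) (hCd : ∀ i, topologicalKrullDim ((C i).support : Set X) = 1)
    (hCrat : ∀ i, Subsingleton (Coh.HH X (ClSub.quotMod (C i)) 1))
    (hC2 : ∀ i, FGA.intNum k X 2 ![(ClSub.idealMod (C i)), (ClSub.idealMod (C i))] (Coh.structureModule X) = -2)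
    (hneg : ∀ a : Fin r → ℤ, a ≠ 0 →
      ∑ i, ∑ j, a i * a j * FGA.intNum k X 2 ![(ClSub.idealMod (C i)), (ClSub.idealMod (C j))] (Coh.structureModule X) < 0)
    (Z : X.IdealSheafData) (hZ : FGA.IsEffCartier Z) (hZ0 : Z ≠ ⊤)
    (hZs : (Z.support : Set X) ⊆ ⋃ i, ((C i).support : Set X)) :
    Subsingleton (Coh.HH X (ClSub.quotMod Z) 1) := by
  have hreg : ∀ x : X, IsRegularLocalRing (X.presheaf.stalk x) :=
    NeronHD28.regular_stalk_of_smooth (X ↘ (Spec (CommRingCat.of k)))
  have hcur : ∀ i, Surf15.IsCurve (C i) := fun i => ⟨hCi i, hCd i⟩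
  obtain ⟨a, rfl⟩ := Surf15.exists_eq_prod (k := k) hdim hreg hcur hZ hZs
  have ha : a ≠ 0 := fun h => hZ0 (h ▸ Surf15.prod_pow_eq_top (k := k) C)
  refine Surf15.h1_trivial_of_euler_pos (k := k) hdim hreg hcur a (fun b _ hb => ?_) ha
  have hf : ∀ i, Curv2.euler k X (ClSub.quotMod (C i)) = 1 := fun i => by
    have := hCrat i
    rw [(hcur i).euler_eq, Module.finrank_zero_of_subsingleton, Nat.cast_zero, sub_zero]
  have h := Surf15.two_euler_prod (k := k) hdim hreg hcur b
  have h0 : ∑ j, (b j : ℤ) * (2 * Curv2.euler k X (ClSub.quotMod (C j)) +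
      Surf15.inter k (ClSub.idealMod (C j)) (ClSub.idealMod (C j))) = 0 :=
    Finset.sum_eq_zero fun j _ => by
      rw [hf j, Surf15.inter, hC2 j]
      ring
  have hq := hneg (fun i => (b i : ℤ)) fun e => hb (funext fun i => by simpa using congrFun e i)
  rw [h0] at h
  simp only [Surf15.inter] at h
  omega


end Groth.Agent.S18456
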