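import Groth.Statements.S18458
import Groth.Agent.Surf15.NefBig
import Groth.Agent.An92.Ample.Inverse

set_option autoImplicit false
universe u
open CategoryTheory CategoryTheory.Limits AlgebraicGeometry TopologicalSpace
open Surf

namespace Groth.Agent.S18458

/-- Let k be an algebraically closed field of characteristic zero and X a smooth projective surface over
k (integral, proper and smooth over k, of dimension 2, carrying an ample invertible module). Let
C_1, …, C_r be pairwise distinct integral curves on X with ideal sheaves I_i whose intersection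
matrix is negative definite: Σ_{i,j} a_i a_j (I_i·I_j) < 0 for every nonzero integer vector a, where
(A·B) = χ(O_X) − χ(A) − χ(B) + χ(A ⊗ B). Then there is an invertible O_X-module L (the sheaf of a
divisor H) which is nef and big and is orthogonal to exactly the curves C_i: writing (L·C) = χ(O_C ⊗
L) − χ(O_C) for the degree of L on an integral curve C, one has (L·C) ≥ 0 for every integral curve
C, (L·L) > 0, and (L·C) = 0 if and only if C is one of the C_i. -/
theorem result (k : Type u) [Field k] [IsAlgClosed k] [CharZero k]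
    (X : Scheme.{u}) [X.Over (Spec (CommRingCat.of k))] [IsProper (X ↘ (Spec (CommRingCat.of k)))]
    [Smooth (X ↘ (Spec (CommRingCat.of k)))] [IsIntegral X] (hdim : topologicalKrullDim X = 2)
    (hproj : ∃ H : X.Modules, CohB1.IsAmple H)
    (r : ℕ) (C : Fin r → X.IdealSheafData) (hC : Function.Injective C)
    (hCi : ∀ i, IsIntegral (C i).subscheme) (hCd : ∀ i, topologicalKrullDim ((C i).support : Set X) = 1)
    (hneg : ∀ a : Fin r → ℤ, a ≠ 0 →
      ∑ i, ∑ j, a i * a j * FGA.intNum k X 2 ![(ClSub.idealMod (C i)), (ClSub.idealMod (C j))] (Coh.structureModule X) < 0) :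
    ∃ L : X.Modules, PicF.IsInvertible L ∧
      (∀ D : X.IdealSheafData, IsIntegral D.subscheme → topologicalKrullDim (D.support : Set X) = 1 →
        0 ≤ Curv2.euler k X (CohB1.tensorMod (ClSub.quotMod D) L) - Curv2.euler k X (ClSub.quotMod D)) ∧
      0 < FGA.intNum k X 2 ![L, L] (Coh.structureModule X) ∧
      (∀ D : X.IdealSheafData, IsIntegral D.subscheme → topologicalKrullDim (D.support : Set X) = 1 →
        (Curv2.euler k X (CohB1.tensorMod (ClSub.quotMod D) L) - Curv2.euler k X (ClSub.quotMod D) = 0 ↔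
          ∃ i, D = C i)) := by
  have hreg : ∀ x : X, IsRegularLocalRing (X.presheaf.stalk x) :=
    NeronHD28.regular_stalk_of_smooth (X ↘ (Spec (CommRingCat.of k)))
  haveI := Crv77.isNoetherian_of_proper k X
  have hcur : ∀ i, Surf15.IsCurve (C i) := fun i => ⟨hCi i, hCd i⟩
  have hG := fun i => Surf15.isInvertible_idealMod ((hcur i).isEffCartier (k := k) hdim hreg)
  obtain ⟨H, hH⟩ := hproj
  obtain ⟨M, hM, hMH⟩ := An92.InvMod.exists_inverse hH.1
  have hpos : ∀ {D : X.IdealSheafData}, Surf15.IsCurve D → 0 < Surf15.inter k (ClSub.idealMod D) M :=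
    fun hD => Surf15.inter_pos hdim (hD.isEffCartier (k := k) hdim hreg) hD.ne_top hH hMH
  obtain ⟨N, s, hN, hs⟩ := Surf15.exists_solution
    (fun i j => Surf15.inter k (ClSub.idealMod (C i)) (ClSub.idealMod (C j)))
    (fun i j => Surf15.inter_comm hdim (hG i) (hG j))
    (fun i j hij => Surf15.inter_nonneg hdim hreg (hcur i) ((hcur j).isEffCartier (k := k) hdim hreg)
      ((hcur i).not_subset (k := k) (hcur j) fun e => hij (hC e)))
    hneg (fun i => Surf15.inter k (ClSub.idealMod (C i)) M) (fun i => hpos (hcur i))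
  have hZ := Surf15.isInvertible_idealMod (Surf15.isEffCartier_prod_pow (k := k) hdim hreg hcur s)
  let A := CohB1.tensorMod (CohB1.tensorPow M N) (ClSub.idealMod (∏ i, C i ^ s i))
  have hA : PicF.IsInvertible A :=
    EGA73.isInvertible_tensorMod (EGA73.isInvertible_tensorPow hM N) hZ
  obtain ⟨L, hL, hLA⟩ := An92.InvMod.exists_inverse hA
  have key : ∀ {B : X.Modules}, PicF.IsInvertible B → Surf15.inter k A B =
      (N : ℤ) * Surf15.inter k M B + ∑ i, (s i : ℤ) * Surf15.inter k (ClSub.idealMod (C i)) B := fun hB => by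
    rw [Surf15.inter_add_left hdim (EGA73.isInvertible_tensorPow hM N) hZ hB,
      Surf15.inter_tensorPow_left hdim hM hB, Surf15.inter_prod hdim hreg hcur s hB]
  have hAC : ∀ j, Surf15.inter k A (ClSub.idealMod (C j)) = 0 := fun j => by
    rw [key (hG j), hs j, Surf15.inter_comm hdim hM (hG j)]
    ring
  have hdeg : ∀ {D : X.IdealSheafData}, Surf15.IsCurve D →
      Curv2.euler k X (CohB1.tensorMod (ClSub.quotMod D) L) - Curv2.euler k X (ClSub.quotMod D) =
        Surf15.inter k A (ClSub.idealMod D) := fun hD => by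
    have hDc := hD.isEffCartier (k := k) hdim hreg
    have h1 := Surf15.inter_idealMod_eq (k := k) hdim hDc hL
    rw [Surf15.inter_comm hdim (Surf15.isInvertible_idealMod hDc) hL,
      Surf15.inter_inverse_left hdim hL hA (Surf15.isInvertible_idealMod hDc) hLA] at h1
    linarith
  have hposD : ∀ {D : X.IdealSheafData}, Surf15.IsCurve D → (¬ ∃ i, D = C i) →
      0 < Surf15.inter k A (ClSub.idealMod D) := fun hD hne => by
    have hDi := Surf15.isInvertible_idealMod (hD.isEffCartier (k := k) hdim hreg)
    rw [key hDi, Surf15.inter_comm hdim hM hDi]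
    refine add_pos_of_pos_of_nonneg (mul_pos (by exact_mod_cast hN) (hpos hD))
      (Finset.sum_nonneg fun i _ => mul_nonneg (Nat.cast_nonneg _) ?_)
    exact Surf15.inter_nonneg hdim hreg (hcur i) (hD.isEffCartier (k := k) hdim hreg)
      ((hcur i).not_subset (k := k) hD fun e => hne ⟨i, e.symm⟩)
  refine ⟨L, hL, fun D h1 h2 => ?_, ?_, fun D h1 h2 => ?_⟩
  · rw [hdeg ⟨h1, h2⟩]
    by_cases hD : ∃ i, D = C i
    · obtain ⟨i, rfl⟩ := hD
      exact (hAC i).ge
    · exact (hposD ⟨h1, h2⟩ hD).le
  · show 0 < Surf15.inter k L L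
    have hAA : Surf15.inter k A A = (N : ℤ) * Surf15.inter k M A +
        ∑ i, (s i : ℤ) * Surf15.inter k (ClSub.idealMod (C i)) A := key hA
    rw [Surf15.inter_inverse_left hdim hL hA hL hLA, Surf15.inter_comm hdim hA hL,
      Surf15.inter_inverse_left hdim hL hA hA hLA, neg_neg, hAA,
      Finset.sum_eq_zero (fun i _ => by rw [Surf15.inter_comm hdim (hG i) hA, hAC i, mul_zero]), add_zero,
      Surf15.inter_comm hdim hM hA, key hM]
    refine mul_pos (by exact_mod_cast hN) (add_pos_of_pos_of_nonneg
      (mul_pos (by exact_mod_cast hN) (Surf15.inter_self_pos hdim hH hMH))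
      (Finset.sum_nonneg fun i _ => mul_nonneg (Nat.cast_nonneg _) (hpos (hcur i)).le))
  · rw [hdeg ⟨h1, h2⟩]
    refine ⟨fun h0 => by_contra fun hD => (hposD ⟨h1, h2⟩ hD).ne' h0, ?_⟩
    rintro ⟨i, rfl⟩
    exact hAC i


end Groth.Agent.S18458
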