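import Groth.Statements.S18461
import Groth.Agent.Surf15.Fundamental

set_option autoImplicit false
universe u
open CategoryTheory CategoryTheory.Limits AlgebraicGeometry TopologicalSpace
open Surf

namespace Groth.Agent.S18461

/-- Let k be an algebraically closed field of characteristic zero and X a smooth projective surface over
k (integral, proper and smooth over k, of dimension 2). Let C_1, …, C_r (r ≥ 1) be pairwise distinct
integral curves on X, with ideal sheaves I_i, forming a connected configuration with negative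
definite intersection matrix (no partition of the indices into two nonempty sets with (I_i·I_j) = 0
across; Σ a_i a_j (I_i·I_j) < 0 for every nonzero integer vector a; (A·B) = χ(O_X) − χ(A) − χ(B) +
χ(A ⊗ B)), and let Z₀ be a fundamental cycle: a nonzero effective Cartier divisor supported on ⋃ C_i
with deg(I_{Z₀}|_{C_i}) = χ(O_{C_i} ⊗ I_{Z₀}) − χ(O_{C_i}) ≥ 0 for all i, every other such divisor Z
satisfying Z ≥ Z₀ (I_Z ⊆ I_{Z₀}). Suppose the configuration is rational in the sense that H¹(Z, O_Z)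
= 0 for every nonzero effective Cartier divisor Z supported on ⋃ C_i. Then for every natural number
N, writing O_{Z₀}(−NZ₀) = O_{Z₀} ⊗ I_{Z₀}^{⊗N}: H¹(Z₀, O_{Z₀}(−NZ₀)) = 0 and dim_k H⁰(Z₀,
O_{Z₀}(−NZ₀)) = −N·(I_{Z₀}·I_{Z₀}) + 1, that is −N·Z₀² + 1; cohomology is computed on X through the
direct image of O_{Z₀}. The published statement assumes the singularity obtained by contracting the
configuration over the complex numbers rational, which is equivalent to the vanishing assumed here,
and also asserts R¹π_*O_X(−NZ₀) = 0 for the contraction π and two facts on the maximal ideal of that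
singularity; those are not restated. -/
theorem result (k : Type u) [Field k] [IsAlgClosed k] [CharZero k]
    (X : Scheme.{u}) [X.Over (Spec (CommRingCat.of k))] [IsProper (X ↘ (Spec (CommRingCat.of k)))]
    [Smooth (X ↘ (Spec (CommRingCat.of k)))] [IsIntegral X] (hdim : topologicalKrullDim X = 2)
    (r : ℕ) (hr : 0 < r) (C : Fin r → X.IdealSheafData) (hC : Function.Injective C)
    (hCi : ∀ i, IsIntegral (C i).subscheme) (hCd : ∀ i, topologicalKrullDim ((C i).support : Set X) = 1)
    (hconn : ∀ S : Finset (Fin r), S.Nonempty → Sᶜ.Nonempty →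
      ∃ i ∈ S, ∃ j ∈ Sᶜ, FGA.intNum k X 2 ![(ClSub.idealMod (C i)), (ClSub.idealMod (C j))] (Coh.structureModule X) ≠ 0)
    (hneg : ∀ a : Fin r → ℤ, a ≠ 0 →
      ∑ i, ∑ j, a i * a j * FGA.intNum k X 2 ![(ClSub.idealMod (C i)), (ClSub.idealMod (C j))] (Coh.structureModule X) < 0)
    (Z₀ : X.IdealSheafData) (hZ₀ : FGA.IsEffCartier Z₀) (hZ₀0 : Z₀ ≠ ⊤)
    (hZ₀s : (Z₀.support : Set X) ⊆ ⋃ i, ((C i).support : Set X))
    (hZ₀C : ∀ i, 0 ≤ Curv2.euler k X (CohB1.tensorMod (ClSub.quotMod (C i)) (ClSub.idealMod Z₀)) -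
      Curv2.euler k X (ClSub.quotMod (C i)))
    (hZ₀min : ∀ Z : X.IdealSheafData, FGA.IsEffCartier Z → Z ≠ ⊤ → (Z.support : Set X) ⊆ ⋃ i, ((C i).support : Set X) →
      (∀ i, 0 ≤ Curv2.euler k X (CohB1.tensorMod (ClSub.quotMod (C i)) (ClSub.idealMod Z)) -
        Curv2.euler k X (ClSub.quotMod (C i))) → Z ≤ Z₀)
    (hrat : ∀ Z : X.IdealSheafData, FGA.IsEffCartier Z → Z ≠ ⊤ → (Z.support : Set X) ⊆ ⋃ i, ((C i).support : Set X) →
      Subsingleton (Coh.HH X (ClSub.quotMod Z) 1))
    (N : ℕ) :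
    Subsingleton (Coh.HH X (CohB1.tensorMod (ClSub.quotMod Z₀) (CohB1.tensorPow (ClSub.idealMod Z₀) N)) 1) ∧
      (Module.finrank k (Coh.HH X (CohB1.tensorMod (ClSub.quotMod Z₀) (CohB1.tensorPow (ClSub.idealMod Z₀) N)) 0) : ℤ) =
        -(N : ℤ) * FGA.intNum k X 2 ![(ClSub.idealMod Z₀), (ClSub.idealMod Z₀)] (Coh.structureModule X) + 1 := by
  have hreg : ∀ x : X, IsRegularLocalRing (X.presheaf.stalk x) :=
    NeronHD28.regular_stalk_of_smooth (X ↘ (Spec (CommRingCat.of k)))
  haveI := Crv77.isNoetherian_of_proper k X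
  have hcur : ∀ i, Surf15.IsCurve (C i) := fun i => ⟨hCi i, hCd i⟩
  obtain ⟨z, rfl, hz1, hz, hstep⟩ :=
    Surf15.exists_fundamental (k := k) hdim hreg hcur hC hconn hZ₀ hZ₀0 hZ₀s hZ₀C hZ₀min
  obtain ⟨he, h0⟩ := Surf15.euler_quot_effCartier (k := k) hdim hZ₀ hZ₀0
  have hle := Surf15.euler_chain_le hdim hreg hcur z hstep ⟨0, hr⟩ (hz1 _)
  have hone : Subsingleton (Coh.HH X (ClSub.quotMod (∏ j, C j ^ z j)) 1) →
      Curv2.euler k X (ClSub.quotMod (∏ j, C j ^ z j)) = 1 := fun h => by
    refine le_antisymm hle ?_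
    rw [he, Module.finrank_zero_of_subsingleton (M := Coh.HH X (ClSub.quotMod (∏ j, C j ^ z j)) 1)]
    omega
  have hg := hone (hrat _ hZ₀ hZ₀0 hZ₀s)
  have hI := Surf15.isInvertible_idealMod hZ₀
  have hL := EGA73.isInvertible_tensorPow hI N
  have hdegpow : ∀ (m : ℕ), Surf15.inter k (ClSub.idealMod (∏ j, C j ^ z j))
      (CohB1.tensorPow (ClSub.idealMod (∏ j, C j ^ z j)) m) = (m : ℤ) *
      Surf15.inter k (ClSub.idealMod (∏ j, C j ^ z j)) (ClSub.idealMod (∏ j, C j ^ z j)) := by
    intro m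
    induction m with
    | zero =>
      show Surf15.inter k _ (Coh.structureModule X) = _
      rw [Surf15.inter_comm hdim hI EGA73.isInvertible_structureModule,
        Surf15.inter_unit_left hdim hI, Nat.cast_zero, zero_mul]
    | succ m ih =>
      rw [CohB1.tensorPow, Surf15.inter_add_right hdim (EGA73.isInvertible_tensorPow hI m) hI hI, ih]
      push_cast
      ring
  have hdegi : ∀ i, 0 ≤ Surf15.deg k (C i) (CohB1.tensorPow (ClSub.idealMod (∏ j, C j ^ z j)) N) := by
    intro i
    induction N with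
    | zero =>
      rw [Surf15.deg_eq_neg_inter hdim hreg (hcur i) (EGA73.isInvertible_tensorPow hI 0)]
      show 0 ≤ -Surf15.inter k _ (Coh.structureModule X)
      rw [Surf15.inter_comm hdim (Surf15.isInvertible_idealMod ((hcur i).isEffCartier (k := k) hdim hreg))
        EGA73.isInvertible_structureModule, Surf15.inter_unit_left hdim
        (Surf15.isInvertible_idealMod ((hcur i).isEffCartier (k := k) hdim hreg)), neg_zero]
    | succ m ih =>
      rw [CohB1.tensorPow, Surf15.deg_tensor hdim hreg (hcur i) (EGA73.isInvertible_tensorPow hI m) hI]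
      exact add_nonneg (ih (EGA73.isInvertible_tensorPow hI m)) (hZ₀C i)
  have hv := Surf15.h1_chain hdim hreg hcur z hstep ⟨0, hr⟩ (hz1 _) hL (fun i _ => hdegi i) hg.ge
  refine ⟨hv, ?_⟩
  have h1 := Surf15.inter_idealMod_eq (k := k) hdim hZ₀ hL
  rw [hdegpow N, hg] at h1
  rw [← Surf15.euler_twist_quot_eq (k := k) hdim hZ₀ hZ₀0 hL hv]
  linarith


end Groth.Agent.S18461
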