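import Groth.Statements.S18463
import Groth.Agent.Surf15.Pos
import Groth.Agent.Surf15.Form
import Groth.Agent.An92.Ample.Inverse

set_option autoImplicit false
universe u
open CategoryTheory CategoryTheory.Limits AlgebraicGeometry TopologicalSpace
open Surf

namespace Groth.Agent.S18463

/-- Let k be an algebraically closed field of characteristic zero and X a smooth projective surface over
k (integral, proper and smooth over k, of dimension 2, carrying an ample invertible module). Let
C_1, …, C_r be pairwise distinct integral curves on X with ideal sheaves I_i and negative definite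
intersection matrix (Σ_{i,j} a_i a_j (I_i·I_j) < 0 for every nonzero integer vector a, where (A·B) =
χ(O_X) − χ(A) − χ(B) + χ(A ⊗ B)), let F be an effective Cartier divisor on X, with ideal I_F, none
of whose components is a C_i, and let s_1, …, s_r be integers such that F is numerically equivalent
to Σ_i s_i C_i: (I_F·M) = Σ_i s_i (I_i·M) for every invertible O_X-module M (equivalently (F·D) = Σ
s_i (C_i·D) for every divisor D). Then F = 0, i.e. I_F = O_X, and every s_i is 0. The published
statement writes the hypothesis as [F] + Σ s_i[C_i] = 0 with real s_i; this row writes F ≡ Σ s_i C_i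
with integer s_i, which is the same after changing the signs of the s_i. -/
theorem result (k : Type u) [Field k] [IsAlgClosed k] [CharZero k]
    (X : Scheme.{u}) [X.Over (Spec (CommRingCat.of k))] [IsProper (X ↘ (Spec (CommRingCat.of k)))]
    [Smooth (X ↘ (Spec (CommRingCat.of k)))] [IsIntegral X] (hdim : topologicalKrullDim X = 2)
    (hproj : ∃ H : X.Modules, CohB1.IsAmple H)
    (r : ℕ) (C : Fin r → X.IdealSheafData) (hC : Function.Injective C)
    (hCi : ∀ i, IsIntegral (C i).subscheme) (hCd : ∀ i, topologicalKrullDim ((C i).support : Set X) = 1)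
    (hneg : ∀ a : Fin r → ℤ, a ≠ 0 →
      ∑ i, ∑ j, a i * a j * FGA.intNum k X 2 ![(ClSub.idealMod (C i)), (ClSub.idealMod (C j))] (Coh.structureModule X) < 0)
    (F : X.IdealSheafData) (hF : FGA.IsEffCartier F) (hFC : ∀ i, ¬ ((C i).support : Set X) ⊆ (F.support : Set X))
    (s : Fin r → ℤ)
    (hnum : ∀ M : X.Modules, PicF.IsInvertible M →
      FGA.intNum k X 2 ![(ClSub.idealMod F), M] (Coh.structureModule X) =
        ∑ i, s i * FGA.intNum k X 2 ![(ClSub.idealMod (C i)), M] (Coh.structureModule X)) :
    F = ⊤ ∧ ∀ i, s i = 0 := by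
  letI := hdim
  have hreg : ∀ x : X, IsRegularLocalRing (X.presheaf.stalk x) :=
    NeronHD28.regular_stalk_of_smooth (X ↘ (Spec (CommRingCat.of k)))
  haveI := Crv77.isNoetherian_of_proper k X
  have hcur : ∀ i, Surf15.IsCurve (C i) := fun i => ⟨hCi i, hCd i⟩
  have hinv : ∀ i, PicF.IsInvertible (ClSub.idealMod (C i)) := fun i =>
    (Curves2.isInvertible_idealMod_iff _).2 ((hcur i).isEffCartier (k := k) hdim hreg)
  have hoff : ∀ i j, i ≠ j → 0 ≤ Surf15.inter k (ClSub.idealMod (C i)) (ClSub.idealMod (C j)) :=
    fun i j h => Surf15.inter_nonneg hdim hreg (hcur i) ((hcur j).isEffCartier (k := k) hdim hreg)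
      ((hcur i).not_subset (hcur j) (k := k) fun e => h (hC e))
  obtain ⟨H, hH⟩ := hproj
  obtain ⟨M, hM, hMH⟩ := An92.InvMod.exists_inverse hH.1
  have hpos : ∀ i, 0 < Surf15.inter k (ClSub.idealMod (C i)) M := fun i =>
    Surf15.inter_pos hdim ((hcur i).isEffCartier (k := k) hdim hreg) (hcur i).ne_top hH hMH
  have hFv := (Curves2.isInvertible_idealMod_iff F).2 hF
  have hle : ∀ i, s i ≤ 0 := fun i => by
    have h := Surf15.coeff_nonneg _ hoff (-s) (fun t _ ht => hneg t ht) (fun j _ => ?_) i
    · simpa using h
    · have h1 := Surf15.inter_nonneg (k := k) hdim hreg (hcur j) hF (hFC j)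
      rw [Surf15.inter_comm hdim (hinv j) hFv] at h1
      have h2 := hnum _ (hinv j)
      simp only [Pi.neg_apply, neg_mul, Finset.sum_neg_distrib]
      exact neg_nonpos.2 (h1.trans h2.le)
  have hsum : ∑ i, s i * Surf15.inter k (ClSub.idealMod (C i)) M ≤ 0 :=
    Finset.sum_nonpos fun i _ => mul_nonpos_of_nonpos_of_nonneg (hle i) (hpos i).le
  have hFtop : F = ⊤ := by
    by_contra hne
    have h1 := Surf15.inter_pos (k := k) hdim hF hne hH hMH
    exact absurd (h1.trans_le ((hnum M hM).le.trans hsum)) (lt_irrefl 0)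
  refine ⟨hFtop, fun i => ?_⟩
  have h0 : Surf15.inter k (ClSub.idealMod F) M = 0 := by
    rw [Surf15.inter_congr hdim hFv EGA73.isInvertible_structureModule hM hM ?_ rfl,
      Surf15.inter_unit_left hdim hM]
    subst hFtop
    exact ModPic.cl_idealMod_top
  have h1 := (Finset.sum_eq_zero_iff_of_nonpos fun i _ =>
    mul_nonpos_of_nonpos_of_nonneg (hle i) (hpos i).le).1 ((hnum M hM).symm.trans h0) i (Finset.mem_univ i)
  exact (mul_eq_zero.1 h1).resolve_right (hpos i).ne'


end Groth.Agent.S18463
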