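import Groth.Statements.S18464
import Mathlib

set_option autoImplicit false
universe u
open CategoryTheory CategoryTheory.Limits AlgebraicGeometry
open LefPen

set_option maxHeartbeats 400000

namespace Groth.Agent.S18464

/-- Let k be an infinite field, r a natural number, d ≥ 1 an integer, and m ≥ C(r+d, d), the number of
monomials of degree d in r+1 variables. In the space of m-tuples of vectors of k^(r+1) (homogeneous
coordinate vectors of m points of projective r-space; a zero vector is allowed and imposes no
condition), the tuples such that the only form of degree d vanishing at all of them is the zero form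
make up a Zariski-open subset which contains the non-vanishing locus of a not identically zero
polynomial function, so a dense open subset. (The published statement is the openness and density of
the corresponding locus in the m-fold product of projective r-space over the ground field; here the
ground field is any infinite field and the statement is made on coordinate vectors.) -/
theorem result (k : Type u) [Field k] [Infinite k]
    (r d m : ℕ) (hd : 1 ≤ d) (hm : Nat.choose (r + d) d ≤ m) :
    LefPen.IsZOpen k {x : Fin m → (Fin (r + 1) → k) |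
      ∀ G : LefPen.Form r k d, (∀ i : Fin m, MvPolynomial.aeval (x i) G.1 = 0) → G = 0} ∧
    LefPen.IsGeneric k {x : Fin m → (Fin (r + 1) → k) |
      ∀ G : LefPen.Form r k d, (∀ i : Fin m, MvPolynomial.aeval (x i) G.1 = 0) → G = 0} := by
  classical
  obtain ⟨ι, hι, hιd, b, hcard⟩ : ∃ (ι : Type) (_ : Fintype ι) (_ : DecidableEq ι)
      (b : Module.Basis ι k (LefPen.Form r k d)), Fintype.card ι ≤ m := by
    let A : Set (Fin (r + 1) →₀ ℕ) := {e | e.degree = d}
    let eA : A ≃ Sym (Fin (r + 1)) d :=
      (Equiv.subtypeEquivRight fun e => by simp [A, Finsupp.degree_eq_sum, Finsupp.sum_fintype]).trans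
        (Sym.equivNatSum (Fin (r + 1)) d).symm
    have : Fintype A := Fintype.ofEquiv _ eA.symm
    refine ⟨A, inferInstance, inferInstance, (MvPolynomial.basisRestrictSupport k A).map (LinearEquiv.ofEq _ _ ?_), ?_⟩
    · exact (MvPolynomial.homogeneousSubmodule_eq_finsupp_supported (Fin (r + 1)) k d).symm
    · rw [Fintype.card_congr eA, Sym.card_sym_eq_choose (α := Fin (r + 1)), Fintype.card_fin]
      have : r + 1 + d - 1 = r + d := by omega
      rwa [this]
  let ev : (Fin (r + 1) → k) → Module.Dual k (LefPen.Form r k d) := fun z =>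
    (MvPolynomial.aeval z).toLinearMap ∘ₗ (CohB1.polyGrading r k d).subtype
  have hev : ∀ z (G : LefPen.Form r k d), ev z G = MvPolynomial.aeval z G.1 := fun _ _ => rfl
  -- a separating family of evaluations contains a basis
  have hsep : ∀ {J : Type u} (ψ : J → Module.Dual k (LefPen.Form r k d)), (∀ G, (∀ j, ψ j G = 0) → G = 0) →
      ∃ σ : ι → J, (Matrix.of fun i j => ψ (σ i) (b j)).det ≠ 0 := by
    intro J ψ hψ
    have : FiniteDimensional k (LefPen.Form r k d) := Module.Finite.of_basis b
    have htop : ⊤ ≤ Submodule.span k (Set.range ψ) := fun φ _ => by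
      refine FiniteDimensional.mem_span_of_iInf_ker_le_ker fun G hG => ?_
      have : G = 0 := hψ G fun j => (Submodule.mem_iInf _).mp hG j
      simp [this]
    obtain ⟨κ, a, _, hspan, hli⟩ := exists_linearIndependent' k ψ
    let bb : Module.Basis κ k (Module.Dual k (LefPen.Form r k d)) := Module.Basis.mk hli (hspan ▸ htop)
    let bι := bb.reindex (bb.indexEquiv b.dualBasis)
    refine ⟨fun i => a ((bb.indexEquiv b.dualBasis).symm i), ?_⟩
    have he : (Matrix.of fun i j => ψ (a ((bb.indexEquiv b.dualBasis).symm i)) (b j)) = (b.dualBasis.toMatrix bι).transpose := by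
      ext i j
      simp [bι, bb, Module.Basis.toMatrix_apply]
    rw [he, Matrix.det_transpose, ← Module.Basis.det_apply]
    exact ((Module.Basis.is_basis_iff_det b.dualBasis).mp ⟨bι.linearIndependent, bι.span_eq⟩).ne_zero
  -- the criterion
  have hcrit : ∀ (σ : ι → Fin m) (x : Fin m → (Fin (r + 1) → k)),
      (Matrix.of fun i j => ev (x (σ i)) (b j)).det ≠ 0 → ∀ G : LefPen.Form r k d,
        (∀ i : Fin m, MvPolynomial.aeval (x i) G.1 = 0) → G = 0 := by
    intro σ x hdet G hG
    have h0 : (Matrix.of fun i j => ev (x (σ i)) (b j)).mulVec (b.repr G) = 0 := by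
      ext i
      have h : ev (x (σ i)) (∑ j, b.repr G j • b j) = 0 := (b.sum_repr G).symm ▸ hG (σ i)
      simpa [-Module.Basis.sum_repr, Matrix.mulVec, dotProduct, map_sum, mul_comm] using h
    have := Matrix.eq_zero_of_mulVec_eq_zero hdet h0
    exact b.repr.injective (Finsupp.ext fun i => by simpa using congrFun this i)
  -- the polynomial functions
  have hpoly : ∀ σ : ι → Fin m, LefPen.IsPolyFun k
      (fun x : Fin m → (Fin (r + 1) → k) => (Matrix.of fun i j => ev (x (σ i)) (b j)).det) := by
    intro σ
    set S := Algebra.adjoin k (Set.range (fun l : Module.Dual k (Fin m → (Fin (r + 1) → k)) =>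
      (l : (Fin m → (Fin (r + 1) → k)) → k))) with hS
    let c : ∀ _ : ι, Fin (r + 1) → S := fun i j => ⟨fun x => x (σ i) j,
      Algebra.subset_adjoin ⟨(LinearMap.proj j : (Fin (r + 1) → k) →ₗ[k] k).comp (LinearMap.proj (σ i) : (Fin m → (Fin (r + 1) → k)) →ₗ[k] (Fin (r + 1) → k)), rfl⟩⟩
    let M : Matrix ι ι S := Matrix.of fun i j => MvPolynomial.aeval (c i) (b j).1
    have : (fun x : Fin m → (Fin (r + 1) → k) => (Matrix.of fun i j => ev (x (σ i)) (b j)).det) = (M.det : S).1 := by
      funext x
      let e : S →ₐ[k] k := (Pi.evalAlgHom k (fun _ => k) x).comp S.val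
      show _ = e M.det
      rw [AlgHom.map_det]
      congr 1
      ext i j
      show ev _ _ = e (MvPolynomial.aeval (c i) (b j).1)
      rw [← AlgHom.comp_apply, MvPolynomial.comp_aeval]
      rfl
    show _ ∈ S
    rw [this]
    exact M.det.2
  have hopen : LefPen.IsZOpen k {x : Fin m → (Fin (r + 1) → k) |
      ∀ G : LefPen.Form r k d, (∀ i : Fin m, MvPolynomial.aeval (x i) G.1 = 0) → G = 0} := by
    intro x hx
    obtain ⟨σ, hσ⟩ := hsep (J := ULift.{u} (Fin m)) (fun i => ev (x i.down)) fun G hG => hx G fun i => hG ⟨i⟩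
    exact ⟨_, hpoly fun i => (σ i).down, hσ, fun y hy => hcrit _ y hy⟩
  refine ⟨hopen, ?_⟩
  obtain ⟨σ, hσ⟩ := hsep ev fun G hG => Subtype.ext (MvPolynomial.funext fun z => by
    simpa [hev, MvPolynomial.aeval_eq_eval] using hG z)
  obtain ⟨e⟩ : Nonempty (ι ↪ Fin m) := Function.Embedding.nonempty_of_card_le (by simpa using hcard)
  let x : Fin m → (Fin (r + 1) → k) := Function.extend e σ 0
  have hx : x ∈ {x : Fin m → (Fin (r + 1) → k) |
      ∀ G : LefPen.Form r k d, (∀ i : Fin m, MvPolynomial.aeval (x i) G.1 = 0) → G = 0} := by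
    refine hcrit e x ?_
    simpa [x, e.injective.extend_apply] using hσ
  obtain ⟨f, hf, hfx, hfS⟩ := hopen x hx
  exact ⟨f, hf, ⟨x, hfx⟩, hfS⟩

end Groth.Agent.S18464
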