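import Groth.Statements.S18465
import Mathlib.Tactic

set_option autoImplicit false
universe u v w x
open WildLef

namespace Groth.Agent.S18465

/-- Let f : G₁ → G₂ be a homomorphism of groups, ρ : G₂ → Γ a homomorphism with finite image G, and A a
nontrivial commutative ring. Let G₂ act on the group algebra A[G] through ρ followed by the left
regular representation, and G₁ through f. If the elements of A[G] fixed by G₁ coincide with those
fixed by G₂, then ρ ∘ f and ρ have the same image. (The published statement has Γ a general linear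
group GL_r(A); over the zero ring that group is trivial, so requiring A nontrivial and allowing any
target group loses nothing.) -/
theorem result
    {G₁ : Type u} {G₂ : Type v} {Γ : Type w} [Group G₁] [Group G₂] [Group Γ]
    (f : G₁ →* G₂) (ρ : G₂ →* Γ) [Finite ρ.range] (A : Type x) [CommRing A] [Nontrivial A]
    (h : {x : MonoidAlgebra A ρ.range | ∀ g : G₁, MonoidAlgebra.of A ρ.range (ρ.rangeRestrict (f g)) * x = x} =
      {x : MonoidAlgebra A ρ.range | ∀ g : G₂, MonoidAlgebra.of A ρ.range (ρ.rangeRestrict g) * x = x}) :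
    (ρ.comp f).range = ρ.range := by
  classical
  haveI := Fintype.ofFinite ρ.range
  set H1 : Subgroup ρ.range := (ρ.rangeRestrict.comp f).range with hH1
  set N1 : MonoidAlgebra A ρ.range := ∑ h ∈ Finset.univ.filter (· ∈ H1), MonoidAlgebra.single h 1 with hN1
  have hfix : N1 ∈ {x : MonoidAlgebra A ρ.range | ∀ g : G₁, MonoidAlgebra.of A ρ.range (ρ.rangeRestrict (f g)) * x = x} := by
    intro g
    rw [hN1, Finset.mul_sum]
    have hg : ρ.rangeRestrict (f g) ∈ H1 := ⟨g, rfl⟩
    refine Finset.sum_equiv (Equiv.mulLeft (ρ.rangeRestrict (f g))) (fun h => ?_) (fun h _ => ?_)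
    · simp [H1.mul_mem_cancel_left hg]
    · simp [MonoidAlgebra.of_apply, MonoidAlgebra.single_mul_single]
  rw [h] at hfix
  have hall : ∀ x : ρ.range, x ∈ H1 := by
    intro x
    obtain ⟨g, rfl⟩ := ρ.rangeRestrict_surjective x
    by_contra hx
    have h1 := congrArg (fun z : MonoidAlgebra A ρ.range => z.coeff (ρ.rangeRestrict g)) (hfix g)
    simp [hN1, Finset.mul_sum, MonoidAlgebra.of_apply, MonoidAlgebra.single_mul_single, Finsupp.single_apply,
      hx, Finset.sum_ite_eq'] at h1
  refine le_antisymm (fun y ⟨g, hg⟩ => ⟨f g, hg⟩) fun y hy => ?_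
  obtain ⟨g, hg⟩ := hall ⟨y, hy⟩
  exact ⟨g, congrArg Subtype.val hg⟩

end Groth.Agent.S18465
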