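import Groth.Statements.S18466
import Mathlib.RingTheory.Bialgebra.MonoidAlgebra
import Mathlib.RingTheory.Bialgebra.GroupLike
import Mathlib.RingTheory.RootsOfUnity.PrimitiveRoots
import Mathlib.LinearAlgebra.FiniteDimensional.Lemmas

set_option autoImplicit false
universe u
open Hopf

namespace Groth.Agent.S18466

open TensorProduct
private theorem pair_comul (k : Type u) [Field k] (G : Type) [Group G] [Fintype G] [DecidableEq G] (f : ConstGrp.F k G)
    (a b : G) : LinearMap.mul' k k (TensorProduct.map (ConstGrp.ev k a).toLinearMap (ConstGrp.ev k b).toLinearMap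
      (Coalgebra.comul (R := k) f)) = f (a * b) := by
  rw [ConstGrp.comul_eq_sum]
  simp [map_sum, ConstGrp.e_apply, mul_comm]

private theorem isGroupLike_of_hom (k : Type u) [Field k] (G : Type) [Group G] [Fintype G] [DecidableEq G]
    (f : ConstGrp.F k G) (h1 : f 1 = 1) (hm : ∀ a b, f (a * b) = f a * f b) : IsGroupLikeElem k f := by
  refine ⟨by simpa using h1, ?_⟩
  rw [ConstGrp.comul_eq_sum]
  conv_rhs => rw [ConstGrp.eq_sum_smul_e f, TensorProduct.sum_tmul]
  refine Finset.sum_congr rfl fun a _ => ?_
  rw [TensorProduct.tmul_sum]
  refine Finset.sum_congr rfl fun b _ => ?_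
  rw [TensorProduct.smul_tmul_smul, hm]
/-- Let k be a field and n ≥ 1. The constant group scheme ℤ/n over k is self-dual, that is, isomorphic
to its Cartier dual μ_n — equivalently the Hopf algebra of k-valued functions on the cyclic group of
order n and the group algebra of that group over k (group elements group-like) are isomorphic as
bialgebras — precisely when the field k has a primitive n-th root of unity, i.e. k contains n
distinct n-th roots of unity in k. (The published statement assumes that the characteristic of k
does not divide n; both directions hold without that assumption by the same argument, since a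
primitive n-th root of unity forces n to be nonzero in k, so it is omitted here.) -/
theorem result
    (k : Type u) [Field k] (n : ℕ) [NeZero n] :
    Nonempty (ConstGrp.F k (Multiplicative (ZMod n)) ≃ₐc[k] MonoidAlgebra k (Multiplicative (ZMod n))) ↔
      ∃ ζ : k, IsPrimitiveRoot ζ n := by
  classical
  constructor
  · rintro ⟨e⟩
    let t : Multiplicative (ZMod n) := Multiplicative.ofAdd 1
    let χ : ConstGrp.F k (Multiplicative (ZMod n)) := e.symm (MonoidAlgebra.single t 1)
    have hg : IsGroupLikeElem k χ := IsGroupLikeElem.map e.symm ⟨by simp, by simp⟩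
    have hm : ∀ a b, χ (a * b) = χ a * χ b := fun a b => by
      rw [← pair_comul k _ χ a b, hg.comul_eq_tmul_self]
      simp
    have h1 : χ 1 = 1 := by simpa using hg.counit_eq_one
    let φ : Multiplicative (ZMod n) →* k := ⟨⟨χ, h1⟩, hm⟩
    have hall : ∀ y : Multiplicative (ZMod n), y = t ^ (Multiplicative.toAdd y).val := fun y =>
      Multiplicative.toAdd.injective (by simp [t])
    refine ⟨χ t, (IsPrimitiveRoot.iff_def _ _).2 ⟨?_, fun m hm' => ?_⟩⟩
    · show φ t ^ n = 1
      rw [← map_pow, show t ^ n = 1 from Multiplicative.toAdd.injective (by simp [t]), map_one]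
    · have hpow : χ ^ m = 1 := ConstGrp.ext fun y => by
        have h0 : ∀ j : ℕ, (χ ^ j) y = χ y ^ j := fun j => by
          induction j with
          | zero => simp
          | succ j ih => rw [pow_succ, ConstGrp.mul_apply, ih, pow_succ]
        rw [h0, ConstGrp.one_apply, hall y, show χ (t ^ (Multiplicative.toAdd y).val) =
          φ t ^ (Multiplicative.toAdd y).val from map_pow φ t _, ← pow_mul, mul_comm, pow_mul,
          show φ t ^ m = 1 from hm', one_pow]
      have h2 : MonoidAlgebra.single (t ^ m) (1 : k) = 1 := by
        have := congrArg e hpow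
        rw [map_pow, map_one, show e χ = MonoidAlgebra.single t 1 from e.apply_symm_apply _,
          MonoidAlgebra.single_pow, one_pow] at this
        exact this
      rw [MonoidAlgebra.one_def] at h2
      have h3 : t ^ m = 1 := MonoidAlgebra.single_left_inj one_ne_zero |>.1 h2
      have h4 := congrArg Multiplicative.toAdd h3
      simp [t] at h4
      exact (ZMod.natCast_eq_zero_iff m n).1 h4 
  · rintro ⟨ζ, hζ⟩
    let χ : Multiplicative (ZMod n) → ConstGrp.F k (Multiplicative (ZMod n)) := fun x y =>
      ζ ^ ((Multiplicative.toAdd x).val * (Multiplicative.toAdd y).val)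
    have hmod : ∀ a : ℕ, ζ ^ a = ζ ^ (a % n) := fun a => pow_eq_pow_mod a hζ.pow_eq_one
    have hχ : ∀ x, IsGroupLikeElem k (χ x) := fun x => isGroupLike_of_hom k _ _ (by simp [χ]) fun a b => by
      simp only [χ, toAdd_mul, ← pow_add, ← mul_add]
      rw [hmod, hmod ((Multiplicative.toAdd x).val * (_ + _)), ZMod.val_add, Nat.mul_mod_mod]
    let F : Multiplicative (ZMod n) →* ConstGrp.F k (Multiplicative (ZMod n)) :=
      { toFun := χ
        map_one' := ConstGrp.ext fun y => by simp [χ]
        map_mul' := fun a b => ConstGrp.ext fun y => by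
          simp only [χ, ConstGrp.mul_apply, toAdd_mul, ← pow_add, ← add_mul]
          rw [hmod, hmod ((_ + _) * (Multiplicative.toAdd y).val), ZMod.val_add, Nat.mod_mul_mod] }
    let f : MonoidAlgebra k (Multiplicative (ZMod n)) →ₐc[k] ConstGrp.F k (Multiplicative (ZMod n)) :=
      BialgHom.ofAlgHom (MonoidAlgebra.lift k _ _ F)
        (MonoidAlgebra.algHom_ext (fun x => by simpa [F] using (hχ x).counit_eq_one) (Subsingleton.elim _ _))
        (MonoidAlgebra.algHom_ext (fun x => by simp [F, (hχ x).comul_eq_tmul_self]) (Subsingleton.elim _ _))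
    have hinj : Function.Injective χ := by
      intro a b h
      by_cases hn : n = 1
      · subst hn; exact Subsingleton.elim _ _
      haveI : Fact (1 < n) := ⟨by have := NeZero.ne n; omega⟩
      have h1 := congrFun h (Multiplicative.ofAdd (1 : ZMod n))
      simp only [χ, toAdd_ofAdd, ZMod.val_one, mul_one] at h1
      exact Multiplicative.toAdd.injective (ZMod.val_injective n (hζ.pow_inj (ZMod.val_lt _) (ZMod.val_lt _) h1))
    have hli : LinearIndependent k χ := (linearIndep_groupLikeVal (R := k)
      (A := ConstGrp.F k (Multiplicative (ZMod n)))).comp (fun x => ⟨χ x, hχ x⟩)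
      fun a b h => hinj (congrArg GroupLike.val h)
    let b := basisOfLinearIndependentOfCardEqFinrank hli (by
      rw [(ConstGrp.equivFun k (Multiplicative (ZMod n))).toLinearEquiv.finrank_eq, Module.finrank_pi])
    have he : f.toLinearMap =
        ((MonoidAlgebra.basis (Multiplicative (ZMod n)) k).equiv b (Equiv.refl _)).toLinearMap :=
      (MonoidAlgebra.basis (Multiplicative (ZMod n)) k).ext fun x => by
        rw [LinearEquiv.coe_toLinearMap, Module.Basis.equiv_apply]
        simp [f, b, F]
        exact (MonoidAlgebra.lift_single _ x 1).trans (one_smul k _)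
    have hb : Function.Bijective f := by
      have hc : ⇑f = ⇑((MonoidAlgebra.basis (Multiplicative (ZMod n)) k).equiv b (Equiv.refl _)) :=
        congrArg DFunLike.coe he
      rw [hc]
      exact LinearEquiv.bijective _
    exact ⟨(BialgEquiv.ofBijective f hb).symm⟩

end Groth.Agent.S18466
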