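import Groth.Statements.S18467
import Groth.Agent.Hopf35.Eigen

set_option autoImplicit false
universe u
open Hopf

namespace Groth.Agent.S18467

/-- Let p be a prime and R a commutative ring containing an element u with u(p − 1) = 1, and let χ be a
homomorphism from the group of units of ℤ/p to the group of units of R such that χ(m) − 1 is a unit
of R for every m ≠ 1. For 0 ≤ i < p − 1 put e_i = u · Σ_m χ(m)^{−i} [m] in the group algebra
R[(ℤ/p)ˣ]. Then the e_i are idempotents, e_i e_j = 0 for i ≠ j, and Σ_i e_i = 1. (The published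
statement is for algebras over the subring of the p-adic integers generated over ℤ by the values of
the Teichmüller character χ and by 1/(p(p − 1)); the hypotheses on R and χ here are the properties
of that situation which the computation uses, so the row is stated for every such pair.) -/
theorem result
    (p : ℕ) [Fact p.Prime] (R : Type u) [CommRing R] (u : R) (hu : u * ((p - 1 : ℕ) : R) = 1)
    (χ : (ZMod p)ˣ →* Rˣ) (hχ : ∀ m : (ZMod p)ˣ, m ≠ 1 → IsUnit ((χ m : R) - 1)) :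
    CompleteOrthogonalIdempotents (fun i : Fin (p - 1) =>
      u • ∑ m : (ZMod p)ˣ, ((χ m⁻¹ : Rˣ) : R) ^ (i : ℕ) • MonoidAlgebra.of R (ZMod p)ˣ m) := by
  classical
  set e : Fin (p - 1) → MonoidAlgebra R (ZMod p)ˣ := fun i =>
    u • ∑ m : (ZMod p)ˣ, ((χ m⁻¹ : Rˣ) : R) ^ (i : ℕ) • MonoidAlgebra.of R (ZMod p)ˣ m with he
  have hcard : Fintype.card (ZMod p)ˣ = p - 1 := ZMod.card_units p
  have hinv : ∀ m : (ZMod p)ˣ, ((χ m : Rˣ) : R) * ((χ m⁻¹ : Rˣ) : R) = 1 := fun m => by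
    rw [← Units.val_mul, ← map_mul, mul_inv_cancel, map_one, Units.val_one]
  have hone : ∀ m : (ZMod p)ˣ, ((χ m : Rˣ) : R) ^ (p - 1) = 1 := fun m => by
    rw [← Units.val_pow_eq_pow_val, ← map_pow, ZMod.units_pow_card_sub_one_eq_one, map_one, Units.val_one]
  have inner : ∀ i j : Fin (p - 1), ∑ n : (ZMod p)ˣ, ((χ n : Rˣ) : R) ^ (i : ℕ) * ((χ n⁻¹ : Rˣ) : R) ^ (j : ℕ) =
      if i = j then ((p - 1 : ℕ) : R) else 0 := by
    intro i j
    split_ifs with h
    · subst h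
      simp [← mul_pow, hinv, hcard]
    · have hd : ¬ (p - 1) ∣ ((i : ℕ) + (p - 1 - j)) := by
        intro hd
        have hi := i.2
        have hj := j.2
        have hne : (i : ℕ) ≠ j := fun h' => h (Fin.ext h')
        obtain ⟨c, hc⟩ := hd
        rcases c with _ | _ | c
        · omega
        · omega
        · nlinarith [Nat.sub_add_cancel hj.le]
      rw [← Groth.Agent.Hopf35.Eigen.sum_char_pow hχ _ hd]
      refine Finset.sum_congr rfl fun n _ => ?_
      rw [pow_add]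
      congr 1
      calc ((χ n⁻¹ : Rˣ) : R) ^ (j : ℕ) = ((χ n⁻¹ : Rˣ) : R) ^ (j : ℕ) * ((χ n : Rˣ) : R) ^ ((p - 1 - j) + j) := by
            rw [Nat.sub_add_cancel j.2.le, hone, mul_one]
        _ = ((χ n : Rˣ) : R) ^ (p - 1 - j) := by
            rw [pow_add, mul_left_comm, ← mul_pow, mul_comm _ ((χ n : Rˣ) : R), hinv, one_pow, mul_one]
  have hmul : ∀ i j, e i * e j = if i = j then e i else 0 := by
    intro i j
    have hterm : ∀ m : (ZMod p)ˣ, ∑ n : (ZMod p)ˣ,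
        (((χ m⁻¹ : Rˣ) : R) ^ (i : ℕ) • MonoidAlgebra.of R (ZMod p)ˣ m) *
          (((χ n⁻¹ : Rˣ) : R) ^ (j : ℕ) • MonoidAlgebra.of R (ZMod p)ˣ n) =
        ∑ n : (ZMod p)ˣ, (((χ m⁻¹ : Rˣ) : R) ^ (i : ℕ) * ((χ n⁻¹ : Rˣ) : R) ^ (j : ℕ)) •
          MonoidAlgebra.of R (ZMod p)ˣ (m * n) := fun m => Finset.sum_congr rfl fun n _ => by
      rw [smul_mul_smul_comm, map_mul]
    have hshift : ∀ n : (ZMod p)ˣ, ∑ m : (ZMod p)ˣ, (((χ m⁻¹ : Rˣ) : R) ^ (i : ℕ) * ((χ n⁻¹ : Rˣ) : R) ^ (j : ℕ)) •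
          MonoidAlgebra.of R (ZMod p)ˣ (m * n) =
        (((χ n : Rˣ) : R) ^ (i : ℕ) * ((χ n⁻¹ : Rˣ) : R) ^ (j : ℕ)) •
          ∑ l : (ZMod p)ˣ, ((χ l⁻¹ : Rˣ) : R) ^ (i : ℕ) • MonoidAlgebra.of R (ZMod p)ˣ l := by
      intro n
      rw [Finset.smul_sum]
      refine Fintype.sum_equiv (Equiv.mulRight n) _ _ fun m => ?_
      rw [Equiv.coe_mulRight, smul_smul]
      congr 1
      rw [mul_inv_rev, map_mul, Units.val_mul, mul_pow]
      have hni : ((χ n : Rˣ) : R) ^ (i : ℕ) * ((χ n⁻¹ : Rˣ) : R) ^ (i : ℕ) = 1 := by rw [← mul_pow, hinv, one_pow]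
      linear_combination (-(((χ m⁻¹ : Rˣ) : R) ^ (i : ℕ) * ((χ n⁻¹ : Rˣ) : R) ^ (j : ℕ))) * hni
    simp only [he]
    rw [smul_mul_smul_comm, Finset.sum_mul_sum, Finset.sum_congr rfl fun m _ => hterm m]
    rw [Finset.sum_comm, Finset.sum_congr rfl fun n _ => hshift n, ← Finset.sum_smul, inner]
    split_ifs with h
    · rw [smul_smul, mul_assoc, hu, mul_one]
    · rw [zero_smul, smul_zero]
  have hsum : ∑ i, e i = 1 := by
    simp only [he, ← Finset.smul_sum]
    rw [Finset.sum_comm]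
    have h1 : ∀ m : (ZMod p)ˣ, ∑ i : Fin (p - 1), ((χ m⁻¹ : Rˣ) : R) ^ (i : ℕ) • MonoidAlgebra.of R (ZMod p)ˣ m =
        (if m = 1 then ((p - 1 : ℕ) : R) else 0) • MonoidAlgebra.of R (ZMod p)ˣ m := fun m => by
      rw [← Finset.sum_smul, Fin.sum_univ_eq_sum_range (fun i => ((χ m⁻¹ : Rˣ) : R) ^ i),
        Groth.Agent.Hopf35.Eigen.sum_char_range hχ]
      simp only [inv_eq_one]
    rw [Finset.sum_congr rfl fun m _ => h1 m, Finset.sum_eq_single (1 : (ZMod p)ˣ)]
    · rw [if_pos rfl, smul_smul, hu, one_smul, map_one]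
    · intro m _ hm; rw [if_neg hm, zero_smul]
    · simp
  exact ⟨⟨fun i => by show e i * e i = e i; rw [hmul, if_pos rfl],
    fun i j h => by show e i * e j = 0; rw [hmul, if_neg h]⟩, hsum⟩

end Groth.Agent.S18467
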