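import Mathlib
import Groth.Agent.Hopf35.OT
import Groth.Statements.S18469

set_option autoImplicit false
universe u
open OortTate

namespace Groth.Agent.S18469

theorem result
    (p : ℕ) [Fact p.Prime] (R : Type u) [CommRing R] (u : R) (hu : u * ((p - 1 : ℕ) : R) = 1)
    (χ : (ZMod p)ˣ →* Rˣ) (hχ : ∀ m : (ZMod p)ˣ, m ≠ 1 → IsUnit ((χ m : R) - 1))
    (hχp : ∀ m : (ZMod p)ˣ, ((χ m : Rˣ) : R) - (((m : ZMod p).val : ℕ) : R) ∈ Ideal.span ({(p : R)} : Set R))
    (A : Type u) [CommRing A] [HopfAlgebra R A] [Module.Finite R A] [Module.Projective R A]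
    (hrk : ∀ q : PrimeSpectrum R, Module.rankAtStalk A q = p) :
    (∀ i : ℕ, Module.Finite R (OortTate.eigenAug R A p χ i) ∧
        Module.Projective R (OortTate.eigenAug R A p χ i) ∧
        ∀ q : PrimeSpectrum R, Module.rankAtStalk (↥(OortTate.eigenAug R A p χ i)) q = 1) ∧
      ∀ t : ℕ, 1 ≤ t → t ≤ p - 1 →
        (OortTate.eigenAug R A p χ 1) ^ t = OortTate.eigenAug R A p χ t := by
  have hid := Groth.Agent.Hopf35.OT.id_pow (A := A) hrk
  exact ⟨fun i => ⟨Groth.Agent.Hopf35.OT.finite_eigenAug u hu χ hid i, Groth.Agent.Hopf35.OT.projective_eigenAug u hu χ hid i,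
      fun q => Groth.Agent.Hopf35.OT.rankAtStalk_eigenAug u hu χ hχ hχp hrk i q⟩,
    fun t ht ht' => Groth.Agent.Hopf35.OT.pow_eq_eigenAug u hu χ hχ hχp hrk ht ht'⟩

end Groth.Agent.S18469
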