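import Mathlib
import Groth.Agent.Hopf35.Basic
import Groth.Statements.S18470

set_option autoImplicit false
universe u v
open OortTate

namespace Groth.Agent.S18470

open TensorProduct Finset Groth.Agent.Hopf35

theorem result
    (R : Type u) [CommRing R] (A : Type v) [CommRing A] [HopfAlgebra R A]
    [Module.Finite R A] [Module.Projective R A] :
    Function.Bijective (fun f : LinearMap.ker (Bialgebra.counitAlgHom R (CartDual.D R A)).toLinearMap =>
      ((CartDual.toDual R A) (f : CartDual.D R A)).comp
        (LinearMap.ker (Bialgebra.counitAlgHom R A).toLinearMap).subtype) := by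
  let P : A →ₗ[R] LinearMap.ker (Bialgebra.counitAlgHom R A).toLinearMap :=
    (LinearMap.id - (Algebra.linearMap R A) ∘ₗ (Bialgebra.counitAlgHom R A).toLinearMap).codRestrict _ fun a => by simp
  constructor
  · rintro ⟨x, hx⟩ ⟨y, hy⟩ h
    apply Subtype.ext
    apply WithConv.ext
    ext a
    have h1 := LinearMap.congr_fun h (P a)
    have hx' : x.ofConv 1 = 0 := hx
    have hy' : y.ofConv 1 = 0 := hy
    change x.ofConv (a - algebraMap R A (Coalgebra.counit (R := R) a)) = y.ofConv (a - algebraMap R A (Coalgebra.counit (R := R) a)) at h1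
    simpa [map_sub, Algebra.algebraMap_eq_smul_one, hx', hy'] using h1
  · intro φ
    refine ⟨⟨WithConv.toConv (φ ∘ₗ P), ?_⟩, ?_⟩
    · show φ (P 1) = 0
      rw [show P 1 = 0 from Subtype.ext (by show (1:A) - algebraMap R A (Bialgebra.counitAlgHom R A 1) = 0; simp), map_zero]
    · ext ⟨a, ha⟩
      show φ (P a) = φ ⟨a, ha⟩
      congr 1
      apply Subtype.ext
      have : Coalgebra.counit (R := R) a = 0 := ha
      show a - algebraMap R A (Coalgebra.counit (R := R) a) = a
      simp [this]

end Groth.Agent.S18470
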