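import Groth.Agent.Hopf35.Classify
import Groth.Statements.S18475

set_option autoImplicit false
universe u
open OortTate

namespace Groth.Agent.S18475

theorem result
    (p : ℕ) [Fact p.Prime] (R : Type u) [CommRing R] (u : R) (hu : u * ((p - 1 : ℕ) : R) = 1)
    (χ : (ZMod p)ˣ →* Rˣ) (hχ : ∀ m : (ZMod p)ˣ, m ≠ 1 → IsUnit ((χ m : R) - 1))
    (hχp : ∀ m : (ZMod p)ˣ, ((χ m : Rˣ) : R) - (((m : ZMod p).val : ℕ) : R) ∈ Ideal.span ({(p : R)} : Set R))
    (A : Type u) [CommRing A] [HopfAlgebra R A] [Coalgebra.IsCocomm R A] [Module.Finite R A]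
    [Module.Projective R A] (hrk : ∀ q : PrimeSpectrum R, Module.rankAtStalk A q = p)
    (A' : Type u) [CommRing A'] [HopfAlgebra R A'] [Coalgebra.IsCocomm R A'] [Module.Finite R A']
    [Module.Projective R A'] (hrk' : ∀ q : PrimeSpectrum R, Module.rankAtStalk A' q = p)
    (x : A) (hx : Submodule.span R {x} = OortTate.eigenAug R A p χ 1)
    (ξ : CartDual.D R A) (hξ : Submodule.span R {ξ} = OortTate.eigenAug R (CartDual.D R A) p χ 1)
    (hxξ : CartDual.toDual R A ξ x = 1)
    (x' : A') (hx' : Submodule.span R {x'} = OortTate.eigenAug R A' p χ 1)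
    (ξ' : CartDual.D R A') (hξ' : Submodule.span R {ξ'} = OortTate.eigenAug R (CartDual.D R A') p χ 1)
    (hxξ' : CartDual.toDual R A' ξ' x' = 1)
    (α β α' β' : R) (hα : x ^ p = α • x) (hβ : ξ ^ p = β • ξ) (hα' : x' ^ p = α' • x')
    (hβ' : ξ' ^ p = β' • ξ')
    (v : Rˣ) (hαv : α' = ((v ^ (p - 1) : Rˣ) : R) * α) (hβv : β' = ((v⁻¹ ^ (p - 1) : Rˣ) : R) * β) :
    Nonempty (A ≃ₐc[R] A') := by
  have hmx : x ∈ eigenAug R A p χ 1 := hx ▸ Submodule.mem_span_singleton_self x
  have hmx' : x' ∈ eigenAug R A' p χ 1 := hx' ▸ Submodule.mem_span_singleton_self x'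
  rw [CartDual.toDual_apply] at hxξ hxξ'
  have hinj : ∀ r : R, r • x = 0 → r = 0 := fun r h => by
    simpa [hxξ] using congrArg ξ.ofConv h
  have hinj' : ∀ r : R, r • x' = 0 → r = 0 := fun r h => by
    simpa [hxξ'] using congrArg ξ'.ofConv h
  let cx : R →ₗ[R] eigenAug R A p χ 1 := LinearMap.toSpanSingleton R _ ⟨x, hmx⟩
  let cx' : R →ₗ[R] eigenAug R A' p χ 1 := LinearMap.toSpanSingleton R _ ⟨x', hmx'⟩
  have hb : Function.Bijective cx := ⟨(injective_iff_map_eq_zero _).mpr fun r h => hinj r (congrArg Subtype.val h),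
    fun f => (Submodule.mem_span_singleton.mp (show (f : A) ∈ Submodule.span R {x} by rw [hx]; exact f.2)).imp fun r h => Subtype.ext h⟩
  have hb' : Function.Bijective cx' := ⟨(injective_iff_map_eq_zero _).mpr fun r h => hinj' r (congrArg Subtype.val h),
    fun f => (Submodule.mem_span_singleton.mp (show (f : A') ∈ Submodule.span R {x'} by rw [hx']; exact f.2)).imp fun r h => Subtype.ext h⟩
  let e := LinearEquiv.ofBijective cx hb
  let θ : eigenAug R A p χ 1 ≃ₗ[R] eigenAug R A' p χ 1 :=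
    e.symm ≪≫ₗ LinearEquiv.smulOfUnit v⁻¹ ≪≫ₗ LinearEquiv.ofBijective cx' hb'
  have hθx : ∀ c : R, ((θ (cx c) : eigenAug R A' p χ 1) : A') = (((v⁻¹ : Rˣ) : R) * c) • x' := fun c => by
    simp only [θ, LinearEquiv.trans_apply, show e.symm (cx c) = c from e.symm_apply_apply c]
    rfl
  have hp1 : ∀ t : R, t ^ p = t ^ (p - 1) * t := fun t => by
    rw [← pow_succ, Nat.sub_add_cancel (Fact.out : p.Prime).one_le]
  refine Hopf35.Classify.main u hu χ hχ hχp hrk hrk' θ (fun f g hg => ?_) (fun φ φ' ψ ψ' hφ hψ hψ' y => ?_)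
  · choose c hc using fun i => hb.2 (f i)
    obtain ⟨d, rfl⟩ := hb.2 g
    obtain rfl : f = fun i => cx (c i) := funext fun i => (hc i).symm
    simp only [hθx]
    change d • x = ∏ i, c i • x at hg
    rw [Finset.prod_smul, Finset.prod_const, Finset.card_univ, Fintype.card_fin, hα, smul_smul] at hg
    have hd : d = (∏ i, c i) * α := sub_eq_zero.mp (hinj _ (by rw [sub_smul, hg, sub_self]))
    rw [Finset.prod_smul, Finset.prod_const (x'), Finset.card_univ, Fintype.card_fin, hα', smul_smul, Finset.prod_mul_distrib,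
      Finset.prod_const, Finset.card_univ, Fintype.card_fin]
    congr 1
    rw [hd, hαv]
    calc ((v⁻¹ : Rˣ) : R) * ((∏ i, c i) * α)
        = ((v⁻¹ : Rˣ) : R) * (((v⁻¹ ^ (p - 1) * v ^ (p - 1) : Rˣ) : R)) * (∏ i, c i) * α := by
          rw [inv_pow, inv_mul_cancel, Units.val_one]; ring
      _ = _ := by
          simp only [Units.val_mul, Units.val_pow_eq_pow_val, hp1]
          ring
  · obtain ⟨c, rfl⟩ := hb.2 y
    choose a ha using fun i => Submodule.mem_span_singleton.mp (show (φ i : CartDual.D R A) ∈ Submodule.span R {ξ} by rw [hξ]; exact (φ i).2)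
    choose a' ha' using fun i => Submodule.mem_span_singleton.mp (show (φ' i : CartDual.D R A') ∈ Submodule.span R {ξ'} by rw [hξ']; exact (φ' i).2)
    simp only [CartDual.toDual_apply] at hφ ⊢
    have haa : ∀ i, a i = a' i * ((v⁻¹ : Rˣ) : R) := fun i => by
      have := hφ i (cx 1)
      rw [← ha i, ← ha' i, hθx, show ((cx 1 : eigenAug R A p χ 1) : A) = x from one_smul R x] at this
      simpa [WithConv.ofConv_smul, hxξ, hxξ', mul_comm] using this
    rw [hψ, hψ', hθx, show ((cx c : eigenAug R A p χ 1) : A) = c • x from rfl]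
    simp only [← ha, ← ha', Finset.prod_smul, Finset.prod_const, Finset.card_univ, Fintype.card_fin, hβ, hβ', smul_smul,
      WithConv.ofConv_smul, LinearMap.smul_apply, map_smul, hxξ, hxξ', haa, Finset.prod_mul_distrib, smul_eq_mul, hβv]
    simp only [Units.val_mul, Units.val_pow_eq_pow_val, hp1]
    ring

end Groth.Agent.S18475
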