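import Groth.Statements.S18476
import Mathlib
-- import your own Groth.Agent.* helpers here

set_option autoImplicit false
universe u
open FmlGrp

namespace Groth.Agent.S18476

open PowerSeries in
theorem free_iff {O : Type u} [CommRing O] [IsDomain O] [IsLocalRing O]
    [IsAdicComplete (IsLocalRing.maximalIdeal O) O] (f : PowerSeries O) (hf : constantCoeff f = 0) :
    (∃ n : ℕ, coeff n f ∉ IsLocalRing.maximalIdeal O) ↔
      ∃ (n : ℕ) (b : Fin n → PowerSeries O), ∀ g : PowerSeries O, ∃! c : Fin n → PowerSeries O,
        g = ∑ i, PowerSeries.subst f (c i) * b i := by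
  classical
  have hs : PowerSeries.HasSubst f := PowerSeries.HasSubst.of_constantCoeff_zero' hf
  have hXdvd : (X : PowerSeries O) ∣ f := X_dvd_iff.2 hf
  -- splitting off the constant term of a series in `f`
  have hsplit : ∀ c : PowerSeries O,
      subst f c = C (constantCoeff c) + f * subst f (mk fun k => coeff (k + 1) c) := fun c => by
    conv_lhs => rw [eq_X_mul_shift_add_const c]
    rw [subst_add hs, subst_mul hs, subst_X hs, subst_C, add_comm]
    rfl
  constructor
  · rintro ⟨m, hm⟩
    have hmap : f.map (IsLocalRing.residue O) ≠ 0 := fun h => hm (by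
      have := congrArg (coeff m) h
      rwa [coeff_map, map_zero, IsLocalRing.residue_eq_zero_iff] at this)
    set n := (f.map (IsLocalRing.residue O)).order.toNat with hn
    have hdiv : ∀ g : PowerSeries O, ∃ (a : Fin n → O) (q : PowerSeries O),
        g = f * q + ∑ i, C (a i) * X ^ (i : ℕ) := fun g => by
      obtain ⟨q, r, hr⟩ := exists_isWeierstrassDivision g hmap
      have hdeg : r.degree < n := hr.degree_lt
      refine ⟨fun i => r.coeff i, q, hr.eq_mul_add.trans ?_⟩
      congr 1
      ext j
      rw [Polynomial.coeff_coe, map_sum]
      simp only [coeff_C_mul, coeff_X_pow, mul_ite, mul_one, mul_zero]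
      by_cases hj : j < n
      · rw [Finset.sum_eq_single (⟨j, hj⟩ : Fin n) (fun i _ hi => if_neg fun e => hi (Fin.ext e.symm)) (by simp),
          if_pos rfl]
      · rw [Finset.sum_eq_zero fun (i : Fin n) _ => if_neg fun e : j = (i : ℕ) => hj (e.trans_lt i.isLt),
          Polynomial.coeff_eq_zero_of_degree_lt (hdeg.trans_le (by exact_mod_cast not_lt.1 hj))]
    choose a q hq using hdiv
    have huniq : ∀ (a : Fin n → O) (q : PowerSeries O), f * q + ∑ i, C (a i) * X ^ (i : ℕ) = 0 →
        q = 0 ∧ ∀ i, a i = 0 := fun a q h => by
      let r : Polynomial O := ∑ i : Fin n, Polynomial.C (a i) * Polynomial.X ^ (i : ℕ)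
      have hcoe : (r : PowerSeries O) = ∑ i : Fin n, C (a i) * X ^ (i : ℕ) := by
        simp only [r, ← Polynomial.coeToPowerSeries.ringHom_apply, map_sum, map_mul, map_pow]
        simp
      have hdeg : r.degree < n := Polynomial.degree_sum_fin_lt a
      have hW : IsWeierstrassDivision 0 f q r := ⟨hdeg, by rw [hcoe, h]⟩
      obtain ⟨hq0, hr0⟩ := hW.eq_zero hmap
      refine ⟨hq0, fun i => ?_⟩
      have := congrArg (fun p : Polynomial O => p.coeff i) hr0
      simpa [r, Polynomial.coeff_C_mul, Polynomial.coeff_X_pow, Fin.val_inj] using this
    refine ⟨n, fun i => X ^ (i : ℕ), fun g => ?_⟩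
    let it : ℕ → PowerSeries O := fun k => q^[k] g
    let c : Fin n → PowerSeries O := fun i => mk fun k => a (it k) i
    have hiter : ∀ (N : ℕ) (g : PowerSeries O), (X : PowerSeries O) ^ N ∣
        g - ∑ i : Fin n, subst f (mk fun k => a (q^[k] g) i) * X ^ (i : ℕ) := by
      intro N
      induction N with
      | zero => intro g; simp
      | succ N ih =>
        intro g
        have h1 : g - ∑ i : Fin n, subst f (mk fun k => a (q^[k] g) i) * X ^ (i : ℕ) =
            f * (q g - ∑ i : Fin n, subst f (mk fun k => a (q^[k] (q g)) i) * X ^ (i : ℕ)) := by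
          have h2 : ∀ i : Fin n, subst f (mk fun k => a (q^[k] g) i) =
              C (a g i) + f * subst f (mk fun k => a (q^[k] (q g)) i) := fun i => by
            rw [hsplit]
            simp only [constantCoeff_mk, coeff_mk, Function.iterate_zero, id, Function.iterate_succ_apply]
          simp only [h2, add_mul, Finset.sum_add_distrib, mul_sub, Finset.mul_sum, mul_assoc]
          conv_lhs => arg 1; rw [hq g]
          ring
        rw [h1, pow_succ']
        exact mul_dvd_mul hXdvd (ih _)
    refine ⟨c, ?_, fun c' hc' => ?_⟩
    · refine sub_eq_zero.1 (ext fun m => ?_)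
      rw [map_zero]
      exact (X_pow_dvd_iff.1 (hiter (m + 1) g)) m m.lt_succ_self
    · -- uniqueness
      have hz : ∀ (k : ℕ) (d : Fin n → PowerSeries O), ∑ i, subst f (d i) * X ^ (i : ℕ) = 0 →
          ∀ i, coeff k (d i) = 0 := by
        intro k
        induction k with
        | zero =>
          intro d hd i
          simp only [fun i => hsplit (d i), add_mul, Finset.sum_add_distrib, mul_assoc, ← Finset.mul_sum] at hd
          rw [add_comm] at hd
          rw [coeff_zero_eq_constantCoeff]
          exact (huniq _ _ hd).2 i
        | succ k ih =>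
          intro d hd i
          simp only [fun i => hsplit (d i), add_mul, Finset.sum_add_distrib, mul_assoc, ← Finset.mul_sum] at hd
          rw [add_comm] at hd
          have := ih (fun i => mk fun k => coeff (k + 1) (d i)) (huniq _ _ hd).1 i
          rwa [coeff_mk] at this
      have hc : g = ∑ i, subst f (c i) * X ^ (i : ℕ) := sub_eq_zero.1 (ext fun m => by
        rw [map_zero]
        exact (X_pow_dvd_iff.1 (hiter (m + 1) g)) m m.lt_succ_self)
      funext i
      refine ext fun k => sub_eq_zero.1 ?_
      rw [← map_sub]
      refine hz k (fun i => c' i - c i) ?_ i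
      simp only [subst_sub hs, sub_mul, Finset.sum_sub_distrib]
      rw [← hc', ← hc, sub_self]
  · rintro ⟨n, b, hb⟩
    by_contra hall
    simp only [not_exists, not_not] at hall
    let π := IsLocalRing.residue O
    have hf0 : f.map π = 0 := ext fun m => by
      rw [coeff_map, map_zero, IsLocalRing.residue_eq_zero_iff]
      exact hall m
    let L : (Fin n → IsLocalRing.ResidueField O) →ₗ[IsLocalRing.ResidueField O]
        (Fin (n + 1) → IsLocalRing.ResidueField O) :=
      Fintype.linearCombination (IsLocalRing.ResidueField O) fun i j => π (coeff (j : ℕ) (b i))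
    have hsurj : Function.Surjective L := fun y => by
      choose z hz using fun j => IsLocalRing.residue_surjective (y j)
      obtain ⟨d, hd, -⟩ := hb (mk fun m => if h : m < n + 1 then z ⟨m, h⟩ else 0)
      refine ⟨fun i => π (constantCoeff (d i)), funext fun j => ?_⟩
      have h1 := congrArg (fun s => coeff (j : ℕ) (PowerSeries.map π s)) hd
      simp only [map_sum, map_mul, fun i => hsplit (d i), map_add, hf0, zero_mul, add_zero, map_C, coeff_C_mul,
        coeff_map, coeff_mk, dif_pos j.2, Fin.eta, hz] at h1
      rw [← hz j]
      refine Eq.trans ?_ h1.symm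
      simp [L, Fintype.linearCombination_apply, smul_eq_mul]
    have := LinearMap.finrank_le_finrank_of_injective (f := L.dualMap) (LinearMap.dualMap_injective_of_surjective hsurj)
    simp at this


/-- Let O be a complete discrete valuation ring whose maximal ideal m contains the prime number p, and
let F be a one-dimensional formal group law over O, with multiplication-by-p series f = [p]_F(X) = X
+_F ⋯ +_F X ∈ O[[X]]. Then f has a coefficient outside m (f is not ≡ 0 mod m) if and only if F is
p-divisible in the sense that O[[X]] is free of finite rank over itself through the substitution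
endomorphism X ↦ f: there are finitely many power series b_1, …, b_n such that every power series g
can be written uniquely as Σ_i c_i(f(X))·b_i. (The published statement asserts instead that F is
p-divisible iff F does not reduce to X + Y modulo m; that is false — over the p-adic integers the
law φ⁻¹(φ(X) + φ(Y)) with φ = X + X^{p+1} is not congruent to X + Y modulo p, yet its
multiplication-by-p series φ⁻¹(pφ(X)) vanishes modulo p — and the printed proof establishes exactly
the criterion on f stated here.) The published setting is the valuation ring of a finite extension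
of ℚ_p; the argument uses only that O is a complete discrete valuation ring with p in its maximal
ideal. -/
theorem result
    (O : Type u) [CommRing O] [IsDomain O] [IsDiscreteValuationRing O]
    [IsAdicComplete (IsLocalRing.maximalIdeal O) O]
    (p : ℕ) [Fact p.Prime] (hp : (p : O) ∈ IsLocalRing.maximalIdeal O)
    (F : FormalGroup O) :
    (∃ n : ℕ, PowerSeries.coeff n
        ((p • (show F.Point Unit from ⟨PowerSeries.X, PowerSeries.HasSubst.X'⟩)).val) ∉
          IsLocalRing.maximalIdeal O) ↔
      ∃ (n : ℕ) (b : Fin n → PowerSeries O), ∀ g : PowerSeries O, ∃! c : Fin n → PowerSeries O,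
        g = ∑ i, PowerSeries.subst
          ((p • (show F.Point Unit from ⟨PowerSeries.X, PowerSeries.HasSubst.X'⟩)).val) (c i) * b i := by
  obtain ⟨f, hf⟩ := (p • (show F.Point Unit from ⟨PowerSeries.X, PowerSeries.HasSubst.X'⟩))
  exact free_iff f (IsNilpotent.eq_zero hf)

end Groth.Agent.S18476
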