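import Mathlib
import Groth.Agent.Hopf35.Basic
import Groth.Statements.S18479

set_option autoImplicit false
universe u v
open scoped TensorProduct
open OortTate

namespace Groth.Agent.S18479

open TensorProduct Finset Groth.Agent.Hopf35

theorem result
    (R : Type u) [CommRing R] (A : Type v) [CommRing A] [HopfAlgebra R A]
    (x : A) (hx : Bialgebra.counitAlgHom R A x = 0)
    (hgen : ∀ f : A, Bialgebra.counitAlgHom R A f = 0 → ∃ r : R, f = r • x)
    (hfree : ∀ r : R, r • x = 0 → r = 0) :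
    ∃ a b : R, x * x = a • x ∧
      Bialgebra.comulAlgHom R A x = x ⊗ₜ[R] 1 + 1 ⊗ₜ[R] x + b • (x ⊗ₜ[R] x) ∧ a * b = -2 := by
  simp only [Bialgebra.counitAlgHom_apply] at hx hgen
  simp only [Bialgebra.comulAlgHom_apply]
  obtain ⟨a, ha⟩ := hgen (x * x) (by simp [hx])
  have hdec : ∀ f : A, ∃ r : R, f = Coalgebra.counit (R := R) f • (1:A) + r • x := fun f => by
    obtain ⟨r, hr⟩ := hgen (f - Coalgebra.counit (R := R) f • (1:A)) (by simp)
    exact ⟨r, by rw [← hr]; abel⟩
  choose q hq using hdec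
  have huniq : ∀ (s r : R), s • (1:A) + r • x = 0 → s = 0 ∧ r = 0 := by
    intro s r h
    have h1 : s = 0 := by simpa [hx] using congrArg (Coalgebra.counit (R := R)) h
    exact ⟨h1, hfree r (by simpa [h1] using h)⟩
  have hq' : ∀ f r, f = Coalgebra.counit (R := R) f • (1:A) + r • x → q f = r := by
    intro f r h
    have h2 : (0:R) • (1:A) + (q f - r) • x = 0 := by
      rw [zero_smul, zero_add, sub_smul, sub_eq_zero]
      exact add_left_cancel ((hq f).symm.trans h)
    exact sub_eq_zero.mp (huniq _ _ h2).2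
  let Q : A →ₗ[R] R :=
    { toFun := q
      map_add' := fun f g => hq' _ _ (by rw [map_add, add_smul, add_smul]; (conv_lhs => rw [hq f, hq g]); abel)
      map_smul' := fun c f => hq' _ _ (by rw [map_smul, smul_eq_mul, RingHom.id_apply, smul_eq_mul, mul_smul, mul_smul, ← smul_add, ← hq f]) }
  have Qx : Q x = 1 := hq' _ _ (by simp [hx])
  obtain ⟨c00, c10, c01, b, hΔ⟩ : ∃ c00 c10 c01 b : R, Coalgebra.comul (R := R) x =
      c00 • ((1:A) ⊗ₜ[R] (1:A)) + c10 • (x ⊗ₜ[R] (1:A)) + c01 • ((1:A) ⊗ₜ[R] x) + b • (x ⊗ₜ[R] x) := by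
    generalize Coalgebra.comul (R := R) x = t
    induction t using TensorProduct.induction_on with
    | zero => exact ⟨0, 0, 0, 0, by simp⟩
    | tmul f g =>
      refine ⟨Coalgebra.counit f * Coalgebra.counit g, Q f * Coalgebra.counit g, Coalgebra.counit f * Q g, Q f * Q g, ?_⟩
      conv_lhs => rw [hq f, hq g]
      simp only [add_tmul, tmul_add, ← smul_tmul', tmul_smul, smul_smul, Q, LinearMap.coe_mk, AddHom.coe_mk]
      module
    | add s t hs ht =>
      obtain ⟨a1, b1, c1, d1, h1⟩ := hs; obtain ⟨a2, b2, c2, d2, h2⟩ := ht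
      exact ⟨a1 + a2, b1 + b2, c1 + c2, d1 + d2, by rw [h1, h2]; simp only [add_smul]; abel⟩
  have hl : x = c00 • (1:A) + c01 • x := by
    have := congrArg (TensorProduct.lid R A) (Coalgebra.rTensor_counit_comul (R := R) x)
    rw [hΔ] at this; simpa [hx] using this.symm
  have hr : x = c00 • (1:A) + c10 • x := by
    have := congrArg (TensorProduct.rid R A) (Coalgebra.lTensor_counit_comul (R := R) x)
    rw [hΔ] at this; simpa [hx] using this.symm
  obtain ⟨e00, e01⟩ := huniq c00 (c01 - 1) (by rw [sub_smul, one_smul, ← add_sub_assoc, ← hl, sub_self])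
  obtain ⟨-, e10⟩ := huniq c00 (c10 - 1) (by rw [sub_smul, one_smul, ← add_sub_assoc, ← hr, sub_self])
  rw [e00, sub_eq_zero.mp e01, sub_eq_zero.mp e10, zero_smul, zero_add, one_smul, one_smul] at hΔ
  refine ⟨a, b, ha, hΔ, ?_⟩
  have h1 := congrArg (Coalgebra.comul (R := R)) ha
  rw [Bialgebra.comul_mul, map_smul, hΔ] at h1
  have Q1 : Q 1 = 0 := hq' _ _ (by simp)
  have Qxx : Q (x * x) = a := by rw [ha, map_smul, Qx, smul_eq_mul, mul_one]
  have h2 := congrArg (fun t => LinearMap.mul' R R (TensorProduct.map Q Q t)) h1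
  simp [add_mul, mul_add, smul_tmul', smul_add, Q1, Qx, Qxx] at h2
  have hS : Coalgebra.counit (R := R) (HopfAlgebra.antipode R x) = 0 := by simp [hx]
  obtain ⟨c, hc⟩ := hgen _ hS
  have h3 := HopfAlgebra.mul_antipode_rTensor_comul_apply (R := R) x
  rw [hΔ, hx] at h3
  simp [hc] at h3
  have h4 : c + 1 + b * (c * a) = 0 := by
    refine hfree _ ?_
    rw [← h3, ha]
    simp only [add_smul, mul_smul, one_smul]
  have h5 : (a * b + 1) * (a * b + 2) = 0 := by linear_combination h2
  linear_combination (a * b + 2) * h4 - c * h5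

end Groth.Agent.S18479
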