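import Groth.Statements.S18480
import Mathlib

set_option autoImplicit false
universe u v
open scoped TensorProduct
open OortTate

namespace Groth.Agent.S18480

/-- Let R be a commutative ring and let A and A' be commutative Hopf algebras over R whose augmentation
ideals are free of rank one with generators x and x', with constants a, b and a', b' ∈ R such that
x² = a x, Δ(x) = x ⊗ 1 + 1 ⊗ x + b x ⊗ x and x'² = a' x', Δ(x') = x' ⊗ 1 + 1 ⊗ x' + b' x' ⊗ x' (the
group schemes of order two G_{a,b} and G_{a',b'}). Then A and A' are isomorphic as bialgebras over R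
(G_{a,b} ≅ G_{a',b'} as group schemes) if and only if there is a unit s of R with a = a'·s and b' =
b·s. -/
theorem result
    (R : Type u) [CommRing R] (A : Type v) [CommRing A] [HopfAlgebra R A]
    (x : A) (hx : Bialgebra.counitAlgHom R A x = 0)
    (hgen : ∀ f : A, Bialgebra.counitAlgHom R A f = 0 → ∃ r : R, f = r • x)
    (hfree : ∀ r : R, r • x = 0 → r = 0)
    (a b : R) (hxa : x * x = a • x)
    (hxb : Bialgebra.comulAlgHom R A x = x ⊗ₜ[R] 1 + 1 ⊗ₜ[R] x + b • (x ⊗ₜ[R] x))
    (A' : Type v) [CommRing A'] [HopfAlgebra R A']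
    (x' : A') (hx' : Bialgebra.counitAlgHom R A' x' = 0)
    (hgen' : ∀ f : A', Bialgebra.counitAlgHom R A' f = 0 → ∃ r : R, f = r • x')
    (hfree' : ∀ r : R, r • x' = 0 → r = 0)
    (a' b' : R) (hxa' : x' * x' = a' • x')
    (hxb' : Bialgebra.comulAlgHom R A' x' = x' ⊗ₜ[R] 1 + 1 ⊗ₜ[R] x' + b' • (x' ⊗ₜ[R] x')) :
    Nonempty (A ≃ₐc[R] A') ↔ ∃ s : Rˣ, a = a' * (s : R) ∧ b' = b * (s : R) := by
  have hx0 : Coalgebra.counit (R := R) x = 0 := hx
  have hx0' : Coalgebra.counit (R := R) x' = 0 := hx'
  have hd' : ∀ f : A', ∃ r : R, f - algebraMap R A' (Coalgebra.counit (R := R) f) = r • x' :=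
    fun f => hgen' _ (by simp)
  choose c' hc' using hd'
  have hd : ∀ f : A, ∃ r : R, f - algebraMap R A (Coalgebra.counit (R := R) f) = r • x :=
    fun f => hgen _ (by simp)
  choose c hc using hd
  have hu : ∀ f r, f - algebraMap R A (Coalgebra.counit (R := R) f) = r • x → c f = r := fun f r h =>
    sub_eq_zero.mp (hfree _ (by rw [sub_smul, ← hc, h, sub_self]))
  have hu' : ∀ f r, f - algebraMap R A' (Coalgebra.counit (R := R) f) = r • x' → c' f = r := fun f r h =>
    sub_eq_zero.mp (hfree' _ (by rw [sub_smul, ← hc', h, sub_self]))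
  let C : A →ₗ[R] R :=
    { toFun := c
      map_add' := fun f g => hu _ _ (by rw [map_add, map_add, add_sub_add_comm, hc, hc, add_smul])
      map_smul' := fun r f => hu _ _ (by
        rw [map_smul, smul_eq_mul, map_mul, ← Algebra.smul_def, ← smul_sub, hc, smul_smul]; rfl) }
  let C' : A' →ₗ[R] R :=
    { toFun := c'
      map_add' := fun f g => hu' _ _ (by rw [map_add, map_add, add_sub_add_comm, hc', hc', add_smul])
      map_smul' := fun r f => hu' _ _ (by
        rw [map_smul, smul_eq_mul, map_mul, ← Algebra.smul_def, ← smul_sub, hc', smul_smul]; rfl) }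
  have hCx : C x = 1 := hu _ _ (by rw [hx0, map_zero, sub_zero, one_smul])
  have hCx' : C' x' = 1 := hu' _ _ (by rw [hx0', map_zero, sub_zero, one_smul])
  have hdec : ∀ f : A, f = Coalgebra.counit (R := R) f • (1 : A) + C f • x := fun f => by
    rw [← Algebra.algebraMap_eq_smul_one]; exact (add_eq_of_eq_sub' (hc f).symm).symm
  have hdec' : ∀ f : A', f = Coalgebra.counit (R := R) f • (1 : A') + C' f • x' := fun f => by
    rw [← Algebra.algebraMap_eq_smul_one]; exact (add_eq_of_eq_sub' (hc' f).symm).symm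
  constructor
  · rintro ⟨e⟩
    have he : Coalgebra.counit (R := R) (e x) = 0 := by
      rw [← hx0]; exact CoalgHomClass.counit_comp_apply e x
    have he' : Coalgebra.counit (R := R) (e.symm x') = 0 := by
      rw [← hx0']; exact CoalgHomClass.counit_comp_apply e.symm x'
    obtain ⟨s, hs⟩ : ∃ s : R, e x = s • x' := hgen' _ he
    obtain ⟨t, ht⟩ : ∃ t : R, e.symm x' = t • x := hgen _ he'
    have hst : s * t = 1 := by
      have h : e (e.symm x') = x' := e.apply_symm_apply x'
      rw [ht, map_smul, hs, smul_smul] at h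
      exact sub_eq_zero.mp (hfree' _ (by rw [sub_smul, mul_comm, h, one_smul, sub_self]))
    have hmul : (s * s * a') • x' = (a * s) • x' := by
      have h : e (x * x) = e x * e x := map_mul e x x
      rw [hxa, map_smul, hs, smul_mul_smul_comm, hxa', smul_smul, smul_smul] at h
      exact h.symm
    have hmul' : s * s * a' = a * s := sub_eq_zero.mp (hfree' _ (by rw [sub_smul, hmul, sub_self]))
    have hco : (b * (s * s)) = s * b' := by
      have h : TensorProduct.map (e : A →ₗ[R] A') (e : A →ₗ[R] A') (Bialgebra.comulAlgHom R A x) =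
          Coalgebra.comul (R := R) (e x) := CoalgHomClass.map_comp_comul_apply e x
      rw [hxb] at h
      have hL : (e : A →ₗ[R] A') x = s • x' := hs
      rw [show Coalgebra.comul (R := R) (e x) = s • Bialgebra.comulAlgHom R A' x' by rw [hs, map_smul]; rfl, hxb'] at h
      simp only [map_add, map_smul, TensorProduct.map_tmul, hL, LinearMap.coe_coe, map_one, TensorProduct.smul_tmul', TensorProduct.tmul_smul, smul_add, smul_smul] at h
      have h2 := congrArg (fun z => TensorProduct.lid R R (TensorProduct.map C' C' z)) h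
      have hC1 : C' 1 = 0 := hu' _ _ (by simp)
      simpa [hCx', hC1, mul_comm, mul_left_comm] using h2
    let S : Rˣ := ⟨s, t, hst, by rw [mul_comm]; exact hst⟩
    exact ⟨S, S.mul_left_inj.mp (show a * s = a' * s * s by linear_combination (-1 : R) * hmul'),
      S.mul_left_inj.mp (show b' * s = b * s * s by linear_combination (-1 : R) * hco)⟩
  · rintro ⟨s, ha, hb⟩
    let φ : A →ₗ[R] A' := (Bialgebra.counitAlgHom R A).toLinearMap.smulRight 1 + C.smulRight ((s : R) • x')
    let ψ : A' →ₗ[R] A := (Bialgebra.counitAlgHom R A').toLinearMap.smulRight 1 + C'.smulRight ((↑s⁻¹ : R) • x)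
    have φa : ∀ f, φ f = Coalgebra.counit (R := R) f • (1 : A') + C f • ((s : R) • x') := fun f => rfl
    have ψa : ∀ f, ψ f = Coalgebra.counit (R := R) f • (1 : A) + C' f • ((↑s⁻¹ : R) • x) := fun f => rfl
    have hC1 : C 1 = 0 := hu _ _ (by simp)
    have hC1' : C' 1 = 0 := hu' _ _ (by simp)
    have φ1 : φ 1 = 1 := by simp [φa, hC1]
    have φx : φ x = (s : R) • x' := by simp [φa, hx0, hCx]
    have ψ1 : ψ 1 = 1 := by simp [ψa, hC1']
    have ψx : ψ x' = (↑s⁻¹ : R) • x := by simp [ψa, hx0', hCx']
    let el : A ≃ₗ[R] A' := LinearEquiv.ofLinearMap φ ψ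
      (LinearMap.ext fun f => by
        show φ (ψ f) = f
        rw [hdec' f, map_add, map_add, map_smul, map_smul, map_smul, map_smul, ψ1, φ1, ψx, map_smul, φx]
        simp [smul_smul, mul_assoc])
      (LinearMap.ext fun f => by
        show ψ (φ f) = f
        rw [hdec f, map_add, map_add, map_smul, map_smul, map_smul, map_smul, φ1, ψ1, φx, map_smul, ψx]
        simp [smul_smul, mul_assoc])
    have hmulφ : ∀ f g, φ (f * g) = φ f * φ g := by
      intro f g
      rw [hdec f, hdec g]
      simp only [map_add, map_smul, add_mul, mul_add, smul_mul_assoc, mul_smul_comm, one_mul, mul_one, hxa, φ1, φx, hxa', smul_add, smul_smul]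
      rw [ha]; module
    let ea : A ≃ₐ[R] A' := AlgEquiv.ofLinearEquiv el φ1 hmulφ
    have h1 : (ea : A →ₐ[R] A').toLinearMap = φ := rfl
    refine ⟨BialgEquiv.ofAlgEquiv ea ?_ ?_⟩
    · apply AlgHom.ext; intro f
      show Coalgebra.counit (R := R) (φ f) = Coalgebra.counit (R := R) f
      rw [φa]; simp [hx0']
    · apply AlgHom.ext; intro f
      show TensorProduct.map φ φ (Bialgebra.comulAlgHom R A f) = Bialgebra.comulAlgHom R A' (φ f)
      rw [hdec f]
      simp only [map_add, map_smul, map_one, φ1, φx, hxb, hxb', Algebra.TensorProduct.one_def, TensorProduct.map_tmul, ← TensorProduct.smul_tmul', TensorProduct.tmul_smul, smul_add, smul_smul]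
      rw [hb]; module

end Groth.Agent.S18480
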