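import Groth.Statements.S18482
import Groth.Agent.Tors37.SubTorsorDvr
import Groth.Agent.Unr55.DescProps
import Mathlib.RingTheory.Flat.TorsionFree
import Mathlib.RingTheory.DiscreteValuationRing.Basic

set_option autoImplicit false
universe u
open CategoryTheory
open NonAbH1

namespace Groth.Agent.S18482

open CategoryTheory CategoryTheory.Limits MonoidalCategory AlgebraicGeometry in
theorem isLocalization_away {R : Type u} [CommRing R] [IsDomain R] [IsDiscreteValuationRing R] {ϖ : R}
    (hϖ : Irreducible ϖ) : IsLocalization.Away ϖ (FractionRing R) where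
  map_units := by
    rintro ⟨_, n, rfl⟩
    have : algebraMap R (FractionRing R) ϖ ≠ 0 :=
      (map_ne_zero_iff _ (IsFractionRing.injective R (FractionRing R))).mpr hϖ.ne_zero
    show IsUnit (algebraMap R (FractionRing R) (ϖ ^ n))
    rw [map_pow]
    exact (isUnit_iff_ne_zero.mpr this).pow n
  surj z := by
    obtain ⟨a, b, hb, rfl⟩ := IsFractionRing.div_surjective (A := R) z
    obtain ⟨n, u, rfl⟩ := IsDiscreteValuationRing.eq_unit_mul_pow_irreducible
      (nonZeroDivisors.ne_zero hb) hϖ
    refine ⟨(a * ↑u⁻¹, ⟨ϖ ^ n, n, rfl⟩), ?_⟩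
    have h1 : algebraMap R (FractionRing R) (↑u * ϖ ^ n) ≠ 0 :=
      (map_ne_zero_iff _ (IsFractionRing.injective R (FractionRing R))).mpr (nonZeroDivisors.ne_zero hb)
    have h2 : (ϖ : R) ^ n = ↑u⁻¹ * (↑u * ϖ ^ n) := by rw [← _root_.mul_assoc, Units.inv_mul, _root_.one_mul]
    show algebraMap R (FractionRing R) a / algebraMap R (FractionRing R) (↑u * ϖ ^ n) *
        algebraMap R (FractionRing R) (ϖ ^ n) = algebraMap R (FractionRing R) (a * ↑u⁻¹)
    generalize hw : (↑u * ϖ ^ n : R) = w at h1 h2 ⊢
    rw [h2, map_mul, map_mul]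
    field_simp
  exists_of_eq h := ⟨1, by rw [IsFractionRing.injective R (FractionRing R) h]⟩

open AlgebraicGeometry TopologicalSpace in
theorem schemDense_of_flat {R : Type u} [CommRing R] [IsDomain R] {ϖ : R} (hϖ : ϖ ≠ 0) {Y : Scheme.{u}}
    (g : Y ⟶ Spec (CommRingCat.of R)) [Flat g] :
    CInt.IsSchematicallyDense (g ⁻¹ᵁ PrimeSpectrum.basicOpen ϖ) := by
  classical
  let r : Γ(Y, ⊤) := g.appTop ((Scheme.ΓSpecIso (CommRingCat.of R)).inv ϖ)
  have hr : g ⁻¹ᵁ PrimeSpectrum.basicOpen ϖ = Y.basicOpen r := by
    rw [← Scheme.preimage_basicOpen_top, basicOpen_eq_of_affine]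
  rw [hr]
  refine Groth.Agent.LimTop61.isSchematicallyDense_of_regFam (fun V : Y.affineOpens => V.1) (fun V => V.2)
    (fun x => ?_) (fun V => {Y.presheaf.map (CategoryTheory.homOfLE (le_top : V.1 ≤ ⊤)).op r})
    (fun V x hx => ?_) (fun V b hb => ?_)
  · obtain ⟨V, hV, hx, -⟩ := exists_isAffineOpen_mem_and_subset (X := Y) (x := x) (U := ⊤) trivial
    exact ⟨⟨V, hV⟩, hx⟩
  · simp only [Finset.mem_singleton, exists_eq_left, Scheme.basicOpen_res]
    exact ⟨fun h => ⟨hx, h⟩, fun h => h.2⟩
  · have hb' := hb _ (Finset.mem_coe.mpr (Finset.mem_singleton_self _))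
    have hfl : (g.appLE ⊤ V.1 le_top).hom.Flat := g.flat_appLE (isAffineOpen_top _) V.2 le_top
    let ψ : R →+* Γ(Y, V.1) :=
      (g.appLE ⊤ V.1 le_top).hom.comp (Scheme.ΓSpecIso (CommRingCat.of R)).inv.hom
    have hψ : ψ.Flat := RingHom.Flat.comp
      (RingHom.Flat.of_bijective (Scheme.ΓSpecIso (CommRingCat.of R)).symm.commRingCatIsoToRingEquiv.bijective)
      hfl
    algebraize [ψ]
    have hreg : IsSMulRegular Γ(Y, V.1) ϖ := Module.Flat.isSMulRegular_of_isRegular
      (isLeftRegular_iff_isRegular.1 (IsLeftCancelMulZero.mul_left_cancel_of_ne_zero hϖ))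
    refine hreg ?_
    show ψ ϖ * b = ψ ϖ * 0
    rw [mul_zero]
    exact hb'

open CategoryTheory CategoryTheory.Limits AlgebraicGeometry in
theorem radical_of_reduced_special {R : Type u} [CommRing R] [IsLocalRing R] {ϖ : R}
    (hmax : IsLocalRing.maximalIdeal R = Ideal.span {ϖ}) {X : Scheme.{u}} [IsAffine X]
    (f : X ⟶ Spec (CommRingCat.of R))
    [AlgebraicGeometry.IsReduced (pullback f (Spec.map (CommRingCat.ofHom (IsLocalRing.residue R))))] :
    (Ideal.span {f.appTop ((Scheme.ΓSpecIso (CommRingCat.of R)).inv ϖ)}).IsRadical := by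
  let φ : CommRingCat.of R ⟶ Γ(X, ⊤) := (Scheme.ΓSpecIso (CommRingCat.of R)).inv ≫ f.appTop
  have hf : X.isoSpec.hom ≫ Spec.map φ = f := by
    rw [Spec.map_comp, Scheme.isoSpec_hom, ← Scheme.toSpecΓ_naturality_assoc]
    simp
  letI : Algebra R Γ(X, ⊤) := φ.hom.toAlgebra
  let res := Spec.map (CommRingCat.ofHom (IsLocalRing.residue R))
  let m := pullback.map f res (Spec.map φ) res X.isoSpec.hom (𝟙 _) (𝟙 _) (by simp [hf]) (by simp)
  have : IsIso m := inferInstanceAs (IsIso (pullback.map _ _ _ _ _ _ _ _ _))
  have h1 : AlgebraicGeometry.IsReduced (pullback (Spec.map φ) res) := isReduced_of_isOpenImmersion (inv m)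
  let e := pullbackSpecIso R Γ(X, ⊤) (R ⧸ IsLocalRing.maximalIdeal R)
  have h1' : AlgebraicGeometry.IsReduced (pullback (Spec.map (CommRingCat.ofHom (algebraMap R Γ(X, ⊤))))
      (Spec.map (CommRingCat.ofHom (algebraMap R (R ⧸ IsLocalRing.maximalIdeal R))))) := h1
  have h2 : AlgebraicGeometry.IsReduced
      (Spec (CommRingCat.of (TensorProduct R Γ(X, ⊤) (R ⧸ IsLocalRing.maximalIdeal R)))) :=
    isReduced_of_isOpenImmersion e.inv
  have h3 : _root_.IsReduced (TensorProduct R Γ(X, ⊤) (R ⧸ IsLocalRing.maximalIdeal R)) :=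
    isReduced_of_injective (Scheme.ΓSpecIso
      (CommRingCat.of (TensorProduct R Γ(X, ⊤) (R ⧸ IsLocalRing.maximalIdeal R)))).symm.commRingCatIsoToRingEquiv
      (Scheme.ΓSpecIso (CommRingCat.of (TensorProduct R Γ(X, ⊤) (R ⧸ IsLocalRing.maximalIdeal R)))).symm.commRingCatIsoToRingEquiv.injective
  let e2 := Algebra.TensorProduct.quotIdealMapEquivTensorQuot Γ(X, ⊤) (IsLocalRing.maximalIdeal R)
  have h4 : _root_.IsReduced (Γ(X, ⊤) ⧸ (IsLocalRing.maximalIdeal R).map (algebraMap R Γ(X, ⊤))) :=
    isReduced_of_injective e2 e2.injective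
  rw [Ideal.isRadical_iff_quotient_reduced]
  rwa [hmax, Ideal.map_span, Set.image_singleton] at h4

open CategoryTheory CategoryTheory.Limits MonoidalCategory CartesianMonoidalCategory MonObj AlgebraicGeometry in
theorem mono_shear_bc {S S' : Scheme.{u}} (g : S' ⟶ S) {G P : Over S} [GrpObj G]
    (a : AlgGrp.Action G P) [Mono (lift a.act (snd G P))] :
    Mono (lift (a.bc g).act (snd (Red.bc g G) (Red.bc g P))) := by
  have : Mono ((Over.pullback g).map (lift a.act (snd G P))) := inferInstance
  have key : lift (a.bc g).act (snd _ _) ≫ Functor.LaxMonoidal.μ (Over.pullback g) P P =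
      Functor.LaxMonoidal.μ (Over.pullback g) G P ≫ (Over.pullback g).map (lift a.act (snd G P)) := by
    rw [← Functor.Monoidal.lift_μ, comp_lift_assoc, Functor.Monoidal.μ_snd, AlgGrp.Action.bc_act]
  have : Mono (lift (a.bc g).act (snd _ _) ≫ Functor.LaxMonoidal.μ (Over.pullback g) P P) := by
    rw [key]; infer_instance
  exact mono_of_mono (lift (a.bc g).act (snd _ _)) (Functor.LaxMonoidal.μ (Over.pullback g) P P)


open CategoryTheory CategoryTheory.Limits MonoidalCategory AlgebraicGeometry in
/-- Let R be a discrete valuation ring with fraction field K, G a finite flat group scheme over Spec R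
and H a closed subgroup scheme of G, flat over Spec R. Let X be a scheme faithfully flat over Spec R
whose generic and special fibres are reduced and irreducible, and P an affine X-scheme with an
action of the base change of G making it a torsor for the fpqc topology over X. Let Z be a closed
subscheme of P which is flat over Spec R (equivalently: Z is the scheme-theoretic closure in P of
its generic fibre), and suppose that the generic fibre of Z is stable under H, through an action for
which its inclusion into the generic fibre of P is equivariant (H acting on P through G), and is an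
fpqc torsor under H over the generic fibre of X. Then Z itself is stable under H: there is an action
of the base change of H on Z for which the inclusion of Z in P is equivariant, and with it Z is an
fpqc torsor under H over X. (The published statement concerns the Zariski closure in P of a closed
sub-torsor of the generic fibre of P; over a discrete valuation ring a closed subscheme of P is such
a closure exactly when it is flat over R, so the two formulations are equivalent. Flatness of H over
R, which the published notion of torsor requires of the structure group, is assumed explicitly here;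
H is also taken closed in G, which the conclusion forces (a torsor under H over X, finite over X,
makes H finite over R, hence closed in G) and which the proof uses. Torsors are written with left
actions and fpqc-local triviality, the published ones with right actions and an affine faithfully
flat structure map, an equivalent notion for a finite flat group.) -/
theorem result
    (R : Type u) [CommRing R] [IsDomain R] [IsDiscreteValuationRing R]
    (G : Over (Spec (CommRingCat.of R))) [GrpObj G] [IsFinite G.hom] [Flat G.hom]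
    (H : Over (Spec (CommRingCat.of R))) [GrpObj H] [Flat H.hom]
    (i : H ⟶ G) [IsMonHom i] [IsClosedImmersion i.left]
    (X : Scheme.{u}) (f : X ⟶ Spec (CommRingCat.of R)) [Flat f] [Surjective f]
    [AlgebraicGeometry.IsReduced (pullback f (Spec.map (CommRingCat.ofHom (algebraMap R (FractionRing R)))))]
    [IrreducibleSpace ↥(pullback f (Spec.map (CommRingCat.ofHom (algebraMap R (FractionRing R)))))]
    [AlgebraicGeometry.IsReduced (pullback f (Spec.map (CommRingCat.ofHom (IsLocalRing.residue R))))]
    [IrreducibleSpace ↥(pullback f (Spec.map (CommRingCat.ofHom (IsLocalRing.residue R))))]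
    (P : Over X) [IsAffineHom P.hom] (a : AlgGrp.Action (Red.bc f G) P)
    (hP : NonAbH1.IsTorsorFor Scheme.fpqcPrecoverage a)
    (Z : Over X) (j : Z ⟶ P) [IsClosedImmersion j.left] [Flat (Z.hom ≫ f)]
    (bη : AlgGrp.Action
      (Red.bc (pullback.fst f (Spec.map (CommRingCat.ofHom (algebraMap R (FractionRing R))))) (Red.bc f H))
      (Red.bc (pullback.fst f (Spec.map (CommRingCat.ofHom (algebraMap R (FractionRing R))))) Z))
    (hj : AlgGrp.Action.IsEquivariant bη
      (((a.restrict ((Over.pullback f).map i)).bc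
        (pullback.fst f (Spec.map (CommRingCat.ofHom (algebraMap R (FractionRing R)))))))
      ((Over.pullback (pullback.fst f (Spec.map (CommRingCat.ofHom (algebraMap R (FractionRing R)))))).map j))
    (hZ : NonAbH1.IsTorsorFor Scheme.fpqcPrecoverage bη) :
    ∃ b : AlgGrp.Action (Red.bc f H) Z,
      AlgGrp.Action.IsEquivariant b (a.restrict ((Over.pullback f).map i)) j ∧
      NonAbH1.IsTorsorFor Scheme.fpqcPrecoverage b := by
  classical
  obtain ⟨ϖ, hϖ⟩ := IsDiscreteValuationRing.exists_irreducible R
  have := isLocalization_away hϖ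
  let S := Spec (CommRingCat.of R)
  let η : Spec (CommRingCat.of (FractionRing R)) ⟶ S := Spec.map (CommRingCat.ofHom (algebraMap R (FractionRing R)))
  have hη : IsOpenImmersion η := IsOpenImmersion.of_isLocalization ϖ
  let ι : pullback f η ⟶ X := pullback.fst f η
  have hι : IsOpenImmersion ι := inferInstanceAs (IsOpenImmersion (pullback.fst f η))
  have hrange : ι.opensRange = f ⁻¹ᵁ PrimeSpectrum.basicOpen ϖ := by
    refine TopologicalSpace.Opens.ext ?_
    show Set.range (pullback.fst f η) = _
    rw [Scheme.Pullback.range_fst]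
    exact congrArg (f ⁻¹' ·) (PrimeSpectrum.localization_away_comap_range (FractionRing R) ϖ)
  have hdense : ∀ {Y : Scheme.{u}} (g : Y ⟶ X), Flat (g ≫ f) →
      CInt.IsSchematicallyDense (g ⁻¹ᵁ ι.opensRange) := fun g hg => by
    rw [hrange, ← Scheme.Hom.comp_preimage]
    exact schemDense_of_flat hϖ.ne_zero (g ≫ f)
  -- the groups and the restricted action
  let φ : Red.bc f H ⟶ Red.bc f G := (Over.pullback f).map i
  let a' : AlgGrp.Action (Red.bc f H) P := a.restrict φ
  have hHfin : IsFinite H.hom := by rw [← Over.w i]; infer_instance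
  have hHlfp : LocallyOfFinitePresentation H.hom := inferInstance
  have hHX : IsFinite (Red.bc f H).hom := MorphismProperty.pullback_snd (P := @IsFinite) _ _ hHfin
  have hHXf : Flat (Red.bc f H).hom := MorphismProperty.pullback_snd (P := @Flat) _ _ ‹_›
  have hHXp : LocallyOfFinitePresentation (Red.bc f H).hom :=
    MorphismProperty.pullback_snd (P := @LocallyOfFinitePresentation) _ _ hHlfp
  have hPfin : IsFinite P.hom := by
    have := Groth.Agent.Unr55.isFinite.{u}
    exact Groth.Agent.Sga84.hom_of_isTorsorFor @IsFinite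
      (MorphismProperty.pullback_snd (P := @IsFinite) _ _ ‹_›) hP
  have hZfin : IsFinite Z.hom := by rw [← Over.w j]; infer_instance
  have hmono : Mono (CartesianMonoidalCategory.lift a'.act (CartesianMonoidalCategory.snd _ P)) := by
    have : IsIso (CartesianMonoidalCategory.lift a.act (CartesianMonoidalCategory.snd (Red.bc f G) P)) := hP.1
    have : IsClosedImmersion φ.left := MorphismProperty.of_isPullback (P := @IsClosedImmersion)
      (IsPullback.of_bot (v₂₁ := pullback.snd G.hom f) (v₂₂ := G.hom)
        (by rw [Over.w i, show φ.left ≫ pullback.snd G.hom f = pullback.snd H.hom f from Over.w φ]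
            exact IsPullback.of_hasPullback _ _)
        (ActBC.pullback_map_left_fst (g := f) i).symm (IsPullback.of_hasPullback _ _)) ‹_›
    have : Mono φ := Over.mono_of_mono_left φ
    have : CartesianMonoidalCategory.lift a'.act (CartesianMonoidalCategory.snd _ P) =
        (φ ▷ P) ≫ CartesianMonoidalCategory.lift a.act (CartesianMonoidalCategory.snd _ P) := by
      rw [CartesianMonoidalCategory.comp_lift, CartesianMonoidalCategory.whiskerRight_snd]; rfl
    have hφP : Mono (φ ▷ P) := by
      refine ⟨fun x y h => CartesianMonoidalCategory.hom_ext _ _ ?_ ?_⟩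
      · rw [← cancel_mono φ, Category.assoc, Category.assoc, ← CartesianMonoidalCategory.whiskerRight_fst,
          reassoc_of% h]
      · simpa using congrArg (· ≫ CartesianMonoidalCategory.snd _ _) h
    rw [this]
    infer_instance
  -- the action on Z
  have hjm : Mono j := Over.mono_of_mono_left j
  let w := (Red.bc f H ◁ j) ≫ a'.act
  have hfac : ∃ c : Red.bc f H ⊗ Z ⟶ Z, c ≫ j = w := by
    have hflat : Flat ((Red.bc f H ⊗ Z).hom ≫ f) := by
      have : Flat (CartesianMonoidalCategory.snd (Red.bc f H) Z).left :=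
        MorphismProperty.pullback_snd (P := @Flat) (Red.bc f H).hom Z.hom hHXf
      rw [← Over.w (CartesianMonoidalCategory.snd (Red.bc f H) Z), Category.assoc]
      infer_instance
    let c₀ := pullback.snd j.left w.left
    let q := pullback.fst (Red.bc f H ⊗ Z).hom ι
    have e : (inv (Functor.LaxMonoidal.μ (Over.pullback ι) (Red.bc f H) Z) ≫ bη.act).left ≫
        pullback.fst Z.hom ι ≫ j.left = q ≫ w.left := by
      have h1 : bη.act ≫ (Over.pullback ι).map j =
          (Red.bc ι (Red.bc f H) ◁ (Over.pullback ι).map j) ≫ (a'.bc ι).act := hj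
      rw [AlgGrp.Action.bc_act, Functor.LaxMonoidal.μ_natural_right_assoc, ← Functor.map_comp] at h1
      have h2 : inv (Functor.LaxMonoidal.μ (Over.pullback ι) (Red.bc f H) Z) ≫ bη.act ≫
          (Over.pullback ι).map j = (Over.pullback ι).map w := by
        rw [IsIso.inv_comp_eq]; exact h1
      rw [← ActBC.pullback_map_left_fst (g := ι) j, ← ActBC.pullback_map_left_fst (g := ι) w, ← h2]
      simp only [Over.comp_left, Category.assoc]
    let k : ((((Red.bc f H ⊗ Z).hom ⁻¹ᵁ ι.opensRange) : (Red.bc f H ⊗ Z).left.Opens) : Scheme.{u}) ⟶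
        pullback j.left w.left :=
      IsOpenImmersion.lift q ((Red.bc f H ⊗ Z).hom ⁻¹ᵁ ι.opensRange).ι (by
        rw [Scheme.Opens.range_ι, Scheme.Pullback.range_fst]
        exact subset_refl _) ≫
      pullback.lift ((inv (Functor.LaxMonoidal.μ (Over.pullback ι) (Red.bc f H) Z) ≫ bη.act).left ≫
        pullback.fst Z.hom ι) q (by rw [Category.assoc, e])
    have : IsIso c₀ := Groth.Agent.SGA3a.isIso_of_schemDense c₀ _ (hdense _ hflat) k (by
      simp only [k, c₀, Category.assoc, pullback.lift_snd]
      exact IsOpenImmersion.lift_fac _ _ _)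
    have hc : (inv c₀ ≫ pullback.fst j.left w.left) ≫ j.left = w.left := by
      rw [Category.assoc, pullback.condition, IsIso.inv_hom_id_assoc]
    exact ⟨Over.homMk (inv c₀ ≫ pullback.fst j.left w.left) (by
      rw [← Over.w j, ← Category.assoc, hc, Over.w]), Over.OverMorphism.ext hc⟩
  obtain ⟨c, hc⟩ := hfac
  let b : AlgGrp.Action (Red.bc f H) Z :=
    { act := c
      one_act := by
        rw [← cancel_mono j, Category.assoc, hc, ← whisker_exchange_assoc, a'.one_act]
        exact leftUnitor_naturality j
      mul_act := by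
        rw [← cancel_mono j]
        simp only [Category.assoc, MonoidalCategory.whiskerLeft_comp]
        rw [hc, ← whisker_exchange_assoc, a'.mul_act, ← MonoidalCategory.whiskerLeft_comp_assoc, hc,
          MonoidalCategory.whiskerLeft_comp_assoc, associator_naturality_right_assoc] }
  have hbj : AlgGrp.Action.IsEquivariant b a' j := hc
  refine ⟨b, hbj, ?_⟩
  have hbη : b.bc ι = bη := AlgGrp.Action.ext' (by
    have hm : Mono ((Over.pullback ι).map j) := inferInstance
    rw [← cancel_mono ((Over.pullback ι).map j)]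
    exact (AlgGrp.Action.isEquivariant_bc ι hbj).trans hj.symm)
  have hgen : NonAbH1.IsTorsorFor Scheme.fpqcPrecoverage (b.bc ι) := hbη ▸ hZ
  -- on affine opens
  have key : ∀ V : X.affineOpens, NonAbH1.IsTorsorFor Scheme.fpqcPrecoverage (b.bc V.1.ι) := by
    rintro ⟨V, hV⟩
    have : IsAffine (V : Scheme.{u}) := hV
    let fV := V.ι ≫ f
    let ϖV : Γ((V : Scheme.{u}), ⊤) := fV.appTop ((Scheme.ΓSpecIso (CommRingCat.of R)).inv ϖ)
    have hUV : (V : Scheme.{u}).basicOpen ϖV = V.ι ⁻¹ᵁ ι.opensRange := by
      rw [hrange, ← Scheme.Hom.comp_preimage, ← Scheme.preimage_basicOpen_top, basicOpen_eq_of_affine]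
    let e : ((V : Scheme.{u}).basicOpen ϖV : Scheme.{u}) ⟶ pullback f η :=
      IsOpenImmersion.lift ι (((V : Scheme.{u}).basicOpen ϖV).ι ≫ V.ι) (by
        rintro _ ⟨x, rfl⟩
        have hx : (x.1 : (V : Scheme.{u})) ∈ V.ι ⁻¹ᵁ ι.opensRange := hUV ▸ x.2
        exact hx)
    have he : e ≫ ι = ((V : Scheme.{u}).basicOpen ϖV).ι ≫ V.ι := IsOpenImmersion.lift_fac _ _ _
    have hredU : AlgebraicGeometry.IsReduced ((V : Scheme.{u}).basicOpen ϖV : Scheme.{u}) := by
      have : IsOpenImmersion (e ≫ ι) := by rw [he]; infer_instance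
      have : IsOpenImmersion e := IsOpenImmersion.of_comp e ι
      exact isReduced_of_isOpenImmersion e
    have hdV : ∀ {Y : Scheme.{u}} (g : Y ⟶ (V : Scheme.{u})), Flat g →
        CInt.IsSchematicallyDense (g ⁻¹ᵁ (V : Scheme.{u}).basicOpen ϖV) := fun g hg => by
      rw [hUV, ← Scheme.Hom.comp_preimage]
      exact hdense _ inferInstance
    have hredV : AlgebraicGeometry.IsReduced (V : Scheme.{u}) := by
      have hd0 : CInt.IsSchematicallyDense ((V : Scheme.{u}).basicOpen ϖV) := hdV (𝟙 _) inferInstance
      have : _root_.IsReduced Γ((V : Scheme.{u}), ⊤) :=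
        isReduced_of_injective ((V : Scheme.{u}).basicOpen ϖV).ι.appTop.hom fun x y hxy =>
          Groth.Agent.Tors37.eq_of_schemDense hd0 hxy
      exact isReduced_of_isOpenImmersion (V : Scheme.{u}).isoSpec.hom
    have hrad : (Ideal.span {ϖV}).IsRadical := by
      have : AlgebraicGeometry.IsReduced (pullback fV (Spec.map (CommRingCat.ofHom (IsLocalRing.residue R)))) :=
        isReduced_of_isOpenImmersion (pullback.map fV _ f (Spec.map (CommRingCat.ofHom (IsLocalRing.residue R)))
          V.ι (𝟙 _) (𝟙 _) (by rw [Category.comp_id]) (by rw [Category.comp_id, Category.id_comp]))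
      exact radical_of_reduced_special hϖ.maximalIdeal_eq fV
    have hf1 : IsFinite (Red.bc V.ι (Red.bc f H)).hom := MorphismProperty.pullback_snd (P := @IsFinite) _ _ hHX
    have hf2 : Flat (Red.bc V.ι (Red.bc f H)).hom := MorphismProperty.pullback_snd (P := @Flat) _ _ hHXf
    have hf3 : LocallyOfFinitePresentation (Red.bc V.ι (Red.bc f H)).hom :=
      MorphismProperty.pullback_snd (P := @LocallyOfFinitePresentation) _ _ hHXp
    have hf4 : IsAffine (Red.bc V.ι P).left := by
      have : IsAffineHom (Red.bc V.ι P).hom := MorphismProperty.pullback_snd (P := @IsAffineHom) _ _ ‹_›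
      exact isAffine_of_isAffineHom (Red.bc V.ι P).hom
    have hf5 : IsClosedImmersion ((Over.pullback V.ι).map j).left := by
      refine MorphismProperty.of_isPullback (P := @IsClosedImmersion)
        (IsPullback.of_bot (v₂₁ := pullback.snd P.hom V.ι) (v₂₂ := P.hom) ?_
          (ActBC.pullback_map_left_fst (g := V.ι) j).symm (IsPullback.of_hasPullback _ _)) ‹_›
      rw [Over.w j, show ((Over.pullback V.ι).map j).left ≫ pullback.snd P.hom V.ι = pullback.snd Z.hom V.ι
        from Over.w ((Over.pullback V.ι).map j)]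
      exact IsPullback.of_hasPullback _ _
    have hf6 : IsFinite (Red.bc V.ι Z).hom := MorphismProperty.pullback_snd (P := @IsFinite) _ _ hZfin
    have hm := mono_shear_bc V.ι a'
    have hmL : Mono (CartesianMonoidalCategory.lift (a'.bc V.ι).act
        (CartesianMonoidalCategory.snd _ (Red.bc V.ι P))).left := inferInstance
    refine Groth.Agent.Tors37.isTorsorFor_of_generic ϖV hrad (a'.bc V.ι) hmL ((Over.pullback V.ι).map j)
      (b.bc V.ι) (AlgGrp.Action.isEquivariant_bc V.ι hbj) hdV ?_ ?_
    · rw [hUV, ← Scheme.Hom.comp_preimage]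
      refine hdense _ ?_
      show Flat ((pullback.snd Z.hom V.ι ≫ V.ι) ≫ f)
      rw [← pullback.condition, Category.assoc]
      infer_instance
    · rw [Groth.Agent.Tors37.isTorsorFor_bc_comp_iff _ _ rfl]
      rw [← Groth.Agent.Tors37.isTorsorFor_bc_comp_iff e ι he]
      exact NonAbH1.isTorsorFor_bc e _ hgen
  -- glue
  have hflatZ : Flat Z.hom := by
    rw [IsZariskiLocalAtTarget.iff_of_iSup_eq_top (P := @Flat) (fun U : X.affineOpens => U.1)
      (iSup_affineOpens_eq_top _)]
    intro V
    have := Groth.Agent.Sga84.flat_descendsAlong.{u}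
    have hVf : Flat (pullback.snd Z.hom V.1.ι) := Groth.Agent.Sga84.hom_of_isTorsorFor @Flat
      (MorphismProperty.pullback_snd (P := @Flat) _ _ hHXf) (key V)
    rw [← (isPullback_morphismRestrict Z.hom V.1).flip.isoPullback_hom_snd]
    exact (MorphismProperty.cancel_left_of_respectsIso @Flat _ _).mpr hVf
  have hsurjZ : Surjective Z.hom := by
    refine ⟨fun x => ?_⟩
    obtain ⟨V, hV, hx, -⟩ := exists_isAffineOpen_mem_and_subset (X := X) (x := x) (U := ⊤) trivial
    obtain ⟨z, hz⟩ := (Groth.Agent.Sga84.surjective_of_isLocallyTrivialFor (key ⟨V, hV⟩).2).surj ⟨x, hx⟩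
    refine ⟨pullback.fst Z.hom V.ι z, ?_⟩
    rw [← Scheme.Hom.comp_apply, pullback.condition, Scheme.Hom.comp_apply,
      show pullback.snd Z.hom V.ι z = ⟨x, hx⟩ from hz]
    rfl
  refine ⟨?_, Presieve.singleton Z.hom, Z.hom.singleton_mem_fpqcPrecoverage, ?_⟩
  · let u := CartesianMonoidalCategory.lift b.act (CartesianMonoidalCategory.snd (Red.bc f H) Z)
    have hu : IsIso u.left := by
      refine (IsZariskiLocalAtTarget.iff_of_iSup_eq_top (P := MorphismProperty.isomorphisms Scheme.{u})
        (fun U : X.affineOpens => (Z ⊗ Z).hom ⁻¹ᵁ U.1) ?_).mpr fun V => ?_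
      · rw [← Scheme.Hom.preimage_iSup, iSup_affineOpens_eq_top]; rfl
      · have h1 : IsIso ((Over.pullback V.1.ι).map u) := by
          have h2 : IsIso (CartesianMonoidalCategory.lift (b.bc V.1.ι).act
              (CartesianMonoidalCategory.snd _ (Red.bc V.1.ι Z))) := (key V).1
          have : IsIso (Functor.LaxMonoidal.μ (Over.pullback V.1.ι) (Red.bc f H) Z ≫
              (Over.pullback V.1.ι).map u) := by
            rw [show Functor.LaxMonoidal.μ (Over.pullback V.1.ι) (Red.bc f H) Z ≫
              (Over.pullback V.1.ι).map u = CartesianMonoidalCategory.lift (b.bc V.1.ι).act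
                (CartesianMonoidalCategory.snd _ (Red.bc V.1.ι Z)) ≫
                Functor.LaxMonoidal.μ (Over.pullback V.1.ι) Z Z by
              rw [← Functor.Monoidal.lift_μ, CartesianMonoidalCategory.comp_lift_assoc,
                Functor.Monoidal.μ_snd, AlgGrp.Action.bc_act]]
            infer_instance
          exact IsIso.of_isIso_comp_left (Functor.LaxMonoidal.μ (Over.pullback V.1.ι) (Red.bc f H) Z) _
        have h1' : IsIso ((Over.pullback V.1.ι).map u).left :=
          Functor.map_isIso (Over.forget _) ((Over.pullback V.1.ι).map u)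
        have sq : IsPullback (pullback.fst (Red.bc f H ⊗ Z).hom V.1.ι) ((Over.pullback V.1.ι).map u).left
            u.left (pullback.fst (Z ⊗ Z).hom V.1.ι) := by
          refine IsPullback.of_bot (v₂₁ := pullback.snd (Z ⊗ Z).hom V.1.ι) (v₂₂ := (Z ⊗ Z).hom) ?_
            (ActBC.pullback_map_left_fst (g := V.1.ι) u).symm (IsPullback.of_hasPullback _ _)
          rw [Over.w u, show ((Over.pullback V.1.ι).map u).left ≫ pullback.snd (Z ⊗ Z).hom V.1.ι =
            pullback.snd (Red.bc f H ⊗ Z).hom V.1.ι from Over.w ((Over.pullback V.1.ι).map u)]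
          exact IsPullback.of_hasPullback _ _
        have h3 : IsIso (pullback.snd u.left (pullback.fst (Z ⊗ Z).hom V.1.ι)) :=
          (MorphismProperty.cancel_left_of_respectsIso (MorphismProperty.isomorphisms Scheme.{u})
            sq.isoPullback.hom _).mp (by rw [sq.isoPullback_hom_snd]; exact h1')
        let o := (isPullback_morphismRestrict (Z ⊗ Z).hom V.1).flip
        have sq2 : IsPullback (u.left ⁻¹ᵁ ((Z ⊗ Z).hom ⁻¹ᵁ V.1)).ι (u.left ∣_ _ ≫ o.isoPullback.hom)
            u.left (pullback.fst (Z ⊗ Z).hom V.1.ι) :=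
          ((isPullback_morphismRestrict u.left _).flip).of_iso (Iso.refl _) (Iso.refl _) o.isoPullback (Iso.refl _)
            (by simp) (by simp) (by simp) (by simp)
        have h4 : IsIso (u.left ∣_ ((Z ⊗ Z).hom ⁻¹ᵁ V.1) ≫ o.isoPullback.hom) := by
          rw [← sq2.isoPullback_hom_snd]; infer_instance
        exact IsIso.of_isIso_comp_right _ o.isoPullback.hom
    have : IsIso ((Over.forget X).map u) := hu
    exact isIso_of_reflects_iso u (Over.forget X)
  · rintro S' g ⟨⟩
    exact ⟨𝟙 _, Category.id_comp _⟩

end Groth.Agent.S18482
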