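import Groth.Statements.S18484
import Groth.Agent.NeronHD28.Generic
-- import your own Groth.Agent.* helpers here

set_option autoImplicit false
universe u
open CategoryTheory CategoryTheory.Limits AlgebraicGeometry MonObj
open Neron

namespace Groth.Agent.S18484

/-- Let R be a Dedekind domain with fraction field K, X a Spec R-scheme which is a Néron model of its
generic fibre X_K, and i : G → X a closed immersion with G smooth over Spec R. Then G is a Néron
model of its generic fibre G_K: smooth, separated, of finite type, and for every smooth Spec
R-scheme Y restriction to generic fibres is a bijection from R-morphisms Y → G onto K-morphisms Y_K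
→ G_K. (The source states this for a closed subgroup scheme of a Néron model; the group laws play no
part and are not assumed. The converse direction of the source, that a Néron model is a closed
subgroup of a Néron model, is immediate and not stated.) -/
theorem result (R : Type u) [CommRing R] [IsDedekindDomain R]
    (X G : Over (Spec (CommRingCat.of R))) (hX : Neron.IsNeronModelOf R X ((Neron.genericFibre R).obj X) (Iso.refl _))
    (i : G ⟶ X) [IsClosedImmersion i.left] [Smooth G.hom] :
    Neron.IsNeronModelOf R G ((Neron.genericFibre R).obj G) (Iso.refl _) := by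
  obtain ⟨hs, hsep, hft, hqc, hmap⟩ := hX
  have hw : i.left ≫ X.hom = G.hom := Over.w i
  refine ⟨inferInstance, hw ▸ inferInstance, hw ▸ inferInstance, hw ▸ inferInstance, fun Y hY => ⟨fun g₁ g₂ hg => ?_, fun w => ?_⟩⟩
  · simp only [Iso.refl_hom, Category.comp_id] at hg
    have h1 : g₁ ≫ i = g₂ ≫ i := (hmap Y hY).1 (by
      simp only [Iso.refl_hom, Category.comp_id, CategoryTheory.Functor.map_comp, hg])
    ext : 1
    exact (cancel_mono i.left).1 (congrArg Over.Hom.left h1)
  · obtain ⟨g, hg⟩ := (hmap Y hY).2 (w ≫ (Neron.genericFibre R).map i)
    simp only [Iso.refl_hom, Category.comp_id] at hg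
    have : Smooth Y.hom := hY
    have := NeronHD28.schDom_fst_genPt Y.hom
    have h2 : (w.left ≫ Limits.pullback.fst G.hom (Neron.genPt R)) ≫ i.left =
        Limits.pullback.fst Y.hom (Neron.genPt R) ≫ g.left := by
      rw [← NeronHD28.genericFibre_map_left_fst g, hg, Over.comp_left, Category.assoc, Category.assoc,
        NeronHD28.genericFibre_map_left_fst i]
    obtain ⟨g', hg'⟩ := NeronHD28.exists_lift_of_schDom (Limits.pullback.fst Y.hom (Neron.genPt R)) i.left g.left _ h2
    let g₀ : Y ⟶ G := Over.homMk g' (by rw [← hw, ← Category.assoc, hg', Over.w g])
    refine ⟨g₀, ?_⟩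
    simp only [Iso.refl_hom, Category.comp_id]
    have : Mono ((Neron.genericFibre R).map i) := by
      have : Mono i := (Over.forget _).mono_of_mono_map (inferInstanceAs (Mono i.left))
      infer_instance
    refine (cancel_mono ((Neron.genericFibre R).map i)).1 ?_
    rw [← CategoryTheory.Functor.map_comp, ← hg]
    congr 1
    ext : 1
    exact hg'

end Groth.Agent.S18484
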