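import Groth.Statements.S18487
import Groth.Agent.Crv77.Extend
import Groth.Agent.Sga84.TorsorDesc
import Mathlib.RingTheory.DedekindDomain.Dvr

set_option autoImplicit false
universe u
open CategoryTheory CategoryTheory.Limits AlgebraicGeometry MonObj
open NonAbH1

namespace Groth.Agent.S18487

/-- Let R be a Dedekind domain with fraction field K, G a proper flat group scheme over Spec R, and P a
Spec R-scheme with an action of G making it a G-torsor for the fppf topology (a pseudo-torsor
acquiring sections on the members of an fppf covering family). If P acquires a section over the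
generic point Spec K → Spec R, then P has a section over Spec R: a generically trivial torsor is
trivial. (The source allows any connected Dedekind scheme as base and torsors that are fppf sheaves,
shown there to be schemes; the affine base and scheme torsors are stated.) -/
theorem result (R : Type u) [CommRing R] [IsDedekindDomain R]
    (G : Over (Spec (CommRingCat.of R))) [GrpObj G] [IsProper G.hom] [Flat G.hom]
    (P : NonAbH1.TorsorSch G Scheme.fppfPrecoverage) (h : NonAbH1.HasSectionOver P.X (Neron.genPt R)) :
    NonAbH1.HasSectionOver P.X (𝟙 (Spec (CommRingCat.of R))) := by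
  have hfpqc : NonAbH1.IsTorsorFor Scheme.fpqcPrecoverage P.act := by
    obtain ⟨hps, S, hS, hsec⟩ := P.isTorsor
    exact ⟨hps, S, Scheme.fppfPrecoverage_le_fpqcPrecoverage _ hS, hsec⟩
  have := Groth.Agent.Unr55.isProper.{u}
  have hY : IsProper P.X.hom := Groth.Agent.Sga84.hom_of_isTorsorFor @IsProper ‹IsProper G.hom› hfpqc
  -- the point over the function field
  obtain ⟨w, hw⟩ := h
  letI : Algebra R (Spec (CommRingCat.of R)).functionField := (StructureSheaf.toStalk R (genericPoint (Spec (CommRingCat.of R)))).hom.toAlgebra
  have : IsFractionRing R (Spec (CommRingCat.of R)).functionField := functionField_isFractionRing_of_affine (CommRingCat.of R)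
  let e := IsLocalization.algEquiv (nonZeroDivisors R) (FractionRing R) (Spec (CommRingCat.of R)).functionField
  let ψ : CommRingCat.of (FractionRing R) ⟶ (Spec (CommRingCat.of R)).functionField := CommRingCat.ofHom e.toRingEquiv.toRingHom
  have hψ : Spec.map ψ ≫ Neron.genPt R = (Spec (CommRingCat.of R)).fromSpecStalk (genericPoint (Spec (CommRingCat.of R))) := by
    rw [Spec.fromSpecStalk_eq', ← Spec.map_comp]
    congr 1
    ext r
    exact e.commutes r
  have hφ : (Spec.map ψ ≫ w) ≫ P.X.hom = (Spec (CommRingCat.of R)).fromSpecStalk (genericPoint (Spec (CommRingCat.of R))) ≫ 𝟙 (Spec (CommRingCat.of R)) := by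
    rw [Category.assoc, hw, hψ, Category.comp_id]
  let p := Scheme.PartialMap.ofFromSpecStalk (𝟙 (Spec (CommRingCat.of R))) P.X.hom _ hφ
  have hp : p.hom ≫ P.X.hom = p.domain.ι ≫ 𝟙 (Spec (CommRingCat.of R)) := Scheme.PartialMap.ofFromSpecStalk_comp _ _ _ hφ
  have hU : (p.domain : Set (Spec (CommRingCat.of R))).Nonempty := ⟨_, Scheme.PartialMap.mem_domain_ofFromSpecStalk _ _ _ hφ⟩
  have : P.X.left.IsSeparated := by
    rw [Scheme.isSeparated_iff, ← Limits.terminal.comp_from P.X.hom]
    infer_instance
  have hval : ∀ x : (Spec (CommRingCat.of R)), ValuationRing ((Spec (CommRingCat.of R)).presheaf.stalk x) := by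
    intro x
    let q : Ideal R := x.asIdeal
    have hq : q.IsPrime := x.isPrime
    letI : Algebra R ((Spec (CommRingCat.of R)).presheaf.stalk x) := (StructureSheaf.toStalk R x).hom.toAlgebra
    have hloc : IsLocalization.AtPrime ((Spec (CommRingCat.of R)).presheaf.stalk x) q :=
      StructureSheaf.IsLocalization.to_stalk R x
    have : IsDomain ((Spec (CommRingCat.of R)).presheaf.stalk x) := inferInstance
    rcases eq_or_ne q ⊥ with hq0 | hq0
    · have hf : IsField ((Spec (CommRingCat.of R)).presheaf.stalk x) := by
        rw [IsLocalRing.isField_iff_maximalIdeal_eq, ← IsLocalization.AtPrime.map_eq_maximalIdeal q, hq0,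
          Ideal.map_bot]
      let _ := hf.toField
      exact ValuationRing.of_field _
    · have : IsDiscreteValuationRing ((Spec (CommRingCat.of R)).presheaf.stalk x) :=
        IsLocalization.AtPrime.isDiscreteValuationRing_of_dedekind_domain R hq0 _
      infer_instance
  let p' := p.toRationalMap.toPartialMap
  have hdom : p.toRationalMap.domain = ⊤ := by
    refine TopologicalSpace.Opens.ext (Set.eq_univ_of_forall fun x => ?_)
    have := hval x
    obtain ⟨U', hUU', f', hxU', hf', hres⟩ :=
      Groth.Agent.Crv77.exists_extend (𝟙 (Spec (CommRingCat.of R))) P.X.hom p.domain hU p.hom hp x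
    let g : (Spec (CommRingCat.of R)).PartialMap P.X.left := ⟨U', U'.2.dense ⟨x, hxU'⟩, f'⟩
    have hg : g.toRationalMap = p.toRationalMap := by
      rw [← Scheme.PartialMap.restrict_toRationalMap g p.domain p.dense_domain hUU']
      congr 1
      exact Scheme.PartialMap.ext _ _ rfl (hres.trans (by erw [Scheme.isoOfEq_rfl]; exact (Category.id_comp _).symm))
    exact hg ▸ g.le_domain_toRationalMap hxU'
  let : (Spec (CommRingCat.of R)).Over (Spec (CommRingCat.of R)) := ⟨𝟙 (Spec (CommRingCat.of R))⟩
  let : P.X.left.Over (Spec (CommRingCat.of R)) := ⟨P.X.hom⟩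
  have : p.IsOver (Spec (CommRingCat.of R)) := ⟨hp⟩
  have hov : p'.hom ≫ P.X.hom = p'.domain.ι ≫ 𝟙 (Spec (CommRingCat.of R)) := (inferInstance : p'.IsOver (Spec (CommRingCat.of R))).1
  refine ⟨(Spec (CommRingCat.of R)).topIso.inv ≫ ((Spec (CommRingCat.of R)).isoOfEq hdom.symm).hom ≫ p'.hom, ?_⟩
  rw [Category.assoc, Category.assoc]
  erw [hov, Category.comp_id, Scheme.isoOfEq_hom_ι]
  exact (Spec (CommRingCat.of R)).topIso.inv_hom_id

end Groth.Agent.S18487
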