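import Groth.Statements.S18490
import Mathlib.AlgebraicGeometry.Morphisms.UniversallyOpen
import Mathlib.AlgebraicGeometry.Cover.QuasiCompact
import Groth.Agent.FlatMor68.Basic

set_option autoImplicit false
universe u
open CategoryTheory CategoryTheory.Limits AlgebraicGeometry
open FlatMor

namespace Groth.Agent.S18490

open CategoryTheory CategoryTheory.Limits AlgebraicGeometry TopologicalSpace Groth.Agent.FlatMor68.Basic

/-- Let f : X → S and g : Y → S be morphisms of schemes and suppose that g has a section y : S → Y. If
the structure morphism X ×_S Y → S (first projection followed by f) is quasi-compact, then so is f;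
likewise for locally of finite type, for separated, and for flat. (Finite type, also listed in the
source, is the conjunction of the first two.) -/
theorem result {X Y S : Scheme.{u}} (f : X ⟶ S) (g : Y ⟶ S)
    (y : S ⟶ Y) (hy : y ≫ g = 𝟙 S) :
    (QuasiCompact (pullback.fst f g ≫ f) → QuasiCompact f) ∧
    (LocallyOfFiniteType (pullback.fst f g ≫ f) → LocallyOfFiniteType f) ∧
    (IsSeparated (pullback.fst f g ≫ f) → IsSeparated f) ∧
    (Flat (pullback.fst f g ≫ f) → Flat f) := by
  let sec : X ⟶ pullback f g := pullback.lift (𝟙 X) (f ≫ y) (by simp [hy])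
  have hsec : sec ≫ pullback.fst f g = 𝟙 X := pullback.lift_fst _ _ _
  have : IsImmersion (sec ≫ pullback.fst f g) := by rw [hsec]; infer_instance
  have : IsImmersion sec := IsImmersion.of_comp sec (pullback.fst f g)
  have hf : sec ≫ (pullback.fst f g ≫ f) = f := by rw [← Category.assoc, hsec, Category.id_comp]
  have hsurj : Surjective (pullback.fst f g) :=
    ⟨fun x => ⟨sec x, by rw [← Scheme.Hom.comp_apply, hsec]; rfl⟩⟩
  refine ⟨fun h => ?_, fun h => ?_, fun h => ?_, fun h => ?_⟩
  · refine ⟨fun U hU hU' => ?_⟩
    have := h.isCompact_preimage U hU hU'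
    have h2 := this.image (pullback.fst f g).continuous
    convert h2
    rw [Scheme.Hom.comp_base, TopCat.coe_comp, Set.preimage_comp]
    exact (Set.image_preimage_eq _ hsurj.surj).symm
  · rw [← hf]; infer_instance
  · rw [← hf]
    have : Mono sec := inferInstance
    infer_instance
  · apply Flat.of_stalkMap
    intro x
    obtain ⟨p, hp⟩ : ∃ p, p = sec x := ⟨_, rfl⟩
    have hx : pullback.fst f g (sec x) = x := by rw [← Scheme.Hom.comp_apply, hsec]; rfl
    have hiso : IsIso ((sec ≫ pullback.fst f g).stalkMap x) := by
      rw [Scheme.Hom.stalkMap_congr_hom (hfg := hsec)]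
      infer_instance
    rw [Scheme.Hom.stalkMap_comp] at hiso
    rw [← hx]
    have hflat := Flat.stalkMap (pullback.fst f g ≫ f) (sec x)
    rw [Scheme.Hom.stalkMap_comp] at hflat
    set a := f.stalkMap (pullback.fst f g (sec x))
    set b := (pullback.fst f g).stalkMap (sec x)
    set c := sec.stalkMap x
    replace hiso : IsIso (b ≫ c) := hiso
    haveI := hiso
    let r := c ≫ inv (b ≫ c)
    have hbr : b ≫ r = 𝟙 _ := by simp only [r, ← Category.assoc, IsIso.hom_inv_id]
    algebraize [a.hom, (a ≫ b).hom]
    have : Module.Flat (S.presheaf.stalk (f (pullback.fst f g (sec x)))) ((pullback f g).presheaf.stalk (sec x)) := hflat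
    exact Module.Flat.of_retract
      { toFun := b.hom, map_add' := map_add _, map_smul' := fun s z => by
          simp only [Algebra.smul_def, map_mul, RingHom.id_apply]; rfl }
      { toFun := r.hom, map_add' := map_add _, map_smul' := fun s z => by
          simp only [Algebra.smul_def, map_mul, RingHom.id_apply]
          congr 1
          exact DFunLike.congr_fun (congrArg CommRingCat.Hom.hom
            (show a ≫ b ≫ r = a by rw [hbr, Category.comp_id])) s }
      (LinearMap.ext fun z => DFunLike.congr_fun (congrArg CommRingCat.Hom.hom hbr) z)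

end Groth.Agent.S18490
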