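import Groth.Statements.S18493
import Groth.Agent.NeronHD28.AffineQF
import Groth.Agent.S18489
import Groth.Agent.AlgGrp79.Pullback
-- import your own Groth.Agent.* helpers here

set_option autoImplicit false
universe u
open CategoryTheory CategoryTheory.Limits AlgebraicGeometry MonObj
open Neron

namespace Groth.Agent.S18493

/-- Let R be a Dedekind domain with fraction field K, let A and B be group schemes over Spec R which are
Néron models of their generic fibres, both abelian varieties over K (proper and geometrically
integral), let φ : A → B be a homomorphism whose generic fibre is an isogeny (surjective with finite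
kernel), and let i : N → A be a kernel of φ (cartesian square against the unit section of B). If φ
is flat, then N → Spec R is locally quasi-finite, of finite type, flat and affine; if moreover A is
proper over Spec R then N → Spec R is finite. -/
theorem result (R : Type u) [CommRing R]
    [IsDedekindDomain R] (A B : Over (Spec (CommRingCat.of R))) [GrpObj A] [GrpObj B]
    (hA : Neron.IsNeronModelOf R A ((Neron.genericFibre R).obj A) (Iso.refl _))
    (hB : Neron.IsNeronModelOf R B ((Neron.genericFibre R).obj B) (Iso.refl _))
    [IsProper ((Neron.genericFibre R).obj A).hom] [GeometricallyIntegral ((Neron.genericFibre R).obj A).hom]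
    [IsProper ((Neron.genericFibre R).obj B).hom] [GeometricallyIntegral ((Neron.genericFibre R).obj B).hom]
    (φ : A ⟶ B) [IsMonHom φ] (hφ : SGA7.IsIsogenyOver ((Neron.genericFibre R).map φ)) [Flat φ.left]
    (N : Over (Spec (CommRingCat.of R))) (i : N ⟶ A) (hN : AlgGrp.IsKernel i φ) :
    (LocallyQuasiFinite N.hom ∧ QuasiCompact N.hom ∧ Flat N.hom ∧ IsAffineHom N.hom) ∧
    (IsProper A.hom → IsFinite N.hom) := by
  haveI : IsSeparated A.hom := hA.2.1
  haveI : IsSeparated B.hom := hB.2.1
  haveI : LocallyOfFiniteType A.hom := hA.2.2.1
  haveI : QuasiCompact A.hom := hA.2.2.2.1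
  haveI : LocallyQuasiFinite φ.left := (S18489.result R A B hA hB φ hφ).2 inferInstance
  have hsq : IsPullback i.left (CartesianMonoidalCategory.toUnit N).left φ.left (MonObj.one : MonoidalCategory.tensorUnit (Over (Spec (CommRingCat.of R))) ⟶ B).left :=
    AlgGrp79.isPullback_left hN
  haveI : LocallyQuasiFinite N.hom := by
    have h1 : LocallyQuasiFinite (CartesianMonoidalCategory.toUnit N).left :=
      MorphismProperty.of_isPullback hsq ‹LocallyQuasiFinite φ.left›
    rwa [Over.toUnit_left] at h1
  haveI : Flat N.hom := by
    have h1 : Flat (CartesianMonoidalCategory.toUnit N).left :=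
      MorphismProperty.of_isPullback hsq ‹Flat φ.left›
    rwa [Over.toUnit_left] at h1
  haveI : IsClosedImmersion (MonObj.one : MonoidalCategory.tensorUnit (Over (Spec (CommRingCat.of R))) ⟶ B).left := by
    haveI : IsClosedImmersion ((MonObj.one : MonoidalCategory.tensorUnit (Over (Spec (CommRingCat.of R))) ⟶ B).left ≫ B.hom) := by
      rw [Over.w]
      exact inferInstanceAs (IsClosedImmersion (𝟙 (Spec (CommRingCat.of R))))
    exact IsClosedImmersion.of_comp _ B.hom
  haveI hi : IsClosedImmersion i.left := MorphismProperty.of_isPullback hsq.flip inferInstance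
  haveI : IsSeparated N.hom := by rw [← Over.w i]; infer_instance
  haveI : QuasiCompact N.hom := by rw [← Over.w i]; infer_instance
  haveI : LocallyOfFiniteType N.hom := by rw [← Over.w i]; infer_instance
  refine ⟨⟨‹_›, ‹_›, ‹_›, NeronHD28.isAffineHom_of_quasiFinite_separated N.hom⟩, fun hp => ?_⟩
  haveI : IsProper N.hom := by rw [← Over.w i]; infer_instance
  exact IsFinite.of_isProper_of_locallyQuasiFinite N.hom

end Groth.Agent.S18493
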