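import Groth.Statements.S18494
import Groth.Agent.NeronHD28.EtaleIsogeny
import Groth.Agent.S18489
import Groth.Agent.SchBasics.EtaleQF
-- import your own Groth.Agent.* helpers here

set_option autoImplicit false
universe u
open CategoryTheory CategoryTheory.Limits AlgebraicGeometry MonObj
open Neron

namespace Groth.Agent.S18494

/-- Let R be a Dedekind domain with fraction field K, let A and B be group schemes over Spec R which are
Néron models of their generic fibres, both abelian varieties over K (proper and geometrically
integral), let φ : A → B be a homomorphism whose generic fibre φ_K is an isogeny (surjective with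
finite kernel), and let i : N → A be a kernel of φ. If the degree of φ_K, that is the order of the
finite K-group scheme N_K (its rank over Spec K), is a unit in R, then N is a Néron model of its
generic fibre N_K (smooth, separated, of finite type, with the Néron mapping property for smooth
Spec R-schemes) and N → Spec R is étale. -/
theorem result (R : Type u) [CommRing R]
    [IsDedekindDomain R] (A B : Over (Spec (CommRingCat.of R))) [GrpObj A] [GrpObj B]
    (hA : Neron.IsNeronModelOf R A ((Neron.genericFibre R).obj A) (Iso.refl _))
    (hB : Neron.IsNeronModelOf R B ((Neron.genericFibre R).obj B) (Iso.refl _))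
    [IsProper ((Neron.genericFibre R).obj A).hom] [GeometricallyIntegral ((Neron.genericFibre R).obj A).hom]
    [IsProper ((Neron.genericFibre R).obj B).hom] [GeometricallyIntegral ((Neron.genericFibre R).obj B).hom]
    (φ : A ⟶ B) [IsMonHom φ] (hφ : SGA7.IsIsogenyOver ((Neron.genericFibre R).map φ))
    (N : Over (Spec (CommRingCat.of R))) (i : N ⟶ A) (hN : AlgGrp.IsKernel i φ)
    (hdeg : ∀ x : ↥(Spec (CommRingCat.of (FractionRing R))),
      IsUnit ((((Neron.genericFibre R).obj N).hom.finrank x : ℕ) : R)) :
    Neron.IsNeronModelOf R N ((Neron.genericFibre R).obj N) (Iso.refl _) ∧ Etale N.hom := by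
  open MonoidalCategory CartesianMonoidalCategory MonObj in
    classical
    haveI : Smooth A.hom := hA.1
    haveI : Smooth B.hom := hB.1
    haveI : IsSeparated A.hom := hA.2.1
    haveI : IsSeparated B.hom := hB.2.1
    haveI : QuasiCompact A.hom := hA.2.2.2.1
    let F := Neron.genericFibre R
    have bA : ∀ Y : Over (Spec (CommRingCat.of R)), Smooth Y.hom →
        Function.Bijective (fun g : Y ⟶ A => F.map g) := fun Y hY => by
      have h := hA.2.2.2.2 Y hY
      simpa only [Iso.refl_hom, Category.comp_id] using h
    have bB : ∀ Y : Over (Spec (CommRingCat.of R)), Smooth Y.hom →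
        Function.Bijective (fun g : Y ⟶ B => F.map g) := fun Y hY => by
      have h := hB.2.2.2.2 Y hY
      simpa only [Iso.refl_hom, Category.comp_id] using h
    haveI hcK : IsCommMonObj (F.obj A) := isCommMonObj_of_isProper_of_geometricallyIntegral _
    haveI : IsCommMonObj A := by
      haveI : Smooth (A ⊗ A).hom := inferInstanceAs (Smooth (Limits.pullback.fst A.hom A.hom ≫ A.hom))
      refine ⟨(bA (A ⊗ A) inferInstance).1 ?_⟩
      show F.map ((β_ A A).hom ≫ μ[A]) = F.map μ[A]
      have h : (β_ (F.obj A) (F.obj A)).hom ≫ μ[F.obj A] = μ[F.obj A] := IsCommMonObj.mul_comm _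
      rw [Functor.obj.μ_def, ← Functor.LaxBraided.braided_assoc] at h
      rw [Functor.map_comp]
      exact (cancel_epi (Functor.LaxMonoidal.μ F A A)).1 h
    have hkK := NeronHD28.isKernel_genericFibre hN
    haveI : IsFinite (F.obj N).hom := hφ.2 _ _ hkK
    haveI : Surjective (F.map φ).left := hφ.1
    haveI : IsProper (F.map φ).left := by
      haveI : IsProper ((F.map φ).left ≫ (F.obj B).hom) := by rw [Over.w]; infer_instance
      exact IsProper.of_comp (F.map φ).left (F.obj B).hom
    haveI : IsIntegral (F.obj B).left := GeometricallyIntegral.isIntegral_of_subsingleton (F.obj B).hom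
    let pt : ↥(Spec (CommRingCat.of (FractionRing R))) := IsLocalRing.closedPoint (FractionRing R)
    let n := (F.obj N).hom.finrank pt
    obtain ⟨g, hg⟩ := NeronHD28.exists_comp_eq_pow (F.map φ) _ hkK n fun s => by
      rw [Subsingleton.elim (α := PrimeSpectrum (FractionRing R)) s pt]
    obtain ⟨ψ, hψ⟩ := (bA B inferInstance).2 g
    have hcomp : φ ≫ ψ = (𝟙 A) ^ n := by
      refine (bA A inferInstance).1 ?_
      show F.map (φ ≫ ψ) = F.map ((𝟙 A) ^ n)
      have hp : F.map ((𝟙 A) ^ n) = F.map (𝟙 A) ^ n := map_pow F.homMonoidHom (𝟙 A) n
      rw [hp, F.map_id, Functor.map_comp, show F.map ψ = g from hψ]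
      exact hg
    have hn : IsUnit (n : R) := hdeg pt
    haveI he : Etale ((𝟙 A : A ⟶ A) ^ n).left :=
      NeronHD28.etale_pow A n fun s => NeronHD28.natCast_residueField_ne_zero n hn s
    haveI hpe : Etale (φ.left ≫ ψ.left) := by
      rw [← Over.comp_left, hcomp]
      exact he
    haveI : FormallyUnramified φ.left := FormallyUnramified.of_comp φ.left ψ.left
    haveI : LocallyQuasiFinite (φ.left ≫ ψ.left) :=
      ((SchBasics.etale_iff_smooth_and_locallyQuasiFinite _).1 hpe).2
    haveI : LocallyQuasiFinite φ.left := LocallyQuasiFinite.of_comp φ.left ψ.left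
    haveI : Flat φ.left := (S18489.result R A B hA hB φ hφ).1 inferInstance
    haveI : LocallyOfFinitePresentation φ.left := by
      haveI : LocallyOfFinitePresentation (φ.left ≫ B.hom) := by rw [Over.w]; infer_instance
      exact SpPts86.lfp_of_comp φ.left B.hom
    haveI : Etale φ.left := Etale.of_formallyUnramified_of_flat _
    have hsq : IsPullback i.left (CartesianMonoidalCategory.toUnit N).left φ.left η[B].left :=
      AlgGrp79.isPullback_left hN
    haveI hNe : Etale N.hom := by
      have h1 : Etale (CartesianMonoidalCategory.toUnit N).left := MorphismProperty.of_isPullback hsq ‹Etale φ.left›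
      rwa [Over.toUnit_left] at h1
    haveI : IsClosedImmersion η[B].left := by
      haveI : IsClosedImmersion (η[B].left ≫ B.hom) := by
        rw [Over.w]
        exact inferInstanceAs (IsClosedImmersion (𝟙 (Spec (CommRingCat.of R))))
      exact IsClosedImmersion.of_comp η[B].left B.hom
    haveI : IsClosedImmersion i.left := MorphismProperty.of_isPullback hsq.flip ‹IsClosedImmersion η[B].left›
    haveI : IsSeparated N.hom := by rw [← Over.w i]; infer_instance
    haveI : QuasiCompact N.hom := by rw [← Over.w i]; infer_instance
    refine ⟨⟨inferInstance, ‹_›, inferInstance, ‹_›, fun Y hY => ?_⟩, hNe⟩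
    have h := NeronHD28.bijective_kernel hN Y (bA Y hY) (bB Y hY).1
    simpa only [Iso.refl_hom, Category.comp_id] using h

end Groth.Agent.S18494
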