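import Groth.Statements.S18497
import Groth.Agent.NeronHD28.GenExtendFinite
import Groth.Agent.NeronHD28.EtaleClosure
import Groth.Agent.Open62.SmoothBaseChange
import Groth.Agent.SchBasics.EtaleQF
-- import your own Groth.Agent.* helpers here

set_option autoImplicit false
universe u
open CategoryTheory CategoryTheory.Limits AlgebraicGeometry MonObj
open Neron

namespace Groth.Agent.S18497

/-- Let R be a Dedekind domain with fraction field K and G a finite étale group scheme over K. Then G
has a Néron model over Spec R which is separated, quasi-finite and étale: there are a Spec R-scheme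
N and an isomorphism e of its generic fibre N_K with G such that N is smooth, separated and of
finite type over Spec R with the Néron mapping property (for every smooth Spec R-scheme Y, g ↦ e ∘
g_K is a bijection from R-morphisms Y → N onto K-morphisms Y_K → G), and N → Spec R is étale and
locally quasi-finite. -/
theorem result (R : Type u) [CommRing R] [IsDedekindDomain R]
    (G : Over (Spec (CommRingCat.of (FractionRing R)))) [GrpObj G] [IsFinite G.hom] [Etale G.hom] :
    ∃ (N : Over (Spec (CommRingCat.of R))) (e : (Neron.genericFibre R).obj N ≅ G),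
      Neron.IsNeronModelOf R N G e ∧ Etale N.hom ∧ LocallyQuasiFinite N.hom := by
  classical
  haveI : IsAffine G.left := isAffine_of_isAffineHom G.hom
  obtain ⟨φ, hφ⟩ := Spec.map_surjective (G.left.isoSpec.inv ≫ G.hom)
  have hGhom : G.left.isoSpec.hom ≫ Spec.map φ = G.hom := by rw [hφ, Iso.hom_inv_id_assoc]
  haveI : IsFinite (Spec.map φ) := by rw [hφ]; infer_instance
  haveI : Etale (Spec.map φ) := by rw [hφ]; infer_instance
  have hfin : φ.hom.Finite := (IsFinite.SpecMap_iff φ).1 inferInstance
  have het : φ.hom.Etale := (HasRingHomProperty.Spec_iff (P := @Etale)).1 inferInstance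
  let L := Γ(G.left, ⊤)
  letI : Algebra (FractionRing R) L := φ.hom.toAlgebra
  haveI : Module.Finite (FractionRing R) L := hfin
  haveI : Algebra.Etale (FractionRing R) L := het
  letI : Algebra R L := (φ.hom.comp (algebraMap R (FractionRing R))).toAlgebra
  haveI : IsScalarTower R (FractionRing R) L := IsScalarTower.of_algebraMap_eq' rfl
  haveI : Module.Finite R (integralClosure R L) := NeronHD28.finite_integralClosure_etale R (FractionRing R) L
  haveI : Algebra.IsIntegral (FractionRing R) L := Algebra.IsIntegral.of_finite _ _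
  haveI := NeronHD28.isLocalization_integralClosure R (FractionRing R) L
  let C := integralClosure R L
  let π : Spec (CommRingCat.of C) ⟶ Spec (CommRingCat.of R) :=
    Spec.map (CommRingCat.ofHom (algebraMap R C))
  haveI : IsFinite π := (IsFinite.SpecMap_iff _).2 (RingHom.finite_algebraMap.2 inferInstance)
  haveI : LocallyOfFinitePresentation π := LocallyOfFinitePresentation.iff_locallyOfFiniteType.2 inferInstance
  let fstT : Spec (CommRingCat.of L) ⟶ Spec (CommRingCat.of C) :=
    Spec.map (CommRingCat.ofHom (algebraMap C L))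
  haveI hpo : Algebra.IsPushout R C (FractionRing R) L :=
    Algebra.isPushout_of_isLocalization (nonZeroDivisors R) (FractionRing R) C L
  have hpb : IsPullback fstT (Spec.map φ) π (Neron.genPt R) :=
    (isPullback_SpecMap_of_isPushout _ _ _ _
      ((CommRingCat.isPushout_iff_isPushout (R := R) (S := FractionRing R) (R' := C) (S' := L)).2 hpo))
  have hT : Pi1.IsNormalScheme (Spec (CommRingCat.of C)) :=
    NeronHD28.isNormalScheme_Spec C fun p _ =>
      NeronHD28.normal_localization_integralClosure R (FractionRing R) L p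
  haveI : Flat (Neron.genPt R) := (HasRingHomProperty.Spec_iff (P := @Flat)).2
    (RingHom.flat_algebraMap_iff.2 (IsLocalization.flat _ (nonZeroDivisors R)))
  have hsm : ∀ x, fstT x ∈ π.smoothLocus := fun x => by
    have h := (Open62.smoothLocus_of_isPullback_flat hpb).symm
    rw [(Spec.map φ).smoothLocus_eq_top] at h
    exact h.ge (Set.mem_univ x)
  have hr : Set.range fstT ⊆ Set.range π.smoothLocus.ι := by
    rw [Scheme.Opens.range_ι]
    rintro _ ⟨x, rfl⟩
    exact hsm x
  let Nh : (π.smoothLocus : Scheme.{u}) ⟶ Spec (CommRingCat.of R) := π.smoothLocus.ι ≫ π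
  let fG : G.left ⟶ (π.smoothLocus : Scheme.{u}) :=
    IsOpenImmersion.lift π.smoothLocus.ι (G.left.isoSpec.hom ≫ fstT)
      (by rintro _ ⟨x, rfl⟩; exact hr ⟨G.left.isoSpec.hom x, rfl⟩)
  have hfG : fG ≫ π.smoothLocus.ι = G.left.isoSpec.hom ≫ fstT := IsOpenImmersion.lift_fac _ _ _
  have hsq : IsPullback fG G.hom Nh (Neron.genPt R) := by
    have h1 : IsPullback (G.left.isoSpec.hom ≫ fstT) G.hom π (Neron.genPt R) :=
      IsPullback.of_iso hpb G.left.isoSpec.symm (Iso.refl _) (Iso.refl _) (Iso.refl _)
        (by simp) (by simp [hφ]) (by simp) (by simp)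
    exact NeronHD28.isPullback_of_mono (hfG.symm ▸ h1)
  let N : Over (Spec (CommRingCat.of R)) := Over.mk Nh
  let e : (Neron.genericFibre R).obj N ≅ G :=
    Over.isoMk hsq.isoPullback.symm (by
      show hsq.isoPullback.inv ≫ G.hom = Limits.pullback.snd Nh (Neron.genPt R)
      exact hsq.isoPullback_inv_snd)
  haveI : Smooth Nh := SchBasics.smooth_smoothLocus_ι π
  haveI : LocallyQuasiFinite Nh := inferInstanceAs (LocallyQuasiFinite (π.smoothLocus.ι ≫ π))
  haveI : IsSeparated Nh := inferInstanceAs (IsSeparated (π.smoothLocus.ι ≫ π))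
  haveI : IsLocallyNoetherian (Spec (CommRingCat.of C)) := LocallyOfFiniteType.isLocallyNoetherian π
  haveI : QuasiCompact Nh := inferInstanceAs (QuasiCompact (π.smoothLocus.ι ≫ π))
  refine ⟨N, e, ⟨‹Smooth Nh›, ‹IsSeparated Nh›, inferInstanceAs (LocallyOfFiniteType Nh), ‹QuasiCompact Nh›,
    fun Y hY => ?_⟩, (SchBasics.etale_iff_smooth_and_locallyQuasiFinite Nh).2 ⟨‹_›, ‹_›⟩, ‹LocallyQuasiFinite Nh›⟩
  have hfst : ∀ g : Y ⟶ N, ((Neron.genericFibre R).map g).left ≫ Limits.pullback.fst N.hom (Neron.genPt R) =
      Limits.pullback.fst Y.hom (Neron.genPt R) ≫ g.left := fun g => Limits.pullback.lift_fst _ _ _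
  have key : ∀ w : (Neron.genericFibre R).obj Y ⟶ (Neron.genericFibre R).obj N,
      ∃! g : Y ⟶ N, (Neron.genericFibre R).map g = w := by
    intro w
    let w' := w.left ≫ Limits.pullback.fst N.hom (Neron.genPt R) ≫ π.smoothLocus.ι
    have hw' : w' ≫ π = Limits.pullback.fst Y.hom (Neron.genPt R) ≫ Y.hom := by
      show (w.left ≫ Limits.pullback.fst N.hom (Neron.genPt R) ≫ π.smoothLocus.ι) ≫ π = _
      rw [Category.assoc, Category.assoc]
      refine (congrArg (w.left ≫ ·) (Limits.pullback.condition (f := N.hom) (g := Neron.genPt R))).trans ?_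
      rw [← Category.assoc]
      refine (congrArg (· ≫ Neron.genPt R) (Over.w w)).trans ?_
      exact Limits.pullback.condition.symm
    obtain ⟨g, ⟨hg, hgen⟩, huniq⟩ := NeronHD28.existsUnique_extension_generic_finite Y.hom π w' hw'
    have hgr : Set.range g ⊆ Set.range π.smoothLocus.ι := by
      rw [Scheme.Opens.range_ι]
      rintro _ ⟨v, rfl⟩
      exact NeronHD28.mem_smoothLocus_of_smooth_source π hT NeronHD28.isNormalScheme_Spec_dedekind Y.hom g hg v
    let g' : Y ⟶ N := Over.homMk (IsOpenImmersion.lift π.smoothLocus.ι g hgr)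
      (by show _ ≫ π.smoothLocus.ι ≫ π = Y.hom; rw [IsOpenImmersion.lift_fac_assoc, hg])
    refine ⟨g', ?_, fun g₂ hg₂ => ?_⟩
    · apply Over.OverMorphism.ext
      refine Limits.pullback.hom_ext ?_ ((Over.w ((Neron.genericFibre R).map g')).trans (Over.w w).symm)
      rw [hfst, ← cancel_mono π.smoothLocus.ι, Category.assoc, Category.assoc]
      refine (congrArg (_ ≫ ·) (IsOpenImmersion.lift_fac _ _ hgr)).trans hgen
    · apply Over.OverMorphism.ext
      rw [← cancel_mono π.smoothLocus.ι]
      refine (huniq _ ⟨(Category.assoc _ _ _).trans (Over.w g₂), ?_⟩).trans (IsOpenImmersion.lift_fac _ _ hgr).symm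
      rw [← Category.assoc, ← hfst, hg₂, Category.assoc]
  refine ⟨fun g₁ g₂ h => ?_, fun w => ?_⟩
  · exact (key _).unique rfl ((cancel_mono e.hom).1 h).symm
  · obtain ⟨g, hg, -⟩ := key (w ≫ e.inv)
    exact ⟨g, by show (Neron.genericFibre R).map g ≫ e.hom = w; rw [hg, Category.assoc, e.inv_hom_id, Category.comp_id]⟩

end Groth.Agent.S18497
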