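import Groth.Statements.S18501
import Groth.Agent.NeronHD28.IdentityComponent
import Groth.Agent.FlatMor67.FibreCrit
import Groth.Agent.NeronHD28.EtaleIsogeny
-- import your own Groth.Agent.* helpers here

set_option autoImplicit false
universe u
open CategoryTheory CategoryTheory.Limits AlgebraicGeometry MonObj
open Neron

namespace Groth.Agent.S18501

/-- Let R be a discrete valuation ring with fraction field K and residue field k, let A and B be group
schemes over Spec R which are Néron models of their generic fibres, both abelian varieties over K
(proper and geometrically integral), and let φ : A → B be a homomorphism whose generic fibre is an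
isogeny (surjective with finite kernel). Then φ is flat if and only if the special fibre φ_k : A_k →
B_k maps the connected component of the identity point of A_k onto the connected component of the
identity point of B_k, i.e. the image of the former subset is the latter (φ induces a surjection of
identity components; on the generic fibre this is automatic). (The published lemma is over a
connected Dedekind scheme, with this condition at every point, and includes a further equivalent
condition, quasi-finiteness of φ; the case of a discrete valuation ring is stated here, where only
the closed point matters.) -/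
theorem result (R : Type u) [CommRing R]
    [IsDomain R] [IsDiscreteValuationRing R] (A B : Over (Spec (CommRingCat.of R))) [GrpObj A] [GrpObj B]
    (hA : Neron.IsNeronModelOf R A ((Neron.genericFibre R).obj A) (Iso.refl _))
    (hB : Neron.IsNeronModelOf R B ((Neron.genericFibre R).obj B) (Iso.refl _))
    [IsProper ((Neron.genericFibre R).obj A).hom] [GeometricallyIntegral ((Neron.genericFibre R).obj A).hom]
    [IsProper ((Neron.genericFibre R).obj B).hom] [GeometricallyIntegral ((Neron.genericFibre R).obj B).hom]
    (φ : A ⟶ B) [IsMonHom φ] (hφ : SGA7.IsIsogenyOver ((Neron.genericFibre R).map φ)) :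
    Flat φ.left ↔
      ((Over.pullback (Spec.map (CommRingCat.ofHom (IsLocalRing.residue R)))).map φ).left.base ''
          connectedComponent ((η[Red.bc (Spec.map (CommRingCat.ofHom (IsLocalRing.residue R))) A]).left.base (IsLocalRing.closedPoint (IsLocalRing.ResidueField R))) =
        connectedComponent ((η[Red.bc (Spec.map (CommRingCat.ofHom (IsLocalRing.residue R))) B]).left.base (IsLocalRing.closedPoint (IsLocalRing.ResidueField R))) := by
  haveI : Smooth A.hom := hA.1
  haveI : Smooth B.hom := hB.1
  haveI : IsSeparated B.hom := hB.2.1
  haveI : QuasiCompact A.hom := hA.2.2.2.1
  haveI : LocallyOfFiniteType φ.left := by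
    haveI : LocallyOfFiniteType (φ.left ≫ B.hom) := by rw [Over.w]; infer_instance
    exact locallyOfFiniteType_of_comp φ.left B.hom
  haveI : QuasiCompact φ.left := by
    haveI : QuasiCompact (φ.left ≫ B.hom) := by rw [Over.w]; infer_instance
    exact QuasiCompact.of_comp φ.left B.hom
  let b := Spec.map (CommRingCat.ofHom (IsLocalRing.residue R))
  let F := Over.pullback b
  letI : GrpObj (F.obj A) := Functor.grpObjObj
  letI : GrpObj (F.obj B) := Functor.grpObjObj
  haveI : Smooth (F.obj B).hom := inferInstanceAs (Smooth (Limits.pullback.snd B.hom b))
  haveI : Smooth (F.obj A).hom := inferInstanceAs (Smooth (Limits.pullback.snd A.hom b))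
  haveI : IsReduced (F.obj B).left := AlgGrp79.isReduced_of_smooth (F.obj B).hom
  haveI : QuasiCompact (F.map φ).left :=
    MorphismProperty.of_isPullback (NeronHD28.isPullback_map_left b φ) ‹QuasiCompact φ.left›
  constructor
  · intro hfl
    haveI : Flat (F.map φ).left := MorphismProperty.of_isPullback (NeronHD28.isPullback_map_left b φ) hfl
    exact NeronHD28.image_component_of_flat (F.map φ)
  · intro h
    have hk : Flat (F.map φ).left := NeronHD28.flat_of_component_subset (F.map φ)
      (h.ge.trans (Set.image_subset_range _ _))
    haveI : IsProper ((Neron.genericFibre R).map φ).left := by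
      haveI : IsProper (((Neron.genericFibre R).map φ).left ≫ ((Neron.genericFibre R).obj B).hom) := by
        rw [Over.w]; infer_instance
      exact IsProper.of_comp ((Neron.genericFibre R).map φ).left ((Neron.genericFibre R).obj B).hom
    haveI : Surjective ((Neron.genericFibre R).map φ).left := hφ.1
    haveI : IsIntegral ((Neron.genericFibre R).obj B).left :=
      GeometricallyIntegral.isIntegral_of_subsingleton ((Neron.genericFibre R).obj B).hom
    have hK : Flat ((Neron.genericFibre R).map φ).left :=
      AlgGrp79.flat_of_surjective_hom ((Neron.genericFibre R).map φ)
    haveI : LocallyOfFinitePresentation (φ.left ≫ B.hom) := by rw [Over.w]; infer_instance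
    haveI : Flat (φ.left ≫ B.hom) := by rw [Over.w]; infer_instance
    refine FlatMor67.FibreCrit.flat_of_fibres φ.left B.hom fun s => ?_
    by_cases hs : s = IsLocalRing.closedPoint R
    · have h1 := NeronHD28.flat_fibre_of_fieldPoint φ b hk
      rw [show b (IsLocalRing.closedPoint (IsLocalRing.ResidueField R)) = s from by
        rw [hs]
        exact IsLocalRing.comap_closedPoint (IsLocalRing.residue R)] at h1
      exact h1
    · have h1 := NeronHD28.flat_fibre_of_fieldPoint φ (Neron.genPt R) hK
      rw [show Neron.genPt R (IsLocalRing.closedPoint (FractionRing R)) = s from by
        apply PrimeSpectrum.ext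
        have hbot : s.asIdeal = ⊥ := by
          by_contra h0
          exact hs (PrimeSpectrum.ext (IsLocalRing.eq_maximalIdeal (s.isPrime.isMaximal h0)))
        show (IsLocalRing.maximalIdeal (FractionRing R)).comap (algebraMap R (FractionRing R)) = s.asIdeal
        rw [hbot, (IsLocalRing.maximalIdeal (FractionRing R)).eq_bot_of_prime, ← RingHom.ker_eq_comap_bot,
          (RingHom.injective_iff_ker_eq_bot _).1 (IsFractionRing.injective R (FractionRing R))]] at h1
      exact h1

end Groth.Agent.S18501
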