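import Groth.Statements.S1851
import Groth.Agent.Key50.Global
import Groth.Agent.TameAlg50.Laws

set_option autoImplicit false
universe u
open CycAlg

namespace Groth.Agent.S1851

/-- The key lemma for nonzerodivisors; a low-degree case of the Gersten complex for Milnor K-theory: let
A be a Noetherian local ring of dimension 2 and a, b nonzerodivisors. Then the sum over the
height-one primes 𝔮 of A of ord_{A/𝔮}(∂_{A_𝔮}(a, b)) is zero, where ∂_{A_𝔮} is the tame symbol of
the one-dimensional local ring A_𝔮 with values in κ(𝔮) = Frac(A/𝔮) (only finitely many terms are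
nonzero). -/
theorem result (A : Type u) [CommRing A] [IsNoetherianRing A] [IsLocalRing A] (hA : ringKrullDim A = 2) (a b : A) (ha : a ∈ nonZeroDivisors A) (hb : b ∈ nonZeroDivisors A) : ∑ᶠ (q : PrimeSpectrum A) (_ : q.asIdeal.height = 1), CycAlg.ordFrac (A ⧸ q.asIdeal) q.asIdeal.ResidueField (CycAlg.tameSymbol (Localization.AtPrime q.asIdeal) (algebraMap A (Localization.AtPrime q.asIdeal) a) (algebraMap A (Localization.AtPrime q.asIdeal) b)) = 0 := by
  classical
  have htnz : a * b ∈ nonZeroDivisors A := mul_mem ha hb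
  have hfinite : {p : Ideal A | p.IsPrime ∧ a * b ∈ p ∧ p ≠ IsLocalRing.maximalIdeal A}.Finite := by
    refine (Ideal.finite_minimalPrimes_of_isNoetherianRing A (Ideal.span {a * b})).subset ?_
    rintro p ⟨hp, htp, hpm⟩
    refine ⟨⟨hp, (Ideal.span_singleton_le_iff_mem p).2 htp⟩, fun J hJ hJp => ?_⟩
    exact le_of_eq (Glue50.Punctured.eq_of_le hA htnz hJ.1 hp hpm
      ((Ideal.span_singleton_le_iff_mem J).1 hJ.2) hJp).symm
  obtain ⟨r, qf, hinj, hrange⟩ := hfinite.fin_param
  have hmem : ∀ i, (qf i).IsPrime ∧ a * b ∈ qf i ∧ qf i ≠ IsLocalRing.maximalIdeal A := fun i =>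
    (Set.ext_iff.1 hrange (qf i)).1 ⟨i, rfl⟩
  haveI : ∀ i, (qf i).IsPrime := fun i => (hmem i).1
  have key := Key50.sum_eq_zero hA ha hb qf hinj (fun i => (hmem i).2.2) (fun i => (hmem i).2.1) (fun p hp htp => by
    by_cases h : p = IsLocalRing.maximalIdeal A
    · exact Or.inl h
    · obtain ⟨i, hi⟩ := (Set.ext_iff.1 hrange p).2 ⟨hp, htp, h⟩
      exact Or.inr ⟨i, hi.symm⟩)
  let g : Fin r ↪ PrimeSpectrum A := ⟨fun i => ⟨qf i, (hmem i).1⟩, fun i j h => hinj (congrArg PrimeSpectrum.asIdeal h)⟩
  refine (finsum_mem_eq_sum_of_inter_support_eq _ (t := Finset.univ.map g) ?_).trans ?_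
  · ext q
    simp only [Set.mem_inter_iff, Function.mem_support, Finset.coe_map, Finset.coe_univ, Set.image_univ,
      Set.mem_range]
    constructor
    · rintro ⟨hq1, hq⟩
      refine ⟨?_, hq⟩
      by_cases htq : a * b ∈ q.asIdeal
      · have hqm : q.asIdeal ≠ IsLocalRing.maximalIdeal A := fun h => by
          have h1 : q.asIdeal.height = 1 := hq1
          have h2 := IsLocalRing.maximalIdeal_height_eq_ringKrullDim (R := A)
          rw [hA, ← h, h1] at h2
          exact absurd (WithBot.coe_injective h2 : (1 : ℕ∞) = 2) (by norm_num)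
        obtain ⟨i, hi⟩ := (Set.ext_iff.1 hrange q.asIdeal).2 ⟨q.isPrime, htq, hqm⟩
        exact ⟨i, PrimeSpectrum.ext hi⟩
      · exfalso
        apply hq
        haveI : IsDomain (A ⧸ q.asIdeal) := Ideal.Quotient.isDomain q.asIdeal
        have hu : ∀ x, x ∉ q.asIdeal → IsUnit (algebraMap A (Localization.AtPrime q.asIdeal) x) := fun x hx =>
          IsLocalization.map_units (Localization.AtPrime q.asIdeal) (⟨x, hx⟩ : q.asIdeal.primeCompl)
        try dsimp only
        rw [TameAlg50.symbol_units (hu a fun h => htq (q.asIdeal.mul_mem_right b h))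
          (hu b fun h => htq (q.asIdeal.mul_mem_left a h))]
        unfold CycAlg.ordFrac
        split_ifs with h
        · simp only [map_one, WithZero.recZeroCoe, ← WithZero.coe_one]; rfl
        · rfl
    · rintro ⟨⟨i, rfl⟩, hq⟩
      exact ⟨Key50.height_eq_one hA htnz (hmem i).2.2 (hmem i).2.1, hq⟩
  · rw [Finset.sum_map]
    exact key

end Groth.Agent.S1851
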