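import Groth.Statements.S18510
import Groth.Agent.H98EqInt.Mixed
import Groth.Agent.Sga84.TorsorDesc

set_option autoImplicit false
universe u
open CategoryTheory MonoidalCategory CartesianMonoidalCategory MonObj GrpObj AlgebraicGeometry Topology
open EqInt

namespace Groth.Agent.S18510

/-- Over a field k, let an affine group scheme G of finite type act on X, on Y and on U (quasi-separated
schemes of finite type over k), let f : X → Y be G-equivariant, and let q_X : X × U → X_G and q_Y :
Y × U → Y_G be principal bundle quotients for the diagonal actions (each is invariant, flat and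
surjective, and (σ, p₂) into the fibre square over the quotient is an isomorphism), X_G and Y_G
being quasi-separated of finite type over k. Let f_G : X_G → Y_G satisfy f_G ∘ q_X = q_Y ∘ (f ×
id_U) as maps X × U → Y_G. If f is proper, resp. flat, resp. smooth, then so is f_G. (Stated for
schemes; the source allows algebraic spaces and also treats regular embeddings and local complete
intersection morphisms, which are not stated here.) -/
theorem result (k : Type u) [Field k]
    (G X Y U XG YG : Over (Spec (CommRingCat.of k))) [GrpObj G] [IsAffine G.left] [LocallyOfFiniteType G.hom]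
    [LocallyOfFiniteType X.hom] [QuasiCompact X.hom] [QuasiSeparated X.hom]
    [LocallyOfFiniteType Y.hom] [QuasiCompact Y.hom] [QuasiSeparated Y.hom]
    [LocallyOfFiniteType U.hom] [QuasiCompact U.hom] [QuasiSeparated U.hom]
    [LocallyOfFiniteType XG.hom] [QuasiCompact XG.hom] [QuasiSeparated XG.hom]
    [LocallyOfFiniteType YG.hom] [QuasiCompact YG.hom] [QuasiSeparated YG.hom]
    (a : AlgGrp.Action G X) (aY : AlgGrp.Action G Y) (b : AlgGrp.Action G U)
    (f : X ⟶ Y) (hf : AlgGrp.Action.IsEquivariant a aY f)
    (qX : X ⊗ U ⟶ XG) (hqX : GIT.IsInvariant (a.prod b) qX) [Flat qX.left] [Surjective qX.left]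
    (hcX : IsIso (GIT.PsiY (a.prod b) qX hqX))
    (qY : Y ⊗ U ⟶ YG) (hqY : GIT.IsInvariant (aY.prod b) qY) [Flat qY.left] [Surjective qY.left]
    (hcY : IsIso (GIT.PsiY (aY.prod b) qY hqY))
    (fG : XG ⟶ YG) (hfG : qX ≫ fG = (f ▷ U) ≫ qY) :
    (IsProper f.left → IsProper fG.left) ∧ (Flat f.left → Flat fG.left) ∧
      (Smooth f.left → Smooth fG.left) := by
  have hF : (a.prod b).act ≫ (f ▷ U) = (G ◁ (f ▷ U)) ≫ (aY.prod b).act := by
    apply CartesianMonoidalCategory.hom_ext
    · simp only [Category.assoc, AlgGrp.Action.prod_act, CartesianMonoidalCategory.whiskerRight_fst,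
        CartesianMonoidalCategory.lift_fst, CartesianMonoidalCategory.lift_fst_assoc]
      rw [hf, ← MonoidalCategory.whiskerLeft_comp_assoc, ← MonoidalCategory.whiskerLeft_comp_assoc,
        CartesianMonoidalCategory.whiskerRight_fst]
    · simp only [Category.assoc, AlgGrp.Action.prod_act, CartesianMonoidalCategory.whiskerRight_snd,
        CartesianMonoidalCategory.lift_snd]
      rw [← MonoidalCategory.whiskerLeft_comp_assoc, CartesianMonoidalCategory.whiskerRight_snd]
  haveI : QuasiCompact (X ⊗ U).hom := inferInstanceAs (QuasiCompact (Limits.pullback.fst X.hom U.hom ≫ X.hom))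
  haveI : QuasiCompact (Y ⊗ U).hom := inferInstanceAs (QuasiCompact (Limits.pullback.fst Y.hom U.hom ≫ Y.hom))
  haveI : QuasiCompact (qX.left ≫ XG.hom) := by rw [Over.w qX]; infer_instance
  haveI : QuasiCompact qX.left := QuasiCompact.of_comp qX.left XG.hom
  haveI : QuasiCompact (qY.left ≫ YG.hom) := by rw [Over.w qY]; infer_instance
  haveI : QuasiCompact qY.left := QuasiCompact.of_comp qY.left YG.hom
  have sq := Groth.Agent.H98EqInt.torsor_hom_isPullback (f ▷ U) hF hqX hqY fG hfG
  have sq2 := Groth.Agent.H98EqInt.whiskerRight_left_isPullback f U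
  have hQ : Groth.Agent.Unr55.fpqc qY.left := ⟨⟨‹Surjective qY.left›, ‹Flat qY.left›⟩, inferInstance⟩
  haveI := Groth.Agent.Unr55.isProper.{u}
  haveI := Groth.Agent.Sga84.flat_descendsAlong.{u}
  exact ⟨fun h => MorphismProperty.of_isPullback_of_descendsAlong (P := @IsProper) sq hQ
      (MorphismProperty.of_isPullback (P := @IsProper) sq2 h),
    fun h => MorphismProperty.of_isPullback_of_descendsAlong (P := @Flat) sq hQ
      (MorphismProperty.of_isPullback (P := @Flat) sq2 h),
    fun h => MorphismProperty.of_isPullback_of_descendsAlong (P := @Smooth) sq hQ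
      (MorphismProperty.of_isPullback (P := @Smooth) sq2 h)⟩

end Groth.Agent.S18510
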