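import Groth.Statements.S18515
import Groth.Agent.Tors37.BC

set_option autoImplicit false
open CategoryTheory CategoryTheory.Limits MonoidalCategory CartesianMonoidalCategory MonObj GrpObj AlgebraicGeometry
universe u
open NonAbH1

namespace Groth.Agent.S18515

/-- A class represented by a torsor over a complete variety is unramified at every discrete valuation
ring of the function field. The published lemma assumes G finite, k algebraically closed of
characteristic zero and K finitely generated over k; this row allows any field k, any field K and
any affine k-group scheme of finite type: let k be a field, X a proper k-scheme, G an affine k-group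
scheme of finite type and P a torsor over X, locally trivial for the etale topology, under the base
change of G. For every field K with a k-morphism e : Spec K ⟶ X (for instance the generic point of
an integral X) and every discrete valuation ring R with fraction field K containing k compatibly,
there is a torsor Q over Spec R under the base change of G whose restriction to Spec K is
equivariantly isomorphic to the pullback of P along e, both regarded as actions of the base change
of G to Spec K through the canonical identifications of iterated base changes. -/
theorem result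
    (k K R : Type u) [Field k] [Field K] [Algebra k K]
    [CommRing R] [IsDomain R] [IsDiscreteValuationRing R] [Algebra k R] [Algebra R K] [IsFractionRing R K]
    (hc : Spec.map (CommRingCat.ofHom (algebraMap R K)) ≫ Spec.map (CommRingCat.ofHom (algebraMap k R)) =
      Spec.map (CommRingCat.ofHom (algebraMap k K)))
    (X : Scheme.{u}) (x : X ⟶ Spec (CommRingCat.of k)) [IsProper x]
    (G : Over (Spec (CommRingCat.of k))) [GrpObj G] [IsAffine G.left] [LocallyOfFiniteType G.hom]
    (P : NonAbH1.TorsorSch (Red.bc x G) Scheme.etalePrecoverage)
    (e : Spec (CommRingCat.of K) ⟶ X) (he : e ≫ x = Spec.map (CommRingCat.ofHom (algebraMap k K))) :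
    ∃ Q : NonAbH1.TorsorSch (Red.bc (Spec.map (CommRingCat.ofHom (algebraMap k R))) G) Scheme.etalePrecoverage,
      Nonempty (NonAbH1.EquivIso
        ((Q.act.bc (Spec.map (CommRingCat.ofHom (algebraMap R K)))).restrict
          (ActBC.bcCompIso (Spec.map (CommRingCat.ofHom (algebraMap R K)))
            (Spec.map (CommRingCat.ofHom (algebraMap k R))) G hc).inv)
        ((P.act.bc e).restrict (ActBC.bcCompIso e x G he).inv)) := by
  open Groth.Agent.Tors37 MonoidalCategory CartesianMonoidalCategory in
  set sR := Spec.map (CommRingCat.ofHom (algebraMap k R))
  set sK := Spec.map (CommRingCat.ofHom (algebraMap R K))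
  have hex : ValuativeCriterion.Existence x := by
    have h : (@UniversallyClosed : MorphismProperty Scheme.{u}) x := (inferInstance : UniversallyClosed x)
    rw [UniversallyClosed.eq_valuativeCriterion] at h
    exact h.1
  obtain ⟨e', he1, he2⟩ := (hex
      { R := R, K := K, i₁ := e, i₂ := sR, commSq := ⟨he.trans hc.symm⟩ }).exists_lift
  let φ : Red.bc sR G ⟶ Red.bc e' (Red.bc x G) := (ActBC.bcCompIso e' x G he2).inv
  have hP : NonAbH1.IsTorsorFor Scheme.etalePrecoverage (P.act.bc e') :=
    NonAbH1.isTorsorFor_bc e' Scheme.etalePrecoverage P.isTorsor
  refine ⟨⟨Red.bc e' P.X, (P.act.bc e').restrict φ, isTorsorFor_restrict φ hP⟩, ⟨?_⟩⟩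
  have hθ : (ActBC.bcCompIso sK sR G hc).inv ≫ (Over.pullback sK).map φ ≫
      (ActBC.bcCompIso sK e' (Red.bc x G) he1).hom = (ActBC.bcCompIso e x G he).inv := by
    rw [← cancel_mono (ActBC.bcCompIso e x G he).hom, Iso.inv_hom_id]
    ext
    apply Limits.pullback.hom_ext
    · simp only [Category.assoc, Over.comp_left, Over.id_left, ActBC.bcCompIso_hom_left_fst]
      erw [ActBC.bcCompIso_hom_left_fst_assoc]
      rw [ActBC.pullback_map_left_fst_assoc]
      have e3 : φ.left ≫ Limits.pullback.fst (Red.bc x G).hom e' ≫ Limits.pullback.fst G.hom x =
          Limits.pullback.fst G.hom sR := by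
        rw [← ActBC.bcCompIso_hom_left_fst e' x G he2, ← Category.assoc, ← Over.comp_left, Iso.inv_hom_id,
          Over.id_left, Category.id_comp]
      erw [e3]
      rw [← ActBC.bcCompIso_hom_left_fst sK sR G hc, ← Category.assoc, ← Over.comp_left, Iso.inv_hom_id,
        Over.id_left]
    · exact (Over.w _).trans (Over.w _).symm
  have e0 := restrictIso (ActBC.equivIsoBcComp sK e' he1 P.act)
    ((ActBC.bcCompIso sK sR G hc).inv ≫ (Over.pullback sK).map φ)
  rw [restrict_restrict _ _ (ActBC.bcCompIso e x G he).inv (by rw [Category.assoc]; exact hθ)] at e0
  rw [AlgGrp.Action.bc_restrict, restrict_restrict _ _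
    ((ActBC.bcCompIso sK sR G hc).inv ≫ (Over.pullback sK).map φ) rfl]
  exact e0

end Groth.Agent.S18515
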