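import Groth.Statements.S1853
import Groth.Agent.CycDet50.Length
import Mathlib.Algebra.Module.LocalizedModule.Submodule

set_option autoImplicit false
universe u
open CycDet

namespace Groth.Agent.S1853

/-- Let R be Noetherian local, 𝔮 a prime with dim R/𝔮 = 1, and φ : M → N a map of finite modules
generated by x₁, …, x_l and y₁, …, y_l respectively, with all successive quotients
⟨x₁..x_i⟩/⟨x₁..x_{i−1}⟩ and ⟨y₁..y_i⟩/⟨y₁..y_{i−1}⟩ isomorphic to R/𝔮. Then φ is injective iff φ_𝔮
is bijective; and in that case, if the symbols of (φ(x_i)) and (y_i) in det_{κ(𝔮)}(N_𝔮) differ by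
the scalar f, the length of coker φ equals ord_{R/𝔮}(f). -/
theorem result (R : Type u) [CommRing R] [IsNoetherianRing R] [IsLocalRing R] (q : PrimeSpectrum R) (hq : ringKrullDim (R ⧸ q.asIdeal) = 1) (M N : Type u) [AddCommGroup M] [Module R M] [AddCommGroup N] [Module R N] [Module.Finite R M] [Module.Finite R N] (φ : M →ₗ[R] N) (l : ℕ) (x : Fin l → M) (y : Fin l → N) (hx : Submodule.span R (Set.range x) = ⊤) (hy : Submodule.span R (Set.range y) = ⊤) (hxq : ∀ i : Fin l, Nonempty ((↥(CycDet.spanBefore R M x (i + 1)) ⧸ (CycDet.spanBefore R M x i).submoduleOf (CycDet.spanBefore R M x (i + 1))) ≃ₗ[R] (R ⧸ q.asIdeal))) (hyq : ∀ i : Fin l, Nonempty ((↥(CycDet.spanBefore R N y (i + 1)) ⧸ (CycDet.spanBefore R N y i).submoduleOf (CycDet.spanBefore R N y (i + 1))) ≃ₗ[R] (R ⧸ q.asIdeal))) : (Function.Injective φ ↔ Function.Bijective (LocalizedModule.map q.asIdeal.primeCompl φ)) ∧ (Function.Injective φ → ∀ (hl : (Module.length (Localization.AtPrime q.asIdeal) (LocalizedModule q.asIdeal.primeCompl N)).toNat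 = l) (ex ey : CycDet.Adm (Localization.AtPrime q.asIdeal) (LocalizedModule q.asIdeal.primeCompl N) (Module.length (Localization.AtPrime q.asIdeal) (LocalizedModule q.asIdeal.primeCompl N)).toNat) (f : q.asIdeal.ResidueField), (ex.1 = fun i => LocalizedModule.mkLinearMap q.asIdeal.primeCompl N (φ (x (Fin.cast hl i)))) → (ey.1 = fun i => LocalizedModule.mkLinearMap q.asIdeal.primeCompl N (y (Fin.cast hl i))) → CycDet.symbol (Localization.AtPrime q.asIdeal) (LocalizedModule q.asIdeal.primeCompl N) ex = f • CycDet.symbol (Localization.AtPrime q.asIdeal) (LocalizedModule q.asIdeal.primeCompl N) ey → ∃ n : ℕ, Module.length R (N ⧸ LinearMap.range φ) = n ∧ (n : ℤ) = CycAlg.ordFrac (R ⧸ q.asIdeal) q.asIdeal.ResidueField f) := by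
  open Groth.Agent.CycDet50 in
  haveI : Ring.KrullDimLE 1 (R ⧸ q.asIdeal) := Ring.krullDimLE_iff.2 (by rw [hq]; exact le_rfl)
  have hgood : ∀ {P : Type u} [AddCommGroup P] [Module R P] (e : Fin l → P),
      (∀ i : Fin l, Nonempty ((↥(CycDet.spanBefore R P e (i + 1)) ⧸
        (CycDet.spanBefore R P e i).submoduleOf (CycDet.spanBefore R P e (i + 1))) ≃ₗ[R] (R ⧸ q.asIdeal))) →
      Good q.asIdeal e := by
    intro P _ _ e he
    let π := fun i : Fin l => Submodule.Quotient.mk (p := (CycDet.spanBefore R P e i).submoduleOf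
      (CycDet.spanBefore R P e (i + 1))) ⟨e i, mem_before e (Nat.lt_succ_self _)⟩
    have hz : ∀ i (r : R), r • π i = 0 ↔ r • e i ∈ CycDet.spanBefore R P e i := fun i r => by
      rw [← Submodule.Quotient.mk_smul, Submodule.Quotient.mk_eq_zero]
      rfl
    refine ⟨fun i r hr => (hz i r).1 ?_, fun i s hs h => hs ?_⟩
    · obtain ⟨e'⟩ := he i
      apply e'.injective
      rw [map_zero, map_smul]
      obtain ⟨a, ha⟩ := Ideal.Quotient.mk_surjective (e' (π i))
      rw [← ha]
      exact Ideal.Quotient.eq_zero_iff_mem.2 (Ideal.mul_mem_right a _ hr)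
    · obtain ⟨e'⟩ := he i
      obtain ⟨⟨w, hw⟩, hw'⟩ := Submodule.Quotient.mk_surjective _ (e'.symm 1)
      have hw2 : w ∈ CycDet.spanBefore R P e (i + 1) := hw
      rw [before_succ, Submodule.mem_sup] at hw2
      obtain ⟨p, hp, _, hv, rfl⟩ := hw2
      obtain ⟨c, rfl⟩ := Submodule.mem_span_singleton.1 hv
      have h1 : e'.symm 1 = c • π i := by
        rw [← hw', ← Submodule.Quotient.mk_smul, Submodule.Quotient.eq]
        show p + c • e i - c • e i ∈ CycDet.spanBefore R P e i
        simpa using hp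
      have h2 : s • (1 : R ⧸ q.asIdeal) = 0 := by
        rw [← e'.apply_symm_apply 1, ← map_smul, h1, smul_comm, (hz i s).2 h, smul_zero, map_zero]
      rw [Algebra.smul_def, mul_one] at h2
      exact Ideal.Quotient.eq_zero_iff_mem.1 h2
  have hgx := hgood x hxq
  have hgy := hgood y hyq
  let jM := LocalizedModule.mkLinearMap q.asIdeal.primeCompl M
  let jN := LocalizedModule.mkLinearMap q.asIdeal.primeCompl N
  have hmap : ∀ m : M, LocalizedModule.map q.asIdeal.primeCompl φ (jM m) = jN (φ m) := fun m =>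
    IsLocalizedModule.map_apply q.asIdeal.primeCompl jM jN φ m
  have hfullx : Full q.asIdeal x := fun m => ⟨1, q.asIdeal.primeCompl.one_mem, by rw [one_smul, hx]; trivial⟩
  have hfully : Full q.asIdeal y := fun m => ⟨1, q.asIdeal.primeCompl.one_mem, by rw [one_smul, hy]; trivial⟩
  have hbij : Function.Injective φ → Function.Bijective (LocalizedModule.map q.asIdeal.primeCompl φ) := by
    intro hinj
    have hinj' : Function.Injective (LocalizedModule.map q.asIdeal.primeCompl φ) :=
      IsLocalizedModule.map_injective q.asIdeal.primeCompl jM jN φ hinj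
    haveI := (isFiniteLength_iff_isNoetherian_isArtinian.1 (hgy.isFiniteLength hfully)).1
    haveI := (isFiniteLength_iff_isNoetherian_isArtinian.1 (hgy.isFiniteLength hfully)).2
    refine ⟨hinj', LinearMap.range_eq_top.1 (by_contra fun hne => ?_)⟩
    have h := Submodule.length_lt hne
    rw [← (LinearEquiv.ofInjective _ hinj').length_eq, hgx.length_eq hfullx, hgy.length_eq hfully] at h
    exact lt_irrefl _ h
  refine ⟨⟨hbij, fun hb => (injective_iff_map_eq_zero φ).2 fun m hm => ?_⟩,
    fun hinj hl ex ey f hex hey hsym => ?_⟩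
  · have h0 : jM m = 0 := hb.1 (by rw [hmap, hm, map_zero, map_zero])
    obtain ⟨s, hs⟩ := (IsLocalizedModule.eq_zero_iff q.asIdeal.primeCompl jM).1 h0
    exact hgx.torsion_free s.2 (by rw [hx]; trivial) hs
  have hmapb : ∀ k, CycDet.spanBefore R N (fun i => φ (x i)) k = (CycDet.spanBefore R M x k).map φ := fun k => by
    rw [CycDet.spanBefore, CycDet.spanBefore, Submodule.map_span, Set.image_image]
  have hg : Good q.asIdeal fun i => φ (x i) := by
    refine ⟨fun i r hr => ?_, fun i s hs h => ?_⟩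
    · rw [hmapb, ← map_smul]
      exact ⟨_, hgx.adm i r hr, rfl⟩
    · rw [hmapb, ← map_smul] at h
      obtain ⟨w, hw, hwe⟩ := h
      exact hgx.strict i s hs (hinj hwe ▸ hw)
  have hrange : Submodule.span R (Set.range fun i => φ (x i)) = LinearMap.range φ := by
    rw [← Submodule.map_top, ← hx, Submodule.map_span, ← Set.range_comp]
    rfl
  have hfull : Full q.asIdeal fun i => φ (x i) := by
    intro n
    obtain ⟨z, hz⟩ := (hbij hinj).2 (jN n)
    obtain ⟨⟨m, s⟩, hms⟩ := IsLocalizedModule.surj q.asIdeal.primeCompl jM z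
    have h1 : jN ((s : R) • n) = jN (φ m) := by
      rw [map_smul, ← hz, ← hmap, ← show (s : R) • z = jM m from hms]
      exact (LinearMap.map_smul_of_tower _ _ _).symm
    obtain ⟨t, ht⟩ := (IsLocalizedModule.eq_iff_exists q.asIdeal.primeCompl jN).1 h1
    refine ⟨t * s, fun h => (q.2.mem_or_mem h).elim t.2 s.2, ?_⟩
    rw [hrange, mul_smul, show (t : R) • (s : R) • n = (t : R) • φ m from ht, ← map_smul]
    exact ⟨_, rfl⟩
  obtain ⟨n, f', hf', hn, hlen, hsy⟩ := val_of_full hgy hy hg hfull
  refine ⟨n, by rw [← len_top, ← hrange, hlen], ?_⟩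
  haveI := (isFiniteLength_iff_isNoetherian_isArtinian.1 (hgy.isFiniteLength hfully)).1
  haveI := (isFiniteLength_iff_isNoetherian_isArtinian.1 (hgy.isFiniteLength hfully)).2
  have hlenN := hgy.length_eq hfully
  have hne : sy (loc hgy) ≠ 0 := sy_ne_zero hlenN _ (local_span_top hfully)
  subst hl
  obtain rfl : ex = loc hg := Subtype.ext (hex.trans (funext fun i => rfl))
  obtain rfl : ey = loc hgy := Subtype.ext (hey.trans (funext fun i => rfl))
  rw [show f = f' from smul_left_injective _ hne (hsym.symm.trans hsy), hn]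

end Groth.Agent.S1853
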