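import Groth.Statements.S18534
import Groth.Agent.CplGal24.Basic
import Groth.Agent.Cohen12.Completion
-- import your own Groth.Agent.* helpers here

set_option autoImplicit false
universe u
open scoped Pointwise
open EtAlg

namespace Groth.Agent.S18534
open Groth.Agent

/-- Let R be a normal domain which is excellent and S a normal domain containing R on which a finite
group G acts by R-algebra automorphisms, faithfully and with ring of invariants exactly R (so S is
the integral closure of R in a finite Galois extension of Frac R with group G), Q a prime of S lying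
over the prime P of R, and D the decomposition group of Q (the stabilizer of Q in G). Equip the
completion of the local ring S_Q with an action of D by ring automorphisms extending the action of D
on S, and with an algebra structure over the completion of R_P compatible with R → S (both exist and
are unique, by density and continuity). Then D is a Galois group for the completed extension: it
acts faithfully, linearly over the completion of R_P, and its ring of invariants is exactly the
image of the completion of R_P; equivalently the extension of fraction fields of the completed local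
rings is Galois with group D. (Only the completions of the local rings R_P and S_Q are treated. For
the P-adic completion of R itself and the Q-adic completion of S the analogous finiteness fails:
with R = k[x,y], S = k[y,t], t² = x + y², char k ≠ 2 and Q = (t − y) over P = (x), the Q-adic
completion k[y][[t − y]] is not finite over the (x)-adic completion k[y][[x]] and their fraction
fields form an extension of infinite degree.) -/
theorem result
    (R S G : Type u) [CommRing R] [CommRing S] [IsDomain R] [IsDomain S]
    [IsIntegrallyClosed R] [IsIntegrallyClosed S] (hR : EGA4.IsExcellent R)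
    [Algebra R S] [FaithfulSMul R S]
    [Group G] [Finite G] [MulSemiringAction G S] [SMulCommClass G R S] [IsGaloisGroup G R S]
    (P : Ideal R) [P.IsPrime] (Q : Ideal S) [Q.IsPrime] [Q.LiesOver P]
    [MulSemiringAction (MulAction.stabilizer G Q) (EGA4.Cpl (Localization.AtPrime Q))]
    (hact : ∀ (g : MulAction.stabilizer G Q) (s : S),
      g • algebraMap (Localization.AtPrime Q) (EGA4.Cpl (Localization.AtPrime Q)) (algebraMap S (Localization.AtPrime Q) s) =
        algebraMap (Localization.AtPrime Q) (EGA4.Cpl (Localization.AtPrime Q)) (algebraMap S (Localization.AtPrime Q) (g • s)))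
    [Algebra (EGA4.Cpl (Localization.AtPrime P)) (EGA4.Cpl (Localization.AtPrime Q))]
    (halg : ∀ r : R,
      algebraMap (EGA4.Cpl (Localization.AtPrime P)) (EGA4.Cpl (Localization.AtPrime Q)) (algebraMap (Localization.AtPrime P) (EGA4.Cpl (Localization.AtPrime P)) (algebraMap R (Localization.AtPrime P) r)) =
        algebraMap (Localization.AtPrime Q) (EGA4.Cpl (Localization.AtPrime Q)) (algebraMap S (Localization.AtPrime Q) (algebraMap R S r))) :
    IsGaloisGroup (MulAction.stabilizer G Q) (EGA4.Cpl (Localization.AtPrime P)) (EGA4.Cpl (Localization.AtPrime Q)) := by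
  classical
  have : IsNoetherianRing R := hR.1
  have : Algebra.IsInvariant R S G := IsGaloisGroup.isInvariant
  have : FaithfulSMul G S := IsGaloisGroup.faithful R
  have hfin : Module.Finite R S := by
    let K := FractionRing R
    let L := FractionRing S
    let _ : Algebra K L := FractionRing.liftAlgebra R L
    have : IsScalarTower R K L := FractionRing.isScalarTower_liftAlgebra R L
    let _ := IsFractionRing.mulSemiringAction G S L
    have : IsGaloisGroup G K L := IsGaloisGroup.to_isFractionRing G R S K L
    have : FiniteDimensional K L := IsGaloisGroup.finiteDimensional G K L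
    have : IsGalois K L := IsGaloisGroup.isGalois G K L
    have : Algebra.IsIntegral R S := Algebra.IsInvariant.isIntegral R S G
    have : IsIntegralClosure S R L := IsIntegralClosure.of_isIntegrallyClosed S R L
    exact IsIntegralClosure.finite R K L S
  have : IsNoetherianRing S := isNoetherianRing_iff.2 (isNoetherian_of_tower R inferInstance)
  have : Algebra.IsIntegral R S := Algebra.IsInvariant.isIntegral R S G
  -- the two completions
  set A := Localization.AtPrime P
  set B := Localization.AtPrime Q
  have : IsNoetherianRing A := IsLocalization.isNoetherianRing P.primeCompl A inferInstance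
  have : IsNoetherianRing B := IsLocalization.isNoetherianRing Q.primeCompl B inferInstance
  set mA := IsLocalRing.maximalIdeal (EGA4.Cpl A) with hmA
  set mB := IsLocalRing.maximalIdeal (EGA4.Cpl B) with hmB
  let ιA : R →+* EGA4.Cpl A := (algebraMap A (EGA4.Cpl A)).comp (algebraMap R A)
  let ιB : S →+* EGA4.Cpl B := (algebraMap B (EGA4.Cpl B)).comp (algebraMap S B)
  let φ := algebraMap (EGA4.Cpl A) (EGA4.Cpl B)
  have hφ : ∀ r, φ (ιA r) = ιB (algebraMap R S r) := halg
  have hact' : ∀ (g : MulAction.stabilizer G Q) s, g • ιB s = ιB (g • s) := hact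
  have hApow : ∀ n, IsLocalRing.maximalIdeal A ^ n = (P ^ n).map (algebraMap R A) := fun n => by
    rw [Ideal.map_pow, Localization.AtPrime.map_eq_maximalIdeal]
  have hBpow : ∀ n, IsLocalRing.maximalIdeal B ^ n = (Q ^ n).map (algebraMap S B) := fun n => by
    rw [Ideal.map_pow, Localization.AtPrime.map_eq_maximalIdeal]
  have hmApow : ∀ n, mA ^ n = (P ^ n).map ιA := fun n => by
    rw [Cohen12.pow_maximalIdeal_completion, hApow, Ideal.map_map]
  have hmBpow : ∀ n, mB ^ n = (Q ^ n).map ιB := fun n => by
    rw [Cohen12.pow_maximalIdeal_completion, hBpow, Ideal.map_map]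
  have hφm : ∀ n, ∀ x ∈ mA ^ n, φ x ∈ mB ^ n := fun n x hx => by
    have hle : (mA ^ n).map φ ≤ mB ^ n := by
      rw [hmApow, hmBpow, Ideal.map_map, Ideal.map_le_iff_le_comap]
      intro r hr
      rw [Ideal.mem_comap, RingHom.comp_apply, hφ]
      refine Ideal.mem_map_of_mem _ (Ideal.pow_right_mono (Ideal.map_le_iff_le_comap.mpr
        (Q.over_def P).le) n ?_)
      rw [← Ideal.map_pow]
      exact Ideal.mem_map_of_mem _ hr
    exact hle (Ideal.mem_map_of_mem _ hx)
  have hgm : ∀ (g : MulAction.stabilizer G Q) n, ∀ x ∈ mB ^ n, g • x ∈ mB ^ n := fun g n x hx => by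
    have hle : mB ^ n ≤ (mB ^ n).comap
        (MulSemiringAction.toRingHom (MulAction.stabilizer G Q) (EGA4.Cpl B) g) := by
      conv_lhs => rw [hmBpow]
      rw [Ideal.map_le_iff_le_comap]
      intro s hs
      rw [Ideal.mem_comap, Ideal.mem_comap, MulSemiringAction.toRingHom_apply, hact', hmBpow]
      refine Ideal.mem_map_of_mem _ ?_
      have := CplGal24.smul_mem_smul_pow (g : G) hs
      rwa [MulAction.mem_stabilizer_iff.mp g.2] at this
    exact hle hx
  have hunit : ∀ u : R, u ∉ P → IsUnit (ιA u) := fun u hu =>
    (IsLocalization.map_units A (⟨u, hu⟩ : P.primeCompl)).map (algebraMap A (EGA4.Cpl A))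
  have hunitB : ∀ u : R, u ∉ P → IsUnit (ιB (algebraMap R S u)) := fun u hu =>
    hφ u ▸ (hunit u hu).map φ
  have := Cohen12.isAdicComplete_completion B
  have := Cohen12.isAdicComplete_completion A
  have hhaus : ∀ x : EGA4.Cpl B, (∀ n, x ∈ mB ^ n) → x = 0 := fun x hx =>
    IsHausdorff.haus (I := mB) inferInstance x fun n => by
      rw [SModEq.zero, smul_eq_mul, Ideal.mul_top]
      exact hx n
  -- approximation of elements of the completion of `S_Q` by `S` with denominators in `R \ P`
  have happ : ∀ (x : EGA4.Cpl B) N, ∃ u : R, u ∉ P ∧ ∃ s : S,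
      ιB (algebraMap R S u) * x - ιB s ∈ mB ^ N := by
    intro x N
    obtain ⟨b, hb⟩ := Cohen12.exists_sub_mem_pow B N x
    obtain ⟨s, c, rfl⟩ := IsLocalization.exists_mk'_eq Q.primeCompl b
    obtain ⟨u, hu, w, hw⟩ := CplGal24.exists_mul_add_mem P Q c.2 N
    refine ⟨u, hu, s * w, ?_⟩
    have hb' : algebraMap B (EGA4.Cpl B) (IsLocalization.mk' B s c) * ιB c = ιB s := by
      simp only [ιB, RingHom.comp_apply, ← map_mul, IsLocalization.mk'_spec]
    have hw' : ιB (algebraMap R S u - c * w) ∈ mB ^ N := hmBpow N ▸ Ideal.mem_map_of_mem _ hw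
    rw [map_sub, map_mul] at hw'
    have : ιB (algebraMap R S u) * x - ιB (s * w) =
        ιB (algebraMap R S u) * (x - algebraMap B _ (IsLocalization.mk' B s c)) +
          algebraMap B _ (IsLocalization.mk' B s c) * (ιB (algebraMap R S u) - ιB c * ιB w) := by
      rw [map_mul, ← hb']; ring
    rw [this]
    exact add_mem (Ideal.mul_mem_left _ _ hb) (Ideal.mul_mem_left _ _ hw')
  have hdown : ∀ N, ∀ s : S, ιB s ∈ mB ^ N → ∃ u : R, u ∉ P ∧ algebraMap R S u * s ∈ Q ^ N := by
    intro N s hs
    have h1 := (Cohen12.algebraMap_mem_pow_iff B N _).mp hs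
    rw [hBpow] at h1
    obtain ⟨v, hv, hvs⟩ := (IsLocalization.algebraMap_mem_map_algebraMap_iff Q.primeCompl B _ _).mp h1
    exact CplGal24.exists_smul_mem_pow P Q hv N hvs
  refine @IsGaloisGroup.mk _ _ _ _ _ _ _ _ ?_ ?_ ?_
  · -- faithful
    refine ⟨fun {g g'} h => Subtype.ext (FaithfulSMul.eq_of_smul_eq_smul (α := S) fun s => ?_)⟩
    have h1 := h (ιB s)
    rw [hact', hact'] at h1
    have hinj : Function.Injective ιB := by
      refine Function.Injective.comp (g := algebraMap B (EGA4.Cpl B)) ?_
        (IsLocalization.injective B Q.primeCompl_le_nonZeroDivisors)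
      exact AdicCompletion.of_injective (I := IsLocalRing.maximalIdeal B) (M := B)
    exact hinj h1
  · -- linear over the completion of `R_P`
    refine ⟨fun g a x => ?_⟩
    rw [Algebra.smul_def, Algebra.smul_def, smul_mul']
    congr 1
    rw [← sub_eq_zero]
    refine hhaus _ fun n => ?_
    obtain ⟨b, hb⟩ := Cohen12.exists_sub_mem_pow A n a
    obtain ⟨r, u, rfl⟩ := IsLocalization.exists_mk'_eq P.primeCompl b
    have hz : g • φ (algebraMap A _ (IsLocalization.mk' A r u)) =
        φ (algebraMap A _ (IsLocalization.mk' A r u)) := by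
      have hu := hunitB u u.2
      refine hu.mul_right_cancel ?_
      have hs : φ (algebraMap A _ (IsLocalization.mk' A r u)) * ιB (algebraMap R S u) =
          ιB (algebraMap R S r) := by
        rw [← hφ, ← hφ, ← map_mul]
        simp only [ιA, RingHom.comp_apply, ← map_mul, IsLocalization.mk'_spec]
      have hg : ∀ r : R, g • ιB (algebraMap R S r) = ιB (algebraMap R S r) := fun r => by
        rw [hact', Subgroup.smul_def, smul_algebraMap]
      conv_lhs => rw [← hg u, ← smul_mul', hs, hg]
      rw [hs]
    have h1 := hgm g n _ (hφm n _ hb)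
    rw [map_sub, smul_sub, hz] at h1
    have h2 := hφm n _ hb
    rw [map_sub] at h2
    have := sub_mem h1 h2
    rwa [sub_sub_sub_cancel_right] at this
  · -- invariants
    refine ⟨fun x hx => ?_⟩
    choose N hN hN' using CplGal24.exists_lift (G := G) (S := S) P Q
    choose K hK hK' using CplGal24.exists_descend (G := G) (S := S) P Q
    have hxa : ∀ n, ∃ b : A, x - φ (algebraMap A _ b) ∈ mB ^ n := by
      intro n
      obtain ⟨u, hu, s, hs⟩ := happ x (N n)
      have hd : ∀ g : MulAction.stabilizer G Q, ιB (g • s - s) ∈ mB ^ N n := fun g => by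
        have h1 := hgm g _ _ hs
        have hfix : g • ιB (algebraMap R S u) = ιB (algebraMap R S u) := by
          rw [hact', Subgroup.smul_def, smul_algebraMap]
        rw [smul_sub, smul_mul', hx g, hfix, hact'] at h1
        rw [map_sub]
        have := sub_mem hs h1
        rwa [sub_sub_sub_cancel_left] at this
      choose v hv hvs using fun g => hdown (N n) _ (hd g)
      let _ := Fintype.ofFinite (MulAction.stabilizer G Q)
      have hvP : ∏ g, v g ∉ P := fun hmem => by
        obtain ⟨g, -, hg⟩ := (Ideal.IsPrime.prod_mem_iff).mp hmem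
        exact hv g hg
      obtain ⟨w, hw, r, hr⟩ := hN' n (algebraMap R S (∏ g, v g) * s) fun g hg => by
        rw [smul_mul', smul_algebraMap, ← mul_sub,
          ← Finset.prod_erase_mul _ _ (Finset.mem_univ ⟨g, hg⟩), map_mul, mul_assoc]
        exact Ideal.mul_mem_left _ _ (hvs ⟨g, hg⟩)
      have hden : w * (∏ g, v g) * u ∈ P.primeCompl :=
        mul_mem (mul_mem (hw : w ∈ P.primeCompl) hvP) hu
      refine ⟨IsLocalization.mk' A r ⟨_, hden⟩, ?_⟩
      refine (Ideal.unit_mul_mem_iff_mem _ (hunitB _ hden)).mp ?_
      have hb' : ιB (algebraMap R S (w * (∏ g, v g) * u)) * φ (algebraMap A _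
          (IsLocalization.mk' A r ⟨_, hden⟩)) = ιB (algebraMap R S r) := by
        rw [← hφ, ← hφ, ← map_mul]
        simp only [ιA, RingHom.comp_apply, ← map_mul, IsLocalization.mk'_spec'_mk]
      have hr' : ιB (algebraMap R S w * (algebraMap R S (∏ g, v g) * s) - algebraMap R S r) ∈
          mB ^ n := hmBpow n ▸ Ideal.mem_map_of_mem _ hr
      have hs' := Ideal.mul_mem_left _ (ιB (algebraMap R S (w * ∏ g, v g)))
        (Ideal.pow_le_pow_right (hN n) hs)
      rw [mul_sub, hb']
      have := add_mem hs' hr'
      simp only [map_mul, map_sub] at this ⊢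
      convert this using 1
      ring
    let M : ℕ → ℕ := fun n => n + ∑ i ∈ Finset.range (n + 1), K i
    choose b hb using fun n => hxa (M n)
    have hcauchy : ∀ {m n}, m ≤ n → b n - b m ∈ IsLocalRing.maximalIdeal A ^ m := by
      intro m n hmn
      have hKm : K m ≤ M m ∧ K m ≤ M n := by
        constructor
        · exact (Finset.single_le_sum (fun i _ => Nat.zero_le (K i))
            (Finset.mem_range.mpr (Nat.lt_succ_self m))).trans (Nat.le_add_left _ _)
        · exact (Finset.single_le_sum (fun i _ => Nat.zero_le (K i))
            (Finset.mem_range.mpr (Nat.lt_succ_of_le hmn))).trans (Nat.le_add_left _ _)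
      obtain ⟨r, u, hru⟩ := IsLocalization.exists_mk'_eq P.primeCompl (b n - b m)
      rw [← hru]
      have h1 : φ (algebraMap A _ (b n - b m)) ∈ mB ^ K m := by
        have := sub_mem (Ideal.pow_le_pow_right hKm.1 (hb m)) (Ideal.pow_le_pow_right hKm.2 (hb n))
        rwa [sub_sub_sub_cancel_left, ← map_sub, ← map_sub] at this
      have h2 : ιB (algebraMap R S r) ∈ mB ^ K m := by
        have : ιB (algebraMap R S r) = φ (algebraMap A _ (b n - b m)) * ιB (algebraMap R S u) := by
          rw [← hru, ← hφ, ← hφ, ← map_mul]
          simp only [ιA, RingHom.comp_apply, ← map_mul, IsLocalization.mk'_spec]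
        rw [this]
        exact Ideal.mul_mem_right _ _ h1
      obtain ⟨v, hv, hvr⟩ := hdown _ _ h2
      rw [← map_mul] at hvr
      obtain ⟨w, hw, hwr⟩ := hK' m _ hvr
      rw [hApow, IsLocalization.mk'_mem_map_algebraMap_iff P.primeCompl]
      exact ⟨w * v, mul_mem (hw : w ∈ P.primeCompl) hv, by rwa [mul_assoc]⟩
    let f : AdicCompletion.AdicCauchySequence (IsLocalRing.maximalIdeal A) A :=
      ⟨b, fun {m n} hmn => by
        rw [SModEq.sub_mem, smul_eq_mul, Ideal.mul_top]
        have := neg_mem (hcauchy hmn)
        rwa [neg_sub] at this⟩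
    refine ⟨AdicCompletion.mk _ _ f, ?_⟩
    change φ (AdicCompletion.mk _ _ f) = x
    rw [← sub_eq_zero]
    refine hhaus _ fun n => ?_
    have h1 : AdicCompletion.mk _ _ f - algebraMap A _ (b n) ∈ mA ^ n := by
      rw [hmA, ← Cohen12.evalₐ_eq_zero_iff, map_sub, AdicCompletion.evalₐ_mk, AlgHom.commutes]
      exact sub_self _
    have h2 := hφm n _ h1
    rw [map_sub] at h2
    have := sub_mem h2 (Ideal.pow_le_pow_right (Nat.le_add_right _ _) (hb n))
    rwa [sub_sub_sub_cancel_right] at this

end Groth.Agent.S18534
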