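import Groth.Statements.S18536
import Groth.Agent.CplGal24.Compositum
-- import your own Groth.Agent.* helpers here

set_option autoImplicit false
universe u
open EtAlg

namespace Groth.Agent.S18536

/-- Let R be an excellent normal local domain with fraction field K, let L, M ⊇ K be two finite
separable field extensions, both contained in a field Ω that they generate, let A ⊆ Ω be the
localization of the integral closure of R in Ω at one of its maximal ideals, and put S = A ∩ L, T =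
A ∩ M (local rings dominated by A); the completions at the maximal ideals give maps Ŝ → Â ← T̂ (the
algebra structures below are these inclusions and completed inclusions, pinned by the stated
compatibilities). If the residue field of A is generated, over the residue field of S, by the image
of the residue field of T, then the fraction field of Â is the compositum of the fraction fields of
Ŝ and T̂ inside it: every element of Â is a quotient of two elements of the subring of Â generated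
by the images of Ŝ and T̂. -/
theorem result
    (R K L M Ω : Type u) [CommRing R] [IsDomain R] [IsLocalRing R] [IsIntegrallyClosed R]
    (hR : EGA4.IsExcellent R)
    [Field K] [Field L] [Field M] [Field Ω]
    [Algebra R K] [IsFractionRing R K]
    [Algebra K L] [Algebra K M] [Algebra K Ω] [Algebra L Ω] [Algebra M Ω]
    [IsScalarTower K L Ω] [IsScalarTower K M Ω]
    [FiniteDimensional K L] [FiniteDimensional K M] [Algebra.IsSeparable K L] [Algebra.IsSeparable K M]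
    (hΩ : IntermediateField.adjoin K (Set.range (algebraMap L Ω) ∪ Set.range (algebraMap M Ω)) = ⊤)
    [Algebra R L] [Algebra R M] [Algebra R Ω] [IsScalarTower R K L] [IsScalarTower R K M] [IsScalarTower R K Ω]
    [IsScalarTower R L Ω] [IsScalarTower R M Ω]
    (𝔪 : Ideal ↥(integralClosure R Ω)) [𝔪.IsMaximal]
    (A : Subalgebra R Ω)
    (hA : ∀ z : Ω, z ∈ A ↔ ∃ a b : ↥(integralClosure R Ω), b ∉ 𝔪 ∧ z * (b : Ω) = (a : Ω))
    [IsLocalRing ↥A] [IsLocalRing ↥(Subalgebra.comap (IsScalarTower.toAlgHom R L Ω) A)] [IsLocalRing ↥(Subalgebra.comap (IsScalarTower.toAlgHom R M Ω) A)]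
    [Algebra ↥(Subalgebra.comap (IsScalarTower.toAlgHom R L Ω) A) ↥A]
    (hSA : ∀ s : ↥(Subalgebra.comap (IsScalarTower.toAlgHom R L Ω) A), ((algebraMap ↥(Subalgebra.comap (IsScalarTower.toAlgHom R L Ω) A) ↥A s : ↥A) : Ω) = algebraMap L Ω (s : L))
    [Algebra ↥(Subalgebra.comap (IsScalarTower.toAlgHom R M Ω) A) ↥A]
    (hTA : ∀ t : ↥(Subalgebra.comap (IsScalarTower.toAlgHom R M Ω) A), ((algebraMap ↥(Subalgebra.comap (IsScalarTower.toAlgHom R M Ω) A) ↥A t : ↥A) : Ω) = algebraMap M Ω (t : M))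
    [Algebra (EGA4.Cpl ↥(Subalgebra.comap (IsScalarTower.toAlgHom R L Ω) A)) (EGA4.Cpl ↥A)]
    (hcS : ∀ s : ↥(Subalgebra.comap (IsScalarTower.toAlgHom R L Ω) A), algebraMap (EGA4.Cpl ↥(Subalgebra.comap (IsScalarTower.toAlgHom R L Ω) A)) (EGA4.Cpl ↥A) (algebraMap ↥(Subalgebra.comap (IsScalarTower.toAlgHom R L Ω) A) (EGA4.Cpl ↥(Subalgebra.comap (IsScalarTower.toAlgHom R L Ω) A)) s) =
      algebraMap ↥A (EGA4.Cpl ↥A) (algebraMap ↥(Subalgebra.comap (IsScalarTower.toAlgHom R L Ω) A) ↥A s))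
    [Algebra (EGA4.Cpl ↥(Subalgebra.comap (IsScalarTower.toAlgHom R M Ω) A)) (EGA4.Cpl ↥A)]
    (hcT : ∀ t : ↥(Subalgebra.comap (IsScalarTower.toAlgHom R M Ω) A), algebraMap (EGA4.Cpl ↥(Subalgebra.comap (IsScalarTower.toAlgHom R M Ω) A)) (EGA4.Cpl ↥A) (algebraMap ↥(Subalgebra.comap (IsScalarTower.toAlgHom R M Ω) A) (EGA4.Cpl ↥(Subalgebra.comap (IsScalarTower.toAlgHom R M Ω) A)) t) =
      algebraMap ↥A (EGA4.Cpl ↥A) (algebraMap ↥(Subalgebra.comap (IsScalarTower.toAlgHom R M Ω) A) ↥A t))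
    [(IsLocalRing.maximalIdeal ↥A).LiesOver (IsLocalRing.maximalIdeal ↥(Subalgebra.comap (IsScalarTower.toAlgHom R M Ω) A))]
    [(IsLocalRing.maximalIdeal ↥A).LiesOver (IsLocalRing.maximalIdeal ↥(Subalgebra.comap (IsScalarTower.toAlgHom R L Ω) A))]
    (hres : Algebra.adjoin (↥(Subalgebra.comap (IsScalarTower.toAlgHom R L Ω) A) ⧸ IsLocalRing.maximalIdeal ↥(Subalgebra.comap (IsScalarTower.toAlgHom R L Ω) A))
      (Set.range (algebraMap (↥(Subalgebra.comap (IsScalarTower.toAlgHom R M Ω) A) ⧸ IsLocalRing.maximalIdeal ↥(Subalgebra.comap (IsScalarTower.toAlgHom R M Ω) A)) (↥A ⧸ IsLocalRing.maximalIdeal ↥A))) = ⊤) :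
    ∀ x : (EGA4.Cpl ↥A), ∃ a b : (EGA4.Cpl ↥A), a ∈ Algebra.adjoin (EGA4.Cpl ↥(Subalgebra.comap (IsScalarTower.toAlgHom R L Ω) A)) (Set.range (algebraMap (EGA4.Cpl ↥(Subalgebra.comap (IsScalarTower.toAlgHom R M Ω) A)) (EGA4.Cpl ↥A))) ∧ b ∈ Algebra.adjoin (EGA4.Cpl ↥(Subalgebra.comap (IsScalarTower.toAlgHom R L Ω) A)) (Set.range (algebraMap (EGA4.Cpl ↥(Subalgebra.comap (IsScalarTower.toAlgHom R M Ω) A)) (EGA4.Cpl ↥A))) ∧ b ≠ 0 ∧ x * b = a := by
  classical
  have : IsNoetherianRing R := hR.1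
  obtain ⟨hfd, hsep⟩ := CplGal24.finite_separable_compositum K L M Ω hΩ
  have : Module.Finite R ↥(integralClosure R Ω) := IsIntegralClosure.finite R K Ω _
  have hCA : integralClosure R Ω ≤ A := fun z hz => (hA z).mpr
    ⟨⟨z, hz⟩, 1, fun h => Ideal.IsPrime.ne_top inferInstance (𝔪.eq_top_iff_one.mpr h), by simp⟩
  let algCA : Algebra ↥(integralClosure R Ω) ↥A := (Subalgebra.inclusion hCA).toRingHom.toAlgebra
  have : IsScalarTower R ↥(integralClosure R Ω) ↥A := IsScalarTower.of_algebraMap_eq fun _ => rfl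
  have hcoe : ∀ c : ↥(integralClosure R Ω), ((algebraMap ↥(integralClosure R Ω) ↥A c : ↥A) : Ω) = (c : Ω) :=
    fun _ => rfl
  have : IsLocalization.AtPrime ↥A 𝔪 := by
    refine ⟨⟨fun c => ?_, fun z => ?_, fun {x y} h => ⟨1, by rw [show x = y from Subtype.ext (congrArg (fun a : ↥A => (a : Ω)) h)]⟩⟩⟩
    · have hc0 : ((c : ↥(integralClosure R Ω)) : Ω) ≠ 0 := fun h => c.2 (by
        rw [show (c : ↥(integralClosure R Ω)) = 0 from Subtype.ext h]; exact zero_mem _)
      refine isUnit_iff_exists_inv.mpr ⟨⟨((c : ↥(integralClosure R Ω)) : Ω)⁻¹,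
        (hA _).mpr ⟨1, c, c.2, ?_⟩⟩, ?_⟩
      · rw [inv_mul_cancel₀ hc0]; rfl
      · exact Subtype.ext (mul_inv_cancel₀ hc0)
    · obtain ⟨a, b, hb, hab⟩ := (hA _).mp z.2
      exact ⟨⟨a, b, hb⟩, Subtype.ext hab⟩
  have : IsNoetherianRing ↥A := CplGal24.isNoetherianRing_local R ↥(integralClosure R Ω) 𝔪 ↥A
  have hRA := CplGal24.map_maximalIdeal_le R ↥(integralClosure R Ω) 𝔪 ↥A
  have hRS : ∀ r : R, algebraMap ↥(Subalgebra.comap (IsScalarTower.toAlgHom R L Ω) A) ↥A (algebraMap R ↥(Subalgebra.comap (IsScalarTower.toAlgHom R L Ω) A) r) = algebraMap R ↥A r := fun r => Subtype.ext (by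
    rw [hSA]; exact (IsScalarTower.algebraMap_apply R L Ω r).symm)
  have hmS : (IsLocalRing.maximalIdeal R).map (algebraMap R ↥(Subalgebra.comap (IsScalarTower.toAlgHom R L Ω) A)) ≤ IsLocalRing.maximalIdeal ↥(Subalgebra.comap (IsScalarTower.toAlgHom R L Ω) A) :=
    Ideal.map_le_iff_le_comap.mpr fun r hr hu =>
      hRA (Ideal.mem_map_of_mem _ hr) (hRS r ▸ hu.map (algebraMap ↥(Subalgebra.comap (IsScalarTower.toAlgHom R L Ω) A) ↥A))
  obtain ⟨ρS⟩ := CplGal24.exists_cplMap R ↥(Subalgebra.comap (IsScalarTower.toAlgHom R L Ω) A) hmS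
  let φS := algebraMap (EGA4.Cpl ↥(Subalgebra.comap (IsScalarTower.toAlgHom R L Ω) A)) (EGA4.Cpl ↥A)
  let ρ : EGA4.Cpl R →ₐ[R] EGA4.Cpl ↥A :=
    { φS.comp ρS.toRingHom with
      commutes' := fun r => by
        show φS (ρS (algebraMap R _ r)) = _
        rw [ρS.commutes, IsScalarTower.algebraMap_apply R ↥(Subalgebra.comap (IsScalarTower.toAlgHom R L Ω) A) (EGA4.Cpl ↥(Subalgebra.comap (IsScalarTower.toAlgHom R L Ω) A)), hcS, hRS,
          ← IsScalarTower.algebraMap_apply] }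
  set W := Algebra.adjoin (EGA4.Cpl ↥(Subalgebra.comap (IsScalarTower.toAlgHom R L Ω) A))
    (Set.range (algebraMap (EGA4.Cpl ↥(Subalgebra.comap (IsScalarTower.toAlgHom R M Ω) A)) (EGA4.Cpl ↥A))) with hW
  have hSW : ∀ x, φS x ∈ W := fun x => W.algebraMap_mem x
  have hgen : ∀ c ∈ CplGal24.gens R L M Ω,
      algebraMap ↥(integralClosure R Ω) (EGA4.Cpl ↥A) c ∈ W.toSubring := by
    intro c hc
    rw [IsScalarTower.algebraMap_apply ↥(integralClosure R Ω) ↥A (EGA4.Cpl ↥A)]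
    rcases hc with ⟨l, hl⟩ | ⟨m, hm⟩
    · have hlS : l ∈ Subalgebra.comap (IsScalarTower.toAlgHom R L Ω) A := (show algebraMap L Ω l ∈ A from hl ▸ hCA c.2)
      rw [show algebraMap ↥(integralClosure R Ω) ↥A c = algebraMap ↥(Subalgebra.comap (IsScalarTower.toAlgHom R L Ω) A) ↥A ⟨l, hlS⟩ from
        Subtype.ext (by rw [hSA, hcoe]; exact hl.symm), ← hcS]
      exact hSW _
    · have hmT : m ∈ Subalgebra.comap (IsScalarTower.toAlgHom R M Ω) A := (show algebraMap M Ω m ∈ A from hm ▸ hCA c.2)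
      rw [show algebraMap ↥(integralClosure R Ω) ↥A c = algebraMap ↥(Subalgebra.comap (IsScalarTower.toAlgHom R M Ω) A) ↥A ⟨m, hmT⟩ from
        Subtype.ext (by rw [hTA, hcoe]; exact hm.symm), ← hcT]
      exact Algebra.subset_adjoin ⟨_, rfl⟩
  obtain ⟨d, hd0, hd⟩ := CplGal24.exists_mul_mem R K L M Ω 𝔪 ↥A hΩ ρ W.toSubring
    (fun r => hSW _) hgen
  intro x
  refine ⟨algebraMap R _ d * x, algebraMap R _ d, hd x, ?_, hd0, mul_comm _ _⟩
  simpa using hd 1

end Groth.Agent.S18536
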