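import Groth.Statements.S18537
import Groth.Agent.CplGal24.Compositum
import Groth.Agent.CplGal24.NormalTensor
-- import your own Groth.Agent.* helpers here

set_option autoImplicit false
set_option maxHeartbeats 4000000
set_option synthInstance.maxHeartbeats 400000
universe u
open EtAlg

namespace Groth.Agent.S18537

/-- Let R be an excellent normal local domain with fraction field K, let L, M ⊇ K be two finite
separable field extensions, both contained in a field Ω that they generate, let A ⊆ Ω be the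
localization of the integral closure of R in Ω at one of its maximal ideals, and put S = A ∩ L, T =
A ∩ M; these are local rings, T ⊆ A, and the completions at the maximal ideals give maps Ŝ → Â ← T̂
(the algebra structures below are these inclusions and completed inclusions, pinned by the stated
compatibilities). If, inside the fraction field of Â, the ring Ŝ lies in the fraction field of T̂
(every element of Ŝ becomes a quotient of two elements of T̂), then A is unramified over T: m_T A =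
m_A and A/m_A is a finite separable extension of T/m_T. -/
theorem result
    (R K L M Ω : Type u) [CommRing R] [IsDomain R] [IsLocalRing R] [IsIntegrallyClosed R]
    (hR : EGA4.IsExcellent R)
    [Field K] [Field L] [Field M] [Field Ω]
    [Algebra R K] [IsFractionRing R K]
    [Algebra K L] [Algebra K M] [Algebra K Ω] [Algebra L Ω] [Algebra M Ω]
    [IsScalarTower K L Ω] [IsScalarTower K M Ω]
    [FiniteDimensional K L] [FiniteDimensional K M] [Algebra.IsSeparable K L] [Algebra.IsSeparable K M]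
    (hΩ : IntermediateField.adjoin K (Set.range (algebraMap L Ω) ∪ Set.range (algebraMap M Ω)) = ⊤)
    [Algebra R L] [Algebra R M] [Algebra R Ω] [IsScalarTower R K L] [IsScalarTower R K M] [IsScalarTower R K Ω]
    [IsScalarTower R L Ω] [IsScalarTower R M Ω]
    (𝔪 : Ideal ↥(integralClosure R Ω)) [𝔪.IsMaximal]
    (A : Subalgebra R Ω)
    (hA : ∀ z : Ω, z ∈ A ↔ ∃ a b : ↥(integralClosure R Ω), b ∉ 𝔪 ∧ z * (b : Ω) = (a : Ω))
    [IsLocalRing ↥A] [IsLocalRing ↥(Subalgebra.comap (IsScalarTower.toAlgHom R L Ω) A)] [IsLocalRing ↥(Subalgebra.comap (IsScalarTower.toAlgHom R M Ω) A)]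
    [Algebra ↥(Subalgebra.comap (IsScalarTower.toAlgHom R L Ω) A) ↥A]
    (hSA : ∀ s : ↥(Subalgebra.comap (IsScalarTower.toAlgHom R L Ω) A), ((algebraMap ↥(Subalgebra.comap (IsScalarTower.toAlgHom R L Ω) A) ↥A s : ↥A) : Ω) = algebraMap L Ω (s : L))
    [Algebra ↥(Subalgebra.comap (IsScalarTower.toAlgHom R M Ω) A) ↥A]
    (hTA : ∀ t : ↥(Subalgebra.comap (IsScalarTower.toAlgHom R M Ω) A), ((algebraMap ↥(Subalgebra.comap (IsScalarTower.toAlgHom R M Ω) A) ↥A t : ↥A) : Ω) = algebraMap M Ω (t : M))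
    [Algebra (EGA4.Cpl ↥(Subalgebra.comap (IsScalarTower.toAlgHom R L Ω) A)) (EGA4.Cpl ↥A)]
    (hcS : ∀ s : ↥(Subalgebra.comap (IsScalarTower.toAlgHom R L Ω) A), algebraMap (EGA4.Cpl ↥(Subalgebra.comap (IsScalarTower.toAlgHom R L Ω) A)) (EGA4.Cpl ↥A) (algebraMap ↥(Subalgebra.comap (IsScalarTower.toAlgHom R L Ω) A) (EGA4.Cpl ↥(Subalgebra.comap (IsScalarTower.toAlgHom R L Ω) A)) s) =
      algebraMap ↥A (EGA4.Cpl ↥A) (algebraMap ↥(Subalgebra.comap (IsScalarTower.toAlgHom R L Ω) A) ↥A s))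
    [Algebra (EGA4.Cpl ↥(Subalgebra.comap (IsScalarTower.toAlgHom R M Ω) A)) (EGA4.Cpl ↥A)]
    (hcT : ∀ t : ↥(Subalgebra.comap (IsScalarTower.toAlgHom R M Ω) A), algebraMap (EGA4.Cpl ↥(Subalgebra.comap (IsScalarTower.toAlgHom R M Ω) A)) (EGA4.Cpl ↥A) (algebraMap ↥(Subalgebra.comap (IsScalarTower.toAlgHom R M Ω) A) (EGA4.Cpl ↥(Subalgebra.comap (IsScalarTower.toAlgHom R M Ω) A)) t) =
      algebraMap ↥A (EGA4.Cpl ↥A) (algebraMap ↥(Subalgebra.comap (IsScalarTower.toAlgHom R M Ω) A) ↥A t))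
    [(IsLocalRing.maximalIdeal ↥A).LiesOver (IsLocalRing.maximalIdeal ↥(Subalgebra.comap (IsScalarTower.toAlgHom R M Ω) A))]
    (hLM : ∀ x : (EGA4.Cpl ↥(Subalgebra.comap (IsScalarTower.toAlgHom R L Ω) A)), ∃ a b : (EGA4.Cpl ↥(Subalgebra.comap (IsScalarTower.toAlgHom R M Ω) A)), algebraMap (EGA4.Cpl ↥(Subalgebra.comap (IsScalarTower.toAlgHom R M Ω) A)) (EGA4.Cpl ↥A) b ≠ 0 ∧
      algebraMap (EGA4.Cpl ↥(Subalgebra.comap (IsScalarTower.toAlgHom R L Ω) A)) (EGA4.Cpl ↥A) x * algebraMap (EGA4.Cpl ↥(Subalgebra.comap (IsScalarTower.toAlgHom R M Ω) A)) (EGA4.Cpl ↥A) b = algebraMap (EGA4.Cpl ↥(Subalgebra.comap (IsScalarTower.toAlgHom R M Ω) A)) (EGA4.Cpl ↥A) a) :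
    (IsLocalRing.maximalIdeal ↥(Subalgebra.comap (IsScalarTower.toAlgHom R M Ω) A)).map (algebraMap ↥(Subalgebra.comap (IsScalarTower.toAlgHom R M Ω) A) ↥A) = IsLocalRing.maximalIdeal ↥A ∧
      Module.Finite (↥(Subalgebra.comap (IsScalarTower.toAlgHom R M Ω) A) ⧸ IsLocalRing.maximalIdeal ↥(Subalgebra.comap (IsScalarTower.toAlgHom R M Ω) A)) (↥A ⧸ IsLocalRing.maximalIdeal ↥A) ∧
      Algebra.IsSeparable (↥(Subalgebra.comap (IsScalarTower.toAlgHom R M Ω) A) ⧸ IsLocalRing.maximalIdeal ↥(Subalgebra.comap (IsScalarTower.toAlgHom R M Ω) A)) (↥A ⧸ IsLocalRing.maximalIdeal ↥A) := by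
  classical
  have : IsNoetherianRing R := hR.1
  obtain ⟨hfd, hsep⟩ := CplGal24.finite_separable_compositum K L M Ω hΩ
  have : Module.Finite R ↥(integralClosure R Ω) := IsIntegralClosure.finite R K Ω _
  have hCA : integralClosure R Ω ≤ A := fun z hz => (hA z).mpr
    ⟨⟨z, hz⟩, 1, fun h => Ideal.IsPrime.ne_top inferInstance (𝔪.eq_top_iff_one.mpr h), by simp⟩
  let algCA : Algebra ↥(integralClosure R Ω) ↥A := (Subalgebra.inclusion hCA).toRingHom.toAlgebra
  have : IsScalarTower R ↥(integralClosure R Ω) ↥A := IsScalarTower.of_algebraMap_eq fun _ => rfl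
  have hcoe : ∀ c : ↥(integralClosure R Ω), ((algebraMap ↥(integralClosure R Ω) ↥A c : ↥A) : Ω) = (c : Ω) :=
    fun _ => rfl
  have : IsLocalization.AtPrime ↥A 𝔪 := by
    refine ⟨⟨fun c => ?_, fun z => ?_, fun {x y} h => ⟨1, by rw [show x = y from Subtype.ext (congrArg (fun a : ↥A => (a : Ω)) h)]⟩⟩⟩
    · have hc0 : ((c : ↥(integralClosure R Ω)) : Ω) ≠ 0 := fun h => c.2 (by
        rw [show (c : ↥(integralClosure R Ω)) = 0 from Subtype.ext h]; exact zero_mem _)
      refine isUnit_iff_exists_inv.mpr ⟨⟨((c : ↥(integralClosure R Ω)) : Ω)⁻¹,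
        (hA _).mpr ⟨1, c, c.2, ?_⟩⟩, ?_⟩
      · rw [inv_mul_cancel₀ hc0]; rfl
      · exact Subtype.ext (mul_inv_cancel₀ hc0)
    · obtain ⟨a, b, hb, hab⟩ := (hA _).mp z.2
      exact ⟨⟨a, b, hb⟩, Subtype.ext hab⟩
  have : IsNoetherianRing ↥A := CplGal24.isNoetherianRing_local R ↥(integralClosure R Ω) 𝔪 ↥A
  have hRA := CplGal24.map_maximalIdeal_le R ↥(integralClosure R Ω) 𝔪 ↥A
  have hRS : ∀ r : R, algebraMap ↥(Subalgebra.comap (IsScalarTower.toAlgHom R L Ω) A) ↥A (algebraMap R ↥(Subalgebra.comap (IsScalarTower.toAlgHom R L Ω) A) r) = algebraMap R ↥A r := fun r => Subtype.ext (by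
    rw [hSA]; exact (IsScalarTower.algebraMap_apply R L Ω r).symm)
  have hmS : (IsLocalRing.maximalIdeal R).map (algebraMap R ↥(Subalgebra.comap (IsScalarTower.toAlgHom R L Ω) A)) ≤ IsLocalRing.maximalIdeal ↥(Subalgebra.comap (IsScalarTower.toAlgHom R L Ω) A) :=
    Ideal.map_le_iff_le_comap.mpr fun r hr hu =>
      hRA (Ideal.mem_map_of_mem _ hr) (hRS r ▸ hu.map (algebraMap ↥(Subalgebra.comap (IsScalarTower.toAlgHom R L Ω) A) ↥A))
  obtain ⟨ρS⟩ := CplGal24.exists_cplMap R ↥(Subalgebra.comap (IsScalarTower.toAlgHom R L Ω) A) hmS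
  let φS := algebraMap (EGA4.Cpl ↥(Subalgebra.comap (IsScalarTower.toAlgHom R L Ω) A)) (EGA4.Cpl ↥A)
  let ρ : EGA4.Cpl R →ₐ[R] EGA4.Cpl ↥A :=
    { φS.comp ρS.toRingHom with
      commutes' := fun r => by
        show φS (ρS (algebraMap R _ r)) = _
        rw [ρS.commutes, IsScalarTower.algebraMap_apply R ↥(Subalgebra.comap (IsScalarTower.toAlgHom R L Ω) A) (EGA4.Cpl ↥(Subalgebra.comap (IsScalarTower.toAlgHom R L Ω) A)), hcS, hRS,
          ← IsScalarTower.algebraMap_apply] }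
  set W := Algebra.adjoin (EGA4.Cpl ↥(Subalgebra.comap (IsScalarTower.toAlgHom R L Ω) A))
    (Set.range (algebraMap (EGA4.Cpl ↥(Subalgebra.comap (IsScalarTower.toAlgHom R M Ω) A)) (EGA4.Cpl ↥A))) with hW
  have hSW : ∀ x, φS x ∈ W := fun x => W.algebraMap_mem x
  have hgen : ∀ c ∈ CplGal24.gens R L M Ω,
      algebraMap ↥(integralClosure R Ω) (EGA4.Cpl ↥A) c ∈ W.toSubring := by
    intro c hc
    rw [IsScalarTower.algebraMap_apply ↥(integralClosure R Ω) ↥A (EGA4.Cpl ↥A)]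
    rcases hc with ⟨l, hl⟩ | ⟨m, hm⟩
    · have hlS : l ∈ Subalgebra.comap (IsScalarTower.toAlgHom R L Ω) A := (show algebraMap L Ω l ∈ A from hl ▸ hCA c.2)
      rw [show algebraMap ↥(integralClosure R Ω) ↥A c = algebraMap ↥(Subalgebra.comap (IsScalarTower.toAlgHom R L Ω) A) ↥A ⟨l, hlS⟩ from
        Subtype.ext (by rw [hSA, hcoe]; exact hl.symm), ← hcS]
      exact hSW _
    · have hmT : m ∈ Subalgebra.comap (IsScalarTower.toAlgHom R M Ω) A := (show algebraMap M Ω m ∈ A from hm ▸ hCA c.2)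
      rw [show algebraMap ↥(integralClosure R Ω) ↥A c = algebraMap ↥(Subalgebra.comap (IsScalarTower.toAlgHom R M Ω) A) ↥A ⟨m, hmT⟩ from
        Subtype.ext (by rw [hTA, hcoe]; exact hm.symm), ← hcT]
      exact Algebra.subset_adjoin ⟨_, rfl⟩
  obtain ⟨d, hd0, hd⟩ := CplGal24.exists_mul_mem R K L M Ω 𝔪 ↥A hΩ ρ W.toSubring
    (fun r => hSW _) hgen
  -- `T` is the local ring of the integral closure in `M`
  have : Module.Finite R ↥(integralClosure R M) := IsIntegralClosure.finite R K M _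
  let g : ↥(integralClosure R M) →ₐ[R] ↥(integralClosure R Ω) :=
    ((IsScalarTower.toAlgHom R M Ω).comp (integralClosure R M).val).codRestrict (integralClosure R Ω)
      (fun b => b.2.map (IsScalarTower.toAlgHom R M Ω))
  let q := 𝔪.comap g.toRingHom
  have : Algebra.IsIntegral R ↥(integralClosure R Ω) := Algebra.IsIntegral.of_finite R _
  have : q.IsPrime := Ideal.IsPrime.comap _
  have hqmax : q.IsMaximal := by
    refine Ideal.isMaximal_of_isIntegral_of_isMaximal_comap (R := R) q ?_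
    rw [Ideal.comap_comap, show g.toRingHom.comp (algebraMap R _) = algebraMap R _ from g.comp_algebraMap]
    exact Ideal.IsMaximal.under R 𝔪
  have hBT : integralClosure R M ≤ Subalgebra.comap (IsScalarTower.toAlgHom R M Ω) A := fun b hb => hCA (g ⟨b, hb⟩).2
  let algBT : Algebra ↥(integralClosure R M) ↥(Subalgebra.comap (IsScalarTower.toAlgHom R M Ω) A) := (Subalgebra.inclusion hBT).toRingHom.toAlgebra
  have : IsScalarTower R ↥(integralClosure R M) ↥(Subalgebra.comap (IsScalarTower.toAlgHom R M Ω) A) := IsScalarTower.of_algebraMap_eq fun _ => rfl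
  have : IsLocalization.AtPrime ↥(Subalgebra.comap (IsScalarTower.toAlgHom R M Ω) A) q := by
    refine ⟨⟨fun c => ?_, fun z => ?_, fun {x y} h => ⟨1, by rw [show x = y from Subtype.ext (congrArg (fun a : ↥(Subalgebra.comap (IsScalarTower.toAlgHom R M Ω) A) => (a : M)) h)]⟩⟩⟩
    · have hc0 : ((c : ↥(integralClosure R M)) : M) ≠ 0 := fun h => c.2 (by
        rw [show (c : ↥(integralClosure R M)) = 0 from Subtype.ext h]; exact zero_mem _)
      have hgc : (g (c : ↥(integralClosure R M)) : Ω) = algebraMap M Ω (c : M) := rfl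
      have hmem : ((c : ↥(integralClosure R M)) : M)⁻¹ ∈ Subalgebra.comap (IsScalarTower.toAlgHom R M Ω) A := (hA _).mpr ⟨1, g c, c.2, by
        rw [hgc]
        show algebraMap M Ω _ * _ = _
        rw [← map_mul, inv_mul_cancel₀ hc0, map_one]; rfl⟩
      exact isUnit_iff_exists_inv.mpr ⟨⟨_, hmem⟩, Subtype.ext (mul_inv_cancel₀ hc0)⟩
    · obtain ⟨a, b, hb, hab⟩ := (hA _).mp (show algebraMap M Ω (z : M) ∈ A from z.2)
      obtain ⟨s, t, ht, hst⟩ := CplGal24.mem_comap_iff R K M Ω 𝔪 g.toRingHom (fun _ => rfl) (z : M) a b hb hab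
      exact ⟨⟨s, t, ht⟩, Subtype.ext hst⟩
  have : IsNoetherianRing ↥(Subalgebra.comap (IsScalarTower.toAlgHom R M Ω) A) := CplGal24.isNoetherianRing_local R ↥(integralClosure R M) q ↥(Subalgebra.comap (IsScalarTower.toAlgHom R M Ω) A)
  -- both completions are normal domains
  have hG := hR.2.2.1
  obtain ⟨hRd, -⟩ := CplGal24.isDomain_isIntegrallyClosed_cpl_self R hG
  obtain ⟨ρT⟩ := CplGal24.exists_cplMap R ↥(Subalgebra.comap (IsScalarTower.toAlgHom R M Ω) A)
    (CplGal24.map_maximalIdeal_le R ↥(integralClosure R M) q ↥(Subalgebra.comap (IsScalarTower.toAlgHom R M Ω) A))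
  have : IsIntegrallyClosed ↥(integralClosure R M) :=
    integralClosure.isIntegrallyClosedOfFiniteExtension K
  have : IsIntegrallyClosed ↥(integralClosure R Ω) :=
    integralClosure.isIntegrallyClosedOfFiniteExtension K
  obtain ⟨hTd, hTi⟩ := CplGal24.isDomain_isIntegrallyClosed_cpl R ↥(integralClosure R M) q ↥(Subalgebra.comap (IsScalarTower.toAlgHom R M Ω) A) ρT
    (CplGal24.isNormalRing_tensor R _ hG)
  obtain ⟨hAd, -⟩ := CplGal24.isDomain_isIntegrallyClosed_cpl R ↥(integralClosure R Ω) 𝔪 ↥A ρ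
    (CplGal24.isNormalRing_tensor R _ hG)
  let φ := algebraMap (EGA4.Cpl ↥(Subalgebra.comap (IsScalarTower.toAlgHom R M Ω) A)) (EGA4.Cpl ↥A)
  have hRT : ∀ r : R, algebraMap ↥(Subalgebra.comap (IsScalarTower.toAlgHom R M Ω) A) ↥A (algebraMap R ↥(Subalgebra.comap (IsScalarTower.toAlgHom R M Ω) A) r) = algebraMap R ↥A r := fun r => Subtype.ext (by
    rw [hTA]; exact (IsScalarTower.algebraMap_apply R M Ω r).symm)
  let ρ' : EGA4.Cpl R →ₐ[R] EGA4.Cpl ↥A :=
    { φ.comp ρT.toRingHom with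
      commutes' := fun r => by
        show φ (ρT (algebraMap R _ r)) = _
        rw [ρT.commutes, IsScalarTower.algebraMap_apply R ↥(Subalgebra.comap (IsScalarTower.toAlgHom R M Ω) A) (EGA4.Cpl ↥(Subalgebra.comap (IsScalarTower.toAlgHom R M Ω) A)), hcT, hRT,
          ← IsScalarTower.algebraMap_apply] }
  -- the completed extension is finite and injective
  let algRT : Algebra (EGA4.Cpl R) (EGA4.Cpl ↥(Subalgebra.comap (IsScalarTower.toAlgHom R M Ω) A)) := ρT.toRingHom.toAlgebra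
  let algRA : Algebra (EGA4.Cpl R) (EGA4.Cpl ↥A) := ρ'.toRingHom.toAlgebra
  have : IsScalarTower (EGA4.Cpl R) (EGA4.Cpl ↥(Subalgebra.comap (IsScalarTower.toAlgHom R M Ω) A)) (EGA4.Cpl ↥A) :=
    IsScalarTower.of_algebraMap_eq fun _ => rfl
  obtain ⟨hfT, -⟩ := CplGal24.finite_of_hom R ↥(integralClosure R M) q ↥(Subalgebra.comap (IsScalarTower.toAlgHom R M Ω) A) ρT
  obtain ⟨hfA, -⟩ := CplGal24.finite_of_hom R ↥(integralClosure R Ω) 𝔪 ↥A ρ'
  have hfin : Module.Finite (EGA4.Cpl ↥(Subalgebra.comap (IsScalarTower.toAlgHom R M Ω) A)) (EGA4.Cpl ↥A) :=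
    Module.Finite.of_restrictScalars_finite (EGA4.Cpl R) _ _
  have hinj : Function.Injective φ := by
    have h1 : Function.Injective ρ' := CplGal24.injective_of_hom R ↥(integralClosure R Ω) 𝔪 ↥A ρ' K Ω
      (integralClosure R Ω).val.toLinearMap Subtype.val_injective
    rw [RingHom.injective_iff_ker_eq_bot]
    have : (RingHom.ker φ).IsPrime := RingHom.ker_isPrime φ
    have : Algebra.IsIntegral (EGA4.Cpl R) (EGA4.Cpl ↥(Subalgebra.comap (IsScalarTower.toAlgHom R M Ω) A)) := Algebra.IsIntegral.of_finite _ _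
    refine Ideal.eq_bot_of_comap_eq_bot (R := EGA4.Cpl R) (eq_bot_iff.mpr fun r hr => ?_)
    exact h1 ((hr : φ (ρT r) = 0).trans (map_zero _).symm)
  -- every element is a quotient of elements of the completion of `T`
  have hfrac : ∀ y ∈ W, ∃ a b : EGA4.Cpl ↥(Subalgebra.comap (IsScalarTower.toAlgHom R M Ω) A), φ b ≠ 0 ∧ y * φ b = φ a := by
    intro y hy
    induction hy using Algebra.adjoin_induction with
    | mem y hy =>
      obtain ⟨t, rfl⟩ := hy
      exact ⟨t, 1, by rw [map_one]; exact one_ne_zero, by rw [map_one, mul_one]⟩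
    | algebraMap s => exact hLM s
    | add x y _ _ hx hy =>
      obtain ⟨a, b, hb, hab⟩ := hx
      obtain ⟨a', b', hb', hab'⟩ := hy
      refine ⟨a * b' + a' * b, b * b', by rw [map_mul]; exact mul_ne_zero hb hb', ?_⟩
      simp only [map_add, map_mul, ← hab, ← hab']
      ring
    | mul x y _ _ hx hy =>
      obtain ⟨a, b, hb, hab⟩ := hx
      obtain ⟨a', b', hb', hab'⟩ := hy
      refine ⟨a * a', b * b', by rw [map_mul]; exact mul_ne_zero hb hb', ?_⟩
      simp only [map_mul, ← hab, ← hab']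
      ring
  have hsurj : Function.Surjective φ := by
    intro x
    obtain ⟨a, b, hb, hab⟩ := hfrac _ (hd x)
    obtain ⟨a', b', hb', hab'⟩ := hfrac _ (show algebraMap R (EGA4.Cpl ↥A) d ∈ W by simpa using hd 1)
    have ha' : a' ≠ 0 := fun h => mul_ne_zero hd0 hb' (by rw [hab', h, map_zero])
    have hb0 : b ≠ 0 := fun h => hb (by rw [h, map_zero])
    have hx : x * φ (a' * b) = φ (a * b') := by
      rw [map_mul, map_mul, ← hab', ← hab]; ring
    let Q := FractionRing (EGA4.Cpl ↥(Subalgebra.comap (IsScalarTower.toAlgHom R M Ω) A))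
    let F := FractionRing (EGA4.Cpl ↥A)
    have hmap : Function.Injective (algebraMap (EGA4.Cpl ↥(Subalgebra.comap (IsScalarTower.toAlgHom R M Ω) A)) F) := by
      rw [IsScalarTower.algebraMap_eq (EGA4.Cpl ↥(Subalgebra.comap (IsScalarTower.toAlgHom R M Ω) A)) (EGA4.Cpl ↥A) F]
      exact (IsFractionRing.injective (EGA4.Cpl ↥A) F).comp hinj
    let j : Q →ₐ[EGA4.Cpl ↥(Subalgebra.comap (IsScalarTower.toAlgHom R M Ω) A)] F := IsFractionRing.liftAlgHom (g := Algebra.ofId (EGA4.Cpl ↥(Subalgebra.comap (IsScalarTower.toAlgHom R M Ω) A)) F) hmap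
    let y : Q := algebraMap _ Q (a * b') / algebraMap _ Q (a' * b)
    have hjy : j y = algebraMap _ F x := by
      rw [map_div₀, AlgHom.commutes, AlgHom.commutes, div_eq_iff (fun h =>
          mul_ne_zero ha' hb0 (hmap (h.trans (map_zero _).symm))),
        IsScalarTower.algebraMap_apply (EGA4.Cpl ↥(Subalgebra.comap (IsScalarTower.toAlgHom R M Ω) A)) (EGA4.Cpl ↥A) F,
        IsScalarTower.algebraMap_apply (EGA4.Cpl ↥(Subalgebra.comap (IsScalarTower.toAlgHom R M Ω) A)) (EGA4.Cpl ↥A) F, ← map_mul]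
      exact congrArg _ hx.symm
    have hint : IsIntegral (EGA4.Cpl ↥(Subalgebra.comap (IsScalarTower.toAlgHom R M Ω) A)) y := by
      rw [← isIntegral_algHom_iff j j.toRingHom.injective, hjy]
      exact (Algebra.IsIntegral.isIntegral x).algebraMap
    obtain ⟨c, hc⟩ := IsIntegrallyClosed.isIntegral_iff.mp hint
    refine ⟨c, IsFractionRing.injective (EGA4.Cpl ↥A) F ?_⟩
    rw [← hjy, ← hc, AlgHom.commutes, IsScalarTower.algebraMap_apply (EGA4.Cpl ↥(Subalgebra.comap (IsScalarTower.toAlgHom R M Ω) A)) (EGA4.Cpl ↥A) F]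
  -- conclusion
  have hφm : ∀ t ∈ IsLocalRing.maximalIdeal (EGA4.Cpl ↥(Subalgebra.comap (IsScalarTower.toAlgHom R M Ω) A)),
      φ t ∈ IsLocalRing.maximalIdeal (EGA4.Cpl ↥A) := fun t ht =>
    have := Function.Surjective.isLocalHom φ hsurj
    map_nonunit φ t ht
  have hres : Function.Surjective (algebraMap (↥(Subalgebra.comap (IsScalarTower.toAlgHom R M Ω) A) ⧸ IsLocalRing.maximalIdeal ↥(Subalgebra.comap (IsScalarTower.toAlgHom R M Ω) A))
      (↥A ⧸ IsLocalRing.maximalIdeal ↥A)) := by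
    intro z
    obtain ⟨a, rfl⟩ := Ideal.Quotient.mk_surjective z
    obtain ⟨t, ht⟩ := hsurj (algebraMap ↥A (EGA4.Cpl ↥A) a)
    obtain ⟨t0, ht0⟩ := Groth.Agent.Cohen12.exists_sub_mem_pow ↥(Subalgebra.comap (IsScalarTower.toAlgHom R M Ω) A) 1 t
    refine ⟨Ideal.Quotient.mk _ t0, ?_⟩
    show Ideal.Quotient.mk _ (algebraMap ↥(Subalgebra.comap (IsScalarTower.toAlgHom R M Ω) A) ↥A t0) = _
    rw [eq_comm, Ideal.Quotient.eq, ← pow_one (IsLocalRing.maximalIdeal ↥A),
      ← Groth.Agent.Cohen12.algebraMap_mem_pow_iff, map_sub, ← ht, ← hcT, ← map_sub, pow_one]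
    rw [pow_one] at ht0
    exact hφm _ ht0
  refine ⟨le_antisymm ?_ ?_, Module.Finite.of_surjective (Algebra.linearMap _ _) hres, ?_⟩
  · rw [Ideal.map_le_iff_le_comap, ← Ideal.under_def,
      ← (IsLocalRing.maximalIdeal ↥A).over_def (IsLocalRing.maximalIdeal ↥(Subalgebra.comap (IsScalarTower.toAlgHom R M Ω) A))]
  · intro z hz
    have h1 : algebraMap ↥A (EGA4.Cpl ↥A) z ∈ ((IsLocalRing.maximalIdeal ↥(Subalgebra.comap (IsScalarTower.toAlgHom R M Ω) A)).map
        (algebraMap ↥(Subalgebra.comap (IsScalarTower.toAlgHom R M Ω) A) ↥A)).map (algebraMap ↥A (EGA4.Cpl ↥A)) := by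
      obtain ⟨t, ht⟩ := hsurj (algebraMap ↥A (EGA4.Cpl ↥A) z)
      have htm : t ∈ IsLocalRing.maximalIdeal (EGA4.Cpl ↥(Subalgebra.comap (IsScalarTower.toAlgHom R M Ω) A)) := fun hu => by
        have h2 := (Groth.Agent.Cohen12.algebraMap_mem_pow_iff ↥A 1 z).mpr (by rwa [pow_one])
        rw [pow_one, ← ht] at h2
        exact h2 (hu.map φ)
      have hcomp : φ.comp (algebraMap ↥(Subalgebra.comap (IsScalarTower.toAlgHom R M Ω) A) (EGA4.Cpl ↥(Subalgebra.comap (IsScalarTower.toAlgHom R M Ω) A))) =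
          (algebraMap ↥A (EGA4.Cpl ↥A)).comp (algebraMap ↥(Subalgebra.comap (IsScalarTower.toAlgHom R M Ω) A) ↥A) := RingHom.ext hcT
      rw [Ideal.map_map, ← hcomp, ← Ideal.map_map, ← ht]
      refine Ideal.mem_map_of_mem φ ?_
      rwa [← pow_one (IsLocalRing.maximalIdeal (EGA4.Cpl ↥(Subalgebra.comap (IsScalarTower.toAlgHom R M Ω) A))),
        Groth.Agent.Cohen12.pow_maximalIdeal_completion, pow_one] at htm
    have : Module.Flat ↥A (EGA4.Cpl ↥A) := AdicCompletion.flat_of_isNoetherian _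
    have : IsLocalHom (algebraMap ↥A (EGA4.Cpl ↥A)) :=
      ((IsLocalRing.local_hom_TFAE _).out 2 0 rfl rfl).mp AdicCompletion.maximalIdeal_eq_map.symm.le
    have : Module.FaithfullyFlat ↥A (EGA4.Cpl ↥A) := Module.FaithfullyFlat.of_flat_of_isLocalHom
    rwa [← Ideal.mem_comap, Ideal.comap_map_eq_self_of_faithfullyFlat] at h1
  · refine ⟨fun z => ?_⟩
    obtain ⟨c, rfl⟩ := hres z
    let := Ideal.Quotient.field (IsLocalRing.maximalIdeal ↥(Subalgebra.comap (IsScalarTower.toAlgHom R M Ω) A))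
    exact isSeparable_algebraMap c

end Groth.Agent.S18537
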