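import Groth.Statements.S18538
import Mathlib
-- import your own Groth.Agent.* helpers here

set_option autoImplicit false
universe u
open EtAlg

namespace Groth.Agent.S18538

/-- Let A ⊆ B be an injective finite extension of integrally closed domains, with fraction fields K ⊆ L
and L separable over K. Then A → B → B ⊗_A B is exact, the second map being b ↦ b ⊗ 1 - 1 ⊗ b: every
element of B whose two images in B ⊗_A B agree comes from A. -/
theorem result
    (A B K L : Type u) [CommRing A] [CommRing B] [IsDomain A] [IsDomain B]
    [IsIntegrallyClosed A] [IsIntegrallyClosed B] [Algebra A B] [FaithfulSMul A B] [Module.Finite A B]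
    [Field K] [Field L] [Algebra A K] [IsFractionRing A K] [Algebra B L] [IsFractionRing B L]
    [Algebra K L] [Algebra A L] [IsScalarTower A K L] [IsScalarTower A B L]
    [Algebra.IsSeparable K L] :
    Algebra.IsEffective A B := by
  intro b
  refine ⟨fun hb => ?_, fun hb => Algebra.TensorProduct.includeLeftSubRight_zero_of_mem_range hb⟩
  let f : B →ₐ[A] TensorProduct K L L :=
    (Algebra.TensorProduct.includeLeft : L →ₐ[A] TensorProduct K L L).comp
      (IsScalarTower.toAlgHom A B L)
  let g : B →ₐ[A] TensorProduct K L L :=
    ((Algebra.TensorProduct.includeRight : L →ₐ[K] TensorProduct K L L).restrictScalars A).comp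
      (IsScalarTower.toAlgHom A B L)
  have h0 := sub_eq_zero.mp ((Algebra.TensorProduct.includeLeftSubRight_apply b).symm.trans hb)
  have hl : Algebra.TensorProduct.includeLeftSubRight K L (algebraMap B L b) = 0 := by
    have h1 := congrArg (Algebra.TensorProduct.productMap f g) h0
    simp only [Algebra.TensorProduct.productMap_apply_tmul, map_one, mul_one, one_mul] at h1
    rw [Algebra.TensorProduct.includeLeftSubRight_apply, sub_eq_zero]
    exact h1
  have : Module.FaithfullyFlat K L := inferInstance
  obtain ⟨x, hx⟩ := ((Algebra.IsEffective.of_faithfullyFlat K L) _).mp hl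
  rw [Algebra.linearMap_apply] at hx
  have hint : IsIntegral A x := by
    have hb' : IsIntegral A (algebraMap B L b) :=
      (Algebra.IsIntegral.isIntegral (R := A) b).map (IsScalarTower.toAlgHom A B L)
    rw [← hx] at hb'
    exact (isIntegral_algHom_iff (IsScalarTower.toAlgHom A K L) (algebraMap K L).injective).mp hb'
  obtain ⟨a, rfl⟩ := IsIntegrallyClosed.algebraMap_eq_of_integral hint
  refine ⟨a, IsFractionRing.injective B L ?_⟩
  rw [Algebra.linearMap_apply, ← IsScalarTower.algebraMap_apply, ← hx,
    ← IsScalarTower.algebraMap_apply]

end Groth.Agent.S18538
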