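import Groth.Statements.S18539
import Mathlib.RingTheory.Regular.RegularSequence

set_option autoImplicit false
universe u v w
open CAlg

namespace Groth.Agent.S18539

/-- For a commutative ring R, R-modules M and N and elements r₁, r₂ of R such that r₁ is a
non-zero-divisor on N and r₂ is a non-zero-divisor on N/r₁N, the element r₁ is a non-zero-divisor on
the module Hom_R(M, N) and r₂ is a non-zero-divisor on Hom_R(M, N)/r₁Hom_R(M, N). (Weak regularity
on both sides: no condition that the quotient by (r₁, r₂) is nonzero, which would fail for M = 0.) -/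
theorem result
    (R : Type u) [CommRing R] (M : Type v) (N : Type w)
    [AddCommGroup M] [Module R M] [AddCommGroup N] [Module R N]
    (r₁ r₂ : R) (h : RingTheory.Sequence.IsWeaklyRegular N [r₁, r₂]) :
    RingTheory.Sequence.IsWeaklyRegular (M →ₗ[R] N) [r₁, r₂] := by
  rw [RingTheory.Sequence.isWeaklyRegular_cons_iff] at h ⊢
  obtain ⟨h1, h2⟩ := h
  rw [RingTheory.Sequence.isWeaklyRegular_cons_iff] at h2 ⊢
  obtain ⟨h2, -⟩ := h2
  refine ⟨fun f g hfg => LinearMap.ext fun m => h1 (LinearMap.congr_fun hfg m), ?_,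
    RingTheory.Sequence.IsWeaklyRegular.nil _ _⟩
  rw [isSMulRegular_iff_right_eq_zero_of_smul] at h2 ⊢
  intro x hx
  obtain ⟨f, rfl⟩ := Submodule.mkQ_surjective _ x
  rw [← map_smul, Submodule.mkQ_apply, Submodule.Quotient.mk_eq_zero,
    Submodule.mem_smul_pointwise_iff_exists] at hx
  obtain ⟨g, -, hg⟩ := hx
  have hex : ∀ m, ∃ y, r₁ • y = f m := by
    intro m
    have h0 := h2 (Submodule.Quotient.mk (f m)) (by
      rw [← Submodule.Quotient.mk_smul, Submodule.Quotient.mk_eq_zero,
        Submodule.mem_smul_pointwise_iff_exists]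
      exact ⟨g m, trivial, LinearMap.congr_fun hg m⟩)
    rw [Submodule.Quotient.mk_eq_zero, Submodule.mem_smul_pointwise_iff_exists] at h0
    obtain ⟨y, -, hy⟩ := h0
    exact ⟨y, hy⟩
  choose y hy using hex
  let hmap : M →ₗ[R] N :=
    { toFun := y
      map_add' := fun a b => h1 (by simp only [smul_add, hy, map_add])
      map_smul' := fun a b => h1 (by simp only [hy, map_smul, smul_comm r₁, RingHom.id_apply]) }
  rw [Submodule.mkQ_apply, Submodule.Quotient.mk_eq_zero, Submodule.mem_smul_pointwise_iff_exists]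
  exact ⟨hmap, trivial, LinearMap.ext hy⟩

end Groth.Agent.S18539
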