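import Groth.Statements.S1854
import Groth.Agent.CycDet50.Det

set_option autoImplicit false
universe u
open TensorProduct
open CycDet

namespace Groth.Agent.S1854

/-- Existence and the defining rule; the compatibilities (1)–(3) of the source are not restated: let 0 →
K → L → M → 0 be a short exact sequence of finite length modules over a local ring with residue
field κ. There is a κ-linear isomorphism γ : det_κ(K) ⊗ det_κ(M) → det_κ(L) such that whenever (e_i)
is an admissible tuple of K with nonzero symbol, (f̄_j) an admissible tuple of M, and (g) the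
admissible tuple of L consisting of the images of the e_i followed by lifts of the f̄_j, one has
γ([e] ⊗ [f̄]) = [g]. -/
theorem result (R : Type u) [CommRing R] [IsLocalRing R] (K L M : Type u) [AddCommGroup K] [Module R K] [AddCommGroup L] [Module R L] [AddCommGroup M] [Module R M] (hK : IsFiniteLength R K) (hM : IsFiniteLength R M) (f : K →ₗ[R] L) (g : L →ₗ[R] M) (hf : Function.Injective f) (hg : Function.Surjective g) (hfg : LinearMap.range f = LinearMap.ker g) (hlen : (Module.length R K).toNat + (Module.length R M).toNat = (Module.length R L).toNat) : ∃ γ : (CycDet.Det R K ⊗[IsLocalRing.ResidueField R] CycDet.Det R M) ≃ₗ[IsLocalRing.ResidueField R] CycDet.Det R L, ∀ (eK : CycDet.Adm R K (Module.length R K).toNat) (eM : CycDet.Adm R M (Module.length R M).toNat) (eL : CycDet.Adm R L (Module.length R L).toNat), CycDet.symbol R K eK ≠ 0 → (∀ i : Fin (Module.length R K).toNat, eL.1 (Fin.cast hlen (Fin.castAdd (Module.length R M).toNat i)) = f (eK.1 i)) → (∀ j : Fin (Module.length R M).toNat, g (eL.1 (Fin.cast hlen (Fin.natAdd (Module.length R K).toNat j))) = eM.1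 j) → γ (CycDet.symbol R K eK ⊗ₜ CycDet.symbol R M eM) = CycDet.symbol R L eL := by
  obtain ⟨hKN, hKA⟩ := isFiniteLength_iff_isNoetherian_isArtinian.1 hK
  obtain ⟨hMN, hMA⟩ := isFiniteLength_iff_isNoetherian_isArtinian.1 hM
  haveI : IsNoetherian R L := isNoetherian_of_range_eq_ker f g hfg
  haveI : IsArtinian R L := isArtinian_of_range_eq_ker f g hfg
  have key : ∀ (n : ℕ) (h : (Module.length R K).toNat + (Module.length R M).toNat = n),
      Module.length R L = (n : ℕ∞) →
      ∃ γ : (CycDet.Det R K ⊗[IsLocalRing.ResidueField R] CycDet.Det R M) ≃ₗ[IsLocalRing.ResidueField R]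
          CycDet.DetOfLen R L n,
        ∀ (eK : CycDet.Adm R K (Module.length R K).toNat) (eM : CycDet.Adm R M (Module.length R M).toNat)
          (eL : CycDet.Adm R L n), CycDet.symbol R K eK ≠ 0 →
          (∀ i : Fin (Module.length R K).toNat, eL.1 (Fin.cast h (Fin.castAdd (Module.length R M).toNat i)) = f (eK.1 i)) →
          (∀ j : Fin (Module.length R M).toNat,
            g (eL.1 (Fin.cast h (Fin.natAdd (Module.length R K).toNat j))) = eM.1 j) →
          γ (CycDet.symbol R K eK ⊗ₜ CycDet.symbol R M eM) = Groth.Agent.CycDet50.sy eL := by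
    intro n h hn
    subst h
    obtain ⟨γ, hγ⟩ := Groth.Agent.CycDet50.exists_gamma hfg hg (ENat.natCast_toNat Module.length_ne_top).symm
      (ENat.natCast_toNat Module.length_ne_top).symm hn
    exact ⟨γ, hγ⟩
  exact key _ hlen (ENat.natCast_toNat Module.length_ne_top).symm

end Groth.Agent.S1854
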