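import Groth.Statements.S18543
import Groth.Agent.Hopf35.EtaleDual

set_option autoImplicit false
universe u
open Hopf

namespace Groth.Agent.S18543

open TensorProduct
open WithConv in
/-- the points as elements of the dual algebra -/
private def ptHom (K : Type u) [Field K] (B : Type u) [CommRing B] [HopfAlgebra K B] [Coalgebra.IsCocomm K B]
    [Module.Finite K B] : WithConv (B →ₐ[K] K) →* CartDual.D K B where
  toFun f := toConv f.ofConv.toLinearMap
  map_one' := rfl
  map_mul' f f' := by
    apply WithConv.ext
    refine LinearMap.ext fun a => ?_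
    simp only [LinearMap.convMul_apply, WithConv.ofConv_toConv, AlgHom.toLinearMap_apply, AlgHom.convMul_apply]
    generalize CoalgebraStruct.comul (R := K) a = z
    induction z with
    | zero => simp
    | add x y hx hy => simp only [map_add, hx, hy]
    | tmul b c => simp

private theorem exists_pow_eq (p : ℕ) [Fact p.Prime] (K : Type u) [Field K] [IsAlgClosed K] [CharP K p]
    (B : Type u) [CommRing B] [HopfAlgebra K B] [Coalgebra.IsCocomm K B] [Module.Finite K B] [IsReduced B] (n : ℕ)
    (hB : Module.finrank K B = p ^ n) (x : CartDual.D K B) :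
    ∃ c : K, x ^ p ^ n = algebraMap K (CartDual.D K B) c := by
  have hcard : Nat.card (B →ₐ[K] K) = p ^ n := (Hopf35.EtaleDual.card_points_of_isReduced (K := K)).trans hB
  haveI : Finite (B →ₐ[K] K) := Nat.finite_of_card_ne_zero (by
    rw [hcard]; exact pow_ne_zero _ (Fact.out : p.Prime).ne_zero)
  haveI := Fintype.ofFinite (B →ₐ[K] K)
  haveI : Nonempty (B →ₐ[K] K) := ⟨Bialgebra.counitAlgHom K B⟩
  haveI : CharP (CartDual.D K B) p := by
    haveI : Nontrivial (CartDual.D K B) := Bialgebra.nontrivial (R := K) (A := CartDual.D K B)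
    exact charP_of_injective_algebraMap (algebraMap K (CartDual.D K B)).injective p
  have hspan := (linearIndependent_algHom_toLinearMap K B K).span_eq_top_of_card_eq_finrank (by
    rw [← Nat.card_eq_fintype_card, hcard, Subspace.dual_finrank_eq, hB])
  obtain ⟨y, rfl⟩ : ∃ y : B →ₗ[K] K, WithConv.toConv y = x := ⟨x.ofConv, rfl⟩
  have hy : y ∈ Submodule.span K (Set.range (AlgHom.toLinearMap : (B →ₐ[K] K) → B →ₗ[K] K)) := by
    rw [hspan]; trivial
  induction hy using Submodule.span_induction with
  | mem y hy =>
    obtain ⟨γ, rfl⟩ := hy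
    refine ⟨1, ?_⟩
    show ptHom K B (WithConv.toConv γ) ^ p ^ n = _
    rw [← map_pow, ← hcard, ← Nat.card_congr (WithConv.equiv (B →ₐ[K] K)), pow_card_eq_one', map_one, map_one]
  | zero => exact ⟨0, by rw [map_zero]; exact zero_pow (pow_ne_zero _ (Fact.out : p.Prime).ne_zero)⟩
  | add a b _ _ ha hb =>
    obtain ⟨c, hc⟩ := ha
    obtain ⟨d, hd⟩ := hb
    exact ⟨c + d, by rw [map_add, ← hc, ← hd]; exact add_pow_char_pow (p := p) (n := n) (WithConv.toConv a : CartDual.D K B) (WithConv.toConv b : CartDual.D K B)⟩
  | smul a y _ hy =>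
    obtain ⟨c, hc⟩ := hy
    exact ⟨a ^ p ^ n * c, by rw [map_mul, ← hc, ← Algebra.smul_def, ← smul_pow]; rfl⟩
/-- Let p be a prime number, k a field of characteristic p and A a finite-dimensional commutative,
cocommutative Hopf algebra over k — the coordinate ring of a finite commutative group scheme G over
k — such that A is étale over k and dim_k A = p^n for some n (G is an étale group scheme of p-power
order). Then the Cartier dual A^∨ = Hom_k(A, k), with its convolution ring structure, is a local
ring; that is, the Cartier dual group scheme G^∨ = Spec A^∨ is infinitesimal (its underlying space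
is a single point). -/
theorem result (p : ℕ) [Fact p.Prime]
    (k : Type u) [Field k] [CharP k p] (A : Type u) [CommRing A] [HopfAlgebra k A] [Coalgebra.IsCocomm k A]
    [Module.Finite k A] [Algebra.Etale k A] (n : ℕ) (hA : Module.finrank k A = p ^ n) :
    IsLocalRing (CartDual.D k A) := by
  let K := AlgebraicClosure k
  haveI : CharP K p := charP_of_injective_algebraMap (algebraMap k K).injective p
  haveI : IsReduced (K ⊗[k] A) := Algebra.FormallyUnramified.isReduced_of_field K _
  have hB : Module.finrank K (K ⊗[k] A) = p ^ n := Module.finrank_baseChange.trans hA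
  have hinj : Function.Injective fun x : CartDual.D k A =>
      Hopf35.EtaleDual.dualMap (k := k) (A := A) K ((1 : K) ⊗ₜ[k] x) :=
    (Hopf35.EtaleDual.dualMap_bijective (k := k) (A := A) K).1.comp
      (Algebra.TensorProduct.includeRight_injective (A := K) (B := CartDual.D k A) (algebraMap k K).injective)
  let f : CartDual.D k A →+* CartDual.D K (K ⊗[k] A) :=
    (Hopf35.EtaleDual.dualMap (k := k) (A := A) K).toRingHom.comp
      (Algebra.TensorProduct.includeRight (R := k) (A := K) (B := CartDual.D k A)).toRingHom
  haveI : Nontrivial (CartDual.D k A) := Bialgebra.nontrivial (R := k) (A := CartDual.D k A)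
  have key : ∀ x : CartDual.D k A, IsUnit x ∨ IsNilpotent x := by
    intro x
    obtain ⟨c, hc⟩ := exists_pow_eq p K (K ⊗[k] A) n hB (f x)
    by_cases h0 : c = 0
    · refine Or.inr ⟨p ^ n, hinj ?_⟩
      show f (x ^ p ^ n) = f 0
      rw [map_pow, map_zero, hc, h0, map_zero]
    · left
      have hu : IsUnit (f x) := (isUnit_pow_iff (pow_ne_zero n (Fact.out : p.Prime).ne_zero)).1
        (hc ▸ (Ne.isUnit h0).map _)
      have hinj' : Function.Injective (LinearMap.mulLeft k x) := fun a b hab => hinj (hu.mul_left_cancel (by
        show f x * f a = f x * f b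
        rw [← map_mul, ← map_mul]; exact congrArg f hab))
      obtain ⟨y, hy⟩ := LinearMap.surjective_of_injective hinj' 1
      exact IsUnit.of_mul_eq_one y hy
  refine IsLocalRing.of_nonunits_add fun a b ha hb => ?_
  exact ((Commute.all _ _).isNilpotent_add ((key a).resolve_left ha) ((key b).resolve_left hb)).not_isUnit

end Groth.Agent.S18543
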