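import Groth.Statements.S18544
import Mathlib.LinearAlgebra.Matrix.Transvection
import Mathlib.Data.Matrix.PEquiv
import Mathlib.Algebra.Polynomial.Roots
import Mathlib.Algebra.MvPolynomial.Funext
import Mathlib.Algebra.Polynomial.Splits

set_option autoImplicit false
universe u
open CAlg

namespace Groth.Agent.S18544

/-- Let F be an algebraically closed field of characteristic zero, n a natural number, and N a nonzero
polynomial over F in the n² matrix entries whose evaluation on n × n matrices is multiplicative,
N(xy) = N(x)·N(y) for all x, y (a norm form on the matrix algebra M_n(F) over F). Then N is a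
natural power of the determinant: for some m, N(x) = det(x)^m for every matrix x. The published
statement concerns norm forms of any central simple algebra over a subfield; this row is the case of
the full matrix algebra over an algebraically closed field, which is the case its proof treats. -/
theorem result (F : Type u) [Field F] [IsAlgClosed F]
    [CharZero F] (n : ℕ) (N : MvPolynomial (Fin n × Fin n) F) (hN : N ≠ 0)
    (hmul : ∀ x y : Matrix (Fin n) (Fin n) F,
      MvPolynomial.eval (fun ij : Fin n × Fin n => (x * y) ij.1 ij.2) N =
        MvPolynomial.eval (fun ij : Fin n × Fin n => x ij.1 ij.2) N * MvPolynomial.eval (fun ij : Fin n × Fin n => y ij.1 ij.2) N) :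
    ∃ m : ℕ, ∀ x : Matrix (Fin n) (Fin n) F,
      MvPolynomial.eval (fun ij : Fin n × Fin n => x ij.1 ij.2) N = x.det ^ m := by
  classical
  let E : Matrix (Fin n) (Fin n) F → F := fun x =>
    MvPolynomial.eval (fun ij : Fin n × Fin n => x ij.1 ij.2) N
  have hE : ∀ x y, E (x * y) = E x * E y := hmul
  have h1 : E 1 = 1 := by
    have h := hE 1 1
    rw [one_mul] at h
    rcases mul_eq_zero.mp (show E 1 * (E 1 - 1) = 0 by rw [mul_sub, mul_one, ← h, sub_self]) with h0 | h0
    · refine absurd (MvPolynomial.funext fun v => ?_) hN
      have h2 := hE (Matrix.of fun i j => v (i, j)) 1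
      rw [mul_one, h0, mul_zero] at h2
      rw [map_zero]
      exact h2
    · exact sub_eq_zero.mp h0
  -- pencils through the matrix space
  have hpoly : ∀ V W : Matrix (Fin n) (Fin n) F, ∃ f : Polynomial F, ∀ t, f.eval t = E (V + t • W) := by
    intro V W
    refine ⟨MvPolynomial.aeval (fun ij : Fin n × Fin n =>
      Polynomial.C (V ij.1 ij.2) + Polynomial.C (W ij.1 ij.2) * Polynomial.X) N, fun t => ?_⟩
    rw [← Polynomial.coe_aeval_eq_eval, ← AlgHom.comp_apply, MvPolynomial.comp_aeval,
      MvPolynomial.aeval_eq_eval₂Hom, Algebra.algebraMap_self]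
    show MvPolynomial.eval _ N = E (V + t • W)
    congr 1
    refine congrArg _ (funext fun ij => ?_)
    simp only [map_add, map_mul, Polynomial.aeval_C, Polynomial.aeval_X, Matrix.add_apply,
      Matrix.smul_apply, smul_eq_mul, Algebra.algebraMap_self, RingHom.id_apply]
    ring
  have htrans : ∀ T : Matrix.TransvectionStruct (Fin n) F, E T.toMatrix = 1 := by
    intro T
    obtain ⟨f, hf⟩ := hpoly 1 (Matrix.single T.i T.j 1)
    have hf' : ∀ t, f.eval t = E (Matrix.transvection T.i T.j t) := fun t => by
      rw [hf, Matrix.transvection, Matrix.smul_single, smul_eq_mul, mul_one]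
    have hne : ∀ t, f.eval t ≠ 0 := by
      intro t h0
      have h2 := hE (Matrix.transvection T.i T.j t) (Matrix.transvection T.i T.j (-t))
      rw [Matrix.transvection_mul_transvection_same _ _ T.hij, add_neg_cancel,
        Matrix.transvection_zero, h1, ← hf', h0, zero_mul] at h2
      exact one_ne_zero h2
    have hdeg : f.degree = 0 := by
      by_contra hd
      obtain ⟨r, hr⟩ := IsAlgClosed.exists_root f hd
      exact hne r hr
    have hc := Polynomial.eq_C_of_degree_eq_zero hdeg
    have h0 : f.eval T.c = f.eval 0 := by rw [hc]; simp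
    rw [hf', hf', Matrix.transvection_zero, h1] at h0
    exact h0
  -- diagonal matrices with a single entry different from one
  let δ : Fin n → F → Matrix (Fin n) (Fin n) F := fun i t => Matrix.diagonal (Function.update 1 i t)
  have hδ : ∀ i, ∃ k : ℕ, ∀ t, E (δ i t) = t ^ k := by
    intro i
    obtain ⟨f, hf⟩ := hpoly (δ i 0) (Matrix.single i i 1)
    have hf' : ∀ t, f.eval t = E (δ i t) := fun t => by
      rw [hf]
      congr 1
      ext a b
      simp only [δ, Matrix.add_apply, Matrix.smul_apply, Matrix.diagonal_apply, Matrix.single_apply,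
        Function.update_apply]
      by_cases hab : a = b
      · subst hab
        by_cases ha : a = i
        · subst ha; simp
        · simp [ha, Ne.symm ha]
      · simp [hab]
        intro h3 h4
        exact absurd (h3.symm.trans h4) hab
    have hmulf : ∀ s t, f.eval (s * t) = f.eval s * f.eval t := fun s t => by
      rw [hf', hf', hf', ← hE]
      simp only [δ, Matrix.diagonal_mul_diagonal]
      congr 2
      funext a
      by_cases ha : a = i <;> simp [ha]
    have hone : f.eval 1 = 1 := by
      rw [hf', show δ i 1 = 1 by simp [δ], h1]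
    have hf0 : f ≠ 0 := fun h => by simp [h] at hone
    have hroots : ∀ r ∈ f.roots, r = 0 := by
      intro r hr
      by_contra hr0
      refine hf0 (Polynomial.funext fun t => ?_)
      rw [show t = r * (r⁻¹ * t) by field_simp, hmulf, ((Polynomial.mem_roots hf0).mp hr :
        f.eval r = 0), zero_mul, Polynomial.eval_zero]
    have hfac := (IsAlgClosed.splits f).eq_prod_roots
    rw [Multiset.eq_replicate_card.mpr hroots, Multiset.map_replicate, Multiset.prod_replicate] at hfac
    simp only [map_zero, sub_zero] at hfac
    refine ⟨Multiset.card f.roots, fun t => ?_⟩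
    have hlc : f.leadingCoeff = 1 := by
      have h5 := congrArg (Polynomial.eval (1 : F)) hfac
      rw [hone] at h5
      simpa using h5.symm
    rw [← hf', hfac, hlc]
    simp
  choose k hk using hδ
  have hkeq : ∀ i j, k i = k j := by
    intro i j
    let P : Matrix (Fin n) (Fin n) F := (Equiv.swap i j).toPEquiv.toMatrix
    have hP : P * P = 1 := by
      simp only [P]
      rw [← PEquiv.toMatrix_trans, ← Equiv.toPEquiv_trans]
      simp
    have hconj : ∀ t, P * δ i t * P = δ j t := by
      intro t
      simp only [P]
      rw [PEquiv.toMatrix_toPEquiv_mul, PEquiv.mul_toMatrix_toPEquiv, Matrix.submatrix_submatrix]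
      ext a b
      simp only [δ, Matrix.submatrix_apply, Matrix.diagonal_apply, Function.comp_apply, id_eq,
        Equiv.symm_swap, EmbeddingLike.apply_eq_iff_eq, Function.update_apply, Pi.one_apply]
      have e : (Equiv.swap i j a = i) ↔ a = j := by
        rw [Equiv.apply_eq_iff_eq_symm_apply, Equiv.symm_swap, Equiv.swap_apply_left]
      simp only [e]
    have hev : ∀ t : F, t ^ k i = t ^ k j := fun t => by
      have hPP : E P * E P = 1 := by rw [← hE, hP, h1]
      calc t ^ k i = (E P * E P) * E (δ i t) := by rw [hPP, one_mul, hk]
        _ = E (P * δ i t * P) := by rw [hE, hE]; ring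
        _ = t ^ k j := by rw [hconj, hk]
    have : (Polynomial.X : Polynomial F) ^ k i = Polynomial.X ^ k j :=
      Polynomial.funext fun t => by simpa using hev t
    simpa using congrArg Polynomial.natDegree this
  rcases Nat.eq_zero_or_pos n with rfl | hn
  · refine ⟨0, fun x => ?_⟩
    show E x = _
    rw [Subsingleton.elim x 1, h1, pow_zero]
  refine ⟨k ⟨0, hn⟩, fun M => ?_⟩
  show E M = M.det ^ k ⟨0, hn⟩
  refine Matrix.diagonal_transvection_induction (fun M => E M = M.det ^ k ⟨0, hn⟩) M (fun D _ => ?_)
    (fun T => by rw [htrans]; simp) (fun A B hA hB => by rw [hE, hA, hB, Matrix.det_mul, mul_pow])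
  rw [Matrix.det_diagonal]
  have key : ∀ s : Finset (Fin n), E (Matrix.diagonal fun a => if a ∈ s then D a else 1) =
      (∏ a ∈ s, D a) ^ k ⟨0, hn⟩ := by
    intro s
    induction s using Finset.induction with
    | empty => simp [h1]
    | insert a s ha ih =>
      rw [Finset.prod_insert ha, mul_pow, ← ih, hkeq ⟨0, hn⟩ a, ← hk, ← hE]
      simp only [δ, Matrix.diagonal_mul_diagonal]
      congr 2
      funext b
      by_cases hb : b = a
      · subst hb; simp [ha]
      · simp [hb]
  simpa using key Finset.univ

end Groth.Agent.S18544
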