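import Groth.Statements.S18545


set_option autoImplicit false
universe u
open AbVar

set_option maxHeartbeats 400000

namespace Groth.Agent.S18545

/-- A step in the proof of Tate's isogeny result over finite fields, in linear-algebra form. Let K be a
field and V a K-vector space of finite dimension 2g carrying a nondegenerate alternating bilinear
form e. Let F be a K-subalgebra of End(V) which is isomorphic as a K-algebra to a finite product K ×
⋯ × K and which is spanned over K by a set S of similitudes of e (for each s in S there is a nonzero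
scalar c with e(s x, s y) = c·e(x, y) for all x, y). Let D be a set of endomorphisms of V such that
every F-stable isotropic subspace W of dimension g (a maximal isotropic subspace) is D-stable. Then
every F-stable isotropic subspace of V is D-stable. (In the application V is the rational ℓ-adic
Tate module of an abelian variety over a finite field with the Riemann form of a polarisation, F the
algebra generated by the Galois group, split for the chosen ℓ, and D the commutant of the image of
the endomorphism algebra; the hypothesis on maximal isotropic subspaces is the step obtained from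
the finiteness of isomorphism classes.) -/
theorem result (K : Type u) [Field K]
    (V : Type u) [AddCommGroup V] [Module K V] [FiniteDimensional K V] (g : ℕ) (hV : Module.finrank K V = 2 * g)
    (e : LinearMap.BilinForm K V) (he : e.IsAlt) (hnd : e.Nondegenerate)
    (F : Subalgebra K (Module.End K V)) (r : ℕ) (hF : Nonempty (F ≃ₐ[K] (Fin r → K)))
    (S : Set (Module.End K V)) (hS : Submodule.span K S = Subalgebra.toSubmodule F)
    (hsim : ∀ s ∈ S, ∃ c : K, c ≠ 0 ∧ ∀ x y : V, e (s x) (s y) = c * e x y)
    (D : Set (Module.End K V))
    (hmax : ∀ W : Submodule K V, (∀ f ∈ F, ∀ w ∈ W, f w ∈ W) → (∀ x ∈ W, ∀ y ∈ W, e x y = 0) →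
      Module.finrank K W = g → ∀ d ∈ D, ∀ w ∈ W, d w ∈ W)
    (W : Submodule K V) (hWF : ∀ f ∈ F, ∀ w ∈ W, f w ∈ W) (hWiso : ∀ x ∈ W, ∀ y ∈ W, e x y = 0) :
    ∀ d ∈ D, ∀ w ∈ W, d w ∈ W := by
  obtain ⟨φ⟩ := hF
  have key : ∀ n : ℕ, ∀ W : Submodule K V, (∀ f ∈ F, ∀ w ∈ W, f w ∈ W) →
      (∀ x ∈ W, ∀ y ∈ W, e x y = 0) → g ≤ Module.finrank K W + n → ∀ d ∈ D, ∀ w ∈ W, d w ∈ W := by
    intro n
    induction n with
    | zero =>
      intro W hWF hWiso hn
      refine hmax W hWF hWiso (le_antisymm ?_ (by omega))
      have h1 : W ≤ e.orthogonal W := fun y hy => by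
        rw [LinearMap.BilinForm.mem_orthogonal_iff]
        exact fun x hx => hWiso x hx y hy
      have h2 := Submodule.finrank_mono h1
      rw [LinearMap.BilinForm.finrank_orthogonal hnd, hV] at h2
      omega
    | succ n ih =>
      intro W hWF hWiso hn
      by_cases hlt : g ≤ Module.finrank K W + n
      · exact ih W hWF hWiso hlt
      set P := e.orthogonal W with hP
      have hdim : Module.finrank K P = 2 * g - Module.finrank K W := by
        rw [hP, LinearMap.BilinForm.finrank_orthogonal hnd, hV]
      -- stability of the orthogonal complement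
      have hPs : ∀ s ∈ S, ∀ y ∈ P, s y ∈ P := by
        intro s hs y hy
        obtain ⟨c, hc, hsc⟩ := hsim s hs
        have hinj : Function.Injective s := by
          rw [injective_iff_map_eq_zero]
          intro x hx
          refine hnd.1 x fun y => ?_
          have h := hsc x y
          rw [hx, map_zero, LinearMap.zero_apply] at h
          exact (mul_eq_zero.mp h.symm).resolve_left hc
        have hsF : s ∈ F := by
          have : s ∈ Subalgebra.toSubmodule F := hS ▸ Submodule.subset_span hs
          exact this
        have hsW : Function.Surjective (s.restrict fun w hw => hWF s hsF w hw) :=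
          LinearMap.surjective_of_injective fun a b h => Subtype.ext (hinj (congrArg Subtype.val h))
        rw [hP, LinearMap.BilinForm.mem_orthogonal_iff] at hy ⊢
        intro x hx
        obtain ⟨z, hz⟩ := hsW ⟨x, hx⟩
        show e x (s y) = 0
        rw [show x = s z from (congrArg Subtype.val hz).symm, hsc]
        have := hy z z.2
        rw [show e (z : V) y = 0 from this, mul_zero]
      have hPF : ∀ f ∈ F, ∀ y ∈ P, f y ∈ P := by
        intro f hf y hy
        have hf' : f ∈ Submodule.span K S := by rw [hS]; exact hf
        refine Submodule.span_induction (p := fun f _ => f y ∈ P) (fun s hs => hPs s hs y hy) ?_ ?_ ?_ hf'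
        · simp
        · intro a b _ _ ha hb; simpa using P.add_mem ha hb
        · intro a b _ hb; simpa using P.smul_mem a hb
      -- eigenvectors
      let ε : Fin r → Module.End K V := fun i => (φ.symm (Pi.single i 1) : F).1
      have hε : ∀ i, ε i ∈ F := fun i => (φ.symm (Pi.single i 1)).2
      have hsum : ∀ y : V, ∑ i, ε i y = y := fun y => by
        have h : (∑ i, φ.symm (Pi.single i (1 : K))) = 1 := by
          rw [← map_sum, ← map_one φ.symm]
          congr 1
          exact Finset.univ_sum_single (1 : Fin r → K)
        have h' := congrArg (fun a : F => (a : Module.End K V) y) h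
        simpa [ε] using h'
      have hmul : ∀ f (hf : f ∈ F) i y, f (ε i y) = φ ⟨f, hf⟩ i • ε i y := by
        intro f hf i y
        have h : (⟨f, hf⟩ : F) * φ.symm (Pi.single i 1) = φ ⟨f, hf⟩ i • φ.symm (Pi.single i 1) := by
          apply φ.injective
          ext j
          by_cases hj : j = i
          · subst hj; simp
          · simp [hj]
        exact congrArg (fun a : F => (a : Module.End K V) y) h
      -- enlargements
      have hstep : ∀ i, ∀ y ∈ P, (∀ f ∈ F, ∀ w ∈ W ⊔ K ∙ ε i y, f w ∈ W ⊔ K ∙ ε i y) ∧
          (∀ x ∈ W ⊔ K ∙ ε i y, ∀ z ∈ W ⊔ K ∙ ε i y, e x z = 0) := by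
        intro i y hy
        have hv : ε i y ∈ P := hPF _ (hε i) y hy
        rw [hP, LinearMap.BilinForm.mem_orthogonal_iff] at hv
        constructor
        · intro f hf w hw
          obtain ⟨a, ha, b, hb, rfl⟩ := Submodule.mem_sup.mp hw
          obtain ⟨c, rfl⟩ := Submodule.mem_span_singleton.mp hb
          rw [map_add, map_smul, hmul f hf, smul_smul]
          exact Submodule.add_mem_sup (hWF f hf a ha) (Submodule.smul_mem _ _ (Submodule.mem_span_singleton_self _))
        · intro x hx z hz
          obtain ⟨a, ha, b, hb, rfl⟩ := Submodule.mem_sup.mp hx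
          obtain ⟨c, rfl⟩ := Submodule.mem_span_singleton.mp hb
          obtain ⟨a', ha', b', hb', rfl⟩ := Submodule.mem_sup.mp hz
          obtain ⟨c', rfl⟩ := Submodule.mem_span_singleton.mp hb'
          have h1 : e a (ε i y) = 0 := hv a ha
          have h2 : e (ε i y) a' = 0 := by
            rw [← he.neg_eq]
            rw [show e a' (ε i y) = 0 from hv a' ha', neg_zero]
          simp [hWiso a ha a' ha', h1, h2, he.self_eq_zero]
      have hsup : ∀ i, ∀ y ∈ P, ε i y ∉ W → g ≤ Module.finrank K ↥(W ⊔ K ∙ ε i y) + n := by
        intro i y hy hne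
        have : W < W ⊔ K ∙ ε i y := left_lt_sup.mpr (by simpa [Submodule.span_singleton_le_iff_mem] using hne)
        have := Submodule.finrank_lt_finrank_of_lt this
        omega
      obtain ⟨i, y, hy, hne⟩ : ∃ i, ∃ y ∈ P, ε i y ∉ W := by
        by_contra! hcon
        have : P ≤ W := fun y hy => hsum y ▸ W.sum_mem fun i _ => hcon i y hy
        have := Submodule.finrank_mono this
        omega
      obtain ⟨j, z, hz, hne'⟩ : ∃ j, ∃ z ∈ P, ε j z ∉ W ⊔ K ∙ ε i y := by
        by_contra! hcon
        have h1 : P ≤ W ⊔ K ∙ ε i y := fun z hz => hsum z ▸ Submodule.sum_mem _ fun i _ => hcon i z hz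
        have h2 := Submodule.finrank_mono h1
        have h3 := Submodule.finrank_add_le_finrank_add_finrank W (K ∙ ε i y)
        have h4 : Module.finrank K ↥(K ∙ ε i y) = 1 :=
          finrank_span_singleton fun h => hne (h ▸ W.zero_mem)
        omega
      intro d hd w hw
      have m1 := ih _ (hstep i y hy).1 (hstep i y hy).2 (hsup i y hy hne) d hd w (Submodule.mem_sup_left hw)
      have m2 := ih _ (hstep j z hz).1 (hstep j z hz).2
        (hsup j z hz fun h => hne' (Submodule.mem_sup_left h)) d hd w (Submodule.mem_sup_left hw)
      obtain ⟨a, ha, b, hb, hab⟩ := Submodule.mem_sup.mp m2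
      obtain ⟨c, rfl⟩ := Submodule.mem_span_singleton.mp hb
      by_cases hc : c = 0
      · rwa [← hab, hc, zero_smul, add_zero]
      · refine absurd ?_ hne'
        have : c • ε j z ∈ W ⊔ K ∙ ε i y := by
          rw [eq_sub_of_add_eq' hab]
          exact Submodule.sub_mem _ m1 (Submodule.mem_sup_left ha)
        simpa [smul_smul, hc] using Submodule.smul_mem _ c⁻¹ this
  exact key g W hWF hWiso (Nat.le_add_left _ _)

end Groth.Agent.S18545
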