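import Groth.Statements.S18555
import Groth.Agent.Frob53.FixedClass
import Groth.Agent.Frob53.SemilinFixed
import Groth.Agent.Frob53.Semilinear
import Groth.Agent.Frob53.DoubleCover

set_option autoImplicit false
set_option linter.unusedVariables false
universe u
open FrobSch

namespace Groth.Agent.S18555

open AlgebraicGeometry CategoryTheory in
/-- Let k be an algebraically closed field of characteristic p > 0 and X a connected proper k-scheme
with trivial étale fundamental group, in the sense that every finite étale cover of X is a finite
disjoint union of copies of X. Then the pull-back by the absolute Frobenius, i.e. the additive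
endomorphism of H^1(X, O_X) induced by the p-th power map of the structure sheaf, is nilpotent: some
positive power of it vanishes. (The published setting has X smooth and projective over k; the
argument given uses only that X is proper and connected.) -/
theorem result
    (p : ℕ) [Fact p.Prime] (k : Type u) [Field k] [IsAlgClosed k] [CharP k p]
    (X : Scheme.{u}) [X.Over (Spec (CommRingCat.of k))] [IsProper (X ↘ Spec (CommRingCat.of k))]
    [ConnectedSpace X] [FrobSch.IsCharP X p]
    (hπ : ∀ Y : FEt.Cat X, Pi1.IsSplit Y) :
    ∃ b : ℕ, 0 < b ∧ ∀ x : Coh.HH X (Coh.structureModule X) 1,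
      (W4c5isocrystsimpconn.frobH X p 1)^[b] x = 0 := by
  haveI : IsLocallyNoetherian X := LocallyOfFiniteType.isLocallyNoetherian (X ↘ Spec (CommRingCat.of k))
  haveI := Serre71.finite_hh_of_isProper k (Coh.structureModule X) QC70.isCoh_unit 1
  haveI : Nonempty X := ConnectedSpace.toNonempty
  exact Frob53.nilpotent_of_forall_fixed p (W4c5isocrystsimpconn.frobH X p 1)
    (Frob53.hmap_smul p (W4c5isocrystsimpconn.frobAb X p) (fun U t => rfl) k 1)
    (Frob53.eq_zero_of_frobH_fixed hπ)
end Groth.Agent.S18555
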