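import Groth.Statements.S18556
import Groth.Agent.Frob53.IterExt
import Groth.Agent.S18555

set_option autoImplicit false
set_option linter.unusedVariables false
universe u
open FrobSch

namespace Groth.Agent.S18556

open AlgebraicGeometry CategoryTheory CategoryTheory.Limits in
/-- Let k be an algebraically closed field of characteristic p > 0 and X a connected proper k-scheme
with trivial étale fundamental group, in the sense that every finite étale cover of X is a finite
disjoint union of copies of X. Then there is a positive integer b, which depends only on X, with the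
following property: for every natural number r and every locally free O_X-module E of rank r which
is an r-fold iterated extension of copies of the structure sheaf (a filtration 0 = E_0 ≤ E_1 ≤ ⋯ ≤
E_r = E with every successive quotient isomorphic to O_X), the b(r-1)-fold iterated pull-back of E
by the absolute Frobenius of X is isomorphic to the free module O_X^r. (The published statement is
phrased for a sequence E_0, …, E_{b(r-1)} of locally free sheaves with each E_{i+1} the Frobenius
pull-back of E_i, and has X smooth and projective over k; the argument given uses only that X is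
proper and connected.) -/
theorem result
    (p : ℕ) [Fact p.Prime] (k : Type u) [Field k] [IsAlgClosed k] [CharP k p]
    (X : Scheme.{u}) [X.Over (Spec (CommRingCat.of k))] [IsProper (X ↘ Spec (CommRingCat.of k))]
    [ConnectedSpace X] [FrobSch.IsCharP X p]
    (hπ : ∀ Y : FEt.Cat X, Pi1.IsSplit Y) :
    ∃ b : ℕ, 0 < b ∧ ∀ (r : ℕ) (E : X.Modules), FlatMod.IsFinLocFreeOfRank r E →
      W4c5isocrystsimpconn.IsIterExt X r E →
        Nonempty (((Scheme.Modules.pullback (FrobSch.frob X p)).obj)^[b * (r - 1)] E ≅ FlatMod.freeMod X r) := by
  obtain ⟨b, hb0, hb⟩ := S18555.result p k X hπ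
  have key : ∀ (r : ℕ) (E : X.Modules), W4c5isocrystsimpconn.IsIterExt X (r + 1) E →
      Nonempty ((Frob53.frobPullPow p X (b * r)).obj E ≅ FlatMod.freeMod X (r + 1)) := by
    intro r
    induction r with
    | zero =>
      rintro E ⟨E', i, q, w, hE', hS⟩
      haveI := hS.mono_f
      haveI := hS.epi_g
      haveI : Mono q := hS.exact.mono_g (IsZero.eq_of_src hE' i 0)
      exact ⟨(@asIso _ _ _ _ q (isIso_of_mono_of_epi q)) ≪≫ (coproductUniqueIso fun _ : Fin 1 => Coh.structureModule X).symm⟩
    | succ r ih =>
      rintro E ⟨E', i, q, w, hE', hS⟩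
      haveI := Frob53.frobPullPow_additive p X (b * r)
      obtain ⟨e⟩ := ih E' hE'
      obtain ⟨e'⟩ := Frob53.iso_free_of_extension (p := p) hb
        (Frob53.shortExact_frobPullPow (p := p) (b * r) hS (Iso.refl _)) e
        (Frob53.thetaPow p X (b * r))
      refine ⟨eqToIso ?_ ≪≫ e'⟩
      show _ = (Frob53.frobPullPow p X b).obj ((Frob53.frobPullPow p X (b * r)).obj E)
      rw [Frob53.frobPullPow_obj, Frob53.frobPullPow_obj, Frob53.frobPullPow_obj,
        show b * (r + 1) = b + b * r by ring, Function.iterate_add_apply]
  refine ⟨b, hb0, fun r E _ hE => ?_⟩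
  cases r with
  | zero =>
    haveI : IsEmpty (Fin 0) := inferInstance
    refine ⟨IsZero.iso hE ?_⟩
    rw [IsZero.iff_id_eq_zero]
    exact Sigma.hom_ext _ _ fun i => i.elim0
  | succ r =>
    obtain ⟨e⟩ := key r E hE
    rw [Nat.add_sub_cancel]
    exact ⟨eqToIso (Frob53.frobPullPow_obj p X (b * r) E).symm ≪≫ e⟩
end Groth.Agent.S18556
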