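import Groth.Statements.S18561
import Groth.Agent.PtQuivH

set_option autoImplicit false
universe u v
open PtQuiv

namespace Groth.Agent.S18561

open Groth.Agent.PtQuivH Module

/-- Let K be a field and s i ∈ K² (i in a finite index type) nonzero vectors, regarded as a
representation of the quiver with a central vertex carrying the plane and one vertex per i carrying
a line mapping to the plane by 1 ↦ s i. Then the representation is stable for some weight of the
hypersimplex (0 ≤ θ i ≤ 1, Σ θ i = 2, central weight -1) if and only if the s i fall into at least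
three proportionality classes, i.e. three of them are pairwise non-proportional. (The published
statement is over an algebraically closed field and assumes semistability for some interior weight
instead of s i ≠ 0; any field is allowed here. Its further assertions, that the set of semistability
weights is full-dimensional exactly in this case and is a wall otherwise, are not part of this row.) -/
theorem result (K : Type u) [Field K] (ι : Type v)
    [Fintype ι] (s : ι → (Fin 2 → K)) (hs : ∀ i, s i ≠ 0) :
    (∃ θ : ι → ℚ, (∀ i, 0 ≤ θ i) ∧ (∀ i, θ i ≤ 1) ∧ ∑ i, θ i = 2 ∧ PtQuiv.QStable (-1) θ s) ↔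
      ∃ i j k : ι, s i ∉ K ∙ s j ∧ s j ∉ K ∙ s k ∧ s i ∉ K ∙ s k := by
  classical
  constructor
  · rintro ⟨θ, h0, -, h2, hst⟩
    obtain ⟨-, -, hl⟩ := (qStable_iff s θ h0 h2).mp hst
    by_contra hcon
    push Not at hcon
    obtain ⟨i, -⟩ : ∃ i, θ i ≠ 0 := by
      by_contra h
      push Not at h
      rw [Finset.sum_eq_zero fun i _ => h i] at h2
      norm_num at h2
    let J := Finset.univ.filter fun j => s j ∈ K ∙ s i
    have hJ := hl J (s i) fun j hj => (Finset.mem_filter.mp hj).2
    obtain ⟨j, hj⟩ : ∃ j, j ∈ Jᶜ := by
      by_contra h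
      push Not at h
      have : J = Finset.univ := Finset.eq_univ_iff_forall.mpr fun j => by simpa using h j
      rw [this, h2] at hJ
      norm_num at hJ
    have hji : s j ∉ K ∙ s i := by simpa [J] using hj
    have hJc := hl Jᶜ (s j) fun k hk => by
      have hki : s k ∉ K ∙ s i := by simpa [J] using hk
      by_contra hkj
      exact hki (hcon k j i hkj hji)
    have := Finset.sum_add_sum_compl J θ
    linarith
  · rintro ⟨i, j, k, hij, hjk, hik⟩
    have hne : ∀ {x y : ι}, s x ∉ K ∙ s y → x ≠ y := fun h e =>
      h (e ▸ Submodule.mem_span_singleton_self _)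
    have : Nonempty ι := ⟨i⟩
    let N : ℚ := Fintype.card ι
    have hN : 0 < N := Nat.cast_pos.mpr (Fintype.card_pos_iff.mpr ⟨i⟩)
    let ε : ℚ := 1 / (4 * N)
    have hε : 0 < ε := by positivity
    have hεN : N * ε = 1 / 4 := by simp only [ε]; field_simp
    have hNε : ε ≤ 1 / 4 := by
      have h1 : (1 : ℚ) ≤ N := by
        simpa [N] using Nat.one_le_iff_ne_zero.mpr (Fintype.card_ne_zero (α := ι))
      nlinarith
    let S : Finset ι := {i, j, k}
    have hScard : S.card = 3 := Finset.card_eq_three.mpr ⟨i, j, k, hne hij, hne hik, hne hjk, rfl⟩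
    let θ : ι → ℚ := fun x => ε + if x ∈ S then (2 - N * ε) / 3 else 0
    have hsum : ∀ J : Finset ι, ∑ x ∈ J, θ x = J.card * ε + (J ∩ S).card * ((2 - N * ε) / 3) := by
      intro J
      simp only [θ, Finset.sum_add_distrib, Finset.sum_const, nsmul_eq_mul, Finset.sum_ite_mem]
    have hpos : ∀ x, 0 < θ x := fun x => by
      simp only [θ]; split_ifs <;> linarith
    have h2 : ∑ x, θ x = 2 := by
      rw [hsum, Finset.univ_inter, hScard, Finset.card_univ]
      change N * ε + _ = _
      push_cast
      ring
    refine ⟨θ, fun x => (hpos x).le, fun x => ?_, h2,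
      (qStable_iff s θ (fun x => (hpos x).le) h2).mpr ⟨hs, hpos, fun J v hJ => ?_⟩⟩
    · simp only [θ]; split_ifs <;> linarith
    · rw [hsum]
      have hJN : (J.card : ℚ) ≤ N := Nat.cast_le.mpr (Finset.card_le_univ J)
      have hJS : ((J ∩ S).card : ℚ) ≤ 1 := by
        refine Nat.cast_le_one.mpr (Finset.card_le_one.mpr fun x hx y hy => ?_)
        obtain ⟨hxJ, hxS⟩ := Finset.mem_inter.mp hx
        obtain ⟨hyJ, hyS⟩ := Finset.mem_inter.mp hy
        have key : ∀ {x y : ι}, x ∈ J → y ∈ J → s x ∈ K ∙ s y := by
          intro x y hx hy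
          obtain ⟨c, hc⟩ := Submodule.mem_span_singleton.mp (hJ y hy)
          obtain ⟨d, hd⟩ := Submodule.mem_span_singleton.mp (hJ x hx)
          refine Submodule.mem_span_singleton.mpr ⟨d * c⁻¹, ?_⟩
          rw [← hc, smul_smul, inv_mul_cancel_right₀ (fun h => hs y (by rw [← hc, h, zero_smul])), hd]
        simp only [S, Finset.mem_insert, Finset.mem_singleton] at hxS hyS
        rcases hxS with rfl | rfl | rfl <;> rcases hyS with rfl | rfl | rfl <;>
          first
          | rfl
          | exact absurd (key hxJ hyJ) (by assumption)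
          | exact absurd (key hyJ hxJ) (by assumption)
      nlinarith [mul_le_mul_of_nonneg_right hJN hε.le]

end Groth.Agent.S18561
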