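import Groth.Statements.S18563
import Groth.Agent.PtQuivH

set_option autoImplicit false
universe u v
open PtQuiv

namespace Groth.Agent.S18563

open Groth.Agent.PtQuivH Module

/-- Let K be a field, κ a finite index type with a ≠ b, and s i ∈ K² a representation of the quiver with
a central vertex carrying the plane and one vertex per i : κ carrying a line mapping to the plane by
1 ↦ s i. Let θ be a weight of the hypersimplex (0 ≤ θ i ≤ 1, Σ θ i = 2, central weight -1) with 1 <
θ a + θ b < 2, and put c = 1 / (2 - θ a - θ b). Then s is θ-stable if and only if s a, s b are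
linearly independent and, writing every other s i = t i 0 • s a + t i 1 • s b, the representation t
of the quiver with two one-dimensional sinks p₀, p₁ and one one-dimensional source per i ≠ a, b
(arrow to p_j given by t i j) is stable for the weight c (θ a - 1) at p₀, c (θ b - 1) at p₁ and c θ
i at the sources. (The published statement is about representations over a base scheme, with
(semi)stability tested on geometric fibres, that is over algebraically closed fields; this row
states the fibrewise content over an arbitrary field.) -/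
theorem result (K : Type u) [Field K]
    (κ : Type v) [Fintype κ] [DecidableEq κ] (a b : κ) (hab : a ≠ b) (s : κ → (Fin 2 → K))
    (θ : κ → ℚ) (h0 : ∀ i, 0 ≤ θ i) (h1 : ∀ i, θ i ≤ 1) (h2 : ∑ i, θ i = 2)
    (hθ : 1 < θ a + θ b) (hθ' : θ a + θ b < 2) :
    PtQuiv.QStable (-1) θ s ↔
      (LinearIndependent K ![s a, s b] ∧
        ∀ t : {i : κ // i ≠ a ∧ i ≠ b} → (Fin 2 → K),
          (∀ i, s i.1 = t i 0 • s a + t i 1 • s b) →
            PtQuiv.PStable ![(2 - θ a - θ b)⁻¹ * (θ a - 1), (2 - θ a - θ b)⁻¹ * (θ b - 1)]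
              (fun i : {i : κ // i ≠ a ∧ i ≠ b} => (2 - θ a - θ b)⁻¹ * θ i.1) t) := by
  have hc : 0 < (2 - θ a - θ b)⁻¹ := inv_pos.mpr (by linarith)
  have hcR : ∀ x y : ℚ, (2 - θ a - θ b)⁻¹ * (x - 1) + (2 - θ a - θ b)⁻¹ * y < 0 ↔ x + y < 1 := by
    intro x y
    rw [← mul_add, mul_neg_iff]
    constructor
    · rintro (⟨-, h⟩ | ⟨h, -⟩) <;> linarith
    · exact fun h => Or.inl ⟨hc, by linarith⟩
  rw [qStable_iff s θ h0 h2]
  constructor
  · rintro ⟨hs, hpos, hl⟩
    refine ⟨linearIndependent_of_lines θ hab hθ fun J v h => (hl J v h).le, fun t ht => ?_⟩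
    rw [pStable_iff _ _ t (fun i => mul_nonneg hc.le (h0 _)) (ptotal hab θ h2 hθ')]
    refine ⟨fun i hi => hs i.1 (by rw [ht i, hi]; simp), fun i => mul_pos hc (hpos _),
      fun J hJ => ?_, fun J hJ => ?_⟩
    · rw [← Finset.mul_sum]
      refine (hcR _ _).mpr ?_
      rw [← sum_insert_map θ a (Or.inl rfl) J]
      refine hl _ (s a) fun x hx => ?_
      rcases Finset.mem_insert.mp hx with rfl | hx
      · exact Submodule.mem_span_singleton_self _
      · obtain ⟨y, hy, rfl⟩ := Finset.mem_map.mp hx
        exact Submodule.mem_span_singleton.mpr ⟨t y 0, by simp [ht y, hJ y hy]⟩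
    · rw [← Finset.mul_sum]
      refine (hcR _ _).mpr ?_
      rw [← sum_insert_map θ b (Or.inr rfl) J]
      refine hl _ (s b) fun x hx => ?_
      rcases Finset.mem_insert.mp hx with rfl | hx
      · exact Submodule.mem_span_singleton_self _
      · obtain ⟨y, hy, rfl⟩ := Finset.mem_map.mp hx
        exact Submodule.mem_span_singleton.mpr ⟨t y 1, by simp [ht y, hJ y hy]⟩
  · rintro ⟨hli, hP⟩
    choose t ht using fun i : {i : κ // i ≠ a ∧ i ≠ b} => exists_coeff hli (s i.1)
    obtain ⟨hnP, hpP, hA, hB⟩ := (pStable_iff _ _ t (fun i => mul_nonneg hc.le (h0 _))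
      (ptotal hab θ h2 hθ')).mp (hP t ht)
    have haP : 0 < θ a := by linarith [h1 b]
    have hbP : 0 < θ b := by linarith [h1 a]
    refine ⟨fun i hi => ?_, fun i => ?_, fun J v hJ => ?_⟩
    · have hia : i ≠ a := fun h => hli.ne_zero 0 (by simpa [← h] using hi)
      have hib : i ≠ b := fun h => hli.ne_zero 1 (by simpa [← h] using hi)
      refine hnP ⟨i, hia, hib⟩ ?_
      have h := coeff_unique hli (p := t ⟨i, hia, hib⟩ 0) (q := t ⟨i, hia, hib⟩ 1)
        (p' := 0) (q' := 0) (by rw [← ht ⟨i, hia, hib⟩]; simp [hi])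
      funext k; fin_cases k <;> simp [h.1, h.2]
    · by_cases hia : i = a
      · exact hia ▸ haP
      by_cases hib : i = b
      · exact hib ▸ hbP
      exact (pos_iff_pos_of_mul_pos (hpP ⟨i, hia, hib⟩)).mp hc
    · exact line_bound hab hli θ h0 h2 hθ t ht (· < 1) (fun x hx => hx)
        (fun J hJ => by
          have := hA J hJ; rw [← Finset.mul_sum] at this; exact (hcR _ _).mp this)
        (fun J hJ => by
          have := hB J hJ; rw [← Finset.mul_sum] at this; exact (hcR _ _).mp this) J v hJ

end Groth.Agent.S18563
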