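import Groth.Statements.S18578
import Groth.Agent.RegUFD52.Basic
import Groth.Agent.RegUFD52.Factor
import Groth.Agent.Var76.RegKaehler
import Mathlib.Tactic

set_option autoImplicit false
universe u
open LogDiff

namespace Groth.Agent.S18578

theorem regular_of_smooth_atPrime {k B R : Type u} [Field k] [CommRing B] [Algebra k B] [Algebra.Smooth k B]
    (p : Ideal B) [p.IsPrime] [CommRing R] [Algebra B R] [IsLocalization.AtPrime R p] :
    IsRegularLocalRing R := by
  have : IsRegularRing B := Var76.RegKaehler.isRegularRing_of_smooth k B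
  have := IsRegularRing.isRegularLocalRing_localization (R := B) p
  exact IsRegularLocalRing.of_ringEquiv (IsLocalization.algEquiv p.primeCompl (Localization.AtPrime p) R).toRingEquiv

open KaehlerDifferential TensorProduct in
/-- no multiple of `dlog π` is regular at `π` -/
theorem nat_eq_zero_of_smul_D_eq {k R K : Type u} [Field k] [CharZero k] [CommRing R] [IsDomain R]
    [Algebra k R] [Algebra.EssFiniteType k R] [Algebra.FormallySmooth k R] [Field K] [Algebra R K] [IsFractionRing R K]
    [Algebra k K] [IsScalarTower k R K] (π : R) (hπ : Prime π) [(Ideal.span {π}).IsPrime]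
    (η : Ω[R⁄k]) {r : ℕ} (c f : Fin r → R) (hfπ : ∀ i, ¬ π ∣ f i) (n : ℕ)
    (heq : (n : K) • KaehlerDifferential.D k K (algebraMap R K π) =
      algebraMap R K π • (KaehlerDifferential.map k k R K η +
        ∑ i, (algebraMap R K (c i) * (algebraMap R K (f i))⁻¹) • KaehlerDifferential.D k K (algebraMap R K (f i)))) :
    n = 0 := by
  classical
  let P := Ideal.span {π}
  let T := Localization.AtPrime P
  have hle : P.primeCompl ≤ nonZeroDivisors R := P.primeCompl_le_nonZeroDivisors
  letI : Algebra T K := (IsLocalization.lift (M := P.primeCompl) (g := algebraMap R K)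
    fun s => (map_ne_zero_iff _ (IsFractionRing.injective R K)).2 (nonZeroDivisors.ne_zero (hle s.2)) |>.isUnit).toAlgebra
  haveI : IsScalarTower R T K := IsScalarTower.of_algebraMap_eq fun x => by
    simp [RingHom.algebraMap_toAlgebra, IsLocalization.lift_eq]
  haveI : IsScalarTower k T K := IsScalarTower.of_algebraMap_eq fun x => by
    rw [IsScalarTower.algebraMap_apply k R T, ← IsScalarTower.algebraMap_apply R T K, ← IsScalarTower.algebraMap_apply k R K]
  haveI : IsDomain T := IsLocalization.isDomain_localization hle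
  haveI : IsFractionRing T K := IsFractionRing.isFractionRing_of_isDomain_of_isLocalization P.primeCompl T K
  haveI : Algebra.FormallySmooth k T := inferInstance
  haveI : Algebra.EssFiniteType k T := Algebra.EssFiniteType.comp k R T
  let L := P.ResidueField
  haveI : Algebra.EssFiniteType k L := Algebra.EssFiniteType.comp k R L
  haveI : Algebra.FormallySmooth k L := inferInstance
  have hu : ∀ i, IsUnit (algebraMap R T (f i)) := fun i =>
    IsLocalization.map_units T (⟨f i, fun h => hfπ i (Ideal.mem_span_singleton.1 h)⟩ : P.primeCompl)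
  let ω : Ω[T⁄k] := KaehlerDifferential.map k k R T η +
    ∑ i, (algebraMap R T (c i) * ↑(hu i).unit⁻¹) • KaehlerDifferential.D k T (algebraMap R T (f i))
  have hT : KaehlerDifferential.map k k T K ((n : T) • KaehlerDifferential.D k T (algebraMap R T π)) =
      KaehlerDifferential.map k k T K (algebraMap R T π • ω) := by
    rw [map_smul, map_smul, KaehlerDifferential.map_D, ← IsScalarTower.algebraMap_apply, ← algebraMap_smul K (n : T), map_natCast,
      ← algebraMap_smul K (algebraMap R T π), ← IsScalarTower.algebraMap_apply R T K, heq]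
    congr 1
    simp only [ω, map_add, map_sum, map_smul, KaehlerDifferential.map_D]
    congr 1
    · exact (LinearMap.congr_fun (show KaehlerDifferential.map k k R K =
          ((KaehlerDifferential.map k k T K).restrictScalars R) ∘ₗ KaehlerDifferential.map k k R T from
        Derivation.liftKaehlerDifferential_unique _ _ (Derivation.ext fun a => by
          simp [KaehlerDifferential.map_D, ← IsScalarTower.algebraMap_apply])) η)
    · refine Finset.sum_congr rfl fun i _ => ?_
      rw [← algebraMap_smul K (algebraMap R T (c i) * ↑(hu i).unit⁻¹), map_mul, map_units_inv, IsUnit.unit_spec,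
        ← IsScalarTower.algebraMap_apply, ← IsScalarTower.algebraMap_apply]
  haveI : IsLocalizedModule (nonZeroDivisors T) (KaehlerDifferential.map k k T K) :=
    KaehlerDifferential.isLocalizedModule_map (R := k) (S := T) (T := K) (nonZeroDivisors T)
  have hT' : (n : T) • KaehlerDifferential.D k T (algebraMap R T π) = algebraMap R T π • ω := by
    obtain ⟨s, hs⟩ := (IsLocalizedModule.eq_iff_exists (nonZeroDivisors T) (KaehlerDifferential.map k k T K)).1 hT
    exact (Module.Flat.isSMulRegular_of_isRegular (isRegular_iff_mem_nonZeroDivisors.2 s.2)) hs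
  have hsurj : Function.Surjective (algebraMap T L) := IsLocalRing.residue_surjective
  obtain ⟨l, hl⟩ := (Algebra.FormallySmooth.iff_split_injection (R := k) (P := T) (A := L) hsurj).1 inferInstance
  have hmem : algebraMap R T π ∈ RingHom.ker (algebraMap T L) := by
    rw [RingHom.mem_ker, ← IsScalarTower.algebraMap_apply R T L, Ideal.algebraMap_residueField_eq_zero]
    exact Ideal.mem_span_singleton_self π
  have h1 : KaehlerDifferential.kerCotangentToTensor k T L ((n : T) • (RingHom.ker (algebraMap T L)).toCotangent ⟨_, hmem⟩) = 0 := by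
    rw [map_smul, KaehlerDifferential.kerCotangentToTensor_toCotangent, ← TensorProduct.tmul_smul, hT', TensorProduct.tmul_smul,
      TensorProduct.smul_tmul', Algebra.smul_def, mul_one, RingHom.mem_ker.1 hmem, TensorProduct.zero_tmul]
  have h2 : (n : T) • (RingHom.ker (algebraMap T L)).toCotangent ⟨_, hmem⟩ = 0 := by
    have := congrArg l h1
    rwa [map_zero, ← LinearMap.comp_apply, hl] at this
  rw [← map_smul, Ideal.toCotangent_eq_zero] at h2
  by_contra hn
  have hnu : IsUnit (n : T) := by
    rw [← map_natCast (algebraMap k T)]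
    exact (IsUnit.mk0 _ (Nat.cast_ne_zero.2 hn)).map _
  have h3 : algebraMap R T π ∈ RingHom.ker (algebraMap T L) ^ 2 :=
    (Ideal.unit_mul_mem_iff_mem _ hnu).1 (by simpa using h2)
  have hker : RingHom.ker (algebraMap T L) = Ideal.span {algebraMap R T π} := by
    rw [show RingHom.ker (algebraMap T L) = IsLocalRing.maximalIdeal T from IsLocalRing.ker_residue,
      ← Localization.AtPrime.map_eq_maximalIdeal, Ideal.map_span, Set.image_singleton]
  rw [hker, Ideal.span_singleton_pow, Ideal.mem_span_singleton] at h3
  obtain ⟨d, hd⟩ := h3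
  have hπ0 : algebraMap R T π ≠ 0 := (map_ne_zero_iff _ (IsLocalization.injective T hle)).2 hπ.ne_zero
  have h4 : (1 : T) = algebraMap R T π * d := mul_left_cancel₀ hπ0 (by linear_combination hd)
  have h5 : algebraMap R T π ∈ IsLocalRing.maximalIdeal T := by
    rw [← Localization.AtPrime.map_eq_maximalIdeal]
    exact Ideal.mem_map_of_mem _ (Ideal.mem_span_singleton_self π)
  exact (IsLocalRing.mem_maximalIdeal _).1 h5 (IsUnit.of_mul_eq_one d h4.symm)

section dlog

variable (k : Type u) [Field k] {K : Type u} [Field K] [Algebra k K]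

noncomputable def dlog (x : K) : Ω[K⁄k] := x⁻¹ • KaehlerDifferential.D k K x

theorem dlog_one : dlog k (1 : K) = 0 := by simp [dlog]

theorem dlog_mul {x y : K} (hx : x ≠ 0) (hy : y ≠ 0) : dlog k (x * y) = dlog k x + dlog k y := by
  rw [dlog, dlog, dlog, Derivation.leibniz, smul_add, smul_smul, smul_smul, mul_inv, add_comm]
  congr 1 <;> congr 1 <;> field_simp

theorem dlog_inv (x : K) (hx : x ≠ 0) : dlog k x⁻¹ = - dlog k x := by
  rw [eq_neg_iff_add_eq_zero, ← dlog_mul k (inv_ne_zero hx) hx, inv_mul_cancel₀ hx, dlog_one]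

theorem dlog_pow (x : K) (hx : x ≠ 0) (n : ℕ) : dlog k (x ^ n) = (n : K) • dlog k x := by
  induction n with
  | zero => simp [dlog_one]
  | succ n ih => rw [pow_succ, dlog_mul k (pow_ne_zero n hx) hx, ih, Nat.cast_succ, add_smul, one_smul]

theorem dlog_prod {ι : Type*} (s : Finset ι) (g : ι → K) (hg : ∀ i, g i ≠ 0) :
    dlog k (∏ i ∈ s, g i) = ∑ i ∈ s, dlog k (g i) := by
  classical
  induction s using Finset.induction_on with
  | empty => simp [dlog_one]
  | insert a s ha ih =>
    rw [Finset.prod_insert ha, Finset.sum_insert ha, dlog_mul k (hg a) (Finset.prod_ne_zero_iff.2 fun i _ => hg i), ih]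

variable {R : Type u} [CommRing R] [IsDomain R] [Algebra k R] [Algebra R K] [IsFractionRing R K] [IsScalarTower k R K]

theorem dlog_unit_mul_prod {r : ℕ} (f : Fin r → R) (hf : ∀ i, algebraMap R K (f i) ≠ 0) (u : Rˣ) (e : Fin r → ℕ) :
    dlog k (algebraMap R K ((u : R) * ∏ i, f i ^ e i)) = dlog k (algebraMap R K (u : R)) +
      ∑ i, ((e i : K) * (algebraMap R K (f i))⁻¹) • KaehlerDifferential.D k K (algebraMap R K (f i)) := by
  rw [map_mul, map_prod, dlog_mul k (u.isUnit.map _).ne_zero (Finset.prod_ne_zero_iff.2 fun i _ => by simpa using pow_ne_zero _ (hf i)),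
    dlog_prod k _ _ fun i => by simpa using pow_ne_zero _ (hf i)]
  congr 1
  refine Finset.sum_congr rfl fun i _ => ?_
  rw [map_pow, dlog_pow k _ (hf i), dlog, smul_smul]

end dlog


/-- The degree-one case, stated at the local ring of a point. Let k be a field of characteristic zero, B
a smooth k-algebra, R the localization of B at a prime ideal, K the fraction field of R and f_1, …,
f_r prime elements of R. If g is a unit of K whose logarithmic differential g⁻¹dg in Ω_{K/k} is the
image of a form η ∈ Ω_{R/k} plus an R-linear combination Σ c_i f_i⁻¹df_i, then g⁻¹dg = v⁻¹dv + Σ b_i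
f_i⁻¹df_i for a unit v of R and integers b_i. (When the f_i are part of a regular system of
parameters the hypothesis says that g⁻¹dg has at worst logarithmic poles along the divisor f_1⋯f_r =
0 at this point, and the statement is the stalkwise injectivity of 1-forms with logarithmic poles
modulo logarithmic differentials of functions invertible off the divisor into Ω¹_K modulo
logarithmic differentials; it is stated here for arbitrary prime elements f_i.) -/
theorem result
    {k B R K : Type u} [Field k] [CharZero k] [CommRing B] [Algebra k B] [Algebra.Smooth k B]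
    (p : Ideal B) [p.IsPrime] [CommRing R] [Algebra B R] [IsLocalization.AtPrime R p]
    [Algebra k R] [IsScalarTower k B R]
    [Field K] [Algebra R K] [IsFractionRing R K] [Algebra k K] [IsScalarTower k R K]
    {r : ℕ} (f : Fin r → R) (hf : ∀ i, Prime (f i))
    (g : Kˣ) (η : Ω[R⁄k]) (c : Fin r → R)
    (h : (g : K)⁻¹ • KaehlerDifferential.D k K (g : K) =
      KaehlerDifferential.map k k R K η +
        ∑ i, (algebraMap R K (c i) * (algebraMap R K (f i))⁻¹) •
          KaehlerDifferential.D k K (algebraMap R K (f i))) :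
    ∃ (v : Rˣ) (b : Fin r → ℤ),
      (g : K)⁻¹ • KaehlerDifferential.D k K (g : K) =
        (algebraMap R K (v : R))⁻¹ • KaehlerDifferential.D k K (algebraMap R K (v : R)) +
          ∑ i, ((b i : K) * (algebraMap R K (f i))⁻¹) •
            KaehlerDifferential.D k K (algebraMap R K (f i)) := by
  classical
  haveI := regular_of_smooth_atPrime (k := k) (R := R) p
  haveI := CAlg1.isDomain_regular R
  haveI := RegUFD52.ufm_of_regular R
  haveI : Algebra.FormallySmooth B R := Algebra.FormallySmooth.of_isLocalization p.primeCompl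
  haveI : Algebra.FormallySmooth k R := Algebra.FormallySmooth.comp k B R
  haveI : Algebra.EssFiniteType B R := Algebra.EssFiniteType.of_isLocalization R p.primeCompl
  haveI : Algebra.EssFiniteType k R := Algebra.EssFiniteType.comp k B R
  have hinj : Function.Injective (algebraMap R K) := IsFractionRing.injective R K
  have hf0 : ∀ i, algebraMap R K (f i) ≠ 0 := fun i => (map_ne_zero_iff _ hinj).2 (hf i).ne_zero
  obtain ⟨a, ⟨b, hb⟩, hrel, hg⟩ := IsFractionRing.exists_reduced_fraction (A := R) (g : K)
  replace hg : (g : K) = algebraMap R K a * (algebraMap R K b)⁻¹ := by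
    rw [← hg, IsFractionRing.mk'_eq_div, div_eq_mul_inv]
  have hb0 : b ≠ 0 := nonZeroDivisors.ne_zero hb
  have ha0 : a ≠ 0 := fun h0 => g.ne_zero (by rw [hg, h0, map_zero, zero_mul])
  have hka : algebraMap R K a ≠ 0 := (map_ne_zero_iff _ hinj).2 ha0
  have hkb : algebraMap R K b ≠ 0 := (map_ne_zero_iff _ hinj).2 hb0
  have hgd : dlog k (g : K) = dlog k (algebraMap R K a) - dlog k (algebraMap R K b) := by
    rw [hg, dlog_mul k hka (inv_ne_zero hkb), dlog_inv k _ hkb, sub_eq_add_neg]
  change dlog k (g : K) = _ at h
  -- every prime dividing numerator or denominator is one of the `f i`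
  have main : ∀ (x y : R) (η' : Ω[R⁄k]) (c' : Fin r → R), x ≠ 0 → y ≠ 0 → IsRelPrime x y →
      dlog k (algebraMap R K x) - dlog k (algebraMap R K y) = KaehlerDifferential.map k k R K η' +
        ∑ i, (algebraMap R K (c' i) * (algebraMap R K (f i))⁻¹) • KaehlerDifferential.D k K (algebraMap R K (f i)) →
      ∀ π : R, Prime π → π ∣ x → ∃ i, Associated π (f i) := by
    intro x y η' c' hx hy hxy heq π hπ hπx
    by_contra hno
    push Not at hno
    haveI : (Ideal.span {π}).IsPrime := (Ideal.span_singleton_prime hπ.ne_zero).2 hπ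
    obtain ⟨n, x', hx'π, rfl⟩ := WfDvdMonoid.max_power_factor hx hπ.irreducible
    have hn : n ≠ 0 := fun h0 => hx'π (by simpa [h0] using hπx)
    have hyπ : ¬ π ∣ y := fun hd => hπ.not_isUnit (hxy ((dvd_pow_self π hn).mul_right x') hd)
    let f' : Fin (r + 2) → R := Fin.cons x' (Fin.cons y f)
    have hf' : ∀ i, ¬ π ∣ f' i := by
      refine Fin.cons hx'π (Fin.cons hyπ fun i hd => hno i (hπ.associated_of_dvd (hf i) hd))
    have hkπ : algebraMap R K π ≠ 0 := (map_ne_zero_iff _ hinj).2 hπ.ne_zero
    have hkx' : algebraMap R K x' ≠ 0 := (map_ne_zero_iff _ hinj).2 (fun h0 => hx (by rw [h0, mul_zero]))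
    refine hn (nat_eq_zero_of_smul_D_eq (k := k) (K := K) π hπ η' (Fin.cons (-1) (Fin.cons 1 c')) f' hf' n ?_)
    rw [map_mul, map_pow, dlog_mul k (pow_ne_zero _ hkπ) hkx', dlog_pow k _ hkπ] at heq
    rw [Fin.sum_univ_succ, Fin.sum_univ_succ]
    simp only [f', Fin.cons_zero, Fin.cons_succ, map_neg, map_one]
    have hd : ∀ z : K, dlog k z = z⁻¹ • KaehlerDifferential.D k K z := fun z => rfl
    rw [hd, hd, hd, smul_smul] at heq
    have : algebraMap R K π • (((n : K) * (algebraMap R K π)⁻¹) • KaehlerDifferential.D k K (algebraMap R K π)) =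
        (n : K) • KaehlerDifferential.D k K (algebraMap R K π) := by
      rw [smul_smul]; congr 1; field_simp
    rw [← this]
    congr 1
    rw [neg_mul, one_mul, one_mul, neg_smul, ← sub_eq_zero]
    rw [← sub_eq_zero] at heq
    rw [← heq]
    abel
  obtain ⟨ua, ea, hea⟩ := RegUFD52.exists_unit_eq_prod f a ha0 (main a b η c ha0 hb0 hrel (hgd ▸ h))
  obtain ⟨ub, eb, heb⟩ := RegUFD52.exists_unit_eq_prod f b hb0 (main b a (-η) (-c) hb0 ha0 hrel.symm (by
    rw [← neg_sub, ← hgd, h, map_neg, neg_add, ← Finset.sum_neg_distrib]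
    simp only [Pi.neg_apply, map_neg, neg_mul, neg_smul]))
  refine ⟨ua * ub⁻¹, fun i => (ea i : ℤ) - eb i, ?_⟩
  show dlog k (g : K) = dlog k (algebraMap R K ((ua * ub⁻¹ : Rˣ) : R)) + _
  rw [hgd, hea, heb, dlog_unit_mul_prod k f hf0, dlog_unit_mul_prod k f hf0, Units.val_mul, map_mul,
    dlog_mul k (ua.isUnit.map _).ne_zero (ub⁻¹.isUnit.map _).ne_zero, map_units_inv, dlog_inv k _ (ub.isUnit.map _).ne_zero]
  push_cast
  simp only [sub_mul, sub_smul, Finset.sum_sub_distrib]
  abel

end Groth.Agent.S18578
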