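import Groth.Statements.S18579
import Groth.Agent.RegUFD52.Basic
import Groth.Agent.RegUFD52.Factor
import Groth.Agent.Var76.RegKaehler
import Mathlib.Tactic

set_option autoImplicit false
universe u
open LogDiff

namespace Groth.Agent.S18579

theorem regular_of_smooth_atPrime {k B R : Type u} [Field k] [CommRing B] [Algebra k B] [Algebra.Smooth k B]
    (p : Ideal B) [p.IsPrime] [CommRing R] [Algebra B R] [IsLocalization.AtPrime R p] :
    IsRegularLocalRing R := by
  have : IsRegularRing B := Var76.RegKaehler.isRegularRing_of_smooth k B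
  have := IsRegularRing.isRegularLocalRing_localization (R := B) p
  exact IsRegularLocalRing.of_ringEquiv (IsLocalization.algEquiv p.primeCompl (Localization.AtPrime p) R).toRingEquiv

theorem shift_eq {R K : Type u} [CommRing R] [Field K] [Algebra R K] [IsFractionRing R K] {r : ℕ} (f : Fin r → R)
    (hf0 : ∀ i, algebraMap R K (f i) ≠ 0) (u : Rˣ) (e : Fin r → ℕ) (n : ℕ) (w : K)
    (h : w * algebraMap R K ((∏ i, f i) ^ n) = algebraMap R K ((u : R) * ∏ i, f i ^ e i)) :
    w = algebraMap R K (u : R) * ∏ i, algebraMap R K (f i) ^ ((e i : ℤ) - n) := by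
  have hP : algebraMap R K ((∏ i, f i) ^ n) = ∏ i, algebraMap R K (f i) ^ (n : ℤ) := by
    rw [map_pow, map_prod, ← Finset.prod_pow]; simp
  have hE : algebraMap R K ((u : R) * ∏ i, f i ^ e i) = algebraMap R K (u : R) * ∏ i, algebraMap R K (f i) ^ (e i : ℤ) := by
    simp
  rw [hP, hE] at h
  simp only [sub_eq_add_neg, zpow_add₀ (hf0 _), zpow_neg, Finset.prod_mul_distrib, Finset.prod_inv_distrib]
  rw [← mul_assoc, eq_mul_inv_iff_mul_eq₀ (Finset.prod_ne_zero_iff.2 fun i _ => zpow_ne_zero _ (hf0 i))]
  exact h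


/-- The exact sequence for units (first Milnor K-groups) when every component of the divisor is removed.
Let k be a field, B a smooth k-algebra, R the localization of B at a prime ideal, K the fraction
field of R and f_1, …, f_r pairwise non-associate prime elements of R. If w is a unit of K such that
w and w⁻¹ both lie in R[1/(f_1⋯f_r)], i.e. each becomes an element of R after multiplication by a
power of f_1⋯f_r, then there is exactly one pair (v, b) consisting of a unit v of R and integers
b_1, …, b_r with w = v · ∏ f_i^{b_i} in K. (This is the exactness of 0 → Γ(Spec R, O^×) → Γ(Spec R ∖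
V(f_1⋯f_r), O^×) → ℤ^r → 0, the last map being the orders along the f_i. The published statement
takes the f_i to be local equations of the components of a normal crossings divisor, over a field of
characteristic zero; this row allows arbitrary pairwise non-associate prime elements and any field.) -/
theorem result
    {k B R K : Type u} [Field k] [CommRing B] [Algebra k B] [Algebra.Smooth k B]
    (p : Ideal B) [p.IsPrime] [CommRing R] [Algebra B R] [IsLocalization.AtPrime R p]
    [Field K] [Algebra R K] [IsFractionRing R K]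
    {r : ℕ} (f : Fin r → R) (hf : ∀ i, Prime (f i)) (hfa : ∀ i j, Associated (f i) (f j) → i = j)
    (w : Kˣ)
    (hw : ∃ (a : R) (n : ℕ), (w : K) * algebraMap R K ((∏ i, f i) ^ n) = algebraMap R K a)
    (hw' : ∃ (a : R) (n : ℕ), (w⁻¹ : Kˣ) * algebraMap R K ((∏ i, f i) ^ n) = algebraMap R K a) :
    ∃! vb : Rˣ × (Fin r → ℤ),
      (w : K) = algebraMap R K (vb.1 : R) * ∏ i, (algebraMap R K (f i)) ^ (vb.2 i) := by
  haveI := regular_of_smooth_atPrime (k := k) (R := R) p
  haveI := CAlg1.isDomain_regular R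
  haveI := RegUFD52.ufm_of_regular R
  have hinj : Function.Injective (algebraMap R K) := IsFractionRing.injective R K
  have hf0 : ∀ i, algebraMap R K (f i) ≠ 0 := fun i => (map_ne_zero_iff _ hinj).2 (hf i).ne_zero
  obtain ⟨a, n, ha⟩ := hw
  obtain ⟨a', n', ha'⟩ := hw'
  have haa : a * a' = (∏ i, f i) ^ (n + n') := hinj (by
    rw [map_mul, ← ha, ← ha', mul_mul_mul_comm, ← Units.val_mul, mul_inv_cancel, Units.val_one, one_mul, ← map_mul, pow_add])
  have hne : (∏ i, f i) ^ (n + n') ≠ 0 := pow_ne_zero _ (Finset.prod_ne_zero_iff.2 fun i _ => (hf i).ne_zero)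
  obtain ⟨u, e, rfl⟩ := RegUFD52.exists_unit_eq_prod f a (fun h => hne (by rw [← haa, h, zero_mul])) fun π hπ hπa => by
    obtain ⟨i, -, hi⟩ := hπ.exists_mem_finset_dvd (hπ.dvd_of_dvd_pow (haa ▸ hπa.mul_right a'))
    exact ⟨i, hπ.associated_of_dvd (hf i) hi⟩
  have hsol := shift_eq f hf0 u e n _ ha
  refine ⟨(u, fun i => (e i : ℤ) - n), hsol, ?_⟩
  rintro ⟨v, b⟩ hvb
  dsimp only at hvb
  -- clear denominators
  obtain ⟨N, hN⟩ : ∃ N : ℕ, ∀ i, 0 ≤ b i + N ∧ n ≤ N := by
    refine ⟨(∑ i, (b i).natAbs) + n, fun i => ⟨?_, by omega⟩⟩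
    have := Finset.single_le_sum (f := fun i => (b i).natAbs) (fun _ _ => Nat.zero_le _) (Finset.mem_univ i)
    omega
  have key : (v : R) * ∏ i, f i ^ (b i + N).toNat = (u : R) * ∏ i, f i ^ (e i + (N - n)) := hinj (by
    have h1 : ∀ (x : R) (c : Fin r → ℤ) (c' : Fin r → ℕ), (∀ i, (c' i : ℤ) = c i + N) →
        algebraMap R K (x * ∏ i, f i ^ c' i) =
          algebraMap R K x * (∏ i, algebraMap R K (f i) ^ c i) * ∏ i, algebraMap R K (f i) ^ (N : ℤ) := by
      intro x c c' hc
      rw [map_mul, map_prod, mul_assoc, ← Finset.prod_mul_distrib]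
      congr 1
      refine Finset.prod_congr rfl fun i _ => ?_
      rw [map_pow, ← zpow_natCast, hc, zpow_add₀ (hf0 i)]
    rw [h1 _ b _ (fun i => Int.toNat_of_nonneg (hN i).1), h1 _ (fun i => (e i : ℤ) - n) _ (fun i => by have := (hN i).2; push_cast [Nat.cast_sub this]; ring),
      ← hvb, ← hsol])
  have hc : ∀ i, (b i + N).toNat = e i + (N - n) := fun i => le_antisymm
    (RegUFD52.le_of_unit_mul_prod_eq f hf hfa (v⁻¹ * u) _ _ (by rw [Units.val_mul, mul_assoc, ← key, ← mul_assoc, Units.inv_mul, one_mul]) i)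
    (RegUFD52.le_of_unit_mul_prod_eq f hf hfa (u⁻¹ * v) _ _ (by rw [Units.val_mul, mul_assoc, key, ← mul_assoc, Units.inv_mul, one_mul]) i)
  simp only [hc] at key
  refine Prod.ext (Units.ext (mul_right_cancel₀ ?_ key)) (funext fun i => ?_)
  · exact Finset.prod_ne_zero_iff.2 fun i _ => pow_ne_zero _ (hf i).ne_zero
  · have := hc i; have := hN i; show b i = (e i : ℤ) - n; omega

end Groth.Agent.S18579
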