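import Groth.Statements.S18580
import Groth.Agent.Unr55.Rigid

set_option autoImplicit false
universe u
open EtBase

namespace Groth.Agent.S18580

open AlgebraicGeometry CategoryTheory in
/-- Let Y be a connected scheme and f : X ⟶ Y a separated morphism that is unramified (locally of finite
type and formally unramified). Then the sections of f correspond bijectively to the connected
components of X mapping isomorphically onto Y: there is a bijection from the set of sections s of f
to the set of open subschemes U of X whose underlying set is a connected component of X and for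
which U ⟶ X ⟶ Y is an isomorphism, sending s to its image. In particular every section is an
isomorphism onto a connected component of X and is determined by its image. (A connected component
mapping isomorphically onto Y is the image of a section, hence open, so restricting to open
components loses nothing. The published statement also assumes Y Noetherian; that hypothesis plays
no role and is omitted.) -/
theorem result {X Y : Scheme.{u}} (f : X ⟶ Y)
    [FormallyUnramified f] [LocallyOfFiniteType f] [IsSeparated f] [ConnectedSpace Y] :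
    ∃ e : {s : Y ⟶ X // s ≫ f = 𝟙 Y} ≃
        {U : X.Opens // (∃ x : X, (U : Set X) = connectedComponent x) ∧ IsIso (U.ι ≫ f)},
      ∀ s : {s : Y ⟶ X // s ≫ f = 𝟙 Y}, ((e s).1 : Set X) = Set.range s.1 := by
  have key : ∀ s : Y ⟶ X, s ≫ f = 𝟙 Y → IsOpenImmersion s ∧ IsClosedImmersion s ∧
      ∃ x : X, Set.range s = connectedComponent x := by
    intro s hs
    have : IsClosedImmersion s :=
      have : IsClosedImmersion (s ≫ f) := by rw [hs]; infer_instance
      IsClosedImmersion.of_comp s f
    obtain ⟨W, hW, hmem, -⟩ := Groth.Agent.Unr55.exists_eqLocus f (f ≫ s) (𝟙 X)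
      (by rw [Category.assoc, hs, Category.comp_id, Category.id_comp])
    have hsW : Set.range s ⊆ W := hmem s (by rw [reassoc_of% hs, Category.comp_id])
    have hWs : (W : Set X) ⊆ Set.range s := by
      intro x hx
      refine ⟨(W.ι ≫ f) ⟨x, hx⟩, ?_⟩
      exact congr($(hW) ⟨x, hx⟩)
    have hrange : Set.range s = W := hsW.antisymm hWs
    let t : Y ⟶ W := IsOpenImmersion.lift W.ι s (by simpa using hsW)
    have ht : t ≫ W.ι = s := IsOpenImmersion.lift_fac _ _ _
    have : IsIso t := by
      refine ⟨W.ι ≫ f, by rw [reassoc_of% ht, hs], ?_⟩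
      rw [← cancel_mono W.ι, Category.assoc, ht, Category.id_comp, Category.assoc, hW,
        Category.comp_id]
    refine ⟨ht ▸ inferInstance, inferInstance, ?_⟩
    obtain ⟨y⟩ := (inferInstance : Nonempty Y)
    refine ⟨s y, ((isConnected_range s.continuous).subset_connectedComponent ⟨y, rfl⟩).antisymm ?_⟩
    exact IsClopen.connectedComponent_subset
      ⟨s.isClosedMap.isClosed_range, hrange ▸ W.2⟩ ⟨y, rfl⟩
  let fwd : {s : Y ⟶ X // s ≫ f = 𝟙 Y} →
      {U : X.Opens // (∃ x : X, (U : Set X) = connectedComponent x) ∧ IsIso (U.ι ≫ f)} :=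
    fun s ↦ have := (key s.1 s.2).1
      ⟨s.1.opensRange, (key s.1 s.2).2.2, by
        have h1 : s.1.isoOpensRange.hom ≫ (s.1.opensRange.ι ≫ f) = 𝟙 Y := by
          rw [Scheme.Hom.isoOpensRange_hom_ι_assoc, s.2]
        rw [← IsIso.eq_inv_comp, Category.comp_id] at h1
        rw [h1]
        infer_instance⟩
  refine ⟨Equiv.ofBijective fwd ⟨?_, ?_⟩, fun s ↦ rfl⟩
  · intro s s' he
    have hr : Set.range s.1 = Set.range s'.1 :=
      congrArg (fun U : {U : X.Opens // _} ↦ ((U.1 : X.Opens) : Set X)) he
    obtain ⟨y⟩ := (inferInstance : Nonempty Y)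
    obtain ⟨y', hy'⟩ : s.1 y ∈ Set.range s'.1 := hr ▸ ⟨y, rfl⟩
    obtain ⟨W, hW, hmem, -⟩ := Groth.Agent.Unr55.exists_eqLocus f (f ≫ s'.1) (𝟙 X)
      (by rw [Category.assoc, s'.2, Category.comp_id, Category.id_comp])
    have hW' : Set.range s'.1 ⊆ W := hmem _ (by rw [reassoc_of% s'.2, Category.comp_id])
    let t : Y ⟶ W := IsOpenImmersion.lift W.ι s.1 (by simpa using hr ▸ hW')
    have ht : t ≫ W.ι = s.1 := IsOpenImmersion.lift_fac _ _ _
    refine Subtype.ext ?_
    have := congr(t ≫ $hW)
    rw [Category.comp_id, ← Category.assoc, ht, ← Category.assoc, s.2, Category.id_comp] at this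
    exact this.symm
  · intro U
    have := U.2.2
    refine ⟨⟨inv (U.1.ι ≫ f) ≫ U.1.ι, by simp⟩, ?_⟩
    refine Subtype.ext (TopologicalSpace.Opens.ext ?_)
    change Set.range (inv (U.1.ι ≫ f) ≫ U.1.ι) = U.1
    rw [Scheme.Hom.comp_base, TopCat.coe_comp, (inv (U.1.ι ≫ f)).surjective.range_comp,
      Scheme.Opens.range_ι]

end Groth.Agent.S18580
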