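import Groth.Statements.S18587
import Mathlib.RingTheory.WittVector.Domain
import Mathlib.RingTheory.WittVector.Truncated
import Mathlib.RingTheory.WittVector.Identities
import Mathlib.Data.Int.GCD
import Mathlib.LinearAlgebra.Finsupp.LinearCombination
import Mathlib.Tactic.Ring

set_option autoImplicit false
universe u
open CAlg

namespace Groth.Agent.S18587

open WittVector Function in
theorem map_itV {p : ℕ} [Fact p.Prime] {R S : Type u} [CommRing R] [CommRing S] (f : R →+* S)
    (k : ℕ) (x : WittVector p R) :
    WittVector.map f (verschiebung^[k] x) = verschiebung^[k] (WittVector.map f x) := by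
  induction k with
  | zero => simp
  | succ k ih => rw [iterate_succ_apply', iterate_succ_apply', map_verschiebung, ih]

open WittVector Function in
theorem itF_teichmuller {p : ℕ} [Fact p.Prime] {R : Type u} [CommRing R] [CharP R p]
    (k : ℕ) (z : R) :
    WittVector.frobenius^[k] (teichmuller p z) = teichmuller p (z ^ p ^ k) := by
  ext i
  rw [iterate_frobenius_coeff]
  rcases Nat.eq_zero_or_pos i with rfl | hi
  · rw [teichmuller_coeff_zero, teichmuller_coeff_zero]
  · rw [teichmuller_coeff_pos p _ i hi, teichmuller_coeff_pos p _ i hi,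
      zero_pow (pow_ne_zero _ (Fact.out : p.Prime).ne_zero)]

open WittVector Function in
theorem itV_mem_ker {p : ℕ} [Fact p.Prime] {R : Type u} [CommRing R] (x : WittVector p R)
    {m k : ℕ} (h : m ≤ k) : WittVector.truncate m (verschiebung^[k] x) = 0 :=
  RingHom.mem_ker.mp ((mem_ker_truncate m _).mpr fun _ hi =>
    iterate_verschiebung_coeff_eq_zero x (lt_of_lt_of_le hi h))

theorem exists_exp {p ℓ : ℕ} [Fact p.Prime] (hℓ : 0 < ℓ) (hpℓ : ¬ p ∣ ℓ) (k : ℕ) :
    ∃ e v : ℕ, e ≤ ℓ ∧ e * p ^ k = 1 + ℓ * v ∧ v < p ^ k := by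
  have hp : p.Prime := Fact.out
  obtain ⟨e, hel, hmod⟩ : ∃ e : ℕ, e ≤ ℓ ∧ (e * p ^ k) % ℓ = 1 % ℓ ∧ 0 < e := by
    rcases Nat.lt_or_ge 1 ℓ with h1 | h1
    · have hc : Nat.Coprime (p ^ k) ℓ :=
        Nat.Coprime.pow_left k ((hp.coprime_iff_not_dvd).mpr hpℓ)
      obtain ⟨x, hx⟩ := Nat.exists_mul_mod_eq_one_of_coprime hc h1
      refine ⟨x % ℓ, (Nat.mod_lt _ hℓ).le, ?_, ?_⟩
      · rw [Nat.mul_mod, Nat.mod_mod, ← Nat.mul_mod, mul_comm x, Nat.mod_eq_of_lt h1]
        exact hx.2
      · rcases Nat.eq_zero_or_pos (x % ℓ) with h0 | h0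
        · have := hx.2
          rw [Nat.mul_mod, h0] at this
          simp at this
        · exact h0
    · have : ℓ = 1 := by omega
      subst this
      exact ⟨1, le_rfl, by simp [Nat.mod_one], one_pos⟩
  have hpos : 0 < e * p ^ k := Nat.mul_pos hmod.2 (pow_pos hp.pos k)
  refine ⟨e, (e * p ^ k - 1) / ℓ, hel, ?_, ?_⟩
  · have : ℓ ∣ e * p ^ k - 1 :=
      (Nat.modEq_iff_dvd' hpos).mp (Nat.ModEq.symm hmod.1)
    rw [Nat.mul_div_cancel' this]; omega
  · rw [Nat.div_lt_iff_lt_mul hℓ]
    have : e * p ^ k ≤ ℓ * p ^ k := Nat.mul_le_mul_right _ hel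
    rw [mul_comm (p ^ k)]; omega

open Function in
theorem iterate_map_sum_aux {ι M : Type*} [AddCommMonoid M] (f : M →+ M) (k : ℕ) (s : Finset ι)
    (g : ι → M) : f^[k] (∑ i ∈ s, g i) = ∑ i ∈ s, f^[k] (g i) := by
  induction k generalizing g with
  | zero => rfl
  | succ k ih => simp only [iterate_succ_apply, map_sum, ih]

open WittVector Function in
/-- The main expansion. -/
theorem expansion (p ℓ n : ℕ) [Fact p.Prime] (hℓ : 0 < ℓ) (hpℓ : ¬ p ∣ ℓ)
    (A B : Type u) [CommRing A] [CommRing B] [IsDomain A] [IsDomain B] [Algebra A B]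
    [CharP B p] (hinj : Function.Injective (algebraMap A B))
    (y : Finset B) (hspan : Submodule.span A (y : Set B) = ⊤)
    (hpow : ∀ b ∈ y, b ^ ℓ ∈ Set.range (algebraMap A B)) :
    ∃ c : A, c ≠ 0 ∧ ∀ η : WittVector p B, ∃ x : ℕ × B → WittVector p A,
      teichmuller p (algebraMap A B c) * verschiebung^[n] η =
        ∑ z ∈ Finset.range (ℓ + 1) ×ˢ y,
          WittVector.map (algebraMap A B) (verschiebung^[n] (x z)) * teichmuller p (z.2 ^ z.1) := by
  classical
  have hc0 : ∀ b : B, ∃ c : A, c ≠ 0 ∧ (b ∈ y → b ≠ 0 → algebraMap A B c = b ^ ℓ) := by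
    intro b
    by_cases h : b ∈ y ∧ b ≠ 0
    · obtain ⟨c, hc⟩ := hpow b h.1
      refine ⟨c, fun h0 => ?_, fun _ _ => hc⟩
      rw [h0, map_zero] at hc
      exact h.2 (eq_zero_of_pow_eq_zero hc.symm)
    · exact ⟨1, one_ne_zero, fun h1 h2 => absurd ⟨h1, h2⟩ h⟩
  choose cb hcb0 hcb using hc0
  let c : A := ∏ b ∈ y, cb b
  refine ⟨c, Finset.prod_ne_zero_iff.mpr fun b _ => hcb0 b, ?_⟩
  choose e v hel hev hv using fun k => exists_exp (p := p) hℓ hpℓ k
  -- one step
  have step : ∀ (k : ℕ) (η : WittVector p B), ∃ (α : B → A) (η' : WittVector p B),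
      teichmuller p (algebraMap A B c) * verschiebung^[k] η =
        ∑ b ∈ y, WittVector.map (algebraMap A B) (verschiebung^[k] (teichmuller p (α b))) *
          teichmuller p (b ^ e k) +
        teichmuller p (algebraMap A B c) * verschiebung^[k + 1] η' := by
    intro k η
    have hη : η.coeff 0 ∈ Submodule.span A (y : Set B) := by rw [hspan]; trivial
    obtain ⟨f, hfs, hfeq⟩ := Submodule.mem_span_finset.mp hη
    let α : B → A := fun b =>
      (cb b ^ (p ^ k - v k) * (∏ b' ∈ y.erase b, cb b') ^ p ^ k) * f b
    have hα : ∀ b ∈ y, algebraMap A B c ^ p ^ k * (algebraMap A B (f b) * b) =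
        algebraMap A B (α b) * (b ^ e k) ^ p ^ k := by
      intro b hb
      by_cases hb0 : b = 0
      · subst hb0
        have h1 : e k * p ^ k ≠ 0 := by rw [hev k]; omega
        rw [← pow_mul, zero_pow h1, mul_zero, mul_zero, mul_zero]
      · have h1 : c ^ p ^ k = cb b ^ (p ^ k - v k) * cb b ^ v k *
            (∏ b' ∈ y.erase b, cb b') ^ p ^ k := by
          rw [← pow_add, Nat.sub_add_cancel (hv k).le, ← mul_pow,
            Finset.mul_prod_erase y cb hb]
        rw [← map_pow, h1, ← pow_mul, hev k, pow_add, pow_one, pow_mul, ← hcb b hb hb0]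
        simp only [α, map_mul, map_pow]
        ring
    let s : WittVector p B := ∑ b ∈ y, teichmuller p (algebraMap A B (f b) * b)
    have hs : (η - s).coeff 0 = 0 := by
      have h1 : constantCoeff (η - s) = η.coeff 0 - ∑ b ∈ y, algebraMap A B (f b) * b := by
        rw [map_sub, map_sum]
        congr 1
      change constantCoeff (η - s) = 0
      rw [h1, ← hfeq, sub_eq_zero]
      exact Finset.sum_congr rfl fun b _ => by rw [Algebra.smul_def]
    obtain ⟨η', hη'⟩ : ∃ η' : WittVector p B, η = s + verschiebung η' := by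
      refine ⟨(η - s).shift 1, ?_⟩
      have := eq_iterate_verschiebung (x := η - s) (n := 1) (fun i hi => by
        obtain rfl : i = 0 := by omega
        exact hs)
      rw [iterate_one] at this
      rw [← this]; abel
    refine ⟨α, η', ?_⟩
    conv_lhs => rw [hη', iterate_map_add, mul_add, iterate_map_sum_aux]
    rw [iterate_succ_apply, Finset.mul_sum]
    congr 1
    refine Finset.sum_congr rfl fun b hb => ?_
    rw [map_itV, map_teichmuller, iterate_verschiebung_mul_left, itF_teichmuller, ← map_mul,
      mul_comm (teichmuller p (algebraMap A B c)), iterate_verschiebung_mul_left,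
      itF_teichmuller, ← map_mul]
    congr 2
    rw [mul_comm]
    exact hα b hb
  choose α nxt hstep using step
  intro η
  let η_ : ℕ → WittVector p B := fun m => Nat.rec η (fun i w => nxt (n + i) w) m
  let S : ℕ → ℕ × B → WittVector p A := fun m z => ∑ i ∈ Finset.range m,
    if e (n + i) = z.1 then verschiebung^[i] (teichmuller p (α (n + i) (η_ i) z.2)) else 0
  have hstab : ∀ m m' z, m ≤ m' → WittVector.truncate m (S m' z) = WittVector.truncate m (S m z) := by
    intro m m' z hmm
    induction m', hmm using Nat.le_induction with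
    | base => rfl
    | succ m' hmm ih =>
      rw [← ih]
      simp only [S, Finset.sum_range_succ, map_add, add_eq_left]
      split_ifs
      · exact itV_mem_ker _ hmm
      · exact map_zero _
  let x : ℕ × B → WittVector p A := fun z =>
    WittVector.mk p fun i => (S (i + 1) z).coeff i
  have hx : ∀ m z, WittVector.truncate m (x z) = WittVector.truncate m (S m z) := by
    intro m z
    ext i
    rw [WittVector.coeff_truncate, WittVector.coeff_truncate]
    have := congrArg (TruncatedWittVector.coeff ⟨i, Nat.lt_succ_self i⟩)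
      (hstab (i + 1) m z i.2)
    rw [WittVector.coeff_truncate, WittVector.coeff_truncate] at this
    simpa [x] using this.symm
  refine ⟨x, ?_⟩
  have main : ∀ m, teichmuller p (algebraMap A B c) * verschiebung^[n] η =
      ∑ z ∈ Finset.range (ℓ + 1) ×ˢ y,
          WittVector.map (algebraMap A B) (verschiebung^[n] (S m z)) * teichmuller p (z.2 ^ z.1) +
        teichmuller p (algebraMap A B c) * verschiebung^[n + m] (η_ m) := by
    intro m
    induction m with
    | zero => simp [S, η_, iterate_map_zero]
    | succ m ih =>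
      rw [show η_ (m + 1) = nxt (n + m) (η_ m) from rfl, ← Nat.add_assoc n m 1, ih,
        hstep (n + m) (η_ m), ← add_assoc]
      refine congrArg (fun t => t + _) ?_
      have hnew : ∑ z ∈ Finset.range (ℓ + 1) ×ˢ y,
          WittVector.map (algebraMap A B) (verschiebung^[n]
            (if e (n + m) = z.1 then verschiebung^[m] (teichmuller p (α (n + m) (η_ m) z.2)) else 0))
            * teichmuller p (z.2 ^ z.1) =
        ∑ b ∈ y, WittVector.map (algebraMap A B)
            (verschiebung^[n + m] (teichmuller p (α (n + m) (η_ m) b))) *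
            teichmuller p (b ^ e (n + m)) := by
        rw [Finset.sum_product, Finset.sum_eq_single (e (n + m))]
        · refine Finset.sum_congr rfl fun b _ => ?_
          rw [if_pos rfl, ← iterate_add_apply]
        · intro i _ hi
          refine Finset.sum_eq_zero fun b _ => ?_
          rw [if_neg (Ne.symm hi), iterate_map_zero, map_zero, zero_mul]
        · intro h
          exact absurd (Finset.mem_range.mpr (Nat.lt_succ_of_le (hel _))) h
      rw [← hnew, ← Finset.sum_add_distrib]
      refine Finset.sum_congr rfl fun z _ => ?_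
      simp only [S, Finset.sum_range_succ, iterate_map_add, map_add, add_mul]
  apply WittVector.ext
  intro i
  suffices h : WittVector.truncate (i + 1) (teichmuller p (algebraMap A B c) * verschiebung^[n] η) =
      WittVector.truncate (i + 1) (∑ z ∈ Finset.range (ℓ + 1) ×ˢ y,
          WittVector.map (algebraMap A B) (verschiebung^[n] (x z)) * teichmuller p (z.2 ^ z.1)) by
    have := congrArg (TruncatedWittVector.coeff ⟨i, Nat.lt_succ_self i⟩) h
    rwa [WittVector.coeff_truncate, WittVector.coeff_truncate] at this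
  rw [main (i + 1), map_add, map_sum, map_sum, map_mul _ (teichmuller p (algebraMap A B c)),
    itV_mem_ker _ (Nat.le_add_left (i + 1) n), mul_zero, add_zero]
  refine Finset.sum_congr rfl fun z _ => ?_
  rw [map_mul, map_mul]
  congr 1
  rw [← sub_eq_zero, ← map_sub, ← map_sub, ← iterate_map_sub]
  obtain ⟨w, hw⟩ : ∃ w, S (i + 1) z - x z = verschiebung^[i + 1] w := by
    refine ⟨_, eq_iterate_verschiebung ((mem_ker_truncate _ _).mp ?_)⟩
    rw [RingHom.mem_ker, map_sub, hx (i + 1) z, sub_self]
  rw [hw, ← iterate_add_apply, map_itV]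
  exact itV_mem_ker _ (Nat.le_add_left (i + 1) n)


/-- Affine form with D = 0: let p be a prime, ℓ ≥ 1 an integer not divisible by p and n ≥ 1. Let A → B
be an injective ring homomorphism of integral domains of characteristic p such that B is spanned as
an A-module by finitely many elements y with y ^ ℓ in the image of A (a weakly ℓ-cyclic extension).
Then for every p-typical Witt vector ζ over B in the image of the n-fold Verschiebung there is a
nonzero a in A such that the product of the Teichmüller representative of (the image of) a with ζ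
lies in the ideal of W(B) generated by the images of the n-fold Verschiebungs of Witt vectors over
A. (This is the case D = 0 of the published statement, written for the coordinate rings; the
published statement allows a twist by a real Weil divisor D and assumes the rings excellent and
normal, hypotheses which the case D = 0 does not use.) -/
theorem result
    (p : ℕ) [Fact p.Prime] (ℓ n : ℕ) (hℓ : 0 < ℓ) (hpℓ : ¬ p ∣ ℓ) (hn : 0 < n)
    (A B : Type u) [CommRing A] [CommRing B] [IsDomain A] [IsDomain B] [Algebra A B]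
    [CharP A p] [CharP B p] (hinj : Function.Injective (algebraMap A B))
    (y : Finset B) (hspan : Submodule.span A (y : Set B) = ⊤)
    (hpow : ∀ b ∈ y, b ^ ℓ ∈ Set.range (algebraMap A B))
    (ζ : WittVector p B)
    (hζ : ∃ η : WittVector p B, (⇑(WittVector.verschiebung : WittVector p B →+ WittVector p B))^[n] η = ζ) :
    ∃ a : A, a ≠ 0 ∧ WittVector.teichmuller p (algebraMap A B a) * ζ ∈
      Ideal.span (Set.range (fun x : WittVector p A =>
        WittVector.map (algebraMap A B) ((⇑(WittVector.verschiebung : WittVector p A →+ WittVector p A))^[n] x))) := by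
  obtain ⟨η, rfl⟩ := hζ
  obtain ⟨c, hc, h⟩ := expansion p ℓ n hℓ hpℓ A B hinj y hspan hpow
  obtain ⟨x, hx⟩ := h η
  refine ⟨c, hc, ?_⟩
  rw [hx]
  exact Ideal.sum_mem _ fun z _ => Ideal.mul_mem_right _ _ (Ideal.subset_span ⟨x z, rfl⟩)

end Groth.Agent.S18587
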