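import Groth.Statements.S18595
import Groth.Agent.Cyc90.Horiz.Divisor
import Groth.Agent.Cyc90.Horiz.Poles
import Groth.Agent.Cyc90.Dev.ChowHom
-- import your own Groth.Agent.* helpers here

set_option autoImplicit false
set_option backward.isDefEq.respectTransparency.types false
set_option linter.style.haveILetI false
set_option linter.unusedVariables false
universe u
open Cyc

namespace Groth.Agent.S18595

open AlgebraicGeometry CategoryTheory Groth.Agent.Cyc90 Groth.Agent.Cyc90.Dev TopologicalSpace in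
open Classical in
/-- The polar pair, at any name of the generic point. -/
theorem polar_pair_at {K : Type u} [Field K] {X : Scheme.{u}} [IsIntegral X] (c : X ⟶ Spec (CommRingCat.of K))
    [IsProper c] [Smooth c] {δ : X → ℤ} (hX : Cyc.IsSetup X δ) (hdim : topologicalKrullDim X = 1)
    (hδ : ∀ y : X, IsClosed ({y} : Set X) → δ y + 1 = δ (genericPoint X)) (y₀ : X)
    (hy₀ : IsClosed ({y₀} : Set X)) (ξ : X) (hξ : ξ = genericPoint X) :
    ∃ g₁ g₂ : X.residueField ξ, g₁ ≠ 0 ∧ g₂ ≠ 0 ∧ ∀ y : X, IsClosed ({y} : Set X) →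
      min 0 (Cyc.divFun δ ξ g₁ y) - min 0 (Cyc.divFun δ ξ g₂ y) = if y = y₀ then 1 else 0 := by
  subst hξ
  exact Horiz.exists_polar_pair c hX hdim hδ y₀ hy₀

open AlgebraicGeometry CategoryTheory CategoryTheory.Limits Groth.Agent.Cyc90 Groth.Agent.Cyc90.Dev TopologicalSpace

open AlgebraicGeometry CategoryTheory CategoryTheory.Limits in
/-- Let k be a perfect field, X an integral smooth proper curve over k (proper standing for projective)
and P = X ×_k A¹_k, presented by a pullback square with projections p₁ : P ⟶ X and p₂ : P ⟶ Spec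
k[T]. Fix a dimension function δ on P (in the sense of Cyc.IsSetup) and the integer c with δ(z) + 1
= c at every closed point z of P, so that the c-cycles on P are its Weil divisors. Then every
c-cycle α on P is rationally equivalent, as a c-cycle, to a c-cycle β without vertical components:
every point z with β(z) ≠ 0 lies over the generic point of X, i.e. each prime component of β is
quasi-finite and dominant over X (equidimensional of relative dimension zero over X). (The published
statement is for any smooth projective curve; its connected components are treated one at a time and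
a smooth proper curve over a field is projective, so X is taken integral and proper here.) -/
theorem result
    (k : Type u) [Field k] [PerfectField k] {X P : Scheme.{u}} (f : X ⟶ Spec (CommRingCat.of k))
    [IsIntegral X] [IsProper f] [Smooth f] (hdim : topologicalKrullDim X = 1)
    (p₁ : P ⟶ X) (p₂ : P ⟶ Spec (CommRingCat.of (Polynomial k)))
    (hP : IsPullback p₁ p₂ f (Spec.map (CommRingCat.ofHom (Polynomial.C : k →+* Polynomial k))))
    (δ : P → ℤ) (hδ : Cyc.IsSetup P δ) (c : ℤ)
    (hc : ∀ z : P, IsClosed ({z} : Set P) → δ z + 1 = c)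
    (α : AlgebraicCycle P ℤ) (hα : α ∈ Cyc.Zk P δ c) :
    ∃ β ∈ Cyc.Zk P δ c, Cyc.RatEquiv δ c α β ∧ ∀ z : P, β z ≠ 0 → p₁ z = genericPoint X := by
  classical
  have hX0 : ∀ (W : Scheme.{u}) (g : W ⟶ Spec (CommRingCat.of k)) [LocallyOfFiniteType g],
      Cyc.DeltaCompat g (fun w => (E4O.fdeg g w : ℤ)) (fun _ => 0) := fun W g _ w =>
    ⟨_, trdeg_residueField_eq_fdeg g w, (zero_add _).symm⟩
  haveI := Horiz.locallyOfFiniteType_proj hP
  haveI := Horiz.flat_proj hP
  haveI : QuasiCompact p₁ := MorphismProperty.of_isPullback (P := @QuasiCompact) hP.flip inferInstance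
  let g := p₁ ≫ f
  let δX : X → ℤ := fun w => (E4O.fdeg f w : ℤ)
  let δP : P → ℤ := fun w => (E4O.fdeg g w : ℤ)
  have hfX : Cyc.DeltaCompat f δX (fun _ => 0) := hX0 X f
  have hgP : Cyc.DeltaCompat g δP (fun _ => 0) := hX0 P g
  have hXs : Cyc.IsSetup X δX := isSetup_of_field f δX hfX
  have hPs : Cyc.IsSetup P δP := isSetup_of_field g δP hgP
  have hπ : Cyc.DeltaCompat p₁ δP δX := deltaCompat_of_comp p₁ f hgP hfX
  haveI : IsIntegral P := Horiz.isIntegral_prod hP hXs hPs hπ
  haveI : JacobsonSpace P := LocallyOfFiniteType.jacobsonSpace g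
  haveI : JacobsonSpace X := LocallyOfFiniteType.jacobsonSpace f
  haveI : CompactSpace P := QuasiCompact.compactSpace_of_compactSpace g
  -- the given dimension function is a shift of the induced one
  have hshift : ∀ w, δ w = δP w + (c - 1) := by
    have h1 : Cyc.IsDimFun P (fun w => δ w - (c - 1)) := fun x y hxy hne => by
      obtain ⟨h1, h2⟩ := hδ.2.2 x y hxy hne
      exact ⟨by show δ y - (c - 1) < δ x - (c - 1); omega, fun hh => by
        show δ x - (c - 1) = δ y - (c - 1) + 1
        have := h2 hh; omega⟩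
    intro w
    have := Strata.delta_unique h1 hPs.2.2 (fun z hz => by have := hc z hz; omega)
      (fun z hz => Strata.delta_closed g hgP hz) w
    omega
  -- the curve
  have hη1 : δX (genericPoint X) = 1 := by
    letI : X.Over (Spec (CommRingCat.of k)) := ⟨f⟩
    haveI : LocallyOfFiniteType (X ↘ Spec (CommRingCat.of k)) := inferInstanceAs (LocallyOfFiniteType f)
    have h1 := dim_closure_eq_delta (k := k) (X := X) (δ := δX) hfX (genericPoint X)
    rw [show closure ({genericPoint X} : Set X) = Set.univ from genericPoint_spec X,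
      (Homeomorph.Set.univ X).isHomeomorph.topologicalKrullDim_eq, hdim] at h1
    have h2 : (δX (genericPoint X)).toNat = 1 := by exact_mod_cast h1.symm
    omega
  have hXcl : ∀ y : X, y ≠ genericPoint X → δX y = 0 ∧ IsClosed ({y} : Set X) := by
    intro y hy
    have h1 := delta_lt hXs.2.2 (gen_specializes y) (Ne.symm hy)
    have h0 : ∀ z, 0 ≤ δX z := fun z => Int.natCast_nonneg _
    have hy0 : δX y = 0 := by have := h0 y; omega
    refine ⟨hy0, isClosed_of_closure_subset fun z hz => ?_⟩
    have h := specializes_iff_mem_closure.2 hz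
    exact (eq_of_delta_le hXs.2.2 h (by rw [hy0]; exact h0 z)).symm
  have hXcl' : ∀ y : X, IsClosed ({y} : Set X) → δX y + 1 = δX (genericPoint X) := by
    intro y hy
    rw [Strata.delta_closed f hfX hy, hη1]; rfl
  have hp₁η : p₁ (genericPoint P) = genericPoint X := apply_genericPoint_of_flat p₁
  have hPη : δP (genericPoint P) = 2 := by
    obtain ⟨ζ, hζ, hdζ, -, hall, -⟩ := Horiz.exists_affine_fibre hP hXs hPs hπ (genericPoint X)
    have : ζ = genericPoint P := ((hall _ hp₁η).antisymm (gen_specializes ζ)).eq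
    rw [← this, hdζ, hη1]; rfl
  -- the vertical prime divisors
  have hvert : ∀ x : P, δ x = c → p₁ x ≠ genericPoint X → δP x + 1 = δP (genericPoint P) ∧
      IsClosed ({p₁ x} : Set X) ∧ ∀ z, p₁ z = p₁ x → x ⤳ z := by
    intro x hx hne
    obtain ⟨h0, hcl⟩ := hXcl _ hne
    have hx1 : δP x = 1 := by have := hshift x; omega
    obtain ⟨ζ, hζ, hdζ, -, hall, -⟩ := Horiz.exists_affine_fibre hP hXs hPs hπ (p₁ x)
    have : ζ = x := eq_of_delta_le hPs.2.2 (hall x rfl) (by rw [hdζ, h0, hx1]; rfl)
    exact ⟨by rw [hx1, hPη]; rfl, hcl, fun z hz => this ▸ hall z hz⟩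
  have hdiv : ∀ g₀ x, Cyc.divFun δ (genericPoint P) g₀ x = Cyc.divFun δP (genericPoint P) g₀ x := by
    intro g₀ x
    unfold Cyc.divFun
    have hiff : δ x + 1 = δ (genericPoint P) ↔ δP x + 1 = δP (genericPoint P) := by
      rw [hshift x, hshift (genericPoint P)]; omega
    simp only [hiff]
  have hfin : ∀ d : AlgebraicCycle P ℤ, (Function.support ⇑d).Finite := fun d => by
    have h := LocallyFiniteSupport.finite_inter_support_of_isCompact (f := (d : P → ℤ))
      (fun z => d.supportLocallyFiniteWithinDomain' z trivial) isCompact_univ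
    rwa [Set.univ_inter] at h
  let B : AddSubgroup (AlgebraicCycle P ℤ) :=
    { carrier := {b | b ∈ Cyc.Zk P δ c ∧ ∀ x, b x ≠ 0 → p₁ x = genericPoint X}
      zero_mem' := ⟨(zkSub δ c).zero_mem, fun x hx => absurd rfl hx⟩
      add_mem' := fun {a b} ha hb => ⟨(zkSub δ c).add_mem ha.1 hb.1, fun x hx => by
        by_contra h
        refine hx ?_
        rw [Function.locallyFinsuppWithin.coe_add, Pi.add_apply, by_contra (mt (ha.2 x) h),
          by_contra (mt (hb.2 x) h), add_zero]⟩
      neg_mem' := fun {a} ha => ⟨(zkSub δ c).neg_mem ha.1, fun x hx => ha.2 x (by simpa using hx)⟩ }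
  let S := ratZ hδ c ⊔ B
  have hpoint : ∀ v : P, δ v = c → Function.locallyFinsuppWithin.single v (1 : ℤ) ∈ S := by
    intro v hv
    have hsingle : Function.locallyFinsuppWithin.single v (1 : ℤ) ∈ Cyc.Zk P δ c := fun x hx => by
      rw [Function.locallyFinsuppWithin.single_apply, if_neg (fun h => hx (by rw [h, hv]))]
    by_cases hne : p₁ v = genericPoint X
    · refine AddSubgroup.mem_sup_right ⟨hsingle, fun x hx => ?_⟩
      rw [Function.locallyFinsuppWithin.single_apply] at hx
      split_ifs at hx with h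
      · rw [h, hne]
      · exact absurd rfl hx
    obtain ⟨hvd, hvcl, hvgen⟩ := hvert v hv hne
    have hval := CrvFF30.stalks_valuationRing f hdim
    obtain ⟨g₁, g₂, hg₁, hg₂, hmin⟩ := polar_pair_at f hXs hdim hXcl' (p₁ v) hvcl _ hp₁η
    have hspec : ∀ (x : P), δ x = c → p₁ x ≠ genericPoint X → ∀ g₀ (hg₀ : g₀ ≠ 0),
        Horiz.vertFn p₁ p₂ g₀ ≠ 0 ∧ Cyc.divFun δ (genericPoint P) (Horiz.vertFn p₁ p₂ g₀) x =
          min 0 (Cyc.divFun δX (p₁ (genericPoint P)) g₀ (p₁ x)) := by
      intro x hx hxne g₀ hg₀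
      obtain ⟨hxd, hxcl, hxgen⟩ := hvert x hx hxne
      obtain ⟨_, hv'⟩ := hval (p₁ x)
      rw [hdiv]
      exact Horiz.vertFn_spec hP hXs hPs hπ x hxgen hxd (by rw [hp₁η]; exact hXcl' _ hxcl) hv' g₀ hg₀
    have hlf : ∀ x : P, ∃ U : Set P, IsOpen U ∧ x ∈ U ∧
        {i : PUnit.{u+1} | (closure {genericPoint P} ∩ U).Nonempty}.Finite :=
      fun x => ⟨Set.univ, isOpen_univ, trivial, Set.toFinite _⟩
    have hh₁ := (hspec v hv hne g₁ hg₁).1
    have hh₂ := (hspec v hv hne g₂ hg₂).1
    let D₁ := divSum hδ (fun _ : PUnit.{u+1} => genericPoint P) (fun _ => Horiz.vertFn p₁ p₂ g₁) (fun _ => hh₁) hlf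
    let D₂ := divSum hδ (fun _ : PUnit.{u+1} => genericPoint P) (fun _ => Horiz.vertFn p₁ p₂ g₂) (fun _ => hh₂) hlf
    have hcP : δ (genericPoint P) = c + 1 := by rw [hshift, hPη]; ring
    have hD₁ : Cyc.RatEquivZero δ c D₁ := ⟨PUnit, _, _, fun _ => hcP, fun _ => hh₁, hlf, fun x => rfl⟩
    have hD₂ : Cyc.RatEquivZero δ c D₂ := ⟨PUnit, _, _, fun _ => hcP, fun _ => hh₂, hlf, fun x => rfl⟩
    have hD : D₁ - D₂ ∈ ratZ hδ c := (ratZ hδ c).sub_mem hD₁ hD₂
    have hR : D₁ - D₂ - Function.locallyFinsuppWithin.single v (1 : ℤ) ∈ B := by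
      refine ⟨(zkSub δ c).sub_mem (ratZ_le_zkSub hδ c hD) hsingle, fun x hx => by_contra fun hxne => hx ?_⟩
      show D₁ x - D₂ x - Function.locallyFinsuppWithin.single v (1 : ℤ) x = 0
      by_cases hxc : δ x = c
      · obtain ⟨hxd, hxcl, hxgen⟩ := hvert x hxc hxne
        rw [divSum_apply, divSum_apply, finsum_unique, finsum_unique,
          (hspec x hxc hxne g₁ hg₁).2, (hspec x hxc hxne g₂ hg₂).2, hmin _ hxcl,
          Function.locallyFinsuppWithin.single_apply]
        by_cases h : x = v
        · rw [if_pos h, if_pos (congrArg _ h)]; ring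
        · rw [if_neg h, if_neg fun e => h ((hxgen v e.symm).antisymm (hvgen x e)).eq]; ring
      · rw [show D₁ x - D₂ x = (D₁ - D₂) x from rfl, ratZ_le_zkSub hδ c hD x hxc, hsingle x hxc]; ring
    have h := S.sub_mem (AddSubgroup.mem_sup_left hD : D₁ - D₂ ∈ S) (AddSubgroup.mem_sup_right hR)
    rwa [sub_sub_cancel] at h
  have hαS : α ∈ S := by
    have he : α = ∑ x ∈ (hfin α).toFinset, α x • Function.locallyFinsuppWithin.single x (1 : ℤ) := by
      ext y
      rw [Function.locallyFinsuppWithin.coe_sum, Finset.sum_apply]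
      simp only [Function.locallyFinsuppWithin.coe_zsmul, Pi.smul_apply,
        Function.locallyFinsuppWithin.single_apply, smul_eq_mul, mul_ite, mul_one, mul_zero,
        Finset.sum_ite_eq, Set.Finite.mem_toFinset, Function.mem_support]
      by_cases h : α y = 0 <;> simp [h]
    rw [he]
    exact S.sum_mem fun x hx => S.zsmul_mem
      (hpoint x (by_contra fun h => (hfin α).mem_toFinset.1 hx (hα x h))) _
  obtain ⟨R, hR, β, hβ, rfl⟩ := AddSubgroup.mem_sup.1 hαS
  refine ⟨β, hβ.1, ?_, hβ.2⟩
  show Cyc.RatEquivZero δ c (R + β - β)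
  rwa [add_sub_cancel_right]

end Groth.Agent.S18595
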