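import Groth.Statements.S18598
import Mathlib.RingTheory.Polynomial.Cyclotomic.Eval
import Mathlib.RingTheory.RootsOfUnity.PrimitiveRoots

set_option autoImplicit false
universe u
open SSRed

namespace Groth.Agent.S18598

theorem sub_one_pow_dvd {O : Type*} [CommRing O] [IsDomain O] {q k : ℕ} [hq : Fact q.Prime]
    {α : O} (h : IsPrimitiveRoot α (q ^ (k + 1))) : (α - 1) ^ (q ^ k * (q - 1)) ∣ (q : O) := by
  have e := Polynomial.eval_one_cyclotomic_prime_pow (R := O) (p := q) k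
  rw [Polynomial.cyclotomic_eq_prod_X_sub_primitiveRoots h, Polynomial.eval_prod] at e
  rw [← e]
  have hc : (primitiveRoots (q ^ (k + 1)) O).card = q ^ k * (q - 1) := by
    rw [h.card_primitiveRoots, Nat.totient_prime_pow hq.out (Nat.succ_pos k), Nat.succ_sub_one]
  rw [← hc, ← Finset.prod_const]
  refine Finset.prod_dvd_prod_of_dvd _ _ fun μ hμ => ?_
  rw [mem_primitiveRoots (by have := hq.out.pos; positivity)] at hμ
  have : NeZero (q ^ (k + 1)) := ⟨by have := hq.out.pos; positivity⟩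
  obtain ⟨i, -, rfl⟩ := h.eq_pow_of_pow_eq_one hμ.pow_eq_one
  rw [Polynomial.eval_sub, Polynomial.eval_X, Polynomial.eval_C, ← neg_sub (α ^ i) 1]
  exact (sub_one_dvd_pow_sub_one α i).trans (dvd_neg.2 dvd_rfl)

/-- Let O be a commutative integral domain of characteristic zero, n a positive integer such that no
prime number dividing n is a unit in O, and α an element of O of finite multiplicative order such
that (α − 1)² is divisible by n in O. Then α = 1 if n ≥ 5, α² = 1 if n = 4, α³ = 1 if n = 3, and α⁴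
= 1 if n = 2. -/
theorem result (O : Type u) [CommRing O] [IsDomain O] [CharZero O]
    (n : ℕ) (hn : 0 < n) (hO : ∀ p : ℕ, p.Prime → p ∣ n → ¬ IsUnit (p : O))
    (α : O) (hα : IsOfFinOrder α) (h : (n : O) ∣ (α - 1) ^ 2) :
    (5 ≤ n → α = 1) ∧ (n = 4 → α ^ 2 = 1) ∧ (n = 3 → α ^ 3 = 1) ∧ (n = 2 → α ^ 4 = 1) := by
  rcases Nat.lt_or_ge n 2 with hn1 | hn2
  · exact ⟨fun h => absurd h (by omega), fun h => absurd h (by omega), fun h => absurd h (by omega),
      fun h => absurd h (by omega)⟩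
  have hm0 : 0 < orderOf α := hα.orderOf_pos
  suffices ∀ j : ℕ, ((5 ≤ n → orderOf α ∣ 1) ∧ (n = 4 → orderOf α ∣ 2) ∧
      (n = 3 → orderOf α ∣ 3) ∧ (n = 2 → orderOf α ∣ 4)) by
    obtain ⟨a, b, c, d⟩ := this 0
    exact ⟨fun h => (pow_one α).symm.trans (orderOf_dvd_iff_pow_eq_one.1 (a h)),
      fun h => orderOf_dvd_iff_pow_eq_one.1 (b h), fun h => orderOf_dvd_iff_pow_eq_one.1 (c h),
      fun h => orderOf_dvd_iff_pow_eq_one.1 (d h)⟩
  intro _
  rcases eq_or_ne (orderOf α) 1 with h1 | h1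
  · simp [h1]
  have hp : ∀ q : ℕ, q.Prime → q ∣ orderOf α → ∀ p : ℕ, p.Prime → p ∣ n → p = q := by
    intro q hq hqm p hp hpn
    by_contra hne
    have := Fact.mk hq
    have hβ : IsPrimitiveRoot (α ^ (orderOf α / q)) (q ^ (0 + 1)) :=
      (IsPrimitiveRoot.orderOf α).pow hm0 (by rw [pow_one, Nat.div_mul_cancel hqm])
    have h3 : (n : O) ∣ (q : O) ^ 2 := by
      refine h.trans (pow_dvd_pow_of_dvd ?_ 2)
      refine (sub_one_dvd_pow_sub_one α (orderOf α / q)).trans (dvd_trans ?_ (sub_one_pow_dvd hβ))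
      exact dvd_pow_self _ (by have := hq.two_le; simp; omega)
    have h4 : ((p : ℕ) : O) ∣ (q : O) ^ 2 := (Nat.cast_dvd_cast hpn).trans h3
    refine hO p hp hpn (IsCoprime.isUnit_of_dvd ?_ h4)
    exact (Nat.Coprime.cast (R := O) ((Nat.coprime_primes hp hq).2 hne)).pow_right
  obtain ⟨q, hq, hqm⟩ := Nat.exists_prime_and_dvd h1
  have := Fact.mk hq
  have hn0 : n ≠ 0 := by omega
  obtain ⟨a, ha⟩ : ∃ a, n = q ^ a := ⟨_, Nat.eq_prime_pow_of_unique_prime_dvd hn0
    fun {p} hp' hpn => hp q hq hqm p hp' hpn⟩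
  obtain ⟨p₀, hp₀, hp₀n⟩ := Nat.exists_prime_and_dvd (show n ≠ 1 by omega)
  obtain ⟨k, hk⟩ : ∃ k, orderOf α = q ^ k := ⟨_, Nat.eq_prime_pow_of_unique_prime_dvd hm0.ne'
    fun {r} hr hrm => (hp r hr hrm p₀ hp₀ hp₀n).symm.trans (hp q hq hqm p₀ hp₀ hp₀n)⟩
  obtain ⟨k, rfl⟩ : ∃ j, k = j + 1 := Nat.exists_eq_succ_of_ne_zero (by rintro rfl; simp_all)
  have hdvd := sub_one_pow_dvd (hk ▸ IsPrimitiveRoot.orderOf α)
  set e := q ^ k * (q - 1) with he
  have hbound : a * e ≤ 2 := by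
    by_contra hlt
    have h5 : (q : O) ^ (a * e) ∣ (q : O) ^ 2 := by
      rw [pow_mul, ← Nat.cast_pow, ← ha]
      refine (pow_dvd_pow_of_dvd h e).trans ?_
      rw [← pow_mul, mul_comm, pow_mul]
      exact pow_dvd_pow_of_dvd hdvd 2
    have hqu : ¬ IsUnit (q : O) := hO q hq (ha ▸ dvd_pow_self q (by rintro rfl; simp at ha; omega))
    have := (pow_dvd_pow_iff (Nat.cast_ne_zero.2 hq.ne_zero) hqu).1 h5
    omega
  have hq2 := hq.two_le
  have hqk : 1 ≤ q ^ k := Nat.one_le_pow _ _ (by omega)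
  have ha1 : 1 ≤ a := Nat.one_le_iff_ne_zero.2 (by rintro rfl; simp at ha; omega)
  have he1 : 1 ≤ e := Nat.one_le_iff_ne_zero.2 (Nat.mul_ne_zero (by omega) (by omega))
  have ha2 : a ≤ 2 := by nlinarith
  have hq3 : q ≤ 3 := by nlinarith [show q - 1 ≤ e by rw [he]; nlinarith, Nat.sub_add_cancel (show 1 ≤ q by omega)]
  have hk1 : k ≤ 1 := by
    by_contra hk2
    have : 2 ^ 2 ≤ q ^ k := (Nat.pow_le_pow_left hq2 2).trans (Nat.pow_le_pow_right (by omega) (by omega))
    nlinarith [show q ^ k ≤ e by rw [he]; exact Nat.le_mul_of_pos_right _ (by omega)]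
  rw [hk]
  interval_cases q <;> interval_cases a <;> interval_cases k <;>
    simp only [he] at hbound <;> simp_all <;> omega

end Groth.Agent.S18598
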