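import Groth.Statements.S18614
import Mathlib.LinearAlgebra.Dual.Lemmas
import Mathlib.LinearAlgebra.Basis.VectorSpace
-- import your own Groth.Agent.* helpers here

set_option autoImplicit false
universe u v
open LinTop

namespace Groth.Agent.S18614

/-- Let k be a field carrying the discrete topology and M a separated topological k-module with a
k-linear topology (the open k-submodules form a basis of neighbourhoods of zero and M is a
topological additive group). For a closed submodule M₁, the perpendicular of the perpendicular of
M₁, both taken with respect to the pairing of M with its continuous dual (the continuous k-linear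
maps M → k), is M₁ itself: an element killed by every continuous functional vanishing on M₁ belongs
to M₁. -/
theorem result (k : Type u) (M : Type v) [Field k]
    [TopologicalSpace k] [DiscreteTopology k] [AddCommGroup M] [Module k M] [TopologicalSpace M]
    [IsTopologicalAddGroup M] [IsLinearTopology k M] [T2Space M]
    (M₁ : Submodule k M) (hM₁ : IsClosed (M₁ : Set M)) (x : M)
    (hx : ∀ φ : M →L[k] k, (∀ m ∈ M₁, φ m = 0) → φ x = 0) : x ∈ M₁ := by
  by_contra hx₁
  have h : (fun y => x - y) ⁻¹' (M₁ : Set M)ᶜ ∈ nhds (0 : M) := by
    apply (continuous_const.sub continuous_id).continuousAt.preimage_mem_nhds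
    simpa using hM₁.isOpen_compl.mem_nhds hx₁
  obtain ⟨V, hV, hVs⟩ := (IsLinearTopology.hasBasis_open_submodule k (M := M)).mem_iff.1 h
  have hxV : x ∉ M₁ ⊔ V := by
    intro hmem
    obtain ⟨a, ha, b, hb, rfl⟩ := Submodule.mem_sup.1 hmem
    exact hVs hb (by simpa using ha)
  obtain ⟨f, hfx, hf⟩ := Submodule.exists_dual_map_eq_bot_of_notMem hxV inferInstance
  have hf0 : ∀ y ∈ M₁ ⊔ V, f y = 0 := fun y hy => by
    have : f y ∈ (M₁ ⊔ V).map f := Submodule.mem_map_of_mem hy
    simpa [hf] using this
  have hc : Continuous f := continuous_of_continuousAt_zero (f := f.toAddMonoidHom) (by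
    show Filter.Tendsto f (nhds 0) (nhds (f 0))
    rw [map_zero, nhds_discrete k, Filter.tendsto_pure]
    exact Filter.mem_of_superset (hV.mem_nhds V.zero_mem)
      fun y hy => hf0 y (Submodule.mem_sup_right hy))
  exact hfx (hx ⟨f, hc⟩ fun m hm => hf0 m (Submodule.mem_sup_left hm))

end Groth.Agent.S18614
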