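import Groth.Statements.S18615
import Mathlib.LinearAlgebra.Dual.Lemmas
import Mathlib.LinearAlgebra.Basis.VectorSpace
-- import your own Groth.Agent.* helpers here

set_option autoImplicit false
universe u v
open LinTop

namespace Groth.Agent.S18615

/-- Let k be a field carrying the discrete topology and M a separated topological k-module with a
k-linear topology (open k-submodules form a basis of neighbourhoods of zero, M a topological
additive group). For closed submodules M₁ ⊆ M₂ there is a short exact sequence 0 → M₂^⊥ → M₁^⊥ →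
(M₂/M₁)^* → 0 of plain k-modules, where ⊥ denotes the annihilator in the continuous dual of M and *
the continuous dual. Stated here as its one non-formal part, surjectivity on the right: every
continuous functional on M₂ (subspace topology) that vanishes on M₁ is the restriction of a
continuous functional on M vanishing on M₁ (continuous functionals on M₂/M₁ being the continuous
functionals on M₂ that kill M₁). -/
theorem result (k : Type u) (M : Type v) [Field k]
    [TopologicalSpace k] [DiscreteTopology k] [AddCommGroup M] [Module k M] [TopologicalSpace M]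
    [IsTopologicalAddGroup M] [IsLinearTopology k M] [T2Space M]
    (M₁ M₂ : Submodule k M) (h₁₂ : M₁ ≤ M₂) (hM₁ : IsClosed (M₁ : Set M))
    (hM₂ : IsClosed (M₂ : Set M)) (ψ : M₂ →L[k] k)
    (hψ : ∀ m : M₂, (m : M) ∈ M₁ → ψ m = 0) :
    ∃ φ : M →L[k] k, (∀ m ∈ M₁, φ m = 0) ∧ ∀ m : M₂, φ (m : M) = ψ m := by
  have h0 : {m : M₂ | ψ m = 0} ∈ nhds (0 : M₂) := by
    refine ψ.continuous.continuousAt.preimage_mem_nhds (t := {0}) ?_
    rw [map_zero, nhds_discrete]
    exact rfl
  rw [nhds_subtype_eq_comap, Filter.mem_comap] at h0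
  obtain ⟨t, ht, htsub⟩ := h0
  obtain ⟨V, hV, hVt⟩ := (IsLinearTopology.hasBasis_open_submodule k (M := M)).mem_iff.1 ht
  let π : M₂ →ₗ[k] M ⧸ (M₁ ⊔ V) := (M₁ ⊔ V).mkQ.comp M₂.subtype
  have hker : LinearMap.ker π ≤ LinearMap.ker ψ.toLinearMap := by
    intro m hm
    have hm' : (m : M) ∈ M₁ ⊔ V := by simpa [π] using hm
    obtain ⟨a, ha, b, hb, hab⟩ := Submodule.mem_sup.1 hm'
    have hb2 : b ∈ M₂ := by
      have : b = (m : M) - a := eq_sub_of_add_eq' hab
      rw [this]
      exact sub_mem m.2 (h₁₂ ha)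
    have hψb : ψ ⟨b, hb2⟩ = 0 := htsub (show ((⟨b, hb2⟩ : M₂) : M) ∈ t from hVt hb)
    have hψa : ψ ⟨a, h₁₂ ha⟩ = 0 := hψ _ ha
    have hm2 : m = ⟨a, h₁₂ ha⟩ + ⟨b, hb2⟩ := Subtype.ext hab.symm
    show ψ m = 0
    rw [hm2, map_add, hψa, hψb, add_zero]
  obtain ⟨l, hl⟩ := ((LinearMap.ker π).liftQ π le_rfl).exists_leftInverse_of_injective
    (LinearMap.ker_eq_bot.2 fun a b hab => by
      induction a using Submodule.Quotient.induction_on with
      | _ a => induction b using Submodule.Quotient.induction_on with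
        | _ b =>
          rw [Submodule.Quotient.eq, LinearMap.mem_ker, map_sub, sub_eq_zero]
          exact hab)
  let f : M →ₗ[k] k := (((LinearMap.ker π).liftQ ψ.toLinearMap hker).comp l).comp (M₁ ⊔ V).mkQ
  have hf0 : ∀ y ∈ M₁ ⊔ V, f y = 0 := fun y hy => by
    show ((LinearMap.ker π).liftQ ψ.toLinearMap hker) (l ((M₁ ⊔ V).mkQ y)) = 0
    rw [Submodule.mkQ_apply, (Submodule.Quotient.mk_eq_zero _).2 hy, map_zero, map_zero]
  have hc : Continuous f := continuous_of_continuousAt_zero (f := f.toAddMonoidHom) (by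
    show Filter.Tendsto f (nhds 0) (nhds (f 0))
    rw [map_zero, nhds_discrete k, Filter.tendsto_pure]
    exact Filter.mem_of_superset (hV.mem_nhds V.zero_mem)
      fun y hy => hf0 y (Submodule.mem_sup_right hy))
  refine ⟨⟨f, hc⟩, fun m hm => hf0 m (Submodule.mem_sup_left hm), fun m => ?_⟩
  have := congrArg (fun g : (M₂ ⧸ LinearMap.ker π) →ₗ[k] _ => g (Submodule.Quotient.mk m)) hl
  simp only [LinearMap.comp_apply, Submodule.liftQ_apply, LinearMap.id_apply] at this
  show ((LinearMap.ker π).liftQ ψ.toLinearMap hker) (l (π m)) = ψ m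
  rw [this]
  rfl

end Groth.Agent.S18615
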