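import Groth.Statements.S18616
import Groth.Agent.DR29.Homotopy
import Mathlib.LinearAlgebra.ExteriorPower.Basis
import Mathlib.RingTheory.MvPowerSeries.Derivative

set_option autoImplicit false
universe u
open DeRham

namespace Groth.Agent.S18616

open exteriorPower in
set_option maxHeartbeats 1000000 in
/-- The formal Poincaré lemma. The published statement is that for a complete separated linearly
topologized commutative algebra K over a field k of characteristic zero the inclusion of the
separated de Rham complex of K into that of K[[t_1, ..., t_n]] is a quasi-isomorphism; this row is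
the case K = k in positive degrees. Concretely: k is a field of characteristic 0, σ is finite, A =
k[[σ]]; the separated differentials are modelled by the free A-module of functions σ → A (the
coordinate dt_i being the i-th basis vector) with the derivation δ whose components are the formal
partial derivatives, so that δ(A) generates it; d is any family of k-linear maps between consecutive
exterior powers of this module over A satisfying the de Rham rule with d ∘ d = 0. Then for every p ≥
1 the closed p-forms are exact. (Degree zero, that a power series with all partial derivatives zero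
is constant, is omitted.) -/
theorem result (k : Type u) [Field k] [CharZero k]
    (σ : Type u) [Finite σ]
    (δ : Derivation k (MvPowerSeries σ k) (σ → MvPowerSeries σ k))
    (hδ : ∀ (f : MvPowerSeries σ k) (i : σ), δ f i = MvPowerSeries.pderiv k i f)
    (hgen : Submodule.span (MvPowerSeries σ k) (Set.range δ) = ⊤)
    (d : ∀ p : ℕ, ↥(⋀[MvPowerSeries σ k]^p (σ → MvPowerSeries σ k)) →ₗ[k]
      ↥(⋀[MvPowerSeries σ k]^(p + 1) (σ → MvPowerSeries σ k)))
    (hd : DeRham.IsDiff δ d) (p : ℕ) :
    DeRham.cocycles d (p + 1) ≤ DeRham.coboundaries d (p + 1) := by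
  classical
  cases nonempty_fintype σ
  letI : LinearOrder σ := LinearOrder.lift' (Fintype.equivFin σ) (Fintype.equivFin σ).injective
  let A := MvPowerSeries σ k
  let T : σ → A := MvPowerSeries.X
  let θ : Module.Dual A (σ → A) := ∑ i, T i • LinearMap.proj i
  have hX : ∀ i, δ (T i) = Pi.single i 1 := fun i => funext fun j => by
    rw [hδ]
    rcases eq_or_ne j i with rfl | h
    · rw [Pi.single_eq_same]; exact MvPowerSeries.pderiv_X_self
    · rw [Pi.single_eq_of_ne h]; exact MvPowerSeries.pderiv_X_of_ne h.symm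
  have hθ : ∀ v, θ v = ∑ i, T i * v i := fun v => by simp [θ]
  have hθX : ∀ i, θ (δ (T i)) = T i := fun i => by
    rw [hθ, hX, Finset.sum_eq_single i (fun j _ h => by rw [Pi.single_eq_of_ne h, mul_zero])
      (fun h => absurd (Finset.mem_univ i) h), Pi.single_eq_same, mul_one]
  let w : ∀ q : ℕ, (Fin q → σ) → ↥(⋀[A]^q (σ → A)) := fun q b => ιMulti A q fun j => δ (T (b j))
  have hcons : ∀ q (b : Fin (q + 1) → σ),
      w (q + 1) b = Agent.DR29.wedge (δ (T (b 0))) q (w q fun j => b j.succ) := fun q b => by
    rw [Agent.DR29.wedge_iMulti]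
    exact congrArg (ιMulti A (q + 1)) (Fin.cons_self_tail (fun j => δ (T (b j)))).symm
  have hdw : ∀ q b, d q (w q b) = 0 := fun q b => by
    have h := hd.1 q 1 (fun j => T (b j))
    rw [DeRham.gen, one_smul, Derivation.map_one_eq_zero] at h
    exact h.trans ((ιMulti A (q + 1)).map_coord_zero 0 (by simp))
  have heuler : ∀ q (b : Fin (q + 1) → σ),
      d q (Agent.DR29.contr θ q (w (q + 1) b)) = (q + 1) • w (q + 1) b := by
    intro q
    induction q with
    | zero =>
      intro b
      rw [hcons, Agent.DR29.contr_wedge_zero, hθX, Agent.DR29.diff_smul hgen hd.1, hdw, smul_zero,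
        add_zero]
      exact (one_smul ℕ _).symm
    | succ q ih =>
      intro b
      rw [hcons, Agent.DR29.contr_wedge_succ, hθX, map_sub, Agent.DR29.diff_smul hgen hd.1, hdw,
        smul_zero, add_zero, Agent.DR29.diff_wedge hgen hd, ih, map_nsmul, sub_neg_eq_add, ← succ_nsmul']
  have hL : ∀ q (b : Fin (q + 1) → σ) (f : A),
      d q (Agent.DR29.contr θ q (f • w (q + 1) b)) +
        Agent.DR29.contr θ (q + 1) (d (q + 1) (f • w (q + 1) b)) =
      (θ (δ f) + (q + 1 : ℕ) * f) • w (q + 1) b := by
    intro q b f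
    rw [map_smul, Agent.DR29.diff_smul hgen hd.1, heuler, Agent.DR29.diff_smul hgen hd.1, hdw,
      smul_zero, add_zero, Agent.DR29.contr_wedge_succ, ← Nat.cast_smul_eq_nsmul A (q + 1),
      mul_comm ((q + 1 : ℕ) : A) f, add_smul (θ (δ f)), mul_smul]
    abel
  let B : ∀ q, Module.Basis (Set.powersetCard σ q) A ↥(⋀[A]^q (σ → A)) := fun q =>
    (Pi.basisFun A σ).exteriorPower q
  have hB : ∀ q (s : Set.powersetCard σ q),
      ∃ b : Fin q → σ, (B q) s = w q b := fun q s => by
    refine ⟨Set.powersetCard.ofFinEmbEquiv.symm s, ?_⟩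
    rw [exteriorPower.basis_apply, exteriorPower.ιMulti_family]
    refine congrArg (ιMulti A q) (funext fun j => ?_)
    rw [hX]
    exact Pi.basisFun_apply A σ _
  let deg : (σ →₀ ℕ) → ℕ := fun n => ∑ i, n i
  have hE : ∀ (f : A) (n : σ →₀ ℕ), MvPowerSeries.coeff n (θ (δ f)) = (deg n : k) * MvPowerSeries.coeff n f := by
    intro f n
    rw [hθ, map_sum, Nat.cast_sum, Finset.sum_mul]
    refine Finset.sum_congr rfl fun i _ => ?_
    rw [hδ, mul_comm]
    by_cases h : n i = 0
    · rw [show T i = MvPowerSeries.monomial (Finsupp.single i 1) 1 from rfl,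
        MvPowerSeries.coeff_mul_monomial, if_neg (by
        rw [Finsupp.single_le_iff]; omega), h, Nat.cast_zero, zero_mul]
    · have hle : Finsupp.single i 1 ≤ n := Finsupp.single_le_iff.mpr (Nat.one_le_iff_ne_zero.mpr h)
      rw [show T i = MvPowerSeries.monomial (Finsupp.single i 1) 1 from rfl,
        MvPowerSeries.coeff_mul_monomial, if_pos hle, mul_one,
        MvPowerSeries.coeff_pderiv, tsub_add_cancel_of_le hle, Finsupp.tsub_apply,
        Finsupp.single_eq_same, ← Nat.cast_add_one, Nat.sub_add_cancel (Nat.one_le_iff_ne_zero.mpr h),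
        mul_comm]
  have hL' : ∀ q (x : ↥(⋀[A]^(q + 1) (σ → A))),
      d q (Agent.DR29.contr θ q x) + Agent.DR29.contr θ (q + 1) (d (q + 1) x) =
        ∑ s, (θ (δ ((B (q + 1)).repr x s)) + (q + 1 : ℕ) * (B (q + 1)).repr x s) • B (q + 1) s := by
    intro q x
    conv_lhs => rw [← (B (q + 1)).sum_repr x]
    simp only [map_sum, ← Finset.sum_add_distrib]
    refine Finset.sum_congr rfl fun s _ => ?_
    obtain ⟨b, hb⟩ := hB (q + 1) s
    rw [hb]
    exact hL q b _
  have hN : ∀ (N : ℕ) (g : A) (n : σ →₀ ℕ),
      MvPowerSeries.coeff n ((N : A) * g) = (N : k) * MvPowerSeries.coeff n g := fun N g n => by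
    rw [← nsmul_eq_mul, map_nsmul, nsmul_eq_mul]
  have hinj : ∀ q (x : ↥(⋀[A]^(q + 1) (σ → A))),
      d q (Agent.DR29.contr θ q x) + Agent.DR29.contr θ (q + 1) (d (q + 1) x) = 0 → x = 0 := by
    intro q x hx
    rw [hL'] at hx
    refine (B (q + 1)).repr.injective (Finsupp.ext fun s => MvPowerSeries.ext fun n => ?_)
    have h := congrArg (fun y => MvPowerSeries.coeff n ((B (q + 1)).repr y s)) hx
    simp only [Module.Basis.repr_sum_self, map_zero, Finsupp.zero_apply, map_add, hE, hN] at h
    rw [← add_mul, ← Nat.cast_add, mul_eq_zero, Nat.cast_eq_zero] at h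
    rw [map_zero, Finsupp.zero_apply, map_zero]
    exact h.resolve_left (by omega)
  intro ω hω
  let I : A → A := fun f n => (((deg n + (p + 1) : ℕ)) : k)⁻¹ * MvPowerSeries.coeff n f
  let x : ↥(⋀[A]^(p + 1) (σ → A)) := ∑ s, I ((B (p + 1)).repr ω s) • B (p + 1) s
  have hx : d p (Agent.DR29.contr θ p x) + Agent.DR29.contr θ (p + 1) (d (p + 1) x) = ω := by
    rw [hL']
    conv_rhs => rw [← (B (p + 1)).sum_repr ω]
    refine Finset.sum_congr rfl fun s _ => ?_
    congr 1
    rw [show (B (p + 1)).repr x s = I ((B (p + 1)).repr ω s) by simp only [x, Module.Basis.repr_sum_self]]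
    refine MvPowerSeries.ext fun n => ?_
    rw [map_add, hE, hN, ← add_mul, ← Nat.cast_add]
    show ((deg n + (p + 1) : ℕ) : k) * (((deg n + (p + 1) : ℕ) : k)⁻¹ *
      MvPowerSeries.coeff n ((B (p + 1)).repr ω s)) = _
    rw [← mul_assoc, mul_inv_cancel₀ (Nat.cast_ne_zero.mpr (by omega)), one_mul]
  have hdd : ∀ q y, d (q + 1) (d q y) = 0 := fun q y => LinearMap.congr_fun (hd.2 q) y
  have hdx : d (p + 1) x = 0 := by
    refine hinj (p + 1) _ ?_
    rw [hdd, map_zero, add_zero]
    have h := congrArg (d (p + 1)) hx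
    rwa [map_add, hdd, zero_add, show d (p + 1) ω = 0 from hω] at h
  rw [hdx, map_zero, add_zero] at hx
  exact ⟨_, hx⟩

end Groth.Agent.S18616
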