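import Groth.Prelude.Def_LocRes
import Mathlib

open LaurentSeries HahnSeries

universe u

namespace Groth.Agent.S18617

theorem result (k : Type u) [Field k] [CharZero k] :
    (∀ f : LaurentSeries k, LocRes.D k f = 0 ↔ f = HahnSeries.C (f.coeff 0)) ∧
      ∀ g : LaurentSeries k, (∃ f : LaurentSeries k, LocRes.D k f = g) ↔ LocRes.res k g = 0 := by
  have hD : ∀ (f : LaurentSeries k) (n : ℤ),
      (LocRes.D k f).coeff n = (n + 1) • f.coeff (n + 1) := fun f n => LocRes.derivative_coeff k f n
  refine ⟨fun f => ⟨fun h => ?_, fun h => ?_⟩, fun g => ⟨fun ⟨f, hf⟩ => ?_, fun h => ?_⟩⟩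
  · ext n
    rcases eq_or_ne n 0 with rfl | hn
    · simp
    · have := hD f (n - 1)
      rw [h, HahnSeries.coeff_zero, sub_add_cancel, zsmul_eq_mul, eq_comm, mul_eq_zero] at this
      rw [this.resolve_left (by exact_mod_cast hn)]
      rw [HahnSeries.C_apply, HahnSeries.coeff_single_of_ne hn]
  · rw [h]
    ext n
    rw [hD, HahnSeries.coeff_zero]
    rcases eq_or_ne (n + 1) 0 with h0 | h0
    · simp [h0]
    · rw [HahnSeries.C_apply, HahnSeries.coeff_single_of_ne h0, smul_zero]
  · rw [← hf, LocRes.res_apply, hD]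
    simp
  · refine ⟨HahnSeries.ofSuppBddBelow (fun n : ℤ => ((n : k))⁻¹ * g.coeff (n - 1)) ?_, ?_⟩
    · refine ⟨g.order, fun n hn => ?_⟩
      have : g.coeff (n - 1) ≠ 0 := fun h0 => (Function.mem_support.1 hn) (by rw [h0, mul_zero])
      have := HahnSeries.order_le_of_coeff_ne_zero this
      omega
    · ext n
      rw [hD, zsmul_eq_mul]
      show (((n + 1 : ℤ)) : k) * ((((n + 1 : ℤ)) : k)⁻¹ * g.coeff (n + 1 - 1)) = g.coeff n
      rw [LocRes.res_apply] at h
      rcases eq_or_ne (n + 1) 0 with h0 | h0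
      · have : n = -1 := by omega
        subst this
        simp [h]
      · rw [add_sub_cancel_right, ← mul_assoc, mul_inv_cancel₀ (by exact_mod_cast h0), one_mul]

end Groth.Agent.S18617
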