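import Groth.Statements.S1862
import Groth.Agent.Cyc90.DimFun
import Mathlib.AlgebraicGeometry.Morphisms.FiniteType
import Mathlib.FieldTheory.IntermediateField.Adjoin.Algebra

set_option autoImplicit false
universe u
open CategoryTheory AlgebraicGeometry
open Cyc

namespace Groth.Agent.S1862

/-- Let f : X → Y be a morphism locally of finite type of integral schemes with δX(η_X) = δY(η_Y). Then
either the image of f is not dense, or f maps the generic point to the generic point and the induced
extension of residue fields there (the function fields) is finite. Here a pair (X, δ) with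
Cyc.IsSetup plays the role of a scheme locally of finite type over a fixed base with a dimension
function (X locally Noetherian with universally catenary local rings, δ a dimension function), and
Cyc.DeltaCompat records that the dimension function upstairs is the induced one. -/
theorem result (X Y : Scheme.{u}) [IsIntegral X] [IsIntegral Y] (δX : X → ℤ) (δY : Y → ℤ) (hX : Cyc.IsSetup X δX) (hY : Cyc.IsSetup Y δY) (f : X ⟶ Y) [LocallyOfFiniteType f] (hδ : Cyc.DeltaCompat f δX δY) (heq : δX (genericPoint X) = δY (genericPoint Y)) : ¬ Dense (Set.range f) ∨ (f (genericPoint X) = genericPoint Y ∧ (f.residueFieldMap (genericPoint X)).hom.Finite) := by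
  by_cases hd : Dense (Set.range f)
  swap
  · exact Or.inl hd
  refine Or.inr ?_
  have hξ : f (genericPoint X) = genericPoint Y := by
    have h1 : closure {f (genericPoint X)} = Set.univ := by
      refine top_unique ?_
      rw [Set.top_eq_univ, ← hd.closure_eq]
      refine closure_minimal ?_ isClosed_closure
      rintro _ ⟨x, rfl⟩
      exact specializes_iff_mem_closure.1 (((genericPoint_spec X).specializes trivial).map f.continuous)
    exact IsGenericPoint.eq h1 (genericPoint_spec Y)
  refine ⟨hξ, ?_⟩
  obtain ⟨n, hn, hd⟩ := hδ (genericPoint X)
  rw [hξ, heq] at hd
  have h0 : n = 0 := by omega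
  subst h0
  algebraize [(f.residueFieldMap (genericPoint X)).hom]
  have h1 : (f.stalkMap (genericPoint X)).hom.EssFiniteType := LocallyOfFiniteType.stalkMap f _
  have h2 : Algebra.EssFiniteType (Y.residueField (f (genericPoint X)))
      (X.residueField (genericPoint X)) := RingHom.EssFiniteType.residueFieldMap h1
  have : Algebra.IsAlgebraic (Y.residueField (f (genericPoint X)))
      (X.residueField (genericPoint X)) := trdeg_eq_zero_iff.mp (by exact_mod_cast hn)
  exact Algebra.finite_of_essFiniteType_of_isAlgebraic

end Groth.Agent.S1862
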