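import Groth.Statements.S18637
import Groth.Agent.GrMod19.Bass.InjDim
import Groth.Agent.GrInj18.Prime

set_option autoImplicit false
universe u
open GrLC

namespace Groth.Agent.S18637

/-- Let R be a commutative Noetherian ℤ-graded ring and m a maximal ideal of R which is graded. If e :
R/m → E is a *injective envelope of R/m in the category of graded R-modules (E graded and
*injective, e degree-preserving and injective, every nonzero graded submodule of E meeting the
image), then e is an injective hull of R/m as an ordinary R-module: E is an injective R-module and e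
is an essential injection. -/
theorem result (R : Type u) [CommRing R] [IsNoetherianRing R] (𝒜 : ℤ → AddSubgroup R) [GradedRing 𝒜] (m : HomogeneousIdeal 𝒜) [m.toIdeal.IsMaximal] (E' : Type u) [AddCommGroup E'] [Module R E'] (𝓔 : ℤ → AddSubgroup E') [DirectSum.Decomposition 𝓔] [SetLike.GradedSMul 𝒜 𝓔] (e : (R ⧸ m.toIdeal) →ₗ[R] E') (he : GrLC.IsStarInjHull 𝒜 (GrLC.quotGr 𝒜 m) 𝓔 e) : InjHull.IsInjectiveHull e := by
  refine ⟨GrInj18.essential_of_hull_prime 𝒜 𝓔 m he.toIsStarEss,
    (GrMod19.Bass.injective_iff 𝒜 𝓔 he.starInj).2 fun P _ hP hass => hP ?_⟩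
  obtain ⟨hqp, x, hx⟩ := isAssociatedPrime_iff.1 hass
  have hkill : ∀ r : R, r ∈ (P.homogeneousCore 𝒜).toIdeal ↔ r • x = 0 := fun r => by
    rw [hx, Submodule.mem_colon_singleton, Submodule.mem_bot]
  obtain ⟨n, hn⟩ : x ∈ GrLC.gam m.toIdeal E' := by
    rw [GrInj18.gam_eq_top_of_hull_prime 𝒜 𝓔 m he.toIsStarEss]; trivial
  have hle : m.toIdeal ≤ P := fun r hr => by
    refine Ideal.toIdeal_homogeneousCore_le 𝒜 P (hqp.mem_of_pow_mem n ((hkill _).2 ?_))
    exact hn _ (Ideal.pow_mem_pow hr n)
  have hmP : m.toIdeal = P := Ideal.IsMaximal.eq_of_le inferInstance (Ideal.IsPrime.ne_top ‹_›) hle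
  rw [← hmP]
  exact m.isHomogeneous

end Groth.Agent.S18637
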