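import Groth.Statements.S18639
import Groth.Agent.GrMod19.Gor.CanonField

set_option autoImplicit false
universe u
open GrLC

namespace Groth.Agent.S18639

/-- Let R be a graded ring defined over a field which is Cohen–Macaulay, with graded maximal ideal m and
canonical module K_R. Then (i) K_R is a Cohen–Macaulay R-module — stated here at m: the localisation
of K_R at m is a Cohen–Macaulay module over R_m, which is what the published proof computes (the Ext
groups of the residue field into K_R vanish outside degree n = dim R) — and (ii) K_R has finite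
injective dimension as an R-module. Here 'graded ring defined over a field' means R = ⊕_{n ≥ 0} R_n
is Noetherian with R_0 a field (so R is finitely generated over R_0), m = R_+ is its unique graded
maximal ideal and n = dim R; the canonical module K_R (the graded dual of H^n_m(R)) is represented
by a finitely generated graded module C together with a homogeneous isomorphism from Hom_R(C, E)
onto H^n_m(R), where E is a *injective envelope of R/m and H^n_m(R) is computed from a *injective
resolution of R in the graded category; by graded Matlis duality this says exactly that C ≅ K_R as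
graded modules. -/
theorem result (R : Type u) [CommRing R] [LocCoh.IsCohenMacaulayRing R] (𝒜 : ℤ → AddSubgroup R) [GradedRing 𝒜] (hpos : ∀ n : ℤ, n < 0 → 𝒜 n = ⊥) (h0 : IsField (GrLC.deg0 𝒜)) (m : HomogeneousIdeal 𝒜) (hm : GrLC.IsStarLocal 𝒜 m) (hmsp : m.toIdeal = Ideal.span (⋃ n ∈ Set.Ioi (0 : ℤ), (𝒜 n : Set R))) [m.toIdeal.IsMaximal] (n : ℕ) (hn : ringKrullDim R = n) (I : GrLC.StarInjRes 𝒜 𝒜) (E' : Type u) [AddCommGroup E'] [Module R E'] (𝓔 : ℤ → AddSubgroup E') [DirectSum.Decomposition 𝓔] [SetLike.GradedSMul 𝒜 𝓔] (e : (R ⧸ m.toIdeal) →ₗ[R] E') (he : GrLC.IsStarInjHull 𝒜 (GrLC.quotGr 𝒜 m) 𝓔 e) (C : Type u) [AddCommGroup C] [Module R C] (𝒞 : ℤ → AddSubgroup C) [DirectSum.Decomposition 𝒞] [SetLike.GradedSMul 𝒜 𝒞] (hC : GrLC.IsStarCanonical 𝒜 𝒞 𝓔 m n I) : LocCoh.IsCohenMacaulayModule (Localization.AtPrime m.toIdeal) (LocalizedModule m.toIdeal.primeCompl C) ∧ ∃ N : ℕ, CategoryTheory.HasInjectiveDimensionLT (ModuleCat.of R C) N := by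
  have hCfin := hC.1
  obtain ⟨φ, hφ⟩ := hC.2
  let S := m.toIdeal.primeCompl
  let Rm := Localization.AtPrime m.toIdeal
  have hcm := LocCoh.IsCohenMacaulayRing.isCohenMacaulayLocalRing_localization m.toIdeal
  have hdim : ringKrullDim Rm = n := GrMod19.Gor.ringKrullDim_loc_star hpos hm hn
  have : Module.Finite Rm (LocalizedModule S C) :=
    Module.Finite.of_isLocalizedModule S (LocalizedModule.mkLinearMap S C)
  obtain ⟨E₀, _, _, f, hf⟩ := InjHull18.exists_hull (R := Rm) (IsLocalRing.ResidueField Rm)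
  obtain ⟨eK⟩ := GrMod19.Gor.nonempty_dual_localized he φ hf
  refine ⟨LC16.CanonDual.isCohenMacaulayModule hdim hf eK, n + 2, ?_⟩
  have hid := LC16.CanonDual.injDimLT hdim hf eK
  refine EGA4Alg4.hasInjectiveDimensionLT_of_ext_cyclic (n + 1) _ fun I =>
    GrMod19.Bass.subsingleton_ext_cyclic (n + 2) (fun P hP => ?_) I
  have hle : ∀ Q : HomogeneousIdeal 𝒜, Q.toIdeal.IsPrime → Q.toIdeal ≤ m.toIdeal := fun Q hQ =>
    GrMod19.Gor.le_star hm fun h => hQ.ne_top
      ((congrArg HomogeneousIdeal.toIdeal h).trans HomogeneousIdeal.toIdeal_top)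
  by_cases hh : P.IsHomogeneous 𝒜
  · exact GrMod19.Gor.bass_eq_zero_of_injdim_loc (n + 1) hid P (hle ⟨P, hh⟩ hP) (by omega)
  · have hcore := GrRing54.isPrime_homogeneousCore (𝒜 := 𝒜) P
    rw [(GrMod19.Bass.bass_step 𝒜 𝒞 P hh).2 (n + 1)]
    exact GrMod19.Gor.bass_eq_zero_of_injdim_loc (n + 1) hid _ (hle _ hcore) le_rfl

end Groth.Agent.S18639
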