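import Groth.Statements.S18641
import Groth.Agent.GrMod19.Ver.Gor
import Groth.Agent.S18638

set_option autoImplicit false
universe u
open GrLC

namespace Groth.Agent.S18641

/-- Let R be a graded ring defined over a field which is Gorenstein, and let q ≥ 1 be an integer
dividing the a-invariant a(R). Then the Veronese subring R^(q) is a Gorenstein ring. Here 'graded
ring defined over a field' means R = ⊕_{n ≥ 0} R_n is Noetherian with R_0 a field, and m = R_+ is
its unique graded maximal ideal. The a-invariant a(R) is the largest degree in which the graded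
local cohomology H^n_m(R) (n = dim R, m = R_+), computed from a *injective resolution of R in the
graded category, is nonzero. The Veronese subring R^(q) = ⊕_j R_{jq}, regraded by (R^(q))_j =
R_{jq}, is presented abstractly as a ℤ-graded ring R' with an injective ring homomorphism φ : R' → R
carrying R'_j onto R_{jq} for every j. -/
theorem result (R : Type u) [CommRing R] [LocCoh.IsGorensteinRing R] (𝒜 : ℤ → AddSubgroup R) [GradedRing 𝒜] (hpos : ∀ n : ℤ, n < 0 → 𝒜 n = ⊥) (h0 : IsField (GrLC.deg0 𝒜)) (m : HomogeneousIdeal 𝒜) (hm : GrLC.IsStarLocal 𝒜 m) (hmsp : m.toIdeal = Ideal.span (⋃ n ∈ Set.Ioi (0 : ℤ), (𝒜 n : Set R))) (n : ℕ) (hn : ringKrullDim R = n) (I : GrLC.StarInjRes 𝒜 𝒜) (a : ℤ) (ha : GrLC.endDeg (I.Hgr m n) = ((a : WithTop ℤ) : WithBot (WithTop ℤ))) (q : ℕ) (hq : 0 < q) (R' : Type u) [CommRing R'] (𝒜' : ℤ → AddSubgroup R') [GradedRing 𝒜'] (φ : R' →+* R) (hφ : Function.Injective φ) (hdeg : ∀ j : ℤ, (𝒜' j).map (φ : R' →+ R) = 𝒜 (j * q)) (hdvd : (q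 : ℤ) ∣ a) : LocCoh.IsGorensteinRing R' := by
  have hpn : GrMod19.NonnegGr 𝒜 := fun k hk x hx => AddSubgroup.mem_bot.1 (hpos k hk ▸ hx)
  obtain ⟨a', β, hβ, hend⟩ := GrMod19.Gor.exists_perfect_gor hpos h0 hm hmsp hn I
  obtain rfl : a = a' := WithTop.coe_eq_coe.1 (WithBot.coe_eq_coe.1 (ha.symm.trans hend))
  let V : GrMod19.Vero 𝒜 𝒜' := ⟨φ, q, hq, hφ, hdeg⟩
  have := V.isNoetherianRing
  have hpn' := V.nonnegGr hpn
  obtain ⟨m', hm', hm'a⟩ := GrMod19.exists_star_plus hpn' (V.isField_deg0 h0)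
  have := GrMod19.cm_of_gorenstein R
  have hdimR' : ringKrullDim R' = n := (V.ringKrullDim_eq hpn).trans hn
  have := V.isCohenMacaulayRing hpn h0 hn
  let C := GrMod19.shift (GrMod19.self 𝒜) a
  have : Module.Finite R C.carrier := (inferInstance : Module.Finite R R)
  obtain ⟨I', X, e, he, hcan⟩ := V.exists_canonical hpn h0 hmsp C.gr hβ hm' hm'a
  obtain ⟨b, rfl⟩ := hdvd
  let C' := GrMod19.shift (GrMod19.self 𝒜') b
  let g : C'.carrier →ₛₗ[φ] C.carrier :=
    { toFun := fun c => φ (c : R')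
      map_add' := fun x y => map_add φ (x : R') y
      map_smul' := fun c x => map_mul φ c (x : R') }
  obtain ⟨f, -, hf, -⟩ := V.nonempty_obj_equiv C.gr C'.gr 0 (g := g) hφ fun j => by
      show (𝒜' (j + b)).map (φ : R' →+ R) = 𝒜 (j * q + 0 + q * b)
      rw [hdeg, show (j + b) * (q : ℤ) = j * q + 0 + q * b by ring]
  refine (S18638.result R' 𝒜' (fun k hk => (AddSubgroup.eq_bot_iff_forall _).2 (hpn' k hk))
    (V.isField_deg0 h0) m' hm' hm'a n hdimR' I' X.carrier X.gr e he _ (V.piece C.gr 0) hcan).2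
      ⟨-b, f.toLinearMap, f.bijective, fun k x hx => hf (k + -b) x ?_⟩
  show x ∈ 𝒜' (k + -b + b)
  rwa [neg_add_cancel_right]

end Groth.Agent.S18641
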