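import Groth.Statements.S18642
import Groth.Agent.GrMod19.Ver.Descend
import Groth.Agent.S18638

set_option autoImplicit false
universe u
open GrLC

namespace Groth.Agent.S18642

/-- Let R be a graded ring defined over a field which is Cohen–Macaulay and generated over R_0 by R_1,
with dim R ≥ 2, and let q ≥ 1. If the Veronese subring R^(q) is a Gorenstein ring, then R is a
Gorenstein ring and q divides the a-invariant a(R). Here 'graded ring defined over a field' means R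
= ⊕_{n ≥ 0} R_n is Noetherian with R_0 a field, and m = R_+ is its unique graded maximal ideal. The
a-invariant a(R) is the largest degree in which the graded local cohomology H^n_m(R) (n = dim R, m =
R_+), computed from a *injective resolution of R in the graded category, is nonzero. The Veronese
subring R^(q) = ⊕_j R_{jq}, regraded by (R^(q))_j = R_{jq}, is presented abstractly as a ℤ-graded
ring R' with an injective ring homomorphism φ : R' → R carrying R'_j onto R_{jq} for every j. -/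
theorem result (R : Type u) [CommRing R] [LocCoh.IsCohenMacaulayRing R] (𝒜 : ℤ → AddSubgroup R) [GradedRing 𝒜] (hpos : ∀ n : ℤ, n < 0 → 𝒜 n = ⊥) (h0 : IsField (GrLC.deg0 𝒜)) (m : HomogeneousIdeal 𝒜) (hm : GrLC.IsStarLocal 𝒜 m) (hmsp : m.toIdeal = Ideal.span (⋃ n ∈ Set.Ioi (0 : ℤ), (𝒜 n : Set R))) (hstd : Ideal.span (⋃ n ∈ Set.Ioi (0 : ℤ), (𝒜 n : Set R)) = Ideal.span ((𝒜 1 : AddSubgroup R) : Set R)) (n : ℕ) (hn : ringKrullDim R = n) (h2 : 2 ≤ n) (I : GrLC.StarInjRes 𝒜 𝒜) (q : ℕ) (hq : 0 < q) (R' : Type u) [CommRing R'] (𝒜' : ℤ → AddSubgroup R') [GradedRing 𝒜'] (φ : R' →+* R) (hφ : Function.Injective φ) (hdeg : ∀ j : ℤ, (𝒜' j).map (φ : R' →+ R) = 𝒜 (j * q)) [LocCoh.IsGorensteinRing R'] : LocCoh.IsGorensteinRing R ∧ ∃ a : ℤ, GrLC.endDeg (I.Hgr m n) = ((a : WithTop ℤ) : WithBot (WithTop ℤ)) ∧ (q : ℤ) ∣ a := by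
  let V : GrMod19.Vero 𝒜 𝒜' := ⟨φ, q, hq, hφ, hdeg⟩
  obtain ⟨a, β, hdvd, hβ⟩ := V.exists_perfect_descend hpos h0 hm hmsp hstd hn h2 I
  have hpn : GrMod19.NonnegGr 𝒜 := fun k hk x hx => AddSubgroup.mem_bot.1 (hpos k hk ▸ hx)
  have : m.toIdeal.IsMaximal := GrMod19.isMaximal_star hpn hm
  let C := GrMod19.shift (GrMod19.self 𝒜) a
  have : Module.Finite R C.carrier := (inferInstance : Module.Finite R R)
  obtain ⟨X, e, he⟩ := GrInj18.exists_isStarInjHull 𝒜 (GrLC.quotGr 𝒜 m)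
  refine ⟨(S18638.result R 𝒜 hpos h0 m hm hmsp n hn I X.carrier X.gr e he _ C.gr
    (GrMod19.Pairing.starCanonical_of_perfect hpos h0 hm hmsp he C.gr hβ)).2
      ⟨-a, LinearMap.id, Function.bijective_id, fun k x hx => ?_⟩, a, ?_, hdvd⟩
  · show x ∈ 𝒜 (k + -a + a)
    rwa [neg_add_cancel_right]
  let F : GrLC.comp 𝒜 C.gr (-a) →ₗ[GrLC.deg0 𝒜] GrLC.deg0 𝒜 :=
    { toFun := fun c => ⟨(show R from c.1), by
        obtain ⟨x, hx⟩ := c
        have : (show R from x) ∈ 𝒜 (-a + a) := hx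
        rwa [neg_add_cancel] at this⟩
      map_add' := fun _ _ => rfl
      map_smul' := fun _ _ => rfl }
  refine GrMod19.Gor.endDeg_of_perfect hβ (fun j hj => (AddSubgroup.eq_bot_iff_forall _).2 fun x hx =>
    hpn (j + a) (by omega) x hx) F fun h => ?_
  have : Nontrivial (GrLC.deg0 𝒜) := ⟨h0.exists_pair_ne⟩
  exact one_ne_zero (α := GrLC.deg0 𝒜) (LinearMap.congr_fun h ⟨(1 : R), by
    show (1 : R) ∈ 𝒜 (-a + a); rw [neg_add_cancel]; exact SetLike.GradedOne.one_mem⟩)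

end Groth.Agent.S18642
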