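import Groth.Statements.S18672
import Groth.Agent.GrMod19.Basic

set_option autoImplicit false
universe u
open GrLC

namespace Groth.Agent.S18672

/-- Let R be a graded ring defined over a field k = R_0 which is Cohen–Macaulay and generated over k by
R_1 (the standing hypotheses of this section; only generation in degree one is used), q ≥ 1, R' =
R^(q), and a an integer. Then the Veronese submodule [R(a)]^(q) = ⊕_j R_{a+jq} is generated over R'
by its piece R(a)_n = R_{a+n}, where n is the smallest multiple of q with n + a ≥ 0. Here 'graded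
ring defined over a field' means R = ⊕_{n ≥ 0} R_n is Noetherian with R_0 a field, and m = R_+ is
its unique graded maximal ideal. The Veronese subring R^(q) = ⊕_j R_{jq}, regraded by (R^(q))_j =
R_{jq}, is presented abstractly as a ℤ-graded ring R' with an injective ring homomorphism φ : R' → R
carrying R'_j onto R_{jq} for every j. The module [R(a)]^(q) is presented as a graded R'-module M'
with an injective additive map g : M' → R, semilinear over φ, carrying M'_j onto R_{a+jq} for every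
j; with n = j₀q, the conclusion is that the R'-span of M'_{j₀} is all of M'. -/
theorem result (R : Type u) [CommRing R] [LocCoh.IsCohenMacaulayRing R] (𝒜 : ℤ → AddSubgroup R) [GradedRing 𝒜] (hpos : ∀ n : ℤ, n < 0 → 𝒜 n = ⊥) (h0 : IsField (GrLC.deg0 𝒜)) (hstd : Ideal.span (⋃ n ∈ Set.Ioi (0 : ℤ), (𝒜 n : Set R)) = Ideal.span ((𝒜 1 : AddSubgroup R) : Set R)) (q : ℕ) (hq : 0 < q) (R' : Type u) [CommRing R'] (𝒜' : ℤ → AddSubgroup R') [GradedRing 𝒜'] (φ : R' →+* R) (hφ : Function.Injective φ) (hdeg : ∀ j : ℤ, (𝒜' j).map (φ : R' →+ R) = 𝒜 (j * q)) (a : ℤ) (M' : Type u) [AddCommGroup M'] [Module R' M'] (ℳ' : ℤ → AddSubgroup M') [DirectSum.Decomposition ℳ'] [SetLike.GradedSMul 𝒜' ℳ'] (g : M' →ₛₗ[φ] R) (hg : Function.Injective g) (hgdeg : ∀ j : ℤ, (ℳ' j).map (g : M' →+ R) = 𝒜 (a + j * q)) (j₀ : ℤ) (hj₀ : 0 ≤ a + j₀ * q) (hj₀' : a + (j₀ - 1) * q < 0) : Submodule.span R' ((ℳ' j₀ : AddSubgroup M') : Set M') = ⊤ := by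
  classical
  have hstep : ∀ n : ℤ, 0 ≤ n → ∀ x ∈ 𝒜 (n + 1),
      x ∈ AddSubgroup.closure {z | ∃ u ∈ 𝒜 1, ∃ v ∈ 𝒜 n, u * v = z} := by
    intro n hn x hx
    have hx' : x ∈ Ideal.span (⋃ j ∈ Set.Ioi (0 : ℤ), (𝒜 j : Set R)) :=
      Ideal.subset_span (Set.mem_biUnion (Set.mem_Ioi.2 (by omega : (0 : ℤ) < n + 1)) hx)
    rw [hstd, show Ideal.span ((𝒜 1 : AddSubgroup R) : Set R) = Submodule.span R ((𝒜 1 : AddSubgroup R) : Set R) from rfl,
      Submodule.mem_span_set'] at hx'
    obtain ⟨l, c, y, hy⟩ := hx'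
    rw [← Groth.Agent.GrMod19.cmp_of_mem 𝒜 hx, ← hy, map_sum]
    refine sum_mem fun b _ => ?_
    rw [Groth.Agent.GrMod19.cmp_smul_homog_right 𝒜 𝒜 (n + 1) (y b).2 (c b), add_sub_cancel_right, smul_eq_mul, mul_comm]
    exact AddSubgroup.subset_closure ⟨_, (y b).2, _, Groth.Agent.GrMod19.cmp_mem 𝒜 n (c b), rfl⟩
  have hgen : ∀ (t : ℕ) (n : ℤ), 0 ≤ n → ∀ x ∈ 𝒜 ((t : ℤ) + n),
      x ∈ AddSubgroup.closure {z | ∃ u ∈ 𝒜 (t : ℤ), ∃ v ∈ 𝒜 n, u * v = z} := by
    intro t
    induction t with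
    | zero =>
      intro n _ x hx
      rw [Nat.cast_zero, zero_add] at hx
      rw [Nat.cast_zero]
      exact AddSubgroup.subset_closure ⟨1, SetLike.GradedOne.one_mem, x, hx, one_mul x⟩
    | succ t ih =>
      intro n hn x hx
      have hle := hstep ((t : ℤ) + n) (by omega) x (by rwa [show ((t + 1 : ℕ) : ℤ) + n = (t : ℤ) + n + 1 by push_cast; ring] at hx)
      refine (AddSubgroup.closure_le _).2 ?_ hle
      rintro _ ⟨a₁, ha₁, w, hw, rfl⟩
      have hw' := ih n hn w hw
      clear hw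
      induction hw' using AddSubgroup.closure_induction with
      | mem z hz =>
        obtain ⟨u, hu, v, hv, rfl⟩ := hz
        refine AddSubgroup.subset_closure ⟨a₁ * u, ?_, v, hv, mul_assoc _ _ _⟩
        rw [show ((t + 1 : ℕ) : ℤ) = 1 + (t : ℤ) by push_cast; ring]
        exact SetLike.GradedMul.mul_mem ha₁ hu
      | zero => simp
      | add z z' _ _ h h' => rw [mul_add]; exact add_mem h h'
      | neg z _ h => rw [mul_neg]; exact neg_mem h
  rw [eq_top_iff]
  intro x hx0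
  clear hx0
  induction x using Groth.Agent.GrMod19.piece_induction ℳ' with
  | h0 => exact zero_mem _
  | hadd y z hy hz => exact add_mem hy hz
  | hp j x hx =>
    have hgx : g x ∈ 𝒜 (a + j * q) := hgdeg j ▸ AddSubgroup.mem_map.2 ⟨x, hx, rfl⟩
    by_cases hneg : a + j * q < 0
    · rw [hpos _ hneg, AddSubgroup.mem_bot] at hgx
      rw [hg (hgx.trans (map_zero g).symm)]
      exact zero_mem _
    · have hj : j₀ ≤ j := by
        by_contra h
        have : j * (q : ℤ) ≤ (j₀ - 1) * (q : ℤ) := mul_le_mul_of_nonneg_right (by omega) (Int.natCast_nonneg q)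
        omega
      obtain ⟨t, ht⟩ : ∃ t : ℕ, (t : ℤ) = (j - j₀) * q :=
        ⟨((j - j₀) * (q : ℤ)).toNat, Int.toNat_of_nonneg (mul_nonneg (by omega) (Int.natCast_nonneg q))⟩
      have key := hgen t (a + j₀ * q) hj₀ (g x) (by rw [ht, show (j - j₀) * (q : ℤ) + (a + j₀ * q) = a + j * q by ring]; exact hgx)
      let P : AddSubgroup R := (Submodule.span R' ((ℳ' j₀ : AddSubgroup M') : Set M')).toAddSubgroup.map g.toAddMonoidHom
      have hle : AddSubgroup.closure {z | ∃ u ∈ 𝒜 (t : ℤ), ∃ v ∈ 𝒜 (a + j₀ * q), u * v = z} ≤ P := by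
        rw [AddSubgroup.closure_le]
        rintro _ ⟨u, hu, v, hv, rfl⟩
        rw [ht, ← hdeg] at hu
        rw [← hgdeg] at hv
        obtain ⟨u', -, rfl⟩ := hu
        obtain ⟨v', hv', rfl⟩ := hv
        exact AddSubgroup.mem_map.2 ⟨u' • v', Submodule.smul_mem _ _ (Submodule.subset_span hv'), g.map_smulₛₗ u' v'⟩
      obtain ⟨x', hx', hxx⟩ := AddSubgroup.mem_map.1 (hle key)
      rw [← hg hxx]
      exact hx'

end Groth.Agent.S18672
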