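import Groth.Statements.S18655
import Groth.Agent.GrMod19.Ver.Gor
import Groth.Agent.GrMod19.Gor.Gens
import Groth.Agent.S18640
import Groth.Agent.S18672

set_option autoImplicit false
universe u
open GrLC

namespace Groth.Agent.S18655

/-- Let R be a graded ring defined over a field k = R_0 which is Gorenstein and generated over k by R_1,
of dimension n, and let q ≥ 1. Then the type r(R^(q)) of the Veronese subring equals H(j + a(R), R)
= dim_k R_{j + a(R)}, where j is the smallest multiple of q with j + a(R) ≥ 0 (so j + a(R) is the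
remainder ρ of a(R) modulo q, 0 ≤ ρ < q; the statement is written in terms of ρ). Here the type of
R^(q) is the Bass number μ_n(m', R^(q)), the dimension over the residue field of Ext^n over the
local ring of R^(q) at its graded maximal ideal m' = (R^(q))_+ (R^(q) has dimension n). Here 'graded
ring defined over a field' means R = ⊕_{n ≥ 0} R_n is Noetherian with R_0 a field, and m = R_+ is
its unique graded maximal ideal. The a-invariant a(R) is the largest degree in which the graded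
local cohomology H^n_m(R) (n = dim R, m = R_+), computed from a *injective resolution of R in the
graded category, is nonzero. The Veronese subring R^(q) = ⊕_j R_{jq}, regraded by (R^(q))_j =
R_{jq}, is presented abstractly as a ℤ-graded ring R' with an injective ring homomorphism φ : R' → R
carrying R'_j onto R_{jq} for every j. -/
theorem result (R : Type u) [CommRing R] [LocCoh.IsGorensteinRing R] (𝒜 : ℤ → AddSubgroup R) [GradedRing 𝒜] (hpos : ∀ n : ℤ, n < 0 → 𝒜 n = ⊥) (h0 : IsField (GrLC.deg0 𝒜)) (m : HomogeneousIdeal 𝒜) (hm : GrLC.IsStarLocal 𝒜 m) (hmsp : m.toIdeal = Ideal.span (⋃ n ∈ Set.Ioi (0 : ℤ), (𝒜 n : Set R))) (hstd : Ideal.span (⋃ n ∈ Set.Ioi (0 : ℤ), (𝒜 n : Set R)) = Ideal.span ((𝒜 1 : AddSubgroup R) : Set R)) (n : ℕ) (hn : ringKrullDim R = n) (I : GrLC.StarInjRes 𝒜 𝒜) (a : ℤ) (ha : GrLC.endDeg (I.Hgr m n) = ((a : WithTop ℤ) : WithBot (WithTop ℤ))) (q : ℕ) (hq : 0 < q) (R' : Type u)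 [CommRing R'] (𝒜' : ℤ → AddSubgroup R') [GradedRing 𝒜'] (φ : R' →+* R) (hφ : Function.Injective φ) (hdeg : ∀ j : ℤ, (𝒜' j).map (φ : R' →+ R) = 𝒜 (j * q)) (m' : HomogeneousIdeal 𝒜') [m'.toIdeal.IsMaximal] (hm'sp : m'.toIdeal = Ideal.span (⋃ j ∈ Set.Ioi (0 : ℤ), (𝒜' j : Set R'))) (ρ : ℤ) (hρ0 : 0 ≤ ρ) (hρq : ρ < q) (hρa : (q : ℤ) ∣ a - ρ) : GrLC.bassNum m'.toIdeal R' n = (Module.finrank (GrLC.deg0 𝒜) (GrLC.comp 𝒜 𝒜 ρ) : ℕ∞) := by
  have hpn : GrMod19.NonnegGr 𝒜 := fun k hk x hx => AddSubgroup.mem_bot.1 (hpos k hk ▸ hx)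
  obtain ⟨a', β, hβ, hend⟩ := GrMod19.Gor.exists_perfect_gor hpos h0 hm hmsp hn I
  obtain rfl : a = a' := WithTop.coe_eq_coe.1 (WithBot.coe_eq_coe.1 (ha.symm.trans hend))
  let V : GrMod19.Vero 𝒜 𝒜' := ⟨φ, q, hq, hφ, hdeg⟩
  have := V.isNoetherianRing
  have hpn' := V.nonnegGr hpn
  have hpos' : ∀ k : ℤ, k < 0 → 𝒜' k = ⊥ := fun k hk => (AddSubgroup.eq_bot_iff_forall _).2 (hpn' k hk)
  have h0' := V.isField_deg0 h0
  obtain ⟨m₁, hm₁, hm₁a⟩ := GrMod19.exists_star_plus hpn' h0'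
  obtain rfl : m₁ = m' := HomogeneousIdeal.toIdeal_injective (hm₁a.trans hm'sp.symm)
  have := GrMod19.cm_of_gorenstein R
  have hdimR' : ringKrullDim R' = n := (V.ringKrullDim_eq hpn).trans hn
  have := V.isCohenMacaulayRing hpn h0 hn
  let C := GrMod19.shift (GrMod19.self 𝒜) a
  have : Module.Finite R C.carrier := (inferInstance : Module.Finite R R)
  obtain ⟨I', X, e, he, hcan⟩ := V.exists_canonical hpn h0 hmsp C.gr hβ hm₁ hm₁a
  rw [(S18640.result R' 𝒜' hpos' h0' m₁ hm₁ hm₁a n hdimR' I' X.carrier X.gr e he _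
    (V.piece C.gr 0) hcan).2]
  obtain ⟨j₀, hj₀⟩ : ∃ j₀ : ℤ, a + j₀ * q = ρ := by
    obtain ⟨c, hc⟩ := hρa
    exact ⟨-c, by rw [neg_mul, mul_comm c, ← hc]; ring⟩
  let g : V.Obj C.gr 0 →ₛₗ[φ] R := V.incl C.gr 0
  have hdeg' : ∀ j : ℤ, (V.piece C.gr 0 j).map (g : V.Obj C.gr 0 →+ R) = 𝒜 (a + j * q) := by
    intro j
    rw [show a + j * (q : ℤ) = j * q + 0 + a by ring]
    refine le_antisymm ?_ fun x hx => ?_
    · rintro _ ⟨c, hc, rfl⟩
      exact hc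
    · exact ⟨⟨x, V.mem_part_of_mem C.gr 0 j hx⟩, hx, rfl⟩
  have hgen := S18672.result R 𝒜 hpos h0 hstd q hq R' 𝒜' φ hφ hdeg a (V.Obj C.gr 0) (V.piece C.gr 0)
    g (V.val_injective C.gr 0) hdeg' j₀ (by rw [hj₀]; exact hρ0)
    (by rw [sub_one_mul, ← add_sub_assoc, hj₀]; omega)
  have hlow : ∀ j, j < j₀ → V.piece C.gr 0 j = ⊥ := fun j hj => (AddSubgroup.eq_bot_iff_forall _).2 fun x hx => by
    refine V.val_injective C.gr 0 (hpn (j * q + 0 + a) ?_ _ hx)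
    have : j * (q : ℤ) ≤ (j₀ - 1) * q := mul_le_mul_of_nonneg_right (by omega) (Int.natCast_nonneg q)
    rw [sub_one_mul] at this
    omega
  rw [← GrMod19.finrank_residue_tensor (V.piece C.gr 0) hpn' h0' hm₁a hlow hgen, Nat.cast_inj]
  have hidx : j₀ * (q : ℤ) + 0 + a = ρ := by rw [← hj₀]; ring
  let ι₀ : GrLC.comp 𝒜' (V.piece C.gr 0) j₀ →+ GrLC.comp 𝒜 𝒜 ρ :=
    AddMonoidHom.mk' (fun c => ⟨g c.1, by
      have h : g c.1 ∈ 𝒜 (j₀ * q + 0 + a) := c.2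
      rwa [hidx] at h⟩) fun _ _ => rfl
  refine congrArg Cardinal.toNat (rank_eq_of_equiv_equiv V.deg0Map (AddEquiv.ofBijective ι₀
    ⟨fun c c' h => Subtype.ext (V.val_injective C.gr 0 (show g c.1 = g c'.1 from congrArg (fun z : GrLC.comp 𝒜 𝒜 ρ => z.1) h)),
      fun x => ?_⟩)
    V.deg0Map_bijective fun r c => Subtype.ext rfl)
  obtain ⟨x, hx⟩ := x
  have hx' : x ∈ 𝒜 (j₀ * q + 0 + a) := hidx.symm ▸ (hx : x ∈ 𝒜 ρ)
  exact ⟨⟨⟨x, V.mem_part_of_mem C.gr 0 j₀ hx'⟩, hx'⟩, rfl⟩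

end Groth.Agent.S18655
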