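import Groth.Statements.S18643
import Groth.Agent.S18641
import Groth.Agent.S18655
import Groth.Agent.GrMod19.Gor.Type
import Groth.Agent.GrMod19.Gor.RegPair
import Groth.Agent.GrMod19.Gor.Gens
import Groth.Agent.LC15.Gamma
import Mathlib.LinearAlgebra.FiniteDimensional.Basic

set_option autoImplicit false
universe u
open GrLC

namespace Groth.Agent.S18643

/-- Let R be a graded ring defined over a field k = R_0 which is Gorenstein and generated over k by R_1,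
with dim R ≥ 1 and dim_k R_1 ≥ 2, and let q ≥ 1. Then the Veronese subring R^(q) is a Gorenstein
ring if and only if q divides the a-invariant a(R). Here 'graded ring defined over a field' means R
= ⊕_{n ≥ 0} R_n is Noetherian with R_0 a field, and m = R_+ is its unique graded maximal ideal. The
a-invariant a(R) is the largest degree in which the graded local cohomology H^n_m(R) (n = dim R, m =
R_+), computed from a *injective resolution of R in the graded category, is nonzero. The Veronese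
subring R^(q) = ⊕_j R_{jq}, regraded by (R^(q))_j = R_{jq}, is presented abstractly as a ℤ-graded
ring R' with an injective ring homomorphism φ : R' → R carrying R'_j onto R_{jq} for every j. -/
theorem result (R : Type u) [CommRing R] [LocCoh.IsGorensteinRing R] (𝒜 : ℤ → AddSubgroup R) [GradedRing 𝒜] (hpos : ∀ n : ℤ, n < 0 → 𝒜 n = ⊥) (h0 : IsField (GrLC.deg0 𝒜)) (m : HomogeneousIdeal 𝒜) (hm : GrLC.IsStarLocal 𝒜 m) (hmsp : m.toIdeal = Ideal.span (⋃ n ∈ Set.Ioi (0 : ℤ), (𝒜 n : Set R))) (hstd : Ideal.span (⋃ n ∈ Set.Ioi (0 : ℤ), (𝒜 n : Set R)) = Ideal.span ((𝒜 1 : AddSubgroup R) : Set R)) (hR1 : 2 ≤ Module.finrank (GrLC.deg0 𝒜) (GrLC.comp 𝒜 𝒜 1)) (n : ℕ) (hn : ringKrullDim R = n) (h1 : 1 ≤ n) (I : GrLC.StarInjRes 𝒜 𝒜) (a : ℤ) (ha : GrLC.endDeg (I.Hgr m n) = ((a : WithTop ℤ) : WithBot (WithTop ℤ))) (q : ℕ) (hq : 0 < q) (R' : Type u) [CommRing R'] (𝒜' : ℤ → AddSubgroup R') [GradedRing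 𝒜'] (φ : R' →+* R) (hφ : Function.Injective φ) (hdeg : ∀ j : ℤ, (𝒜' j).map (φ : R' →+ R) = 𝒜 (j * q)) : LocCoh.IsGorensteinRing R' ↔ (q : ℤ) ∣ a := by
  refine ⟨fun hG => ?_, S18641.result R 𝒜 hpos h0 m hm hmsp n hn I a ha q hq R' 𝒜' φ hφ hdeg⟩
  by_contra hndvd
  let ρ := a % (q : ℤ)
  have hρ0 : 0 ≤ ρ := Int.emod_nonneg a (Int.natCast_ne_zero.2 hq.ne')
  have hρq : ρ < q := Int.emod_lt_of_pos a (Int.natCast_pos.2 hq)
  have hρne : ρ ≠ 0 := fun h => hndvd (Int.dvd_of_emod_eq_zero h)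
  have hρpos : 0 < ρ := lt_of_le_of_ne hρ0 (Ne.symm hρne)
  have hρa : (q : ℤ) ∣ a - ρ := Int.dvd_self_sub_emod
  have hpn : GrMod19.NonnegGr 𝒜 := fun k hk x hx => AddSubgroup.mem_bot.1 (hpos k hk ▸ hx)
  let V : GrMod19.Vero 𝒜 𝒜' := ⟨φ, q, hq, hφ, hdeg⟩
  have := V.isNoetherianRing
  have hpn' := V.nonnegGr hpn
  obtain ⟨m', hm', hm'a⟩ := GrMod19.exists_star_plus hpn' (V.isField_deg0 h0)
  have : m'.toIdeal.IsMaximal := GrMod19.isMaximal_star hpn' hm'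
  have hdimR' : ringKrullDim R' = n := (V.ringKrullDim_eq hpn).trans hn
  have h18655 := S18655.result R 𝒜 hpos h0 m hm hmsp hstd n hn I a ha q hq R' 𝒜' φ hφ hdeg m' hm'a ρ hρ0 hρq hρa
  rw [GrMod19.Gor.bassNum_eq_one (fun k hk => (AddSubgroup.eq_bot_iff_forall _).2 (hpn' k hk))
    (V.isField_deg0 h0) hm' hm'a hdimR'] at h18655
  have hdim1 : Module.finrank (GrLC.deg0 𝒜) (GrLC.comp 𝒜 𝒜 ρ) = 1 := by exact_mod_cast h18655.symm
  let : Field (GrLC.deg0 𝒜) := h0.toField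
  obtain ⟨⟨z, hz⟩, -, hgen⟩ := finrank_eq_one_iff'.1 hdim1
  have hline : ∀ w ∈ 𝒜 ρ, ∃ c ∈ 𝒜 0, c * z = w := fun w hw => by
    obtain ⟨c, hc⟩ := hgen ⟨w, hw⟩
    exact ⟨(c : R), c.2, congrArg Subtype.val hc⟩
  have hpow : ∀ (d : ℕ), ∀ w ∈ 𝒜 ((d : ℤ) * ρ), ∃ c ∈ 𝒜 0, c * z ^ d = w := by
    intro d
    induction d with
    | zero => exact fun w hw => ⟨w, by simpa using hw, by simp⟩
    | succ d ih =>
      intro w hw
      obtain ⟨t, ht⟩ : ∃ t : ℕ, (t : ℤ) = ρ := ⟨ρ.toNat, Int.toNat_of_nonneg hρ0⟩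
      rw [show ((d + 1 : ℕ) : ℤ) * ρ = (t : ℤ) + d * ρ by rw [ht]; push_cast; ring] at hw
      have hcl := GrMod19.mem_closure_mul hstd t ((d : ℤ) * ρ) (by positivity) w hw
      induction hcl using AddSubgroup.closure_induction with
      | mem s hs =>
        obtain ⟨u, hu, v, hv, rfl⟩ := hs
        obtain ⟨c₁, hc₁, rfl⟩ := hline u (ht ▸ hu)
        obtain ⟨c₂, hc₂, rfl⟩ := ih v hv
        refine ⟨c₁ * c₂, ?_, by ring⟩
        have := SetLike.GradedMul.mul_mem hc₁ hc₂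
        rwa [add_zero] at this
      | zero => exact ⟨0, zero_mem _, zero_mul _⟩
      | add p p' hp0 hp0' hp hp' =>
        have hcl_mem : ∀ s ∈ AddSubgroup.closure {z | ∃ u ∈ 𝒜 (t : ℤ), ∃ v ∈ 𝒜 ((d : ℤ) * ρ), u * v = z},
            s ∈ 𝒜 ((t : ℤ) + d * ρ) := fun s hs => (AddSubgroup.closure_le _).2
          (by rintro _ ⟨u, hu, v, hv, rfl⟩; exact SetLike.GradedMul.mul_mem hu hv) hs
        obtain ⟨c₁, hc₁, h₁⟩ := hp (hcl_mem p hp0)
        obtain ⟨c₂, hc₂, h₂⟩ := hp' (hcl_mem p' hp0')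
        exact ⟨c₁ + c₂, add_mem hc₁ hc₂, by rw [add_mul, h₁, h₂]⟩
      | neg p hp0 hp =>
        obtain ⟨c₁, hc₁, h₁⟩ := hp (by simpa using neg_mem hw)
        exact ⟨-c₁, neg_mem hc₁, by rw [neg_mul, h₁]⟩
  have := GrMod19.cm_of_gorenstein R
  obtain ⟨hlow, -⟩ := GrMod19.lc_top hpn hm hn
  have hgR : GrLC.gam m.toIdeal R = ⊥ := (LC15.subsingleton_H0_iff m.toIdeal R).1 (hlow 0 (by omega))
  obtain ⟨i, w, hi, hw, hwr⟩ := GrMod19.exists_regular_homog (M := R) hpn hmsp hgR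
  obtain ⟨i', hi'⟩ : ∃ i' : ℕ, (i' : ℤ) = i := ⟨i.toNat, Int.toNat_of_nonneg hi.le⟩
  obtain ⟨t, ht⟩ : ∃ t : ℕ, (t : ℤ) = ρ - 1 := ⟨(ρ - 1).toNat, Int.toNat_of_nonneg (by omega)⟩
  have hwp : w ^ (t + 1) ∈ 𝒜 ((i' : ℤ) * ρ) := by
    have h := SetLike.pow_mem_graded (A := 𝒜) (t + 1) hw
    rwa [nsmul_eq_mul, show ((t + 1 : ℕ) : ℤ) * i = (i' : ℤ) * ρ by
      rw [hi', Nat.cast_succ, ht, sub_add_cancel, mul_comm]] at h
  obtain ⟨c, -, hc⟩ := hpow i' _ hwp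
  have hzr : ∀ r, z * r = 0 → r = 0 := fun r hr => by
    refine hwr.pow (t + 1) ?_
    show w ^ (t + 1) * r = w ^ (t + 1) * 0
    obtain ⟨j, rfl⟩ : ∃ j, i' = j + 1 := ⟨i' - 1, by omega⟩
    rw [mul_zero, ← hc, pow_succ, show c * (z ^ j * z) * r = c * z ^ j * (z * r) by ring, hr, mul_zero]
  have hnt : Nontrivial R := ⟨⟨(0 : R), 1, fun h => h0.exists_pair_ne.elim fun u ⟨v, huv⟩ =>
    huv (Subtype.ext (eq_of_zero_eq_one h _ _))⟩⟩
  have hz0 : z ≠ 0 := fun h => one_ne_zero (hzr 1 (by rw [h, zero_mul]))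
  obtain ⟨u, hu, v, hv, huv⟩ : ∃ u ∈ 𝒜 (ρ - 1), ∃ v ∈ 𝒜 1, u * v ≠ 0 := by
    by_contra h
    push Not at h
    refine hz0 ?_
    have hcl := GrMod19.mem_closure_mul hstd t 1 zero_le_one z (by rw [ht, sub_add_cancel]; exact hz)
    exact AddSubgroup.mem_bot.1 ((AddSubgroup.closure_le _).2 (by
      rintro _ ⟨u, hu, v, hv, rfl⟩
      exact AddSubgroup.mem_bot.2 (h u (ht ▸ hu) v hv)) hcl)
  have huw : ∀ v' ∈ 𝒜 1, ∃ c' ∈ 𝒜 0, c' * z = u * v' := fun v' hv' =>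
    hline _ (sub_add_cancel ρ 1 ▸ SetLike.GradedMul.mul_mem hu hv')
  obtain ⟨c₀, hc₀, hcz⟩ := huw v hv
  have hc₀ne : (⟨c₀, hc₀⟩ : GrLC.deg0 𝒜) ≠ 0 := fun h =>
    huv (by rw [← hcz, show c₀ = 0 from congrArg Subtype.val h, zero_mul])
  obtain ⟨⟨c₁, hc₁⟩, hcc⟩ := h0.mul_inv_cancel hc₀ne
  have hcc' : c₀ * c₁ = 1 := congrArg Subtype.val hcc
  have hur : ∀ r, u * r = 0 → r = 0 := fun r hr => by
    refine hzr r ?_
    calc z * r = (c₀ * c₁) * (z * r) := by rw [hcc', one_mul]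
      _ = c₁ * ((c₀ * z) * r) := by ring
      _ = c₁ * v * (u * r) := by rw [hcz]; ring
      _ = 0 := by rw [hr, mul_zero]
  have hle : Module.finrank (GrLC.deg0 𝒜) (GrLC.comp 𝒜 𝒜 1) ≤ 1 := by
    refine finrank_le_one ⟨v, hv⟩ fun ⟨v', hv'⟩ => ?_
    obtain ⟨c', hc', hc'z⟩ := huw v' hv'
    have hcc0 : c' * c₁ ∈ 𝒜 0 := by
      have := SetLike.GradedMul.mul_mem hc' hc₁
      rwa [add_zero] at this
    refine ⟨⟨c' * c₁, hcc0⟩, Subtype.ext (sub_eq_zero.1 (hur _ ?_))⟩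
    show u * (c' * c₁ * v - v') = 0
    rw [mul_sub, ← hc'z, show u * (c' * c₁ * v) = c' * c₁ * (u * v) by ring, ← hcz,
      show c' * c₁ * (c₀ * z) = c' * (c₀ * c₁) * z by ring, hcc', mul_one, sub_self]
  omega

end Groth.Agent.S18643
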