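import Groth.Statements.S18647
import Groth.Agent.CAlg6.SegDim
-- import your own Groth.Agent.* helpers here

set_option autoImplicit false
universe u
open scoped TensorProduct
open GrSegre

namespace Groth.Agent.S18647

/-- Let R and S be graded rings defined over a field k with dim R = r ≥ 1 and dim S = s ≥ 1. Then the
Segre product T = R # S has Krull dimension r + s − 1. Here a graded ring defined over k is a
commutative k-algebra of finite type, graded in nonnegative degrees by k-subspaces with degree-zero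
part k·1; the Segre product T = R # S = ⊕_n R_n ⊗_k S_n (graded by T_n = R_n ⊗_k S_n) is presented
abstractly as a graded k-algebra T with an injective k-algebra homomorphism ψ : T → R ⊗_k S carrying
T_n onto the k-span of the elementary tensors a ⊗ b with a ∈ R_n, b ∈ S_n, for every n. -/
theorem result (k : Type u) [Field k] (R : Type u) [CommRing R] [Algebra k R] (𝒜 : ℤ → Submodule k R) [GradedAlgebra 𝒜] (hposR : ∀ n : ℤ, n < 0 → 𝒜 n = ⊥) (h0R : 𝒜 0 = Submodule.span k {(1 : R)}) [Algebra.FiniteType k R] (S : Type u) [CommRing S] [Algebra k S] (ℬ : ℤ → Submodule k S) [GradedAlgebra ℬ] (hposS : ∀ n : ℤ, n < 0 → ℬ n = ⊥) (h0S : ℬ 0 = Submodule.span k {(1 : S)}) [Algebra.FiniteType k S] (T : Type u) [CommRing T] [Algebra k T] (𝒯 : ℤ → Submodule k T) [GradedAlgebra 𝒯] (ψ : T →ₐ[k] TensorProduct k R S) (hψ : Function.Injective ψ) (hdegT : ∀ n : ℤ, (𝒯 n).map ψ.toLinearMap = Submodule.span k {x : TensorProduct k R S | ∃ a ∈ 𝒜 n, ∃ b ∈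 ℬ n, x = a ⊗ₜ[k] b}) (r s : ℕ) (hr : ringKrullDim R = r) (hs : ringKrullDim S = s) (h1r : 1 ≤ r) (h1s : 1 ≤ s) : ringKrullDim T = ((r + s - 1 : ℕ) : WithBot ℕ∞) := by
  obtain ⟨r, rfl⟩ : ∃ r', r = r' + 1 := ⟨r - 1, by omega⟩
  obtain ⟨s, rfl⟩ : ∃ s', s = s' + 1 := ⟨s - 1, by omega⟩
  have hT : GrSeg.IsSegreRing 𝒜 ℬ 𝒯 ψ := ⟨hψ, hdegT⟩
  have hP := Groth.Agent.CAlg6.Seg.isSegreMod_self hT
  haveI := Algebra.FiniteType.isNoetherianRing k R
  haveI := Algebra.FiniteType.isNoetherianRing k S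
  obtain ⟨DR, hDR, hR⟩ := Groth.Agent.CAlg6.Seg.exists_normalization hposR h0R (⊥ : Ideal R)
    (Ideal.IsHomogeneous.bot _) (r + 1) ((ringKrullDim_eq_of_ringEquiv (RingEquiv.quotientBot R)).trans hr)
  obtain ⟨DS, hDS, hS⟩ := Groth.Agent.CAlg6.Seg.exists_normalization hposS h0S (⊥ : Ideal S)
    (Ideal.IsHomogeneous.bot _) (s + 1) ((ringKrullDim_eq_of_ringEquiv (RingEquiv.quotientBot S)).trans hs)
  obtain ⟨x, hx, hxfin, hxind⟩ := hR (DR * DS) (Nat.mul_pos hDR hDS) (dvd_mul_right _ _)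
  obtain ⟨y, hy, hyfin, hyind⟩ := hS (DR * DS) (Nat.mul_pos hDR hDS) (dvd_mul_left _ _)
  obtain ⟨GM, hGM⟩ := Groth.Agent.CAlg6.Seg.exists_gen (ℳ := 𝒜) hposR x (Nat.mul_pos hDR hDS) hx ⊥ hxfin
    (⊥ : Submodule R R) (fun n z hz => by simp [(Submodule.mem_bot R).1 hz]) (by simp)
  obtain ⟨GN, hGN⟩ := Groth.Agent.CAlg6.Seg.exists_gen (ℳ := ℬ) hposS y (Nat.mul_pos hDR hDS) hy ⊥ hyfin
    (⊥ : Submodule S S) (fun n z hz => by simp [(Submodule.mem_bot S).1 hz]) (by simp)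
  rw [← Module.supportDim_self_eq_ringKrullDim, Groth.Agent.CAlg6.Seg.supportDim_segre hT hP x y
    (Nat.mul_pos hDR hDS) hx hy GM (by simpa using hGM) GN (by simpa using hGN) (n := 0) (m := (1 : R))
    SetLike.GradedOne.one_mem (m' := (1 : S)) SetLike.GradedOne.one_mem
    (fun p hp => hxind p (by simpa using hp)) (fun p hp => hyind p (by simpa using hp))]
  congr 2

end Groth.Agent.S18647
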