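import Groth.Statements.S1865
import Groth.Agent.Grp57.Component

set_option autoImplicit false
universe u v
open CategoryTheory MonoidalCategory CartesianMonoidalCategory MonObj GrpObj AlgebraicGeometry
open GrpSch

namespace Groth.Agent.S1865

/-- A group scheme over a field contains an open and closed subset containing the identity point which
is a countable union of affine opens. (The source does not mention the identity point; its
construction contains it, and without it the empty set would do.) -/
theorem result (K : Type u) [Field K] (G : Over (Spec (CommRingCat.of K))) [GrpObj G] : ∃ U : G.left.Opens, IsClosed (U : Set G.left) ∧ η[G].left (IsLocalRing.closedPoint K) ∈ U ∧ ∃ V : ℕ → G.left.Opens, (∀ n, IsAffineOpen (V n)) ∧ (U : Set G.left) = ⋃ n, (V n : Set G.left) := by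
  obtain ⟨O, hO, hc, he⟩ := Groth.Agent.Grp57.exists_clopen_compact G
  refine ⟨⟨O, hO.isOpen⟩, hO.isClosed, he, ?_⟩
  obtain ⟨s, hs, hU⟩ := (isCompact_iff_finite_and_eq_biUnion_affineOpens (U := (⟨O, hO.isOpen⟩ : G.left.Opens))).mp hc
  obtain ⟨l, rfl⟩ := Set.Finite.exists_finset_coe hs
  refine ⟨fun n => if h : n < l.toList.length then (l.toList[n]).1 else ⊥, fun n => ?_, ?_⟩
  · dsimp only
    split_ifs with hn
    · exact (l.toList[n]).2
    · exact isAffineOpen_bot _
  · ext x
    have hx : x ∈ O ↔ ∃ U ∈ l, x ∈ (U : G.left.Opens) := by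
      have := congrArg (fun W : G.left.Opens => x ∈ W) hU
      simpa using Iff.of_eq this
    show x ∈ O ↔ _
    rw [hx, Set.mem_iUnion]
    constructor
    · rintro ⟨U, hU, hxU⟩
      obtain ⟨n, hn, rfl⟩ := List.getElem_of_mem (Finset.mem_toList.2 hU)
      exact ⟨n, by dsimp only; rw [dif_pos hn]; exact hxU⟩
    · rintro ⟨n, hn⟩
      dsimp only at hn
      by_cases hl : n < l.toList.length
      · rw [dif_pos hl] at hn
        exact ⟨_, Finset.mem_toList.1 (List.getElem_mem hl), hn⟩
      · rw [dif_neg hl] at hn
        exact hn.elim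

end Groth.Agent.S1865
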