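import Groth.Statements.S18650
import Groth.Agent.GrMod19.Gor.Top

set_option autoImplicit false
universe u
open GrLC

namespace Groth.Agent.S18650

/-- The case M = R of the published statement. Let R be a commutative Noetherian ℤ-graded ring which is
H-local, i.e. has a unique maximal graded ideal m, and which is Cohen–Macaulay, with ht m = n. Then
R is a Gorenstein ring if and only if the graded local cohomology module H^n_m(R) is an injective
object of the category of graded R-modules. Here H^n_m(R) is computed from a *injective resolution I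
of R in the graded category, and its *injectivity is expressed as the existence of a *injective
graded R-module X and an R-linear isomorphism H^n_m(R) ≅ X preserving degrees. (The published item
is stated for a Cohen–Macaulay graded module M and the notion of Gorenstein module; this row is its
case M = R.) -/
theorem result (R : Type u) [CommRing R] [LocCoh.IsCohenMacaulayRing R] (𝒜 : ℤ → AddSubgroup R) [GradedRing 𝒜] (m : HomogeneousIdeal 𝒜) (hm : GrLC.IsStarLocal 𝒜 m) (n : ℕ) (hn : m.toIdeal.height = n) (I : GrLC.StarInjRes 𝒜 𝒜) : LocCoh.IsGorensteinRing R ↔ ∃ (X : GrLC.GMod.{u} 𝒜) (φ : I.H m n ≃ₗ[R] X.carrier), GrLC.IsStarInj 𝒜 X.gr ∧ GrLC.IsGrHom (I.Hgr m n) X.gr φ.toLinearMap := by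
  have := GrMod19.Gor.star_isPrime hm
  let : DirectSum.Decomposition (I.Hgr m n) := (GrMod19.isInternal_Hgr I m n).chooseDecomposition
  have : SetLike.GradedSMul 𝒜 (I.Hgr m n) := ⟨fun {i j} a x ha hx => by
    rw [vadd_eq_add, add_comm]; exact GrMod19.smul_mem_Hcomp I m n ha hx⟩
  constructor
  · intro hG
    exact ⟨GrLC.GMod.of 𝒜 (I.H m n) (I.Hgr m n), LinearEquiv.refl R _,
      GrMod19.Gor.isStarInj_of_loc_injective hm (I.Hgr m n)
        (GrMod19.Gor.exists_iso_hull hm hn I).1, fun g x hx => hx⟩
  · rintro ⟨X, φ, hX, -⟩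
    refine GrMod19.Gor.gorenstein_of_star hm ?_
    have hcm := LocCoh.IsCohenMacaulayRing.isCohenMacaulayLocalRing_localization m.toIdeal
    have hdim : ringKrullDim (Localization.AtPrime m.toIdeal) = n := by
      rw [IsLocalization.AtPrime.ringKrullDim_eq_height m.toIdeal (Localization.AtPrime m.toIdeal), hn]
      rfl
    obtain ⟨eL⟩ := GrMod19.nonempty_H_equiv I m n
    have htor : GrLC.gam m.toIdeal X.carrier = ⊤ := Submodule.eq_top_iff'.2 fun x => by
      obtain ⟨k, hk⟩ := LC15.isPowerTorsion_H m.toIdeal n (M := R) (eL (φ.symm x))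
      refine ⟨k, fun a ha => φ.symm.injective (eL.injective ?_)⟩
      rw [map_smul, map_smul, map_zero, map_zero]
      exact hk a ha
    have hinj := GrMod19.Gor.injective_loc_of_ass X.gr hX fun q hq =>
      GrMod19.Gor.ass_of_torsion hm X.gr htor hq
    obtain ⟨eH⟩ := GrMod19.Gor.nonempty_H_localized (m := m) I n
    let eφ : LocalizedModule m.toIdeal.primeCompl (I.H m n) ≃ₗ[Localization.AtPrime m.toIdeal]
        LocalizedModule m.toIdeal.primeCompl X.carrier :=
      LinearEquiv.extendScalarsOfIsLocalization m.toIdeal.primeCompl _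
        (IsLocalizedModule.iso m.toIdeal.primeCompl
          (LocalizedModule.mkLinearMap m.toIdeal.primeCompl X.carrier ∘ₗ φ.toLinearMap))
    refine Gor18.gor_of_H_pattern (fun i hi => ?_)
      (Module.Baer.of_equiv (eφ.symm ≪≫ₗ eH) (Module.Baer.of_injective hinj)).injective
    rcases lt_or_gt_of_ne hi with h | h
    · refine (LC17.natCast_le_idealDepth_iff _ _ n).1 (le_of_eq ?_) i h
      have h2 := LocCoh.IsCohenMacaulayLocalRing.supportDim_eq_depth
        (R := Localization.AtPrime m.toIdeal)
      rw [Module.supportDim_self_eq_ringKrullDim, hdim] at h2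
      exact WithBot.coe_inj.1 h2
    · exact LC15.cdLE_of_ringKrullDim_le _ hdim.le _ i h

end Groth.Agent.S18650
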