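import Groth.Statements.S18654
import Groth.Agent.GrMod19.CMTop
import Mathlib.LinearAlgebra.FreeModule.StrongRankCondition
import Mathlib.Algebra.Polynomial.AlgebraMap

set_option autoImplicit false
universe u
open GrLC

namespace Groth.Agent.S18654

/-- Let R be a graded ring defined over a field k = R_0 which is Cohen–Macaulay and generated over k by
R_1, with dim R ≥ 1, and write H(n, R) = dim_k R_n. Then H(n + 1, R) ≥ H(n, R) for every integer n.
Here 'graded ring defined over a field' means R = ⊕_{n ≥ 0} R_n is Noetherian with R_0 a field, and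
m = R_+ is its unique graded maximal ideal. -/
theorem result (R : Type u) [CommRing R] [LocCoh.IsCohenMacaulayRing R] (𝒜 : ℤ → AddSubgroup R) [GradedRing 𝒜] (hpos : ∀ n : ℤ, n < 0 → 𝒜 n = ⊥) (h0 : IsField (GrLC.deg0 𝒜)) (hstd : Ideal.span (⋃ n ∈ Set.Ioi (0 : ℤ), (𝒜 n : Set R)) = Ideal.span ((𝒜 1 : AddSubgroup R) : Set R)) (h1 : 1 ≤ ringKrullDim R) (n : ℤ) : Module.finrank (GrLC.deg0 𝒜) (GrLC.comp 𝒜 𝒜 n) ≤ Module.finrank (GrLC.deg0 𝒜) (GrLC.comp 𝒜 𝒜 (n + 1)) := by
  classical
  have hp : GrMod19.NonnegGr 𝒜 := fun n hn x hx => by rw [hpos n hn] at hx; simpa using hx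
  let a := GrSyz.irrel 𝒜
  have ha : GrMod19.IsPlus a := GrMod19.isPlus_irrel hp
  have hnt : Nontrivial R := by
    rw [← not_subsingleton_iff_nontrivial]
    intro hs
    rw [ringKrullDim_eq_bot_of_subsingleton] at h1
    simp at h1
  have hstar : ∀ I : HomogeneousIdeal 𝒜, I ≠ ⊤ → I ≤ a := by
    intro I hI x hx
    refine (GrMod19.mem_plus_iff hp ha x).2 ?_
    by_contra hne
    obtain ⟨c, hc⟩ := h0.mul_inv_cancel (a := (⟨GrMod19.cmp 𝒜 0 x, GrMod19.cmp_mem 𝒜 0 x⟩ : GrLC.deg0 𝒜))
      (fun h => hne (congrArg Subtype.val h))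
    refine hI (HomogeneousIdeal.toIdeal_injective ?_)
    rw [HomogeneousIdeal.toIdeal_top, Ideal.eq_top_iff_one, show (1 : R) = GrMod19.cmp 𝒜 0 x * (c : R) from
      (congrArg Subtype.val hc).symm]
    exact I.toIdeal.mul_mem_right _ (I.isHomogeneous 0 hx)
  have hane : a ≠ ⊤ := fun h => by
    have h1' : (1 : R) ∈ a.toIdeal := by rw [h]; exact Submodule.mem_top
    rw [GrMod19.mem_plus_iff hp ha, GrMod19.cmp_of_mem 𝒜 SetLike.GradedOne.one_mem] at h1'
    exact one_ne_zero h1'
  have hm : GrLC.IsStarLocal 𝒜 a := by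
    refine ⟨⟨hane, fun I hI => by_contra fun h => hI.not_ge (hstar I h)⟩, fun I hI => ?_⟩
    by_contra hne
    exact hane (hI.2 a ((hstar I hI.1).lt_of_ne hne))
  have hmax := GrMod19.isMaximal_star hp hm
  obtain ⟨d, hd⟩ : ∃ d : ℕ, ringKrullDim R = d := by
    obtain ⟨d, hd⟩ := ENat.ne_top_iff_exists.1 (Ideal.height_ne_top (I := a.toIdeal) hmax.ne_top)
    refine ⟨d, ?_⟩
    rw [← GrMod19.height_star_eq hp hm, ← hd]
    rfl
  have hd1 : 0 < d := by rw [hd] at h1; exact_mod_cast h1
  have hgam : GrLC.gam a.toIdeal R = ⊥ := by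
    have h := (GrMod19.lc_top hp hm hd).1 0 hd1
    rw [(LC15.H0equiv a.toIdeal R).toEquiv.subsingleton_congr, Submodule.subsingleton_iff_eq_bot] at h
    exact h
  have hfg : (Ideal.span (𝒜 1 : Set R)).FG := IsNoetherian.noetherian _
  obtain ⟨s, hs, hspan⟩ := Submodule.fg_span_iff_fg_span_finset_subset _ |>.1 hfg
  let g : Fin s.toList.length → R := fun j => s.toList.get j
  have hg : ∀ j, g j ∈ 𝒜 1 := fun j => hs (Finset.mem_toList.1 (List.get_mem _ j))
  let x : Polynomial R := ∑ j, Polynomial.C (g j) * Polynomial.X ^ (j : ℕ)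
  have hxreg : x ∈ nonZeroDivisors (Polynomial R) := by
    by_contra hx
    obtain ⟨r, hr0, hr⟩ := Polynomial.notMem_nonZeroDivisors_iff.1 hx
    refine hr0 ?_
    rw [← Submodule.mem_bot R, ← hgam]
    have hrg : ∀ j, r * g j = 0 := fun j => by
      have h := congrArg (fun Q : Polynomial R => Q.coeff (j : ℕ)) hr
      simpa [x, Polynomial.finsetSum_coeff, Polynomial.coeff_C_mul, Polynomial.coeff_X_pow, Fin.val_inj] using h
    refine ⟨1, fun z hz => ?_⟩
    have hle : a.toIdeal ≤ LinearMap.ker (LinearMap.toSpanSingleton R R r) := by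
      rw [ha, hstd]
      refine (le_of_eq hspan).trans (Submodule.span_le.2 fun y hy => ?_)
      obtain ⟨j, rfl⟩ := List.mem_iff_get.1 (Finset.mem_toList.2 hy)
      show g j • r = 0
      rw [smul_eq_mul, mul_comm, hrg]
    rw [pow_one] at hz
    exact hle hz
  letI := h0.toField
  let K := GrLC.deg0 𝒜
  have hfin : ∀ k, Module.Finite (GrLC.deg0 𝒜) (GrLC.comp 𝒜 𝒜 k) := fun k => GrMod19.finite_ring_comp hp ha k
  let e := Module.finBasis (GrLC.deg0 𝒜) (GrLC.comp 𝒜 𝒜 n)
  let e' := Module.finBasis (GrLC.deg0 𝒜) (GrLC.comp 𝒜 𝒜 (n + 1))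
  let y : Fin s.toList.length → Fin (Module.finrank (GrLC.deg0 𝒜) (GrLC.comp 𝒜 𝒜 n)) → GrLC.comp 𝒜 𝒜 (n + 1) :=
    fun j i => ⟨g j * (e i : R), by
      have := SetLike.GradedMul.mul_mem (hg j) (show (e i : R) ∈ 𝒜 n from (e i).2)
      rwa [add_comm] at this⟩
  let A : Matrix (Fin (Module.finrank (GrLC.deg0 𝒜) (GrLC.comp 𝒜 𝒜 (n + 1))))
      (Fin (Module.finrank (GrLC.deg0 𝒜) (GrLC.comp 𝒜 𝒜 n))) (Polynomial (GrLC.deg0 𝒜)) :=
    fun j' i => ∑ j, Polynomial.C (e'.repr (y j i) j') * Polynomial.X ^ (j : ℕ)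
  let ιP : Polynomial (GrLC.deg0 𝒜) →+* Polynomial R := Polynomial.mapRingHom (GrLC.deg0 𝒜).subtype
  have hinj : Function.Injective (Matrix.mulVecLin A) := by
    rw [injective_iff_map_eq_zero]
    intro v hv
    have hsum : x * (∑ i, ιP (v i) * Polynomial.C (e i : R)) = 0 := by
      calc x * (∑ i, ιP (v i) * Polynomial.C (e i : R))
          = ∑ i, ιP (v i) * ∑ j', ιP (A j' i) * Polynomial.C (e' j' : R) := by
            rw [Finset.mul_sum]
            refine Finset.sum_congr rfl fun i _ => ?_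
            rw [mul_left_comm]
            congr 1
            simp only [x, A, Finset.sum_mul, map_sum]
            rw [Finset.sum_comm]
            refine Finset.sum_congr rfl fun j _ => ?_
            have h := congrArg Subtype.val (e'.sum_repr (y j i))
            rw [AddSubmonoidClass.coe_finsetSum] at h
            rw [mul_right_comm, ← Polynomial.C_mul, show g j * (e i : R) = (y j i : R) from rfl, ← h, map_sum,
              Finset.sum_mul]
            refine Finset.sum_congr rfl fun j' _ => ?_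
            rw [map_mul, map_pow, show ιP (Polynomial.C (e'.repr (y j i) j')) = Polynomial.C ((e'.repr (y j i) j' : GrLC.deg0 𝒜) : R)
              from Polynomial.map_C _, show ιP Polynomial.X = Polynomial.X from Polynomial.map_X _,
              Submodule.coe_smul, Subring.smul_def, smul_eq_mul, Polynomial.C_mul]
            ring
        _ = ∑ j', ιP (Matrix.mulVecLin A v j') * Polynomial.C (e' j' : R) := by
            simp only [Matrix.mulVecLin_apply, Matrix.mulVec, dotProduct, map_sum, map_mul, Finset.sum_mul, Finset.mul_sum]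
            rw [Finset.sum_comm]
            exact Finset.sum_congr rfl fun j' _ => Finset.sum_congr rfl fun i _ => by ring
        _ = 0 := by simp [hv]
    have hz := (mul_right_mem_nonZeroDivisors_eq_zero_iff hxreg).1 (by rwa [mul_comm] at hsum)
    funext i
    refine Polynomial.ext fun k => ?_
    have hk := congrArg (fun Q : Polynomial R => Q.coeff k) hz
    simp only [Polynomial.finsetSum_coeff, Polynomial.coeff_mul_C, Polynomial.coeff_zero] at hk
    have hlin : ∑ i, (v i).coeff k • e i = 0 := Subtype.ext (by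
      rw [AddSubmonoidClass.coe_finsetSum]
      simpa [ιP, Subring.smul_def] using hk)
    exact (Fintype.linearIndependent_iff.1 e.linearIndependent _ hlin) i
  simpa using card_le_of_injective (Polynomial (GrLC.deg0 𝒜)) (Matrix.mulVecLin A) hinj

end Groth.Agent.S18654
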