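import Groth.Statements.S18657
import Groth.Agent.GrMod19.Ver.Descend
import Groth.Agent.GrMod19.Gor.Pairing
import Groth.Agent.GrMod19.Reg
import Mathlib.LinearAlgebra.Dimension.FreeAndStrongRankCondition

set_option autoImplicit false
universe u
open GrLC

namespace Groth.Agent.S18657

/-- Let R be a graded ring defined over a field k = R_0 which is Cohen–Macaulay and generated over k by
R_1, of dimension r ≥ 2, with canonical module K_R and a-invariant a(R). Then dim_k (K_R)_n ≥ 2 for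
every n > −a(R). Here 'graded ring defined over a field' means R = ⊕_{n ≥ 0} R_n is Noetherian with
R_0 a field (so R is finitely generated over R_0), m = R_+ is its unique graded maximal ideal and n
= dim R; the canonical module K_R (the graded dual of H^n_m(R)) is represented by a finitely
generated graded module C together with a homogeneous isomorphism from Hom_R(C, E) onto H^n_m(R),
where E is a *injective envelope of R/m and H^n_m(R) is computed from a *injective resolution of R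
in the graded category; by graded Matlis duality this says exactly that C ≅ K_R as graded modules.
The a-invariant a(R) is the largest degree in which the graded local cohomology H^n_m(R) (n = dim R,
m = R_+), computed from a *injective resolution of R in the graded category, is nonzero. -/
theorem result (R : Type u) [CommRing R] [LocCoh.IsCohenMacaulayRing R] (𝒜 : ℤ → AddSubgroup R) [GradedRing 𝒜] (hpos : ∀ n : ℤ, n < 0 → 𝒜 n = ⊥) (h0 : IsField (GrLC.deg0 𝒜)) (m : HomogeneousIdeal 𝒜) (hm : GrLC.IsStarLocal 𝒜 m) (hmsp : m.toIdeal = Ideal.span (⋃ n ∈ Set.Ioi (0 : ℤ), (𝒜 n : Set R))) (hstd : Ideal.span (⋃ n ∈ Set.Ioi (0 : ℤ), (𝒜 n : Set R)) = Ideal.span ((𝒜 1 : AddSubgroup R) : Set R)) (n : ℕ) (hn : ringKrullDim R = n) (h2 : 2 ≤ n) (I : GrLC.StarInjRes 𝒜 𝒜) (a : ℤ) (ha : GrLC.endDeg (I.Hgr m n) = ((a : WithTop ℤ) : WithBot (WithTop ℤ))) (E' : Type u) [AddCommGroup E'] [Module R E'] (𝓔 : ℤ → AddSubgroup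 E') [DirectSum.Decomposition 𝓔] [SetLike.GradedSMul 𝒜 𝓔] (e : (R ⧸ m.toIdeal) →ₗ[R] E') (he : GrLC.IsStarInjHull 𝒜 (GrLC.quotGr 𝒜 m) 𝓔 e) (C : Type u) [AddCommGroup C] [Module R C] (𝒞 : ℤ → AddSubgroup C) [DirectSum.Decomposition 𝒞] [SetLike.GradedSMul 𝒜 𝒞] (hC : GrLC.IsStarCanonical 𝒜 𝒞 𝓔 m n I) (j : ℤ) (hj : -a < j) : 2 ≤ Module.finrank (GrLC.deg0 𝒜) (GrLC.comp 𝒜 𝒞 j) := by
  classical
  have hpn : GrMod19.NonnegGr 𝒜 := fun k hk x hx => AddSubgroup.mem_bot.1 (hpos k hk ▸ hx)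
  have hCfin := hC.1
  obtain ⟨β, hβ⟩ := GrMod19.Pairing.exists_perfect hpos h0 hm hmsp he 𝒞 hC
  obtain ⟨x, y, N, N', hN, hN', -, -, hx, hy, -, -, hxs, hys⟩ :=
    GrMod19.Gor.exists_surjective_pair hpn hm hmsp hn h2 I (q := 1) one_pos
  have hsum : ∀ d, a < d → ∀ h ∈ I.Hcomp m n d, h = 0 := fun d hd h hh => by
    have h1 := ((GrMod19.endDeg_le_iff (I.Hgr m n) a).1 ha.le) d hd
    exact (AddSubgroup.eq_bot_iff_forall _).1 h1 h hh
  obtain ⟨h, hh, hne⟩ : ∃ h ∈ I.Hcomp m n a, h ≠ 0 := by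
    by_contra hall
    push Not at hall
    have h1 : GrLC.endDeg (I.Hgr m n) ≤ (((a - 1 : ℤ) : WithTop ℤ) : WithBot (WithTop ℤ)) := by
      refine (GrMod19.endDeg_le_iff _ _).2 fun d hd => ?_
      rcases eq_or_lt_of_le (show a ≤ d by omega) with rfl | hlt
      · exact (AddSubgroup.eq_bot_iff_forall _).2 hall
      · exact (AddSubgroup.eq_bot_iff_forall _).2 (hsum d hlt)
    rw [ha, WithBot.coe_le_coe, WithTop.coe_le_coe] at h1
    omega
  obtain ⟨w, hw, hβw⟩ : ∃ w ∈ 𝒞 (-a), β h w ≠ 0 := by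
    by_contra hall
    push Not at hall
    exact hne (hβ.unique a h hh hall)
  let : Field (GrLC.deg0 𝒜) := h0.toField
  have hxinj : ∀ (i : ℤ), ∀ c ∈ 𝒞 i, x • c = 0 → c = 0 := fun i c hc hxc => by
    by_contra hcne
    let k' := GrLC.comp 𝒜 𝒞 (-(-i))
    have hc' : c ∈ 𝒞 (-(-i)) := by rwa [neg_neg]
    obtain ⟨F, hF⟩ : ∃ F : k' →ₗ[GrLC.deg0 𝒜] GrLC.deg0 𝒜, F ⟨c, hc'⟩ ≠ 0 :=
      not_forall.1 fun hall => hcne (congrArg Subtype.val
        ((Module.forall_dual_apply_eq_zero_iff _ (⟨c, hc'⟩ : k')).1 hall))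
    obtain ⟨g, -, hgF⟩ := hβ.onto (-i) F
    obtain ⟨g', rfl⟩ := hxs g
    exact hF (by rw [← hgF ⟨c, hc'⟩, hβ.balanced, hxc, map_zero])
  have hxl : ∀ l : ℕ, x ^ l • w ∈ 𝒞 ((l : ℤ) * N + -a) := fun l => by
    have h1 := SetLike.pow_mem_graded (A := 𝒜) l hx
    rw [nsmul_eq_mul] at h1
    exact GrMod19.smul_mem_add 𝒜 𝒞 h1 hw
  have hxl0 : ∀ l : ℕ, x ^ l • w ≠ 0 := by
    intro l
    induction l with
    | zero => rw [pow_zero, one_smul]; exact fun h1 => hβw (by rw [h1, map_zero])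
    | succ l ih => rw [pow_succ', mul_smul]; exact fun h1 => ih (hxinj _ _ (hxl l) h1)
  obtain ⟨t, ht⟩ : ∃ t : ℕ, (t : ℤ) = j + a := ⟨(j + a).toNat, Int.toNat_of_nonneg (by omega)⟩
  have : Module.Finite (GrLC.deg0 𝒜) (GrLC.comp 𝒜 𝒞 j) := GrMod19.finite_comp hpn hmsp 𝒞 j
  by_contra hlt
  obtain ⟨⟨z, hz⟩, hgen⟩ := (finrank_le_one_iff (K := GrLC.deg0 𝒜) (V := GrLC.comp 𝒜 𝒞 j)).1 (by omega)
  have hline : ∀ v ∈ 𝒜 (t : ℤ), ∃ c ∈ 𝒜 0, c • z = v • w := fun v hv => by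
    obtain ⟨c, hc⟩ := hgen ⟨v • w, by
      have h1 := GrMod19.smul_mem_add 𝒜 𝒞 hv hw
      rwa [ht, add_neg_cancel_right] at h1⟩
    exact ⟨(c : R), c.2, congrArg Subtype.val hc⟩
  obtain ⟨u, hu, hu0⟩ : ∃ u ∈ 𝒜 (t : ℤ), u • w ≠ 0 := by
    by_contra hall
    push Not at hall
    refine hxl0 t (GrMod19.Vero.smul_eq_zero_of_piece hstd (N := (t : ℤ) * N) (Int.natCast_nonneg t) ?_ hall
      (by rw [← nsmul_eq_mul]; exact SetLike.pow_mem_graded (A := 𝒜) t hx))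
    exact le_mul_of_one_le_right (Int.natCast_nonneg t) hN
  have hlineu : ∀ v ∈ 𝒜 (t : ℤ), ∃ c ∈ 𝒜 0, c • (u • w) = v • w := fun v hv => by
    obtain ⟨cu, hcu, hcuw⟩ := hline u hu
    have hne0 : (⟨cu, hcu⟩ : GrLC.deg0 𝒜) ≠ 0 := fun h1 =>
      hu0 (by rw [← hcuw, show cu = 0 from congrArg Subtype.val h1, zero_smul])
    obtain ⟨⟨ci, hci⟩, hcc⟩ := h0.mul_inv_cancel hne0
    obtain ⟨cv, hcv, hcvw⟩ := hline v hv
    refine ⟨cv * ci, by have h1 := SetLike.GradedMul.mul_mem hcv hci; rwa [add_zero] at h1, ?_⟩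
    rw [← hcuw, ← hcvw, smul_smul, mul_assoc, show ci * cu = 1 by
      rw [mul_comm]; exact congrArg Subtype.val hcc, mul_one]
  have hpow : ∀ (l : ℕ), ∀ v ∈ 𝒜 ((l : ℤ) * t), ∃ c ∈ 𝒜 0, c • (u ^ l • w) = v • w := by
    intro l
    induction l with
    | zero => exact fun v hv => ⟨v, by simpa using hv, by simp⟩
    | succ l ih =>
      intro v hv
      rw [show ((l + 1 : ℕ) : ℤ) * t = (t : ℤ) + l * t by push_cast; ring] at hv
      have hcl := GrMod19.mem_closure_mul hstd t ((l : ℤ) * t) (by positivity) v hv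
      clear hv
      induction hcl using AddSubgroup.closure_induction with
      | mem s hs =>
        obtain ⟨v₁, hv₁, v₂, hv₂, rfl⟩ := hs
        obtain ⟨c₁, hc₁, h₁⟩ := hlineu v₁ hv₁
        obtain ⟨c₂, hc₂, h₂⟩ := ih v₂ hv₂
        refine ⟨c₁ * c₂, by have h3 := SetLike.GradedMul.mul_mem hc₁ hc₂; rwa [add_zero] at h3, ?_⟩
        calc (c₁ * c₂) • (u ^ (l + 1) • w) = (c₂ * u ^ l) • c₁ • u • w := by
              rw [smul_smul, smul_smul, smul_smul]; congr 1; ring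
          _ = v₁ • c₂ • (u ^ l • w) := by rw [h₁, smul_smul, smul_smul, smul_smul]; congr 1; ring
          _ = (v₁ * v₂) • w := by rw [h₂, smul_smul]
      | zero => exact ⟨0, zero_mem _, by simp⟩
      | add p p' _ _ hp hp' =>
        obtain ⟨c₁, hc₁, h₁⟩ := hp
        obtain ⟨c₂, hc₂, h₂⟩ := hp'
        exact ⟨c₁ + c₂, add_mem hc₁ hc₂, by rw [add_smul, h₁, h₂, add_smul]⟩
      | neg p _ hp =>
        obtain ⟨c₁, hc₁, h₁⟩ := hp
        exact ⟨-c₁, neg_mem hc₁, by rw [neg_smul, h₁, neg_smul]⟩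
  obtain ⟨M, hM⟩ : ∃ M : ℕ, (M : ℤ) = N := ⟨N.toNat, Int.toNat_of_nonneg hN.le⟩
  obtain ⟨M', hM'⟩ : ∃ M' : ℕ, (M' : ℤ) = N' := ⟨N'.toNat, Int.toNat_of_nonneg hN'.le⟩
  have hxp : x ^ (t * M') ∈ 𝒜 (((M * M' : ℕ) : ℤ) * t) := by
    have h1 := SetLike.pow_mem_graded (A := 𝒜) (t * M') hx
    rwa [nsmul_eq_mul, ← hM, show ((t * M' : ℕ) : ℤ) * (M : ℤ) = ((M * M' : ℕ) : ℤ) * t by
      push_cast; ring] at h1
  have hyp : y ^ (t * M) ∈ 𝒜 (((M * M' : ℕ) : ℤ) * t) := by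
    have h1 := SetLike.pow_mem_graded (A := 𝒜) (t * M) hy
    rwa [nsmul_eq_mul, ← hM', show ((t * M : ℕ) : ℤ) * (M' : ℤ) = ((M * M' : ℕ) : ℤ) * t by
      push_cast; ring] at h1
  obtain ⟨cx, hcx, hcxw⟩ := hpow _ _ hxp
  obtain ⟨cy, hcy, hcyw⟩ := hpow _ _ hyp
  have hne0 : (⟨cx, hcx⟩ : GrLC.deg0 𝒜) ≠ 0 := fun h1 =>
    hxl0 (t * M') (by rw [← hcxw, show cx = 0 from congrArg Subtype.val h1, zero_smul])
  obtain ⟨⟨ci, hci⟩, hcc⟩ := h0.mul_inv_cancel hne0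
  have hxy : y ^ (t * M) • w = (cy * ci) • x ^ (t * M') • w := by
    rw [← hcxw, ← hcyw, smul_smul _ _ (u ^ (M * M') • w), mul_assoc, show ci * cx = 1 by
      rw [mul_comm]; exact congrArg Subtype.val hcc, mul_one]
  have hiter : ∀ l : ℕ, ∃ g, x • g = 0 ∧ y ^ l • g = h := by
    intro l
    induction l with
    | zero => exact ⟨h, hsum (N + a) (by omega) _ (add_comm a N ▸
        GrMod19.smul_mem_Hcomp I m n hx hh), by rw [pow_zero, one_smul]⟩
    | succ l ih =>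
      obtain ⟨g, hg, hgl⟩ := ih
      obtain ⟨g', hg', hgg⟩ := hys g hg
      exact ⟨g', hg', by rw [pow_succ, mul_smul, hgg, hgl]⟩
  obtain ⟨g, hg, hgh⟩ := hiter (t * M)
  obtain ⟨l, hl⟩ : ∃ l, t * M' = l + 1 := ⟨t * M' - 1, by
    have : 1 ≤ t * M' := Nat.one_le_iff_ne_zero.2 (Nat.mul_ne_zero (by omega) (by omega))
    omega⟩
  refine hβw ?_
  rw [← hgh, hβ.balanced, hxy, smul_smul, ← hβ.balanced, hl, pow_succ, ← mul_assoc, mul_smul, hg,
    smul_zero, map_zero, AddMonoidHom.zero_apply]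

end Groth.Agent.S18657
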