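import Groth.Statements.S18664
import Groth.Agent.GrSeg54.Std

set_option autoImplicit false
universe u
open scoped TensorProduct
open GrSegre

namespace Groth.Agent.S18664

/-- Let R and S be standard graded rings defined over a field k which are Cohen–Macaulay, with dim R = 1
and dim S ≥ 2. Then the Segre product T = R # S is a Cohen–Macaulay ring if and only if R is a
polynomial ring over k (in one variable). Here a graded ring defined over k is a commutative
k-algebra of finite type, graded in nonnegative degrees by k-subspaces with degree-zero part k·1,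
standard graded when its irrelevant ideal is generated by the degree-one piece; the Segre product T
= ⊕_n R_n ⊗_k S_n is presented abstractly as a graded k-algebra T with an injective k-algebra
homomorphism ψ : T → R ⊗_k S carrying T_n onto the k-span of the elementary tensors a ⊗ b with a ∈
R_n, b ∈ S_n. -/
theorem result (k : Type u) [Field k] (R : Type u) [CommRing R] [Algebra k R] (𝒜 : ℤ → Submodule k R) [GradedAlgebra 𝒜] (hposR : ∀ n : ℤ, n < 0 → 𝒜 n = ⊥) (h0R : 𝒜 0 = Submodule.span k {(1 : R)}) [Algebra.FiniteType k R] (S : Type u) [CommRing S] [Algebra k S] (ℬ : ℤ → Submodule k S) [GradedAlgebra ℬ] (hposS : ∀ n : ℤ, n < 0 → ℬ n = ⊥) (h0S : ℬ 0 = Submodule.span k {(1 : S)}) [Algebra.FiniteType k S] (T : Type u) [CommRing T] [Algebra k T] (𝒯 : ℤ → Submodule k T) [GradedAlgebra 𝒯] (ψ : T →ₐ[k] TensorProduct k R S) (hψ : Function.Injective ψ) (hdegT : ∀ n : ℤ, (𝒯 n).map ψ.toLinearMap = Submodule.span k {x : TensorProduct k R S | ∃ a ∈ 𝒜 n, ∃ b ∈ ℬ n, x = a ⊗ₜ[k] b}) [LocCoh.IsCohenMacaulayRing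 R] [LocCoh.IsCohenMacaulayRing S] (hstdR : Ideal.span (⋃ n ∈ Set.Ioi (0 : ℤ), (𝒜 n : Set R)) = Ideal.span ((𝒜 1 : Submodule k R) : Set R)) (hstdS : Ideal.span (⋃ n ∈ Set.Ioi (0 : ℤ), (ℬ n : Set S)) = Ideal.span ((ℬ 1 : Submodule k S) : Set S)) (hr : ringKrullDim R = 1) (hs : 2 ≤ ringKrullDim S) : LocCoh.IsCohenMacaulayRing T ↔ Nonempty (R ≃ₐ[k] Polynomial k) := by
  obtain ⟨s, hs'⟩ : ∃ s : ℕ, ringKrullDim S = s := by
    obtain ⟨n, f, hf⟩ := Algebra.FiniteType.iff_quotient_mvPolynomial''.1 (inferInstance : Algebra.FiniteType k S)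
    have hle := ringKrullDim_le_of_surjective f.toRingHom hf
    rw [MvPolynomial.ringKrullDim_of_isNoetherianRing, ringKrullDim_eq_zero_of_field, zero_add, Nat.card_fin] at hle
    generalize ringKrullDim S = d at hs hle ⊢
    induction d with
    | bot => exact absurd hs (by norm_num)
    | coe d =>
      induction d with
      | top => exact absurd (WithBot.coe_le_coe.1 hle) (by simp)
      | coe m => exact ⟨m, rfl⟩
  rw [hs'] at hs
  have h2 : 2 ≤ s := by exact_mod_cast hs
  haveI := GrSeg54.nontrivial_of_dim (R := R) (r := 1) (by exact_mod_cast hr)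
  obtain ⟨I⟩ := GrInj18.nonempty_starInjRes 𝒜 𝒜
  obtain ⟨I', hI⟩ := GrSeg54.exists_resN I
  let mR : HomogeneousIdeal 𝒜 := GrSeg54.plusH 𝒜
  have hiff := (GrSeg54.cmRing_one hposR h0R hposS h0S (mR := mR) rfl ⟨hψ, hdegT⟩ (by exact_mod_cast hr) hs'
    (by omega) I).1 h2
  letI := GrSeg54.gradedRingN (𝒜 := 𝒜)
  rw [← GrSeg54.endDeg_neg_iff_polynomial hposR h0R hstdR (by exact_mod_cast hr) I', hiff,
    ← GrSeg54.forall_or_bot_iff hposS h0S hstdS hs' (by omega) (I'.Hgr (GrSeg54.plusN 𝒜) 1)
      (fun n => I.Hcomp mR 1 n = ⊥) (fun n => hI mR rfl 1 n)]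
  exact forall_congr' fun n => or_comm

end Groth.Agent.S18664
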