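import Groth.Statements.S18694
import Groth.Agent.RedPts82.Points
import Mathlib.AlgebraicGeometry.Morphisms.ClosedImmersion
import Mathlib.AlgebraicGeometry.PullbackCarrier
import Mathlib.RingTheory.Ideal.Quotient.Operations
import Mathlib.RingTheory.Spectrum.Prime.Topology

set_option autoImplicit false
open CategoryTheory MonoidalCategory CartesianMonoidalCategory MonObj GrpObj AlgebraicGeometry
universe u
open MultTori

namespace Groth.Agent.S18694

/-- In the case of the quasitrivial torus R_{B/A}(G_m), let A be a semilocal ring (finitely many maximal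
ideals m, residue fields κ_m = A/m), B a finite étale A-algebra, and (P, q) a Weil restriction along
Spec B → Spec A of the multiplicative group over B (P an A-scheme with q : P ×_A B → G_{m,B}
universal). Then the reduction map P(A) → ∏_m P(κ_m) is surjective: every family (u_m) of κ_m-points
of P over the closed points of Spec A is the family of restrictions of one section of P over A. (The
source states this for every invertible A-torus and reduces it to this case; the
invertible/quasitrivial notions are not available here, so only this case is stated.) -/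
theorem result
    (A : Type u) [CommRing A] [Finite (MaximalSpectrum A)]
    (B : Type u) [CommRing B] [Algebra A B] [Module.Finite A B] [Algebra.Etale A B]
    (P : Over (Spec (CommRingCat.of A))) (q : Red.bc (Spec.map (CommRingCat.ofHom (algebraMap A B))) P ⟶ Red.Gm (Spec (CommRingCat.of B)))
    (hP : WeilRes.IsWeilRes (Spec.map (CommRingCat.ofHom (algebraMap A B))) (Red.Gm (Spec (CommRingCat.of B))) P q)
    (u : ∀ m : MaximalSpectrum A, Spec (CommRingCat.of (A ⧸ m.asIdeal)) ⟶ P.left)
    (hu : ∀ m : MaximalSpectrum A, u m ≫ P.hom = (Spec.map (CommRingCat.ofHom (Ideal.Quotient.mk m.asIdeal)))) :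
    ∃ s : Spec (CommRingCat.of A) ⟶ P.left, s ≫ P.hom = 𝟙 (Spec (CommRingCat.of A)) ∧
      ∀ m : MaximalSpectrum A, (Spec.map (CommRingCat.ofHom (Ideal.Quotient.mk m.asIdeal))) ≫ s = u m := by
  classical
  letI hfld : ∀ m : MaximalSpectrum A, Field (A ⧸ m.asIdeal) := fun m => Ideal.Quotient.field _
  let f := Spec.map (CommRingCat.ofHom (algebraMap A B))
  let Tm : MaximalSpectrum A → Over (Spec (CommRingCat.of A)) :=
    fun m => Over.mk (Spec.map (CommRingCat.ofHom (Ideal.Quotient.mk m.asIdeal)))
  let um : ∀ m, Tm m ⟶ P := fun m => Over.homMk (u m) (hu m)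
  let j : ∀ m, (Red.bc f (Tm m)).left ⟶ Spec (CommRingCat.of B) := fun m =>
    Limits.pullback.snd (Tm m).hom f
  have hj : ∀ m, IsClosedImmersion (j m) := fun m => by
    have h : IsClosedImmersion (Tm m).hom :=
      IsClosedImmersion.spec_of_surjective _ Ideal.Quotient.mk_surjective
    exact MorphismProperty.pullback_snd (P := @IsClosedImmersion) _ _ h
  choose I e he using fun m => IsClosedImmersion.Spec_iff.mp (hj m)
  let c : ∀ m, Γ((Red.bc f (Tm m)).left, ⊤) := fun m => Red.gmFn (WeilRes.restr f q (Tm m) (um m))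
  let x : ∀ m, B ⧸ I m := fun m =>
    (Scheme.ΓSpecIso (CommRingCat.of (B ⧸ I m))).hom.hom ((e m).inv.appTop.hom (c m))
  -- a prime in two of the loci
  have hloc : ∀ m (n : PrimeSpectrum B), I m ≤ n.asIdeal →
      f n = (Tm m).hom (IsLocalRing.closedPoint (A ⧸ m.asIdeal)) := by
    intro m n hn
    obtain ⟨z, hz⟩ : n ∈ Set.range (j m) := by
      obtain ⟨w, hw⟩ : n ∈ Set.range (PrimeSpectrum.comap (Ideal.Quotient.mk (I m))) := by
        rw [range_comap_of_surjective _ _ Ideal.Quotient.mk_surjective,
          Ideal.mk_ker]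
        exact hn
      refine ⟨(e m).inv w, ?_⟩
      rw [he m, ← Scheme.Hom.comp_apply, Iso.inv_hom_id_assoc]
      exact hw
    rw [← hz, ← Scheme.Hom.comp_apply]
    show (Limits.pullback.snd (Tm m).hom f ≫ f) z = _
    rw [← Limits.pullback.condition, Scheme.Hom.comp_apply]
    congr 1
    exact Subsingleton.elim (α := PrimeSpectrum (A ⧸ m.asIdeal)) _ _
  have hmax : ∀ m : MaximalSpectrum A, ((Tm m).hom (IsLocalRing.closedPoint (A ⧸ m.asIdeal)) :
      PrimeSpectrum A).asIdeal = m.asIdeal := by
    intro m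
    show ((IsLocalRing.closedPoint (A ⧸ m.asIdeal)).asIdeal).comap (Ideal.Quotient.mk m.asIdeal) = _
    refine le_antisymm (fun a ha => ?_) (fun a ha => ?_)
    · refine (Ideal.Quotient.eq_zero_iff_mem).mp ?_
      by_contra hne
      exact (Ideal.mem_comap.mp ha) (isUnit_iff_ne_zero.mpr hne)
    · refine Ideal.mem_comap.mpr ?_
      rw [Ideal.Quotient.eq_zero_iff_mem.mpr ha]
      exact Ideal.zero_mem _
  have hcop : Pairwise (Function.onFun IsCoprime I) := by
    intro m m' hne
    rw [Function.onFun, Ideal.isCoprime_iff_sup_eq]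
    by_contra htop
    obtain ⟨n, hn, hle⟩ := Ideal.exists_le_maximal _ htop
    apply hne
    have h1 := hloc m ⟨n, hn.isPrime⟩ (le_sup_left.trans hle)
    have h2 := hloc m' ⟨n, hn.isPrime⟩ (le_sup_right.trans hle)
    rw [h1] at h2
    exact MaximalSpectrum.ext ((hmax m).symm.trans ((congrArg PrimeSpectrum.asIdeal h2).trans (hmax m')))
  obtain ⟨b, hb⟩ := Ideal.exists_forall_sub_mem_ideal hcop
    (fun m => Quotient.out (x m))
  have hbx : ∀ m, Ideal.Quotient.mk (I m) b = x m := by
    intro m
    rw [← Ideal.Quotient.eq.mpr (hb m) |>.symm]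
    exact Quotient.out_eq (x m)
  have hunit : IsUnit b := by
    by_contra hnu
    obtain ⟨n, hn, hbn⟩ := exists_max_ideal_of_mem_nonunits hnu
    let y : PrimeSpectrum B := ⟨n, hn.isPrime⟩
    have hyc : (f y : PrimeSpectrum A).asIdeal.IsMaximal := by
      show (n.comap (algebraMap A B)).IsMaximal
      exact Ideal.isMaximal_comap_of_isIntegral_of_isMaximal n
    let m : MaximalSpectrum A := ⟨_, hyc⟩
    have hfy : (Tm m).hom (IsLocalRing.closedPoint (A ⧸ m.asIdeal)) = f y :=
      PrimeSpectrum.ext (hmax m)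
    obtain ⟨z, -, hz⟩ := Scheme.Pullback.exists_preimage_pullback (f := (Tm m).hom) (g := f)
      (IsLocalRing.closedPoint (A ⧸ m.asIdeal)) y hfy
    have hIy : I m ≤ n := by
      intro a ha
      have : (j m) z = y := hz
      rw [he m, Scheme.Hom.comp_apply] at this
      have h2 := congrArg PrimeSpectrum.asIdeal this
      show a ∈ y.asIdeal
      rw [← h2]
      refine Ideal.mem_comap.mpr ?_
      show Ideal.Quotient.mk (I m) a ∈ _
      rw [Ideal.Quotient.eq_zero_iff_mem.mpr ha]
      exact Ideal.zero_mem _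
    have hxu : IsUnit (Ideal.Quotient.mk (I m) b) := by
      rw [hbx]
      exact ((RedPts82.gmFn_isUnit _).map _).map _
    obtain ⟨w, hw⟩ := hxu.exists_right_inv
    obtain ⟨w, rfl⟩ := Ideal.Quotient.mk_surjective w
    rw [← map_mul, ← map_one (Ideal.Quotient.mk (I m)), Ideal.Quotient.eq] at hw
    refine hn.ne_top ((Ideal.eq_top_iff_one _).mpr ?_)
    have := n.sub_mem (n.mul_mem_right w hbn) (hIy hw)
    simpa using this
  -- the section
  let T0 : Over (Spec (CommRingCat.of A)) := 𝟙_ _
  obtain ⟨v, hv⟩ := RedPts82.gmFn_surjective (S := Spec (CommRingCat.of B)) (X := Red.bc f T0)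
    (a := (Red.bc f T0).hom.appTop.hom ((Scheme.ΓSpecIso (CommRingCat.of B)).inv.hom b))
    ((hunit.map _).map _)
  obtain ⟨s, hs⟩ := (hP T0).2 v
  refine ⟨s.left, Over.w s, fun m => ?_⟩
  let t : Tm m ⟶ T0 := Over.homMk (Tm m).hom (by simp [T0])
  have key : t ≫ s = um m := by
    apply (hP (Tm m)).1
    rw [WeilRes.restr_comp, hs]
    apply RedPts82.gmFn_injective
    rw [RedPts82.gmFn_comp, hv, ← CategoryTheory.comp_apply, ← Scheme.Hom.comp_appTop,
      Over.w ((Over.pullback f).map t)]
    show (j m).appTop.hom _ = c m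
    have hnat : (Spec.map (CommRingCat.ofHom (Ideal.Quotient.mk (I m)))).appTop.hom
        ((Scheme.ΓSpecIso (CommRingCat.of B)).inv.hom b) =
        (Scheme.ΓSpecIso (CommRingCat.of (B ⧸ I m))).inv.hom (Ideal.Quotient.mk (I m) b) :=
      (congrArg (fun φ => φ.hom b)
        (Scheme.ΓSpecIso_inv_naturality (CommRingCat.ofHom (Ideal.Quotient.mk (I m))))).symm
    rw [he m, Scheme.Hom.comp_appTop]
    refine Eq.trans (congrArg (e m).hom.appTop.hom (hnat.trans (congrArg _ (hbx m)))) ?_
    simp only [x]
    rw [← CommRingCat.comp_apply (Scheme.ΓSpecIso _).hom, Iso.hom_inv_id, CommRingCat.id_apply,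
      ← CommRingCat.comp_apply, ← Scheme.Hom.comp_appTop, Iso.hom_inv_id]
    rfl
  exact congrArg CommaMorphism.left key

end Groth.Agent.S18694
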