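import Groth.Statements.S18696
import Groth.Agent.MultTori56.Retract
import Groth.Agent.Hopf35.RetrGeom

set_option autoImplicit false
open CategoryTheory MonoidalCategory CartesianMonoidalCategory MonObj GrpObj AlgebraicGeometry
universe u
open MultTori

namespace Groth.Agent.S18696

/-- (v) ⇒ (viii): let k be a field and T an isotrivial k-torus (isomorphic to a split torus of some rank
after one finite étale surjective base change). If for every discrete valuation ring A containing k
(a k-algebra), with residue field κ, the reduction map T(A) → T(κ) is surjective, then T is retract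
rational over k: there are a nonempty open subscheme U of T, an open subscheme Y of an affine space
over k and k-morphisms U → Y → U whose composite is the identity of U. -/
theorem result
    (k : Type u) [Field k] (T : Over (Spec (CommRingCat.of k))) [GrpObj T]
    (hT : ∃ r : ℕ, TwC.Locally (Spec (CommRingCat.of k)) .finiteEtale
        (fun S' g => Red.IsSplitTorusWith (Fin r → ℤ) (Red.bc g T)))
    (h : ∀ (A : Type u) [CommRing A] [IsDomain A] [IsDiscreteValuationRing A] [Algebra k A]
        (u : Spec (CommRingCat.of (IsLocalRing.ResidueField A)) ⟶ T.left),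
        u ≫ T.hom = Spec.map (CommRingCat.ofHom ((IsLocalRing.residue A).comp (algebraMap k A))) →
        ∃ s : Spec (CommRingCat.of A) ⟶ T.left, s ≫ T.hom = Spec.map (CommRingCat.ofHom (algebraMap k A)) ∧
          Spec.map (CommRingCat.ofHom (IsLocalRing.residue A)) ≫ s = u) :
    ∃ (U : T.left.Opens) (n : ℕ) (Y : (Spec (CommRingCat.of (MvPolynomial (Fin n) k))).Opens)
        (a : (U : Scheme.{u}) ⟶ (Y : Scheme.{u})) (b : (Y : Scheme.{u}) ⟶ (U : Scheme.{u})),
        (U : Set T.left).Nonempty ∧ a ≫ b = 𝟙 (U : Scheme.{u}) ∧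
        a ≫ Y.ι ≫ Spec.map (CommRingCat.ofHom (algebraMap k (MvPolynomial (Fin n) k))) = U.ι ≫ T.hom ∧
        b ≫ U.ι ≫ T.hom = Y.ι ≫ Spec.map (CommRingCat.ofHom (algebraMap k (MvPolynomial (Fin n) k))) := by
  classical
  obtain ⟨r, hloc⟩ := hT
  have htor := Groth.Agent.Hopf35.TorDom.isTorus_of_isotrivial T hloc
  haveI : IsAffineHom T.hom := Groth.Agent.RedPts82.isTorus_isAffineHom htor
  haveI : IsAffine T.left := isAffine_of_isAffineHom T.hom
  haveI : LocallyOfFiniteType T.hom := by
    haveI : MorphismProperty.DescendsAlong (@LocallyOfFiniteType : MorphismProperty Scheme.{u}) Groth.Agent.Unr55.fpqc.{u} := by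
      unfold Groth.Agent.Unr55.fpqc; infer_instance
    refine Groth.Agent.RedPts82.isTorus_prop (@LocallyOfFiniteType) htor fun U r => ?_
    refine MorphismProperty.pullback_snd (P := (@LocallyOfFiniteType : MorphismProperty Scheme.{u})) _ _ ?_
    refine (HasRingHomProperty.Spec_iff (P := @LocallyOfFiniteType)).mpr ?_
    exact RingHom.finiteType_algebraMap.mpr inferInstance
  obtain ⟨H, _, _, ψ, hψ⟩ := Groth.Agent.GMod80.exists_coord T
  haveI : Algebra.FiniteType k H := Groth.Agent.GMod80.finiteType ψ
  haveI hdom := Groth.Agent.Hopf35.TorDom.isDomain_tensor ψ htor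
  haveI : IsDomain H := by
    haveI := hdom k
    exact MulEquiv.isDomain _ (Algebra.TensorProduct.lid k H).symm.toMulEquiv
  haveI := hdom (AlgebraicClosure k)
  obtain ⟨n, g, hg, c, α, β, hαβ⟩ := Groth.Agent.MultTori56.exists_retraction (k := k) (A := H)
    inferInstance (fun R _ _ _ _ v => by
      let u₀ : Spec (CommRingCat.of (IsLocalRing.ResidueField R)) ⟶ T.left :=
        Spec.map (CommRingCat.ofHom v.toRingHom) ≫ (Groth.Agent.GMod80.sch ψ).hom
      obtain ⟨s, hs1, hs2⟩ := h R u₀ (by
        rw [Category.assoc, Groth.Agent.Hopf35.Retr.sch_w, ← Spec.map_comp, ← CommRingCat.ofHom_comp]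
        congr 2
        ext x
        exact (v.commutes x))
      obtain ⟨t, ht⟩ := Groth.Agent.Hopf35.Retr.exists_algHom ψ s hs1
      refine ⟨t, fun x => ?_⟩
      rw [← ht, ← Category.assoc, cancel_mono, ← Spec.map_comp] at hs2
      exact congr($(Spec.map_injective hs2).hom x))
  let sc := Groth.Agent.GMod80.sch ψ
  let jg : Spec (CommRingCat.of (Localization.Away g)) ⟶ T.left :=
    Spec.map (CommRingCat.ofHom (algebraMap H (Localization.Away g))) ≫ sc.hom
  let jc : Spec (CommRingCat.of (Localization.Away c)) ⟶ Spec (CommRingCat.of (MvPolynomial (Fin n) k)) :=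
    Spec.map (CommRingCat.ofHom (algebraMap (MvPolynomial (Fin n) k) (Localization.Away c)))
  haveI : IsOpenImmersion (Spec.map (CommRingCat.ofHom (algebraMap H (Localization.Away g)))) :=
    IsOpenImmersion.of_isLocalization g
  haveI : IsOpenImmersion jc := IsOpenImmersion.of_isLocalization c
  have hjgw : jg ≫ T.hom = Spec.map (CommRingCat.ofHom (algebraMap k (Localization.Away g))) := by
    rw [Category.assoc, Groth.Agent.Hopf35.Retr.sch_w, ← Spec.map_comp, ← CommRingCat.ofHom_comp,
      ← IsScalarTower.algebraMap_eq]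
  have hjcw : jc ≫ Spec.map (CommRingCat.ofHom (algebraMap k (MvPolynomial (Fin n) k))) =
      Spec.map (CommRingCat.ofHom (algebraMap k (Localization.Away c))) := by
    rw [← Spec.map_comp, ← CommRingCat.ofHom_comp, ← IsScalarTower.algebraMap_eq]
  let eU := IsOpenImmersion.isoOfRangeEq jg.opensRange.ι jg (by simp)
  let eY := IsOpenImmersion.isoOfRangeEq jc.opensRange.ι jc (by simp)
  refine ⟨jg.opensRange, n, jc.opensRange,
    eU.hom ≫ Spec.map (CommRingCat.ofHom α.toRingHom) ≫ eY.inv,
    eY.hom ≫ Spec.map (CommRingCat.ofHom β.toRingHom) ≫ eU.inv, ?_, ?_, ?_, ?_⟩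
  · haveI : Nontrivial (Localization.Away g) := (IsLocalization.injective (Localization.Away g)
      (powers_le_nonZeroDivisors_of_noZeroDivisors hg)).nontrivial
    obtain ⟨x⟩ : Nonempty (Spec (CommRingCat.of (Localization.Away g))) :=
      inferInstanceAs (Nonempty (PrimeSpectrum (Localization.Away g)))
    exact ⟨jg x, ⟨x, rfl⟩⟩
  · simp only [Category.assoc, Iso.inv_hom_id_assoc]
    rw [← Spec.map_comp_assoc, ← CommRingCat.ofHom_comp]
    have : (α.toRingHom).comp β.toRingHom = RingHom.id _ := congrArg AlgHom.toRingHom hαβ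
    rw [this, CommRingCat.ofHom_id, Spec.map_id, Category.id_comp, Iso.hom_inv_id]
  · simp only [Category.assoc]
    rw [IsOpenImmersion.isoOfRangeEq_inv_fac_assoc, hjcw, ← Spec.map_comp, ← CommRingCat.ofHom_comp,
      show α.toRingHom.comp (algebraMap k _) = algebraMap k _ from α.comp_algebraMap, ← hjgw,
      IsOpenImmersion.isoOfRangeEq_hom_fac_assoc]
  · simp only [Category.assoc]
    rw [IsOpenImmersion.isoOfRangeEq_inv_fac_assoc, hjgw, ← Spec.map_comp, ← CommRingCat.ofHom_comp,
      show β.toRingHom.comp (algebraMap k _) = algebraMap k _ from β.comp_algebraMap, ← hjcw,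
      IsOpenImmersion.isoOfRangeEq_hom_fac_assoc]

end Groth.Agent.S18696
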