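import Groth.Agent.Hopf35.RetrGeom
import Groth.Statements.S18697

set_option autoImplicit false
open CategoryTheory MonoidalCategory CartesianMonoidalCategory MonObj GrpObj AlgebraicGeometry
universe u
open MultTori

namespace Groth.Agent.S18697

open CategoryTheory CategoryTheory.Limits MonoidalCategory CartesianMonoidalCategory MonObj AlgebraicGeometry in
theorem result
    (k : Type u) [Field k] (T : Over (Spec (CommRingCat.of k))) [GrpObj T]
    (hT : ∃ r : ℕ, TwC.Locally (Spec (CommRingCat.of k)) .finiteEtale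
        (fun S' g => Red.IsSplitTorusWith (Fin r → ℤ) (Red.bc g T)))
    (hret : ∃ (U : T.left.Opens) (n : ℕ) (Y : (Spec (CommRingCat.of (MvPolynomial (Fin n) k))).Opens)
        (a : (U : Scheme.{u}) ⟶ (Y : Scheme.{u})) (b : (Y : Scheme.{u}) ⟶ (U : Scheme.{u})),
        (U : Set T.left).Nonempty ∧ a ≫ b = 𝟙 (U : Scheme.{u}) ∧
        a ≫ Y.ι ≫ Spec.map (CommRingCat.ofHom (algebraMap k (MvPolynomial (Fin n) k))) = U.ι ≫ T.hom ∧
        b ≫ U.ι ≫ T.hom = Y.ι ≫ Spec.map (CommRingCat.ofHom (algebraMap k (MvPolynomial (Fin n) k)))) :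
    ∀ (A : Type u) [CommRing A] [IsLocalRing A] [Algebra k A]
        (u : Spec (CommRingCat.of (IsLocalRing.ResidueField A)) ⟶ T.left),
        u ≫ T.hom = Spec.map (CommRingCat.ofHom ((IsLocalRing.residue A).comp (algebraMap k A))) →
        ∃ s : Spec (CommRingCat.of A) ⟶ T.left, s ≫ T.hom = Spec.map (CommRingCat.ofHom (algebraMap k A)) ∧
          Spec.map (CommRingCat.ofHom (IsLocalRing.residue A)) ≫ s = u := by
  classical
  obtain ⟨r, hloc⟩ := hT
  have htor := Groth.Agent.Hopf35.TorDom.isTorus_of_isotrivial T hloc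
  haveI : IsAffineHom T.hom := Groth.Agent.RedPts82.isTorus_isAffineHom htor
  haveI : IsAffine T.left := isAffine_of_isAffineHom T.hom
  haveI : IsCommMonObj T := by
    refine ⟨?_⟩
    have hβ : (β_ T T).hom ≫ μ[T] = snd T T * fst T T := by
      rw [Hom.mul_def]
      congr 1
    rw [hβ, Groth.Agent.RedPts82.isTorus_points_comm htor, Hom.mul_def, lift_fst_snd, Category.id_comp]
  obtain ⟨H, _, _, ψ, hψ⟩ := Groth.Agent.GMod80.exists_coord T
  haveI := Groth.Agent.Hopf35.GL.isCocomm ψ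
  obtain ⟨U, n, Y, a, b, hne, hab, ha, hb⟩ := hret
  obtain ⟨D⟩ := Groth.Agent.Hopf35.Retr.exists_dat ψ U n Y a b hne hab ha hb
  intro A _ _ _ u hu
  let ρ : A →ₐ[k] IsLocalRing.ResidueField A := IsScalarTower.toAlgHom k A (IsLocalRing.ResidueField A)
  obtain ⟨t, ht⟩ := Groth.Agent.Hopf35.Retr.exists_algHom ψ u (by
    rw [hu, IsScalarTower.algebraMap_eq k A (IsLocalRing.ResidueField A)]
    rfl)
  obtain ⟨s, hs⟩ := Groth.Agent.Hopf35.Retr.lift D
    (fun K _ _ => Groth.Agent.Hopf35.TorDom.isDomain_tensor ψ htor K) ρ IsLocalRing.residue_surjective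
    (fun x hx => by
      by_contra hnu
      exact hx.ne_zero ((IsLocalRing.residue_eq_zero_iff x).2 hnu))
    (WithConv.toConv t)
  refine ⟨Spec.map (CommRingCat.ofHom s.ofConv.toRingHom) ≫ (Groth.Agent.GMod80.sch ψ).hom, ?_, ?_⟩
  · rw [Category.assoc, Groth.Agent.Hopf35.Retr.sch_w, ← Spec.map_comp, ← CommRingCat.ofHom_comp]
    congr 1
    ext c
    exact s.ofConv.commutes c
  · rw [← Category.assoc, ← Spec.map_comp, ← CommRingCat.ofHom_comp, ← ht]
    congr 2
    ext x
    exact congr($(hs).ofConv x)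

end Groth.Agent.S18697
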