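import Groth.Statements.S18721
import Groth.Agent.DR39.SkApps
import Groth.Agent.DR39.LocalDual3

set_option autoImplicit false
universe u
open CategoryTheory
attribute [local instance] HasDerivedCategory.standard
open QGor

namespace Groth.Agent.S18721

/-- Affine form. Let k be a field and A a finitely generated k-algebra, equidimensional of Krull
dimension n, and let ω be a dualizing complex of A normalized at every maximal ideal m (no nonzero
morphisms A/m → ω[i] in D(A) for i ≠ 0 — the canonical dualizing complex of Spec A over k). Put Z_i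
= Supp H^{-i}(ω). Then H^{-i}(ω) = 0 for every i > n, and for every k′ ≥ 1: A satisfies (S_{k′}) if
and only if dim Z_i ≤ i − k′ for all i ≠ n, where for i < k′ this means H^{-i}(ω) = 0. -/
theorem result (k A : Type u) [Field k] [CommRing A]
    [Algebra k A] (hft : Algebra.FiniteType k A) [IsNoetherianRing A]
    (hEq : EGA4.IsEquidim A) (n : ℕ) (hd : ringKrullDim A = n)
    (ω : Dual.D A) (hω : Dual.IsDualizing A ω)
    (hnorm : ∀ (m : Ideal A) (_ : m.IsMaximal) (i : ℤ), i ≠ 0 → Subsingleton (Dual.inD A (A ⧸ m) ⟶ ω⟦i⟧)) :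
    (∀ i : ℕ, n < i → Subsingleton (Dual.HD A ω (-(i : ℤ)))) ∧
    ∀ k' : ℕ, 1 ≤ k' →
      (LocCoh.HasSk k' A A ↔
        ∀ i : ℕ, i ≠ n →
          (i < k' → Subsingleton (Dual.HD A ω (-(i : ℤ)))) ∧
          (k' ≤ i → Module.supportDim A (Dual.HD A ω (-(i : ℤ))) ≤ ((i - k' : ℕ) : WithBot ℕ∞))) := by
  have hmu : ∀ m : PrimeSpectrum A, m.asIdeal.IsMaximal → LC16.DualAnn.mu hω m = 0 := fun m hm =>
    haveI := hm
    DR39.Sk.mu_eq_zero_of_normalized hω fun i hi => hnorm m.asIdeal hm i hi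
  have hann : Module.annihilator A A = ⊥ :=
    le_bot_iff.1 fun a ha => by simpa using Module.mem_annihilator.1 ha 1
  have hmin : ∀ q : PrimeSpectrum A, q.asIdeal ∈ (Module.annihilator A A).minimalPrimes →
      ringKrullDim (A ⧸ q.asIdeal) = (n : WithBot ℕ∞) := fun q hq => by
    rw [hann] at hq
    exact (hEq _ hq).trans hd
  have hsupp : ∀ (j : ℤ) (p : PrimeSpectrum A), p ∈ Module.support A (Dual.HD A ω j) ↔
      LC17.gAnn ω (ModuleCat.of A A) j ≤ p.asIdeal := fun j p => by
    rw [← (DR39.gmSelfEquiv ω j).support_eq]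
    exact DR39.mem_support_gm hω A j p
  refine ⟨fun i hi => ?_, fun k' _ => ?_⟩
  · rw [← Module.support_eq_empty_iff (R := A)]
    refine Set.eq_empty_iff_forall_notMem.2 fun p hp => ?_
    have := (DR39.Sk.hasSk_iff_dim hω A hmu n hmin 0).1 _ p ((hsupp _ p).1 hp)
    omega
  rw [(DR39.Sk.hasSk_iff_dim hω A hmu n hmin k').2]
  constructor
  · intro h i hi
    have h' := (DR39.Sk.cond_iff (A := A) (H := Dual.HD A ω (-(i : ℤ))) (-(-(i : ℤ)) - (k' : ℤ))).1
      fun p hp => h (-(i : ℤ)) (by omega) p ((hsupp _ p).1 hp)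
    refine ⟨fun hlt => h'.1 (by omega), fun hle => ?_⟩
    have h'' := h'.2 (by omega)
    rwa [show (-(-(i : ℤ)) - (k' : ℤ)).toNat = i - k' by omega] at h''
  · intro h j hj p hjp
    obtain ⟨dep, dm, -, -, -, -, hb⟩ :=
      DR39.Sk.exists_dep_dim hω A (DR39.Sk.mem_support_of_gAnn_le hω A hjp)
    have hj0 : j ≤ 0 := by
      have h1 := (hb j hjp).2
      have h2 := (DR39.Sk.ringKrullDim_quotient_eq hω hmu p).1
      omega
    obtain ⟨i, rfl⟩ : ∃ i : ℕ, j = -(i : ℤ) := ⟨(-j).toNat, by omega⟩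
    refine (DR39.Sk.cond_iff (A := A) (H := Dual.HD A ω (-(i : ℤ))) _).2
      ⟨fun he => (h i (by omega)).1 (by omega), fun he => ?_⟩ p ((hsupp _ p).2 hjp)
    rw [show (-(-(i : ℤ)) - (k' : ℤ)).toNat = i - k' by omega]
    exact (h i (by omega)).2 (by omega)

end Groth.Agent.S18721
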