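import Groth.Statements.S18723
import Groth.Agent.DR39.QGorLocal

set_option autoImplicit false
universe u
open CategoryTheory
attribute [local instance] HasDerivedCategory.standard
open QGor

namespace Groth.Agent.S18723

/-- Affine-local form, with (2) for tensor powers m ≥ 0. Let A be a Noetherian local ring of Krull
dimension n with a dualizing complex ω, L = H⁰(ω), and J an ideal with ht J ≥ 2 (the closed set V(J)
has codimension ≥ 2) such that off V(J) the complex ω is the invertible module L in degree 0: for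
every prime p not containing J, H^i(ω)_p = 0 for i ≠ 0 and L_p is free of rank 1. (1) If A satisfies
(S₁), then ω is ordinary (A is equidimensional and ω[n] is normalized) and L is reflexive and
satisfies (S₂). (2) If A satisfies (S₂), then for every m ≥ 0 the double dual L^[m] of the m-th
tensor power of L satisfies (S₂) and depth_J L^[m] ≥ 2 (it is the module of sections of L^⊗m off
V(J)). -/
theorem result (A : Type u) [CommRing A] [IsNoetherianRing A]
    [IsLocalRing A] (ω : Dual.D A) (hω : Dual.IsDualizing A ω) (n : ℕ) (hd : ringKrullDim A = n)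
    (J : Ideal A) (hJ : 2 ≤ J.height)
    (hoff : ∀ p : PrimeSpectrum A, ¬ J ≤ p.asIdeal →
      (∀ i : ℤ, i ≠ 0 → p ∉ Module.support A (Dual.HD A ω i)) ∧
      Module.Free (Localization.AtPrime p.asIdeal) (LocalizedModule p.asIdeal.primeCompl (Dual.HD A ω 0)) ∧
      Module.finrank (Localization.AtPrime p.asIdeal) (LocalizedModule p.asIdeal.primeCompl (Dual.HD A ω 0)) = 1) :
    (LocCoh.HasSk 1 A A →
      (EGA4.IsEquidim A ∧ Dual.IsNormalized A (ω⟦(n : ℤ)⟧)) ∧
      Module.IsReflexive A (Dual.HD A ω 0) ∧ LocCoh.HasSk 2 A (Dual.HD A ω 0)) ∧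
    (LocCoh.HasSk 2 A A → ∀ m : ℕ,
      LocCoh.HasSk 2 A (Module.Dual A (Module.Dual A (TensorPower A m (Dual.HD A ω 0)))) ∧
      2 ≤ LocCoh.idealDepth J (Module.Dual A (Module.Dual A (TensorPower A m (Dual.HD A ω 0))))) := by
  haveI := hω.finite_cohomology 0
  have hJ1 : 1 ≤ J.height := le_trans (by norm_num) hJ
  have hoff' : ∀ p : PrimeSpectrum A, ¬ J ≤ p.asIdeal → ∀ i : ℤ, i ≠ 0 → p ∉ Module.support A (Dual.HD A ω i) :=
    fun p hp => (hoff p hp).1
  obtain ⟨h1, h2, h3, -⟩ := DR39.QGor.off_degree hω n hd J hJ1 hoff'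
  have hht : ∀ p : PrimeSpectrum A, J ≤ p.asIdeal → (2 : WithBot ℕ∞) ≤
      Module.supportDim (Localization.AtPrime p.asIdeal) (LocalizedModule p.asIdeal.primeCompl A) := fun p hp => by
    rw [Depth99.supportDim_self_loc]
    exact WithBot.coe_le_coe.mpr (hJ.trans (Ideal.height_mono hp))
  refine ⟨fun hS1 => ⟨⟨h1, h2⟩, ?_, h3⟩, fun hS2 m => ?_⟩
  · have hIA : ((1 : ℕ) : ℕ∞) ≤ LocCoh.idealDepth J A :=
      Depth99.le_idealDepth_of_hasSk 1 A J hS1 fun p hp _ => le_trans (by norm_num) (hht p hp)
    refine Depth99.isReflexive_of_depth J (by exact_mod_cast hIA) (Dual.HD A ω 0) (fun p hp => ?_)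
      (DR39.QGor.two_le_idealDepth hω n hd J hJ1 hoff' hJ)
    haveI hfree := (hoff p hp).2.1
    haveI hfin : Module.Finite (Localization.AtPrime p.asIdeal)
        (LocalizedModule p.asIdeal.primeCompl (Dual.HD A ω 0)) :=
      Module.Finite.of_isLocalizedModule p.asIdeal.primeCompl (LocalizedModule.mkLinearMap p.asIdeal.primeCompl _)
    exact Module.IsReflexive.of_finite_of_free _ _
  · have hIA : ((2 : ℕ) : ℕ∞) ≤ LocCoh.idealDepth J A :=
      Depth99.le_idealDepth_of_hasSk 2 A J hS2 fun p hp _ => by exact_mod_cast hht p hp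
    haveI : Module.Finite A (Module.Dual A (TensorPower A m (Dual.HD A ω 0))) := TF3.finite_dual
    exact ⟨TF3.hasSk_hom (M := Module.Dual A (TensorPower A m (Dual.HD A ω 0))) le_rfl hS2,
      by exact_mod_cast Depth99.idealDepth_hom J (Module.Dual A (TensorPower A m (Dual.HD A ω 0))) A le_rfl hIA⟩

end Groth.Agent.S18723
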