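import Groth.Statements.S18733
import Groth.Agent.MP99.ProdLemmas
-- import your own Groth.Agent.* helpers here

set_option autoImplicit false
universe u
open CategoryTheory CategoryTheory.Limits AlgebraicGeometry TopologicalSpace
open ModPair

namespace Groth.Agent.S18733

/-- Let D₁, D₂ be effective Cartier divisors on a scheme X, with quasi-coherent ideal sheaves I₁, I₂,
such that the scheme-theoretic intersection E = D₁ ×_X D₂ (ideal sheaf I₁ ⊔ I₂) is again an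
effective Cartier divisor. Then (1) the divisors D₁ − E and D₂ − E are effective and disjoint: there
are ideal sheaves I₁', I₂' of effective Cartier divisors with I₁ = I₁'·(I₁ ⊔ I₂), I₂ = I₂'·(I₁ ⊔ I₂)
and I₁' ⊔ I₂' = ⊤; and (2) the effective Cartier divisor D₁ + D₂ − E, with ideal sheaf I₁'·I₂'·(I₁ ⊔
I₂), is contained in every effective Cartier divisor D of X containing D₁ and D₂: if the ideal sheaf
of D is ≤ I₁ and ≤ I₂ then it is ≤ I₁'·I₂'·(I₁ ⊔ I₂). -/
theorem result {X : Scheme.{u}} (I₁ I₂ : X.IdealSheafData)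
    (h₁ : BlowUp.IsEffCartierIdeal I₁) (h₂ : BlowUp.IsEffCartierIdeal I₂)
    (hE : BlowUp.IsEffCartierIdeal (I₁ ⊔ I₂)) :
    ∃ I₁' I₂' : X.IdealSheafData, BlowUp.IsEffCartierIdeal I₁' ∧ BlowUp.IsEffCartierIdeal I₂' ∧
      I₁ = I₁' * (I₁ ⊔ I₂) ∧ I₂ = I₂' * (I₁ ⊔ I₂) ∧ I₁' ⊔ I₂' = ⊤ ∧
      ∀ D : X.IdealSheafData, BlowUp.IsEffCartierIdeal D → D ≤ I₁ → D ≤ I₂ →
        D ≤ I₁' * I₂' * (I₁ ⊔ I₂) := by
  obtain ⟨A, hA, eA⟩ := MP99.exists_cofactor h₁ hE le_sup_left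
  obtain ⟨B, hB, eB⟩ := MP99.exists_cofactor h₂ hE le_sup_right
  have htop : A ⊔ B = ⊤ := by
    apply MP99.eq_of_mul_eq_mul hE
    rw [Scheme.IdealSheafData.inf_mul, ← eA, ← eB, Scheme.IdealSheafData.top_mul]
  refine ⟨A, B, hA, hB, eA, eB, htop, fun D _ h1 h2 => MP99.le_of_local fun x => ?_⟩
  obtain ⟨U, hU, -⟩ := MP99.exists_affine_le x (W := ⊤) trivial
  refine ⟨U, hU, fun d hd => ?_⟩
  have d1 := h1 U hd
  have d2 := h2 U hd
  rw [eA] at d1
  rw [eB] at d2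
  simp only [Scheme.IdealSheafData.ideal_mul, Pi.mul_apply] at d1 d2 ⊢
  have htU : A.ideal U ⊔ B.ideal U = ⊤ := by
    have := congrArg (fun K : X.IdealSheafData => K.ideal U) htop
    simpa using this
  obtain ⟨s, hs, t, ht, hst⟩ := Submodule.mem_sup.mp (htU.ge (Submodule.mem_top (x := (1 : Γ(X, U.1)))))
  rw [← one_mul d, ← hst, add_mul]
  refine add_mem ?_ ?_
  · have := Ideal.mul_mem_mul hs d2
    rwa [← mul_assoc] at this
  · have := Ideal.mul_mem_mul ht d1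
    rwa [← mul_assoc, mul_comm (B.ideal U)] at this

end Groth.Agent.S18733
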