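import Groth.Statements.S18741
-- import your own Groth.Agent.* helpers here

set_option autoImplicit false
universe v₁ v₂ v₃ u₁ u₂ u₃
open CategoryTheory
open ModPair

namespace Groth.Agent.S18741

/-- Let C be a category, W a class of morphisms of C admitting a calculus of right fractions, and S an
object of C; let W_S be the class of morphisms of the slice category over S whose underlying
morphism lies in W. Then the canonical functor from the localization of the slice category C/S at
W_S to the slice category over S of the localization of C at W is an equivalence: for every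
localization functor L : C ⥤ D at W, every localization functor L' : C/S ⥤ E at W_S, and every
functor Φ : E ⥤ D/L(S) through which the functor C/S ⥤ D/L(S) induced by L factors up to
isomorphism, Φ is an equivalence of categories. -/
theorem result {C : Type u₁}
    [Category.{v₁} C] (W : MorphismProperty C) [W.HasRightCalculusOfFractions] (S : C)
    {D : Type u₂} [Category.{v₂} D] (L : C ⥤ D) [L.IsLocalization W]
    {E : Type u₃} [Category.{v₃} E] (L' : Over S ⥤ E)
    [L'.IsLocalization (W.inverseImage (Over.forget S))]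
    (Φ : E ⥤ Over (L.obj S)) (e : L' ⋙ Φ ≅ Over.post L) : Φ.IsEquivalence := by
  let WS := W.inverseImage (Over.forget S)
  haveI hWS : WS.HasRightCalculusOfFractions :=
    { id_mem := fun X => W.id_mem _
      comp_mem := fun f g hf hg => W.comp_mem _ _ hf hg
      exists_rightFraction := fun X Y φ => by
        obtain ⟨ψ, hψ⟩ := (MorphismProperty.LeftFraction.mk φ.f.left φ.s.left φ.hs :
          W.LeftFraction X.left Y.left).exists_rightFraction
        dsimp at hψ
        let T : Over S := Over.mk (ψ.s ≫ X.hom)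
        refine ⟨⟨(Over.homMk ψ.s : T ⟶ X), ψ.hs, (Over.homMk ψ.f ?_ : T ⟶ Y)⟩, ?_⟩
        · show ψ.f ≫ Y.hom = ψ.s ≫ X.hom
          rw [← Over.w φ.f, ← Over.w φ.s, ← Category.assoc, ← Category.assoc, hψ]
        · ext; exact hψ
      ext := fun X Y Y' f₁ f₂ s hs h => by
        obtain ⟨Z, t, ht, hte⟩ := MorphismProperty.HasRightCalculusOfFractions.ext f₁.left f₂.left
          s.left hs (congrArg CommaMorphism.left h)
        exact ⟨Over.mk (t ≫ X.hom), Over.homMk t, ht, by ext; exact hte⟩ }
  have hinv := Localization.inverts L W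
  have hinv' : WS.IsInvertedBy L' := Localization.inverts L' WS
  haveI := Localization.essSurj L W
  haveI : L'.EssSurj := Localization.essSurj L' WS
  -- images of fractions
  have key : ∀ {A B : Over S} (φ : WS.RightFraction A B),
      (e.inv.app A).left ≫ (Φ.map (φ.map L' hinv')).left ≫ (e.hom.app B).left =
        (MorphismProperty.RightFraction.mk φ.s.left φ.hs φ.f.left : W.RightFraction A.left B.left).map L hinv := by
    intro A B φ
    haveI : IsIso (L.map φ.s.left) := hinv _ φ.hs
    let φ₀ : W.RightFraction A.left B.left := .mk φ.s.left φ.hs φ.f.left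
    refine (cancel_epi (L.map φ.s.left)).mp (Eq.trans ?_ (φ₀.map_s_comp_map L hinv).symm)
    have h1 : (Over.post L).map φ.s ≫ e.inv.app A = e.inv.app φ.X' ≫ Φ.map (L'.map φ.s) :=
      e.inv.naturality φ.s
    have h2 : Φ.map (L'.map φ.f) ≫ e.hom.app B = e.hom.app φ.X' ≫ (Over.post L).map φ.f :=
      e.hom.naturality φ.f
    have h3 : (Over.post L).map φ.s ≫ e.inv.app A ≫ Φ.map (φ.map L' hinv') ≫ e.hom.app B =
        (Over.post L).map φ.f := by
      rw [reassoc_of% h1, ← Φ.map_comp_assoc, MorphismProperty.RightFraction.map_s_comp_map, h2,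
        e.inv_hom_id_app_assoc]
    exact congrArg CommaMorphism.left h3
  haveI : Φ.EssSurj := by
    constructor
    intro P
    let i := L.objObjPreimageIso P.left
    obtain ⟨φ, hφ⟩ := Localization.exists_rightFraction L W (i.hom ≫ P.hom)
    haveI : IsIso (L.map φ.s) := hinv _ φ.hs
    refine ⟨L'.obj (Over.mk φ.f), ⟨e.app _ ≪≫ Over.isoMk (@asIso _ _ _ _ (L.map φ.s) (hinv _ φ.hs) ≪≫ i) ?_⟩⟩
    show (L.map φ.s ≫ i.hom) ≫ P.hom = L.map φ.f
    rw [Category.assoc]
    refine (congrArg (fun x => L.map φ.s ≫ x) hφ).trans ?_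
    exact φ.map_s_comp_map L hinv
  haveI : Φ.Full := by
    constructor
    intro X Y ψ
    let iX := L'.objObjPreimageIso X
    let iY := L'.objObjPreimageIso Y
    set A := L'.objPreimage X
    set B := L'.objPreimage Y
    let θ : (Over.post L).obj A ⟶ (Over.post L).obj B :=
      e.inv.app A ≫ Φ.map iX.hom ≫ ψ ≫ Φ.map iY.inv ≫ e.hom.app B
    obtain ⟨φ, hφ⟩ := Localization.exists_rightFraction L W θ.left
    have hw : θ.left ≫ L.map B.hom = L.map A.hom := Over.w θ
    have hw' : L.map (φ.f ≫ B.hom) = L.map (φ.s ≫ A.hom) := by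
      rw [L.map_comp, L.map_comp, ← hw, ← φ.map_s_comp_map L hinv, Category.assoc, ← hφ]
      rfl
    obtain ⟨V, t, ht, hte⟩ := (MorphismProperty.map_eq_iff_precomp L W _ _).mp hw'
    let T : Over S := Over.mk (t ≫ φ.s ≫ A.hom)
    let φ' : WS.RightFraction A B :=
      ⟨(Over.homMk (t ≫ φ.s) (Category.assoc _ _ _) : T ⟶ A), W.comp_mem _ _ ht φ.hs,
        (Over.homMk (t ≫ φ.f) ((Category.assoc _ _ _).trans hte) : T ⟶ B)⟩
    refine ⟨iX.inv ≫ φ'.map L' hinv' ≫ iY.hom, ?_⟩
    have hθ : e.inv.app A ≫ Φ.map (φ'.map L' hinv') ≫ e.hom.app B = θ := by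
      refine Over.OverMorphism.ext ?_
      refine (key φ').trans ?_
      haveI : IsIso (L.map φ'.s.left) := hinv _ φ'.hs
      let φ₀ : W.RightFraction A.left B.left := .mk φ'.s.left φ'.hs φ'.f.left
      refine (cancel_epi (L.map φ'.s.left)).mp ((φ₀.map_s_comp_map L hinv).trans ?_)
      rw [hφ]
      show L.map (t ≫ φ.f) = L.map (t ≫ φ.s) ≫ φ.map L hinv
      rw [L.map_comp, L.map_comp, Category.assoc, φ.map_s_comp_map]
    simp only [θ, cancel_epi] at hθ
    rw [← Category.assoc (Φ.map iX.hom), ← Category.assoc (Φ.map iX.hom ≫ ψ), cancel_mono] at hθ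
    rw [Φ.map_comp, Φ.map_comp, hθ]
    simp [← Φ.map_comp, ← Φ.map_comp_assoc]
  haveI : Φ.Faithful := by
    constructor
    intro X Y a b hab
    let iX := L'.objObjPreimageIso X
    let iY := L'.objObjPreimageIso Y
    suffices iX.hom ≫ a ≫ iY.inv = iX.hom ≫ b ≫ iY.inv by simpa [cancel_mono] using this
    obtain ⟨φa, ea⟩ := Localization.exists_rightFraction L' WS (iX.hom ≫ a ≫ iY.inv)
    obtain ⟨φb, eb⟩ := Localization.exists_rightFraction L' WS (iX.hom ≫ b ≫ iY.inv)
    rw [ea, eb, MorphismProperty.RightFraction.map_eq_iff]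
    have := key φa
    rw [← ea, Φ.map_comp, Φ.map_comp, hab, ← Φ.map_comp, ← Φ.map_comp, eb, key φb] at this
    obtain ⟨Z, t₁, t₂, hst, hft, ht⟩ := (MorphismProperty.RightFraction.map_eq_iff L W _ _).mp this
    dsimp at t₁ t₂ hst hft ht
    refine ⟨Over.mk (t₁ ≫ φb.s.left ≫ (L'.objPreimage X).hom),
      Over.homMk t₂ ?_, Over.homMk t₁ ?_, ?_, ?_, ?_⟩
    · show t₂ ≫ φa.X'.hom = t₁ ≫ φb.s.left ≫ _
      rw [← Over.w φa.s, ← Category.assoc, ← hst, Category.assoc]
    · show t₁ ≫ φb.X'.hom = t₁ ≫ φb.s.left ≫ _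
      rw [Over.w φb.s]
    · ext; exact hst.symm
    · ext; exact hft.symm
    · show W (t₂ ≫ φa.s.left)
      rw [← hst]; exact ht
  exact { }

end Groth.Agent.S18741
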