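import Groth.Statements.S18743
import Groth.Agent.MP99.Basic
-- import your own Groth.Agent.* helpers here

set_option autoImplicit false
universe u
open CategoryTheory CategoryTheory.Limits AlgebraicGeometry TopologicalSpace
open ModPair

namespace Groth.Agent.S18743

/-- Let (S, I_S), (T, I_T), (X, I_X) be schemes equipped with quasi-coherent ideal sheaves of effective
Cartier divisors, p : X ⟶ S a morphism with the modulus condition I_X ≤ I_S.comap p, and f : T ⟶ S a
minimal morphism (I_T = I_S.comap f) which is flat. Then the ambient product of (T, I_T) and (X,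
I_X) over (S, I_S) has total space all of X ×_S T with modulus pulled back from X: the open
pr₁⁻¹(X°) ∩ pr₂⁻¹(T°) (X°, T° the complements of the supports) is scheme-theoretically dominant in X
×_S T, the closed immersion of its scheme-theoretic image is an isomorphism, and I_X.comap pr₁ is
the ideal sheaf of an effective Cartier divisor. -/
theorem result {S T X : Scheme.{u}} (IS : S.IdealSheafData)
    (IT : T.IdealSheafData) (IX : X.IdealSheafData) (hS : BlowUp.IsEffCartierIdeal IS)
    (hT : BlowUp.IsEffCartierIdeal IT) (hX : BlowUp.IsEffCartierIdeal IX)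
    (p : X ⟶ S) (hp : ModPair.IsAmbient IX IS p) (f : T ⟶ S) (hf : ModPair.IsMinimal IT IS f) [Flat f] :
    IsSchemeTheoreticallyDominant (ModPair.prodInterior p f IX IT).ι ∧
      IsIso (ModPair.mprodι p f IX IT) ∧
      BlowUp.IsEffCartierIdeal (IX.comap (pullback.fst p f)) := by
  let P := pullback.fst p f ⁻¹ᵁ ModPair.interior IX
  have hprod : ModPair.prodInterior p f IX IT = P := by
    refine inf_eq_left.mpr fun x hx => ?_
    have hx' := MP99.interior_mono hp hx
    rw [MP99.interior_comap] at hx'
    have : IT = IS.comap f := hf
    rw [this, MP99.interior_comap]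
    show f.base (pullback.snd p f x) ∈ ModPair.interior IS
    have e : f.base (pullback.snd p f x) = p.base (pullback.fst p f x) := by
      simp only [← Scheme.Hom.comp_apply, pullback.condition]
    rw [e]; exact hx'
  haveI := MP99.dominant_of_isEffCartier hX
  haveI := MP99.isAffineHom_interior (MP99.isLocPrincipal_of_isEffCartier hX)
  haveI hd : IsSchemeTheoreticallyDominant P.ι :=
    IsSchemeTheoreticallyDominant.of_isPullback (isPullback_morphismRestrict (pullback.fst p f) _)
  refine ⟨hprod ▸ hd, ?_, MP99.isEffCartier_comap (MP99.isLocPrincipal_of_isEffCartier hX) _ (W := P) le_rfl⟩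
  haveI : IsSchemeTheoreticallyDominant (ModPair.prodInterior p f IX IT).ι := hprod ▸ hd
  refine IsClosedImmersion.isIso_iff_ker_eq_bot.mpr ?_
  simp [ModPair.mprodι, Scheme.Hom.ker_eq_bot]

end Groth.Agent.S18743
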