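import Groth.Statements.S18748
import Groth.Agent.MP99.CoprodAdm
import Mathlib.CategoryTheory.Localization.FiniteProducts
-- import your own Groth.Agent.* helpers here

set_option autoImplicit false
universe u
open CategoryTheory CategoryTheory.Limits AlgebraicGeometry TopologicalSpace
open ModPair

namespace Groth.Agent.S18748

theorem op_stable {C : Type*} [Category C] (W : MorphismProperty C) {J : Type}
    [W.IsStableUnderCoproductsOfShape J] : W.op.IsStableUnderProductsOfShape J := by
  refine ⟨fun X₁ X₂ c₁ c₂ h₁ h₂ f hf φ hφ => ?_⟩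
  let Y : (Discrete J ⥤ Cᵒᵖ) → (Discrete J ⥤ C) := fun X =>
    Discrete.functor (fun j => (X.obj ⟨j⟩).unop)
  let d : ∀ {X : Discrete J ⥤ Cᵒᵖ}, Cone X → Cocone (Y X) := fun {X} c =>
    Cofan.mk c.pt.unop (fun j => (c.π.app ⟨j⟩).unop)
  have hd : ∀ {X : Discrete J ⥤ Cᵒᵖ} (c : Cone X), IsLimit c → Nonempty (IsColimit (d c)) := by
    intro X c hc
    exact ⟨{
      desc := fun s => (hc.lift ⟨Opposite.op s.pt, Discrete.natTrans fun j => (s.ι.app j).op⟩).unop
      fac := fun s j => by
        exact congrArg Quiver.Hom.unop (hc.fac ⟨Opposite.op s.pt, Discrete.natTrans fun j => (s.ι.app j).op⟩ j)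
      uniq := fun s m h => by
        apply Quiver.Hom.op_inj
        exact hc.uniq ⟨Opposite.op s.pt, Discrete.natTrans fun j => (s.ι.app j).op⟩ m.op
          (fun j => congrArg Quiver.Hom.op (h j)) }⟩
  obtain ⟨k₁⟩ := hd c₁ h₁
  obtain ⟨k₂⟩ := hd c₂ h₂
  exact MorphismProperty.IsStableUnderColimitsOfShape.condition (W := W) _ _ (d c₂) (d c₁) k₂ k₁
    (Discrete.natTrans fun j => (f.app j).unop) (fun j => hf _) φ.unop
    (fun j => congrArg Quiver.Hom.unop (hφ j))


/-- The localization of the category of modulus pairs and ambient morphisms at the class of abstract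
admissible blow-ups has binary coproducts, and the localization functor carries the coproduct of two
modulus pairs (the disjoint union of the total spaces with the disjoint union of the moduli) to a
coproduct. (The source also states that the interior functor detects these coproducts; that part is
not included.) -/
theorem result :
    HasBinaryCoproducts (ModPair.Pair.admBlowup.{u}).Localization ∧
      PreservesColimitsOfShape (Discrete WalkingPair) (ModPair.Pair.admBlowup.{u}).Q := by
  let W := ModPair.Pair.admBlowup.{u}
  haveI := MP99.hasRightCalculusOfFractions.{u}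
  haveI hC : HasColimitsOfShape (Discrete WalkingPair) ModPair.Pair.{u} := by
    haveI : HasColimitsOfShape (Discrete (ULift.{u} WalkingPair)) ModPair.Pair.{u} :=
      ⟨fun G => by
        haveI : HasColimit (Discrete.functor (G.obj ∘ Discrete.mk)) := MP99.PairCoprod.hasCoproduct _
        exact hasColimit_of_iso (Discrete.natIsoFunctor (F := G))⟩
    exact hasColimitsOfShape_of_equivalence (Discrete.equivalence Equiv.ulift.{u})
  haveI hW : W.IsStableUnderCoproductsOfShape WalkingPair := ⟨fun X₁ X₂ c₁ c₂ h₁ h₂ f hf φ hφ => by
    haveI := MP99.PairCoprod.isStable.{u} (σ := ULift.{u} WalkingPair)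
    let e : Discrete (ULift.{u} WalkingPair) ≌ Discrete WalkingPair := Discrete.equivalence Equiv.ulift
    exact MorphismProperty.IsStableUnderColimitsOfShape.condition (W := W) _ _ (c₁.whisker e.functor)
      (c₂.whisker e.functor) (h₁.whiskerEquivalence e) (h₂.whiskerEquivalence e)
      (Functor.whiskerLeft e.functor f) (fun j => hf _) φ (fun j => hφ _)⟩
  haveI : W.op.IsStableUnderProductsOfShape WalkingPair := op_stable W
  haveI : W.ContainsIdentities := ⟨MP99.admBlowup_id⟩
  haveI : HasProductsOfShape WalkingPair ModPair.Pair.{u}ᵒᵖ :=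
    hasProductsOfShape_opposite WalkingPair
  haveI := Localization.hasProductsOfShape W.Q.op W.op WalkingPair
  haveI := Localization.preservesProductsOfShape W.Q.op W.op WalkingPair
  haveI : HasColimitsOfShape (Discrete WalkingPair) W.Localization := by
    haveI : HasLimitsOfShape (Discrete WalkingPair)ᵒᵖ W.Localizationᵒᵖ :=
      hasLimitsOfShape_of_equivalence (Discrete.opposite WalkingPair).symm
    exact hasColimitsOfShape_of_hasLimitsOfShape_op
  refine ⟨this, ?_⟩
  haveI : PreservesLimitsOfShape (Discrete WalkingPair)ᵒᵖ W.Q.op :=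
    preservesLimitsOfShape_of_equiv (Discrete.opposite WalkingPair).symm _
  exact preservesColimitsOfShape_of_op _ _

end Groth.Agent.S18748
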