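import Groth.Statements.S18749
import Groth.Agent.MP99.ProdLemmas
import Groth.Agent.MP99.BlowUpDense
-- import your own Groth.Agent.* helpers here

set_option autoImplicit false
universe u
open CategoryTheory CategoryTheory.Limits AlgebraicGeometry TopologicalSpace
open ModPair

namespace Groth.Agent.S18749

/-- Let (S, I_S), (T, J), (X, I) be schemes with quasi-coherent ideal sheaves of effective Cartier
divisors and f : X ⟶ S, g : T ⟶ S morphisms satisfying the modulus condition. Let Y₀ be the
scheme-theoretic image of pr₁⁻¹(X°) ∩ pr₂⁻¹(T°) in X ×_S T, let π : Y ⟶ Y₀ be a blowing up of Y₀ in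
the sum of the two ideal sheaves I, J pulled back to Y₀ (the intersection of the two pulled-back
divisors), and let K be an ideal sheaf on Y whose product with the exceptional ideal is the product
of the pull-backs of I and J to Y. Then K is the ideal sheaf of an effective Cartier divisor (the
divisor D_X + D_T − E), the projections Y ⟶ X and Y ⟶ T satisfy the modulus condition with respect
to K, and the interior of (Y, K) is the preimage of pr₁⁻¹(X°) ∩ pr₂⁻¹(T°). -/
theorem result {S T X Y : Scheme.{u}} (IS : S.IdealSheafData)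
    (J : T.IdealSheafData) (I : X.IdealSheafData) (hS : BlowUp.IsEffCartierIdeal IS)
    (hT : BlowUp.IsEffCartierIdeal J) (hX : BlowUp.IsEffCartierIdeal I)
    (f : X ⟶ S) (hf : ModPair.IsAmbient I IS f) (g : T ⟶ S) (hg : ModPair.IsAmbient J IS g)
    (π : Y ⟶ ModPair.mprod f g I J) (K : Y.IdealSheafData) (hY : ModPair.IsAmbProd f g I J π K) :
    BlowUp.IsEffCartierIdeal K ∧
      ModPair.IsAmbient K I (π ≫ ModPair.mprodι f g I J ≫ pullback.fst f g) ∧
      ModPair.IsAmbient K J (π ≫ ModPair.mprodι f g I J ≫ pullback.snd f g) ∧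
      ModPair.interior K = (π ≫ ModPair.mprodι f g I J) ⁻¹ᵁ ModPair.prodInterior f g I J := by
  obtain ⟨hb, hK⟩ := hY
  have hE := hb.1
  have hCA : BlowUp.IsEffCartierIdeal ((ModPair.prodCentre f g I J).comap π) := hE
  haveI : IsSchemeTheoreticallyDominant (ModPair.interior ((ModPair.prodCentre f g I J).comap π)).ι :=
    MP99.dominant_of_isEffCartier hE
  set A := (I.comap (ModPair.mprodι f g I J ≫ pullback.fst f g)).comap π with hA
  set B := (J.comap (ModPair.mprodι f g I J ≫ pullback.snd f g)).comap π with hB
  set E := (ModPair.prodCentre f g I J).comap π with hEdef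
  have eE : E = A ⊔ B := by
    simp only [hA, hB, hEdef, ModPair.prodCentre, Scheme.IdealSheafData.comap_sup]
  have hint : ModPair.interior E ≥ ModPair.interior (A * B) := by
    rw [MP99.interior_mul]
    exact le_trans inf_le_left (MP99.interior_mono (eE ▸ le_sup_left))
  haveI hdom : IsSchemeTheoreticallyDominant (ModPair.interior (A * B)).ι :=
    MP99.dominant_prod hX hT f g π hb
  have hA' : BlowUp.IsEffCartierIdeal A := by
    rw [hA, ← Scheme.IdealSheafData.comap_comp]
    refine MP99.isEffCartier_comap (MP99.isLocPrincipal_of_isEffCartier hX) _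
      (W := ModPair.interior (A * B)) ?_
    rw [← MP99.interior_comap, MP99.interior_mul, hA, ← Scheme.IdealSheafData.comap_comp]
    exact inf_le_left
  have hB' : BlowUp.IsEffCartierIdeal B := by
    rw [hB, ← Scheme.IdealSheafData.comap_comp]
    refine MP99.isEffCartier_comap (MP99.isLocPrincipal_of_isEffCartier hT) _
      (W := ModPair.interior (A * B)) ?_
    rw [← MP99.interior_comap, MP99.interior_mul, hB, ← Scheme.IdealSheafData.comap_comp]
    exact inf_le_right
  have hKc : BlowUp.IsEffCartierIdeal K :=
    MP99.isEffCartier_of_mul hE (MP99.isEffCartier_mul hA' hB') hK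
  have hKA : K ≤ A := by
    refine MP99.le_of_mul_le_mul hB' ?_
    rw [← hK]
    exact mul_le_mul_right (eE ▸ le_sup_right) K
  have hKB : K ≤ B := by
    refine MP99.le_of_mul_le_mul hA' ?_
    rw [mul_comm B A, ← hK]
    exact mul_le_mul_right (eE ▸ le_sup_left) K
  refine ⟨hKc, ?_, ?_, ?_⟩
  · show K ≤ _
    rw [Scheme.IdealSheafData.comap_comp]; exact hKA
  · show K ≤ _
    rw [Scheme.IdealSheafData.comap_comp]; exact hKB
  · have h1 : ModPair.interior (K * E) = ModPair.interior K := by
      rw [MP99.interior_mul]
      exact inf_eq_left.mpr (MP99.interior_mono (le_trans hKA (eE ▸ le_sup_left)))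
    rw [← h1, hK, MP99.prodInterior_eq, MP99.interior_mul, MP99.interior_mul]
    simp only [hA, hB, ← Scheme.IdealSheafData.comap_comp, MP99.interior_comap]
    rfl

end Groth.Agent.S18749
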