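import Groth.Statements.S18753
import Groth.Agent.QG99.SemiVal
import Groth.Agent.MP99.Chart

set_option autoImplicit false
universe u
open CategoryTheory CategoryTheory.Limits AlgebraicGeometry TopologicalSpace
open ModPair

namespace Groth.Agent.S18753

/-- Let O be a local ring with residue field κ, R a valuation ring of κ, A ⊆ O the subring of elements
whose residue class lies in R (the fibre product ring R ×_κ O, a semi-valuation ring), and f an
element of A such that O is the localization of A obtained by inverting f. Equip P = Spec A with the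
modulus V(f), the closed subscheme cut out by f (an effective Cartier divisor: f is a unit of O, so
a nonzerodivisor of A), whose interior is Spec O. Let q : Q ⟶ P be a proper, minimal morphism of
modulus pairs (the modulus of Q is the pull-back of V(f) and is an effective Cartier divisor) whose
restriction over the interior of P is a finite morphism. Then q is finite. -/
theorem result {O : Type u} [CommRing O]
    [IsLocalRing O] (R : ValuationSubring (IsLocalRing.ResidueField O))
    (f : ↥((R.toSubring).comap (IsLocalRing.residue O)))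
    [IsLocalization.Away f O] {Q : Scheme.{u}} (IQ : Q.IdealSheafData)
    (hQ : BlowUp.IsEffCartierIdeal IQ)
    (q : Q ⟶ Spec (CommRingCat.of ↥((R.toSubring).comap (IsLocalRing.residue O))))
    (hq : ModPair.IsMinimal IQ
      (Spec.map (CommRingCat.ofHom (Ideal.Quotient.mk (Ideal.span {f})))).ker q)
    [IsProper q]
    (hfin : IsFinite (q ∣_ ModPair.interior
      (Spec.map (CommRingCat.ofHom (Ideal.Quotient.mk (Ideal.span {f})))).ker)) :
    IsFinite q := by
  let A := (R.toSubring).comap (IsLocalRing.residue O)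
  let J := (Spec.map (CommRingCat.ofHom (Ideal.Quotient.mk (Ideal.span {f})))).ker
  let e := (Scheme.ΓSpecIso (CommRingCat.of A)).commRingCatIsoToRingEquiv
  have hJ : J.ideal ⟨⊤, isAffineOpen_top _⟩ = Ideal.span {e.symm f} := by
    show (Spec.map (CommRingCat.ofHom (Ideal.Quotient.mk (Ideal.span {f})))).ker.ideal _ = _
    rw [Scheme.Hom.ker_apply]
    ext x
    have h := congrArg (fun φ => φ.hom x)
      (Scheme.ΓSpecIso_naturality (CommRingCat.ofHom (Ideal.Quotient.mk (Ideal.span {f}))))
    rw [Ideal.mem_span_singleton, RingHom.mem_ker, ← map_dvd_iff e, e.apply_symm_apply,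
      ← Ideal.mem_span_singleton, ← Ideal.Quotient.eq_zero_iff_mem]
    refine ⟨fun h0 => h.symm.trans ?_, fun h0 => ?_⟩
    · show (Scheme.ΓSpecIso _).hom.hom ((Spec.map _).appTop.hom x) = 0
      rw [show (Spec.map (CommRingCat.ofHom (Ideal.Quotient.mk (Ideal.span {f})))).appTop.hom x = 0 from h0,
        map_zero]
    · refine (Scheme.ΓSpecIso _).commRingCatIsoToRingEquiv.injective ?_
      exact (h.trans h0).trans (map_zero _).symm
  have hint : ModPair.interior J = (PrimeSpectrum.basicOpen f : (Spec (CommRingCat.of A)).Opens) := by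
    have h := MP99.inf_interior_eq_basicOpen J hJ
    rw [top_inf_eq, basicOpen_eq_of_affine'] at h
    rw [h]
    exact congrArg PrimeSpectrum.basicOpen (e.apply_symm_apply f)
  let ψ : A →+* R := ((IsLocalRing.residue O).comp A.subtype).codRestrict R.toSubring (fun a => a.2)
  have hψ : Function.Surjective ψ := fun r => by
    obtain ⟨o, ho⟩ := IsLocalRing.residue_surjective (R := O) r.1
    exact ⟨⟨o, by show IsLocalRing.residue O o ∈ R.toSubring; rw [ho]; exact r.2⟩, Subtype.ext ho⟩
  have h𝔮 : ∀ a : A, a ∈ RingHom.ker ψ ↔ IsLocalRing.residue O (a : O) = 0 := fun a =>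
    ⟨fun h => congrArg Subtype.val h, fun h => Subtype.ext h⟩
  haveI : (RingHom.ker ψ).IsPrime := RingHom.ker_isPrime ψ
  haveI : ValuationRing (A ⧸ RingHom.ker ψ) :=
    Function.Surjective.valuationRing (R := R) (RingHom.quotientKerEquivOfSurjective hψ).symm.toRingHom
      (RingHom.quotientKerEquivOfSurjective hψ).symm.surjective
  have hfu : IsUnit (algebraMap A O f) := IsLocalization.Away.algebraMap_isUnit f
  have halg : ∀ a : A, algebraMap A O a = (a : O) := fun a => rfl
  have hf0 : IsLocalRing.residue O (f : O) ≠ 0 := by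
    rw [ne_eq, IsLocalRing.residue_eq_zero_iff, IsLocalRing.mem_maximalIdeal, mem_nonunits_iff, not_not,
      ← halg]
    exact hfu
  have hker : ∀ o : O, IsLocalRing.residue O o = 0 → o ∈ A := fun o ho => by
    show IsLocalRing.residue O o ∈ R.toSubring
    rw [ho]; exact zero_mem _
  refine QG99.isFinite_semiVal (RingHom.ker ψ) f (fun h => hf0 ((h𝔮 f).mp h)) ?_ ?_ q ?_ ?_
  · intro a ha
    obtain ⟨v, hv⟩ := hfu
    have hb0 : IsLocalRing.residue O ((↑v⁻¹ : O) * (a : O)) = 0 := by rw [map_mul, (h𝔮 a).mp ha, mul_zero]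
    refine Ideal.mem_span_singleton_mul.mpr ⟨⟨_, hker _ hb0⟩, (h𝔮 _).mpr hb0, Subtype.ext ?_⟩
    show (f : O) * ((↑v⁻¹ : O) * (a : O)) = a
    rw [← mul_assoc, ← halg f, ← hv, Units.mul_inv, one_mul]
  · intro r hr
    have hr0 : IsLocalRing.residue O (r : O) ≠ 0 := fun h => hr ((h𝔮 r).mpr h)
    obtain ⟨o, ho⟩ := IsLocalRing.residue_surjective (R := O) (IsLocalRing.residue O (r : O))⁻¹
    obtain ⟨⟨s, ⟨_, n, rfl⟩⟩, hs⟩ := IsLocalization.surj (Submonoid.powers f) o
    refine ⟨s, n, (h𝔮 _).mpr ?_⟩
    show IsLocalRing.residue O ((r : O) * (s : O) - ((f ^ n : A) : O)) = 0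
    rw [← halg s, ← halg (f ^ n), ← hs, map_sub, map_mul, map_mul, ho, ← mul_assoc, mul_inv_cancel₀ hr0,
      one_mul, sub_self]
  · intro T h _ φ hφ
    have h1 := MP99.isEffCartier_comap_isOpenImmersion (hq ▸ hQ : BlowUp.IsEffCartierIdeal (J.comap q)) h
    rw [← Scheme.IdealSheafData.comap_comp, ← hφ] at h1
    have h2 : (J.comap (Spec.map φ)).ideal ⟨⊤, isAffineOpen_top _⟩ =
        Ideal.span {(Spec.map φ).appTop.hom (e.symm f)} := by
      rw [MP99.ideal_comap_top_of_isAffine, hJ, Ideal.map_span, Set.image_singleton]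
    have h3 := MP99.mem_nonZeroDivisors_of_span h1 h2
    have h4 : φ.hom f = (Scheme.ΓSpecIso T).hom.hom ((Spec.map φ).appTop.hom (e.symm f)) := by
      refine Eq.trans ?_ (congrArg (fun ψ => ψ.hom (e.symm f)) (Scheme.ΓSpecIso_naturality φ)).symm
      show φ.hom f = φ.hom (e (e.symm f))
      rw [e.apply_symm_apply]
    rw [h4]
    rw [mem_nonZeroDivisors_iff_right] at h3 ⊢
    intro y hy
    let e' := (Scheme.ΓSpecIso T).commRingCatIsoToRingEquiv
    have := h3 (e'.symm y) (e'.injective (by
      rw [map_mul, e'.apply_symm_apply, map_zero]; exact hy))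
    rw [← e'.apply_symm_apply y, this, map_zero]
  · rw [← hint]; exact hfin

end Groth.Agent.S18753
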