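import Groth.Statements.S18755
import Groth.Agent.MP99.Factor
-- import your own Groth.Agent.* helpers here

set_option autoImplicit false
universe u
open CategoryTheory CategoryTheory.Limits AlgebraicGeometry TopologicalSpace
open ModPair

namespace Groth.Agent.S18755

/-- Let (S₀, I₀), (S₁, I₁), (T, J), (X, I) be schemes with quasi-coherent ideal sheaves of effective
Cartier divisors, f : X ⟶ S₁, g : T ⟶ S₁ and σ : S₁ ⟶ S₀ morphisms satisfying the modulus condition,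
and let (Y₁, K₁) with π₁ and (Y₀, K₀) with π₀ be ambient products of (X, I) and (T, J) over S₁ and
over S₀ (the latter for f ≫ σ and g ≫ σ): blow-ups of the scheme-theoretic image of the product of
the interiors inside X ×_{S₁} T, resp. X ×_{S₀} T, in the intersection of the pulled-back moduli,
with K·E = D_X·D_T. Then the ambient product is functorial in the base: there is a unique morphism φ
: Y₁ ⟶ Y₀ compatible with the maps to X ×_{S₀} T (through the canonical X ×_{S₁} T ⟶ X ×_{S₀} T),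
and every such φ is minimal, K₁ = K₀.comap φ. -/
theorem result {S₀ S₁ T X Y₁ Y₀ : Scheme.{u}} (I₀ : S₀.IdealSheafData)
    (I₁ : S₁.IdealSheafData) (J : T.IdealSheafData) (I : X.IdealSheafData)
    (h₀ : BlowUp.IsEffCartierIdeal I₀) (h₁ : BlowUp.IsEffCartierIdeal I₁)
    (hT : BlowUp.IsEffCartierIdeal J) (hX : BlowUp.IsEffCartierIdeal I)
    (f : X ⟶ S₁) (hf : ModPair.IsAmbient I I₁ f) (g : T ⟶ S₁) (hg : ModPair.IsAmbient J I₁ g)
    (σ : S₁ ⟶ S₀) (hσ : ModPair.IsAmbient I₁ I₀ σ)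
    (π₁ : Y₁ ⟶ ModPair.mprod f g I J) (K₁ : Y₁.IdealSheafData) (hY₁ : ModPair.IsAmbProd f g I J π₁ K₁)
    (π₀ : Y₀ ⟶ ModPair.mprod (f ≫ σ) (g ≫ σ) I J) (K₀ : Y₀.IdealSheafData)
    (hY₀ : ModPair.IsAmbProd (f ≫ σ) (g ≫ σ) I J π₀ K₀) :
    (∃! φ : Y₁ ⟶ Y₀, φ ≫ π₀ ≫ ModPair.mprodι (f ≫ σ) (g ≫ σ) I J =
        π₁ ≫ ModPair.mprodι f g I J ≫ pullback.mapDesc f g σ) ∧
      ∀ φ : Y₁ ⟶ Y₀, φ ≫ π₀ ≫ ModPair.mprodι (f ≫ σ) (g ≫ σ) I J =
          π₁ ≫ ModPair.mprodι f g I J ≫ pullback.mapDesc f g σ →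
        ModPair.IsMinimal K₁ K₀ φ := by
  let A := (I.comap (ModPair.mprodι f g I J ≫ pullback.fst f g)).comap π₁
  let B := (J.comap (ModPair.mprodι f g I J ≫ pullback.snd f g)).comap π₁
  haveI : IsSchemeTheoreticallyDominant (ModPair.interior (A * B)).ι :=
    MP99.dominant_prod hX hT f g π₁ hY₁.1
  haveI := MP99.quasiCompact_prodInterior (f ≫ σ) (g ≫ σ) hX hT
  let l := π₁ ≫ ModPair.mprodι f g I J ≫ pullback.mapDesc f g σ
  have hl1 : l ≫ pullback.fst (f ≫ σ) (g ≫ σ) = π₁ ≫ ModPair.mprodι f g I J ≫ pullback.fst f g := by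
    simp only [l, pullback.mapDesc, pullback.map, Category.assoc, pullback.lift_fst, pullback.lift_snd, Category.comp_id]
  have hl2 : l ≫ pullback.snd (f ≫ σ) (g ≫ σ) = π₁ ≫ ModPair.mprodι f g I J ≫ pullback.snd f g := by
    simp only [l, pullback.mapDesc, pullback.map, Category.assoc, pullback.lift_fst, pullback.lift_snd, Category.comp_id]
  have hA : I.comap (l ≫ pullback.fst (f ≫ σ) (g ≫ σ)) = A := by
    rw [hl1, Scheme.IdealSheafData.comap_comp]
  have hB : J.comap (l ≫ pullback.snd (f ≫ σ) (g ≫ σ)) = B := by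
    rw [hl2, Scheme.IdealSheafData.comap_comp]
  have hV : ModPair.interior (A * B) ≤ l ⁻¹ᵁ ModPair.prodInterior (f ≫ σ) (g ≫ σ) I J := by
    rw [MP99.interior_mul, ← hA, ← hB, MP99.interior_comap, MP99.interior_comap]
    exact le_refl _
  obtain ⟨c, hc⟩ := MP99.exists_lift_image _ l _ hV
  have hc' : c ≫ ModPair.mprodι (f ≫ σ) (g ≫ σ) I J = l := hc
  have hC : (ModPair.prodCentre (f ≫ σ) (g ≫ σ) I J).comap c = (ModPair.prodCentre f g I J).comap π₁ := by
    simp only [ModPair.prodCentre, Scheme.IdealSheafData.comap_sup]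
    rw [← Scheme.IdealSheafData.comap_comp, ← Scheme.IdealSheafData.comap_comp, ← Category.assoc,
      ← Category.assoc, hc', hA, hB]
  obtain ⟨φ, hφ, huniq⟩ := hY₀.1.2 Y₁ c (hC ▸ hY₁.1.1)
  have key : ∀ ψ : Y₁ ⟶ Y₀, ψ ≫ π₀ ≫ ModPair.mprodι (f ≫ σ) (g ≫ σ) I J = l → ψ ≫ π₀ = c := by
    intro ψ hψ
    rw [← cancel_mono (ModPair.mprodι (f ≫ σ) (g ≫ σ) I J), hc', Category.assoc, hψ]
  refine ⟨⟨φ, ?_, fun ψ hψ => huniq ψ (key ψ hψ)⟩, fun ψ hψ => ?_⟩
  · simp only at hφ ⊢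
    rw [← Category.assoc, hφ, hc']
  · show K₁ = K₀.comap ψ
    refine (MP99.eq_of_mul_eq_mul hY₁.1.1 ?_).symm
    have h0 := congrArg (fun K => Scheme.IdealSheafData.comap K ψ) hY₀.2
    simp only [MP99.comap_mul, ← Scheme.IdealSheafData.comap_comp, key ψ hψ] at h0
    simp only [← Category.assoc] at h0
    rw [key ψ hψ, hc', hA, hB, hC] at h0
    rw [h0, hY₁.2]

end Groth.Agent.S18755
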