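import Groth.Statements.S18756
import Groth.Agent.DescCov24.Basic
-- import your own Groth.Agent.* helpers here

set_option autoImplicit false
universe u
open CategoryTheory CategoryTheory.Limits AlgebraicGeometry TopologicalSpace
open ModPair

namespace Groth.Agent.S18756

/-- Let (X_i) be a cofiltered system of schemes with affine transition morphisms such that X_{i₀} is
quasi-compact and quasi-separated for some index i₀, let X be its limit, and let {U_a ⟶ X} be an
fppf covering: a jointly surjective family of morphisms which are flat and of finite presentation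
(flat, locally of finite presentation, quasi-compact and quasi-separated). Then the covering
descends: for some index i there is a finite fppf covering {V_j ⟶ X_i}_{j < n} such that every V_j
×_{X_i} X is one of the U_a, i.e. for each j some U_{a_j} ⟶ X is the base change of V_j ⟶ X_i along
X ⟶ X_i. (The source states the same for Zariski, Nisnevich and étale coverings; only the fppf case
is given here.) -/
theorem result {I : Type u} [SmallCategory I] [IsCofiltered I]
    (D : I ⥤ Scheme.{u}) (c : Cone D) (hc : IsLimit c)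
    [∀ (i j : I) (t : i ⟶ j), IsAffineHom (D.map t)] (i₀ : I) [CompactSpace (D.obj i₀)]
    [QuasiSeparatedSpace (D.obj i₀)] {ι : Type u} (U : ι → Scheme.{u}) (u : ∀ a, U a ⟶ c.pt)
    [∀ a, Flat (u a)] [∀ a, LocallyOfFinitePresentation (u a)] [∀ a, QuasiCompact (u a)]
    [∀ a, QuasiSeparated (u a)] (hcov : ∀ x : c.pt, ∃ (a : ι) (y : U a), (u a).base y = x) :
    ∃ (i : I) (n : ℕ) (V : Fin n → Scheme.{u}) (v : ∀ j, V j ⟶ D.obj i) (a : Fin n → ι)
      (e : ∀ j, U (a j) ⟶ V j),
      (∀ j, Flat (v j) ∧ LocallyOfFinitePresentation (v j) ∧ QuasiCompact (v j) ∧ QuasiSeparated (v j)) ∧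
      (∀ x : D.obj i, ∃ (j : Fin n) (y : V j), (v j).base y = x) ∧
      ∀ j, IsPullback (e j) (u (a j)) (v j) (c.π.app i) := by
  obtain ⟨i, n, V, v, a, e, h₁, h₂, h₃⟩ :=
    Groth.Agent.DescCov24.descend_open_cover' D c (@Flat ⊓ @LocallyOfFinitePresentation) hc i₀
      (fun f hf => by haveI := hf.1; haveI := hf.2; exact f.isOpenMap)
      (fun f hf => hf.2)
      (fun i _ _ X₀ X f₀ _ _ _ q f hp hf => by
        haveI := hf.1
        obtain ⟨k, φ, Xi, Yi, fi, gi, pY, pX, hY, hX, hP⟩ :=
          Groth.Agent.Approx60.S2075 D c hc i f₀ (𝟙 _) f (𝟙 _) (c.π.app i) q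
            (IsPullback.of_vert_isIso ⟨by simp⟩) hp
        exact ⟨k, φ, Xi, Yi, fi, gi, pY, pX, hY, hX, hP,
          MorphismProperty.of_isPullback hX inferInstance⟩)
      U u (fun a => ⟨inferInstance, inferInstance⟩) hcov
  exact ⟨i, n, V, v, a, e, fun j => ⟨(h₁ j).1.1, (h₁ j).1.2, (h₁ j).2⟩, h₂, h₃⟩

end Groth.Agent.S18756
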