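import Groth.Statements.S18760
import Groth.Agent.Tors37.NoriReduced

set_option autoImplicit false
universe u
open CategoryTheory MonoidalCategory CartesianMonoidalCategory MonObj GrpObj AlgebraicGeometry
open NonAbH1

namespace Groth.Agent.S18760

/-- Let k be a field and X a proper k-scheme, connected and reduced, having a k-point x, G a finite
group scheme over k, and T → X a torsor (fppf-locally trivial) under the base change of G to X,
pointed by a k-point t lying over x. Then T is Nori-reduced, meaning that for every closed subgroup
scheme H of G and every closed subscheme V of T stable under H (the inclusion intertwining the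
actions) which is itself a torsor under the base change of H, the inclusion V → T is an isomorphism,
if and only if Γ(T, O_T) = k, in the sense that the ring map Γ(Spec k, O) → Γ(T, O_T) induced by the
structure morphism is bijective. (The intermediate equivalent condition on the functor of invariant
bundles is not included.) -/
theorem result
    (k : Type u) [Field k] (X : Scheme.{u}) [X.Over (Spec (CommRingCat.of k))]
    [IsProper (X ↘ Spec (CommRingCat.of k))] [AlgebraicGeometry.IsReduced X] [ConnectedSpace X]
    (x : Spec (CommRingCat.of k) ⟶ X) (hx : x ≫ (X ↘ Spec (CommRingCat.of k)) = 𝟙 _)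
    (G : Over (Spec (CommRingCat.of k))) [GrpObj G] [IsFinite G.hom]
    (T : Over X) (a : AlgGrp.Action (Red.bc (X ↘ Spec (CommRingCat.of k)) G) T)
    (hT : NonAbH1.IsTorsorFor Scheme.fppfPrecoverage a)
    (t : Spec (CommRingCat.of k) ⟶ T.left) (ht : t ≫ T.hom = x) :
    (∀ (H : Over (Spec (CommRingCat.of k))) [GrpObj H] (i : H ⟶ G) [IsMonHom i] [IsClosedImmersion i.left]
        (V : Over X) (j : V ⟶ T) [IsClosedImmersion j.left]
        (b : AlgGrp.Action (Red.bc (X ↘ Spec (CommRingCat.of k)) H) V),
        NonAbH1.IsTorsorFor Scheme.fppfPrecoverage b →
        AlgGrp.Action.IsEquivariant b (a.restrict ((Over.pullback (X ↘ Spec (CommRingCat.of k))).map i)) j →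
        IsIso j) ↔
      Function.Bijective (T.hom ≫ (X ↘ Spec (CommRingCat.of k))).appTop.hom := by
  have hxs : t ≫ T.hom ≫ (X ↘ Spec (CommRingCat.of k)) = 𝟙 _ := by
    rw [← Category.assoc, ht, hx]
  have : CompactSpace X := QuasiCompact.compactSpace_of_compactSpace (X ↘ Spec (CommRingCat.of k))
  constructor
  · intro h
    exact Groth.Agent.Tors37.bijective_of_forall_subtorsor a hT t hxs h
  · intro hb H _ i _ _ V j _ b hbt hj
    exact Groth.Agent.Tors37.isIso_subtorsor_of_bijective a hT hb H i V j b hbt hj

end Groth.Agent.S18760
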