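import Groth.Statements.S18761
import Groth.Agent.AlgGrp33.DescSub
import Groth.Agent.AlgGrp33.AffineProper
import Groth.Agent.AlgGrp79.Image
-- import your own Groth.Agent.* helpers here

set_option autoImplicit false
universe u
open CategoryTheory MonoidalCategory CartesianMonoidalCategory MonObj GrpObj AlgebraicGeometry
open AlgGrp

namespace Groth.Agent.S18761

open Groth.Agent.AlgGrp79

/-- Let k be an algebraically closed field, S a smooth, proper and integral curve over k (integral,
smooth and proper over k of dimension one), G a finite group scheme over k, and H a closed subgroup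
scheme of the base change G_S = G ×_k S whose structure morphism H → S is faithfully flat, such that
the direct image of O_H on S is locally free of rank m and its space of global sections, that is
Γ(H, O_H), has dimension exactly m over k. Then H descends to k: there are a group scheme H' over k,
a homomorphism H' → G which is a closed immersion, and an isomorphism of S-group schemes H ≅ H' ×_k
S carrying the inclusion of H into G_S to the base change of H' → G; moreover the induced ring map
Γ(H', O) → Γ(H, O_H) is bijective, so that H' is the spectrum of Γ(H, O_H). -/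
theorem result
    (k : Type u) [Field k] [IsAlgClosed k] (S : Scheme.{u}) [S.Over (Spec (CommRingCat.of k))]
    [IsIntegral S] [IsProper (S ↘ Spec (CommRingCat.of k))] [Smooth (S ↘ Spec (CommRingCat.of k))]
    (hdim : topologicalKrullDim S = 1)
    (G : Over (Spec (CommRingCat.of k))) [GrpObj G] [IsFinite G.hom]
    (H : Over S) [GrpObj H] (i : H ⟶ Red.bc (S ↘ Spec (CommRingCat.of k)) G) [IsMonHom i]
    [IsClosedImmersion i.left] [Flat H.hom] [Surjective H.hom] (m : ℕ)
    (hE : FlatMod.IsFinLocFreeOfRank m ((Coh.push H.hom).obj (Coh.structureModule H.left)))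
    (hh0 : Module.finrank k (Coh.HH S ((Coh.push H.hom).obj (Coh.structureModule H.left)) 0) = m) :
    ∃ (H' : Grp (Over (Spec (CommRingCat.of k)))) (j : H'.X ⟶ G), IsMonHom j ∧ IsClosedImmersion j.left ∧
      ∃ e : H ≅ Red.bc (S ↘ Spec (CommRingCat.of k)) H'.X, IsMonHom e.hom ∧
        e.hom ≫ (Over.pullback (S ↘ Spec (CommRingCat.of k))).map j = i ∧
        Function.Bijective (e.hom.left ≫ Limits.pullback.fst H'.X.hom (S ↘ Spec (CommRingCat.of k))).appTop.hom := by
  let t : S ⟶ Spec (CommRingCat.of k) := S ↘ Spec (CommRingCat.of k)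
  have hi : i.left ≫ Limits.pullback.snd G.hom t = H.hom := Over.w i
  have : Surjective (i.left ≫ Limits.pullback.snd G.hom t) := hi ▸ ‹Surjective H.hom›
  obtain ⟨j₀, hj₀, hj₁, hsq⟩ := AlgGrp33.DescSub.main t G.hom i.left m (by rw [hi]; exact hE) (by
    rw [hi]; exact hh0)
  rw [hi] at hsq
  let X' : Over (Spec (CommRingCat.of k)) := Over.mk (j₀ ≫ G.hom)
  let j : X' ⟶ G := Over.homMk j₀ rfl
  have : IsClosedImmersion j.left := hj₀
  have := Over.mono_of_mono_left j
  let e : H ≅ Red.bc t X' := Over.isoMk hsq.isoPullback hsq.isoPullback_hom_snd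
  have he : e.hom ≫ (Over.pullback t).map j = i := by
    apply Over.OverMorphism.ext
    show hsq.isoPullback.hom ≫ ((Over.pullback t).map j).left = i.left
    apply Limits.pullback.hom_ext
    · have e2 : ((Over.pullback t).map j).left ≫ Limits.pullback.fst G.hom t = Limits.pullback.fst X'.hom t ≫ j₀ :=
        Limits.pullback.lift_fst _ _ _
      exact (Category.assoc _ _ _).trans ((congrArg (hsq.isoPullback.hom ≫ ·) e2).trans
        ((hsq.isoPullback_hom_fst_assoc j₀).trans hj₁))
    · have e3 : ((Over.pullback t).map j).left ≫ Limits.pullback.snd G.hom t = Limits.pullback.snd X'.hom t :=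
        Limits.pullback.lift_snd _ _ _
      exact (Category.assoc _ _ _).trans ((congrArg (hsq.isoPullback.hom ≫ ·) e3).trans
        (hsq.isoPullback_hom_snd.trans hi.symm))
  obtain ⟨x, -, hxc⟩ : ∃ x : S, x ∈ (Set.univ : Set S) ∧ x ∈ closedPoints S :=
    have : JacobsonSpace S := LocallyOfFiniteType.jacobsonSpace t
    nonempty_inter_closedPoints Set.univ_nonempty isOpen_univ.isLocallyClosed
  let σ := pointOfClosedPoint t x hxc
  have hσ : σ ≫ t = 𝟙 _ := pointOfClosedPoint_comp t x hxc
  have fac : ∀ (T : Over (Spec (CommRingCat.of k))) (g : T ⟶ G) (z : (Over.pullback t).obj T ⟶ H),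
      (Over.pullback t).map g = z ≫ i → ∃ g' : T ⟶ X', g' ≫ j = g := fun T g z hz => by
    let s : T.left ⟶ ((Over.pullback t).obj T).left :=
      Limits.pullback.lift (𝟙 T.left) (T.hom ≫ σ) (by rw [Category.assoc, hσ, Category.comp_id, Category.id_comp])
    let z' := (z ≫ e.hom).left ≫ Limits.pullback.fst X'.hom t
    have hz' : z' ≫ j₀ = Limits.pullback.fst T.hom t ≫ g.left := by
      have h := congrArg (fun φ => φ.left ≫ Limits.pullback.fst G.hom t) (hz.trans (congrArg (z ≫ ·) he.symm))
      simp only [Over.comp_left, Category.assoc] at h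
      have e1 : ((Over.pullback t).map g).left ≫ Limits.pullback.fst G.hom t = Limits.pullback.fst T.hom t ≫ g.left :=
        Limits.pullback.lift_fst _ _ _
      have e2 : ((Over.pullback t).map j).left ≫ Limits.pullback.fst G.hom t = Limits.pullback.fst X'.hom t ≫ j₀ :=
        Limits.pullback.lift_fst _ _ _
      rw [e1, e2] at h
      simpa only [z', Over.comp_left, Category.assoc] using h.symm
    have hs : (s ≫ z') ≫ j₀ = g.left := by
      rw [Category.assoc, hz', ← Category.assoc, Limits.pullback.lift_fst, Category.id_comp]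
    exact ⟨Over.homMk (s ≫ z') (by
      show (s ≫ z') ≫ j₀ ≫ G.hom = T.hom
      rw [← Category.assoc, hs, Over.w]), Over.OverMorphism.ext hs⟩
  obtain ⟨_, hjm⟩ := exists_grpObj_closed j (fac _ η[G] 1 (by
      rw [MonObj.one_comp, show (η[G] : 𝟙_ _ ⟶ G) = 1 by simp [Hom.one_def], Functor.map_one]))
    fun T a b => by
      let a' := (Over.pullback t).map a ≫ e.inv
      let b' := (Over.pullback t).map b ≫ e.inv
      have h1 : ∀ c : T ⟶ X', ((Over.pullback t).map c ≫ e.inv) ≫ i = (Over.pullback t).map (c ≫ j) := fun c => by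
        rw [← he, Category.assoc, e.inv_hom_id_assoc, ← Functor.map_comp]
      exact fac T _ (a'⁻¹ * b') (by
        rw [mul_comp', GrpObj.inv_comp, h1, h1, Functor.map_mul, Functor.map_inv'])
  refine ⟨Grp.mk X', j, hjm, ‹_›, e, ?_, he, ?_⟩
  · have : Mono ((Over.pullback t).map j) := inferInstance
    exact AlgGrp33.AffineProper.isMonHom_of_mono' e.hom ((Over.pullback t).map j) i he
  · show Function.Bijective (hsq.isoPullback.hom ≫ Limits.pullback.fst (j₀ ≫ G.hom) t).appTop.hom
    rw [hsq.isoPullback_hom_fst, Scheme.toSpecΓ_appTop]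
    exact ConcreteCategory.bijective_of_isIso (Scheme.ΓSpecIso _).hom

end Groth.Agent.S18761
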