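import Groth.Statements.S18762
import Groth.Statements.S18762
import Groth.Agent.Sga84.TorsorExact
import Groth.Agent.Sga84.TorsorDesc
import Groth.Agent.Unr55.DescProps
import Mathlib.AlgebraicGeometry.Morphisms.FlatDescent
import Mathlib.AlgebraicGeometry.Morphisms.UniversallyOpen

set_option autoImplicit false
universe u
open CategoryTheory CategoryTheory.Limits MonoidalCategory CartesianMonoidalCategory MonObj GrpObj AlgebraicGeometry
open NonAbH1

namespace Groth.Agent.S18762

/-- Let X be a connected scheme over a field k with a rational point x, let G, G₁, G₂ be finite group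
schemes over k with homomorphisms φ₁ : G₁ → G and φ₂ : G₂ → G, and let T, T₁, T₂ be torsors over X
(fppf-locally trivial) under the base changes to X of G, G₁, G₂ respectively, each pointed by a
k-point lying over x. Let f₁ : T₁ → T and f₂ : T₂ → T be morphisms of pointed torsors: X-morphisms
which intertwine the actions along φ₁, φ₂ and send the marked points of T₁, T₂ to that of T. Then
the fibre product T₁ ×_T T₂ maps surjectively onto X. (The published statement assumes X also
quasi-compact and reduced and concludes that T₁ ×_T T₂ is a torsor over X; this row assumes only X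
connected and concludes that T₁ ×_T T₂ maps onto X.) -/
theorem result
    (k : Type u) [Field k] (X : Scheme.{u}) [X.Over (Spec (CommRingCat.of k))] [ConnectedSpace X]
    (x : Spec (CommRingCat.of k) ⟶ X) (hx : x ≫ (X ↘ Spec (CommRingCat.of k)) = 𝟙 _)
    (G G₁ G₂ : Over (Spec (CommRingCat.of k))) [GrpObj G] [GrpObj G₁] [GrpObj G₂]
    [IsFinite G.hom] [IsFinite G₁.hom] [IsFinite G₂.hom]
    (φ₁ : G₁ ⟶ G) (φ₂ : G₂ ⟶ G) [IsMonHom φ₁] [IsMonHom φ₂]
    (T T₁ T₂ : Over X)
    (a : AlgGrp.Action (Red.bc (X ↘ Spec (CommRingCat.of k)) G) T)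
    (a₁ : AlgGrp.Action (Red.bc (X ↘ Spec (CommRingCat.of k)) G₁) T₁)
    (a₂ : AlgGrp.Action (Red.bc (X ↘ Spec (CommRingCat.of k)) G₂) T₂)
    (hT : NonAbH1.IsTorsorFor Scheme.fppfPrecoverage a)
    (hT₁ : NonAbH1.IsTorsorFor Scheme.fppfPrecoverage a₁)
    (hT₂ : NonAbH1.IsTorsorFor Scheme.fppfPrecoverage a₂)
    (t : Spec (CommRingCat.of k) ⟶ T.left) (t₁ : Spec (CommRingCat.of k) ⟶ T₁.left)
    (t₂ : Spec (CommRingCat.of k) ⟶ T₂.left)
    (ht : t ≫ T.hom = x) (ht₁ : t₁ ≫ T₁.hom = x) (ht₂ : t₂ ≫ T₂.hom = x)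
    (f₁ : T₁ ⟶ T) (f₂ : T₂ ⟶ T)
    (hf₁ : AlgGrp.Action.IsEquivariant a₁ (a.restrict ((Over.pullback (X ↘ Spec (CommRingCat.of k))).map φ₁)) f₁)
    (hf₂ : AlgGrp.Action.IsEquivariant a₂ (a.restrict ((Over.pullback (X ↘ Spec (CommRingCat.of k))).map φ₂)) f₂)
    (hft₁ : t₁ ≫ f₁.left = t) (hft₂ : t₂ ≫ f₂.left = t) :
    Surjective (pullback f₁ f₂).hom := by
  let s := X ↘ Spec (CommRingCat.of k)
  have hprops : ∀ (H : Over (Spec (CommRingCat.of k))) [GrpObj H] [IsFinite H.hom] (P : Over X)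
      (b : AlgGrp.Action (Red.bc s H) P), NonAbH1.IsTorsorFor Scheme.fppfPrecoverage b →
      IsFinite P.hom ∧ Flat P.hom ∧ LocallyOfFinitePresentation P.hom := by
    intro H _ _ P b hb
    obtain ⟨hps, R, hR, hsec⟩ := hb
    have hb' : NonAbH1.IsTorsorFor Scheme.fpqcPrecoverage b :=
      ⟨hps, R, Scheme.fppfPrecoverage_le_fpqcPrecoverage _ hR, hsec⟩
    have : LocallyOfFinitePresentation H.hom := inferInstance
    have := Groth.Agent.Unr55.isFinite.{u}
    have := Groth.Agent.Sga84.flat_descendsAlong.{u}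
    have : MorphismProperty.DescendsAlong @LocallyOfFinitePresentation Groth.Agent.Unr55.fpqc.{u} := by
      infer_instance
    exact ⟨Groth.Agent.Sga84.hom_of_isTorsorFor @IsFinite (MorphismProperty.pullback_snd (P := @IsFinite) H.hom s inferInstance) hb',
      Groth.Agent.Sga84.hom_of_isTorsorFor @Flat (MorphismProperty.pullback_snd (P := @Flat) H.hom s inferInstance) hb',
      Groth.Agent.Sga84.hom_of_isTorsorFor @LocallyOfFinitePresentation
        (MorphismProperty.pullback_snd (P := @LocallyOfFinitePresentation) H.hom s inferInstance) hb'⟩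
  obtain ⟨_, _, _⟩ := hprops G₁ T₁ a₁ hT₁
  obtain ⟨_, _, _⟩ := hprops G₂ T₂ a₂ hT₂
  obtain ⟨ξ, hξ, huniq⟩ := Groth.Agent.Sga84.existsUnique_actPt a hT.1 (fst T₁ T₂ ≫ f₁) (snd T₁ T₂ ≫ f₂)
  have huniq' : ∀ {Z : Over X} (m : Z ⟶ T₁ ⊗ T₂), m ≫ fst T₁ T₂ ≫ f₁ = m ≫ snd T₁ T₂ ≫ f₂ ↔
      m ≫ ξ = 1 := by
    intro Z m
    have h := congrArg (m ≫ ·) hξ
    rw [Groth.Agent.Sga84.comp_actPt] at h
    obtain ⟨ζ, -, hu⟩ := Groth.Agent.Sga84.existsUnique_actPt a hT.1 (m ≫ fst T₁ T₂ ≫ f₁) (m ≫ snd T₁ T₂ ≫ f₂)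
    constructor
    · intro e
      rw [hu _ h, hu 1 ((AlgGrp.Action.lift_one_act a _).trans e)]
    · intro e
      rw [e] at h
      exact (AlgGrp.Action.lift_one_act a _).symm.trans h
  let j : Limits.pullback f₁ f₂ ⟶ T₁ ⊗ T₂ := lift (pullback.fst f₁ f₂) (pullback.snd f₁ f₂)
  have hj : j ≫ ξ = 1 := (huniq' j).mp (by
    rw [lift_fst_assoc, lift_snd_assoc]; exact pullback.condition)
  let pr : (Red.bc s G).left ⟶ G.left := pullback.fst G.hom s
  let e : G.left := (MonObj.one (X := G)).left (IsLocalRing.closedPoint k)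
  let μ' : (T₁ ⊗ T₂).left ⟶ G.left := ξ.left ≫ pr
  let oneX : X ⟶ (Red.bc s G).left := pullback.lift (s ≫ (MonObj.one (X := G)).left) (𝟙 X) (by
    rw [Category.assoc, Over.w (MonObj.one (X := G)), Category.id_comp]; exact Category.comp_id _)
  have hone : ∀ (Z : Over X), (1 : Z ⟶ Red.bc s G).left = Z.hom ≫ oneX := by
    intro Z
    refine pullback.hom_ext ?_ ((Over.w (1 : Z ⟶ Red.bc s G)).trans ?_)
    · rw [Hom.one_def, Category.assoc, pullback.lift_fst]
      have h0 : inv (pullback.snd (𝟙 (Spec (CommRingCat.of k))) s) ≫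
          pullback.fst (𝟙 (Spec (CommRingCat.of k))) s = s := by
        rw [IsIso.inv_comp_eq, ← pullback.condition, Category.comp_id]
      show (toUnit Z ≫ MonObj.one (X := Red.bc s G)).left ≫ pullback.fst G.hom s = _
      rw [← reassoc_of% h0]
      simp [Over.ε_pullback_left]
      show Z.hom ≫ inv (pullback.snd (𝟙 (Spec (CommRingCat.of k))) s) ≫
        pullback.lift (pullback.fst (𝟙 (Spec (CommRingCat.of k))) s ≫ (MonObj.one (X := G)).left)
          (pullback.snd (𝟙 (Spec (CommRingCat.of k))) s) _ ≫ pullback.fst G.hom s = _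
      rw [pullback.lift_fst, reassoc_of% h0]
    · rw [Category.assoc, pullback.lift_snd, Category.comp_id]
  have hpb : IsPullback oneX s pr (MonObj.one (X := G)).left := by
    refine IsPullback.of_right (h₁₂ := pullback.snd G.hom s) (h₂₂ := G.hom) (v₁₃ := s) ?_
      (pullback.lift_fst _ _ _) (IsPullback.of_hasPullback G.hom s).flip
    rw [pullback.lift_snd, Over.w (MonObj.one (X := G))]
    show IsPullback (𝟙 X) s s (𝟙 (Spec (CommRingCat.of k)))
    exact IsPullback.of_horiz_isIso (snd := s) ⟨Category.id_comp _ |>.trans (Category.comp_id _).symm⟩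
  have hrange : Set.range j.left = μ' ⁻¹' {e} := by
    ext z
    constructor
    · rintro ⟨w, rfl⟩
      show (j.left ≫ ξ.left ≫ pr) w = e
      rw [← Category.assoc, show j.left ≫ ξ.left = (j ≫ ξ).left from rfl, hj, hone, Category.assoc,
        pullback.lift_fst, ← Category.assoc, Scheme.Hom.comp_apply]
      exact congrArg _ (Subsingleton.elim (α := Spec (CommRingCat.of k)) _ _)
    · intro hz
      obtain ⟨w, hw⟩ : ξ.left z ∈ Set.range oneX := by
        obtain ⟨v, hv, -⟩ := Scheme.Pullback.exists_preimage_pullback (f := pr) (g := (MonObj.one (X := G)).left)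
          (ξ.left z) (IsLocalRing.closedPoint k) hz
        exact ⟨hpb.isoPullback.inv v, by rw [← Scheme.Hom.comp_apply, hpb.isoPullback_inv_fst]; exact hv⟩
      obtain ⟨v, hv, -⟩ := Scheme.Pullback.exists_preimage_pullback (f := ξ.left) (g := oneX) z w hw.symm
      let Z : Over X := Over.mk (pullback.fst ξ.left oneX ≫ (T₁ ⊗ T₂).hom)
      let m : Z ⟶ T₁ ⊗ T₂ := Over.homMk (pullback.fst ξ.left oneX)
      have hm : m ≫ ξ = 1 := by
        apply Over.OverMorphism.ext
        rw [hone]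
        show pullback.fst ξ.left oneX ≫ ξ.left = (pullback.fst ξ.left oneX ≫ (T₁ ⊗ T₂).hom) ≫ oneX
        have hos : oneX ≫ (Red.bc s G).hom = 𝟙 X := pullback.lift_snd _ _ _
        rw [pullback.condition, ← Over.w ξ, ← Category.assoc (pullback.fst ξ.left oneX), pullback.condition,
          Category.assoc, Category.assoc, reassoc_of% hos]
      let l : Z ⟶ Limits.pullback f₁ f₂ := pullback.lift (m ≫ fst T₁ T₂) (m ≫ snd T₁ T₂) (by
        rw [Category.assoc, Category.assoc]; exact (huniq' m).mpr hm)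
      have hl : l ≫ j = m := by
        rw [comp_lift, pullback.lift_fst, pullback.lift_snd, ← comp_lift, lift_fst_snd, Category.comp_id]
      refine ⟨l.left v, ?_⟩
      rw [← Scheme.Hom.comp_apply, ← Over.comp_left, hl]
      exact hv
  have : Finite G.left := by
    refine Set.finite_univ_iff.1 ((IsFinite.finite_preimage_singleton G.hom (IsLocalRing.closedPoint k)).subset
      fun _ _ => Subsingleton.elim (α := Spec (CommRingCat.of k)) _ _)
  have : JacobsonSpace G.left := LocallyOfFiniteType.jacobsonSpace G.hom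
  have : DiscreteTopology G.left := inferInstance
  have hclopen : IsClopen (μ' ⁻¹' {e}) :=
    ⟨(isClosed_discrete _).preimage μ'.continuous, (isOpen_discrete _).preimage μ'.continuous⟩
  let p : (T₁ ⊗ T₂).left ⟶ X := pullback.fst T₁.hom T₂.hom ≫ T₁.hom
  have : IsFinite (pullback.fst T₁.hom T₂.hom) := MorphismProperty.pullback_fst _ _ ‹IsFinite T₂.hom›
  have : IsFinite p := inferInstanceAs (IsFinite (pullback.fst T₁.hom T₂.hom ≫ T₁.hom))
  have : UniversallyOpen p := by
    have : Flat p := inferInstanceAs (Flat (pullback.fst T₁.hom T₂.hom ≫ T₁.hom))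
    have : LocallyOfFinitePresentation p :=
      inferInstanceAs (LocallyOfFinitePresentation (pullback.fst T₁.hom T₂.hom ≫ T₁.hom))
    infer_instance
  have himg : p '' (μ' ⁻¹' {e}) = Set.univ := by
    refine IsClopen.eq_univ ⟨p.isClosedMap _ hclopen.1, p.isOpenMap _ hclopen.2⟩ ?_
    let l : Over.mk x ⟶ Limits.pullback f₁ f₂ := pullback.lift (Over.homMk t₁ ht₁) (Over.homMk t₂ ht₂)
      (Over.OverMorphism.ext (hft₁.trans hft₂.symm))
    refine Set.Nonempty.image _ ⟨j.left (l.left (IsLocalRing.closedPoint k)), ?_⟩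
    rw [← hrange]
    exact ⟨_, rfl⟩
  refine ⟨fun y => ?_⟩
  obtain ⟨z, hz, rfl⟩ : y ∈ p '' (μ' ⁻¹' {e}) := himg ▸ Set.mem_univ y
  rw [← hrange] at hz
  obtain ⟨w, rfl⟩ := hz
  refine ⟨w, ?_⟩
  rw [← Over.w j, Scheme.Hom.comp_apply]
  rfl

end Groth.Agent.S18762
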