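import Groth.Statements.S18763
import Groth.Agent.AlgGrp79.Act
import Groth.Agent.AlgGrp79.Pullback
import Groth.Agent.AlgGrp79.Cover
import Groth.Agent.AlgGrp79.ActKer

set_option autoImplicit false
universe u
open CategoryTheory CategoryTheory.Limits MonoidalCategory CartesianMonoidalCategory MonObj GrpObj AlgebraicGeometry
open AlgGrp

namespace Groth.Agent.S18763
open Groth.Agent.AlgGrp79 CategoryTheory.Limits
open scoped commutatorElement

/-- Let G be a finite group scheme over a field k and H a closed subgroup scheme of G, and let (Q, q₀)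
with its G-action be the homogeneous space G/H for the fppf topology (the orbit map of q₀ is an fppf
H-torsor onto Q). Let N be a closed subgroup scheme of G which is the kernel of the action of G on
Q: a point g of G with values in a k-scheme T factors through N exactly when g acts as the identity
on all points of Q with values in T-schemes. Then N (the core of H in G) is normal in G, is
contained in H, and contains every closed normal subgroup scheme of G which is contained in H. (The
published definition takes the core to be the kernel of the linear representation of G on the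
coordinate ring of G/H; this is the same subgroup as the kernel of the action on G/H used here.) -/
theorem result
    (k : Type u) [Field k]
    (G : Over (Spec (CommRingCat.of k))) [GrpObj G] [IsFinite G.hom]
    (H : Over (Spec (CommRingCat.of k))) [GrpObj H] (i : H ⟶ G) [IsMonHom i] [IsClosedImmersion i.left]
    (Q : Over (Spec (CommRingCat.of k))) (aQ : AlgGrp.Action G Q) (q₀ : 𝟙_ (Over (Spec (CommRingCat.of k))) ⟶ Q)
    (hQ : ChGrp.IsHomog Scheme.fppfPrecoverage i aQ q₀)
    (N : Over (Spec (CommRingCat.of k))) [GrpObj N] (n : N ⟶ G) [IsMonHom n] [IsClosedImmersion n.left]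
    (hN : ∀ (T : Over (Spec (CommRingCat.of k))) (g : T ⟶ G),
      (∃ g' : T ⟶ N, g' ≫ n = g) ↔
        ∀ (T' : Over (Spec (CommRingCat.of k))) (v : T' ⟶ T) (q : T' ⟶ Q), lift (v ≫ g) q ≫ aQ.act = q) :
    AlgGrp.IsNormalHom n ∧ (∃ m : N ⟶ H, m ≫ i = n) ∧
      ∀ (N' : Over (Spec (CommRingCat.of k))) [GrpObj N'] (n' : N' ⟶ G) [IsMonHom n'] [IsClosedImmersion n'.left],
        AlgGrp.IsNormalHom n' → (∃ m' : N' ⟶ H, m' ≫ i = n') → ∃ r : N' ⟶ N, r ≫ n = n' := by
  obtain ⟨-, hpb, R, hR, hsec⟩ := hQ
  obtain ⟨h1, h2, h3⟩ := kernel_action_normal_largest aQ q₀ hpb (fun T x α β h => by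
    apply Over.OverMorphism.ext
    have hmem := Scheme.fppfPrecoverage.{u}.toGrothendieck.pullback_stable x.left
      (Precoverage.generate_mem_toGrothendieck hR)
    refine ((GrothendieckTopology.Subcanonical.isSheaf_of_isRepresentable
      (J := Scheme.fppfPrecoverage.{u}.toGrothendieck) (yoneda.obj Q.left)) _ hmem).isSeparatedFor.ext ?_
    intro W f hf
    obtain ⟨S', f1, f2, hf2, hcomp⟩ := hf
    obtain ⟨s, hs⟩ := hsec f2 hf2
    have hs' : (f1 ≫ s) ≫ (aQ.orbitMap q₀).left = f ≫ x.left := by
      rw [Category.assoc, ← hcomp]; exact congrArg (f1 ≫ ·) hs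
    have hw : (f1 ≫ s) ≫ G.hom = (Over.mk (f ≫ T.hom)).hom := by
      have := congrArg (· ≫ Q.hom) hs'
      simpa using this
    exact congr($(h (Over.mk (f ≫ T.hom)) (Over.homMk f) (Over.homMk (f1 ≫ s) hw) (by ext; exact hs')).left)) n hN
  exact ⟨h1, h2, fun N' _ n' _ _ hn hf => h3 N' n' hn hf⟩
end Groth.Agent.S18763
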