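import Groth.Statements.S6266
import Mathlib

set_option autoImplicit false
set_option linter.style.haveILetI false
set_option linter.style.longLine false
universe u
open scoped TensorProduct
open CAlg

namespace Groth.Agent.S6266

open scoped TensorProduct
theorem rank_eq {R : Type u} [CommRing R] (M : Type u) [AddCommGroup M] [Module R M] [Module.Finite R M]
    [Module.Flat R M] (p : PrimeSpectrum R) :
    Module.rankAtStalk M p = Module.finrank p.asIdeal.ResidueField (p.asIdeal.ResidueField ⊗[R] M) := by
  haveI : Module.Free (Localization.AtPrime p.asIdeal) (Localization.AtPrime p.asIdeal ⊗[R] M) :=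
    Module.free_of_flat_of_isLocalRing
  rw [Module.rankAtStalk_eq_finrank_tensorProduct,
    ← Module.finrank_baseChange (R := p.asIdeal.ResidueField)]
  exact (TensorProduct.AlgebraTensorModule.cancelBaseChange R (Localization.AtPrime p.asIdeal)
    p.asIdeal.ResidueField p.asIdeal.ResidueField M).finrank_eq

theorem exists_gen {R : Type u} [CommRing R] (M : Type u) [AddCommGroup M] [Module R M] [Module.Finite R M]
    (p : PrimeSpectrum R) :
    ∃ n : ℕ, Module.finrank p.asIdeal.ResidueField (p.asIdeal.ResidueField ⊗[R] M) = n ∧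
      ∃ φ : (Fin n → R) →ₗ[R] M, Function.Surjective (φ.lTensor p.asIdeal.ResidueField) := by
  let κ := p.asIdeal.ResidueField
  have hspan : Submodule.span κ (Set.range (TensorProduct.mk R κ M 1)) = ⊤ := by
    rw [eq_top_iff]
    intro z hz
    clear hz
    induction z with
    | zero => simp
    | tmul c m =>
      rw [show c ⊗ₜ[R] m = c • ((1 : κ) ⊗ₜ[R] m) by rw [TensorProduct.smul_tmul', smul_eq_mul, mul_one]]
      exact Submodule.smul_mem _ _ (Submodule.subset_span ⟨m, rfl⟩)
    | add a b ha hb => exact add_mem ha hb
  obtain ⟨b, hbr, hbs, hbi⟩ := exists_linearIndependent κ (Set.range (TensorProduct.mk R κ M 1))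
  rw [hspan] at hbs
  let B := Module.Basis.mk hbi (by rw [Subtype.range_coe]; exact hbs.ge)
  haveI : Finite b := Module.Finite.finite_basis B
  haveI := Fintype.ofFinite b
  have hcard : Fintype.card b = Module.finrank κ (κ ⊗[R] M) := (Module.finrank_eq_card_basis B).symm
  let e := (Fintype.equivFinOfCardEq hcard)
  choose x hx using fun i => hbr (e.symm i).2
  let φ := Fintype.linearCombination R x
  refine ⟨_, rfl, φ, ?_⟩
  suffices h : ∀ z ∈ Submodule.span κ b, z ∈ LinearMap.range (φ.baseChange κ) from
    fun z => h z (hbs ▸ trivial)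
  intro z hz
  refine Submodule.span_le.2 (fun w hw => ?_) hz
  refine ⟨(1 : κ) ⊗ₜ Pi.single (e ⟨w, hw⟩) 1, ?_⟩
  rw [LinearMap.baseChange_tmul, Fintype.linearCombination_apply_single, one_smul]
  have := hx (e ⟨w, hw⟩)
  rw [Equiv.symm_apply_apply] at this
  exact this

/-- Let R be a reduced ring and M an R-module. Then M is a finite projective R-module if and only if M
is finitely generated and the function on Spec R sending a prime p to the dimension of κ(p) ⊗ M over
the residue field κ(p) is locally constant for the Zariski topology. -/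
theorem result (R : Type u) [CommRing R] [IsReduced R] (M : Type u) [AddCommGroup M] [Module R M] : (Module.Finite R M ∧ Module.Projective R M) ↔ (Module.Finite R M ∧ IsLocallyConstant (fun p : PrimeSpectrum R => Module.finrank p.asIdeal.ResidueField (p.asIdeal.ResidueField ⊗[R] M))) := by
  constructor
  · rintro ⟨h1, h2⟩
    haveI := Module.finitePresentation_of_projective R M
    refine ⟨h1, ?_⟩
    have : (fun p : PrimeSpectrum R => Module.finrank p.asIdeal.ResidueField (p.asIdeal.ResidueField ⊗[R] M)) =
        Module.rankAtStalk M := funext fun p => (rank_eq M p).symm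
    rw [this]
    exact Module.isLocallyConstant_rankAtStalk
  rintro ⟨hfin, hlc⟩
  refine ⟨hfin, ?_⟩
  let s : Set R := {f | ∃ (n : ℕ) (φ : (Fin n → R) →ₗ[R] M), Function.Bijective (LocalizedModule.map (Submonoid.powers f) φ)}
  have hloc : ∀ p : PrimeSpectrum R, ∃ f ∈ s, f ∉ p.asIdeal := by
    intro p
    obtain ⟨n, hn, φ, hφ⟩ := exists_gen M p
    let V := {q : PrimeSpectrum R | q ∉ Module.support R (M ⧸ LinearMap.range φ) ∧
      Module.finrank q.asIdeal.ResidueField (q.asIdeal.ResidueField ⊗[R] M) = n}
    have hns : ∀ q, Function.Surjective (φ.lTensor q.asIdeal.ResidueField) ↔ q ∉ Module.support R (M ⧸ LinearMap.range φ) := by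
      intro q
      rw [Module.mem_support_iff_nontrivial_residueField_tensorProduct, not_nontrivial_iff_subsingleton]
      have h1 := lTensor_exact q.asIdeal.ResidueField φ.exact_map_mkQ_range (Submodule.mkQ_surjective _)
      constructor
      · intro h
        refine subsingleton_of_forall_eq 0 fun z => ?_
        obtain ⟨y, rfl⟩ := LinearMap.lTensor_surjective q.asIdeal.ResidueField (Submodule.mkQ_surjective (LinearMap.range φ)) z
        exact (h1 y).2 (h y)
      · intro h y
        exact (h1 y).1 (Subsingleton.elim _ _)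
    have hV : IsOpen V := Module.isClosed_support.isOpen_compl.inter (hlc.isOpen_fiber n)
    obtain ⟨_, ⟨f, rfl⟩, hfp, hsub⟩ := PrimeSpectrum.isTopologicalBasis_basic_opens.exists_subset_of_mem_open
      (show p ∈ V from ⟨(hns p).1 hφ, hn⟩) hV
    refine ⟨f, ⟨n, φ, ?_, ?_⟩, hfp⟩
    · rw [injective_iff_map_eq_zero]
      intro z hz
      induction z using LocalizedModule.induction_on with
      | h v t =>
        rw [LocalizedModule.map_mk, ← LocalizedModule.zero_mk t, LocalizedModule.mk_eq] at hz
        obtain ⟨⟨_, k, rfl⟩, hk⟩ := hz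
        simp only [Submonoid.smul_def, smul_zero] at hk
        rw [← LocalizedModule.zero_mk t, LocalizedModule.mk_eq]
        refine ⟨⟨f ^ (k + 1), k + 1, rfl⟩, ?_⟩
        simp only [Submonoid.smul_def, smul_zero]
        funext i
        refine IsNilpotent.eq_zero (nilpotent_iff_mem_prime.2 fun Q hQ => ?_)
        by_cases hfQ : f ∈ Q
        · show f ^ (k + 1) * ((t : R) * v i) ∈ Q
          exact Q.mul_mem_right _ (Q.pow_mem_of_mem hfQ _ (by omega))
        obtain ⟨h1, h2⟩ := hsub (show (⟨Q, hQ⟩ : PrimeSpectrum R) ∈ PrimeSpectrum.basicOpen f from hfQ)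
        let κ := (⟨Q, hQ⟩ : PrimeSpectrum R).asIdeal.ResidueField
        have hinj : Function.Injective (φ.baseChange κ) :=
          (LinearMap.injective_iff_surjective_of_finrank_eq_finrank (by
            rw [h2, (TensorProduct.piScalarRight R κ κ (Fin n)).finrank_eq, Module.finrank_fin_fun])).2 ((hns ⟨Q, hQ⟩).2 h1)
        have h3 : (1 : κ) ⊗ₜ[R] (f ^ k • (t : R) • v) = 0 := hinj (by
          rw [LinearMap.baseChange_tmul, map_smul, map_smul, hk, TensorProduct.tmul_zero, map_zero])
        have h4 := congrFun (congrArg (TensorProduct.piScalarRight R κ κ (Fin n)) h3) i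
        simp only [TensorProduct.piScalarRight_apply, TensorProduct.piScalarRightHom_tmul, map_zero, Pi.zero_apply, Pi.smul_apply, smul_eq_mul] at h4
        rw [← Algebra.algebraMap_eq_smul_one, Ideal.algebraMap_residueField_eq_zero] at h4
        show f ^ (k + 1) * ((t : R) * v i) ∈ Q
        rw [pow_succ', mul_assoc]
        exact Q.mul_mem_left f h4
    · rw [LinearMap.localizedMap_surjective_iff_subsingleton_localized_coker,
        LocalizedModule.subsingleton_iff_disjoint, Set.disjoint_left]
      exact fun q hq => (hsub hq).1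
  have hs : Ideal.span s = ⊤ := by
    by_contra hne
    obtain ⟨m, hm, hle⟩ := Ideal.exists_le_maximal _ hne
    obtain ⟨f, hf, hfm⟩ := hloc ⟨m, hm.isPrime⟩
    exact hfm (hle (Ideal.subset_span hf))
  haveI : Module.FinitePresentation R M := Module.FinitePresentation.of_localizationSpan s hs fun g => by
    obtain ⟨n, φ, hφ⟩ := g.2
    exact Module.FinitePresentation.of_equiv (LinearEquiv.ofBijective _ hφ)
  rw [← Module.freeLocus_eq_univ_iff, Set.eq_univ_iff_forall]
  intro p
  obtain ⟨f, ⟨n, φ, hφ⟩, hfp⟩ := hloc p
  have : (↑(PrimeSpectrum.basicOpen f) : Set (PrimeSpectrum R)) ⊆ Module.freeLocus R M := by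
    rw [Module.basicOpen_subset_freeLocus_iff]
    haveI : Module.Projective (Localization.Away f) (LocalizedModule (Submonoid.powers f) (Fin n → R)) :=
      Module.Projective.of_equiv (LocalizedModule.equivTensorProduct _ _).symm
    exact Module.Projective.of_equiv (LinearEquiv.ofBijective _ hφ)
  exact this hfp

end Groth.Agent.S6266
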