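import Groth.Statements.S18764
import Groth.Statements.S18764
import Groth.Agent.S18762
import Groth.Agent.Tors37.Pseudo
import Groth.Agent.Tors37.RankFlat
import Groth.Prelude.Def_ActBC
import Groth.Agent.Sga84.TorsorExact
import Groth.Agent.Sga84.TorsorDesc
import Groth.Agent.Unr55.DescProps

set_option autoImplicit false
universe u
open CategoryTheory CategoryTheory.Limits MonoidalCategory CartesianMonoidalCategory MonObj GrpObj AlgebraicGeometry
open NonAbH1

namespace Groth.Agent.S18764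

/-- Let k be a field and X a quasi-compact k-scheme, connected and reduced, having a k-point x; let G,
G₁, G₂ be finite group schemes over k with homomorphisms φ₁ : G₁ → G and φ₂ : G₂ → G, and let T, T₁,
T₂ be torsors over X (fppf-locally trivial) under the base changes to X of G, G₁, G₂ respectively,
each pointed by a k-point lying over x. Let f₁ : T₁ → T and f₂ : T₂ → T be morphisms of pointed
torsors: X-morphisms which intertwine the actions along φ₁, φ₂ and send the marked points of T₁, T₂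
to that of T. Let P be the fibre product group scheme G₁ ×_G G₂ with its projections π₁, π₂. Then
the fibre product T₁ ×_T T₂ carries an action of the base change of P for which both projections to
T₁ and T₂ are equivariant (along π₁, π₂) and which makes it a torsor over X (fppf-locally trivial).
(The published statement says that such an X has a fundamental group scheme; this row states the
closure of finite pointed torsors under fibre products to which it is reduced.) -/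
theorem result
    (k : Type u) [Field k] (X : Scheme.{u}) [X.Over (Spec (CommRingCat.of k))] [ConnectedSpace X]
    [CompactSpace X] [AlgebraicGeometry.IsReduced X]
    (x : Spec (CommRingCat.of k) ⟶ X) (hx : x ≫ (X ↘ Spec (CommRingCat.of k)) = 𝟙 _)
    (G G₁ G₂ : Over (Spec (CommRingCat.of k))) [GrpObj G] [GrpObj G₁] [GrpObj G₂]
    [IsFinite G.hom] [IsFinite G₁.hom] [IsFinite G₂.hom]
    (φ₁ : G₁ ⟶ G) (φ₂ : G₂ ⟶ G) [IsMonHom φ₁] [IsMonHom φ₂]
    (T T₁ T₂ : Over X)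
    (a : AlgGrp.Action (Red.bc (X ↘ Spec (CommRingCat.of k)) G) T)
    (a₁ : AlgGrp.Action (Red.bc (X ↘ Spec (CommRingCat.of k)) G₁) T₁)
    (a₂ : AlgGrp.Action (Red.bc (X ↘ Spec (CommRingCat.of k)) G₂) T₂)
    (hT : NonAbH1.IsTorsorFor Scheme.fppfPrecoverage a)
    (hT₁ : NonAbH1.IsTorsorFor Scheme.fppfPrecoverage a₁)
    (hT₂ : NonAbH1.IsTorsorFor Scheme.fppfPrecoverage a₂)
    (t : Spec (CommRingCat.of k) ⟶ T.left) (t₁ : Spec (CommRingCat.of k) ⟶ T₁.left)
    (t₂ : Spec (CommRingCat.of k) ⟶ T₂.left)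
    (ht : t ≫ T.hom = x) (ht₁ : t₁ ≫ T₁.hom = x) (ht₂ : t₂ ≫ T₂.hom = x)
    (f₁ : T₁ ⟶ T) (f₂ : T₂ ⟶ T)
    (hf₁ : AlgGrp.Action.IsEquivariant a₁ (a.restrict ((Over.pullback (X ↘ Spec (CommRingCat.of k))).map φ₁)) f₁)
    (hf₂ : AlgGrp.Action.IsEquivariant a₂ (a.restrict ((Over.pullback (X ↘ Spec (CommRingCat.of k))).map φ₂)) f₂)
    (hft₁ : t₁ ≫ f₁.left = t) (hft₂ : t₂ ≫ f₂.left = t)
    (P : Over (Spec (CommRingCat.of k))) [GrpObj P] (π₁ : P ⟶ G₁) (π₂ : P ⟶ G₂) [IsMonHom π₁] [IsMonHom π₂]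
    (hP : IsPullback π₁ π₂ φ₁ φ₂) :
    ∃ c : AlgGrp.Action (Red.bc (X ↘ Spec (CommRingCat.of k)) P) (pullback f₁ f₂),
      AlgGrp.Action.IsEquivariant c (a₁.restrict ((Over.pullback (X ↘ Spec (CommRingCat.of k))).map π₁)) (pullback.fst f₁ f₂) ∧
      AlgGrp.Action.IsEquivariant c (a₂.restrict ((Over.pullback (X ↘ Spec (CommRingCat.of k))).map π₂)) (pullback.snd f₁ f₂) ∧
      NonAbH1.IsTorsorFor Scheme.fppfPrecoverage c := by
  let s := X ↘ Spec (CommRingCat.of k)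
  let Φ := Over.pullback s
  have hfinT : ∀ (H : Over (Spec (CommRingCat.of k))) [GrpObj H] [IsFinite H.hom] (Q : Over X)
      (b : AlgGrp.Action (Red.bc s H) Q), NonAbH1.IsTorsorFor Scheme.fppfPrecoverage b → IsFinite Q.hom := by
    intro H _ _ Q b hb
    obtain ⟨hps, R, hR, hsec⟩ := hb
    have := Groth.Agent.Unr55.isFinite.{u}
    exact Groth.Agent.Sga84.hom_of_isTorsorFor @IsFinite (MorphismProperty.pullback_snd (P := @IsFinite) H.hom s inferInstance)
      (a := b) ⟨hps, R, Scheme.fppfPrecoverage_le_fpqcPrecoverage _ hR, hsec⟩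
  have : IsFinite T.hom := hfinT G T a hT
  have : IsFinite T₁.hom := hfinT G₁ T₁ a₁ hT₁
  have : IsFinite T₂.hom := hfinT G₂ T₂ a₂ hT₂
  have hsurj := Groth.Agent.S18762.result k X x hx G G₁ G₂ φ₁ φ₂ T T₁ T₂ a a₁ a₂ hT hT₁ hT₂ t t₁ t₂ ht ht₁ ht₂
    f₁ f₂ hf₁ hf₂ hft₁ hft₂
  have hw : (Φ.map π₁ ≫ Φ.map φ₁ : Red.bc s P ⟶ Red.bc s G) = Φ.map π₂ ≫ Φ.map φ₂ := by
    rw [← Functor.map_comp, ← Functor.map_comp, hP.w]
  let act₁ : Red.bc s P ⊗ Limits.pullback f₁ f₂ ⟶ T₁ := (Φ.map π₁ ⊗ₘ pullback.fst f₁ f₂) ≫ a₁.act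
  let act₂ : Red.bc s P ⊗ Limits.pullback f₁ f₂ ⟶ T₂ := (Φ.map π₂ ⊗ₘ pullback.snd f₁ f₂) ≫ a₂.act
  have hpt₁ : ∀ {Z : Over X} (g : Z ⟶ Red.bc s P) (p : Z ⟶ Limits.pullback f₁ f₂), lift g p ≫ act₁ =
      lift (g ≫ Φ.map π₁) (p ≫ pullback.fst f₁ f₂) ≫ a₁.act := fun g p => lift_map_assoc _ _ _ _ _
  have hpt₂ : ∀ {Z : Over X} (g : Z ⟶ Red.bc s P) (p : Z ⟶ Limits.pullback f₁ f₂), lift g p ≫ act₂ =
      lift (g ≫ Φ.map π₂) (p ≫ pullback.snd f₁ f₂) ≫ a₂.act := fun g p => lift_map_assoc _ _ _ _ _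
  have he₁ : ∀ {Z : Over X} (g : Z ⟶ Red.bc s G₁) (p : Z ⟶ T₁),
      (lift g p ≫ a₁.act) ≫ f₁ = lift (g ≫ Φ.map φ₁) (p ≫ f₁) ≫ a.act := fun g p => by
    rw [Category.assoc, hf₁, lift_whiskerLeft_assoc, AlgGrp.Action.lift_restrict_act]
  have he₂ : ∀ {Z : Over X} (g : Z ⟶ Red.bc s G₂) (p : Z ⟶ T₂),
      (lift g p ≫ a₂.act) ≫ f₂ = lift (g ≫ Φ.map φ₂) (p ≫ f₂) ≫ a.act := fun g p => by
    rw [Category.assoc, hf₂, lift_whiskerLeft_assoc, AlgGrp.Action.lift_restrict_act]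
  have hact : act₁ ≫ f₁ = act₂ ≫ f₂ := by
    refine AlgGrp.Action.hom_ext_lift₂ fun Z g p => ?_
    rw [← Category.assoc, hpt₁, he₁, ← Category.assoc, hpt₂, he₂]
    simp only [Category.assoc, hw, pullback.condition]
  let act : Red.bc s P ⊗ Limits.pullback f₁ f₂ ⟶ Limits.pullback f₁ f₂ := pullback.lift act₁ act₂ hact
  have hact₁ : ∀ {Z : Over X} (g : Z ⟶ Red.bc s P) (p : Z ⟶ Limits.pullback f₁ f₂),
      (lift g p ≫ act) ≫ pullback.fst f₁ f₂ = lift (g ≫ Φ.map π₁) (p ≫ pullback.fst f₁ f₂) ≫ a₁.act :=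
    fun g p => by rw [Category.assoc, pullback.lift_fst, hpt₁]
  have hact₂ : ∀ {Z : Over X} (g : Z ⟶ Red.bc s P) (p : Z ⟶ Limits.pullback f₁ f₂),
      (lift g p ≫ act) ≫ pullback.snd f₁ f₂ = lift (g ≫ Φ.map π₂) (p ≫ pullback.snd f₁ f₂) ≫ a₂.act :=
    fun g p => by rw [Category.assoc, pullback.lift_snd, hpt₂]
  let c : AlgGrp.Action (Red.bc s P) (Limits.pullback f₁ f₂) :=
    { act := act
      one_act := by
        refine AlgGrp.Action.hom_ext_lift₂ fun Z v p => ?_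
        rw [lift_whiskerRight_assoc, leftUnitor_hom, lift_snd, toUnit_unique v (toUnit Z)]
        refine pullback.hom_ext ?_ ?_
        · rw [hact₁, ← Hom.one_def, MonObj.one_comp, AlgGrp.Action.lift_one_act]
        · rw [hact₂, ← Hom.one_def, MonObj.one_comp, AlgGrp.Action.lift_one_act]
      mul_act := by
        refine AlgGrp.Action.hom_ext_lift₃ fun Z g h p => ?_
        rw [lift_whiskerRight_assoc, ← Hom.mul_def, lift_lift_associator_hom_assoc, lift_whiskerLeft_assoc]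
        refine pullback.hom_ext ?_ ?_
        · rw [hact₁, hact₁, hact₁, MonObj.mul_comp, AlgGrp.Action.lift_mul_act]
        · rw [hact₂, hact₂, hact₂, MonObj.mul_comp, AlgGrp.Action.lift_mul_act] }
  have hps : NonAbH1.IsPseudoTorsorSch c := Groth.Agent.Tors37.isPseudoTorsorSch_of_existsUnique c (by
    intro Z p q
    obtain ⟨ξ₁, h₁, u₁⟩ := Groth.Agent.Sga84.existsUnique_actPt a₁ hT₁.1 (p ≫ pullback.fst f₁ f₂) (q ≫ pullback.fst f₁ f₂)
    obtain ⟨ξ₂, h₂, u₂⟩ := Groth.Agent.Sga84.existsUnique_actPt a₂ hT₂.1 (p ≫ pullback.snd f₁ f₂) (q ≫ pullback.snd f₁ f₂)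
    obtain ⟨ξ₀, -, u₀⟩ := Groth.Agent.Sga84.existsUnique_actPt a hT.1 (p ≫ pullback.fst f₁ f₂ ≫ f₁)
      (q ≫ pullback.fst f₁ f₂ ≫ f₁)
    have e₁ : ξ₁ ≫ Φ.map φ₁ = ξ₀ := u₀ _ (by
      show lift _ _ ≫ a.act = _
      rw [← Category.assoc p, ← he₁]
      exact (congrArg (· ≫ f₁) h₁).trans (Category.assoc _ _ _))
    have e₂ : ξ₂ ≫ Φ.map φ₂ = ξ₀ := u₀ _ (by
      show lift _ _ ≫ a.act = _
      rw [pullback.condition, ← Category.assoc p, ← he₂]
      exact (congrArg (· ≫ f₂) h₂).trans (Category.assoc _ _ _))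
    have hPX : IsPullback (Φ.map π₁) (Φ.map π₂) (Φ.map φ₁) (Φ.map φ₂) := hP.map Φ
    refine ⟨hPX.lift ξ₁ ξ₂ (e₁.trans e₂.symm), pullback.hom_ext ?_ ?_, fun g hg => hPX.hom_ext ?_ ?_⟩
    · show (lift _ _ ≫ act) ≫ _ = _
      rw [hact₁, hPX.lift_fst]; exact h₁
    · show (lift _ _ ≫ act) ≫ _ = _
      rw [hact₂, hPX.lift_snd]; exact h₂
    · rw [hPX.lift_fst]
      exact u₁ _ ((hact₁ g p).symm.trans (congrArg (· ≫ pullback.fst f₁ f₂) hg))
    · rw [hPX.lift_snd]
      exact u₂ _ ((hact₂ g p).symm.trans (congrArg (· ≫ pullback.snd f₁ f₂) hg)))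
  have : IsFinite φ₂.left := by
    have : IsFinite (φ₂.left ≫ G.hom) := by rw [Over.w]; infer_instance
    exact IsFinite.of_comp φ₂.left G.hom
  have : IsFinite π₁.left := MorphismProperty.of_isPullback (hP.map (Over.forget _)).flip ‹_›
  have : IsFinite P.hom := by rw [← Over.w π₁]; infer_instance
  have : IsFinite f₂.left := by
    have : IsFinite (f₂.left ≫ T.hom) := by rw [Over.w]; infer_instance
    exact IsFinite.of_comp f₂.left T.hom
  have : IsFinite (pullback.fst f₁ f₂).left :=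
    MorphismProperty.of_isPullback ((IsPullback.of_hasPullback f₁ f₂).map (Over.forget X)).flip ‹_›
  have : IsFinite (Limits.pullback f₁ f₂).hom := by rw [← Over.w (pullback.fst f₁ f₂)]; infer_instance
  obtain ⟨hflat, hlfp⟩ := Groth.Agent.Tors37.flat_of_finrank_fibre (Limits.pullback f₁ f₂).hom
      (P.hom.finrank (IsLocalRing.closedPoint k)) (fun K _ y => by
    have : IsFinite (Red.bc s P).hom := MorphismProperty.pullback_snd (P := @IsFinite) P.hom s inferInstance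
    have : IsFinite (Red.bc y (Red.bc s P)).hom :=
      MorphismProperty.pullback_snd (P := @IsFinite) (Red.bc s P).hom y inferInstance
    have : IsFinite (Red.bc y (Limits.pullback f₁ f₂)).hom :=
      MorphismProperty.pullback_snd (P := @IsFinite) (Limits.pullback f₁ f₂).hom y inferInstance
    obtain ⟨z, hz⟩ := hsurj.surj (y (IsLocalRing.closedPoint K))
    obtain ⟨w, -, -⟩ := Scheme.Pullback.exists_preimage_pullback (f := (Limits.pullback f₁ f₂).hom) (g := y) z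
      (IsLocalRing.closedPoint K) hz
    refine (Groth.Agent.Tors37.finrank_eq_of_pseudo (c.bc y) (NonAbH1.isPseudoTorsorSch_bc (f := y) hps) w).trans ?_
    have : Flat P.hom := inferInstance
    have : Flat (pullback.snd P.hom s) := inferInstance
    show (pullback.snd (pullback.snd P.hom s) y).finrank _ = _
    rw [Scheme.Hom.finrank_pullback_snd, Scheme.Hom.finrank_pullback_snd]
    exact congrArg _ (Subsingleton.elim (α := Spec (CommRingCat.of k)) _ _))
  refine ⟨c, ?_, ?_, hps, Presieve.singleton (Limits.pullback f₁ f₂).hom, Scheme.Hom.singleton_mem_fppfPrecoverage _, ?_⟩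
  · refine AlgGrp.Action.hom_ext_lift₂ fun Z g p => ?_
    rw [← Category.assoc, hact₁, lift_whiskerLeft_assoc, AlgGrp.Action.lift_restrict_act]
  · refine AlgGrp.Action.hom_ext_lift₂ fun Z g p => ?_
    rw [← Category.assoc, hact₂, lift_whiskerLeft_assoc, AlgGrp.Action.lift_restrict_act]
  · rintro S' f ⟨⟩
    exact ⟨𝟙 _, Category.id_comp _⟩

end Groth.Agent.S18764
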