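import Groth.Statements.S18769
import Groth.Agent.Ega11.NodePresentation
import Groth.Agent.Ega11.NodeRes
-- import your own Groth.Agent.* helpers here

set_option autoImplicit false
universe u
open CategoryTheory CategoryTheory.Limits AlgebraicGeometry
open TFNodal

namespace Groth.Agent.S18769

/-- Let k be algebraically closed of characteristic zero, X a connected proper curve over k (dimension
one) whose closed points are smooth points or nodes, and π : Y → X its normalization, given as a
finite morphism from a smooth k-scheme that is an isomorphism over the complement U of the nodes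
with dense preimage of U; let F be a coherent O_X-module, torsion free of rank r with type a(x) at
each node x (stalk free of rank r off the nodes, isomorphic to O_x^{a(x)} ⊕ m_x^{r − a(x)} at a node
x). Write D ⊂ Y for the reduced closed subscheme on the preimage of the nodes. Then there are a
locally free O_Y-module E of rank r and a quotient q : π_*(E ⊗ O_D) → Q, with Q having zero stalks
off the nodes and total length r · (number of nodes) over the nodes, such that F is isomorphic to
the kernel of the composite π_*E → π_*(E ⊗ O_D) → Q (existence of such an isomorphism). -/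
theorem result (k : Type u) [Field k] [IsAlgClosed k] [CharZero k]
    (X : Scheme.{u}) [X.Over (Spec (CommRingCat.of k))] [IsProper (X ↘ Spec (CommRingCat.of k))]
    [ConnectedSpace X] (hdim : topologicalKrullDim X = 1) (hnod : Curv2.AtWorstNodal k X)
    (Y : Scheme.{u}) (π : Y ⟶ X) [IsFinite π] [Smooth (π ≫ (X ↘ Spec (CommRingCat.of k)))]
    (U : X.Opens) (hU : ∀ x : X, x ∈ U ↔ ¬ Curv2.IsNode k X x) (hUiso : IsIso (π ∣_ U))
    (hUd : Dense ((π ⁻¹ᵁ U : Y.Opens) : Set Y))
    (r : ℕ) (F : X.Modules) (hF : Coh.IsCoh F) (a : X → ℕ)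
    (hfree : ∀ x : X, ¬ Curv2.IsNode k X x →
      Nonempty (F.presheaf.stalk x ≃ₗ[X.presheaf.stalk x] (Fin r → X.presheaf.stalk x)))
    (htype : ∀ x : X, Curv2.IsNode k X x → a x ≤ r ∧
      Nonempty (F.presheaf.stalk x ≃ₗ[X.presheaf.stalk x]
        ((Fin (a x) → X.presheaf.stalk x) × (Fin (r - a x) → IsLocalRing.maximalIdeal (X.presheaf.stalk x))))) :
    ∃ (E : Y.Modules), FlatMod.IsFinLocFreeOfRank r E ∧
      ∃ (Q : X.Modules) (q : (Scheme.Modules.pushforward π).obj
          (ParSh.resD (Scheme.IdealSheafData.vanishingIdeal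
            ⟨closure (π.base ⁻¹' {x : X | Curv2.IsNode k X x}), isClosed_closure⟩) E) ⟶ Q),
        Epi q ∧
        (∀ x : X, ¬ Curv2.IsNode k X x → Subsingleton (Q.presheaf.stalk x)) ∧
        (∑ᶠ x ∈ {x : X | Curv2.IsNode k X x},
            (Module.length (X.presheaf.stalk x) (Q.presheaf.stalk x)).toNat) = r * Nat.card {x : X // Curv2.IsNode k X x} ∧
        Nonempty (F ≅ kernel ((Scheme.Modules.pushforward π).map
            ((SecTwist.unitorR E).inv ≫ KoszTw.tensorMap (𝟙 E) (ClSub.toSubscheme
              (Scheme.IdealSheafData.vanishingIdeal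
                ⟨closure (π.base ⁻¹' {x : X | Curv2.IsNode k X x}), isClosed_closure⟩))) ≫ q)) := by
  classical
  have : IsLocallyNoetherian X := LocallyOfFiniteType.isLocallyNoetherian (X ↘ Spec (CommRingCat.of k))
  have : CompactSpace X := QuasiCompact.compactSpace_of_compactSpace (X ↘ Spec (CommRingCat.of k))
  have : AlgebraicGeometry.IsNoetherian X := {}
  have : AlgebraicGeometry.IsReduced X := Groth.Agent.Curves2.isReduced_of_atWorstNodal k X hnod
  have hS : Groth.Agent.Ega11.NodeModules.Setting k X Y π U := ⟨hnod, hU, hUiso, hUd⟩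
  obtain ⟨E, hElf, hEc, β, hβ, hsurj, hlen, hfib⟩ :=
    Groth.Agent.Ega11.NodePresentation.exists_presentation π hS hdim.le r F hF a hfree htype
  refine ⟨E, hElf, ?_⟩
  let I := Scheme.IdealSheafData.vanishingIdeal
    ⟨closure (π.base ⁻¹' {x : X | Curv2.IsNode k X x}), isClosed_closure⟩
  have hEq : E.IsQuasicoherent := hEc.1
  have hDq : (ParSh.resD I E).IsQuasicoherent := Groth.Agent.Ega11.NodeRes.isQCoh_resD I E hEq
  let ρ0 : (Scheme.Modules.pushforward π).obj E ⟶ (Scheme.Modules.pushforward π).obj (ParSh.resD I E) :=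
    (Scheme.Modules.pushforward π).map (Groth.Agent.Ega11.NodeRes.ρ I E)
  have hepi0 : Epi ρ0 := by
    have := Groth.Agent.Ega11.NodeRes.epi_ρ I E
    exact Groth.Agent.QC70.epi_of_surjective_stalkMapM _ fun x =>
      Groth.Agent.Ega11.NodeModules.surjective_stalk_push π (Groth.Agent.Ega11.NodeRes.ρ I E) x
  have hzero : kernel.ι ρ0 ≫ cokernel.π β = 0 := by
    refine (Groth.Agent.FlatMor68.PullbackDescent.zero_iff _).2 fun x z => ?_
    rw [Groth.Agent.Ega11.NodeLengths.stalk_comp]
    by_cases hx : Curv2.IsNode k X x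
    · have hk : Groth.Agent.QC70.stalkMapM ρ0 x (Groth.Agent.QC70.stalkMapM (kernel.ι ρ0) x z) = 0 := by
        rw [← Groth.Agent.QC70.stalkMapM_comp, kernel.condition]
        exact Groth.Agent.QC70.stalkMapM_zero x z
      obtain ⟨W, hxW, m, hm⟩ := Groth.Agent.QC70.germM_exist (Groth.Agent.QC70.stalkMapM (kernel.ι ρ0) x z)
      rw [← hm, Groth.Agent.QC70.stalkMapM_germ] at hk
      obtain ⟨W', hle, hxW', h0⟩ := Groth.Agent.QC70.germM_eq_zero hk
      rw [← hm, ← Groth.Agent.QC70.germM_res hle hxW' m]
      obtain ⟨f, hf⟩ := hfib x hx W' hxW'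
        (Groth.Agent.QC70.res ((Scheme.Modules.pushforward π).obj E) hle m) fun y hy hyx => by
          refine Groth.Agent.Ega11.NodeRes.mem_smul_of_ρ_eq_zero I E ?_ _ ?_
          · rw [Scheme.IdealSheafData.coe_support_vanishingIdeal]
            exact subset_closure (show Curv2.IsNode k X (π y) by rw [hyx]; exact hx)
          · refine (Groth.Agent.QC70.stalkMapM_germ _ hy _).trans ?_
            refine Eq.trans ?_ (Groth.Agent.QC70.germM_zero hy)
            exact congrArg (Groth.Agent.QC70.germM (ParSh.resD I E) (π ⁻¹ᵁ W') y hy)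
              ((Groth.Agent.QC70.app_res ρ0 hle m).trans h0)
      refine (congrArg (Groth.Agent.QC70.stalkMapM (cokernel.π β) x) hf.symm).trans ?_
      show Groth.Agent.QC70.stalkMapM (cokernel.π β) x (Groth.Agent.QC70.stalkMapM β x f) = 0
      rw [← Groth.Agent.QC70.stalkMapM_comp, cokernel.condition]
      exact Groth.Agent.QC70.stalkMapM_zero x f
    · have := Groth.Agent.QC70.subsingleton_stalk_cokernel β x (hsurj x hx)
      exact Subsingleton.elim _ _
  let q : (Scheme.Modules.pushforward π).obj (ParSh.resD I E) ⟶ cokernel β := Abelian.epiDesc ρ0 (cokernel.π β) hzero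
  have hq : ρ0 ≫ q = cokernel.π β := Abelian.comp_epiDesc ρ0 _ _
  refine ⟨cokernel β, q, ?_, fun x hx => Groth.Agent.QC70.subsingleton_stalk_cokernel β x (hsurj x hx), ?_, ?_⟩
  · have : Epi (ρ0 ≫ q) := by rw [hq]; infer_instance
    exact epi_of_epi ρ0 q
  · have hfin := (Groth.Agent.Ega11.LatticeNodes.finite_nodes (k := k) (X := X) hdim.le).1
    rw [finsum_mem_eq_finite_toFinset_sum _ hfin, Finset.sum_congr rfl (fun x hx => show _ = r by
      rw [Groth.Agent.Ega11.NodeLengths.length_cokernel β x, hlen x (hfin.mem_toFinset.1 hx)]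
      rfl), Finset.sum_const, smul_eq_mul, mul_comm, ← Set.ncard_eq_toFinset_card _ hfin]
    rfl
  · refine ⟨(Limits.IsLimit.conePointUniqueUpToIso (Abelian.monoIsKernelOfCokernel (CokernelCofork.ofπ (cokernel.π β)
      (cokernel.condition β)) (cokernelIsCokernel β)) (kernelIsKernel (cokernel.π β))).trans ?_⟩
    exact kernelIsoOfEq hq.symm

end Groth.Agent.S18769
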