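import Groth.Statements.S18771
import Groth.Agent.Ega11.LatticeNodes
-- import your own Groth.Agent.* helpers here

set_option autoImplicit false
universe u
open CategoryTheory CategoryTheory.Limits AlgebraicGeometry
open TFNodal

namespace Groth.Agent.S18771

/-- Let k be algebraically closed of characteristic zero, X a connected proper curve over k (dimension
one) whose closed points are smooth points or nodes, and π : Y → X its normalization, given as a
finite morphism from a smooth k-scheme that is an isomorphism over the complement U of the nodes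
with dense preimage of U; let F be a coherent O_X-module, torsion free of rank r with type a(x) at
each node x (stalk free of rank r off the nodes, isomorphic to O_x^{a(x)} ⊕ m_x^{r − a(x)} at a node
x). Then there are a locally free O_X-module G of rank r and a monomorphism j : F → G whose cokernel
has zero stalk off the nodes and, at each node x, stalk annihilated by the maximal ideal m_x and of
length r − a(x) (so G/F is the direct sum over the nodes of k(x)^{r − a(x)}). -/
theorem result (k : Type u) [Field k] [IsAlgClosed k] [CharZero k]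
    (X : Scheme.{u}) [X.Over (Spec (CommRingCat.of k))] [IsProper (X ↘ Spec (CommRingCat.of k))]
    [ConnectedSpace X] (hdim : topologicalKrullDim X = 1) (hnod : Curv2.AtWorstNodal k X)
    (Y : Scheme.{u}) (π : Y ⟶ X) [IsFinite π] [Smooth (π ≫ (X ↘ Spec (CommRingCat.of k)))]
    (U : X.Opens) (hU : ∀ x : X, x ∈ U ↔ ¬ Curv2.IsNode k X x) (hUiso : IsIso (π ∣_ U))
    (hUd : Dense ((π ⁻¹ᵁ U : Y.Opens) : Set Y))
    (r : ℕ) (F : X.Modules) (hF : Coh.IsCoh F) (a : X → ℕ)
    (hfree : ∀ x : X, ¬ Curv2.IsNode k X x →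
      Nonempty (F.presheaf.stalk x ≃ₗ[X.presheaf.stalk x] (Fin r → X.presheaf.stalk x)))
    (htype : ∀ x : X, Curv2.IsNode k X x → a x ≤ r ∧
      Nonempty (F.presheaf.stalk x ≃ₗ[X.presheaf.stalk x]
        ((Fin (a x) → X.presheaf.stalk x) × (Fin (r - a x) → IsLocalRing.maximalIdeal (X.presheaf.stalk x))))) :
    ∃ (G : X.Modules) (j : F ⟶ G), FlatMod.IsFinLocFreeOfRank r G ∧ Mono j ∧
      (∀ x : X, ¬ Curv2.IsNode k X x → Subsingleton ((cokernel j).presheaf.stalk x)) ∧
      (∀ x : X, Curv2.IsNode k X x →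
        IsLocalRing.maximalIdeal (X.presheaf.stalk x) • (⊤ : Submodule (X.presheaf.stalk x) ((cokernel j).presheaf.stalk x)) = ⊥ ∧
        Module.length (X.presheaf.stalk x) ((cokernel j).presheaf.stalk x) = ((r - a x : ℕ) : ℕ∞)) := by
  classical
  have : IsLocallyNoetherian X := LocallyOfFiniteType.isLocallyNoetherian (X ↘ Spec (CommRingCat.of k))
  have : CompactSpace X := QuasiCompact.compactSpace_of_compactSpace (X ↘ Spec (CommRingCat.of k))
  have : AlgebraicGeometry.IsNoetherian X := {}
  have : AlgebraicGeometry.IsReduced X := Groth.Agent.Curves2.isReduced_of_atWorstNodal k X hnod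
  obtain ⟨hfin, hnm⟩ := Groth.Agent.Ega11.LatticeNodes.finite_nodes (k := k) (X := X) hdim.le
  let S : Set X := {x | Curv2.IsNode k X x}
  have htF : TorSh.IsTorsionFree F := Groth.Agent.Ega11.NodeLengths.isTorsionFree r a hfree htype
  let e : ∀ s, s ∈ S → _ := fun s (hs : s ∈ S) => (htype s hs).2.some
  have hac : ∀ s, s ∈ S → a s + (r - a s) = r := fun s hs => Nat.add_sub_cancel' (htype s hs).1
  let ι : ∀ s, s ∈ S → F.presheaf.stalk s →ₗ[X.presheaf.stalk s] (Fin r → X.presheaf.stalk s) := fun s hs =>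
    (LinearEquiv.funCongrLeft (X.presheaf.stalk s) (X.presheaf.stalk s) (finCongr (hac s hs)).symm).toLinearMap ∘ₗ
      Groth.Agent.Ega11.LatticeNodes.incl (X.presheaf.stalk s) (a s) (r - a s) ∘ₗ (e s hs).toLinearMap
  have hg : ∀ (s : X) (hs : s ∈ S) (p : Fin r → X.presheaf.stalk s), ∀ g ∈ IsLocalRing.maximalIdeal (X.presheaf.stalk s),
      g • p ∈ LinearMap.range (ι s hs) := by
    intro s hs p g hg
    obtain ⟨p, rfl⟩ := (LinearEquiv.funCongrLeft (X.presheaf.stalk s) (X.presheaf.stalk s) (finCongr (hac s hs)).symm).surjective p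
    obtain ⟨w, hw⟩ := Groth.Agent.Ega11.LatticeNodes.smul_mem_range_incl hg p
    obtain ⟨z, rfl⟩ := (e s hs).surjective w
    exact ⟨z, by rw [← map_smul, ← hw]; rfl⟩
  obtain ⟨G, j, hG, hj, hbij, hΨ⟩ := Groth.Agent.Ega11.LatticeSuper.exists_super hdim.le hF htF (S := S) hfin
    (fun s hs => hs.1) hnm (fun s => Fin r → X.presheaf.stalk s) ι
    (fun s hs => (LinearEquiv.funCongrLeft (X.presheaf.stalk s) (X.presheaf.stalk s) (finCongr (hac s hs)).symm).injective.comp
      ((Groth.Agent.Ega11.LatticeNodes.injective_incl _ _ _).comp (e s hs).injective))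
    (fun s hs p g hg' => ⟨1, by rw [pow_one]; exact hg s hs p g hg'⟩)
  refine ⟨G, j, ?_, hj, fun x hx => Groth.Agent.QC70.subsingleton_stalk_cokernel _ x (hbij x hx).2, fun x hx => ?_⟩
  · refine Groth.Agent.Ega11.LatticeNodes.isFinLocFreeOfRank_of_stalks hG r fun x => ?_
    by_cases hx : x ∈ S
    · exact ⟨(hΨ x hx).choose.symm⟩
    · obtain ⟨eF⟩ := hfree x hx
      exact ⟨eF.symm.trans (LinearEquiv.ofBijective (Groth.Agent.QC70.stalkLinear j x) (hbij x hx))⟩
  obtain ⟨Ψ, hΨe⟩ := hΨ x hx
  have hr : (LinearMap.range (Groth.Agent.QC70.stalkLinear j x)).map Ψ.toLinearMap = LinearMap.range (ι x hx) := by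
    rw [← LinearMap.range_comp]
    exact congrArg LinearMap.range (LinearMap.ext hΨe)
  refine ⟨?_, ?_⟩
  · rw [eq_bot_iff, Submodule.smul_le]
    intro g hg' z _
    obtain ⟨w, rfl⟩ := Groth.Agent.QC70.surjective_stalkMapM_of_epi (cokernel.π j) x z
    obtain ⟨f, hf⟩ := hg x hx (Ψ w) g hg'
    have hgw : g • w = Groth.Agent.QC70.stalkMapM j x f := Ψ.injective (by rw [map_smul, hΨe, hf])
    rw [Submodule.mem_bot]
    refine ((Groth.Agent.QC70.stalkLinear (cokernel.π j) x).map_smul g w).symm.trans ?_
    rw [hgw]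
    refine (Groth.Agent.QC70.stalkMapM_comp j (cokernel.π j) x f).symm.trans ?_
    rw [cokernel.condition]
    exact Groth.Agent.QC70.stalkMapM_zero x f
  · let q := LinearEquiv.funCongrLeft (X.presheaf.stalk x) (X.presheaf.stalk x) (finCongr (hac x hx)).symm
    have hr' : (LinearMap.range (Groth.Agent.Ega11.LatticeNodes.incl (X.presheaf.stalk x) (a x) (r - a x))).map
        q.toLinearMap = LinearMap.range (ι x hx) := by
      show _ = LinearMap.range (q.toLinearMap ∘ₗ _)
      rw [LinearMap.range_comp, LinearMap.range_comp_of_range_eq_top _ (LinearEquiv.range _)]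
    rw [Groth.Agent.Ega11.NodeLengths.length_cokernel, (Submodule.Quotient.equiv _ _ Ψ hr).length_eq,
      ← (Submodule.Quotient.equiv _ _ q hr').length_eq, Groth.Agent.Ega11.LatticeNodes.length_coker_incl]

end Groth.Agent.S18771
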