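import Groth.Statements.S18773
import Groth.Agent.VB30.ClopenBoundMain


set_option autoImplicit false
universe u
open CategoryTheory CategoryTheory.Limits AlgebraicGeometry
open VBCurve

namespace Groth.Agent.S18773

/-- Let k be algebraically closed of characteristic zero, Y a smooth proper k-scheme of dimension one,
possibly disconnected, L an ample invertible O_Y-module, r a natural number and d an integer, and S
a family of locally free O_Y-modules of rank r and degree d (degree χ(E) − r·χ(O_Y)). For a module M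
write χ for the Euler characteristic, M(n) = M ⊗ L^{⊗n} and α(M) = χ(M(1)) − χ(M) (the multiplicity:
leading coefficient of the Hilbert polynomial). Then S is bounded in the sense that for some n₀,
every E in S and every n ≥ n₀ have H¹(Y, E(n)) = 0 and E(n) globally generated, if and only if there
is a constant C such that for every E in S and every locally free quotient E → Q with α(Q) > 0 one
has χ(Q)/α(Q) − χ(E)/α(E) ≥ C (the minimal slope of a locally free quotient is at least the slope of
E plus C; slopes deg/α differ from χ/α by the constant χ(O_Y)/deg L). -/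
theorem result
    (k : Type u) [Field k] [IsAlgClosed k] [CharZero k]
    (Y : Scheme.{u}) [Y.Over (Spec (CommRingCat.of k))] [IsProper (Y ↘ Spec (CommRingCat.of k))]
    [Smooth (Y ↘ Spec (CommRingCat.of k))] (hdim : topologicalKrullDim Y = 1)
    (L : Y.Modules) (hL : CohB1.IsAmple L)
    (r : ℕ) (d : ℤ) (S : Set Y.Modules)
    (hS : ∀ E ∈ S, FlatMod.IsFinLocFreeOfRank r E ∧ Curv2.deg k Y E r = d) :
    (∃ n₀ : ℕ, ∀ n : ℕ, n₀ ≤ n → ∀ E ∈ S,
        Subsingleton (Coh.HH Y (CohB1.tensorMod E (CohB1.tensorPow L n)) 1) ∧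
        Curv2.IsGloballyGenerated (CohB1.tensorMod E (CohB1.tensorPow L n))) ↔
    (∃ C : ℤ, ∀ E ∈ S, ∀ (Q : Y.Modules) (p : E ⟶ Q), Epi p → FlatMod.IsFinLocFree Q →
        0 < Curv2.euler k Y (CohB1.tensorMod Q L) - Curv2.euler k Y Q →
        (C : ℚ) ≤ (Curv2.euler k Y Q : ℚ) / ((Curv2.euler k Y (CohB1.tensorMod Q L) - Curv2.euler k Y Q : ℤ) : ℚ)
          - (Curv2.euler k Y E : ℚ) / ((Curv2.euler k Y (CohB1.tensorMod E L) - Curv2.euler k Y E : ℤ) : ℚ)) := by
  have : TopologicalSpace.NoetherianSpace Y :=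
    have := Groth.Agent.Crv77.isNoetherian_of_proper (k := k) (X := Y)
    inferInstance
  set c : ℚ := (((d + r * Curv2.euler k Y (Coh.structureModule Y) : ℤ)) : ℚ) /
    (((r : ℤ) * (Curv2.euler k Y L - Curv2.euler k Y (Coh.structureModule Y)) : ℤ) : ℚ) with hc
  have hconst : ∀ E ∈ S, (Curv2.euler k Y E : ℚ) /
      ((Curv2.euler k Y (CohB1.tensorMod E L) - Curv2.euler k Y E : ℤ) : ℚ) = c := by
    intro E hE
    obtain ⟨hEr, hd⟩ := hS E hE
    rw [Curv2.deg] at hd
    have h := Groth.Agent.VB30.Clopen.euler_tensor k hdim.le hEr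
      (Groth.Agent.Mero90.isFinLocFreeOfRank_of_isInvertible hL.1)
    simp only [Groth.Agent.VB30.Clopen.chi] at h
    rw [h, hc]
    congr 2 <;> push_cast <;> linarith
  constructor
  · rintro ⟨n₀, hn₀⟩
    obtain ⟨K, hK⟩ := Groth.Agent.VB30.Clopen.quot_of_bounded (k := k) hdim.le hL n₀
    refine ⟨⌊(-(K : ℚ)) - c⌋, fun E hE Q p hp hQ hα => ?_⟩
    have hEc : Coh.IsCoh E := Groth.Agent.VarMods75.isCoh (hS E hE).1
    have h := hK E hEc (hn₀ n₀ le_rfl E hE).2 Q p hp hQ
    rw [hconst E hE]
    refine le_trans (Int.floor_le _) (sub_le_sub_right ?_ c)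
    rw [le_div_iff₀ (by exact_mod_cast hα)]
    exact_mod_cast h
  · rintro ⟨C, hC⟩
    refine Groth.Agent.VB30.Clopen.bounded_of_quot (k := k) hdim.le hL (r := r) (q := (C : ℚ) + c)
      (fun E hE => (hS E hE).1) fun E hE Q p hp hQ hα => ?_
    have h := hC E hE Q p hp hQ hα
    rw [hconst E hE] at h
    exact le_sub_iff_add_le.1 h

end Groth.Agent.S18773
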