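import Groth.Statements.S18786
import Groth.Agent.VB30.GalSplit
import Groth.Agent.VB30.AutCount
import Groth.Agent.VB30.G1
import Groth.Agent.VB30.Apply



set_option autoImplicit false
universe u
open CategoryTheory CategoryTheory.Limits AlgebraicGeometry
open VBCurve

namespace Groth.Agent.S18786

/-- Let k be a finite field and C a smooth proper geometrically integral curve over k (proper, smooth
and geometrically integral over k, of dimension one) of genus one, i.e. dim_k H^1(C, O_C) = 1, with
a k-rational point O (an elliptic curve over k); k is finite with q elements. Let G be a finite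
locally free O_C-module of rank 2 and degree 0 (the degree of a rank-n locally free module being χ −
n·χ(O_C)) which is indecomposable (nonzero, no isomorphism with a direct sum of two nonzero modules)
but not geometrically indecomposable (its pull-back to C_K splits into two nonzero summands for some
field extension K of k, taken in the universe of k), and put E = O_C ⊕ G. Then Aut(E) has exactly (q
− 1)(q² − 1) elements. (The accompanying bound on the number of isomorphism classes of such E is not
restated.) (The published setting takes k of characteristic at least 5; the argument does not use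
this and the row allows every finite field.) -/
theorem result (k : Type u) [Field k] [Finite k] (X : Scheme.{u}) [X.Over (Spec (CommRingCat.of k))]
    [IsProper (X ↘ Spec (CommRingCat.of k))] [Smooth (X ↘ Spec (CommRingCat.of k))]
    [GeometricallyIntegral (X ↘ Spec (CommRingCat.of k))] (hdim : topologicalKrullDim ↥X = 1)
    (hg : Curv2.genus k X = 1) (O : Spec (CommRingCat.of k) ⟶ X) (hO : O ≫ (X ↘ Spec (CommRingCat.of k)) = 𝟙 _)
    (G : X.Modules) (hG : FlatMod.IsFinLocFreeOfRank 2 G) (hdeg : Curv2.deg k X G 2 = 0)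
    (hGi : (¬ IsZero G ∧ ∀ (E₁ E₂ : X.Modules), Nonempty (G ≅ E₁ ⊞ E₂) → IsZero E₁ ∨ IsZero E₂)) (hGng : (∃ (K : Type u) (_ : Field K) (_ : Algebra k K) (E₁ E₂ : (Curv2.bc k X K).Modules),
      ¬ IsZero E₁ ∧ ¬ IsZero E₂ ∧ Nonempty ((Scheme.Modules.pullback (Curv2.bcFst k X K)).obj G ≅ E₁ ⊞ E₂))) :
    Nat.card (Aut (Coh.structureModule X ⊞ G)) = (Nat.card k - 1) * (Nat.card k ^ 2 - 1) := by
  classical
  haveI := Groth.Agent.VB30.isIntegral_of_geomIntegral (k := k) (X := X)
  haveI : GeometricallyConnected (X ↘ Spec (CommRingCat.of k)) :=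
    Groth.Agent.FBase64.geometricallyConnected_of_geometricallyIrreducible _
  have hS : Groth.Agent.CrvPic30.Setup k X := Groth.Agent.VB30.setup_of_geomConnected hdim
  have h := Groth.Agent.VB30.cur_of_setup hS
  have h0 : Module.finrank k (Coh.HH X (Coh.structureModule X) 0) = 1 := Groth.Agent.VB30.finrank_h0_of_geomConnected
  obtain ⟨k₂, i1, i2, hk₂⟩ : ∃ (k₂ : Type u) (_ : Field k₂) (_ : Algebra k k₂), Module.finrank k k₂ = 2 := by
    obtain ⟨p, hp⟩ := CharP.exists k
    haveI : Fact p.Prime := ⟨CharP.char_is_prime k p⟩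
    exact ⟨ULift.{u} (FiniteField.Extension k p 2), inferInstance, inferInstance, ULift.algEquiv.toLinearEquiv.finrank_eq.trans (FiniteField.finrank_extension _ _ _)⟩
  obtain ⟨hf, hc, -⟩ := Groth.Agent.VB30.GalSplit.main Nat.prime_two hG O hGi hGng k₂ hk₂
  haveI := h.isNoetherian
  have hO : PicF.IsInvertible (Coh.structureModule X) := Groth.Agent.EGA73.isInvertible_structureModule
  obtain ⟨lO, rO⟩ := Groth.Agent.VB30.lf_of_isInvertible hO
  have lG := Groth.Agent.VB30.isFinLocFree_of_rank hG
  have rG := Groth.Agent.VB30.rk_eq_of_isFinLocFreeOfRank hG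
  have cG := Groth.Agent.VB30.isCoh_of_isFinLocFree lG
  have cO := Groth.Agent.VB30.isCoh_of_isFinLocFree lO
  haveI := cG.2
  haveI := cO.2
  rw [Groth.Agent.VB30.deg_eq_dg hG] at hdeg
  have dO : Groth.Agent.VB30.dg k (Coh.structureModule X) = 0 := h.dg_structureModule
  -- the dualizing bundle is trivial
  obtain ⟨ω, hω, hω1, hωd⟩ := Groth.Agent.VB30.exists_omega hS
  obtain ⟨lω, rω⟩ := Groth.Agent.VB30.lf_of_isInvertible hω
  have hOne : ¬ Subsingleton (Coh.HH X (Coh.structureModule X) 1) := fun hs => by
    have : Module.finrank k (Coh.HH X (Coh.structureModule X) 1) = 0 := Module.finrank_zero_of_subsingleton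
    rw [Curv2.genus] at hg
    omega
  obtain ⟨φ, hφ⟩ := Groth.Agent.VB30.exists_hom_omega hS lO hω hω1 hωd hOne
  haveI := Groth.Agent.VB30.Blocks.mono_line hO lω φ hφ
  haveI : IsIso φ := (h.dg_le_of_mono φ cO (Groth.Agent.VB30.isCoh_of_isFinLocFree lω) (rO.trans rω.symm)).2 (by
    rw [dO, hωd, hg]; norm_num)
  -- no composite through the trivial bundle
  have key : ∀ (a : Coh.structureModule X ⟶ G) (b : G ⟶ Coh.structureModule X), a ≠ 0 → b = 0 := by
    intro a b ha
    by_contra hb
    haveI := Groth.Agent.VB30.Blocks.mono_line hO lG a ha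
    have hu : (show End G from b ≫ a) ≠ 0 := fun he => hb ((cancel_mono a).1 (he.trans zero_comp.symm))
    obtain ⟨v, hv⟩ := hf.mul_inv_cancel hu
    have hv' : v ≫ b ≫ a = 𝟙 G := hv
    haveI : Epi a := by
      haveI : Epi ((v ≫ b) ≫ a) := by rw [Category.assoc, hv']; infer_instance
      exact epi_of_epi (v ≫ b) a
    have := Groth.Agent.VB30.rk_le_of_epi a
    omega
  have hA : ∀ a : Coh.structureModule X ⟶ G, a = 0 := by
    intro a
    by_contra ha
    haveI := Groth.Agent.VB30.Blocks.mono_line hO lG a ha
    have hnt : Nontrivial (Coh.HH X G 0) := by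
      refine not_subsingleton_iff_nontrivial.1 fun hs => ha ?_
      have hz : a.app ⊤ (1 : Γ(X, ⊤)) = 0 := by
        have := congrArg (Groth.Agent.Crv77.sec G) (Subsingleton.elim ((Groth.Agent.Crv77.sec G).symm (a.app ⊤ (1 : Γ(X, ⊤)))) 0)
        rwa [AddEquiv.apply_symm_apply, map_zero] at this
      refine Scheme.Modules.hom_ext _ _ fun V => ?_
      ext r
      refine (Groth.Agent.QC70.app_toUnit a r).trans ?_
      exact (congrArg (fun z => (show Γ(X, V) from r) • Groth.Agent.QC70.res G (le_top : V ≤ ⊤) z) hz).trans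
        (by rw [Groth.Agent.QC70.res_zero, smul_zero]; rfl)
    haveI := h.curveCoh.finite _ cG 0
    have hpos : 0 < Module.finrank k (Coh.HH X G 0) := Module.finrank_pos
    have hne : ¬ Subsingleton (Coh.HH X G 1) := fun hs => by
      have e := h.h0_sub_h1 cG
      rw [hdeg, Groth.Agent.VB30.euler_structureModule hS, hg, Module.finrank_zero_of_subsingleton (M := Coh.HH X G 1)] at e
      push_cast at e
      omega
    obtain ⟨b, hb⟩ := Groth.Agent.VB30.exists_hom_omega hS lG hω hω1 hωd hne
    exact hb ((cancel_mono (inv φ)).1 ((key a (b ≫ inv φ) ha).trans zero_comp.symm))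
  have hB : ∀ b : G ⟶ Coh.structureModule X, b = 0 := by
    intro b
    have e := h.h0_sub_h1 cG
    rw [hdeg, Groth.Agent.VB30.euler_structureModule hS, hg] at e
    have hz0 : Module.finrank k (Coh.HH X G 0) = 0 := by
      haveI := h.curveCoh.finite _ cG 0
      have hz : ∀ z : Γ(G, ⊤), z = 0 := fun z => by
        refine (Groth.Agent.QC70.unitHom_app_one z).symm.trans ?_
        rw [hA (Groth.Agent.QC70.unitHom z)]
        rfl
      exact Module.finrank_zero_iff.2 ⟨fun x y => (Groth.Agent.Crv77.sec G).injective ((hz _).trans (hz _).symm)⟩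
    have hz1 : Module.finrank k (Coh.HH X (Groth.Agent.QC70.homMod G ω) 0) = 0 := by
      rw [← Groth.Agent.VB30.finrank_h1_eq hS lG hω hω1 hωd]
      push_cast at e
      omega
    haveI := h.curveCoh.finite _ (Groth.Agent.QC70.isCoh_homMod cG (Groth.Agent.VB30.isCoh_of_isFinLocFree lω)) 0
    haveI : Subsingleton (Coh.HH X (Groth.Agent.QC70.homMod G ω) 0) := Module.finrank_zero_iff.1 hz1
    obtain ⟨x, hx⟩ := Groth.Agent.VB30.homOf_surjective (b ≫ φ)
    obtain ⟨y, hy⟩ := Groth.Agent.VB30.homOf_surjective (0 : G ⟶ ω)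
    refine (cancel_mono φ).1 ?_
    rw [← hx, zero_comp, ← hy, Subsingleton.elim x y]
  haveI := Groth.Agent.VB30.GalSplit.finite_end (k := k) cG
  rw [Groth.Agent.VB30.card_aut_biprod _ _ hA hB,
    Groth.Agent.VB30.card_aut_line _ (RingEquiv.ofBijective (Groth.Agent.VB30.scalHom k _) (h.bijective_scal_line h0 hO)),
    Nat.card_units, Groth.Agent.VB30.card_aut_eq_card_units]
  congr 1
  letI := hf.toField
  rw [← hc]
  exact Nat.card_units (α := End G)

end Groth.Agent.S18786
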