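import Groth.Statements.S18787
import Groth.Agent.VB30.AutCount
import Groth.Agent.VB30.Apply
import Groth.Agent.FBase64.Geometric


set_option autoImplicit false
universe u
open CategoryTheory CategoryTheory.Limits AlgebraicGeometry
open VBCurve

namespace Groth.Agent.S18787

/-- Let k be a finite field and C a smooth proper geometrically integral curve over k (proper, smooth
and geometrically integral over k, of dimension one) of genus one, i.e. dim_k H^1(C, O_C) = 1, with
a k-rational point O (an elliptic curve over k); k is finite with q elements. Let L₁ and L₂ be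
invertible O_C-modules of degree 0 (χ(L) − χ(O_C) = 0) and E = O_C ⊕ L₁ ⊕ L₂. Then the number of
automorphisms of E is: (q³ − 1)(q³ − q)(q³ − q²) if L₁ ≅ L₂ ≅ O_C; (q − 1)³ (q + 1) q if L₁ ≅ L₂ and
L₁ ≇ O_C; (q − 1)³ (q + 1) q if L₁ ≇ L₂ and L₂ ≅ O_C; and (q − 1)³ if O_C, L₁, L₂ are pairwise
non-isomorphic. (In the third case the published value is (q − 1)² q³, and the published computation
gives (q − 1)³ q²; but there E ≅ O_C ⊕ O_C ⊕ L₁ with L₁ of degree 0 and non-trivial, whose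
endomorphism ring is M₂(k) × k, so Aut(E) ≅ GL₂(k) × kˣ has (q − 1)³ (q + 1) q elements, the same
count as in the second case; the row states this corrected value.) (The published setting takes k of
characteristic at least 5; the argument does not use this and the row allows every finite field.) -/
theorem result (k : Type u) [Field k] [Finite k] (X : Scheme.{u}) [X.Over (Spec (CommRingCat.of k))]
    [IsProper (X ↘ Spec (CommRingCat.of k))] [Smooth (X ↘ Spec (CommRingCat.of k))]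
    [GeometricallyIntegral (X ↘ Spec (CommRingCat.of k))] (hdim : topologicalKrullDim ↥X = 1)
    (hg : Curv2.genus k X = 1) (O : Spec (CommRingCat.of k) ⟶ X) (hO : O ≫ (X ↘ Spec (CommRingCat.of k)) = 𝟙 _)
    (L₁ L₂ : X.Modules) (hL₁ : PicF.IsInvertible L₁) (hL₂ : PicF.IsInvertible L₂)
    (hd₁ : Curv2.deg k X L₁ 1 = 0) (hd₂ : Curv2.deg k X L₂ 1 = 0) :
    (Nonempty (L₁ ≅ Coh.structureModule X) → Nonempty (L₂ ≅ Coh.structureModule X) →
      Nat.card (Aut (Coh.structureModule X ⊞ L₁ ⊞ L₂)) =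
        (Nat.card k ^ 3 - 1) * (Nat.card k ^ 3 - Nat.card k) * (Nat.card k ^ 3 - Nat.card k ^ 2)) ∧
    (Nonempty (L₁ ≅ L₂) → ¬ Nonempty (L₁ ≅ Coh.structureModule X) →
      Nat.card (Aut (Coh.structureModule X ⊞ L₁ ⊞ L₂)) = (Nat.card k - 1) ^ 3 * (Nat.card k + 1) * Nat.card k) ∧
    (¬ Nonempty (L₁ ≅ L₂) → Nonempty (L₂ ≅ Coh.structureModule X) →
      Nat.card (Aut (Coh.structureModule X ⊞ L₁ ⊞ L₂)) = (Nat.card k - 1) ^ 3 * (Nat.card k + 1) * Nat.card k) ∧
    (¬ Nonempty (L₁ ≅ Coh.structureModule X) → ¬ Nonempty (L₂ ≅ Coh.structureModule X) → ¬ Nonempty (L₁ ≅ L₂) →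
      Nat.card (Aut (Coh.structureModule X ⊞ L₁ ⊞ L₂)) = (Nat.card k - 1) ^ 3) := by
  have := VB30.isIntegral_of_geomIntegral (k := k) (X := X)
  have : GeometricallyConnected (X ↘ Spec (CommRingCat.of k)) := FBase64.geometricallyConnected_of_geometricallyIrreducible _
  have h := VB30.cur_of_smooth k X hdim
  have h0 : Module.finrank k (Coh.HH X (Coh.structureModule X) 0) = 1 := VB30.finrank_h0_of_geomConnected
  have hO : PicF.IsInvertible (Coh.structureModule X) := EGA73.isInvertible_structureModule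
  have d0 : VB30.dg k (Coh.structureModule X) = 0 := h.dg_structureModule
  rw [VB30.deg_eq_dg_of_isInvertible hL₁] at hd₁
  rw [VB30.deg_eq_dg_of_isInvertible hL₂] at hd₂
  refine ⟨fun ⟨e₁⟩ ⟨e₂⟩ => ?_, fun ⟨e⟩ hn => ?_, fun hn ⟨e⟩ => ?_, fun a b c => ?_⟩
  · rw [VB30.card_aut_congr ((biprod.associator _ _ _).symm ≪≫
      biprod.mapIso (biprod.mapIso (Iso.refl _) e₁) e₂)]
    exact (h.card_aut_three h0 hO hO d0 d0).1
  · rw [VB30.card_aut_congr (biprod.braiding _ _ ≪≫
      biprod.mapIso (biprod.mapIso (Iso.refl L₁) e.symm) (Iso.refl (Coh.structureModule X)))]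
    exact (h.card_aut_three h0 hL₁ hO hd₁ d0).2.1 hn
  · rw [VB30.card_aut_congr (biprod.mapIso (Iso.refl _) (biprod.braiding L₁ L₂) ≪≫ (biprod.associator _ _ _).symm ≪≫
      biprod.mapIso (biprod.mapIso (Iso.refl _) e) (Iso.refl _))]
    exact (h.card_aut_three h0 hO hL₁ d0 hd₁).2.1 fun ⟨e'⟩ => hn ⟨e'.symm ≪≫ e.symm⟩
  · rw [VB30.card_aut_congr (biprod.associator _ _ _).symm]
    exact (h.card_aut_three h0 hO hL₁ d0 hd₁).2.2 L₂ hL₂ hd₂ (fun ⟨e⟩ => a ⟨e.symm⟩) (fun ⟨e⟩ => b ⟨e.symm⟩) c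

end Groth.Agent.S18787
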