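import Groth.Statements.S18788
import Groth.Agent.VB30.AutExt
import Groth.Agent.VB30.Apply
import Groth.Agent.FBase64.Geometric
import Groth.Agent.Kvb46.Local


set_option autoImplicit false
universe u
open CategoryTheory CategoryTheory.Limits AlgebraicGeometry
open VBCurve

namespace Groth.Agent.S18788

/-- Let k be a finite field and C a smooth proper geometrically integral curve over k (proper, smooth
and geometrically integral over k, of dimension one) of genus one, i.e. dim_k H^1(C, O_C) = 1, with
a k-rational point O (an elliptic curve over k); k is finite with q elements. Let F be an O_C-module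
with a short exact sequence 0 → O_C → F → O_C → 0 that does not split, and L an invertible
O_C-module of degree 0 (χ(L) − χ(O_C) = 0). Then Aut(O_C ⊕ F) has (q − 1)² q³ elements, and if L ≇
O_C then Aut(O_C ⊕ (L ⊗ F)) has (q − 1)² q elements. (The source states this for E = O_C ⊕ G with G
a geometrically indecomposable rank-2 bundle of degree 0, which it writes as L ⊗ F with F the
non-split self-extension of O_C by a classification it quotes; the row takes G in that form
directly. The accompanying count of isomorphism classes is not restated.) (The published setting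
takes k of characteristic at least 5; the argument does not use this and the row allows every finite
field.) -/
theorem result (k : Type u) [Field k] [Finite k] (X : Scheme.{u}) [X.Over (Spec (CommRingCat.of k))]
    [IsProper (X ↘ Spec (CommRingCat.of k))] [Smooth (X ↘ Spec (CommRingCat.of k))]
    [GeometricallyIntegral (X ↘ Spec (CommRingCat.of k))] (hdim : topologicalKrullDim ↥X = 1)
    (hg : Curv2.genus k X = 1) (O : Spec (CommRingCat.of k) ⟶ X) (hO : O ≫ (X ↘ Spec (CommRingCat.of k)) = 𝟙 _)
    (T : ShortComplex X.Modules) (hT : T.ShortExact)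
    (e₁ : T.X₁ ≅ Coh.structureModule X) (e₃ : T.X₃ ≅ Coh.structureModule X) (hns : ¬ IsSplitEpi T.g)
    (L : X.Modules) (hL : PicF.IsInvertible L) (hdeg : Curv2.deg k X L 1 = 0) :
    Nat.card (Aut (Coh.structureModule X ⊞ T.X₂)) = (Nat.card k - 1) ^ 2 * Nat.card k ^ 3 ∧
    (¬ Nonempty (L ≅ Coh.structureModule X) →
      Nat.card (Aut (Coh.structureModule X ⊞ CohB1.tensorMod L T.X₂)) = (Nat.card k - 1) ^ 2 * Nat.card k) := by
  have := VB30.isIntegral_of_geomIntegral (k := k) (X := X)
  have : GeometricallyConnected (X ↘ Spec (CommRingCat.of k)) := FBase64.geometricallyConnected_of_geometricallyIrreducible _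
  have h := VB30.cur_of_smooth k X hdim
  have h0 : Module.finrank k (Coh.HH X (Coh.structureModule X) 0) = 1 := VB30.finrank_h0_of_geomConnected
  have hO : PicF.IsInvertible (Coh.structureModule X) := EGA73.isInvertible_structureModule
  obtain ⟨lO, rO⟩ := VB30.lf_of_isInvertible hO
  have w : (e₁.inv ≫ T.f) ≫ (T.g ≫ e₃.hom) = 0 := by simp
  have hS : (ShortComplex.mk (e₁.inv ≫ T.f) (T.g ≫ e₃.hom) w).ShortExact :=
    ShortComplex.shortExact_of_iso (ShortComplex.isoMk e₁ (Iso.refl _) e₃ (by simp) (by simp)) hT
  have hns' : ∀ s : Coh.structureModule X ⟶ T.X₂, s ≫ T.g ≫ e₃.hom ≠ 𝟙 _ := fun s hs =>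
    hns (IsSplitEpi.mk' ⟨e₃.hom ≫ s, by rw [Category.assoc, ← cancel_mono e₃.hom, Category.assoc, Category.assoc, hs]; simp⟩)
  have lF : FlatMod.IsFinLocFree T.X₂ := Kvb46.isFinLocFree_of_shortExact (ShortComplex.mk (e₁.inv ≫ T.f) (T.g ≫ e₃.hom) w) hS lO lO
  have hF : 0 < VB30.rk T.X₂ := by
    have := (VB30.isCoh_of_isFinLocFree lF).2
    have : Mono (e₁.inv ≫ T.f) := hS.mono_f
    have := VB30.rk_le_of_mono (e₁.inv ≫ T.f)
    omega
  rw [VB30.deg_eq_dg_of_isInvertible hL] at hdeg
  exact ⟨VB30.card_aut_sum hS hns' (h.bijective_scal_line h0 hO) hF,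
    fun hn => h.card_aut_sum_twist h0 hS hns' hF hL hdeg hn⟩

end Groth.Agent.S18788
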