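import Groth.Statements.S18790
import Mathlib.Tactic

set_option autoImplicit false
universe u v w
open TorusGr

namespace Groth.Agent.S18790

/-- Let `A` be a commutative algebra over a field `k`, graded by an additive commutative group `M` (for
`M` the character group of a split torus `T`, a `T`-action on `Spec A`), let `J` be the ideal
generated by the homogeneous elements of non-zero degree (its zero locus is the fixed-point
subscheme) and let `m ⊇ J` be a maximal ideal with residue field `k` (a fixed rational point) at
which the fixed-point subscheme is the reduced point: `J` and `m` agree after localizing at `m`.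
Then the cotangent space `m/m²` has no part of weight zero: every degree-zero element of `m` lies in
`m²`. (The published statement has `M ≅ ℤ^r`, a split torus, and phrases the conclusion as the
non-vanishing of the weights of a semi-invariant basis of `m/m²`; here `M` is any additive
commutative group, i.e. any diagonalizable group.) -/
theorem result
    {k : Type u} [Field k] {M : Type v} [AddCommGroup M] [DecidableEq M]
    {A : Type w} [CommRing A] [Algebra k A] (𝒜 : M → Submodule k A) [GradedAlgebra 𝒜]
    (m : Ideal A) [m.IsMaximal] (hrat : Function.Surjective (algebraMap k (A ⧸ m)))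
    (hfix : ∀ i : M, i ≠ 0 → ∀ a ∈ 𝒜 i, a ∈ m)
    (hred : ∀ a ∈ m, ∃ s ∉ m, s * a ∈ Ideal.span {b : A | ∃ i : M, i ≠ 0 ∧ b ∈ 𝒜 i})
    {f : A} (hf0 : f ∈ 𝒜 0) (hfm : f ∈ m) : f ∈ m ^ 2 := by
  classical
  obtain ⟨s, hs, hsf⟩ := hred f hfm
  have hcomp : ∀ x : A, (DirectSum.decompose 𝒜 x 0 : A) - x ∈ m := by
    intro x
    conv => arg 2; arg 2; rw [← DirectSum.sum_support_decompose 𝒜 x]
    by_cases h0 : (0 : M) ∈ DFinsupp.support (DirectSum.decompose 𝒜 x)
    · rw [← Finset.add_sum_erase _ _ h0, sub_add_cancel_left]
      exact m.neg_mem (m.sum_mem fun i hi => hfix i (Finset.ne_of_mem_erase hi) _ (SetLike.coe_mem _))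
    · rw [DFinsupp.notMem_support_iff.mp h0, ZeroMemClass.coe_zero, zero_sub]
      exact m.neg_mem (m.sum_mem fun i hi => hfix i (fun h => h0 (h ▸ hi)) _ (SetLike.coe_mem _))
  have hspan : ∀ x ∈ Ideal.span {b : A | ∃ i : M, i ≠ 0 ∧ b ∈ 𝒜 i}, (DirectSum.decompose 𝒜 x 0 : A) ∈ m ^ 2 := by
    intro x hx
    induction hx using Submodule.span_induction with
    | mem b hb =>
      obtain ⟨i, hi, hb⟩ := hb
      rw [DirectSum.decompose_of_mem_ne 𝒜 hb hi]
      exact zero_mem _
    | zero => simp
    | add a b _ _ ha hb => rw [DirectSum.decompose_add, DirectSum.add_apply, AddMemClass.coe_add]; exact add_mem ha hb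
    | smul c b hb' hb =>
      rw [smul_eq_mul, DirectSum.decompose_mul, DirectSum.coe_mul_apply]
      refine Ideal.sum_mem _ fun ij hij => ?_
      obtain ⟨i, j⟩ := ij
      simp only [Finset.mem_filter] at hij
      rcases eq_or_ne i 0 with rfl | hi
      · have hj : j = 0 := by simpa using hij.2
        subst hj
        exact Ideal.mul_mem_left _ _ hb
      · rw [pow_two]
        refine Ideal.mul_mem_mul (hfix i hi _ (SetLike.coe_mem _)) (hfix j (fun hj => hi ?_) _ (SetLike.coe_mem _))
        simpa [hj] using hij.2
  have h := hspan _ hsf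
  rw [DirectSum.coe_decompose_mul_of_right_mem_zero 𝒜 hf0] at h
  have hs0 : (DirectSum.decompose 𝒜 s 0 : A) ∉ m := fun h0 => hs (by simpa using m.sub_mem h0 (hcomp s))
  obtain ⟨t, y, hy, hty⟩ := ‹m.IsMaximal›.exists_inv hs0
  have e : f = t * ((DirectSum.decompose 𝒜 s 0 : A) * f) + y * f := by linear_combination (-f) * hty
  rw [e]
  refine add_mem (Ideal.mul_mem_left _ _ h) ?_
  rw [pow_two]
  exact Ideal.mul_mem_mul hy hfm

end Groth.Agent.S18790
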