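import Groth.Statements.S18791
import Mathlib.Tactic

set_option autoImplicit false
universe u v w x
open TorusGr

namespace Groth.Agent.S18791

/-- Let `φ : B → A` be a degree-preserving homomorphism of commutative algebras over a field `k` graded
by an additive commutative group `M` (for `M` the character group of a split torus, an equivariant
morphism `Spec A → Spec B`), and let `m` be a maximal ideal of `A` containing all homogeneous
elements of non-zero degree (a fixed point). Then the ideal of those `b` whose image is zero in the
local ring `A_m` is homogeneous: the homogeneous (weight) components of such a `b` again die in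
`A_m`. Since `A_m` embeds in its completion when `A` is Noetherian, these are the elements of `B`
that die in the completed local ring. (The published lemma asserts moreover that, for `B = k[Y_1, …,
Y_d]` mapping the `Y_i` to semi-invariant lifts of a basis of `m/m²`, the kernel of the induced
surjection of completions `k[[Y]] → Â_m` is generated by semi-invariant polynomials; generation of
that kernel by polynomials can fail, so only the statement about polynomial elements of the kernel
is recorded here. The published statement has `M ≅ ℤ^r` (a split torus) and `B` the polynomial ring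
on the lifts; here `M` is any additive commutative group and `B` any `M`-graded `k`-algebra.) -/
theorem result
    {k : Type u} [Field k] {M : Type v} [AddCommGroup M] [DecidableEq M]
    {A : Type w} [CommRing A] [Algebra k A] (𝒜 : M → Submodule k A) [GradedAlgebra 𝒜]
    {B : Type x} [CommRing B] [Algebra k B] (ℬ : M → Submodule k B) [GradedAlgebra ℬ]
    (φ : B →ₐ[k] A) (hφ : ∀ i : M, ∀ b ∈ ℬ i, φ b ∈ 𝒜 i)
    (m : Ideal A) [m.IsMaximal] (hfix : ∀ i : M, i ≠ 0 → ∀ a ∈ 𝒜 i, a ∈ m) :
    (RingHom.ker ((algebraMap A (Localization.AtPrime m)).comp (φ : B →+* A))).IsHomogeneous ℬ := by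
  classical
  intro i b hb
  rw [RingHom.mem_ker, RingHom.comp_apply] at hb ⊢
  obtain ⟨⟨s, hs⟩, hsb⟩ := (IsLocalization.map_eq_zero_iff m.primeCompl (Localization.AtPrime m) _).mp hb
  set a := φ b with ha
  have hsb' : s * a = 0 := hsb
  set D : M → A := fun j => φ (DirectSum.decompose ℬ b j : B) with hD
  set σ : M → A := fun j => (DirectSum.decompose 𝒜 s j : A) with hσ
  set S := DFinsupp.support (DirectSum.decompose ℬ b) with hS
  have hDS : a = ∑ j ∈ S, D j := by
    rw [ha]
    conv_lhs => rw [← DirectSum.sum_support_decompose ℬ b]
    exact map_sum φ _ _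
  have hDmem : ∀ j, D j ∈ 𝒜 j := fun j => hφ j _ (SetLike.coe_mem _)
  have hσdiff : ∀ j, j ≠ 0 → σ j ∈ m := fun j hj => hfix j hj _ (SetLike.coe_mem _)
  have heq : ∀ j, ∑ l ∈ S, σ (j - l) * D l = 0 := by
    intro j
    have h := congrArg (fun x : A => (DirectSum.decompose 𝒜 x j : A)) hsb'
    simp only [DirectSum.decompose_zero, DirectSum.zero_apply, ZeroMemClass.coe_zero] at h
    rw [hDS, Finset.mul_sum, DirectSum.decompose_sum, DFinsupp.finsetSum_apply, AddSubmonoidClass.coe_finsetSum] at h
    rw [← h]
    refine Finset.sum_congr rfl fun l _ => ?_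
    have := DirectSum.coe_decompose_mul_add_of_right_mem 𝒜 (a := s) (i := j - l) (hDmem l)
    rw [sub_add_cancel] at this
    exact this.symm
  have hs0 : σ 0 ∉ m := by
    intro h0
    apply hs
    rw [← DirectSum.sum_support_decompose 𝒜 s]
    refine m.sum_mem fun j _ => ?_
    rcases eq_or_ne j 0 with rfl | hj
    · exact h0
    · exact hσdiff j hj
  set Mx : Matrix S S A := Matrix.of fun j l : S => σ ((j : M) - l) with hMx
  have hdet : Mx.det ∉ m := by
    intro hd
    rw [← Ideal.Quotient.eq_zero_iff_mem, RingHom.map_det] at hd
    have e : (Ideal.Quotient.mk m).mapMatrix Mx = Matrix.diagonal fun _ => Ideal.Quotient.mk m (σ 0) := by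
      ext j l
      rw [RingHom.mapMatrix_apply, Matrix.map_apply, hMx, Matrix.of_apply]
      rcases eq_or_ne j l with rfl | hjl
      · rw [sub_self, Matrix.diagonal_apply_eq]
      · rw [Matrix.diagonal_apply_ne _ hjl, Ideal.Quotient.eq_zero_iff_mem]
        exact hσdiff _ (sub_ne_zero.mpr (Subtype.coe_injective.ne hjl))
    rw [e, Matrix.det_diagonal, Finset.prod_const] at hd
    exact hs0 (Ideal.Quotient.eq_zero_iff_mem.mp (pow_eq_zero_iff'.mp hd).1)
  have hv : Mx.mulVec (fun l : S => D l) = 0 := funext fun j => by
    show ∑ l : S, σ ((j : M) - l) * D l = 0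
    exact (Finset.sum_coe_sort S (fun l => σ ((j : M) - l) * D l)).trans (heq j)
  by_cases hi : i ∈ S
  · have h := congrArg (fun v => Mx.adjugate.mulVec v) hv
    simp only [Matrix.mulVec_mulVec, Matrix.adjugate_mul, Matrix.mulVec_zero, Matrix.smul_mulVec, Matrix.one_mulVec] at h
    exact (IsLocalization.map_eq_zero_iff m.primeCompl (Localization.AtPrime m) _).mpr
      ⟨⟨Mx.det, hdet⟩, congrFun h ⟨i, hi⟩⟩
  · rw [DFinsupp.notMem_support_iff.mp hi]
    simp

end Groth.Agent.S18791
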