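import Groth.Statements.S18792

set_option autoImplicit false
universe u
open DefMod

namespace Groth.Agent.S18792

/-- Let A be an associative unital algebra over ℚ, let a ∈ A be nilpotent and let b ∈ A. Then the
commutator map x ↦ a x − x a is a nilpotent ℚ-linear endomorphism of A, and exp(a) b exp(−a) =
exp(ad a)(b), where exp is the finite exponential series of a nilpotent element and ad a is the
commutator map. (The published statement takes A an algebra over an arbitrary commutative ring; the
factorials in the exponential series require the rationals to act, so A is taken to be a ℚ-algebra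
here. The intermediate double-sum expansion printed between the two sides is not restated.) -/
theorem result {A : Type u} [Ring A] [Algebra ℚ A] (a b : A)
    (ha : IsNilpotent a) :
    IsNilpotent (LinearMap.mulLeft ℚ a - LinearMap.mulRight ℚ a) ∧
      IsNilpotent.exp a * b * IsNilpotent.exp (-a) =
        IsNilpotent.exp (LinearMap.mulLeft ℚ a - LinearMap.mulRight ℚ a) b := by
  have hL : IsNilpotent (LinearMap.mulLeft ℚ a) := by
    obtain ⟨n, hn⟩ := ha
    exact ⟨n, by rw [LinearMap.pow_mulLeft, hn, LinearMap.mulLeft_zero_eq_zero]⟩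
  have hR : IsNilpotent (LinearMap.mulRight ℚ a) := by
    obtain ⟨n, hn⟩ := ha
    exact ⟨n, by rw [LinearMap.pow_mulRight, hn, LinearMap.mulRight_zero_eq_zero]⟩
  have hc := LinearMap.commute_mulLeft_right (R := ℚ) a a
  refine ⟨hc.isNilpotent_sub hL hR, ?_⟩
  rw [sub_eq_add_neg, IsNilpotent.exp_add_of_commute hc.neg_right hL hR.neg]
  have e₁ : IsNilpotent.exp (LinearMap.mulLeft ℚ a) = LinearMap.mulLeft ℚ (IsNilpotent.exp a) :=
    (IsNilpotent.map_exp ha (Algebra.lmul ℚ A)).symm
  have e₂ : IsNilpotent.exp (-LinearMap.mulRight ℚ a) = LinearMap.mulRight ℚ (IsNilpotent.exp (-a)) := by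
    obtain ⟨n, hn⟩ := ha.neg
    have h' : -LinearMap.mulRight ℚ a = LinearMap.mulRight ℚ (-a) := LinearMap.ext fun x => (mul_neg x a).symm
    have hp : (LinearMap.mulRight ℚ (-a)) ^ n = 0 := by
      rw [LinearMap.pow_mulRight, hn, LinearMap.mulRight_zero_eq_zero]
    rw [h', IsNilpotent.exp_eq_sum hn, IsNilpotent.exp_eq_sum hp]
    refine LinearMap.ext fun x => ?_
    simp only [LinearMap.coe_sum, Finset.sum_apply, LinearMap.smul_apply, LinearMap.mulRight_apply,
      LinearMap.pow_mulRight, Finset.mul_sum, mul_smul_comm]
  rw [e₁, e₂]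
  exact mul_assoc _ _ _

end Groth.Agent.S18792
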