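import Groth.Statements.S18793
import Mathlib.RingTheory.Flat.Basic
import Mathlib.RingTheory.Flat.Stability
import Mathlib.RingTheory.HopkinsLevitzki
import Mathlib.LinearAlgebra.TensorProduct.Quotient
import Mathlib.RingTheory.Nakayama

set_option autoImplicit false
universe u v w w'
open DefMod

namespace Groth.Agent.S18793

set_option maxHeartbeats 1000000

/-- Let E be a nonzero left module over an associative algebra D over a field K of characteristic zero,
whose D-linear endomorphisms are exactly the scalars of K. Let R be an Artinian local K-algebra with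
residue field K, and let F carry commuting R- and D-module structures (a left module over R ⊗_K D)
with F flat over R, together with a D-linear map θ : F → E that is semilinear over the augmentation
R → K, surjective, and whose kernel is m_R F (so θ induces an isomorphism K ⊗_R F ≅ E; that is, (F,
θ) is a deformation of E over R). Then every endomorphism of F that is both R-linear and D-linear is
multiplication by a unique element of R. (The published statement adds that the automorphisms of (F,
θ) are then exactly the elements 1 + m_R of R; that consequence is stated separately.) -/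
theorem result
    {K : Type u} [Field K] [CharZero K]
    {D : Type v} [Ring D] [Algebra K D]
    {E : Type w} [AddCommGroup E] [Module K E] [Module D E] [IsScalarTower K D E] [Nontrivial E]
    (hE : ∀ ψ : E →ₗ[D] E, ∃ c : K, ∀ y : E, ψ y = c • y)
    (R : ArtFun.Art K K)
    {F : Type w'} [AddCommGroup F] [Module K F] [Module R F] [Module D F]
    [IsScalarTower K R F] [IsScalarTower K D F] [SMulCommClass R D F] [Module.Flat R F]
    (θ : F →ₗ[D] E) (hθ : ∀ (r : R) (x : F), θ (r • x) = R.res r • θ x)
    (hsurj : Function.Surjective θ)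
    (hker : ∀ x : F, θ x = 0 ↔ x ∈ IsLocalRing.maximalIdeal R • (⊤ : Submodule R F))
    (φ : F →ₗ[R] F) (hφ : ∀ (d : D) (x : F), φ (d • x) = d • φ x) :
    ∃! r : R, ∀ x : F, φ x = r • x := by
  classical
  haveI : SMulCommClass D R F := SMulCommClass.symm R D F
  set m := IsLocalRing.maximalIdeal R with hm
  -- flatness: division by `t` modulo `J • F`
  have hdiv : ∀ (J : Ideal R) (t : R), t ∉ J → (∀ a ∈ m, a * t ∈ J) → ∀ x : F,
      t • x ∈ J • (⊤ : Submodule R F) → x ∈ m • (⊤ : Submodule R F) := by
    intro J t htJ htm x hx
    let μ : R →ₗ[R] R ⧸ J := (Submodule.mkQ J) ∘ₗ LinearMap.mulLeft R t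
    have hex : Function.Exact m.subtype μ := fun a => by
      constructor
      · intro ha
        refine ⟨⟨a, fun hu => htJ ?_⟩, rfl⟩
        obtain ⟨u, rfl⟩ := hu
        have h1 : t * (u : R) ∈ J := (Submodule.Quotient.mk_eq_zero J).1 ha
        simpa using J.mul_mem_right (↑u⁻¹ : R) h1
      · rintro ⟨a, rfl⟩
        refine (Submodule.Quotient.mk_eq_zero J).2 ?_
        change t * (a : R) ∈ J
        rw [mul_comm]
        exact htm _ a.2
    obtain ⟨y, hy⟩ := (Module.Flat.lTensor_exact F hex (x ⊗ₜ[R] (1 : R))).1 (by
      have e : μ 1 = Submodule.Quotient.mk t := congrArg Submodule.Quotient.mk (mul_one t)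
      rw [LinearMap.lTensor_tmul, e]
      apply (TensorProduct.tensorQuotEquivQuotSMul F J).injective
      have e2 : (x ⊗ₜ[R] (Submodule.Quotient.mk t : R ⧸ J)) = (t • x) ⊗ₜ[R] (Submodule.Quotient.mk 1 : R ⧸ J) := by
        rw [TensorProduct.smul_tmul, ← Submodule.Quotient.mk_smul, smul_eq_mul, mul_one]
      rw [map_zero, e2]
      change TensorProduct.tensorQuotEquivQuotSMul F J ((t • x) ⊗ₜ[R] (Ideal.Quotient.mk J 1)) = 0
      rw [TensorProduct.tensorQuotEquivQuotSMul_tmul_mk, one_smul, Submodule.Quotient.mk_eq_zero]
      exact hx)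
    have key : ∀ z : TensorProduct R F m, TensorProduct.rid R F (m.subtype.lTensor F z) ∈ m • (⊤ : Submodule R F) := fun z => by
      induction z with
      | zero => simp
      | tmul p a =>
        rw [LinearMap.lTensor_tmul, TensorProduct.rid_tmul]
        exact Submodule.smul_mem_smul a.2 trivial
      | add p q hp hq => rw [map_add, map_add]; exact Submodule.add_mem _ hp hq
    have := key y
    rwa [hy, TensorProduct.rid_tmul, one_smul] at this
  obtain ⟨n, hn⟩ : ∃ n, m ^ n = ⊥ := by
    have := IsArtinianRing.isNilpotent_jacobson_bot (R := R)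
    rwa [IsLocalRing.jacobson_eq_maximalIdeal ⊥ bot_ne_top] at this
  have hsocle : ∀ (I J : Ideal R), J < I → ∃ t ∈ I, t ∉ J ∧ ∀ a ∈ m, a * t ∈ J := by
    intro I J hJI
    have key : ∀ j, ∀ z ∈ I, z ∉ J → (∀ b ∈ m ^ j, b * z ∈ J) → ∃ t ∈ I, t ∉ J ∧ ∀ a ∈ m, a * t ∈ J := by
      intro j
      induction j with
      | zero => exact fun z _ hz h => absurd (by simpa using h 1 (by simp)) hz
      | succ j ih =>
        intro z hzI hzJ h
        by_cases h1 : ∀ b ∈ m ^ j, b * z ∈ J
        · exact ih z hzI hzJ h1
        · push Not at h1
          obtain ⟨b, hb, hbz⟩ := h1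
          refine ⟨b * z, I.mul_mem_left b hzI, hbz, fun a ha => ?_⟩
          rw [← mul_assoc]
          exact h _ (by rw [pow_succ']; exact Ideal.mul_mem_mul ha hb)
    obtain ⟨z, hzI, hzJ⟩ := SetLike.exists_of_lt hJI
    exact key n z hzI hzJ fun b hb => by rw [hn, Ideal.mem_bot] at hb; rw [hb, zero_mul]; exact J.zero_mem
  have hθK : ∀ (c : K) (y : F), θ (c • y) = c • θ y := fun c y => by
    rw [← algebraMap_smul R c y, hθ, AlgHom.commutes]
    rfl
  have hres0 : ∀ a ∈ m, R.res a = 0 := fun a ha => (R.mem_maximalIdeal_iff a).1 ha
  have hD : ∀ (J : Ideal R) (d : D) (y : F), y ∈ J • (⊤ : Submodule R F) → d • y ∈ J • (⊤ : Submodule R F) := by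
    intro J d y hy
    induction hy using Submodule.smul_induction_on' with
    | smul a ha z _ => rw [smul_comm d a z]; exact Submodule.smul_mem_smul ha trivial
    | add y _ z _ hy hz => rw [smul_add]; exact Submodule.add_mem _ hy hz
  have hsmulmem : ∀ (J : Ideal R) (t : R), (∀ a ∈ m, a * t ∈ J) → ∀ y : F, θ y = 0 →
      t • y ∈ J • (⊤ : Submodule R F) := by
    intro J t htm y hy
    have hy' := (hker y).1 hy
    clear hy
    induction hy' using Submodule.smul_induction_on' with
    | smul a ha z _ => rw [smul_smul, mul_comm t a]; exact Submodule.smul_mem_smul (htm a ha) trivial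
    | add y _ z _ hy hz => rw [smul_add]; exact Submodule.add_mem _ hy hz
  have hexists : ∀ J : Ideal R, ∃ r : R, ∀ x, φ x - r • x ∈ J • (⊤ : Submodule R F) := by
    intro J
    induction J using WellFoundedGT.induction with
    | _ J ih =>
      rcases eq_or_ne J ⊤ with rfl | hJ
      · exact ⟨0, fun x => by simp⟩
      obtain ⟨t, -, htJ, htm⟩ := hsocle ⊤ J (lt_top_iff_ne_top.2 hJ)
      obtain ⟨r, hr⟩ := ih (J ⊔ Ideal.span {t})
        (lt_of_le_of_ne le_sup_left fun e => htJ (e ▸ Submodule.mem_sup_right (Ideal.mem_span_singleton_self t)))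
      have hy : ∀ x, ∃ y, φ x - r • x - t • y ∈ J • (⊤ : Submodule R F) := fun x => by
        have hx := hr x
        rw [Submodule.sup_smul, Submodule.mem_sup] at hx
        obtain ⟨u, hu, v, hv, huv⟩ := hx
        rw [Submodule.ideal_span_singleton_smul, Submodule.mem_smul_pointwise_iff_exists] at hv
        obtain ⟨y, -, rfl⟩ := hv
        exact ⟨y, by rw [← huv, add_sub_cancel_right]; exact hu⟩
      choose g hg using hy
      have hguniq : ∀ x y, φ x - r • x - t • y ∈ J • (⊤ : Submodule R F) → θ (g x) = θ y := fun x y h => by
        rw [← sub_eq_zero, ← map_sub, hker]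
        refine hdiv J t htJ htm _ ?_
        have := Submodule.sub_mem _ h (hg x)
        rwa [sub_sub_sub_cancel_left, ← smul_sub] at this
      let G : F →ₗ[D] E :=
        { toFun := fun x => θ (g x)
          map_add' := fun x x' => by
            rw [← map_add]
            refine hguniq _ _ ?_
            convert Submodule.add_mem _ (hg x) (hg x') using 1
            simp only [map_add, smul_add]
            abel
          map_smul' := fun d x => by
            rw [RingHom.id_apply, ← map_smul]
            refine hguniq _ _ ?_
            convert hD J d _ (hg x) using 1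
            simp only [smul_sub, hφ, smul_comm d r x, smul_comm d t (g x)] }
      have hG0 : ∀ x, θ x = 0 → G x = 0 := fun x hx => by
        change θ (g x) = 0
        rw [← map_zero θ]
        refine hguniq x 0 ?_
        rw [smul_zero, sub_zero]
        have hx' := (hker x).1 hx
        clear hx
        induction hx' using Submodule.smul_induction_on' with
        | smul a ha z _ =>
          rw [map_smul, smul_comm r a z, ← smul_sub]
          have hz := hr z
          have : a • (φ z - r • z) ∈ (Ideal.span {a} * (J ⊔ Ideal.span {t})) • (⊤ : Submodule R F) := by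
            rw [Submodule.mul_smul]
            exact Submodule.smul_mem_smul (Ideal.mem_span_singleton_self a) hz
          refine Submodule.smul_mono_left ?_ this
          rw [Ideal.mul_sup, sup_le_iff]
          refine ⟨Ideal.mul_le_right, ?_⟩
          rw [Ideal.span_singleton_mul_span_singleton, Ideal.span_singleton_le_iff_mem]
          exact htm a ha
        | add y _ z _ hy hz =>
          convert Submodule.add_mem _ hy hz using 1
          simp only [map_add, smul_add]
          abel
      choose sec hsec using hsurj
      have hGsec : ∀ x, G x = G (sec (θ x)) := fun x => by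
        rw [← sub_eq_zero, ← map_sub]
        exact hG0 _ (by rw [map_sub, hsec, sub_self])
      let ψ : E →ₗ[D] E :=
        { toFun := fun e => G (sec e)
          map_add' := fun e e' => by
            rw [← map_add, hGsec (sec e + sec e'), map_add, hsec, hsec]
          map_smul' := fun d e => by
            rw [RingHom.id_apply, ← map_smul, hGsec (d • sec e), map_smul, hsec] }
      obtain ⟨c, hc⟩ := hE ψ
      refine ⟨r + c • t, fun x => ?_⟩
      have h1 : θ (g x - c • x) = 0 := by
        rw [map_sub, hθK, ← hc (θ x), sub_eq_zero]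
        exact hGsec x
      have h2 := Submodule.add_mem _ (hg x) (hsmulmem J t htm _ h1)
      convert h2 using 1
      rw [add_smul, smul_assoc, smul_sub, smul_comm t c x]
      abel
  obtain ⟨r, hr⟩ := hexists ⊥
  refine ⟨r, fun x => ?_, fun r' hr' => ?_⟩
  · have := hr x
    rwa [Submodule.bot_smul, Submodule.mem_bot, sub_eq_zero] at this
  · by_contra hne
    have hφr : ∀ x : F, φ x = r • x := fun x => by
      have := hr x
      rwa [Submodule.bot_smul, Submodule.mem_bot, sub_eq_zero] at this
    obtain ⟨t, htI, ht0, htm⟩ := hsocle (Ideal.span {r' - r}) ⊥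
      (bot_lt_iff_ne_bot.2 fun h => hne (sub_eq_zero.1 (Ideal.span_singleton_eq_bot.1 h)))
    obtain ⟨e, he⟩ := exists_ne (0 : E)
    obtain ⟨x, rfl⟩ := hsurj e
    refine he ((hker x).2 (hdiv ⊥ t ht0 htm x ?_))
    obtain ⟨a, rfl⟩ := Ideal.mem_span_singleton'.1 htI
    rw [mul_smul, sub_smul, ← hr', hφr, sub_self, smul_zero]
    exact Submodule.zero_mem _

end Groth.Agent.S18793
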