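import Groth.Statements.S18794
import Mathlib

set_option autoImplicit false
universe u v w
open scoped TensorProduct
open DefMod

namespace Groth.Agent.S18794

/-- Let E be a left module over an associative algebra D over a field K of characteristic zero. For a
field extension L of K, the base change L ⊗_K E is a module over L ⊗_K D, i.e. an L-vector space
with a commuting action of D; call it irreducible when it is nonzero and its only L-subspaces stable
under every element of D are 0 and the whole space. Then E is absolutely irreducible (its base
change to an algebraic closure of K is irreducible) if and only if L ⊗_K E is irreducible for every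
finite extension L of K. (Finite extensions are taken in the universe of K.) -/
theorem result
    {K : Type u} [Field K] [CharZero K]
    {D : Type v} [Ring D] [Algebra K D]
    {E : Type w} [AddCommGroup E] [Module K E] [Module D E] [IsScalarTower K D E] :
    (Nontrivial (AlgebraicClosure K ⊗[K] E) ∧ ∀ N : Submodule (AlgebraicClosure K) (AlgebraicClosure K ⊗[K] E), (∀ (d : D) (x : AlgebraicClosure K ⊗[K] E), x ∈ N → (DistribSMul.toLinearMap K E d).baseChange (AlgebraicClosure K) x ∈ N) → N = ⊥ ∨ N = ⊤) ↔
      ∀ (L : Type u) [Field L] [Algebra K L] [FiniteDimensional K L],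
        (Nontrivial (L ⊗[K] E) ∧ ∀ N : Submodule (L) (L ⊗[K] E), (∀ (d : D) (x : L ⊗[K] E), x ∈ N → (DistribSMul.toLinearMap K E d).baseChange (L) x ∈ N) → N = ⊥ ∨ N = ⊤) := by
  classical
  have hι : ∀ (L M : Type u) [Field L] [Field M] [Algebra K L] [Algebra K M] (σ : L →ₐ[K] M) (d : D)
      (x : L ⊗[K] E), (DistribSMul.toLinearMap K E d).baseChange M (σ.toLinearMap.rTensor E x) =
        σ.toLinearMap.rTensor E ((DistribSMul.toLinearMap K E d).baseChange L x) := by
    intro L M _ _ _ _ σ d x
    induction x with
    | zero => simp
    | add u v hu hv => simp only [map_add, hu, hv]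
    | tmul a e => simp [LinearMap.baseChange_tmul]
  have hnt : ∀ (L : Type u) [Field L] [Algebra K L], Nontrivial (L ⊗[K] E) ↔ Nontrivial E := by
    intro L _ _
    refine ⟨fun h => ?_, fun h => inferInstance⟩
    by_contra hE
    rw [not_nontrivial_iff_subsingleton] at hE
    exact not_nontrivial _ h
  constructor
  · rintro ⟨hK, hirr⟩ L _ _ _
    refine ⟨(hnt L).mpr ((hnt (AlgebraicClosure K)).mp hK), fun N hN => ?_⟩
    let σ : L →ₐ[K] AlgebraicClosure K := IsAlgClosed.lift
    letI : Algebra L (AlgebraicClosure K) := σ.toRingHom.toAlgebra
    haveI : IsScalarTower K L (AlgebraicClosure K) := IsScalarTower.of_algebraMap_eq fun r => (σ.commutes r).symm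
    obtain ⟨π, hπ⟩ := (Algebra.linearMap L (AlgebraicClosure K)).exists_leftInverse_of_injective
      (LinearMap.ker_eq_bot.mpr (algebraMap L (AlgebraicClosure K)).injective)
    have hπ1 : ∀ a : L, π (σ a) = a := fun a => LinearMap.congr_fun hπ a
    let ι := σ.toLinearMap.rTensor E
    let ρ := (π.restrictScalars K).rTensor E
    have hρ : ∀ (k : AlgebraicClosure K) (y : L ⊗[K] E), ρ (k • ι y) = π k • y := by
      intro k y
      induction y with
      | zero => simp
      | add u v hu hv => simp only [map_add, smul_add, hu, hv]
      | tmul a e =>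
        have hka : π (k * σ a) = π k * a := by
          have h := map_smul π a k
          rw [Algebra.smul_def, show algebraMap L (AlgebraicClosure K) a = σ a from rfl, smul_eq_mul] at h
          rw [mul_comm k, h, mul_comm]
        simp [ι, ρ, TensorProduct.smul_tmul', hka]
    let N' := Submodule.span (AlgebraicClosure K) (ι '' (N : Set (L ⊗[K] E)))
    have hN' : ∀ (d : D) (z : AlgebraicClosure K ⊗[K] E), z ∈ N' →
        (DistribSMul.toLinearMap K E d).baseChange (AlgebraicClosure K) z ∈ N' := by
      intro d z hz
      induction hz using Submodule.span_induction with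
      | mem z hz =>
        obtain ⟨y, hy, rfl⟩ := hz
        rw [hι]
        exact Submodule.subset_span ⟨_, hN d y hy, rfl⟩
      | zero => simp
      | add u v _ _ hu hv => rw [map_add]; exact add_mem hu hv
      | smul k u _ hu => rw [map_smul]; exact Submodule.smul_mem _ k hu
    rcases hirr N' hN' with h | h
    · left
      refine (Submodule.eq_bot_iff N).mpr fun y hy => ?_
      have h0 : ι y ∈ N' := Submodule.subset_span ⟨y, hy, rfl⟩
      rw [h, Submodule.mem_bot] at h0
      have := hρ 1 y
      rw [one_smul, h0, map_zero, show π 1 = 1 by simpa using hπ1 1, one_smul] at this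
      exact this.symm
    · right
      refine eq_top_iff.mpr fun y _ => ?_
      have key : ∀ z ∈ N', ∀ k : AlgebraicClosure K, ρ (k • z) ∈ N := by
        intro z hz
        induction hz using Submodule.span_induction with
        | mem z hz =>
          obtain ⟨w, hw, rfl⟩ := hz
          exact fun k => by rw [hρ]; exact N.smul_mem _ hw
        | zero => simp
        | add u v _ _ hu hv => exact fun k => by rw [smul_add, map_add]; exact add_mem (hu k) (hv k)
        | smul c u _ hu => exact fun k => by rw [smul_smul]; exact hu _
      have h1 := key (ι y) (h ▸ Submodule.mem_top) 1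
      rw [hρ, show π 1 = 1 by simpa using hπ1 1, one_smul] at h1
      exact h1
  · intro h
    refine ⟨(hnt _).mpr ((hnt K).mp (h K).1), fun N hN => ?_⟩
    by_contra hc
    obtain ⟨hbot, htop⟩ := not_or.mp hc
    obtain ⟨z, hz, hz0⟩ := Submodule.exists_mem_ne_zero_of_ne_bot hbot
    obtain ⟨S, hS⟩ := TensorProduct.exists_finset z
    let L := IntermediateField.adjoin K (S.image Prod.fst : Set (AlgebraicClosure K))
    have : FiniteDimensional K L :=
      IntermediateField.finiteDimensional_adjoin fun x _ => Algebra.IsIntegral.isIntegral x
    obtain ⟨-, hL⟩ := h L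
    let ι := L.val.toLinearMap.rTensor E
    let y : L ⊗[K] E := ∑ p ∈ S.attach, (⟨p.1.1, IntermediateField.subset_adjoin K _
      (Finset.mem_coe.mpr (Finset.mem_image_of_mem _ p.2))⟩ : L) ⊗ₜ[K] p.1.2
    have hy : ι y = z := by
      simp only [y, ι, map_sum, LinearMap.rTensor_tmul, AlgHom.toLinearMap_apply]
      exact (Finset.sum_attach S fun p => p.1 ⊗ₜ[K] p.2).trans hS.symm
    let N₀ : Submodule L (L ⊗[K] E) :=
      { carrier := {w | ι w ∈ N}
        add_mem' := fun {a b} ha hb => by show ι (a + b) ∈ N; rw [map_add]; exact add_mem ha hb
        zero_mem' := by show ι 0 ∈ N; rw [map_zero]; exact zero_mem _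
        smul_mem' := fun c w hw => by
          show ι (c • w) ∈ N
          have : ι (c • w) = (c : AlgebraicClosure K) • ι w := by
            clear hw
            induction w with
            | zero => simp
            | add u v hu hv => simp only [smul_add, map_add, hu, hv]
            | tmul a e => simp [ι, TensorProduct.smul_tmul']
          rw [this]
          exact N.smul_mem _ hw }
    rcases hL N₀ (fun d w hw => by
      show ι _ ∈ N
      rw [← hι L (AlgebraicClosure K) L.val d w]
      exact hN d _ hw) with h0 | h0
    · have : y ∈ N₀ := show ι y ∈ N by rw [hy]; exact hz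
      rw [h0, Submodule.mem_bot] at this
      exact hz0 (by rw [← hy, this, map_zero])
    · refine htop (eq_top_iff.mpr fun x _ => ?_)
      induction x with
      | zero => exact zero_mem _
      | add u v hu hv => exact add_mem (hu trivial) (hv trivial)
      | tmul a e =>
        have h1 : (1 : L) ⊗ₜ[K] e ∈ N₀ := h0 ▸ Submodule.mem_top
        have h2 : (1 : AlgebraicClosure K) ⊗ₜ[K] e ∈ N := by simpa [ι] using (show ι _ ∈ N from h1)
        have := N.smul_mem a h2
        rwa [TensorProduct.smul_tmul', smul_eq_mul, mul_one] at this

end Groth.Agent.S18794
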