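import Groth.Statements.S18795
import Mathlib

set_option autoImplicit false
universe u v w
open scoped TensorProduct
open DefMod

namespace Groth.Agent.S18795

/-- Let E be a left module over an associative algebra D over a field K of characteristic zero. Assume
that the D-linear endomorphisms of E form a finite-dimensional K-vector space, that E has a finite
presentation over D, and that E is absolutely irreducible: its base change K̄ ⊗_K E to an algebraic
closure K̄ of K is nonzero and its only K̄-subspaces stable under every element of D are 0 and the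
whole space. Then End_D(E) = K: every D-linear endomorphism of E is multiplication by a scalar from
K. -/
theorem result
    {K : Type u} [Field K] [CharZero K]
    {D : Type v} [Ring D] [Algebra K D]
    {E : Type w} [AddCommGroup E] [Module K E] [Module D E] [IsScalarTower K D E]
    [Module.Finite K (E →ₗ[D] E)] [Module.FinitePresentation D E]
    (habs : (Nontrivial (AlgebraicClosure K ⊗[K] E) ∧ ∀ N : Submodule (AlgebraicClosure K) (AlgebraicClosure K ⊗[K] E), (∀ (d : D) (x : AlgebraicClosure K ⊗[K] E), x ∈ N → (DistribSMul.toLinearMap K E d).baseChange (AlgebraicClosure K) x ∈ N) → N = ⊥ ∨ N = ⊤))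
    (φ : E →ₗ[D] E) : ∃ c : K, ∀ x : E, φ x = c • x := by
  classical
  obtain ⟨hnt, hirr⟩ := habs
  let L := AlgebraicClosure K
  have : SMulCommClass D K E := inferInstance
  let R := Module.End D E
  have : Module.Finite K R := ‹Module.Finite K (E →ₗ[D] E)›
  obtain ⟨p, hp, hp0⟩ := IsIntegral.of_finite K (φ : R)
  let bc : R →ₐ[K] Module.End L (L ⊗[K] E) :=
    AlgHom.ofLinearMap
      { toFun := fun f => (LinearMap.restrictScalars K f).baseChange L
        map_add' := fun f g => by
          ext x; simp [R, LinearMap.baseChange_tmul, TensorProduct.tmul_add]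
        map_smul' := fun c f => by
          ext x; simp [R, LinearMap.baseChange_tmul, TensorProduct.tmul_smul] }
      (by ext x; simp [R, LinearMap.baseChange_tmul])
      (fun f g => by ext x; simp [R, LinearMap.baseChange_tmul])
  let Φ := bc φ
  have hΦ : ∀ (a : L) (x : E), Φ (a ⊗ₜ[K] x) = a ⊗ₜ[K] φ x := fun a x => LinearMap.baseChange_tmul ..
  have hcomm : ∀ (d : D) (y : L ⊗[K] E), Φ ((DistribSMul.toLinearMap K E d).baseChange L y) =
      (DistribSMul.toLinearMap K E d).baseChange L (Φ y) := by
    intro d y
    induction y with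
    | zero => simp
    | add u v hu hv => simp only [map_add, hu, hv]
    | tmul a x => simp [hΦ, LinearMap.baseChange_tmul]
  have hroot : ∃ μ : L, ∃ y : L ⊗[K] E, y ≠ 0 ∧ Φ y = μ • y := by
    by_contra hc
    push Not at hc
    have h0 : Polynomial.aeval Φ (p.map (algebraMap K L)) = 0 := by
      rw [Polynomial.aeval_map_algebraMap, Polynomial.aeval_algHom_apply]
      show bc (Polynomial.aeval φ p) = 0
      rw [show Polynomial.aeval (φ : R) p = 0 from hp0, map_zero]
    have hsplit : (p.map (algebraMap K L)).Splits := IsAlgClosed.splits _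
    obtain ⟨l, hl⟩ : ∃ l : List L, ((p.map (algebraMap K L)).roots : Multiset L) = l :=
      ⟨_, (Multiset.coe_toList _).symm⟩
    rw [hsplit.eq_prod_roots, (hp.map _).leadingCoeff, map_one, one_mul, hl, Multiset.map_coe,
      Multiset.prod_coe, map_list_prod, List.map_map] at h0
    have hinj : ∀ l : List L, ∀ y : L ⊗[K] E,
        ((l.map fun r => Polynomial.aeval Φ (Polynomial.X - Polynomial.C r)).prod) y = 0 → y = 0 := by
      intro l
      induction l with
      | nil => intro y hy; simpa using hy
      | cons r l ih =>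
        intro y hy
        rw [List.map_cons, List.prod_cons, Module.End.mul_apply, map_sub, Polynomial.aeval_X, Polynomial.aeval_C,
          LinearMap.sub_apply, Module.algebraMap_end_apply, sub_eq_zero] at hy
        refine ih y (not_not.mp fun hne => hc r _ hne hy)
    obtain ⟨y, hy⟩ := exists_ne (0 : L ⊗[K] E)
    exact hy (hinj l y (LinearMap.congr_fun h0 y))
  obtain ⟨μ, y₀, hy₀, hμ⟩ := hroot
  have htop : LinearMap.ker (Φ - μ • LinearMap.id) = ⊤ := by
    refine (hirr _ fun d z hz => ?_).resolve_left fun h => hy₀ ?_
    · rw [LinearMap.mem_ker, LinearMap.sub_apply, LinearMap.smul_apply, LinearMap.id_apply] at hz ⊢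
      rw [hcomm, ← map_smul, ← map_sub, hz, map_zero]
    · have : y₀ ∈ LinearMap.ker (Φ - μ • LinearMap.id) := by
        simp [LinearMap.mem_ker, hμ]
      simpa [h] using this
  have hall : ∀ x : E, (1 : L) ⊗ₜ[K] φ x = μ ⊗ₜ[K] x := fun x => by
    have : (1 : L) ⊗ₜ[K] x ∈ LinearMap.ker (Φ - μ • LinearMap.id) := htop ▸ Submodule.mem_top
    simpa [LinearMap.mem_ker, sub_eq_zero, hΦ, TensorProduct.smul_tmul'] using this
  have hμK : ∃ c : K, algebraMap K L c = μ := by
    by_contra hne
    have hind : LinearIndependent K ![(1 : L), μ] := by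
      rw [LinearIndependent.pair_iff' one_ne_zero]
      intro a ha
      exact hne ⟨a, by rw [Algebra.algebraMap_eq_smul_one]; exact ha⟩
    obtain ⟨g, hg⟩ : ∃ g : L →ₗ[K] K, g μ = 1 ∧ g 1 = 0 := by
      let b := Module.Basis.extend hind.linearIndepOn_id
      have h1 : (1 : L) ∈ hind.linearIndepOn_id.extend (Set.subset_univ _) :=
        Module.Basis.subset_extend _ ⟨0, rfl⟩
      have hm : μ ∈ hind.linearIndepOn_id.extend (Set.subset_univ _) :=
        Module.Basis.subset_extend _ ⟨1, rfl⟩
      refine ⟨b.coord ⟨μ, hm⟩, ?_, ?_⟩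
      · have hb : b ⟨μ, hm⟩ = μ := Module.Basis.extend_apply_self _ _
        conv_lhs => arg 2; rw [← hb]
        simp
      · have hb : b ⟨1, h1⟩ = 1 := Module.Basis.extend_apply_self _ _
        have hne' : (⟨1, h1⟩ : hind.linearIndepOn_id.extend (Set.subset_univ _)) ≠ ⟨μ, hm⟩ := fun e =>
          hne ⟨1, by rw [map_one]; exact congrArg Subtype.val e⟩
        conv_lhs => arg 2; rw [← hb]
        simp [hne'.symm]
    have h0 : ∀ x : E, x = 0 := fun x => by
      have := congrArg (fun t => TensorProduct.lid K E (g.rTensor E t)) (hall x)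
      simpa [hg.1, hg.2] using this.symm
    have hall0 : ∀ y : L ⊗[K] E, y = 0 := fun y => by
      induction y with
      | zero => rfl
      | add u v hu hv => rw [hu, hv, add_zero]
      | tmul a x => rw [h0 x, TensorProduct.tmul_zero]
    exact hy₀ (hall0 y₀)
  obtain ⟨c, rfl⟩ := hμK
  refine ⟨c, fun x => ?_⟩
  obtain ⟨g, hg⟩ := (Algebra.linearMap K L).exists_leftInverse_of_injective
    (LinearMap.ker_eq_bot.mpr (algebraMap K L).injective)
  have hg1 : g 1 = 1 := by simpa using LinearMap.congr_fun hg 1
  have hgc : g (algebraMap K L c) = c := LinearMap.congr_fun hg c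
  have := congrArg (fun t => TensorProduct.lid K E (g.rTensor E t)) (hall x)
  simpa [hg1, hgc] using this

end Groth.Agent.S18795
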