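import Groth.Statements.S18796
import Mathlib

set_option autoImplicit false
universe u v w w' u'
open scoped TensorProduct
open DefMod

namespace Groth.Agent.S18796

/-- Let K be a field of characteristic zero, D an associative K-algebra, E a left D-module that is
finitely presented over D, F a left D-module and P a commutative K-algebra. The canonical P-linear
map Φ : P ⊗_K Hom_D(E, F) → Hom_P(P ⊗_K E, P ⊗_K F), determined by p ⊗ f ↦ p · (1_P ⊗ f), is
injective, and its image consists exactly of the P-linear maps that commute with the action of every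
element of D; in other words Φ identifies P ⊗_K Hom_D(E, F) with the module of homomorphisms P ⊗_K E
→ P ⊗_K F over P ⊗_K D. The map Φ is pinned here by its values on pure tensors. -/
theorem result
    {K : Type u} [Field K] [CharZero K]
    {D : Type v} [Ring D] [Algebra K D]
    {E : Type w} [AddCommGroup E] [Module K E] [Module D E] [IsScalarTower K D E]
    [Module.FinitePresentation D E]
    {F : Type w'} [AddCommGroup F] [Module K F] [Module D F] [IsScalarTower K D F]
    (P : Type u') [CommRing P] [Algebra K P]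
    (Φ : P ⊗[K] (E →ₗ[D] F) →ₗ[P] (P ⊗[K] E →ₗ[P] P ⊗[K] F))
    (hΦ : ∀ (p : P) (f : E →ₗ[D] F), Φ (p ⊗ₜ[K] f) = p • (f.restrictScalars K).baseChange P) :
    Function.Injective Φ ∧
      ∀ g : P ⊗[K] E →ₗ[P] P ⊗[K] F,
        g ∈ LinearMap.range Φ ↔
          ∀ d : D, g ∘ₗ (DistribSMul.toLinearMap K E d).baseChange P =
            (DistribSMul.toLinearMap K F d).baseChange P ∘ₗ g := by
  classical
  let b := Module.Basis.ofVectorSpace K P
  let eE : P ⊗[K] F ≃ₗ[K] _ →₀ F := TensorProduct.equivFinsuppOfBasisLeft b
  let eH : P ⊗[K] (E →ₗ[D] F) ≃ₗ[K] _ →₀ (E →ₗ[D] F) := TensorProduct.equivFinsuppOfBasisLeft b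
  have key : ∀ (z : P ⊗[K] (E →ₗ[D] F)) (x : E) i, eE (Φ z (1 ⊗ₜ[K] x)) i = eH z i x := by
    intro z x i
    induction z with
    | zero => simp
    | add u v hu hv =>
      simp only [map_add, LinearMap.add_apply, Finsupp.add_apply, hu, hv]
    | tmul p f =>
      simp [eE, eH, hΦ, TensorProduct.smul_tmul', TensorProduct.equivFinsuppOfBasisLeft_apply_tmul]
  have hext : ∀ g g' : P ⊗[K] E →ₗ[P] P ⊗[K] F, (∀ x, g (1 ⊗ₜ x) = g' (1 ⊗ₜ x)) → g = g' := by
    intro g g' h
    ext x
    exact h x
  refine ⟨fun z z' h => eH.injective (Finsupp.ext fun i => LinearMap.ext fun x => ?_), fun g => ⟨?_, fun hg => ?_⟩⟩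
  · rw [← key, ← key, h]
  · rintro ⟨z, rfl⟩ d
    refine hext _ _ fun x => ?_
    simp only [LinearMap.comp_apply, LinearMap.baseChange_tmul]
    induction z with
    | zero => simp
    | add u v hu hv => simp only [map_add, LinearMap.add_apply, hu, hv]
    | tmul p f =>
      simp [hΦ, LinearMap.baseChange_tmul, TensorProduct.smul_tmul', DistribSMul.toLinearMap_apply, map_smul]
  · have hd : ∀ (d : D) (x : E), g (1 ⊗ₜ[K] (d • x)) =
        (DistribSMul.toLinearMap K F d).baseChange P (g (1 ⊗ₜ[K] x)) := fun d x => by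
      have := LinearMap.congr_fun (hg d) (1 ⊗ₜ[K] x)
      simpa [LinearMap.comp_apply, LinearMap.baseChange_tmul] using this
    have hcoef : ∀ (d : D) (y : P ⊗[K] F) i,
        eE ((DistribSMul.toLinearMap K F d).baseChange P y) i = d • eE y i := by
      intro d y i
      induction y with
      | zero => simp
      | add u v hu hv => simp only [map_add, Finsupp.add_apply, smul_add, hu, hv]
      | tmul p f =>
        simp [eE, LinearMap.baseChange_tmul, TensorProduct.equivFinsuppOfBasisLeft_apply_tmul, smul_comm d]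
    let h : _ → (E →ₗ[D] F) := fun i =>
      { toFun := fun x => eE (g (1 ⊗ₜ[K] x)) i
        map_add' := fun x y => by simp [TensorProduct.tmul_add]
        map_smul' := fun d x => by rw [hd, hcoef]; rfl }
    obtain ⟨S, hS⟩ := (Module.Finite.fg_top : (⊤ : Submodule D E).FG)
    let T := S.biUnion fun x => (eE (g (1 ⊗ₜ[K] x))).support
    have hT : ∀ i ∉ T, h i = 0 := fun i hi => by
      refine LinearMap.ext_on hS fun x hx => ?_
      exact Finsupp.notMem_support_iff.mp fun hx' => hi (Finset.mem_biUnion.mpr ⟨x, hx, hx'⟩)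
    refine ⟨eH.symm (Finsupp.onFinset T h fun i hi => not_not.mp fun h' => hi (hT i h')), ?_⟩
    refine hext _ _ fun x => eE.injective (Finsupp.ext fun i => ?_)
    rw [key, LinearEquiv.apply_symm_apply]
    rfl

end Groth.Agent.S18796
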