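import Groth.Statements.S1880
import Groth.Agent.Grpd80.Bridge
import Mathlib.RingTheory.Norm.Defs

set_option autoImplicit false
universe u
open CategoryTheory CategoryTheory.Limits AlgebraicGeometry
open Grpd

namespace Groth.Agent.S1880

/-- Let (U, R, s, t, c) be a groupoid scheme with U, R affine and s, t finite locally free. For f ∈
Γ(U), the norm along s♯ of t♯(f) is an R-invariant function. (Mathlib's norm is the determinant when
Γ(R) is free over Γ(U) via s♯ and 1 otherwise; the content is the free case, e.g. after localizing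
U.) (A groupoid scheme carries U, R, s, t, c, e, i over S with the groupoid axioms on T-points;
'finite locally free' is finite, flat and locally of finite presentation; C ⊂ Γ(U) is the ring of
functions a with s♯(a) = t♯(a) and M = Spec C.) -/
theorem result (S : Scheme.{u}) (G : Grpd.GroupoidScheme S) [IsAffine G.U] [IsAffine G.R] [IsFinite G.s] [Flat G.s] [LocallyOfFinitePresentation G.s] [IsFinite G.t] [Flat G.t] [LocallyOfFinitePresentation G.t] (f : Γ(G.U, ⊤)) : G.normST f ∈ G.invariants := by
  classical
  letI := Grpd80.algR G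
  letI := Grpd80.algP G
  obtain ⟨D, hs, ht, -⟩ := Grpd80.exists_grpdRing G
  suffices key : G.normST f = D.norm (D.t f) ∨ G.normST f = 1 by
    rcases key with h | h
    · rw [h]
      have := D.norm_invariant (D.μ_t f)
      change G.s.appTop.hom _ = G.t.appTop.hom _
      rwa [← hs, ← ht]
    · rw [h]; exact G.invariants.one_mem
  unfold Grpd.GroupoidScheme.normST
  letI := G.s.appTop.hom.toAlgebra
  by_cases hex : ∃ s : Finset Γ(G.R, ⊤), Nonempty (Module.Basis s Γ(G.U, ⊤) Γ(G.R, ⊤))
  · left
    obtain ⟨S₀, ⟨b⟩⟩ := hex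
    rw [Algebra.norm_eq_matrix_det b, ← ht f]
    set w := D.t f
    let U : Matrix (Fin D.n) S₀ Γ(G.U, ⊤) := Matrix.of fun k i => D.l k (b i)
    let W : Matrix S₀ (Fin D.n) Γ(G.U, ⊤) := Matrix.of fun i m => b.repr ((w - 1) * D.x m) i
    have hsmul : ∀ (a : Γ(G.U, ⊤)) (y : Γ(G.R, ⊤)), a • y = D.s a * y := fun a y => by
      rw [hs]; rfl
    have h1 : D.N (w - 1) = U * W := by
      ext k m
      simp only [Grpd80.GrpdRing.N_apply, Matrix.mul_apply, U, W, Matrix.of_apply]
      conv_lhs => rw [← b.sum_repr ((w - 1) * D.x m), map_sum]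
      refine Finset.sum_congr rfl fun i _ => ?_
      rw [hsmul, D.l_smul]
      ring
    have h2 : W * U = Algebra.leftMulMatrix b (w - 1) := by
      ext i j
      simp only [Algebra.leftMulMatrix_eq_repr_mul, Matrix.mul_apply, U, W, Matrix.of_apply]
      conv_rhs => rw [← D.frame (b j), Finset.mul_sum, map_sum, Finsupp.finsetSum_apply]
      refine Finset.sum_congr rfl fun m _ => ?_
      rw [show (w - 1) * (D.s (D.l m (b j)) * D.x m) = D.l m (b j) • ((w - 1) * D.x m) by
        rw [hsmul]; ring, map_smul, Finsupp.smul_apply, smul_eq_mul]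
      ring
    rw [Grpd80.GrpdRing.norm, h1, Matrix.det_one_add_mul_comm, h2, map_sub, map_one,
      add_sub_cancel]
  · right
    exact Algebra.norm_eq_one_of_not_exists_basis _ hex _

end Groth.Agent.S1880
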