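import Groth.Statements.S18802
import Mathlib.LinearAlgebra.Basis.VectorSpace
import Mathlib.Algebra.Module.Projective

set_option autoImplicit false
universe u v w w' w''
open DefMod

namespace Groth.Agent.S18802

/-- Let K be a field of characteristic zero, D an associative K-algebra and E, F left D-modules. A
K-linear map s : D → Hom_K(E, F) with s(ab)(e) = a s(b)(e) + s(a)(b e) (a derivation into the
bimodule Hom_K(E, F), i.e. a Hochschild 1-cocycle) defines the twisted sum F ⊕_s E = F × E with a ·
(f, e) = (a f + s(a) e, a e), an extension of E by F. Every extension of left D-modules 0 → F → Q →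
E → 0 arises this way: there are such an s and a D-linear isomorphism Q ≅ F ⊕_s E carrying the given
map F → Q to the inclusion f ↦ (f, 0) and compatible with the two projections onto E. (Together with
the splitting criterion this identifies derivations modulo principal derivations with Ext¹_D(E, F);
the compatibility of that identification with addition and scalars is not restated.) -/
theorem result
    {K : Type u} [Field K] [CharZero K]
    {D : Type v} [Ring D] [Algebra K D]
    {E : Type w} [AddCommGroup E] [Module K E] [Module D E] [IsScalarTower K D E]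
    {F : Type w'} [AddCommGroup F] [Module K F] [Module D F] [IsScalarTower K D F]
    {Q : Type w''} [AddCommGroup Q] [Module D Q]
    (i : F →ₗ[D] Q) (p : Q →ₗ[D] E) (hi : Function.Injective i) (hp : Function.Surjective p)
    (hex : Function.Exact i p) :
    ∃ (s : D →ₗ[K] E →ₗ[K] F) (hs : W4c6defoisocp1.IsHomDerivation s) (Φ : Q ≃ₗ[D] W4c6defoisocp1.TwistExt s hs),
      (∀ f : F, Φ (i f) = W4c6defoisocp1.TwistExt.inl f) ∧ ∀ q : Q, W4c6defoisocp1.TwistExt.snd (Φ q) = p q := by
  classical
  letI : Module K Q := Module.compHom Q (algebraMap K D)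
  haveI : IsScalarTower K D Q := ⟨fun c d q => by
    rw [Algebra.smul_def, mul_smul]; rfl⟩
  obtain ⟨σ, hσ⟩ := (p.restrictScalars K).exists_rightInverse_of_surjective
    (LinearMap.range_eq_top.2 hp)
  have hσ' : ∀ e, p (σ e) = e := fun e => congrArg (fun l : E →ₗ[K] E => l e) hσ
  have hker : ∀ q : Q, p q = 0 → q ∈ LinearMap.range i := fun q hq => (hex q).1 hq
  let inv := LinearEquiv.ofInjective i hi
  have hinv : ∀ q : LinearMap.range i, i (inv.symm q) = q := fun q => by
    conv_rhs => rw [← inv.apply_symm_apply q]
    rfl
  have hd : ∀ d e, p (d • σ e - σ (d • e)) = 0 := fun d e => by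
    rw [map_sub, LinearMap.map_smul, hσ', hσ', sub_self]
  let sf : D → E → F := fun d e => inv.symm ⟨_, hker _ (hd d e)⟩
  have hsf : ∀ d e, i (sf d e) = d • σ e - σ (d • e) := fun d e => hinv _
  let s : D →ₗ[K] E →ₗ[K] F := LinearMap.mk₂ K sf
    (fun a b e => hi (by rw [map_add, hsf, hsf, hsf, add_smul, add_smul, map_add]; abel))
    (fun c a e => hi (by
      rw [LinearMap.map_smul_of_tower, hsf, hsf, smul_assoc, smul_assoc, map_smul, smul_sub]))
    (fun a e e' => hi (by rw [map_add, hsf, hsf, hsf, map_add, smul_add, smul_add, map_add]; abel))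
    (fun c a e => hi (by
      rw [LinearMap.map_smul_of_tower, hsf, hsf, map_smul, smul_algebra_smul_comm c a (σ e),
        smul_algebra_smul_comm c a e, map_smul, smul_sub]))
  have hs : W4c6defoisocp1.IsHomDerivation s := fun a b e => hi (by
    simp only [s, LinearMap.mk₂_apply, map_add, map_smul, hsf, mul_smul, smul_sub]
    abel)
  have hq : ∀ q, p (q - σ (p q)) = 0 := fun q => by simp [hσ']
  let ff : Q → F := fun q => inv.symm ⟨_, hker _ (hq q)⟩
  have hff : ∀ q, i (ff q) = q - σ (p q) := fun q => hinv _
  refine ⟨s, hs, { toFun := fun q => W4c6defoisocp1.TwistExt.mk (ff q, p q)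
                   map_add' := fun q q' => W4c6defoisocp1.TwistExt.ext (hi (by simp [hff]; abel)) (by simp)
                   map_smul' := fun d q => W4c6defoisocp1.TwistExt.ext (hi (by simp [hff, hsf, s, smul_sub])) (by simp)
                   invFun := fun x => i (W4c6defoisocp1.TwistExt.val x).1 + σ (W4c6defoisocp1.TwistExt.val x).2
                   left_inv := fun q => by simp [hff]
                   right_inv := fun x => ?_ }, fun f => ?_, fun q => rfl⟩
  · have hp0 : p (i (W4c6defoisocp1.TwistExt.val x).1) = 0 := (hex _).2 ⟨_, rfl⟩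
    exact W4c6defoisocp1.TwistExt.ext (hi (by simp [hff, hp0, hσ'])) (by simp [hp0, hσ'])
  · have hp0 : p (i f) = 0 := (hex _).2 ⟨_, rfl⟩
    exact W4c6defoisocp1.TwistExt.ext (hi (by simp [hff, hp0])) (by simp [hp0])

end Groth.Agent.S18802
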