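import Groth.Statements.S18803

set_option autoImplicit false
universe u v w w'
open DefMod

namespace Groth.Agent.S18803

/-- Let K be a field of characteristic zero, D an associative K-algebra, E and F left D-modules, and s :
D → Hom_K(E, F) a K-linear map with s(ab)(e) = a s(b)(e) + s(a)(b e). The twisted sum F ⊕_s E (that
is F × E with a · (f, e) = (a f + s(a) e, a e)) is a trivial extension of E by F — there is a
D-linear isomorphism F ⊕_s E ≅ F × E with the direct-sum module structure, carrying the inclusion f
↦ (f, 0) to itself and compatible with the second projections — if and only if s is principal: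
s(a)(e) = a σ(e) − σ(a e) for some K-linear σ : E → F (a Hochschild 1-coboundary). -/
theorem result
    {K : Type u} [Field K] [CharZero K]
    {D : Type v} [Ring D] [Algebra K D]
    {E : Type w} [AddCommGroup E] [Module K E] [Module D E] [IsScalarTower K D E]
    {F : Type w'} [AddCommGroup F] [Module K F] [Module D F] [IsScalarTower K D F]
    (s : D →ₗ[K] E →ₗ[K] F) (hs : W4c6defoisocp1.IsHomDerivation s) :
    (∃ Ψ : W4c6defoisocp1.TwistExt s hs ≃ₗ[D] F × E,
        (∀ f : F, Ψ (W4c6defoisocp1.TwistExt.inl f) = (f, 0)) ∧ ∀ x : W4c6defoisocp1.TwistExt s hs, (Ψ x).2 = W4c6defoisocp1.TwistExt.snd x) ↔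
      W4c6defoisocp1.IsPrincipal s := by
  constructor
  · rintro ⟨Ψ, hΨ1, hΨ2⟩
    let em : E → W4c6defoisocp1.TwistExt s hs := fun e => W4c6defoisocp1.TwistExt.mk (0, e)
    have hem : ∀ x : W4c6defoisocp1.TwistExt s hs,
        (Ψ x).1 = (W4c6defoisocp1.TwistExt.val x).1 + (Ψ (em (W4c6defoisocp1.TwistExt.val x).2)).1 := fun x => by
      have hx : x = W4c6defoisocp1.TwistExt.inl (W4c6defoisocp1.TwistExt.val x).1 +
          em (W4c6defoisocp1.TwistExt.val x).2 :=
        W4c6defoisocp1.TwistExt.ext (by simp [em]) (by simp [em])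
      conv_lhs => rw [hx, map_add, Prod.fst_add, hΨ1]
    have hadd : ∀ e e', (Ψ (em (e + e'))).1 = (Ψ (em e)).1 + (Ψ (em e')).1 := fun e e' => by
      rw [← Prod.fst_add, ← map_add]
      exact congrArg (fun z => (Ψ z).1) (W4c6defoisocp1.TwistExt.ext (by simp [em]) (by simp [em]))
    have hsm : ∀ (a : D) e, s a e + (Ψ (em (a • e))).1 = a • (Ψ (em e)).1 := fun a e => by
      rw [← Prod.smul_fst, ← map_smul, hem (a • em e)]
      simp [em]
    refine ⟨{ toFun := fun e => (Ψ (em e)).1, map_add' := hadd, map_smul' := fun c e => ?_ }, fun a e => ?_⟩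
    · have h1 := hsm (algebraMap K D c) e
      rw [Algebra.algebraMap_eq_smul_one, map_smul, W4c6defoisocp1.TwistExt.map_one_eq_zero hs, smul_zero,
        LinearMap.zero_apply, zero_add, smul_assoc, one_smul, smul_assoc, one_smul] at h1
      exact h1
    · exact eq_sub_of_add_eq (hsm a e)
  · rintro ⟨σ, hσ⟩
    refine ⟨{ toFun := fun x => ((W4c6defoisocp1.TwistExt.val x).1 + σ (W4c6defoisocp1.TwistExt.val x).2,
                (W4c6defoisocp1.TwistExt.val x).2)
              map_add' := fun x y => ?_
              map_smul' := fun a x => ?_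
              invFun := fun y => W4c6defoisocp1.TwistExt.mk (y.1 - σ y.2, y.2)
              left_inv := fun x => W4c6defoisocp1.TwistExt.ext (by simp) (by simp)
              right_inv := fun y => by ext <;> simp }, fun f => ?_, fun x => rfl⟩
    · ext <;> simp; abel
    · ext <;> simp [hσ, smul_add]; abel
    · simp

end Groth.Agent.S18803
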