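import Groth.Statements.S18804
import Groth.Agent.Curves2.CurveToolkit

set_option autoImplicit false
universe u
open CategoryTheory CategoryTheory.Limits AlgebraicGeometry
open Curves

namespace Groth.Agent.S18804

/-- Let k be an algebraically closed field of characteristic zero, X a smooth proper integral curve over
k (integral, proper and smooth over k, of dimension one) of genus g, and L an invertible O_X-module
of degree deg L = χ(L) − χ(O_X) at least 2g + 3. Then L is 3-very ample: every closed subscheme Z of
X of length 4 imposes independent conditions on H^0(X, L), stated as dim_k H^0(X, L ⊗ I) + 4 = dim_k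
H^0(X, L) for every quasi-coherent ideal I of O_X with dim_k H^0(X, O_X/I) = 4. -/
theorem result
    (k : Type u) [Field k] [IsAlgClosed k] [CharZero k]
    (X : Scheme.{u}) [X.Over (Spec (CommRingCat.of k))] [IsIntegral X]
    [IsProper (X ↘ Spec (CommRingCat.of k))] [Smooth (X ↘ Spec (CommRingCat.of k))]
    (hdim : topologicalKrullDim X = 1)
    (L : X.Modules) (hL : PicF.IsInvertible L)
    (hdeg : 2 * (Curv2.genus k X : ℤ) + 3 ≤ Curv2.deg k X L 1)
    (I : X.IdealSheafData) (hI : Module.finrank k (Coh.HH X (ClSub.quotMod I) 0) = 4) :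
    Module.finrank k (Coh.HH X (CohB1.tensorMod L (ClSub.idealMod I)) 0) + 4 =
      Module.finrank k (Coh.HH X L 0) := by
  have : IsNoetherian X := Crv77.isNoetherian_of_proper k X
  have hC := Crv77.curveCoh_of_proper k X hdim.le
  have hO := Groth.Agent.Curves2.finrank_h0_structureModule k (X := X)
  have hne : (I.support : Set X) ≠ Set.univ := by
    intro hu
    have hbot : I = ⊥ := Scheme.IdealSheafData.support_eq_top_iff.1 (SetLike.coe_injective hu)
    subst hbot
    have : IsIso (ClSub.toSubscheme (⊥ : X.IdealSheafData)) := by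
      rw [Scheme.Modules.Hom.isIso_iff_isIso_app]
      intro U
      refine (ConcreteCategory.isIso_iff_bijective _).2 ?_
      exact ConcreteCategory.bijective_of_isIso ((⊥ : X.IdealSheafData).subschemeι.app U)
    have e := (Crv77.hEquiv k (asIso (ClSub.toSubscheme (⊥ : X.IdealSheafData))) 0).finrank_eq
    exact absurd (hO.symm.trans (e.trans hI)) (by norm_num)
  obtain ⟨hS, hcl⟩ := Crv77.finite_closed hdim.le (U := ⟨(I.support : Set X)ᶜ, I.support.isClosed.isOpen_compl⟩)
    (Set.nonempty_compl.2 hne)
  simp only [TopologicalSpace.Opens.coe_mk, compl_compl] at hS hcl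
  have hZ : topologicalKrullDim (I.support : Set X) ≤ 0 := by
    have : Finite (I.support : Set X) := hS.to_subtype
    have : T1Space (I.support : Set X) := ⟨fun x => by
      have h : ({x} : Set (I.support : Set X)) = Subtype.val ⁻¹' {x.1} := Set.ext fun _ => Subtype.ext_iff
      rw [h]; exact (hcl x.1 x.2).preimage continuous_subtype_val⟩
    exact topologicalKrullDim_zero_of_discreteTopology _
  have hF : Subsingleton (Coh.HH X (CohB1.tensorMod (ClSub.idealMod I) L) 1) := by
    rw [← not_nontrivial_iff_subsingleton]
    intro h1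
    have := hC.deg_le_of_h1 hdim hO hL I hZ h1
    simp only [Crv77.h, hI] at this
    omega
  have hL1 : Subsingleton (Coh.HH X L 1) := hC.h1_eq_zero_of_deg_gt hdim hO hL (by omega)
  have hLc := Crv77.isCoh_of_isInvertible hL
  have hFc := Crv77.isCoh_tensorMod (Crv77.isCoh_idealMod I) hLc
  have e1 := hC.euler_idealMod_tensor I hS hcl hL hLc
  rw [hC.euler_eq hFc, hC.euler_eq hLc] at e1
  simp only [Crv77.h, hI, Module.finrank_zero_of_subsingleton] at e1
  rw [Groth.Agent.Curves2.finrank_congr k (EGA73.tensComm L (ClSub.idealMod I)) 0]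
  omega

end Groth.Agent.S18804
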