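import Groth.Statements.S18806
import Groth.Agent.Comod33.Act
-- import your own Groth.Agent.* helpers here

set_option autoImplicit false
universe u v v' w w' x
open TensorProduct
open HopfRep
open scoped Groth.Agent.Comod33

namespace Groth.Agent.S18806

/-- Let k be a field, i : C → D an injective morphism of k-coalgebras and V a right D-comodule with
coaction ρ : V → V ⊗ D. If ρ(v) lies in the image of V ⊗ C → V ⊗ D (induced by i) for every v, then
V comes from a C-comodule: there is a C-comodule structure on V whose coaction, followed by V ⊗ C →
V ⊗ D, is ρ. (The source states this for left comodules over the coordinate bialgebras of an affine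
monoid scheme over k and of its group of units, assumed open and schematically dense, and uses that
assumption only through the injectivity of the restriction map of coordinate rings; the row is the
right-comodule mirror image for any injective coalgebra map. The converse direction is immediate.) -/
theorem result (k : Type u) [Field k]
    (C : Type v) [AddCommGroup C] [Module k C] [Coalgebra k C]
    (D : Type v') [AddCommGroup D] [Module k D] [Coalgebra k D]
    (i : C →ₗc[k] D) (hi : Function.Injective i)
    (V : Type w) [AddCommGroup V] [Module k V] [HopfRep.Comod k D V]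
    (h : ∀ v : V, HopfRep.Comod.coact (k := k) (A := D) v ∈ LinearMap.range ((i : C →ₗ[k] D).lTensor V)) :
    ∃ c : HopfRep.Comod k C V,
      (i : C →ₗ[k] D).lTensor V ∘ₗ c.coact = HopfRep.Comod.coact (k := k) (A := D) := by
  have hi2 : Function.Injective ((i : C →ₗ[k] D).lTensor V) :=
    Module.Flat.lTensor_preserves_injective_linearMap _ hi
  let ρ : V →ₗ[k] V ⊗[k] C := (LinearEquiv.ofInjective _ hi2).symm.toLinearMap ∘ₗ
    LinearMap.codRestrict _ (HopfRep.Comod.coact (k := k) (A := D)) h
  have hρ : ∀ v, (i : C →ₗ[k] D).lTensor V (ρ v) = HopfRep.Comod.coact (k := k) (A := D) v := fun v => by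
    show (i : C →ₗ[k] D).lTensor V ((LinearEquiv.ofInjective _ hi2).symm
      ⟨HopfRep.Comod.coact (k := k) (A := D) v, h v⟩) = _
    rw [← LinearEquiv.ofInjective_apply (h := hi2), LinearEquiv.apply_symm_apply]
  have hρ' : (i : C →ₗ[k] D).lTensor V ∘ₗ ρ = HopfRep.Comod.coact (k := k) (A := D) := LinearMap.ext hρ
  refine ⟨⟨ρ, ?_, ?_⟩, hρ'⟩
  · ext v
    simp only [LinearMap.comp_apply, LinearEquiv.coe_coe]
    have hinj : Function.Injective ((TensorProduct.map (i : C →ₗ[k] D) (i : C →ₗ[k] D)).lTensor V) :=
      Module.Flat.lTensor_preserves_injective_linearMap _ (by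
        rw [← LinearMap.lTensor_comp_rTensor]
        exact (Module.Flat.lTensor_preserves_injective_linearMap _ hi).comp
          (Module.Flat.rTensor_preserves_injective_linearMap _ hi))
    apply hinj
    have hco : (TensorProduct.map (i : C →ₗ[k] D) (i : C →ₗ[k] D)) ∘ₗ CoalgebraStruct.comul =
        CoalgebraStruct.comul ∘ₗ (i : C →ₗ[k] D) := CoalgHomClass.map_comp_comul i
    have hr : (TensorProduct.map (i : C →ₗ[k] D) (i : C →ₗ[k] D)).lTensor V
        ((CoalgebraStruct.comul (R := k) (A := C)).lTensor V (ρ v)) =
        (CoalgebraStruct.comul (R := k) (A := D)).lTensor V (HopfRep.Comod.coact (k := k) (A := D) v) := by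
      rw [← LinearMap.comp_apply, ← LinearMap.lTensor_comp, hco, LinearMap.lTensor_comp,
        LinearMap.comp_apply, hρ]
    rw [hr, ← Comod33.coassoc_apply]
    conv_rhs => rw [← hρ', LinearMap.rTensor_comp, LinearMap.comp_apply, hρ', ← hρ v]
    generalize ρ v = x
    induction x with
    | zero => simp
    | tmul w c =>
      simp only [LinearMap.rTensor_tmul, LinearMap.lTensor_tmul]
      generalize ρ w = y
      induction y with
      | zero => simp
      | tmul a b => simp
      | add p q hp hq => simp only [add_tmul, map_add, hp, hq]
    | add p q hp hq => simp only [map_add, hp, hq]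
  · ext v
    simp only [LinearMap.comp_apply, LinearMap.flip_apply, TensorProduct.mk_apply]
    rw [← Comod33.counit_apply (k := k) (A := D) v, ← hρ]
    generalize ρ v = x
    induction x with
    | zero => simp
    | tmul a b => simp
    | add p q hp hq => simp only [map_add, hp, hq]

end Groth.Agent.S18806
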