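import Groth.Statements.S18807
import Groth.Agent.Comod33.Act
-- import your own Groth.Agent.* helpers here

set_option autoImplicit false
universe u v v' w w' x
open TensorProduct
open HopfRep
open scoped Groth.Agent.Comod33

namespace Groth.Agent.S18807

/-- Let k be a field, i : C → D an injective morphism of k-coalgebras, and V a k-vector space carrying a
right C-comodule structure with coaction ρ_C and a right D-comodule structure whose coaction is ρ_C
followed by V ⊗ C → V ⊗ D. Then every k-subspace W of V which is a D-subcomodule (the D-coaction
maps W into the image of W ⊗ D) is a C-subcomodule (ρ_C maps W into the image of W ⊗ C);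
consequently the quotient by W is again a C-comodule. (The source states this for left comodules
over the coordinate bialgebras of an affine monoid scheme and of its open schematically dense group
of units, using only the injectivity of the restriction map; it also records that a D-comodule map
between C-comodules is a C-comodule map, which is immediate from that injectivity and is not part of
this row.) -/
theorem result (k : Type u) [Field k]
    (C : Type v) [AddCommGroup C] [Module k C] [Coalgebra k C]
    (D : Type v') [AddCommGroup D] [Module k D] [Coalgebra k D]
    (i : C →ₗc[k] D) (hi : Function.Injective i)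
    (V : Type w) [AddCommGroup V] [Module k V] [HopfRep.Comod k C V] [HopfRep.Comod k D V]
    (hcd : (i : C →ₗ[k] D).lTensor V ∘ₗ HopfRep.Comod.coact (k := k) (A := C) =
      HopfRep.Comod.coact (k := k) (A := D) (V := V))
    (W : Submodule k V) (hW : HopfRep.IsSubcomod (k := k) (A := D) W) :
    HopfRep.IsSubcomod (k := k) (A := C) W := by
  rw [Comod33.isSubcomod_iff] at hW ⊢
  intro f u hu
  obtain ⟨g, hg⟩ := (i : C →ₗ[k] D).exists_leftInverse_of_injective (LinearMap.ker_eq_bot.2 hi)
  have h := hW (f ∘ₗ g) u hu
  rwa [Comod33.dact_apply, ← LinearMap.congr_fun hcd u, LinearMap.comp_apply, Comod33.rc_lTensor,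
    LinearMap.comp_assoc, hg, LinearMap.comp_id] at h

end Groth.Agent.S18807
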