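import Groth.Statements.S18808
import Groth.Agent.Comod33.Lattice
import Groth.Agent.Comod33.Coeff
-- import your own Groth.Agent.* helpers here

set_option autoImplicit false
universe u v v' w w' x
open TensorProduct
open HopfRep
open scoped Groth.Agent.Comod33

namespace Groth.Agent.S18808

/-- Let k be a field, i : C → D an injective morphism of k-coalgebras and V a right D-comodule with
coaction ρ. Call a D-subcomodule K of V admissible when the induced coaction of V/K, namely ρ
followed by the projection V ⊗ D → (V/K) ⊗ D, takes all its values in the image of (V/K) ⊗ C → (V/K)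
⊗ D (so that V/K comes from a C-comodule). Then there is a least admissible D-subcomodule of V: V
has a largest quotient D-comodule coming from C, through which every D-comodule map from V to a
comodule coming from C factors. (The source states this for left comodules over the coordinate
bialgebras of an affine monoid scheme and its open schematically dense group of units, as the
existence of a universal map from a representation of the unit group to a representation of the
monoid; it uses that assumption only through the injectivity of the restriction map.) -/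
theorem result (k : Type u) [Field k]
    (C : Type v) [AddCommGroup C] [Module k C] [Coalgebra k C]
    (D : Type v') [AddCommGroup D] [Module k D] [Coalgebra k D]
    (i : C →ₗc[k] D) (hi : Function.Injective i)
    (V : Type w) [AddCommGroup V] [Module k V] [HopfRep.Comod k D V] :
    ∃ K : Submodule k V, HopfRep.IsSubcomod (k := k) (A := D) K ∧
      (∀ v : V, K.mkQ.rTensor D (HopfRep.Comod.coact (k := k) (A := D) v) ∈
        LinearMap.range ((i : C →ₗ[k] D).lTensor (V ⧸ K))) ∧
      ∀ K' : Submodule k V, HopfRep.IsSubcomod (k := k) (A := D) K' →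
        (∀ v : V, K'.mkQ.rTensor D (HopfRep.Comod.coact (k := k) (A := D) v) ∈
          LinearMap.range ((i : C →ₗ[k] D).lTensor (V ⧸ K'))) → K ≤ K' := by
  let K : Submodule k V := ⨆ p : {g : D →ₗ[k] k // g ∘ₗ (i : C →ₗ[k] D) = 0} × V,
    Comod33.gen (k := k) (A := D) (Comod33.dact p.1.1 p.2)
  have hmem : ∀ (K' : Submodule k V),
      (∀ v : V, K'.mkQ.rTensor D (HopfRep.Comod.coact (k := k) (A := D) v) ∈
        LinearMap.range ((i : C →ₗ[k] D).lTensor (V ⧸ K'))) ↔
      ∀ g : D →ₗ[k] k, g ∘ₗ (i : C →ₗ[k] D) = 0 → ∀ v, Comod33.dact g v ∈ K' := by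
    intro K'
    constructor
    · intro h g hg v
      obtain ⟨y, hy⟩ := h v
      have := congrArg (Comod33.rc g) hy
      rw [Comod33.rc_lTensor, hg, Comod33.rc_rTensor] at this
      rw [← Submodule.Quotient.mk_eq_zero K']
      exact this.symm.trans (by simp [Comod33.rc])
    · intro h v
      have hr : LinearMap.range ((i : C →ₗ[k] D).lTensor (V ⧸ K')) =
          LinearMap.range ((LinearMap.range (i : C →ₗ[k] D)).subtype.lTensor (V ⧸ K')) := by
        conv_lhs => rw [← LinearMap.subtype_comp_codRestrict (i : C →ₗ[k] D) _
          (fun c => LinearMap.mem_range_self _ c), LinearMap.lTensor_comp]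
        refine LinearMap.range_comp_of_range_eq_top _ (LinearMap.range_eq_top.2
          (LinearMap.lTensor_surjective _ ?_))
        rintro ⟨_, c, rfl⟩
        exact ⟨c, rfl⟩
      rw [hr, Comod33.mem_range_lTensor_iff]
      intro φ
      by_contra hno
      obtain ⟨g, hg1, hg2⟩ := Submodule.exists_dual_map_eq_bot_of_notMem hno inferInstance
      have hg : g ∘ₗ (i : C →ₗ[k] D) = 0 := by
        ext c
        have : g ((i : C →ₗ[k] D) c) ∈ (LinearMap.range (i : C →ₗ[k] D)).map g :=
          Submodule.mem_map_of_mem ⟨c, rfl⟩
        rw [hg2] at this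
        exact this
      refine hg1 ?_
      have hx := h g hg v
      have h2 : ∀ x : V ⊗[k] D, g (Comod33.lc φ (K'.mkQ.rTensor D x)) = φ (K'.mkQ (Comod33.rc g x)) := by
        intro x
        induction x with
        | zero => simp
        | tmul a b => simp [mul_comm]
        | add p q hp hq => simp only [map_add, hp, hq]
      rw [h2, ← Comod33.dact_apply, Submodule.mkQ_apply, (Submodule.Quotient.mk_eq_zero K').2 hx, map_zero]
  refine ⟨K, Comod33.isSubcomod_iSup _ fun p => Comod33.isSubcomod_gen _, ?_, ?_⟩
  · exact (hmem K).2 fun g hg v => Submodule.mem_iSup_of_mem (⟨g, hg⟩, v) (Comod33.mem_gen _)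
  · intro K' hK' h
    exact iSup_le fun p => Comod33.gen_le hK' ((hmem K').1 h p.1.1 p.1.2 p.2)

end Groth.Agent.S18808
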