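import Groth.Statements.S18809
import Groth.Agent.S18807
import Groth.Agent.Comod33.Act
-- import your own Groth.Agent.* helpers here

set_option autoImplicit false
universe u v v' w w' x
open TensorProduct
open HopfRep
open scoped Groth.Agent.Comod33

namespace Groth.Agent.S18809

open TensorProduct in
/-- corestriction of a comodule along a coalgebra map -/
@[reducible] def push {k : Type u} [Field k] {C : Type v} [AddCommGroup C] [Module k C] [Coalgebra k C]
    {D : Type v'} [AddCommGroup D] [Module k D] [Coalgebra k D] (i : C →ₗc[k] D)
    {V : Type w} [AddCommGroup V] [Module k V] (c : HopfRep.Comod k C V) : HopfRep.Comod k D V where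
  coact := (i : C →ₗ[k] D).lTensor V ∘ₗ c.coact
  coassoc := by
    ext v
    have hco : (TensorProduct.map (i : C →ₗ[k] D) (i : C →ₗ[k] D)) ∘ₗ CoalgebraStruct.comul =
        CoalgebraStruct.comul ∘ₗ (i : C →ₗ[k] D) := CoalgHomClass.map_comp_comul i
    simp only [LinearMap.comp_apply, LinearEquiv.coe_coe]
    rw [← LinearMap.comp_apply ((CoalgebraStruct.comul (R := k) (A := D)).lTensor V),
      ← LinearMap.lTensor_comp, ← hco, LinearMap.lTensor_comp, LinearMap.comp_apply,
      ← Comod33.coassoc_apply]
    generalize c.coact v = x
    induction x with
    | zero => simp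
    | tmul w a =>
      simp only [LinearMap.rTensor_tmul, LinearMap.lTensor_tmul, LinearMap.comp_apply]
      generalize c.coact w = y
      induction y with
      | zero => simp
      | tmul p q => simp
      | add p q hp hq => simp only [add_tmul, map_add, hp, hq]
    | add p q hp hq => simp only [map_add, hp, hq]
  counit_comp := by
    ext v
    simp only [LinearMap.comp_apply]
    rw [← LinearMap.comp_apply, ← LinearMap.lTensor_comp, CoalgHomClass.counit_comp]
    exact Comod33.counit_apply v

/-- Let k be a field and i : C → D an injective morphism of k-coalgebras. If every right D-comodule is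
semisimple (every subcomodule has a complementary subcomodule), then every right C-comodule is
semisimple. (The source states this for the coordinate bialgebras of an affine monoid scheme over k
and of its open schematically dense group of units, through the injectivity of the restriction map,
with semisimple meaning that every representation is a sum of irreducible subrepresentations;
D-comodules are quantified in the universe of the given C-comodule.) -/
theorem result (k : Type u) [Field k]
    (C : Type v) [AddCommGroup C] [Module k C] [Coalgebra k C]
    (D : Type v') [AddCommGroup D] [Module k D] [Coalgebra k D]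
    (i : C →ₗc[k] D) (hi : Function.Injective i)
    (hD : ∀ (W : Type w) [AddCommGroup W] [Module k W] [HopfRep.Comod k D W], HopfRep.IsSemisimpleComod k D W)
    (V : Type w) [AddCommGroup V] [Module k V] [HopfRep.Comod k C V] :
    HopfRep.IsSemisimpleComod k C V := by
  intro W hW
  have hpush : @HopfRep.IsSubcomod k D _ _ _ _ V _ _ (push i ‹_›) W := by
    intro w hw
    obtain ⟨y, hy⟩ := hW w hw
    refine ⟨(i : C →ₗ[k] D).lTensor W y, ?_⟩
    show _ = (i : C →ₗ[k] D).lTensor V (HopfRep.Comod.coact (k := k) (A := C) w)
    rw [← hy, ← LinearMap.comp_apply, ← LinearMap.comp_apply, LinearMap.rTensor_comp_lTensor,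
      LinearMap.lTensor_comp_rTensor]
  obtain ⟨W', hW', hc⟩ := @hD V _ _ (push i ‹_›) W hpush
  exact ⟨W', @Groth.Agent.S18807.result k _ C _ _ _ D _ _ _ i hi V _ _ _ (push i ‹_›) rfl W' hW', hc⟩

end Groth.Agent.S18809
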