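import Groth.Statements.S18810
import Groth.Agent.Comod33.Simple
-- import your own Groth.Agent.* helpers here

set_option autoImplicit false
universe u v v' w w' x
open TensorProduct
open HopfRep
open scoped Groth.Agent.Comod33

namespace Groth.Agent.S18810

/-- Let k be a field, C a k-coalgebra, V a right C-comodule and (S_j) a family of simple C-comodules
which are pairwise non-isomorphic (for j ≠ j' no k-linear isomorphism S_j ≃ S_j' commutes with the
coactions). For each j let V[j] be the isotypic component of type S_j: the sum of the images of all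
comodule maps S_j → V (equivalently of all simple subcomodules of V isomorphic to S_j, a nonzero
such map being injective). Then the family j ↦ V[j] is independent, so that the socle of V is the
direct sum of its isotypic components. (The source states this for representations of an affine
monoid scheme over k, i.e. left comodules over its coordinate bialgebra; the row is the
right-comodule form over any coalgebra.) -/
theorem result (k : Type u) [Field k]
    (C : Type v) [AddCommGroup C] [Module k C] [Coalgebra k C]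
    (V : Type w) [AddCommGroup V] [Module k V] [HopfRep.Comod k C V]
    {ι : Type x} (S : ι → Type w') [∀ j, AddCommGroup (S j)] [∀ j, Module k (S j)]
    [∀ j, HopfRep.Comod k C (S j)] (hS : ∀ j, HopfRep.IsSimpleComod k C (S j))
    (hne : ∀ j j', j ≠ j' → ∀ e : S j ≃ₗ[k] S j', ¬ Hoch.IsComodHom C (e : S j →ₗ[k] S j')) :
    iSupIndep (fun j => ⨆ f : {f : S j →ₗ[k] V // Hoch.IsComodHom C f}, LinearMap.range f.1) := by
  intro j
  rw [Submodule.disjoint_def]
  intro x hxj hxo
  have key : ∀ i, (⨆ f : {f : S i →ₗ[k] V // Hoch.IsComodHom C f}, LinearMap.range f.1) ≤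
      (isotypicComponent (WithConv (C →ₗ[k] k)) V (S i)).restrictScalars k := by
    intro i
    refine iSup_le fun f => ?_
    have := Comod33.isSimpleComod_iff.1 (hS i)
    let g := Comod33.toDualLinear (A := C) f.1 f.2
    rcases LinearMap.injective_or_eq_zero g with h | h
    · intro y hy
      exact le_sSup (α := Submodule (WithConv (C →ₗ[k] k)) V)
        (show LinearMap.range g ∈ {m : Submodule (WithConv (C →ₗ[k] k)) V |
          Nonempty (m ≃ₗ[WithConv (C →ₗ[k] k)] S i)} from ⟨(LinearEquiv.ofInjective g h).symm⟩) hy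
    · rintro _ ⟨s, rfl⟩
      have : f.1 s = 0 := LinearMap.congr_fun h s
      rw [this]; exact zero_mem _
  have hxo' : x ∈ ⨆ i, ⨆ (_ : i ≠ j), isotypicComponent (WithConv (C →ₗ[k] k)) V (S i) := by
    have h1 : x ∈ ⨆ i, ⨆ (_ : i ≠ j),
        (isotypicComponent (WithConv (C →ₗ[k] k)) V (S i)).restrictScalars k :=
      iSup₂_mono (fun i _ => key i) hxo
    simp_rw [← Submodule.restrictScalars_iSup] at h1
    exact h1
  by_contra hx0
  have hxj' := key j hxj
  have hS' := fun i => Comod33.isSimpleComod_iff.1 (hS i)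
  let N := isotypicComponent (WithConv (C →ₗ[k] k)) V (S j) ⊓
    ⨆ i, ⨆ (_ : i ≠ j), isotypicComponent (WithConv (C →ₗ[k] k)) V (S i)
  have hN : N ≠ ⊥ := (Submodule.ne_bot_iff _).2 ⟨x, ⟨hxj', hxo'⟩, hx0⟩
  have hle' : N ≤ isotypicComponent (WithConv (C →ₗ[k] k)) V (S j) := inf_le_left
  have hM : IsSemisimpleModule (WithConv (C →ₗ[k] k))
      (isotypicComponent (WithConv (C →ₗ[k] k)) V (S j)) := by
    have := hS' j
    infer_instance
  have hinj := Submodule.inclusion_injective hle'
  have : IsSemisimpleModule (WithConv (C →ₗ[k] k)) N := IsSemisimpleModule.of_injective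
      (M := isotypicComponent (WithConv (C →ₗ[k] k)) V (S j)) (N := N) _ hinj
  obtain ⟨T, hle, hT⟩ := (IsSemisimpleModule.eq_bot_or_exists_simple_le N).resolve_left hN
  obtain ⟨ej⟩ := isIsotypicOfType_submodule_iff.1
    (IsIsotypicOfType.isotypicComponent _ V (S j)) T (hle.trans inf_le_left)
  have hle2 : T ≤ sSup {m : Submodule (WithConv (C →ₗ[k] k)) V | ∃ i, i ≠ j ∧ Nonempty (m ≃ₗ[WithConv (C →ₗ[k] k)] S i)} := by
    refine (hle.trans inf_le_right).trans (iSup₂_le fun i hi => sSup_le fun m hm => ?_)
    exact le_sSup ⟨i, hi, hm⟩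
  have : ∀ m : {m : Submodule (WithConv (C →ₗ[k] k)) V | ∃ i, i ≠ j ∧ Nonempty (m ≃ₗ[WithConv (C →ₗ[k] k)] S i)},
      IsSimpleModule (WithConv (C →ₗ[k] k)) m.1 := fun m => by
    obtain ⟨i, -, ⟨e⟩⟩ := m.2
    exact IsSimpleModule.congr e
  obtain ⟨m, ⟨i, hi, ⟨e⟩⟩, ⟨e'⟩⟩ := T.linearEquiv_of_le_sSup _ hle2
  obtain ⟨eiso, heiso⟩ := Comod33.exists_comodIso_iff.2 ⟨ej.symm.trans (e'.trans e)⟩
  exact hne j i (Ne.symm hi) eiso heiso

end Groth.Agent.S18810
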