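import Groth.Statements.S18811
import Mathlib.AlgebraicGeometry.Morphisms.Flat

set_option autoImplicit false
universe u
open CategoryTheory CategoryTheory.Limits AlgebraicGeometry
open Variety

namespace Groth.Agent.S18811

/-- Let k be a field and X, Y quasi-compact k-schemes whose diagonal morphisms over k are affine
(semi-separated; for instance X and Y separated over k). Then the canonical map Γ(X, O_X) ⊗_k Γ(Y,
O_Y) → Γ(X ×_k Y, O) is an isomorphism: the commutative square of rings of global sections formed by
Spec k, X, Y and X ×_k Y with the pullback maps along the structure morphisms and the two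
projections is a pushout square of commutative rings. -/
theorem result (k : Type u) [Field k]
    (X : Scheme.{u}) [X.Over (Spec (CommRingCat.of k))] [CompactSpace ↥X]
    [IsAffineHom (pullback.diagonal (X ↘ (Spec (CommRingCat.of k))))]
    (Y : Scheme.{u}) [Y.Over (Spec (CommRingCat.of k))] [CompactSpace ↥Y]
    [IsAffineHom (pullback.diagonal (Y ↘ (Spec (CommRingCat.of k))))] :
    IsPushout (X ↘ (Spec (CommRingCat.of k))).appTop (Y ↘ (Spec (CommRingCat.of k))).appTop
      (pullback.fst (X ↘ (Spec (CommRingCat.of k))) (Y ↘ (Spec (CommRingCat.of k)))).appTop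
      (pullback.snd (X ↘ (Spec (CommRingCat.of k))) (Y ↘ (Spec (CommRingCat.of k)))).appTop := by
  let qX := X ↘ Spec (CommRingCat.of k)
  let qY := Y ↘ Spec (CommRingCat.of k)
  have : QuasiSeparated qX := ⟨inferInstance⟩
  have : QuasiSeparated qY := ⟨inferInstance⟩
  have : QuasiSeparatedSpace X := quasiSeparatedSpace_of_quasiSeparated qX
  have : QuasiSeparatedSpace Y := quasiSeparatedSpace_of_quasiSeparated qY
  have hk : IsField Γ(Spec (CommRingCat.of k), ⊤) :=
    MulEquiv.isField (Field.toIsField k) (Scheme.ΓSpecIso (CommRingCat.of k)).commRingCatIsoToRingEquiv.toMulEquiv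
  letI := hk.toField
  have hflat : (qX.appLE ⊤ ⊤ le_top).hom.Flat := by
    letI := (qX.appLE ⊤ ⊤ le_top).hom.toAlgebra
    show Module.Flat _ _
    infer_instance
  have : Flat qY := by
    refine HasRingHomProperty.of_source_openCover (P := @Flat) Y.affineCover fun i => ?_
    letI := hk.toField
    letI := ((Y.affineCover.f i ≫ qY).appTop).hom.toAlgebra
    show Module.Flat _ _
    infer_instance
  have H := (isIso_pushoutSection_iff (IsPullback.of_hasPullback qX qY) (US := ⊤) (UT := ⊤) (UX := ⊤)
    (UY := ⊤) le_top le_top (by simp)).mp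
    (isIso_pushoutSection_of_isCompact_of_flat_right_of_ringHomFlat _ _ _ _ (isAffineOpen_top _)
      isCompact_univ isQuasiSeparated_univ isCompact_univ isQuasiSeparated_univ hflat)
  convert! H using 1 <;> (simp only [Scheme.Hom.appLE, Scheme.Hom.appTop]; exact ((congrArg _ (CategoryTheory.Functor.map_id _ _)).trans (Category.comp_id _)).symm)

end Groth.Agent.S18811
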