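import Groth.Statements.S18814
import Groth.Agent.Comod33.Structure
-- import your own Groth.Agent.* helpers here

set_option autoImplicit false
universe u v v' w w'
open TensorProduct
open HopfRep
open scoped Groth.Agent.Comod33

namespace Groth.Agent.S18814

/-- Let k be a field, C and D commutative bialgebras over k (coordinate rings of affine monoid schemes M
and N) and V a k-vector space carrying a right C-comodule structure with coaction ρ_C : V → V ⊗ C
and a right D-comodule structure with coaction ρ_D : V → V ⊗ D which commute: (ρ_C ⊗ id_D) ∘ ρ_D and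
(ρ_D ⊗ id_C) ∘ ρ_C agree in V ⊗ C ⊗ D after reassociating and swapping the last two factors (the
actions of M and N on V commute). Assume V is semisimple as a D-comodule. Then for every simple
D-comodule S the isotypic component of V of type S, the sum of the images of all D-comodule maps S →
V, is a C-subcomodule of V. (The source works with left comodules; this is the right-comodule form.) -/
theorem result (k : Type u) [Field k]
    (C : Type v) [CommRing C] [Bialgebra k C] (D : Type v') [CommRing D] [Bialgebra k D]
    (V : Type w) [AddCommGroup V] [Module k V] [HopfRep.Comod k C V] [HopfRep.Comod k D V]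
    (hcomm : (TensorProduct.assoc k V C D).toLinearMap ∘ₗ
        (HopfRep.Comod.coact (k := k) (A := C) (V := V)).rTensor D ∘ₗ HopfRep.Comod.coact (k := k) (A := D) =
      (TensorProduct.comm k D C).toLinearMap.lTensor V ∘ₗ (TensorProduct.assoc k V D C).toLinearMap ∘ₗ
        (HopfRep.Comod.coact (k := k) (A := D) (V := V)).rTensor C ∘ₗ HopfRep.Comod.coact (k := k) (A := C))
    (hV : HopfRep.IsSemisimpleComod k D V)
    (S : Type w') [AddCommGroup S] [Module k S] [HopfRep.Comod k D S] (hS : HopfRep.IsSimpleComod k D S) :
    HopfRep.IsSubcomod (k := k) (A := C)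
      (⨆ f : {f : S →ₗ[k] V // Hoch.IsComodHom D f}, LinearMap.range f.1) := by
  have key : ∀ (f : C →ₗ[k] k) (g : D →ₗ[k] k) (v : V),
      Comod33.dact f (Comod33.dact g v) = Comod33.dact g (Comod33.dact f v) := by
    intro f g v
    let h : C ⊗[k] D →ₗ[k] k := LinearMap.mul' k k ∘ₗ TensorProduct.map f g
    let h' : D ⊗[k] C →ₗ[k] k := LinearMap.mul' k k ∘ₗ TensorProduct.map g f
    have hswap : h ∘ₗ (TensorProduct.comm k D C).toLinearMap = h' :=
      TensorProduct.ext' fun a b => by simp [h, h', mul_comm]
    have e1 : ∀ x : V ⊗[k] D, Comod33.rc h (TensorProduct.assoc k V C D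
        ((HopfRep.Comod.coact (k := k) (A := C) (V := V)).rTensor D x)) =
        Comod33.dact f (Comod33.rc g x) := by
      intro x
      induction x with
      | zero => simp
      | tmul a b =>
        simp only [LinearMap.rTensor_tmul, Comod33.rc_tmul, map_smul, Comod33.dact_apply]
        generalize HopfRep.Comod.coact (k := k) (A := C) a = y
        induction y with
        | zero => simp
        | tmul p q => simp [h, smul_smul, mul_comm]
        | add p q hp hq => simp only [add_tmul, map_add, smul_add, hp, hq]
      | add p q hp hq => simp only [map_add, hp, hq]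
    have e2 : ∀ x : V ⊗[k] C, Comod33.rc h' (TensorProduct.assoc k V D C
        ((HopfRep.Comod.coact (k := k) (A := D) (V := V)).rTensor C x)) =
        Comod33.dact g (Comod33.rc f x) := by
      intro x
      induction x with
      | zero => simp
      | tmul a b =>
        simp only [LinearMap.rTensor_tmul, Comod33.rc_tmul, map_smul, Comod33.dact_apply]
        generalize HopfRep.Comod.coact (k := k) (A := D) a = y
        induction y with
        | zero => simp
        | tmul p q => simp [h', smul_smul, mul_comm]
        | add p q hp hq => simp only [add_tmul, map_add, smul_add, hp, hq]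
      | add p q hp hq => simp only [map_add, hp, hq]
    have hm := congrArg (Comod33.rc h) (LinearMap.congr_fun hcomm v)
    simp only [LinearMap.comp_apply, LinearEquiv.coe_coe] at hm
    rw [e1, Comod33.rc_lTensor, hswap, e2] at hm
    exact hm
  rw [Comod33.isSubcomod_iff]
  intro f u hu
  have hhom : Hoch.IsComodHom D (Comod33.dact f : V →ₗ[k] V) :=
    (Comod33.isComodHom_iff _).2 fun g v => key f g v
  induction hu using Submodule.iSup_induction' with
  | mem φ x hx =>
    obtain ⟨s, rfl⟩ := hx
    exact Submodule.mem_iSup_of_mem
      (p := fun f : {f : S →ₗ[k] V // Hoch.IsComodHom D f} => LinearMap.range f.1)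
      ⟨Comod33.dact f ∘ₗ φ.1, Comod33.isComodHom_comp φ.2 hhom⟩ ⟨s, rfl⟩
  | zero => simp
  | add x y _ _ hx hy => rw [map_add]; exact Submodule.add_mem _ hx hy

end Groth.Agent.S18814
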