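import Groth.Statements.S18817
import Groth.Agent.FlatMor66.Deform
import Groth.Agent.FlatMor67.LiftAffine
import Groth.Agent.RedPts82.FixedPts
import Mathlib.AlgebraicGeometry.Morphisms.FlatMono
-- import your own Groth.Agent.* helpers here

set_option autoImplicit false
universe u
open CategoryTheory MonoidalCategory CartesianMonoidalCategory MonObj AlgebraicGeometry
open AlgGrp

namespace Groth.Agent.S18817

open CategoryTheory.Limits

open Groth.Agent in
theorem isUnit_of_thickening {k : Type u} [Field k] {M : Over (Spec (CommRingCat.of k))} [MonObj M]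
    {T₀ T : Over (Spec (CommRingCat.of k))} (q : T₀ ⟶ T) (hq : MoreMor.IsFiniteOrderThickening q.left)
    (m : T ⟶ M) (hm : IsUnit (q ≫ m)) : IsUnit m := by
  obtain ⟨u, hu⟩ := hm
  let L : ∀ {P : Over (Spec (CommRingCat.of k))}, (P ⟶ M) → (M ⊗ P ⟶ M ⊗ P) := fun {P} a =>
    lift ((snd M P ≫ a) * fst M P) (snd M P)
  have hL : ∀ {P Y : Over (Spec (CommRingCat.of k))} (a : P ⟶ M) (x : Y ⟶ M) (p : Y ⟶ P),
      lift x p ≫ L a = lift ((p ≫ a) * x) p := fun {P Y} a x p => by
    simp only [L, comp_lift, MonObj.comp_mul, lift_fst, lift_snd_assoc, lift_snd]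
  have hLid : ∀ {P : Over (Spec (CommRingCat.of k))} {Y} (z : Y ⟶ M ⊗ P), z = lift (z ≫ fst _ _) (z ≫ snd _ _) :=
    fun {P} {Y} z => by apply CartesianMonoidalCategory.hom_ext <;> simp
  haveI : IsIso (L (q ≫ m)) := by
    refine ⟨L (↑u⁻¹ : T₀ ⟶ M), ?_, ?_⟩
    · refine (show L (q ≫ m) ≫ L (↑u⁻¹ : T₀ ⟶ M) = _ from ?_)
      rw [hLid (L (q ≫ m)), hL]
      apply CartesianMonoidalCategory.hom_ext <;> simp [L, ← _root_.mul_assoc, ← MonObj.comp_mul, ← hu]
    · rw [hLid (L (↑u⁻¹ : T₀ ⟶ M)), hL]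
      apply CartesianMonoidalCategory.hom_ext <;> simp [L, ← _root_.mul_assoc, ← MonObj.comp_mul, ← hu]
  haveI : IsIso (L (q ≫ m)).left := inferInstanceAs (IsIso ((Over.forget _).map (L (q ≫ m))))
  have hP : ∀ {P Q : Over (Spec (CommRingCat.of k))} (g : P ⟶ Q),
      IsPullback (M ◁ g).left (snd M P).left (snd M Q).left g.left := fun {P Q} g => by
    refine IsPullback.of_right ?_ (by rw [← Over.comp_left, whiskerLeft_snd, Over.comp_left])
      (IsPullback.of_hasPullback M.hom Q.hom)
    rw [show g.left ≫ Q.hom = P.hom from Over.w g]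
    rw [show (M ◁ g).left ≫ pullback.fst M.hom Q.hom = pullback.fst M.hom P.hom from
      congrArg (fun h => h.left) (whiskerLeft_fst M g)]
    exact IsPullback.of_hasPullback M.hom P.hom
  have hsnd : ∀ {P : Over (Spec (CommRingCat.of k))} (a : P ⟶ M), (L a).left ≫ (snd M P).left = (snd M P).left :=
    fun {P} a => by rw [← Over.comp_left, lift_snd]
  haveI : Flat ((L m).left ≫ (snd M T).left) := by
    rw [hsnd]
    exact inferInstanceAs (Flat (pullback.snd M.hom T.hom))
  have hcX : IsPullback (M ◁ q).left ((L (q ≫ m)).left ≫ (snd M T₀).left) ((L m).left ≫ (snd M T).left) q.left := by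
    rw [hsnd, hsnd]; exact hP q
  have w : (M ◁ q).left ≫ (L m).left = (L (q ≫ m)).left ≫ (M ◁ q).left := by
    rw [← Over.comp_left, ← Over.comp_left]
    congr 1
    apply CartesianMonoidalCategory.hom_ext <;> simp [L, MonObj.comp_mul]
  haveI : IsIso ((Over.forget _).map (L m)) := (FlatMor66.deform_isIso hq hcX (hP q) w).1 inferInstance
  haveI : IsIso (L m) := isIso_of_reflects_iso _ (Over.forget _)
  obtain ⟨n, hn⟩ : ∃ n : T ⟶ M, m * n = 1 := by
    refine ⟨lift 1 (𝟙 T) ≫ inv (L m) ≫ fst M T, ?_⟩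
    have h : (lift 1 (𝟙 T) ≫ inv (L m)) ≫ L m = lift 1 (𝟙 T) := by simp
    rw [hLid (lift 1 (𝟙 T) ≫ inv (L m)), hL] at h
    have h1 := congrArg (· ≫ fst M T) h
    have h2 := congrArg (· ≫ snd M T) h
    simp only [lift_fst, lift_snd] at h1 h2
    rw [h2, Category.id_comp] at h1
    simpa only [Category.assoc] using h1
  have hn' : n * m = 1 := by
    have h : lift (n * m) (𝟙 T) ≫ L m = lift 1 (𝟙 T) ≫ L m := by
      rw [hL, hL, Category.id_comp, ← _root_.mul_assoc, hn, _root_.one_mul, _root_.mul_one]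
    simpa using congrArg (· ≫ fst M T) ((cancel_mono (L m)).1 h)
  exact ⟨⟨m, n, hn, hn'⟩, rfl⟩

open Groth.Agent in
theorem lft_units {k : Type u} [Field k] {M G : Over (Spec (CommRingCat.of k))} [MonObj M]
    [LocallyOfFiniteType M.hom] (i : G ⟶ M) [Mono i]
    (hi : ∀ (T : Over (Spec (CommRingCat.of k))) (m : T ⟶ M), (∃ g : T ⟶ G, g ≫ i = m) ↔ IsUnit m) :
    LocallyOfFiniteType G.hom := by
  let a : M ⊗ M ⟶ M ⊗ M := lift (fst M M * snd M M) (snd M M * fst M M)
  let o : 𝟙_ (Over (Spec (CommRingCat.of k))) ⟶ M ⊗ M := lift 1 1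
  let P := pullback a o
  let p : P ⟶ M ⊗ M := pullback.fst a o
  haveI : IsImmersion o.left := by
    have h : o.left ≫ (M ⊗ M).hom = (𝟙_ (Over (Spec (CommRingCat.of k)))).hom := Over.w o
    haveI : IsImmersion (o.left ≫ (M ⊗ M).hom) := by
      rw [h]; exact inferInstanceAs (IsImmersion (𝟙 _))
    exact IsImmersion.of_comp o.left (M ⊗ M).hom
  haveI : IsImmersion p.left := MorphismProperty.of_isPullback (P := @IsImmersion)
    ((IsPullback.of_hasPullback a o).map (Over.forget _)).flip ‹_›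
  haveI : LocallyOfFiniteType (M ⊗ M).hom :=
    inferInstanceAs (LocallyOfFiniteType (pullback.fst M.hom M.hom ≫ M.hom))
  haveI : LocallyOfFiniteType P.hom := by rw [← Over.w p]; infer_instance
  obtain ⟨u, hu⟩ := (hi G i).1 ⟨𝟙 G, Category.id_comp i⟩
  have hp : (p ≫ fst M M) * (p ≫ snd M M) = 1 ∧ (p ≫ snd M M) * (p ≫ fst M M) = 1 := by
    have h := pullback.condition (f := a) (g := o)
    have h1 := congrArg (· ≫ fst M M) h
    have h2 := congrArg (· ≫ snd M M) h
    simp only [a, o, Category.assoc, lift_fst, lift_snd, MonObj.comp_mul, MonObj.comp_one] at h1 h2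
    exact ⟨h1, h2⟩
  obtain ⟨g, hg⟩ := (hi P (p ≫ fst M M)).2 ⟨⟨_, _, hp.1, hp.2⟩, rfl⟩
  let b : G ⟶ P := pullback.lift (lift i (↑u⁻¹ : G ⟶ M)) (toUnit G) (by
    apply CartesianMonoidalCategory.hom_ext <;> simp [a, o, MonObj.comp_mul, MonObj.comp_one, ← hu])
  have hbp : b ≫ p = lift i (↑u⁻¹ : G ⟶ M) := pullback.lift_fst _ _ _
  have hbg : b ≫ g = 𝟙 G := by
    rw [← cancel_mono i, Category.assoc, hg, ← Category.assoc, hbp, lift_fst, Category.id_comp]
  haveI : IsClosedImmersion (b ≫ g).left := by rw [hbg, Over.id_left]; infer_instance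
  haveI : IsImmersion (b.left ≫ g.left) := by rw [← Over.comp_left]; infer_instance
  haveI : IsImmersion b.left := IsImmersion.of_comp b.left g.left
  rw [← Over.w b]
  infer_instance

open Groth.Agent in
theorem smooth_units {k : Type u} [Field k] {M G : Over (Spec (CommRingCat.of k))} [MonObj M]
    [LocallyOfFiniteType M.hom] (i : G ⟶ M) [Mono i]
    (hi : ∀ (T : Over (Spec (CommRingCat.of k))) (m : T ⟶ M), (∃ g : T ⟶ G, g ≫ i = m) ↔ IsUnit m) :
    Smooth i.left := by
  haveI := lft_units i hi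
  haveI : LocallyOfFiniteType (i.left ≫ M.hom) := by rw [Over.w i]; infer_instance
  haveI : LocallyOfFiniteType i.left := locallyOfFiniteType_of_comp i.left M.hom
  haveI : IsLocallyNoetherian M.left := LocallyOfFiniteType.isLocallyNoetherian M.hom
  haveI : LocallyOfFinitePresentation i.left := inferInstance
  have hloc : ∀ x : G.left, ∃ W : G.left.Opens, x ∈ W ∧ Smooth (W.ι ≫ i.left) := by
    intro x
    obtain ⟨V, hV, hxV, -⟩ := exists_isAffineOpen_mem_and_subset
      (show i.left x ∈ (⊤ : M.left.Opens) from trivial)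
    obtain ⟨W, hW, hxW, hWV⟩ := exists_isAffineOpen_mem_and_subset
      (show x ∈ i.left ⁻¹ᵁ V from hxV)
    refine ⟨W, hxW, ?_⟩
    replace hWV : W ≤ i.left ⁻¹ᵁ V := hWV
    suffices Smooth (i.left.resLE V W hWV) by
      rw [← Scheme.Hom.resLE_comp_ι i.left hWV]; infer_instance
    haveI : IsAffine (V : Scheme.{u}) := hV
    let X : Over (V : Scheme.{u}) := Over.mk (i.left.resLE V W hWV)
    haveI : IsAffine X.left := hW
    haveI : LocallyOfFinitePresentation X.hom :=
      by show LocallyOfFinitePresentation (i.left.resLE V W hWV); delta Scheme.Hom.resLE; infer_instance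
    refine RedPts82.smooth_of_lifts (X := X) fun T _ J hJ g₀ => ?_
    let T' : Over (Spec (CommRingCat.of k)) := Over.mk (T.left.isoSpec.inv ≫ T.hom ≫ V.ι ≫ M.hom)
    let T₀ : Over (Spec (CommRingCat.of k)) :=
      Over.mk (Spec.map (CommRingCat.ofHom (Ideal.Quotient.mk J)) ≫ T'.hom)
    let q : T₀ ⟶ T' := Over.homMk (Spec.map (CommRingCat.ofHom (Ideal.Quotient.mk J))) rfl
    have hqt : MoreMor.IsFiniteOrderThickening q.left := by
      have hnil : IsNilpotent J := ⟨2, by rw [pow_two]; exact hJ⟩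
      have hs : Surjective (Spec.map (CommRingCat.ofHom (Ideal.Quotient.mk J))) := by
        haveI := RedPts82.redMap_surjective hJ
        exact (MorphismProperty.cancel_right_of_respectsIso @Surjective _ T.left.isoSpec.inv).1
          (RedPts82.redMap_surjective hJ)
      exact ⟨⟨inferInstanceAs (IsClosedImmersion (Spec.map _)), hs⟩, FlatMor67.specMk_isNilpotent_ker hnil⟩
    let m : T' ⟶ M := Over.homMk (T.left.isoSpec.inv ≫ T.hom ≫ V.ι) (by simp [T'])
    obtain ⟨gl, hgl⟩ : ∃ gl : Spec (CommRingCat.of (RedPts82.Gam T ⧸ J)) ⟶ (W : Scheme.{u}), gl = g₀.left :=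
      ⟨_, rfl⟩
    have hg₀ : gl ≫ i.left.resLE V W hWV =
        Spec.map (CommRingCat.ofHom (Ideal.Quotient.mk J)) ≫ T.left.isoSpec.inv ≫ T.hom :=
      hgl ▸ (Over.w g₀).trans (Category.assoc _ _ _)
    have hg₀' : (gl ≫ W.ι) ≫ i.left = (q ≫ m).left := by
      rw [Over.comp_left, Category.assoc, ← Scheme.Hom.resLE_comp_ι i.left hWV, ← Category.assoc, hg₀]
      simp [q, m]
    let g₀' : T₀ ⟶ G := Over.homMk (gl ≫ W.ι) (by
      show (gl ≫ W.ι) ≫ G.hom = T₀.hom
      rw [← Over.w i, ← Category.assoc, hg₀']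
      exact Over.w (q ≫ m))
    obtain ⟨t, ht⟩ := (hi T' m).2 (isUnit_of_thickening q hqt m
      ((hi T₀ (q ≫ m)).1 ⟨g₀', Over.OverMorphism.ext hg₀'⟩))
    have hqg : q ≫ t = g₀' := by
      rw [← cancel_mono i, Category.assoc, ht]
      exact Over.OverMorphism.ext hg₀'.symm
    have hqg' : Spec.map (CommRingCat.ofHom (Ideal.Quotient.mk J)) ≫ t.left = gl ≫ W.ι :=
      congrArg (fun h => h.left) hqg
    have hr : Set.range (T.left.isoSpec.hom ≫ t.left).base ⊆ Set.range W.ι.base := by
      rintro _ ⟨y, rfl⟩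
      obtain ⟨z, hz⟩ := hqt.1.2.surj (T.left.isoSpec.hom y)
      rw [Scheme.Hom.comp_apply, ← hz, ← Scheme.Hom.comp_apply,
        show q.left ≫ t.left = gl ≫ W.ι from hqg', Scheme.Hom.comp_apply]
      exact Set.mem_range_self _
    let l : T.left ⟶ (W : Scheme.{u}) := IsOpenImmersion.lift W.ι _ hr
    have hlι : l ≫ W.ι = T.left.isoSpec.hom ≫ t.left := IsOpenImmersion.lift_fac _ _ _
    have hlV : l ≫ i.left.resLE V W hWV = T.hom := by
      rw [← cancel_mono V.ι, Category.assoc, Scheme.Hom.resLE_comp_ι, reassoc_of% hlι, ← Over.comp_left, ht]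
      simp [m]
    refine ⟨Over.homMk l hlV, Over.OverMorphism.ext ?_⟩
    rw [← hgl]
    show (Spec.map (CommRingCat.ofHom (Ideal.Quotient.mk J)) ≫ T.left.isoSpec.inv) ≫ l = gl
    rw [← cancel_mono W.ι, Category.assoc, Category.assoc, hlι, Iso.inv_hom_id_assoc, hqg']
  choose W hxW hW using hloc
  haveI : IsZariskiLocalAtSource (@Smooth : MorphismProperty Scheme.{u}) :=
    HasRingHomProperty.instIsZariskiLocalAtSource (P := @Smooth) (Q := RingHom.Smooth)
  refine IsZariskiLocalAtSource.of_openCover (P := @Smooth) (G.left.openCoverOfIsOpenCover W (by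
    rw [TopologicalSpace.IsOpenCover, eq_top_iff]
    exact fun x _ => TopologicalSpace.Opens.mem_iSup.2 ⟨x, hxW x⟩)) hW


/-- Let k be a field and M an algebraic monoid over k, i.e. a monoid object in k-schemes whose
underlying scheme is of finite type over k, and assume M is geometrically integral. Let i : G → M be
the group of units of M: a monomorphism of k-schemes such that, for every k-scheme T, a T-valued
point of M factors through i if and only if it is invertible in the monoid M(T). Then i is an open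
immersion. -/
theorem result (k : Type u) [Field k]
    (M G : Over (Spec (CommRingCat.of k))) [MonObj M] [LocallyOfFiniteType M.hom] [QuasiCompact M.hom]
    [GeometricallyIntegral M.hom] (i : G ⟶ M) [Mono i]
    (hi : ∀ (T : Over (Spec (CommRingCat.of k))) (m : T ⟶ M), (∃ g : T ⟶ G, g ≫ i = m) ↔ IsUnit m) :
    IsOpenImmersion i.left := by
  haveI : Smooth i.left := smooth_units i hi
  haveI : Mono i.left := inferInstanceAs (Mono ((Over.forget _).map i))
  exact IsOpenImmersion.of_flat_of_mono i.left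

end Groth.Agent.S18817
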