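import Groth.Statements.S18818
import Groth.Agent.Comod33.Simple
-- import your own Groth.Agent.* helpers here

set_option autoImplicit false
universe u v w
open TensorProduct
open HopfRep
open scoped Groth.Agent.Comod33

namespace Groth.Agent.S18818

/-- Let k be a field, C a k-coalgebra and V a right C-comodule which is semisimple in the sense that
every subcomodule has a complementary subcomodule (equivalently every injective comodule map into V
splits). Then V is completely reducible: V is the sum of its simple subcomodules, the nonzero
subcomodules W whose only subcomodules are 0 and W. (The source states this for representations of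
an affine monoid scheme over k, i.e. left comodules over its coordinate bialgebra; the converse
implication and the stability of the class under subobjects and quotients are not part of this row.) -/
theorem result (k : Type u) [Field k]
    (C : Type v) [AddCommGroup C] [Module k C] [Coalgebra k C]
    (V : Type w) [AddCommGroup V] [Module k V] [HopfRep.Comod k C V] (hV : HopfRep.IsSemisimpleComod k C V) :
    (⨆ W : {W : Submodule k V // HopfRep.IsSubcomod (k := k) (A := C) W ∧ W ≠ ⊥ ∧
        ∀ W' : Submodule k V, HopfRep.IsSubcomod (k := k) (A := C) W' → W' ≤ W → W' = ⊥ ∨ W' = W},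
      (W.1 : Submodule k V)) = ⊤ := by
  have := Comod33.isSemisimpleComod_iff.1 hV
  have h1 := IsSemisimpleModule.sSup_simples_eq_top (R := WithConv (C →ₗ[k] k)) (M := V)
  rw [eq_top_iff]
  intro x htop
  clear htop
  have hx : x ∈ sSup {m : Submodule (WithConv (C →ₗ[k] k)) V | IsSimpleModule (WithConv (C →ₗ[k] k)) m} := by
    rw [h1]; trivial
  rw [sSup_eq_iSup'] at hx
  induction hx using Submodule.iSup_induction' with
  | mem m y hy =>
    have := (Comod33.isSimpleModule_toSub_iff (Comod33.isSubcomod_restrictScalars m.1)).1 m.2
    exact Submodule.mem_iSup_of_mem
      (p := fun W : {W : Submodule k V // HopfRep.IsSubcomod (k := k) (A := C) W ∧ W ≠ ⊥ ∧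
        ∀ W' : Submodule k V, HopfRep.IsSubcomod (k := k) (A := C) W' → W' ≤ W → W' = ⊥ ∨ W' = W} => W.1)
      ⟨m.1.restrictScalars k, Comod33.isSubcomod_restrictScalars m.1, this⟩ hy
  | zero => exact zero_mem _
  | add y z _ _ hy hz => exact add_mem hy hz

end Groth.Agent.S18818
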