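import Groth.Statements.S18819
import Groth.Agent.Comod33.Lattice
-- import your own Groth.Agent.* helpers here

set_option autoImplicit false
universe u v w w'
open TensorProduct
open HopfRep
open scoped Groth.Agent.Comod33

namespace Groth.Agent.S18819

/-- Let k be a field, C a k-coalgebra and V a right C-comodule which is the sum of finitely many simple
subcomodules, given as the images of comodule maps g_i : K_i → V (i < n) from simple comodules K_i.
If S is a simple comodule and f : S → V a nonzero comodule map (so that its image is a simple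
subcomodule of V), then S is isomorphic as a comodule to some K_i: there is a k-linear isomorphism S
≃ K_i commuting with the coactions. (The source states this for representations of an affine monoid
scheme over k with the subrepresentations given as subspaces; here the simple subcomodules are
presented as images of maps from simple comodules.) -/
theorem result (k : Type u) [Field k]
    (C : Type v) [AddCommGroup C] [Module k C] [Coalgebra k C]
    (V : Type w) [AddCommGroup V] [Module k V] [HopfRep.Comod k C V]
    {n : ℕ} (K : Fin n → Type w') [∀ i, AddCommGroup (K i)] [∀ i, Module k (K i)] [∀ i, HopfRep.Comod k C (K i)]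
    (hK : ∀ i, HopfRep.IsSimpleComod k C (K i)) (g : ∀ i, K i →ₗ[k] V) (hg : ∀ i, Hoch.IsComodHom C (g i))
    (hsum : (⨆ i, LinearMap.range (g i)) = ⊤)
    (S : Type w') [AddCommGroup S] [Module k S] [HopfRep.Comod k C S] (hS : HopfRep.IsSimpleComod k C S)
    (f : S →ₗ[k] V) (hf : Hoch.IsComodHom C f) (hf0 : f ≠ 0) :
    ∃ (i : Fin n) (e : S ≃ₗ[k] K i), Hoch.IsComodHom C (e : S →ₗ[k] K i) := by
  have hKs := fun i => Comod33.isSimpleComod_iff.1 (hK i)
  have := Comod33.isSimpleComod_iff.1 hS
  let fΛ := Comod33.toDualLinear (A := C) f hf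
  have hinj : Function.Injective fΛ := LinearMap.injective_of_ne_zero
    (fun h => hf0 (LinearMap.ext fun s => LinearMap.congr_fun h s))
  let s : Set (Submodule (WithConv (C →ₗ[k] k)) V) :=
    {m | ∃ i, m = LinearMap.range (Comod33.toDualLinear (A := C) (g i) (hg i)) ∧ m ≠ ⊥}
  have hs : ∀ m : s, IsSimpleModule (WithConv (C →ₗ[k] k)) m.1 := by
    rintro ⟨m, i, rfl, hne⟩
    have hi : Function.Injective (Comod33.toDualLinear (A := C) (g i) (hg i)) :=
      LinearMap.injective_of_ne_zero (fun h => hne (by rw [h, LinearMap.range_zero]))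
    exact IsSimpleModule.congr (LinearEquiv.ofInjective _ hi).symm
  have hle : LinearMap.range fΛ ≤ sSup s := by
    refine le_trans le_top (le_of_eq_of_le ?_ (le_refl (sSup s)))
    symm
    rw [eq_top_iff]
    intro v _
    have hv : v ∈ ⨆ i, LinearMap.range (g i) := hsum ▸ Submodule.mem_top
    have : (⨆ i, LinearMap.range (g i)) ≤ (sSup s).restrictScalars k := by
      refine iSup_le fun i => ?_
      by_cases hb : LinearMap.range (Comod33.toDualLinear (A := C) (g i) (hg i)) = ⊥
      · rintro _ ⟨x, rfl⟩
        have : g i x = 0 := (Submodule.mem_bot _).1 (hb ▸ LinearMap.mem_range_self _ x)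
        rw [this]; exact zero_mem _
      · rintro _ ⟨x, rfl⟩
        exact le_sSup (show LinearMap.range (Comod33.toDualLinear (A := C) (g i) (hg i)) ∈ s from ⟨i, rfl, hb⟩)
          (LinearMap.mem_range_self _ x)
    exact this hv
  have hsimp : IsSimpleModule (WithConv (C →ₗ[k] k)) (LinearMap.range fΛ) :=
    IsSimpleModule.congr (LinearEquiv.ofInjective fΛ hinj).symm
  obtain ⟨m, ⟨i, rfl, hne⟩, ⟨e⟩⟩ := (LinearMap.range fΛ).linearEquiv_of_le_sSup _ hle
  have hi : Function.Injective (Comod33.toDualLinear (A := C) (g i) (hg i)) :=
    LinearMap.injective_of_ne_zero (fun h => hne (by rw [h, LinearMap.range_zero]))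
  exact ⟨i, Comod33.exists_comodIso_iff.2
    ⟨(LinearEquiv.ofInjective fΛ hinj).trans (e.trans (LinearEquiv.ofInjective _ hi).symm)⟩⟩

end Groth.Agent.S18819
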