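import Groth.Statements.S18821
import Groth.Agent.AlgGrp79.Units

set_option autoImplicit false
universe u
open CategoryTheory MonoidalCategory CartesianMonoidalCategory MonObj AlgebraicGeometry
open AlgGrp

namespace Groth.Agent.S18821
open Groth.Agent.AlgGrp79 CategoryTheory.Limits

/-- Let k be a commutative ring and M a monoid k-scheme (a monoid object in k-schemes). Then the group
k-functor of units T ↦ M(T)^× is representable by a k-scheme: there are a k-scheme G and a
monomorphism i : G → M such that, for every k-scheme T, a T-valued point of M factors through i if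
and only if it is invertible in the monoid M(T). If moreover M is affine then G is affine. -/
theorem result (k : Type u) [CommRing k]
    (M : Over (Spec (CommRingCat.of k))) [MonObj M] :
    ∃ (G : Over (Spec (CommRingCat.of k))) (i : G ⟶ M), Mono i ∧
      (∀ (T : Over (Spec (CommRingCat.of k))) (m : T ⟶ M), (∃ g : T ⟶ G, g ≫ i = m) ↔ IsUnit m) ∧
      (IsAffine M.left → IsAffine G.left) := by
  refine ⟨unitsObj M, unitsι M, inferInstance, fun T m => units_iff m, fun hM => ?_⟩
  have : IsAffine (M ⊗ M).left := inferInstanceAs (IsAffine (pullback M.hom M.hom))
  have : IsAffine (𝟙_ (Over (Spec (CommRingCat.of k)))).left := inferInstanceAs (IsAffine (Spec _))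
  have sq : IsPullback _ _ (unitsPair M).left (lift (η[M]) (η[M])).left :=
    (IsPullback.of_hasPullback (unitsPair M) (lift (η[M]) (η[M]))).map (Over.forget _)
  exact IsAffine.of_isIso sq.isoPullback.hom
end Groth.Agent.S18821
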