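import Groth.Statements.S18823
import Groth.Agent.AlgGrp79.FixedLocus

set_option autoImplicit false
universe u
open CategoryTheory MonoidalCategory CartesianMonoidalCategory AlgebraicGeometry
open AlgGrp

namespace Groth.Agent.S18823
open Groth.Agent.AlgGrp79 CategoryTheory.Limits
open scoped commutatorElement

/-- Let k be a field, X a separated k-scheme, M a k-scheme (in the source a monoid k-scheme) acting on X
through a : M ×_k X → X, and i : G → M a morphism of k-schemes which is a scheme-theoretically
dominant open immersion: no nonzero quasi-coherent ideal of O_M restricts to zero on G (for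
quasi-compact i this is the usual schematic density, O_M → i_*O_G injective; in the source G is the
group of units of M, open and schematically dense). For a k-scheme T and a T-valued point x of X, x
is fixed under M, i.e. a ∘ (id_M × x) = x ∘ pr_T on M ×_k T, if and only if x is fixed under G, i.e.
a ∘ (i × x) = x ∘ pr_T on G ×_k T. Thus the fixed-point subpresheaves X^M and X^G of X are equal.
(The published statement has no separatedness assumption on X and reduces to points landing in an
affine open; the step asserting that the equalizer of the two maps M ×_k T → X is closed uses that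
the target is separated, so X is taken separated here, the case the printed argument establishes.
The monoid structure and the action axioms play no role in that argument and are not assumed.) -/
theorem result (k : Type u) [Field k]
    (M G X : Over (Spec (CommRingCat.of k))) [IsSeparated X.hom] (a : M ⊗ X ⟶ X) (i : G ⟶ M)
    [IsOpenImmersion i.left] [IsSchemeTheoreticallyDominant i.left]
    (T : Over (Spec (CommRingCat.of k))) (x : T ⟶ X) :
    (M ◁ x) ≫ a = CartesianMonoidalCategory.snd M T ≫ x ↔
      (G ◁ x) ≫ (i ▷ X) ≫ a = CartesianMonoidalCategory.snd G T ≫ x := by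
  constructor
  · intro h
    rw [whisker_exchange_assoc, h, whiskerRight_snd_assoc]
  · intro h
    let f : T ⊗ M ⟶ X := lift (snd T M) (fst T M) ≫ (M ◁ x) ≫ a
    let g : T ⊗ M ⟶ X := fst T M ≫ x
    obtain ⟨L, j, hj, hL⟩ := exists_agree_repr f g
    have hi : Agree f g i := by
      have e : lift (snd T G ≫ i) (fst T G) = lift (snd T G) (fst T G) ≫ (i ▷ T) := by ext <;> simp
      have h' := congr(lift (snd T G) (fst T G) ≫ $h)
      rw [whisker_exchange_assoc, ← Category.assoc, ← e, lift_snd_assoc] at h'
      show (T ◁ i) ≫ f = (T ◁ i) ≫ g
      have e2 : (T ◁ i) ≫ lift (snd T M) (fst T M) = lift (snd T G ≫ i) (fst T G) := by ext <;> simp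
      simp only [f, g]
      rw [← Category.assoc, e2, h', whiskerLeft_fst_assoc]
    obtain ⟨z, hz⟩ := (hL G i).1 hi
    have hker : j.left.ker = ⊥ := by
      refine le_bot_iff.1 ?_
      rw [← i.left.ker_eq_bot, ← hz, Over.comp_left]
      exact Scheme.Hom.le_ker_comp z.left j.left
    have : IsIso j.left := IsClosedImmersion.isIso_iff_ker_eq_bot.2 hker
    have : IsIso ((Over.forget _).map j) := ‹_›
    have : IsIso j := isIso_of_reflects_iso j (Over.forget _)
    have h2 : Agree f g (𝟙 M) := (hL M (𝟙 M)).2 ⟨inv j, IsIso.inv_hom_id j⟩
    simp only [Agree, MonoidalCategory.whiskerLeft_id, Category.id_comp, f, g] at h2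
    have := congr(lift (snd M T) (fst M T) ≫ $h2)
    rw [comp_lift_assoc, lift_fst, lift_snd, lift_fst_snd, Category.id_comp, lift_fst_assoc] at this
    exact this
end Groth.Agent.S18823
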