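import Groth.Statements.S18824
import Groth.Agent.AlgGrp79.Act
import Groth.Agent.AlgGrp79.Pullback

set_option autoImplicit false
universe u
open CategoryTheory MonoidalCategory CartesianMonoidalCategory MonObj AlgebraicGeometry
open AlgGrp

namespace Groth.Agent.S18824
open Groth.Agent.AlgGrp79 CategoryTheory.Limits

/-- Let k be a field, G a locally algebraic group over k (a group k-scheme locally of finite type)
acting on a k-scheme X through a : G ×_k X → X, and U an open subset of X. Let G·U ⊆ X be the image
under a of G ×_k U (the preimage of U under the projection). Then G·U is open in X, contains U, is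
G-stable in the sense that a maps G ×_k (G·U) into G·U, and is the smallest such set: every G-stable
open subset of X containing U contains G·U. -/
theorem result (k : Type u) [Field k]
    (G X : Over (Spec (CommRingCat.of k))) [GrpObj G] [LocallyOfFiniteType G.hom] (a : AlgGrp.Action G X)
    (U : Set ↥X.left) (hU : IsOpen U) :
    IsOpen (a.act.left.base '' ((CartesianMonoidalCategory.snd G X).left.base ⁻¹' U)) ∧
      U ⊆ a.act.left.base '' ((CartesianMonoidalCategory.snd G X).left.base ⁻¹' U) ∧
      a.act.left.base '' ((CartesianMonoidalCategory.snd G X).left.base ⁻¹'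
          (a.act.left.base '' ((CartesianMonoidalCategory.snd G X).left.base ⁻¹' U))) ⊆
        a.act.left.base '' ((CartesianMonoidalCategory.snd G X).left.base ⁻¹' U) ∧
      ∀ W : Set ↥X.left, IsOpen W → U ⊆ W →
        a.act.left.base '' ((CartesianMonoidalCategory.snd G X).left.base ⁻¹' W) ⊆ W →
          a.act.left.base '' ((CartesianMonoidalCategory.snd G X).left.base ⁻¹' U) ⊆ W := by
  have hG : UniversallyOpen G.hom := by
    have : LocallyOfFinitePresentation G.hom := LocallyOfFinitePresentation.iff_locallyOfFiniteType.2 inferInstance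
    exact UniversallyOpen.of_flat G.hom
  have hact : UniversallyOpen a.act.left := act_left_prop a @UniversallyOpen hG
  refine ⟨?_, ?_, ?_, ?_⟩
  · exact a.act.left.isOpenMap _ (hU.preimage (snd G X).left.continuous)
  · intro x hx
    refine ⟨((λ_ X).inv ≫ η[G] ▷ X).left x, ?_, ?_⟩
    · show (snd G X).left _ ∈ U
      rw [← Scheme.Hom.comp_apply, ← Over.comp_left]
      simpa using hx
    · show a.act.left _ = x
      rw [← Scheme.Hom.comp_apply, ← Over.comp_left]
      simp [a.one_act]
  · rintro _ ⟨p, ⟨r, hr, hrp⟩, rfl⟩
    obtain ⟨q, rfl, rfl⟩ := exists_preimage_of_isPullback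
      (isPullback_left (whiskerLeft_isPullback G a.act)) p r hrp.symm
    refine ⟨((α_ G G X).inv ≫ μ[G] ▷ X).left q, ?_, ?_⟩
    · show (snd G X).left _ ∈ U
      rw [← Scheme.Hom.comp_apply, ← Over.comp_left]
      have : ((α_ G G X).inv ≫ μ[G] ▷ X) ≫ snd G X = snd G (G ⊗ X) ≫ snd G X := by simp
      rw [this, Over.comp_left, Scheme.Hom.comp_apply]
      exact hr
    · show a.act.left _ = a.act.left _
      rw [← Scheme.Hom.comp_apply, ← Over.comp_left, Category.assoc, a.mul_act, Iso.inv_hom_id_assoc,
        Over.comp_left, Scheme.Hom.comp_apply]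
  · intro W _ hUW hW
    exact le_trans (Set.image_mono (Set.preimage_mono hUW)) hW
end Groth.Agent.S18824
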