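import Groth.Statements.S18826
import Groth.Agent.AlgGrp79.Batch
import Groth.Agent.AlgGrp79.Act
import Groth.Agent.AlgGrp79.Pullback
import Groth.Agent.AlgGrp79.LargestOpen

set_option autoImplicit false
universe u
open CategoryTheory MonoidalCategory CartesianMonoidalCategory MonObj AlgebraicGeometry
open AlgGrp

namespace Groth.Agent.S18826
open Groth.Agent.AlgGrp79 CategoryTheory.Limits
open scoped commutatorElement

/-- Let k be a field, G a locally algebraic group over k (a group k-scheme locally of finite type)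
acting on k-schemes X and Y, and f : X → Y a G-equivariant k-morphism. Let P be a property of
morphisms of schemes which is local on the target for the Zariski topology, stable under base
change, and descends along flat surjective universally open morphisms (the published hypothesis is
descent along fpqc morphisms; the printed argument descends only along the restriction G ×_k U → G·U
of the action, which is flat, surjective and universally open). Then there is a largest open subset
V of Y such that the restriction f⁻¹(V) → V of f has P, and this V is G-stable: the action G ×_k Y →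
Y maps G ×_k V into V. -/
theorem result (k : Type u) [Field k]
    (G X Y : Over (Spec (CommRingCat.of k))) [GrpObj G] [LocallyOfFiniteType G.hom]
    (aX : AlgGrp.Action G X) (aY : AlgGrp.Action G Y) (f : X ⟶ Y) (hf : (G ◁ f) ≫ aY.act = aX.act ≫ f)
    (P : MorphismProperty Scheme.{u}) [IsZariskiLocalAtTarget P] [P.IsStableUnderBaseChange]
    [P.DescendsAlong (@Flat ⊓ @Surjective ⊓ @UniversallyOpen)] :
    ∃ V : Y.left.Opens, P (f.left ∣_ V) ∧ (∀ V' : Y.left.Opens, P (f.left ∣_ V') → V' ≤ V) ∧
      (CartesianMonoidalCategory.snd G Y).left ⁻¹ᵁ V ≤ aY.act.left ⁻¹ᵁ V := by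
  let S0 := {U : Y.left.Opens // P (f.left ∣_ U)}
  let V : Y.left.Opens := ⨆ U : S0, U.1
  have hmax : ∀ V' : Y.left.Opens, P (f.left ∣_ V') → V' ≤ V := fun V' h => le_iSup (fun U : S0 => U.1) ⟨V', h⟩
  have hV : P (f.left ∣_ V) := by
    refine IsZariskiLocalAtTarget.of_iSup_eq_top (fun U : S0 => V.ι ⁻¹ᵁ U.1) ?_ fun U => ?_
    · rw [← Scheme.Hom.preimage_iSup]
      exact V.ι_preimage_self
    · refine (P.arrow_mk_iso_iff (morphismRestrictRestrict f.left V (V.ι ⁻¹ᵁ U.1))).2 ?_
      rw [Scheme.Hom.image_preimage_eq_opensRange_inf, Scheme.Opens.opensRange_ι, inf_eq_right.2 (hmax U.1 U.2)]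
      exact U.2
  let q := aY.act.left
  have hqf : Flat q := act_left_prop aY (@Flat) inferInstance
  have hqu : UniversallyOpen q := act_left_prop aY (@UniversallyOpen) inferInstance
  let O := (snd G Y).left ⁻¹ᵁ V
  let W : Y.left.Opens := ⟨q '' O, q.isOpenMap _ O.isOpen⟩
  refine ⟨V, hV, hmax, ?_⟩
  suffices hW : P (f.left ∣_ W) by
    intro z hz
    exact hmax W hW ⟨z, hz, rfl⟩
  obtain ⟨l1, r1, hsq1, -⟩ := exists_restrict_square (f' := (G ◁ f).left) (isPullback_left (whiskerLeft_isPullback G f).flip) O V le_rfl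
  have hO : P ((G ◁ f).left ∣_ O) := P.of_isPullback hsq1 hV
  obtain ⟨l, r, hsq, hr⟩ := exists_restrict_square (isPullback_left (isPullback_act aX aY f hf)) O W (fun z hz => ⟨z, hz, rfl⟩)
  have hrp : IsPullback (𝟙 _) r (O.ι ≫ q) W.ι := IsPullback.of_horiz_isIso_mono ⟨by rw [Category.id_comp, hr]⟩
  have hflat : Flat r := MorphismProperty.of_isPullback hrp (inferInstance : Flat (O.ι ≫ q))
  have huo : UniversallyOpen r := MorphismProperty.of_isPullback hrp (inferInstance : UniversallyOpen (O.ι ≫ q))
  have hs : Surjective r := ⟨fun w => by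
    obtain ⟨z, hz, hzw⟩ := w.2
    refine ⟨⟨z, hz⟩, W.ι.isOpenEmbedding.injective ?_⟩
    rw [← Scheme.Hom.comp_apply, hr]
    exact hzw⟩
  exact MorphismProperty.of_isPullback_of_descendsAlong (P := P) (Q := @Flat ⊓ @Surjective ⊓ @UniversallyOpen) hsq.flip
    ⟨⟨hflat, hs⟩, huo⟩ hO
end Groth.Agent.S18826
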