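import Groth.Statements.S18830
import Groth.Agent.AlgGrp79.Units
import Groth.Agent.AlgGrp79.Pullback

set_option autoImplicit false
universe u
open CategoryTheory MonoidalCategory CartesianMonoidalCategory MonObj AlgebraicGeometry
open AlgGrp

namespace Groth.Agent.S18830
open Groth.Agent.AlgGrp79 CategoryTheory.Limits

/-- Let k be a field and M an algebraic monoid over k (a monoid k-scheme of finite type). Let i : G → M
be its group of units: a monomorphism of k-schemes through which a T-valued point of M factors if
and only if it is invertible in the monoid M(T). Then G is of finite type over k, i.e. the unit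
group is an algebraic group. -/
theorem result (k : Type u) [Field k]
    (M G : Over (Spec (CommRingCat.of k))) [MonObj M] [LocallyOfFiniteType M.hom] [QuasiCompact M.hom]
    (i : G ⟶ M) [Mono i]
    (hi : ∀ (T : Over (Spec (CommRingCat.of k))) (m : T ⟶ M), (∃ g : T ⟶ G, g ≫ i = m) ↔ IsUnit m) :
    LocallyOfFiniteType G.hom ∧ QuasiCompact G.hom := by
  have : LocallyOfFiniteType (M ⊗ M).hom := inferInstanceAs (LocallyOfFiniteType (pullback.fst M.hom M.hom ≫ M.hom))
  have : QuasiCompact (M ⊗ M).hom := inferInstanceAs (QuasiCompact (pullback.fst M.hom M.hom ≫ M.hom))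
  have : IsLocallyNoetherian (M ⊗ M).left := LocallyOfFiniteType.isLocallyNoetherian (M ⊗ M).hom
  have : CompactSpace (M ⊗ M).left := QuasiCompact.compactSpace_of_compactSpace (M ⊗ M).hom
  have : IsNoetherian (M ⊗ M).left := ⟨⟩
  have : IsImmersion ((lift (η[M]) (η[M])).left ≫ (M ⊗ M).hom) := by
    rw [Over.w]; exact inferInstanceAs (IsImmersion (𝟙 _))
  have : IsImmersion (lift (η[M]) (η[M])).left := IsImmersion.of_comp _ (M ⊗ M).hom
  have hj : IsImmersion (pullback.fst (unitsPair M) (lift (η[M]) (η[M]))).left :=
    MorphismProperty.of_isPullback (P := @IsImmersion) (isPullback_left (IsPullback.of_hasPullback _ _)).flip this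
  obtain ⟨e, he⟩ := (units_iff i).2 ((hi G i).1 ⟨𝟙 G, Category.id_comp i⟩)
  obtain ⟨e', he'⟩ := (hi _ (unitsι M)).2 ((units_iff _).1 ⟨𝟙 _, Category.id_comp _⟩)
  have : IsIso e := ⟨⟨e', by rw [← cancel_mono i, Category.assoc, he', he, Category.id_comp],
    by rw [← cancel_mono (unitsι M), Category.assoc, he, he', Category.id_comp]⟩⟩
  have hns : TopologicalSpace.NoetherianSpace (pullback (unitsPair M) (lift (η[M]) (η[M]))).left :=
    (pullback.fst (unitsPair M) (lift (η[M]) (η[M]))).left.isEmbedding.isInducing.noetherianSpace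
  have : QuasiCompact (pullback.fst (unitsPair M) (lift (η[M]) (η[M]))).left := inferInstance
  have : IsIso e.left := inferInstanceAs (IsIso ((Over.forget _).map e))
  rw [← Over.w (e ≫ pullback.fst (unitsPair M) (lift (η[M]) (η[M]))), Over.comp_left]
  exact ⟨inferInstance, inferInstance⟩
end Groth.Agent.S18830
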