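import Groth.Statements.S18831
import Groth.Agent.VB30.Apply


set_option autoImplicit false
universe u
open CategoryTheory CategoryTheory.Limits AlgebraicGeometry
open VBCurve

namespace Groth.Agent.S18831
set_option backward.isDefEq.respectTransparency.types false

/-- Let X be a smooth projective integral curve over an algebraically closed field k of characteristic
zero, and G a finite locally free O_X-module of rank r ≥ 1 which is slope-semistable, of slope μ =
deg G / r (deg G = χ(G) − r χ(O_X)). Then dim_k H^0(X, G) ≤ r · max(⌊μ⌋ + 1, 0); in particular a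
slope-semistable bundle of negative slope has no nonzero global section. -/
theorem result (k : Type u) [Field k] [IsAlgClosed k] [CharZero k]
    (X : Scheme.{u}) [X.Over (Spec (CommRingCat.of k))]
    [IsIntegral X] [IsProper (X ↘ Spec (CommRingCat.of k))] [Smooth (X ↘ Spec (CommRingCat.of k))]
    (hdim : topologicalKrullDim X = 1)
    (r : ℕ) (hr : 0 < r) (G : X.Modules) (hG : FlatMod.IsFinLocFreeOfRank r G)
    (hss : ModFun.IsSlopeSemistable k X G r) :
    (Module.finrank k (Coh.HH X G 0) : ℤ) ≤
      (r : ℤ) * max (⌊(Curv2.deg k X G r : ℚ) / (r : ℚ)⌋ + 1) 0 := by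
  have hS : CrvPic30.Setup k X := CrvPic30.setup_of_smooth_algClosed hdim
  have hc := VB30.cur_of_setup hS
  have lG := VB30.isFinLocFree_of_rank hG
  have eG := VB30.rk_eq_of_isFinLocFreeOfRank hG
  rw [VB30.deg_eq_dg hG]
  have hrq : (0 : ℚ) < r := by exact_mod_cast hr
  have hlt := Int.lt_floor_add_one ((VB30.dg k G : ℚ) / r)
  rw [div_lt_iff₀ hrq] at hlt
  have hlt' : VB30.dg k G < (⌊(VB30.dg k G : ℚ) / r⌋ + 1) * r := by exact_mod_cast hlt
  obtain ⟨m, hm⟩ := Int.eq_ofNat_of_zero_le (le_max_right (⌊(VB30.dg k G : ℚ) / r⌋ + 1) 0)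
  have hd : VB30.dg k G < (VB30.rk G : ℤ) * m := by
    rw [eG, ← hm]
    exact hlt'.trans_le ((mul_le_mul_of_nonneg_right (le_max_left _ _) (Int.natCast_nonneg r)).trans (mul_comm _ _).le)
  have := VB30.finrank_h0_le_of_ss hS lG (VB30.ss_of_slope hG hss) m hd
  rw [eG] at this
  rw [hm]
  exact_mod_cast this

end Groth.Agent.S18831
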