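import Groth.Agent.Hopf35.ReyUnique
import Groth.Statements.S18834

set_option autoImplicit false
universe u
open TensorProduct
open GIT

namespace Groth.Agent.S18834

theorem result (k : Type u) [Field k] [IsAlgClosed k] [CharZero k]
    (A : Type u) [CommRing A] [HopfAlgebra k A] (hG : HopfRep.IsLinearlyReductive k A)
    (R : Type u) [CommRing R] [Algebra k R] [Algebra.FiniteType k R]
    [HopfRep.Comod k A R] [GLin.IsCoactAlg k A R]
    (I : Ideal (GLin.invariants k A R)) :
    Ideal.comap (GLin.invariants k A R).val.toRingHom
        (Ideal.map (GLin.invariants k A R).val.toRingHom I) = I := by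
  exact le_antisymm (fun a ha => Groth.Agent.LinRed34.mem_of_coe_mem_map hG I ha) Ideal.le_comap_map

end Groth.Agent.S18834
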