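import Groth.Statements.S18840
import Groth.Agent.VB30.Bound
import Groth.Agent.QC70.CohOps


set_option autoImplicit false
universe u
open CategoryTheory CategoryTheory.Limits AlgebraicGeometry Polynomial
open VBCurve

namespace Groth.Agent.S18840
set_option backward.isDefEq.respectTransparency.types false

/-- Let k be an algebraically closed field of characteristic zero, X a smooth projective integral curve
over k with an ample invertible sheaf L, N ≥ 0 and P a rational polynomial. There is an integer l,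
depending only on X, L, N and P, such that for every vector bundle F of rank r ≥ 1 on X which is a
quotient of O_X^N with Hilbert polynomial P (with respect to L), F is slope-semistable if and only
if dim H^0(X, F'(l)) / r' ≤ dim H^0(X, F(l)) / r for every sub-bundle (finite locally free
submodule) F' ⊂ F of rank r' ≥ 1; here G(l) = G ⊗ L^(⊗l). The source polarises X by a very ample
O_X(1); only the positivity of its degree enters, so an ample L is taken. -/
theorem result (k : Type u) [Field k] [IsAlgClosed k] [CharZero k]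
    (X : Scheme.{u}) [X.Over (Spec (CommRingCat.of k))]
    [IsIntegral X] [IsProper (X ↘ Spec (CommRingCat.of k))] [Smooth (X ↘ Spec (CommRingCat.of k))]
    (hdim : topologicalKrullDim X = 1)
    (L : X.Modules) (hLi : PicF.IsInvertible L) (hL : CohB1.IsAmple L)
    (N : ℕ) (P : ℚ[X]) :
    ∃ l : ℕ, ∀ (r : ℕ) (F : X.Modules) (q : FlatMod.freeMod X N ⟶ F),
      0 < r → FlatMod.IsFinLocFreeOfRank r F → Epi q → ShStab.IsHilbPoly k X L F P →
        (ModFun.IsSlopeSemistable k X F r ↔
          ∀ (F' : X.Modules) (r' : ℕ) (i : F' ⟶ F), Mono i → 0 < r' → FlatMod.IsFinLocFreeOfRank r' F' →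
            (Module.finrank k (Coh.HH X (ShStab.twist X L F' l) 0) : ℚ) / (r' : ℚ) ≤
              (Module.finrank k (Coh.HH X (ShStab.twist X L F l) 0) : ℚ) / (r : ℚ)) := by
  have hS : CrvPic30.Setup k X := CrvPic30.setup_of_smooth_algClosed hdim
  have hc := VB30.cur_of_setup hS
  have hd : 1 ≤ VB30.dg k L := by
    have := VarCurve.deg_pos_of_isAmple k hdim hL
    rw [VB30.deg_eq_dg_of_isInvertible hLi] at this
    omega
  -- rank and degree are determined by the polynomial
  have hpoly : ∀ (F : X.Modules), FlatMod.IsFinLocFree F → ShStab.IsHilbPoly k X L F P → ∀ m : ℕ,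
      ((VB30.dg k F + VB30.rk F * ((m : ℤ) * VB30.dg k L) +
        VB30.rk F * Curv2.euler k X (Coh.structureModule X) : ℤ) : ℚ) = P.eval (m : ℚ) := by
    intro F lF hP m
    obtain ⟨l', r', d'⟩ := hc.tensor_invertible lF (EGA73.isInvertible_tensorPow hLi m)
    rw [← hP m]
    congr 1
    have e := hc.h0_sub_h1 (VB30.isCoh_of_isFinLocFree l')
    rw [d', r', hc.dg_tensorPow hLi] at e
    rw [← e]
    change _ = Curv2.euler k X (CohB1.tensorMod F (CohB1.tensorPow L m))
    rw [hc.curveCoh.euler_eq (VB30.isCoh_of_isFinLocFree l')]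
  obtain ⟨D, hD⟩ : ∃ D : ℕ, ∀ F : X.Modules, FlatMod.IsFinLocFree F → ShStab.IsHilbPoly k X L F P →
      -(D : ℤ) ≤ VB30.dg k F := by
    by_cases hex : ∃ F : X.Modules, FlatMod.IsFinLocFree F ∧ ShStab.IsHilbPoly k X L F P
    · obtain ⟨F₀, l₀, h₀⟩ := hex
      refine ⟨(VB30.dg k F₀).natAbs, fun F lF hP => ?_⟩
      have a := (hpoly F lF hP 0).trans (hpoly F₀ l₀ h₀ 0).symm
      have b := (hpoly F lF hP 1).trans (hpoly F₀ l₀ h₀ 1).symm
      rw [Int.cast_inj] at a b
      simp only [Nat.cast_zero, Nat.cast_one, zero_mul, mul_zero, add_zero, one_mul] at a b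
      have hr : (VB30.rk F : ℤ) = VB30.rk F₀ := by
        have h' : ((VB30.rk F : ℤ) - VB30.rk F₀) * VB30.dg k L = 0 := by linarith
        rcases mul_eq_zero.1 h' with h'' | h'' <;> omega
      rw [hr] at a
      omega
    · exact ⟨0, fun F lF hP => absurd ⟨F, lF, hP⟩ hex⟩
  refine ⟨3 * Curv2.genus k X + 1 + D, fun r F q hr hF _ hP => ?_⟩
  have lF := VB30.isFinLocFree_of_rank hF
  obtain rfl : VB30.rk F = r := VB30.rk_eq_of_isFinLocFreeOfRank hF
  have hM := EGA73.isInvertible_tensorPow hLi (3 * Curv2.genus k X + 1 + D)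
  have hdM := hc.dg_tensorPow hLi (3 * Curv2.genus k X + 1 + D)
  have hM1 : 3 * (Curv2.genus k X : ℤ) + 1 + D ≤ VB30.dg k (CohB1.tensorPow L (3 * Curv2.genus k X + 1 + D)) := by
    rw [hdM]; push_cast; nlinarith
  have hDF := hD F lF hP
  have hr1 : (1 : ℤ) ≤ VB30.rk F := by exact_mod_cast hr
  have key := VB30.ss_iff_h0 hS lF hr hM q (by nlinarith) (by omega)
  refine ⟨fun hs F' r' i hi h0 hF' => ?_, fun hcond => VB30.slope_of_ss hF (key.2 fun F' i hi h0 hF' => ?_)⟩
  · obtain rfl : VB30.rk F' = r' := VB30.rk_eq_of_isFinLocFreeOfRank hF'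
    have := key.1 (VB30.ss_of_slope hF hs) F' i hi h0 (VB30.isFinLocFree_of_rank hF')
    rw [div_le_div_iff₀ (by exact_mod_cast h0) (by exact_mod_cast hr)]
    exact_mod_cast this
  · have := hcond F' _ i hi h0 (VB30.isFinLocFreeOfRank_rk hF')
    rw [div_le_div_iff₀ (by exact_mod_cast h0) (by exact_mod_cast hr)] at this
    exact_mod_cast this

end Groth.Agent.S18840
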