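import Groth.Statements.S18842
import Groth.Agent.TF64.Euler
import Mathlib.AlgebraicGeometry.Morphisms.Proper

set_option autoImplicit false
universe u
open CategoryTheory AlgebraicGeometry
open TFOne

namespace Groth.Agent.S18842

/-- Let X be a proper reduced scheme of pure dimension one over a field k and M a torsion-free rank-1
sheaf on X. For closed subcurves Y and Z of X (non-empty unions of irreducible components) let W be
the union of the irreducible components of X contained in Y ∩ Z (W may be empty). Writing M_T for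
the torsion-free quotient of M on a closed subset T (pinned by its defining property; M_W = 0 when W
is empty), one has χ(M_{Y ∪ Z}) + χ(M_W) ≤ χ(M_Y) + χ(M_Z). (The source states this for curves that
are moreover geometrically reduced with geometrically integral components and notes the equivalent
form with β in place of χ; neither is needed for the inequality as stated.) -/
theorem result (k : Type u) [Field k] (X : Scheme.{u}) [X.Over (Spec (CommRingCat.of k))] [IsProper (X ↘ Spec (CommRingCat.of k))] [IsReduced X] (hpure : ∀ C ∈ irreducibleComponents (X : Type u), topologicalKrullDim C = 1) (M : X.Modules) (hM : TFOne.IsTF1 X M) (Y Z W : Set X) (hY : IsClosed Y) (hZ : IsClosed Z) (hYs : VecSt.IsSubcurve X Y) (hZs : VecSt.IsSubcurve X Z) (hW : W = ⋃₀ {C | C ∈ irreducibleComponents (X : Type u) ∧ C ⊆ Y ∩ Z}) (GY GZ GU GW : X.Modules) (πY : M ⟶ GY) (πZ : M ⟶ GZ) (πU : M ⟶ GU) (πW : M ⟶ GW) (hGY : TFOne.IsQuotOn X M Y GY πY) (hGZ : TFOne.IsQuotOn X M Z GZ πZ) (hGU : TFOne.IsQuotOn X M (Y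 ∪ Z) GU πU) (hGW : TFOne.IsQuotOn X M W GW πW) : Curv2.euler k X GU + Curv2.euler k X GW ≤ Curv2.euler k X GY + Curv2.euler k X GZ := by
  haveI : IsLocallyNoetherian X :=
    LocallyOfFiniteType.isLocallyNoetherian (X ↘ (Spec (CommRingCat.of k)))
  have hdim := Crv77.dim_le_one_of_components hpure
  obtain ⟨-, -, hMr⟩ := hM
  have hWY : W ⊆ Y := hW ▸ Set.sUnion_subset fun C hC => hC.2.trans Set.inter_subset_left
  have hWZ : W ⊆ Z := hW ▸ Set.sUnion_subset fun C hC => hC.2.trans Set.inter_subset_right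
  obtain ⟨gY, hgY⟩ := TF64.exists_restrict hGU hMr hGY Set.subset_union_left
  obtain ⟨gZ, hgZ⟩ := TF64.exists_restrict hGU hMr hGZ Set.subset_union_right
  obtain ⟨qY, hqY⟩ := TF64.exists_restrict hGY hMr hGW hWY
  obtain ⟨qZ, hqZ⟩ := TF64.exists_restrict hGZ hMr hGW hWZ
  haveI := hGU.1
  haveI := hGY.1
  haveI := hGZ.1
  haveI := hGW.1
  haveI : Epi (πU ≫ gY) := hgY ▸ hGY.1
  haveI : Epi gY := epi_of_epi πU gY
  haveI : Epi (πZ ≫ qZ) := hqZ ▸ hGW.1
  haveI : Epi qZ := epi_of_epi πZ qZ
  have hcomm : gY ≫ qY = gZ ≫ qZ := by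
    rw [← cancel_epi πU, ← Category.assoc, ← Category.assoc, hgY, hgZ, hqY, hqZ]
  let f : Limits.kernel gY ⟶ Limits.kernel qZ := Limits.kernel.lift qZ (Limits.kernel.ι gY ≫ gZ)
    (by rw [Category.assoc, ← hcomm, Limits.kernel.condition_assoc, Limits.zero_comp])
  have hf : f ≫ Limits.kernel.ι qZ = Limits.kernel.ι gY ≫ gZ := Limits.kernel.lift_ι _ _ _
  haveI : Mono f := Preadditive.mono_of_cancel_zero f fun {P} g hg => by
    rw [← cancel_mono (Limits.kernel.ι gY), Limits.zero_comp]
    refine TF64.eq_zero_of_zeroAt hGU.2.1.1 hGU.2.2.1 _ fun η hη e => ?_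
    by_cases hY' : η ∈ Y
    · refine TF64.quot_comp_injective hGU hMr hGY hgY hη hY' ?_
      rw [TF64.map0, ← TF64.stalkMapM_comp, Category.assoc, Limits.kernel.condition, Limits.comp_zero,
        TF64.stalkMapM_zero]
    by_cases hZ' : η ∈ Z
    · refine TF64.quot_comp_injective hGU hMr hGZ hgZ hη hZ' ?_
      rw [TF64.map0, ← TF64.stalkMapM_comp, Category.assoc, ← hf, ← Category.assoc, hg, Limits.zero_comp,
        TF64.stalkMapM_zero]
    · have := TF64.quot_subsingleton hGU (x := η) (fun h => h.elim hY' hZ')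
      exact Subsingleton.elim _ _
  have hKY := QC70.isCoh_kernel gY hGU.2.1 hGY.2.1.1
  have hKZ := QC70.isCoh_kernel qZ hGZ.2.1 hGW.2.1.1
  have hle := TF64.euler_le_of_mono (k := k) hdim f hKY hKZ fun η hη y => by
    by_cases h : η ∈ Z ∧ η ∉ Y
    · obtain ⟨m, hm⟩ := TF64.quot_surjective hGZ η (QC70.stalkMapM (Limits.kernel.ι qZ) η y)
      have := TF64.quot_subsingleton hGY h.2
      obtain ⟨d, hd⟩ := QC70.stalkMapM_exact (ShortComplex.mk _ gY (Limits.kernel.condition gY))
        (ShortComplex.exact_of_f_is_kernel _ (Limits.kernelIsKernel gY)) η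
        (QC70.stalkMapM πU η m) (Subsingleton.elim _ _)
      refine ⟨d, QC70.injective_stalkMapM_of_mono (Limits.kernel.ι qZ) η ?_⟩
      rw [← TF64.stalkMapM_comp, hf, TF64.stalkMapM_comp]
      refine (congrArg (QC70.stalkMapM gZ η) hd).trans ?_
      rw [← TF64.stalkMapM_comp, hgZ, hm]
    · refine ⟨0, QC70.injective_stalkMapM_of_mono (Limits.kernel.ι qZ) η ?_⟩
      rw [TF64.map0, TF64.map0]
      symm
      by_cases hZ' : η ∈ Z
      · have hY' : η ∈ Y := by_contra fun h' => h ⟨hZ', h'⟩
        have hWη : η ∈ W := hW ▸ Set.mem_sUnion.2 ⟨closure {η}, ⟨hη,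
          Set.subset_inter (TF64.closure_subset_of_mem hY hY') (TF64.closure_subset_of_mem hZ hZ')⟩,
          subset_closure rfl⟩
        refine TF64.quot_comp_injective hGZ hMr hGW hqZ hη hWη ?_
        rw [TF64.map0, ← TF64.stalkMapM_comp, Limits.kernel.condition, TF64.stalkMapM_zero]
      · have := TF64.quot_subsingleton hGZ hZ'
        exact Subsingleton.elim _ _
  have e1 := TF64.euler_eq_kernel_add (k := k) hdim gY hGU.2.1 hGY.2.1.1
  have e2 := TF64.euler_eq_kernel_add (k := k) hdim qZ hGZ.2.1 hGW.2.1.1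
  linarith

end Groth.Agent.S18842
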