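import Groth.Statements.S18843
import Groth.Agent.TF64.Basic
import Mathlib.AlgebraicGeometry.Morphisms.Proper

set_option autoImplicit false
universe u
open CategoryTheory AlgebraicGeometry
open TFOne

namespace Groth.Agent.S18843

/-- Let X be a proper, geometrically reduced scheme of pure dimension one over a field k whose
irreducible components (with their reduced structure) are geometrically integral over k, and let M
be a torsion-free rank-1 sheaf on X. Let Y and Z be closed subcurves (non-empty unions of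
irreducible components) with Y ∪ Z = X which have an irreducible component in common. If the
torsion-free quotients M_Y and M_Z of M on Y and on Z (pinned by their defining property) are both
simple over k, then M is simple over k. -/
theorem result (k : Type u) [Field k] (X : Scheme.{u}) [X.Over (Spec (CommRingCat.of k))] [IsProper (X ↘ Spec (CommRingCat.of k))] [IsReduced X] [GeometricallyReduced (X ↘ Spec (CommRingCat.of k))] (hpure : ∀ C ∈ irreducibleComponents (X : Type u), topologicalKrullDim C = 1) (hgi : ∀ (C : Set X) (hC : C ∈ irreducibleComponents (X : Type u)), GeometricallyIntegral (VecSt.subschι X C (isClosed_of_mem_irreducibleComponents C hC) ≫ (X ↘ Spec (CommRingCat.of k)))) (M : X.Modules) (hM : TFOne.IsTF1 X M) (Y Z : Set X) (hY : IsClosed Y) (hZ : IsClosed Z) (hYs : VecSt.IsSubcurve X Y) (hZs : VecSt.IsSubcurve X Z) (hcov : Y ∪ Z = Set.univ) (hmeet : ∃ C ∈ irreducibleComponents (X : Type u), C ⊆ Y ∩ Z) (GY GZ : X.Modules) (πY : M ⟶ GY) (πZ : M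 ⟶ GZ) (hGY : TFOne.IsQuotOn X M Y GY πY) (hGZ : TFOne.IsQuotOn X M Z GZ πZ) (hsY : TFOne.IsSimple X k (X ↘ Spec (CommRingCat.of k)) GY) (hsZ : TFOne.IsSimple X k (X ↘ Spec (CommRingCat.of k)) GZ) : TFOne.IsSimple X k (X ↘ Spec (CommRingCat.of k)) M := by
  haveI : IsLocallyNoetherian X :=
    LocallyOfFiniteType.isLocallyNoetherian (X ↘ (Spec (CommRingCat.of k)))
  obtain ⟨hMc, htM, hMr⟩ := hM
  refine ⟨fun h => ?_, fun φ => ?_⟩
  · obtain ⟨η, hη, -⟩ := TF64.exists_generic_mem_subcurve hYs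
    have := TF64.nontrivial_stalk hMr hη
    obtain ⟨y, hy⟩ := exists_ne (0 : M.presheaf.stalk η)
    exact hy ((TF64.stalkMapM_id M η y).symm.trans ((congrArg (fun f : M ⟶ M => QC70.stalkMapM f η y)
      (h.eq_of_src (𝟙 M) 0)).trans (TF64.stalkMapM_zero η y)))
  obtain ⟨gY, hgY⟩ := TF64.exists_desc_end hGY hMr φ
  obtain ⟨gZ, hgZ⟩ := TF64.exists_desc_end hGZ hMr φ
  obtain ⟨cY, hcY⟩ := hsY.2 gY
  obtain ⟨cZ, hcZ⟩ := hsZ.2 gZ
  have key : ∀ {T : Set X} {G : X.Modules} {π : M ⟶ G}, TFOne.IsQuotOn X M T G π → ∀ c : k,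
      φ ≫ π = π ≫ Formal.smulMod k G c → ∀ η ∈ genericPoints X, η ∈ T →
        TF64.ZeroAt (φ - Formal.smulMod k M c) η := fun {T G π} hT c hc η hη hT' e => by
    refine (TF64.quot_bijective hT hMr hη hT').1 ?_
    rw [← TF64.stalkMapM_comp, Preadditive.sub_comp, hc, Formal27.smulMod_comp, sub_self,
      TF64.stalkMapM_zero, TF64.map0]
  have hY' := key hGY cY (hgY.symm.trans (congrArg (πY ≫ ·) hcY))
  have hZ' := key hGZ cZ (hgZ.symm.trans (congrArg (πZ ≫ ·) hcZ))
  obtain ⟨C, hC, hCs⟩ := hmeet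
  obtain ⟨η, hη, hηC⟩ := TF64.exists_generic_of_component hC
  have hηYZ : η ∈ Y ∩ Z := hCs (hηC ▸ subset_closure rfl)
  have := TF64.nontrivial_stalk hMr hη
  have hc : cY = cZ := sub_eq_zero.1 (TF64.eq_zero_of_zeroAt_smulMod k (cY - cZ)
    (x := η) (M := M) fun e => by
      have h1 := hY' η hη hηYZ.1 e
      have h2 := hZ' η hη hηYZ.2 e
      rw [TF64.stalkMapM_sub, sub_eq_zero] at h1 h2
      rw [TF64.smulMod_sub, TF64.stalkMapM_sub, sub_eq_zero, ← h1, ← h2])
  refine ⟨cY, sub_eq_zero.1 (TF64.eq_zero_of_zeroAt hMc.1 htM _ fun ζ hζ => ?_)⟩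
  by_cases h : ζ ∈ Y
  · exact hY' ζ hζ h
  · exact hc ▸ hZ' ζ hζ ((hcov.ge (Set.mem_univ ζ)).resolve_left h)

end Groth.Agent.S18843
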