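import Groth.Statements.S18844
import Groth.Agent.TF64.Decompose
import Mathlib.AlgebraicGeometry.Morphisms.Proper

set_option autoImplicit false
universe u
open CategoryTheory CategoryTheory.Limits AlgebraicGeometry
open TFOne

namespace Groth.Agent.S18844

/-- Let X be a proper, geometrically reduced scheme of pure dimension one over a field k whose
irreducible components (with their reduced structure) are geometrically integral over k, assume X is
non-empty, and take a torsion-free sheaf I of rank one on X. Then I is simple over k (every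
endomorphism of I is multiplication by a scalar) exactly when I is not decomposable, that is, when
there do not exist closed proper subcurves Y and Z of X (non-empty unions of irreducible components,
each different from X) together with the torsion-free quotients I_Y, I_Z of I on them (pinned by
their defining property) such that the canonical map I ⟶ I_Y ⊞ I_Z is an isomorphism. -/
theorem result (k : Type u) [Field k] (X : Scheme.{u}) [X.Over (Spec (CommRingCat.of k))] [IsProper (X ↘ Spec (CommRingCat.of k))] [IsReduced X] [GeometricallyReduced (X ↘ Spec (CommRingCat.of k))] (hpure : ∀ C ∈ irreducibleComponents (X : Type u), topologicalKrullDim C = 1) (hgi : ∀ (C : Set X) (hC : C ∈ irreducibleComponents (X : Type u)), GeometricallyIntegral (VecSt.subschι X C (isClosed_of_mem_irreducibleComponents C hC) ≫ (X ↘ Spec (CommRingCat.of k)))) [Nonempty X] (I : X.Modules) (hI : TFOne.IsTF1 X I) : TFOne.IsSimple X k (X ↘ Spec (CommRingCat.of k)) I ↔ ¬ ∃ (Y Z : Set X) (hY : IsClosed Y) (hZ : IsClosed Z) (GY GZ : X.Modules) (πY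 : I ⟶ GY) (πZ : I ⟶ GZ), VecSt.IsSubcurve X Y ∧ VecSt.IsSubcurve X Z ∧ Y ≠ Set.univ ∧ Z ≠ Set.univ ∧ TFOne.IsQuotOn X I Y GY πY ∧ TFOne.IsQuotOn X I Z GZ πZ ∧ IsIso (biprod.lift πY πZ) := by
  haveI : AlgebraicGeometry.IsNoetherian X := Crv77.isNoetherian_of_proper k X
  obtain ⟨hIc, htI, hIr⟩ := hI
  have hne0 : ¬ Limits.IsZero I := fun h => by
    obtain ⟨η, hη, -⟩ := TF64.exists_generic (Classical.arbitrary X)
    have := TF64.nontrivial_stalk hIr hη
    obtain ⟨y, hy⟩ := exists_ne (0 : I.presheaf.stalk η)
    exact hy ((TF64.stalkMapM_id I η y).symm.trans ((congrArg (fun f : I ⟶ I => QC70.stalkMapM f η y)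
      (h.eq_of_src (𝟙 I) 0)).trans (TF64.stalkMapM_zero η y)))
  constructor
  · rintro hs ⟨Y, Z, hY, hZ, GY, GZ, πY, πZ, hYs, hZs, hYne, hZne, hQY, hQZ, hiso⟩
    let π := Limits.biprod.lift πY πZ
    have hout : ∀ {A : Set X}, IsClosed A → A ≠ Set.univ → ∃ η ∈ genericPoints X, η ∉ A := by
      intro A hA hA'
      by_contra h
      push Not at h
      refine hA' (Set.eq_univ_of_forall fun x => ?_)
      obtain ⟨η, hη, hs⟩ := TF64.exists_generic x
      exact TF64.closure_subset_of_mem hA (h η hη) (specializes_iff_mem_closure.1 hs)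
    obtain ⟨ζ, hζ, hζZ⟩ := hout hZ hZne
    obtain ⟨η, hη, hηY⟩ := hout hY hYne
    have hinj : ∀ x, Function.Injective (QC70.stalkMapM π x) := fun x =>
      QC70.injective_stalkMapM_of_mono π x
    have hcase : ∀ x ∈ genericPoints X, x ∈ Y ∨ x ∈ Z := fun x hx => by
      by_contra h
      push Not at h
      have := TF64.nontrivial_stalk hIr hx
      obtain ⟨y, hy⟩ := exists_ne (0 : I.presheaf.stalk x)
      refine hy (hinj x ?_)
      rw [TF64.map0, show π = πY ≫ Limits.biprod.inl + πZ ≫ Limits.biprod.inr from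
          Limits.biprod.hom_ext _ _ (by simp [π]) (by simp [π]), TF64.stalkMapM_add,
        TF64.stalkMapM_comp, TF64.stalkMapM_comp, TF64.quot_zeroAt hQY h.1, TF64.quot_zeroAt hQZ h.2,
        TF64.map0, TF64.map0, add_zero]
    let e : I ⟶ I := πY ≫ Limits.biprod.inl ≫ inv π
    obtain ⟨c, hc⟩ := hs.2 e
    have heY : e ≫ πY = πY := by
      have h : inv π ≫ πY = Limits.biprod.fst := by rw [IsIso.inv_comp_eq]; simp [π]
      simp [e, Category.assoc, h]
    have heZ : e ≫ πZ = 0 := by
      have h : inv π ≫ πZ = Limits.biprod.snd := by rw [IsIso.inv_comp_eq]; simp [π]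
      simp [e, Category.assoc, h]
    have h1 : c = 1 := by
      have hζY : ζ ∈ Y := (hcase ζ hζ).resolve_right hζZ
      have := TF64.nontrivial_stalk hIr hζ
      refine sub_eq_zero.1 (TF64.eq_zero_of_zeroAt_smulMod k (c - 1) (x := ζ) (M := I) fun y => ?_)
      refine (TF64.quot_bijective hQY hIr hζ hζY).1 ?_
      rw [TF64.map0, ← TF64.stalkMapM_comp, TF64.smulMod_sub, Formal27.smulMod_one, Preadditive.sub_comp,
        Category.id_comp, show Formal.smulMod k I c ≫ πY = πY from (congrArg (· ≫ πY) hc).symm.trans heY,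
        sub_self, TF64.stalkMapM_zero]
    have h2 : πZ = 0 := by
      rw [← heZ, hc, h1]
      exact ((congrArg (· ≫ πZ) (Formal27.smulMod_one I)).trans (Category.id_comp πZ)).symm
    have hηZ : η ∈ Z := (hcase η hη).resolve_left hηY
    have := TF64.nontrivial_stalk hIr hη
    obtain ⟨y, hy⟩ := exists_ne (0 : I.presheaf.stalk η)
    refine hy ((TF64.quot_bijective hQZ hIr hη hηZ).1 ?_)
    rw [TF64.map0, h2, TF64.stalkMapM_zero]
  · intro hnd
    refine ⟨hne0, fun φ => by_contra fun hns => hnd ?_⟩
    push Not at hns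
    have hgen : ∀ η : X, ∃ c : k, η ∈ genericPoints X → TF64.ZeroAt (φ - Formal.smulMod k I c) η := fun η => by
      by_cases hη : η ∈ genericPoints X
      · obtain ⟨c, hc⟩ := TF64.exists_scalar (k := k) hIc hIr φ hη (hgi _ hη)
        exact ⟨c, fun _ => hc⟩
      · exact ⟨0, fun h => absurd h hη⟩
    choose c hc using hgen
    obtain ⟨Y, Z, hY, hZ, GY, GZ, πY, πZ, h⟩ :=
      TF64.exists_decomposition hIc htI hIr φ c hc hns
    exact ⟨Y, Z, hY, hZ, GY, GZ, πY, πZ, h⟩

end Groth.Agent.S18844
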