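import Groth.Statements.S18845
import Groth.Agent.TF64.Push
import Mathlib.AlgebraicGeometry.Morphisms.Proper

set_option autoImplicit false
universe u
open CategoryTheory CategoryTheory.Limits AlgebraicGeometry
open TFOne

namespace Groth.Agent.S18845

/-- Let X be a proper, geometrically reduced scheme of pure dimension one over a field k whose
irreducible components (with their reduced structure) are geometrically integral over k, let Y and Z
be closed subcurves (non-empty unions of irreducible components) with Y ∪ Z = X, and let M be a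
torsion-free sheaf of rank one on X. Suppose M sits in a short exact sequence 0 ⟶ i_{Y*} I ⟶ M ⟶
i_{Z*} J ⟶ 0 of modules on X, where I is a simple torsion-free sheaf of rank one on the reduced
closed subscheme Y, J is a simple torsion-free sheaf of rank one on the reduced closed subscheme Z,
and i_{Y*}, i_{Z*} are the direct images. Then M is simple over k exactly when the sequence does not
split (the epimorphism M ⟶ i_{Z*} J has no section). -/
theorem result (k : Type u) [Field k] (X : Scheme.{u}) [X.Over (Spec (CommRingCat.of k))] [IsProper (X ↘ Spec (CommRingCat.of k))] [IsReduced X] [GeometricallyReduced (X ↘ Spec (CommRingCat.of k))] (hpure : ∀ C ∈ irreducibleComponents (X : Type u), topologicalKrullDim C = 1) (hgi : ∀ (C : Set X) (hC : C ∈ irreducibleComponents (X : Type u)), GeometricallyIntegral (VecSt.subschι X C (isClosed_of_mem_irreducibleComponents C hC) ≫ (X ↘ Spec (CommRingCat.of k)))) (Y Z : Set X) (hY : IsClosed Y) (hZ : IsClosed Z) (hYs : VecSt.IsSubcurve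 X Y) (hZs : VecSt.IsSubcurve X Z) (hcov : Y ∪ Z = Set.univ) (M : X.Modules) (hM : TFOne.IsTF1 X M) (I : (VecSt.subsch X Y hY).Modules) (hI : TFOne.IsTF1 (VecSt.subsch X Y hY) I) (hIs : TFOne.IsSimple (VecSt.subsch X Y hY) k (VecSt.subschι X Y hY ≫ (X ↘ Spec (CommRingCat.of k))) I) (J : (VecSt.subsch X Z hZ).Modules) (hJ : TFOne.IsTF1 (VecSt.subsch X Z hZ) J) (hJs : TFOne.IsSimple (VecSt.subsch X Z hZ) k (VecSt.subschι X Z hZ ≫ (X ↘ Spec (CommRingCat.of k))) J) (a : (Coh.push (VecSt.subschι X Y hY)).obj I ⟶ M) (b : M ⟶ (Coh.push (VecSt.subschι X Z hZ)).obj J) (w : a ≫ b = 0) (hex : (ShortComplex.mk a b w).ShortExact) : TFOne.IsSimple X k (X ↘ Spec (CommRingCat.of k)) M ↔ ¬ IsSplitEpi b := by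
  haveI : IsLocallyNoetherian X :=
    LocallyOfFiniteType.isLocallyNoetherian (X ↘ (Spec (CommRingCat.of k)))
  obtain ⟨hMc, htM, hMr⟩ := hM
  have hrY := TF64.range_subschι Y hY
  have hrZ := TF64.range_subschι Z hZ
  let iY := VecSt.subschι X Y hY
  let iZ := VecSt.subschι X Z hZ
  let PY := (Coh.push iY).obj I
  let PZ := (Coh.push iZ).obj J
  have ha : Mono a := hex.mono_f
  have hb : Epi b := hex.epi_g
  have hPY0 : ∀ x, x ∉ Y → Subsingleton (PY.presheaf.stalk x) := fun x hx =>
    TF64.subsingleton_push iY hI.1 (fun h => hx (hrY ▸ h))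
  have hPZ0 : ∀ x, x ∉ Z → Subsingleton (PZ.presheaf.stalk x) := fun x hx =>
    TF64.subsingleton_push iZ hJ.1 (fun h => hx (hrZ ▸ h))
  constructor
  · intro hs hsplit
    obtain ⟨⟨s, hsb⟩⟩ := hsplit.exists_splitEpi
    obtain ⟨c, hc⟩ := hs.2 (b ≫ s)
    have hPZ : ¬ IsZero PZ := TF64.not_isZero_push iZ hJs.1
    have h1 : Formal.smulMod k M c ≫ b = b :=
      (congrArg (· ≫ b) hc).symm.trans (by rw [Category.assoc, hsb, Category.comp_id])
    have h2 : b ≫ (Formal.smulMod k PZ c - 𝟙 PZ) = 0 := by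
      rw [Preadditive.comp_sub, Formal27.smulMod_comp, h1, Category.comp_id, sub_self]
    have h3 : Formal.smulMod k PZ c = 𝟙 PZ := sub_eq_zero.1 (zero_of_epi_comp b h2)
    have hc1 : c = 1 := by
      by_contra hne
      apply hPZ
      rw [IsZero.iff_id_eq_zero]
      have h4 : Formal.smulMod k PZ (c - 1) = 0 := by
        rw [TF64.smulMod_sub, h3, Formal27.smulMod_one, sub_self]
      rw [← Formal27.smulMod_one (A := k) PZ, ← inv_mul_cancel₀ (sub_ne_zero.2 hne),
        Formal27.smulMod_mul, h4, zero_comp]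
    have h5 : b ≫ s = 𝟙 M := hc.trans (by rw [hc1]; exact Formal27.smulMod_one M)
    have h6 : a = 0 := by
      rw [← Category.comp_id a, ← h5, ← Category.assoc, w, zero_comp]
    refine TF64.not_isZero_push iY hIs.1 ?_
    rw [IsZero.iff_id_eq_zero]
    exact (cancel_mono a).1 (by rw [h6, comp_zero, comp_zero])
  intro hns
  refine ⟨fun h => ?_, fun φ => ?_⟩
  · obtain ⟨η, hη, -⟩ := TF64.exists_generic_mem_subcurve hYs
    have := TF64.nontrivial_stalk hMr hη
    obtain ⟨y, hy⟩ := exists_ne (0 : M.presheaf.stalk η)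
    exact hy ((TF64.stalkMapM_id M η y).symm.trans ((congrArg (fun f : M ⟶ M => QC70.stalkMapM f η y)
      (h.eq_of_src (𝟙 M) 0)).trans (TF64.stalkMapM_zero η y)))
  -- the composite `i_* I → M → M → i_* J` vanishes at the generic points
  let S := ShortComplex.mk a b w
  have : AlgebraicGeometry.IsReduced (VecSt.subsch X Y hY) :=
    SchBasics.isReduced_vanishingIdeal_subscheme _
  have : AlgebraicGeometry.IsReduced (VecSt.subsch X Z hZ) :=
    SchBasics.isReduced_vanishingIdeal_subscheme _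
  have hsep : ∀ η ∈ genericPoints X, η ∈ Y → η ∈ Z → False := fun η hη hyY hyZ => by
    obtain ⟨y, hy, hyη⟩ := TF64.exists_generic_preimage (hY := hY) hη hyY
    obtain ⟨z, hz, hzη⟩ := TF64.exists_generic_preimage (hY := hZ) hη hyZ
    haveI := TF64.nontrivial_stalk hI.2.2 hy
    haveI := TF64.nontrivial_stalk hJ.2.2 hz
    have nY : Nontrivial (PY.presheaf.stalk η) := hyη ▸ QC70.nontrivial_stalk_pushforward iY I y
    have nZ : Nontrivial (PZ.presheaf.stalk η) := hzη ▸ QC70.nontrivial_stalk_pushforward iZ J z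
    rcases TF64.injective_or_zeroAt hMr b hη with h | h
    · obtain ⟨d, hd⟩ := exists_ne (0 : PY.presheaf.stalk η)
      refine hd (QC70.injective_stalkMapM_of_mono a η ?_)
      refine (h ?_).trans (TF64.map0 a η).symm
      rw [← TF64.stalkMapM_comp, w, TF64.stalkMapM_zero, TF64.map0]
    · obtain ⟨d, hd⟩ := exists_ne (0 : PZ.presheaf.stalk η)
      obtain ⟨e, rfl⟩ := QC70.surjective_stalkMapM_of_epi b η d
      exact hd (h e)
  haveI : IsLocallyNoetherian (VecSt.subsch X Z hZ) := LocallyOfFiniteType.isLocallyNoetherian iZ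
  have hzero : a ≫ φ ≫ b = 0 :=
    TF64.eq_zero_of_zeroAt_push iZ hJ.1.1 hJ.2.1 _ fun ζ hζ e => by
      obtain ⟨hg, hgZ⟩ := TF64.generic_image hZs hζ
      have := hPY0 _ (fun h => hsep _ hg h hgZ)
      rw [show e = 0 from Subsingleton.elim _ _, TF64.map0]
  have hab : a ≫ φ = hex.exact.lift (a ≫ φ) (by simpa [S] using hzero) ≫ a :=
    (hex.exact.lift_f _ _).symm
  obtain ⟨gI, hgI⟩ := TF64.exists_map_eq iY hI.1 (hex.exact.lift (a ≫ φ) (by simpa [S] using hzero))
  obtain ⟨cY, hcY⟩ := hIs.2 gI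
  have hwb : a ≫ φ ≫ b = 0 := hzero
  obtain ⟨gJ, hgJ⟩ := TF64.exists_map_eq iZ hJ.1 (hex.exact.desc (φ ≫ b) hwb)
  obtain ⟨cZ, hcZ⟩ := hJs.2 gJ
  have hA : a ≫ φ = Formal.smulMod k PY cY ≫ a := by
    rw [hab]
    congr 1
    refine hgI.symm.trans ?_
    letI : (VecSt.subsch X Y hY).Over (Spec (CommRingCat.of k)) :=
      ⟨VecSt.subschι X Y hY ≫ (X ↘ Spec (CommRingCat.of k))⟩
    rw [hcY]
    exact Formal27.pushforward_map_smulMod iY rfl I cY
  have hB : φ ≫ b = b ≫ Formal.smulMod k PZ cZ := by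
    refine (hex.exact.g_desc (φ ≫ b) hwb).symm.trans ?_
    congr 1
    refine hgJ.symm.trans ?_
    letI : (VecSt.subsch X Z hZ).Over (Spec (CommRingCat.of k)) :=
      ⟨VecSt.subschι X Z hZ ≫ (X ↘ Spec (CommRingCat.of k))⟩
    rw [hcZ]
    exact Formal27.pushforward_map_smulMod iZ rfl J cZ
  have hA' : a ≫ (φ - Formal.smulMod k M cY) = 0 := by
    rw [Preadditive.comp_sub, hA, Formal27.smulMod_comp, sub_self]
  have hB' : (φ - Formal.smulMod k M cY) ≫ b = b ≫ Formal.smulMod k PZ (cZ - cY) := by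
    rw [Preadditive.sub_comp, hB, TF64.smulMod_sub, Preadditive.comp_sub, Formal27.smulMod_comp b cY]
  by_cases hc : cZ - cY = 0
  · refine ⟨cY, sub_eq_zero.1 (TF64.eq_zero_of_zeroAt hMc.1 htM _ fun η hη e => ?_)⟩
    rw [hc, Formal27.smulMod_zero, comp_zero] at hB'
    by_cases hYη : η ∈ Y
    · have := hPZ0 η (hsep η hη hYη)
      obtain ⟨d, hd⟩ := QC70.stalkMapM_exact S hex.exact η e (Subsingleton.elim _ _)
      have hd' : QC70.stalkMapM a η d = e := hd
      rw [← hd']
      exact (TF64.stalkMapM_comp a _ η d).symm.trans ((congrArg (fun f : PY ⟶ M => QC70.stalkMapM f η d) hA').trans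
        (TF64.stalkMapM_zero η d))
    · obtain ⟨d, hd⟩ := QC70.stalkMapM_exact S hex.exact η
        (QC70.stalkMapM (φ - Formal.smulMod k M cY) η e) (by
          change QC70.stalkMapM b η _ = 0
          rw [← TF64.stalkMapM_comp, hB', TF64.stalkMapM_zero])
      have := hPY0 η hYη
      exact hd.symm.trans ((congrArg _ (Subsingleton.elim d 0)).trans (TF64.map0 _ η))
  · exfalso
    refine hns ⟨⟨⟨Formal.smulMod k PZ (cZ - cY)⁻¹ ≫ hex.exact.desc _ hA', ?_⟩⟩⟩
    have hd : b ≫ hex.exact.desc _ hA' = φ - Formal.smulMod k M cY := hex.exact.g_desc _ hA'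
    rw [← cancel_epi b, Category.comp_id]
    calc b ≫ (Formal.smulMod k PZ (cZ - cY)⁻¹ ≫ hex.exact.desc _ hA') ≫ b
        = (b ≫ Formal.smulMod k PZ (cZ - cY)⁻¹) ≫ hex.exact.desc _ hA' ≫ b := by
          simp only [Category.assoc]
      _ = Formal.smulMod k M (cZ - cY)⁻¹ ≫ (b ≫ hex.exact.desc _ hA') ≫ b := by
          rw [Formal27.smulMod_comp]
          simp only [Category.assoc]
      _ = Formal.smulMod k M (cZ - cY)⁻¹ ≫ b ≫ Formal.smulMod k PZ (cZ - cY) := by rw [hd, hB']
      _ = b := by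
          rw [Formal27.smulMod_comp, ← Category.assoc, ← Formal27.smulMod_mul, mul_inv_cancel₀ hc,
            Formal27.smulMod_one, Category.id_comp]

end Groth.Agent.S18845
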