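import Groth.Statements.S18847
import Groth.Agent.TF64.Setting
import Groth.Agent.TF64.DecompIff

set_option autoImplicit false
universe u
open CategoryTheory CategoryTheory.Limits AlgebraicGeometry
open TFOne

namespace Groth.Agent.S18847

/-- Let R be a discrete valuation ring with residue field κ, f : X ⟶ Spec R flat and proper, and X_s its
special fibre, assumed reduced of pure dimension one with geometrically integral irreducible
components over κ. Let I be a coherent R-flat module on X whose restriction I(s) to X_s is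
torsion-free rank-1, E a locally free module of rank r > 0 on X with restriction E(s), and d an
integer with χ(I(s)) = d and deg E(s) = -r·d. For a closed subset T of X_s write I(s)_T for the
torsion-free quotient of I(s) on T (pinned by its defining property) and β(T) := r·χ(I(s)_T) +
deg(E(s)|_T) (the source's β cleared of the denominator r). Let Y be a closed subcurve of X_s (a
non-empty union of irreducible components), and let I^Y be the kernel of the composite I ⟶ i_* I(s)
⟶ i_* I(s)_Y, with restriction I^Y(s) to X_s and quotients I^Y(s)_T and numbers β^Y(T) :=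
r·χ(I^Y(s)_T) + deg(E(s)|_T) defined likewise. Assume that Y is the largest closed subcurve of X_s
on which β is minimal: β(Y) ≤ β(T) for every closed subcurve T of X_s, and every closed subcurve T
with β(T) = β(Y) is contained in Y. Then for every closed subcurve Z of X_s one has β(Y) ≤ β^Y(Z),
and β^Y(Z) = β(Y) only if Z ⊆ Y. (The source takes f projective.) -/
theorem result (R : Type u) [CommRing R] [IsDomain R] [IsDiscreteValuationRing R] (X : Scheme.{u}) (f : X ⟶ Spec (CommRingCat.of R)) [Flat f] [IsProper f] (Xs : Scheme.{u}) [Xs.Over (Spec (CommRingCat.of (IsLocalRing.ResidueField R)))] (i : Xs ⟶ X) (hsq : IsPullback i (Xs ↘ Spec (CommRingCat.of (IsLocalRing.ResidueField R))) f (Spec.map (CommRingCat.ofHom (IsLocalRing.residue R)))) [IsReduced Xs] (hpure : ∀ C ∈ irreducibleComponents (Xs : Type u), topologicalKrullDim C = 1) (hgi : ∀ (C : Set Xs) (hC : C ∈ irreducibleComponents (Xs : Type u)), GeometricallyIntegral (VecSt.subschι Xs C (isClosed_of_mem_irreducibleComponents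 C hC) ≫ (Xs ↘ Spec (CommRingCat.of (IsLocalRing.ResidueField R))))) (I : X.Modules) (hIc : Coh.IsCoh I) (hIf : FlatMod.IsFlatOver f I) (hIs : TFOne.IsTF1 Xs ((Scheme.Modules.pullback i).obj I)) (E : X.Modules) (r : ℕ) (hr : 0 < r) (hE : FlatMod.IsFinLocFreeOfRank r E) (d : ℤ) (hχ : Curv2.euler (IsLocalRing.ResidueField R) Xs ((Scheme.Modules.pullback i).obj I) = d) (hEd : Curv2.deg (IsLocalRing.ResidueField R) Xs ((Scheme.Modules.pullback i).obj E) r = -(r : ℤ) * d) (Y : Set Xs) (hY : IsClosed Y) (hYs : VecSt.IsSubcurve Xs Y) (GY : Xs.Modules) (πY : ((Scheme.Modules.pullback i).obj I) ⟶ GY) (hGY : TFOne.IsQuotOn Xs ((Scheme.Modules.pullback i).obj I) Y GY πY) (IY : X.Modules) (hIY : IY = kernel ((Scheme.Modules.pullbackPushforwardAdjunction i).unit.app I ≫ (Scheme.Modules.pushforward i).map πY)) (hmin : ∀ (T : Set Xs) (hT : IsClosed T), VecSt.IsSubcurve Xs T → ∀ (G : Xs.Modules) (π : ((Scheme.Modules.pullback i).obj I) ⟶ G), TFOne.IsQuotOn Xs ((Scheme.Modules.pullback i).obj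 I) T G π → TFOne.rBeta Xs (IsLocalRing.ResidueField R) (Xs ↘ Spec (CommRingCat.of (IsLocalRing.ResidueField R))) Y hY ((Scheme.Modules.pullback i).obj E) r GY ≤ TFOne.rBeta Xs (IsLocalRing.ResidueField R) (Xs ↘ Spec (CommRingCat.of (IsLocalRing.ResidueField R))) T hT ((Scheme.Modules.pullback i).obj E) r G) (hmax : ∀ (T : Set Xs) (hT : IsClosed T), VecSt.IsSubcurve Xs T → ∀ (G : Xs.Modules) (π : ((Scheme.Modules.pullback i).obj I) ⟶ G), TFOne.IsQuotOn Xs ((Scheme.Modules.pullback i).obj I) T G π → TFOne.rBeta Xs (IsLocalRing.ResidueField R) (Xs ↘ Spec (CommRingCat.of (IsLocalRing.ResidueField R))) T hT ((Scheme.Modules.pullback i).obj E) r G = TFOne.rBeta Xs (IsLocalRing.ResidueField R) (Xs ↘ Spec (CommRingCat.of (IsLocalRing.ResidueField R))) Y hY ((Scheme.Modules.pullback i).obj E) r GY → T ⊆ Y) (Z : Set Xs) (hZ : IsClosed Z) (hZs : VecSt.IsSubcurve Xs Z) (GZ1 : Xs.Modules) (πZ1 : ((Scheme.Modules.pullback i).obj IY) ⟶ GZ1) (hGZ1 : TFOne.IsQuotOn Xs ((Scheme.Modules.pullback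 i).obj IY) Z GZ1 πZ1) : TFOne.rBeta Xs (IsLocalRing.ResidueField R) (Xs ↘ Spec (CommRingCat.of (IsLocalRing.ResidueField R))) Y hY ((Scheme.Modules.pullback i).obj E) r GY ≤ TFOne.rBeta Xs (IsLocalRing.ResidueField R) (Xs ↘ Spec (CommRingCat.of (IsLocalRing.ResidueField R))) Z hZ ((Scheme.Modules.pullback i).obj E) r GZ1 ∧ (TFOne.rBeta Xs (IsLocalRing.ResidueField R) (Xs ↘ Spec (CommRingCat.of (IsLocalRing.ResidueField R))) Z hZ ((Scheme.Modules.pullback i).obj E) r GZ1 = TFOne.rBeta Xs (IsLocalRing.ResidueField R) (Xs ↘ Spec (CommRingCat.of (IsLocalRing.ResidueField R))) Y hY ((Scheme.Modules.pullback i).obj E) r GY → Z ⊆ Y) := by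
  obtain ⟨hp, hn, hN, α, β, w, hS⟩ := TF64.setting f hsq hIc hIf hIs hGY hIY
  obtain ⟨hMc, htM, hMr⟩ := hIs
  have hM : TFOne.IsTF1 Xs ((Scheme.Modules.pullback i).obj I) := ⟨hMc, htM, hMr⟩
  have hE' := TF64.isFinLocFreeOfRank_pull i hE
  let W : Set Xs := ⋃₀ {C | C ∈ irreducibleComponents (Xs : Type u) ∧ C ⊆ Y ∩ Z}
  have hWc : IsClosed W := by
    show IsClosed (⋃₀ _)
    rw [Set.sUnion_eq_biUnion]
    exact ((TopologicalSpace.NoetherianSpace.finite_irreducibleComponents (α := Xs)).subset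
      fun C hC => hC.1).isClosed_biUnion fun C hC => isClosed_of_mem_irreducibleComponents C hC.1
  have hWi : ∀ η ∈ genericPoints Xs, (η ∈ W ↔ η ∈ Y ∧ η ∈ Z) := fun η hη => by
    rw [TF64.generic_mem_sUnion_iff _ hη, TF64.closure_subset_iff (hY.inter hZ)]
    rfl
  have hWg : TF64.GenClosed W := TF64.genClosed_sUnion (fun C hC => hC.1) rfl hWc
  have hUg : TF64.GenClosed (Y ∪ Z) :=
    (TF64.genClosed_of_isSubcurve hYs hY).union (TF64.genClosed_of_isSubcurve hZs hZ)
  obtain ⟨η₀, hη₀, hη₀Y⟩ := TF64.exists_generic_mem_subcurve hYs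
  have hUs := TF64.isSubcurve_of_genClosed hUg ⟨η₀, hη₀, Or.inl hη₀Y⟩
  obtain ⟨GW, πW, hGW⟩ := TF64.exists_quot hMc htM hMr hWg
  obtain ⟨GU, πU, hGU⟩ := TF64.exists_quot hMc htM hMr hUg
  obtain ⟨GT, πT, hGT⟩ := TF64.exists_quot hMc htM hMr TF64.genClosed_univ
  have hle := (TF64.beta_compare (k := IsLocalRing.ResidueField R) hpure hE' hr hM hN hY hZ hWc (hY.union hZ) Set.subset_union_left hWi
    (fun _ _ => Iff.rfl) hGY hGW hGU hGZ1 hS).1
  have hmU := hmin _ (hY.union hZ) hUs GU πU hGU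
  have hT0 := TF64.rBeta_univ (k := IsLocalRing.ResidueField R) hpure hE' hM isClosed_univ rfl hGT
  rw [hχ, hEd] at hT0
  have hmT := hmin _ isClosed_univ (TF64.isSubcurve_of_genClosed TF64.genClosed_univ ⟨η₀, hη₀, trivial⟩) GT πT hGT
  rw [hT0] at hmT
  have hmW : TFOne.rBeta Xs (IsLocalRing.ResidueField R)
      (Xs ↘ Spec (CommRingCat.of (IsLocalRing.ResidueField R))) Y hY ((Scheme.Modules.pullback i).obj E) r GY ≤
      TFOne.rBeta Xs (IsLocalRing.ResidueField R)
      (Xs ↘ Spec (CommRingCat.of (IsLocalRing.ResidueField R))) W hWc ((Scheme.Modules.pullback i).obj E) r GW := by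
    by_cases h : ∃ η ∈ genericPoints Xs, η ∈ W
    · exact hmin _ hWc (TF64.isSubcurve_of_genClosed hWg h) GW πW hGW
    · rw [(TF64.rBeta_empty (k := IsLocalRing.ResidueField R) hpure hE' hWc
        (fun η hη hw => h ⟨η, hη, hw⟩) hGW).2]
      linarith
  exact ⟨by linarith, fun heq => (Set.union_subset_iff.1 (hmax _ (hY.union hZ) hUs GU πU hGU (by linarith))).2⟩

end Groth.Agent.S18847
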