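import Groth.Statements.S18848
import Groth.Agent.TF64.Setting
import Groth.Agent.TF64.Restrict

set_option autoImplicit false
universe u
open CategoryTheory CategoryTheory.Limits AlgebraicGeometry
open TFOne

namespace Groth.Agent.S18848

/-- Let R be a discrete valuation ring with residue field κ, f : X ⟶ Spec R flat and proper, and X_s its
special fibre, assumed reduced of pure dimension one with geometrically integral irreducible
components over κ. Let I be a coherent R-flat module on X whose restriction I(s) to X_s is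
torsion-free rank-1, E a locally free module of rank r > 0 on X with restriction E(s), and d an
integer with χ(I(s)) = d and deg E(s) = -r·d. For a closed subset T of X_s write I(s)_T for the
torsion-free quotient of I(s) on T (pinned by its defining property) and β(T) := r·χ(I(s)_T) +
deg(E(s)|_T) (the source's β cleared of the denominator r). Let Y be a closed subcurve of X_s (a
non-empty union of irreducible components), and let I^Y be the kernel of the composite I ⟶ i_* I(s)
⟶ i_* I(s)_Y, with restriction I^Y(s) to X_s and quotients I^Y(s)_T and numbers β^Y(T) :=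
r·χ(I^Y(s)_T) + deg(E(s)|_T) defined likewise. Assume I(s) is semistable with respect to E(s). Then
I^Y(s) is semistable with respect to E(s) if and only if β(Y) = 0 and I(s)_Y, viewed on the reduced
closed subscheme Y, is semistable with respect to E(s)|_Y. (Here β(Y) = 0 says that E(s)|_Y is a
polarisation for I(s)_Y, the source's implicit requirement for semistability with respect to
E(s)|_Y. The source states the conclusion for semistability of I^Y over Spec R, which it reduces at
once to the special fibre since I^Y and I agree off Y; it also asserts that I^Y(s) and I(s) are then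
Jordan–Hölder equivalent, which is not stated here; it takes f projective.) -/
theorem result (R : Type u) [CommRing R] [IsDomain R] [IsDiscreteValuationRing R] (X : Scheme.{u}) (f : X ⟶ Spec (CommRingCat.of R)) [Flat f] [IsProper f] (Xs : Scheme.{u}) [Xs.Over (Spec (CommRingCat.of (IsLocalRing.ResidueField R)))] (i : Xs ⟶ X) (hsq : IsPullback i (Xs ↘ Spec (CommRingCat.of (IsLocalRing.ResidueField R))) f (Spec.map (CommRingCat.ofHom (IsLocalRing.residue R)))) [IsReduced Xs] (hpure : ∀ C ∈ irreducibleComponents (Xs : Type u), topologicalKrullDim C = 1) (hgi : ∀ (C : Set Xs) (hC : C ∈ irreducibleComponents (Xs : Type u)), GeometricallyIntegral (VecSt.subschι Xs C (isClosed_of_mem_irreducibleComponents C hC) ≫ (Xs ↘ Spec (CommRingCat.of (IsLocalRing.ResidueField R))))) (I : X.Modules) (hIc : Coh.IsCoh I) (hIf : FlatMod.IsFlatOver f I) (hIs : TFOne.IsTF1 Xs ((Scheme.Modules.pullback i).obj I)) (E : X.Modules) (r : ℕ) (hr : 0 < r) (hE : FlatMod.IsFinLocFreeOfRank r E) (d : ℤ) (hχ : Curv2.euler (IsLocalRing.ResidueField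 R) Xs ((Scheme.Modules.pullback i).obj I) = d) (hEd : Curv2.deg (IsLocalRing.ResidueField R) Xs ((Scheme.Modules.pullback i).obj E) r = -(r : ℤ) * d) (hss : TFOne.IsSemistable Xs (IsLocalRing.ResidueField R) (Xs ↘ Spec (CommRingCat.of (IsLocalRing.ResidueField R))) ((Scheme.Modules.pullback i).obj I) ((Scheme.Modules.pullback i).obj E) r) (Y : Set Xs) (hY : IsClosed Y) (hYs : VecSt.IsSubcurve Xs Y) (GY : Xs.Modules) (πY : ((Scheme.Modules.pullback i).obj I) ⟶ GY) (hGY : TFOne.IsQuotOn Xs ((Scheme.Modules.pullback i).obj I) Y GY πY) (IY : X.Modules) (hIY : IY = kernel ((Scheme.Modules.pullbackPushforwardAdjunction i).unit.app I ≫ (Scheme.Modules.pushforward i).map πY)) : TFOne.IsSemistable Xs (IsLocalRing.ResidueField R) (Xs ↘ Spec (CommRingCat.of (IsLocalRing.ResidueField R))) ((Scheme.Modules.pullback i).obj IY) ((Scheme.Modules.pullback i).obj E) r ↔ (TFOne.rBeta Xs (IsLocalRing.ResidueField R) (Xs ↘ Spec (CommRingCat.of (IsLocalRing.ResidueField R))) Y hY ((Scheme.Modules.pullback i).obj E) r GY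 = 0 ∧ TFOne.IsSemistable (VecSt.subsch Xs Y hY) (IsLocalRing.ResidueField R) (VecSt.subschι Xs Y hY ≫ (Xs ↘ Spec (CommRingCat.of (IsLocalRing.ResidueField R)))) ((Scheme.Modules.pullback (VecSt.subschι Xs Y hY)).obj GY) ((Scheme.Modules.pullback (VecSt.subschι Xs Y hY)).obj ((Scheme.Modules.pullback i).obj E)) r) := by
  obtain ⟨hp, hn, hN, α, β, w, hS⟩ := TF64.setting f hsq hIc hIf hIs hGY hIY
  obtain ⟨hMc, htM, hMr⟩ := hIs
  have hM : TFOne.IsTF1 Xs ((Scheme.Modules.pullback i).obj I) := ⟨hMc, htM, hMr⟩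
  have hE' := TF64.isFinLocFreeOfRank_pull i hE
  have hYg := TF64.genClosed_of_isSubcurve hYs hY
  have hfin : ∀ P : Set Xs → Prop, IsClosed (⋃₀ {C | C ∈ irreducibleComponents (Xs : Type u) ∧ P C}) := fun P => by
    rw [Set.sUnion_eq_biUnion]
    exact ((TopologicalSpace.NoetherianSpace.finite_irreducibleComponents (α := Xs)).subset
      fun C hC => hC.1).isClosed_biUnion fun C hC => isClosed_of_mem_irreducibleComponents C hC.1
  have nn : ∀ (T : Set Xs) (hT : IsClosed T), TF64.GenClosed T → ∀ (G : Xs.Modules)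
      (π : (Scheme.Modules.pullback i).obj I ⟶ G), TFOne.IsQuotOn Xs _ T G π →
      0 ≤ TFOne.rBeta Xs (IsLocalRing.ResidueField R)
        (Xs ↘ Spec (CommRingCat.of (IsLocalRing.ResidueField R))) T hT
        ((Scheme.Modules.pullback i).obj E) r G := fun T hT hTg G π hπ => by
    by_cases hu : T = Set.univ
    · rw [TF64.rBeta_univ (k := IsLocalRing.ResidueField R) hpure hE' hM hT hu hπ, hχ, hEd]
      exact le_of_eq (by ring)
    by_cases he : ∃ η ∈ genericPoints Xs, η ∈ T
    · exact hss.2 T hT (TF64.isSubcurve_of_genClosed hTg he) hu G π hπ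
    · rw [(TF64.rBeta_empty (k := IsLocalRing.ResidueField R) hpure hE' hT
        (fun η hη hw => he ⟨η, hη, hw⟩) hπ).2]
  constructor
  · intro hN'
    refine ⟨?_, TF64.isSemistable_restrict hM hGY hYs hpure hE' hss⟩
    have h1 := nn Y hY hYg GY πY hGY
    obtain ⟨GT, πT, hGT⟩ := TF64.exists_quot hMc htM hMr TF64.genClosed_univ
    have hT0 := TF64.rBeta_univ (k := IsLocalRing.ResidueField R) hpure hE' hM isClosed_univ rfl hGT
    rw [hχ, hEd] at hT0
    by_cases hu : Y = Set.univ
    · rw [TF64.rBeta_univ (k := IsLocalRing.ResidueField R) hpure hE' hM hY hu hGY, hχ, hEd]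
      ring
    let Y' : Set Xs := ⋃₀ {C | C ∈ irreducibleComponents (Xs : Type u) ∧ ¬ C ⊆ Y}
    have hY'c : IsClosed Y' := hfin _
    have hY'i : ∀ η ∈ genericPoints Xs, (η ∈ Y' ↔ η ∉ Y) := fun η hη => by
      rw [TF64.generic_mem_sUnion_iff _ hη, TF64.closure_subset_iff hY]
    have hY'g : TF64.GenClosed Y' := TF64.genClosed_sUnion (fun C hC => hC.1) rfl hY'c
    obtain ⟨η, hη, hηY⟩ : ∃ η ∈ genericPoints Xs, η ∉ Y := by
      by_contra h
      push Not at h
      exact hu (Set.eq_univ_of_univ_subset (TF64.genClosed_univ.subset hY fun η hη _ => h η hη))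
    have hY'ne : Y' ≠ Set.univ := fun h => by
      obtain ⟨η', hη', hη'Y⟩ := TF64.exists_generic_mem_subcurve hYs
      exact (hY'i η' hη').1 (h.ge (Set.mem_univ _)) hη'Y
    obtain ⟨G2, π2, hG2⟩ := TF64.exists_quot hN.1 hN.2.1 hN.2.2 hY'g
    have h2 := hN'.2 Y' hY'c (TF64.isSubcurve_of_genClosed hY'g ⟨η, hη, (hY'i η hη).2 hηY⟩) hY'ne G2 π2 hG2
    obtain ⟨G0, π0, hG0⟩ := TF64.exists_quot hMc htM hMr (Z := (∅ : Set Xs)) ⟨isClosed_empty, fun x hx => hx.elim⟩
    have hb := TF64.beta_compare (k := IsLocalRing.ResidueField R) hpure hE' hr hM hN hY hY'c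
      isClosed_empty isClosed_univ (Set.subset_univ Y)
      (fun η hη => ⟨fun h => h.elim, fun h => absurd h.1 ((hY'i η hη).1 h.2)⟩)
      (fun η hη => ⟨fun _ => (em (η ∈ Y)).imp_right (hY'i η hη).2, fun _ => trivial⟩) hGY hG0 hGT hG2 hS
    have e2 := TF64.euler_quot_away (k := IsLocalRing.ResidueField R) hpure hM hN (U := Set.univ)
      (Set.subset_univ Y)
      (fun η hη => ⟨fun _ => (em (η ∈ Y)).imp_right (hY'i η hη).2, fun _ => trivial⟩)
      (fun η hη h => (hY'i η hη).1 h) hGY hGT hG2 hS
    obtain ⟨e0, hb0⟩ := TF64.rBeta_empty (k := IsLocalRing.ResidueField R) hpure hE' isClosed_empty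
      (fun η _ => Set.notMem_empty η) hG0
    have := hb.2.2 (by rw [e0, zero_add, e2])
    rw [hb0, hT0] at this
    linarith
  · rintro ⟨hY0, -⟩
    refine ⟨hN, fun Z hZ hZs hZne G π hG => ?_⟩
    let W : Set Xs := ⋃₀ {C | C ∈ irreducibleComponents (Xs : Type u) ∧ C ⊆ Y ∩ Z}
    have hWc : IsClosed W := hfin _
    have hWi : ∀ η ∈ genericPoints Xs, (η ∈ W ↔ η ∈ Y ∧ η ∈ Z) := fun η hη => by
      rw [TF64.generic_mem_sUnion_iff _ hη, TF64.closure_subset_iff (hY.inter hZ)]
      rfl
    have hWg : TF64.GenClosed W := TF64.genClosed_sUnion (fun C hC => hC.1) rfl hWc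
    have hUg := hYg.union (TF64.genClosed_of_isSubcurve hZs hZ)
    obtain ⟨GW, πW, hGW⟩ := TF64.exists_quot hMc htM hMr hWg
    obtain ⟨GU, πU, hGU⟩ := TF64.exists_quot hMc htM hMr hUg
    have hle := (TF64.beta_compare (k := IsLocalRing.ResidueField R) hpure hE' hr hM hN hY hZ hWc (hY.union hZ)
      Set.subset_union_left hWi (fun _ _ => Iff.rfl) hGY hGW hGU hG hS).1
    rw [hY0] at hle
    linarith [nn W hWc hWg GW πW hGW, nn _ (hY.union hZ) hUg GU πU hGU]

end Groth.Agent.S18848
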