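import Groth.Statements.S18851
import Groth.Agent.TF64.Lang.Main

set_option autoImplicit false
universe u
open CategoryTheory CategoryTheory.Limits AlgebraicGeometry
open TFOne

namespace Groth.Agent.S18851

/-- Let R be a discrete valuation ring with fraction field K and residue field κ, f : X ⟶ Spec R flat
and proper with generic fibre X_K (a cartesian square over Spec K ⟶ Spec R with top arrow j) and
special fibre X_s (a cartesian square over Spec κ ⟶ Spec R), the latter reduced of pure dimension
one with geometrically integral irreducible components over κ. Let I be a relatively torsion-free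
rank-1 module on X over Spec R (R-flat, finitely presented, torsion-free rank-1 on every geometric
fibre), E a locally free module of rank r > 0 on X, and d an integer with χ(I(s)) = d and deg E(s) =
-r·d for the restrictions to X_s. If j^* I is simple and semistable with respect to j^* E on every
geometric fibre of X_K over Spec K, then there is a relatively torsion-free rank-1 module I' on X
over Spec R with j^* I' ≅ j^* I which is both simple and semistable with respect to E on every
geometric fibre of f. (The source's proof starts from an arbitrary extension, the form stated here;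
the source takes f projective.) -/
theorem result (R : Type u) [CommRing R] [IsDomain R] [IsDiscreteValuationRing R] (X : Scheme.{u}) (f : X ⟶ Spec (CommRingCat.of R)) [Flat f] [IsProper f] (Xs : Scheme.{u}) [Xs.Over (Spec (CommRingCat.of (IsLocalRing.ResidueField R)))] (i : Xs ⟶ X) (hsq : IsPullback i (Xs ↘ Spec (CommRingCat.of (IsLocalRing.ResidueField R))) f (Spec.map (CommRingCat.ofHom (IsLocalRing.residue R)))) [IsReduced Xs] (hpure : ∀ C ∈ irreducibleComponents (Xs : Type u), topologicalKrullDim C = 1) (hgi : ∀ (C : Set Xs) (hC : C ∈ irreducibleComponents (Xs : Type u)), GeometricallyIntegral (VecSt.subschι Xs C (isClosed_of_mem_irreducibleComponents C hC) ≫ (Xs ↘ Spec (CommRingCat.of (IsLocalRing.ResidueField R))))) (Xg : Scheme.{u}) [Xg.Over (Spec (CommRingCat.of (FractionRing R)))] (j : Xg ⟶ X) (hgen : IsPullback j (Xg ↘ Spec (CommRingCat.of (FractionRing R))) f (Spec.map (CommRingCat.ofHom (algebraMap R (FractionRing R))))) (I : X.Modules) (hI : TFOne.IsRelTF1 f I) (E : X.Modules) (r : ℕ) (hr : 0 < r) (hE : FlatMod.IsFinLocFreeOfRank r E) (d : ℤ) (hχ : Curv2.euler (IsLocalRing.ResidueField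 R) Xs ((Scheme.Modules.pullback i).obj I) = d) (hEd : Curv2.deg (IsLocalRing.ResidueField R) Xs ((Scheme.Modules.pullback i).obj E) r = -(r : ℤ) * d) (hIg1 : TFOne.FibSimple (Xg ↘ Spec (CommRingCat.of (FractionRing R))) ((Scheme.Modules.pullback j).obj I)) (hIg2 : TFOne.FibSemistable (Xg ↘ Spec (CommRingCat.of (FractionRing R))) ((Scheme.Modules.pullback j).obj I) ((Scheme.Modules.pullback j).obj E) r) : ∃ I' : X.Modules, TFOne.IsRelTF1 f I' ∧ Nonempty ((Scheme.Modules.pullback j).obj I' ≅ ((Scheme.Modules.pullback j).obj I)) ∧ TFOne.FibSimple f I' ∧ TFOne.FibSemistable f I' E r := by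
  have := TF64.isProper_special hsq
  have := TF64.nonempty_special hsq hgen hIg1
  have htot := TF64.totZero hsq hgen hpure hgi hE hI hχ hEd
  obtain ⟨I', h, hnn, hind⟩ := TF64.exists_indec hsq hgen hpure hgi
    (fun J => TF64.BetNonneg (IsLocalRing.ResidueField R) ((Scheme.Modules.pullback i).obj J)
      ((Scheme.Modules.pullback i).obj E))
    (TF64.exists_betNonneg hsq hgen hpure hgi hr hE (TF64.good_self hsq hgi hI) htot hIg2)
    (TF64.betNonneg_step hsq hgen hpure hr hE htot) hIg1
  exact ⟨I', h.isRelTF1 hsq hgen hgi hI, h.iso, h.fibSimple hsq hgen hgi hIg1 hind,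
    h.fibSemistable hsq hgen hpure hgi hE hIg2
      ((TF64.isSemistable_iff_bet hpure (TF64.isFinLocFreeOfRank_pull i hE) h.tf1 (htot I' h)).2 hnn)⟩

end Groth.Agent.S18851
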