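import Groth.Statements.S18852
import Groth.Agent.TF64.Lang.Main

set_option autoImplicit false
universe u
open CategoryTheory CategoryTheory.Limits AlgebraicGeometry
open TFOne

namespace Groth.Agent.S18852

/-- Let R be a discrete valuation ring with fraction field K and residue field κ, f : X ⟶ Spec R flat
and proper with generic fibre X_K (a cartesian square over Spec K ⟶ Spec R with top arrow j) and
special fibre X_s (a cartesian square over Spec κ ⟶ Spec R), the latter reduced of pure dimension
one with geometrically integral irreducible components over κ. Let I be a relatively torsion-free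
rank-1 module on X over Spec R (R-flat, finitely presented, torsion-free rank-1 on every geometric
fibre), E a locally free module of rank r > 0 on X, and d an integer with χ(I(s)) = d and deg E(s) =
-r·d for the restrictions to X_s. Let σ be a section of f whose image lies in an open subscheme U of
X smooth over Spec R, and σ_K the induced section of X_K (the point of X_K over Spec K mapping to σ
under j). If j^* I is σ_K-quasi-stable with respect to j^* E on every geometric fibre of X_K over
Spec K (semistable, with the strict inequality on every proper subcurve through the point of the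
fibre given by σ_K), then there is a relatively torsion-free rank-1 module I' on X over Spec R with
j^* I' ≅ j^* I which is σ-quasi-stable with respect to E on every geometric fibre of f. (The
source's proof starts from an arbitrary extension, the form stated here; the source takes f
projective.) -/
theorem result (R : Type u) [CommRing R] [IsDomain R] [IsDiscreteValuationRing R] (X : Scheme.{u}) (f : X ⟶ Spec (CommRingCat.of R)) [Flat f] [IsProper f] (Xs : Scheme.{u}) [Xs.Over (Spec (CommRingCat.of (IsLocalRing.ResidueField R)))] (i : Xs ⟶ X) (hsq : IsPullback i (Xs ↘ Spec (CommRingCat.of (IsLocalRing.ResidueField R))) f (Spec.map (CommRingCat.ofHom (IsLocalRing.residue R)))) [IsReduced Xs] (hpure : ∀ C ∈ irreducibleComponents (Xs : Type u), topologicalKrullDim C = 1) (hgi : ∀ (C : Set Xs) (hC : C ∈ irreducibleComponents (Xs : Type u)), GeometricallyIntegral (VecSt.subschι Xs C (isClosed_of_mem_irreducibleComponents C hC) ≫ (Xs ↘ Spec (CommRingCat.of (IsLocalRing.ResidueField R))))) (Xg : Scheme.{u}) [Xg.Over (Spec (CommRingCat.of (FractionRing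 R)))] (j : Xg ⟶ X) (hgen : IsPullback j (Xg ↘ Spec (CommRingCat.of (FractionRing R))) f (Spec.map (CommRingCat.ofHom (algebraMap R (FractionRing R))))) (I : X.Modules) (hI : TFOne.IsRelTF1 f I) (E : X.Modules) (r : ℕ) (hr : 0 < r) (hE : FlatMod.IsFinLocFreeOfRank r E) (d : ℤ) (hχ : Curv2.euler (IsLocalRing.ResidueField R) Xs ((Scheme.Modules.pullback i).obj I) = d) (hEd : Curv2.deg (IsLocalRing.ResidueField R) Xs ((Scheme.Modules.pullback i).obj E) r = -(r : ℤ) * d) (σ : Spec (CommRingCat.of R) ⟶ X) (hσ : σ ≫ f = 𝟙 _) (U : X.Opens) (hσU : Set.range σ.base ⊆ (U : Set X)) [Smooth (U.ι ≫ f)] (σg : Spec (CommRingCat.of (FractionRing R)) ⟶ Xg) (hσg : σg ≫ (Xg ↘ Spec (CommRingCat.of (FractionRing R))) = 𝟙 _) (hσgj : σg ≫ j = Spec.map (CommRingCat.ofHom (algebraMap R (FractionRing R))) ≫ σ) (hIg : TFOne.FibQuasistableAlong (Xg ↘ Spec (CommRingCat.of (FractionRing R))) ((Scheme.Modules.pullback j).obj I) ((Scheme.Modules.pullback j).obj E) σg hσg r) : ∃ I' : X.Modules, TFOne.IsRelTF1 f I' ∧ Nonempty ((Scheme.Modules.pullback j).obj I' ≅ ((Scheme.Modules.pullback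 j).obj I)) ∧ TFOne.FibQuasistableAlong f I' E σ hσ r := by
  have := TF64.isProper_special hsq
  have hE' := TF64.isFinLocFreeOfRank_pull i hE
  have htot := TF64.totZero hsq hgen hpure hgi hE hI hχ hEd
  obtain ⟨z, hz⟩ := TF64.exists_special_point hsq σ hσ
  haveI := TF64.isDomain_stalk_special hsq U (z := z) (hz ▸ hσU ⟨_, rfl⟩)
  obtain ⟨η₀, huniq⟩ := TF64.unique_generic_of_isDomain z
  obtain ⟨I', h, hnn, hpos⟩ := TF64.exists_quasistable hsq hgen hpure hgi hr hE (TF64.good_self hsq hgi hI)
    htot σ hσ σg hσg hσgj hIg (TF64.fibSemistable_of_quasistableAlong hIg) hz huniq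
  refine ⟨I', h.isRelTF1 hsq hgen hgi hI, h.iso, h.fibQuasistableAlong hsq hgen hpure hgi hE σ hσ σg hσg hσgj
    hIg hz ⟨(TF64.isSemistable_iff_bet hpure hE' h.tf1 (htot I' h)).2 hnn, fun Z hZ hs hu hzZ G π hG => ?_⟩⟩
  have hZg := TF64.genClosed_of_isSubcurve hs hZ
  obtain ⟨η, hη, hηZ, hηz⟩ := hZg.2 z hzZ
  rw [TF64.rBeta_eq_bet hpure hE' h.tf1 hZ hG]
  exact lt_of_le_of_ne (hnn Z hZg) (Ne.symm (hpos Z hZg hu (huniq η hη hηz ▸ hηZ)))

end Groth.Agent.S18852
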