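import Groth.Statements.S18853
import Groth.Agent.TF64.Setting
import Groth.Agent.TF64.DecompIff

set_option autoImplicit false
universe u
open CategoryTheory CategoryTheory.Limits AlgebraicGeometry
open TFOne

namespace Groth.Agent.S18853

/-- Let R be a discrete valuation ring with residue field κ, f : X ⟶ Spec R flat and proper, and X_s its
special fibre, assumed reduced of pure dimension one with geometrically integral irreducible
components over κ. Let I be a coherent R-flat module on X whose restriction I(s) to X_s is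
torsion-free rank-1, E a locally free module of rank r > 0 on X with restriction E(s), and d an
integer with χ(I(s)) = d and deg E(s) = -r·d. For a closed subset T of X_s write I(s)_T for the
torsion-free quotient of I(s) on T (pinned by its defining property) and β(T) := r·χ(I(s)_T) +
deg(E(s)|_T) (the source's β cleared of the denominator r). Let Y be a closed subcurve of X_s (a
non-empty union of irreducible components), and let I^Y be the kernel of the composite I ⟶ i_* I(s)
⟶ i_* I(s)_Y, with restriction I^Y(s) to X_s and quotients I^Y(s)_T and numbers β^Y(T) :=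
r·χ(I^Y(s)_T) + deg(E(s)|_T) defined likewise. Assume I(s) is semistable with respect to E(s). Let W
be an irreducible component of X_s and suppose that Y is the smallest closed subcurve of X_s
containing W with β(Y) = 0 (it is contained in every closed subcurve T ⊇ W with β(T) = 0). If Z is a
closed subcurve containing W with β^Y(Z) = 0 which is smallest with this property, then Y ⊆ Z. (The
source adds that I^Y is again semistable, which follows from the preceding semistability criterion
for I^Y, and that Y = Z exactly when I^Y(s) decomposes at Y; neither is stated here. The source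
takes f projective.) -/
theorem result (R : Type u) [CommRing R] [IsDomain R] [IsDiscreteValuationRing R] (X : Scheme.{u}) (f : X ⟶ Spec (CommRingCat.of R)) [Flat f] [IsProper f] (Xs : Scheme.{u}) [Xs.Over (Spec (CommRingCat.of (IsLocalRing.ResidueField R)))] (i : Xs ⟶ X) (hsq : IsPullback i (Xs ↘ Spec (CommRingCat.of (IsLocalRing.ResidueField R))) f (Spec.map (CommRingCat.ofHom (IsLocalRing.residue R)))) [IsReduced Xs] (hpure : ∀ C ∈ irreducibleComponents (Xs : Type u), topologicalKrullDim C = 1) (hgi : ∀ (C : Set Xs) (hC : C ∈ irreducibleComponents (Xs : Type u)), GeometricallyIntegral (VecSt.subschι Xs C (isClosed_of_mem_irreducibleComponents C hC) ≫ (Xs ↘ Spec (CommRingCat.of (IsLocalRing.ResidueField R))))) (I : X.Modules) (hIc : Coh.IsCoh I) (hIf : FlatMod.IsFlatOver f I) (hIs : TFOne.IsTF1 Xs ((Scheme.Modules.pullback i).obj I)) (E : X.Modules) (r : ℕ) (hr : 0 < r) (hE : FlatMod.IsFinLocFreeOfRank r E) (d : ℤ) (hχ : Curv2.euler (IsLocalRing.ResidueField R) Xs ((Scheme.Modules.pullback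 i).obj I) = d) (hEd : Curv2.deg (IsLocalRing.ResidueField R) Xs ((Scheme.Modules.pullback i).obj E) r = -(r : ℤ) * d) (hss : TFOne.IsSemistable Xs (IsLocalRing.ResidueField R) (Xs ↘ Spec (CommRingCat.of (IsLocalRing.ResidueField R))) ((Scheme.Modules.pullback i).obj I) ((Scheme.Modules.pullback i).obj E) r) (Y : Set Xs) (hY : IsClosed Y) (hYs : VecSt.IsSubcurve Xs Y) (GY : Xs.Modules) (πY : ((Scheme.Modules.pullback i).obj I) ⟶ GY) (hGY : TFOne.IsQuotOn Xs ((Scheme.Modules.pullback i).obj I) Y GY πY) (IY : X.Modules) (hIY : IY = kernel ((Scheme.Modules.pullbackPushforwardAdjunction i).unit.app I ≫ (Scheme.Modules.pushforward i).map πY)) (W : Set Xs) (hWc : W ∈ irreducibleComponents (Xs : Type u)) (hWY : W ⊆ Y) (hY0 : TFOne.rBeta Xs (IsLocalRing.ResidueField R) (Xs ↘ Spec (CommRingCat.of (IsLocalRing.ResidueField R))) Y hY ((Scheme.Modules.pullback i).obj E) r GY = 0) (hYmin : ∀ (T : Set Xs) (hT : IsClosed T), VecSt.IsSubcurve Xs T → W ⊆ T → ∀ (G : Xs.Modules) (π : ((Scheme.Modules.pullback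 i).obj I) ⟶ G), TFOne.IsQuotOn Xs ((Scheme.Modules.pullback i).obj I) T G π → TFOne.rBeta Xs (IsLocalRing.ResidueField R) (Xs ↘ Spec (CommRingCat.of (IsLocalRing.ResidueField R))) T hT ((Scheme.Modules.pullback i).obj E) r G = 0 → Y ⊆ T) (Z : Set Xs) (hZ : IsClosed Z) (hZs : VecSt.IsSubcurve Xs Z) (hWZ : W ⊆ Z) (GZ1 : Xs.Modules) (πZ1 : ((Scheme.Modules.pullback i).obj IY) ⟶ GZ1) (hGZ1 : TFOne.IsQuotOn Xs ((Scheme.Modules.pullback i).obj IY) Z GZ1 πZ1) (hZ0 : TFOne.rBeta Xs (IsLocalRing.ResidueField R) (Xs ↘ Spec (CommRingCat.of (IsLocalRing.ResidueField R))) Z hZ ((Scheme.Modules.pullback i).obj E) r GZ1 = 0) (hZmin : ∀ (T : Set Xs) (hT : IsClosed T), VecSt.IsSubcurve Xs T → W ⊆ T → ∀ (G : Xs.Modules) (π : ((Scheme.Modules.pullback i).obj IY) ⟶ G), TFOne.IsQuotOn Xs ((Scheme.Modules.pullback i).obj IY) T G π → TFOne.rBeta Xs (IsLocalRing.ResidueField R) (Xs ↘ Spec (CommRingCat.of (IsLocalRing.ResidueField R))) T hT ((Scheme.Modules.pullback i).obj E) r G = 0 → Z ⊆ T) : Y ⊆ Z := by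
  obtain ⟨hp, hn, hN, α, β, w, hS⟩ := TF64.setting f hsq hIc hIf hIs hGY hIY
  obtain ⟨hMc, htM, hMr⟩ := hIs
  have hM : TFOne.IsTF1 Xs ((Scheme.Modules.pullback i).obj I) := ⟨hMc, htM, hMr⟩
  have hE' := TF64.isFinLocFreeOfRank_pull i hE
  let V : Set Xs := ⋃₀ {C | C ∈ irreducibleComponents (Xs : Type u) ∧ C ⊆ Y ∩ Z}
  have hVc : IsClosed V := by
    show IsClosed (⋃₀ _)
    rw [Set.sUnion_eq_biUnion]
    exact ((TopologicalSpace.NoetherianSpace.finite_irreducibleComponents (α := Xs)).subset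
      fun C hC => hC.1).isClosed_biUnion fun C hC => isClosed_of_mem_irreducibleComponents C hC.1
  have hVi : ∀ η ∈ genericPoints Xs, (η ∈ V ↔ η ∈ Y ∧ η ∈ Z) := fun η hη => by
    rw [TF64.generic_mem_sUnion_iff _ hη, TF64.closure_subset_iff (hY.inter hZ)]
    rfl
  have hVg : TF64.GenClosed V := TF64.genClosed_sUnion (fun C hC => hC.1) rfl hVc
  have hWV : W ⊆ V := Set.subset_sUnion_of_mem ⟨hWc, Set.subset_inter hWY hWZ⟩
  have hVs : VecSt.IsSubcurve Xs V := ⟨{C | C ∈ irreducibleComponents (Xs : Type u) ∧ C ⊆ Y ∩ Z},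
    fun C hC => hC.1, ⟨W, hWc, Set.subset_inter hWY hWZ⟩, rfl⟩
  have hVZ : V ⊆ Z := Set.sUnion_subset fun C hC => hC.2.trans Set.inter_subset_right
  have hUg : TF64.GenClosed (Y ∪ Z) :=
    (TF64.genClosed_of_isSubcurve hYs hY).union (TF64.genClosed_of_isSubcurve hZs hZ)
  obtain ⟨η₀, hη₀, hη₀Y⟩ := TF64.exists_generic_mem_subcurve hYs
  have hUs := TF64.isSubcurve_of_genClosed hUg ⟨η₀, hη₀, Or.inl hη₀Y⟩
  obtain ⟨GV, πV, hGV⟩ := TF64.exists_quot hMc htM hMr hVg
  obtain ⟨GU, πU, hGU⟩ := TF64.exists_quot hMc htM hMr hUg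
  have hle := (TF64.beta_compare (k := IsLocalRing.ResidueField R) hpure hE' hr hM hN hY hZ hVc (hY.union hZ) Set.subset_union_left hVi
    (fun _ _ => Iff.rfl) hGY hGV hGU hGZ1 hS).1
  rw [hY0, hZ0] at hle
  have nn : ∀ (T : Set Xs) (hT : IsClosed T), VecSt.IsSubcurve Xs T → ∀ (G : Xs.Modules)
      (π : (Scheme.Modules.pullback i).obj I ⟶ G), TFOne.IsQuotOn Xs _ T G π →
      0 ≤ TFOne.rBeta Xs (IsLocalRing.ResidueField R)
        (Xs ↘ Spec (CommRingCat.of (IsLocalRing.ResidueField R))) T hT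
        ((Scheme.Modules.pullback i).obj E) r G := fun T hT hTs G π hπ => by
    by_cases hu : T = Set.univ
    · rw [TF64.rBeta_univ (k := IsLocalRing.ResidueField R) hpure hE' hM hT hu hπ, hχ, hEd]
      exact le_of_eq (by ring)
    · exact hss.2 T hT hTs hu G π hπ
  have h1 := nn V hVc hVs GV πV hGV
  have h2 := nn _ (hY.union hZ) hUs GU πU hGU
  exact (hYmin V hVc hVs hWV GV πV hGV (by linarith)).trans hVZ

end Groth.Agent.S18853
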