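import Groth.Statements.S1886
import Groth.Agent.Grpd80.Stabilizer

set_option autoImplicit false
universe u
open CategoryTheory CategoryTheory.Limits AlgebraicGeometry
open Grpd

namespace Groth.Agent.S1886
theorem closedImmersion_section {U X : Scheme.{u}} (f : X ⟶ U) (g : U ⟶ X) (h : g ≫ f = 𝟙 U)
    [IsSeparated f] : IsClosedImmersion g := by
  have : IsClosedImmersion (g ≫ f) := by rw [h]; infer_instance
  exact IsClosedImmersion.of_comp g f

theorem quasiCompact_section {U X : Scheme.{u}} (f : X ⟶ U) (g : U ⟶ X) (h : g ≫ f = 𝟙 U)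
    [QuasiSeparated f] : QuasiCompact g := by
  have : QuasiCompact (g ≫ f) := by rw [h]; infer_instance
  exact QuasiCompact.of_comp g f


/-- Let (U, R, s, t, c) be a groupoid scheme over S with stabilizer group scheme G → U and identity
section e : U → G. Then j = (t, s) : R → U ×_S U is separated iff G → U is separated iff e is a
closed immersion; and j is quasi-separated iff G → U is quasi-separated iff e is quasi-compact. (A
groupoid scheme carries U, R, s, t, c, e, i over S with the groupoid axioms on T-points; 'finite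
locally free' is finite, flat and locally of finite presentation; C ⊂ Γ(U) is the ring of functions
a with s♯(a) = t♯(a) and M = Spec C.) -/
theorem result (S : Scheme.{u}) (G : Grpd.GroupoidScheme S) : ((IsSeparated G.j ↔ IsSeparated G.stabilizerToU) ∧ (IsSeparated G.stabilizerToU ↔ IsClosedImmersion G.eStab)) ∧ ((QuasiSeparated G.j ↔ QuasiSeparated G.stabilizerToU) ∧ (QuasiSeparated G.stabilizerToU ↔ QuasiCompact G.eStab)) := by
  have sq := (Grpd80.stIncl_isPullback G).flip
  have key₁ : IsSeparated G.j → IsSeparated G.stabilizerToU :=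
    fun h => MorphismProperty.of_isPullback sq.flip h
  have key₂ : IsSeparated G.stabilizerToU → IsClosedImmersion G.eStab :=
    fun _ => closedImmersion_section _ _ (Grpd80.eStab_toU G)
  have key₃ : IsClosedImmersion G.eStab → IsSeparated G.j :=
    fun h => ⟨Grpd80.diagonal_j_of_eStab G h⟩
  have key₁' : QuasiSeparated G.j → QuasiSeparated G.stabilizerToU :=
    fun h => MorphismProperty.of_isPullback sq.flip h
  have key₂' : QuasiSeparated G.stabilizerToU → QuasiCompact G.eStab :=
    fun _ => quasiCompact_section _ _ (Grpd80.eStab_toU G)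
  have key₃' : QuasiCompact G.eStab → QuasiSeparated G.j :=
    have := MorphismProperty.IsStableUnderBaseChange.respectsIso (P := @QuasiCompact.{u})
    fun h => ⟨Grpd80.diagonal_j_of_eStab G h⟩
  exact ⟨⟨⟨key₁, key₃ ∘ key₂⟩, ⟨key₂, key₁ ∘ key₃⟩⟩, ⟨⟨key₁', key₃' ∘ key₂'⟩, ⟨key₂', key₁' ∘ key₃'⟩⟩⟩

end Groth.Agent.S1886
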