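import Groth.Statements.S18863
import Groth.Statements.S18863
import Groth.Agent.Tors37.LimMor
import Groth.Agent.Tors37.GrpLim
import Groth.Agent.Approx60.LimitExists
import Groth.Agent.Sga84.TorsorExact
import Groth.Agent.Sga84.TorsorDesc
import Groth.Agent.Unr55.DescProps

set_option autoImplicit false
universe u
open CategoryTheory CategoryTheory.Limits MonoidalCategory CartesianMonoidalCategory MonObj GrpObj AlgebraicGeometry
open NonAbH1

namespace Groth.Agent.S18863

/-- Let k be a field and X a quasi-compact k-scheme. Let (G_i)_{i ∈ I} be a cofiltered inverse system of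
affine group schemes of finite type over k with limit G in the category of k-group schemes (a limit
cone of homomorphisms G → G_i), and (T_i)_{i ∈ I} an inverse system of X-schemes such that each T_i
is a torsor over X for the fpqc topology under the base change of G_i to X and each transition map
T_j → T_i is equivariant along G_j → G_i. Let T be a limit of the T_i over X, with an action of the
base change of G to X for which every projection T → T_i is equivariant along G → G_i. Then T is a
torsor over X under the base change of G for the fpqc topology. (The source indexes the system by a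
directed partially ordered set and also records that T is pointed over a rational point of X when
all the T_i are; the limit scheme, the limit group and the limit action, which exist and are unique,
are taken here as data.) -/
theorem result (k : Type u) [Field k]
    (X : Scheme.{u}) [X.Over (Spec (CommRingCat.of k))] [CompactSpace X]
    {I : Type u} [SmallCategory I] [IsCofiltered I]
    (DG : I ⥤ Grp (Over (Spec (CommRingCat.of k))))
    [∀ i, IsAffineHom (DG.obj i).X.hom] [∀ i, LocallyOfFiniteType (DG.obj i).X.hom]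
    (cG : Cone DG) (hcG : IsLimit cG)
    (DT : I ⥤ Over X)
    (aT : ∀ i, AlgGrp.Action (Red.bc (X ↘ Spec (CommRingCat.of k)) (DG.obj i).X) (DT.obj i))
    (hT : ∀ i, NonAbH1.IsTorsorFor Scheme.fpqcPrecoverage (aT i))
    (hDT : ∀ (i j : I) (φ : i ⟶ j), AlgGrp.Action.IsEquivariant (aT i)
      ((aT j).restrict ((Over.pullback (X ↘ Spec (CommRingCat.of k))).map (DG.map φ).hom.hom)) (DT.map φ))
    (cT : Cone DT) (hcT : IsLimit cT)
    (a : AlgGrp.Action (Red.bc (X ↘ Spec (CommRingCat.of k)) cG.pt.X) cT.pt)
    (ha : ∀ i, AlgGrp.Action.IsEquivariant a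
      ((aT i).restrict ((Over.pullback (X ↘ Spec (CommRingCat.of k))).map (cG.π.app i).hom.hom)) (cT.π.app i)) :
    NonAbH1.IsTorsorFor Scheme.fpqcPrecoverage a := by
  have : IsConnected I := IsCofiltered.isConnected I
  let s := X ↘ Spec (CommRingCat.of k)
  have hGlim : HasLimit (DG ⋙ Grp.forget (Over (Spec (CommRingCat.of k)))) := by
    have : ∀ i, IsAffine (((DG ⋙ Grp.forget _) ⋙ Over.forget _).obj i) := fun i => by
      have h : IsAffine (DG.obj i).X.left := isAffine_of_isAffineHom (DG.obj i).X.hom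
      exact h
    have := Groth.Agent.Approx60.hasLimit_of_isAffine ((DG ⋙ Grp.forget _) ⋙ Over.forget _)
    exact hasLimit_of_created (DG ⋙ Grp.forget _) (Over.forget _)
  obtain ⟨hG⟩ := Groth.Agent.Tors37.nonempty_isLimit_forget DG hcG
  have hGX := isLimitOfPreserves (Over.pullback s) hG
  let πG : ∀ i, Red.bc s cG.pt.X ⟶ Red.bc s (DG.obj i).X := fun i =>
    (Over.pullback s).map (cG.π.app i).hom.hom
  let tG : ∀ {i j : I}, (i ⟶ j) → (Red.bc s (DG.obj i).X ⟶ Red.bc s (DG.obj j).X) := fun φ =>
    (Over.pullback s).map (DG.map φ).hom.hom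
  have key : ∀ {Z : Over X} (p q : Z ⟶ cT.pt), ∃! ξ : Z ⟶ Red.bc s cG.pt.X, lift ξ p ≫ a.act = q := by
    intro Z p q
    choose ξ hξ hu using fun i => Groth.Agent.Sga84.existsUnique_actPt (aT i) (hT i).1
      (p ≫ cT.π.app i) (q ≫ cT.π.app i)
    have hξ' : ∀ i, lift (ξ i) (p ≫ cT.π.app i) ≫ (aT i).act = q ≫ cT.π.app i := hξ
    have hcompat : ∀ {i j : I} (φ : i ⟶ j), ξ i ≫ tG φ = ξ j := fun {i j} φ => by
      refine hu j _ ?_
      show lift (ξ i ≫ tG φ) (p ≫ cT.π.app j) ≫ (aT j).act = q ≫ cT.π.app j
      rw [← AlgGrp.Action.lift_restrict_act (tG φ) (aT j), ← cT.w φ, ← Category.assoc p,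
        ← Category.assoc q, ← hξ' i, Category.assoc (lift (ξ i) (p ≫ cT.π.app i)), hDT i j φ,
        lift_whiskerLeft_assoc]
    let g : Z ⟶ Red.bc s cG.pt.X := hGX.lift ⟨Z,
      { app := ξ
        naturality := fun i j φ => (Category.id_comp _).trans (hcompat φ).symm }⟩
    have hg : ∀ i, g ≫ πG i = ξ i := fun i => hGX.fac _ i
    have hpt : ∀ (g' : Z ⟶ Red.bc s cG.pt.X) (i : I), (lift g' p ≫ a.act) ≫ cT.π.app i =
        lift (g' ≫ πG i) (p ≫ cT.π.app i) ≫ (aT i).act := fun g' i => by
      rw [Category.assoc, ha i, lift_whiskerLeft_assoc, AlgGrp.Action.restrict_act, lift_whiskerRight_assoc]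
    refine ⟨g, hcT.hom_ext fun i => ?_, fun g' hg' => hGX.hom_ext fun i => ?_⟩
    · rw [hpt, hg, hξ']
    · show g' ≫ πG i = g ≫ πG i
      rw [hg]
      exact hu i _ (show lift (g' ≫ πG i) (p ≫ cT.π.app i) ≫ (aT i).act = q ≫ cT.π.app i by
        rw [← hpt, hg'])
  refine ⟨?_, ?_⟩
  · obtain ⟨ξ, hξ, -⟩ := key (snd cT.pt cT.pt) (fst cT.pt cT.pt)
    refine ⟨⟨lift ξ (snd cT.pt cT.pt), ?_, ?_⟩⟩
    · rw [comp_lift, lift_snd]
      obtain ⟨ξ', -, hu'⟩ := key (snd (Red.bc s cG.pt.X) cT.pt) a.act
      have e1 : lift a.act (snd (Red.bc s cG.pt.X) cT.pt) ≫ ξ = ξ' := hu' _ (by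
        have := congrArg (lift a.act (snd (Red.bc s cG.pt.X) cT.pt) ≫ ·) hξ
        simp only [comp_lift_assoc, lift_snd, lift_fst] at this
        exact this)
      have e2 : fst (Red.bc s cG.pt.X) cT.pt = ξ' := hu' _ (by beta_reduce; rw [lift_fst_snd, Category.id_comp])
      rw [e1, ← e2, lift_fst_snd]
    · rw [comp_lift, lift_snd, hξ, lift_fst_snd]
  · have hprops : ∀ i, IsAffineHom (DT.obj i).hom ∧ Flat (DT.obj i).hom ∧ Surjective (DT.obj i).hom := by
      intro i
      have hGaff : IsAffineHom (Red.bc s (DG.obj i).X).hom :=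
        MorphismProperty.pullback_snd (P := @IsAffineHom) _ _ inferInstance
      have hGflat : Flat (Red.bc s (DG.obj i).X).hom :=
        MorphismProperty.pullback_snd (P := @Flat) _ _ inferInstance
      have := Groth.Agent.Unr55.isAffineHom.{u}
      have := Groth.Agent.Sga84.flat_descendsAlong.{u}
      exact ⟨Groth.Agent.Sga84.hom_of_isTorsorFor @IsAffineHom hGaff (hT i),
        Groth.Agent.Sga84.hom_of_isTorsorFor @Flat hGflat (hT i),
        Groth.Agent.Sga84.surjective_of_isLocallyTrivialFor (hT i).2⟩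
    have : ∀ i, IsAffineHom (DT.obj i).hom := fun i => (hprops i).1
    have := Groth.Agent.Tors37.isAffineHom_of_isLimit DT cT hcT
    have := Groth.Agent.Tors37.flat_of_isLimit DT cT hcT fun i => (hprops i).2.1
    have := Groth.Agent.Tors37.surjective_of_isLimit DT cT hcT fun i => (hprops i).2.2
    refine ⟨Presieve.singleton cT.pt.hom, cT.pt.hom.singleton_mem_fpqcPrecoverage, ?_⟩
    rintro S' f ⟨⟩
    exact ⟨𝟙 _, Category.id_comp _⟩

end Groth.Agent.S18863
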