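import Groth.Statements.S18864
import Mathlib.RingTheory.Flat.Basic
import Mathlib.RingTheory.FiniteType
import Mathlib.RingTheory.Flat.Equalizer
import Mathlib.LinearAlgebra.Basis.VectorSpace
import Mathlib.LinearAlgebra.Dimension.Free

set_option autoImplicit false
universe u v w
open HopfRep

namespace Groth.Agent.S18864

open TensorProduct
/-- Let k be a field and G = lim G_i a pro-algebraic group scheme over k, so that G = Spec A with A the
direct limit of the Hopf algebras A_i of the affine group schemes G_i of finite type; assume
moreover that the maps A_i → A are injective, so that A is the directed union of the A_i, here given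
as injective bialgebra maps A_i → A with directed, jointly covering images. Then every homomorphism
from G to an affine group scheme H = Spec B of finite type over k factors through some projection G
→ G_i: every bialgebra map f : B → A with B finitely generated as a k-algebra is the composite of
A_i → A with a bialgebra map B → A_i for some i. (The published statement allows arbitrary
transition maps in the system; this row assumes each A_i → A injective, the case the printed
argument treats. The source also states the pro-finite variant with H finite, which is the case of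
finite-dimensional A_i and B; finite generation of the A_i is not used.) -/
theorem result (k : Type u) [Field k]
    (A : Type v) [CommRing A] [HopfAlgebra k A] {ι : Type v} (Aι : ι → Type v)
    [∀ i, CommRing (Aι i)] [∀ i, HopfAlgebra k (Aι i)] (emb : ∀ i, Aι i →ₐc[k] A)
    (hinj : ∀ i, Function.Injective (emb i))
    (hdir : ∀ i j, ∃ l, Set.range (emb i) ⊆ Set.range (emb l) ∧ Set.range (emb j) ⊆ Set.range (emb l))
    (hcov : ∀ a : A, ∃ i, a ∈ Set.range (emb i))
    (B : Type w) [CommRing B] [HopfAlgebra k B] [Algebra.FiniteType k B] (f : B →ₐc[k] A) :
    ∃ (i : ι) (g : B →ₐc[k] Aι i), (emb i).comp g = f := by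
  classical
  obtain ⟨S, hS⟩ := Algebra.FiniteType.out (R := k) (A := B)
  obtain ⟨i0, -⟩ := hcov 0
  have hfin : ∀ T : Finset B, ∃ i, ∀ b ∈ T, f b ∈ Set.range (emb i) := by
    intro T
    induction T using Finset.induction with
    | empty => exact ⟨i0, by simp⟩
    | insert b T _ ih =>
      obtain ⟨i, hi⟩ := ih
      obtain ⟨j, hj⟩ := hcov (f b)
      obtain ⟨l, h1, h2⟩ := hdir i j
      exact ⟨l, fun c hc => (Finset.mem_insert.1 hc).elim (fun h => h ▸ h2 hj) fun h => h1 (hi c h)⟩
  obtain ⟨i, hi⟩ := hfin S
  let E : Aι i →ₐ[k] A := (emb i : Aι i →ₐ[k] A)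
  let F : B →ₐ[k] A := (f : B →ₐ[k] A)
  have hrange : ∀ b, F b ∈ E.range := by
    have : (⊤ : Subalgebra k B) ≤ E.range.comap F := hS ▸ Algebra.adjoin_le fun b hb => hi b hb
    exact fun b => this trivial
  let g : B →ₐ[k] Aι i := (AlgEquiv.ofInjective E (hinj i)).symm.toAlgHom.comp (F.codRestrict E.range hrange)
  have hg : ∀ b, emb i (g b) = f b := fun b =>
    congrArg Subtype.val ((AlgEquiv.ofInjective E (hinj i)).apply_symm_apply ⟨F b, hrange b⟩)
  have hee : Function.Injective (TensorProduct.map (emb i).toLinearMap (emb i).toLinearMap) := by
    rw [← LinearMap.rTensor_comp_lTensor]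
    exact (Module.Flat.rTensor_preserves_injective_linearMap (R := k) (emb i).toLinearMap (hinj i)).comp
      (Module.Flat.lTensor_preserves_injective_linearMap (R := k) (emb i).toLinearMap (hinj i))
  refine ⟨i, BialgHom.ofAlgHom g ?_ ?_, BialgHom.ext hg⟩
  · refine AlgHom.ext fun b => ?_
    show Coalgebra.counit (R := k) (g b) = Coalgebra.counit (R := k) b
    rw [← CoalgHomClass.counit_comp_apply (emb i), hg, CoalgHomClass.counit_comp_apply]
  · refine AlgHom.ext fun b => hee ?_
    show TensorProduct.map (emb i).toLinearMap (emb i).toLinearMap
        (Algebra.TensorProduct.map g g (CoalgebraStruct.comul (R := k) b)) =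
      TensorProduct.map (emb i).toLinearMap (emb i).toLinearMap (CoalgebraStruct.comul (R := k) (g b))
    refine Eq.trans ?_ (CoalgHomClass.map_comp_comul_apply (emb i) (g b)).symm
    rw [hg, ← CoalgHomClass.map_comp_comul_apply f b]
    generalize CoalgebraStruct.comul (R := k) b = z
    induction z with
    | zero => simp
    | add x y hx hy => simp only [map_add, hx, hy]
    | tmul x y => exact congrArg₂ (fun a c => a ⊗ₜ[k] c) (hg x) (hg y)

end Groth.Agent.S18864
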