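import Groth.Statements.S18868
import Groth.Agent.Link31.CI

set_option autoImplicit false
universe u
open Liaison

namespace Groth.Agent.S18868

/-- Let K be a field, R = K[x_0, …, x_n] graded by degree, c ≥ 2, 𝔠 ⊂ R a homogeneous complete
intersection of codimension c, that is a homogeneous ideal of height c generated by c elements g_1,
…, g_c, and I ⊂ R a homogeneous ideal of height c with R/I Cohen–Macaulay which properly contains 𝔠
and has the form I = 𝔠 + fR for some f (so I is an almost complete intersection). Then the linked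
ideal J = 𝔠 : I has height c and R/J is a Gorenstein ring. (A Gorenstein ideal of the notes, one
whose quotient is Cohen–Macaulay with last graded Betti number 1, is rendered as: the quotient ring
is Gorenstein.) -/
theorem result (K : Type u) [Field K] (n c : ℕ) (hc : 2 ≤ c)
    (g : Fin c → MvPolynomial (Fin (n + 1)) K) (f : MvPolynomial (Fin (n + 1)) K) (𝔠 I : Ideal (MvPolynomial (Fin (n + 1)) K)) (h𝔠g : Ideal.span (Set.range g) = 𝔠)
    (h𝔠 : 𝔠.IsHomogeneous (GrSyz.stdGr K (Fin (n + 1)))) (hI : I.IsHomogeneous (GrSyz.stdGr K (Fin (n + 1))))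
    (h𝔠c : 𝔠.height = c) (hIc : I.height = c) [LocCoh.IsCohenMacaulayRing (MvPolynomial (Fin (n + 1)) K ⧸ I)]
    (hlt : 𝔠 < I) (hIf : I = 𝔠 ⊔ Ideal.span {f}) :
    (𝔠.colon (I : Set (MvPolynomial (Fin (n + 1)) K))).height = c ∧
      LocCoh.IsGorensteinRing (MvPolynomial (Fin (n + 1)) K ⧸ 𝔠.colon (I : Set (MvPolynomial (Fin (n + 1)) K))) := by
  classical
  haveI := Gor18.gorRing_of_pid K
  haveI := Gor18.gorRing_mvPolynomial K (n + 1)
  have hset : {r | r ∈ List.ofFn g} = Set.range g := Set.ext fun r => by simp [List.mem_ofFn]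
  have hl : Ideal.ofList (List.ofFn g) = 𝔠 := by rw [← h𝔠g, ← hset]
  haveI : LocCoh.IsGorensteinRing (MvPolynomial (Fin (n + 1)) K ⧸ 𝔠) :=
    hl ▸ Link31.gorRing_quot_ci (List.ofFn g) (by rw [hl, List.length_ofFn]; exact h𝔠c)
  haveI := Liaison54.cm_of_gor (MvPolynomial (Fin (n + 1)) K ⧸ 𝔠)
  have hcI : 𝔠 ≤ I := hlt.le
  have hmin : ∀ Q ∈ I.minimalPrimes, Q ∈ 𝔠.minimalPrimes := fun Q hQ => by
    haveI := hQ.1.1
    exact Ideal.mem_minimalPrimes_of_height_le (hcI.trans hQ.1.2)
      ((Liaison54.height_eq_of_minimal hI hQ).trans (hIc.trans h𝔠c.symm)).le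
  set J := 𝔠.colon (I : Set (MvPolynomial (Fin (n + 1)) K)) with hJ
  have hne : J ≠ ⊤ := fun e => hlt.not_ge fun x hx => by
    simpa using Submodule.mem_colon.1 ((Ideal.eq_top_iff_one _).1 e) x hx
  refine ⟨le_antisymm ?_ ?_, Link31.gor_linked hIf hmin rfl⟩
  · obtain ⟨P, hP⟩ := Ideal.nonempty_minimalPrimes hne
    haveI := hP.1.1
    have hP' := Liaison54.ass_quot_minimal (Liaison54.ass_colon_subset 𝔠 I (Liaison54.minimal_mem_ass hP))
    rw [← h𝔠g] at hP'
    refine (Ideal.height_mono hP.1.2).trans ?_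
    refine (Ideal.height_le_card_of_mem_minimalPrimes_span (Set.finite_range g) hP').trans ?_
    exact_mod_cast (Finite.card_range_le g).trans_eq (Nat.card_fin c)
  · rw [← h𝔠c]
    exact Ideal.height_mono (Liaison54.le_colon 𝔠 I)

end Groth.Agent.S18868
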