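import Groth.Statements.S18869
import Groth.Agent.Link31.Global

set_option autoImplicit false
universe u
open Liaison

namespace Groth.Agent.S18869

/-- Let K be a field, R = K[x_0, …, x_n] graded by degree, and I₁, I₂ ⊂ R homogeneous ideals of the same
height c such that R/I₁ and R/I₂ are Cohen–Macaulay rings (they define arithmetically Cohen–Macaulay
subschemes of codimension c) and I₁, I₂ have no minimal prime in common (no common component). If
R/(I₁ ∩ I₂) is a Gorenstein ring (the union is arithmetically Gorenstein), then I₁ + I₂ has height c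
+ 1 and R/(I₁ + I₂) is a Gorenstein ring (the intersection is arithmetically Gorenstein of
codimension c + 1). (Arithmetically Gorenstein, in the notes arithmetically Cohen–Macaulay with last
graded Betti number 1, is rendered as: the quotient ring is Gorenstein.) -/
theorem result (K : Type u) [Field K] (n c : ℕ)
    (I₁ I₂ : Ideal (MvPolynomial (Fin (n + 1)) K))
    (hI₁ : I₁.IsHomogeneous (GrSyz.stdGr K (Fin (n + 1)))) (hI₂ : I₂.IsHomogeneous (GrSyz.stdGr K (Fin (n + 1))))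
    [LocCoh.IsCohenMacaulayRing (MvPolynomial (Fin (n + 1)) K ⧸ I₁)] [LocCoh.IsCohenMacaulayRing (MvPolynomial (Fin (n + 1)) K ⧸ I₂)]
    (h₁ : I₁.height = c) (h₂ : I₂.height = c) (hdisj : Disjoint I₁.minimalPrimes I₂.minimalPrimes)
    [LocCoh.IsGorensteinRing (MvPolynomial (Fin (n + 1)) K ⧸ (I₁ ⊓ I₂))] :
    (I₁ ⊔ I₂).height = c + 1 ∧ LocCoh.IsGorensteinRing (MvPolynomial (Fin (n + 1)) K ⧸ (I₁ ⊔ I₂)) := by
  have hm₁ : ∀ Q ∈ I₁.minimalPrimes, ¬ I₂ ≤ Q := fun Q hQ h => by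
    haveI := hQ.1.1
    exact Set.disjoint_left.1 hdisj hQ (Ideal.mem_minimalPrimes_of_height_le h
      ((Liaison54.height_eq_of_minimal hI₁ hQ).trans (h₁.trans h₂.symm)).le)
  have hm₂ : ∀ Q ∈ I₂.minimalPrimes, ¬ I₁ ≤ Q := fun Q hQ h => by
    haveI := hQ.1.1
    exact Set.disjoint_right.1 hdisj hQ (Ideal.mem_minimalPrimes_of_height_le h
      ((Liaison54.height_eq_of_minimal hI₂ hQ).trans (h₂.trans h₁.symm)).le)
  have hne₁ : I₁ ≠ ⊤ := fun e => by rw [e, Ideal.height_top] at h₁; exact ENat.top_ne_natCast c h₁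
  have hne₂ : I₂ ≠ ⊤ := fun e => by rw [e, Ideal.height_top] at h₂; exact ENat.top_ne_natCast c h₂
  have hne : I₁ ⊔ I₂ ≠ ⊤ := fun e => by
    obtain ⟨a, ha, b, hb, hab⟩ := Submodule.mem_sup.1 ((Ideal.eq_top_iff_one _).1 e)
    have h := congrArg MvPolynomial.constantCoeff hab
    rw [map_add, Liaison54.homog_coeff_zero hI₁ hne₁ a ha, Liaison54.homog_coeff_zero hI₂ hne₂ b hb,
      add_zero, map_one] at h
    exact zero_ne_one h
  refine ⟨le_antisymm ?_ ?_, ⟨fun q _ => ?_⟩⟩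
  · obtain ⟨P, hP⟩ := Ideal.nonempty_minimalPrimes hne
    haveI := hP.1.1
    obtain ⟨Q, y, hQ, hQP, hPy⟩ := (Link31.union_local hm₁ hm₂ hP.1.2).2 hP
    haveI := hQ.1.1
    haveI := Gor18.gorRing_of_pid K
    haveI := Gor18.gorRing_mvPolynomial K (n + 1)
    haveI := Liaison54.cm_of_gor (MvPolynomial (Fin (n + 1)) K)
    refine (Ideal.height_mono hP.1.2).trans
      ((Liaison54.height_le_succ_of_minimal hQP hPy).trans (add_le_add_left (le_of_eq ?_) 1))
    rcases hQ.1.1.inf_le.1 hQ.1.2 with h | h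
    · rw [← h₁]
      exact Liaison54.height_eq_of_minimal hI₁
        ⟨⟨hQ.1.1, h⟩, fun J hJ hJQ => hQ.2 ⟨hJ.1, inf_le_left.trans hJ.2⟩ hJQ⟩
    · rw [← h₂]
      exact Liaison54.height_eq_of_minimal hI₂
        ⟨⟨hQ.1.1, h⟩, fun J hJ hJQ => hQ.2 ⟨hJ.1, inf_le_right.trans hJ.2⟩ hJQ⟩
  · rw [Ideal.height_eq_inf_minimalPrimes (I₁ ⊔ I₂)]
    refine le_iInf₂ fun P hP => ?_
    haveI := hP.1.1
    obtain ⟨Q, hQ, hQP⟩ := Ideal.exists_minimalPrimes_le (le_sup_left.trans hP.1.2)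
    haveI := hQ.1.1
    have hlt : Q < P := lt_of_le_of_ne hQP fun e => hm₁ Q hQ (le_sup_right.trans (e ▸ hP.1.2))
    rw [← h₁, ← Liaison54.height_eq_of_minimal hI₁ hQ]
    exact Order.add_one_le_of_lt (Ideal.height_strict_mono_of_isPrime hlt)
  · set P := q.comap (Ideal.Quotient.mk (I₁ ⊔ I₂))
    obtain ⟨e⟩ := Link31.loc_equiv (c := I₁ ⊓ I₂) (inf_le_left.trans le_sup_left) q
    exact (Gor18.gor_congr (R := Link31.LocQ (I₁ ⊓ I₂) P ⧸ (I₁ ⊔ I₂).map (Link31.φ (I₁ ⊓ I₂) P)) e).1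
      (Link31.union_local hm₁ hm₂ (Link31.le_comap_mk q)).1

end Groth.Agent.S18869
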