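import Groth.Statements.S18874
import Groth.Agent.Approx60.ProperDesc
import Groth.Agent.LimTop61.StalkLimit
import Groth.Agent.Unr55.DescProps
import Groth.Agent.EGA4H10.OpenFormal
open CategoryTheory CategoryTheory.Limits AlgebraicGeometry

set_option autoImplicit false
set_option backward.isDefEq.respectTransparency false
set_option backward.defeqAttrib.useBackward true
universe u
open Lim

namespace Groth.Agent.S18874

open CategoryTheory AlgebraicGeometry in
/-- Let S be a quasi-compact scheme whose affine opens have excellent coordinate rings, let X → S and Y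
→ S be quasi-compact, quasi-separated and locally of finite presentation, let f : X → Y be a
morphism over S, let s be a closed point of S and R the completion of the local ring of S at s. If
the base change X ×_S Spec R → Y ×_S Spec R of f is proper, then s has an open neighbourhood W in S
such that X ×_S W → Y ×_S W is proper. (The published statement assumes X and Y only locally of
finite presentation over S; for S the affine line over a field, s the origin, Y = S and X the
disjoint union of S with one reduced point over each closed point other than s, the base change to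
Spec R is an isomorphism while X ×_S W → W is not quasi-compact for any open W ∋ s, so X and Y are
taken of finite presentation over S here, which is what the limit argument of the published proof
uses.) -/
theorem result
    (S : Scheme.{u}) [CompactSpace S] (hS : ∀ U : S.affineOpens, EGA4.IsExcellent Γ(S, U.1))
    {X Y : Scheme.{u}} (f : X ⟶ Y) (g : Y ⟶ S)
    [QuasiCompact g] [QuasiSeparated g] [LocallyOfFinitePresentation g]
    [QuasiCompact (f ≫ g)] [QuasiSeparated (f ≫ g)] [LocallyOfFinitePresentation (f ≫ g)]
    (s : S) (hs : IsClosed ({s} : Set S))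
    (hR : IsProper (Limits.pullback.snd f (Limits.pullback.fst g
      (Spec.map (CommRingCat.ofHom (algebraMap (S.presheaf.stalk s) (EGA4.Cpl (S.presheaf.stalk s)))) ≫
        S.fromSpecStalk s)))) :
    ∃ W : S.Opens, s ∈ W ∧ IsProper (f ∣_ (g ⁻¹ᵁ W)) := by
  have : IsLocallyNoetherian S := ⟨fun U => (hS U).1⟩
  let A := S.presheaf.stalk s
  have := Groth.Agent.EGA4H10.faithfullyFlat_cpl A
  let cR := CommRingCat.ofHom (algebraMap A (EGA4.Cpl A))
  have hcR : Unr55.fpqc (Spec.map cR) := by
    refine ⟨⟨⟨?_⟩, ?_⟩, inferInstance⟩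
    · exact PrimeSpectrum.comap_surjective_of_faithfullyFlat
    · rw [HasRingHomProperty.Spec_iff (P := @Flat)]
      exact RingHom.flat_algebraMap_iff.mpr inferInstance
  let p := S.fromSpecStalk s
  let Ys := pullback g p
  let cY : pullback g (Spec.map cR ≫ p) ⟶ Ys :=
    pullback.lift (pullback.fst _ _) (pullback.snd _ _ ≫ Spec.map cR) (by rw [Category.assoc]; exact pullback.condition)
  have hcYsq : IsPullback cY (pullback.snd g (Spec.map cR ≫ p)) (pullback.snd g p) (Spec.map cR) := by
    refine IsPullback.of_right ?_ (pullback.lift_snd _ _ _) (IsPullback.of_hasPullback g p)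
    rw [show cY ≫ pullback.fst g p = pullback.fst g (Spec.map cR ≫ p) from pullback.lift_fst _ _ _]
    exact IsPullback.of_hasPullback g (Spec.map cR ≫ p)
  have hcY : Unr55.fpqc cY :=
    ⟨⟨MorphismProperty.of_isPullback hcYsq.flip hcR.1.1, MorphismProperty.of_isPullback hcYsq.flip hcR.1.2⟩,
      MorphismProperty.of_isPullback hcYsq.flip hcR.2⟩
  let Xs := pullback f (pullback.fst g p)
  let fs : Xs ⟶ Ys := pullback.snd f (pullback.fst g p)
  have hsqX : IsPullback (pullback.lift (pullback.fst f (pullback.fst g (Spec.map cR ≫ p)))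
      (pullback.snd _ _ ≫ cY) (by rw [Category.assoc, pullback.lift_fst]; exact pullback.condition))
      (pullback.snd f (pullback.fst g (Spec.map cR ≫ p))) fs cY := by
    refine IsPullback.of_right ?_ (pullback.lift_snd _ _ _) (IsPullback.of_hasPullback f (pullback.fst g p))
    rw [pullback.lift_fst, pullback.lift_fst]
    exact IsPullback.of_hasPullback f (pullback.fst g (Spec.map cR ≫ p))
  haveI := Groth.Agent.Unr55.isProper.{u}
  have : IsProper fs :=
    MorphismProperty.of_isPullback_of_descendsAlong (P := @IsProper) (Q := Unr55.fpqc) hsqX.flip hcY hR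
  let D := LimTop61.nhdSpec S s
  let i₀ : (LimTop61.AffineNhd S s)ᵒᵖ := Opposite.op (Classical.arbitrary _)
  let ι := (LimTop61.nhdι S s).app i₀
  have hι : ∀ i, IsOpenImmersion ((LimTop61.nhdι S s).app i) := fun i => IsAffineOpen.isOpenImmersion_fromSpec _
  have := hι i₀
  let Y₀ := pullback g ι
  let g₀ : Y₀ ⟶ D.obj i₀ := pullback.snd g ι
  have : LocallyOfFiniteType f := locallyOfFiniteType_of_comp f g
  let f₀ : pullback f (pullback.fst g ι) ⟶ Y₀ := pullback.snd f (pullback.fst g ι)
  have : CompactSpace Y₀ := QuasiCompact.compactSpace_of_compactSpace g₀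
  have : QuasiSeparatedSpace Y₀ := quasiSeparatedSpace_of_quasiSeparated g₀

  have hX₀ : IsPullback (pullback.fst f (pullback.fst g ι)) (f₀ ≫ g₀) (f ≫ g) ι :=
    (IsPullback.of_hasPullback f (pullback.fst g ι)).paste_vert (IsPullback.of_hasPullback g ι)
  have : QuasiCompact (f₀ ≫ g₀) := MorphismProperty.of_isPullback hX₀ inferInstance
  have : QuasiSeparated (f₀ ≫ g₀) := MorphismProperty.of_isPullback hX₀ inferInstance
  have : CompactSpace ↑(pullback f (pullback.fst g ι)) :=
    QuasiCompact.compactSpace_of_compactSpace (f₀ ≫ g₀)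
  have : QuasiSeparatedSpace ↑(pullback f (pullback.fst g ι)) :=
    quasiSeparatedSpace_of_quasiSeparated (f₀ ≫ g₀)
  have hπ : (LimTop61.nhdCone S s).π.app i₀ ≫ ι = p := LimTop61.nhdCone_π_ι S s i₀
  let qY : Ys ⟶ Y₀ := pullback.lift (pullback.fst g p) (pullback.snd g p ≫ (LimTop61.nhdCone S s).π.app i₀)
    (by rw [Category.assoc, hπ]; exact pullback.condition)
  have hY : IsPullback qY (pullback.snd g p) g₀ ((LimTop61.nhdCone S s).π.app i₀) := by
    refine IsPullback.of_right ?_ (pullback.lift_snd _ _ _) (IsPullback.of_hasPullback g ι)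
    rw [pullback.lift_fst, hπ]
    exact IsPullback.of_hasPullback g p
  let qX : Xs ⟶ pullback f (pullback.fst g ι) := pullback.lift (pullback.fst f _) (fs ≫ qY)
    (by rw [Category.assoc, pullback.lift_fst]; exact pullback.condition)
  have hX : IsPullback qX fs f₀ qY := by
    refine IsPullback.of_right ?_ (pullback.lift_snd _ _ _) (IsPullback.of_hasPullback f (pullback.fst g ι))
    rw [pullback.lift_fst, pullback.lift_fst]
    exact IsPullback.of_hasPullback f (pullback.fst g p)
  obtain ⟨i, φ, Xi, Yi, fi, gi, pY, pX, hYi, hXi, hfi⟩ := Groth.Agent.Approx60.S2074 D (LimTop61.nhdCone S s)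
    (LimTop61.isLimitNhdCone S s) i₀ f₀ g₀ fs (pullback.snd g p) qY qX hY hX
  let ιi := (LimTop61.nhdι S s).app i
  have := hι i
  have hφ : D.map φ ≫ ι = ιi := ((LimTop61.nhdι S s).naturality φ).trans (Category.comp_id _)
  have hYb : IsPullback (pY ≫ pullback.fst g ι) gi g ιi := by
    rw [← hφ]; exact hYi.paste_horiz (IsPullback.of_hasPullback g ι)
  have hXb : IsPullback (pX ≫ pullback.fst f (pullback.fst g ι)) fi f (pY ≫ pullback.fst g ι) :=
    hXi.paste_horiz (IsPullback.of_hasPullback f (pullback.fst g ι))
  have : IsOpenImmersion (pY ≫ pullback.fst g ι) := MorphismProperty.of_isPullback hYb.flip (hι i)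
  refine ⟨ιi.opensRange, ?_, ?_⟩
  · change s ∈ Set.range ιi
    rw [show Set.range ιi = ((OrderDual.ofDual i.unop).1.1 : Set S) from IsAffineOpen.range_fromSpec _]
    exact (OrderDual.ofDual i.unop).2
  have e : g ⁻¹ᵁ ιi.opensRange = (pY ≫ pullback.fst g ι).opensRange := by
    ext y
    refine ⟨fun ⟨w, hw⟩ => ?_, ?_⟩
    · obtain ⟨o, ho, -⟩ := Scheme.exists_preimage_of_isPullback hYb y w hw.symm
      exact ⟨o, ho⟩
    · rintro ⟨o, rfl⟩
      exact ⟨gi o, by rw [← Scheme.Hom.comp_apply, ← hYb.w, Scheme.Hom.comp_apply]; rfl⟩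
  rw [e, MorphismProperty.arrow_mk_iso_iff @IsProper (morphismRestrictOpensRange f _)]
  rw [show pullback.snd f (pY ≫ pullback.fst g ι) = hXb.isoPullback.inv ≫ fi by simp]
  exact (MorphismProperty.cancel_left_of_respectsIso @IsProper hXb.isoPullback.inv fi).mpr hfi

end Groth.Agent.S18874
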