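import Groth.Statements.S18877
import Groth.Agent.LimTop61.Cons
import Groth.Agent.LimTop61.ConsClosed
import Groth.Agent.NearGen2.GeomConn
import Groth.Agent.FBase64.Geometric
import Groth.Agent.ConsPts12.Cons

set_option autoImplicit false
set_option backward.isDefEq.respectTransparency false
universe u
open Lim

namespace Groth.Agent.S18877

open CategoryTheory CategoryTheory.Limits AlgebraicGeometry

/-- Points all of whose field-valued fibres are preconnected. -/
def GoodPts {X S : Scheme.{u}} (f : X ⟶ S) : Set S :=
  {s | ∀ (K : Type u) [Field K] (t : Spec (CommRingCat.of K) ⟶ S),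
    t (Classical.arbitrary _) = s → PreconnectedSpace ↥(pullback f t)}

lemma preconnected_of_surjective {X Y : Scheme.{u}} (g : X ⟶ Y) [Surjective g] [PreconnectedSpace ↥X] :
    PreconnectedSpace ↥Y :=
  ⟨(Set.range_eq_univ.mpr g.surjective) ▸ isPreconnected_range g.continuous⟩

lemma goodPts_isIndConstructible {X S : Scheme.{u}} (f : X ⟶ S) [QuasiCompact f] [LocallyOfFiniteType f]
    [IsLocallyNoetherian S] : ProCons.IsIndConstructible (GoodPts f) := by
  refine ConsPts12.isIndConstructible_of_nhds fun x hx => ?_
  let C : TopologicalSpace.Closeds S := ⟨closure {x}, isClosed_closure⟩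
  let ι := (Scheme.IdealSheafData.vanishingIdeal C).subschemeι
  have hr : Set.range ι = closure {x} := SchBasics.range_vanishingIdeal_subschemeι _
  have : IrreducibleSpace ↥(Scheme.IdealSheafData.vanishingIdeal C).subscheme := by
    have : IrreducibleSpace ↥(Set.range ι) :=
      Subtype.irreducibleSpace (hr ▸ isIrreducible_singleton.closure)
    exact ι.isEmbedding.toHomeomorph.irreducibleSpace_iff.mpr this
  set η := genericPoint ↥(Scheme.IdealSheafData.vanishingIdeal C).subscheme
  have hη : ι η = x := by
    have h : IsGenericPoint (ι η) (closure (ι '' Set.univ)) :=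
      (genericPoint_spec _).image ι.continuous
    rw [Set.image_univ, hr, isClosed_closure.closure_eq] at h
    exact h.eq isGenericPoint_closure
  let g := pullback.snd f ι
  have near : NearGen2.Near fun z => ι z ∈ GoodPts f := by
    have lift : ∀ z, (∀ (K : Type u) [Field K] (t : Spec (CommRingCat.of K) ⟶ _),
        t (Classical.arbitrary _) = z → PreconnectedSpace ↥(pullback g t)) → ι z ∈ GoodPts f := by
      intro z hz K _ t ht
      haveI : Surjective (pullback.snd ι t) := ⟨fun p => by
        obtain ⟨q, -, hq⟩ := Scheme.Pullback.exists_preimage_pullback (f := ι) (g := t) z p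
          (by rw [← ht, Subsingleton.elim p (Classical.arbitrary _)])
        exact ⟨q, hq⟩⟩
      haveI := isIso_of_isClosedImmersion_of_surjective (pullback.snd ι t)
      have h' : inv (pullback.snd ι t) ≫ pullback.fst ι t ≫ ι = t := by
        rw [pullback.condition, IsIso.inv_hom_id_assoc]
      have := hz K (inv (pullback.snd ι t) ≫ pullback.fst ι t) (ι.isEmbedding.injective <| by
        rw [← ht, ← Scheme.Hom.comp_apply, Category.assoc, h'])
      have := (pullbackLeftPullbackSndIso f ι (inv (pullback.snd ι t) ≫ pullback.fst ι t)).hom.homeomorph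
      haveI : PreconnectedSpace ↥(pullback f ((inv (pullback.snd ι t) ≫ pullback.fst ι t) ≫ ι)) :=
        preconnected_of_surjective
          (pullbackLeftPullbackSndIso f ι (inv (pullback.snd ι t) ≫ pullback.fst ι t)).hom
      exact preconnected_of_surjective (pullback.congrHom (f₁ := f) rfl
        ((Category.assoc _ _ _).trans h')).hom
    by_cases hne : ∃ w, g w = η
    · have hconn : GeometricallyConnected (g.fiberToSpecResidueField η) := by
        refine ⟨geometrically_iff_of_isClosedUnderIsomorphisms.mpr fun K _ y => ?_⟩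
        let t := y ≫ Scheme.fromSpecResidueField _ η
        haveI : PreconnectedSpace ↥(pullback f (t ≫ ι)) := hx K (t ≫ ι) (by
          rw [Scheme.Hom.comp_apply, Scheme.Hom.comp_apply, Scheme.fromSpecResidueField_apply, hη])
        haveI : PreconnectedSpace ↥(pullback g t) :=
          preconnected_of_surjective (pullbackLeftPullbackSndIso f ι t).inv
        haveI : Nonempty ↥(pullback g t) := by
          obtain ⟨w, hw⟩ := hne
          obtain ⟨q, -, -⟩ := Scheme.Pullback.exists_preimage_pullback (f := g) (g := t) w
            (Classical.arbitrary _) (by rw [hw, Scheme.Hom.comp_apply, Scheme.fromSpecResidueField_apply])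
          exact ⟨q⟩
        haveI : ConnectedSpace ↥(pullback g t) := ⟨‹_›⟩
        exact (pullbackLeftPullbackSndIso g _ y).symm.hom.homeomorph.connectedSpace_iff.mp this
      refine (NearGen2.near_geometricallyConnected g hconn).mono fun z hz => lift z fun K _ t ht => ?_
      obtain ⟨⟨p, φ⟩, hp⟩ := (Scheme.SpecToEquivOfField K _).symm.surjective t
      change Spec.map φ ≫ Scheme.fromSpecResidueField _ p = t at hp
      obtain rfl : p = z := by
        rw [← ht, ← hp, Scheme.Hom.comp_apply, Scheme.fromSpecResidueField_apply]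
      haveI : ConnectedSpace ↥(pullback (g.fiberToSpecResidueField p) (Spec.map φ)) :=
        pullback_of_geometrically hz.geometrically_connectedSpace K _
      haveI : PreconnectedSpace
          ↥(pullback (pullback.snd g (Scheme.fromSpecResidueField _ p)) (Spec.map φ)) := by
        exact ‹ConnectedSpace ↥(pullback (g.fiberToSpecResidueField p) (Spec.map φ))›.toPreconnectedSpace
      haveI : PreconnectedSpace ↥(pullback g (Spec.map φ ≫ Scheme.fromSpecResidueField _ p)) :=
        preconnected_of_surjective (pullbackLeftPullbackSndIso g _ (Spec.map φ)).hom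
      exact preconnected_of_surjective (pullback.congrHom (f₁ := g) rfl hp).hom
    · refine (NearGen2.near_avoid_closed g isClosed_univ fun w _ hw => hne ⟨w, hw⟩).mono
        fun z hz => lift z fun K _ t ht => ?_
      have : IsEmpty ↥(pullback g t) := ⟨fun q => hz (pullback.fst g t q) (by
        rw [← Scheme.Hom.comp_apply, pullback.condition, Scheme.Hom.comp_apply, ← ht]
        congr 1
        exact Subsingleton.elim _ _) (Set.mem_univ _)⟩
      exact ⟨Set.subsingleton_of_subsingleton.isPreconnected⟩
  obtain ⟨V, ⟨v, hv⟩, hV⟩ := near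
  have hηV : η ∈ V := ((genericPoint_spec _).mem_open_set_iff V.2).mpr ⟨v, trivial, hv⟩
  obtain ⟨O, hO, hOV⟩ := ι.isEmbedding.isInducing.isOpen_iff.mp V.2
  refine ⟨O, hO, hη ▸ (hOV.ge hηV : η ∈ ι ⁻¹' O), fun s hs => ?_⟩
  obtain ⟨z, rfl⟩ := hr.ge hs.2
  exact hV z (hOV.le hs.1)

open CategoryTheory AlgebraicGeometry in
/-- Let S = lim S_i be a cofiltered limit of Noetherian schemes with affine transition morphisms, let X₀
→ S_{i₀} be a scheme of finite type over one stage and X → S its base change to the limit. If all
geometric fibres of X → S are connected, then for some stage S_i → S_{i₀} all geometric fibres of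
the base change X₀ ×_{S_{i₀}} S_i → S_i are connected. (Connected is read so as to allow the empty
fibre: the underlying space of each geometric fibre is preconnected; the geometric fibre of X₀
×_{S_{i₀}} S_i over Spec Ω → S_i is written as the pullback of X₀ → S_{i₀} along Spec Ω → S_i →
S_{i₀}.) -/
theorem result {I : Type u} [SmallCategory I] [IsCofiltered I]
    (D : I ⥤ Scheme.{u}) (c : Limits.Cone D) (hc : Limits.IsLimit c)
    [∀ (i j : I) (a : i ⟶ j), IsAffineHom (D.map a)] [∀ i : I, AlgebraicGeometry.IsNoetherian (D.obj i)]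
    (i₀ : I) {X₀ : Scheme.{u}} (f₀ : X₀ ⟶ D.obj i₀) [QuasiCompact f₀] [LocallyOfFiniteType f₀]
    {X : Scheme.{u}} (f : X ⟶ c.pt) (q : X ⟶ X₀) (hX : IsPullback q f f₀ (c.π.app i₀))
    (hconn : ∀ (Ω : Type u) [Field Ω] [IsAlgClosed Ω] (t : Spec (CommRingCat.of Ω) ⟶ c.pt),
      PreconnectedSpace ↥(Limits.pullback f t)) :
    ∃ (i : I) (a : i ⟶ i₀), ∀ (Ω : Type u) [Field Ω] [IsAlgClosed Ω] (t : Spec (CommRingCat.of Ω) ⟶ D.obj i),
      PreconnectedSpace ↥(Limits.pullback f₀ (t ≫ D.map a)) := by
  have hG := LimTop61.isConsClosed_compl_of_isIndConstructible (goodPts_isIndConstructible f₀)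
  obtain ⟨j, hj⟩ := LimTop61.exists_subset_of_preimage_subset D c hc (i₀ := i₀)
    (fun j => Set.univ) (fun j => D.map j.hom ⁻¹' GoodPts f₀)
    (fun j => LimTop61.isConsClosed_of_isClosed isClosed_univ)
    (fun j => hG.preimage (D.map j.hom))
    (fun _ => Set.subset_univ _)
    (fun {j k} a x hx => by
      show D.map j.hom x ∈ GoodPts f₀
      rw [← Over.w a, D.map_comp, Scheme.Hom.comp_apply]
      exact hx)
    (fun s _ => ⟨Over.mk (𝟙 i₀), by
      show D.map (𝟙 i₀) (c.π.app i₀ s) ∈ GoodPts f₀
      rw [CategoryTheory.Functor.map_id]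
      intro K _ t ht
      obtain ⟨Ω, _, _, i, j, hij⟩ := FBase64.exists_common_field t
        (c.pt.fromSpecResidueField s ≫ c.π.app i₀) ⟨Classical.arbitrary _, Classical.arbitrary _, by
          rw [Scheme.Hom.comp_apply]
          exact ht.trans (congrArg (fun z => c.π.app i₀ z) (Scheme.fromSpecResidueField_apply s _).symm)⟩
      haveI := hconn Ω (Spec.map (CommRingCat.ofHom j) ≫ c.pt.fromSpecResidueField s)
      have sq := (IsPullback.of_hasPullback f
        (Spec.map (CommRingCat.ofHom j) ≫ c.pt.fromSpecResidueField s)).paste_horiz hX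
      haveI : PreconnectedSpace ↥(pullback f₀
          ((Spec.map (CommRingCat.ofHom j) ≫ c.pt.fromSpecResidueField s) ≫ c.π.app i₀)) :=
        preconnected_of_surjective sq.isoPullback.hom
      haveI : Surjective (Spec.map (CommRingCat.ofHom i)) :=
        ⟨fun x => ⟨Classical.arbitrary _, Subsingleton.elim _ _⟩⟩
      obtain ⟨k, hk, -, -⟩ := FBase64.exists_surjective_pullback f₀ t (Spec.map (CommRingCat.ofHom i))
        _ (hij.trans (Category.assoc _ _ _).symm)
      exact preconnected_of_surjective k⟩)
  refine ⟨j.left, j.hom, fun Ω _ _ t => ?_⟩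
  refine hj (Set.mem_univ (t (Classical.arbitrary _))) Ω _ ?_
  rw [Scheme.Hom.comp_apply]

end Groth.Agent.S18877
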