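import Groth.Statements.S18878
import Groth.Agent.LimTop61.SubgroupDescent

set_option autoImplicit false
universe u
open Lim

namespace Groth.Agent.S18878

open CategoryTheory AlgebraicGeometry in
/-- Let S = lim S_i be a cofiltered limit of schemes with affine transition morphisms over a
quasi-compact quasi-separated stage S_{i₀}, let G₀ be a group scheme separated and of finite
presentation over S_{i₀} and H₀ ⊆ G₀ a closed subscheme whose immersion is of finite presentation,
and write G, H (resp. G_i, H_i) for the base changes to S (resp. to a stage S_i). If H is a closed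
subgroup scheme of G, that is H carries a group structure over S for which H → G is a homomorphism,
then H_i is a closed subgroup scheme of G_i for some stage i → i₀; if moreover H is normal in G, the
stage can be chosen so that H_i is normal in G_i. (The published statement is for separated finitely
presented group algebraic spaces and an arbitrary closed subspace H₀; this row is the case of
schemes and assumes H₀ → G₀ of finite presentation: over the limit Spec k of the spectra of k[x_1,
x_2, …]/(x_1, …, x_n), k of characteristic zero, the closed subscheme of the additive group cut out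
by all x_m t^m becomes the whole additive group over Spec k but is a subgroup over no stage, so a
finiteness condition on H₀ is needed, and finite presentation is what the published limit argument
uses.) -/
theorem result
    {I : Type u} [SmallCategory I] [IsCofiltered I]
    (D : I ⥤ Scheme.{u}) (c : Limits.Cone D) (hc : Limits.IsLimit c)
    [∀ (i j : I) (a : i ⟶ j), IsAffineHom (D.map a)] (i₀ : I)
    [CompactSpace (D.obj i₀)] [QuasiSeparatedSpace (D.obj i₀)]
    (G₀ : Over (D.obj i₀)) [GrpObj G₀] [IsSeparated G₀.hom] [QuasiCompact G₀.hom]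
    [LocallyOfFinitePresentation G₀.hom]
    (H₀ : Over (D.obj i₀)) (ι₀ : H₀ ⟶ G₀) [IsClosedImmersion ι₀.left]
    [LocallyOfFinitePresentation ι₀.left]
    (hH : ∃ _ : GrpObj (Red.bc (c.π.app i₀) H₀), IsMonHom ((Over.pullback (c.π.app i₀)).map ι₀)) :
    (∃ (i : I) (a : i ⟶ i₀) (_ : GrpObj (Red.bc (D.map a) H₀)),
        IsMonHom ((Over.pullback (D.map a)).map ι₀)) ∧
    ((∃ (_ : GrpObj (Red.bc (c.π.app i₀) H₀)) (_ : IsMonHom ((Over.pullback (c.π.app i₀)).map ι₀)),
        AlgGrp.IsNormalHom ((Over.pullback (c.π.app i₀)).map ι₀)) →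
      ∃ (i : I) (a : i ⟶ i₀) (_ : GrpObj (Red.bc (D.map a) H₀))
        (_ : IsMonHom ((Over.pullback (D.map a)).map ι₀)),
        AlgGrp.IsNormalHom ((Over.pullback (D.map a)).map ι₀)) := by
  open Groth.Agent.LimTop61 MonoidalCategory CartesianMonoidalCategory MonObj CategoryTheory AlgebraicGeometry CategoryTheory.Limits in
    have hsepH : IsSeparated H₀.hom := by rw [← Over.w ι₀]; infer_instance
    have hqcH : QuasiCompact H₀.hom := by rw [← Over.w ι₀]; infer_instance
    have cs : ∀ T : Over (D.obj i₀), IsSeparated T.hom → QuasiCompact T.hom →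
        CompactSpace T.left ∧ QuasiSeparatedSpace T.left := fun T h1 h2 =>
      ⟨QuasiCompact.compactSpace_of_compactSpace T.hom, quasiSeparatedSpace_of_quasiSeparated T.hom⟩
    obtain ⟨_, _⟩ := cs H₀ hsepH hqcH
    have : CompactSpace (H₀ ⊗ H₀).left ∧ QuasiSeparatedSpace (H₀ ⊗ H₀).left :=
      cs _ (inferInstanceAs (IsSeparated (pullback.fst H₀.hom H₀.hom ≫ H₀.hom)))
        (inferInstanceAs (QuasiCompact (pullback.fst H₀.hom H₀.hom ≫ H₀.hom)))
    obtain ⟨_, _⟩ := this
    have : CompactSpace (G₀ ⊗ H₀).left ∧ QuasiSeparatedSpace (G₀ ⊗ H₀).left :=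
      cs _ (inferInstanceAs (IsSeparated (pullback.fst G₀.hom H₀.hom ≫ G₀.hom)))
        (inferInstanceAs (QuasiCompact (pullback.fst G₀.hom H₀.hom ≫ G₀.hom)))
    obtain ⟨_, _⟩ := this
    have : CompactSpace (𝟙_ (Over (D.obj i₀))).left := inferInstanceAs (CompactSpace (D.obj i₀))
    have : QuasiSeparatedSpace (𝟙_ (Over (D.obj i₀))).left :=
      inferInstanceAs (QuasiSeparatedSpace (D.obj i₀))
    have hmono : ∀ {T : Scheme.{u}} (m : T ⟶ D.obj i₀), Mono ((Over.pullback m).map ι₀) := fun m => by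
      have : Mono ι₀.left := inferInstance
      have : Mono ι₀ := Over.mono_of_mono_left ι₀
      infer_instance
    have key : ∃ (i : I) (a : i ⟶ i₀), ∀ (j : I) (b : j ⟶ i),
        FactorsBC (D.map (b ≫ a)) (1 : 𝟙_ (Over (D.obj i₀)) ⟶ G₀) ι₀ ∧
        FactorsBC (D.map (b ≫ a)) (mulMap ι₀) ι₀ ∧ FactorsBC (D.map (b ≫ a)) ι₀⁻¹ ι₀ := by
      obtain ⟨_, hmon⟩ := hH
      obtain ⟨h1, h2, h3⟩ := factors_of_grpObj (c.π.app i₀) ι₀
      obtain ⟨j1, a1, f1⟩ := exists_factorsBC_stage D c hc i₀ _ ι₀ h1
      obtain ⟨j2, a2, f2⟩ := exists_factorsBC_stage D c hc i₀ _ ι₀ h2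
      obtain ⟨j3, a3, f3⟩ := exists_factorsBC_stage D c hc i₀ _ ι₀ h3
      obtain ⟨j12, u, v, e12⟩ := IsCofiltered.cospan a1 a2
      obtain ⟨k, p, q, e⟩ := IsCofiltered.cospan (u ≫ a1) a3
      refine ⟨k, p ≫ u ≫ a1, fun j b => ⟨?_, ?_, ?_⟩⟩
      · have := factorsBC_mono D a1 (b ≫ p ≫ u) _ ι₀ f1
        simpa using this
      · have := factorsBC_mono D a2 (b ≫ p ≫ v) _ ι₀ f2
        simpa [e12] using this
      · have := factorsBC_mono D a3 (b ≫ q) _ ι₀ f3
        simpa [e] using this
    obtain ⟨i, a, hi⟩ := key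
    refine ⟨?_, ?_⟩
    · obtain ⟨h1, h2, h3⟩ := hi i (𝟙 i)
      have := hmono (D.map (𝟙 i ≫ a))
      obtain ⟨g, hg⟩ := exists_grpObj_of_factors _ ι₀ h1 h2 h3
      exact ⟨i, 𝟙 i ≫ a, g, hg⟩
    · rintro ⟨_, _, hn⟩
      obtain ⟨j, a', f⟩ := exists_factorsBC_stage D c hc i₀ _ ι₀ (factors_of_isNormalHom _ ι₀ hn)
      obtain ⟨k, u, v, e⟩ := IsCofiltered.cospan a a'
      obtain ⟨h1, h2, h3⟩ := hi k u
      have := hmono (D.map (u ≫ a))
      obtain ⟨g, hg⟩ := exists_grpObj_of_factors _ ι₀ h1 h2 h3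
      exact ⟨k, u ≫ a, g, hg, isNormalHom_of_factors _ ι₀ (e ▸ factorsBC_mono D a' v _ ι₀ f)⟩

end Groth.Agent.S18878
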