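import Groth.Statements.S18879
import Groth.Agent.E4O.ChartDim
import Groth.Agent.E4O.QuasiSectionEquidim

set_option autoImplicit false
universe u
open CategoryTheory AlgebraicGeometry
open Resolve

namespace Groth.Agent.S18879

/-- Let f : Y ⟶ X be a morphism locally of finite type between Noetherian separated schemes which is
birational: it maps the maximal points of Y bijectively onto the maximal points of X, and over every
maximal point of X its fibre is one point with the same residue field. Then for every point y of Y,
the Krull dimension of the local ring of Y at y is at most the Krull dimension of the local ring of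
X at f y (the codimension of a point does not increase along f). -/
theorem result {X Y : Scheme.{u}} (f : Y ⟶ X)
    [IsNoetherian X] [X.IsSeparated] [IsNoetherian Y] [Y.IsSeparated] [LocallyOfFiniteType f]
    (hf : RadPt.IsBirational f) (y : Y) :
    ringKrullDim (Y.presheaf.stalk y) ≤ ringKrullDim (X.presheaf.stalk (f.base y)) := by
  obtain ⟨C, ⟨q, rfl⟩, hA⟩ := Groth.Agent.E4O.exists_chart f y
  haveI := hA inferInstance
  haveI : IsNoetherianRing C.B := Algebra.FiniteType.isNoetherianRing C.A _
  obtain ⟨m, hmq, hmin, hrel⟩ := Groth.Agent.E4O.exists_minimal_relHeight_eq q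
  have hmax : ∀ w : Y, w ⤳ C.pt m → w = C.pt m := (C.isMin_iff m).1 hmin
  have hgen : C.pt m ∈ genericPoints Y := by
    refine ⟨isIrreducible_singleton.closure, fun Z hZ hle => ?_⟩
    obtain ⟨w, hw⟩ := QuasiSober.sober hZ.closure isClosed_closure
    have h1 : C.pt m ∈ closure ({w} : Set Y) := by
      rw [hw.def]; exact subset_closure (hle (subset_closure rfl))
    rw [← hmax w (specializes_iff_mem_closure.2 h1), hw.def]
    exact subset_closure
  have h0 : Groth.Agent.E4O.fdeg f (C.pt m) = 0 :=
    Groth.Agent.E4O.fdeg_eq_zero_of_closed_in_fibre f fun x' hx' _ =>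
      (hf.2 _ (hf.1.mapsTo hgen)).1 x' _ hx' rfl
  have h1 := C.relHeight_add_fdeg_le m q hmq
  rw [h0, Nat.cast_zero, add_zero, hrel] at h1
  rw [C.ringKrullDim_stalk, C.apply, C.ringKrullDim_stalkY]
  exact WithBot.coe_le_coe.2 ((le_self_add.trans h1).trans (Groth.Agent.E4O.relHeight_le_height _ _))

end Groth.Agent.S18879
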