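import Groth.Statements.S1888
import Groth.Agent.Grpd80.Shear

set_option autoImplicit false
universe u
open CategoryTheory CategoryTheory.Limits AlgebraicGeometry
open Grpd

namespace Groth.Agent.S1888

/-- Let (U, R, s, t, c) be a groupoid scheme over S with U the spectrum of a field k, and r a point of R
such that both s and t induce isomorphisms from k to κ(r). Then there is an automorphism of the
scheme R carrying the identity point e to r. (The source's automorphism is x ↦ c(r, x); only the
existence of an automorphism moving e to r is stated here.) (A groupoid scheme carries U, R, s, t,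
c, e, i over S with the groupoid axioms on T-points; 'finite locally free' is finite, flat and
locally of finite presentation; C ⊂ Γ(U) is the ring of functions a with s♯(a) = t♯(a) and M = Spec
C.) -/
theorem result (S : Scheme.{u}) (G : Grpd.GroupoidScheme S) (k : Type u) [Field k] (eU : G.U ≅ Spec (CommRingCat.of k)) (r : G.R) (hs : IsIso (G.s.residueFieldMap r)) (ht : IsIso (G.t.residueFieldMap r)) : ∃ φ : G.R ≅ G.R, φ.hom (G.e (eU.inv (IsLocalRing.closedPoint k))) = r := by
  have := hs
  have := ht
  have := Grpd80.isIso_fromSpecResidueField_of_field eU (G.s r)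
  have := Grpd80.isIso_fromSpecResidueField_of_field eU (G.t r)
  have hs' : IsIso (G.R.fromSpecResidueField r ≫ G.s) := by
    rw [← Scheme.Hom.SpecMap_residueFieldMap_fromSpecResidueField]; infer_instance
  have ht' : IsIso (G.R.fromSpecResidueField r ≫ G.t) := by
    rw [← Scheme.Hom.SpecMap_residueFieldMap_fromSpecResidueField]; infer_instance
  let ρ : G.U ⟶ G.R := inv (G.R.fromSpecResidueField r ≫ G.s) ≫ G.R.fromSpecResidueField r
  have hρs : ρ ≫ G.s = 𝟙 G.U := by simp [ρ]
  have hρt : IsIso (ρ ≫ G.t) := by
    show IsIso ((inv (G.R.fromSpecResidueField r ≫ G.s) ≫ G.R.fromSpecResidueField r) ≫ G.t)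
    rw [Category.assoc]; infer_instance
  have : IsIso (ρ ≫ G.s) := by rw [hρs]; infer_instance
  let φ : G.R ≅ G.R := (asIso (pullback.snd (ρ ≫ G.s) G.t)).symm ≪≫ Grpd80.shearL G ρ ≪≫
    asIso (pullback.snd (ρ ≫ G.t) G.t)
  refine ⟨φ, ?_⟩
  have hinv : G.e ≫ inv (pullback.snd (ρ ≫ G.s) G.t) =
      pullback.lift (𝟙 _) G.e (by rw [Grpd80.e_t', Category.id_comp, hρs]) := by
    rw [IsIso.comp_inv_eq, pullback.lift_snd]
  have he : G.e ≫ φ.hom = ρ := by
    simp only [φ, Iso.trans_hom, Iso.symm_hom, asIso_inv, asIso_hom, reassoc_of% hinv]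
    simp only [Grpd80.shearL, pullback.lift_snd]
    rw [Grpd80.comp_mul_eq _ _ _ _ ρ G.e (by rw [hρs, Grpd80.e_t'])
      (by simp [pullback.lift_fst_assoc]) (pullback.lift_snd _ _ _)]
    exact Grpd80.mul_unit_right _ (by rw [reassoc_of% hρs])
  rw [← Scheme.Hom.comp_apply, he]
  have : ∀ x, ρ x = r := fun x => by
    simp only [ρ, Scheme.Hom.comp_apply, Scheme.fromSpecResidueField_apply]
  exact this _

end Groth.Agent.S1888
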