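import Groth.Statements.S18884
import Mathlib

set_option autoImplicit false
universe v u w
open CategoryTheory CategoryTheory.Limits
open Desc

namespace Groth.Agent.S18884

/-- Let C be a category with pullbacks equipped with a class W of morphisms, the covers, stable under
base change and under composition. An abelian cosheaf is a functor F : C ⥤ Ab such that for every
cover π : Y ⟶ X the map F(π) is surjective and its kernel is the image of F(p₁) − F(p₂), where p₁,
p₂ : Y ×_X Y ⟶ Y are the two projections. If D is a full subcategory of C such that every object of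
C is the target of a cover whose source lies in D, then the restriction functor from the full
subcategory of abelian cosheaves in C ⥤ Ab to D ⥤ Ab is full and faithful. -/
theorem result {C : Type u} [Category.{v} C]
    [HasPullbacks C] (W : MorphismProperty C) [W.IsStableUnderBaseChange] [W.IsStableUnderComposition]
    (D : ObjectProperty C) (hD : ∀ X : C, ∃ (Y : C) (π : Y ⟶ X), W π ∧ D Y) :
    (ObjectProperty.ι (fun F : C ⥤ AddCommGrpCat.{w} =>
        ∀ ⦃Y X : C⦄ (π : Y ⟶ X), W π → Function.Surjective (F.map π).hom ∧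
          (F.map π).hom.ker = ((F.map (pullback.fst π π)).hom - (F.map (pullback.snd π π)).hom).range) ⋙
      (Functor.whiskeringLeft D.FullSubcategory C AddCommGrpCat.{w}).obj D.ι).Full ∧
    (ObjectProperty.ι (fun F : C ⥤ AddCommGrpCat.{w} =>
        ∀ ⦃Y X : C⦄ (π : Y ⟶ X), W π → Function.Surjective (F.map π).hom ∧
          (F.map π).hom.ker = ((F.map (pullback.fst π π)).hom - (F.map (pullback.snd π π)).hom).range) ⋙
      (Functor.whiskeringLeft D.FullSubcategory C AddCommGrpCat.{w}).obj D.ι).Faithful := by
  refine ⟨⟨fun {F G} c => ?_⟩, ⟨fun {F G a b} hab => ?_⟩⟩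
  · -- the restriction of the map to objects of `D`
    let cD : ∀ (Y : C), D Y → (F.obj.obj Y ⟶ G.obj.obj Y) := fun Y hY => c.app ⟨Y, hY⟩
    have nat : ∀ {Y Y' : C} (hY : D Y) (hY' : D Y') (k : Y ⟶ Y') (y : F.obj.obj Y),
        cD Y' hY' (F.obj.map k y) = G.obj.map k (cD Y hY y) := fun {Y Y'} hY hY' k y =>
      congrArg (fun m : F.obj.obj Y ⟶ G.obj.obj Y' => m y)
        (c.naturality (X := ⟨Y, hY⟩) (Y := ⟨Y', hY'⟩) (ObjectProperty.homMk k))
    choose P π hπ hP using hD
    -- well-definedness
    have key : ∀ {X Y : C} (q : Y ⟶ X) (_ : W q) (hY : D Y) (y : F.obj.obj Y),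
        F.obj.map q y = 0 → G.obj.map q (cD Y hY y) = 0 := by
      intro X Y q hq hY y hy
      have hy' : y ∈ (F.obj.map q).hom.ker := hy
      rw [(F.property q hq).2] at hy'
      obtain ⟨z, rfl⟩ := hy'
      obtain ⟨z', rfl⟩ := (F.property (π (pullback q q)) (hπ _)).1 z
      have e : ∀ (r : pullback q q ⟶ Y), F.obj.map r (F.obj.map (π _) z') =
          F.obj.map (π (pullback q q) ≫ r) z' := fun r => by simp
      show G.obj.map q (cD Y hY ((F.obj.map (pullback.fst q q)).hom (F.obj.map (π _) z') -
        (F.obj.map (pullback.snd q q)).hom (F.obj.map (π _) z'))) = 0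
      rw [e, e, map_sub, nat (hP _) hY, nat (hP _) hY, map_sub, sub_eq_zero]
      simp only [← AddCommGrpCat.comp_apply, Category.assoc, ← Functor.map_comp]
      rw [pullback.condition]
    have ex : ∀ X : C, ∃ f : F.obj.obj X →+ G.obj.obj X,
        ∀ y, f (F.obj.map (π X) y) = G.obj.map (π X) (cD _ (hP X) y) := by
      intro X
      let g : F.obj.obj (P X) →+ G.obj.obj X :=
        (G.obj.map (π X)).hom.comp (cD _ (hP X)).hom
      exact ⟨AddMonoidHom.liftOfSurjective (F.obj.map (π X)).hom (F.property _ (hπ X)).1
        ⟨g, fun y hy => key _ (hπ X) (hP X) y hy⟩,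
        fun y => AddMonoidHom.liftOfRightInverse_comp_apply _ _ _ _ y⟩
    choose f hf using ex
    -- compatibility with an arbitrary cover from `D`
    have hany : ∀ {X Y : C} (q : Y ⟶ X) (hY : D Y) (y : F.obj.obj Y),
        f X (F.obj.map q y) = G.obj.map q (cD Y hY y) := by
      intro X Y q hY y
      let h : P (pullback (π X) q) ⟶ Y := π _ ≫ pullback.snd (π X) q
      let k : P (pullback (π X) q) ⟶ P X := π _ ≫ pullback.fst (π X) q
      have hh : W h := W.comp_mem _ _ (hπ _) (W.pullback_snd (π X) q (hπ X))
      have e : k ≫ π X = h ≫ q := by simp [h, k, pullback.condition]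
      obtain ⟨y', rfl⟩ := (F.property h hh).1 y
      have e1 : F.obj.map q (F.obj.map h y') = F.obj.map (π X) (F.obj.map k y') := by
        simp only [← AddCommGrpCat.comp_apply, ← Functor.map_comp, e]
      rw [e1, hf, nat (hP _) (hP X), nat (hP _) hY]
      simp only [← AddCommGrpCat.comp_apply, Category.assoc, ← Functor.map_comp, e]
    refine ⟨ObjectProperty.homMk
      { app := fun X => AddCommGrpCat.ofHom (f X)
        naturality := fun X X' m => ?_ }, ?_⟩
    · ext z
      obtain ⟨y, rfl⟩ := (F.property (π X) (hπ X)).1 z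
      show f X' (F.obj.map m (F.obj.map (π X) y)) = G.obj.map m (f X (F.obj.map (π X) y))
      rw [hf, ← AddCommGrpCat.comp_apply, ← Functor.map_comp, hany _ (hP X),
        Functor.map_comp, AddCommGrpCat.comp_apply]
    · ext Y y
      show f Y.obj y = cD Y.obj Y.property y
      simpa using hany (𝟙 Y.obj) Y.property y
  · apply InducedCategory.hom_ext
    ext X z
    obtain ⟨Y, q, hq, hY⟩ := hD X
    obtain ⟨y, rfl⟩ := (F.property q hq).1 z
    have := congrArg (fun m => (m.app ⟨Y, hY⟩) y) hab
    have this' : a.hom.app Y y = b.hom.app Y y := this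
    rw [NatTrans.naturality_apply, NatTrans.naturality_apply, this']

end Groth.Agent.S18884
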