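import Mathlib

open Module

universe u v

namespace Groth.Agent.S18887

theorem result {A : Type u} {B : Type v} [CommRing A] [CommRing B]
    [Algebra A B] (h2 : IsUnit (2 : A)) [Module.Free A B] [Module.Finite A B]
    (hrk : Module.finrank A B = 2)
    [Module.Free A (LinearMap.ker (Algebra.trace A B))]
    (hker : Module.finrank A (LinearMap.ker (Algebra.trace A B)) = 1) :
    ∃ σ : B →ₐ[A] B, (∀ b : B, σ b = algebraMap A B (Algebra.trace A B b) - b) ∧
      σ ≠ AlgHom.id A B ∧ σ.comp σ = AlgHom.id A B ∧
      ∀ b : B, σ b = b ↔ b ∈ Set.range (algebraMap A B) := by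
  have : Nontrivial A := by
    by_contra hn
    rw [not_nontrivial_iff_subsingleton] at hn
    have := Module.finrank_subsingleton (R := A) (M := B)
    omega
  obtain ⟨w, hw⟩ := h2.exists_left_inv
  have htr1 : ∀ a : A, Algebra.trace A B (algebraMap A B a) = 2 * a := fun a => by
    rw [Algebra.trace_algebraMap, hrk, nsmul_eq_mul]; norm_num
  let T := Algebra.trace A B
  have hsplit : ∀ b : B, b - algebraMap A B (w * T b) ∈ LinearMap.ker T := fun b => by
    rw [LinearMap.mem_ker, map_sub, htr1, ← mul_assoc, mul_comm 2 w, hw, one_mul, sub_self]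
  have : Module.Finite A (LinearMap.ker T) := Module.finite_of_finrank_eq_succ (n := 0) hker
  let bK : Basis (Fin 1) A (LinearMap.ker T) :=
    (Module.finBasisOfFinrankEq A _ hker)
  set e : B := (bK 0 : B)
  have he : T e = 0 := (bK 0).2
  have hdec : ∀ b : B, ∃ x y : A, b = algebraMap A B x + y • e := fun b => by
    refine ⟨w * T b, bK.repr ⟨_, hsplit b⟩ 0, ?_⟩
    have := congrArg Subtype.val (bK.sum_repr ⟨_, hsplit b⟩)
    simp only [Fin.sum_univ_one] at this
    rw [Submodule.coe_smul] at this
    rw [this]
    ring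
  obtain ⟨d, hd⟩ : ∃ d : A, e * e = algebraMap A B d := by
    let bB : Basis (Fin 2) A B := Module.finBasisOfFinrankEq A B hrk
    refine ⟨-(Algebra.leftMulMatrix bB e).det, ?_⟩
    have h := Matrix.aeval_self_charpoly (Algebra.leftMulMatrix bB e)
    rw [Matrix.charpoly_fin_two, Polynomial.aeval_algHom_apply] at h
    have h' := Algebra.leftMulMatrix_injective bB (h.trans (map_zero _).symm)
    have ht : (Algebra.leftMulMatrix bB e).trace = 0 := by
      rw [← Algebra.trace_eq_matrix_trace bB, he]
    simp only [map_add, map_sub, map_mul, map_pow, Polynomial.aeval_X, Polynomial.aeval_C, ht,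
      map_zero, zero_mul, sub_zero] at h'
    rw [map_neg, eq_neg_iff_add_eq_zero, ← h', pow_two]
  let s : B →ₗ[A] B := (Algebra.linearMap A B).comp T - LinearMap.id
  have hs : ∀ x y : A, s (algebraMap A B x + y • e) = algebraMap A B x - y • e := fun x y => by
    change algebraMap A B (T (algebraMap A B x + y • e)) - (algebraMap A B x + y • e) = _
    rw [map_add T, map_smul T, he, smul_zero, add_zero, htr1, map_mul, map_ofNat]
    ring
  have h1 : s 1 = 1 := by
    have := hs 1 0
    simpa using this
  have hm : ∀ a b, s (a * b) = s a * s b := fun a b => by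
    obtain ⟨x, y, rfl⟩ := hdec a
    obtain ⟨x', y', rfl⟩ := hdec b
    have : (algebraMap A B x + y • e) * (algebraMap A B x' + y' • e) =
        algebraMap A B (x * x' + y * y' * d) + (x * y' + y * x') • e := by
      simp only [Algebra.smul_def, map_add, map_mul, ← hd]
      ring
    rw [this, hs, hs, hs]
    simp only [Algebra.smul_def, map_add, map_mul, ← hd]
    ring
  refine ⟨AlgHom.ofLinearMap s h1 hm, fun b => rfl, fun h => ?_, ?_, fun b => ⟨fun h => ?_, ?_⟩⟩
  · have h' := DFunLike.congr_fun h e
    have he0 : s e = - e := by simpa using hs 0 1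
    change s e = e at h'
    rw [he0, neg_eq_iff_add_eq_zero] at h'
    have : e = 0 := by
      calc e = (w * 2) • e := by rw [hw, one_smul]
        _ = w • (e + e) := by rw [mul_smul, two_smul]
        _ = 0 := by rw [h', smul_zero]
    exact bK.ne_zero 0 (Subtype.ext this)
  · ext b
    obtain ⟨x, y, rfl⟩ := hdec b
    change s (s _) = _
    rw [hs, sub_eq_add_neg, ← neg_smul, hs, neg_smul, sub_neg_eq_add]
    rfl
  · refine ⟨w * T b, ?_⟩
    change algebraMap A B (T b) - b = b at h
    rw [map_mul, sub_eq_iff_eq_add.1 h]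
    have : algebraMap A B w * 2 = 1 := by
      rw [← map_ofNat (algebraMap A B) 2, ← map_mul, hw, map_one]
    calc _ = (algebraMap A B w * 2) * b := by ring
      _ = b := by rw [this, one_mul]
  · rintro ⟨a, rfl⟩
    change algebraMap A B (T (algebraMap A B a)) - _ = _
    rw [htr1, map_mul, map_ofNat, LinearMap.id_apply]
    ring

end Groth.Agent.S18887
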