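import Groth.Statements.S18888
import Mathlib.FieldTheory.Minpoly.IsIntegrallyClosed
import Mathlib.LinearAlgebra.FiniteDimensional.Lemmas
import Mathlib.LinearAlgebra.Dimension.Finrank
import Mathlib.LinearAlgebra.FiniteDimensional.Basic
import Mathlib.RingTheory.UniqueFactorizationDomain.Basic
import Mathlib.RingTheory.Polynomial.RationalRoot

set_option autoImplicit false
universe u v w
open CAlg

namespace Groth.Agent.S18888

/-- Let A be a unique factorisation domain in which 2 is invertible, with fraction field K, and let L ⊇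
K be a quadratic extension field (of degree 2 over K) containing an element y ∉ K whose square is a
squarefree element d of A. Then the integral closure of A in L equals the A-subalgebra A[y]
generated by y. -/
theorem result {A : Type u} {K : Type v} {L : Type w}
    [CommRing A] [IsDomain A] [UniqueFactorizationMonoid A] [Field K] [Algebra A K] [IsFractionRing A K]
    [Field L] [Algebra K L] [Algebra A L] [IsScalarTower A K L]
    (h2 : IsUnit (2 : A)) (hL : Module.finrank K L = 2)
    (d : A) (hd : Squarefree d) (y : L) (hy : y * y = algebraMap A L d)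
    (hyK : y ∉ Set.range (algebraMap K L)) :
    integralClosure A L = Algebra.adjoin A {y} := by
  classical
  refine le_antisymm (fun x hx => ?_) (Algebra.adjoin_le (Set.singleton_subset_iff.mpr ?_))
  swap
  · exact ⟨Polynomial.X ^ 2 - Polynomial.C d, Polynomial.monic_X_pow_sub_C d two_ne_zero, by
      simp [pow_two, hy]⟩
  have : Module.Finite K L := Module.finite_of_finrank_pos (by omega)
  have hy0 : y ≠ 0 := fun h => hyK ⟨0, by rw [map_zero, h]⟩
  have hli : LinearIndependent K ![(1 : L), y] := by
    rw [LinearIndependent.pair_iff]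
    intro s t hst
    rcases eq_or_ne t 0 with rfl | ht
    · exact ⟨by simpa using hst, rfl⟩
    · refine absurd ⟨-s / t, ?_⟩ hyK
      rw [map_div₀, map_neg, div_eq_iff ((_root_.map_ne_zero _).mpr ht)]
      simp only [Algebra.smul_def, mul_one] at hst
      linear_combination -hst
  have htop : x ∈ Submodule.span K (Set.range ![(1 : L), y]) := by
    rw [LinearIndependent.span_eq_top_of_card_eq_finrank' hli (by simp [hL])]; trivial
  obtain ⟨c, hc⟩ := (Submodule.mem_span_range_iff_exists_fun K).mp htop
  rw [Fin.sum_univ_two] at hc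
  simp only [Matrix.cons_val_zero, Matrix.cons_val_one] at hc
  have hxu : algebraMap K L (c 0) + algebraMap K L (c 1) * y = x := by
    rw [← hc]; simp [Algebra.smul_def]
  set v := c 1
  set u := c 0
  have hmem : ∀ a b : A, algebraMap A L a + algebraMap A L b * y ∈ Algebra.adjoin A {y} := fun a b =>
    add_mem (Subalgebra.algebraMap_mem _ _)
      (mul_mem (Subalgebra.algebraMap_mem _ _) (Algebra.subset_adjoin rfl))
  rcases eq_or_ne v 0 with hv | hv
  · have hxu' : algebraMap K L u = x := by rw [← hxu, hv]; simp
    rw [← hxu'] at hx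
    obtain ⟨a, ha⟩ := IsIntegrallyClosed.isIntegral_iff.mp
      ((isIntegral_algebraMap_iff (algebraMap K L).injective).mp hx)
    rw [← hxu', ← ha, ← IsScalarTower.algebraMap_apply]
    exact Subalgebra.algebraMap_mem _ _
  let dK := algebraMap A K d
  have hy' : y * y = algebraMap K L dK := by rw [hy, IsScalarTower.algebraMap_apply A K L]
  let p : Polynomial K := Polynomial.X ^ 2 + Polynomial.C (-2 * u) * Polynomial.X +
    Polynomial.C (u * u - v * v * dK)
  have hp : p.Monic := by simp only [p]; monicity!
  have hpdeg : p.natDegree = 2 := by simp only [p]; compute_degree!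
  have hpx : Polynomial.aeval x p = 0 := by
    simp only [p, map_add, map_mul, map_pow, Polynomial.aeval_X, Polynomial.aeval_C, map_sub,
      map_neg, map_ofNat]
    rw [← hxu]
    linear_combination (algebraMap K L v) ^ 2 * hy'
  have hintK : IsIntegral K x := ⟨p, hp, hpx⟩
  have hne : x ∉ (algebraMap K L).range := by
    rintro ⟨z, hz⟩
    refine hyK ⟨(z - u) / v, ?_⟩
    rw [map_div₀, map_sub, hz, div_eq_iff ((_root_.map_ne_zero _).mpr hv), ← hxu]
    ring
  have hmin : minpoly K x = p := by
    symm
    refine Polynomial.eq_of_monic_of_dvd_of_natDegree_le (minpoly.monic hintK) hp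
      (minpoly.dvd K x hpx) ?_
    rw [hpdeg]
    exact (minpoly.two_le_natDegree_iff hintK).mpr hne
  have hcoef : ∀ i, ∃ a : A, algebraMap A K a = p.coeff i := fun i =>
    ⟨(minpoly A x).coeff i, by
      rw [← hmin, minpoly.isIntegrallyClosed_eq_field_fractions' K hx, Polynomial.coeff_map]⟩
  obtain ⟨a1, ha1⟩ := hcoef 1
  obtain ⟨a0, ha0⟩ := hcoef 0
  have e1 : p.coeff 1 = -2 * u := by simp [p, Polynomial.coeff_X_pow]
  have e0 : p.coeff 0 = u * u - v * v * dK := by simp [p, Polynomial.coeff_X_pow]
  rw [e1] at ha1
  rw [e0] at ha0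
  obtain ⟨t, ht⟩ := h2.exists_right_inv
  have ht' : 2 * algebraMap A K t = 1 := by
    rw [← map_ofNat (algebraMap A K) 2, ← map_mul, ht, map_one]
  obtain ⟨a, ha⟩ : ∃ a : A, algebraMap A K a = u := ⟨-(a1 * t), by
    rw [map_neg, map_mul, ha1]; linear_combination u * ht'⟩
  obtain ⟨e, he⟩ : ∃ e : A, algebraMap A K e = v * v * dK := ⟨a * a - a0, by
    rw [map_sub, map_mul, ha, ha0]; ring⟩
  obtain ⟨num, den, hrel, hfr⟩ := IsFractionRing.exists_reduced_fraction (A := A) v
  have hden : (den : A) ≠ 0 := nonZeroDivisors.coe_ne_zero den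
  have hvd : v * algebraMap A K den = algebraMap A K num := by
    rw [← hfr, IsLocalization.mk'_spec]
  have heq : num * num * d = e * ((den : A) * den) := IsFractionRing.injective A K (by
    simp only [map_mul, he, ← hvd, dK]; ring)
  have hdvd : (den : A) * den ∣ d := by
    have hr2 : IsRelPrime ((den : A) * den) (num * num) :=
      IsRelPrime.mul_left (IsRelPrime.mul_right hrel.symm hrel.symm)
        (IsRelPrime.mul_right hrel.symm hrel.symm)
    exact hr2.dvd_of_dvd_mul_left ⟨e, by rw [heq, mul_comm]⟩
  obtain ⟨w, hw⟩ := (hd _ hdvd).exists_right_inv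
  obtain ⟨b, hb⟩ : ∃ b : A, algebraMap A K b = v := ⟨num * w, by
    rw [map_mul, ← hvd, mul_assoc, ← map_mul, hw, map_one, mul_one]⟩
  rw [← hxu, ← ha, ← hb, ← IsScalarTower.algebraMap_apply, ← IsScalarTower.algebraMap_apply]
  exact hmem a b

end Groth.Agent.S18888
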