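import Groth.Statements.S18889
import Mathlib.RingTheory.Finiteness.ModuleFinitePresentation
import Mathlib.RingTheory.FinitePresentation
import Mathlib.RingTheory.IntegralClosure.IsIntegral.Basic
import Mathlib.Algebra.Polynomial.BigOperators
import Mathlib.Algebra.Ring.Action.Basic

set_option autoImplicit false
universe u v w
open CAlg

namespace Groth.Agent.S18889

/-- Let R be a commutative ring, A a commutative R-algebra of finite presentation, and G a finite group
acting on A by R-algebra automorphisms such that the order of G is invertible in R. Then the ring of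
invariants A^G is an R-algebra of finite presentation. (The source takes G to be a group of
automorphisms of A; here G acts through a possibly non-faithful action, which changes nothing since
the invariants and the invertibility of the order only depend on the image of G.) -/
theorem result {R : Type u} {A : Type v} [CommRing R] [CommRing A]
    [Algebra R A] [Algebra.FinitePresentation R A]
    {G : Type w} [Group G] [Finite G] [MulSemiringAction G A] [SMulCommClass G R A]
    (hG : IsUnit ((Nat.card G : ℕ) : R)) :
    Algebra.FinitePresentation R (FixedPoints.subalgebra R A G) := by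
  classical
  let := Fintype.ofFinite G
  rw [Nat.card_eq_fintype_card] at hG
  let T := FixedPoints.subalgebra R A G
  obtain ⟨t, ht⟩ := (inferInstance : Algebra.FiniteType R A).out
  let P : t → Polynomial A := fun a => ∏ g : G, (Polynomial.X - Polynomial.C (g • (a : A)))
  have hP : ∀ (a : t) (g : G) (i : ℕ), g • (P a).coeff i = (P a).coeff i := by
    intro a g i
    have h : (P a).map (MulSemiringAction.toRingHom G A g) = P a := by
      simp only [P, Polynomial.map_prod, Polynomial.map_sub, Polynomial.map_X, Polynomial.map_C]
      refine Fintype.prod_equiv (Equiv.mulLeft g) _ _ fun h => ?_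
      simp [mul_smul]
    conv_rhs => rw [← h, Polynomial.coeff_map]
    rfl
  let S := MvPolynomial (t × Fin (Fintype.card G + 1)) R
  let κ : S →ₐ[R] T := MvPolynomial.aeval fun x =>
    (⟨(P x.1).coeff x.2, fun g => hP x.1 g x.2⟩ : T)
  let : Algebra S T := κ.toRingHom.toAlgebra
  have : IsScalarTower R S T := IsScalarTower.of_algebraMap_eq' κ.comp_algebraMap.symm
  let : Algebra S A := (T.val.comp κ).toRingHom.toAlgebra
  have : IsScalarTower R S A := IsScalarTower.of_algebraMap_eq' (T.val.comp κ).comp_algebraMap.symm
  have hmonic : ∀ a, (P a).Monic := fun a =>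
    Polynomial.monic_prod_of_monic _ _ fun g _ => Polynomial.monic_X_sub_C _
  have hint : ∀ a : t, IsIntegral S (a : A) := by
    intro a
    rcases subsingleton_or_nontrivial A with hA | hA
    · exact ⟨Polynomial.X, Polynomial.monic_X, Subsingleton.elim _ _⟩
    have hdeg : (P a).natDegree ≤ Fintype.card G := by
      refine (Polynomial.natDegree_prod_le _ _).trans ((Finset.sum_le_card_nsmul _ _ 1 fun g _ => ?_).trans (by simp))
      exact Polynomial.natDegree_X_sub_C_le _
    obtain ⟨Q, hQ, -, hQm⟩ := Polynomial.lifts_and_degree_eq_and_monic (f := algebraMap S A) (p := P a) (by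
      rw [Polynomial.lifts_iff_coeff_lifts]
      intro i
      rcases le_or_gt i (Fintype.card G) with hi | hi
      · refine ⟨MvPolynomial.X (a, ⟨i, Nat.lt_succ_of_le hi⟩), ?_⟩
        show ((MvPolynomial.aeval _ (MvPolynomial.X (a, _)) : T) : A) = _
        rw [MvPolynomial.aeval_X]
      · exact ⟨0, by rw [map_zero, Polynomial.coeff_eq_zero_of_natDegree_lt (hdeg.trans_lt hi)]⟩)
      (hmonic a)
    refine ⟨Q, hQm, ?_⟩
    rw [← Polynomial.eval_map, hQ, Polynomial.eval_prod]
    exact Finset.prod_eq_zero (Finset.mem_univ 1) (by simp)
  have hfin : Module.Finite S A := by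
    have hadj : Algebra.adjoin S (t : Set A) = ⊤ := by
      rw [eq_top_iff]
      intro x _
      have hx : x ∈ Algebra.adjoin R (t : Set A) := ht ▸ Algebra.mem_top
      have hle : Algebra.adjoin R (t : Set A) ≤ (Algebra.adjoin S (t : Set A)).restrictScalars R :=
        Algebra.adjoin_le Algebra.subset_adjoin
      exact hle hx
    refine Module.Finite.of_fg_top ?_
    have h := fg_adjoin_of_finite t.finite_toSet (fun a ha => hint ⟨a, ha⟩)
    rwa [hadj, Algebra.top_toSubmodule] at h
  have : Algebra.FinitePresentation S A :=
    Algebra.FinitePresentation.of_restrict_scalars_finitePresentation R S A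
  have : Module.FinitePresentation S A := Module.FinitePresentation.of_finite_of_finitePresentation S A
  let u : R := (hG.unit⁻¹ : Rˣ)
  have hu : u * (Fintype.card G : R) = 1 := by simp [u]
  let i : T →ₗ[S] A :=
    { toFun := fun x => (x : A)
      map_add' := fun _ _ => rfl
      map_smul' := fun s x => by
        show ((s • x : T) : A) = s • (x : A)
        rw [Algebra.smul_def, Algebra.smul_def]
        rfl }
  have hfix : ∀ (s : S) (g : G), g • (algebraMap S A s) = algebraMap S A s := fun s g => (κ s).2 g
  let π : A →ₗ[S] T :=
    { toFun := fun x => ⟨u • ∑ g : G, g • x, fun h => by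
        rw [smul_comm, Finset.smul_sum]
        congr 1
        exact Fintype.sum_equiv (Equiv.mulLeft h) _ _ fun g => by simp [mul_smul]⟩
      map_add' := fun x y => Subtype.ext (by simp [Finset.sum_add_distrib])
      map_smul' := fun s x => Subtype.ext (by
        show u • ∑ g : G, g • (s • x) = algebraMap S A s * (u • ∑ g : G, g • x)
        simp only [Algebra.smul_def s, smul_mul', hfix, ← Finset.mul_sum]
        rw [mul_smul_comm]) }
  have hπi : π ∘ₗ i = LinearMap.id := LinearMap.ext fun x => Subtype.ext (by
    show u • ∑ g : G, g • (x : A) = x
    rw [Finset.sum_congr rfl fun g _ => x.2 g, Finset.sum_const, Finset.card_univ,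
      ← Nat.cast_smul_eq_nsmul R, smul_smul, hu, one_smul])
  let e := LinearMap.ker π
  have : Module.FinitePresentation S T := by
    let K := LinearMap.ker π
    let g : A →ₗ[S] K := (LinearMap.id - i ∘ₗ π).codRestrict K fun x => by
      rw [LinearMap.mem_ker, LinearMap.sub_apply, LinearMap.id_apply, LinearMap.comp_apply, map_sub]
      exact sub_eq_zero.mpr (LinearMap.congr_fun hπi (π x)).symm
    refine Module.finitePresentation_of_split_exact i g K.subtype ?_ ?_ ?_
    · refine LinearMap.ext fun x => Subtype.ext ?_
      show (x : A) - i (π x) = x
      rw [show π x = 0 from x.2, map_zero, sub_zero]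
    · exact Function.LeftInverse.injective (g := π) fun x => LinearMap.congr_fun hπi x
    · intro x
      constructor
      · intro hx
        exact ⟨π x, (sub_eq_zero.mp (congrArg Subtype.val hx)).symm⟩
      · rintro ⟨y, rfl⟩
        refine Subtype.ext ?_
        show i y - i (π (i y)) = 0
        rw [show π (i y) = y from LinearMap.congr_fun hπi y, sub_self]
  have : Algebra.FinitePresentation S T := Algebra.FinitePresentation.of_finitePresentation S T
  exact Algebra.FinitePresentation.trans R S T

end Groth.Agent.S18889
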