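import Groth.Statements.S1889
import Groth.Agent.Grpd80.Shear

set_option autoImplicit false
universe u
open CategoryTheory CategoryTheory.Limits AlgebraicGeometry
open Grpd

namespace Groth.Agent.S1889

/-- Let (U, R, s, t, c) be a groupoid scheme over S with U the spectrum of a field, W ⊆ R open and a : Z
→ R a morphism. Then the image of Z ×_{s∘a, U, t} W → R ×_{s,U,t} R → R (composition) is open. (A
groupoid scheme carries U, R, s, t, c, e, i over S with the groupoid axioms on T-points; 'finite
locally free' is finite, flat and locally of finite presentation; C ⊂ Γ(U) is the ring of functions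
a with s♯(a) = t♯(a) and M = Spec C.) -/
theorem result (S : Scheme.{u}) (G : Grpd.GroupoidScheme S) (k : Type u) [Field k] (eU : G.U ≅ Spec (CommRingCat.of k)) (W : G.R.Opens) (Z : Scheme.{u}) (a : Z ⟶ G.R) : IsOpen (Set.range ⇑(pullback.lift (pullback.fst (a ≫ G.s) (W.ι ≫ G.t) ≫ a) (pullback.snd (a ≫ G.s) (W.ι ≫ G.t) ≫ W.ι) ((Category.assoc _ _ _).trans (pullback.condition.trans (Category.assoc _ _ _).symm)) ≫ G.c)) := by
  have := Grpd80.universallyOpen_of_field eU (a ≫ G.t)
  let m : pullback (a ≫ G.s) (W.ι ≫ G.t) ⟶ pullback (a ≫ G.s) G.t :=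
    pullback.map _ _ _ _ (𝟙 Z) W.ι (𝟙 G.U) (by simp) (by simp)
  have : IsOpenImmersion m := inferInstanceAs (IsOpenImmersion (pullback.map _ _ _ _ _ _ _ _ _))
  let f := m ≫ (Grpd80.shearL G a).hom ≫ pullback.snd (a ≫ G.t) G.t
  have hf : f = pullback.lift (pullback.fst (a ≫ G.s) (W.ι ≫ G.t) ≫ a)
      (pullback.snd (a ≫ G.s) (W.ι ≫ G.t) ≫ W.ι)
      ((Category.assoc _ _ _).trans (pullback.condition.trans (Category.assoc _ _ _).symm)) ≫ G.c := by
    show m ≫ (Grpd80.shearL G a).hom ≫ pullback.snd (a ≫ G.t) G.t = Grpd80.mul G _ _ _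
    simp only [Grpd80.shearL, pullback.lift_snd]
    refine Grpd80.comp_mul_eq m _ _ _ _ _ _ ?_ ?_
    · simp [m, pullback.map, pullback.lift_fst_assoc]
    · simp [m, pullback.map, pullback.lift_snd]
  rw [← hf]
  have : UniversallyOpen f := inferInstance
  exact f.isOpenMap.isOpen_range

end Groth.Agent.S1889
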