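import Groth.Statements.S18890
import Mathlib.RepresentationTheory.Invariants
import Mathlib.LinearAlgebra.TensorProduct.Tower

set_option autoImplicit false
universe u v w w'
open CAlg

namespace Groth.Agent.S18890

/-- Let R be a commutative ring, G a finite group whose order is invertible in R, M an R-module with an
R-linear action ρ of G and N an arbitrary R-module. Then the natural map M^G ⊗_R N → M ⊗_R N induced
by the inclusion of the invariants is injective, and its image is the submodule of invariants of M
⊗_R N under the action ρ ⊗ 1 (G acting on the first factor). (The source lets G be a group of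
R-automorphisms of M; a possibly non-faithful linear action changes nothing.) -/
theorem result {R : Type u} [CommRing R]
    {G : Type v} [Group G] [Finite G] (hG : IsUnit ((Nat.card G : ℕ) : R))
    {M : Type w} {N : Type w'} [AddCommGroup M] [Module R M] [AddCommGroup N] [Module R N]
    (ρ : Representation R G M) :
    Function.Injective (LinearMap.rTensor N ρ.invariants.subtype) ∧
      LinearMap.range (LinearMap.rTensor N ρ.invariants.subtype) =
        (ρ.tprod (Representation.trivial R G N)).invariants := by
  classical
  let := Fintype.ofFinite G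
  rw [Nat.card_eq_fintype_card] at hG
  let u : R := (hG.unit⁻¹ : Rˣ)
  let avg : M →ₗ[R] M := u • ∑ g : G, ρ g
  have hmem : ∀ m, avg m ∈ ρ.invariants := fun m h => by
    simp only [avg, LinearMap.smul_apply, LinearMap.sum_apply, map_smul, map_sum]
    congr 1
    exact Fintype.sum_equiv (Equiv.mulLeft h) _ _ fun g => by simp [map_mul]
  let π : M →ₗ[R] ρ.invariants := avg.codRestrict _ hmem
  have hu : u * (Fintype.card G : R) = 1 := by simp [u]
  have hπ : π ∘ₗ ρ.invariants.subtype = LinearMap.id := LinearMap.ext fun m => Subtype.ext <| by
    show avg (m : M) = m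
    simp only [avg, LinearMap.smul_apply, LinearMap.sum_apply]
    rw [Finset.sum_congr rfl fun g _ => m.2 g, Finset.sum_const, Finset.card_univ,
      ← Nat.cast_smul_eq_nsmul R, smul_smul, hu, one_smul]
  have hρ : ∀ g : G, (ρ.tprod (Representation.trivial R G N)) g = (ρ g).rTensor N := fun g =>
    TensorProduct.ext' fun m x => by simp
  refine ⟨Function.LeftInverse.injective (g := π.rTensor N) fun t => ?_, le_antisymm ?_ ?_⟩
  · rw [← LinearMap.comp_apply, ← LinearMap.rTensor_comp, hπ, LinearMap.rTensor_id, LinearMap.id_apply]
  · rintro _ ⟨t, rfl⟩ g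
    rw [hρ, ← LinearMap.comp_apply, ← LinearMap.rTensor_comp]
    congr 1
    congr 1
    exact LinearMap.ext fun m => m.2 g
  · intro t ht
    refine ⟨π.rTensor N t, ?_⟩
    rw [← LinearMap.comp_apply, ← LinearMap.rTensor_comp,
      show ρ.invariants.subtype ∘ₗ π = avg from rfl]
    have h : avg.rTensor N t = u • ∑ g : G, (ρ g).rTensor N t := by
      simp only [avg, ← LinearMap.coe_rTensorHom, map_smul, map_sum, LinearMap.smul_apply,
        LinearMap.sum_apply]
    rw [h, Finset.sum_congr rfl fun g _ => (by rw [← hρ g, ht g] : (ρ g).rTensor N t = t),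
      Finset.sum_const, Finset.card_univ, ← Nat.cast_smul_eq_nsmul R, smul_smul, hu, one_smul]

end Groth.Agent.S18890
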