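import Groth.Statements.S18891
import Groth.Agent.Unr55.TopInv
import Mathlib.AlgebraicGeometry.ZariskisMainTheorem

set_option autoImplicit false
universe u
open CategoryTheory CategoryTheory.Limits AlgebraicGeometry
open Mor

namespace Groth.Agent.S18891

/-- Let f : X → Y be a morphism of schemes which is proper and formally unramified, and such that for
every algebraically closed field Ω the map X(Ω) → Y(Ω), g ↦ g ≫ f, is injective. Then f is a closed
immersion. -/
theorem result {X Y : Scheme.{u}} (f : X ⟶ Y)
    [IsProper f] [FormallyUnramified f]
    (hinj : ∀ (Ω : Type u) [Field Ω] [IsAlgClosed Ω],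
      Function.Injective (fun g : Spec (CommRingCat.of Ω) ⟶ X => g ≫ f)) :
    IsClosedImmersion f := by
  haveI : UniversallyInjective f := by
    rw [universallyInjective_eq_diagonal]
    show Surjective (pullback.diagonal f)
    refine ⟨fun z => ?_⟩
    let Ω := AlgebraicClosure ((pullback f f).residueField z)
    let q : Spec (CommRingCat.of Ω) ⟶ pullback f f :=
      Spec.map (CommRingCat.ofHom (algebraMap ((pullback f f).residueField z) Ω)) ≫ (pullback f f).fromSpecResidueField z
    have h := hinj Ω (a₁ := q ≫ pullback.fst f f) (a₂ := q ≫ pullback.snd f f)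
      (by simp only [Category.assoc, pullback.condition])
    have hq : (q ≫ pullback.fst f f) ≫ pullback.diagonal f = q := by
      apply pullback.hom_ext
      · rw [Category.assoc, pullback.diagonal_fst, Category.comp_id]
      · rw [Category.assoc, pullback.diagonal_snd, Category.comp_id, h]
    obtain ⟨o⟩ : Nonempty ↥(Spec (CommRingCat.of Ω)) := ⟨IsLocalRing.closedPoint Ω⟩
    refine ⟨(q ≫ pullback.fst f f) o, ?_⟩
    rw [← Scheme.Hom.comp_apply, hq, Scheme.Hom.comp_apply]
    exact Scheme.fromSpecResidueField_apply _ _
  haveI : Mono f := Unr55.mono_of_universallyInjective f inferInstance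
  exact (IsClosedImmersion.iff_isProper_and_mono f).2 ⟨inferInstance, inferInstance⟩

end Groth.Agent.S18891
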