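import Groth.Statements.S18892
import Groth.Agent.CvR64.Deck
import Groth.Agent.Curves2.SmoothNormal
import Groth.Agent.Curves2.ProjLineProper
import Groth.Agent.H98Proj.SmoothPn
import Groth.Agent.Crv77.RatPoint
import Groth.Agent.CrvPic30.Omega
import Groth.Agent.S10829

set_option autoImplicit false
universe u
open CategoryTheory CategoryTheory.Limits AlgebraicGeometry
open Curves

namespace Groth.Agent.S18892

/-- Let k be an algebraically closed field of characteristic different from 2 and X a hyperelliptic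
curve over k, i.e. p : X → Spec k is smooth and proper, X is connected of dimension one and of genus
dim_k H¹(X, O_X) ≥ 2, and X admits a double cover of P¹_k (a k-morphism which is finite and flat of
rank 2 at every point). A hyperelliptic involution is a k-endomorphism σ ≠ id of X with σ ≫ h = h
for some such double cover h. Then any two hyperelliptic involutions of X coincide. -/
theorem result (k : Type u) [Field k] [IsAlgClosed k] (h2 : (2 : k) ≠ 0)
    {X : Scheme.{u}} (p : X ⟶ Spec (CommRingCat.of k)) [IsProper p] [Smooth p] [ConnectedSpace ↥X]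
    (hX : topologicalKrullDim ↥X = 1) (hg : 2 ≤ @Curv2.genus k _ X ⟨p⟩)
    (h₁ h₂ : X ⟶ CohB1.ProjSpace 1 k) (hh₁ : h₁ ≫ CohB1.ProjSpace.toSpec 1 k = p)
    (hh₂ : h₂ ≫ CohB1.ProjSpace.toSpec 1 k = p)
    [IsFinite h₁] [Flat h₁] (hr₁ : ∀ y : ↥(CohB1.ProjSpace 1 k), h₁.finrank y = 2)
    [IsFinite h₂] [Flat h₂] (hr₂ : ∀ y : ↥(CohB1.ProjSpace 1 k), h₂.finrank y = 2)
    (σ τ : X ⟶ X) (hσ : σ ≫ h₁ = h₁) (hσ₁ : σ ≠ 𝟙 X) (hτ : τ ≫ h₂ = h₂) (hτ₁ : τ ≠ 𝟙 X) :
    σ = τ := by
  letI : X.Over (Spec (CommRingCat.of k)) := ⟨p⟩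
  letI : (CohB1.ProjSpace 1 k).Over (Spec (CommRingCat.of k)) := ⟨CohB1.ProjSpace.toSpec 1 k⟩
  haveI : IsProper (X ↘ Spec (CommRingCat.of k)) := ‹IsProper p›
  haveI : Smooth (X ↘ Spec (CommRingCat.of k)) := ‹Smooth p›
  haveI hpY : IsProper (CohB1.ProjSpace 1 k ↘ Spec (CommRingCat.of k)) := Curves2.ProjLine.isProper_toSpec k 1
  haveI : Smooth (CohB1.ProjSpace 1 k ↘ Spec (CommRingCat.of k)) := H98Proj.smooth_toSpec 1 k
  have hdY : topologicalKrullDim (CohB1.ProjSpace 1 k) = 1 := by exact_mod_cast S10829.result k 1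
  haveI : IsIntegral (CohB1.ProjSpace 1 k) := Curves2.ProjLine.isIntegral k 1
  haveI : ConnectedSpace (CohB1.ProjSpace 1 k) := inferInstance
  have hNX := Crv77.isNoetherian_of_proper k X
  have hNY := Crv77.isNoetherian_of_proper k (CohB1.ProjSpace 1 k)
  haveI : IsIntegral X := Crv77.isIntegral_of_connected_normal fun x => Curves2.isIntegrallyClosed_stalk_of_smooth p x
  let := CrvPic30.ffAlg k X
  let := CrvPic30.ffAlg k (CohB1.ProjSpace 1 k)
  have hS := CrvPic30.setup_of_smooth_algClosed (k := k) (C := X) hX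
  have hP := CrvPic30.setup_of_smooth_algClosed (k := k) (C := CohB1.ProjSpace 1 k) hdY
  have hg0 : Curv2.genus k (CohB1.ProjSpace 1 k) = 0 := by
    haveI := Crv77.subsingleton_h1_of_iso_projLine k (X := CohB1.ProjSpace 1 k) (Iso.refl _)
    exact Module.finrank_zero_of_subsingleton
  have e₁ := Crv77.generic_of_isFinite hS hP h₁
  have e₂ := Crv77.generic_of_isFinite hS hP h₂
  have hg' : 2 ≤ Curv2.genus k X := hg
  rw [hS.genus_eq] at hg'
  rw [hP.genus_eq] at hg0
  have d₁ := ((Crv77.finrank_fieldRange (k := k) h₁ hh₁ e₁).trans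
    (Crv77.finrank_eq_residueDegree h₁ e₁ (genericPoint _)).symm).trans (hr₁ _)
  have d₂ := ((Crv77.finrank_fieldRange (k := k) h₂ hh₂ e₂).trans
    (Crv77.finrank_eq_residueDegree h₂ e₂ (genericPoint _)).symm).trans (hr₂ _)
  exact CvR64.deck_unique h₁ h₂ hh₁ hh₂ e₁ e₂
    (Crv77.eq_of_genus_zero_double hS.ff hg' _ _ d₁ d₂
      ((Crv77.genus_fieldRange _).trans hg0) ((Crv77.genus_fieldRange _).trans hg0))
    d₁ σ τ hσ hσ₁ hτ hτ₁

end Groth.Agent.S18892
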