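import Groth.Statements.S18895
import Groth.Agent.Curves2.CurveToolkit
import Groth.Agent.Amp73.Tensor
import Mathlib.Topology.KrullDimension

set_option autoImplicit false
universe u
open CategoryTheory CategoryTheory.Limits AlgebraicGeometry
open Curves

namespace Groth.Agent.S18895
open CategoryTheory AlgebraicGeometry Opposite Groth.Agent.Var76.LineBundle Groth.Agent.Var76.ZeroScheme in
theorem ofSection_val {X : Scheme.{u}} (L : X.Modules) (s : Coh.structureModule X ⟶ L) :
    Var76.Frames.ofSection L (val L s ⊤) = s := by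
  apply L.unitHomEquiv.injective
  apply Subtype.ext
  funext U
  show val L (Var76.Frames.ofSection L (val L s ⊤)) U.unop = val L s U.unop
  rw [Var76.Frames.val_ofSection, res_val]

open Groth.Agent.Var76.LineBundle Groth.Agent.Var76.ZeroScheme


/-- Let k be an algebraically closed field of characteristic different from 2 (the standing convention
of the section; it plays no role here) and X a connected smooth proper curve over k of genus dim_k
H¹(X, O_X) ≥ 1. For every invertible O_X-module L of positive degree one has dim_k H⁰(X, L) ≤ deg L. -/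
theorem result (k : Type u) [Field k] [IsAlgClosed k] (h2 : (2 : k) ≠ 0)
    (X : Scheme.{u}) [X.Over (Spec (CommRingCat.of k))]
    [IsProper (X ↘ Spec (CommRingCat.of k))] [Smooth (X ↘ Spec (CommRingCat.of k))] [ConnectedSpace ↥X]
    (hX : topologicalKrullDim ↥X = 1) (hg : 1 ≤ Curv2.genus k X)
    (L : X.Modules) (hL : PicF.IsInvertible L) (hdeg : 0 < Curv2.deg k X L 1) :
    (Module.finrank k (Coh.HH X L 0) : ℤ) ≤ Curv2.deg k X L 1 := by
  have : IsLocallyNoetherian X := LocallyOfFiniteType.isLocallyNoetherian (X ↘ Spec (CommRingCat.of k))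
  have hnor := fun x : X => Groth.Agent.Curves2.isIntegrallyClosed_stalk_of_smooth
    (X ↘ Spec (CommRingCat.of k)) x
  have : IsIntegral X := Groth.Agent.SchBasics.isIntegral_iff_connectedSpace_and_isDomain.mpr
    ⟨inferInstance, fun x => (hnor x).1⟩
  have : IsNoetherian X := Crv77.isNoetherian_of_proper k X
  have hC := Crv77.curveCoh_of_proper k X hX.le
  have h1O := Groth.Agent.Curves2.finrank_h0_structureModule k (X := X)
  have hne : ∀ P : X, ∃ y : X, y ≠ P := by
    intro P
    by_contra hall
    push Not at hall
    have : Subsingleton X := ⟨fun a b => (hall a).trans (hall b).symm⟩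
    have : topologicalKrullDim X ≤ 0 := topologicalKrullDim_zero_of_discreteTopology X
    rw [hX] at this
    exact absurd this (by norm_num)
  have hpt : ∀ (P : X) (hP : IsClosed ({P} : Set X)),
      PicF.IsInvertible (ClSub.idealMod (Crv77.ptIdeal hP)) := fun P hP => by
    have := (hnor P).2
    exact Groth.Agent.Curves2.isInvertible_ptIdeal hX.le hP (hne P)
  suffices key : ∀ (n : ℕ) (L : X.Modules), PicF.IsInvertible L → 1 ≤ n →
      Curv2.deg k X L 1 = n → Module.finrank k (Coh.HH X L 0) ≤ n by
    obtain ⟨n, hn⟩ := Int.eq_ofNat_of_zero_le hdeg.le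
    rw [hn]
    exact_mod_cast key n L hL (by omega) hn
  intro n
  induction n with
  | zero => intro L _ h; omega
  | succ n ih =>
    intro L hL _ hdeg
    by_contra hbig
    obtain ⟨P, -, hP⟩ := (isClosed_univ (X := X)).exists_closed_singleton Set.univ_nonempty
    have step : ∀ (P : X) (hP : IsClosed ({P} : Set X)),
        PicF.IsInvertible (CohB1.tensorMod (ClSub.idealMod (Crv77.ptIdeal hP)) L) ∧
        Curv2.deg k X (CohB1.tensorMod (ClSub.idealMod (Crv77.ptIdeal hP)) L) 1 = n ∧
        n + 1 ≤ Module.finrank k (Coh.HH X (CohB1.tensorMod (ClSub.idealMod (Crv77.ptIdeal hP)) L) 0) := by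
      intro P hP
      refine ⟨EGA73.isInvertible_tensorMod (hpt P hP) hL, ?_, ?_⟩
      · rw [Groth.Agent.Curves2.deg_ptIdeal_tensor k hX.le hP hL, hdeg]
        push_cast; ring
      · have := hC.h0_le_add_point hP hL
        rw [Crv77.finrank_quot_point k hP, Crv77.finrank_residueField_eq_one k hP] at this
        omega
    rcases Nat.eq_zero_or_pos n with rfl | hn
    swap
    · obtain ⟨h1, h2, h3⟩ := step P hP
      have := ih _ h1 hn h2
      omega
    -- every point gives the same degree one divisor
    have htriv : ∀ (P : X) (hP : IsClosed ({P} : Set X)),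
        Nonempty (CohB1.tensorMod (ClSub.idealMod (Crv77.ptIdeal hP)) L ≅ Coh.structureModule X) := by
      intro P hP
      obtain ⟨h1, h2, h3⟩ := step P hP
      exact Groth.Agent.Curves2.nonempty_iso_structureModule_of_deg_zero k hX.le h1
        (Module.nontrivial_of_finrank_pos (R := k) (by omega)) h2
    have hgen : ∃ t : Γ(L, ⊤), P ∈ CohB1.genLocus L (Var76.Frames.ofSection L t) := by
      rw [hC.exists_gen_iff_h0_lt hP hL]
      rw [Groth.Agent.Curves2.finrank_congr k (htriv P hP).some 0, h1O]
      omega
    obtain ⟨t, ht⟩ := hgen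
    have hpow : ∀ m : ℕ, Curv2.deg k X (CohB1.tensorPow L m) 1 = m ∧
        m + 1 ≤ Module.finrank k (Coh.HH X (CohB1.tensorPow L m) 0) := by
      intro m
      induction m with
      | zero => exact ⟨Groth.Agent.Curves2.deg_structureModule k, by rw [show CohB1.tensorPow L 0 = Coh.structureModule X from rfl, h1O]⟩
      | succ m ihm =>
        refine ⟨?_, ?_⟩
        · show Curv2.deg k X (CohB1.tensorMod (CohB1.tensorPow L m) L) 1 = _
          rw [hC.deg_tensorMod hX.le (EGA73.isInvertible_tensorPow hL m) hL, ihm.1, hdeg]
          push_cast; ring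
        · have hlt := (hC.exists_gen_iff_h0_lt hP (EGA73.isInvertible_tensorPow hL (m + 1))).1
            ⟨val (CohB1.tensorPow L (m + 1))
              (SecTwist.powHom (Var76.Frames.ofSection L t) (m + 1)) ⊤, by
              rw [ofSection_val]
              rw [Amp73.genLocus_powHom hL _ (m + 1) (Nat.succ_pos m)]
              exact ht⟩
          have e : CohB1.tensorMod (ClSub.idealMod (Crv77.ptIdeal hP)) (CohB1.tensorPow L (m + 1)) ≅
              CohB1.tensorPow L m :=
            (EGA73.tensAssoc' _ _ _).symm ≪≫ EGA73.tensIso (EGA73.tensComm _ _) (Iso.refl L) ≪≫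
              EGA73.tensAssoc' _ _ _ ≪≫ EGA73.tensIso (Iso.refl _) (htriv P hP).some ≪≫
              EGA73.tensUnitRight _
          rw [Groth.Agent.Curves2.finrank_congr k e 0] at hlt
          omega
    set g := Curv2.genus k X with hgdef
    obtain ⟨hd, hh⟩ := hpow (2 * g)
    have hvan : Subsingleton (Coh.HH X (CohB1.tensorPow L (2 * g)) 1) :=
      hC.h1_eq_zero_of_deg_gt hX h1O (EGA73.isInvertible_tensorPow hL (2 * g)) (by rw [hd]; omega)
    have hR := hC.riemann h1O (Crv77.isCoh_of_isInvertible (EGA73.isInvertible_tensorPow hL (2 * g)))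
    simp only [Crv77.h, Module.finrank_zero_of_subsingleton, hd] at hR
    omega

end Groth.Agent.S18895
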