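import Groth.Statements.S18896
import Groth.Agent.Curves2.RelVA.StructBC

set_option autoImplicit false
universe u
open CategoryTheory CategoryTheory.Limits AlgebraicGeometry
open Curves

namespace Groth.Agent.S18896

/-- Let f : X → S be a smooth curve of genus g over a scheme S, i.e. f is proper and smooth and its
fibres are geometrically connected of dimension one and genus g (g the dimension of H¹ of the
structure sheaf of each fibre over its residue field). Then R¹f_*(O_X) is a locally free O_S-module
of rank g. -/
theorem result {X S : Scheme.{u}} (f : X ⟶ S)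
    [IsProper f] [Smooth f] [GeometricallyConnected f]
    (hdim : ∀ s : S, topologicalKrullDim ↥(f.fiber s) = 1) (g : ℕ)
    (hgen : ∀ s : S, letI : (f.fiber s).Over (Spec (S.residueField s)) := ⟨f.fiberToSpecResidueField s⟩
      Curv2.genus (S.residueField s) (f.fiber s) = g)
    [HasInjectiveResolutions X.Modules] :
    FlatMod.IsFinLocFreeOfRank g ((Coh.Rpush f 1).obj (Coh.structureModule X)) := by
  intro t
  have hO := PicLoc.isInvertible_structureModule X
  haveI : (Coh.structureModule X).IsQuasicoherent := Mero90.isQCoh_of_isInvertible hO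
  obtain ⟨V, hV, htV, -⟩ := exists_isAffineOpen_mem_and_subset (X := S) (x := t) (U := ⊤) trivial
  obtain ⟨M⟩ := Mum71.exists_cohModel f _ (Cube73.isFP_of_isInvertible hO)
    (Cube73.isFlatOver_of_isInvertible f hO) hV
  letI : (f.fiber t).Over (Spec (CommRingCat.of (S.residueField t))) := ⟨f.fiberToSpecResidueField t⟩
  haveI : IsProper ((f.fiber t) ↘ Spec (CommRingCat.of (S.residueField t))) :=
    MorphismProperty.pullback_snd f _ inferInstance
  haveI : Smooth ((f.fiber t) ↘ Spec (CommRingCat.of (S.residueField t))) :=
    MorphismProperty.pullback_snd f _ inferInstance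
  haveI : GeometricallyConnected ((f.fiber t) ↘ Spec (CommRingCat.of (S.residueField t))) :=
    MorphismProperty.pullback_snd f _ inferInstance
  haveI := Curves2.RelVA.irreducibleSpace_fibre f t
  obtain ⟨a, hta, ha⟩ := Mum71.exists_splitsAt_of_epi_bc0 hV M htV (Curves2.RelVA.epi_bc0_structure f t
    (Curves2.RelVA.appTop_surjective_of_finrank
      (Crv77.finrank_h0_of_connected (S.residueField t) (f.fiber t))))
  obtain ⟨c, htc, hc⟩ := Mum71.exists_vanishAt hV M 2 htV
    (Mum71.subsingleton_fiberH_of_dim _ t (d := 1) (hdim t).le one_lt_two)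
  obtain ⟨U, htU, ⟨i⟩⟩ := Curves2.RelVA.exists_free_rpush_rank hV M (p := 1) (a := c) (b := a)
    (Mum71.splitsAt_d_congr M (by omega) (by omega) hc.2.1) (Mum71.splitsAt_d_congr M (by omega) (by omega) ha)
    htc hta
  have hr : CohIII.fiberRank f (Coh.structureModule X) 1 t = g :=
    (Crv77.hEquiv (S.residueField t) (PicLoc.pullbackStructureIso (f.fiberι t)) 1).finrank_eq.trans (hgen t)
  rw [hr] at i
  exact ⟨U, htU, ⟨i⟩⟩

end Groth.Agent.S18896
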