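import Groth.Statements.S18899
import Mathlib.Algebra.MvPolynomial.Eval
import Mathlib.Algebra.Polynomial.Eval.Defs
import Mathlib.Algebra.Polynomial.BigOperators
import Mathlib.Algebra.Ring.Action.Basic
import Mathlib.RingTheory.MvPolynomial.Basic

set_option autoImplicit false
universe u v w
open CAlg

namespace Groth.Agent.S18899

/-- Let A be a commutative ring on which a finite group G acts by ring automorphisms, with ring of
invariants A^G, and let K be a field. If two ring homomorphisms f₁, f₂ : A → K have the same
restriction to A^G, then f₂ = f₁ ∘ γ for some γ ∈ G. -/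
theorem result {A : Type u} [CommRing A] {G : Type v} [Group G] [Finite G]
    [MulSemiringAction G A] {K : Type w} [Field K] (f₁ f₂ : A →+* K)
    (h : ∀ a : A, (∀ g : G, g • a = a) → f₁ a = f₂ a) :
    ∃ γ : G, ∀ a : A, f₂ a = f₁ (γ • a) := by
  classical
  let := Fintype.ofFinite G
  by_contra hcon
  simp only [not_exists, not_forall] at hcon
  choose a ha using hcon
  let α : G → (MvPolynomial G A →+* MvPolynomial G A) := fun g =>
    MvPolynomial.map (MulSemiringAction.toRingHom G A g)
  let s : MvPolynomial G A := ∑ h, MvPolynomial.C (a h) * MvPolynomial.X h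
  let P : Polynomial (MvPolynomial G A) := ∏ g : G, (Polynomial.X - Polynomial.C (α g s))
  have hinv : ∀ g, P.map (α g) = P := by
    intro g
    simp only [P, Polynomial.map_prod, Polynomial.map_sub, Polynomial.map_X, Polynomial.map_C]
    refine Fintype.prod_equiv (Equiv.mulLeft g) _ _ fun h => ?_
    simp [α, s, mul_smul]
  have hf : ∀ i, MvPolynomial.map f₁ (P.coeff i) = MvPolynomial.map f₂ (P.coeff i) := by
    intro i
    ext m
    rw [MvPolynomial.coeff_map, MvPolynomial.coeff_map]
    refine h _ fun g => ?_
    have := congrArg (fun Q => MvPolynomial.coeff m (Polynomial.coeff Q i)) (hinv g)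
    simpa [α, Polynomial.coeff_map, MvPolynomial.coeff_map] using this
  have hP : P.map (MvPolynomial.map f₁) = P.map (MvPolynomial.map f₂) :=
    Polynomial.ext fun i => by simp [Polynomial.coeff_map, hf]
  have h0 := congrArg (Polynomial.eval (MvPolynomial.map f₂ s)) hP
  have h1 : (P.map (MvPolynomial.map f₂)).eval (MvPolynomial.map f₂ s) = 0 := by
    simp only [P, Polynomial.map_prod, Polynomial.eval_prod, Polynomial.map_sub, Polynomial.map_X,
      Polynomial.map_C, Polynomial.eval_sub, Polynomial.eval_X, Polynomial.eval_C]
    refine Finset.prod_eq_zero (Finset.mem_univ 1) ?_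
    simp [α, s]
  rw [h1] at h0
  simp only [P, Polynomial.map_prod, Polynomial.eval_prod, Polynomial.map_sub, Polynomial.map_X,
    Polynomial.map_C, Polynomial.eval_sub, Polynomial.eval_X, Polynomial.eval_C,
    Finset.prod_eq_zero_iff] at h0
  obtain ⟨g, -, hg⟩ := h0
  rw [sub_eq_zero] at hg
  have := congrArg (MvPolynomial.coeff (Finsupp.single g 1)) hg
  simp [α, s, MvPolynomial.coeff_sum, MvPolynomial.coeff_C_mul,
    MvPolynomial.coeff_X', Finsupp.single_left_inj one_ne_zero] at this
  exact ha g this

end Groth.Agent.S18899
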