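import Groth.Statements.S1890
import Mathlib.AlgebraicGeometry.Morphisms.Immersion
import Mathlib.AlgebraicGeometry.Morphisms.Affine

set_option autoImplicit false
universe u
open CategoryTheory CategoryTheory.Limits AlgebraicGeometry
open Grpd

namespace Groth.Agent.S1890

/-- Take a quasi-compact immersion j : V → Spec A and an element f ∈ A such that j⁻¹(D(f)) is affine and
j(V) ∩ V(f) is closed in Spec A. Then V is affine. -/
theorem result (A : Type u) [CommRing A] (V : Scheme.{u}) (j : V ⟶ Spec (CommRingCat.of A)) [IsImmersion j] [QuasiCompact j] (f : A) (haff : IsAffineOpen (j ⁻¹ᵁ PrimeSpectrum.basicOpen f)) (hcl : IsClosed (Set.range ⇑j ∩ PrimeSpectrum.zeroLocus {f})) : IsAffine V := by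
  classical
  let O : (Spec (CommRingCat.of A)).Opens := ⟨_, hcl.isOpen_compl⟩
  let W := j.coborderRange
  have hOW : ∀ x, x ∈ O ∨ x ∈ W := fun x => by
    by_cases hx : x ∈ Set.range ⇑j ∩ PrimeSpectrum.zeroLocus {f}
    · exact Or.inr (subset_coborder hx.1)
    · exact Or.inl hx
  suffices IsAffineHom j from isAffine_of_isAffineHom j
  refine IsZariskiLocalAtTarget.of_iSup_eq_top (P := @IsAffineHom) (fun b : Bool => if b then O else W) ?_ ?_
  · refine top_le_iff.mp fun x _ => TopologicalSpace.Opens.mem_iSup.mpr ?_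
    rcases hOW x with h | h
    · exact ⟨true, h⟩
    · exact ⟨false, h⟩
  intro b
  cases b
  · show IsAffineHom (j ∣_ W)
    have h1 : j ⁻¹ᵁ W = ⊤ := top_le_iff.mp fun x _ => subset_coborder ⟨x, rfl⟩
    have : IsClosedImmersion (j ∣_ W) := by
      refine IsClosedImmersion.of_isPreimmersion _ ?_
      have : Set.range ⇑(j ∣_ W) = W.ι ⁻¹' closure (Set.range ⇑j) := by
        ext y
        constructor
        · rintro ⟨x, rfl⟩
          refine subset_closure ⟨(j ⁻¹ᵁ W).ι x, ?_⟩
          rw [← Scheme.Hom.comp_apply, ← morphismRestrict_ι, Scheme.Hom.comp_apply]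
        · intro hy
          have hmem : W.ι y ∈ Set.range ⇑j := by
            rw [← closure_inter_coborder (s := Set.range ⇑j)]
            exact ⟨hy, y.2⟩
          obtain ⟨x, hx⟩ := hmem
          refine ⟨⟨x, by rw [h1]; trivial⟩, W.ι.isOpenEmbedding.injective ?_⟩
          rw [← Scheme.Hom.comp_apply, morphismRestrict_ι]
          exact hx
      rw [this]
      exact isClosed_closure.preimage W.ι.continuous
    infer_instance
  · show IsAffineHom (j ∣_ O)
    have h1 : j ⁻¹ᵁ O = j ⁻¹ᵁ PrimeSpectrum.basicOpen f := by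
      ext x
      show j x ∉ Set.range ⇑j ∩ PrimeSpectrum.zeroLocus {f} ↔ j x ∈ PrimeSpectrum.basicOpen f
      simp only [Set.mem_inter_iff, Set.mem_range_self, true_and]
      exact (Set.ext_iff.mp (PrimeSpectrum.basicOpen_eq_zeroLocus_compl f) (j x)).symm
    have : IsAffine (j ⁻¹ᵁ O : Scheme.{u}) := by rw [h1]; exact haff
    have : IsAffineHom ((j ∣_ O) ≫ O.ι) := inferInstance
    exact MorphismProperty.of_postcomp (W := @IsAffineHom) (W' := @IsSeparated) _ O.ι inferInstance this

end Groth.Agent.S1890
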