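import Groth.Prelude.Def_SGA1
import Mathlib.AlgebraicGeometry.Morphisms.FlatRank
import Mathlib.Algebra.Group.Subgroup.ZPowers.Basic
import Groth.Agent.FinCov99.Invol
-- import your own Groth.Agent.* helpers here

set_option autoImplicit false
universe u
open CategoryTheory CategoryTheory.Limits AlgebraicGeometry
namespace DblCov
end DblCov
open DblCov

namespace Groth.Agent.S18900

open FinCov99 Groth.Agent.QC70 Groth.Agent.AlgSub72

theorem appLE_app {X Y : Scheme.{u}} {g : X ⟶ X} {f : X ⟶ Y} (hg : g ≫ f = f) (U : Y.Opens)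
    (e : f ⁻¹ᵁ U ≤ g ⁻¹ᵁ (f ⁻¹ᵁ U)) (r : Γ(Y, U)) :
    g.appLE (f ⁻¹ᵁ U) (f ⁻¹ᵁ U) e (f.app U r) = f.app U r := by
  have h1 : f.appLE U (f ⁻¹ᵁ U) le_rfl ≫ g.appLE (f ⁻¹ᵁ U) (f ⁻¹ᵁ U) e = f.app U := by
    rw [Scheme.Hom.appLE_comp_appLE, Scheme.Hom.app_eq_appLE]
    congr 1
  rw [← Scheme.Hom.app_eq_appLE] at h1
  exact ConcreteCategory.congr_hom h1 r

/-- Let f : X → Y be a double cover, i.e. a finite, flat, locally finitely presented morphism of rank 2
at every point, and assume 2 is invertible in O_Y(Y). Then X carries a Y-automorphism σ with σ ∘ σ =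
id such that f is the quotient of X by the group generated by σ: f is affine and σ-invariant, and
over every open subset of Y the sections of O_Y are exactly the σ-invariant sections of O_X. (The
source adds that σ has order exactly 2, which holds as soon as X is non-empty.) -/
theorem result {X Y : Scheme.{u}} (f : X ⟶ Y)
    [IsFinite f] [Flat f] [LocallyOfFinitePresentation f] (hrk : ∀ y : Y, f.finrank y = 2)
    (h2 : IsUnit (2 : Γ(Y, ⊤))) :
    ∃ σ : Aut X, σ.hom ≫ f = f ∧ σ * σ = 1 ∧ SGA1.IsQuot (Subgroup.zpowers σ).subtype f := by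
  let A := RelSpec.QCAlg.directImage f
  have h : FlatMod.IsFinLocFreeOfRank 2 A.toModule :=
    isFinLocFreeOfRank_of_isCover f 2 ⟨⟨inferInstance, inferInstance, inferInstance⟩, hrk⟩
  let σ : ∀ V : Y.Opens, Γ(X, f ⁻¹ᵁ V) →+* Γ(X, f ⁻¹ᵁ V) := fun V => sgHom (A := A) h V
  obtain ⟨s, hs⟩ := exists_hom f σ (fun i a => sg_res (A := A) h i a)
  have hov : ∀ {M : Scheme.{u}} {a b : X ⟶ M},
      (∀ (V : Y.Opens), IsAffineOpen V → (f ⁻¹ᵁ V).ι ≫ a = (f ⁻¹ᵁ V).ι ≫ b) → a = b := fun {M a b} hh => by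
    refine Scheme.Cover.hom_ext (Scheme.openCoverOfIsOpenCover _
      (fun V : Y.affineOpens => f ⁻¹ᵁ V.1) ?_) _ _ fun V => hh V.1 V.2
    refine top_le_iff.1 fun z _ => ?_
    obtain ⟨V, hV, hz, -⟩ := exists_isAffineOpen_mem_and_subset (X := Y) (x := f z) (U := ⊤) trivial
    exact TopologicalSpace.Opens.mem_iSup.2 ⟨⟨V, hV⟩, hz⟩
  have hsf : s ≫ f = f := hov fun V hV => by
    have hstr : f.app V ≫ CommRingCat.ofHom (σ V) = f.app V := by
      ext r; exact sg_str (A := A) h V r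
    have hsq : Spec.map (f.app V) ≫ hV.fromSpec = (hV.preimage f).fromSpec ≫ f := by
      rw [Scheme.Hom.app_eq_appLE]; exact hV.SpecMap_appLE_fromSpec f (hV.preimage f) le_rfl
    rw [← Category.assoc, hs V hV, piece, Category.assoc, Category.assoc, ← hsq,
      ← Category.assoc (Spec.map (CommRingCat.ofHom _)), ← Spec.map_comp, hstr, hsq,
      ← Category.assoc, IsAffineOpen.isoSpec_hom_fromSpec]
  have hss : s ≫ s = 𝟙 X := hov fun V hV => by
    have hsig : CommRingCat.ofHom (σ V) ≫ CommRingCat.ofHom (σ V) = 𝟙 _ := by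
      ext r; exact sg_sg (A := A) h V r
    have hfs : (hV.preimage f).fromSpec ≫ s = Spec.map (CommRingCat.ofHom (σ V)) ≫ (hV.preimage f).fromSpec := by
      rw [← IsAffineOpen.isoSpec_inv_ι, Category.assoc, hs V hV, piece, Iso.inv_hom_id_assoc,
        IsAffineOpen.isoSpec_inv_ι]
    rw [Category.comp_id, ← Category.assoc, hs V hV, piece, Category.assoc, Category.assoc, hfs,
      ← Category.assoc (Spec.map _), ← Spec.map_comp, hsig, Spec.map_id]
    exact (congrArg _ (Category.id_comp _)).trans (IsAffineOpen.isoSpec_hom_fromSpec _)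
  let τ : Aut X := ⟨s, s, hss, hss⟩
  have hinv' : ∀ g : Aut X, g ∈ Subgroup.zpowers τ → g.hom ≫ f = f := by
    intro g hg
    rw [Subgroup.zpowers_eq_closure] at hg
    induction hg using Subgroup.closure_induction with
    | mem x hx => obtain rfl := Set.mem_singleton_iff.1 hx; exact hsf
    | one => exact Category.id_comp _
    | mul a b _ _ ha hb => exact (Category.assoc _ _ _).trans ((congrArg _ ha).trans hb)
    | inv a _ ha => exact (congrArg _ ha.symm).trans (Iso.inv_hom_id_assoc a f)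
  have hinv : ∀ g : Subgroup.zpowers τ, g.1.hom ≫ f = f := fun g => hinv' g.1 g.2
  have happ : ∀ (U : Y.Opens) (e : f ⁻¹ᵁ U ≤ s ⁻¹ᵁ (f ⁻¹ᵁ U)) (t : Γ(X, f ⁻¹ᵁ U)),
      s.appLE (f ⁻¹ᵁ U) (f ⁻¹ᵁ U) e t = σ U t := by
    intro U e t
    refine bExt (A := A) fun y hy => ?_
    obtain ⟨V, hV, hyV, hVU⟩ := exists_isAffineOpen_mem_and_subset (X := Y) hy
    refine ⟨V, hVU, hyV, ?_⟩
    have eV : f ⁻¹ᵁ V ≤ s ⁻¹ᵁ (f ⁻¹ᵁ V) := by rw [← Scheme.Hom.comp_preimage, hsf]
    have haff : s.appLE (f ⁻¹ᵁ V) (f ⁻¹ᵁ V) eV = CommRingCat.ofHom (σ V) := by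
      apply Spec.map_injective
      rw [← cancel_mono (hV.preimage f).fromSpec, (hV.preimage f).SpecMap_appLE_fromSpec s (hV.preimage f) eV,
        ← IsAffineOpen.isoSpec_inv_ι, Category.assoc, hs V hV, piece, Iso.inv_hom_id_assoc,
        IsAffineOpen.isoSpec_inv_ι]
    refine Eq.trans ?_ (sg_res (A := A) h hVU t).symm
    show (s.appLE (f ⁻¹ᵁ U) (f ⁻¹ᵁ U) e ≫ X.presheaf.map (homOfLE (f.preimage_mono hVU)).op) t =
      (X.presheaf.map (homOfLE (f.preimage_mono hVU)).op ≫ CommRingCat.ofHom (σ V)) t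
    rw [← haff, Scheme.Hom.appLE_map, Scheme.Hom.map_appLE]
  refine ⟨τ, hsf, Iso.ext hss, ⟨inferInstance, hinv,
    fun U => bStr_injective (A := A) h h2 U, fun U t => ⟨?_, fun ht => ?_⟩⟩⟩
  · rintro ⟨r, rfl⟩ g
    exact appLE_app (hinv g) U _ r
  · refine sg_fixed (A := A) h h2 U t ((happ U ?_ t).symm.trans (ht ⟨τ, Subgroup.mem_zpowers τ⟩))
    rw [← Scheme.Hom.comp_preimage, hsf]


end Groth.Agent.S18900
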