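import Groth.Statements.S18902
import Groth.Agent.CohFlat58.Rows
import Groth.Agent.AbSch7.SmoothFib

set_option autoImplicit false
universe u
open CategoryTheory CategoryTheory.Limits AlgebraicGeometry
open Curves

namespace Groth.Agent.S18902

/-- Let q : P → S be a conic bundle, i.e. a smooth curve of genus 0 over S (q proper and smooth, with
geometrically connected fibres of dimension one and genus dim H¹(P_s, O) = 0). Then the canonical
map O_S → q_*O_P is an isomorphism. -/
theorem result {P S : Scheme.{u}} (q : P ⟶ S)
    [IsProper q] [Smooth q] [GeometricallyConnected q]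
    (hPdim : ∀ s : S, topologicalKrullDim ↥(q.fiber s) = 1)
    (hPgen : ∀ s : S, letI : (q.fiber s).Over (Spec (S.residueField s)) := ⟨q.fiberToSpecResidueField s⟩
      Curv2.genus (S.residueField s) (q.fiber s) = 0) :
    IsIso (ClSub.unitToPush q) := by
  haveI := AbSch7.geometricallyReduced_of_smooth q
  refine CohFlat58.isIso_unitToPush q fun V => CohFlat58.isIso_app_of_fibres q (fun s => ?_) (𝟙 S)
    (IsPullback.of_horiz_isIso ⟨Category.id_comp q |>.trans (Category.comp_id q).symm⟩ : IsPullback (𝟙 P) q q (𝟙 S)) V
  refine CohFlat58.bijective_fibre_of_geomFibre q s fun K _ _ g => ?_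
  exact AbSch7.appTop_bijective_of_field (pullback.snd q g)

end Groth.Agent.S18902
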