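import Groth.Statements.S18904
import Groth.Agent.Curves2.RelVA.OmegaPow
import Groth.Agent.Curves2.RelVA.FinitePush
import Groth.Agent.S12481
import Groth.Agent.S5728

set_option autoImplicit false
universe u
open CategoryTheory CategoryTheory.Limits AlgebraicGeometry
open Curves

namespace Groth.Agent.S18904

/-- A smooth curve of genus g ≥ 2, i.e. a proper smooth morphism f : X → S whose fibres are
geometrically connected of dimension one and genus g, is a projective morphism: X is isomorphic over
S to the homogeneous spectrum of a quasi-coherent graded O_S-algebra generated by its degree-one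
part, the latter of finite type. -/
theorem result {X S : Scheme.{u}} (f : X ⟶ S)
    [IsProper f] [Smooth f] [GeometricallyConnected f]
    (hdim : ∀ s : S, topologicalKrullDim ↥(f.fiber s) = 1) (g : ℕ) (hg : 2 ≤ g)
    (hgen : ∀ s : S, letI : (f.fiber s).Over (Spec (S.residueField s)) := ⟨f.fiberToSpecResidueField s⟩
      Curv2.genus (S.residueField s) (f.fiber s) = g) :
    RelProj.IsProjective f := by
  have hΩ := EGA73.isInvertible_tensorPow (Curves2.RelVA.isInvertible_omega f hdim) 3
  have hc := Curves2.RelVA.crit_tensorPow_omega f hdim g hg hgen 3 le_rfl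
  have hva := S12481.result f _ hΩ (fun V : S.affineOpens => V.1) (iSup_affineOpens_eq_top S)
    fun V => Curves2.RelVA.isRelVeryAmplePn_restrict f _ hΩ hc V
  exact S5728.result f _ hΩ hva (Curves2.RelVA.isFT_pushforward f _ hΩ fun s => (hc s).1)

end Groth.Agent.S18904
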