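import Groth.Statements.S18905
import Groth.Agent.RedPts82.EtaleRigid

set_option autoImplicit false
universe u
open CategoryTheory CategoryTheory.Limits AlgebraicGeometry
open Mor

namespace Groth.Agent.S18905

open scoped DualNumber in
lemma subsingleton_kaehler (k : Type u) [Field k] [IsAlgClosed k] (A : Type u) [CommRing A] [Algebra k A]
    [Algebra.FiniteType k A]
    (h : ∀ φ₁ φ₂ : A →ₐ[k] DualNumber k,
      (TrivSqZeroExt.fstHom k k k).comp φ₁ = (TrivSqZeroExt.fstHom k k k).comp φ₂ → φ₁ = φ₂) :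
    Subsingleton Ω[A⁄k] := by
  by_contra hne
  rw [not_subsingleton_iff_nontrivial] at hne
  obtain ⟨m, hm, hle⟩ := Ideal.exists_le_maximal (Module.annihilator A Ω[A⁄k]) (by
    rw [Ne, Module.annihilator_eq_top_iff, not_subsingleton_iff_nontrivial]; exact hne)
  haveI : Module.Finite k (A ⧸ m) :=
    letI : Field (A ⧸ m) := Ideal.Quotient.field m
    finite_of_finite_type_of_isJacobsonRing k (A ⧸ m)
  haveI := hm.isPrime
  have hbij : Function.Bijective (algebraMap k (A ⧸ m)) :=
    IsAlgClosed.algebraMap_bijective_of_isIntegral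
  let e : k ≃ₐ[k] (A ⧸ m) := AlgEquiv.ofBijective (Algebra.ofId k _) hbij
  let χ : A →ₐ[k] k := e.symm.toAlgHom.comp (Ideal.Quotient.mkₐ k m)
  let N : Submodule A Ω[A⁄k] := m • ⊤
  have hχ : ∀ (a : A) (x : Ω[A⁄k]), (N.mkQ (a • x)) = χ a • N.mkQ x := by
    intro a x
    rw [← LinearMap.map_smul_of_tower, ← sub_eq_zero, ← map_sub, Submodule.mkQ_apply,
      Submodule.Quotient.mk_eq_zero, ← algebraMap_smul A (χ a) x, ← sub_smul]
    refine Submodule.smul_mem_smul ?_ Submodule.mem_top
    rw [← Ideal.Quotient.eq_zero_iff_mem, map_sub, sub_eq_zero]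
    exact (e.apply_symm_apply _).symm.trans rfl
  haveI : Nontrivial (Ω[A⁄k] ⧸ N) := by
    rw [Submodule.Quotient.nontrivial_iff]
    intro htop
    obtain ⟨r, hr, hr'⟩ := Submodule.exists_sub_one_mem_and_smul_eq_zero_of_fg_of_le_smul m ⊤
      (Module.Finite.fg_top) htop.ge
    exact hm.ne_top (Ideal.eq_top_iff_one m |>.2 (by
      have h1 : r ∈ m := hle (Module.mem_annihilator.2 fun x => hr' x Submodule.mem_top)
      simpa using m.sub_mem h1 hr))
  obtain ⟨q, hq⟩ := exists_ne (0 : Ω[A⁄k] ⧸ N)
  obtain ⟨ℓ, hℓ⟩ := not_forall.1 ((Module.forall_dual_apply_eq_zero_iff k q).not.2 hq)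
  let L : Ω[A⁄k] → k := fun x => ℓ (N.mkQ x)
  have hL : ∀ (a : A) x, L (a • x) = χ a * L x := fun a x => by
    simp only [L, hχ, map_smul, smul_eq_mul]
  have hL0 : L 0 = 0 := by simp [L]
  have hLadd : ∀ x y, L (x + y) = L x + L y := fun x y => by simp [L]
  let D := KaehlerDifferential.D k A
  let φ : A →ₐ[k] DualNumber k :=
    { toFun := fun a => TrivSqZeroExt.inl (χ a) + TrivSqZeroExt.inr (L (D a))
      map_one' := by ext <;> simp [hL0]
      map_zero' := by ext <;> simp [hL0]
      map_add' := fun a b => by ext <;> simp [hLadd]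
      map_mul' := fun a b => by
        ext
        · simp [map_mul]
        · simp [hLadd, hL, TrivSqZeroExt.snd_mul]
          ring
      commutes' := fun r => by ext <;> simp [hL0, TrivSqZeroExt.algebraMap_eq_inl] }
  have heq := h φ ((TrivSqZeroExt.inlAlgHom k k k).comp χ) (by ext a; simp [φ])
  have hD : ∀ a, L (D a) = 0 := fun a => by simpa [φ] using congrArg TrivSqZeroExt.snd (AlgHom.congr_fun heq a)
  obtain ⟨x, rfl⟩ := N.mkQ_surjective q
  refine hℓ (show L x = 0 from ?_)
  clear hℓ hq
  have hx : x ∈ Submodule.span A (Set.range D) := by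
    rw [KaehlerDifferential.span_range_derivation]; trivial
  induction hx using Submodule.span_induction with
  | mem y hy => obtain ⟨a, rfl⟩ := hy; exact hD a
  | zero => exact hL0
  | add y z _ _ hy hz => rw [hLadd, hy, hz, add_zero]
  | smul a y _ hy => rw [hL, hy, mul_zero]


lemma unramified_chart (k : Type u) [Field k] [IsAlgClosed k] {X : Scheme.{u}}
    (p : X ⟶ Spec (CommRingCat.of k)) [LocallyOfFiniteType p]
    (h : ∀ v₁ v₂ : Spec (CommRingCat.of (DualNumber k)) ⟶ X,
        v₁ ≫ p = Spec.map (CommRingCat.ofHom (algebraMap k (DualNumber k))) →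
        v₂ ≫ p = Spec.map (CommRingCat.ofHom (algebraMap k (DualNumber k))) →
        Spec.map (CommRingCat.ofHom (TrivSqZeroExt.fstHom k k k).toRingHom) ≫ v₁ =
          Spec.map (CommRingCat.ofHom (TrivSqZeroExt.fstHom k k k).toRingHom) ≫ v₂ →
        v₁ = v₂)
    {A : CommRingCat.{u}} (ι : Spec A ⟶ X) [IsOpenImmersion ι] : FormallyUnramified (ι ≫ p) := by
  haveI hft : LocallyOfFiniteType (ι ≫ p) := inferInstance
  obtain ⟨φ, hφ⟩ := Spec.map_surjective (ι ≫ p)
  rw [← hφ] at hft ⊢
  rw [HasRingHomProperty.Spec_iff (P := @FormallyUnramified)]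
  rw [HasRingHomProperty.Spec_iff (P := @LocallyOfFiniteType)] at hft
  algebraize [φ.hom]
  refine ⟨subsingleton_kaehler k A fun ψ₁ ψ₂ hψ => ?_⟩
  have e : ∀ ψ : A →ₐ[k] DualNumber k, (Spec.map (CommRingCat.ofHom ψ.toRingHom) ≫ ι) ≫ p =
      Spec.map (CommRingCat.ofHom (algebraMap k (DualNumber k))) := fun ψ => by
    rw [Category.assoc, ← hφ, ← Spec.map_comp]
    exact congrArg Spec.map (CommRingCat.hom_ext ψ.comp_algebraMap)
  have := h _ _ (e ψ₁) (e ψ₂) (by
    simp only [← Category.assoc, ← Spec.map_comp]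
    rw [← CommRingCat.ofHom_comp, ← CommRingCat.ofHom_comp]
    exact congrArg (fun t => Spec.map (CommRingCat.ofHom t) ≫ ι) (congrArg AlgHom.toRingHom hψ))
  rw [cancel_mono] at this
  exact AlgHom.ext fun a => congr(($(Spec.map_injective this)).hom a)

/-- Let k be an algebraically closed field and X a scheme locally of finite type over k. Then X → Spec k
is formally unramified if and only if the map Hom_k(Spec k[ε], X) → Hom_k(Spec k, X) given by
restricting along the closed immersion of Spec k into Spec k[ε] (k[ε] the ring of dual numbers, ε ↦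
0), is bijective; since that map is always surjective, the condition is stated as injectivity: two
k-morphisms from Spec k[ε] to X which agree on Spec k are equal. -/
theorem result (k : Type u) [Field k] [IsAlgClosed k]
    {X : Scheme.{u}} (p : X ⟶ Spec (CommRingCat.of k)) [LocallyOfFiniteType p] :
    FormallyUnramified p ↔
      ∀ v₁ v₂ : Spec (CommRingCat.of (DualNumber k)) ⟶ X,
        v₁ ≫ p = Spec.map (CommRingCat.ofHom (algebraMap k (DualNumber k))) →
        v₂ ≫ p = Spec.map (CommRingCat.ofHom (algebraMap k (DualNumber k))) →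
        Spec.map (CommRingCat.ofHom (TrivSqZeroExt.fstHom k k k).toRingHom) ≫ v₁ =
          Spec.map (CommRingCat.ofHom (TrivSqZeroExt.fstHom k k k).toRingHom) ≫ v₂ →
        v₁ = v₂ := by
  constructor
  · intro _ v₁ v₂ h₁ h₂ h
    refine RedPts82.eq_of_formallyUnramified p v₁ v₂ (h₁.trans h₂.symm) fun q => ⟨_, _, ?_, h⟩
    show q ∈ Set.range (PrimeSpectrum.comap (TrivSqZeroExt.fstHom k k k).toRingHom)
    rw [range_comap_of_surjective _ _ fun a => ⟨TrivSqZeroExt.inl a, rfl⟩]
    intro x hx
    have h0 : x * x = 0 := by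
      have : TrivSqZeroExt.fst x = 0 := hx
      ext <;> simp [TrivSqZeroExt.snd_mul, this]
    exact (q.isPrime.mem_or_mem (h0 ▸ q.asIdeal.zero_mem)).elim id id
  · intro h
    haveI : IsZariskiLocalAtSource @FormallyUnramified.{u} := HasRingHomProperty.instIsZariskiLocalAtSource (P := @FormallyUnramified.{u}) (Q := RingHom.FormallyUnramified)
    rw [IsZariskiLocalAtSource.iff_of_openCover (P := @FormallyUnramified) X.affineCover]
    intro i
    have hi : IsOpenImmersion (X.affineCover.f i) := inferInstance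
    exact @unramified_chart k _ _ X p _ h _ (X.affineCover.f i) hi

end Groth.Agent.S18905
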