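import Groth.Statements.S18908
import Groth.Agent.CAlg9.FinAlg
import Mathlib.FieldTheory.SeparableDegree
import Mathlib.RingTheory.TensorProduct.Maps

set_option autoImplicit false
universe u v w
open scoped TensorProduct
open CAlg

namespace Groth.Agent.S18908

/-- Let K ⊇ k be a finite field extension of degree n and Ω ⊇ k an algebraically closed extension. Then
K is separable over k if and only if Ω ⊗_k K is isomorphic, as an Ω-algebra, to the product of n
copies of Ω. (The source says 'for every (some) algebraically closed extension Ω'; the equivalence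
is stated for each fixed Ω, which gives both readings.) -/
theorem result (k : Type u) (K : Type v) (Ω : Type w)
    [Field k] [Field K] [Algebra k K] [FiniteDimensional k K]
    [Field Ω] [Algebra k Ω] [IsAlgClosed Ω] :
    Algebra.IsSeparable k K ↔ Nonempty ((Ω ⊗[k] K) ≃ₐ[Ω] (Fin (Module.finrank k K) → Ω)) := by
  have hcount : ∀ _ : Algebra.IsSeparable k K,
      Nat.card (K →ₐ[k] Ω) = Module.finrank k K := fun h => by
    rw [← Field.finSepDegree_eq_of_isAlgClosed k K Ω]
    exact (Field.finSepDegree_eq_finrank_iff k K).mpr h
  have := Groth.Agent.CAlg9.finite_algHom (k := Ω) (A := Ω ⊗[k] K)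
  let L : (K →ₐ[k] Ω) ≃ ((Ω ⊗[k] K) →ₐ[Ω] Ω) :=
    { toFun := fun f => Algebra.TensorProduct.lift (Algebra.ofId Ω Ω) f fun _ _ => Commute.all _ _
      invFun := fun g => (g.restrictScalars k).comp Algebra.TensorProduct.includeRight
      left_inv := fun f => by ext x; simp
      right_inv := fun g => by ext x; simp }
  constructor
  · intro h
    have hc : Nat.card ((Ω ⊗[k] K) →ₐ[Ω] Ω) = Module.finrank k K := by
      rw [← Nat.card_congr L, hcount h]
    let eqv := Finite.equivFinOfCardEq hc
    let Φ : (Ω ⊗[k] K) →ₐ[Ω] (Fin (Module.finrank k K) → Ω) :=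
      AlgHom.pi (R := Ω) fun i => eqv.symm i
    have hs : Function.Surjective Φ := fun g => by
      obtain ⟨x, hx⟩ := Groth.Agent.CAlg9.evalPi_surjective (k := Ω) (A := Ω ⊗[k] K)
        (fun f => g (eqv f))
      refine ⟨x, funext fun i => ?_⟩
      show eqv.symm i x = g i
      simpa using congrFun hx (eqv.symm i)
    refine ⟨AlgEquiv.ofBijective Φ ⟨?_, hs⟩⟩
    exact (LinearMap.injective_iff_surjective_of_finrank_eq_finrank (f := Φ.toLinearMap)
      (by rw [Module.finrank_baseChange, Module.finrank_fin_fun])).mpr hs
  · rintro ⟨e⟩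
    rw [← Field.finSepDegree_eq_finrank_iff]
    refine le_antisymm (Field.finSepDegree_le_finrank k K) ?_
    rw [Field.finSepDegree_eq_of_isAlgClosed k K Ω, Nat.card_congr L]
    have hinj : Function.Injective fun i : Fin (Module.finrank k K) =>
        (Pi.evalAlgHom Ω (fun _ => Ω) i).comp e.toAlgHom := by
      intro i j hij
      by_contra hne
      have h := AlgHom.congr_fun hij (e.symm (Pi.single i 1))
      simp [Pi.single_eq_of_ne' hne] at h
    simpa using Nat.card_le_card_of_injective _ hinj

end Groth.Agent.S18908
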