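import Groth.Statements.S1891
import Groth.Agent.Grpd80.FieldImage

set_option autoImplicit false
universe u
open CategoryTheory CategoryTheory.Limits AlgebraicGeometry
open Grpd

namespace Groth.Agent.S1891

/-- Let (U, R₁, s₁, t₁, c₁) and (U, R₂, s₂, t₂, c₂) be groupoid schemes over S on the same U = Spec k, k
a field, and a : R₁ → R₂ a morphism of groupoid schemes over the identity of U (here: over an
isomorphism on objects). If a(R₁) is open in R₂ then it is closed. (A groupoid scheme carries U, R,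
s, t, c, e, i over S with the groupoid axioms on T-points; 'finite locally free' is finite, flat and
locally of finite presentation; C ⊂ Γ(U) is the ring of functions a with s♯(a) = t♯(a) and M = Spec
C.) -/
theorem result (S : Scheme.{u}) (G₁ G₂ : Grpd.GroupoidScheme S) (k : Type u) [Field k] (eU : G₂.U ≅ Spec (CommRingCat.of k)) (a : Grpd.GroupoidScheme.Hom G₁ G₂) [IsIso a.fU] (hopen : IsOpen (Set.range ⇑a.fR)) : IsClosed (Set.range ⇑a.fR) := by
  classical
  let H : G₂.R.Opens := ⟨_, hopen⟩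
  rw [← isOpen_compl_iff, isOpen_iff_forall_mem_open]
  intro x hx
  let K := G₂.R.residueField x
  let p : Spec K ⟶ G₂.R := G₂.R.fromSpecResidueField x
  have := Grpd80.universallyOpen_of_field eU (p ≫ G₂.t)
  let m : pullback (p ≫ G₂.s) (H.ι ≫ G₂.t) ⟶ pullback (p ≫ G₂.s) G₂.t :=
    pullback.map _ _ _ _ (𝟙 (Spec K)) H.ι (𝟙 G₂.U) (by simp) (by simp)
  have : IsOpenImmersion m := inferInstanceAs (IsOpenImmersion (pullback.map _ _ _ _ _ _ _ _ _))
  let f := m ≫ (Grpd80.shearL G₂ p).hom ≫ pullback.snd (p ≫ G₂.t) G₂.t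
  have hf : ∀ {T : Scheme.{u}} (g : T ⟶ pullback (p ≫ G₂.s) (H.ι ≫ G₂.t)), g ≫ f =
      Grpd80.mul G₂ ((g ≫ pullback.fst _ _) ≫ p) (g ≫ pullback.snd _ _ ≫ H.ι)
        (by simp [pullback.condition]) := by
    intro T g
    show g ≫ m ≫ (Grpd80.shearL G₂ p).hom ≫ pullback.snd (p ≫ G₂.t) G₂.t = _
    simp only [Grpd80.shearL, pullback.lift_snd, ← Category.assoc g m]
    exact Grpd80.comp_mul_eq _ _ _ _ _ _ _ (by simp [m, pullback.map, pullback.lift_fst_assoc])
      (by simp [m, pullback.map, pullback.lift_snd])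
  refine ⟨Set.range ⇑f, ?_, f.isOpenMap.isOpen_range, ?_⟩
  · rintro y ⟨q, rfl⟩ ⟨w, hw⟩
    let L := (pullback (p ≫ G₂.s) (H.ι ≫ G₂.t)).residueField q
    let g : Spec L ⟶ pullback (p ≫ G₂.s) (H.ι ≫ G₂.t) := Scheme.fromSpecResidueField _ q
    -- lift `g ≫ f` and the `H` component to `G₁`
    obtain ⟨z₁, hz₁⟩ : ∃ z₁ : ↥(pullback (g ≫ f) a.fR), True := by
      obtain ⟨z, -, -⟩ := Scheme.Pullback.exists_preimage_pullback (f := g ≫ f) (g := a.fR)
        (IsLocalRing.closedPoint L) w (by rw [Scheme.Hom.comp_apply, Scheme.fromSpecResidueField_apply, hw])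
      exact ⟨z, trivial⟩
    let c₁ := pullback.fst (g ≫ f) a.fR
    let η := c₁ ≫ g ≫ pullback.snd _ _ ≫ H.ι
    obtain ⟨w', hw'⟩ : η z₁ ∈ Set.range ⇑a.fR := by
      have : (c₁ ≫ g ≫ pullback.snd _ _ ≫ H.ι) z₁ ∈ H := by
        simp only [Scheme.Hom.comp_apply]
        exact Subtype.mem _
      exact this
    obtain ⟨z₂, hz₂, -⟩ := Scheme.Pullback.exists_preimage_pullback (f := η) (g := a.fR) z₁ w' hw'.symm
    let c₂ := pullback.fst η a.fR
    let η₁ := pullback.snd η a.fR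
    let ζ₁ := c₂ ≫ pullback.snd (g ≫ f) a.fR
    have hζ : ζ₁ ≫ a.fR = (c₂ ≫ c₁ ≫ g) ≫ f := by
      simp [ζ₁, c₁, pullback.condition]
    have hη : η₁ ≫ a.fR = c₂ ≫ η := pullback.condition.symm
    replace hζ := hζ.trans (hf _)
    clear_value ζ₁ η₁
    have hs : ζ₁ ≫ G₁.s = η₁ ≫ G₁.s := by
      rw [← cancel_mono a.fU, Category.assoc, Category.assoc, ← a.comm_s, reassoc_of% hζ,
        Grpd80.mul_s, reassoc_of% hη]
      simp [η]
    have w₁ : ζ₁ ≫ G₁.s = (η₁ ≫ G₁.i) ≫ G₁.t := by simp [hs]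
    have key := Grpd80.mul_map a (Grpd80.mul G₁ ζ₁ (η₁ ≫ G₁.i) w₁) η₁ (by simp)
    rw [Grpd80.inv_mul_cancel_right, hζ] at key
    have e := Grpd80.eq_of_mul_right _ _ (key.trans (Grpd80.mul_congr _
      (by rw [← hη]; simp [a.comm_s, a.comm_t]) rfl hη)).symm
    apply hx
    refine ⟨Grpd80.mul G₁ ζ₁ (η₁ ≫ G₁.i) w₁ z₂, ?_⟩
    rw [← Scheme.Hom.comp_apply, e]
    simp only [Scheme.Hom.comp_apply]
    exact Scheme.fromSpecResidueField_apply x _
  · let u₀ := eU.inv (IsLocalRing.closedPoint k)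
    let q : Spec K ⟶ G₁.R := (p ≫ G₂.s) ≫ inv a.fU ≫ G₁.e
    have hq : q ≫ a.fR = (p ≫ G₂.s) ≫ G₂.e := by simp [q, Grpd80.e_map]
    let q' : Spec K ⟶ (H : Scheme.{u}) := IsOpenImmersion.lift H.ι (q ≫ a.fR) (by
      rintro _ ⟨y, rfl⟩
      rw [Scheme.Opens.range_ι, Scheme.Hom.comp_apply]
      exact ⟨_, rfl⟩)
    let g : Spec K ⟶ pullback (p ≫ G₂.s) (H.ι ≫ G₂.t) := pullback.lift (𝟙 _) q'
      (by simp [q', reassoc_of% hq])
    refine ⟨g (IsLocalRing.closedPoint K), ?_⟩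
    rw [← Scheme.Hom.comp_apply, hf, Grpd80.mul_congr _ (α' := p) (β' := q ≫ a.fR)
      (by simp [reassoc_of% hq]) (by simp [g, pullback.lift_fst_assoc]) (by simp [g, q', pullback.lift_snd_assoc]),
      Grpd80.mul_unit_right _ (by rw [hq, Category.assoc]), Scheme.fromSpecResidueField_apply]

end Groth.Agent.S1891
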