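import Groth.Statements.S18911
import Groth.Agent.Curves2.RelVA.FibreRestrict
import Groth.Agent.Curves2.RelVA.FibreVeryAmple
import Groth.Agent.E4O.DvrCrit
import Groth.Agent.S12481

set_option autoImplicit false
universe u
open CategoryTheory CategoryTheory.Limits AlgebraicGeometry
open Coherent

namespace Groth.Agent.S18911

/-- Let Y be a locally Noetherian scheme, f : X → Y a proper flat morphism and L an invertible
O_X-module such that, at each point y ∈ Y, the pull-back L_y of L to X_y (the fibre over y) is very
ample over Spec k(y) and has vanishing H¹(X_y, L_y). In that case L is relatively very ample for f: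
there are a quasi-coherent O_Y-module E and a Y-immersion i of X into the projective bundle P(E)
with L isomorphic to i^*O_{P(E)}(1). (Fibrewise very ampleness is stated in the projective-space
form, an immersion of X_y into some P^N_{k(y)} over k(y) pulling O(1) back to L_y; for the
finite-type k(y)-scheme X_y this is equivalent to the projective-bundle form.) -/
theorem result {X Y : Scheme.{u}} (f : X ⟶ Y)
    [IsLocallyNoetherian Y] [IsProper f] [Flat f]
    (L : X.Modules) (hL : PicF.IsInvertible L)
    (hva : ∀ y : Y, RelAmple.IsRelVeryAmplePn (f.fiberToSpecResidueField y) ((Scheme.Modules.pullback (f.fiberι y)).obj L))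
    (hH1 : ∀ y : Y, Subsingleton (Coh.HH (f.fiber y) ((Scheme.Modules.pullback (f.fiberι y)).obj L) 1)) :
    RelProj.IsRelVeryAmple f L := by
  haveI := E4O.locallyOfFinitePresentation_of_isLocallyNoetherian f
  have hcrit : ∀ y : Y, Curves2.RelVA.Crit f L y := fun y => by
    let π : f.fiber y ⟶ Spec (CommRingCat.of (Y.residueField y)) := f.fiberToSpecResidueField y
    haveI : IsProper π := MorphismProperty.pullback_snd f _ inferInstance
    exact ⟨hH1 y, Curves2.RelVA.criterion_of_isRelVeryAmplePn (Y.residueField y) π
      (CohIII.fiberMod f L y) (hva y)⟩
  exact S12481.result f L hL (fun V : Y.affineOpens => V.1) (iSup_affineOpens_eq_top Y)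
    fun V => Curves2.RelVA.isRelVeryAmplePn_restrict f L hL hcrit V

end Groth.Agent.S18911
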