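import Groth.Prelude.Def_Coh
import Groth.Prelude.Def_CurvBase
import Mathlib

universe u

open CategoryTheory CategoryTheory.Limits AlgebraicGeometry

namespace Groth.Agent.S18912

theorem result
    (k : Type u) [Field k] [IsAlgClosed k] [CharZero k]
    (X : Scheme.{u}) [X.Over (Spec (CommRingCat.of k))]
    [LocallyOfFiniteType (X ↘ Spec (CommRingCat.of k))] [AlgebraicGeometry.IsReduced X]
    (F : X.Modules) (τ τ' : F ⟶ Coh.structureModule X) (d : ℕ) (hd : 1 ≤ d)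
    (hS : ∀ (U : X.Opens) (a : Fin d → Γ(F, U)),
      (∏ i, (τ.app U (a i) : Γ(X, U)) : Γ(X, U)) = (∏ i, (τ'.app U (a i) : Γ(X, U)) : Γ(X, U)))
    (η : X) (hη : IsField (X.presheaf.stalk η)) :
    ∃ ξ : k, ξ ^ d = 1 ∧ ∀ (U : X.Opens) (hU : η ∈ U) (a : Γ(F, U)),
      (X.presheaf.germ U η hU (τ'.app U a : Γ(X, U)) : X.presheaf.stalk η) =
        Curv2.stalkMap k X η ξ * X.presheaf.germ U η hU (τ.app U a : Γ(X, U)) := by
  let K := X.presheaf.stalk η
  letI : Field K := hη.toField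
  set g := Curv2.stalkMap k X η with hg
  let ev : (σ : F ⟶ Coh.structureModule X) → ∀ (U : X.Opens), η ∈ U → Γ(F, U) → K :=
    fun σ U hU a => X.presheaf.germ U η hU (σ.app U a : Γ(X, U))
  have hev : ∀ σ {U V : X.Opens} (i : V ⟶ U) (hV : η ∈ V) (a : Γ(F, U)),
      ev σ V hV (F.presheaf.map i.op a) = ev σ U (leOfHom i hV) a := by
    intro σ U V i hV a
    have h := ConcreteCategory.congr_hom (σ.mapPresheaf.naturality i.op) a
    refine Eq.trans ?_ (TopCat.Presheaf.germ_res_apply X.presheaf i η hV (σ.app U a : Γ(X, U)))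
    exact congrArg (X.presheaf.germ V η hV) h
  have hprod : ∀ (U : X.Opens) (hU : η ∈ U) (a : Fin d → Γ(F, U)),
      ∏ i, ev τ U hU (a i) = ∏ i, ev τ' U hU (a i) := by
    intro U hU a
    let φ : Γ(X, U) →+* K := (X.presheaf.germ U η hU).hom
    let f : Fin d → Γ(X, U) := fun i => τ.app U (a i)
    let f' : Fin d → Γ(X, U) := fun i => τ'.app U (a i)
    exact (map_prod φ f Finset.univ).symm.trans
      ((congrArg φ (hS U a)).trans (map_prod φ f' Finset.univ))
  by_cases hz : ∀ (U : X.Opens) (hU : η ∈ U) (a : Γ(F, U)), ev τ U hU a = 0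
  · refine ⟨1, one_pow d, fun U hU a => ?_⟩
    have h := hprod U hU (fun _ => a)
    simp only [Finset.prod_const, Finset.card_univ, Fintype.card_fin, hz U hU a,
      zero_pow (show d ≠ 0 by omega)] at h
    change ev τ' U hU a = g 1 * ev τ U hU a
    rw [hz U hU a, mul_zero]
    exact pow_eq_zero_iff (show d ≠ 0 by omega) |>.1 h.symm
  simp only [not_forall] at hz
  obtain ⟨U0, hU0, a0, ht⟩ := hz
  set t := ev τ U0 hU0 a0
  set t' := ev τ' U0 hU0 a0 with ht'
  have htd : t ^ d = t' ^ d := by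
    have h := hprod U0 hU0 (fun _ => a0)
    simpa only [Finset.prod_const, Finset.card_univ, Fintype.card_fin] using h
  have ht'0 : t' ≠ 0 := fun h => by
    rw [h, zero_pow (show d ≠ 0 by omega)] at htd
    exact ht (pow_eq_zero_iff (show d ≠ 0 by omega) |>.1 htd)
  have : NeZero d := ⟨by omega⟩
  have : NeZero (d : k) := ⟨Nat.cast_ne_zero.2 (by omega)⟩
  obtain ⟨ζ, hζ⟩ := HasEnoughRootsOfUnity.exists_primitiveRoot k d
  have hζ' : IsPrimitiveRoot (g ζ) d := hζ.map_of_injective g.injective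
  have hy : (t' / t) ^ d = 1 := by rw [div_pow, ← htd, div_self (pow_ne_zero _ ht)]
  obtain ⟨i, -, hi⟩ := hζ'.eq_pow_of_pow_eq_one hy
  refine ⟨ζ ^ i, by rw [← pow_mul, mul_comm, pow_mul, hζ.pow_eq_one, one_pow], fun U hU a => ?_⟩
  change ev τ' U hU a = g (ζ ^ i) * ev τ U hU a
  rw [map_pow, hi]
  obtain ⟨m, rfl⟩ : ∃ m, d = m + 1 := ⟨d - 1, by omega⟩
  let a' := F.presheaf.map (homOfLE (inf_le_left : U ⊓ U0 ≤ U)).op a
  let a0' := F.presheaf.map (homOfLE (inf_le_right : U ⊓ U0 ≤ U0)).op a0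
  have h := hprod (U ⊓ U0) ⟨hU, hU0⟩ (Fin.cons a' (fun _ => a0'))
  simp only [Fin.prod_univ_succ, Fin.cons_zero, Fin.cons_succ, Finset.prod_const, Finset.card_univ,
    Fintype.card_fin, a', a0'] at h
  rw [hev τ (homOfLE (inf_le_left : U ⊓ U0 ≤ U)) ⟨hU, hU0⟩,
    hev τ (homOfLE (inf_le_right : U ⊓ U0 ≤ U0)) ⟨hU, hU0⟩,
    hev τ' (homOfLE (inf_le_left : U ⊓ U0 ≤ U)) ⟨hU, hU0⟩,
    hev τ' (homOfLE (inf_le_right : U ⊓ U0 ≤ U0)) ⟨hU, hU0⟩] at h
  change ev τ U hU a * t ^ m = ev τ' U hU a * t' ^ m at h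
  have e : ev τ' U hU a * t' ^ m * t = (t' / t * ev τ U hU a) * t' ^ m * t := by
    rw [← h]
    field_simp
    calc ev τ U hU a * t ^ m * t = ev τ U hU a * t ^ (m + 1) := by ring
      _ = _ := by rw [htd]; ring
  exact mul_right_cancel₀ (pow_ne_zero m ht'0) (mul_right_cancel₀ ht e)

end Groth.Agent.S18912
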