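import Groth.Statements.S18913
import Groth.Agent.Ega11.GenEmbed2
import Groth.Agent.Ega11.LatticeNodes
import Groth.Agent.SGA3a.DominantHom
-- import your own Groth.Agent.* helpers here

set_option autoImplicit false
universe u
open CategoryTheory CategoryTheory.Limits AlgebraicGeometry
open TFNodal

namespace Groth.Agent.S18913

/-- Let k be an algebraically closed field of characteristic zero, X a connected reduced proper curve
over k (a proper k-scheme of dimension one), L an ample invertible O_X-module, F a coherent
O_X-module and r a natural number. Then F is of depth one at every closed point (no closed point of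
X is an associated point of F) with stalk free of rank r at every generic point (uniform multirank
r) if and only if there are a natural number m and a monomorphism F → (L^{⊗m})^{⊕r} whose cokernel
has zero stalk at every generic point of X (a torsion cokernel). -/
theorem result
    (k : Type u) [Field k] [IsAlgClosed k] [CharZero k]
    (X : Scheme.{u}) [X.Over (Spec (CommRingCat.of k))] [IsProper (X ↘ Spec (CommRingCat.of k))]
    [AlgebraicGeometry.IsReduced X] [ConnectedSpace X] (hdim : topologicalKrullDim X = 1)
    (L : X.Modules) (hL : CohB1.IsAmple L)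
    (F : X.Modules) (hF : Coh.IsCoh F) (r : ℕ) :
    ((∀ x : X, IsClosed ({x} : Set X) → ¬ Curv2.IsAssPoint F x) ∧
      (∀ η : X, IsField (X.presheaf.stalk η) →
        Nonempty (F.presheaf.stalk η ≃ₗ[X.presheaf.stalk η] (Fin r → X.presheaf.stalk η)))) ↔
    (∃ (m : ℕ) (ι : F ⟶ ∐ fun _ : Fin r => CohB1.tensorPow L m), Mono ι ∧
      ∀ η : X, IsField (X.presheaf.stalk η) → Subsingleton ((cokernel ι).presheaf.stalk η)) := by
  classical
  have : IsLocallyNoetherian X := LocallyOfFiniteType.isLocallyNoetherian (X ↘ Spec (CommRingCat.of k))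
  have : CompactSpace X := QuasiCompact.compactSpace_of_compactSpace (X ↘ Spec (CommRingCat.of k))
  have : AlgebraicGeometry.IsNoetherian X := {}
  have : Infinite k := IsAlgClosed.instInfinite
  constructor
  · rintro ⟨hd1, hrk⟩
    have hass : ∀ x : X, Curv2.IsWeakAssPoint F x → IsField (X.presheaf.stalk x) := fun x hw => by
      by_cases hm : ∀ z : X, z ⤳ x → z = x
      · exact Groth.Agent.SGA3a.isField_stalk_maximal hm
      · push Not at hm
        obtain ⟨z, hz, hne⟩ := hm
        exact absurd ((Groth.Agent.Div89.isAssPoint_iff_isWeakAssPoint F x).2 hw)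
          (hd1 x (Groth.Agent.Crv77.isClosed_singleton_of_generalization hdim.le hz hne.symm))
    let κ : k →+* Γ(X, ⊤) := (X ↘ Spec (CommRingCat.of k)).appTop.hom.comp
      (Scheme.ΓSpecIso (CommRingCat.of k)).inv.hom
    obtain ⟨m, ι, hι, hbij⟩ := Groth.Agent.Ega11.GenEmbed.exists_embedding κ hL hF hass r hrk
    exact ⟨m, ι, hι, fun η hη => Groth.Agent.QC70.subsingleton_stalk_cokernel ι η (hbij η hη).2⟩
  · rintro ⟨m, ι, hι, hgen⟩
    let M : Fin r → X.Modules := fun _ => CohB1.tensorPow L m
    let e := (biproduct.isoCoproduct M).symm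
    have hMi : PicF.IsInvertible (CohB1.tensorPow L m) := Groth.Agent.EGA73.isInvertible_tensorPow hL.1 m
    have hst : ∀ x : X, Nonempty ((∐ M).presheaf.stalk x ≃ₗ[X.presheaf.stalk x] (Fin r → X.presheaf.stalk x)) := fun x => by
      obtain ⟨eM⟩ := Groth.Agent.Ega11.NodalFactor.nonempty_stalkEquiv
        (Groth.Agent.RegSh99.rankOne_of_isInvertible hMi) x
      exact ⟨((LinearEquiv.ofBijective (Groth.Agent.QC70.stalkLinear e.hom x)
        (Groth.Agent.QC70.bijective_stalkMapM_of_isIso e.hom x)).trans
          (Groth.Agent.QC70.biproductStalkEquiv M x)).trans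
          (LinearEquiv.piCongrRight fun _ => eM.symm.trans (LinearEquiv.funUnique (Fin 1) _ _))⟩
    refine ⟨fun x hx hass => ?_, fun η hη => ?_⟩
    · have htT : TorSh.IsTorsionFree (∐ M) := fun y => by
        obtain ⟨ey⟩ := hst y
        exact ey.injective.moduleIsTorsionFree ey (fun r m => map_smul ey r m)
      have h1 : Curv2.IsAssPoint (∐ M) x := associatedPrimes.subset_of_injective
        (f := Groth.Agent.QC70.stalkLinear ι x) (Groth.Agent.QC70.injective_stalkMapM_of_mono ι x) hass
      have hf := Groth.Agent.Ega11.TorFreeAss.isField_of_weakAss _ htT x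
        ((Groth.Agent.Div89.isAssPoint_iff_isWeakAssPoint _ x).1 h1)
      have hopen := Groth.Agent.Ega11.TorFreeAss.isOpen_singleton hx
        (Groth.Agent.Ega11.TorFreeAss.maxPt_of_isField hf)
      have huniv : ({x} : Set X) = Set.univ :=
        (isClopen_iff.1 ⟨hx, hopen⟩).resolve_left (Set.singleton_ne_empty x)
      have : Subsingleton X := Set.subsingleton_univ_iff.1 (huniv ▸ Set.subsingleton_singleton)
      have : DiscreteTopology X := inferInstance
      have h0 : topologicalKrullDim X ≤ 0 := by
        rw [topologicalKrullDim]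
        have : Subsingleton (TopologicalSpace.IrreducibleCloseds X) := ⟨fun A B => SetLike.coe_injective
          ((Subsingleton.eq_univ_of_nonempty A.2.nonempty).trans (Subsingleton.eq_univ_of_nonempty B.2.nonempty).symm)⟩
        exact Order.krullDim_nonpos_of_subsingleton
      rw [hdim] at h0
      exact absurd h0 (by decide)
    · obtain ⟨eη⟩ := hst η
      have hsurj : Function.Surjective (Groth.Agent.QC70.stalkMapM ι η) := fun w => by
        have := hgen η hη
        exact Groth.Agent.QC70.stalkMapM_exact (ShortComplex.mk ι (cokernel.π ι) (cokernel.condition ι))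
          (ShortComplex.exact_of_g_is_cokernel _ (cokernelIsCokernel ι)) η w (Subsingleton.elim _ _)
      exact ⟨(LinearEquiv.ofBijective (Groth.Agent.QC70.stalkLinear ι η)
        ⟨Groth.Agent.QC70.injective_stalkMapM_of_mono ι η, hsurj⟩).trans eη⟩

end Groth.Agent.S18913
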