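import Groth.Statements.S18914
import Groth.Agent.Ega11.TorFreeAss
-- import your own Groth.Agent.* helpers here

set_option autoImplicit false
universe u
open CategoryTheory CategoryTheory.Limits AlgebraicGeometry
open TFNodal

namespace Groth.Agent.S18914

/-- Let k be an algebraically closed field of characteristic zero, X a reduced proper curve over k (a
proper k-scheme of dimension one), and E, F₁, F₂ coherent O_X-modules that are torsion free (every
stalk is a torsion free module over the local ring: no nonzero element is killed by a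
non-zero-divisor). Let q₁ : E → F₁ and q₂ : E → F₂ be epimorphisms, U a dense open subset of X and φ
: F₁|_U ≅ F₂|_U an isomorphism of the restricted quotients, q₁|_U ≫ φ = q₂|_U. Then there is an
isomorphism of quotients ψ : F₁ ≅ F₂, q₁ ≫ ψ = q₂, whose restriction to U is φ. -/
theorem result
    (k : Type u) [Field k] [IsAlgClosed k] [CharZero k]
    (X : Scheme.{u}) [X.Over (Spec (CommRingCat.of k))] [IsProper (X ↘ Spec (CommRingCat.of k))]
    [AlgebraicGeometry.IsReduced X] (hdim : topologicalKrullDim X = 1)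
    (E F₁ F₂ : X.Modules) (hE : Coh.IsCoh E) (hF₁ : Coh.IsCoh F₁) (hF₂ : Coh.IsCoh F₂)
    (htE : TorSh.IsTorsionFree E) (ht₁ : TorSh.IsTorsionFree F₁) (ht₂ : TorSh.IsTorsionFree F₂)
    (q₁ : E ⟶ F₁) (q₂ : E ⟶ F₂) [Epi q₁] [Epi q₂]
    (U : X.Opens) (hU : Dense (U : Set X))
    (φ : F₁.restrict U.ι ≅ F₂.restrict U.ι)
    (hφ : (Scheme.Modules.restrictFunctor U.ι).map q₁ ≫ φ.hom = (Scheme.Modules.restrictFunctor U.ι).map q₂) :
    ∃ ψ : F₁ ≅ F₂, q₁ ≫ ψ.hom = q₂ ∧ (Scheme.Modules.restrictFunctor U.ι).map ψ.hom = φ.hom := by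
  have : IsLocallyNoetherian X := LocallyOfFiniteType.isLocallyNoetherian (X ↘ Spec (CommRingCat.of k))
  have : CompactSpace X := QuasiCompact.compactSpace_of_compactSpace (X ↘ Spec (CommRingCat.of k))
  have : IsNoetherian X := {}
  have key : ∀ (G H : X.Modules), Coh.IsCoh H → TorSh.IsTorsionFree H → ∀ h : G ⟶ H,
      (Scheme.Modules.restrictFunctor U.ι).map h = 0 → h = 0 := by
    intro G H hH htH h h0
    apply Scheme.Modules.hom_ext
    intro V
    ext s
    change h.app V s = 0
    refine Groth.Agent.Ega11.TorFreeAss.eq_zero_of_germ H hH.1 htH _ fun y hy hfield => ?_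
    have hyU : y ∈ U := Groth.Agent.Ega11.TorFreeAss.mem_of_dense hU
      (Groth.Agent.Ega11.TorFreeAss.maxPt_of_isField hfield)
    let W : X.Opens := U.ι ''ᵁ (U.ι ⁻¹ᵁ V)
    have hWV : W ≤ V := U.ι.image_preimage_le V
    have hyW : y ∈ W := ⟨⟨y, hyU⟩, hy, rfl⟩
    rw [← TopCat.Presheaf.germ_res_apply H.presheaf (homOfLE hWV) y hyW]
    have hnat := ConcreteCategory.congr_hom (h.mapPresheaf.naturality (homOfLE hWV).op) s
    have hz : ∀ t, h.app W t = 0 := fun t => by
      have := ConcreteCategory.congr_hom (congrArg (fun g => g.app (U.ι ⁻¹ᵁ V)) h0) t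
      exact this
    refine (congrArg (H.presheaf.germ W y hyW) ?_).trans (map_zero _)
    exact hnat.symm.trans (hz _)
  have h12 : kernel.ι q₁ ≫ q₂ = 0 := key _ _ hF₂ ht₂ _ (by
    rw [Functor.map_comp, ← hφ, ← Category.assoc, ← Functor.map_comp, kernel.condition, Functor.map_zero, zero_comp])
  have h21 : kernel.ι q₂ ≫ q₁ = 0 := key _ _ hF₁ ht₁ _ (by
    rw [Functor.map_comp, ← cancel_mono φ.hom, Category.assoc, hφ, ← Functor.map_comp, kernel.condition,
      Functor.map_zero, zero_comp])
  let ψ : F₁ ≅ F₂ :=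
    { hom := Abelian.epiDesc q₁ q₂ h12
      inv := Abelian.epiDesc q₂ q₁ h21
      hom_inv_id := by rw [← cancel_epi q₁, Abelian.comp_epiDesc_assoc, Abelian.comp_epiDesc, Category.comp_id]
      inv_hom_id := by rw [← cancel_epi q₂, Abelian.comp_epiDesc_assoc, Abelian.comp_epiDesc, Category.comp_id] }
  refine ⟨ψ, Abelian.comp_epiDesc q₁ q₂ h12, ?_⟩
  rw [← cancel_epi ((Scheme.Modules.restrictFunctor U.ι).map q₁), hφ, ← Functor.map_comp]
  exact congrArg _ (Abelian.comp_epiDesc q₁ q₂ h12)

end Groth.Agent.S18914
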