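import Groth.Statements.S18915
import Groth.Agent.Ega11.ProdDepth
import Groth.Agent.SpFP87.Reduced
import Groth.Agent.Curves2.ProjectiveCurve
-- import your own Groth.Agent.* helpers here

set_option autoImplicit false
universe u
open CategoryTheory CategoryTheory.Limits AlgebraicGeometry
open TFNodal

namespace Groth.Agent.S18915

/-- Let k be an algebraically closed field of characteristic zero, X a reduced proper curve over k (a
proper k-scheme of dimension one) without isolated points (no closed point is open, i.e. X is
one-dimensional at every point), C a smooth irreducible k-scheme of dimension one and c a closed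
point of C. Put Z = X ×_k C with projections p_X and p_C, let Y be a nonempty finite set of closed
points of Z lying over c, and let j : U → Z be the inclusion of the open complement of Y. Then for
every coherent torsion free O_X-module F (every stalk a torsion free module over the local ring),
the unit map p_X^* F → j_* j^* (p_X^* F) is an isomorphism. -/
theorem result
    (k : Type u) [Field k] [IsAlgClosed k] [CharZero k]
    (X : Scheme.{u}) [X.Over (Spec (CommRingCat.of k))] [IsProper (X ↘ Spec (CommRingCat.of k))]
    [AlgebraicGeometry.IsReduced X] (hdim : topologicalKrullDim X = 1)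
    (hpure : ∀ x : X, IsClosed ({x} : Set X) → ¬ IsOpen ({x} : Set X))
    (C : Scheme.{u}) [C.Over (Spec (CommRingCat.of k))] [Smooth (C ↘ Spec (CommRingCat.of k))]
    [IrreducibleSpace C] (hdimC : topologicalKrullDim C = 1)
    (c : C) (hc : IsClosed ({c} : Set C))
    (Y : Set ↑(pullback (X ↘ Spec (CommRingCat.of k)) (C ↘ Spec (CommRingCat.of k))))
    (hYfin : Y.Finite) (hYne : Y.Nonempty) (hYcl : ∀ z ∈ Y, IsClosed ({z} : Set _))
    (hYc : ∀ z ∈ Y, (pullback.snd (X ↘ Spec (CommRingCat.of k)) (C ↘ Spec (CommRingCat.of k))).base z = c)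
    (U : (pullback (X ↘ Spec (CommRingCat.of k)) (C ↘ Spec (CommRingCat.of k))).Opens)
    (hU : (U : Set _) = Yᶜ)
    (F : X.Modules) (hF : Coh.IsCoh F) (htF : TorSh.IsTorsionFree F) :
    IsIso ((Scheme.Modules.restrictAdjunction U.ι).unit.app
      ((Scheme.Modules.pullback (pullback.fst (X ↘ Spec (CommRingCat.of k)) (C ↘ Spec (CommRingCat.of k)))).obj F)) := by
  classical
  have : IsLocallyNoetherian X := LocallyOfFiniteType.isLocallyNoetherian (X ↘ Spec (CommRingCat.of k))
  have : CompactSpace X := QuasiCompact.compactSpace_of_compactSpace (X ↘ Spec (CommRingCat.of k))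
  have : AlgebraicGeometry.IsNoetherian X := {}
  have : IsLocallyNoetherian C := LocallyOfFiniteType.isLocallyNoetherian (C ↘ Spec (CommRingCat.of k))
  have : AlgebraicGeometry.IsReduced C := Groth.Agent.SpFP87.isReduced_of_smooth (C ↘ Spec (CommRingCat.of k))
  have : IsIntegral C := isIntegral_of_irreducibleSpace_of_isReduced C
  let p := pullback.fst (X ↘ Spec (CommRingCat.of k)) (C ↘ Spec (CommRingCat.of k))
  have : LocallyOfFiniteType p := inferInstanceAs (LocallyOfFiniteType (pullback.fst _ _))
  have : IsLocallyNoetherian (pullback (X ↘ Spec (CommRingCat.of k)) (C ↘ Spec (CommRingCat.of k))) :=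
    LocallyOfFiniteType.isLocallyNoetherian p
  have : JacobsonSpace X := LocallyOfFiniteType.jacobsonSpace (X ↘ Spec (CommRingCat.of k))
  rw [Groth.Agent.Div89.isIso_unit_iff]
  refine fun V => Groth.Agent.Div89.res_bijective_of_depth_two _
    (Groth.Agent.E4O.isCoh_pullback p F hF) U (fun z hz => ?_) V
  have hzY : z ∈ Y := by
    by_contra h
    exact hz (hU.ge h)
  have hxcl : IsClosed ({p z} : Set X) :=
    p.closePoints_subset_preimage_closedPoints (show z ∈ closedPoints _ from hYcl z hzY)
  refine Groth.Agent.Ega11.ProdDepth.two_le_depth (X ↘ Spec (CommRingCat.of k)) (C ↘ Spec (CommRingCat.of k)) p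
    (pullback.snd (X ↘ Spec (CommRingCat.of k)) (C ↘ Spec (CommRingCat.of k)))
    (IsPullback.of_hasPullback _ _) hpure hF htF hxcl ?_
  rw [hYc z hzY]
  intro h
  exact Groth.Agent.Cyc90.not_isClosed_generic hdimC (h ▸ hc)

end Groth.Agent.S18915
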