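import Groth.Statements.S18918
import Groth.Agent.Sga84.FibreCard
import Groth.Agent.Unr55.Rigid
import Mathlib.AlgebraicGeometry.Morphisms.FlatMono

set_option autoImplicit false
universe u
open CategoryTheory CategoryTheory.Limits AlgebraicGeometry
open FEt

namespace Groth.Agent.S18918

theorem result
    {X Y X' : Scheme.{u}} (f : X ⟶ Y) [IsFinite f] [Etale f] (n : ℕ)
    (hdeg : FlatMod.IsFinLocFreeOfRank n ((Scheme.Modules.pushforward f).obj (Coh.structureModule X)))
    (φ : X' ⟶ Y) [Nonempty X'] [ConnectedSpace X'] :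
    Finite (Over.mk φ ⟶ Over.mk f) ∧ Nat.card (Over.mk φ ⟶ Over.mk f) ≤ n ∧
      (Nat.card (Over.mk φ ⟶ Over.mk f) = n ↔
        ∃ e : pullback f φ ≅ ∐ fun _ : Fin n => X',
          e.hom ≫ Sigma.desc (fun _ : Fin n => 𝟙 X') = pullback.snd f φ) := by
  classical
  have : ConnectedSpace (Over.mk φ).left := ‹ConnectedSpace X'›
  let geom : ∀ x : X', Σ' (τ : Spec (CommRingCat.of (AlgebraicClosure (X'.residueField x))) ⟶ X'), True :=
    fun x => ⟨Spec.map (CommRingCat.ofHom (algebraMap (X'.residueField x) (AlgebraicClosure (X'.residueField x)))) ≫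
      X'.fromSpecResidueField x, trivial⟩
  have ev : ∀ (Ω : Type u) [Field Ω] [IsSepClosed Ω] (τ : Spec (CommRingCat.of Ω) ⟶ X'),
      ∃ F : (Over.mk φ ⟶ Over.mk f) → {s : Spec (CommRingCat.of Ω) ⟶ X // s ≫ f = τ ≫ φ},
        Function.Injective F ∧ ∀ h, (F h).1 = τ ≫ h.left := fun Ω _ _ τ =>
    ⟨fun h => ⟨τ ≫ h.left, (Category.assoc _ _ _).trans (congrArg (τ ≫ ·) (Over.w h))⟩, fun h k hhk =>
      Over.OverMorphism.ext (Groth.Agent.Unr55.eq_of_comp_eq f h.left k.left ((Over.w h).trans (Over.w k).symm) τ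
        (congrArg Subtype.val hhk)), fun _ => rfl⟩
  obtain ⟨x₀⟩ := (inferInstance : Nonempty X')
  obtain ⟨F₀, hF₀, -⟩ := ev _ (geom x₀).1
  obtain ⟨hfin₀, hcard₀⟩ := Groth.Agent.FibreCard84.card_fibre f n hdeg ((geom x₀).1 ≫ φ)
  have hfin : Finite (Over.mk φ ⟶ Over.mk f) := Finite.of_injective F₀ hF₀
  have hle : Nat.card (Over.mk φ ⟶ Over.mk f) ≤ n := hcard₀ ▸ Nat.card_le_card_of_injective F₀ hF₀
  refine ⟨hfin, hle, ?_, ?_⟩
  · intro hcard
    let eq := (Finite.equivFinOfCardEq hcard).symm
    let e : Fin n → (X' ⟶ pullback f φ) := fun i =>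
      pullback.lift (eq i).left (𝟙 X') ((Over.w (eq i)).trans (Category.id_comp φ).symm)
    have h2 : ∀ i, e i ≫ pullback.snd f φ = 𝟙 X' := fun i => pullback.lift_snd _ _ _
    have h1 : ∀ i, e i ≫ pullback.fst f φ = (eq i).left := fun i => pullback.lift_fst _ _ _
    have hopen : ∀ i, IsOpenImmersion (e i) := fun i => by
      have : Etale (e i ≫ pullback.snd f φ) := by rw [h2]; infer_instance
      have : Mono (e i ≫ pullback.snd f φ) := by rw [h2]; infer_instance
      have : Mono (e i) := mono_of_mono (e i) (pullback.snd f φ)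
      have : Etale (pullback.snd f φ) := MorphismProperty.pullback_snd _ _ (inferInstanceAs (Etale f))
      have : Etale (e i) := Etale.of_comp (e i) (pullback.snd f φ)
      exact IsOpenImmersion.of_flat_of_mono _
    have hd : Pairwise fun i j => Disjoint (Set.range (e i)) (Set.range (e j)) := by
      intro i j hij
      rw [Set.disjoint_left]
      intro z hzi hzj
      apply hij
      have lift : ∀ k, z ∈ Set.range (e k) →
          ((pullback f φ).fromSpecResidueField z ≫ pullback.snd f φ) ≫ (eq k).left =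
            (pullback f φ).fromSpecResidueField z ≫ pullback.fst f φ := fun k hk => by
        have := hopen k
        have hfac := IsOpenImmersion.lift_fac (e k)
          ((pullback f φ).fromSpecResidueField z)
          (by rw [Scheme.range_fromSpecResidueField]; exact Set.singleton_subset_iff.mpr hk)
        conv_lhs => rw [← hfac, Category.assoc _ (e k), h2, Category.comp_id]
        conv_rhs => rw [← hfac, Category.assoc _ (e k), h1]
      refine eq.injective (Over.OverMorphism.ext ?_)
      exact Groth.Agent.Unr55.eq_of_comp_eq f _ _ ((Over.w _).trans (Over.w _).symm) _ ((lift i hzi).trans (lift j hzj).symm)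
    have := isOpenImmersion_sigmaDesc _ e hd
    have : IsIso (Sigma.desc e) := by
      refine (isIso_iff_isOpenImmersion_and_epi_base _).mpr ⟨inferInstance, ?_⟩
      rw [TopCat.epi_iff_surjective]
      intro z
      let Ω := AlgebraicClosure ((pullback f φ).residueField z)
      obtain ⟨t⟩ : Nonempty (Spec (CommRingCat.of Ω)) := inferInstance
      obtain ⟨r, hrz⟩ : ∃ r : Spec (CommRingCat.of Ω) ⟶ pullback f φ, r t = z :=
        ⟨Spec.map (CommRingCat.ofHom (algebraMap ((pullback f φ).residueField z) Ω)) ≫ (pullback f φ).fromSpecResidueField z,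
          by rw [Scheme.Hom.comp_apply, Scheme.fromSpecResidueField_apply]⟩
      obtain ⟨F, hF, hF'⟩ := ev Ω (r ≫ pullback.snd f φ)
      obtain ⟨hfinz, hcardz⟩ := Groth.Agent.FibreCard84.card_fibre f n hdeg ((r ≫ pullback.snd f φ) ≫ φ)
      have hbij := hF.bijective_of_nat_card_le (hcardz.trans hcard.symm).le
      obtain ⟨h, hh⟩ := hbij.2 ⟨r ≫ pullback.fst f φ, by simp only [Category.assoc, pullback.condition]⟩
      obtain ⟨i, rfl⟩ := eq.surjective h
      have hh' := (hF' _).symm.trans (congrArg Subtype.val hh)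
      have hr : (r ≫ pullback.snd f φ) ≫ e i = r := pullback.hom_ext
        (by rw [Category.assoc _ (e i), h1]; exact hh')
        (by rw [Category.assoc _ (e i), h2, Category.comp_id])
      refine ⟨((r ≫ pullback.snd f φ) ≫ Sigma.ι (fun _ : Fin n => X') i) t, ?_⟩
      show (_ ≫ Sigma.desc e) t = z
      rw [Category.assoc _ (Sigma.ι (fun _ : Fin n => X') i), Sigma.ι_desc, hr, hrz]
    refine ⟨(asIso (Sigma.desc e)).symm, ?_⟩
    rw [Iso.symm_hom, asIso_inv, IsIso.inv_comp_eq]
    exact Sigma.hom_ext _ _ fun i => by rw [Sigma.ι_desc, Sigma.ι_desc_assoc, h2]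
  · rintro ⟨e, he⟩
    refine le_antisymm hle ?_
    have hs : ∀ i : Fin n, (Sigma.ι (fun _ : Fin n => X') i ≫ e.inv) ≫ pullback.snd f φ = 𝟙 X' := fun i => by
      rw [← he, Category.assoc, Iso.inv_hom_id_assoc, Sigma.ι_desc]
    let S : Fin n → (Over.mk φ ⟶ Over.mk f) := fun i =>
      Over.homMk ((Sigma.ι (fun _ : Fin n => X') i ≫ e.inv) ≫ pullback.fst f φ) (by
        show ((_ : X' ⟶ X) ≫ f) = φ
        rw [Category.assoc _ (pullback.fst f φ), pullback.condition, ← Category.assoc _ (pullback.snd f φ), hs, Category.id_comp])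
    have hS : Function.Injective S := by
      intro i j hij
      by_contra hne
      have := pullback.hom_ext (congrArg CommaMorphism.left hij) ((hs i).trans (hs j).symm)
      rw [cancel_mono] at this
      have hz := congrArg (fun m : X' ⟶ ∐ fun _ : Fin n => X' => m x₀) this
      exact hne (congrArg Sigma.fst ((sigmaι_eq_iff _ _ _ _ _).mp hz))
    simpa using Nat.card_le_card_of_injective S hS

end Groth.Agent.S18918
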