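import Groth.Statements.S18919
import Groth.Agent.Ega11.NodeSpread
import Groth.Agent.Curves2.NodeReduced
-- import your own Groth.Agent.* helpers here

set_option autoImplicit false
universe u
open CategoryTheory CategoryTheory.Limits AlgebraicGeometry
open TFNodal

namespace Groth.Agent.S18919

/-- Let k be an algebraically closed field of characteristic zero, X a connected proper curve over k (a
proper k-scheme of dimension one) whose closed points are smooth points or nodes, and F a coherent
torsion free O_X-module (every stalk a torsion free module over the local ring). Let x be a node at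
which the stalk F_x is isomorphic, as an O_{X,x}-module, to m_x^{⊕a} ⊕ O_{X,x}^{⊕b} (F of type given
by a and b at x). Then there is an open neighbourhood U of x containing no other node such that F|_U
is isomorphic to I|_U^{⊕a} ⊕ O_U^{⊕b}, where I ⊆ O_X is the ideal sheaf of the reduced closed point
x (existence of an isomorphism; the source produces one whose stalk at x is the given one). The
published statement assumes F of uniform multirank r with b = r − a; this row allows any a and b,
the argument being local at x. -/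
theorem result
    (k : Type u) [Field k] [IsAlgClosed k] [CharZero k]
    (X : Scheme.{u}) [X.Over (Spec (CommRingCat.of k))] [IsProper (X ↘ Spec (CommRingCat.of k))]
    [ConnectedSpace X] (hdim : topologicalKrullDim X = 1) (hnod : Curv2.AtWorstNodal k X)
    (F : X.Modules) (hF : Coh.IsCoh F) (htF : TorSh.IsTorsionFree F)
    (x : X) (hx : Curv2.IsNode k X x) (a b : ℕ)
    (hΦ : Nonempty (F.presheaf.stalk x ≃ₗ[X.presheaf.stalk x]
      ((Fin a → IsLocalRing.maximalIdeal (X.presheaf.stalk x)) × (Fin b → X.presheaf.stalk x)))) :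
    ∃ U : X.Opens, x ∈ U ∧ (∀ y ∈ U, Curv2.IsNode k X y → y = x) ∧
      Nonempty (F.restrict U.ι ≅
        (∐ fun _ : Fin a =>
            (ClSub.idealMod (Scheme.IdealSheafData.vanishingIdeal (⟨{x}, hx.1⟩ : TopologicalSpace.Closeds X))).restrict U.ι) ⨿
          (∐ fun _ : Fin b => Coh.structureModule (↑U : Scheme.{u}))) := by
  have : IsLocallyNoetherian X := LocallyOfFiniteType.isLocallyNoetherian (X ↘ Spec (CommRingCat.of k))
  have : CompactSpace X := QuasiCompact.compactSpace_of_compactSpace (X ↘ Spec (CommRingCat.of k))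
  have : AlgebraicGeometry.IsNoetherian X := {}
  have : AlgebraicGeometry.IsReduced X := Groth.Agent.Curves2.isReduced_of_atWorstNodal k X hnod
  obtain ⟨W, hxW, hW⟩ := Groth.Agent.Ega11.NodeSpread.exists_open_avoiding (k := k) hdim.le x
  let I := ClSub.idealMod (Scheme.IdealSheafData.vanishingIdeal (⟨{x}, hx.1⟩ : TopologicalSpace.Closeds X))
  let O := Coh.structureModule X
  let eH : (⨁ fun _ : Fin a => I) ⊞ (⨁ fun _ : Fin b => O) ≅ (∐ fun _ : Fin a => I) ⨿ (∐ fun _ : Fin b => O) :=
    biprod.mapIso (biproduct.isoCoproduct _) (biproduct.isoCoproduct _) ≪≫ biprod.isoCoprod _ _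
  have hH := Groth.Agent.QC70.isCoh_of_iso eH (Groth.Agent.Ega11.NodeSpread.isCoh_biprod _ _
    (Groth.Agent.QC70.isCoh_biproduct _ fun _ => Groth.Agent.Crv77.isCoh_idealMod _)
    (Groth.Agent.QC70.isCoh_biproduct _ fun _ => Groth.Agent.Crv77.isCoh_structureModule))
  obtain ⟨eI⟩ := Groth.Agent.Ega11.NodeSpread.nonempty_idealMod_stalkEquiv x hx.1
  obtain ⟨e⟩ := hΦ
  let e₁ := (LinearEquiv.ofBijective (Groth.Agent.QC70.stalkLinear eH.hom x)
      (Groth.Agent.QC70.bijective_stalkMapM_of_isIso eH.hom x)).symm ≪≫ₗ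
    Groth.Agent.Ega11.NodeSpread.biprodStalkEquiv _ _ x ≪≫ₗ
    LinearEquiv.prodCongr
      (Groth.Agent.QC70.biproductStalkEquiv (fun _ : Fin a => I) x ≪≫ₗ LinearEquiv.piCongrRight fun _ => eI)
      (Groth.Agent.QC70.biproductStalkEquiv (fun _ : Fin b => O) x ≪≫ₗ
        LinearEquiv.piCongrRight fun _ => (Groth.Agent.QC70.unitStalkEquiv x).symm) ≪≫ₗ e.symm
  obtain ⟨U, hUW, hxU, ⟨i⟩⟩ := Groth.Agent.Ega11.NodeSpread.exists_restrict_iso hH hF x e₁ hxW
  refine ⟨U, hxU, fun y hy hn => hW y (hUW hy) hn, ⟨i.symm ≪≫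
    (PreservesColimitPair.iso (Scheme.Modules.restrictFunctor U.ι) _ _).symm ≪≫
    coprod.mapIso (PreservesCoproduct.iso (Scheme.Modules.restrictFunctor U.ι) _)
      (PreservesCoproduct.iso (Scheme.Modules.restrictFunctor U.ι) _ ≪≫
        Sigma.mapIso fun _ => Scheme.Modules.restrictUnitIso U.ι)⟩⟩

end Groth.Agent.S18919
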