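import Groth.Statements.S18920
import Mathlib.Data.Nat.Factorial.Basic
import Mathlib.Tactic.Ring
import Mathlib.Algebra.BigOperators.Finsupp.Basic

set_option autoImplicit false
universe u
open CAlg

namespace Groth.Agent.S18920

/-- Let M be a commutative monoid, s ≥ 1, and ξ_1, …, ξ_s elements of M with ξ_i ^ (s!/i) = 1 for 1 ≤ i
≤ s (an (s!/i)-th root of unity for each i). Suppose that for every finitely supported function d on
{1, …, s} with Σ_i i · d_i = s! the product ∏_i ξ_i ^ d_i equals 1. Then ξ_1 ^ j = ξ_j for every 1 ≤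
j ≤ s. (The source works with roots of unity in the complex numbers.) -/
theorem result
    {M : Type u} [CommMonoid M] (s : ℕ) (hs : 1 ≤ s) (ξ : ℕ → M)
    (hξ : ∀ i : ℕ, 1 ≤ i → i ≤ s → ξ i ^ (s.factorial / i) = 1)
    (hprod : ∀ d : ℕ →₀ ℕ, (∀ i ∈ d.support, 1 ≤ i ∧ i ≤ s) →
      (d.sum fun i n => i * n) = s.factorial → (d.prod fun i n => ξ i ^ n) = 1)
    (j : ℕ) (hj : 1 ≤ j) (hjs : j ≤ s) :
    ξ 1 ^ j = ξ j := by
  rcases eq_or_ne j 1 with rfl | hj1
  · rw [pow_one]
  have hdvd : j ∣ s.factorial := Nat.dvd_factorial hj hjs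
  have hq : 1 ≤ s.factorial / j :=
    Nat.div_pos (Nat.le_of_dvd s.factorial_pos hdvd) hj
  obtain ⟨q, hq'⟩ : ∃ q, s.factorial / j = q + 1 := ⟨_, (Nat.sub_add_cancel hq).symm⟩
  have hfac : s.factorial = j * (q + 1) := by rw [← hq', Nat.mul_div_cancel' hdvd]
  have h1 := hprod (Finsupp.single 1 j + Finsupp.single j q) (fun i hi => by
    rcases Finset.mem_union.mp (Finsupp.support_add hi) with h | h
    · obtain rfl := Finset.mem_singleton.mp (Finsupp.support_single_subset h)
      exact ⟨le_rfl, hs⟩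
    · obtain rfl := Finset.mem_singleton.mp (Finsupp.support_single_subset h)
      exact ⟨hj, hjs⟩) (by
    rw [Finsupp.sum_add_index' (fun _ => mul_zero _) (fun _ => mul_add _),
      Finsupp.sum_single_index (mul_zero _), Finsupp.sum_single_index (mul_zero _), hfac]
    ring)
  rw [Finsupp.prod_add_index' (fun _ => pow_zero _) (fun _ => pow_add _),
    Finsupp.prod_single_index (h := fun i n => ξ i ^ n) (pow_zero _),
    Finsupp.prod_single_index (h := fun i n => ξ i ^ n) (pow_zero _)] at h1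
  have h2 := hξ j hj hjs
  rw [hq', pow_succ'] at h2
  calc ξ 1 ^ j = ξ 1 ^ j * (ξ j * ξ j ^ q) := by rw [h2, mul_one]
    _ = ξ j * (ξ 1 ^ j * ξ j ^ q) := by rw [mul_left_comm]
    _ = ξ j := by rw [h1, mul_one]

end Groth.Agent.S18920
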