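import Mathlib.AlgebraicGeometry.Geometrically.Connected
import Mathlib.AlgebraicGeometry.Geometrically.Reduced
import Mathlib.AlgebraicGeometry.Morphisms.Finite
import Mathlib.AlgebraicGeometry.Morphisms.Flat
import Mathlib.AlgebraicGeometry.Morphisms.Proper
import Groth.Prelude.Def_Coh
import Groth.Prelude.Def_ClSub2
import Groth.Agent.SpPts86.SchDense
import Groth.Agent.EGAProj74.TildeRows
import Groth.Agent.Stein58.GeomConnGamma
import Groth.Agent.Crv77.Sections
import Groth.Agent.Var76.Frames
-- import your own Groth.Agent.* helpers here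

set_option autoImplicit false
universe u
namespace FinCov
end FinCov
open FinCov

namespace Groth.Agent.S18926

open CategoryTheory CategoryTheory.Limits AlgebraicGeometry Opposite
open Groth.Agent.Var76

variable {X Y : Scheme.{u}}

theorem app_unitToPush (ρ : X ⟶ Y) (U : Y.Opens) (a : Γ(Y, U)) :
    (ClSub.unitToPush ρ).app U a = ρ.app U a := rfl

/-- With no sections of the cokernel, every function upstairs comes from downstairs. -/
theorem appTop_bijective (ρ : X ⟶ Y) [Flat ρ] [Surjective ρ]
    (h0 : Subsingleton (Coh.HH Y (cokernel (ClSub.unitToPush ρ)) 0)) :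
    Function.Bijective ρ.appTop := by
  have hinj : ∀ W, Function.Injective (ρ.app W) := SpPts86.app_injective_of_flat_surjective ρ
  have hm : Mono (ClSub.unitToPush ρ) := EGAProj74.mono_of_app_injective _ fun W a b h => hinj W h
  refine ⟨hinj ⊤, fun b => ?_⟩
  let B : Γ((Scheme.Modules.pushforward ρ).obj (Coh.structureModule X), ⊤) := b
  have : Subsingleton Γ(cokernel (ClSub.unitToPush ρ), ⊤) :=
    (Crv77.sec (cokernel (ClSub.unitToPush ρ))).symm.injective.subsingleton
  let σ := Frames.ofSection _ B
  have hσ : σ ≫ cokernel.π (ClSub.unitToPush ρ) = 0 := by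
    apply (cokernel (ClSub.unitToPush ρ)).unitHomEquiv.injective
    ext U
    show (σ ≫ cokernel.π (ClSub.unitToPush ρ)).app U.unop (1 : Γ(Y, U.unop)) = _
    show (cokernel.π (ClSub.unitToPush ρ)).app U.unop (ZeroScheme.val _ σ U.unop) = _
    rw [Frames.val_ofSection]
    have hnat := ConcreteCategory.congr_hom
      ((cokernel.π (ClSub.unitToPush ρ)).mapPresheaf.naturality (homOfLE (le_top : U.unop ≤ ⊤)).op) B
    have hz : (cokernel.π (ClSub.unitToPush ρ)).app ⊤ B = (0 : Γ(cokernel (ClSub.unitToPush ρ), ⊤)) :=
      Subsingleton.elim _ _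
    refine hnat.trans ?_
    show (cokernel (ClSub.unitToPush ρ)).presheaf.map _ ((cokernel.π (ClSub.unitToPush ρ)).app ⊤ B) = _
    rw [hz, map_zero]
    rfl
  let ψ := (Abelian.monoIsKernelOfCokernel (CokernelCofork.ofπ _ (cokernel.condition _))
    (cokernelIsCokernel (ClSub.unitToPush ρ))).lift (KernelFork.ofι σ hσ)
  have hψ : ψ ≫ ClSub.unitToPush ρ = σ :=
    Fork.IsLimit.lift_ι (s := KernelFork.ofι (ClSub.unitToPush ρ) _) _
  refine ⟨ZeroScheme.val _ ψ ⊤, ?_⟩
  have h1 : (ClSub.unitToPush ρ).app ⊤ (ZeroScheme.val _ ψ ⊤) = ZeroScheme.val _ σ ⊤ :=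
    congrArg (fun φ : Coh.structureModule Y ⟶ _ => ZeroScheme.val _ φ ⊤) hψ
  rw [Frames.val_ofSection] at h1
  exact h1.trans (by simp [LineBundle.res, B]; rfl)

open CategoryTheory CategoryTheory.Limits AlgebraicGeometry in
/-- Let k be a field, Y a proper, geometrically connected and geometrically reduced scheme over k, and ρ
: X ⟶ Y a finite, flat and surjective morphism. If the zeroth cohomology group of the cokernel of
the O_Y-module map O_Y ⟶ ρ_* O_X has at most one element, then X is geometrically connected over k.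
(The published statement assumes Y projective and takes for X one of the finite locally free
Gorenstein covers of degree 3, 4 or 5 that it constructs, with the cokernel identified with a dual
vector bundle; this row assumes only that ρ is finite, flat and surjective and that Y is proper.) -/
theorem result
    (k : Type u) [Field k] (X Y : Scheme.{u}) (g : Y ⟶ Spec (CommRingCat.of k)) (ρ : X ⟶ Y)
    [IsProper g] [GeometricallyConnected g] [GeometricallyReduced g]
    [IsFinite ρ] [Flat ρ] [Surjective ρ]
    (h0 : Subsingleton (Coh.HH Y (cokernel (ClSub.unitToPush ρ)) 0)) :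
    GeometricallyConnected (ρ ≫ g) := by
  obtain ⟨q, hq⟩ := ExpChar.exists k
  have : IsProper (ρ ≫ g) := inferInstance
  obtain ⟨hloc, hdim, hpi⟩ := (Stein58.geometricallyConnected_iff_gamma g q).1 inferInstance
  let e : Γ(Y, ⊤) ≃+* Γ(X, ⊤) := RingEquiv.ofBijective ρ.appTop.hom (appTop_bijective ρ h0)
  refine (Stein58.geometricallyConnected_iff_gamma (ρ ≫ g) q).2
    ⟨e.isLocalRing, (ringKrullDim_eq_of_ringEquiv e).symm.trans hdim, fun a => ?_⟩
  obtain ⟨n, c, hc⟩ := hpi (e.symm a)
  refine ⟨n, c, ?_⟩
  have := hc.map e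
  rw [map_sub, map_pow, e.apply_symm_apply] at this
  exact this


end Groth.Agent.S18926
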