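import Groth.Statements.S18927

set_option autoImplicit false
universe u v
open W4c6secantcecovers

namespace Groth.Agent.S18927

open TensorProduct in
/-- Let R be a commutative ring, E = R^r the free module with its coordinate basis, S = R[X_1, …, X_r]
(the symmetric algebra of E), and N an R-module carrying R-linear operators φ_j (the action of the
j-th basis vector of E) and an R-bilinear form β with β(φ_j n, m) = β(n, φ_j m) for every j. On (ΛE
⊗ S) ⊗ N — all terms Λ^k(S ⊗ E) ⊗ N of the Scheja–Storch complex at once — let δ be the differential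
sending (e_1 ∧ ⋯ ∧ e_k) ⊗ s ⊗ n to Σ_i (-1)^(i-1) (e_1 ∧ ⋯ ê_i ⋯ ∧ e_k) ⊗ x(e_i) s ⊗ n + Σ_i (-1)^i
(e_1 ∧ ⋯ ê_i ⋯ ∧ e_k) ⊗ s ⊗ e_i · n, and pair a term u = ω ⊗ s ⊗ n of degree k with v = η ⊗ t ⊗ m by
⟨u, v⟩_k = (-1)^(k choose 2) β(n, m) · (ω ∧ η) ⊗ s t. Then the differential is adjoint to itself for
this pairing in complementary degrees: for u = (e_0 ∧ ⋯ ∧ e_k) ⊗ s ⊗ n of degree k + 1 ≤ r and v =
(f_1 ∧ ⋯ ∧ f_(r-k)) ⊗ t ⊗ m of degree r - k, ⟨δ u, v⟩_k = ⟨u, δ v⟩_(k+1). (The source takes E
finitely generated projective and N a module over the ambient algebra with a pairing satisfying ⟨f,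
g h⟩ = ⟨g f, h⟩; the proof runs on a basis, which is the form stated here, with the action of E
recorded by the operators φ_j.) -/
theorem result
    (R : Type u) [CommRing R] (r : ℕ) (N : Type v) [AddCommGroup N] [Module R N]
    (φ : Fin r → (N →ₗ[R] N)) (β : N →ₗ[R] N →ₗ[R] R)
    (hβ : ∀ (j : Fin r) (n m : N), β (φ j n) m = β n (φ j m))
    (k : ℕ) (hk : k < r)
    (e : Fin (k + 1) → (Fin r → R)) (f : Fin (r - k) → (Fin r → R))
    (s t : MvPolynomial (Fin r) R) (n m : N) :
    W4c6secantcecovers.ssPair R r N β k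
        (W4c6secantcecovers.ssDelta R r N φ ((ExteriorAlgebra.ιMulti R (k + 1) e ⊗ₜ[R] s) ⊗ₜ[R] n))
        ((ExteriorAlgebra.ιMulti R (r - k) f ⊗ₜ[R] t) ⊗ₜ[R] m) =
      W4c6secantcecovers.ssPair R r N β (k + 1)
        ((ExteriorAlgebra.ιMulti R (k + 1) e ⊗ₜ[R] s) ⊗ₜ[R] n)
        (W4c6secantcecovers.ssDelta R r N φ ((ExteriorAlgebra.ιMulti R (r - k) f ⊗ₜ[R] t) ⊗ₜ[R] m)) := by
  have hder : ∀ (n : ℕ) (v : Fin n → (Fin r → R)) (η : ExteriorAlgebra R (Fin r → R)) (j : Fin r),
      ssContr R r j (ExteriorAlgebra.ιMulti R n v * η) =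
        ssContr R r j (ExteriorAlgebra.ιMulti R n v) * η +
          (-1 : R) ^ n • (ExteriorAlgebra.ιMulti R n v * ssContr R r j η) := by
    intro n
    induction n with
    | zero =>
      intro v η j
      simp [ExteriorAlgebra.ιMulti_apply, ssContr, CliffordAlgebra.contractLeft_one]
    | succ n ih =>
      intro v η j
      rw [ExteriorAlgebra.ιMulti_succ_apply]
      simp only [ssContr] at ih ⊢
      rw [mul_assoc, CliffordAlgebra.contractLeft_ι_mul, CliffordAlgebra.contractLeft_ι_mul, ih, mul_add,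
        sub_mul, smul_mul_assoc, mul_smul_comm, pow_succ', neg_one_mul, neg_smul, ← mul_assoc, ← mul_assoc]
      abel
  have hzero : ExteriorAlgebra.ιMulti R (k + 1) e * ExteriorAlgebra.ιMulti R (r - k) f = 0 := by
    have h1 : ExteriorAlgebra.ιMulti R (k + 1) e * ExteriorAlgebra.ιMulti R (r - k) f =
        ExteriorAlgebra.ιMulti R (k + 1 + (r - k)) (Fin.append e f) := by
      rw [ExteriorAlgebra.ιMulti_apply, ExteriorAlgebra.ιMulti_apply, ExteriorAlgebra.ιMulti_apply,
        ← List.prod_append, ← List.ofFn_fin_append]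
      congr 2
      funext i
      refine Fin.addCases (fun i => ?_) (fun i => ?_) i <;> simp
    have h2 : ExteriorAlgebra.ιMulti R (M := Fin r → R) (k + 1 + (r - k)) = 0 := by
      refine Module.Basis.ext_alternating (Pi.basisFun R (Fin r)) fun v hv => ?_
      have := Fintype.card_le_of_injective v hv
      simp at this
      omega
    rw [h1, h2]; rfl
  have hsgn : ∀ j, ssContr R r j (ExteriorAlgebra.ιMulti R (k + 1) e) * ExteriorAlgebra.ιMulti R (r - k) f =
      (-1 : R) ^ k • (ExteriorAlgebra.ιMulti R (k + 1) e * ssContr R r j (ExteriorAlgebra.ιMulti R (r - k) f)) := by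
    intro j
    have h := hder (k + 1) e (ExteriorAlgebra.ιMulti R (r - k) f) j
    rw [hzero, map_zero, pow_succ', neg_one_mul, neg_smul, ← sub_eq_add_neg, eq_comm, sub_eq_zero] at h
    exact h
  have hp : (-1 : R) ^ (k + 1).choose 2 = (-1) ^ k.choose 2 * (-1) ^ k := by
    rw [Nat.choose_succ_succ', Nat.choose_one_right, pow_add, mul_comm]
  simp only [ssDelta, ssDKoszul, ssDAct, LinearMap.sum_apply, map_sum, LinearMap.add_apply,
    LinearMap.smul_apply, map_add, map_smul, TensorProduct.map_tmul, ssPair, TensorProduct.curry_apply,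
    ssPairAux, LinearMap.comp_apply, LinearEquiv.coe_coe, TensorProduct.tensorTensorTensorComm_tmul,
    LinearMap.mul'_apply, Algebra.TensorProduct.tmul_mul_tmul, TensorProduct.lift.tmul,
    TensorProduct.rid_tmul, LinearMap.id_apply, LinearMap.mulLeft_apply]
  refine Finset.sum_congr rfl fun j _ => ?_
  rw [hsgn, hp, hβ, mul_assoc (MvPolynomial.X j), ← mul_assoc s (MvPolynomial.X j), mul_comm s (MvPolynomial.X j),
    mul_assoc (MvPolynomial.X j) s t]
  simp only [TensorProduct.smul_tmul', smul_smul]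
  congr 3 <;> ring

end Groth.Agent.S18927
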