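import Groth.Statements.S1893
import Mathlib.AlgebraicGeometry.Morphisms.UniversallyOpen


set_option autoImplicit false
universe u
open CategoryTheory CategoryTheory.Limits AlgebraicGeometry
open Grpd

namespace Groth.Agent.S1893

/-- Let (U, R, s, t, c) be a groupoid scheme over S with s, t quasi-compact and flat and U
quasi-separated, and W ⊆ U a quasi-compact open. Then the saturation t(s⁻¹(W)) can be written as an
intersection of quasi-compact opens of U, indexed by a nonempty set. (A groupoid scheme carries U,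
R, s, t, c, e, i over S with the groupoid axioms on T-points; 'finite locally free' is finite, flat
and locally of finite presentation; C ⊂ Γ(U) is the ring of functions a with s♯(a) = t♯(a) and M =
Spec C.) -/
theorem result (S : Scheme.{u}) (G : Grpd.GroupoidScheme S) [QuasiCompact G.s] [Flat G.s] [QuasiCompact G.t] [Flat G.t] [QuasiSeparatedSpace G.U] (W : G.U.Opens) (hW : IsCompact (W : Set G.U)) : ∃ (ι : Type u) (_ : Nonempty ι) (V : ι → G.U.Opens), (∀ i, IsCompact (V i : Set G.U)) ∧ ⇑G.t '' (⇑G.s ⁻¹' (W : Set G.U)) = ⋂ i, (V i : Set G.U) := by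
  classical
  let T : Set G.U := ⇑G.t '' (⇑G.s ⁻¹' (W : Set G.U))
  have hTc : IsCompact T :=
    (G.s.isCompact_preimage (U := W) hW).image G.t.continuous
  have cover : ∀ O : ∀ y : T, G.U.Opens, (∀ y : T, (y : G.U) ∈ O y ∧ IsCompact (O y : Set G.U)) →
      ∃ V : G.U.Opens, IsCompact (V : Set G.U) ∧ T ⊆ V ∧ ∀ x ∈ V, ∃ y, x ∈ O y := by
    intro O hO
    obtain ⟨F, hF⟩ := hTc.elim_finite_subcover (fun y : T => (O y : Set G.U)) (fun y => (O y).2)
      (fun y hy => Set.mem_iUnion.mpr ⟨⟨y, hy⟩, (hO ⟨y, hy⟩).1⟩)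
    refine ⟨⟨⋃ y ∈ F, (O y : Set G.U), isOpen_biUnion fun y _ => (O y).2⟩, ?_, hF, fun x hx => ?_⟩
    · exact F.isCompact_biUnion fun y _ => (hO y).2
    · obtain ⟨y, -, hy⟩ := Set.mem_iUnion₂.mp hx; exact ⟨y, hy⟩
  have gen : ∀ {x y : G.U}, x ⤳ y → y ∈ T → x ∈ T := by
    rintro x _ h ⟨r, hr, rfl⟩
    obtain ⟨r', hr', e⟩ := Flat.generalizingMap G.t h
    exact ⟨r', (hr'.map G.s.continuous).mem_open W.2 hr, e⟩
  have sep : ∀ x, x ∉ T → ∃ V : G.U.Opens, IsCompact (V : Set G.U) ∧ T ⊆ V ∧ x ∉ V := by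
    intro x hx
    have : ∀ y : T, ∃ O : G.U.Opens, ((y : G.U) ∈ O ∧ IsCompact (O : Set G.U)) ∧ x ∉ O := by
      intro y
      have hy : (y : G.U) ∉ closure {x} := fun h =>
        hx (gen (specializes_iff_mem_closure.mpr h) y.2)
      obtain ⟨O, hO, hyO, hsub⟩ := exists_isAffineOpen_mem_and_subset
        (U := (⟨_, isClosed_closure.isOpen_compl⟩ : G.U.Opens)) hy
      exact ⟨O, ⟨hyO, hO.isCompact⟩, fun h => hsub h (subset_closure rfl)⟩
    choose O hO hxO using this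
    obtain ⟨V, h1, h2, h3⟩ := cover O hO
    exact ⟨V, h1, h2, fun h => by obtain ⟨y, hy⟩ := h3 x h; exact hxO y hy⟩
  obtain ⟨V₀, hV₀⟩ : ∃ V : G.U.Opens, IsCompact (V : Set G.U) ∧ T ⊆ V := by
    have : ∀ y : T, ∃ O : G.U.Opens, (y : G.U) ∈ O ∧ IsCompact (O : Set G.U) := fun y => by
      obtain ⟨O, hO, hyO, -⟩ := exists_isAffineOpen_mem_and_subset (U := (⊤ : G.U.Opens)) (x := (y : G.U)) trivial
      exact ⟨O, hyO, hO.isCompact⟩
    choose O hO using this
    obtain ⟨V, h1, h2, -⟩ := cover O hO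
    exact ⟨V, h1, h2⟩
  refine ⟨{V : G.U.Opens // IsCompact (V : Set G.U) ∧ T ⊆ V}, ⟨⟨V₀, hV₀⟩⟩, fun i => i.1, fun i => i.2.1, ?_⟩
  refine Set.Subset.antisymm (Set.subset_iInter fun i => i.2.2) fun x hx => ?_
  by_contra h
  obtain ⟨V, h1, h2, h3⟩ := sep x h
  exact h3 (Set.mem_iInter.mp hx ⟨V, h1, h2⟩)

end Groth.Agent.S1893
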