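import Groth.Statements.S18933
import Groth.Agent.RelGCI94.Syntomic
import Groth.Agent.RelGCI94.SmoothSyn
import Mathlib.RingTheory.RingHom.FaithfullyFlat
import Mathlib.Algebra.MvPolynomial.Expand

set_option autoImplicit false
universe u
open Synt

namespace Groth.Agent.S18933

theorem main (p : ℕ) [Fact p.Prime] (A : Type u) [CommRing A] (m : ℕ)
    (S : Type u) [CommRing S] [Algebra A S] [Algebra (MvPolynomial (Fin m) A) S]
    [IsScalarTower A (MvPolynomial (Fin m) A) S] (eS : S ≃ₐ[A] MvPolynomial (Fin m) A)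
    (hz : ∀ i, (eS.symm (MvPolynomial.X i)) ^ p = algebraMap (MvPolynomial (Fin m) A) S (MvPolynomial.X i)) :
    Synt.IsSyntomic (MvPolynomial (Fin m) A) S ∧ Module.Finite (MvPolynomial (Fin m) A) S := by
  classical
  let z : Fin m → S := fun i => eS.symm (MvPolynomial.X i)
  have hp : 0 < p := (Fact.out : p.Prime).pos
  let P := MvPolynomial (Fin m) A
  let F : Fin m → MvPolynomial (Fin m) P := fun i => MvPolynomial.X i ^ p - MvPolynomial.C (MvPolynomial.X i)
  let Q := Synt.RelGCIRing P m m F
  let x : Fin m → Q := fun i => Ideal.Quotient.mk _ (MvPolynomial.X i)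
  have hx : ∀ i, x i ^ p = algebraMap P Q (MvPolynomial.X i) := fun i => by
    show Ideal.Quotient.mk (Ideal.span (Set.range F)) (MvPolynomial.X i) ^ p =
      Ideal.Quotient.mk (Ideal.span (Set.range F)) (MvPolynomial.C (MvPolynomial.X i))
    rw [← map_pow, Ideal.Quotient.mk_eq_mk_iff_sub_mem]
    exact Ideal.subset_span ⟨i, rfl⟩
  let e₀ : Q →ₐ[P] S := Ideal.Quotient.liftₐ _
    (MvPolynomial.aeval (fun i => z i)) (fun a ha => by
      change a ∈ RingHom.ker _
      refine Ideal.span_le.mpr ?_ ha
      rintro _ ⟨i, rfl⟩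
      rw [SetLike.mem_coe, RingHom.mem_ker]
      simp only [F, map_sub, map_pow, MvPolynomial.aeval_X, MvPolynomial.aeval_C]
      exact sub_eq_zero.mpr (hz i))
  let g : S →+* Q := (MvPolynomial.eval₂Hom ((algebraMap P Q).comp MvPolynomial.C) x).comp eS.toRingEquiv.toRingHom
  have hgC : ∀ a, g (algebraMap A S a) = algebraMap P Q (MvPolynomial.C a) := fun a => by
    simp [g, MvPolynomial.algebraMap_eq]
  have hgz : ∀ i, g (z i) = x i := fun i => by simp [g, z]
  have hgφ : ∀ t : P, g (algebraMap P S t) = algebraMap P Q t := fun t => by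
    refine RingHom.congr_fun (f := g.comp (algebraMap P S)) (g := algebraMap P Q) ?_ t
    refine MvPolynomial.ringHom_ext (fun a => ?_) (fun i => ?_)
    · show g (algebraMap P S (algebraMap A P a)) = _
      rw [← IsScalarTower.algebraMap_apply, hgC]
    · show g (algebraMap P S (MvPolynomial.X i)) = _
      rw [← hz i, map_pow, hgz, hx]
  have hge : g.comp e₀.toRingHom = RingHom.id Q := by
    refine Ideal.Quotient.ringHom_ext (MvPolynomial.ringHom_ext (fun t => ?_) (fun i => ?_))
    · show g (e₀ (Ideal.Quotient.mk _ (MvPolynomial.C t))) = Ideal.Quotient.mk _ (MvPolynomial.C t)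
      rw [show e₀ (Ideal.Quotient.mk _ (MvPolynomial.C t)) = algebraMap P S t from MvPolynomial.aeval_C _ t]
      exact hgφ t
    · show g (e₀ (Ideal.Quotient.mk _ (MvPolynomial.X i))) = Ideal.Quotient.mk _ (MvPolynomial.X i)
      rw [show e₀ (Ideal.Quotient.mk _ (MvPolynomial.X i)) = z i from MvPolynomial.aeval_X _ i]
      exact hgz i
  have heg : e₀.toRingHom.comp g = RingHom.id _ := by
    have h : (e₀.toRingHom.comp g).comp eS.symm.toRingEquiv.toRingHom = eS.symm.toRingEquiv.toRingHom := by
      refine MvPolynomial.ringHom_ext (fun a => ?_) (fun i => ?_)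
      · show e₀ (g (eS.symm (algebraMap A _ a))) = eS.symm (algebraMap A _ a)
        rw [AlgEquiv.commutes, hgC, AlgHom.commutes]
        exact (IsScalarTower.algebraMap_apply A P S a).symm
      · show e₀ (g (z i)) = z i
        rw [hgz]
        exact MvPolynomial.aeval_X _ i
    refine RingHom.ext fun w => ?_
    obtain ⟨w, rfl⟩ := eS.symm.surjective w
    exact RingHom.congr_fun h w
  let e : Q ≃ₐ[P] S := AlgEquiv.ofBijective e₀
    ⟨Function.LeftInverse.injective (g := g) (fun q => RingHom.congr_fun hge q),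
      Function.RightInverse.surjective (g := g) (fun q => RingHom.congr_fun heg q)⟩
  have hint : ∀ i, IsIntegral P (x i) := fun i =>
    IsIntegral.of_pow hp (by rw [hx i]; exact isIntegral_algebraMap)
  have htop : Algebra.adjoin P (Set.range x) = ⊤ := by
    rw [show Set.range x = Ideal.Quotient.mkₐ P (Ideal.span (Set.range F)) '' Set.range MvPolynomial.X from
      Set.range_comp _ _, ← AlgHom.map_adjoin, MvPolynomial.adjoin_range_X, Algebra.map_top,
      AlgHom.range_eq_top]
    exact Ideal.Quotient.mk_surjective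
  haveI hfin : Module.Finite P Q := ⟨by
    rw [← Algebra.top_toSubmodule, ← htop]
    exact fg_adjoin_of_finite (Set.finite_range x) (by rintro _ ⟨i, rfl⟩; exact hint i)⟩
  have hgci : Synt.IsRelGCI P m m F := fun q hq => ⟨le_rfl, by
    haveI : Module.Finite q.asIdeal.ResidueField (q.asIdeal.Fiber Q) := Module.Finite.base_change _ _ _
    have hart : IsArtinianRing (q.asIdeal.Fiber Q) := IsArtinianRing.of_finite q.asIdeal.ResidueField (q.asIdeal.Fiber Q)
    rw [Nat.sub_self, Nat.cast_zero]
    exact (ringKrullDimZero_iff_ringKrullDim_eq_zero (R := q.asIdeal.Fiber Q)).mp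
      ((isArtinianRing_iff_isNoetherianRing_krullDimLE_zero (R := q.asIdeal.Fiber Q)).mp hart).2⟩
  have hsyn : Synt.IsSyntomic P S :=
    RelGCI94.isSyntomic_congr e (RelGCI94.isSyntomic_relGCIRing P m m F hgci)
  haveI : Module.Finite P S := Module.Finite.equiv e.toLinearEquiv
  exact ⟨hsyn, inferInstance⟩

/-- Let p be a prime, A a Noetherian commutative ring and m a natural number, and let φ be the A-algebra
endomorphism of the polynomial ring A[T_1, …, T_m] with φ(T_i) = T_i^p. Then φ is syntomic and
faithfully flat (so Spec φ is a covering for the syntomic topology). -/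
theorem result (p : ℕ) [Fact p.Prime]
    (A : Type u) [CommRing A] [IsNoetherianRing A] (m : ℕ)
    (φ : MvPolynomial (Fin m) A →ₐ[A] MvPolynomial (Fin m) A)
    (hφ : ∀ i : Fin m, φ (MvPolynomial.X i) = MvPolynomial.X i ^ p) :
    @Synt.IsSyntomic (MvPolynomial (Fin m) A) _ (MvPolynomial (Fin m) A) _ φ.toRingHom.toAlgebra ∧
      φ.toRingHom.FaithfullyFlat := by
  classical
  letI iP : Algebra (MvPolynomial (Fin m) A) (MvPolynomial (Fin m) A) := φ.toRingHom.toAlgebra
  haveI : @IsScalarTower A (MvPolynomial (Fin m) A) (MvPolynomial (Fin m) A) _ iP.toSMul _ :=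
    IsScalarTower.of_algebraMap_eq fun a => (φ.commutes a).symm
  obtain ⟨hsyn, hfin⟩ := main p A m (MvPolynomial (Fin m) A) AlgEquiv.refl fun i => (hφ i).symm
  refine ⟨hsyn, RingHom.FaithfullyFlat.iff_flat_and_comap_surjective.mpr ⟨hsyn.1, ?_⟩⟩
  have hp : 0 < p := (Fact.out : p.Prime).pos
  have hinj : Function.Injective φ := by
    rw [show φ = MvPolynomial.expand p from MvPolynomial.algHom_ext fun i => by simp [hφ i]]
    exact MvPolynomial.expand_injective hp
  intro q
  exact RingHom.IsIntegral.comap_surjective (f := φ.toRingHom) (RingHom.Finite.to_isIntegral hfin) hinj q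

end Groth.Agent.S18933
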