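import Groth.Statements.S18934
import Groth.Agent.Synt18.Split


set_option autoImplicit false
universe u
open Synt

namespace Groth.Agent.S18934

open Polynomial in
/-- Let p be a prime, A a commutative ring and a an element of A. Then the A-algebra A[T]/(T^p − a) is
syntomic and faithfully flat over A. This is the step of the source's proof showing that adjoining a
p-th root of any element is a covering for the syntomic topology. -/
theorem result (p : ℕ) [Fact p.Prime]
    (A : Type u) [CommRing A] (a : A) :
    Synt.IsSyntomic A (AdjoinRoot (X ^ p - C a)) ∧ Module.FaithfullyFlat A (AdjoinRoot (X ^ p - C a)) := by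
  have hm : (X ^ p - C a).Monic := monic_X_pow_sub_C a (Fact.out : p.Prime).ne_zero
  have := hm.finite_adjoinRoot
  refine ⟨Groth.Agent.Synt18.isSyntomic_of_squarePres
    (Groth.Agent.Synt18.hasSquarePres_adjoinRoot (Groth.Agent.Synt18.hasSquarePres_self A) _), ?_⟩
  rcases subsingleton_or_nontrivial A with hA | hA
  · have : Subsingleton (AdjoinRoot (X ^ p - C a)) := Module.subsingleton A _
    exact ⟨fun {m} hm' => absurd (Subsingleton.elim m ⊤) hm'.ne_top⟩
  · exact Groth.Agent.Synt18.faithfullyFlat_adjoinRoot hm
      (by rw [natDegree_X_pow_sub_C]; exact (Fact.out : p.Prime).pos)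

end Groth.Agent.S18934
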