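import Groth.Statements.S18936
import Mathlib.RingTheory.Localization.AtPrime.Basic
import Mathlib.RingTheory.Localization.Away.Basic
import Mathlib.RingTheory.Noetherian.Basic

set_option autoImplicit false
universe u
open CAlg

namespace Groth.Agent.S18936

/-- Let A be a Noetherian commutative ring, q a prime ideal of A and f an element of A whose image in
the localization A_q is a non-zero-divisor. Then there is an element b of A not in q such that the
image of f in A[1/b] is a non-zero-divisor. -/
theorem result {A : Type u} [CommRing A] [IsNoetherianRing A]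
    (q : Ideal A) [q.IsPrime] (f : A)
    (hf : algebraMap A (Localization.AtPrime q) f ∈ nonZeroDivisors (Localization.AtPrime q)) :
    ∃ b : A, b ∉ q ∧ algebraMap A (Localization.Away b) f ∈ nonZeroDivisors (Localization.Away b) := by
  classical
  let J : Ideal A := LinearMap.ker (LinearMap.mulRight A f)
  obtain ⟨S, hS⟩ := IsNoetherian.noetherian J
  have hkill : ∀ x ∈ J, ∃ s : A, s ∉ q ∧ s * x = 0 := by
    intro x hx
    have h0 : algebraMap A (Localization.AtPrime q) x = 0 := by
      refine (mul_right_mem_nonZeroDivisors_eq_zero_iff hf).mp ?_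
      rw [← map_mul, show x * f = 0 from hx, map_zero]
    obtain ⟨⟨s, hs⟩, h⟩ := (IsLocalization.map_eq_zero_iff q.primeCompl _ x).mp h0
    exact ⟨s, hs, h⟩
  have hS' : ∀ x ∈ S, x ∈ J := fun x hx => hS ▸ Submodule.subset_span hx
  choose s hsq hs using fun x : S => hkill x (hS' x x.2)
  refine ⟨∏ x, s x, fun h => ?_, ?_⟩
  · obtain ⟨x, -, hx⟩ := Ideal.IsPrime.prod_mem_iff.mp h
    exact hsq x hx
  set b := ∏ x, s x
  have hb : ∀ x ∈ J, b * x = 0 := by
    intro x hx
    rw [← hS] at hx
    refine Submodule.span_induction (fun y hy => ?_) (mul_zero _) (fun y z _ _ hy hz => by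
      rw [mul_add, hy, hz, add_zero]) (fun c y _ hy => by rw [smul_eq_mul, mul_left_comm, hy, mul_zero]) hx
    obtain ⟨d, hd⟩ := Finset.dvd_prod_of_mem s (Finset.mem_univ (⟨y, hy⟩ : S))
    rw [show b = s ⟨y, hy⟩ * d from hd, mul_right_comm, hs ⟨y, hy⟩, zero_mul]
  rw [mem_nonZeroDivisors_iff_right]
  intro z hz
  obtain ⟨x, ⟨_, n, rfl⟩, rfl⟩ := IsLocalization.exists_mk'_eq (Submonoid.powers b) z
  rw [← IsLocalization.mk'_one (M := Submonoid.powers b) (Localization.Away b) f,
    ← IsLocalization.mk'_mul, IsLocalization.mk'_eq_zero_iff] at hz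
  obtain ⟨⟨_, m, rfl⟩, hm⟩ := hz
  rw [IsLocalization.mk'_eq_zero_iff]
  refine ⟨⟨b ^ (m + 1), m + 1, rfl⟩, ?_⟩
  show b ^ (m + 1) * x = 0
  rw [pow_succ', mul_assoc]
  refine hb _ ?_
  show b ^ m * x * f = 0
  rw [mul_assoc]
  exact hm

end Groth.Agent.S18936
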