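import Groth.Statements.S18937
import Mathlib
import Groth.Agent.An92.Nrm.RegIdeal
import Mathlib

set_option autoImplicit false
set_option linter.style.haveILetI false
set_option linter.style.longLine false
universe u
open CategoryTheory AlgebraicGeometry
open RegImm

namespace Groth.Agent.S18937


set_option backward.isDefEq.respectTransparency.types false

theorem ker_app_basicOpen {R C : CommRingCat.{u}} (φ : R ⟶ C) (g : R) :
    RingHom.ker ((Spec.map φ).app (PrimeSpectrum.basicOpen g)).hom =
      (RingHom.ker φ.hom).map (algebraMap R Γ(Spec R, PrimeSpectrum.basicOpen g)) := by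
  letI := φ.hom.toAlgebra
  let D : (Spec R).Opens := PrimeSpectrum.basicOpen g
  have hM : (Submonoid.powers g).map φ.hom = Submonoid.powers (φ.hom g) := Submonoid.map_powers _ g
  have hy : Submonoid.powers g ≤ (Submonoid.powers (φ.hom g)).comap φ.hom := hM ▸ Submonoid.le_comap_map _
  haveI : IsLocalization.Away (φ.hom g) Γ(Spec C, (Spec.map φ) ⁻¹ᵁ D) :=
    inferInstanceAs (IsLocalization.Away (φ.hom g) Γ(Spec C, PrimeSpectrum.basicOpen (φ.hom g)))
  haveI : IsLocalization.Away g Γ(Spec R, D) :=
    inferInstanceAs (IsLocalization.Away g Γ(Spec R, PrimeSpectrum.basicOpen g))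
  have hmap : ((Spec.map φ).app D).hom = IsLocalization.map Γ(Spec C, (Spec.map φ) ⁻¹ᵁ D) φ.hom hy := by
    refine IsLocalization.ringHom_ext (Submonoid.powers g) ?_
    ext b
    simp only [RingHom.coe_comp, Function.comp_apply, IsLocalization.map_eq]
    have hn := ConcreteCategory.congr_hom ((Spec.map φ).naturality (homOfLE le_top : D ⟶ ⊤).op)
      ((Scheme.ΓSpecIso R).inv b)
    have hn2 := ConcreteCategory.congr_hom (Scheme.ΓSpecIso_inv_naturality φ) b
    simp only [CommRingCat.comp_apply] at hn hn2
    exact hn.trans (congrArg _ hn2.symm)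
  change RingHom.ker ((Spec.map φ).app D).hom = _
  rw [hmap, IsLocalization.ker_map _ φ.hom hM]

theorem weaklyRegular_ring_iff {T : Type u} [CommRing T] (L : List T) :
    RingTheory.Sequence.IsWeaklyRegular T L ↔
      ∀ i (hi : i < L.length), ∀ x, L[i] * x ∈ Ideal.ofList (L.take i) → x ∈ Ideal.ofList (L.take i) := by
  rw [RingTheory.Sequence.isWeaklyRegular_iff]
  refine forall₂_congr fun i hi => ?_
  rw [isSMulRegular_quotient_iff_mem_of_smul_mem]
  simp only [smul_eq_mul, Ideal.mul_top]

/-- A regular presentation of the principal localisation of a quotient. -/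
theorem exists_presentation {A : Type u} [CommRing A] {n : ℕ} (I : Ideal (MvPolynomial (Fin n) A))
    (h : MvPolynomial (Fin n) A) (S : Type u) [CommRing S] [Algebra (MvPolynomial (Fin n) A) S]
    [IsLocalization.Away h S] (rs : List S) (hreg : RingTheory.Sequence.IsWeaklyRegular S rs)
    (hker : I.map (algebraMap (MvPolynomial (Fin n) A) S) = Ideal.ofList rs)
    [Nontrivial (Localization.Away (Ideal.Quotient.mk I h))] :
    ∃ (d : ℕ) (P : Fin d → MvPolynomial (Fin (n + 1)) A),
      RingTheory.Sequence.IsRegular (MvPolynomial (Fin (n + 1)) A) (List.ofFn P) ∧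
      Nonempty (Localization.Away (Ideal.Quotient.mk I h) ≃ₐ[A]
        (MvPolynomial (Fin (n + 1)) A ⧸ Ideal.ofList (List.ofFn P))) := by
  let R := MvPolynomial (Fin n) A
  let T := MvPolynomial (Fin (n + 1)) A
  let E : T ≃ₐ[A] Polynomial R := MvPolynomial.finSuccEquiv A n
  let f : Polynomial R := Polynomial.C h * Polynomial.X - 1
  let e : AdjoinRoot f ≃ₐ[R] S :=
    (Localization.awayEquivAdjoin h).symm.trans (IsLocalization.algEquiv (Submonoid.powers h) _ _)
  let π : T →+* S := e.toRingEquiv.toRingHom.comp ((AdjoinRoot.mk f).comp E.toRingEquiv.toRingHom)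
  let a : T := E.symm f
  have hπs : Function.Surjective π :=
    e.surjective.comp (AdjoinRoot.mk_surjective.comp E.surjective)
  have hπk : ∀ x, π x = 0 ↔ x ∈ Ideal.span {a} := by
    intro x
    have h1 : π x = 0 ↔ f ∣ E x := by
      rw [← AdjoinRoot.mk_eq_zero]
      exact map_eq_zero_iff e e.injective
    rw [h1, Ideal.mem_span_singleton]
    constructor
    · intro hd
      have := map_dvd E.symm hd
      simpa [a] using this
    · intro hd
      have := map_dvd E hd
      simpa [a] using this
  have hnzd : ∀ x, a * x = 0 → x = 0 := by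
    intro x hx
    have h2 : f * E x = 0 := by
      have := congrArg E hx
      simpa [a] using this
    have h3 : ∀ j, (E x).coeff j = 0 := by
      intro j
      induction j with
      | zero =>
        have := congrArg (fun p => Polynomial.coeff p 0) h2
        simpa [f, sub_mul, mul_assoc, Polynomial.coeff_C_mul, Polynomial.mul_coeff_zero] using this
      | succ j ih =>
        have := congrArg (fun p => Polynomial.coeff p (j + 1)) h2
        simpa [f, sub_mul, mul_assoc, Polynomial.coeff_C_mul, Polynomial.coeff_X_mul, ih] using this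
    exact E.injective ((Polynomial.ext (by simpa using h3)).trans (map_zero E).symm)
  choose lift hlift using hπs
  let L : List T := a :: rs.map lift
  have hLmap : ∀ i, Ideal.ofList (L.take (i + 1)) = (Ideal.ofList (rs.take i)).comap π := by
    intro i
    rw [List.take_succ_cons, Ideal.ofList_cons, ← List.map_take]
    have hmap : (Ideal.ofList ((rs.take i).map lift)).map π = Ideal.ofList (rs.take i) := by
      rw [Ideal.map_ofList, List.map_map,
        show (⇑π ∘ lift) = id from funext hlift, List.map_id]
    rw [← hmap, Ideal.comap_map_of_surjective π (fun y => ⟨lift y, hlift y⟩), sup_comm]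
    congr 1
    ext x
    rw [← hπk x]
    exact Iff.rfl
  have hLreg : RingTheory.Sequence.IsWeaklyRegular T L := by
    rw [weaklyRegular_ring_iff]
    intro i hi x hx
    cases i with
    | zero =>
      simp only [L, List.take_zero, Ideal.ofList_nil, Ideal.mem_bot, List.getElem_cons_zero] at hx ⊢
      exact hnzd x hx
    | succ i =>
      rw [hLmap, Ideal.mem_comap] at hx ⊢
      have hi' : i < rs.length := by simpa [L] using hi
      refine (weaklyRegular_ring_iff rs).1 hreg i hi' _ ?_
      have : π L[i + 1] = rs[i] := by simp [L, hlift]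
      rwa [map_mul, this] at hx
  let g : R ⧸ I := Ideal.Quotient.mk I h
  have hM : (Submonoid.powers h).map (Ideal.Quotient.mk I) = Submonoid.powers g :=
    Submonoid.map_powers _ h
  have hy : Submonoid.powers h ≤ (Submonoid.powers g).comap (Ideal.Quotient.mk I) :=
    hM ▸ Submonoid.le_comap_map _
  let ψ : S →+* Localization.Away g := IsLocalization.map (Localization.Away g) (Ideal.Quotient.mk I) hy
  haveI : IsLocalization ((Submonoid.powers h).map (Ideal.Quotient.mk I)) (Localization.Away g) := by
    rw [hM]; infer_instance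
  have hψs : Function.Surjective ψ :=
    IsLocalization.map_surjective_of_surjective (M := Submonoid.powers h) (S := S)
      (Q := Localization.Away g) (g := Ideal.Quotient.mk I) Ideal.Quotient.mk_surjective
  have hψk : RingHom.ker ψ = Ideal.ofList rs := by
    rw [show RingHom.ker ψ = (RingHom.ker (Ideal.Quotient.mk I)).map (algebraMap R S) from
      IsLocalization.ker_map _ _ hM, Ideal.mk_ker, hker]
  have hC : ∀ r : A, E (algebraMap A T r) = Polynomial.C (MvPolynomial.C r) := fun r => by
    rw [AlgEquiv.commutes]; rfl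
  let Φ : T →ₐ[A] Localization.Away g :=
    { ψ.comp π with
      commutes' := fun r => by
        change ψ (e (AdjoinRoot.mk f (E (algebraMap A T r)))) = _
        rw [hC, AdjoinRoot.mk_C, ← AdjoinRoot.algebraMap_eq, AlgEquiv.commutes, IsLocalization.map_eq]
        rfl }
  have hΦs : Function.Surjective Φ := hψs.comp (fun y => ⟨lift y, hlift y⟩)
  have hΦk : RingHom.ker Φ = Ideal.ofList L := by
    have h5 := hLmap rs.length
    rw [List.take_of_length_le (le_refl rs.length),
      List.take_of_length_le (by simp [L])] at h5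
    rw [h5, ← hψk, RingHom.comap_ker]
    rfl
  have hne : (⊤ : Submodule T T) ≠ Ideal.ofList L • ⊤ := by
    intro h0
    have h1 : (1 : T) ∈ RingHom.ker Φ := by
      rw [hΦk]
      have h2 : (1 : T) ∈ Ideal.ofList L • (⊤ : Ideal T) := h0 ▸ Submodule.mem_top
      rwa [Ideal.smul_eq_mul, Ideal.mul_top] at h2
    exact one_ne_zero ((map_one Φ).symm.trans h1)
  refine ⟨L.length, fun i => L.get i, ?_, ?_⟩
  · rw [List.ofFn_get]
    exact ⟨hLreg, hne⟩
  · rw [List.ofFn_get]
    exact ⟨((Ideal.quotientEquivAlgOfEq A hΦk.symm).trans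
      (Ideal.quotientKerAlgEquivOfSurjective hΦs)).symm⟩

/-- A regular sequence generating the ideal on a principal open around a point. -/
theorem exists_local_sequence {R C : CommRingCat.{u}} (φ : R ⟶ C) (hφ : Function.Surjective φ)
    (h : RegImm.IsRegularImmersion RegImm.Kind.regular (Spec.map φ)) (q : PrimeSpectrum C) :
    ∃ hh : R, φ.hom hh ∉ q.asIdeal ∧ ∃ rs : List (Localization.Away hh),
      RingTheory.Sequence.IsWeaklyRegular (Localization.Away hh) rs ∧
      (RingHom.ker φ.hom).map (algebraMap R (Localization.Away hh)) = Ideal.ofList rs := by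
  obtain ⟨U, hqU, hcl, rs, hrs, hker⟩ := h.2 q
  have : IsClosedImmersion (Spec.map φ) := IsClosedImmersion.spec_of_surjective φ hφ
  obtain ⟨f, g', hfg, hqf⟩ := exists_basicOpen_le_affine_inter U.2 (isAffineOpen_top (Spec R))
    ((Spec.map φ) q) ⟨hqU, trivial⟩
  let hh : R := (Scheme.ΓSpecIso R).hom g'
  have hD : (Spec R).basicOpen f = PrimeSpectrum.basicOpen hh := by
    rw [hfg, basicOpen_eq_of_affine']
  have hkf := Groth.Agent.An92.Nrm.ker_app_basicOpen (Spec.map φ) U (U.2.preimage _) f
  letI := ((Spec R).presheaf.map (homOfLE ((Spec R).basicOpen_le f)).op).hom.toAlgebra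
  haveI := U.2.isLocalization_basicOpen f
  have key : ∃ l : List Γ(Spec R, (Spec R).basicOpen f), RingTheory.Sequence.IsWeaklyRegular _ l ∧
      RingHom.ker ((Spec.map φ).app ((Spec R).basicOpen f)).hom = Ideal.ofList l :=
    ⟨rs.map (algebraMap _ _), hrs.toIsWeaklyRegular.of_isLocalization _ (Submonoid.powers f), by
      rw [hkf, hker, Ideal.map_ofList]; rfl⟩
  rw [hD] at key
  obtain ⟨l, hl, hlk⟩ := key
  rw [ker_app_basicOpen φ hh] at hlk
  have hq : φ.hom hh ∉ q.asIdeal := by
    have h' : (Spec.map φ) q ∈ (PrimeSpectrum.basicOpen hh : (Spec R).Opens) := hD ▸ hqf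
    exact h'
  haveI : IsLocalization.Away hh Γ(Spec R, PrimeSpectrum.basicOpen hh) :=
    inferInstanceAs (IsLocalization.Away hh Γ(Spec R, PrimeSpectrum.basicOpen hh))
  let E : Γ(Spec R, PrimeSpectrum.basicOpen hh) ≃ₐ[R] Localization.Away hh :=
    IsLocalization.algEquiv (Submonoid.powers hh) _ _
  refine ⟨hh, hq, l.map E, ?_, ?_⟩
  · refine (E.toRingEquiv.toAddEquiv.isWeaklyRegular_congr (as := l) (bs := l.map E) ?_).1 hl
    exact List.forall₂_map_right_iff.mpr (List.forall₂_same.mpr fun r _ x => map_mul E r x)
  · have := congrArg (Ideal.map E.toRingEquiv.toRingHom) hlk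
    rw [Ideal.map_map, Ideal.map_ofList] at this
    rw [show algebraMap R (Localization.Away hh) = E.toRingEquiv.toRingHom.comp
      (algebraMap R Γ(Spec R, PrimeSpectrum.basicOpen hh)) from RingHom.ext fun x => (E.commutes x).symm]
    exact this

/-- Let A be a Noetherian commutative ring, n a natural number, I an ideal of the polynomial ring A[X_1,
…, X_n] and B = A[X_1, …, X_n]/I, and assume that the closed immersion Spec B → Spec A[X_1, …, X_n]
is a regular immersion (kind: successive non-zero-divisors). Then Spec B is covered by basic opens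
D(g) with B[1/g] isomorphic, as an A-algebra, to a quotient A[X_0, …, X_n]/(P_1, …, P_d) of the
polynomial ring in one more variable by a regular sequence P_1, …, P_d. -/
theorem result
    (A : Type u) [CommRing A] [IsNoetherianRing A] (n : ℕ) (I : Ideal (MvPolynomial (Fin n) A))
    (h : RegImm.IsRegularImmersion RegImm.Kind.regular
      (Spec.map (CommRingCat.ofHom (Ideal.Quotient.mk I))))
    (q : PrimeSpectrum (MvPolynomial (Fin n) A ⧸ I)) :
    ∃ g : MvPolynomial (Fin n) A ⧸ I, g ∉ q.asIdeal ∧
      ∃ (d : ℕ) (P : Fin d → MvPolynomial (Fin (n + 1)) A),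
        RingTheory.Sequence.IsRegular (MvPolynomial (Fin (n + 1)) A) (List.ofFn P) ∧
        Nonempty (Localization.Away g ≃ₐ[A] (MvPolynomial (Fin (n + 1)) A ⧸ Ideal.ofList (List.ofFn P))) := by
  obtain ⟨hh, hq, rs, hrs, hk⟩ := exists_local_sequence
    (CommRingCat.ofHom (Ideal.Quotient.mk I)) Ideal.Quotient.mk_surjective h q
  rw [show RingHom.ker (CommRingCat.ofHom (Ideal.Quotient.mk I)).hom = I from Ideal.mk_ker] at hk
  have hq' : Ideal.Quotient.mk I hh ∉ q.asIdeal := hq
  haveI : Nontrivial (Localization.Away (Ideal.Quotient.mk I hh)) := by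
    rw [← not_subsingleton_iff_nontrivial]
    intro h0
    obtain ⟨N, hN⟩ := (IsLocalization.subsingleton_iff (M := Submonoid.powers (Ideal.Quotient.mk I hh))
      (S := Localization.Away (Ideal.Quotient.mk I hh))).1 h0
    exact hq' (q.2.mem_of_pow_mem N (by simp only at hN; rw [hN]; exact q.asIdeal.zero_mem))
  obtain ⟨d, P, hP⟩ := exists_presentation I hh (Localization.Away hh) rs hrs hk
  exact ⟨_, hq', d, P, hP⟩

end Groth.Agent.S18937
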