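import Groth.Statements.S9170
import Groth.Agent.RelGCI94.Koszul

set_option autoImplicit false
universe u
open Synt

namespace Groth.Agent.S9170

/-- For a relative global complete intersection S = R[x_1, …, x_n]/(f_1, …, f_c) over a ring R and a
prime q' of the polynomial ring containing the ideal (f_1, …, f_c): (1) f_1, …, f_c is a regular
sequence in the localization R[x]_{q'} (a local ring); (2) every quotient R[x]_{q'}/(f_1, …, f_i) is
flat over R; (3) the conormal module (f)/(f)² is free over S with basis the classes of the f_i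
(stated as: these classes are linearly independent over S and span). -/
theorem result (R : Type u) [CommRing R] (n c : ℕ)
    (F : Fin c → MvPolynomial (Fin n) R) (h : Synt.IsRelGCI R n c F)
    (q' : Ideal (MvPolynomial (Fin n) R)) [q'.IsPrime] (hq' : Ideal.span (Set.range F) ≤ q') :
    RingTheory.Sequence.IsRegular (Localization.AtPrime q')
        ((List.ofFn F).map (algebraMap (MvPolynomial (Fin n) R) (Localization.AtPrime q'))) ∧
      (∀ i ≤ c, Module.Flat R (Localization.AtPrime q' ⧸ Ideal.ofList
        (((List.ofFn F).take i).map (algebraMap (MvPolynomial (Fin n) R) (Localization.AtPrime q'))))) ∧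
      LinearIndependent (Synt.RelGCIRing R n c F)
        (fun i : Fin c => (Ideal.span (Set.range F)).toCotangent ⟨F i, Ideal.subset_span (Set.mem_range_self i)⟩) ∧
      Submodule.span (Synt.RelGCIRing R n c F) (Set.range
        (fun i : Fin c => (Ideal.span (Set.range F)).toCotangent ⟨F i, Ideal.subset_span (Set.mem_range_self i)⟩)) = ⊤ := by
  have hQ : ∀ i, F i ∈ q' := fun i => hq' (Ideal.subset_span (Set.mem_range_self i))
  obtain ⟨b, hb⟩ := RelGCI94.exists_basis_cotangent R n c F h
  have hb' : (b : Fin c → _) = fun i : Fin c => (Ideal.span (Set.range F)).toCotangent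
      ⟨F i, Ideal.subset_span (Set.mem_range_self i)⟩ := funext hb
  refine ⟨⟨?_, ?_⟩, fun i hi => RelGCI94.flat_quotient_take R n c F h q' hQ i hi, hb' ▸ b.linearIndependent,
    hb' ▸ b.span_eq⟩
  · rw [List.map_ofFn]
    exact RelGCI94.isWeaklyRegular_atPrime R n c F h q' hQ
  · rw [Ideal.smul_eq_mul, Ideal.mul_top]
    refine (ne_of_lt (lt_of_le_of_lt (Ideal.span_le.2 ?_) (IsLocalRing.maximalIdeal.isMaximal
      (Localization.AtPrime q')).ne_top.lt_top)).symm
    intro x hx
    obtain ⟨y, hy, rfl⟩ := List.mem_map.1 hx
    obtain ⟨i, rfl⟩ := List.mem_ofFn.1 hy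
    exact (IsLocalization.AtPrime.to_map_mem_maximal_iff (Localization.AtPrime q') q' _).2 (hQ i)

end Groth.Agent.S9170
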