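import Groth.Statements.S18938
import Groth.Agent.S18937
import Groth.Agent.S9169
import Groth.Agent.S9170
import Groth.Agent.An92.Nrm.QuasiRegular
import Groth.Agent.RelGCI94.CI
import Groth.Agent.RelGCI94.SmoothSyn

set_option autoImplicit false
universe u
open Synt

namespace Groth.Agent.S18938

theorem exists_regular_nhd {A : Type u} [CommRing A] [IsNoetherianRing A] (p : Ideal A) [p.IsPrime] (rs : List A)
    (h : RingTheory.Sequence.IsWeaklyRegular (Localization.AtPrime p) (rs.map (algebraMap A (Localization.AtPrime p)))) :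
    ∃ g, g ∉ p ∧ RingTheory.Sequence.IsWeaklyRegular (Localization.Away g)
      (rs.map (algebraMap A (Localization.Away g))) := by
  rw [RingTheory.Sequence.isWeaklyRegular_map_algebraMap_iff] at h
  have e : LocalizedModule p.primeCompl A ≃ₗ[A] Localization.AtPrime p :=
    IsLocalizedModule.iso p.primeCompl (Algebra.linearMap A (Localization.AtPrime p))
  obtain ⟨g, hg, hW⟩ := Groth.Agent.An92.Nrm.exists_W p rs A ((e.isWeaklyRegular_congr rs).2 h)
  refine ⟨g, hg, ?_⟩
  have h1 := Groth.Agent.Ega11.RegSeqSk.W.isWeaklyRegular rs A hW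
  rw [RingTheory.Sequence.isWeaklyRegular_map_algebraMap_iff] at h1 ⊢
  have e' : LocalizedModule (Submonoid.powers g) A ≃ₗ[A] Localization.Away g :=
    IsLocalizedModule.iso (Submonoid.powers g) (Algebra.linearMap A (Localization.Away g))
  exact (e'.isWeaklyRegular_congr rs).1 h1

theorem exists_away_away {A B : Type u} [CommRing A] [CommRing B] [Algebra A B] (q : Ideal B) [q.IsPrime] (g : B)
    (hg : g ∉ q) (Q : Ideal (Localization.Away g)) [Q.IsPrime] (hQ : Q.comap (algebraMap B (Localization.Away g)) = q)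
    (a : Localization.Away g) (ha : a ∉ Q) :
    ∃ g' : B, g' ∉ q ∧ Nonempty (Localization.Away g' ≃ₐ[A] Localization.Away a) := by
  obtain ⟨⟨b, ⟨_, m, rfl⟩⟩, hb⟩ := IsLocalization.surj (Submonoid.powers g) a
  dsimp only at hb
  have hu : IsUnit (algebraMap B (Localization.Away g) (g ^ m)) :=
    IsLocalization.map_units (Localization.Away g) (⟨g ^ m, m, rfl⟩ : Submonoid.powers g)
  have hass : Associated a (algebraMap B (Localization.Away g) b) := ⟨hu.unit, hb⟩
  have hbq : b ∉ q := by
    rw [← hQ, Ideal.mem_comap, ← hb]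
    exact fun h => ((Ideal.IsPrime.mem_or_mem ‹_› h).resolve_left ha |> fun h' =>
      Ideal.IsPrime.ne_top ‹Q.IsPrime› (Ideal.eq_top_of_isUnit_mem _ h' hu))
  haveI : IsLocalization.Away (algebraMap B (Localization.Away g) b) (Localization.Away a) :=
    IsLocalization.Away.of_associated hass
  haveI : IsLocalization.Away (b * g) (Localization.Away a) :=
    IsLocalization.Away.mul (Localization.Away g) _ g b
  exact ⟨b * g, fun h => (Ideal.IsPrime.mem_or_mem ‹_› h).elim hbq hg,
    ⟨(IsLocalization.algEquiv (Submonoid.powers (b * g)) _ _).restrictScalars A⟩⟩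

/-- Let A be a Noetherian commutative ring and B a syntomic A-algebra. Then Spec B is covered by basic
opens D(g) with B[1/g] isomorphic, as an A-algebra, to A[T_1, …, T_n]/(P_1, …, P_d) for a regular
sequence P_1, …, P_d (successive non-zero-divisors with nonzero last quotient) in the polynomial
ring A[T_1, …, T_n]. (The source states this for a syntomic scheme over Spec A, syntomic meaning
flat, locally of finite presentation and locally a Koszul-regular immersion into a smooth scheme;
here syntomic is the ring-map notion with local complete intersection fibres, which agrees with it.) -/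
theorem result
    (A : Type u) [CommRing A] [IsNoetherianRing A] (B : Type u) [CommRing B] [Algebra A B]
    (h : Synt.IsSyntomic A B) (q : PrimeSpectrum B) :
    ∃ g : B, g ∉ q.asIdeal ∧
      ∃ (n d : ℕ) (P : Fin d → MvPolynomial (Fin n) A),
        RingTheory.Sequence.IsRegular (MvPolynomial (Fin n) A) (List.ofFn P) ∧
        Nonempty (Localization.Away g ≃ₐ[A] (MvPolynomial (Fin n) A ⧸ Ideal.ofList (List.ofFn P))) := by
  have h1 : Synt.IsSyntomic A (Localization.Away (1 : B)) :=
    Groth.Agent.RelGCI94.isSyntomic_congr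
      ((IsLocalization.atOne B (Localization.Away (1 : B))).restrictScalars A) h
  let p := q.asIdeal.under A
  haveI : q.asIdeal.LiesOver p := ⟨rfl⟩
  obtain ⟨Q, hQ, hQq⟩ := Groth.Agent.CAlg1.exists_fibre_prime (R := A) q.asIdeal
  haveI : Q.IsPrime := hQ
  obtain ⟨g, hg, n, c, F, hF, ⟨e⟩⟩ := (Groth.Agent.S9169.result A B p q.asIdeal Q hQq).1.1
    ⟨1, fun h0 => q.2.ne_top ((Ideal.eq_top_iff_one _).2 h0), h1⟩
  let Bg := Localization.Away g
  let Qg : Ideal Bg := q.asIdeal.map (algebraMap B Bg)
  have hd : Disjoint (Submonoid.powers g : Set B) q.asIdeal :=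
    Set.disjoint_left.2 fun z ⟨m, hm⟩ hz => hg (q.2.mem_of_pow_mem m ((show g ^ m = z from hm).symm ▸ hz))
  haveI : Qg.IsPrime := IsLocalization.isPrime_of_isPrime_disjoint (Submonoid.powers g) Bg q.asIdeal q.2 hd
  have hQg : Qg.comap (algebraMap B Bg) = q.asIdeal :=
    IsLocalization.comap_map_of_isPrime_disjoint (Submonoid.powers g) Bg q.2 hd
  let q' : Ideal (MvPolynomial (Fin n) A) :=
    Qg.comap (e.symm.toRingHom.comp (Ideal.Quotient.mk (Ideal.span (Set.range F))))
  haveI : q'.IsPrime := Ideal.IsPrime.comap _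
  have hle : Ideal.span (Set.range F) ≤ q' := fun x hx => by
    change e.symm (Ideal.Quotient.mk _ x) ∈ Qg
    rw [Ideal.Quotient.eq_zero_iff_mem.2 hx, map_zero]
    exact zero_mem _
  obtain ⟨hh, hhq, hreg⟩ := exists_regular_nhd q' (List.ofFn F)
    (Groth.Agent.S9170.result A n c F hF q' hle).1.toIsWeaklyRegular
  let a : Bg := e.symm (Ideal.Quotient.mk _ hh)
  have ha : a ∉ Qg := hhq
  obtain ⟨g', hg', ⟨e1⟩⟩ := exists_away_away (A := A) q.asIdeal g hg Qg hQg a ha
  let e2 : Localization.Away a ≃ₐ[A]
      Localization.Away (Ideal.Quotient.mk (Ideal.span (Set.range F)) hh) :=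
    (Groth.Agent.RelGCI94.awayCongr e.symm (Ideal.Quotient.mk (Ideal.span (Set.range F)) hh)).symm
  haveI : Nontrivial (Localization.Away (Ideal.Quotient.mk (Ideal.span (Set.range F)) hh)) := by
    haveI : Nontrivial (Localization.Away a) :=
      not_subsingleton_iff_nontrivial.1 fun hsub => by
        obtain ⟨m, hm⟩ := (IsLocalization.subsingleton_iff (M := Submonoid.powers a) (S := Localization.Away a)).1 hsub
        exact ha (Ideal.IsPrime.mem_of_pow_mem ‹Qg.IsPrime› m ((show a ^ m = 0 from hm).symm ▸ Qg.zero_mem))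
    exact e2.symm.toEquiv.nontrivial
  obtain ⟨d, P, hP, ⟨e3⟩⟩ := Groth.Agent.S18937.exists_presentation (Ideal.span (Set.range F)) hh
    (Localization.Away hh) _ hreg (by
      rw [Ideal.ofList, Ideal.map_span]
      congr 1
      ext x
      simp [Set.mem_range, eq_comm])
  exact ⟨g', hg', n + 1, d, P, hP, ⟨(e1.trans e2).trans e3⟩⟩

end Groth.Agent.S18938
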