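import Groth.Statements.S1894
import Groth.Agent.Grpd80.Basic
import Groth.Agent.SchBasics.Closure
import Mathlib.AlgebraicGeometry.IdealSheaf.Functorial
import Mathlib.AlgebraicGeometry.Morphisms.UniversallyOpen

set_option autoImplicit false
universe u
open CategoryTheory CategoryTheory.Limits AlgebraicGeometry
open Grpd

namespace Groth.Agent.S1894

/-- Let (U, R, s, t, c) be a groupoid scheme over S with s, t quasi-compact and flat and U
quasi-separated, and W ⊆ U a quasi-compact open. Then there are an R-invariant open V (s⁻¹V = t⁻¹V)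
and a quasi-compact open W' with W ⊆ V ⊆ W'. (A groupoid scheme carries U, R, s, t, c, e, i over S
with the groupoid axioms on T-points; 'finite locally free' is finite, flat and locally of finite
presentation; C ⊂ Γ(U) is the ring of functions a with s♯(a) = t♯(a) and M = Spec C.) -/
theorem result (S : Scheme.{u}) (G : Grpd.GroupoidScheme S) [QuasiCompact G.s] [Flat G.s] [QuasiCompact G.t] [Flat G.t] [QuasiSeparatedSpace G.U] (W : G.U.Opens) (hW : IsCompact (W : Set G.U)) : ∃ V W' : G.U.Opens, G.s ⁻¹ᵁ V = G.t ⁻¹ᵁ V ∧ IsCompact (W' : Set G.U) ∧ W ≤ V ∧ V ≤ W' := by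
  classical
  let T : Set G.U := ⇑G.t '' (⇑G.s ⁻¹' (W : Set G.U))
  have hTc : IsCompact T := (G.s.isCompact_preimage (U := W) hW).image G.t.continuous
  obtain ⟨W', hW'c, hTW'⟩ : ∃ W' : G.U.Opens, IsCompact (W' : Set G.U) ∧ T ⊆ W' := by
    have : ∀ y : T, ∃ O : G.U.Opens, (y : G.U) ∈ O ∧ IsCompact (O : Set G.U) := fun y => by
      obtain ⟨O, hO, hyO, -⟩ := exists_isAffineOpen_mem_and_subset (U := (⊤ : G.U.Opens)) (x := (y : G.U)) trivial
      exact ⟨O, hyO, hO.isCompact⟩
    choose O hO using this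
    obtain ⟨F, hF⟩ := hTc.elim_finite_subcover (fun y : T => (O y : Set G.U)) (fun y => (O y).2)
      (fun y hy => Set.mem_iUnion.mpr ⟨⟨y, hy⟩, (hO ⟨y, hy⟩).1⟩)
    exact ⟨⟨⋃ y ∈ F, (O y : Set G.U), isOpen_biUnion fun y _ => (O y).2⟩,
      F.isCompact_biUnion fun y _ => (hO y).2, hF⟩
  let Z : TopologicalSpace.Closeds G.U := ⟨_, W'.2.isClosed_compl⟩
  let E : Set G.U := ⇑G.t '' (⇑G.s ⁻¹' (Z : Set G.U))
  let ι := (Scheme.IdealSheafData.vanishingIdeal Z).subschemeι
  let f := pullback.fst G.s ι ≫ G.t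
  have hf : Set.range ⇑f = E := by
    rw [Scheme.Hom.comp_base, TopCat.coe_comp, Set.range_comp, Scheme.Pullback.range_fst,
      Scheme.IdealSheafData.range_subschemeι, Scheme.IdealSheafData.coe_support_vanishingIdeal]
  have spec : ∀ u ∈ closure E, ∃ e ∈ E, e ⤳ u := by
    intro u hu
    rw [← hf] at hu ⊢
    obtain ⟨x, hx⟩ := SchBasics.exists_specializes_of_mem_closure_range f hu
    exact ⟨f x, ⟨x, rfl⟩, hx⟩
  have hinv : ⇑G.s ⁻¹' E = ⇑G.t ⁻¹' E := Grpd80.saturation_invariant G Z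
  have key : ∀ r : G.R, G.s r ∈ closure E → G.t r ∈ closure E := by
    intro r hr
    obtain ⟨e, he, hsp⟩ := spec _ hr
    obtain ⟨r', hr', rfl⟩ := Flat.generalizingMap G.s hsp
    exact (hr'.map G.t.continuous).mem_closed isClosed_closure (subset_closure ((Set.ext_iff.mp hinv r').mp he))
  refine ⟨⟨_, (isClosed_closure (s := E)).isOpen_compl⟩, W', ?_, hW'c, ?_, ?_⟩
  · ext r
    show G.s r ∉ closure E ↔ G.t r ∉ closure E
    refine not_congr ⟨key r, fun h => ?_⟩
    obtain ⟨c, hc1, hc2⟩ := Grpd80.exists_inv G r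
    rw [← hc2]
    exact key c (hc1.symm ▸ h)
  · intro w hw hcl
    obtain ⟨e, hew, r, hr, rfl⟩ : ∃ e, e ∈ (W : Set G.U) ∧ e ∈ E :=
      (mem_closure_iff.mp hcl _ W.2 hw)
    obtain ⟨c, hc1, hc2⟩ := Grpd80.exists_inv G r
    exact hr (hTW' ⟨c, by simp only [Set.mem_preimage, hc1]; exact hew, hc2⟩)
  · intro v hv
    by_contra h
    exact hv (subset_closure (Grpd80.subset_saturation G _ h))

end Groth.Agent.S1894
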