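import Groth.Statements.S18940
import Groth.Agent.Topos46.Quot
-- import your own Groth.Agent.* helpers here

set_option autoImplicit false
universe w v u
open CategoryTheory
open ShfCat

namespace Groth.Agent.S18940

open Groth.Agent.Topos46

/-- Let (C, J) be a site and f : F → G a morphism of sheaves of sets on it which is locally surjective
(every section of G is, after passing to a covering, in the image of f). Then for every morphism of
sheaves g : H → G the base change F ×_G H → H of f is again locally surjective. -/
theorem result {C : Type u} [Category.{v} C]
    (J : GrothendieckTopology C) {F G H : Sheaf J (Type w)} (f : F ⟶ G) (g : H ⟶ G)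
    [Sheaf.IsLocallySurjective f] :
    Sheaf.IsLocallySurjective (Limits.pullback.snd f g) := by
  refine ⟨fun {U} s => J.superset_covering ?_
    (Presheaf.imageSieve_mem J f.hom (g.hom.app _ s))⟩
  rintro V k ⟨t, ht⟩
  obtain ⟨x, -, hx⟩ := exists_section_of_isPullback (CategoryTheory.IsPullback.of_hasPullback f g) t
    (H.obj.map k.op s) (by rw [g.hom.naturality_apply]; exact ht)
  exact ⟨x, hx⟩

end Groth.Agent.S18940
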