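import Groth.Statements.S18942
import Groth.Agent.DPow29.Theta

set_option autoImplicit false
universe u
open DPow

namespace Groth.Agent.S18942

/-- Let p be a prime, k a perfect field of characteristic p, n a natural number and x an element of
W_n(k), written here as the truncation of a Witt vector x over k. For any Witt vectors y_0, …,
y_{n−1} over k lifting the components of x under the map y ↦ (y_0)^(p^n) (that is, (y_i)_0^(p^n) =
x_i), one has x = Σ_{i<n} p^i y_i^(p^(n−i)) in W_n(k). -/
theorem result (p : ℕ) [Fact p.Prime]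
    (k : Type u) [Field k] [CharP k p] [PerfectRing k p] (n : ℕ) (x : WittVector p k)
    (y : Fin n → WittVector p k) (hy : ∀ i : Fin n, ((y i).coeff 0) ^ (p ^ n) = x.coeff i) :
    WittVector.truncate n x =
      WittVector.truncate n (∑ i : Fin n, (p : WittVector p k) ^ (i : ℕ) * (y i) ^ (p ^ (n - i))) := by
  rcases Nat.eq_zero_or_pos n with rfl | hn
  · ext i; exact i.elim0
  have hp : p.Prime := Fact.out
  have hpn : ∀ z : WittVector p k, WittVector.truncate n ((p : WittVector p k) ^ n * z) = 0 := by
    intro z
    have h : WittVector.truncate n ((p : WittVector p k) ^ n) = 0 := by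
      rw [← RingHom.mem_ker, WittVector.mem_ker_truncate]
      exact fun i hi => WittVector.coeff_p_pow_eq_zero _ _ hi.ne
    rw [map_mul, h, zero_mul]
  obtain ⟨q, hq⟩ := WittVector.dvd_sub_sum_teichmuller_iterateFrobeniusEquiv_coeff x (n - 1)
  rw [Nat.sub_add_cancel hn, sub_eq_iff_eq_add] at hq
  have key : ∀ i : Fin n, (p : WittVector p k) ^ n ∣ (p : WittVector p k) ^ (i : ℕ) * (y i) ^ (p ^ (n - i)) -
      WittVector.teichmuller p (((frobeniusEquiv k p).symm ^ (i : ℕ)) (x.coeff i)) *
        (p : WittVector p k) ^ (i : ℕ) := by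
    intro i
    have hz : ((frobeniusEquiv k p).symm ^ (i : ℕ)) (x.coeff i) = ((y i).coeff 0) ^ p ^ (n - i) := by
      have e1 : ((frobeniusEquiv k p) ^ (i : ℕ)) (((y i).coeff 0) ^ p ^ (n - i)) = x.coeff i := by
        have : ∀ (m : ℕ) (z : k), ((frobeniusEquiv k p) ^ m) z = z ^ p ^ m := by
          intro m
          induction m with
          | zero => simp
          | succ m ih =>
            intro z
            rw [pow_succ, RingAut.mul_apply, ih, frobeniusEquiv_apply, frobenius_def, ← pow_mul,
              ← pow_succ']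
        rw [this, ← pow_mul, ← pow_add, Nat.sub_add_cancel i.2.le, hy]
      rw [← e1, ← RingAut.mul_apply, ← (Commute.mul_pow ?_ _)]
      · rw [show (frobeniusEquiv k p).symm * frobeniusEquiv k p = 1 from inv_mul_cancel _, one_pow]
        rfl
      · exact (Commute.refl (frobeniusEquiv k p)).inv_left
    obtain ⟨w, hw⟩ := WittVector.dvd_sub_sum_teichmuller_iterateFrobeniusEquiv_coeff (y i) 0
    have h0 : (p : WittVector p k) ∣ y i - WittVector.teichmuller p ((y i).coeff 0) := by
      refine ⟨w, ?_⟩
      rw [show Finset.Iic (0 : ℕ) = {0} from rfl, Finset.sum_singleton] at hw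
      simpa using hw
    obtain ⟨v, hv⟩ := dvd_sub_pow_of_dvd_sub h0 (n - i)
    refine ⟨(p : WittVector p k) * v, ?_⟩
    rw [hz, map_pow, mul_comm _ ((p : WittVector p k) ^ (i : ℕ)), ← mul_sub, hv, pow_succ,
      ← mul_assoc, ← mul_assoc, ← pow_add, Nat.add_sub_cancel' i.2.le, mul_assoc]
  choose v hv using key
  conv_lhs => rw [hq, map_add, hpn, zero_add]
  have hI : Finset.Iic (n - 1) = Finset.range n := by
    ext; simp only [Finset.mem_Iic, Finset.mem_range]; omega
  rw [hI, ← Fin.sum_univ_eq_sum_range (fun i => WittVector.teichmuller p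
      (((frobeniusEquiv k p).symm ^ i) (x.coeff i)) * (p : WittVector p k) ^ i),
    map_sum, map_sum]
  refine Finset.sum_congr rfl fun i _ => ?_
  rw [eq_comm, ← sub_eq_zero, ← map_sub, hv i, hpn]

end Groth.Agent.S18942
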