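import Groth.Statements.S18943
import Mathlib.Analysis.Calculus.ParametricIntervalIntegral
import Mathlib.MeasureTheory.Integral.IntervalIntegral.FundThmCalculus
import Mathlib.Analysis.Calculus.IteratedDeriv.Lemmas
import Mathlib.Tactic

set_option autoImplicit false
open scoped ContDiff
open CInfGerm

namespace Groth.Agent.S18943

noncomputable def G (f : ℝ → ℝ) (k : ℕ) (x : ℝ) : ℝ :=
  ∫ t in (0 : ℝ)..1, t ^ k * iteratedDeriv (k + 1) f (t * x)

theorem hasDerivAt_G {f : ℝ → ℝ} (hf : ContDiff ℝ ∞ f) (k : ℕ) (x : ℝ) :
    HasDerivAt (G f k) (G f (k + 1) x) x := by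
  have hc : ∀ m : ℕ, Continuous (iteratedDeriv m f) := fun m =>
    hf.continuous_iteratedDeriv m (by exact_mod_cast le_top)
  have hd : ∀ (m : ℕ) (y : ℝ), HasDerivAt (iteratedDeriv m f) (iteratedDeriv (m + 1) f y) y := fun m y => by
    rw [iteratedDeriv_succ]
    exact ((hf.differentiable_iteratedDeriv m (by exact_mod_cast ENat.coe_lt_top m)) y).hasDerivAt
  have hcont : Continuous fun p : ℝ × ℝ => p.2 ^ (k + 1) * iteratedDeriv (k + 2) f (p.2 * p.1) :=
    (continuous_snd.pow _).mul ((hc _).comp (continuous_snd.mul continuous_fst))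
  obtain ⟨B, hB⟩ := (isCompact_Icc.prod isCompact_Icc).exists_bound_of_continuousOn
    (f := fun p : ℝ × ℝ => p.2 ^ (k + 1) * iteratedDeriv (k + 2) f (p.2 * p.1))
    (s := Set.Icc (x - 1) (x + 1) ×ˢ Set.Icc (0 : ℝ) 1) hcont.continuousOn
  refine (intervalIntegral.hasDerivAt_integral_of_dominated_loc_of_deriv_le
    (F := fun y t => t ^ k * iteratedDeriv (k + 1) f (t * y))
    (F' := fun y t => t ^ (k + 1) * iteratedDeriv (k + 2) f (t * y)) (bound := fun _ => B)
    (Icc_mem_nhds (a := x - 1) (b := x + 1) (by linarith) (by linarith)) ?_ ?_ ?_ ?_ intervalIntegrable_const ?_).2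
  · exact Filter.Eventually.of_forall fun y =>
      ((continuous_id.pow k).mul ((hc _).comp (continuous_id.mul continuous_const))).aestronglyMeasurable
  · exact ((continuous_id.pow k).mul ((hc _).comp (continuous_id.mul continuous_const))).intervalIntegrable _ _
  · exact ((continuous_id.pow (k + 1)).mul
      ((hc _).comp (continuous_id.mul continuous_const))).aestronglyMeasurable
  · refine Filter.Eventually.of_forall fun t ht y hy => hB (y, t) ⟨hy, ?_⟩
    rw [Set.uIoc_of_le zero_le_one] at ht
    exact Set.Ioc_subset_Icc_self ht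
  · refine Filter.Eventually.of_forall fun t _ y _ => ?_
    have h := ((hd (k + 1) (t * y)).comp y ((hasDerivAt_id y).const_mul t)).const_mul (t ^ k)
    refine h.congr_deriv ?_
    simp only [id_eq, mul_one]
    ring

theorem contDiff_G {f : ℝ → ℝ} (hf : ContDiff ℝ ∞ f) (n : ℕ) : ∀ k, ContDiff ℝ n (G f k) := by
  induction n with
  | zero =>
    intro k
    rw [Nat.cast_zero, contDiff_zero]
    exact continuous_iff_continuousAt.mpr fun x => (hasDerivAt_G hf k x).continuousAt
  | succ n ih =>
    intro k
    rw [Nat.cast_succ, contDiff_succ_iff_deriv]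
    refine ⟨fun x => (hasDerivAt_G hf k x).differentiableAt, by simp, ?_⟩
    rw [show deriv (G f k) = G f (k + 1) from funext fun x => (hasDerivAt_G hf k x).deriv]
    exact ih _


/-- Let f be an infinitely differentiable real-valued function on the real line with f(0) = 0. Then f(x)
= x·g(x) for an infinitely differentiable function g. (The source phrases this for germs at 0: the
maximal ideal of the local ring of germs of smooth functions at the origin is generated by the
coordinate t; the global form stated here is what its argument, smooth extension of f(x)/x across 0,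
gives.) -/
theorem result (f : ℝ → ℝ) (hf : ContDiff ℝ ∞ f) (h0 : f 0 = 0) :
    ∃ g : ℝ → ℝ, ContDiff ℝ ∞ g ∧ ∀ x : ℝ, f x = x * g x := by
  refine ⟨G f 0, contDiff_infty.2 fun n => contDiff_G hf n 0, fun x => ?_⟩
  have hd : Differentiable ℝ f := hf.differentiable (by norm_num)
  have hc : Continuous (deriv f) := hf.continuous_deriv (by norm_num)
  have h : ∫ t in (0 : ℝ)..1, deriv f (t * x) * x = f (1 * x) - f (0 * x) :=
    intervalIntegral.integral_eq_sub_of_hasDerivAt (f := fun t => f (t * x))
      (fun t _ => by simpa [Function.comp_def] using ((hd (t * x)).hasDerivAt).comp t ((hasDerivAt_id t).mul_const x))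
      (((hc.comp (continuous_id.mul continuous_const)).mul continuous_const).intervalIntegrable _ _)
  rw [intervalIntegral.integral_mul_const, one_mul, zero_mul, h0, sub_zero] at h
  rw [← h, G]
  simp [mul_comm]

end Groth.Agent.S18943
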