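import Groth.Statements.S18945
import Groth.Agent.RelGCI94.SyntProperty
import Groth.Agent.S18934


set_option autoImplicit false
universe u
open CategoryTheory AlgebraicGeometry
open Synt

namespace Groth.Agent.S18945

/-- Let p be a prime, X a scheme and a a global section of the structure sheaf of X. There is a covering
of X for the syntomic topology, that is a jointly surjective family of syntomic morphisms X_i → X,
such that the restriction of a to each X_i is a p-th power. (The source states the surjectivity of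
the p-th power map of the structure sheaf on the small syntomic site of a syntomic scheme over a
perfect field of characteristic p; the covering it uses elsewhere, adjoining a p-th root T^p = a
over affine pieces, gives the statement for every scheme, which is the form given here.) -/
theorem result (p : ℕ) [Fact p.Prime] (X : Scheme.{u}) (a : Γ(X, ⊤)) :
    ∃ 𝒰 : Scheme.Cover.{u} (Scheme.precoverage @Synt.IsSyntomicMor) X,
      ∀ i : 𝒰.I₀, ∃ b : Γ(𝒰.X i, ⊤), b ^ p = (𝒰.f i).appTop a := by
  let 𝒰 := X.affineCover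
  let R : 𝒰.I₀ → CommRingCat.{u} := fun j => Γ(𝒰.X j, ⊤)
  let c : ∀ j, R j := fun j => (𝒰.f j).appTop a
  haveI : ∀ j, IsAffine (𝒰.X j) := fun j => by
    change IsAffine (Spec _)
    infer_instance
  let T : 𝒰.I₀ → Type u := fun j => AdjoinRoot (Polynomial.X ^ p - Polynomial.C (c j))
  let g : ∀ j, Spec (CommRingCat.of (T j)) ⟶ 𝒰.X j := fun j =>
    Spec.map (CommRingCat.ofHom (algebraMap (R j) (T j))) ≫ (𝒰.X j).isoSpec.inv
  have hsyn : ∀ j, Synt.IsSyntomic (R j) (T j) ∧ Module.FaithfullyFlat (R j) (T j) := fun j =>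
    Groth.Agent.S18934.result p (R j) (c j)
  refine ⟨Scheme.Cover.mkOfCovers 𝒰.I₀ (fun j => Spec (CommRingCat.of (T j))) (fun j => g j ≫ 𝒰.f j)
    (fun x => ?_) (fun j => ?_), fun j => ?_⟩
  · obtain ⟨j, y, hy⟩ := 𝒰.exists_eq x
    have hs : Function.Surjective (g j) := by
      have := (hsyn j).2
      have h1 : Function.Surjective (Spec.map (CommRingCat.ofHom (algebraMap (R j) (T j)))) :=
        PrimeSpectrum.comap_surjective_of_faithfullyFlat
      intro z
      obtain ⟨w, hw⟩ := h1 ((𝒰.X j).isoSpec.hom z)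
      exact ⟨w, by simp [g, hw]⟩
    obtain ⟨z, hz⟩ := hs y
    exact ⟨j, z, by simp [hz, hy]⟩
  · rw [Groth.Agent.RelGCI94.isSyntomicMor_iff]
    have hP : Groth.Agent.RelGCI94.syntomicProp (g j) := by
      rw [MorphismProperty.cancel_right_of_respectsIso (P := Groth.Agent.RelGCI94.syntomicProp.{u}),
        HasRingHomProperty.Spec_iff (P := Groth.Agent.RelGCI94.syntomicProp.{u})]
      exact Groth.Agent.RelGCI94.syntomicHom_algebraMap.2 (hsyn j).1
    exact (HasRingHomProperty.respects_isOpenImmersion (P := Groth.Agent.RelGCI94.syntomicProp.{u})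
      Groth.Agent.RelGCI94.syntomicHom_source).postcomp (𝒰.f j) inferInstance _ hP
  · refine ⟨(Scheme.ΓSpecIso (CommRingCat.of (T j))).inv (AdjoinRoot.root _), ?_⟩
    have h := AdjoinRoot.eval₂_root (Polynomial.X ^ p - Polynomial.C (c j))
    simp only [Polynomial.eval₂_sub, Polynomial.eval₂_pow, Polynomial.eval₂_X, Polynomial.eval₂_C,
      sub_eq_zero] at h
    refine ((map_pow (Scheme.ΓSpecIso (CommRingCat.of (T j))).inv.hom _ p).symm).trans ?_
    rw [h]
    change (Scheme.ΓSpecIso (CommRingCat.of (T j))).inv (algebraMap (R j) (T j) (c j)) =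
      (g j).appTop ((𝒰.f j).appTop a)
    have hg : (g j).appTop = CommRingCat.ofHom (algebraMap (R j) (T j)) ≫
        (Scheme.ΓSpecIso (CommRingCat.of (T j))).inv := by
      have h2 : (𝒰.X j).isoSpec.inv.appTop = (Scheme.ΓSpecIso Γ(𝒰.X j, ⊤)).inv := by
        have h3 := congrArg Scheme.Hom.appTop (𝒰.X j).isoSpec.hom_inv_id
        rw [Scheme.Hom.comp_appTop, Scheme.Hom.id_appTop] at h3
        refine (Iso.comp_hom_eq_id _).1 (Eq.trans ?_ h3)
        simp [Scheme.isoSpec_hom]
      rw [Scheme.Hom.comp_appTop, h2, Scheme.ΓSpecIso_inv_naturality]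
      rfl
    rw [hg]
    rfl

end Groth.Agent.S18945
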