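import Mathlib
import Groth.Statements.S18946

set_option autoImplicit false
universe u
open scoped BigOperators
open InvQ

namespace Groth.Agent.S18946

open TensorProduct

theorem result
    (k : Type u) [Field k] [IsAlgClosed k] [CharZero k] (n : ℕ)
    (f : MvPolynomial (Fin (n + 1)) k) :
    (∀ σ : Fin (n + 1) → kˣ, ∏ i, (σ i : k) = 1 →
        MvPolynomial.aeval (fun i => MvPolynomial.C (σ i : k) * MvPolynomial.X i) f = f) ↔
      f ∈ Algebra.adjoin k ({∏ i : Fin (n + 1), MvPolynomial.X i} : Set (MvPolynomial (Fin (n + 1)) k)) := by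
  classical
  constructor
  · intro h
    have key : ∀ m ∈ f.support, ∀ i j, m i = m j := by
      intro m hm i j
      by_contra hne
      have hij : i ≠ j := fun e => hne (by rw [e])
      let σ : Fin (n+1) → kˣ := Pi.mulSingle i (Units.mk0 2 two_ne_zero) * Pi.mulSingle j (Units.mk0 2 two_ne_zero)⁻¹
      have hs : ∏ x, (σ x : k) = 1 := by
        rw [← Units.coe_prod]
        simp [σ, Finset.prod_mul_distrib]
      have h1 := congrArg (MvPolynomial.coeff m) (h σ hs)
      have e : MvPolynomial.aeval (fun i => MvPolynomial.C (σ i : k) * MvPolynomial.X i) f =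
          ∑ d ∈ f.support, MvPolynomial.monomial d (f.coeff d * ∏ x, (σ x : k) ^ d x) := by
        conv_lhs => rw [f.as_sum]
        rw [map_sum]
        refine Finset.sum_congr rfl fun d _ => ?_
        rw [MvPolynomial.aeval_monomial, MvPolynomial.monomial_eq (a := f.coeff d * _), Finsupp.prod_fintype _ _ (by simp), Finsupp.prod_fintype _ _ (by simp)]
        simp [mul_pow, Finset.prod_mul_distrib, MvPolynomial.algebraMap_eq]
        ring
      rw [e, MvPolynomial.coeff_sum] at h1
      simp only [MvPolynomial.coeff_monomial, Finset.sum_ite_eq', hm, if_true] at h1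
      have h2 : ∏ x, (σ x : k) ^ m x = 1 := by
        have := MvPolynomial.mem_support_iff.mp hm
        field_simp at h1
        exact h1
      have h3 : ∏ x, (σ x : k) ^ m x = 2 ^ m i * (2⁻¹) ^ m j := by
        rw [← Finset.prod_subset (Finset.subset_univ {i, j})]
        · rw [Finset.prod_pair hij]; simp [σ, hij, hij.symm]
        · intro x _ hx
          simp only [Finset.mem_insert, Finset.mem_singleton, not_or] at hx
          simp [σ, hx.1, hx.2]
      rw [h3, inv_pow, mul_inv_eq_one₀ (by simp)] at h2
      have : (((2:ℕ) ^ m i : ℕ) : k) = (((2:ℕ) ^ m j : ℕ) : k) := by exact_mod_cast h2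
      exact hne (Nat.pow_right_injective (le_refl 2) (Nat.cast_injective this))
    rw [f.as_sum]
    refine Subalgebra.sum_mem _ fun m hm => ?_
    have : MvPolynomial.monomial m (f.coeff m) = f.coeff m • (∏ i, MvPolynomial.X i) ^ m 0 := by
      rw [MvPolynomial.monomial_eq, Finsupp.prod_fintype _ _ (fun _ => pow_zero _), MvPolynomial.smul_eq_C_mul, ← Finset.prod_pow]
      exact congrArg _ (Finset.prod_congr rfl fun i _ => by rw [key m hm i 0])
    rw [this]
    exact Subalgebra.smul_mem _ (pow_mem (Algebra.subset_adjoin (Set.mem_singleton _)) _) _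
  · intro hf σ hσ
    induction hf using Algebra.adjoin_induction with
    | mem x hx =>
      rw [Set.mem_singleton_iff] at hx
      subst hx
      rw [map_prod]; simp only [MvPolynomial.aeval_X, Finset.prod_mul_distrib]; rw [← map_prod, hσ, map_one, one_mul]
    | algebraMap r => simp
    | add x y _ _ hx hy => rw [map_add, hx, hy]
    | mul x y _ _ hx hy => rw [map_mul, hx, hy]

end Groth.Agent.S18946
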