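import Groth.Prelude.Def_GalTw
import Mathlib

universe u v

namespace Groth.Agent.S18947

theorem result {Γ : Type u} {A : Type v} [Group Γ] [Group A]
    [MulDistribMulAction Γ A] (z : GpH1.OneCocycle Γ A) :
    MulAction.IsPretransitive Γ (GalTw.Tw z A) ↔ Function.Surjective z.1 := by
  constructor
  · intro h a
    obtain ⟨σ, hσ⟩ := h.exists_smul_eq (GalTw.Tw.mk z (1 : A)) (GalTw.Tw.mk z a)
    refine ⟨σ, ?_⟩
    rw [GalTw.Tw.smul_def] at hσ
    have := (GalTw.Tw.mk z).injective hσ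
    rw [smul_one, smul_eq_mul, mul_one] at this
    exact this
  · intro h
    have key : ∀ a : A, ∃ σ : Γ, σ • GalTw.Tw.mk z (1 : A) = GalTw.Tw.mk z a := fun a => by
      obtain ⟨σ, hσ⟩ := h a
      exact ⟨σ, by rw [GalTw.Tw.smul_def, smul_one, smul_eq_mul, mul_one, hσ]⟩
    refine ⟨fun x y => ?_⟩
    obtain ⟨a, rfl⟩ := (GalTw.Tw.mk z).surjective x
    obtain ⟨b, rfl⟩ := (GalTw.Tw.mk z).surjective y
    obtain ⟨σ, hσ⟩ := key a
    obtain ⟨τ, hτ⟩ := key b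
    exact ⟨τ * σ⁻¹, by rw [mul_smul, ← hσ, inv_smul_smul, hτ]⟩

end Groth.Agent.S18947
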