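import Groth.Statements.S18948
import Mathlib.Tactic

set_option autoImplicit false
universe u v
open CExt

namespace Groth.Agent.S18948

/-- Let f : E → G be a surjective homomorphism of groups whose kernel is central in E, and let x ∈ E.
Then f maps the conjugacy class of x bijectively onto the conjugacy class of f(x) if and only if
every element of G commuting with f(x) is the image of some element of E commuting with x. (In the
source E → G is the central extension, with kernel the roots of unity, attached to a Brauer class of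
the classifying stack of a finite tame étale group scheme, and a conjugacy class of E mapping
bijectively onto a given class of G is a marking; the equivalence is stated here for an arbitrary
central extension of abstract groups.) -/
theorem result {E : Type u} {G : Type v} [Group E] [Group G]
    (f : E →* G) (hf : Function.Surjective f) (hker : f.ker ≤ Subgroup.center E) (x : E) :
    Set.BijOn f (MulAction.orbit (ConjAct E) x) (MulAction.orbit (ConjAct G) (f x)) ↔
      ∀ g : G, g * f x = f x * g → ∃ e : E, f e = g ∧ e * x = x * e := by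
  have hc : ∀ k ∈ f.ker, ∀ y : E, k * y = y * k := fun k hk y => ((Subgroup.mem_center_iff.mp (hker hk)) y).symm
  constructor
  · intro h g hg
    obtain ⟨e, rfl⟩ := hf g
    refine ⟨e, rfl, ?_⟩
    have h1 : ConjAct.toConjAct e • x ∈ MulAction.orbit (ConjAct E) x := MulAction.mem_orbit _ _
    have h2 : x ∈ MulAction.orbit (ConjAct E) x := MulAction.mem_orbit_self _
    have he : f (ConjAct.toConjAct e • x) = f x := by
      rw [ConjAct.toConjAct_smul, map_mul, map_mul, map_inv, hg, mul_inv_cancel_right]
    have := h.injOn h1 h2 he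
    rw [ConjAct.toConjAct_smul] at this
    exact mul_inv_eq_iff_eq_mul.mp this
  · intro h
    refine ⟨?_, ?_, ?_⟩
    · rintro y ⟨e, rfl⟩
      refine ⟨ConjAct.toConjAct (f (ConjAct.ofConjAct e)), ?_⟩
      simp [ConjAct.smul_def]
    · rintro y ⟨a, rfl⟩ z ⟨b, rfl⟩ hyz
      obtain ⟨a, rfl⟩ : ∃ a', ConjAct.toConjAct a' = a := ⟨ConjAct.ofConjAct a, rfl⟩
      obtain ⟨b, rfl⟩ : ∃ b', ConjAct.toConjAct b' = b := ⟨ConjAct.ofConjAct b, rfl⟩
      simp only [ConjAct.toConjAct_smul, map_mul, map_inv] at hyz ⊢
      obtain ⟨e, he, hex⟩ := h (f (b⁻¹ * a)) (by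
        simp only [map_mul, map_inv]
        have := congrArg (fun t => (f b)⁻¹ * t * f a) hyz
        simp only [mul_assoc, inv_mul_cancel, mul_one] at this
        rw [mul_assoc, this, inv_mul_cancel_left])
      have hk : b⁻¹ * a * e⁻¹ ∈ f.ker := by
        rw [MonoidHom.mem_ker, map_mul, map_inv, he, mul_inv_cancel]
      have hba : b⁻¹ * a * x = x * (b⁻¹ * a) := by
        have h1 : b⁻¹ * a = (b⁻¹ * a * e⁻¹) * e := (inv_mul_cancel_right _ _).symm
        rw [h1, mul_assoc, hex, ← mul_assoc, hc _ hk x, mul_assoc]
      calc a * x * a⁻¹ = b * (b⁻¹ * a * x) * a⁻¹ := by group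
        _ = b * (x * (b⁻¹ * a)) * a⁻¹ := by rw [hba]
        _ = b * x * b⁻¹ := by group
    · rintro y ⟨g, rfl⟩
      obtain ⟨e, he⟩ := hf (ConjAct.ofConjAct g)
      exact ⟨ConjAct.toConjAct e • x, MulAction.mem_orbit _ _, by simp [ConjAct.smul_def, he]⟩

end Groth.Agent.S18948
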