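import Groth.Statements.S18949
import Mathlib.Tactic

set_option autoImplicit false
universe u v
open CExt

namespace Groth.Agent.S18949

/-- Automorphisms over the base: let f : E → G be a surjective homomorphism of groups with central
kernel A. For every homomorphism χ : G → A the map e ↦ χ(f(e)) · e is an endomorphism of E over G
which is the identity on A; and every endomorphism α of E with f ∘ α = f and α equal to the identity
on A is of this form for exactly one χ. (In the source this identifies the automorphisms of a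
central extension fixing its kernel with Hom(G, A), for extensions of profinite étale group schemes
over a field; stated here for abstract groups.) -/
theorem result {E : Type u} {G : Type v} [Group E] [Group G]
    (f : E →* G) (hf : Function.Surjective f) (hker : f.ker ≤ Subgroup.center E) :
    (∀ χ : G →* f.ker, ∃ α : E →* E, f.comp α = f ∧ (∀ a ∈ f.ker, α a = a) ∧
        ∀ e : E, α e = (χ (f e) : E) * e) ∧
      ∀ α : E →* E, f.comp α = f → (∀ a ∈ f.ker, α a = a) →
        ∃! χ : G →* f.ker, ∀ e : E, α e = (χ (f e) : E) * e := by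
  have hc : ∀ k ∈ f.ker, ∀ y : E, k * y = y * k := fun k hk y => ((Subgroup.mem_center_iff.mp (hker hk)) y).symm
  refine ⟨fun χ => ⟨MonoidHom.mk' (fun e => (χ (f e) : E) * e) fun a b => ?_, ?_, ?_, fun _ => rfl⟩, ?_⟩
  · rw [map_mul, map_mul, Subgroup.coe_mul]
    rw [mul_assoc, mul_assoc, ← mul_assoc ((χ (f b) : f.ker) : E), hc _ (χ (f b)).2 a, mul_assoc]
  · ext e
    have h : f ((χ (f e) : f.ker) : E) = 1 := (χ (f e)).2
    simp [h]
  · intro a ha
    rw [MonoidHom.mem_ker] at ha
    simp [ha]
  intro α hα hαA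
  have hfa : ∀ e, f (α e) = f e := fun e => DFunLike.congr_fun hα e
  have hd : ∀ e, α e * e⁻¹ ∈ f.ker := fun e => by
    rw [MonoidHom.mem_ker, map_mul, map_inv, hfa, mul_inv_cancel]
  have hmul : ∀ a b, α (a * b) * (a * b)⁻¹ = α a * a⁻¹ * (α b * b⁻¹) := fun a b => by
    calc α (a * b) * (a * b)⁻¹ = α a * ((α b * b⁻¹) * a⁻¹) := by rw [map_mul, mul_inv_rev]; group
      _ = α a * (a⁻¹ * (α b * b⁻¹)) := by rw [hc _ (hd b)]
      _ = _ := by group
  let d : E →* f.ker := MonoidHom.mk' (fun e => ⟨α e * e⁻¹, hd e⟩) fun a b => Subtype.ext (hmul a b)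
  have hdk : f.ker ≤ d.ker := fun a ha => Subtype.ext (by
    show α a * a⁻¹ = 1
    rw [hαA a ha, mul_inv_cancel])
  have hs : ∀ e, (f.liftOfSurjective hf ⟨d, hdk⟩) (f e) = d e :=
    fun e => f.liftOfRightInverse_comp_apply _ _ ⟨d, hdk⟩ e
  refine ⟨f.liftOfSurjective hf ⟨d, hdk⟩, fun e => ?_, fun χ hχ => ?_⟩
  · rw [hs e]
    exact (inv_mul_cancel_right _ _).symm
  · ext g
    obtain ⟨e, rfl⟩ := hf g
    rw [hs e]
    show ((χ (f e) : f.ker) : E) = α e * e⁻¹
    rw [hχ e, mul_inv_cancel_right]

end Groth.Agent.S18949
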