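import Groth.Statements.S18952
import Mathlib.Tactic

set_option autoImplicit false
universe u
open OrbPic

namespace Groth.Agent.S18952

/-- Let G be a group and C ⊆ G a subset stable under conjugation. Then (χ, w) ↦ χ maps the group of
geometric partial orbifold line bundles with respect to C onto all characters G → ℚ/ℤ, and a pair in
its kernel (χ trivial) has w a conjugation-invariant integer-valued function vanishing at 1 and
outside C: with the inclusion of such functions this is the exact sequence 0 → Hom(C/conj, ℤ) → Pic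
→ Hom(G, ℚ/ℤ) → 0 over a separably closed field. (As in the source after a choice of roots of unity,
the group G stands for the geometric points of a tame finite étale group scheme, characters are
homomorphisms to ℚ/ℤ and weights are class functions on G.) -/
theorem result (G : Type u) [Group G] (C : Set G)
    (hC : ∀ g h : G, g ∈ C → h * g * h⁻¹ ∈ C) :
    (∀ χ : Additive G →+ W4c6brauerbgmalle.QmodZ, ∃ w : G → ℚ, (χ, w) ∈ W4c6brauerbgmalle.picOrb G C) ∧
      (∀ p : (Additive G →+ W4c6brauerbgmalle.QmodZ) × (G → ℚ), p ∈ W4c6brauerbgmalle.picOrb G C → p.1 = 0 →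
        p.2 ∈ W4c6brauerbgmalle.intWeights G C) := by
  classical
  refine ⟨fun χ => ?_, ?_⟩
  · let L : W4c6brauerbgmalle.QmodZ → ℚ := fun q => if q = 0 then 0 else q.out
    have hL : ∀ q, W4c6brauerbgmalle.toQmodZ (L q) = q := fun q => by
      by_cases h : q = 0
      · simp [L, h]
      · simp only [L, if_neg h]; exact QuotientAddGroup.out_eq' q
    refine ⟨fun g => if g ∈ C then L (χ (Additive.ofMul g)) else 0, ?_, fun g hg => if_neg hg, ?_, ?_⟩
    · show (if (1 : G) ∈ C then L (χ (Additive.ofMul 1)) else 0) = 0
      simp [L]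
    · intro g h
      have hiff : h * g * h⁻¹ ∈ C ↔ g ∈ C :=
        ⟨fun hh => by simpa [mul_assoc] using hC _ h⁻¹ hh, hC g h⟩
      have hχ : χ (Additive.ofMul (h * g * h⁻¹)) = χ (Additive.ofMul g) := by
        simp only [ofMul_mul, ofMul_inv, map_add, map_neg]; abel
      simp only [hiff, hχ]
    · intro g hg
      simp only [if_pos hg, hL]
  · rintro ⟨χ, w⟩ ⟨h1, h2, h3, h4⟩ (rfl : χ = 0)
    refine ⟨h1, h2, h3, fun g => ?_⟩
    by_cases hg : g ∈ C
    · obtain ⟨n, hn⟩ := (QuotientAddGroup.eq_zero_iff _).mp (by simpa using h4 g hg : W4c6brauerbgmalle.toQmodZ (w g) = 0)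
      exact ⟨n, by simpa using hn.symm⟩
    · exact ⟨0, by simpa using h2 g hg⟩

end Groth.Agent.S18952
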