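import Groth.Statements.S18953
import Mathlib.Tactic

set_option autoImplicit false
universe u v
open OrbPic

namespace Groth.Agent.S18953

/-- Let G₁ and G₂ be groups with subsets C₁ ⊆ G₁ and C₂ ⊆ G₂, and let C ⊆ G₁ × G₂ be the union of C₁ ×
{1} and {1} × C₂. Restricting the character and the weight along the two inclusions G₁ → G₁ × G₂ and
G₂ → G₁ × G₂ is a bijection from the geometric partial orbifold line bundles of G₁ × G₂ with respect
to C onto pairs of geometric partial orbifold line bundles of G₁ with respect to C₁ and of G₂ with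
respect to C₂. (As in the source after a choice of roots of unity, each group stands for the
geometric points of a tame finite étale group scheme, characters are homomorphisms to ℚ/ℤ and
weights are class functions; the source states the Galois-equivariant version, which follows by
taking invariants.) -/
theorem result (G₁ : Type u) (G₂ : Type v) [Group G₁] [Group G₂] (C₁ : Set G₁) (C₂ : Set G₂) :
    Set.BijOn
      (fun p : (Additive (G₁ × G₂) →+ W4c6brauerbgmalle.QmodZ) × (G₁ × G₂ → ℚ) =>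
        ((p.1.comp (MonoidHom.toAdditive (MonoidHom.inl G₁ G₂)), fun g => p.2 (g, 1)),
          (p.1.comp (MonoidHom.toAdditive (MonoidHom.inr G₁ G₂)), fun g => p.2 (1, g))))
      (W4c6brauerbgmalle.picOrb (G₁ × G₂) ((fun g => (g, (1 : G₂))) '' C₁ ∪ (fun g => ((1 : G₁), g)) '' C₂))
      ((W4c6brauerbgmalle.picOrb G₁ C₁ : Set _) ×ˢ (W4c6brauerbgmalle.picOrb G₂ C₂ : Set _)) := by
  classical
  refine ⟨?_, ?_, ?_⟩
  · rintro ⟨χ, w⟩ ⟨h1, h2, h3, h4⟩
    refine ⟨⟨h1, fun g hg => ?_, fun g h => ?_, fun g hg => ?_⟩,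
      ⟨h1, fun g hg => ?_, fun g h => ?_, fun g hg => ?_⟩⟩
    · by_cases hh : (g, (1 : G₂)) = (1, 1)
      · show w (g, 1) = 0
        rw [hh]; exact h1
      · refine h2 _ ?_
        rintro (⟨x, hx, he⟩ | ⟨x, _, he⟩)
        · have e := (Prod.ext_iff.mp he).1
          simp only at e
          exact hg (e ▸ hx)
        · obtain ⟨e1, _⟩ := Prod.ext_iff.mp he
          exact hh (by simp only at e1; rw [← e1])
    · simpa using h3 (g, 1) (h, 1)
    · exact h4 (g, 1) (Or.inl ⟨g, hg, rfl⟩)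
    · by_cases hh : ((1 : G₁), g) = (1, 1)
      · show w (1, g) = 0
        rw [hh]; exact h1
      · refine h2 _ ?_
        rintro (⟨x, _, he⟩ | ⟨x, hx, he⟩)
        · obtain ⟨_, e2⟩ := Prod.ext_iff.mp he
          exact hh (by simp only at e2; rw [← e2])
        · have e := (Prod.ext_iff.mp he).2
          simp only at e
          exact hg (e ▸ hx)
    · simpa using h3 (1, g) (1, h)
    · exact h4 (1, g) (Or.inr ⟨g, hg, rfl⟩)
  · rintro ⟨χ, w⟩ ⟨h1, h2, h3, h4⟩ ⟨χ', w'⟩ ⟨h1', h2', h3', h4'⟩ he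
    obtain ⟨⟨e1, e2⟩, ⟨e3, e4⟩⟩ := (by simpa [Prod.ext_iff] using he :
      (χ.comp (MonoidHom.toAdditive (MonoidHom.inl G₁ G₂)) = χ'.comp (MonoidHom.toAdditive (MonoidHom.inl G₁ G₂)) ∧
          (fun g => w (g, 1)) = fun g => w' (g, 1)) ∧
        χ.comp (MonoidHom.toAdditive (MonoidHom.inr G₁ G₂)) = χ'.comp (MonoidHom.toAdditive (MonoidHom.inr G₁ G₂)) ∧
          (fun g => w (1, g)) = fun g => w' (1, g))
    refine Prod.ext (DFunLike.ext _ _ fun x => ?_) (funext fun x => ?_)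
    · obtain ⟨⟨a, b⟩, rfl⟩ : ∃ y, Additive.ofMul y = x := ⟨Additive.toMul x, rfl⟩
      have hx : ((a, b) : G₁ × G₂) = (a, 1) * (1, b) := by simp
      have u1 := DFunLike.congr_fun e1 (Additive.ofMul a)
      have u2 := DFunLike.congr_fun e3 (Additive.ofMul b)
      rw [hx, ofMul_mul, map_add, map_add]
      exact congrArg₂ (· + ·) u1 u2
    · obtain ⟨a, b⟩ := x
      rcases eq_or_ne b 1 with rfl | hb
      · exact congrFun e2 a
      rcases eq_or_ne a 1 with rfl | ha
      · exact congrFun e4 b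
      have hn : (a, b) ∉ (fun g => (g, (1 : G₂))) '' C₁ ∪ (fun g => ((1 : G₁), g)) '' C₂ := by
        rintro (⟨z, _, hz⟩ | ⟨z, _, hz⟩)
        · exact hb (Prod.ext_iff.mp hz).2.symm
        · exact ha (Prod.ext_iff.mp hz).1.symm
      exact (h2 _ hn).trans (h2' _ hn).symm
  · rintro ⟨⟨χ₁, w₁⟩, ⟨χ₂, w₂⟩⟩ ⟨⟨a1, a2, a3, a4⟩, ⟨b1, b2, b3, b4⟩⟩
    simp only at a1 a2 a3 a4 b1 b2 b3 b4
    refine ⟨(χ₁.comp (MonoidHom.toAdditive (MonoidHom.fst G₁ G₂)) + χ₂.comp (MonoidHom.toAdditive (MonoidHom.snd G₁ G₂)),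
      fun g => if g.2 = 1 then w₁ g.1 else if g.1 = 1 then w₂ g.2 else 0), ⟨?_, ?_, ?_, ?_⟩, ?_⟩
    · simpa using a1
    · rintro ⟨a, b⟩ hn
      dsimp only
      split_ifs with hb ha
      · subst hb; exact a2 a fun h => hn (Or.inl ⟨a, h, rfl⟩)
      · subst ha; exact b2 b fun h => hn (Or.inr ⟨b, h, rfl⟩)
      · rfl
    · rintro ⟨a, b⟩ ⟨c, d⟩
      simp only [Prod.mk_mul_mk, Prod.inv_mk, conj_eq_one_iff, a3, b3]
    · rintro ⟨a, b⟩ (⟨z, hz, he⟩ | ⟨z, hz, he⟩) <;> obtain ⟨rfl, rfl⟩ := Prod.ext_iff.mp he <;> dsimp only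
      · simp [a4 z hz]
      · rcases eq_or_ne z 1 with rfl | hz1
        · simp [a1]
        · simp [hz1, b4 z hz]
    · refine Prod.ext (Prod.ext (DFunLike.ext _ _ fun x => ?_) (funext fun g => ?_))
        (Prod.ext (DFunLike.ext _ _ fun x => ?_) (funext fun g => ?_))
      · simp
      · simp
      · simp
      · rcases eq_or_ne g 1 with rfl | hg
        · simp [a1, b1]
        · simp [hg]

end Groth.Agent.S18953
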