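import Groth.Statements.S18954
import Mathlib.Tactic

set_option autoImplicit false
universe u v w
open Classical
open BGCount

namespace Groth.Agent.S18954

/-- Let a finite group G act on a finite set X, let W be a finite set of orbits and f a function on
orbits with values in a field of characteristic zero. Then Σ_{O ∈ W} f(O)/|Stab(x_O)|, with x_O any
point of O, equals |G|⁻¹ · Σ f(orbit(x)) over the points x of X whose orbit lies in W. (In the
source X is the set of 1-cocycles of the absolute Galois group of a field in a finite étale group
scheme G, acted on by the geometric points of G, the orbits are the isomorphism classes of G-torsors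
and the stabilisers their automorphism groups; stated here for an arbitrary action of a finite group
on a finite set, the representative x_O being chosen by Quotient.out.) -/
theorem result {G : Type u} {X : Type v} (𝕜 : Type w)
    [Group G] [Fintype G] [MulAction G X] [Fintype X] [Field 𝕜] [CharZero 𝕜]
    (W : Finset (MulAction.orbitRel.Quotient G X)) (f : MulAction.orbitRel.Quotient G X → 𝕜) :
    (∑ O ∈ W, f O / (Nat.card (MulAction.stabilizer G O.out) : 𝕜)) =
      (Fintype.card G : 𝕜)⁻¹ *
        ∑ x ∈ Finset.univ.filter (fun x : X => (Quotient.mk (MulAction.orbitRel G X) x) ∈ W),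
          f (Quotient.mk (MulAction.orbitRel G X) x) := by
  rw [Finset.mul_sum, ← Finset.sum_fiberwise_of_maps_to (t := W)
    (g := fun x : X => (Quotient.mk (MulAction.orbitRel G X) x : MulAction.orbitRel.Quotient G X))
    (fun x hx => (Finset.mem_filter.mp hx).2)]
  refine Finset.sum_congr rfl fun O hO => ?_
  rw [Finset.sum_congr rfl (g := fun _ => (Fintype.card G : 𝕜)⁻¹ * f O) (fun x hx => by
    rw [(Finset.mem_filter.mp hx).2]), Finset.sum_const, nsmul_eq_mul]
  have hset : ((Finset.univ.filter fun x : X => (Quotient.mk (MulAction.orbitRel G X) x) ∈ W).filter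
      fun x => (Quotient.mk (MulAction.orbitRel G X) x : MulAction.orbitRel.Quotient G X) = O) =
      (MulAction.orbit G O.out).toFinset := by
    ext x
    rw [Set.mem_toFinset, Finset.mem_filter, Finset.mem_filter, ← MulAction.orbitRel_apply]
    constructor
    · rintro ⟨_, h⟩
      exact Quotient.exact (h.trans (Quotient.out_eq O).symm)
    · intro h
      have e : (Quotient.mk (MulAction.orbitRel G X) x : MulAction.orbitRel.Quotient G X) = O :=
        (Quotient.sound h).trans (Quotient.out_eq O)
      exact ⟨⟨Finset.mem_univ _, e ▸ hO⟩, e⟩
  rw [hset, Set.toFinset_card, Nat.card_eq_fintype_card]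
  have hos := MulAction.card_orbit_mul_card_stabilizer_eq_card_group G O.out
  rw [← hos, Nat.cast_mul, mul_inv]
  haveI := (MulAction.nonempty_orbit (M := G) O.out).to_subtype
  have h1 : (Fintype.card (MulAction.orbit G O.out) : 𝕜) ≠ 0 :=
    Nat.cast_ne_zero.mpr (Fintype.card_ne_zero)
  field_simp

end Groth.Agent.S18954
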