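import Groth.Statements.S18961
import Groth.Agent.BBDec52.Inj

set_option autoImplicit false
universe u
open BBDec

namespace Groth.Agent.S18961

/-- Let k be a field, A a finitely generated k-algebra and B a finitely generated A-algebra graded by
the natural numbers as an A-algebra, with degree-zero part equal to the image of A and A → B
injective; let B₊ be the irrelevant ideal. So Spec B → Spec A is the retraction of an affine scheme
with an action of the multiplicative monoid of the affine line onto its fixed-point scheme, with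
zero section cut out by B₊; this is the affine-local graded form, for that monoid, of the published
statement, which covers any Kempf monoid M with unit group G and a k-scheme X locally of finite
type, and concludes that the retraction X⁺ → X^G is an affine-space bundle near a fixed point at
whose section value it is smooth. Assume that A → B is smooth at every prime ideal containing B₊ and
that B₊/B₊² is a free A-module of finite rank. Then B is isomorphic, as an A-algebra, to the
polynomial ring over A in (rank of B₊/B₊²) variables. (The published statement also makes the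
isomorphism equivariant for a suitable linear action when G is linearly reductive; only the
existence of an A-algebra isomorphism is stated here. Freeness of the conormal module holds after
shrinking the base, which is how the published proof reaches this situation.) -/
theorem result (k : Type u) [Field k]
    (A B : Type u) [CommRing A] [CommRing B] [Algebra k A] [Algebra k B] [Algebra A B] [IsScalarTower k A B]
    [Algebra.FiniteType k A] [Algebra.FiniteType A B] (𝒜 : ℕ → Submodule A B) [GradedAlgebra 𝒜]
    (h0 : ∀ b : B, b ∈ 𝒜 0 ↔ b ∈ Set.range (algebraMap A B)) (hinj : Function.Injective (algebraMap A B))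
    (hsm : ∀ (P : Ideal B) [P.IsPrime], (HomogeneousIdeal.irrelevant 𝒜).toIdeal ≤ P → Algebra.IsSmoothAt A P)
    [Module.Free A (HomogeneousIdeal.irrelevant 𝒜).toIdeal.Cotangent]
    [Module.Finite A (HomogeneousIdeal.irrelevant 𝒜).toIdeal.Cotangent] :
    Nonempty (B ≃ₐ[A]
      MvPolynomial (Fin (Module.finrank A (HomogeneousIdeal.irrelevant 𝒜).toIdeal.Cotangent)) A) := by
  classical
  rcases subsingleton_or_nontrivial A with hA | hA
  · have : Subsingleton B := Module.subsingleton A B
    exact ⟨AlgEquiv.ofBijective
      (AlgHom.mk' (⟨⟨⟨fun _ => 0, Subsingleton.elim _ _⟩, fun _ _ => Subsingleton.elim _ _⟩,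
        Subsingleton.elim _ _, fun _ _ => Subsingleton.elim _ _⟩) fun _ _ => Subsingleton.elim _ _)
      ⟨fun x y _ => Subsingleton.elim x y, fun x => ⟨0, Subsingleton.elim _ _⟩⟩⟩
  set I : Ideal B := (HomogeneousIdeal.irrelevant 𝒜).toIdeal with hI
  have memI : ∀ b, b ∈ I ↔ GradedAlgebra.proj 𝒜 0 b = 0 := fun b => Iff.rfl
  let P := fun n => GradedAlgebra.proj 𝒜 n
  have Pmem : ∀ n b, P n b ∈ 𝒜 n := fun n b => by simp [P, GradedAlgebra.proj_apply]
  have Psame : ∀ {n b}, b ∈ 𝒜 n → P n b = b := fun {n b} hb => by
    simp [P, GradedAlgebra.proj_apply, DirectSum.decompose_of_mem_same 𝒜 hb]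
  have Pne : ∀ {n m b}, b ∈ 𝒜 n → n ≠ m → P m b = 0 := fun {n m b} hb hne => by
    simp [P, GradedAlgebra.proj_apply, DirectSum.decompose_of_mem_ne 𝒜 hb hne]
  have P0 : ∀ b ∈ I, P 0 b = 0 := fun b hb => (memI b).mp hb
  -- the retraction
  let ι0 : A →ₐ[A] B := Algebra.ofId A B
  let π0 : B → A := fun b => Classical.choose ((h0 (P 0 b)).mp (Pmem 0 b))
  have hπspec : ∀ b, algebraMap A B (π0 b) = P 0 b := fun b =>
    Classical.choose_spec ((h0 (P 0 b)).mp (Pmem 0 b))
  let π : B →ₐ[A] A :=
    { toFun := π0
      map_one' := hinj (by rw [hπspec, map_one (algebraMap A B)]; exact Psame SetLike.GradedOne.one_mem)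
      map_mul' := fun a b => hinj (by
        rw [map_mul, hπspec, hπspec, hπspec]
        exact map_mul (GradedRing.projZeroRingHom 𝒜) a b)
      map_zero' := hinj (by rw [hπspec, map_zero, map_zero])
      map_add' := fun a b => hinj (by rw [map_add, hπspec, hπspec, hπspec, map_add])
      commutes' := fun a => hinj (by rw [hπspec]; exact Psame ((h0 _).mpr ⟨a, rfl⟩)) }
  have hπker : RingHom.ker (π : B →+* A) = I := by
    ext b
    rw [RingHom.mem_ker, memI]
    show π0 b = 0 ↔ P 0 b = 0
    rw [← hπspec]
    exact ⟨fun h => by rw [h, map_zero], fun h => hinj (by rw [h, map_zero])⟩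
  -- projections on the cotangent module
  have PI : ∀ n, ∀ b ∈ I, P n b ∈ I := fun n b hb => by
    have := (HomogeneousIdeal.irrelevant 𝒜).isHomogeneous n hb
    simp only [P, GradedAlgebra.proj_apply]
    exact this
  have hsq : (I ^ 2).IsHomogeneous 𝒜 := by
    rw [pow_two]
    exact (HomogeneousIdeal.irrelevant 𝒜).isHomogeneous.mul
      (HomogeneousIdeal.irrelevant 𝒜).isHomogeneous
  have PI2 : ∀ n, ∀ b ∈ I ^ 2, P n b ∈ I ^ 2 := fun n b hb => by
    have := hsq n hb
    simp only [P, GradedAlgebra.proj_apply]
    exact this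
  let q : I.restrictScalars A →ₗ[A] I.Cotangent := I.toCotangent.restrictScalars A
  have qsurj : Function.Surjective q := I.toCotangent_surjective
  let R : ℕ → (I.restrictScalars A →ₗ[A] I.restrictScalars A) := fun n =>
    (P n).restrict (fun b hb => PI n b hb)
  have hR : ∀ n, LinearMap.ker q ≤ LinearMap.ker (q ∘ₗ R n) := fun n x hx => by
    have hx' : (x : B) ∈ I ^ 2 := (Ideal.toCotangent_eq_zero I x).mp hx
    show q (R n x) = 0
    exact (Ideal.toCotangent_eq_zero I (R n x)).mpr (PI2 n _ hx')
  let Pb : ℕ → (I.Cotangent →ₗ[A] I.Cotangent) := fun n =>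
    (Submodule.liftQ (LinearMap.ker q) (q ∘ₗ R n) (hR n)) ∘ₗ
      (q.quotKerEquivOfSurjective qsurj).symm.toLinearMap
  have hPb : ∀ n x, Pb n (q x) = q (R n x) := fun n x => by
    have : (q.quotKerEquivOfSurjective qsurj).symm (q x) = Submodule.Quotient.mk x := by
      rw [LinearEquiv.symm_apply_eq]; rfl
    show Submodule.liftQ (LinearMap.ker q) (q ∘ₗ R n) (hR n) _ = _
    rw [LinearEquiv.coe_coe, this]
    rfl
  let bs := Module.finBasis A I.Cotangent
  choose l hl using fun i => qsurj (bs i)
  obtain ⟨N, hN⟩ : ∃ N, ∀ i, ∀ n ≥ N, P n (l i : B) = 0 := by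
    refine ⟨Finset.univ.sup (fun i => (DirectSum.decompose 𝒜 (l i : B)).support.sup id) + 1,
      fun i n hn => ?_⟩
    by_contra hne
    have hmem : n ∈ (DirectSum.decompose 𝒜 (l i : B)).support := by
      rw [DFinsupp.mem_support_toFun]
      intro hc; apply hne; simp [P, GradedAlgebra.proj_apply, hc]
    have h1 : n ≤ _ := Finset.le_sup (f := id) hmem
    have h2 : (DirectSum.decompose 𝒜 (l i : B)).support.sup id ≤
        Finset.univ.sup (fun i => (DirectSum.decompose 𝒜 (l i : B)).support.sup id) :=
      Finset.le_sup (f := fun i => (DirectSum.decompose 𝒜 (l i : B)).support.sup id) (Finset.mem_univ i)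
    omega
  have hN' : ∀ n ≥ N, ∀ m, Pb n m = 0 := by
    intro n hn m
    have : Pb n = 0 := bs.ext fun i => by
      rw [← hl i, hPb, LinearMap.zero_apply]
      have : R n (l i) = 0 := Subtype.ext (hN i n hn)
      rw [this, map_zero]
    rw [this]; rfl
  let s : I.Cotangent →ₗ[A] I.restrictScalars A := bs.constr A l
  have hs : ∀ m, q (s m) = m := by
    have : q ∘ₗ s = LinearMap.id := bs.ext fun i => by simp [s, Module.Basis.constr_basis, hl]
    exact fun m => LinearMap.congr_fun this m
  let s' : I.Cotangent →ₗ[A] I.restrictScalars A :=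
    ∑ n ∈ Finset.range N, (R n) ∘ₗ s ∘ₗ (Pb n)
  have Rdecomp : ∀ x : I.restrictScalars A, (∀ n ≥ N, P n (x : B) = 0) →
      ∑ n ∈ Finset.range N, R n x = x := by
    intro x hx
    apply Subtype.ext
    rw [AddSubmonoidClass.coe_finsetSum]
    show ∑ n ∈ Finset.range N, P n (x : B) = x
    conv_rhs => rw [← DirectSum.sum_support_decompose 𝒜 (x : B)]
    symm
    apply Finset.sum_subset_zero_on_sdiff
    · intro n hn
      rw [Finset.mem_range]
      by_contra hh
      rw [DFinsupp.mem_support_toFun] at hn
      apply hn
      exact Subtype.ext (by simpa [P, GradedAlgebra.proj_apply] using hx n (not_lt.mp hh))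
    · intro n hn
      have := (Finset.mem_sdiff.mp hn).2
      rw [DFinsupp.mem_support_toFun, not_not] at this
      simp [P, GradedAlgebra.proj_apply, this]
    · intro n _; simp [P, GradedAlgebra.proj_apply]
  have Pbidem : ∀ n m, Pb n (Pb n m) = Pb n m := by
    intro n m
    obtain ⟨x, rfl⟩ := qsurj m
    rw [hPb, hPb]
    congr 1
    exact Subtype.ext (Psame (Pmem n _))
  have Pbsum : ∀ m, ∑ n ∈ Finset.range N, Pb n m = m := by
    have : ∑ n ∈ Finset.range N, Pb n = LinearMap.id := bs.ext fun i => by
      rw [LinearMap.sum_apply, ← hl i]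
      simp only [hPb, LinearMap.id_apply]
      rw [← map_sum, Rdecomp (l i) (hN i)]
    exact fun m => by simpa using LinearMap.congr_fun this m
  have hs' : ∀ m, q (s' m) = m := by
    intro m
    simp only [s', LinearMap.sum_apply, map_sum, LinearMap.comp_apply, ← hPb, hs, Pbidem]
    exact Pbsum m
  let g : MvPolynomial (Fin (Module.finrank A I.Cotangent)) A →ₐ[A] B :=
    MvPolynomial.aeval (fun i => ((s' (bs i)) : B))
  have hgX : ∀ i, g (MvPolynomial.X i) = ((s' (bs i)) : B) := fun i => MvPolynomial.aeval_X _ _
  have hrange : ∀ m, ((s' m) : B) ∈ g.range := by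
    intro m
    rw [← bs.sum_repr m, map_sum, AddSubmonoidClass.coe_finsetSum]
    refine Subalgebra.sum_mem _ fun i _ => ?_
    rw [map_smul, SetLike.val_smul]
    exact Subalgebra.smul_mem _ ((AlgHom.mem_range g).mpr ⟨_, hgX i⟩) _
  -- surjectivity
  have hsurj : Function.Surjective g := by
    suffices hh : ∀ n, ∀ b ∈ 𝒜 n, b ∈ g.range by
      intro b
      show b ∈ g.range
      rw [← DirectSum.sum_support_decompose 𝒜 b]
      exact Subalgebra.sum_mem _ fun n _ => hh n _ (SetLike.coe_mem _)
    intro n
    induction n using Nat.strong_induction_on with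
    | _ n ih =>
    intro b hb
    rcases Nat.eq_zero_or_pos n with rfl | hn
    · obtain ⟨a, rfl⟩ := (h0 b).mp hb
      exact Subalgebra.algebraMap_mem _ a
    have hbI : b ∈ I := HomogeneousIdeal.mem_irrelevant_of_mem 𝒜 hn hb
    let x : I.restrictScalars A := ⟨b, hbI⟩
    have hPbx : ∀ k, Pb k (q x) = if k = n then q x else 0 := by
      intro k
      rw [hPb]
      split_ifs with h
      · subst h; congr 1; exact Subtype.ext (Psame hb)
      · rw [show R k x = 0 from Subtype.ext (Pne hb (Ne.symm h)), map_zero]
    have hs'x : ((s' (q x)) : B) ∈ 𝒜 n := by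
      simp only [s', LinearMap.sum_apply, AddSubmonoidClass.coe_finsetSum, LinearMap.comp_apply, hPbx]
      refine Submodule.sum_mem _ fun k _ => ?_
      split_ifs with h
      · subst h; exact Pmem _ _
      · simp
    have hd : b - ((s' (q x)) : B) ∈ I ^ 2 := by
      have := (hs' (q x)).symm
      exact Ideal.toCotangent_eq I (x := x) (y := s' (q x)) |>.mp this
    have key : ∀ z ∈ I ^ 2, P n z ∈ g.range := by
      intro z hz
      rw [pow_two] at hz
      refine Submodule.mul_induction_on hz (fun u hu v hv => ?_) (fun u v hu hv => ?_)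
      · have e : u * v = ∑ i ∈ (DirectSum.decompose 𝒜 u).support,
            ∑ j ∈ (DirectSum.decompose 𝒜 v).support, P i u * P j v := by
          rw [← Finset.sum_mul_sum]
          congr 1 <;> exact (DirectSum.sum_support_decompose 𝒜 _).symm
        rw [e, map_sum]
        refine Subalgebra.sum_mem _ fun i _ => ?_
        rw [map_sum]
        refine Subalgebra.sum_mem _ fun j _ => ?_
        by_cases hij : i + j = n
        · rw [Psame (hij ▸ SetLike.GradedMul.mul_mem (Pmem i u) (Pmem j v))]
          rcases Nat.eq_zero_or_pos i with rfl | hi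
          · rw [P0 u hu, zero_mul]; exact zero_mem _
          rcases Nat.eq_zero_or_pos j with rfl | hj
          · rw [P0 v hv, mul_zero]; exact zero_mem _
          exact mul_mem (ih i (by omega) _ (Pmem i u)) (ih j (by omega) _ (Pmem j v))
        · rw [Pne (SetLike.GradedMul.mul_mem (Pmem i u) (Pmem j v)) hij]; exact zero_mem _
      · rw [map_add]; exact add_mem hu hv
    have h1 := key _ hd
    rw [Psame (Submodule.sub_mem _ hb hs'x)] at h1
    have := add_mem h1 (hrange (q x))
    simpa using this
  -- a neighbourhood of the section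
  have : IsNoetherianRing A := Algebra.FiniteType.isNoetherianRing k A
  have : Algebra.FinitePresentation A B := Algebra.FinitePresentation.of_finiteType.mp inferInstance
  obtain ⟨J, hJ⟩ := (PrimeSpectrum.isClosed_iff_zeroLocus_ideal
    (Algebra.smoothLocus A B)ᶜ).mp (Algebra.isOpen_smoothLocus (R := A) (A := B)).isClosed_compl
  have hJI : J ⊔ I = ⊤ := by
    by_contra hne
    obtain ⟨M, hM, hle⟩ := Ideal.exists_le_maximal _ hne
    have hmem : (⟨M, hM.isPrime⟩ : PrimeSpectrum B) ∈ (Algebra.smoothLocus A B)ᶜ := by
      rw [hJ, PrimeSpectrum.mem_zeroLocus]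
      exact SetLike.coe_subset_coe.mpr (le_trans (le_sup_left : J ≤ J ⊔ I) hle)
    exact hmem (@hsm M hM.isPrime (le_trans le_sup_right hle))
  obtain ⟨f, hf, u, hu, hfu⟩ := Submodule.mem_sup.mp (hJI ▸ Submodule.mem_top : (1 : B) ∈ J ⊔ I)
  have hfs : ↑(PrimeSpectrum.basicOpen f) ⊆ Algebra.smoothLocus A B := by
    intro p hp
    by_contra hns
    have : p ∈ (Algebra.smoothLocus A B)ᶜ := hns
    rw [hJ, PrimeSpectrum.mem_zeroLocus] at this
    exact hp (this hf)
  have : Algebra.FormallySmooth A (Localization.Away f) :=
    Algebra.basicOpen_subset_smoothLocus_iff.mp hfs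
  have hfI : f - 1 ∈ I := by
    rw [← hfu, sub_add_cancel_left]; exact neg_mem hu
  have hgI : ∀ i, g (MvPolynomial.X i) ∈ I := fun i => by rw [hgX]; exact (s' (bs i)).2
  refine ⟨(AlgEquiv.ofBijective g ⟨?_, hsurj⟩).symm⟩
  refine Groth.Agent.BBDec52.injective_of_formallySmooth I π hπker f hfI
    (fun j => bs.coord j) g hgI (fun i j => ?_)
  have : I.toCotangent ⟨g (MvPolynomial.X i), hgI i⟩ = bs i := by
    rw [← hs' (bs i)]
    show I.toCotangent _ = I.toCotangent _
    congr 1
    exact Subtype.ext (hgX i)
  rw [this]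
  simp

end Groth.Agent.S18961
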