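import Groth.Statements.S18974
import Mathlib.RingTheory.Derivation.Basic
import Mathlib.Algebra.Polynomial.Derivative
import Mathlib.RingTheory.Ideal.Quotient.Operations
import Mathlib.Tactic.LinearCombination
import Mathlib.Algebra.Algebra.Rat

set_option autoImplicit false
universe u
open CAlg

namespace Groth.Agent.S18974


open Polynomial

section
variable {A : Type u} [CommRing A] [Algebra ℚ A] (D : Derivation ℚ A A) (a : A)


theorem pow_succ_apply (n : ℕ) (x : A) : ((D : A →ₗ[ℚ] A) ^ (n + 1)) x = ((D : A →ₗ[ℚ] A) ^ n) (D x) := by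
  rw [pow_succ]; rfl

theorem pow_succ_apply' (n : ℕ) (x : A) : ((D : A →ₗ[ℚ] A) ^ (n + 1)) x = D (((D : A →ₗ[ℚ] A) ^ n) x) := by
  rw [pow_succ']; rfl

theorem pow_eq_zero_of_le {n N : ℕ} (h : N ≤ n) {x : A} (hx : ((D : A →ₗ[ℚ] A) ^ N) x = 0) : ((D : A →ₗ[ℚ] A) ^ n) x = 0 := by
  rw [← Nat.sub_add_cancel h, pow_add, Module.End.mul_apply, hx, map_zero]

variable (hnil : ∀ x : A, ∃ n : ℕ, ((D : A →ₗ[ℚ] A) ^ n) x = 0)

/-- The Taylor expansion along the slice. -/
noncomputable def taylor (x : A) : Polynomial (A ⧸ Ideal.span ({a} : Set A)) :=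
  ∑ n ∈ Finset.range (hnil x).choose,
    ((n.factorial : ℚ)⁻¹ • C (Ideal.Quotient.mk (Ideal.span ({a} : Set A)) (((D : A →ₗ[ℚ] A) ^ n) x))) * X ^ n

theorem coeff_taylor (x : A) (n : ℕ) : (taylor D a hnil x).coeff n =
    (n.factorial : ℚ)⁻¹ • Ideal.Quotient.mk (Ideal.span ({a} : Set A)) (((D : A →ₗ[ℚ] A) ^ n) x) := by
  simp only [taylor, finsetSum_coeff, smul_C, coeff_C_mul_X_pow]
  rw [Finset.sum_ite_eq]
  split_ifs with h
  · rfl
  · rw [pow_eq_zero_of_le D (not_lt.mp (fun h' => h (Finset.mem_range.mpr h'))) (hnil x).choose_spec,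
      map_zero, smul_zero]

theorem ext_of_derivative {p q : Polynomial (A ⧸ Ideal.span ({a} : Set A))} (h0 : p.coeff 0 = q.coeff 0)
    (h1 : derivative p = derivative q) : p = q := by
  ext n
  rcases n with _ | n
  · exact h0
  · have := congrArg (fun r : Polynomial (A ⧸ Ideal.span ({a} : Set A)) => r.coeff n) h1
    simp only [coeff_derivative] at this
    have hu : IsUnit ((n : (A ⧸ Ideal.span ({a} : Set A))) + 1) := by
      have h : IsUnit ((n : ℚ) + 1) := isUnit_iff_ne_zero.mpr n.cast_add_one_ne_zero
      simpa using h.map (algebraMap ℚ (A ⧸ Ideal.span ({a} : Set A)))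
    exact hu.mul_left_injective this

theorem derivative_taylor (x : A) : derivative (taylor D a hnil x) = taylor D a hnil (D x) := by
  ext n
  rw [coeff_derivative, coeff_taylor, coeff_taylor, pow_succ_apply]
  rw [show ((n : (A ⧸ Ideal.span ({a} : Set A))) + 1) = algebraMap ℚ (A ⧸ Ideal.span ({a} : Set A)) ((n : ℚ) + 1) by simp, Algebra.smul_def, Algebra.smul_def,
    mul_right_comm, ← map_mul]
  congr 2
  rw [Nat.factorial_succ, Nat.cast_mul, mul_inv, Nat.cast_succ, mul_comm ((n : ℚ) + 1)⁻¹,
    mul_assoc, inv_mul_cancel₀ n.cast_add_one_ne_zero, mul_one]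

theorem coeff_zero_taylor (x : A) :
    (taylor D a hnil x).coeff 0 = Ideal.Quotient.mk (Ideal.span ({a} : Set A)) x := by
  simp [coeff_taylor]

theorem taylor_add (x y : A) : taylor D a hnil (x + y) = taylor D a hnil x + taylor D a hnil y := by
  ext n; simp [coeff_taylor, map_add, smul_add]

theorem taylor_zero : taylor D a hnil 0 = 0 := by
  ext n; simp [coeff_taylor]

theorem taylor_mul (x y : A) : taylor D a hnil (x * y) = taylor D a hnil x * taylor D a hnil y := by
  suffices h : ∀ s i j x y, i + j = s → ((D : A →ₗ[ℚ] A) ^ i) x = 0 → ((D : A →ₗ[ℚ] A) ^ j) y = 0 →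
      taylor D a hnil (x * y) = taylor D a hnil x * taylor D a hnil y from
    h _ _ _ x y rfl (hnil x).choose_spec (hnil y).choose_spec
  intro s
  induction s with
  | zero =>
    intro i j x y hij hx hy
    obtain ⟨rfl, rfl⟩ : i = 0 ∧ j = 0 := by omega
    simp only [pow_zero, Module.End.one_apply] at hx
    subst hx
    simp [taylor_zero]
  | succ s ih =>
    intro i j x y hij hx hy
    rcases i with _ | i
    · simp only [pow_zero, Module.End.one_apply] at hx
      subst hx
      simp [taylor_zero]
    rcases j with _ | j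
    · simp only [pow_zero, Module.End.one_apply] at hy
      subst hy
      simp [taylor_zero]
    refine ext_of_derivative a ?_ ?_
    · rw [mul_coeff_zero, coeff_zero_taylor, coeff_zero_taylor, coeff_zero_taylor, map_mul]
    · rw [derivative_taylor, derivative_mul, derivative_taylor, derivative_taylor, Derivation.leibniz,
        smul_eq_mul, smul_eq_mul, taylor_add,
        ih (i + 1) j x (D y) (by omega) hx (by rw [← pow_succ_apply]; exact hy),
        ih (j + 1) i y (D x) (by omega) hy (by rw [← pow_succ_apply]; exact hx)]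
      ring

/-- The projection onto the constants along the slice. -/
def proj (N : ℕ) (x : A) : A :=
  ∑ n ∈ Finset.range N, (((-1 : ℚ) ^ n * (n.factorial : ℚ)⁻¹) • ((((D : A →ₗ[ℚ] A) ^ n) x) * a ^ n))

theorem derivation_proj (ha : D a = 1) {N : ℕ} {x : A} (hx : ((D : A →ₗ[ℚ] A) ^ N) x = 0) :
    D (proj D a N x) = 0 := by
  have h : ∀ M, D (proj D a (M + 1) x) =
      ((-1 : ℚ) ^ M * (M.factorial : ℚ)⁻¹) • ((((D : A →ₗ[ℚ] A) ^ (M + 1)) x) * a ^ M) := by
    intro M
    induction M with
    | zero => simp [proj]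
    | succ M ih =>
      simp only [proj] at ih ⊢
      rw [Finset.sum_range_succ, map_add, ih, Derivation.map_smul, Derivation.leibniz,
        Derivation.leibniz_pow, ha, Nat.add_sub_cancel, ← pow_succ_apply' D (M + 1) x]
      simp only [smul_eq_mul, mul_one, nsmul_eq_mul, Algebra.smul_def, map_mul, Nat.factorial_succ,
        Nat.cast_mul, mul_inv, pow_succ (-1 : ℚ), map_neg, map_one]
      have hc : algebraMap ℚ A (((M + 1 : ℕ) : ℚ)⁻¹) * ((M + 1 : ℕ) : A) = 1 := by
        rw [← map_natCast (algebraMap ℚ A), ← map_mul,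
          inv_mul_cancel₀ (Nat.cast_ne_zero.mpr M.succ_ne_zero), map_one]
      linear_combination (algebraMap ℚ A ((-1) ^ M) * algebraMap ℚ A (M.factorial : ℚ)⁻¹ *
        ((D : A →ₗ[ℚ] A) ^ (M + 1)) x * a ^ M * (-1)) * hc
  rcases N with _ | N
  · simp [proj]
  · rw [h, hx, zero_mul, smul_zero]

theorem mk_proj {N : ℕ} {x : A} (hx : ((D : A →ₗ[ℚ] A) ^ N) x = 0) :
    Ideal.Quotient.mk (Ideal.span ({a} : Set A)) (proj D a N x) =
      Ideal.Quotient.mk (Ideal.span ({a} : Set A)) x := by
  rcases N with _ | N
  · simp only [pow_zero, Module.End.one_apply] at hx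
    simp [proj, hx]
  · rw [proj, Finset.sum_range_succ', map_add, map_sum, Finset.sum_eq_zero, zero_add]
    · simp
    · intro n _
      rw [Ideal.Quotient.eq_zero_iff_mem]
      rw [Algebra.smul_def, pow_succ a n, ← mul_assoc, ← mul_assoc]
      exact Ideal.mul_mem_left _ _ (Ideal.subset_span rfl)

theorem taylor_injective (ha : D a = 1) (x : A) (h : taylor D a hnil x = 0) : x = 0 := by
  suffices ∀ N x, ((D : A →ₗ[ℚ] A) ^ N) x = 0 → (∀ n, ((D : A →ₗ[ℚ] A) ^ n) x ∈ Ideal.span ({a} : Set A)) → x = 0 by
    refine this _ x (hnil x).choose_spec fun n => ?_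
    have h1 := congrArg (fun r : Polynomial (A ⧸ Ideal.span ({a} : Set A)) => r.coeff n) h
    simp only [coeff_taylor, coeff_zero] at h1
    rw [smul_eq_zero_iff_right (inv_ne_zero (Nat.cast_ne_zero.mpr n.factorial_ne_zero))] at h1
    rwa [← Ideal.Quotient.eq_zero_iff_mem]
  intro N
  induction N with
  | zero => intro x hx _; simpa using hx
  | succ N ih =>
    intro x hx hmem
    have hDx : D x = 0 := ih (D x) (by rw [← pow_succ_apply]; exact hx) fun n => by
      rw [← pow_succ_apply]; exact hmem _
    obtain ⟨y, hy⟩ := Ideal.mem_span_singleton'.mp (hmem 0)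
    simp only [pow_zero, Module.End.one_apply] at hy
    subst hy
    have h0 : y + a * D y = 0 := by
      rw [Derivation.leibniz, ha, smul_eq_mul, smul_eq_mul, mul_one] at hDx
      exact hDx
    have hj : ∀ j : ℕ, ((D : A →ₗ[ℚ] A) ^ j) (a * D y) = a * ((D : A →ₗ[ℚ] A) ^ (j + 1)) y + (j : A) * ((D : A →ₗ[ℚ] A) ^ j) y := by
      intro j
      induction j with
      | zero => simp
      | succ j ihj =>
        rw [pow_succ_apply' D j, ihj, map_add, Derivation.leibniz, Derivation.leibniz, ha,
          Derivation.map_natCast, ← pow_succ_apply' D (j + 1), ← pow_succ_apply' D j]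
        simp only [smul_eq_mul, mul_zero, Nat.cast_succ]
        ring
    have hstep : ∀ M, ((D : A →ₗ[ℚ] A) ^ M) y = 0 → y = 0 := by
      intro M
      induction M with
      | zero => intro h; simpa using h
      | succ M ihM =>
        intro hM
        refine ihM ?_
        have := congrArg ⇑((D : A →ₗ[ℚ] A) ^ M) h0
        rw [map_add, hj, hM, mul_zero, zero_add, map_zero] at this
        have hu : IsUnit ((M : A) + 1) := by
          have h : IsUnit ((M : ℚ) + 1) := isUnit_iff_ne_zero.mpr M.cast_add_one_ne_zero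
          simpa using h.map (algebraMap ℚ A)
        exact hu.mul_right_eq_zero.mp (by linear_combination this)
    rw [hstep _ (hnil y).choose_spec, zero_mul]

theorem taylor_const (x : A) (hx : D x = 0) :
    taylor D a hnil x = C (Ideal.Quotient.mk (Ideal.span ({a} : Set A)) x) := by
  refine ext_of_derivative a (by rw [coeff_zero_taylor, coeff_C_zero]) ?_
  rw [derivative_taylor, hx, taylor_zero, derivative_C]

theorem taylor_one : taylor D a hnil 1 = 1 := by
  rw [taylor_const D a hnil 1 D.map_one_eq_zero, map_one, map_one]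

theorem taylor_slice (ha : D a = 1) : taylor D a hnil a = X := by
  refine ext_of_derivative a ?_ ?_
  · rw [coeff_zero_taylor, coeff_X_zero, Ideal.Quotient.eq_zero_iff_mem]
    exact Ideal.subset_span rfl
  · rw [derivative_taylor, ha, derivative_X, taylor_one]

/-- The Taylor expansion as a ring homomorphism. -/
noncomputable def taylorHom : A →+* Polynomial (A ⧸ Ideal.span ({a} : Set A)) where
  toFun := taylor D a hnil
  map_one' := taylor_one D a hnil
  map_mul' := taylor_mul D a hnil
  map_zero' := taylor_zero D a hnil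
  map_add' := taylor_add D a hnil

end


/-- Let A be a commutative algebra over the rationals, D a locally nilpotent derivation of A and a an
element with D a = 1; write A' for the quotient of A by the ideal generated by a. Then there is a
ring isomorphism from A onto the polynomial ring A'[Y] which sends every x to the (finite) sum over
n of (1/n!) (class of D^n x) Y^n; its inverse sends Y to a and the constant polynomial on the class
of x to the sum over n of ((-1)^n/n!) (D^n x) a^n, and under it D corresponds to the derivative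
d/dY. (The source says only that A is a ring, in a setting over a field of characteristic zero; the
rational coefficients 1/n! require an algebra over the rationals, which is the hypothesis taken
here. Both sums are written over any range beyond which the iterates of D vanish at x.) -/
theorem result
    (A : Type u) [CommRing A] [Algebra ℚ A] (D : Derivation ℚ A A)
    (hnil : ∀ x : A, ∃ n : ℕ, ((D : A →ₗ[ℚ] A) ^ n) x = 0) (a : A) (ha : D a = 1) :
    ∃ χ : A ≃+* Polynomial (A ⧸ Ideal.span ({a} : Set A)),
      (∀ (x : A) (N : ℕ), ((D : A →ₗ[ℚ] A) ^ N) x = 0 →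
        χ x = ∑ n ∈ Finset.range N,
          ((n.factorial : ℚ)⁻¹ • Polynomial.C (Ideal.Quotient.mk (Ideal.span ({a} : Set A)) (((D : A →ₗ[ℚ] A) ^ n) x))) *
            Polynomial.X ^ n) ∧
      χ.symm Polynomial.X = a ∧
      (∀ (x : A) (N : ℕ), ((D : A →ₗ[ℚ] A) ^ N) x = 0 →
        χ.symm (Polynomial.C (Ideal.Quotient.mk (Ideal.span ({a} : Set A)) x)) =
          ∑ n ∈ Finset.range N, (((-1 : ℚ) ^ n * (n.factorial : ℚ)⁻¹) • ((((D : A →ₗ[ℚ] A) ^ n) x) * a ^ n))) ∧
      ∀ p : Polynomial (A ⧸ Ideal.span ({a} : Set A)), χ (D (χ.symm p)) = Polynomial.derivative p := by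

  have hproj : ∀ (x : A) (N : ℕ), ((D : A →ₗ[ℚ] A) ^ N) x = 0 →
      taylorHom D a hnil (proj D a N x) =
        Polynomial.C (Ideal.Quotient.mk (Ideal.span ({a} : Set A)) x) := fun x N hx => by
    show taylor D a hnil _ = _
    rw [taylor_const D a hnil _ (derivation_proj D a ha hx), mk_proj D a hx]
  have hbij : Function.Bijective (taylorHom D a hnil) := by
    refine ⟨(injective_iff_map_eq_zero _).mpr (taylor_injective D a hnil ha), fun p => ?_⟩
    show p ∈ (taylorHom D a hnil).range
    induction p using Polynomial.induction_on with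
    | C b =>
      obtain ⟨x, rfl⟩ := Ideal.Quotient.mk_surjective b
      exact ⟨_, hproj x _ (hnil x).choose_spec⟩
    | add p q hp hq => exact add_mem hp hq
    | monomial n b h =>
      rw [pow_succ, ← mul_assoc]
      exact mul_mem h ⟨a, taylor_slice D a hnil ha⟩
  refine ⟨RingEquiv.ofBijective _ hbij, fun x N hx => ?_, ?_, fun x N hx => ?_, fun p => ?_⟩
  · show taylor D a hnil x = _
    ext n
    simp only [coeff_taylor, Polynomial.finsetSum_coeff, Polynomial.smul_C, Polynomial.coeff_C_mul_X_pow]
    rw [Finset.sum_ite_eq]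
    split_ifs with h
    · rfl
    · rw [pow_eq_zero_of_le D (not_lt.mp (fun h' => h (Finset.mem_range.mpr h'))) hx, map_zero,
        smul_zero]
  · rw [RingEquiv.symm_apply_eq]
    exact (taylor_slice D a hnil ha).symm
  · rw [RingEquiv.symm_apply_eq]
    exact (hproj x N hx).symm
  · have h := derivative_taylor D a hnil ((RingEquiv.ofBijective _ hbij).symm p)
    rw [show taylor D a hnil ((RingEquiv.ofBijective _ hbij).symm p) = p from
      (RingEquiv.ofBijective _ hbij).apply_symm_apply p] at h
    exact h.symm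

end Groth.Agent.S18974
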