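import Groth.Statements.S18977
import Groth.Agent.Special44.Extension

set_option autoImplicit false
set_option linter.style.haveILetI false
set_option backward.isDefEq.respectTransparency false
set_option backward.isDefEq.respectTransparency.types false
universe u
open CategoryTheory MonoidalCategory CartesianMonoidalCategory MonObj AlgebraicGeometry
open GIT

namespace Groth.Agent.S18977
open QBal44

/-- Composition of torsors. Over an algebraically closed field k of characteristic zero, let G be an
affine group scheme of finite type over k, N a closed normal subgroup scheme which is the kernel of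
a homomorphism q : G → Q, and H a closed subgroup scheme of G which q maps isomorphically onto Q (so
G is the inner semidirect product N H). Let G act on a k-scheme X and let φ₁ : X → Y be a torsor
over Y under the restricted action of N (the square formed by the N-action, the second projection
and φ₁ twice is cartesian, and φ₁ acquires sections on the members of some fpqc covering family of
Y); let Q act on Y so that φ₁ is equivariant along q, and let φ₂ : Y → Z be a Q-torsor over Z in the
same sense. Then φ₂ ∘ φ₁ is a G-torsor over Z: the square formed by the G-action, the second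
projection and φ₂ ∘ φ₁ twice is cartesian, and φ₂ ∘ φ₁ acquires sections fpqc-locally on Z. (The
induced action of the factor group on Y is taken as a datum together with the equivariance of φ₁;
the source's second assertion, that the composite of trivial torsors is trivial, amounts to
composing sections and is not restated.) -/
theorem result
    (k : Type u) [Field k] [IsAlgClosed k] [CharZero k]
    (G N Q H X Y Z : Over (Spec (CommRingCat.of k))) [GrpObj G] [GrpObj N] [GrpObj Q] [GrpObj H]
    [IsAffine G.left] [LocallyOfFiniteType G.hom]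
    (iN : N ⟶ G) [IsMonHom iN] [IsClosedImmersion iN.left] (hnorm : AlgGrp.IsNormalHom iN)
    (q : G ⟶ Q) [IsMonHom q] (hker : AlgGrp.IsKernel iN q)
    (iH : H ⟶ G) [IsMonHom iH] [IsClosedImmersion iH.left] [IsIso (iH ≫ q)]
    (a : AlgGrp.Action G X) (φ₁ : X ⟶ Y)
    (h₁ : IsPullback (a.restrict iN).act (snd N X) φ₁ φ₁)
    (h₁loc : NonAbH1.IsLocallyTrivialFor Scheme.fpqcPrecoverage (Over.mk φ₁.left : Over Y.left))
    (aY : AlgGrp.Action Q Y) (hequiv : (q ⊗ₘ φ₁) ≫ aY.act = a.act ≫ φ₁)
    (φ₂ : Y ⟶ Z) (h₂ : IsPullback aY.act (snd Q Y) φ₂ φ₂)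
    (h₂loc : NonAbH1.IsLocallyTrivialFor Scheme.fpqcPrecoverage (Over.mk φ₂.left : Over Z.left)) :
    IsPullback a.act (snd G X) (φ₁ ≫ φ₂) (φ₁ ≫ φ₂) ∧
      NonAbH1.IsLocallyTrivialFor Scheme.fpqcPrecoverage (Over.mk (φ₁ ≫ φ₂).left : Over Z.left) := by
  have heq : ∀ {W : Over (Spec (CommRingCat.of k))} (g : W ⟶ G) (x : W ⟶ X),
      app a g x ≫ φ₁ = app aY (g ≫ q) (x ≫ φ₁) := fun g x => by
    rw [app, app, Category.assoc, ← hequiv, ← Category.assoc (lift g x), lift_map]
  obtain ⟨σ, hσ⟩ : ∃ σ : Q ⟶ G, σ ≫ q = 𝟙 Q := ⟨inv (iH ≫ q) ≫ iH, by rw [Category.assoc, IsIso.inv_hom_id]⟩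
  haveI : Mono iN := Over.mono_of_mono_left iN
  have hiq : iN ≫ q = toUnit N ≫ η[Q] := hker.w
  refine ⟨isPullback_of_points ?_ fun {W} x' x e => ?_, ?_⟩
  · rw [← Category.assoc, ← hequiv, Category.assoc, h₂.w, ← Category.assoc, tensorHom_snd, Category.assoc]
  · obtain ⟨h, hh, -⟩ := existsUnique_translate h₂ (x ≫ φ₁) (x' ≫ φ₁) (by simpa using e.symm)
    obtain ⟨g₀, hg₀⟩ : ∃ g₀ : W ⟶ G, g₀ ≫ q = h := ⟨h ≫ σ, by rw [Category.assoc, hσ, Category.comp_id]⟩
    obtain ⟨n, hn, -⟩ := existsUnique_translate h₁ (app a g₀ x) x' (by rw [heq, hg₀, hh])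
    rw [app, a.lift_restrict_act iN] at hn
    refine ⟨lift ((n ≫ iN) * g₀) x, ⟨?_, lift_snd _ _⟩, ?_⟩
    · rw [a.lift_mul_act]; exact hn
    · rintro m ⟨m1, m2⟩
      have em : m = lift (m ≫ fst G X) x := by rw [← m2, ← comp_lift, lift_fst_snd, Category.comp_id]
      rw [em]
      congr 1
      rw [em] at m1
      let g' := (n ≫ iN) * g₀
      have e' : app a g' x = x' := by rw [app, a.lift_mul_act]; exact hn
      change m ≫ fst G X = g'
      have hq1 : ((m ≫ fst G X) * g'⁻¹) ≫ q = 1 := by
        rw [MonObj.mul_comp, GrpObj.inv_comp, mul_inv_eq_one]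
        refine app_inj h₂ (x ≫ φ₁) ?_
        rw [← heq, ← heq, e']
        exact congrArg (· ≫ φ₁) m1
      obtain ⟨n', hn'⟩ : ∃ n' : W ⟶ N, n' ≫ iN = (m ≫ fst G X) * g'⁻¹ :=
        ⟨hker.lift _ (toUnit W) (by rw [hq1, Hom.one_def]), hker.lift_fst _ _ _⟩
      have h1 : n' = 1 := app_inj h₁ x' (by
        rw [app, a.lift_restrict_act iN, hn', app, (a.restrict iN).lift_one_act]
        nth_rw 1 [← e']
        rw [app, ← a.lift_mul_act, inv_mul_cancel_right]
        exact m1)
      rw [h1, MonObj.one_comp, eq_comm, mul_inv_eq_one] at hn'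
      exact hn'
  · exact Special44.loc_comp h₁loc h₂loc

end Groth.Agent.S18977
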