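import Groth.Prelude.Def_W4c6nonredquotmfGoodQuot
import Groth.Prelude.Def_W4bk4git07Quot
import Groth.Prelude.Def_AlgGrp
import Groth.Prelude.Def_Red
import Mathlib.AlgebraicGeometry.Morphisms.Affine
import Mathlib.AlgebraicGeometry.Morphisms.FiniteType
import Mathlib.AlgebraicGeometry.Morphisms.Smooth
import Mathlib.AlgebraicGeometry.Morphisms.ClosedImmersion
import Mathlib.FieldTheory.IsAlgClosed.Basic
import Mathlib.Topology.Maps.Basic
import Mathlib.CategoryTheory.Monoidal.Cartesian.Over
import Mathlib.CategoryTheory.Monoidal.Cartesian.Grp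
import Groth.Agent.Ros99.Orbit
import Groth.Agent.GoodQuot99.ClosedOrbit
-- import your own Groth.Agent.* helpers here

set_option autoImplicit false
universe u
open CategoryTheory MonoidalCategory CartesianMonoidalCategory MonObj AlgebraicGeometry Topology
open NRQuot

namespace Groth.Agent.S18982

open Groth.Agent.GoodQuot99

/-- Orbits of a unipotent group in an invariant fibre of an affine morphism are closed. -/
theorem isClosed_orbit {k : Type u} [Field k] [IsAlgClosed k] {G X Y : Over (Spec (CommRingCat.of k))}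
    [GrpObj G] [IsAffine G.left] [LocallyOfFiniteType G.hom] [Smooth G.hom] [ConnectedSpace G.left]
    (hG : Red.HasNoSubtorus k G) [LocallyOfFiniteType X.hom] {a : AlgGrp.Action G X} {φ : X ⟶ Y}
    [IsAffineHom φ.left] (h : GIT.IsInvariant a φ)
    (x : 𝟙_ (Over (Spec (CommRingCat.of k))) ⟶ X) :
    IsClosed (Set.range (a.orbitMap x).left.base) := by
  let y := x ≫ φ
  have hclo : IsClosed ({pt y} : Set Y.left) :=
    isClosed_of_closure_subset fun z hz => eq_of_mem_closure y hz
  obtain ⟨V, hV, hyV, -⟩ := exists_isAffineOpen_mem_and_subset (X := Y.left) (x := pt y) (U := ⊤) trivial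
  let W : X.left.Opens := φ.left ⁻¹ᵁ V
  haveI : IsAffine W.toScheme := hV.preimage φ.left
  let Z : Over (Spec (CommRingCat.of k)) := Over.mk (W.ι ≫ X.hom)
  haveI : IsAffine Z.left := ‹IsAffine W.toScheme›
  haveI : LocallyOfFiniteType Z.hom := inferInstanceAs (LocallyOfFiniteType (W.ι ≫ X.hom))
  let j : Z ⟶ X := Over.homMk W.ι rfl
  haveI : IsOpenImmersion j.left := inferInstanceAs (IsOpenImmersion W.ι)
  haveI : Mono j := Over.mono_of_mono_left j
  -- lifting morphisms into the piece
  have hlift : ∀ {T : Over (Spec (CommRingCat.of k))} (f : T ⟶ X),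
      (∀ p, φ.left.base (f.left.base p) ∈ V) → ∃ l : T ⟶ Z, l ≫ j = f := by
    intro T f hf
    have hr : Set.range f.left ⊆ Set.range j.left := by
      rintro _ ⟨p, rfl⟩
      show f.left p ∈ Set.range W.ι
      rw [Scheme.Opens.range_ι]
      exact hf p
    refine ⟨Over.homMk (IsOpenImmersion.lift j.left f.left hr) ?_, Over.OverMorphism.ext ?_⟩
    · show IsOpenImmersion.lift j.left f.left hr ≫ j.left ≫ X.hom = T.hom
      rw [IsOpenImmersion.lift_fac_assoc]
      exact Over.w f
    · exact IsOpenImmersion.lift_fac j.left f.left hr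
  have hinv : ∀ {T : Over (Spec (CommRingCat.of k))} (g : T ⟶ G) (z : T ⟶ X),
      (lift g z ≫ a.act) ≫ φ = z ≫ φ := fun g z => by
    have e : a.act ≫ φ = snd G X ≫ φ := h
    rw [Category.assoc, e, lift_snd_assoc]
  haveI : Subsingleton ↥(Spec (CommRingCat.of k)) := inferInstanceAs (Subsingleton (PrimeSpectrum k))
  have horb : ∀ g, φ.left.base ((a.orbitMap x).left.base g) = pt y := fun g => by
    have e : a.orbitMap x ≫ φ = toUnit G ≫ y := by
      rw [← Category.id_comp (a.orbitMap x), AlgGrp79.comp_orbitMap, hinv, Category.assoc]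
    refine (congr($(congrArg CommaMorphism.left e).base g)).trans ?_
    show y.left.base ((toUnit G).left.base g) = _
    rw [Subsingleton.elim (α := ↥(Spec (CommRingCat.of k))) ((toUnit G).left.base g) (IsLocalRing.closedPoint k)]
  obtain ⟨ω, hω⟩ := hlift (ι[G] ≫ a.orbitMap x) fun p => by
    rw [Over.comp_left, Scheme.Hom.comp_apply, horb]; exact hyV
  obtain ⟨b, hb⟩ := hlift (lift (snd Z G ≫ ι[G]) (fst Z G ≫ j) ≫ a.act) fun p => by
    have e := congr($(congrArg CommaMorphism.left (hinv (snd Z G ≫ ι[G]) (fst Z G ≫ j))).base p)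
    refine Set.mem_of_eq_of_mem (y := φ.left.base (j.left.base ((fst Z G).left.base p))) e ?_
    exact ((fst Z G).left.base p : W.toScheme).2
  have heq : μ[G] ≫ ω = (ω ⊗ₘ 𝟙 G) ≫ b := by
    rw [← cancel_mono j, Category.assoc, Category.assoc, hω, hb, comp_lift_assoc,
      tensorHom_fst_assoc, tensorHom_snd_assoc, Category.id_comp, hω, ← Category.assoc μ[G],
      AlgGrp79.comp_orbitMap, AlgGrp79.comp_orbitMap]
    have e1 : μ[G] ≫ ι[G] = (snd G G ≫ ι[G]) * (fst G G ≫ ι[G]) := by
      rw [← Hom.inv_def, ← Hom.inv_def, ← Hom.inv_def, ← mul_inv_rev]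
      congr 1
      rw [Hom.mul_def, lift_fst_snd, Category.id_comp]
    rw [e1, AlgGrp79.mul_act']
    congr 2
    rw [← AlgGrp79.comp_orbitMap, ← AlgGrp79.comp_orbitMap, Category.assoc]
  have hcl := Ros99.isClosed_range_of_equivariant hG ω b heq
  have hrange : Set.range (a.orbitMap x).left.base =
      φ.left.base ⁻¹' {pt y} ∩ j.left.base '' Set.range ω.left.base := by
    have hi : Function.Surjective (ι[G] : G ⟶ G).left.base := by
      have : IsIso (ι[G] : G ⟶ G) := inferInstance
      exact ((Over.forget _).mapIso (asIso (ι[G] : G ⟶ G))).hom.homeomorph.surjective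
    ext z
    constructor
    · rintro ⟨g, rfl⟩
      obtain ⟨g', rfl⟩ := hi g
      exact ⟨horb _, ω.left.base g', ⟨g', rfl⟩, congr($(congrArg CommaMorphism.left hω).base g')⟩
    · rintro ⟨-, _, ⟨g', rfl⟩, rfl⟩
      exact ⟨(ι[G] : G ⟶ G).left.base g', (congr($(congrArg CommaMorphism.left hω).base g')).symm⟩
  obtain ⟨C, hC, hCeq⟩ := (j.left.isOpenEmbedding.isInducing.isClosed_iff).1 hcl
  have : φ.left.base ⁻¹' {pt y} ∩ j.left.base '' Set.range ω.left.base = φ.left.base ⁻¹' {pt y} ∩ C := by
    rw [← hCeq, Set.image_preimage_eq_inter_range]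
    ext z
    refine ⟨fun hz => ⟨hz.1, hz.2.1⟩, fun hz => ⟨hz.1, hz.2, ?_⟩⟩
    show z ∈ Set.range W.ι
    rw [Scheme.Opens.range_ι]
    show φ.left.base z ∈ V
    rw [hz.1]; exact hyV
  rw [hrange, this]
  exact (hclo.preimage φ.left.continuous).inter hC

/-- Fix an algebraically closed field k with characteristic zero. Suppose G is a unipotent group,
meaning an affine, smooth, connected group scheme of finite type over k with no non-trivial
subtorus, and that G acts on a finite-type k-scheme X. Assume φ : X → Y is a good quotient (φ is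
affine and invariant; for each open subset of Y, its functions are precisely the invariant functions
on the preimage; images of invariant closed subsets are closed; and taking images commutes with
intersecting families of invariant closed subsets), where Y is a finite-type k-scheme. Then φ is in
fact a geometric quotient, i.e. its fibres are orbits, which on k-points says: whenever two k-points
of X map to the same point of Y, some k-point of G carries one onto the other. (Unipotence is
encoded as the absence of a non-trivial subtorus; for smooth connected groups over k the two notions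
agree.) -/
theorem result
    (k : Type u) [Field k] [IsAlgClosed k] [CharZero k]
    (G X Y : Over (Spec (CommRingCat.of k))) [GrpObj G] [IsAffine G.left] [LocallyOfFiniteType G.hom]
    [Smooth G.hom] [ConnectedSpace G.left] (hG : Red.HasNoSubtorus k G)
    [LocallyOfFiniteType X.hom] [QuasiCompact X.hom] [LocallyOfFiniteType Y.hom] [QuasiCompact Y.hom]
    (a : AlgGrp.Action G X) (φ : X ⟶ Y) (h : NRQuot.IsGoodQuot a φ)
    (x₁ x₂ : 𝟙_ (Over (Spec (CommRingCat.of k))) ⟶ X) (hφ : x₁ ≫ φ = x₂ ≫ φ) :
    ∃ g : 𝟙_ (Over (Spec (CommRingCat.of k))) ⟶ G, lift g x₁ ≫ a.act = x₂ := by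
  haveI : IsAffineHom φ.left := h.affine
  exact GoodQuot99.exists_act_eq_of_isClosed h x₁ x₂ hφ (isClosed_orbit hG h.inv x₁) (isClosed_orbit hG h.inv x₂)


end Groth.Agent.S18982
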