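import Groth.Statements.S18983
import Mathlib.Algebra.DirectSum.Decomposition
import Mathlib.Algebra.DirectSum.Module
import Mathlib.LinearAlgebra.Basis.VectorSpace
import Mathlib.LinearAlgebra.FiniteDimensional.Basic
import Mathlib.Data.Fintype.BigOperators
import Mathlib.RingTheory.Nilpotent.Basic
import Mathlib.Algebra.BigOperators.Fin
import Mathlib.LinearAlgebra.FiniteDimensional.Lemmas

set_option autoImplicit false
universe u v w
open CAlg

namespace Groth.Agent.S18983


section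
open DirectSum
variable {k : Type u} [Field k] {Λ : Type v} [AddCommGroup Λ] [DecidableEq Λ]
  {V : Type w} [AddCommGroup V] [Module k V] [FiniteDimensional k V]
  (𝒱 : Λ → Submodule k V) [DirectSum.Decomposition 𝒱] (A : Module.End k V) (χ : Λ)

/-- The homogeneous component of a vector. -/
noncomputable def comp (μ : Λ) : V →ₗ[k] V :=
  (𝒱 μ).subtype ∘ₗ (DirectSum.component k Λ (fun i => 𝒱 i) μ) ∘ₗ (DirectSum.decomposeLinearEquiv 𝒱).toLinearMap

theorem comp_mem (μ : Λ) (v : V) : comp 𝒱 μ v ∈ 𝒱 μ := (DirectSum.decompose 𝒱 v μ).2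

theorem comp_same {μ : Λ} {v : V} (hv : v ∈ 𝒱 μ) : comp 𝒱 μ v = v :=
  DirectSum.decompose_of_mem_same 𝒱 hv

theorem comp_ne {μ ν : Λ} {v : V} (hv : v ∈ 𝒱 μ) (h : μ ≠ ν) : comp 𝒱 ν v = 0 :=
  DirectSum.decompose_of_mem_ne 𝒱 hv h

theorem map_comp_eq (hhom : ∀ (μ : Λ) (v : V), v ∈ 𝒱 μ → A v ∈ 𝒱 (μ + χ)) (μ : Λ) (v : V) :
    A (comp 𝒱 μ v) = comp 𝒱 (μ + χ) (A v) := by
  induction v using DirectSum.Decomposition.inductionOn 𝒱 with
  | zero => simp
  | homogeneous v =>
    rename_i i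
    rcases eq_or_ne i μ with rfl | h
    · rw [comp_same 𝒱 v.2, comp_same 𝒱 (hhom _ _ v.2)]
    · rw [comp_ne 𝒱 v.2 h, comp_ne 𝒱 (hhom _ _ v.2) (fun e => h (add_right_cancel e)), map_zero]
  | add v w hv hw => rw [map_add, map_add, map_add, map_add, hv, hw]

/-- The Jordan basis of a homogeneous invariant subspace. -/
theorem exists_chains (hhom : ∀ (μ : Λ) (v : V), v ∈ 𝒱 μ → A v ∈ 𝒱 (μ + χ)) (hA : IsNilpotent A)
    (W : Submodule k V) (hW : ∀ μ, ∀ w ∈ W, comp 𝒱 μ w ∈ W) (hinv : ∀ w ∈ W, A w ∈ W) :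
    ∃ (ι : Type w) (_ : Fintype ι) (n : ι → ℕ) (e : (Σ i : ι, Fin (n i + 1)) → V),
      (∀ p, ∃ μ, e p ∈ 𝒱 μ) ∧ (∀ i, A (e ⟨i, 0⟩) = 0) ∧
      (∀ i (l : Fin (n i)), A (e ⟨i, l.succ⟩) = e ⟨i, l.castSucc⟩) ∧
      LinearIndependent k e ∧ Submodule.span k (Set.range e) = W := by
  classical
  induction hd : Module.finrank k W using Nat.strong_induction_on generalizing W with
  | _ d ih =>
  rcases eq_or_ne W ⊥ with rfl | hWne
  · exact ⟨PEmpty, inferInstance, fun x => x.elim, fun p => p.1.elim, fun p => p.1.elim,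
      fun x => x.elim, fun x => x.elim, linearIndependent_empty_type, by simp⟩
  have hUle : W.map A ≤ W := Submodule.map_le_iff_le_comap.mpr hinv
  have hUlt : W.map A < W := by
    refine lt_of_le_of_ne hUle fun h => hWne ?_
    obtain ⟨N, hN⟩ := hA
    have : ∀ j, W.map (A ^ j) = W := fun j => by
      induction j with
      | zero => simp [Module.End.one_eq_id]
      | succ j ihj => rw [pow_succ', Module.End.mul_eq_comp, Submodule.map_comp, ihj, h]
    rw [← this N, hN, Submodule.map_zero]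
  have hUhom : ∀ μ, ∀ u ∈ W.map A, comp 𝒱 μ u ∈ W.map A := by
    rintro μ _ ⟨w, hw, rfl⟩
    refine ⟨comp 𝒱 (μ - χ) w, hW _ _ hw, ?_⟩
    rw [map_comp_eq 𝒱 A χ hhom, sub_add_cancel]
  obtain ⟨ι, _, n, e, hehom, he0, hesucc, heli, hespan⟩ :=
    ih _ (hd ▸ Submodule.finrank_lt_finrank_of_lt hUlt) (W.map A) hUhom
      (fun u hu => Submodule.mem_map_of_mem (hUle hu)) rfl
  have heW : ∀ p, e p ∈ W := fun p => hUle (hespan ▸ Submodule.subset_span ⟨p, rfl⟩)
  have hlift : ∀ i, ∃ f ∈ W, (∃ μ, f ∈ 𝒱 μ) ∧ A f = e ⟨i, Fin.last (n i)⟩ := by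
    intro i
    obtain ⟨μ, hμ⟩ := hehom ⟨i, Fin.last (n i)⟩
    obtain ⟨w, hw, hwe⟩ : e ⟨i, Fin.last (n i)⟩ ∈ W.map A :=
      hespan ▸ Submodule.subset_span ⟨⟨i, Fin.last (n i)⟩, rfl⟩
    refine ⟨comp 𝒱 (μ - χ) w, hW _ _ hw, ⟨_, comp_mem 𝒱 _ _⟩, ?_⟩
    rw [map_comp_eq 𝒱 A χ hhom, sub_add_cancel, hwe, comp_same 𝒱 hμ]
  choose f hfW hfhom hAf using hlift
  -- completing the bottoms to a basis of the kernel
  let K : Submodule k V := W ⊓ LinearMap.ker A
  let hom : Set V := {v | v ∈ K ∧ ∃ μ, v ∈ 𝒱 μ}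
  let bot : Set V := Set.range fun i => e ⟨i, 0⟩
  have hinj : Function.Injective (Sigma.mk · 0 : ι → Σ i : ι, Fin (n i + 1)) :=
    fun a b h => congrArg Sigma.fst h
  have hbot : LinearIndepOn k id bot := (heli.comp _ hinj).linearIndepOn_id
  have hsub : bot ⊆ hom := by
    rintro _ ⟨i, rfl⟩; exact ⟨⟨heW _, he0 i⟩, hehom _⟩
  let S : Set V := hbot.extend hsub
  have hSli : LinearIndepOn k id S := hbot.linearIndepOn_extend hsub
  have hSsub : S ⊆ hom := hbot.extend_subset hsub
  have hbotS : bot ⊆ S := hbot.subset_extend hsub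
  have hSspan : K ≤ Submodule.span k S := by
    intro v hv
    have h1 : v ∈ Submodule.span k hom := by
      rw [← DirectSum.sum_support_decompose 𝒱 v]
      refine Submodule.sum_mem _ fun μ _ => Submodule.subset_span ⟨⟨hW μ v hv.1, ?_⟩, μ, SetLike.coe_mem _⟩
      show A (comp 𝒱 μ v) = 0
      rw [map_comp_eq 𝒱 A χ hhom, show A v = 0 from hv.2, map_zero]
    exact Submodule.span_le.mpr (hbot.subset_span_extend hsub) h1
  haveI : Finite S := hSli.linearIndependent.finite
  haveI : Finite ↑(S \ bot) := Finite.Set.subset S Set.diff_subset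
  letI := Fintype.ofFinite ↑(S \ bot)
  let n' : ι ⊕ ↑(S \ bot) → ℕ := Sum.elim (fun i => n i + 1) (fun _ => 0)
  let e' : (Σ j, Fin (n' j + 1)) → V := fun p => match p with
    | ⟨Sum.inl i, l⟩ => Fin.snoc (α := fun _ => V) (fun l => e ⟨i, l⟩) (f i) l
    | ⟨Sum.inr z, _⟩ => z.1
  have he'0 : ∀ i, e' ⟨Sum.inl i, 0⟩ = e ⟨i, 0⟩ := fun i =>
    Fin.snoc_castSucc (α := fun _ => V) (x := f i) (p := fun l => e ⟨i, l⟩) 0
  have he's : ∀ i (l : Fin (n i + 1)), A (e' ⟨Sum.inl i, l.succ⟩) = e ⟨i, l⟩ := by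
    intro i l
    induction l using Fin.lastCases with
    | last => exact (congrArg A (Fin.snoc_last (α := fun _ => V) (f i) fun l => e ⟨i, l⟩)).trans (hAf i)
    | cast m =>
      exact (congrArg A (Fin.snoc_castSucc (α := fun _ => V) (x := f i) (p := fun l => e ⟨i, l⟩) m.succ)).trans
        (hesucc i m)
  have he'last : ∀ i, e' ⟨Sum.inl i, Fin.last (n' (Sum.inl i))⟩ = f i := fun i =>
    Fin.snoc_last (α := fun _ => V) (f i) fun l => e ⟨i, l⟩
  have he'cast : ∀ i (m : Fin (n' (Sum.inl i))), e' ⟨Sum.inl i, m.castSucc⟩ = e ⟨i, m⟩ := fun i m =>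
    Fin.snoc_castSucc (α := fun _ => V) (x := f i) (p := fun l => e ⟨i, l⟩) m
  refine ⟨ι ⊕ ↑(S \ bot), inferInstance, n', e', ?_, ?_, ?_, ?_, ?_⟩
  · rintro ⟨i | z, l⟩
    · induction l using Fin.lastCases with
      | last => obtain ⟨μ, h⟩ := hfhom i; exact ⟨μ, (he'last i).symm ▸ h⟩
      | cast m => obtain ⟨μ, h⟩ := hehom ⟨i, m⟩; exact ⟨μ, (he'cast i m).symm ▸ h⟩
    · exact (hSsub z.2.1).2
  · rintro (i | z)
    · rw [he'0]; exact he0 i
    · exact (hSsub z.2.1).1.2
  · rintro (i | z) l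
    · exact (he's i l).trans (he'cast i l).symm
    · exact l.elim0
  · rw [Fintype.linearIndependent_iff]
    intro c hc
    have hsplit : ∑ i, c ⟨Sum.inl i, 0⟩ • e ⟨i, 0⟩ +
        ∑ i, ∑ l : Fin (n i + 1), c ⟨Sum.inl i, l.succ⟩ • e' ⟨Sum.inl i, l.succ⟩ +
          ∑ z : ↑(S \ bot), c ⟨Sum.inr z, 0⟩ • z.1 = 0 := by
      rw [← hc, Fintype.sum_sigma, Fintype.sum_sum_type]
      congr 1
      · rw [← Finset.sum_add_distrib]
        refine Finset.sum_congr rfl fun i _ => ?_
        exact ((Fin.sum_univ_succ (n := n i + 1) fun l => c ⟨Sum.inl i, l⟩ • e' ⟨Sum.inl i, l⟩).trans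
          (congrArg (fun v => c ⟨Sum.inl i, 0⟩ • v + _) (he'0 i))).symm
      · refine Finset.sum_congr rfl fun z _ => ?_
        exact ((Fin.sum_univ_one fun l : Fin 1 => c ⟨Sum.inr z, l⟩ • e' ⟨Sum.inr z, l⟩)).symm
    have h1 := congrArg A hsplit
    simp only [map_add, map_sum, map_smul, he0, smul_zero, Finset.sum_const_zero, zero_add, map_zero,
      he's] at h1
    rw [show ∑ z : ↑(S \ bot), c ⟨Sum.inr z, 0⟩ • A z.1 = 0 from Finset.sum_eq_zero fun z _ => by
      rw [show A z.1 = 0 from (hSsub z.2.1).1.2, smul_zero], add_zero, ← Fintype.sum_sigma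
        (f := fun p : (Σ i : ι, Fin (n i + 1)) => c ⟨Sum.inl p.1, p.2.succ⟩ • e p)] at h1
    have hc1 := Fintype.linearIndependent_iff.mp heli _ h1
    have hz : ∀ (i : ι) (l : Fin (n i + 1)), c ⟨Sum.inl i, l.succ⟩ = 0 := fun i l => hc1 ⟨i, l⟩
    simp only [hz, zero_smul, Finset.sum_const_zero, add_zero] at hsplit
    let g : ι ⊕ ↑(S \ bot) → S := Sum.elim (fun i => ⟨_, hbotS ⟨i, rfl⟩⟩) (fun z => ⟨z.1, z.2.1⟩)
    have hg : Function.Injective g := by
      rintro (a | a) (b | b) h <;> have h' := congrArg Subtype.val h <;> simp only [g, Sum.elim_inl, Sum.elim_inr] at h'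
      · exact congrArg _ (congrArg Sigma.fst (heli.injective h'))
      · exact absurd ⟨a, h'⟩ b.2.2
      · exact absurd ⟨b, h'.symm⟩ a.2.2
      · exact congrArg _ (Subtype.ext h')
    have hc2 := Fintype.linearIndependent_iff.mp (hSli.linearIndependent.comp g hg)
      (fun j => c ⟨j, 0⟩) (by rw [Fintype.sum_sum_type]; exact hsplit)
    rintro ⟨i | z, l⟩
    · exact Fin.cases (hc2 (Sum.inl i)) (hz i) l
    · have : l = 0 := Fin.fin_one_eq_zero l
      subst this
      exact hc2 (Sum.inr z)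
  · refine le_antisymm (Submodule.span_le.mpr ?_) fun w hw => ?_
    · rintro _ ⟨⟨i | z, l⟩, rfl⟩
      · induction l using Fin.lastCases with
        | last => exact (he'last i).symm ▸ hfW i
        | cast m => exact (he'cast i m).symm ▸ heW ⟨i, m⟩
      · exact (hSsub z.2.1).1.1
    · have hAw : A w ∈ Submodule.span k (Set.range e) := hespan ▸ Submodule.mem_map_of_mem hw
      obtain ⟨a, ha⟩ := (Submodule.mem_span_range_iff_exists_fun k).mp hAw
      let w' := ∑ p : (Σ i : ι, Fin (n i + 1)), a p • e' ⟨Sum.inl p.1, p.2.succ⟩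
      have hw' : w' ∈ Submodule.span k (Set.range e') :=
        Submodule.sum_mem _ fun p _ => Submodule.smul_mem _ _ (Submodule.subset_span ⟨⟨Sum.inl p.1, p.2.succ⟩, rfl⟩)
      have hw'W : w' ∈ W := by
        refine Submodule.sum_mem _ fun p _ => Submodule.smul_mem _ _ ?_
        obtain ⟨i, l⟩ := p
        induction l using Fin.lastCases with
        | last =>
          show e' ⟨Sum.inl i, Fin.last (n' (Sum.inl i))⟩ ∈ W
          exact (he'last i).symm ▸ hfW i
        | cast m =>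
          show e' ⟨Sum.inl i, (m.succ : Fin (n i + 1)).castSucc⟩ ∈ W
          exact (he'cast i m.succ).symm ▸ heW ⟨i, m.succ⟩
      have hker : w - w' ∈ K := by
        refine ⟨sub_mem hw hw'W, ?_⟩
        show A (w - w') = 0
        rw [map_sub, sub_eq_zero, ← ha, map_sum]
        exact Finset.sum_congr rfl fun p _ => by rw [map_smul, he's p.1 p.2]
      have hS' : Submodule.span k S ≤ Submodule.span k (Set.range e') := by
        refine Submodule.span_mono fun z hz => ?_
        by_cases hb : z ∈ bot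
        · obtain ⟨i, rfl⟩ := hb; exact ⟨⟨Sum.inl i, 0⟩, he'0 i⟩
        · exact ⟨⟨Sum.inr ⟨z, hz, hb⟩, 0⟩, rfl⟩
      simpa using add_mem (hS' (hSspan hker)) hw'

end


/-- Let k be a field, Λ an additive commutative group, V a finite-dimensional k-vector space which is
the internal direct sum of subspaces V_μ indexed by Λ (a representation of a torus with character
group Λ), and A a nilpotent endomorphism of V mapping each V_μ into V_{μ+χ} for a fixed χ (the
infinitesimal generator of an action of the additive group on which the torus acts through the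
character χ). Then V has a basis consisting of homogeneous vectors e_{i,l}, 0 ≤ l ≤ n_i, with A
e_{i,0} = 0 and A e_{i,l+1} = e_{i,l}: a weight basis bringing A into Jordan normal form. (The
source states this, over an algebraically closed field of characteristic zero, as a decomposition of
every representation of the semidirect product of the additive group with a torus into twists of
symmetric powers of the standard two-dimensional representation by characters; the first line of its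
proof reduces that to the present statement, which is what is proved, and which holds over any
field.) -/
theorem result
    (k : Type u) [Field k] (Λ : Type v) [AddCommGroup Λ] [DecidableEq Λ]
    (V : Type w) [AddCommGroup V] [Module k V] [FiniteDimensional k V]
    (𝒱 : Λ → Submodule k V) (h𝒱 : DirectSum.IsInternal 𝒱)
    (A : Module.End k V) (hA : IsNilpotent A) (χ : Λ)
    (hhom : ∀ (μ : Λ) (v : V), v ∈ 𝒱 μ → A v ∈ 𝒱 (μ + χ)) :
    ∃ (ι : Type w) (_ : Finite ι) (n : ι → ℕ) (b : Module.Basis (Σ i : ι, Fin (n i + 1)) k V),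
      (∀ (i : ι) (l : Fin (n i + 1)), ∃ μ : Λ, b ⟨i, l⟩ ∈ 𝒱 μ) ∧
      (∀ i : ι, A (b ⟨i, 0⟩) = 0) ∧
      ∀ (i : ι) (l : Fin (n i)), A (b ⟨i, l.succ⟩) = b ⟨i, l.castSucc⟩ := by

  letI := h𝒱.chooseDecomposition
  obtain ⟨ι, _, n, e, h1, h2, h3, h4, h5⟩ := exists_chains 𝒱 A χ hhom hA ⊤
    (fun _ _ _ => Submodule.mem_top) (fun _ _ => Submodule.mem_top)
  refine ⟨ι, inferInstance, n, Module.Basis.mk h4 h5.ge, ?_, ?_, ?_⟩ <;> simp only [Module.Basis.coe_mk]
  exacts [fun i l => h1 ⟨i, l⟩, h2, h3]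

end Groth.Agent.S18983
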