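import Groth.Statements.S18988
import Groth.Agent.Unip34.LieSep

set_option autoImplicit false
universe u
open TensorProduct
open HopfRep

namespace Groth.Agent.S18988

open Groth.Agent.Unip34 Groth.Agent.Comod33
/-- In Hopf-algebra form, over an algebraically closed field k of characteristic zero, let A be a
finitely generated commutative Hopf algebra which is unipotent in the fixed-vector sense (the
coordinate ring of a unipotent group U), coacting multiplicatively on a finitely generated
commutative k-algebra R. Then a k-subspace V of R is a subcomodule (is invariant under U) if and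
only if it is stable under the infinitesimal action of every ε-derivation ξ : A → k: for every v in
V, applying ξ to the A-factor of the coaction of v gives an element of the image of V ⊗ k in R ⊗ k. -/
theorem result
    (k : Type u) [Field k] [IsAlgClosed k] [CharZero k]
    (A : Type u) [CommRing A] [HopfAlgebra k A] [Algebra.FiniteType k A] (hU : HopfRep.IsUnipotent k A)
    (R : Type u) [CommRing R] [Algebra k R] [Algebra.FiniteType k R]
    [HopfRep.Comod k A R] [GLin.IsCoactAlg k A R] (V : Submodule k R) :
    HopfRep.IsSubcomod (k := k) (A := A) V ↔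
      ∀ (ξ : LieHopf.Lie k A) (v : R), v ∈ V →
        LinearMap.lTensor R (ξ.toLinearMap.restrictScalars k) (HopfRep.Comod.coact (k := k) (A := A) v) ∈
          LinearMap.range (LinearMap.rTensor (LieHopf.K k A) V.subtype) := by
  constructor
  · intro hV ξ v hv
    obtain ⟨y, hy⟩ := hV v hv
    refine ⟨LinearMap.lTensor V (ξ.toLinearMap.restrictScalars k) y, ?_⟩
    rw [← hy]
    clear hy
    induction y with
    | zero => simp only [map_zero]
    | tmul p q => rfl
    | add p q hp hq => simp only [map_add, hp, hq]
  · intro h
    have hstab : ∀ (D : LieHopf.Lie k A), ∀ v ∈ V, dact (LieHopf.dlin D) v ∈ V := by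
      intro D v hv
      obtain ⟨y, hy⟩ := h D v hv
      rw [← rid_lie]
      show TensorProduct.rid k R (LinearMap.lTensor R (D.toLinearMap.restrictScalars k) (HopfRep.Comod.coact (k := k) (A := A) v) : R ⊗[k] k) ∈ V
      rw [← hy]
      clear hy
      induction y with
      | zero => exact (map_zero (TensorProduct.rid k R)).symm ▸ V.zero_mem
      | tmul p q =>
        show (TensorProduct.rid k R) ((p : R) ⊗ₜ[k] (q : k)) ∈ V
        rw [TensorProduct.rid_tmul]
        exact V.smul_mem _ p.2
      | add p q hp hq =>
        have : TensorProduct.rid k R (LinearMap.rTensor k V.subtype p + LinearMap.rTensor k V.subtype q) ∈ V := by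
          rw [map_add]; exact V.add_mem hp hq
        rw [map_add]
        exact this
    intro v hv
    refine (mem_range_rTensor_iff V _).2 fun f => ?_
    rw [← Submodule.Quotient.mk_eq_zero V, ← Submodule.mkQ_apply, ← Module.forall_dual_apply_eq_zero_iff k]
    intro ψ
    show (ψ ∘ₗ V.mkQ) (dact f v) = 0
    rw [apply_dact]
    suffices h0 : coeff (A := A) (ψ ∘ₗ V.mkQ) v = 0 by rw [h0, map_zero]
    refine eq_zero_of_iterD hU fun L => ?_
    rw [counit_iterD_coeff]
    suffices hm : ∀ (L : List (LieHopf.Lie k A)), ∀ w ∈ V, iterV L w ∈ V by
      show ψ (V.mkQ (iterV L v)) = 0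
      rw [Submodule.mkQ_apply, (Submodule.Quotient.mk_eq_zero V).2 (hm L v hv), map_zero]
    intro L
    induction L with
    | nil => exact fun w hw => hw
    | cons D L ih => exact fun w hw => ih _ (hstab D w hw)

end Groth.Agent.S18988
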