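import Groth.Statements.S18989
import Groth.Agent.Unip34.LieSep

set_option autoImplicit false
universe u
open TensorProduct
open HopfRep

namespace Groth.Agent.S18989

open Groth.Agent.Unip34 Groth.Agent.Comod33
/-- An action of a unipotent group on an affine scheme is determined by its infinitesimal action. Over
an algebraically closed field k of characteristic zero, let A be a finitely generated commutative
Hopf algebra, unipotent in the fixed-vector sense, coacting multiplicatively on two finitely
generated commutative k-algebras R₁ and R₂, and let e : R₁ → R₂ be an algebra isomorphism which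
intertwines the two infinitesimal actions: for every ε-derivation ξ : A → k and every f in R₁,
applying ξ to the A-factor of the coaction of e(f) equals e ⊗ id applied to the same for f. Then e
intertwines the coactions: the coaction of e(f) is (e ⊗ id) of the coaction of f for all f. (With R₁
= R₂ and e the identity this says that two actions with the same infinitesimal action coincide,
which is the printed assertion.) -/
theorem result
    (k : Type u) [Field k] [IsAlgClosed k] [CharZero k]
    (A : Type u) [CommRing A] [HopfAlgebra k A] [Algebra.FiniteType k A] (hU : HopfRep.IsUnipotent k A)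
    (R₁ R₂ : Type u) [CommRing R₁] [Algebra k R₁] [Algebra.FiniteType k R₁]
    [HopfRep.Comod k A R₁] [GLin.IsCoactAlg k A R₁]
    [CommRing R₂] [Algebra k R₂] [Algebra.FiniteType k R₂]
    [HopfRep.Comod k A R₂] [GLin.IsCoactAlg k A R₂]
    (e : R₁ ≃ₐ[k] R₂)
    (h : ∀ (ξ : LieHopf.Lie k A) (f : R₁),
      LinearMap.lTensor R₂ (ξ.toLinearMap.restrictScalars k) (HopfRep.Comod.coact (k := k) (A := A) (e f)) =
        LinearMap.rTensor (LieHopf.K k A) e.toLinearMap
          (LinearMap.lTensor R₁ (ξ.toLinearMap.restrictScalars k) (HopfRep.Comod.coact (k := k) (A := A) f))) :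
    ∀ f : R₁, HopfRep.Comod.coact (k := k) (A := A) (e f) =
      LinearMap.rTensor A e.toLinearMap (HopfRep.Comod.coact (k := k) (A := A) f) := by
  have hd : ∀ (D : LieHopf.Lie k A) (f : R₁), dact (LieHopf.dlin D) (e f) = e (dact (LieHopf.dlin D) f) := by
    intro D f
    rw [← rid_lie, ← rid_lie]
    have h1 : ∀ y : R₁ ⊗[k] k, TensorProduct.rid k R₂ (LinearMap.rTensor k e.toLinearMap y) = e (TensorProduct.rid k R₁ y) := by
      intro y
      induction y with
      | zero => simp
      | tmul p q => simp
      | add p q hp hq => simp only [map_add, hp, hq]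
    exact (congrArg (TensorProduct.rid k R₂) (h D f)).trans (h1 _)
  have hi : ∀ (L : List (LieHopf.Lie k A)) (f : R₁), iterV L (e f) = e (iterV L f) := by
    intro L
    induction L with
    | nil => exact fun _ => rfl
    | cons D L ih =>
      intro f
      show iterV L (dact (LieHopf.dlin D) (e f)) = e (iterV L (dact (LieHopf.dlin D) f))
      rw [hd]
      exact ih _
  intro f
  refine eq_of_rc fun g => ?_
  rw [rc_rTensor, ← dact_apply, ← dact_apply]
  refine sub_eq_zero.1 ((Module.forall_dual_apply_eq_zero_iff k _).1 fun φ => ?_)
  rw [map_sub, apply_dact]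
  show g (coeff φ (e f)) - (φ ∘ₗ e.toLinearMap) (dact g f) = 0
  rw [apply_dact, ← map_sub]
  suffices h0 : coeff (A := A) φ (e f) - coeff (A := A) (φ ∘ₗ e.toLinearMap) f = 0 by rw [h0, map_zero]
  refine eq_zero_of_iterD hU fun L => ?_
  rw [map_sub, map_sub, counit_iterD_coeff, counit_iterD_coeff, hi]
  exact sub_self _

end Groth.Agent.S18989
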