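import Groth.Statements.S18994
import Mathlib.Tactic

set_option autoImplicit false
universe u
open TernForm

namespace Groth.Agent.S18994

/-- Let R be a commutative ring, j ∈ {0, 1, 2}, q a homogeneous polynomial of degree 2 in R[X_0, X_1,
X_2] whose coefficient of X_j^2 is a unit, and n a natural number. Then the family consisting of the
monomials of degree n not divisible by X_j^2 (exponent of X_j at most 1) together with the products
q · m, m running over the monomials of degree n − 2 (indexed by exponents m with |m| + 2 = n), is
linearly independent over R and spans exactly the homogeneous polynomials of degree n; in particular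
it is a basis of that module and the two parts are disjoint. (The published lemma is stated over a
field with the coefficient nonzero, the special case of a field R here; the version over a ring with
the coefficient invertible is what its change-of-basis argument gives — ordering monomials by
decreasing exponent of X_j makes the matrix triangular with diagonal entries 1 and that coefficient
— and is the form used to trivialise the bundle of degree-n forms modulo multiples of q over the
locus where the coefficient is invertible. The published lemma also allows an arbitrary monomial of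
degree 2 in place of X_j^2; for the mixed monomial X_1X_2, the form q = X_1^2 + X_1X_2 + X_2^2 and n
= 3 give the linear relation q·X_1 − q·X_2 = X_1^3 − X_2^3 among members of the family, so the claim
fails there and is stated here for the square of a variable.) -/
theorem result
    (R : Type u) [CommRing R] (j : Fin 3) (q : MvPolynomial (Fin 3) R)
    (hq : q.IsHomogeneous 2) (hqj : IsUnit (q.coeff (Finsupp.single j 2))) (n : ℕ) :
    LinearIndependent R (Sum.elim (fun m : {m : Fin 3 →₀ ℕ // m.degree = n ∧ m j < 2} => MvPolynomial.monomial m.1 (1 : R)) (fun m : {m : Fin 3 →₀ ℕ // m.degree + 2 = n} => q * MvPolynomial.monomial m.1 (1 : R))) ∧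
      Submodule.span R (Set.range (Sum.elim (fun m : {m : Fin 3 →₀ ℕ // m.degree = n ∧ m j < 2} => MvPolynomial.monomial m.1 (1 : R)) (fun m : {m : Fin 3 →₀ ℕ // m.degree + 2 = n} => q * MvPolynomial.monomial m.1 (1 : R)))) = MvPolynomial.homogeneousSubmodule (Fin 3) R n := by
  classical
  have hdeg' : ∀ {p : MvPolynomial (Fin 3) R} {d : ℕ}, p.IsHomogeneous d → ∀ {m : Fin 3 →₀ ℕ}, p.coeff m ≠ 0 → m.degree = d :=
    fun hp m hm => by rw [Finsupp.degree_eq_weight_one]; exact hp hm
  set c := q.coeff (Finsupp.single j 2) with hc
  set e : Fin 3 →₀ ℕ := Finsupp.single j 2 with he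
  have htop : ∀ (g : MvPolynomial (Fin 3) R) (m₀ : Fin 3 →₀ ℕ), (∀ v ∈ g.support, v j ≤ m₀ j) →
      (q * g).coeff (m₀ + e) = c * g.coeff m₀ := by
    intro g m₀ hmax
    rw [MvPolynomial.coeff_mul, Finset.sum_eq_single (e, m₀)]
    · rintro ⟨u, v⟩ huv hne
      rw [Finset.HasAntidiagonal.mem_antidiagonal] at huv
      by_contra h
      have hu : u.degree = 2 := hdeg' hq (left_ne_zero_of_mul h)
      have hv : v j ≤ m₀ j := hmax v (MvPolynomial.mem_support_iff.mpr (right_ne_zero_of_mul h))
      have hj := DFunLike.congr_fun huv j
      simp only [Finsupp.add_apply, he, Finsupp.single_eq_same] at hj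
      have hue : u = e := by
        rw [Finsupp.degree_eq_sum, ← Finset.add_sum_erase _ _ (Finset.mem_univ j)] at hu
        have h0 : ∑ i ∈ Finset.univ.erase j, u i = 0 := by omega
        ext i
        rcases eq_or_ne i j with rfl | hij
        · rw [he, Finsupp.single_eq_same]; omega
        · rw [he, Finsupp.single_eq_of_ne hij]
          exact Finset.sum_eq_zero_iff.mp h0 i (Finset.mem_erase.mpr ⟨hij, Finset.mem_univ _⟩)
      subst hue
      rw [add_comm m₀, add_right_inj] at huv
      exact hne (Prod.ext rfl huv)
    · intro h
      exact absurd (Finset.HasAntidiagonal.mem_antidiagonal.mpr (add_comm e m₀)) h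
  have hc0 : ∀ g : MvPolynomial (Fin 3) R, (∀ m ∈ (q * g).support, m j < 2) → g = 0 := by
    intro g hg
    by_contra hne
    obtain ⟨m₀, hm₀, hmax⟩ := g.support.exists_max_image (fun v => v j) (MvPolynomial.support_nonempty.mpr hne)
    have h := htop g m₀ hmax
    have hne' : (q * g).coeff (m₀ + e) ≠ 0 := by
      rw [h]
      exact fun h0 => MvPolynomial.mem_support_iff.mp hm₀ ((hqj.mul_right_eq_zero).mp h0)
    have := hg _ (MvPolynomial.mem_support_iff.mpr hne')
    simp [he] at this
  set W := MvPolynomial.restrictSupport R {m : Fin 3 →₀ ℕ | m j < 2}
  have hbase := (MvPolynomial.basisMonomials (Fin 3) R).linearIndependent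
  rw [MvPolynomial.coe_basisMonomials] at hbase
  constructor
  · refine LinearIndependent.sum_type (hbase.comp _ Subtype.val_injective) ?_ ?_
    · refine (hbase.comp _ Subtype.val_injective).map' (LinearMap.mulLeft R q) (LinearMap.ker_eq_bot'.mpr fun g hg => ?_)
      exact hc0 g (by rw [show q * g = 0 from hg]; simp)
    · rw [Submodule.disjoint_def]
      intro x hx1 hx2
      have hxW : x ∈ W := by
        refine Submodule.span_le.mpr ?_ hx1
        rintro _ ⟨m, rfl⟩
        rw [SetLike.mem_coe, MvPolynomial.mem_restrictSupport_iff]
        intro u hu
        have := MvPolynomial.support_monomial_subset hu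
        rw [Finset.mem_singleton] at this
        exact this ▸ m.2.2
      obtain ⟨g, rfl⟩ : ∃ g, q * g = x := by
        refine Submodule.span_induction ?_ ⟨0, mul_zero q⟩ ?_ ?_ hx2
        · rintro _ ⟨m, rfl⟩; exact ⟨_, rfl⟩
        · rintro _ _ _ _ ⟨g, rfl⟩ ⟨g', rfl⟩; exact ⟨g + g', mul_add q g g'⟩
        · rintro r _ _ ⟨g, rfl⟩; exact ⟨r • g, mul_smul_comm r q g⟩
      rw [MvPolynomial.mem_restrictSupport_iff] at hxW
      rw [hc0 g fun m hm => hxW hm, mul_zero]
  · refine le_antisymm (Submodule.span_le.mpr ?_) ?_
    · rintro _ ⟨m | m, rfl⟩
      · exact MvPolynomial.isHomogeneous_monomial _ m.2.1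
      · rw [Sum.elim_inr, SetLike.mem_coe, MvPolynomial.mem_homogeneousSubmodule]
        have := hq.mul (MvPolynomial.isHomogeneous_monomial (1 : R) (rfl : m.1.degree = m.1.degree))
        rwa [show 2 + m.1.degree = n by rw [add_comm]; exact m.2] at this
    · set V := Submodule.span R (Set.range (Sum.elim (fun m : {m : Fin 3 →₀ ℕ // m.degree = n ∧ m j < 2} => MvPolynomial.monomial m.1 (1 : R)) (fun m : {m : Fin 3 →₀ ℕ // m.degree + 2 = n} => q * MvPolynomial.monomial m.1 (1 : R))))
      have key : ∀ (d : ℕ) (m : Fin 3 →₀ ℕ), m j ≤ d → m.degree = n → MvPolynomial.monomial m (1 : R) ∈ V := by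
        intro d
        induction d using Nat.strong_induction_on with
        | _ d ih =>
          intro m hmd hdeg
          rcases lt_or_ge (m j) 2 with h | h
          · exact Submodule.subset_span ⟨Sum.inl ⟨m, hdeg, h⟩, rfl⟩
          · obtain ⟨m', rfl⟩ : ∃ m', m = e + m' := ⟨m - e, (add_tsub_cancel_of_le (by
              rw [he, Finsupp.single_le_iff]; exact h)).symm⟩
            have hdm : m'.degree + 2 = n := by
              rw [← hdeg, map_add, he, Finsupp.degree_single, add_comm]
            have hmem : q * MvPolynomial.monomial m' 1 ∈ V := Submodule.subset_span ⟨Sum.inr ⟨m', hdm⟩, rfl⟩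
            have hexp : q * MvPolynomial.monomial m' 1 =
                ∑ u ∈ q.support, q.coeff u • MvPolynomial.monomial (u + m') (1 : R) := by
              conv_lhs => rw [q.as_sum, Finset.sum_mul]
              refine Finset.sum_congr rfl fun u _ => ?_
              rw [MvPolynomial.monomial_mul, MvPolynomial.smul_monomial, smul_eq_mul]
            have hsupp : ∀ u ∈ q.support, u ≠ e → q.coeff u • MvPolynomial.monomial (u + m') (1 : R) ∈ V := by
              intro u hu hue
              refine Submodule.smul_mem _ _ ?_
              have hdu : u.degree = 2 := hdeg' hq (MvPolynomial.mem_support_iff.mp hu)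
              have huj : u j < 2 := by
                by_contra h2
                apply hue
                rw [Finsupp.degree_eq_sum, ← Finset.add_sum_erase _ _ (Finset.mem_univ j)] at hdu
                have h0 : ∑ i ∈ Finset.univ.erase j, u i = 0 := by omega
                ext i
                rcases eq_or_ne i j with rfl | hij
                · rw [he, Finsupp.single_eq_same]; omega
                · rw [he, Finsupp.single_eq_of_ne hij]
                  exact Finset.sum_eq_zero_iff.mp h0 i (Finset.mem_erase.mpr ⟨hij, Finset.mem_univ _⟩)
              simp only [Finsupp.add_apply, he, Finsupp.single_eq_same] at hmd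
              refine ih (u j + m' j) (by omega) _ (by rw [Finsupp.add_apply]) ?_
              rw [map_add, hdu, add_comm, hdm]
            by_cases hce : e ∈ q.support
            · rw [hexp, ← Finset.add_sum_erase _ _ hce] at hmem
              have h3 : c • MvPolynomial.monomial (e + m') (1 : R) ∈ V :=
                (Submodule.add_mem_iff_left _ (Submodule.sum_mem _ fun u hu =>
                  hsupp u (Finset.mem_of_mem_erase hu) (Finset.ne_of_mem_erase hu))).mp hmem
              have := V.smul_mem (↑hqj.unit⁻¹ : R) h3
              rwa [smul_smul, hqj.val_inv_mul, one_smul] at this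
            · have h0 : c = 0 := MvPolynomial.notMem_support_iff.mp hce
              have : Subsingleton R := by
                rw [h0, isUnit_zero_iff] at hqj
                exact subsingleton_of_zero_eq_one hqj
              rw [Subsingleton.elim (MvPolynomial.monomial (e + m') (1 : R)) 0]
              exact V.zero_mem
      intro p hp
      rw [MvPolynomial.mem_homogeneousSubmodule] at hp
      rw [p.as_sum]
      refine V.sum_mem fun m hm => ?_
      rw [show MvPolynomial.monomial m (p.coeff m) = p.coeff m • MvPolynomial.monomial m (1 : R) by
        rw [MvPolynomial.smul_monomial, smul_eq_mul, mul_one]]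
      exact V.smul_mem _ (key _ m le_rfl (hdeg' hp (MvPolynomial.mem_support_iff.mp hm)))

end Groth.Agent.S18994
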