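import Groth.Prelude.Def_KRR
import Groth.Prelude.Def_FlatMod2
import Mathlib.Algebra.Homology.ShortComplex.ShortExact
import Groth.Agent.Grass5.QuotBC
import Groth.Agent.Grass5.FlagStep
import Groth.Agent.Amp73.Gen
-- import your own Groth.Agent.* helpers here

set_option autoImplicit false
universe u
open CategoryTheory AlgebraicGeometry
namespace ProjBd
end ProjBd
open ProjBd
open CategoryTheory.Limits Groth.Agent.Var76.LineBundle Groth.Agent.Var76.ZeroScheme

namespace Groth.Agent.S18995

/-- A map hitting a frame near every point of `W` is an epimorphism on `W`. -/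
theorem epi_restrict_of_frames {P : Scheme.{u}} {M N : P.Modules} (α : M ⟶ N) (W : P.Opens)
    (h : ∀ p ∈ W, ∃ (V : P.Opens), p ∈ V ∧ ∃ m : Γ(M, V), IsFrame N V (α.app V m)) :
    Epi ((Scheme.Modules.restrictFunctor W.ι).map α) := by
  refine ⟨fun {Z} a b e => ?_⟩
  ext U y
  refine eq_of_locally Z _ _ fun x hx => ?_
  obtain ⟨V, hxV, m, hm⟩ := h (W.ι x) x.2
  have hV : W.ι ''ᵁ (U ⊓ W.ι ⁻¹ᵁ V) ≤ V := by
    rintro _ ⟨z, ⟨-, hz⟩, rfl⟩; exact hz
  refine ⟨U ⊓ W.ι ⁻¹ᵁ V, inf_le_left, ⟨hx, hxV⟩, ?_⟩
  obtain ⟨c, hc⟩ := (hm _ hV).2 (res (N.restrict W.ι) (inf_le_left : U ⊓ W.ι ⁻¹ᵁ V ≤ U) y :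
    Γ(N.restrict W.ι, U ⊓ W.ι ⁻¹ᵁ V))
  have hc' : α.app (W.ι ''ᵁ (U ⊓ W.ι ⁻¹ᵁ V)) (c • res M hV m) =
      (res (N.restrict W.ι) (inf_le_left : U ⊓ W.ι ⁻¹ᵁ V ≤ U) y :
        Γ(N.restrict W.ι, U ⊓ W.ι ⁻¹ᵁ V)) := by
    rw [Scheme.Modules.Hom.app_smul, Mero90.app_res]
    exact hc
  have key : ∀ φ : N.restrict W.ι ⟶ Z, φ.app (U ⊓ W.ι ⁻¹ᵁ V) (res (N.restrict W.ι) inf_le_left y) =
      ((Scheme.Modules.restrictFunctor W.ι).map α ≫ φ).app (U ⊓ W.ι ⁻¹ᵁ V) (c • res M hV m :
        Γ(M, W.ι ''ᵁ (U ⊓ W.ι ⁻¹ᵁ V))) := fun φ => (congrArg (φ.app _) hc').symm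
  rw [← Mero90.app_res, ← Mero90.app_res, key a, key b, e]

/-- If no frame is hit near `p` then the map dies at `p`. -/
theorem pullback_map_eq_zero {P : Scheme.{u}} {M N : P.Modules}
    (hN : FlatMod.IsFinLocFreeOfRank 1 N) (α : M ⟶ N) (p : P)
    (h : ∀ (V : P.Opens), p ∈ V → ∀ m : Γ(M, V), ¬ IsFrame N V (α.app V m)) :
    (Scheme.Modules.pullback (P.fromSpecResidueField p)).map α = 0 := by
  set x := P.fromSpecResidueField p
  let adj := Scheme.Modules.pullbackPushforwardAdjunction x
  apply (adj.homEquiv _ _).injective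
  let Lx := (Scheme.Modules.pullback x).obj N
  have key : α ≫ adj.unit.app N = 0 := by
    ext V m
    show (adj.unit.app N).app V (α.app V m) = (0 : Γ((Scheme.Modules.pushforward x).obj Lx, V))
    refine eq_of_locally ((Scheme.Modules.pushforward x).obj Lx) _ _ fun y hy => ?_
    obtain ⟨U, hyU, e, he⟩ := exists_frame hN y
    refine ⟨V ⊓ U, inf_le_left, ⟨hy, hyU⟩, ?_⟩
    obtain ⟨c, hc⟩ := (he (V ⊓ U) inf_le_right).2 (res N (inf_le_left : V ⊓ U ≤ V) (α.app V m))
    have hc0 : x.app (V ⊓ U) c = 0 := by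
      by_cases hp : p ∈ V ⊓ U
      · have hb : p ∉ P.basicOpen c := fun hb => by
          refine h _ hb (res M ((P.basicOpen_le c).trans inf_le_left) m) ?_
          rw [Mero90.app_res, ← res_res N inf_le_left (P.basicOpen_le c), ← hc, res_smul, res_res]
          exact (Amp73.isFrame_smul_iff (he.res ((P.basicOpen_le c).trans inf_le_right)) _).2
            (RingedSpace.isUnit_res_basicOpen _ c)
        have hne : x ⁻¹ᵁ P.basicOpen c = ⊥ := by
          refine le_bot_iff.1 fun z hz => hb ?_
          have : x z = p := P.fromSpecResidueField_apply p z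
          rwa [← this]
        rw [Scheme.preimage_basicOpen] at hne
        exact ((basicOpen_eq_bot_iff _).1 hne)
      · have hbot : x ⁻¹ᵁ (V ⊓ U) = ⊥ := le_bot_iff.1 fun z hz => hp <| by
          have : x z = p := P.fromSpecResidueField_apply p z
          rwa [← this]
        have : Subsingleton Γ(Spec (P.residueField p), x ⁻¹ᵁ (V ⊓ U)) := by
          rw [hbot]
          infer_instance
        exact Subsingleton.elim _ _
    rw [← Mero90.app_res]
    refine (congrArg ((adj.unit.app N).app (V ⊓ U)) hc.symm).trans ?_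
    refine (Scheme.Modules.Hom.app_smul (adj.unit.app N) c _).trans ?_
    refine Eq.trans ?_ (map_zero _).symm
    let w : Γ(Lx, x ⁻¹ᵁ (V ⊓ U)) := (adj.unit.app N).app (V ⊓ U) (res N inf_le_right e)
    show x.app (V ⊓ U) c • w = 0
    rw [hc0]
    exact zero_smul _ _
  rw [adj.homEquiv_unit, adj.homEquiv_unit, ← Functor.comp_map, ← adj.unit.naturality, Functor.id_map, key]
  simp

theorem quotBC_precomp {X G T : Scheme.{u}} {π : G ⟶ X} {g : T ⟶ X} {h : T ⟶ G} (hg : h ≫ π = g)
    {E E' : X.Modules} (f : E' ⟶ E) {Q : G.Modules} (q : (Scheme.Modules.pullback π).obj E ⟶ Q) :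
    Grass.quotBC hg ((Scheme.Modules.pullback π).map f ≫ q) =
      (Scheme.Modules.pullback g).map f ≫ Grass.quotBC hg q := by
  subst hg
  have n := (Scheme.Modules.pullbackComp h π).inv.naturality f
  simp only [Functor.comp_map] at n
  simp [Grass.quotBC, Scheme.Modules.pullbackCongr, reassoc_of% n]

/-- Let X be a scheme and 0 → A → E → B → 0 a short exact sequence of finite locally free O_X-modules.
Let (π : P → X, O(1), q) be the projective bundle of rank-one quotients of E and (π_B : P_B → X,
O_B(1), q_B) that of B, each given through its universal property, and let c : P_B → P be the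
morphism over X together with an isomorphism c^*O(1) ≅ O_B(1) identifying c^*q with π_B^*E → π_B^*B
→ O_B(1); thus c is the closed sub-bundle P(B) ⊂ P(E). Then for every open subset W of P that does
not meet the image of c, the restriction to W of the composite π^*A → π^*E → O(1) is an epimorphism
of O_W-modules. Consequently W carries an invertible quotient of the pull-back of A and hence a
morphism to P(A) over X, the projection away from the sub-bundle. (In the convention where a
projective bundle parametrises lines rather than rank-one quotients, this is the statement that for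
an exact sequence 0 → F → E → G → 0 of locally free sheaves the tautological line sub-bundle of E
restricted to the complement of P(F) in P(E) maps isomorphically onto a line sub-bundle of the
pull-back of G, giving the canonical morphism from that complement to P(G); A, E, B here are the
duals of G, E, F there. The published statement takes X of finite type over a field; the row is
stated for an arbitrary scheme X, which the argument allows.) -/
theorem result
    (X P PB : Scheme.{u}) (S : ShortComplex X.Modules) (hS : S.ShortExact)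
    (hA : FlatMod.IsFinLocFree S.X₁) (hE : FlatMod.IsFinLocFree S.X₂) (hB : FlatMod.IsFinLocFree S.X₃)
    (π : P ⟶ X) (O1 : P.Modules) (q : (Scheme.Modules.pullback π).obj S.X₂ ⟶ O1)
    (hP : KRR.IsProjBundle π S.X₂ O1 q)
    (πB : PB ⟶ X) (O1B : PB.Modules) (qB : (Scheme.Modules.pullback πB).obj S.X₃ ⟶ O1B)
    (hPB : KRR.IsProjBundle πB S.X₃ O1B qB)
    (c : PB ⟶ P) (hc : c ≫ π = πB) (ec : (Scheme.Modules.pullback c).obj O1 ≅ O1B)
    (hcq : (Scheme.Modules.pullbackCongr hc).inv.app S.X₂ ≫ (Scheme.Modules.pullbackComp c π).inv.app S.X₂ ≫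
      (Scheme.Modules.pullback c).map q ≫ ec.hom = (Scheme.Modules.pullback πB).map S.g ≫ qB)
    (W : P.Opens) (hW : Disjoint (W : Set P) (Set.range c.base)) :
    Epi ((Scheme.Modules.pullback W.ι).map ((Scheme.Modules.pullback π).map S.f ≫ q)) := by
  let α := (Scheme.Modules.pullback π).map S.f ≫ q
  suffices h : Epi ((Scheme.Modules.restrictFunctor W.ι).map α) from
    (MorphismProperty.epimorphisms _).arrow_mk_iso_iff
      ((Functor.mapArrowFunctor _ _).mapIso (Scheme.Modules.restrictFunctorIsoPullback W.ι) |>.app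
        (Arrow.mk α)) |>.1 h
  refine epi_restrict_of_frames α W fun p hp => ?_
  by_contra hcon
  simp only [not_exists, not_and] at hcon
  set x := P.fromSpecResidueField p
  have h0 : (Scheme.Modules.pullback x).map α = 0 := pullback_map_eq_zero hP.invertible α p hcon
  let g := x ≫ π
  let L := (Scheme.Modules.pullback x).obj O1
  let s : (Scheme.Modules.pullback g).obj S.X₂ ⟶ L := Grass.quotBC (g := g) rfl q
  haveI := hP.epi
  have hs : Epi s := Grass5.QuotBC.epi_quotBC (g := g) rfl q
  have hfs : (Scheme.Modules.pullback g).map S.f ≫ s = 0 := by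
    rw [← quotBC_precomp (g := g) rfl S.f q]
    unfold Grass.quotBC
    rw [show (Scheme.Modules.pullback x).map ((Scheme.Modules.pullback π).map S.f ≫ q) = 0 from h0]
    simp
  haveI := hS.epi_g
  have hcok : IsColimit ((CokernelCofork.ofπ S.g S.zero).map (Scheme.Modules.pullback g)) :=
    CokernelCofork.mapIsColimit _ hS.gIsCokernel _
  obtain ⟨s', hs'⟩ := CokernelCofork.IsColimit.desc' hcok s hfs
  replace hs' : (Scheme.Modules.pullback g).map S.g ≫ s' = s := hs'
  haveI hs'e : Epi s' := epi_of_epi_fac hs'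
  have hL := Grass5.QuotBC.isFinLocFreeOfRank_pullback x hP.invertible
  obtain ⟨h, ⟨hg, e, he⟩, -⟩ := hPB.univ _ g L hL s' hs'e
  have hg' : (h ≫ c) ≫ π = g := by rw [Category.assoc, hc, hg]
  have hcq' : Grass.quotBC hc q ≫ ec.hom = (Scheme.Modules.pullback πB).map S.g ≫ qB := by
    unfold Grass.quotBC; rw [← hcq]; simp
  have h1 := Grass5.QuotBC.exists_iso_comp hc hg hg' q _ ec hcq'
  rw [quotBC_precomp] at h1
  have he' : Grass.quotBC hg qB ≫ e.hom = s' := by
    unfold Grass.quotBC; rw [← he]; simp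
  have h2 : x = h ≫ c := (hP.univ _ g L hL s hs).unique
    ⟨rfl, Iso.refl _, by simp [s, Grass.quotBC, x, L, g]⟩
    ⟨hg', ((Scheme.Modules.pullbackComp h c).symm.app O1 ≪≫
      (Scheme.Modules.pullback h).mapIso ec) ≪≫ e, by
      rw [← hs', ← he', ← Category.assoc ((Scheme.Modules.pullback g).map S.g), ← h1]
      simp [Grass.quotBC]⟩
  refine Set.disjoint_left.1 hW hp ?_
  refine ⟨h (IsLocalRing.closedPoint (P.residueField p)), ?_⟩
  show (h ≫ c) _ = p
  rw [← h2]
  exact P.fromSpecResidueField_apply p _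


end Groth.Agent.S18995
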