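import Groth.Statements.S1900
import Groth.Agent.Cyc90.P1Div

set_option autoImplicit false
universe u
open CategoryTheory AlgebraicGeometry
open CategoryTheory.Limits
open Cyc

namespace Groth.Agent.S1900

/-- Let W → P^1_X be a closed immersion with W integral of δ-dimension k + 1 (for the dimension function
on P^1_X induced from δ on X), whose generic point lies neither over the zero section nor over the
section at infinity. Let W_0, W_∞ → X be the pullbacks of W along the two sections X → P^1_X (closed
subschemes of X). Then [W_0]_k ∼_rat [W_∞]_k on X. A pair (X, δ) with Cyc.IsSetup plays the role of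
a scheme locally of finite type over a fixed base with a dimension function (X locally Noetherian
with universally catenary local rings, δ a dimension function), and Cyc.DeltaCompat records that the
dimension function upstairs is the induced one. -/
theorem result (X : Scheme.{u}) (δ : X → ℤ) (hX : Cyc.IsSetup X δ) (δP : ↥(CohB1.ProjSpaceOver 1 X) → ℤ) (hP : Cyc.DeltaCompat (CohB1.ProjSpaceOver.toBase 1 X) δP δ) (k : ℤ) (W : Scheme.{u}) [IsIntegral W] (ι : W ⟶ CohB1.ProjSpaceOver 1 X) [IsClosedImmersion ι] (hW : δP (ι (genericPoint W)) = k + 1) (h0 : ι (genericPoint W) ∉ Set.range ⇑(P1.sect X 0)) (h1 : ι (genericPoint W) ∉ Set.range ⇑(P1.sect X 1)) (α β : AlgebraicCycle X ℤ) (hα : ⇑α = Cyc.subschemeFun δ k (pullback.snd ι (P1.sect X 0))) (hβ : ⇑β = Cyc.subschemeFun δ k (pullback.snd ι (P1.sect X 1))) : Cyc.RatEquiv δ k α β := by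
  have h := Cyc90.P1L.mem_V_generic ι h1
  obtain ⟨-, hWs⟩ := Cyc90.P1L.isSetup_closed ι hP hX
  let D := Cyc90.divCycle hWs (genericPoint W) (Cyc90.P1L.tfun ι h) (Cyc90.P1L.tfun_ne_zero ι h h0)
  have hD : Cyc.RatEquivZero (fun w => δP (ι w)) k D :=
    ⟨PUnit, fun _ => genericPoint W, fun _ => Cyc90.P1L.tfun ι h, fun _ => hW,
      fun _ => Cyc90.P1L.tfun_ne_zero ι h h0, fun w => ⟨Set.univ, isOpen_univ, trivial, Set.toFinite _⟩,
      fun w => (finsum_unique (fun _ : PUnit => Cyc.divFun (fun w => δP (ι w)) (genericPoint W) (Cyc90.P1L.tfun ι h) w)).symm⟩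
  have hpush := Cyc90.ratEquivZero_map hWs hX (ι ≫ CohB1.ProjSpaceOver.toBase 1 X)
    (Cyc90.P1L.deltaCompat_toBase ι hP) hD
  have he : α - β = AlgebraicCycle.map (ι ≫ CohB1.ProjSpaceOver.toBase 1 X) (fun w => δP (ι w)) δ D :=
    DFunLike.coe_injective (funext fun x => by
      rw [Function.locallyFinsuppWithin.coe_sub, Pi.sub_apply, congrFun hα x, congrFun hβ x]
      exact Cyc90.P1L.map_div_tfun ι hP hX k hW h h0 x)
  unfold Cyc.RatEquiv
  rwa [he]

end Groth.Agent.S1900
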