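import Groth.Statements.S19001
import Groth.Agent.FBase64.RegExt.Scheme

set_option autoImplicit false
universe u
open CategoryTheory CategoryTheory.Limits AlgebraicGeometry
open FBase

namespace Groth.Agent.S19001

/-- Let f : Z → X be a finite surjective morphism of integral schemes proper over a field k, with X
normal, and let d = [k(Z) : k(X)] be its degree on function fields (the residue fields at the
generic point of Z and at its image, the generic point of X). Write k_X = H^0(X, O_X) and k_Z =
H^0(Z, O_Z) (fields, finite over k). If X is geometrically reduced over k_X — X ×_{k_X} E is reduced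
for every field E over k_X, i.e. k(X) is separable over k_X — then [k_Z : k_X] divides d. (The
published statement does not assume that X is geometrically reduced over k_X; without that
hypothesis the divisibility fails: for k_0 = F_p(s, t), X the normal proper curve with function
field k_0(x, y), y^p = s + t x^p, and Z the projective line over k_0(s^{1/p}, t^{1/p}) mapping to X,
one has d = p but [k_Z : k_X] = p^2.) -/
theorem result (k : Type u) [Field k]
    (X Z : Scheme.{u}) [X.Over (Spec (CommRingCat.of k))] [Z.Over (Spec (CommRingCat.of k))]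
    [IsIntegral X] [IsIntegral Z]
    [IsProper (X ↘ Spec (CommRingCat.of k))] [IsProper (Z ↘ Spec (CommRingCat.of k))]
    (hXn : ∀ x : X, IsIntegrallyClosed (X.presheaf.stalk x))
    (f : Z ⟶ X) (hf : f ≫ (X ↘ Spec (CommRingCat.of k)) = Z ↘ Spec (CommRingCat.of k))
    [IsFinite f] [Surjective f]
    (hgr : ∀ (E : Type u) [Field E] (i : Γ(X, ⊤) →+* E),
      AlgebraicGeometry.IsReduced (pullback X.toSpecΓ (Spec.map (CommRingCat.ofHom i)))) :
    letI := f.appTop.hom.toAlgebra;
    letI := (f.residueFieldMap (genericPoint Z)).hom.toAlgebra;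
    Module.finrank Γ(X, ⊤) Γ(Z, ⊤) ∣ Module.finrank (X.residueField (f.base (genericPoint Z))) (Z.residueField (genericPoint Z)) := by
  letI := f.appTop.hom.toAlgebra
  let x := f.base (genericPoint Z)
  letI : Algebra (X.residueField x) (Z.residueField (genericPoint Z)) :=
    (f.residueFieldMap (genericPoint Z)).hom.toAlgebra
  have hx : x = genericPoint X := by
    have := (genericPoint_spec Z).image f.continuous
    rw [Set.image_univ, f.surjective.range_eq, closure_univ] at this
    exact this.eq (genericPoint_spec X)
  have hFX : IsField Γ(X, ⊤) := isField_of_universallyClosed k (X ↘ Spec (CommRingCat.of k))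
  have hFZ : IsField Γ(Z, ⊤) := isField_of_universallyClosed k (Z ↘ Spec (CommRingCat.of k))
  have hfin : f.appTop.hom.Finite := by
    have h := finite_appTop_of_universallyClosed k (Z ↘ Spec (CommRingCat.of k))
    rw [← hf, Scheme.Hom.comp_appTop, CommRingCat.hom_comp] at h
    exact RingHom.Finite.of_comp_finite h
  letI : Algebra Γ(X, ⊤) (X.residueField x) := (X.Γevaluation x).hom.toAlgebra
  letI : Algebra Γ(X, ⊤) (Z.residueField (genericPoint Z)) :=
    ((f.residueFieldMap (genericPoint Z)).hom.comp (X.Γevaluation x).hom).toAlgebra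
  haveI : IsScalarTower Γ(X, ⊤) (X.residueField x) (Z.residueField (genericPoint Z)) :=
    IsScalarTower.of_algebraMap_eq' rfl
  let φ : Γ(Z, ⊤) →ₐ[Γ(X, ⊤)] Z.residueField (genericPoint Z) :=
    { (Z.Γevaluation (genericPoint Z)).hom with
      commutes' := fun r =>
        (ConcreteCategory.congr_hom (Scheme.evaluation_naturality f (V := ⊤) (genericPoint Z) trivial) r).symm }
  letI := hFX.toField
  letI := hFZ.toField
  haveI : Module.Finite Γ(X, ⊤) Γ(Z, ⊤) := hfin
  haveI : AlgebraicGeometry.IsReduced
      (pullback X.toSpecΓ (Spec.map (CommRingCat.ofHom (algebraMap Γ(X, ⊤) Γ(Z, ⊤))))) :=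
    hgr Γ(Z, ⊤) f.appTop.hom
  haveI : _root_.IsReduced (TensorProduct Γ(X, ⊤) (X.residueField x) Γ(Z, ⊤)) :=
    Groth.Agent.FBase64.RegExt.isReduced_tensor_residueField hx Γ(Z, ⊤) hFX
  exact Groth.Agent.FBase64.RegExt.finrank_dvd
    (fun w hw => Groth.Agent.FBase64.RegExt.mem_range_evaluation hXn hx hw) φ

end Groth.Agent.S19001
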