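import Groth.Statements.S19003
import Groth.Agent.CAlg8.Canon.GenericFibre
-- import your own Groth.Agent.* helpers here

set_option autoImplicit false
set_option backward.isDefEq.respectTransparency false
universe u
open CategoryTheory CategoryTheory.Limits AlgebraicGeometry
open Canon

namespace Groth.Agent.S19003

/-- Let π : X → B be a local complete intersection morphism between integral schemes of finite type over
a field F whose structure morphisms to Spec F are local complete intersection morphisms, and let k =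
F(B) be the function field of B. If ω is a canonical sheaf of X over F — for some factorisation of X
→ Spec F into a quasi-compact regular immersion of constant codimension followed by a
quasi-separated smooth morphism of constant relative dimension, ω is isomorphic to the dual of the
top exterior power of the conormal sheaf tensor the pulled-back top differentials — then the
restriction of ω to the generic fibre X_η = X ×_B Spec k is a canonical sheaf of X_η over k in the
same sense. (Canonical sheaves are pinned only up to isomorphism here, so the statement is the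
existence of a suitable factorisation of X_η → Spec k and of an isomorphism.) -/
theorem result (F : Type u) [Field F] (X B : Scheme.{u})
    [IsIntegral X] [IsIntegral B]
    (pX : X ⟶ Spec (CommRingCat.of F)) (pB : B ⟶ Spec (CommRingCat.of F))
    [LocallyOfFiniteType pX] [QuasiCompact pX] [LocallyOfFiniteType pB] [QuasiCompact pB]
    (π : X ⟶ B) (hπ : π ≫ pB = pX)
    (hπlci : Dual3.IsLCIMor π) (hXlci : Dual3.IsLCIMor pX) (hBlci : Dual3.IsLCIMor pB)
    (ω : X.Modules) (hω : Canon.IsCanonical pX ω) :
    Canon.IsCanonical (pullback.snd π (B.fromSpecStalk (genericPoint B)))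
      ((Scheme.Modules.pullback (pullback.fst π (B.fromSpecStalk (genericPoint B)))).obj ω) := by
  classical
  obtain ⟨Z, i, g, c, n, hig, hi, hg, _, _, hv⟩ := hω
  have := hi.1
  have := LocallyOfFiniteType.isLocallyNoetherian pB
  have := LocallyOfFiniteType.isLocallyNoetherian pX
  obtain ⟨U, hU, hηU, -⟩ := exists_isAffineOpen_mem_and_subset (X := B) (x := genericPoint B) (U := ⊤) trivial
  let s := B.fromSpecStalk (genericPoint B)
  let s' : Spec (B.presheaf.stalk (genericPoint B)) ⟶ U := 
    
    IsOpenImmersion.lift U.ι s (by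
      rw [Scheme.Opens.range_ι, Scheme.range_fromSpecStalk]
      intro y hy
      exact (hy : y ⤳ genericPoint B).mem_open U.isOpen hηU)
  have hs' : s' ≫ U.ι = s := IsOpenImmersion.lift_fac _ _ _
  have : Flat s := Groth.Agent.FlatMor67.flat_fromSpecStalk _
  have : Flat s' := MorphismProperty.of_isPullback
    (IsPullback.of_vert_isIso_mono (snd := 𝟙 _) (f := U.ι) (g := s) ⟨by rw [hs', Category.id_comp]⟩).flip ‹Flat s›
  -- the embedding of `U` in affine space
  let φ := Spec.preimage (hU.isoSpec.inv ≫ U.ι ≫ pB)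
  have hφ : Spec.map φ = hU.isoSpec.inv ≫ U.ι ≫ pB := Spec.map_preimage _
  have hft : φ.hom.FiniteType := (HasRingHomProperty.Spec_iff (P := @LocallyOfFiniteType)).1 (by
    rw [hφ]; infer_instance)
  let _ : Algebra F Γ(B, U) := φ.hom.toAlgebra
  obtain ⟨m, f, hf⟩ := Algebra.FiniteType.iff_quotient_mvPolynomial''.1 (hft : Algebra.FiniteType F Γ(B, U))
  let e : (U : Scheme.{u}) ⟶ Spec (CommRingCat.of (MvPolynomial (Fin m) F)) :=
    hU.isoSpec.hom ≫ Spec.map (CommRingCat.ofHom f.toRingHom)
  let q : Spec (CommRingCat.of (MvPolynomial (Fin m) F)) ⟶ Spec (CommRingCat.of F) :=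
    Spec.map (CommRingCat.ofHom (algebraMap F (MvPolynomial (Fin m) F)))
  have heq : e ≫ q = U.ι ≫ pB := by
    rw [Category.assoc, ← Spec.map_comp, ← CommRingCat.ofHom_comp, AlgHom.toRingHom_eq_coe, AlgHom.comp_algebraMap]
    rw [show CommRingCat.ofHom (algebraMap F Γ(B, U)) = φ from rfl, hφ, Iso.hom_inv_id_assoc]
  have : IsClosedImmersion (Spec.map (CommRingCat.ofHom f.toRingHom)) := IsClosedImmersion.spec_of_surjective _ hf
  have hq : SmoothOfRelativeDimension m q := by
    rw [HasRingHomProperty.Spec_iff (P := @SmoothOfRelativeDimension m)]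
    exact RingHom.locally_of RingHom.isStandardSmoothOfRelativeDimension_respectsIso _
      ((RingHom.isStandardSmoothOfRelativeDimension_algebraMap _).2
        (by simpa using Groth.Agent.CAlg8.Canon.isStandardSmooth_mvPolynomial F (Fin m)))
  have he : Groth.Agent.FlatMor68.KoszulCalc.lciProp (e ≫ q) := by
    rw [heq]
    exact Groth.Agent.FlatMor68.KoszulCalc.lciProp_comp _ _ (Groth.Agent.FlatMor68.KoszulCalc.lciProp_smooth _)
      (Groth.Agent.CAlg8.Canon.lciProp_of_isLCIMor hBlci)
  -- the restriction of `π`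
  have hπU : Groth.Agent.FlatMor68.KoszulCalc.lciProp (π ∣_ U) :=
    IsZariskiLocalAtTarget.restrict (Groth.Agent.CAlg8.Canon.lciProp_of_isLCIMor hπlci) U
  have : QuasiCompact (π ⁻¹ᵁ U).ι := Groth.Agent.AlgSt88.quasiCompact_of_isImmersion _
  obtain ⟨hC', hv'⟩ := Groth.Agent.CAlg8.Canon.isCanonicalVia_restrict i g (π ⁻¹ᵁ U).ι
    (Groth.Agent.CAlg8.Canon.isFinLocFreeOfRank_conormal rfl i hi) hg hv
  have sqU : IsPullback (π ⁻¹ᵁ U).ι (π ∣_ U) π U.ι := (isPullback_morphismRestrict π U).flip
  let p := pullback.fst π s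
  let p' : pullback π s ⟶ π ⁻¹ᵁ U := sqU.lift p (pullback.snd π s ≫ s')
    (by rw [Category.assoc, hs']; exact pullback.condition)
  have hp' : p' ≫ (π ⁻¹ᵁ U).ι = p := sqU.lift_fst _ _ _
  have outer : IsPullback p (pullback.snd π s) π (s' ≫ U.ι) := by
    rw [hs']; exact IsPullback.of_hasPullback π s
  have pre : ∀ {T : Scheme.{u}} [IsIntegral T] (O : T.Opens), PreirreducibleSpace (O : Scheme.{u}) := fun {T} _ O =>
    Subtype.preirreducibleSpace ((PreirreducibleSpace.isPreirreducible_univ).open_subset O.isOpen (Set.subset_univ _))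
  have := pre (π ⁻¹ᵁ U)
  have := pre U
  have key := Groth.Agent.CAlg8.Canon.isCanonical_fibre ((π ⁻¹ᵁ U).ι ≫ i) g hC' hg (π ∣_ U) hπU e q hq he
    (by rw [heq, ← Category.assoc (π ∣_ U), morphismRestrict_ι, Category.assoc, Category.assoc, hig, hπ])
    (k := B.presheaf.stalk (genericPoint B)) s' (outer.of_right' sqU) hv'
  obtain ⟨Z', i', g', c', n', h₁, h₂, h₃, h₄, h₅, DC, DΩ, h₆, h₇, ⟨a⟩⟩ := key
  exact ⟨Z', i', g', c', n', h₁, h₂, h₃, h₄, h₅, DC, DΩ, h₆, h₇, ⟨Groth.Agent.EGA73.tensIso
    (((Scheme.Modules.pullbackComp p' (π ⁻¹ᵁ U).ι).app ω ≪≫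
      (Scheme.Modules.pullbackCongr hp').app ω).symm) (Iso.refl DC) ≪≫ a⟩⟩

end Groth.Agent.S19003
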