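import Groth.Statements.S19004
import Mathlib.LinearAlgebra.Vandermonde
import Mathlib.Data.Fintype.Perm

set_option autoImplicit false
open GIT

namespace Groth.Agent.S19004

/-- For the group PGL(n) acting on the space of n × n matrices the T-quotient is (P^{n−1})^n with Chow
ring ℚ[t_1,…,t_n]/(t_1^n,…,t_n^n), the class c_top(g/t) is the product of all roots t_i − t_j (i ≠
j), and the computation in the proof shows that this product equals n!·t_1^{n−1}⋯t_n^{n−1} in that
ring. Stated here as the equivalent coefficient identity in ℤ[t_1,…,t_n]: the coefficient of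
t_1^{n−1}⋯t_n^{n−1} in the product over ordered pairs i ≠ j of (t_i − t_j) is n!. -/
theorem result (n : ℕ) :
    MvPolynomial.coeff (Finsupp.equivFunOnFinite.symm (fun _ : Fin n => n - 1))
      (∏ i : Fin n, ∏ j ∈ Finset.univ.erase i, (MvPolynomial.X i - MvPolynomial.X j : MvPolynomial (Fin n) ℤ)) = (n.factorial : ℤ) := by
  classical
  open MvPolynomial in
  let A : Matrix (Fin n) (Fin n) (MvPolynomial (Fin n) ℤ) :=
    Matrix.projVandermonde (fun _ => 1) (fun i => MvPolynomial.X i)
  let B : Matrix (Fin n) (Fin n) (MvPolynomial (Fin n) ℤ) :=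
    Matrix.projVandermonde (fun i => MvPolynomial.X i) (fun _ => 1)
  have hprod : (∏ i : Fin n, ∏ j ∈ Finset.univ.erase i,
      (MvPolynomial.X i - MvPolynomial.X j : MvPolynomial (Fin n) ℤ)) = A.det * B.det := by
    simp only [A, B, Matrix.det_projVandermonde, one_mul, mul_one]
    have hsplit : ∀ i : Fin n, Finset.univ.erase i = Finset.Ioi i ∪ Finset.Iio i := by
      intro i; ext j; simp [lt_or_lt_iff_ne, ne_comm]
    have hcomm : (∏ i : Fin n, ∏ j ∈ Finset.Iio i, (MvPolynomial.X i - MvPolynomial.X j : MvPolynomial (Fin n) ℤ)) =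
        ∏ i : Fin n, ∏ j ∈ Finset.Ioi i, (MvPolynomial.X j - MvPolynomial.X i : MvPolynomial (Fin n) ℤ) :=
      Finset.prod_comm' (by simp)
    rw [← hcomm, ← Finset.prod_mul_distrib]
    refine Finset.prod_congr rfl fun i _ => ?_
    rw [hsplit, Finset.prod_union]
    exact Finset.disjoint_left.mpr fun j h1 h2 => by simp at h1 h2; exact lt_asymm h1 h2
  rw [hprod, Matrix.det_apply', Matrix.det_apply', Finset.sum_mul_sum, MvPolynomial.coeff_sum]
  simp only [MvPolynomial.coeff_sum]
  have key : ∀ σ τ : Equiv.Perm (Fin n),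
      MvPolynomial.coeff (Finsupp.equivFunOnFinite.symm (fun _ : Fin n => n - 1))
        (((Equiv.Perm.sign σ : ℤ) : MvPolynomial (Fin n) ℤ) * (∏ i, A (σ i) i) *
          (((Equiv.Perm.sign τ : ℤ) : MvPolynomial (Fin n) ℤ) * ∏ i, B (τ i) i)) =
      if τ = σ then 1 else 0 := by
    intro σ τ
    have hA : (∏ i, A (σ i) i) = MvPolynomial.monomial
        (Finsupp.equivFunOnFinite.symm fun j => ((σ.symm j).rev : ℕ)) 1 := by
      rw [MvPolynomial.monomial_eq, map_one, one_mul,
        Finsupp.prod_fintype _ _ (fun _ => pow_zero _)]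
      conv_rhs => rw [← Equiv.prod_comp σ]
      simp [A, Matrix.projVandermonde_apply]
    have hB : (∏ i, B (τ i) i) = MvPolynomial.monomial
        (Finsupp.equivFunOnFinite.symm fun j => ((τ.symm j) : ℕ)) 1 := by
      rw [MvPolynomial.monomial_eq, map_one, one_mul,
        Finsupp.prod_fintype _ _ (fun _ => pow_zero _)]
      conv_rhs => rw [← Equiv.prod_comp τ]
      simp [B, Matrix.projVandermonde_apply]
    rw [hA, hB, ← map_intCast (MvPolynomial.C : ℤ →+* MvPolynomial (Fin n) ℤ), ← map_intCast (MvPolynomial.C : ℤ →+* MvPolynomial (Fin n) ℤ), Int.cast_eq, Int.cast_eq, MvPolynomial.C_mul_monomial,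
      MvPolynomial.C_mul_monomial, MvPolynomial.monomial_mul, MvPolynomial.coeff_monomial]
    simp only [mul_one]
    by_cases h : τ = σ
    · subst h
      rw [if_pos rfl, if_pos, ← Units.val_mul, Int.units_mul_self, Units.val_one]
      ext j
      simp [Fin.val_rev]
      omega
    · rw [if_neg h, if_neg]
      intro heq
      apply h
      have : τ.symm = σ.symm := by
        ext j
        have := DFunLike.congr_fun heq j
        simp [Fin.val_rev] at this
        have := (σ.symm j).isLt
        omega
      rw [← τ.symm_symm, this, σ.symm_symm]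
  simp only [key]
  simp [Fintype.card_perm]

end Groth.Agent.S19004
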