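import Groth.Statements.S19005
import Mathlib.Tactic

set_option autoImplicit false
open scoped TensorProduct
open K2Cent

namespace Groth.Agent.S19005

/-- For abelian groups X and M and ε in M with 2ε = 0 (in the source X is the character group of a split
torus and ε is the class of −1 among the units), the map x ↦ (x ⊗ x, −(x ⊗ ε)) into (X ⊗ X) × (X ⊗
M) is quadratic over ℤ, i.e. it underlies an integer quadratic map with exactly these values. -/
theorem result (X M : Type*) [AddCommGroup X]
    [AddCommGroup M] (ε : M) (hε : 2 • ε = 0) :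
    ∃ R : QuadraticMap ℤ X (TensorProduct ℤ X X × TensorProduct ℤ X M),
      ∀ x : X, R x = (x ⊗ₜ[ℤ] x, -(x ⊗ₜ[ℤ] ε)) := by
  let B : LinearMap.BilinMap ℤ X (TensorProduct ℤ X X × TensorProduct ℤ X M) :=
    ((TensorProduct.mk ℤ X X) + (TensorProduct.mk ℤ X X).flip).compr₂
      (LinearMap.inl ℤ (TensorProduct ℤ X X) (TensorProduct ℤ X M))
  refine ⟨{ toFun := fun x => (x ⊗ₜ[ℤ] x, -(x ⊗ₜ[ℤ] ε))
            toFun_smul := fun a x => ?_
            exists_companion' := ⟨B, fun x y => ?_⟩ }, fun _ => rfl⟩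
  · refine Prod.ext ?_ ?_
    · simp [TensorProduct.smul_tmul', TensorProduct.tmul_smul, mul_smul]
    · have h0 : (2 : ℤ) • ε = 0 := by rw [two_smul, ← two_nsmul]; exact hε
      obtain ⟨m, hm⟩ : (2 : ℤ) ∣ a * a - a := by
        rw [show a * a - a = (a - 1) * a by ring]
        exact (Int.even_mul.mpr (by rcases Int.even_or_odd a with h | h
                                    · exact Or.inr h
                                    · exact Or.inl (h.sub_odd odd_one))).two_dvd
      show -((a • x) ⊗ₜ[ℤ] ε) = (a * a) • -(x ⊗ₜ[ℤ] ε)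
      rw [TensorProduct.smul_tmul, smul_neg, ← TensorProduct.tmul_smul,
        show a * a = a + m * 2 by linarith, add_smul, mul_smul, h0, smul_zero, add_zero]
  · refine Prod.ext ?_ ?_
    · show (x + y) ⊗ₜ[ℤ] (x + y) = x ⊗ₜ[ℤ] x + y ⊗ₜ[ℤ] y + (x ⊗ₜ[ℤ] y + y ⊗ₜ[ℤ] x)
      simp only [TensorProduct.add_tmul, TensorProduct.tmul_add]; abel
    · simp [B, TensorProduct.add_tmul]; abel

end Groth.Agent.S19005
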