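import Groth.Statements.S19007
import Groth.Agent.Roots36.QForm

set_option autoImplicit false
universe u v w x
open RootD

namespace Groth.Agent.S19007

/-- Let P be a finite reduced crystallographic root pairing over an integral domain of characteristic
zero, b a base of P (a system of simple roots) and Q a quadratic form on the coweight module with
polar form B. Then Q is invariant under all root reflections (equivalently under the Weyl group) on
the span of the coroots if and only if for all pairs of distinct simple roots α_i ≠ α_j one has
B(α_i^∨, α_j^∨) = ⟨α_j, α_i^∨⟩ Q(α_j^∨). (In the source the form is integer-valued on the lattice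
spanned by the coroots and the condition says that the bilinear form lies in the kernel of the last
map of a three-term complex built from the Bruhat cells of codimension at most two; here the form
takes values in the base ring.) -/
theorem result {ι : Type u} {R : Type v} {M : Type w} {N : Type x} [CommRing R] [IsDomain R] [CharZero R]
    [AddCommGroup M] [Module R M] [AddCommGroup N] [Module R N] (P : RootPairing ι R M N)
    [Finite ι] [P.IsCrystallographic] [P.IsReduced] (b : P.Base) (Q : QuadraticMap R N R) :
    (∀ i : ι, ∀ y ∈ Submodule.span R (Set.range P.coroot), Q (P.coreflection i y) = Q y) ↔
      ∀ i ∈ b.support, ∀ j ∈ b.support, i ≠ j →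
        QuadraticMap.polar Q (P.coroot i) (P.coroot j) = P.pairing j i * Q (P.coroot j) := by
  have := Fintype.ofFinite ι
  classical
  refine ⟨fun h i hi j hj hij => ?_, fun h i y hy => ?_⟩
  · have := (Roots36.coreflection_invariant_iff (P := P) Q j _
      (Submodule.subset_span (Set.mem_range_self j))).mp (h j) (P.coroot i)
      (Submodule.subset_span (Set.mem_range_self i))
    rwa [Roots36.root'_coroot] at this
  · exact (Roots36.coreflection_invariant_iff (P := P) Q i _
      (Submodule.subset_span (Set.mem_range_self i))).mpr (Roots36.polar_eq_of_simple b Q h i) y hy

end Groth.Agent.S19007
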