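import Groth.Statements.S19008
import Groth.Agent.Roots36.Forest

set_option autoImplicit false
universe u v w x
open RootD

namespace Groth.Agent.S19008

/-- Let P be a finite reduced crystallographic root pairing over an integral domain of characteristic
zero and b a base (simple roots α_i, i in the support of b), with Cartan integers a_ij = ⟨α_i,
α_j^∨⟩. An integer-valued bilinear form C on the lattice with basis the simple coroots is an integer
matrix C_ij = C(α_i^∨, α_j^∨), and the component of the last map of the complex at the pair (i, j),
i ≠ j, is C ↦ C(α_i^∨, α_j^∨) + C(α_j^∨, s_j(α_i^∨)) = C_ij + C_ji − a_ji C_jj; the pairs (i, j) and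
(j, i) index the same component exactly when α_i and α_j are orthogonal. This map is surjective: for
every family of integers d_ij (i ≠ j in the support) with d_ij = d_ji whenever a_ij = 0 there is an
integer matrix C with C_ij + C_ji − a_ji C_jj = d_ij for all i ≠ j in the support. -/
theorem result {ι : Type u} {R : Type v} {M : Type w} {N : Type x} [CommRing R] [IsDomain R] [CharZero R]
    [AddCommGroup M] [Module R M] [AddCommGroup N] [Module R N] (P : RootPairing ι R M N)
    [Finite ι] [P.IsCrystallographic] [P.IsReduced] (b : P.Base) (d : ι → ι → ℤ)
    (hd : ∀ i ∈ b.support, ∀ j ∈ b.support, i ≠ j → P.pairingIn ℤ i j = 0 → d i j = d j i) :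
    ∃ C : ι → ι → ℤ, ∀ i ∈ b.support, ∀ j ∈ b.support, i ≠ j →
      C i j + C j i - P.pairingIn ℤ j i * C j j = d i j := by
  have := Fintype.ofFinite ι
  classical
  obtain ⟨x, hx⟩ := Roots36.exists_edge_solution b d hd b.support Finset.Subset.rfl
  let e := Fintype.equivFin ι
  refine ⟨fun i j => if i = j then x j else if e i < e j then d i j + P.pairingIn ℤ j i * x j else 0,
    fun i hi j hj hij => ?_⟩
  have hne : e i ≠ e j := fun h => hij (e.injective h)
  have := hx i hi j hj hij
  simp only [if_neg hij, if_neg (Ne.symm hij), if_true]
  rcases lt_or_gt_of_ne hne with h | h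
  · rw [if_pos h, if_neg (not_lt.mpr h.le)]; ring
  · rw [if_neg (not_lt.mpr h.le), if_pos h]; linarith

end Groth.Agent.S19008
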