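import Groth.Statements.S19010
import Groth.Agent.Roots36.QForm
import Mathlib.LinearAlgebra.Projection

set_option autoImplicit false
universe u v w x
open RootD

namespace Groth.Agent.S19010

/-- Let P be a root pairing over an integral domain R of characteristic zero (roots α acting on the
coweight module N through reflections y ↦ y − ⟨α, y⟩ α^∨), D ⊆ N a submodule containing every coroot
and such that every element of D has a positive integer multiple in the span of the coroots (the
derived part), and Y₀ a complement of D in N. Let Q' be a quadratic form on N invariant under all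
root reflections. Then restriction to Y₀ is a bijection from the set of quadratic forms on N that
are invariant under all root reflections and agree with Q' on D onto the set of all quadratic forms
on Y₀. (In the source R = ℤ and N = Y₀ ⊕ Y_der is the cocharacter lattice of a split reductive
group; forms take values in R here.) -/
theorem result {ι : Type u} {R : Type v} {M : Type w} {N : Type x} [CommRing R] [IsDomain R] [CharZero R]
    [AddCommGroup M] [Module R M] [AddCommGroup N] [Module R N] (P : RootPairing ι R M N)
    (D Y₀ : Submodule R N) (hD : ∀ i : ι, P.coroot i ∈ D)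
    (hDsat : ∀ y ∈ D, ∃ n : ℕ, 0 < n ∧ n • y ∈ Submodule.span R (Set.range P.coroot))
    (hc : IsCompl Y₀ D)
    (Q' : QuadraticMap R N R) (hQ' : ∀ (i : ι) (y : N), Q' (P.coreflection i y) = Q' y) :
    Set.BijOn (fun Q : QuadraticMap R N R => Q.comp Y₀.subtype)
      {Q | (∀ (i : ι) (y : N), Q (P.coreflection i y) = Q y) ∧ ∀ y ∈ D, Q y = Q' y} Set.univ := by
  let πY : N →ₗ[R] N := Y₀.projection D hc
  let πD : N →ₗ[R] N := D.projection Y₀ hc.symm
  have hsum : ∀ y, πY y + πD y = y := fun y => Submodule.projection_add_projection_eq_self hc y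
  have hYm : ∀ y, πY y ∈ Y₀ := fun y => Submodule.projection_apply_mem _ _
  have hDm : ∀ y, πD y ∈ D := fun y => Submodule.projection_apply_mem _ _
  have hDfix : ∀ y ∈ D, πD y = y ∧ πY y = 0 := fun y hy =>
    ⟨Submodule.projection_apply_of_mem_left _ hy, Submodule.projection_apply_of_mem_right _ hy⟩
  refine ⟨fun Q _ => Set.mem_univ _, ?_, fun q _ => ?_⟩
  · rintro Q₁ ⟨h1, h1'⟩ Q₂ ⟨h2, h2'⟩ he
    ext y
    have hY : ∀ y ∈ Y₀, Q₁ y = Q₂ y := fun y hy => congrFun (congrArg DFunLike.coe he) ⟨y, hy⟩
    have key : ∀ z, ∀ x ∈ Submodule.span R (Set.range P.coroot),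
        QuadraticMap.polar Q₁ z x = QuadraticMap.polar Q₂ z x := by
      intro z x hx
      induction hx using Submodule.span_induction with
      | mem x hx =>
        obtain ⟨i, rfl⟩ := hx
        rw [(Roots36.coreflection_invariant_iff (P := P) Q₁ i ⊤ trivial).mp (fun w _ => h1 i w) z trivial,
          (Roots36.coreflection_invariant_iff (P := P) Q₂ i ⊤ trivial).mp (fun w _ => h2 i w) z trivial,
          h1' _ (hD i), h2' _ (hD i)]
      | zero => simp [QuadraticMap.polar_zero_right]
      | add a b _ _ ha hb => rw [QuadraticMap.polar_add_right, QuadraticMap.polar_add_right, ha, hb]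
      | smul r a _ ha => rw [QuadraticMap.polar_smul_right, QuadraticMap.polar_smul_right, ha]
    have hp : QuadraticMap.polar Q₁ (πY y) (πD y) = QuadraticMap.polar Q₂ (πY y) (πD y) := by
      obtain ⟨n, hn, hmem⟩ := hDsat _ (hDm y)
      have := key (πY y) _ hmem
      rw [← Nat.cast_smul_eq_nsmul R, QuadraticMap.polar_smul_right, QuadraticMap.polar_smul_right,
        smul_eq_mul, smul_eq_mul] at this
      exact mul_left_cancel₀ (by exact_mod_cast hn.ne') this
    rw [← hsum y, QuadraticMap.map_add Q₁, QuadraticMap.map_add Q₂, hY _ (hYm y), h1' _ (hDm y),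
      h2' _ (hDm y), hp]
  · let pY : N →ₗ[R] Y₀ := Y₀.projectionOnto D hc
    let Q : QuadraticMap R N R := Q' + (q - Q'.comp Y₀.subtype).comp pY
    refine ⟨Q, ⟨fun i y => ?_, fun y hy => ?_⟩, ?_⟩
    · have : pY (P.coreflection i y) = pY y := by
        rw [P.coreflection_apply, map_sub, map_smul,
          show pY (P.coroot i) = 0 from Submodule.projectionOnto_apply_of_mem_right hc (hD i),
          smul_zero, sub_zero]
      simp only [Q, QuadraticMap.add_apply, QuadraticMap.comp_apply, this, hQ' i y]
    · simp [Q, show pY y = 0 from Submodule.projectionOnto_apply_of_mem_right hc hy]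
    · ext y
      simp [Q, show pY (y : N) = y from Submodule.projectionOnto_apply_left hc y]

end Groth.Agent.S19010
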