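import Groth.Statements.S19011
import Mathlib.LinearAlgebra.RootSystem.Base
import Mathlib.LinearAlgebra.RootSystem.BaseExists
import Groth.Agent.Roots36.BaseAlg

set_option autoImplicit false
universe u v w x
open RootD

namespace Groth.Agent.S19011

/-- For a finite reduced crystallographic root pairing over an integral domain of characteristic zero,
the additive group generated by the coroots admits the presentation with one generator [β] for each
root β and the relations [s_α(β)] = [β] − ⟨α, β^∨⟩ [α] for all roots α, β, where ⟨α, β^∨⟩ is the
Cartan integer. Concretely: the kernel of the ℤ-linear map from the free abelian group on the index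
type of the roots to the coweight module sending the generator of index β to the coroot β^∨ is the
subgroup generated by the elements [s_α(β)] − [β] + ⟨α, β^∨⟩ [α]. (The source states this for the
cocharacter lattice of a split semi-simple simply connected group, which is the group generated by
the coroots.) -/
theorem result {ι : Type u} {R : Type v} {M : Type w} {N : Type x} [CommRing R] [IsDomain R] [CharZero R]
    [AddCommGroup M] [Module R M] [AddCommGroup N] [Module R N] (P : RootPairing ι R M N)
    [Finite ι] [P.IsCrystallographic] [P.IsReduced] :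
    LinearMap.ker (Finsupp.linearCombination ℤ (fun i : ι => (P.coroot i : N))) =
      Submodule.span ℤ (Set.range fun p : ι × ι =>
        Finsupp.single (P.reflectionPerm p.1 p.2) (1 : ℤ) - Finsupp.single p.2 1 +
          P.pairingIn ℤ p.1 p.2 • Finsupp.single p.1 1) := by
  have := Fintype.ofFinite ι
  classical
  obtain ⟨Δ, hli, -, hind⟩ := Roots36.exists_coroot_basis_data P
  apply le_antisymm
  · intro x hx
    rw [LinearMap.mem_ker] at hx
    set K := Submodule.span ℤ (Set.range fun p : ι × ι =>
        Finsupp.single (P.reflectionPerm p.1 p.2) (1 : ℤ) - Finsupp.single p.2 1 +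
          P.pairingIn ℤ p.1 p.2 • Finsupp.single p.1 1) with hK
    let G := Submodule.span ℤ ((fun j : ι => Finsupp.single j (1 : ℤ)) '' Δ)
    have hall : ∀ k, Finsupp.single k (1 : ℤ) ∈ K ⊔ G := by
      intro k
      refine hind k (fun k => Finsupp.single k (1 : ℤ) ∈ K ⊔ G) (fun j hj => ?_) (fun i j hi hj => ?_)
      · exact Submodule.mem_sup_right (Submodule.subset_span ⟨j, hj, rfl⟩)
      · have h1 : Finsupp.single (P.reflectionPerm j i) (1 : ℤ) - Finsupp.single i 1 +
            P.pairingIn ℤ j i • Finsupp.single j 1 ∈ K ⊔ G :=
          Submodule.mem_sup_left (Submodule.subset_span ⟨(j, i), rfl⟩)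
        have h2 := add_mem (sub_mem h1 (Submodule.smul_mem _ (P.pairingIn ℤ j i) hj)) hi
        convert h2 using 1
        abel
    have htop : x ∈ K ⊔ G := by
      rw [← Finsupp.sum_single x]
      refine Submodule.sum_mem _ fun k _ => ?_
      rw [← mul_one (x k), ← smul_eq_mul, ← Finsupp.smul_single]
      exact Submodule.smul_mem _ _ (hall k)
    obtain ⟨y, hy, z, hz, rfl⟩ := Submodule.mem_sup.mp htop
    have hy0 : Finsupp.linearCombination ℤ (fun i : ι => (P.coroot i : N)) y = 0 :=
      LinearMap.mem_ker.mp ((Submodule.span_le.mpr (Roots36.relation_mem_ker P)) hy)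
    rw [map_add, hy0, zero_add] at hx
    have hz' : z ∈ Finsupp.supported ℤ ℤ Δ := by
      refine (Submodule.span_le.mpr ?_) hz
      rintro _ ⟨j, hj, rfl⟩
      exact Finsupp.single_mem_supported ℤ 1 hj
    rw [linearIndepOn_iff.mp hli z hz' hx, add_zero]
    exact hy
  · exact Submodule.span_le.mpr (Roots36.relation_mem_ker P)

end Groth.Agent.S19011
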