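import Groth.Statements.S19012
import Groth.Agent.Roots36.QForm

set_option autoImplicit false
universe u v w x
open RootD

namespace Groth.Agent.S19012

/-- Let P be a finite reduced crystallographic root pairing over a field of characteristic zero which is
irreducible, and b a base. A quadratic form on the coweight module that is invariant under all root
reflections and vanishes on some simple coroot is zero; in other words an invariant form is
determined by its value on a single simple coroot. (The source proves, component by component of the
Dynkin diagram, that an invariant integer-valued form on the coroot lattice with prescribed value on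
the first simple coroot of each component is unique; here the system is irreducible, the coroots
span the coweight module, and forms take values in the base field.) -/
theorem result {ι : Type u} {K : Type v} {M : Type w} {N : Type x} [Field K] [CharZero K]
    [AddCommGroup M] [Module K M] [AddCommGroup N] [Module K N] (P : RootPairing ι K M N)
    [Finite ι] [P.IsCrystallographic] [P.IsReduced] [P.IsIrreducible] (b : P.Base)
    (Q : QuadraticMap K N K) (hQ : ∀ (i : ι) (y : N), Q (P.coreflection i y) = Q y)
    (i₀ : ι) (hi₀ : i₀ ∈ b.support) (h0 : Q (P.coroot i₀) = 0) : Q = 0 := by
  have := P.coreflection_apply_self i₀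
  let Z : Set ι := {k | Q (P.coroot k) = 0}
  let q : Submodule K N := Submodule.span K (P.coroot '' Z)
  have hq : ∀ i, q ∈ Module.End.invtSubmodule (P.coreflection i) := by
    intro i
    rw [Module.End.mem_invtSubmodule, ← Submodule.map_le_iff_le_comap, Submodule.map_span,
      Submodule.span_le]
    rintro _ ⟨_, ⟨k, hk, rfl⟩, rfl⟩
    refine Submodule.subset_span ⟨P.reflectionPerm i k, ?_, P.coroot_reflectionPerm i k⟩
    change Q (P.coroot (P.reflectionPerm i k)) = 0
    rw [P.coroot_reflectionPerm]
    exact (hQ i _).trans hk
  have htop : q = ⊤ := by
    refine RootPairing.IsIrreducible.eq_top_of_invtSubmodule_coreflection (P := P) q hq fun h => ?_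
    exact P.flip.ne_zero i₀ ((Submodule.eq_bot_iff q).mp h _ (Submodule.subset_span ⟨i₀, h0, rfl⟩))
  have hz : ∀ y z, z ∈ q → QuadraticMap.polar Q y z = 0 := by
    intro y z hz
    induction hz using Submodule.span_induction with
    | mem x hx =>
      obtain ⟨k, hk, rfl⟩ := hx
      rw [(Roots36.coreflection_invariant_iff (P := P) Q k ⊤ trivial).mp (fun w _ => hQ k w) y trivial,
        show Q (P.coroot k) = 0 from hk, mul_zero]
    | zero => exact QuadraticMap.polar_zero_right Q y
    | add a b _ _ ha hb => rw [QuadraticMap.polar_add_right, ha, hb, add_zero]
    | smul r a _ ha => rw [QuadraticMap.polar_smul_right, ha, smul_zero]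
  ext y
  have := hz y y (htop ▸ Submodule.mem_top)
  rw [QuadraticMap.polar_self, nsmul_eq_mul] at this
  simpa using (mul_eq_zero.mp this).resolve_left (by norm_num)

end Groth.Agent.S19012
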