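import Groth.Statements.S19013
import Groth.Agent.MilK95.TameKer

set_option autoImplicit false
universe u v
open MilnorK

namespace Groth.Agent.S19013

/-- Let A ⊆ B be discrete valuation rings, the inclusion being a local homomorphism, with fraction
fields E ⊆ F compatibly, with the induced homomorphism of residue fields κ(A) → κ(B), and with
ramification index e, the natural number such that the maximal ideal of A generates the e-th power
of the maximal ideal of B. Let ∂_A : K_{n+1}(E) → K_n(κ(A)) and ∂_B : K_{n+1}(F) → K_n(κ(B)) be the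
residue maps (tame symbols) on Milnor K-groups. Then for every x in K_{n+1}(E) one has ∂_B(x_F) = e
· (∂_A x)_{κ(B)}, where the subscripts denote the change-of-fields maps along E → F and κ(A) → κ(B).
(The published statement concerns discrete valuations of geometric type on fields finitely generated
over a base field; it is stated here for an arbitrary pair of discrete valuation rings, which is all
the printed computation uses.) -/
theorem result
    (A B : Type u) [CommRing A] [IsDomain A] [IsDiscreteValuationRing A]
    [CommRing B] [IsDomain B] [IsDiscreteValuationRing B] [Algebra A B] [IsLocalHom (algebraMap A B)]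
    (E F : Type v) [Field E] [Field F] [Algebra A E] [IsFractionRing A E] [Algebra B F] [IsFractionRing B F]
    [Algebra E F] [Algebra A F] [IsScalarTower A E F] [IsScalarTower A B F]
    (e : ℕ) (he : Ideal.map (algebraMap A B) (IsLocalRing.maximalIdeal A) = IsLocalRing.maximalIdeal B ^ e)
    (n : ℕ) (dA : MilK.K E (n + 1) →+ MilK.K (IsLocalRing.ResidueField A) n) (hdA : MilK.IsTameSymbol A E n dA)
    (dB : MilK.K F (n + 1) →+ MilK.K (IsLocalRing.ResidueField B) n) (hdB : MilK.IsTameSymbol B F n dB)
    (x : MilK.K E (n + 1)) :
    dB (MilK.map (algebraMap E F) (n + 1) x) =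
      e • MilK.map (IsLocalRing.ResidueField.map (algebraMap A B)) n (dA x) := by
  classical
  obtain ⟨a, ha⟩ := IsDiscreteValuationRing.exists_irreducible A
  obtain ⟨b, hb⟩ := IsDiscreteValuationRing.exists_irreducible B
  let pA : Groth.Agent.MilK95.Unif A := ⟨a, ha⟩
  let pB : Groth.Agent.MilK95.Unif B := ⟨b, hb⟩
  have hu : ∀ u : Aˣ, Units.map (algebraMap E F : E →* F) (MilK.unitToFrac A E u) =
      MilK.unitToFrac B F (Units.map (algebraMap A B : A →* B) u) := fun u => by
    ext; simp [MilK.unitToFrac, ← IsScalarTower.algebraMap_apply]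
  have hpi : pB.ord (Additive.ofMul (Units.map (algebraMap E F : E →* F) (pA.pi E))) = (e : ℤ) := by
    have h1 : Ideal.span {algebraMap A B a} = Ideal.span {b ^ e} := by
      rw [← Ideal.span_singleton_pow, ← Set.image_singleton, ← Ideal.map_span,
        ← (IsDiscreteValuationRing.irreducible_iff_uniformizer a).mp ha,
        ← (IsDiscreteValuationRing.irreducible_iff_uniformizer b).mp hb, he]
    obtain ⟨w, hw⟩ := Ideal.span_singleton_eq_span_singleton.mp h1.symm
    have e1 : Units.map (algebraMap E F : E →* F) (pA.pi E) = pB.pi F ^ (e : ℤ) * MilK.unitToFrac B F w := by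
      ext
      simp [MilK.unitToFrac, Groth.Agent.MilK95.Unif.pi, pA, pB, ← IsScalarTower.algebraMap_apply]
      rw [IsScalarTower.algebraMap_apply A B F, ← hw, map_mul, map_pow]
    rw [e1, pB.ord_split]
  have key : ∀ z : MilK.K E (n + 1), dB (MilK.map (algebraMap E F) (n + 1) z) =
      e • MilK.map (IsLocalRing.ResidueField.map (algebraMap A B)) n (dA z) := by
    intro z
    obtain ⟨c, hc, c', hc', rfl⟩ := Groth.Agent.MilK95.exists_unitsSub_add pA n z
    simp only [map_add, smul_add]
    congr 1
    · refine (AddSubgroup.closure_le (K := (dB.comp (MilK.map (algebraMap E F) (n + 1)) -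
        e • (MilK.map (IsLocalRing.ResidueField.map (algebraMap A B)) n).comp dA).ker)).mpr ?_ hc |> sub_eq_zero.mp
      rintro _ ⟨u, rfl⟩
      simp only [SetLike.mem_coe, AddMonoidHom.mem_ker, AddMonoidHom.sub_apply, AddMonoidHom.comp_apply,
        AddMonoidHom.smul_apply, MilK.map_symbol, hu, Groth.Agent.MilK95.tame_zero_on_units hdA,
        Groth.Agent.MilK95.tame_zero_on_units hdB, map_zero, smul_zero, sub_zero]
    · refine (AddSubgroup.closure_le (K := ((dB.comp (MilK.map (algebraMap E F) (n + 1))).comp
          (Groth.Agent.MilK95.sc (pA.pi E)) -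
        e • ((MilK.map (IsLocalRing.ResidueField.map (algebraMap A B)) n).comp dA).comp
          (Groth.Agent.MilK95.sc (pA.pi E))).ker)).mpr ?_ hc' |> sub_eq_zero.mp
      rintro _ ⟨u, rfl⟩
      simp only [SetLike.mem_coe, AddMonoidHom.mem_ker, AddMonoidHom.sub_apply, AddMonoidHom.comp_apply,
        AddMonoidHom.smul_apply, Groth.Agent.MilK95.map_sc, MilK.map_symbol, hu,
        Groth.Agent.MilK95.tame_sc_pi_of_mem pA hdA (Groth.Agent.MilK95.symbol_mem_unitsSub u),
        Groth.Agent.MilK95.spec_symbol, Groth.Agent.MilK95.tame_unique pB hdB,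
        Groth.Agent.MilK95.tame_sc_units, hpi, natCast_zsmul, sub_eq_zero]
      congr 2
      funext i
      ext
      simp [MilK.unitResidue]
  exact key x

end Groth.Agent.S19013
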