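import Groth.Statements.S19017
import Groth.Agent.Cyc90.MayerVietoris
import Groth.Agent.Cyc90.FieldSetup

set_option autoImplicit false
universe u
open CategoryTheory AlgebraicGeometry
open IntTh

namespace Groth.Agent.S19017

/-- Let k be an arbitrary field and X a scheme separated and of finite type over k, with the dimension
function δ induced from Spec k. Let i_1 : X_1 → X and i_2 : X_2 → X be closed subschemes whose
images cover X, and let Y be their intersection: closed immersions j_1 : Y → X_1, j_2 : Y → X_2 with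
i_1 ∘ j_1 = i_2 ∘ j_2 whose image in X is the intersection of the images of X_1 and X_2. Then the
sequence CH_n(Y) → CH_n(X_1) ⊕ CH_n(X_2) → CH_n(X) → 0, with first map γ ↦ (j_{1*}γ, −j_{2*}γ) and
second map the sum of the push-forwards, is exact for every integer n: every n-cycle on X is a sum
i_{1*}α_1 + i_{2*}α_2 of n-cycles on X_1 and X_2, and whenever such a sum is rationally equivalent
to zero on X there is an n-cycle γ on Y with α_1 rationally equivalent to j_{1*}γ on X_1 and α_2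
rationally equivalent to −j_{2*}γ on X_2. (The published statement does not require the two closed
subschemes to cover X; without that requirement the surjectivity fails already for two empty closed
subschemes of a point, and the printed argument uses the covering, so it is assumed here. The
published statement also calls the sequence one of rings graded by codimension; stated here is the
additive sequence graded by dimension, which is what the printed argument gives.) -/
theorem result (k : Type u) [Field k]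
    (X : Scheme.{u}) [X.Over (Spec (CommRingCat.of k))]
    [IsSeparated (X ↘ Spec (CommRingCat.of k))] [LocallyOfFiniteType (X ↘ Spec (CommRingCat.of k))]
    [QuasiCompact (X ↘ Spec (CommRingCat.of k))]
    (δ : X → ℤ) (hδ : Cyc.DeltaCompat (X ↘ Spec (CommRingCat.of k)) δ (fun _ => 0))
    {X₁ X₂ Y : Scheme.{u}} (i₁ : X₁ ⟶ X) (i₂ : X₂ ⟶ X) [IsClosedImmersion i₁] [IsClosedImmersion i₂]
    (hcov : Set.range i₁ ∪ Set.range i₂ = Set.univ)
    (j₁ : Y ⟶ X₁) (j₂ : Y ⟶ X₂) [IsClosedImmersion j₁] [IsClosedImmersion j₂]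
    (hcomm : j₁ ≫ i₁ = j₂ ≫ i₂) (hY : Set.range (j₁ ≫ i₁) = Set.range i₁ ∩ Set.range i₂) (n : ℤ) :
    (∀ α : AlgebraicCycle X ℤ, α ∈ Cyc.Zk X δ n →
      ∃ (α₁ : AlgebraicCycle X₁ ℤ) (α₂ : AlgebraicCycle X₂ ℤ),
        α₁ ∈ Cyc.Zk X₁ (fun x => δ (i₁ x)) n ∧ α₂ ∈ Cyc.Zk X₂ (fun x => δ (i₂ x)) n ∧
        α = AlgebraicCycle.map i₁ (fun x => δ (i₁ x)) δ α₁ + AlgebraicCycle.map i₂ (fun x => δ (i₂ x)) δ α₂) ∧
    (∀ (α₁ : AlgebraicCycle X₁ ℤ) (α₂ : AlgebraicCycle X₂ ℤ),
      α₁ ∈ Cyc.Zk X₁ (fun x => δ (i₁ x)) n → α₂ ∈ Cyc.Zk X₂ (fun x => δ (i₂ x)) n →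
      Cyc.RatEquivZero δ n
        (AlgebraicCycle.map i₁ (fun x => δ (i₁ x)) δ α₁ + AlgebraicCycle.map i₂ (fun x => δ (i₂ x)) δ α₂) →
      ∃ γ : AlgebraicCycle Y ℤ, γ ∈ Cyc.Zk Y (fun y => δ (i₁ (j₁ y))) n ∧
        Cyc.RatEquiv (fun x => δ (i₁ x)) n α₁
          (AlgebraicCycle.map j₁ (fun y => δ (i₁ (j₁ y))) (fun x => δ (i₁ x)) γ) ∧
        Cyc.RatEquiv (fun x => δ (i₂ x)) n α₂
          (-AlgebraicCycle.map j₂ (fun y => δ (i₁ (j₁ y))) (fun x => δ (i₂ x)) γ)) := by
  classical
  have hX : Cyc.IsSetup X δ :=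
    Groth.Agent.Cyc90.isSetup_of_field (X ↘ Spec (CommRingCat.of k)) δ hδ
  refine ⟨fun α hα => ?_, fun α₁ α₂ h₁ _ h => Groth.Agent.Cyc90.mayerVietoris_middle hX i₁ i₂ hcov
    j₁ j₂ hcomm hY n α₁ α₂ h₁ h⟩
  let α₁ := Groth.Agent.Cyc90.restrictClosed i₁ α
  let α₂ : AlgebraicCycle X₂ ℤ :=
    { toFun := fun z => if i₂ z ∈ Set.range i₁ then 0 else α (i₂ z)
      supportWithinDomain' := by simp
      supportLocallyFiniteWithinDomain' := fun z _ => by
        obtain ⟨t, ht, hfin⟩ := (Groth.Agent.Cyc90.restrictClosed i₂ α).supportLocallyFiniteWithinDomain' z trivial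
        refine ⟨t, ht, hfin.subset ?_⟩
        rintro w ⟨hw, hne⟩
        refine ⟨hw, fun h0 => hne ?_⟩
        change α (i₂ w) = 0 at h0
        simp [h0] }
  refine ⟨α₁, α₂, fun x hx => hα _ hx, fun x hx => ?_, ?_⟩
  · change (if i₂ x ∈ Set.range i₁ then 0 else α (i₂ x)) = 0
    split_ifs
    · rfl
    · exact hα _ hx
  refine DFunLike.ext _ _ fun x => ?_
  rw [Function.locallyFinsuppWithin.coe_add, Pi.add_apply]
  by_cases hx : x ∈ Set.range i₁
  · obtain ⟨z, rfl⟩ := hx
    rw [Groth.Agent.Cyc90.map_closedImmersion_image i₁ δ α₁ z]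
    by_cases h2 : i₁ z ∈ Set.range i₂
    · obtain ⟨w, hw⟩ := h2
      have : AlgebraicCycle.map i₂ (fun x => δ (i₂ x)) δ α₂ (i₁ z) = 0 := by
        rw [← hw, Groth.Agent.Cyc90.map_closedImmersion_image i₂ δ α₂ w]
        change (if i₂ w ∈ Set.range i₁ then 0 else α (i₂ w)) = 0
        rw [if_pos ⟨z, hw.symm⟩]
      rw [this, add_zero]; rfl
    · rw [Groth.Agent.Cyc90.map_closedImmersion_notMem i₂ δ α₂ h2, add_zero]; rfl
  · obtain ⟨w, rfl⟩ := (hcov.ge (Set.mem_univ x)).resolve_left hx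
    rw [Groth.Agent.Cyc90.map_closedImmersion_notMem i₁ δ α₁ hx, zero_add,
      Groth.Agent.Cyc90.map_closedImmersion_image i₂ δ α₂ w]
    exact (if_neg hx).symm

end Groth.Agent.S19017
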