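import Groth.Statements.S19018
import Mathlib.RingTheory.Kaehler.Basic
import Mathlib.Algebra.Ring.Pointwise.Set

set_option autoImplicit false
universe u
open TensorProduct
open SymTen
open scoped Pointwise

namespace Groth.Agent.S19018

/-- Suppose k is a field in which 2 ≠ 0 and R is a commutative k-algebra. Write I for the ideal of the
diagonal, i.e. the kernel of multiplication R ⊗_k R → R, and write S for the subalgebra of R ⊗_k R
consisting of elements invariant under interchanging the two tensor factors. Then, viewed as ideals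
of S, the swap-invariant elements of I^4 form precisely the square of the ideal of swap-invariant
elements of I^2. (The source is stated over the complex numbers; the proof needs only that 2 is
invertible.) -/
theorem result
    (k R : Type u) [Field k] [NeZero (2 : k)] [CommRing R] [Algebra k R] :
    Ideal.comap
        (AlgHom.equalizer ((Algebra.TensorProduct.comm k R R : R ⊗[k] R ≃ₐ[k] R ⊗[k] R) : R ⊗[k] R →ₐ[k] R ⊗[k] R)
          (AlgHom.id k (R ⊗[k] R))).val
        (KaehlerDifferential.ideal k R ^ 4) =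
      (Ideal.comap
        (AlgHom.equalizer ((Algebra.TensorProduct.comm k R R : R ⊗[k] R ≃ₐ[k] R ⊗[k] R) : R ⊗[k] R →ₐ[k] R ⊗[k] R)
          (AlgHom.id k (R ⊗[k] R))).val
        (KaehlerDifferential.ideal k R ^ 2)) ^ 2 := by
  classical
  set σ : R ⊗[k] R →ₐ[k] R ⊗[k] R :=
    ((Algebra.TensorProduct.comm k R R : R ⊗[k] R ≃ₐ[k] R ⊗[k] R) : R ⊗[k] R →ₐ[k] R ⊗[k] R) with hσ
  set S := AlgHom.equalizer σ (AlgHom.id k (R ⊗[k] R)) with hS
  set I := KaehlerDifferential.ideal k R with hI
  set J := Ideal.comap S.val (I ^ 2) with hJ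
  refine le_antisymm ?_ ?_
  swap
  · rw [pow_two J]
    refine le_trans (Ideal.le_comap_mul S.val) ?_
    rw [← pow_add]
  have σσ : ∀ z, σ (σ z) = z := fun z => by
    induction z using TensorProduct.induction_on with
    | zero => simp
    | tmul a b => simp [σ]
    | add a b ha hb => simp only [map_add, ha, hb]
  let d : R → R ⊗[k] R := fun r => (1 : R) ⊗ₜ[k] r - r ⊗ₜ[k] (1 : R)
  have hd : ∀ r, σ (d r) = - d r := fun r => by simp [σ, d]
  have hI4 : I ^ 4 = Ideal.span ((Set.range d * Set.range d) * (Set.range d * Set.range d)) := by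
    rw [show (4 : ℕ) = 2 + 2 from rfl, pow_add, pow_two, hI,
      ← KaehlerDifferential.span_range_eq_ideal, Ideal.span_mul_span', Ideal.span_mul_span']
  have key : ∀ z ∈ I ^ 4, ∀ y, ∃ w ∈ J ^ 2, S.val w = y * z + σ (y * z) := by
    intro z hz
    rw [hI4] at hz
    induction hz using Submodule.span_induction with
    | mem z hz =>
      obtain ⟨p, ⟨_, ⟨a, rfl⟩, _, ⟨b, rfl⟩, rfl⟩, q, ⟨_, ⟨c, rfl⟩, _, ⟨e, rfl⟩, rfl⟩, rfl⟩ := hz
      intro y
      have hdI : ∀ r, d r ∈ I := fun r => KaehlerDifferential.one_smul_sub_smul_one_mem_ideal k r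
      have h2 : ∀ r t, σ (d r * d t) = d r * d t := fun r t => by rw [map_mul, hd, hd, neg_mul_neg]
      have h2' : ∀ r t, d r * d t ∈ I ^ 2 := fun r t => pow_two I ▸ Ideal.mul_mem_mul (hdI r) (hdI t)
      have m1 : d a * d b ∈ S := (AlgHom.mem_equalizer _ _ _).mpr (h2 a b)
      have m2 : d c * d e * (y + σ y) ∈ S := (AlgHom.mem_equalizer _ _ _).mpr (by
        rw [map_mul, h2, map_add, σσ, add_comm (σ y)]
        rfl)
      refine ⟨(⟨_, m1⟩ : S) * ⟨_, m2⟩, ?_, ?_⟩
      · rw [pow_two J]
        exact Ideal.mul_mem_mul (h2' a b) (Ideal.mul_mem_right _ _ (h2' c e))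
      · show d a * d b * (d c * d e * (y + σ y)) = y * (d a * d b * (d c * d e)) + σ (y * (d a * d b * (d c * d e)))
        rw [map_mul, map_mul, h2, h2]
        ring
    | zero => exact fun y => ⟨0, zero_mem _, by simp⟩
    | add a b _ _ ha hb =>
      intro y
      obtain ⟨u, hu, hu'⟩ := ha y
      obtain ⟨v, hv, hv'⟩ := hb y
      exact ⟨u + v, add_mem hu hv, by rw [map_add, hu', hv', mul_add, map_add]; abel⟩
    | smul r a _ ha =>
      intro y
      obtain ⟨u, hu, hu'⟩ := ha (y * r)
      exact ⟨u, hu, by rw [hu', smul_eq_mul, mul_assoc]⟩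
  intro x hx
  obtain ⟨w, hw, hw'⟩ := key (S.val x) hx 1
  have hx2 : σ (S.val x) = S.val x := x.2
  have e : x = (2 : k)⁻¹ • w := Subtype.ext (by
    show S.val x = (2 : k)⁻¹ • S.val w
    rw [hw', one_mul, hx2, smul_add, ← add_smul, ← two_mul, mul_inv_cancel₀ (NeZero.ne (2 : k)), one_smul])
  rw [e]
  exact Submodule.smul_of_tower_mem _ _ hw

end Groth.Agent.S19018
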