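import Groth.Statements.S19019
import Mathlib.Tactic
import Mathlib.Analysis.Real.Cardinality
import Mathlib.Analysis.SpecialFunctions.Integrals.Basic
import Mathlib.LinearAlgebra.Matrix.PosDef
import Mathlib.MeasureTheory.Integral.IntervalIntegral.FundThmCalculus
import Mathlib.Analysis.Matrix.Hermitian
import Mathlib.Topology.Algebra.Module.Cardinality

set_option autoImplicit false
open scoped ComplexOrder
open Toeplitz

namespace Groth.Agent.S19019

/-- Let A be an m × m complex Hermitian Toeplitz matrix, with entries A i j = t (j - i) constant along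
diagonals, and let f(y) = Σ_{-m < k < m} t k · exp(i k y) be the trigonometric polynomial attached
to it. If f has positive real part at every real y outside a countable set, then A is positive
definite (hence nondegenerate). (The source also states the mirror case: f negative off a countable
set gives A negative definite, which is this statement for -A.) -/
theorem result
    (m : ℕ) (t : ℤ → ℂ) (A : Matrix (Fin m) (Fin m) ℂ)
    (hA : ∀ i j : Fin m, A i j = t ((j : ℤ) - (i : ℤ))) (hH : A.IsHermitian)
    (hpos : Set.Countable {y : ℝ | ¬ 0 < (∑ k ∈ Finset.Ioo (-(m : ℤ)) (m : ℤ),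
        t k * Complex.exp (Complex.I * (k : ℂ) * (y : ℂ))).re}) :
    A.PosDef := by
  classical
  refine Matrix.PosDef.of_dotProduct_mulVec_pos hH fun {x} hx => ?_
  set T := Finset.Ioo (-(m : ℤ)) (m : ℤ) with hT
  set S : ℝ → ℂ := fun y => ∑ k ∈ T, t k * Complex.exp (Complex.I * (k : ℂ) * (y : ℂ)) with hS
  set P : ℝ → ℂ := fun y => ∑ a : Fin m, x a * Complex.exp (-(Complex.I * ((a : ℕ) : ℂ) * (y : ℂ))) with hP
  have hSc : Continuous S := by rw [hS]; fun_prop
  have hPc : Continuous P := by rw [hP]; fun_prop
  have hre : ∀ y, 0 ≤ (S y).re := by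
    have hd : Dense {y : ℝ | 0 < (S y).re} := by
      have := Set.Countable.dense_compl ℝ hpos
      exact this.mono fun y hy => not_not.mp hy
    intro y
    exact (closure_minimal (fun z (hz : 0 < (S z).re) => hz.le)
      (isClosed_le continuous_const (Complex.continuous_re.comp hSc))) (hd y)
  -- orthogonality
  have hint : ∀ k : ℤ, (∫ y in (0 : ℝ)..(2 * Real.pi), Complex.exp (Complex.I * (k : ℂ) * (y : ℂ))) =
      if k = 0 then ((2 * Real.pi : ℝ) : ℂ) else 0 := by
    intro k
    split_ifs with h
    · simp [h, intervalIntegral.integral_const]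
    · rw [integral_exp_mul_complex (mul_ne_zero Complex.I_ne_zero (Int.cast_ne_zero.mpr h))]
      rw [show Complex.I * (k : ℂ) * ((2 * Real.pi : ℝ) : ℂ) = (k : ℂ) * (2 * Real.pi * Complex.I) by push_cast; ring,
        Complex.exp_int_mul_two_pi_mul_I]
      simp
  have hexpand : ∀ y : ℝ, S y * ((Complex.normSq (P y) : ℝ) : ℂ) =
      ∑ a : Fin m, ∑ b : Fin m, ∑ k ∈ T, star (x a) * x b * t k *
        Complex.exp (Complex.I * ((k + (a : ℕ) - (b : ℕ) : ℤ) : ℂ) * (y : ℂ)) := by
    intro y
    rw [Complex.normSq_eq_conj_mul_self]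
    simp only [hS, hP, map_sum]
    rw [Finset.sum_mul_sum, Finset.mul_sum]
    refine Finset.sum_congr rfl fun a _ => ?_
    rw [Finset.mul_sum]
    refine Finset.sum_congr rfl fun b _ => ?_
    rw [Finset.sum_mul]
    refine Finset.sum_congr rfl fun k _ => ?_
    rw [map_mul, ← Complex.exp_conj, map_neg, map_mul, map_mul, Complex.conj_I, Complex.conj_ofReal, map_natCast,
      Complex.star_def]
    rw [show Complex.I * ((k + (a : ℕ) - (b : ℕ) : ℤ) : ℂ) * (y : ℂ) =
      Complex.I * (k : ℂ) * (y : ℂ) + (-(-Complex.I * ((a : ℕ) : ℂ) * (y : ℂ)) + -(Complex.I * ((b : ℕ) : ℂ) * (y : ℂ)))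
      by push_cast; ring, Complex.exp_add, Complex.exp_add]
    ring
  have hQ : (∫ y in (0 : ℝ)..(2 * Real.pi), S y * ((Complex.normSq (P y) : ℝ) : ℂ)) =
      ((2 * Real.pi : ℝ) : ℂ) * (star x ⬝ᵥ A.mulVec x) := by
    simp only [hexpand]
    rw [intervalIntegral.integral_finsetSum fun a _ => Continuous.intervalIntegrable (by fun_prop) _ _]
    simp only [dotProduct, Matrix.mulVec, Pi.star_apply, Finset.mul_sum]
    refine Finset.sum_congr rfl fun a _ => ?_
    rw [intervalIntegral.integral_finsetSum fun b _ => Continuous.intervalIntegrable (by fun_prop) _ _]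
    refine Finset.sum_congr rfl fun b _ => ?_
    rw [intervalIntegral.integral_finsetSum fun k _ => Continuous.intervalIntegrable (by fun_prop) _ _]
    simp only [intervalIntegral.integral_const_mul, hint]
    rw [Finset.sum_eq_single (((b : ℕ) : ℤ) - ((a : ℕ) : ℤ))]
    · rw [if_pos (by ring), hA]
      ring
    · intro k _ hk
      rw [if_neg (by omega), mul_zero]
    · intro h
      exfalso
      apply h
      rw [hT, Finset.mem_Ioo]
      omega
  -- a point where the integrand is positive
  obtain ⟨y₀, hy₀, hgood, hP0⟩ : ∃ y ∈ Set.Ioo (0 : ℝ) 1, 0 < (S y).re ∧ P y ≠ 0 := by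
    by_contra hcon
    push Not at hcon
    set q : Polynomial ℂ := ∑ a : Fin m, Polynomial.C (x a) * Polynomial.X ^ (a : ℕ) with hq
    have hq0 : q ≠ 0 := fun h => hx (funext fun a => by
      have := congrArg (Polynomial.coeff · (a : ℕ)) h
      simpa [hq, Polynomial.coeff_C_mul_X_pow, Fin.val_eq_val] using this)
    set g : ℝ → ℂ := fun y => Complex.exp (-(Complex.I * (y : ℂ))) with hg
    have heval : ∀ y, P y = q.eval (g y) := fun y => by
      simp only [hP, hq, Polynomial.eval_finsetSum, Polynomial.eval_mul, Polynomial.eval_C, Polynomial.eval_pow,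
        Polynomial.eval_X, hg, ← Complex.exp_nat_mul]
      refine Finset.sum_congr rfl fun a _ => ?_
      congr 2; ring
    have hinj : Set.InjOn g (Set.Ioo (0 : ℝ) 1) := by
      intro u hu v hv huv
      obtain ⟨k, hk⟩ := Complex.exp_eq_exp_iff_exists_int.mp huv
      have him := congrArg Complex.im hk
      simp at him
      have hpi := Real.two_le_pi
      have hu1 := hu.1; have hu2 := hu.2; have hv1 := hv.1; have hv2 := hv.2
      have hk0 : k = 0 := by
        rcases lt_trichotomy k 0 with h | h | h
        · have : (k : ℝ) ≤ -1 := by exact_mod_cast (by omega : k ≤ -1)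
          nlinarith
        · exact h
        · have : (1 : ℝ) ≤ (k : ℝ) := by exact_mod_cast h
          nlinarith
      rw [hk0] at him
      simp at him
      linarith
    have hc2 : ({y : ℝ | q.eval (g y) = 0} ∩ Set.Ioo (0 : ℝ) 1).Countable :=
      Set.MapsTo.countable_of_injOn (t := (q.roots.toFinset : Set ℂ))
        (fun y hy => by simpa [Polynomial.mem_roots hq0] using hy.1)
        (hinj.mono Set.inter_subset_right) (Finset.countable_toSet _)
    have hcnt : (Set.Ioo (0 : ℝ) 1).Countable := (hpos.union hc2).mono fun y hy => by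
      by_cases h : 0 < (S y).re
      · exact Or.inr ⟨(heval y).symm.trans (hcon y hy h), hy⟩
      · exact Or.inl h
    exact (Cardinal.Real.Ioo_countable_iff.mp hcnt).not_gt one_pos
  have hpi : (0 : ℝ) < 2 * Real.pi := by positivity
  have hI : 0 < ∫ y in (0 : ℝ)..(2 * Real.pi), (S y).re * Complex.normSq (P y) := by
    refine intervalIntegral.integral_pos hpi ?_ (fun y _ => mul_nonneg (hre y) (Complex.normSq_nonneg _))
      ⟨y₀, ⟨hy₀.1.le, by nlinarith [Real.two_le_pi, hy₀.2]⟩, mul_pos hgood (Complex.normSq_pos.mpr hP0)⟩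
    exact ((Complex.continuous_re.comp hSc).mul (Complex.continuous_normSq.comp hPc)).continuousOn
  have hre2 : (∫ y in (0 : ℝ)..(2 * Real.pi), S y * ((Complex.normSq (P y) : ℝ) : ℂ)).re =
      ∫ y in (0 : ℝ)..(2 * Real.pi), (S y).re * Complex.normSq (P y) := by
    rw [← Complex.reCLM_apply, ← ContinuousLinearMap.intervalIntegral_comp_comm]
    · simp
    · exact (hSc.mul (Complex.continuous_ofReal.comp (Complex.continuous_normSq.comp hPc))).intervalIntegrable _ _
  rw [hQ, Complex.re_ofReal_mul] at hre2
  have him : (star x ⬝ᵥ A.mulVec x).im = 0 := Matrix.IsHermitian.im_star_dotProduct_mulVec_self hH x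
  have hpos' : 0 < (star x ⬝ᵥ A.mulVec x).re := by nlinarith [hre2, hI]
  rw [Complex.pos_iff]
  exact ⟨hpos', him.symm⟩

end Groth.Agent.S19019
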