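import Groth.Statements.S19020
import Mathlib.Tactic
import Mathlib.LinearAlgebra.Matrix.PosDef
import Mathlib.Analysis.Matrix.Order
import Mathlib.Data.Nat.Choose.Vandermonde
import Mathlib.Data.Nat.Dist

set_option autoImplicit false
open Toeplitz

namespace Groth.Agent.S19020

theorem vander (n d : ℕ) : ∑ s ∈ Finset.range (n + 1), n.choose (s + d) * n.choose s = (2 * n).choose (n + d) := by
  rcases le_or_gt d n with h | h
  · rw [← Nat.choose_symm (by omega : n + d ≤ 2 * n), show 2 * n - (n + d) = n - d by omega, two_mul,
      Nat.add_choose_eq, Finset.Nat.sum_antidiagonal_eq_sum_range_succ_mk,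
      ← Finset.sum_subset (Finset.range_subset_range.mpr (by omega : n - d + 1 ≤ n + 1))]
    · refine Finset.sum_congr rfl fun s hs => ?_
      rw [Finset.mem_range] at hs
      rw [mul_comm (n.choose s) (n.choose (n - d - s)), ← Nat.choose_symm (by omega : s + d ≤ n),
        show n - (s + d) = n - d - s by omega]
    · intro s _ hs
      rw [Finset.mem_range, not_lt] at hs
      rw [Nat.choose_eq_zero_of_lt (by omega : n < s + d), zero_mul]
  · rw [Nat.choose_eq_zero_of_lt (by omega : 2 * n < n + d)]
    exact Finset.sum_eq_zero fun s _ => by rw [Nat.choose_eq_zero_of_lt (by omega : n < s + d), zero_mul]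

theorem overlap (n m i j : ℕ) (hij : i ≤ j) (hj : j < m) :
    ∑ l ∈ Finset.range (m + n), (if i ≤ l then n.choose (l - i) else 0) * (if j ≤ l then n.choose (l - j) else 0) =
      (2 * n).choose (n + (j - i)) := by
  rw [show m + n = j + ((n + 1) + (m - j - 1)) by omega, Finset.sum_range_add, Finset.sum_eq_zero, zero_add,
    Finset.sum_range_add, ← vander]
  · rw [add_eq_left.mpr (Finset.sum_eq_zero fun s _ => ?_)]
    · refine Finset.sum_congr rfl fun s _ => ?_
      rw [if_pos (by omega), if_pos (by omega), show j + s - i = s + (j - i) by omega, show j + s - j = s by omega]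
    · rw [if_pos (by omega : j ≤ j + (n + 1 + s)), Nat.choose_eq_zero_of_lt (by omega : n < j + (n + 1 + s) - j), mul_zero]
  · intro l hl
    rw [Finset.mem_range] at hl
    rw [if_neg (not_le.mpr hl), mul_zero]


/-- For natural numbers n and m, the m × m real Toeplitz matrix with (i, j) entry (-1)^(i+j) · C(2n, n +
|i - j|), i.e. with t_k = (-1)^k C(2n, n + k) on the k-th diagonal for |k| ≤ n and zero beyond, is
positive definite; in particular it is nondegenerate, which is the printed assertion (positive
definiteness is what the printed proof establishes; m = 0 is the empty matrix). -/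
theorem result (n m : ℕ) :
    (Matrix.of fun i j : Fin m =>
        (-1 : ℝ) ^ ((i : ℕ) + (j : ℕ)) * (Nat.choose (2 * n) (n + Nat.dist i j) : ℝ)).PosDef := by
  set B : Matrix (Fin (m + n)) (Fin m) ℝ :=
    Matrix.of fun l i => (-1 : ℝ) ^ (i : ℕ) * ((if (i : ℕ) ≤ (l : ℕ) then n.choose ((l : ℕ) - i) else 0 : ℕ) : ℝ) with hB
  have hinj : Function.Injective B.mulVec := by
    intro v w hvw
    have h0 : B.mulVec (v - w) = 0 := by rw [Matrix.mulVec_sub, hvw, sub_self]
    refine sub_eq_zero.mp (funext fun i => ?_)
    induction i using WellFoundedLT.induction with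
    | ind i ih =>
      have h := congrFun h0 ⟨i, by omega⟩
      rw [Matrix.mulVec, dotProduct, Finset.sum_eq_single i] at h
      · simpa [hB] using h
      · intro j _ hj
        rcases lt_or_gt_of_ne hj with hlt | hgt
        · rw [ih j hlt, Pi.zero_apply, mul_zero]
        · simp [hB, show ¬ (j : ℕ) ≤ (i : ℕ) from not_le.mpr hgt]
      · simp
  convert Matrix.PosDef.conjTranspose_mul_self B hinj using 1
  ext i j
  simp only [hB, Matrix.mul_apply, Matrix.conjTranspose_apply, Matrix.of_apply, star_trivial]
  have key : ∑ l ∈ Finset.range (m + n),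
      (if (i : ℕ) ≤ l then n.choose (l - i) else 0) * (if (j : ℕ) ≤ l then n.choose (l - j) else 0) =
      (2 * n).choose (n + Nat.dist i j) := by
    rcases le_total (i : ℕ) j with h | h
    · rw [overlap n m _ _ h j.2, Nat.dist_eq_sub_of_le h]
    · rw [Nat.dist_eq_sub_of_le_right h, ← overlap n m _ _ h i.2]
      exact Finset.sum_congr rfl fun l _ => mul_comm _ _
  rw [← key, ← Fin.sum_univ_eq_sum_range, Nat.cast_sum, Finset.mul_sum]
  refine Finset.sum_congr rfl fun l _ => ?_
  rw [Nat.cast_mul, pow_add]
  ring

end Groth.Agent.S19020
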