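import Groth.Statements.S19021
import Groth.Agent.S19020
import Mathlib.Tactic
import Mathlib.LinearAlgebra.Matrix.ToLinearEquiv
import Mathlib.Data.Nat.Dist

set_option autoImplicit false
open Toeplitz

namespace Groth.Agent.S19021

/-- For natural numbers n and m, the m × m integer Toeplitz matrix with (i, j) entry (-1)^(i+j) ·
C(2n+1, n+1+i-j) (the binomial coefficient being 0 outside the range 0 ≤ n+1+i-j ≤ 2n+1;
equivalently s_k = (-1)^k C(2n+1, n+k+1) on the diagonal i - j = k for -n-1 ≤ k ≤ n and zero beyond)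
is nondegenerate: its determinant is nonzero (m = 0 is the empty matrix, of determinant 1). -/
theorem result (n m : ℕ) :
    (Matrix.of fun i j : Fin m =>
        (-1 : ℤ) ^ ((i : ℕ) + (j : ℕ)) *
          (if (j : ℕ) ≤ (i : ℕ) then (Nat.choose (2 * n + 1) (n + 1 + ((i : ℕ) - (j : ℕ))) : ℤ)
            else (Nat.choose (2 * n + 1) (n + ((j : ℕ) - (i : ℕ))) : ℤ))).det ≠ 0 := by
  intro hdet
  obtain ⟨v, hv, hMv⟩ := Matrix.exists_mulVec_eq_zero_iff.mpr hdet
  set M := Matrix.of fun i j : Fin m =>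
        (-1 : ℤ) ^ ((i : ℕ) + (j : ℕ)) *
          (if (j : ℕ) ≤ (i : ℕ) then (Nat.choose (2 * n + 1) (n + 1 + ((i : ℕ) - (j : ℕ))) : ℤ)
            else (Nat.choose (2 * n + 1) (n + ((j : ℕ) - (i : ℕ))) : ℤ)) with hM
  set w : Fin m → ℝ := fun i => (v i : ℝ) with hw
  have hw0 : w ≠ 0 := fun h => hv (funext fun i => by simpa [hw] using congrFun h i)
  have hpos := (Groth.Agent.S19020.result (n + 1) m).dotProduct_mulVec_pos hw0
  have hA : ∀ i j : Fin m, (-1 : ℝ) ^ ((i : ℕ) + (j : ℕ)) * (Nat.choose (2 * (n + 1)) (n + 1 + Nat.dist i j) : ℝ) =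
      ((M i j + M j i : ℤ) : ℝ) := by
    intro i j
    have hs : (2 * (n + 1)).choose (n + 1 + Nat.dist i j) =
        (2 * n + 1).choose (n + Nat.dist i j) + (2 * n + 1).choose (n + 1 + Nat.dist i j) := by
      rw [show 2 * (n + 1) = 2 * n + 1 + 1 by ring, show n + 1 + Nat.dist i j = n + Nat.dist i j + 1 by ring,
        Nat.choose_succ_succ']
    rw [hs]
    simp only [hM, Matrix.of_apply]
    rcases lt_trichotomy (i : ℕ) j with h | h | h
    · rw [Nat.dist_eq_sub_of_le h.le, if_neg (not_le.mpr h), if_pos h.le]; push_cast; ring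
    · rw [h, Nat.dist_self, if_pos le_rfl]
      have := Nat.choose_symm_half n
      simp only [Nat.sub_self, Nat.add_zero]
      push_cast
      rw [this]; ring
    · rw [Nat.dist_eq_sub_of_le_right h.le, if_pos h.le, if_neg (not_le.mpr h)]; push_cast; ring
  have h0 : ∑ i, ∑ j, v i * M i j * v j = 0 := by
    refine Finset.sum_eq_zero fun i _ => ?_
    have h1 := congrFun hMv i
    simp only [Matrix.mulVec, dotProduct, Pi.zero_apply] at h1
    simp only [mul_assoc, ← Finset.mul_sum]
    rw [h1, mul_zero]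
  have h0' : ∑ i, ∑ j, v i * M j i * v j = 0 := by
    rw [Finset.sum_comm, ← h0]
    exact Finset.sum_congr rfl fun i _ => Finset.sum_congr rfl fun j _ => by ring
  simp only [dotProduct, Matrix.mulVec, Matrix.of_apply, Finset.mul_sum, star_trivial, hA, hw] at hpos
  norm_cast at hpos
  simp only [mul_add, add_mul, Finset.sum_add_distrib, ← mul_assoc, h0, h0', add_zero, lt_self_iff_false] at hpos

end Groth.Agent.S19021
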