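import Groth.Statements.S19022
import Groth.Agent.Ample57.QAAvoid
import Groth.Agent.ParaF26.Open

set_option autoImplicit false
universe u
open CategoryTheory AlgebraicGeometry
open PicF

namespace Groth.Agent.S19022

/-- Let X be a scheme, L an invertible O_X-module and T a finite set of closed points of X that lies in
some affine open of X. Then T lies in an affine open U of X on which L is trivial (L restricted to U
is isomorphic to the structure sheaf). (The source states this for a smooth quasi-projective complex
surface, where every finite set of points lies in an affine open, and phrases it as: X^n and the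
symmetric product S^n X are covered by the opens U^n and S^n U with U affine and L trivial on U; the
printed argument uses only that the finitely many points lie in one affine open, which is taken as
the hypothesis here.) -/
theorem result
    (X : Scheme.{u}) (L : X.Modules) (hL : PicF.IsInvertible L)
    (T : Finset X) (hT : ∀ x ∈ T, IsClosed ({x} : Set X))
    (hU : ∃ U : X.Opens, IsAffineOpen U ∧ ∀ x ∈ T, x ∈ U) :
    ∃ U : X.Opens, IsAffineOpen U ∧ (∀ x ∈ T, x ∈ U) ∧
      Nonempty (L.restrict U.ι ≅ Coh.structureModule (↑U : Scheme.{u})) := by
  obtain ⟨U, hU, hTU⟩ := hU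
  haveI : IsAffine (U : Scheme.{u}) := hU
  have hL' : PicF.IsInvertible (L.restrict U.ι) := EGA73.isInvertible_restrict hL U.ι
  obtain ⟨σ, hσ, hTσ, -⟩ := Ample57.exists_affine_genLocus_of_finite hL' ⊤
    (E := U.ι ⁻¹' (T : Set X)) (T.finite_toSet.preimage U.ι.isOpenEmbedding.injective.injOn) (fun _ _ => trivial)
  let V := CohB1.genLocus (L.restrict U.ι) σ
  let W := U.ι ''ᵁ V
  refine ⟨W, hσ.image_of_isOpenImmersion U.ι, fun x hx => ⟨⟨x, hTU x hx⟩, hTσ hx, rfl⟩, ?_⟩
  have hfr := (Amp73.isFrame_iff_le_genLocus σ V).2 le_rfl
  exact EGA73.nonempty_restrict_iso_unit L W _ ((Amp73.isFrame_restrict_iff U.ι L V _).1 hfr)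

end Groth.Agent.S19022
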