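import Groth.Statements.S19025
import Mathlib.Tactic

set_option autoImplicit false
universe u
open HigherRestr

namespace Groth.Agent.S19025

theorem congr_iter {S : Type*} [CommRing S] {f g : ℕ → S} (N : ℕ) (h : ∀ j ≤ N, f j = g j) :
    (fwdDiff (1 : ℕ))^[N] f 0 = (fwdDiff (1 : ℕ))^[N] g 0 := by
  rw [fwdDiff_iter_eq_sum_shift, fwdDiff_iter_eq_sum_shift]
  refine Finset.sum_congr rfl fun j hj => ?_
  simp only [zero_add, smul_eq_mul, mul_one]
  rw [h j (Nat.lt_succ_iff.mp (Finset.mem_range.mp hj))]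

theorem lin_iter {S : Type*} [CommRing S] (f g : ℕ → S) (a b : S) (N : ℕ) :
    (fwdDiff (1 : ℕ))^[N] (fun j => a * f j + b * g j) 0 =
      a * (fwdDiff (1 : ℕ))^[N] f 0 + b * (fwdDiff (1 : ℕ))^[N] g 0 := by
  simp only [fwdDiff_iter_eq_sum_shift, Finset.mul_sum, ← Finset.sum_add_distrib, zsmul_eq_mul]
  refine Finset.sum_congr rfl fun j _ => ?_
  ring

theorem aux {S : Type*} [CommRing S] (I : Ideal S) (g₀ g₁ : S) (hg : g₁ - g₀ ∈ I) (N : ℕ) :
    ∀ (k : ℕ) (y : ℕ → S),
      (∀ i : ℕ, 1 ≤ i → i ≤ N → (fwdDiff (1 : ℕ))^[N - i] y i ∈ I ^ (N - i + k)) →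
      (fwdDiff (1 : ℕ))^[N] (fun j : ℕ => g₀ ^ (N - j) * g₁ ^ j * y j) 0 -
        g₀ ^ N * (fwdDiff (1 : ℕ))^[N] y 0 ∈ I ^ (N + k) := by
  induction N with
  | zero => intro k y _; simp
  | succ N ih =>
    intro k y hy
    have hstep : (fwdDiff (1 : ℕ))^[N + 1] (fun j : ℕ => g₀ ^ (N + 1 - j) * g₁ ^ j * y j) 0 =
        g₀ * (fwdDiff (1 : ℕ))^[N] (fun j : ℕ => g₀ ^ (N - j) * g₁ ^ j * fwdDiff (1 : ℕ) y j) 0 +
          (g₁ - g₀) * (fwdDiff (1 : ℕ))^[N] (fun j : ℕ => g₀ ^ (N - j) * g₁ ^ j * y (j + 1)) 0 := by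
      rw [Function.iterate_succ_apply, ← lin_iter]
      refine congr_iter N fun j hj => ?_
      simp only [fwdDiff]
      rw [show N + 1 - (j + 1) = N - j by omega, show N + 1 - j = N - j + 1 by omega]
      ring
    have hshift : ∀ i : ℕ, i ≤ N → (fwdDiff (1 : ℕ))^[N - i] (fun j => y (j + 1)) i ∈ I ^ (N - i + k) := by
      intro i hi
      rw [fwdDiff_iter_comp_add]
      simpa only [Nat.add_sub_add_right] using hy (i + 1) (by omega) (by omega)
    have h1 := ih (k + 1) (fwdDiff (1 : ℕ) y) fun i hi hiN => by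
      rw [← Function.iterate_succ_apply (fwdDiff (1 : ℕ)) (N - i) y,
        show N - i + (k + 1) = N + 1 - i + k by omega, show (N - i).succ = N + 1 - i by omega]
      exact hy i hi (by omega)
    have h2 := ih k (fun j => y (j + 1)) fun i _ hiN => hshift i hiN
    have h2' : (fwdDiff (1 : ℕ))^[N] (fun j : ℕ => g₀ ^ (N - j) * g₁ ^ j * y (j + 1)) 0 ∈ I ^ (N + k) := by
      have h3 := hshift 0 (Nat.zero_le N)
      rw [Nat.sub_zero] at h3
      have h4 := (I ^ (N + k)).add_mem h2 ((I ^ (N + k)).mul_mem_left (g₀ ^ N) h3)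
      rwa [sub_add_cancel] at h4
    rw [hstep, show N + 1 + k = N + (k + 1) by omega]
    have e2 : (g₁ - g₀) * (fwdDiff (1 : ℕ))^[N] (fun j : ℕ => g₀ ^ (N - j) * g₁ ^ j * y (j + 1)) 0 ∈
        I ^ (N + (k + 1)) := by
      rw [← add_assoc, pow_succ']
      exact Ideal.mul_mem_mul hg h2'
    have e1 := (I ^ (N + (k + 1))).mul_mem_left g₀ h1
    rw [← Function.iterate_succ_apply] at e1
    have := (I ^ (N + (k + 1))).add_mem e1 e2
    convert this using 1
    rw [Nat.succ_eq_add_one]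
    ring


/-- In abstract form, the estimate its proof establishes. Let S be a commutative ring, I an ideal of S,
g₀ and g₁ elements with g₁ - g₀ ∈ I, N a natural number and y a sequence in S such that, for 1 ≤ i ≤
N, the (N-i)-fold unit-step forward difference of y taken at i lies in I^(N-i). Then g₀^N times the
N-fold forward difference of y at 0, minus the N-fold forward difference at 0 of the twisted
sequence j ↦ g₀^(N-j) g₁^j y_j, lies in I^N. (In the source S is the ring of functions on an affine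
chart of X^n, I the ideal of a pairwise diagonal, g₀ and g₁ the two pullbacks of a transition unit
of L, and y_j the components x_λ along the compositions a₀^(N-j) a₁^j μ; the estimate is what makes
the higher order restrictions D^l_L well defined on ker D^(l-1)_L independently of the
trivialisation.) -/
theorem result
    (S : Type u) [CommRing S] (I : Ideal S) (g₀ g₁ : S) (hg : g₁ - g₀ ∈ I)
    (N : ℕ) (y : ℕ → S)
    (hy : ∀ i : ℕ, 1 ≤ i → i ≤ N → (fwdDiff (1 : ℕ))^[N - i] y i ∈ I ^ (N - i)) :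
    g₀ ^ N * (fwdDiff (1 : ℕ))^[N] y 0 -
        (fwdDiff (1 : ℕ))^[N] (fun j : ℕ => g₀ ^ (N - j) * g₁ ^ j * y j) 0 ∈ I ^ N := by
  have h := aux I g₀ g₁ hg N 0 y (by simpa using hy)
  simpa using (I ^ N).neg_mem h

end Groth.Agent.S19025
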