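import Groth.Statements.S19035
import Mathlib.RingTheory.FiniteType
import Mathlib.RingTheory.WittVector.Basic
import Mathlib.Data.Finset.Order

set_option autoImplicit false
universe u v w x
open CAlg

namespace Groth.Agent.S19035

/-- Let p be a prime and k a perfect field of characteristic p. Let (A_i) be a directed system of
finitely generated commutative k-algebras, indexed by a nonempty directed preorder, with compatible
k-algebra transition maps, and let B be a finitely generated k-algebra with compatible k-algebra
maps A_i → B which present B as the direct limit of the system (every element of B is the image of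
an element of some A_i, and two elements of some A_i with the same image in B have the same image in
some A_j). Then the p-typical Witt vectors commute with this direct limit: every Witt vector over B
is the image of a Witt vector over some A_i, and two Witt vectors over some A_i with the same image
over B already have the same image over some A_j. (Both finiteness hypotheses matter: for an
arbitrary filtered direct limit of commutative rings either assertion can fail.) -/
theorem result
    (p : ℕ) [Fact p.Prime] (k : Type u) [Field k] [CharP k p] [PerfectRing k p]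
    {ι : Type v} [Preorder ι] [IsDirected ι (· ≤ ·)] [Nonempty ι]
    (A : ι → Type w) [∀ i, CommRing (A i)] [∀ i, Algebra k (A i)]
    [∀ i, Algebra.FiniteType k (A i)]
    (f : ∀ i j, i ≤ j → (A i →ₐ[k] A j))
    (hf : ∀ i j l (hij : i ≤ j) (hjl : j ≤ l) (x : A i),
      f j l hjl (f i j hij x) = f i l (hij.trans hjl) x)
    (B : Type x) [CommRing B] [Algebra k B] [Algebra.FiniteType k B]
    (g : ∀ i, A i →ₐ[k] B)
    (hfg : ∀ i j (hij : i ≤ j) (x : A i), g j (f i j hij x) = g i x)
    (hsurj : ∀ b : B, ∃ i, ∃ x : A i, g i x = b)
    (hinj : ∀ i (x y : A i), g i x = g i y → ∃ j, ∃ hij : i ≤ j, f i j hij x = f i j hij y) :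
    (∀ w : WittVector p B, ∃ i, ∃ v : WittVector p (A i),
        WittVector.map (g i).toRingHom v = w) ∧
    (∀ i (v v' : WittVector p (A i)),
        WittVector.map (g i).toRingHom v = WittVector.map (g i).toRingHom v' →
        ∃ j, ∃ hij : i ≤ j,
          WittVector.map (f i j hij).toRingHom v = WittVector.map (f i j hij).toRingHom v') := by

  classical
  obtain ⟨s, hs⟩ := ‹Algebra.FiniteType k B›.out
  choose ib xb hxb using fun b : B => hsurj b
  obtain ⟨i0, hi0⟩ := Finset.exists_le (s.image ib)
  have hg : ∀ l, i0 ≤ l → Function.Surjective (g l) := by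
    intro l hl
    rw [← AlgHom.range_eq_top, eq_top_iff, ← hs, Algebra.adjoin_le_iff]
    intro b hb
    have hbl : ib b ≤ l := (hi0 _ (Finset.mem_image_of_mem _ hb)).trans hl
    exact ⟨f (ib b) l hbl (xb b), (hfg _ _ hbl _).trans (hxb b)⟩
  have hker : ∀ l, ∃ j, ∃ hlj : l ≤ j, ∀ x, g l x = 0 → f l j hlj x = 0 := by
    intro l
    haveI : IsNoetherianRing (A l) := Algebra.FiniteType.isNoetherianRing k (A l)
    obtain ⟨t, ht⟩ := IsNoetherian.noetherian (RingHom.ker (g l))
    have h0 : ∀ x ∈ t, ∃ j, ∃ h : l ≤ j, f l j h x = 0 := by
      intro x hx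
      have : x ∈ RingHom.ker (g l) := ht ▸ Submodule.subset_span hx
      obtain ⟨j, h, hj⟩ := hinj l x 0 (by rw [map_zero]; exact this)
      exact ⟨j, h, by rw [hj, map_zero]⟩
    choose J hJ hJ0 using h0
    obtain ⟨j, hj⟩ := Finset.exists_le (insert l (t.attach.image fun x : {y // y ∈ t} => J x.1 x.2))
    refine ⟨j, hj l (Finset.mem_insert_self _ _), fun x hx => ?_⟩
    have hle : RingHom.ker (g l) ≤ RingHom.ker (f l j (hj l (Finset.mem_insert_self _ _))) := by
      rw [← ht]
      refine Submodule.span_le.mpr fun y hy => ?_
      have hyj : J y hy ≤ j := hj _ (Finset.mem_insert_of_mem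
        (Finset.mem_image.mpr ⟨⟨y, hy⟩, Finset.mem_attach _ _, rfl⟩))
      show f l j _ y = 0
      rw [← hf l (J y hy) j (hJ y hy) hyj, hJ0 y hy, map_zero]
    exact hle hx
  refine ⟨fun w => ?_, fun i v v' hv => ?_⟩
  · choose c hc using fun n => hg i0 le_rfl (w.coeff n)
    exact ⟨i0, WittVector.mk p c, WittVector.ext fun n => by
      rw [WittVector.map_coeff, WittVector.coeff_mk]; exact hc n⟩
  · obtain ⟨l, hil, hl⟩ := exists_ge_ge i i0
    obtain ⟨j, hlj, hj⟩ := hker l
    refine ⟨j, hil.trans hlj, WittVector.ext fun n => ?_⟩
    have hn := congrArg (fun z => WittVector.coeff z n) hv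
    simp only [WittVector.map_coeff] at hn ⊢
    have hn' : g i (v.coeff n) = g i (v'.coeff n) := hn
    show f i j _ (v.coeff n) = f i j _ (v'.coeff n)
    rw [← hf i l j hil hlj, ← hf i l j hil hlj, ← sub_eq_zero, ← map_sub]
    exact hj _ (by rw [map_sub, hfg, hfg, hn', sub_self])

end Groth.Agent.S19035
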