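import Groth.Statements.S19037
import Mathlib.Algebra.Polynomial.Laurent
import Mathlib.RingTheory.GradedAlgebra.Basic
import Mathlib.Algebra.DirectSum.Decomposition

set_option autoImplicit false
universe u v
open scoped Polynomial LaurentPolynomial
open Instab

namespace Groth.Agent.S19037

/-- Affine form over a ring R. Let A be a commutative ℤ-graded R-algebra and t an element of degree −1
(so A is a graded algebra over R[t] with t in degree −1), and let ψ : A[1/t] → R[T, T⁻¹] be an
R-algebra map sending t to T which is graded, in the sense that each homogeneous element of degree n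
of A goes to an element of R times T^(−n). Then ψ is obtained by inverting t from an R-algebra map χ
: A → R[T] (compared through the inclusion of R[T] in R[T, T⁻¹]) if and only if ψ kills t·a for
every homogeneous a of degree 1; such a χ is unique. (The source states this for quasi-coherent
graded algebras over an arbitrary base scheme; the statement is local on the base and is given here
over an affine base.) -/
theorem result
    {R : Type u} {A : Type v} [CommRing R] [CommRing A] [Algebra R A]
    (𝒜 : ℤ → Submodule R A) [GradedAlgebra 𝒜] (t : A) (ht : t ∈ 𝒜 (-1))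
    (ψ : Localization.Away t →ₐ[R] R[T;T⁻¹])
    (hψt : ψ (algebraMap A (Localization.Away t) t) = LaurentPolynomial.T 1)
    (hψ : ∀ (n : ℤ) (a : A), a ∈ 𝒜 n →
      ∃ r : R, ψ (algebraMap A (Localization.Away t) a) = LaurentPolynomial.C r * LaurentPolynomial.T (-n)) :
    (∃! χ : A →ₐ[R] R[X], ∀ a : A,
        ψ (algebraMap A (Localization.Away t) a) = Polynomial.toLaurentAlg (χ a)) ↔
      ∀ a ∈ 𝒜 1, ψ (algebraMap A (Localization.Away t) (t * a)) = 0 := by
  let e : A →ₐ[R] R[T;T⁻¹] := ψ.comp (IsScalarTower.toAlgHom R A (Localization.Away t))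
  have he : ∀ a, e a = ψ (algebraMap A (Localization.Away t) a) := fun a => rfl
  have htl : Function.Injective (Polynomial.toLaurentAlg (R := R)) := Polynomial.toLaurent_injective
  have hT : ∀ (m : ℕ) (a : A), e (t ^ m * a) = LaurentPolynomial.T m * e a := fun m a => by
    rw [map_mul, map_pow, he t, hψt, LaurentPolynomial.T_pow, mul_one]
  constructor
  · rintro ⟨χ, hχ, -⟩ a ha
    obtain ⟨r, hr⟩ := hψ 1 a ha
    have h := hχ a
    rw [hr] at h
    have hr0 : r = 0 := by
      have h2 : (LaurentPolynomial.C r * LaurentPolynomial.T (-1)).coeff (-1) = (Polynomial.toLaurentAlg (χ a)).coeff (-1) :=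
        congr_arg (fun p : R[T;T⁻¹] => p.coeff (-1)) h
      rw [← LaurentPolynomial.single_eq_C_mul_T, AddMonoidAlgebra.coeff_single, Finsupp.single_eq_same,
        Polynomial.toLaurentAlg_apply] at h2
      rw [h2, LaurentPolynomial.coeff_toLaurent, Finsupp.mapDomain_notin_range]
      rintro ⟨i, hi⟩
      have hi : (i : ℤ) = -1 := hi
      omega
    rw [map_mul, map_mul, hr, hr0, map_zero, zero_mul, mul_zero]
  · intro h
    have hvan : ∀ (n : ℕ) (a : A), a ∈ 𝒜 (n + 1) → e a = 0 := fun n a ha => by
      have hmem : t ^ n * a ∈ 𝒜 1 := by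
        have := SetLike.mul_mem_graded (SetLike.pow_mem_graded n ht) ha
        rwa [show n • (-1 : ℤ) + ((n : ℤ) + 1) = 1 by rw [nsmul_eq_mul]; ring] at this
      have h1 := h _ hmem
      rw [show t * (t ^ n * a) = t ^ (n + 1) * a by rw [pow_succ']; ring, ← he, hT] at h1
      exact (LaurentPolynomial.isUnit_T _).mul_right_eq_zero.1 h1
    have hmem : ∀ a, e a ∈ (Polynomial.toLaurentAlg (R := R)).range := by
      intro a
      induction a using DirectSum.Decomposition.inductionOn 𝒜 with
      | zero => rw [map_zero]; exact zero_mem _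
      | @homogeneous n a =>
        rcases lt_or_ge 0 n with hn | hn
        · obtain ⟨m, rfl⟩ : ∃ m : ℕ, n = m + 1 := ⟨(n - 1).toNat, by omega⟩
          rw [hvan m a a.2]; exact zero_mem _
        · obtain ⟨m, rfl⟩ : ∃ m : ℕ, n = -(m : ℤ) := ⟨(-n).toNat, by omega⟩
          obtain ⟨r, hr⟩ := hψ _ a a.2
          refine ⟨Polynomial.C r * Polynomial.X ^ m, ?_⟩
          rw [he, hr, neg_neg]
          exact Polynomial.toLaurent_C_mul_X_pow m r
      | add a b ha hb => rw [map_add]; exact add_mem ha hb
    let χ : A →ₐ[R] R[X] := (AlgEquiv.ofInjective _ htl).symm.toAlgHom.comp (e.codRestrict _ hmem)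
    have hχ : ∀ a, e a = Polynomial.toLaurentAlg (χ a) := fun a =>
      (congr_arg Subtype.val ((AlgEquiv.ofInjective _ htl).apply_symm_apply (e.codRestrict _ hmem a))).symm
    refine ⟨χ, hχ, fun χ' hχ' => AlgHom.ext fun a => htl ?_⟩
    rw [← hχ, he, hχ' a]

end Groth.Agent.S19037
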