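import Groth.Statements.S1904
import Groth.Agent.Cyc90.P1Graph
import Groth.Agent.Cyc90.FlatRelDim

set_option autoImplicit false
universe u
open CategoryTheory AlgebraicGeometry
open CategoryTheory.Limits
open Cyc

namespace Groth.Agent.S1904

/-- Let X be integral with δ(η) = n, U ⊆ X a nonempty open and f an invertible function on U, viewed as
a rational function on X. Let Y ⊆ P^1_X be the scheme-theoretic closure of the graph of f and Y_0,
Y_∞ → X its pullbacks along the sections at 0 and ∞. Then div_X(f) = [Y_0]_{n−1} − [Y_∞]_{n−1}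
coefficientwise. A pair (X, δ) with Cyc.IsSetup plays the role of a scheme locally of finite type
over a fixed base with a dimension function (X locally Noetherian with universally catenary local
rings, δ a dimension function), and Cyc.DeltaCompat records that the dimension function upstairs is
the induced one. The published statement has further parts, which are not stated here. -/
theorem result (X : Scheme.{u}) [IsIntegral X] (δ : X → ℤ) (hX : Cyc.IsSetup X δ) (n : ℤ) (hn : δ (genericPoint X) = n) (U : X.Opens) (hη : genericPoint X ∈ U) (f : Γ(X, U)) (hf : IsUnit f) : Cyc.divFun δ (genericPoint X) (X.evaluation U (genericPoint X) hη f) = fun x => Cyc.subschemeFun δ (n - 1) (pullback.snd (P1.graphClosureι X U f) (P1.sect X 0)) x - Cyc.subschemeFun δ (n - 1) (pullback.snd (P1.graphClosureι X U f) (P1.sect X 1)) x := by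
  let δP : ↥(CohB1.ProjSpaceOver 1 X) → ℤ := fun p =>
    δ (CohB1.ProjSpaceOver.toBase 1 X p) + E4O.fdeg (CohB1.ProjSpaceOver.toBase 1 X) p
  have hP : Cyc.DeltaCompat (CohB1.ProjSpaceOver.toBase 1 X) δP δ := fun p =>
    ⟨_, Cyc90.trdeg_residueField_eq_fdeg _ p, rfl⟩
  have := hX.1
  have : Nonempty U := ⟨⟨_, hη⟩⟩
  have : Nonempty (U : Scheme.{u}) := ⟨⟨_, hη⟩⟩
  let h := P1.graph X U f
  have he : h ≫ CohB1.ProjSpaceOver.toBase 1 X = U.ι := pullback.lift_snd _ _ _
  have : QuasiCompact h := by
    have : QuasiCompact (h ≫ CohB1.ProjSpaceOver.toBase 1 X) := by rw [he]; infer_instance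
    exact MorphismProperty.of_postcomp (W := @QuasiCompact) h (CohB1.ProjSpaceOver.toBase 1 X)
      (inferInstance : QuasiSeparated (CohB1.ProjSpaceOver.toBase 1 X)) this
  set z := genericPoint (U : Scheme.{u}) with hz
  have hz1 : U.ι z = genericPoint X := genericPoint_eq_of_isOpenImmersion U.ι
  obtain ⟨hV, hc⟩ := Cyc90.P1L.coW_graph U f z
  have key : ∀ (k : (U : Scheme.{u}) ⟶ X), k = U.ι → ∀ (e : k z = genericPoint X),
      Function.Surjective (k.residueFieldMap z).hom ∧ (k.residueFieldMap z).hom
        ((X.residueFieldCongr e).inv (X.evaluation U (genericPoint X) hη f)) =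
        (U : Scheme.{u}).residue z (U.ι.stalkMap z (X.presheaf.germ U z.1 z.2 f)) := by
    rintro k rfl e
    refine ⟨Cyc90.residueFieldMap_surjective U.ι z, ?_⟩
    have h1 : ∀ (b : X) (hb : b ∈ U) (e : U.ι z = b),
        (U.ι.residueFieldMap z).hom ((X.residueFieldCongr e).inv (X.evaluation U b hb f)) =
        (U : Scheme.{u}).residue z (U.ι.stalkMap z (X.presheaf.germ U z.1 z.2 f)) := by
      rintro b hb rfl
      simp only [Scheme.residueFieldCongr_refl, Iso.refl_inv]
      exact (congr($(Scheme.residue_residueFieldMap U.ι z) (X.presheaf.germ U z.1 z.2 f)))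
    exact h1 _ hη e
  obtain ⟨hsurj, hg⟩ := key _ he ((congrArg (fun l : (U : Scheme.{u}) ⟶ X => l z) he).trans hz1)
  rw [← hc] at hg
  have hne : X.evaluation U (genericPoint X) hη f ≠ 0 := (hf.map _).ne_zero
  obtain ⟨_, -, -, -, hmain⟩ := Cyc90.P1L.exists_image_fibres hX hP h hsurj hV _ ((map_ne_zero_iff _
    (ConcreteCategory.bijective_of_isIso _).1).2 hne) hg
  have e0 : (h ≫ CohB1.ProjSpaceOver.toBase 1 X) z = genericPoint X :=
    (congrArg (fun l : (U : Scheme.{u}) ⟶ X => l z) he).trans hz1
  funext x
  refine Eq.trans ?_ (hmain (n - 1) (by rw [e0, hn, sub_add_cancel]) x)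
  exact congrFun (Cyc90.divFun_congr_point e0 _) x

end Groth.Agent.S1904
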