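import Groth.Statements.S19040
import Groth.Agent.Cyc90.P1Pow
import Groth.Agent.Cyc90.FiniteNbhd
import Mathlib.AlgebraicGeometry.Morphisms.Finite

set_option autoImplicit false
universe u
open CategoryTheory CategoryTheory.Limits AlgebraicGeometry
open Cyc

namespace Groth.Agent.S19040

/-- Let X be an integral Noetherian scheme and n a natural number, let P be the n-fold fibre product
over X of copies of the projective line over X, with structure map to X, and let W be an integral
closed subscheme of P of codimension n, in the sense that the local ring of P at the generic point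
of W has Krull dimension n. If the induced morphism f : W → X is dominant and flat, then f is finite
and surjective, so finite and faithfully flat. (The source works with a Noetherian separated scheme
X of finite dimension over a field k, takes W to be the closure in X ×_k (P^1_k)^n of an integral
closed subscheme Z of codimension n of X × (P^1 minus the point 1)^n, and assumes the closure
dominant and flat over X; such a closure is an integral closed subscheme of codimension n of the
n-fold product of projective lines over X, which is the form stated here, and the field k plays no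
role.) -/
theorem result
    (X : Scheme.{u}) [IsIntegral X] [IsNoetherian X] (n : ℕ)
    (W : Scheme.{u}) [IsIntegral W]
    (i : W ⟶ widePullback X (fun _ : Fin n => CohB1.ProjSpaceOver 1 X)
      (fun _ => CohB1.ProjSpaceOver.toBase 1 X))
    [IsClosedImmersion i]
    (hcodim : ringKrullDim
      ((widePullback X (fun _ : Fin n => CohB1.ProjSpaceOver 1 X)
        (fun _ => CohB1.ProjSpaceOver.toBase 1 X)).presheaf.stalk (i.base (genericPoint W))) = n)
    (f : W ⟶ X)
    (hf : i ≫ WidePullback.base (fun _ : Fin n => CohB1.ProjSpaceOver.toBase 1 X) = f)
    [IsDominant f] [Flat f] :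
    IsFinite f ∧ Surjective f := by
  obtain ⟨hprop, hbound⟩ := Cyc90.P1Pow.props X n
  let b := WidePullback.base (fun _ : Fin n => CohB1.ProjSpaceOver.toBase 1 X)
  have : IsProper b := hprop
  have : IsProper f := by rw [← hf]; exact inferInstanceAs (IsProper (i ≫ b))
  have : IsLocallyNoetherian W := LocallyOfFiniteType.isLocallyNoetherian f
  have hgen : f (genericPoint W) = genericPoint X :=
    Cyc90.apply_genericPoint_of_flat f
  have hfield : ringKrullDim (X.presheaf.stalk (f (genericPoint W))) = 0 := by
    rw [hgen]
    exact ringKrullDim_eq_zero_of_field X.functionField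
  have h0 : E4O.fdeg f (genericPoint W) = 0 := by
    have h1 : E4O.fdeg f (genericPoint W) = E4O.fdeg b (i (genericPoint W)) := by
      subst hf
      exact E4O.fdeg_comp_closedImmersion i b (genericPoint W)
    have h2 := hbound (i (genericPoint W))
    have h3 : b (i (genericPoint W)) = f (genericPoint W) := by rw [← hf]; rfl
    rw [hcodim, h3, hfield, zero_add, ← h1, ← Nat.cast_add] at h2
    have h4 : n + E4O.fdeg f (genericPoint W) ≤ n := by exact_mod_cast h2
    omega
  have hall : ∀ w, E4O.fdeg f w = 0 := by
    intro w
    have h1 := Ega11.SchemeDimFormula.stalk_dim_add_fdeg_le f w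
    rw [h0, Nat.cast_zero, add_zero] at h1
    obtain ⟨z, hz⟩ := E4O.exists_fiberι_eq f (rfl : f w = f w)
    have h2 : ringKrullDim (X.presheaf.stalk (f w)) ≤ ringKrullDim (W.presheaf.stalk w) := by
      algebraize [(f.stalkMap w).hom]
      have : Module.Flat (X.presheaf.stalk (f w)) (W.presheaf.stalk w) := Flat.stalkMap f w
      let P := IsLocalRing.maximalIdeal (W.presheaf.stalk w)
      let p := IsLocalRing.maximalIdeal (X.presheaf.stalk (f w))
      have : P.LiesOver p := ⟨(IsLocalRing.maximalIdeal_comap (f.stalkMap w).hom).symm⟩
      rw [← IsLocalRing.maximalIdeal_height_eq_ringKrullDim,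
        ← IsLocalRing.maximalIdeal_height_eq_ringKrullDim, WithBot.coe_le_coe]
      show p.height ≤ P.height
      rw [Ideal.height_eq_height_add_of_liesOver_of_hasGoingDown p P]
      exact le_self_add
    have hfin : ringKrullDim (X.presheaf.stalk (f w)) ≠ ⊤ := ringKrullDim_ne_top
    have hne : ringKrullDim (X.presheaf.stalk (f w)) ≠ ⊥ := ringKrullDim_ne_bot
    have h5 := (add_le_add h2 le_rfl).trans h1
    generalize ringKrullDim (X.presheaf.stalk (f w)) = D at h5 hfin hne
    induction D with
    | bot => exact absurd rfl hne
    | coe d =>
      induction d with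
      | top => exact absurd rfl hfin
      | coe d =>
        have h6 : d + E4O.fdeg f w ≤ d := by exact_mod_cast h5
        omega
  have hfinite : IsFinite f := by
    refine IsZariskiLocalAtTarget.of_forall_exists_morphismRestrict (P := @IsFinite) fun y => ?_
    obtain ⟨U, hy, hU⟩ := Cyc90.exists_isFinite_restrict f y fun w _ => hall w
    exact ⟨U, hy, hU⟩
  refine ⟨hfinite, ⟨fun y => ?_⟩⟩
  have hclosed : IsClosed (Set.range f) := f.isClosedMap.isClosed_range
  have h := f.denseRange y
  rw [hclosed.closure_eq] at h
  exact h

end Groth.Agent.S19040
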