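import Groth.Statements.S19041
import Groth.Agent.Gc53.Basic

set_option autoImplicit false
set_option linter.unusedVariables false
universe u
open Dieu

namespace Groth.Agent.S19041

/-- Let `k` be a perfect field of characteristic `2` and `c` a natural number, and consider the explicit
`2c`-dimensional `k`-space on `X_1, …, X_c, Y_1, …, Y_c` with its operators `F` and `V` (`F Y_j =
0`; `F X_j = X_{j/2}` for `j` even and `Y_{c-(j-1)/2}` for `j` odd; `V Y_j = Y_{2j}` when `2j ≤ c`,
else `0`; `V X_j = Y_{2c-2j+1}` when `2j > c`, else `0`). For `j = 2^e l` with `l` odd and `c < 2j ≤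
2c`, and for `j'` with `c < 2j' ≤ 2c` and `n` with `2^n (2c - 2j' + 1) = c - (l-1)/2`, one has
`F^{e+1} X_j + V^{n+1} X_{j'} = 0`. (Stated over any perfect field of characteristic `2`; the source
works over an algebraically closed one.) -/
theorem result (c : ℕ) (k : Type u) [Field k] [CharP k 2] [PerfectRing k 2]
    (j e l : ℕ) (hj : j = 2 ^ e * l) (hl : Odd l) (hjc : j ≤ c) (hcj : c < 2 * j)
    (j' n : ℕ) (hj'c : j' ≤ c) (hcj' : c < 2 * j') (hn : 2 ^ n * (2 * c - 2 * j' + 1) = c - (l - 1) / 2) :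
    (W4c6eohyperellchar2.F c k)^[e + 1] (W4c6eohyperellchar2.X c k j) + (W4c6eohyperellchar2.V c k)^[n + 1] (W4c6eohyperellchar2.X c k j') = 0 := by
  obtain ⟨t, rfl⟩ := hl
  have ht : 2 * t + 1 ≤ c := le_trans (Nat.le_mul_of_pos_left _ (pow_pos two_pos e)) (hj ▸ hjc)
  have hFe : (W4c6eohyperellchar2.F c k)^[e + 1] (W4c6eohyperellchar2.X c k j) =
      W4c6eohyperellchar2.Y c k (c - t) := by
    rw [hj, Function.iterate_succ_apply',
      Groth.Agent.Gc53.F_iterate_X (by omega) (hj ▸ hjc), Groth.Agent.Gc53.F_X_odd ht]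
  rw [show (2 * t + 1 - 1) / 2 = t by omega] at hn
  have hVn : (W4c6eohyperellchar2.V c k)^[n + 1] (W4c6eohyperellchar2.X c k j') =
      W4c6eohyperellchar2.Y c k (c - t) := by
    rw [Function.iterate_succ_apply, Groth.Agent.Gc53.V_X (by omega) hj'c,
      Groth.Agent.Gc53.V_iterate_Y (by omega) (by omega), hn]
  rw [hFe, hVn]
  ext i <;> exact CharTwo.add_self_eq_zero _
end Groth.Agent.S19041
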