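import Groth.Statements.S19042
import Groth.Agent.Gc53.Basic

set_option autoImplicit false
set_option linter.unusedVariables false
universe u
open Dieu

namespace Groth.Agent.S19042

/-- Let `k` be a perfect field of characteristic `2` and `c` a natural number, and consider the explicit
`2c`-dimensional `k`-space on `X_1, …, X_c, Y_1, …, Y_c` with its operators `F` and `V` (`F Y_j =
0`; `F X_j = X_{j/2}` for `j` even and `Y_{c-(j-1)/2}` for `j` odd; `V Y_j = Y_{2j}` when `2j ≤ c`,
else `0`; `V X_j = Y_{2c-2j+1}` when `2j > c`, else `0`). The vectors `X_j` with `c < 2j ≤ 2c`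
generate it as a module over `k[F, V]`: a `k`-subspace stable under `F` and `V` containing them is
everything. (Stated over any perfect field of characteristic `2`; the source works over an
algebraically closed one.) -/
theorem result (c : ℕ) (k : Type u) [Field k] [CharP k 2] [PerfectRing k 2]
    (N : Submodule k (W4c6eohyperellchar2.GcMod c k))
    (hF : ∀ v ∈ N, W4c6eohyperellchar2.F c k v ∈ N) (hV : ∀ v ∈ N, W4c6eohyperellchar2.V c k v ∈ N)
    (hX : ∀ j : ℕ, c < 2 * j → j ≤ c → W4c6eohyperellchar2.X c k j ∈ N) : N = ⊤ := by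
  have hXall : ∀ d n : ℕ, c - n ≤ d → 1 ≤ n → n ≤ c → W4c6eohyperellchar2.X c k n ∈ N := by
    intro d
    induction d with
    | zero => intro n h h1 h2; exact hX n (by omega) h2
    | succ d ih =>
      intro n h h1 h2
      by_cases hn : c < 2 * n
      · exact hX n hn h2
      · have := hF _ (ih (2 * n) (by omega) (by omega) (by omega))
        rwa [Groth.Agent.Gc53.F_X_even h1 (by omega)] at this
  have hYall := Groth.Agent.Gc53.Y_mem N (fun j _ _ h => hV _ h) (fun j h1 h2 => hV _ (hX j h1 h2))
  rw [eq_top_iff]
  rintro v -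
  rw [Groth.Agent.Gc53.decomp v]
  exact N.add_mem
    (N.sum_mem fun i _ => N.smul_mem _ (hXall c _ (by omega) (by omega) (by omega)))
    (N.sum_mem fun i _ => N.smul_mem _ (hYall _ (by omega) (by omega)))
end Groth.Agent.S19042
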