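import Groth.Statements.S19043
import Groth.Agent.Gc53.Basic

set_option autoImplicit false
set_option linter.unusedVariables false
universe u
open Dieu

namespace Groth.Agent.S19043

/-- Let `k` be a perfect field of characteristic `2` and `c` a natural number, and let `M` be the
explicit `2c`-dimensional `k`-space on `X_1, …, X_c, Y_1, …, Y_c` with its operators `F` and `V` (`F
Y_j = 0`; `F X_j = X_{j/2}` for `j` even and `Y_{c-(j-1)/2}` for `j` odd; `V Y_j = Y_{2j}` when `2j
≤ c`, else `0`; `V X_j = Y_{2c-2j+1}` when `2j > c`, else `0`). The classes of the `X_j` with `c <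
2j ≤ 2c` in the quotient of `M` by the `k`-span of `F(M) ∪ V(M)` are linearly independent and span
that quotient. (Stated over any perfect field of characteristic `2`; the source works over an
algebraically closed one.) -/
theorem result (c : ℕ) (k : Type u) [Field k] [CharP k 2] [PerfectRing k 2] :
    LinearIndependent k (fun j : {j : ℕ // c < 2 * j ∧ j ≤ c} =>
        Submodule.mkQ (Submodule.span k (Set.range (W4c6eohyperellchar2.F c k) ∪ Set.range (W4c6eohyperellchar2.V c k))) (W4c6eohyperellchar2.X c k j.1)) ∧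
      Submodule.span k (Set.range (fun j : {j : ℕ // c < 2 * j ∧ j ≤ c} =>
        Submodule.mkQ (Submodule.span k (Set.range (W4c6eohyperellchar2.F c k) ∪ Set.range (W4c6eohyperellchar2.V c k))) (W4c6eohyperellchar2.X c k j.1))) = ⊤ := by
  classical
  set S := Submodule.span k (Set.range (W4c6eohyperellchar2.F c k) ∪ Set.range (W4c6eohyperellchar2.V c k))
  have hF : ∀ v, W4c6eohyperellchar2.F c k v ∈ S := fun v => Submodule.subset_span (Or.inl ⟨v, rfl⟩)
  have hV : ∀ v, W4c6eohyperellchar2.V c k v ∈ S := fun v => Submodule.subset_span (Or.inr ⟨v, rfl⟩)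
  have hYall := Groth.Agent.Gc53.Y_mem S (fun j _ _ _ => hV _) (fun j _ _ => hV _)
  have hS : ∀ v ∈ S, ∀ i : Fin c, c < 2 * (i.val + 1) → v.1 i = 0 := by
    intro v hv i hi
    refine Submodule.span_induction ?_ ?_ ?_ ?_ hv
    · rintro _ (⟨w, rfl⟩ | ⟨w, rfl⟩)
      · show W4c6eohyperellchar2.coefX w (2 * (i.val + 1)) ^ 2 = 0
        rw [W4c6eohyperellchar2.coefX, dif_neg (by omega)]; simp
      · rfl
    · rfl
    · intro a b _ _ ha hb; simp [ha, hb]
    · intro a b _ hb; simp [hb]
  refine ⟨?_, ?_⟩
  · rw [linearIndependent_iff']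
    intro s g hg j hj
    simp only [← map_smul, ← map_sum] at hg
    rw [Submodule.mkQ_apply, Submodule.Quotient.mk_eq_zero] at hg
    obtain ⟨h1, h2⟩ := j.2
    have h3 := hS _ hg ⟨j.1 - 1, by omega⟩ (by simp only; omega)
    simp only [Prod.fst_sum, Prod.smul_fst, Finset.sum_apply, Pi.smul_apply, W4c6eohyperellchar2.X] at h3
    rw [Finset.sum_eq_single_of_mem j hj] at h3
    · rw [if_pos (by omega), smul_eq_mul, mul_one] at h3
      exact h3
    · intro b _ hb
      have : b.1 ≠ j.1 := fun h => hb (Subtype.ext h)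
      rw [if_neg (by omega), smul_zero]
  · rw [eq_top_iff]
    rintro q -
    obtain ⟨v, rfl⟩ := Submodule.mkQ_surjective _ q
    rw [Groth.Agent.Gc53.decomp v, map_add, map_sum, map_sum]
    refine add_mem (sum_mem fun i _ => ?_) (sum_mem fun i _ => ?_)
    · rw [map_smul]
      refine Submodule.smul_mem _ _ ?_
      by_cases h : c < 2 * (i.val + 1)
      · exact Submodule.subset_span ⟨⟨i.val + 1, h, by omega⟩, rfl⟩
      · have := hF (W4c6eohyperellchar2.X c k (2 * (i.val + 1)))
        rw [Groth.Agent.Gc53.F_X_even (by omega) (by omega)] at this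
        rw [Submodule.mkQ_apply, (Submodule.Quotient.mk_eq_zero _).2 this]
        exact zero_mem _
    · rw [map_smul, Submodule.mkQ_apply,
        (Submodule.Quotient.mk_eq_zero _).2 (hYall _ (by omega) (by omega)), smul_zero]
      exact zero_mem _
end Groth.Agent.S19043
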