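import Groth.Statements.S19044
import Groth.Agent.Hyp31.PartialFrac

set_option autoImplicit false
universe u v w
open FunFld

namespace Groth.Agent.S19044

/-- Let `k` be algebraically closed of characteristic `2` and `K = k(x, y)` with `y² + y = f(x)`, `K`
separable of degree `2` over `k(x)`; let `B ⊆ k` be a finite set containing `0` such that `f` has a
pole of odd order `d_α` at `x = α` for every `α ∈ B` and is integral at all other places of `k(x)`
(so also at infinity), and put `c_α = (d_α - 1)/2`. Then the differentials `z dx` with `z = (x -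
α)^{-(j+1)}` (`α ∈ B`, `1 ≤ j ≤ c_α`) and `z = α/(x(x-α))` (`α ∈ B`, `α ≠ 0`) are regular, this
family of `z` is linearly independent over `k`, and every `z` with `z dx` regular is a `k`-linear
combination of them; regularity is read through Laurent expansions over `k` at every place of `K`.
(Up to sign these are the forms `x_α^{j-1} dx_α` and `x_α^{-1} dx_α - x_0^{-1} dx_0` with `x_α = (x
- α)^{-1}`.) -/
theorem result (k : Type u) (K : Type v)
    [Field k] [IsAlgClosed k] [CharP k 2] [Field K] [Algebra k K] [Algebra (RatFunc k) K] [IsScalarTower k (RatFunc k) K]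
    (hK : FunFld.IsFunctionField k K) (hdeg : Module.finrank (RatFunc k) K = 2) [Algebra.IsSeparable (RatFunc k) K]
    (y : K) (hy : y ∉ Set.range (algebraMap (RatFunc k) K)) (f : RatFunc k)
    (heq : y ^ 2 + y = algebraMap (RatFunc k) K f)
    (B : Finset k) (h0 : (0 : k) ∈ B) (d : k → ℕ) (hd : ∀ α ∈ B, Odd (d α))
    (hpole : ∀ (p : FunFld.Place k (RatFunc k)) (α : k), α ∈ B →
      p.1 ((RatFunc.X : RatFunc k) - RatFunc.C α) < 1 → p.ord f = -(d α : ℤ))
    (hint : ∀ p : FunFld.Place k (RatFunc k), (∀ α ∈ B, 1 ≤ p.1 ((RatFunc.X : RatFunc k) - RatFunc.C α)) → p.1 f ≤ 1)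
    (F : FunFld.Place k K → Type w) [∀ P, Field (F P)] [∀ P, Algebra k (F P)] [∀ P, FiniteDimensional k (F P)]
    (φ : ∀ P, K →ₐ[k] LaurentSeries (F P)) (hφ : ∀ P, LocRes.IsExpansionAt P.1 (φ P)) :
    (∀ i P, LocRes.vDiff (φ P) ((Sum.elim
        (fun a : {a : ↥B × ℕ // 1 ≤ a.2 ∧ 2 * a.2 + 1 ≤ d (a.1 : k)} => algebraMap (RatFunc k) K (((RatFunc.X : RatFunc k) - RatFunc.C (a.1.1 : k))⁻¹ ^ (a.1.2 + 1)))
        (fun b : {b : ↥B // (b : k) ≠ 0} => algebraMap (RatFunc k) K (RatFunc.C (b.1 : k) / ((RatFunc.X : RatFunc k) * ((RatFunc.X : RatFunc k) - RatFunc.C (b.1 : k)))))) i) (algebraMap (RatFunc k) K RatFunc.X) ≤ 1) ∧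
    LinearIndependent k (Sum.elim
        (fun a : {a : ↥B × ℕ // 1 ≤ a.2 ∧ 2 * a.2 + 1 ≤ d (a.1 : k)} => algebraMap (RatFunc k) K (((RatFunc.X : RatFunc k) - RatFunc.C (a.1.1 : k))⁻¹ ^ (a.1.2 + 1)))
        (fun b : {b : ↥B // (b : k) ≠ 0} => algebraMap (RatFunc k) K (RatFunc.C (b.1 : k) / ((RatFunc.X : RatFunc k) * ((RatFunc.X : RatFunc k) - RatFunc.C (b.1 : k)))))) ∧
    ∀ z : K, (∀ P, LocRes.vDiff (φ P) z (algebraMap (RatFunc k) K RatFunc.X) ≤ 1) →
      z ∈ Submodule.span k (Set.range (Sum.elim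
        (fun a : {a : ↥B × ℕ // 1 ≤ a.2 ∧ 2 * a.2 + 1 ≤ d (a.1 : k)} => algebraMap (RatFunc k) K (((RatFunc.X : RatFunc k) - RatFunc.C (a.1.1 : k))⁻¹ ^ (a.1.2 + 1)))
        (fun b : {b : ↥B // (b : k) ≠ 0} => algebraMap (RatFunc k) K (RatFunc.C (b.1 : k) / ((RatFunc.X : RatFunc k) * ((RatFunc.X : RatFunc k) - RatFunc.C (b.1 : k))))))) := by
  classical
  have hP : Groth.Agent.Hyp31.PoleData f B d := ⟨hd, hpole, hint⟩
  have hg := hP.genus_succ hK hdeg hy heq
  have key := Groth.Agent.Hyp31.as_regular_iff hK (ringChar.eq k 2) hdeg hy heq hP.ord_odd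
    Groth.Agent.Hyp31.qPoly_monic.ne_zero hP.q_spec hφ
  let L : RatFunc k →ₗ[k] K := (IsScalarTower.toAlgHom k (RatFunc k) K).toLinearMap
  have hfam : (Sum.elim
        (fun a : {a : ↥B × ℕ // 1 ≤ a.2 ∧ 2 * a.2 + 1 ≤ d (a.1 : k)} => algebraMap (RatFunc k) K (((RatFunc.X : RatFunc k) - RatFunc.C (a.1.1 : k))⁻¹ ^ (a.1.2 + 1)))
        (fun b : {b : ↥B // (b : k) ≠ 0} => algebraMap (RatFunc k) K (RatFunc.C (b.1 : k) / ((RatFunc.X : RatFunc k) * ((RatFunc.X : RatFunc k) - RatFunc.C (b.1 : k)))))) =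
      L ∘ Groth.Agent.Hyp31.pfFam B d := by
    ext i; rcases i with a | b <;> rfl
  rw [hfam]
  have hLI := (Groth.Agent.Hyp31.linearIndependent_pfFam hd).map' L
    (LinearMap.ker_eq_bot.2 (algebraMap (RatFunc k) K).injective)
  have hreg : ∀ i P, LocRes.vDiff (φ P) ((L ∘ Groth.Agent.Hyp31.pfFam B d) i)
      (algebraMap (RatFunc k) K RatFunc.X) ≤ 1 := fun i P => by
    obtain ⟨r, hr, he⟩ := Groth.Agent.Hyp31.pfFam_rep h0 hd hg i
    exact (key _).2 ⟨r, hr, congrArg _ he⟩ P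
  refine ⟨hreg, hLI, fun z hz => ?_⟩
  let T : Polynomial k →ₗ[k] K :=
    L ∘ₗ (LinearMap.mulRight k (algebraMap (Polynomial k) (RatFunc k) (Groth.Agent.Hyp31.qPoly B d))⁻¹) ∘ₗ
      (IsScalarTower.toAlgHom k (Polynomial k) (RatFunc k)).toLinearMap
  have hT : ∀ a, T a = algebraMap (RatFunc k) K (algebraMap (Polynomial k) (RatFunc k) a /
      algebraMap (Polynomial k) (RatFunc k) (Groth.Agent.Hyp31.qPoly B d)) := fun a => by
    rw [div_eq_mul_inv]; rfl
  set S := (Polynomial.degreeLT k (FunFld.genus k K)).map T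
  have : Finite (Groth.Agent.Hyp31.PFIdx B d) := by
    have := Finite.of_equiv _ (Groth.Agent.Hyp31.pfEquiv B d).symm
    exact inferInstanceAs (Finite (_ ⊕ _))
  let _ := Fintype.ofFinite (Groth.Agent.Hyp31.PFIdx B d)
  have : FiniteDimensional k S := Module.Finite.equiv (Submodule.equivMapOfInjective T (fun a b h => by
    rw [hT, hT] at h
    exact RatFunc.algebraMap_injective k ((div_left_inj' ((map_ne_zero_iff _ (RatFunc.algebraMap_injective k)).2
      Groth.Agent.Hyp31.qPoly_monic.ne_zero)).1 ((algebraMap (RatFunc k) K).injective h))) _)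
  have hle : Submodule.span k (Set.range (L ∘ Groth.Agent.Hyp31.pfFam B d)) ≤ S := by
    rw [Submodule.span_le]
    rintro _ ⟨i, rfl⟩
    obtain ⟨r, hr, he⟩ := Groth.Agent.Hyp31.pfFam_rep h0 hd hg i
    exact ⟨r, Polynomial.mem_degreeLT.2 hr, (hT r).trans (congrArg _ he.symm)⟩
  have heqS : Submodule.span k (Set.range (L ∘ Groth.Agent.Hyp31.pfFam B d)) = S := by
    refine Submodule.eq_of_le_of_finrank_le hle ?_
    rw [finrank_span_eq_card hLI]
    have h1 := Groth.Agent.Hyp31.card_pfIdx h0 hd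
    have h2 : Module.finrank k S ≤ FunFld.genus k K :=
      (Submodule.finrank_map_le T _).trans (by rw [(Polynomial.degreeLTEquiv k _).finrank_eq, Module.finrank_fin_fun])
    omega
  rw [heqS]
  obtain ⟨a, ha, rfl⟩ := (key z).1 hz
  exact ⟨a, Polynomial.mem_degreeLT.2 ha, hT a⟩

end Groth.Agent.S19044
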