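import Groth.Statements.S19045
import Groth.Agent.Hyp31.H1

set_option autoImplicit false
universe u v
open FunFld

namespace Groth.Agent.S19045

/-- Let `k` be algebraically closed of characteristic `2` and `K = k(x, y)` with `y² + y = f(x)`, `K`
separable of degree `2` over `k(x)`; let `B ⊆ k` be a finite set containing `0` such that `f` has a
pole of odd order `d_β` at `x = β` for every `β ∈ B` and is integral at all other places of `k(x)`.
Then `y` is integral at the places of `K` above `x = ∞` and has order `0` at one of them, and for `α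
∈ B` and `j ∈ ℤ` the divisor of poles of `y (x - α)^j` consists of: order `max(d_α - 2j, 0)` at the
place above `α`, order exactly `d_β` above every other `β ∈ B`, order `max(j - ord_P y, 0)` at each
place `P` above `∞`, and nothing elsewhere. -/
theorem result (k : Type u) (K : Type v)
    [Field k] [IsAlgClosed k] [CharP k 2] [Field K] [Algebra k K] [Algebra (RatFunc k) K] [IsScalarTower k (RatFunc k) K]
    (hK : FunFld.IsFunctionField k K) (hdeg : Module.finrank (RatFunc k) K = 2) [Algebra.IsSeparable (RatFunc k) K]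
    (y : K) (hy : y ∉ Set.range (algebraMap (RatFunc k) K)) (f : RatFunc k)
    (heq : y ^ 2 + y = algebraMap (RatFunc k) K f)
    (B : Finset k) (h0 : (0 : k) ∈ B) (d : k → ℕ) (hd : ∀ β ∈ B, Odd (d β))
    (hpole : ∀ (p : FunFld.Place k (RatFunc k)) (β : k), β ∈ B →
      p.1 ((RatFunc.X : RatFunc k) - RatFunc.C β) < 1 → p.ord f = -(d β : ℤ))
    (hint : ∀ p : FunFld.Place k (RatFunc k), (∀ β ∈ B, 1 ≤ p.1 ((RatFunc.X : RatFunc k) - RatFunc.C β)) → p.1 f ≤ 1) :
    (∀ P : FunFld.Place k K, 1 < P.1 (algebraMap (RatFunc k) K RatFunc.X) → 0 ≤ P.ord y) ∧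
    (∃ P : FunFld.Place k K, 1 < P.1 (algebraMap (RatFunc k) K RatFunc.X) ∧ P.ord y = 0) ∧
    ∀ (α : k), α ∈ B → ∀ (j : ℤ) (P : FunFld.Place k K),
      (P.1 ((algebraMap (RatFunc k) K RatFunc.X) - (algebraMap k K α)) < 1 →
        max (-(P.ord (y * ((algebraMap (RatFunc k) K RatFunc.X) - (algebraMap k K α)) ^ j))) 0 = max ((d α : ℤ) - 2 * j) 0) ∧
      (∀ β : k, β ∈ B → β ≠ α → P.1 ((algebraMap (RatFunc k) K RatFunc.X) - (algebraMap k K β)) < 1 →
        P.ord (y * ((algebraMap (RatFunc k) K RatFunc.X) - (algebraMap k K α)) ^ j) = -(d β : ℤ)) ∧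
      (1 < P.1 (algebraMap (RatFunc k) K RatFunc.X) → max (-(P.ord (y * ((algebraMap (RatFunc k) K RatFunc.X) - (algebraMap k K α)) ^ j))) 0 = max (j - P.ord y) 0) ∧
      (P.1 (algebraMap (RatFunc k) K RatFunc.X) ≤ 1 → (∀ β : k, β ∈ B → 1 ≤ P.1 ((algebraMap (RatFunc k) K RatFunc.X) - (algebraMap k K β))) → 0 ≤ P.ord (y * ((algebraMap (RatFunc k) K RatFunc.X) - (algebraMap k K α)) ^ j)) := by
  have hP : Groth.Agent.Hyp31.PoleData f B d := ⟨hd, hpole, hint⟩
  have hy0 : y ≠ 0 := Groth.Agent.Hyp31.y_ne_zero hy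
  refine ⟨fun P hP' => ?_, hP.exists_inf_ord_zero hdeg hy heq, fun α hα j P => ?_⟩
  · obtain ⟨_, -, -, h, -⟩ := hP.above_inf hdeg hy heq hP'
    exact h
  set x := algebraMap (RatFunc k) K RatFunc.X
  have hxa : x - algebraMap k K α ≠ 0 := by
    rw [← Groth.Agent.Hyp31.algebraMap_X_sub_C, ← Groth.Agent.Hyp31.alg_X_sub_C]
    exact (_root_.map_ne_zero _).2 ((map_ne_zero_iff _ (RatFunc.algebraMap_injective k)).2 (Polynomial.X_sub_C_ne_zero α))
  have hord : P.ord (y * (x - algebraMap k K α) ^ j) = P.ord y + j * P.ord (x - algebraMap k K α) := by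
    rw [Groth.Agent.FF30.ord_mul P hy0 (zpow_ne_zero _ hxa), Groth.Agent.FF30.ord_zpow]
  rw [hord]
  refine ⟨fun h => ?_, fun β hβ hne h => ?_, fun h => ?_, fun h hB => ?_⟩
  · obtain ⟨_, -, -, -, hy'⟩ := hP.above_pole hdeg hy heq hα h
    rw [hy', (hP.ord_X_sub_C hdeg hy heq hα h).1]
    congr 1
    ring
  · obtain ⟨_, -, -, -, hy'⟩ := hP.above_pole hdeg hy heq hβ h
    rw [hy', (hP.ord_X_sub_C hdeg hy heq hβ h).2 α (Ne.symm hne), mul_zero, add_zero]
  · obtain ⟨_, -, -, -, hx⟩ := hP.above_inf hdeg hy heq h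
    rw [hx α]
    congr 1
    ring
  · have := Groth.Agent.FF30.finite_of_finrank_two hdeg
    obtain ⟨p, e, -, he⟩ := (Groth.Agent.FF30.ratFunc_ff k).exists_isOverWith (K' := K) P
    have hB' : ∀ β ∈ B, 1 ≤ p.1 ((RatFunc.X : RatFunc k) - RatFunc.C β) := fun β hβ =>
      not_lt.1 fun hlt => not_lt.2 (hB β hβ) ((Groth.Agent.Hyp31.lt_one_at_iff he).2 hlt)
    have hy1 := (Groth.Agent.FF30.val_le_one_iff P).1 (Groth.Agent.Hyp31.val_y_le_one heq he (hint p hB'))
    have hz : P.ord (x - algebraMap k K α) = 0 := by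
      rw [← Groth.Agent.FF30.val_eq_one_iff P hxa]
      refine le_antisymm ((P.1.map_sub _ _).trans (max_le h (P.2.1 α))) (hB α hα)
    rw [hz, mul_zero, add_zero]
    exact hy1

end Groth.Agent.S19045
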