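import Groth.Statements.S19046
import Groth.Agent.Hyp31.H1

set_option autoImplicit false
universe u v
open Classical
open FunFld

namespace Groth.Agent.S19046

/-- Let `k` be algebraically closed of characteristic `2`, `K = k(x, y)` with `y² + y = f(x)` separable
of degree `2` over `k(x)`, `B ⊆ k` a finite set containing `0` with `f` having a pole of odd order
`d_β` at `x = β` for `β ∈ B` and integral elsewhere, `c_β = (d_β - 1)/2`, and `P_β` a place of `K`
above `x = β`. Identify `H¹(X, O)` of the smooth projective model with the repartitions (adeles with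
components in `K`) modulo `W = A(0) + K` (everywhere-integral repartitions plus constants), a Čech
class with defining component `h` at `β` corresponding to the repartition with component `h` at
`P_β` and `0` elsewhere. Then the repartitions supported at `P_α` with value `y (x - α)^j` (`α ∈ B`,
`1 ≤ j ≤ c_α`) and with value `y` (`α ∈ B`, `α ≠ 0`) are adeles whose classes modulo `W` are
linearly independent over `k` and, together with `W`, span the adeles: they give a basis of `H¹(X,
O)`. -/
theorem result (k : Type u) (K : Type v)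
    [Field k] [IsAlgClosed k] [CharP k 2] [Field K] [Algebra k K] [Algebra (RatFunc k) K] [IsScalarTower k (RatFunc k) K]
    (hK : FunFld.IsFunctionField k K) (hdeg : Module.finrank (RatFunc k) K = 2) [Algebra.IsSeparable (RatFunc k) K]
    (y : K) (hy : y ∉ Set.range (algebraMap (RatFunc k) K)) (f : RatFunc k)
    (heq : y ^ 2 + y = algebraMap (RatFunc k) K f)
    (B : Finset k) (h0 : (0 : k) ∈ B) (d : k → ℕ) (hd : ∀ β ∈ B, Odd (d β))
    (hpole : ∀ (p : FunFld.Place k (RatFunc k)) (β : k), β ∈ B →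
      p.1 ((RatFunc.X : RatFunc k) - RatFunc.C β) < 1 → p.ord f = -(d β : ℤ))
    (hint : ∀ p : FunFld.Place k (RatFunc k), (∀ β ∈ B, 1 ≤ p.1 ((RatFunc.X : RatFunc k) - RatFunc.C β)) → p.1 f ≤ 1)
    (Pl : k → FunFld.Place k K) (hPl : ∀ β ∈ B, (Pl β).1 ((algebraMap (RatFunc k) K RatFunc.X) - (algebraMap k K β)) < 1) :
    (∀ i, (Sum.elim
        (fun a : {a : ↥B × ℕ // 1 ≤ a.2 ∧ 2 * a.2 + 1 ≤ d (a.1 : k)} =>
          (Pi.single (Pl (a.1.1 : k)) (y * ((algebraMap (RatFunc k) K RatFunc.X) - (algebraMap k K (a.1.1 : k))) ^ a.1.2) : FunFld.Place k K → K))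
        (fun b : {b : ↥B // (b : k) ≠ 0} => (Pi.single (Pl (b.1 : k)) y : FunFld.Place k K → K))) i ∈ FunFld.adele k K) ∧
    LinearIndependent k (fun i => Submodule.mkQ (FunFld.AD (0 : FunFld.Divisor k K) ⊔ LinearMap.range (FunFld.diag k K)) ((Sum.elim
        (fun a : {a : ↥B × ℕ // 1 ≤ a.2 ∧ 2 * a.2 + 1 ≤ d (a.1 : k)} =>
          (Pi.single (Pl (a.1.1 : k)) (y * ((algebraMap (RatFunc k) K RatFunc.X) - (algebraMap k K (a.1.1 : k))) ^ a.1.2) : FunFld.Place k K → K))
        (fun b : {b : ↥B // (b : k) ≠ 0} => (Pi.single (Pl (b.1 : k)) y : FunFld.Place k K → K))) i)) ∧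
    ∀ a : FunFld.Place k K → K, a ∈ FunFld.adele k K →
      a ∈ (FunFld.AD (0 : FunFld.Divisor k K) ⊔ LinearMap.range (FunFld.diag k K)) ⊔ Submodule.span k (Set.range (Sum.elim
        (fun a : {a : ↥B × ℕ // 1 ≤ a.2 ∧ 2 * a.2 + 1 ≤ d (a.1 : k)} =>
          (Pi.single (Pl (a.1.1 : k)) (y * ((algebraMap (RatFunc k) K RatFunc.X) - (algebraMap k K (a.1.1 : k))) ^ a.1.2) : FunFld.Place k K → K))
        (fun b : {b : ↥B // (b : k) ≠ 0} => (Pi.single (Pl (b.1 : k)) y : FunFld.Place k K → K)))) := by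
  have hP : Groth.Agent.Hyp31.PoleData f B d := ⟨hd, hpole, hint⟩
  set fam := (Sum.elim
        (fun a : {a : ↥B × ℕ // 1 ≤ a.2 ∧ 2 * a.2 + 1 ≤ d (a.1 : k)} =>
          (Pi.single (Pl (a.1.1 : k)) (y * ((algebraMap (RatFunc k) K RatFunc.X) - (algebraMap k K (a.1.1 : k))) ^ a.1.2) : FunFld.Place k K → K))
        (fun b : {b : ↥B // (b : k) ≠ 0} => (Pi.single (Pl (b.1 : k)) y : FunFld.Place k K → K))) with hfam
  have hmem : ∀ i, fam i ∈ FunFld.adele k K := by
    intro i; rcases i with a | b <;> exact Groth.Agent.Hyp31.single_mem_adele _ _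
  have hker := Groth.Agent.Hyp31.class_eq_zero_imp hdeg hy heq hP h0 Pl hPl
  have hLI : LinearIndependent k (fun i => Submodule.mkQ (FunFld.AD (0 : FunFld.Divisor k K) ⊔ LinearMap.range (FunFld.diag k K)) (fam i)) := by
    rw [linearIndependent_iff']
    intro s c hsum
    simp only [← map_smul, ← map_sum] at hsum
    rw [Submodule.mkQ_apply, Submodule.Quotient.mk_eq_zero] at hsum
    exact hker s c hsum
  refine ⟨hmem, hLI, fun a ha => ?_⟩
  have : Finite (Groth.Agent.Hyp31.PFIdx B d) := by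
    have := Finite.of_equiv _ (Groth.Agent.Hyp31.pfEquiv B d).symm
    exact inferInstanceAs (Finite (_ ⊕ _))
  let _ := Fintype.ofFinite (Groth.Agent.Hyp31.PFIdx B d)
  have hfam' : LinearIndependent k (fun i => Submodule.mkQ (FunFld.ADK (0 : FunFld.Divisor k K)) (⟨fam i, hmem i⟩ : FunFld.adele k K)) := by
    rw [linearIndependent_iff'] at hLI ⊢
    intro s c hsum
    refine hLI s c ?_
    simp only [← map_smul, ← map_sum] at hsum ⊢
    rw [Submodule.mkQ_apply, Submodule.Quotient.mk_eq_zero] at hsum ⊢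
    have h := hsum
    rw [FunFld.ADK, Submodule.mem_comap, map_sum] at h
    simpa using h
  obtain ⟨hfin, hdim⟩ := Groth.Agent.FF30.adele_quotient_ADK hK (0 : FunFld.Divisor k K)
  rw [Groth.Agent.FF30.delta_zero hK, sub_zero] at hdim
  have htop := hfam'.span_eq_top_of_card_eq_finrank' (by
    have h1 := Groth.Agent.Hyp31.card_pfIdx h0 hd
    have h2 := hP.genus_succ hK hdeg hy heq
    show Fintype.card (Groth.Agent.Hyp31.PFIdx B d) = _
    omega)
  have hin := htop.ge (Submodule.mem_top (x := Submodule.mkQ (FunFld.ADK (0 : FunFld.Divisor k K)) ⟨a, ha⟩))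
  rw [Submodule.mem_span_range_iff_exists_fun] at hin
  obtain ⟨c, hc⟩ := hin
  simp only [← map_smul, ← map_sum] at hc
  rw [Submodule.mkQ_apply, Submodule.mkQ_apply, Submodule.Quotient.eq, FunFld.ADK, Submodule.mem_comap] at hc
  simp only [map_sub, map_sum, map_smul, Submodule.subtype_apply] at hc
  have hspan : ∑ i, c i • fam i ∈ Submodule.span k (Set.range fam) :=
    Submodule.sum_mem _ fun i _ => Submodule.smul_mem _ _ (Submodule.subset_span ⟨i, rfl⟩)
  exact Submodule.mem_sup.2 ⟨_, Submodule.neg_mem _ hc, _, hspan, by abel⟩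

end Groth.Agent.S19046
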