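import Groth.Statements.S19048
import Groth.Agent.Gc53.Basic

set_option autoImplicit false
set_option linter.unusedVariables false
universe u
open Dieu

namespace Groth.Agent.S19048

/-- Let `k` be a perfect field of characteristic `2`, `c` a natural number and `a_1, …, a_c ∈ k` with
`a_c ≠ 0`. On the `2c`-dimensional `k`-space with basis `λ_1, …, λ_c, σ_1, …, σ_c` let `F` be
Frobenius-semilinear with `F λ_j = 0`, `F σ_j = σ_{2j}` for `2j ≤ c`, `F σ_j = Σ_{i=j}^{c} a_i
λ_{2i-2j+1}` for `2j > c`, and `V` inverse-Frobenius-semilinear with `V λ_j = λ_{j/2}` (`j` even),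
`0` (`j` odd), `V σ_j = 0` (`j` even), `V σ_j = Σ_{i=(j+1)/2}^{c} a_i^{1/2} λ_{i-(j-1)/2}` (`j` odd)
— the shape of `F` and `V` on the block of the first de Rham cohomology of `y² − y = f(x)` belonging
to a branch point with invariant `d = 2c + 1`, `a_i` the coefficients of the odd polynomial `f_α`.
Put `N_i = ⟨λ_1, …, λ_i⟩` for `i ≤ c` and `N_i = ⟨λ_1, …, λ_c, σ_{2c-i+1}, …, σ_c⟩` for `c ≤ i ≤
2c`. Then for `0 ≤ i ≤ 2c`: `dim N_i = i`, `V(N_i) = N_{⌊i/2⌋}` and `F⁻¹(N_i) = N_{c+⌈i/2⌉}`; so
`(N_i)` is a final filtration with `dim V(N_i) = ⌊i/2⌋`. (The published statement adjoins the `σ_j`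
starting from `σ_1`; then `V(N_{c+1})` contains `V σ_1`, whose `λ_c`-coefficient is a square root of
`a_c ≠ 0`, so it is not `N_{⌊(c+1)/2⌋}` once `c ≥ 2`; adjoining them from `σ_c` downward, as here,
makes both identities hold.) -/
theorem result (c : ℕ) (k : Type u) [Field k] [CharP k 2] [PerfectRing k 2]
    (a : ℕ → k) (ha : a c ≠ 0) (i : ℕ) (hi : i ≤ 2 * c) :
    Module.finrank k (W4c6eohyperellchar2.Nfil c k i) = i ∧
      W4c6eohyperellchar2.NV c k a '' (W4c6eohyperellchar2.Nfil c k i : Set (W4c6eohyperellchar2.GcMod c k)) = (W4c6eohyperellchar2.Nfil c k (i / 2) : Set (W4c6eohyperellchar2.GcMod c k)) ∧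
      W4c6eohyperellchar2.NF c k a ⁻¹' (W4c6eohyperellchar2.Nfil c k i : Set (W4c6eohyperellchar2.GcMod c k)) = (W4c6eohyperellchar2.Nfil c k (c + (i + 1) / 2) : Set (W4c6eohyperellchar2.GcMod c k)) := by
  classical
  have mem : ∀ (t : ℕ) (v : W4c6eohyperellchar2.GcMod c k), v ∈ W4c6eohyperellchar2.Nfil c k t ↔
      (∀ m : Fin c, min t c < m.val + 1 → v.2 m = 0) ∧
        (∀ m : Fin c, m.val + 1 ≤ 2 * c - t → v.1 m = 0) := by
    intro t v
    constructor
    · intro hv
      refine Submodule.span_induction ?_ ?_ ?_ ?_ hv
      · rintro _ (⟨n, ⟨hn1, hn2⟩, rfl⟩ | ⟨n, ⟨hn1, hn2⟩, rfl⟩)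
        · refine ⟨fun m hm => ?_, fun m _ => rfl⟩
          simp only [W4c6eohyperellchar2.Y]; rw [if_neg (by omega)]
        · refine ⟨fun m _ => rfl, fun m hm => ?_⟩
          simp only [W4c6eohyperellchar2.X]; rw [if_neg (by omega)]
      · exact ⟨fun _ _ => rfl, fun _ _ => rfl⟩
      · intro a b _ _ ha hb
        exact ⟨fun m hm => by simp [ha.1 m hm, hb.1 m hm], fun m hm => by simp [ha.2 m hm, hb.2 m hm]⟩
      · intro a b _ hb
        exact ⟨fun m hm => by simp [hb.1 m hm], fun m hm => by simp [hb.2 m hm]⟩
    · rintro ⟨h2, h1⟩
      rw [Groth.Agent.Gc53.decomp v]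
      refine add_mem (sum_mem fun m _ => ?_) (sum_mem fun m _ => ?_)
      · by_cases hm : m.val + 1 ≤ 2 * c - t
        · rw [h1 m hm, zero_smul]; exact zero_mem _
        · exact Submodule.smul_mem _ _ (Submodule.subset_span (Or.inr ⟨m.val + 1, ⟨by omega, by omega⟩, rfl⟩))
      · by_cases hm : min t c < m.val + 1
        · rw [h2 m hm, zero_smul]; exact zero_mem _
        · exact Submodule.smul_mem _ _ (Submodule.subset_span (Or.inl ⟨m.val + 1, ⟨by omega, by omega⟩, rfl⟩))
  refine ⟨?_, ?_, ?_⟩
  · let e : W4c6eohyperellchar2.Nfil c k i ≃ₗ[k] (Fin (min i c) → k) × (Fin (i - c) → k) :=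
      { toFun := fun v => (fun m => v.1.2 (Fin.castLE (min_le_right _ _) m),
          fun m => v.1.1 ⟨c - 1 - m.val, by omega⟩)
        map_add' := fun _ _ => rfl
        map_smul' := fun _ _ => rfl
        invFun := fun w => ⟨(fun m => if h : c - 1 - m.val < i - c then w.2 ⟨c - 1 - m.val, h⟩ else 0,
            fun m => if h : m.val < min i c then w.1 ⟨m.val, h⟩ else 0), (mem i _).2
          ⟨fun m hm => by simp only; rw [dif_neg (by omega)],
           fun m hm => by simp only; rw [dif_neg (by omega)]⟩⟩
        left_inv := fun v => by
          obtain ⟨h2, h1⟩ := (mem i v.1).1 v.2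
          refine Subtype.ext (Prod.ext (funext fun m => ?_) (funext fun m => ?_))
          · simp only
            split_ifs with h
            · exact congrArg v.1.1 (Fin.ext (by simp only; omega))
            · exact (h1 m (by omega)).symm
          · simp only
            split_ifs with h
            · rfl
            · exact (h2 m (by omega)).symm
        right_inv := fun w => by
          refine Prod.ext (funext fun m => ?_) (funext fun m => ?_)
          · simp only [Fin.val_castLE]; rw [dif_pos m.isLt]
          · have := m.isLt
            simp only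
            rw [dif_pos (by omega)]
            exact congrArg w.2 (Fin.ext (by simp only; omega)) }
    rw [e.finrank_eq, Module.finrank_prod, Module.finrank_fin_fun, Module.finrank_fin_fun]
    omega
  · let s : k → k := fun x => (frobeniusEquiv k 2).symm x
    
    have hNVadd : ∀ v w, W4c6eohyperellchar2.NV c k a (v + w) =
        W4c6eohyperellchar2.NV c k a v + W4c6eohyperellchar2.NV c k a w := by
      intro v w
      refine Prod.ext (funext fun m => by simp [W4c6eohyperellchar2.NV]) (funext fun m => ?_)
      have hc : W4c6eohyperellchar2.coefY (v + w) (2 * (m.val + 1)) =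
          W4c6eohyperellchar2.coefY v (2 * (m.val + 1)) + W4c6eohyperellchar2.coefY w (2 * (m.val + 1)) := by
        unfold W4c6eohyperellchar2.coefY; split_ifs <;> simp
      simp only [W4c6eohyperellchar2.NV, hc, map_add, Prod.fst_add, Prod.snd_add, Pi.add_apply, add_mul]
      rw [add_add_add_comm, ← Finset.sum_add_distrib]
      exact congrArg _ (Finset.sum_congr rfl fun j _ => by split_ifs <;> simp)
    have hNVsmul : ∀ (r : k) v, W4c6eohyperellchar2.NV c k a (r ^ 2 • v) =
        r • W4c6eohyperellchar2.NV c k a v := by
      intro r v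
      refine Prod.ext (funext fun m => by simp [W4c6eohyperellchar2.NV]) (funext fun m => ?_)
      have hr : (frobeniusEquiv k 2).symm (r ^ 2) = r := frobeniusEquiv_symm_apply_frobenius k 2 r
      have hc : W4c6eohyperellchar2.coefY (r ^ 2 • v) (2 * (m.val + 1)) =
          r ^ 2 * W4c6eohyperellchar2.coefY v (2 * (m.val + 1)) := by
        unfold W4c6eohyperellchar2.coefY; split_ifs <;> simp
      simp only [W4c6eohyperellchar2.NV, Prod.smul_fst, Prod.smul_snd, Pi.smul_apply, smul_eq_mul, hc]
      simp only [map_mul, hr, mul_assoc]
      rw [mul_add r, Finset.mul_sum]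
      simp only [mul_ite, mul_zero]
    apply Set.Subset.antisymm
    · rintro _ ⟨v, hv, rfl⟩
      obtain ⟨h2, h1⟩ := (mem i v).1 hv
      refine (mem _ _).2 ⟨fun m hm => ?_, fun m _ => rfl⟩
      simp only [W4c6eohyperellchar2.NV]
      rw [Finset.sum_eq_zero, add_zero]
      · unfold W4c6eohyperellchar2.coefY
        split_ifs with h
        · rw [h2 _ (by simp only; omega), map_zero]
        · exact map_zero _
      · intro j _
        split_ifs with h
        · rw [h1 j (by omega), zero_mul, map_zero]
        · rfl
    · let Im : Submodule k (W4c6eohyperellchar2.GcMod c k) :=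
        { carrier := W4c6eohyperellchar2.NV c k a '' (W4c6eohyperellchar2.Nfil c k i : Set _)
          add_mem' := by
            rintro _ _ ⟨v, hv, rfl⟩ ⟨w, hw, rfl⟩
            exact ⟨v + w, add_mem hv hw, hNVadd v w⟩
          zero_mem' := ⟨0, zero_mem _, by
            have := hNVsmul 0 0
            simpa using this⟩
          smul_mem' := by
            rintro r _ ⟨v, hv, rfl⟩
            exact ⟨r ^ 2 • v, Submodule.smul_mem _ _ hv, hNVsmul r v⟩ }
      suffices W4c6eohyperellchar2.Nfil c k (i / 2) ≤ Im from this
      have hY : ∀ n, 1 ≤ n → n ≤ i / 2 → W4c6eohyperellchar2.Y c k n ∈ Im := by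
        intro n
        induction n using Nat.strong_induction_on with
        | _ n ih =>
          intro hn1 hn2
          by_cases hn : 2 * n ≤ c
          · refine ⟨W4c6eohyperellchar2.Y c k (2 * n),
              Submodule.subset_span (Or.inl ⟨2 * n, ⟨by omega, by omega⟩, rfl⟩), ?_⟩
            refine Prod.ext rfl (funext fun m => ?_)
            simp only [W4c6eohyperellchar2.NV, Groth.Agent.Gc53.coefY_Y (show 1 ≤ 2 * n by omega) hn]
            rw [Finset.sum_eq_zero fun j _ => by simp [W4c6eohyperellchar2.Y]]
            by_cases h : m.val + 1 = n <;> simp [W4c6eohyperellchar2.Y, h]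
          · -- triangular step through the σ's
            set J : Fin c := ⟨2 * c - 2 * n, by omega⟩ with hJ
            set img := W4c6eohyperellchar2.NV c k a (W4c6eohyperellchar2.X c k (J.val + 1)) with himg
            have himgI : img ∈ Im := ⟨_, Submodule.subset_span
              (Or.inr ⟨J.val + 1, ⟨by simp only [hJ]; omega, by omega⟩, rfl⟩), rfl⟩
            have hval : ∀ m : Fin c, img.2 m =
                if m.val + 1 ≤ n then s (a (m.val + 1 + (c - n))) else 0 := by
              intro m
              simp only [himg, W4c6eohyperellchar2.NV, Groth.Agent.Gc53.coefY_X, map_zero, zero_add]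
              rw [Finset.sum_eq_single J]
              · simp only [W4c6eohyperellchar2.X, if_true, one_mul, hJ]
                rw [show (2 * c - 2 * n) / 2 = c - n by omega]
                by_cases h : m.val + 1 ≤ n
                · rw [if_pos h, if_pos ⟨by omega, by omega⟩]
                · rw [if_neg h, if_neg (by omega)]
              · intro b _ hb
                have : b.val ≠ J.val := fun h => hb (Fin.ext h)
                simp [W4c6eohyperellchar2.X, this]
              · simp
            have hc0 : s (a c) ≠ 0 := fun h => ha ((map_eq_zero_iff _ (RingEquiv.injective _)).1 h)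
            have hrest : img - s (a c) • W4c6eohyperellchar2.Y c k n ∈ Im := by
              set r := img - s (a c) • W4c6eohyperellchar2.Y c k n with hr
              rw [Groth.Agent.Gc53.decomp r]
              refine add_mem (sum_mem fun m _ => ?_) (sum_mem fun m _ => ?_)
              · have : r.1 m = 0 := by simp [hr, himg, W4c6eohyperellchar2.NV, W4c6eohyperellchar2.Y]
                rw [this, zero_smul]; exact zero_mem _
              · rcases lt_trichotomy (m.val + 1) n with h | h | h
                · exact Submodule.smul_mem _ _ (ih _ h (by omega) (by omega))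
                · have : r.2 m = 0 := by
                    simp only [hr, Prod.snd_sub, Pi.sub_apply, Prod.smul_snd, Pi.smul_apply, hval,
                      W4c6eohyperellchar2.Y, if_pos h, smul_eq_mul, mul_one, if_pos h.le]
                    rw [show m.val + 1 + (c - n) = c by omega, sub_self]
                  rw [this, zero_smul]; exact zero_mem _
                · have : r.2 m = 0 := by
                    simp only [hr, Prod.snd_sub, Pi.sub_apply, Prod.smul_snd, Pi.smul_apply, hval,
                      W4c6eohyperellchar2.Y]
                    rw [if_neg (by omega), if_neg (by omega), smul_zero, sub_zero]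
                  rw [this, zero_smul]; exact zero_mem _
            have := Im.smul_mem (s (a c))⁻¹ (Im.sub_mem himgI hrest)
            rwa [sub_sub_cancel, smul_smul, inv_mul_cancel₀ hc0, one_smul] at this
      refine Submodule.span_le.2 ?_
      rintro _ (⟨n, ⟨hn1, hn2⟩, rfl⟩ | ⟨n, ⟨hn1, hn2⟩, rfl⟩)
      · exact hY n hn1 (by omega)
      · omega
  · ext v
    simp only [Set.mem_preimage, SetLike.mem_coe, mem]
    constructor
    · rintro ⟨h2, h1⟩
      refine ⟨fun m hm => absurd hm (by omega), ?_⟩
      suffices ∀ (t : ℕ) (m : Fin c), m.val = t → m.val + 1 ≤ 2 * c - (c + (i + 1) / 2) → v.1 m = 0 from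
        fun m hm => this _ m rfl hm
      intro t
      induction t using Nat.strong_induction_on with
      | _ t ih =>
        rintro m rfl hm
        by_cases hm2 : 2 * (m.val + 1) ≤ c
        · have := h1 ⟨2 * m.val + 1, by omega⟩ (by simp only; omega)
          simp only [W4c6eohyperellchar2.NF] at this
          rw [if_pos (by omega), show (2 * m.val + 1 + 1) / 2 = m.val + 1 by omega,
            Groth.Agent.Gc53.coefX_succ] at this
          exact pow_eq_zero_iff (two_ne_zero) |>.1 this
        · have := h2 ⟨2 * c - 2 * (m.val + 1), by omega⟩ (by simp only; omega)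
          simp only [W4c6eohyperellchar2.NF] at this
          rw [if_pos (by omega), Finset.sum_eq_single m] at this
          · rw [if_pos ⟨by omega, by omega⟩,
              show m.val + 1 + (2 * c - 2 * (m.val + 1)) / 2 = c by omega] at this
            exact pow_eq_zero_iff (two_ne_zero) |>.1 ((mul_eq_zero.1 this).resolve_right ha)
          · intro b _ hb
            split_ifs with h
            · have : b.val ≠ m.val := fun e => hb (Fin.ext e)
              rw [ih b.val (by omega) b rfl (by omega)]; simp
            · rfl
          · simp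
    · rintro ⟨_, h1⟩
      refine ⟨fun m hm => ?_, fun m hm => ?_⟩
      · simp only [W4c6eohyperellchar2.NF]
        split_ifs with h
        · refine Finset.sum_eq_zero fun j _ => ?_
          split_ifs with h'
          · rw [h1 j (by omega)]; simp
          · rfl
        · rfl
      · simp only [W4c6eohyperellchar2.NF]
        split_ifs with h
        · unfold W4c6eohyperellchar2.coefX
          split_ifs with h'
          · rw [h1 _ (by simp only; omega)]; simp
          · simp
        · rfl
end Groth.Agent.S19048
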