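import Groth.Statements.S19060
import Groth.Agent.Mum71.FlatBC
import Groth.Agent.Mum71.Model
import Groth.Agent.Coh69.FibreDim
import Groth.Agent.Curves2.H1Zero.Relative

set_option autoImplicit false
universe u
open CategoryTheory CategoryTheory.Limits AlgebraicGeometry Opposite
open Curves

namespace Groth.Agent.S19060

open Groth.Agent Groth.Agent.Mum71 Groth.Agent.FF71 Groth.Agent.Coh69 Groth.Agent.CechComp71 Opposite

variable {A : Type u} [CommRing A] {X : Scheme.{u}} [X.Over (Spec (CommRingCat.of A))]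

theorem subsingleton_hh [IsNoetherianRing A] (f : X ⟶ Spec (CommRingCat.of A)) [IsProper f]
    (hfib : ∀ y : ↥(Spec (CommRingCat.of A)), topologicalKrullDim ↥(f.fiber y) ≤ 1)
    (M : X.Modules) (hM : Coh.IsCoh M) (p : ℕ) (hp : 1 < p) : Subsingleton (Coh.HH X M p) := by
  haveI := hM.1
  obtain ⟨e⟩ := Coh69.nonempty_hh_rpushAb_sections f M p
  haveI : Subsingleton (((Coh.RpushAb f p).obj (Coh.toAb M)).obj.obj (op ⊤)) := by
    refine subsingleton_of_forall_eq 0 fun s =>
      TopCat.Presheaf.section_ext ((Coh.RpushAb f p).obj (Coh.toAb M)) ⊤ _ _ fun y hy => ?_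
    haveI := AddCommGrpCat.subsingleton_of_isZero
      (Coh69.FibreDim.isZero_stalk f y 1 (hfib y) M hM p hp)
    exact Subsingleton.elim _ _
  exact e.injective.subsingleton

/-- The cohomology of the Čech complex, linearly. -/
theorem nonempty_homology_equiv {ι : Type u} [Finite ι] (U : ι → X.Opens) (F : X.Modules)
    [F.IsQuasicoherent] (hU : ⨆ i, U i = ⊤)
    (hU' : ∀ (n : ℕ) (i : Fin (n + 1) → ι), IsAffineOpen (Coh69.cOpen U i)) (p : ℕ) :
    Nonempty ((chCx A U F).homology (p : ℤ) ≃ₗ[A] Coh.HH X F p) := by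
  obtain ⟨e, he⟩ := (idCoef (A := A) U F).exists_equiv hU (acyclicOn_of_isAffineOpen _ F hU') p
  let e' : CohIII.T (chCx A U F) (p : ℤ) (ModuleCat.of A A) ≃ₗ[A] Coh.HH X F p :=
    { e with
      map_smul' := fun a t => by
        obtain ⟨z, rfl⟩ := FCx40.hcls_surjective
          (CochainComplex.next ℤ (p : ℤ)) t
        change e (a • _) = a • e _
        rw [← map_smul, he, he]
        show toHH U hU F p _ = a • toHH U hU F p _
        rw [← FF71.toHH_smulZ]
        congr 1
        exact Subtype.ext ((idCoef_Φ_smul U F p a z.1).trans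
          (smulZ_val U F p a ((idCoef (A := A) U F).cyc p z)).symm) }
  exact ⟨((HomologicalComplex.homologyMapIso (tensorSelfIso (chCx A U F)) (p : ℤ))).toLinearEquiv.symm.trans e'⟩



/-- Let R be a Noetherian ring and X a relative curve over Spec R (proper and smooth, with geometrically
connected fibres of dimension one, and projective: X carries an ample invertible module). Let F be a
coherent O_X-module which is flat over Spec R (every stalk is a flat module over the local ring of
the base). If H^1(X, F) is a projective R-module, then H^0(X, F) is a projective R-module. (The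
source says only that F is an O_X-module flat over the base; F is taken coherent here, as the
finiteness of its cohomology over R used there requires.) -/
theorem result (R : Type u) [CommRing R] [IsNoetherianRing R]
    (X : Scheme.{u}) [X.Over (Spec (CommRingCat.of R))] [IsProper (X ↘ Spec (CommRingCat.of R))]
    [Smooth (X ↘ Spec (CommRingCat.of R))] [GeometricallyConnected (X ↘ Spec (CommRingCat.of R))]
    (hdim : ∀ s : Spec (CommRingCat.of R), topologicalKrullDim ↥((X ↘ Spec (CommRingCat.of R)).fiber s) = 1)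
    (hproj : ∃ M : X.Modules, CohB1.IsAmple M)
    (F : X.Modules) (hF : Coh.IsCoh F) (hfl : FlatMod.IsFlatOver (X ↘ Spec (CommRingCat.of R)) F)
    (h1 : Module.Projective R (Coh.HH X F 1)) :
    Module.Projective R (Coh.HH X F 0) := by
  haveI := hF.1
  obtain ⟨ι, hι, U, hU, hU'⟩ := FF71.exists_cover (A := R) (X := X)
  have hA : ∀ i, IsAffineOpen (U i) := fun i => by
    have h := hU' 0 (fun _ => i)
    rwa [show Coh69.cOpen U (fun _ : Fin 1 => i) = U i from
      le_antisymm (Coh69.cOpen_le U _ 0) (Coh69.le_cOpen U fun _ => le_rfl)] at h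
  let K := chCx R U F
  have hflat : ∀ i, Module.Flat R (K.X i) := flat_chCx F hU' hfl
  have hu := uexact_chCx (A := R) F hU hU' hA
  have hHflat : ∀ p : ℕ, Module.Flat R (K.homology ((p : ℤ) + 1)) := fun p => by
    obtain ⟨e⟩ := nonempty_homology_equiv (A := R) U F hU hU' (p + 1)
    haveI : Module.Flat R (Coh.HH X F (p + 1)) := by
      rcases Nat.eq_zero_or_pos p with rfl | hp
      · haveI := h1
        exact @Module.Flat.of_projective R (Coh.HH X F 1) _ _ _ h1
      · haveI := subsingleton_hh (X ↘ Spec (CommRingCat.of R)) (fun y => (hdim y).le) F hF (p + 1) (by omega)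
        exact Module.Flat.of_linearEquiv (LinearEquiv.ofSubsingleton (Coh.HH X F (p + 1)) PUnit.{u+1})
    exact Module.Flat.of_linearEquiv e
  have key : ∀ k p : ℕ, Nat.card ι ≤ p + k →
      Module.Flat R (K.X ((p : ℤ) + 1) ⧸ LinearMap.range (K.d (p : ℤ) ((p : ℤ) + 1)).hom) := by
    intro k
    induction k with
    | zero =>
      intro p hp
      haveI := hflat ((p : ℤ) + 1 + 1)
      refine flat_quot_of_exact _ (K.d ((p : ℤ) + 1) ((p : ℤ) + 1 + 1)).hom
        (fun x => ConcreteCategory.congr_hom (K.d_comp_d (p : ℤ) ((p : ℤ) + 1) ((p : ℤ) + 1 + 1)) x) ?_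
      intro M _ _ y hy
      have h := hu ((p : ℤ) + 1) (by omega) M y hy
      rwa [add_sub_cancel_right] at h
    | succ k ih =>
      intro p hp
      haveI := hflat ((p : ℤ) + 1 + 1)
      haveI := hHflat p
      haveI : Module.Flat R (K.X ((p : ℤ) + 1 + 1) ⧸
          LinearMap.range (K.d ((p : ℤ) + 1) ((p : ℤ) + 1 + 1)).hom) := ih (p + 1) (by omega)
      exact flat_quot_step _ (K.d ((p : ℤ) + 1) ((p : ℤ) + 1 + 1)).hom
        (fun x => ConcreteCategory.congr_hom (K.d_comp_d (p : ℤ) ((p : ℤ) + 1) ((p : ℤ) + 1 + 1)) x)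
        (FCx40.hcls K _ _ (CochainComplex.next ℤ ((p : ℤ) + 1))) (FCx40.hcls_surjective _)
        (fun z => FCx40.hcls_eq_zero_iff (by simp) _ z)
  haveI := key (Nat.card ι) 0 (by omega)
  haveI := hflat ((0 : ℕ) : ℤ)
  haveI := hflat (((0 : ℕ) : ℤ) + 1)
  let d := (K.d ((0 : ℕ) : ℤ) (((0 : ℕ) : ℤ) + 1)).hom
  haveI : Module.Flat R (LinearMap.range d) := FCx40.flat_range d
  haveI : Module.Flat R (LinearMap.ker d) := FCx40.flat_of_exact_of_flat (Submodule.injective_subtype _)
    (by rw [LinearMap.exact_iff, LinearMap.ker_rangeRestrict, Submodule.range_subtype]) d.surjective_rangeRestrict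
  obtain ⟨e⟩ := nonempty_homology_equiv (A := R) U F hU hU' 0
  haveI : Module.Flat R (K.homology ((0 : ℕ) : ℤ)) := by
    have hk := CochainComplex.next ℤ ((0 : ℕ) : ℤ)
    refine Module.Flat.of_linearEquiv (LinearEquiv.ofBijective (FCx40.hcls K _ _ hk)
      ⟨(injective_iff_map_eq_zero _).2 fun z hz => ?_, FCx40.hcls_surjective hk⟩).symm
    obtain ⟨x, hx⟩ := (FCx40.hcls_eq_zero_iff (i := ((0 : ℕ) : ℤ) - 1) (by simp) hk z).1 hz
    haveI := ModuleCat.subsingleton_of_isZero (isZero_chX_neg U F (((0 : ℕ) : ℤ) - 1) (by omega) : IsZero (K.X (((0 : ℕ) : ℤ) - 1)))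
    exact Subtype.ext (hx.symm.trans (by rw [Subsingleton.elim x 0, map_zero]; rfl))
  haveI : Module.Flat R (Coh.HH X F 0) := Module.Flat.of_linearEquiv e.symm
  haveI := Serre71.finite_hh_of_isProper R F hF 0
  haveI : Module.FinitePresentation R (Coh.HH X F 0) := Module.finitePresentation_of_finite R _
  exact Module.Flat.projective_of_finitePresentation

end Groth.Agent.S19060
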