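import Groth.Statements.S19088
import Groth.Agent.SymSq53.IntTable

set_option autoImplicit false
set_option linter.unusedVariables false
universe u
open CategoryTheory CategoryTheory.Limits AlgebraicGeometry Opposite
open SymSq

namespace Groth.Agent.S19088
open scoped Groth.Agent.FGA29
attribute [local instance] CrvPic30.ffAlg

/-- Let k be an algebraically closed field of characteristic ≠ 2 and C a hyperelliptic curve of genus g
≥ 2 over k: C ⟶ Spec k proper and smooth, C connected of dimension one with dim_k H^1(C, O_C) = g,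
with a double cover κ : C ⟶ P^1_k over k (finite, flat, of rank 2 everywhere) and hyperelliptic
involution σ (σ ≫ κ = κ, σ ≠ id). On X = C ×_k C let L = κ^*O(1), F_m = p_1^*L^m ⊗ p_2^*L^m and N an
invertible O_X-module inverse to the ideal sheaf of the graph Γ_σ = (id, σ) : C ⟶ X. Let S = Sym²(C)
be the symmetric square: π : X ⟶ S is a quotient (affine, invariant, sections of S = invariant
sections) for the action of the symmetric group on two letters in which the transposition acts by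
the swap of the two factors, and q : S ⟶ Spec k its structure morphism with π over Spec k; let N_Δ
be an invertible module on X inverse to the ideal sheaf of the diagonal, x : Spec k ⟶ C a k-point
with A = O_C(x), and MΘ, MΔ, M∇ invertible O_S-modules with π^*MΘ ≅ p_1^*A ⊗ p_2^*A, π^*MΔ ≅ N_Δ ⊗
N_Δ and π^*M∇ ≅ N (the classes Θ_S = π({x} × C), Δ_S = π(Δ) with π^*Δ_S = 2Δ, and ∇_S = π(Γ_σ)).
Then (Θ_S·Θ_S) = 1, (Θ_S·Δ_S) = 2, (Θ_S·∇_S) = 1, (Δ_S·Δ_S) = 4 − 4g, (∇_S·∇_S) = 1 − g and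
(Δ_S·∇_S) = 2g + 2, intersection numbers being (M·M') = χ(O_S) − χ(M) − χ(M') + χ(M ⊗ M'). -/
theorem result (k : Type u) [Field k] [IsAlgClosed k] (h2 : (2 : k) ≠ 0)
    (C : Scheme.{u}) [C.Over (Spec (CommRingCat.of k))] [IsProper (C ↘ Spec (CommRingCat.of k))] [Smooth (C ↘ Spec (CommRingCat.of k))] [ConnectedSpace ↥C]
    (hdim : topologicalKrullDim ↥C = 1) (g : ℕ) (hg : 2 ≤ g) (hgen : Curv2.genus k C = g)
    (κ : C ⟶ CohB1.ProjSpace 1 k) (hκ : κ ≫ CohB1.ProjSpace.toSpec 1 k = (C ↘ Spec (CommRingCat.of k)))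
    [IsFinite κ] [Flat κ] (hκ2 : ∀ y : ↥(CohB1.ProjSpace 1 k), κ.finrank y = 2)
    (σ : C ⟶ C) (hσ : σ ≫ κ = κ) (hσ1 : σ ≠ 𝟙 C) (hσp : σ ≫ (C ↘ Spec (CommRingCat.of k)) = (C ↘ Spec (CommRingCat.of k)))
    (N : (pullback (C ↘ Spec (CommRingCat.of k)) (C ↘ Spec (CommRingCat.of k))).Modules) (hN : PicF.IsInvertible N)
    (hNinv : ClSub.IsInverseOf N (ClSub.idealMod (pullback.lift (𝟙 C) σ ((Category.id_comp (C ↘ Spec (CommRingCat.of k))).trans hσp.symm)).ker))
    (ND : (pullback (C ↘ Spec (CommRingCat.of k)) (C ↘ Spec (CommRingCat.of k))).Modules) (hND : PicF.IsInvertible ND)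
    (hNDinv : ClSub.IsInverseOf ND (ClSub.idealMod (pullback.diagonal (C ↘ Spec (CommRingCat.of k))).ker))
    (x : Spec (CommRingCat.of k) ⟶ C) (hx : x ≫ (C ↘ Spec (CommRingCat.of k)) = 𝟙 (Spec (CommRingCat.of k)))
    (A : C.Modules) (hA : PicF.IsInvertible A) (hAinv : ClSub.IsInverseOf A (ClSub.idealMod x.ker))
    (ρ : ULift.{u} (Equiv.Perm (Fin 2)) →* Aut (pullback (C ↘ Spec (CommRingCat.of k)) (C ↘ Spec (CommRingCat.of k)))) (hρ : (ρ (ULift.up (Equiv.swap 0 1))).hom = (pullbackSymmetry (C ↘ Spec (CommRingCat.of k)) (C ↘ Spec (CommRingCat.of k))).hom)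
    (Sq : Scheme.{u}) (π : (pullback (C ↘ Spec (CommRingCat.of k)) (C ↘ Spec (CommRingCat.of k))) ⟶ Sq) (hπ : SGA1.IsQuot ρ π) (q : Sq ⟶ Spec (CommRingCat.of k)) (hq : π ≫ q = pullback.fst (C ↘ Spec (CommRingCat.of k)) (C ↘ Spec (CommRingCat.of k)) ≫ (C ↘ Spec (CommRingCat.of k)))
    (MΘ MΔ MV : Sq.Modules) (hMΘ : PicF.IsInvertible MΘ) (hMΔ : PicF.IsInvertible MΔ) (hMV : PicF.IsInvertible MV)
    (hΘ : Nonempty ((Scheme.Modules.pullback π).obj MΘ ≅ CohB1.tensorMod ((Scheme.Modules.pullback (pullback.fst (C ↘ Spec (CommRingCat.of k)) (C ↘ Spec (CommRingCat.of k)))).obj A) ((Scheme.Modules.pullback (pullback.snd (C ↘ Spec (CommRingCat.of k)) (C ↘ Spec (CommRingCat.of k)))).obj A)))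
    (hΔ : Nonempty ((Scheme.Modules.pullback π).obj MΔ ≅ CohB1.tensorMod ND ND))
    (hV : Nonempty ((Scheme.Modules.pullback π).obj MV ≅ N)) :
    letI : Sq.Over (Spec (CommRingCat.of k)) := ⟨q⟩
    FGA.intNum k Sq 2 ![MΘ, MΘ] (Coh.structureModule Sq) = 1 ∧ FGA.intNum k Sq 2 ![MΘ, MΔ] (Coh.structureModule Sq) = 2 ∧ FGA.intNum k Sq 2 ![MΘ, MV] (Coh.structureModule Sq) = 1 ∧
      FGA.intNum k Sq 2 ![MΔ, MΔ] (Coh.structureModule Sq) = 4 - 4 * (g : ℤ) ∧ FGA.intNum k Sq 2 ![MV, MV] (Coh.structureModule Sq) = 1 - (g : ℤ) ∧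
      FGA.intNum k Sq 2 ![MΔ, MV] (Coh.structureModule Sq) = 2 * (g : ℤ) + 2 := by
  obtain ⟨_, h, D, ND', H⟩ := SymSq53.exists_hyper h2 hdim hg hgen κ hκ hκ2 σ hσ hσ1 hσp hN hNinv
  letI := HypSq53.sqOver k C
  letI : Sq.Over (Spec (CommRingCat.of k)) := ⟨q⟩
  haveI : IsProper ((pullback (C ↘ Spec (CommRingCat.of k)) (C ↘ Spec (CommRingCat.of k))) ↘ Spec (CommRingCat.of k)) :=
    HypSq53.isProper_square
  have hD := H.double
  let F1 := HypSq53.fibresMod (k := k) A 1 1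
  let X2 := CohB1.tensorMod ND ND
  have iF1 : PicF.IsInvertible F1 := HypSq53.isInvertible_fibresMod (k := k) hA 1 1
  have iX2 : PicF.IsInvertible X2 := EGA73.isInvertible_tensorMod hND hND
  have eΘ : PicF.cl ((Scheme.Modules.pullback π).obj MΘ) = PicF.cl F1 := by
    rw [HypSq53.cl_eq_of_iso hΘ.some, HypSq53.cl_fibresMod hA, FGA29.cl_tensor, pow_one, pow_one]
  have eΔ := HypSq53.cl_eq_of_iso hΔ.some
  have eV := HypSq53.cl_eq_of_iso hV.some
  have d := fun (A B : Sq.Modules) (hA : PicF.IsInvertible A) (hB : PicF.IsInvertible B)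
      (a b : (pullback (C ↘ Spec (CommRingCat.of k)) (C ↘ Spec (CommRingCat.of k))).Modules)
      (ea : PicF.cl ((Scheme.Modules.pullback π).obj A) = PicF.cl a)
      (eb : PicF.cl ((Scheme.Modules.pullback π).obj B) = PicF.cl b) =>
    SymSq53.two_mul_intNum (κ := κ) hD hdim hND hNDinv hρ hπ hq h2 hA hB ea eb
  have fib := fun m n r => hD.euler_fibresMod_twist hdim hx hA hAinv σ hσp hσ H.invol hN hNinv m n r
  have p2 : ∀ (G : (pullback (C ↘ Spec (CommRingCat.of k)) (C ↘ Spec (CommRingCat.of k))).Modules) (m n r : ℕ),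
      PicF.cl G = PicF.cl (HypSq53.fibresMod (k := k) A m n) * PicF.cl N ^ r →
      Curv2.euler k _ G = ((m : ℤ) - ((g : ℤ) - 1)) * ((n : ℤ) - ((g : ℤ) - 1)) + (r : ℤ) * (m + n) - ((g : ℤ) - 1) * r * (r + 2) :=
    fun G m n r hG => (FGA29.euler_cl k (F := G) (G := CohB1.tensorMod (HypSq53.fibresMod (k := k) A m n) (CohB1.tensorPow N r))
      (hG.trans (by simp only [FGA29.cl_tensor, FGA29.cl_tensorPow]))).trans (fib m n r)
  have q0 := p2 (Coh.structureModule _) 0 0 0 (by simp [FGA29.cl_one, HypSq53.cl_fibresMod hA])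
  have q1 := p2 F1 1 1 0 (by simp [F1, HypSq53.cl_fibresMod hA])
  have q2 := p2 (CohB1.tensorMod F1 F1) 2 2 0 (by
    simp only [F1, FGA29.cl_tensor, HypSq53.cl_fibresMod hA, pow_zero, mul_one, pow_two, pow_one, mul_assoc,
      mul_left_comm])
  have q3 := p2 N 0 0 1 (by simp [HypSq53.cl_fibresMod hA])
  have q4 := p2 (CohB1.tensorMod N N) 0 0 2 (by simp [HypSq53.cl_fibresMod hA, FGA29.cl_tensor, pow_two])
  have q5 := p2 (CohB1.tensorMod F1 N) 1 1 1 (by simp [F1, HypSq53.cl_fibresMod hA, FGA29.cl_tensor])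
  push_cast at q0 q1 q2 q3 q4 q5
  -- restrictions to the diagonal
  have rF : Curv2.euler k C ((Scheme.Modules.pullback (HypSq53.graph (𝟙 C) (Category.id_comp (C ↘ Spec (CommRingCat.of k))))).obj F1) =
      2 + 1 - (g : ℤ) := by
    rw [FGA29.euler_cl k (HypSq53.cl_pullback_congr _ (show PicF.cl F1 = PicF.cl (CohB1.tensorMod F1 (CohB1.tensorPow N 0)) by
      simp only [F1, FGA29.cl_tensor, FGA29.cl_tensorPow, pow_zero, mul_one])),
      SymSq53.euler_diag_fibresMod hdim H hN hx hA hAinv 1 0]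
    push_cast; ring
  have rN := hD.euler_of_cl H.onDiag
  have rX := hD.euler_of_cl (s := -2 * ((g : ℤ) - 1))
    (M := (Scheme.Modules.pullback (HypSq53.graph (𝟙 C) (Category.id_comp (C ↘ Spec (CommRingCat.of k))))).obj X2) (by
      rw [HypSq53.cl_pullback_tensor _ hND hND, hD.cl_normal (𝟙 C) (Category.id_comp _) (Category.id_comp κ) hND hNDinv,
        HypSq53.clD_mul]
      congr 1; ring)
  have dFX : Cyc90.Dev.intE k ![X2, F1] (Coh.structureModule _) = 4 := by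
    rw [SymSq53.intE_double hdim hND hNDinv iF1, SymSq53.intE_diag hD hdim hND hNDinv iF1, rF]; ring
  have dFN : Cyc90.Dev.intE k ![X2, N] (Coh.structureModule _) = 4 * (g : ℤ) + 4 := by
    rw [SymSq53.intE_double hdim hND hNDinv hN, SymSq53.intE_diag hD hdim hND hNDinv hN, rN]; ring
  have dXX : Cyc90.Dev.intE k ![X2, X2] (Coh.structureModule _) = 8 - 8 * (g : ℤ) := by
    rw [SymSq53.intE_double hdim hND hNDinv iX2, SymSq53.intE_diag hD hdim hND hNDinv iX2, rX]; ring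
  have a1 := d MΘ MΘ hMΘ hMΘ F1 F1 eΘ eΘ
  have a2 := d MΘ MΔ hMΘ hMΔ F1 X2 eΘ eΔ
  have a3 := d MΘ MV hMΘ hMV F1 N eΘ eV
  have a4 := d MΔ MΔ hMΔ hMΔ X2 X2 eΔ eΔ
  have a5 := d MV MV hMV hMV N N eV eV
  have a6 := d MΔ MV hMΔ hMV X2 N eΔ eV
  rw [HypSq53.intE_pair, q0, q1, q2] at a1
  rw [HypSq53.intE_swap F1 X2, dFX] at a2
  rw [HypSq53.intE_pair, q0, q1, q3, q5] at a3
  rw [dXX] at a4
  rw [HypSq53.intE_pair, q0, q3, q4] at a5
  rw [dFN] at a6
  refine ⟨?_, ?_, ?_, ?_, ?_, ?_⟩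
  · linarith
  · omega
  · linarith
  · omega
  · linarith
  · omega
end Groth.Agent.S19088
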