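import Groth.Statements.S19090
import Groth.Agent.SymSq53.CanonClass

set_option autoImplicit false
set_option linter.unusedVariables false
universe u
open CategoryTheory CategoryTheory.Limits AlgebraicGeometry Opposite
open SymSq

namespace Groth.Agent.S19090
open scoped Groth.Agent.FGA29
attribute [local instance] CrvPic30.ffAlg

/-- Let k be an algebraically closed field of characteristic ≠ 2 and C a hyperelliptic curve of genus g
≥ 2 over k: C ⟶ Spec k proper and smooth, C connected of dimension one with dim_k H^1(C, O_C) = g,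
with a double cover κ : C ⟶ P^1_k over k (finite, flat, of rank 2 everywhere) and hyperelliptic
involution σ (σ ≫ κ = κ, σ ≠ id). On X = C ×_k C let L = κ^*O(1), F_m = p_1^*L^m ⊗ p_2^*L^m and N an
invertible O_X-module inverse to the ideal sheaf of the graph Γ_σ = (id, σ) : C ⟶ X. Let S = Sym²(C)
be the symmetric square: π : X ⟶ S is a quotient (affine, invariant, sections of S = invariant
sections) for the action of the symmetric group on two letters in which the transposition acts by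
the swap of the two factors, and q : S ⟶ Spec k its structure morphism with π over Spec k; let W be
a canonical module of S (a second exterior power of Ω_{S/k}). Then K_S^2 = (W·W) = (g − 1)(4g − 9),
with (M·M') = χ(O_S) − χ(M) − χ(M') + χ(M ⊗ M'). -/
theorem result (k : Type u) [Field k] [IsAlgClosed k] (h2 : (2 : k) ≠ 0)
    (C : Scheme.{u}) [C.Over (Spec (CommRingCat.of k))] [IsProper (C ↘ Spec (CommRingCat.of k))] [Smooth (C ↘ Spec (CommRingCat.of k))] [ConnectedSpace ↥C]
    (hdim : topologicalKrullDim ↥C = 1) (g : ℕ) (hg : 2 ≤ g) (hgen : Curv2.genus k C = g)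
    (κ : C ⟶ CohB1.ProjSpace 1 k) (hκ : κ ≫ CohB1.ProjSpace.toSpec 1 k = (C ↘ Spec (CommRingCat.of k)))
    [IsFinite κ] [Flat κ] (hκ2 : ∀ y : ↥(CohB1.ProjSpace 1 k), κ.finrank y = 2)
    (σ : C ⟶ C) (hσ : σ ≫ κ = κ) (hσ1 : σ ≠ 𝟙 C) (hσp : σ ≫ (C ↘ Spec (CommRingCat.of k)) = (C ↘ Spec (CommRingCat.of k)))
    (N : (pullback (C ↘ Spec (CommRingCat.of k)) (C ↘ Spec (CommRingCat.of k))).Modules) (hN : PicF.IsInvertible N)
    (hNinv : ClSub.IsInverseOf N (ClSub.idealMod (pullback.lift (𝟙 C) σ ((Category.id_comp (C ↘ Spec (CommRingCat.of k))).trans hσp.symm)).ker))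
    (ρ : ULift.{u} (Equiv.Perm (Fin 2)) →* Aut (pullback (C ↘ Spec (CommRingCat.of k)) (C ↘ Spec (CommRingCat.of k)))) (hρ : (ρ (ULift.up (Equiv.swap 0 1))).hom = (pullbackSymmetry (C ↘ Spec (CommRingCat.of k)) (C ↘ Spec (CommRingCat.of k))).hom)
    (Sq : Scheme.{u}) (π : (pullback (C ↘ Spec (CommRingCat.of k)) (C ↘ Spec (CommRingCat.of k))) ⟶ Sq) (hπ : SGA1.IsQuot ρ π) (q : Sq ⟶ Spec (CommRingCat.of k)) (hq : π ≫ q = pullback.fst (C ↘ Spec (CommRingCat.of k)) (C ↘ Spec (CommRingCat.of k)) ≫ (C ↘ Spec (CommRingCat.of k)))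
    (W : Sq.Modules) (hW : ExtPow.IsExtPow 2 (Omega.sheaf q) W) :
    letI : Sq.Over (Spec (CommRingCat.of k)) := ⟨q⟩
    FGA.intNum k Sq 2 ![W, W] (Coh.structureModule Sq) = ((g : ℤ) - 1) * (4 * (g : ℤ) - 9) := by
  obtain ⟨_, h, D, ND, H⟩ := SymSq53.exists_hyper h2 hdim hg hgen κ hκ hκ2 σ hσ hσ1 hσp hN hNinv
  letI : Sq.Over (Spec (CommRingCat.of k)) := ⟨q⟩
  letI := HypSq53.sqOver k C
  obtain ⟨hWi, eW⟩ := SymSq53.cl_pullback_canonical hρ hπ hq h2 hdim H hN hg hW
  have hD := H.double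
  have a := SymSq53.two_mul_intNum (κ := κ) hD hdim H.invND H.ndInv hρ hπ hq h2 hWi hWi eW eW
  have e := fun (m r : ℕ) => hD.euler_twistBox (hσp := hσp) hσ hN hNinv (hD.euler_boxPow_all hdim m) r
  have e0 : Curv2.euler k _ (Coh.structureModule (pullback (C ↘ Spec (CommRingCat.of k)) (C ↘ Spec (CommRingCat.of k)))) = _ :=
    (FGA29.euler_cl k (F := Coh.structureModule _) (G := HypSq53.twistBox κ N 0 0) (by
      rw [HypSq53.twistBox, FGA29.cl_tensor, HypSq53.boxMod, FGA29.cl_tensor,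
        HypSq53.cl_pullback_pow _ (HypSq53.isInvertible_Lh κ), HypSq53.cl_pullback_pow _ (HypSq53.isInvertible_Lh κ)]
      simp [FGA29.cl_one, FGA29.cl_tensorPow])).trans (e 0 0)
  rw [HypSq53.intE_pair, e0, e (g - 2) 1,
    FGA29.euler_cl k (F := CohB1.tensorMod (HypSq53.twistBox κ N (g - 2) 1) (HypSq53.twistBox κ N (g - 2) 1))
      (G := HypSq53.twistBox κ N ((g - 2) + (g - 2)) 2) (by
      simp only [HypSq53.twistBox, HypSq53.boxMod, FGA29.cl_tensor, FGA29.cl_tensorPow,
        HypSq53.cl_pullback_pow _ (HypSq53.isInvertible_Lh κ), pow_add, pow_one, pow_two]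
      simp only [mul_assoc, mul_comm, mul_left_comm]), e ((g - 2) + (g - 2)) 2] at a
  obtain ⟨m, rfl⟩ : ∃ m, g = m + 2 := ⟨g - 2, by omega⟩
  simp only [Nat.add_sub_cancel] at a
  push_cast at a ⊢
  linarith
end Groth.Agent.S19090
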