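import Groth.Statements.S19091
import Groth.Agent.SymSq53.PicInj
import Groth.Agent.SymSq53.Weier

set_option autoImplicit false
set_option linter.unusedVariables false
universe u
open CategoryTheory CategoryTheory.Limits AlgebraicGeometry Opposite
open SymSq

namespace Groth.Agent.S19091
open scoped Groth.Agent.FGA29
attribute [local instance] CrvPic30.ffAlg

/-- Let k be an algebraically closed field of characteristic ≠ 2 and C a hyperelliptic curve of genus g
≥ 2 over k: C ⟶ Spec k proper and smooth, C connected of dimension one with dim_k H^1(C, O_C) = g,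
with a double cover κ : C ⟶ P^1_k over k (finite, flat, of rank 2 everywhere) and hyperelliptic
involution σ (σ ≫ κ = κ, σ ≠ id). On X = C ×_k C let L = κ^*O(1), F_m = p_1^*L^m ⊗ p_2^*L^m and N an
invertible O_X-module inverse to the ideal sheaf of the graph Γ_σ = (id, σ) : C ⟶ X. Let S = Sym²(C)
be the symmetric square: π : X ⟶ S is a quotient (affine, invariant, sections of S = invariant
sections) for the action of the symmetric group on two letters in which the transposition acts by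
the swap of the two factors, and q : S ⟶ Spec k its structure morphism with π over Spec k; let N_Δ
be an invertible module on X inverse to the ideal sheaf of the diagonal, x : Spec k ⟶ C a k-point
with A = O_C(x), and MΘ, MΔ, M∇ invertible O_S-modules with π^*MΘ ≅ p_1^*A ⊗ p_2^*A, π^*MΔ ≅ N_Δ ⊗
N_Δ and π^*M∇ ≅ N (the classes Θ_S = π({x} × C), Δ_S = π(Δ) with π^*Δ_S = 2Δ, and ∇_S = π(Γ_σ)).
Assume moreover that x is a Weierstrass point: σ fixes x. Then 4Θ_S ~ Δ_S + 2∇_S in Pic S: MΘ^4 ≅ MΔ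
⊗ M∇^2 (existence of an isomorphism). -/
theorem result (k : Type u) [Field k] [IsAlgClosed k] (h2 : (2 : k) ≠ 0)
    (C : Scheme.{u}) [C.Over (Spec (CommRingCat.of k))] [IsProper (C ↘ Spec (CommRingCat.of k))] [Smooth (C ↘ Spec (CommRingCat.of k))] [ConnectedSpace ↥C]
    (hdim : topologicalKrullDim ↥C = 1) (g : ℕ) (hg : 2 ≤ g) (hgen : Curv2.genus k C = g)
    (κ : C ⟶ CohB1.ProjSpace 1 k) (hκ : κ ≫ CohB1.ProjSpace.toSpec 1 k = (C ↘ Spec (CommRingCat.of k)))
    [IsFinite κ] [Flat κ] (hκ2 : ∀ y : ↥(CohB1.ProjSpace 1 k), κ.finrank y = 2)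
    (σ : C ⟶ C) (hσ : σ ≫ κ = κ) (hσ1 : σ ≠ 𝟙 C) (hσp : σ ≫ (C ↘ Spec (CommRingCat.of k)) = (C ↘ Spec (CommRingCat.of k)))
    (N : (pullback (C ↘ Spec (CommRingCat.of k)) (C ↘ Spec (CommRingCat.of k))).Modules) (hN : PicF.IsInvertible N)
    (hNinv : ClSub.IsInverseOf N (ClSub.idealMod (pullback.lift (𝟙 C) σ ((Category.id_comp (C ↘ Spec (CommRingCat.of k))).trans hσp.symm)).ker))
    (ND : (pullback (C ↘ Spec (CommRingCat.of k)) (C ↘ Spec (CommRingCat.of k))).Modules) (hND : PicF.IsInvertible ND)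
    (hNDinv : ClSub.IsInverseOf ND (ClSub.idealMod (pullback.diagonal (C ↘ Spec (CommRingCat.of k))).ker))
    (x : Spec (CommRingCat.of k) ⟶ C) (hx : x ≫ (C ↘ Spec (CommRingCat.of k)) = 𝟙 (Spec (CommRingCat.of k)))
    (A : C.Modules) (hA : PicF.IsInvertible A) (hAinv : ClSub.IsInverseOf A (ClSub.idealMod x.ker))
    (ρ : ULift.{u} (Equiv.Perm (Fin 2)) →* Aut (pullback (C ↘ Spec (CommRingCat.of k)) (C ↘ Spec (CommRingCat.of k)))) (hρ : (ρ (ULift.up (Equiv.swap 0 1))).hom = (pullbackSymmetry (C ↘ Spec (CommRingCat.of k)) (C ↘ Spec (CommRingCat.of k))).hom)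
    (Sq : Scheme.{u}) (π : (pullback (C ↘ Spec (CommRingCat.of k)) (C ↘ Spec (CommRingCat.of k))) ⟶ Sq) (hπ : SGA1.IsQuot ρ π) (q : Sq ⟶ Spec (CommRingCat.of k)) (hq : π ≫ q = pullback.fst (C ↘ Spec (CommRingCat.of k)) (C ↘ Spec (CommRingCat.of k)) ≫ (C ↘ Spec (CommRingCat.of k)))
    (hxW : x ≫ σ = x)
    (MΘ MΔ MV : Sq.Modules) (hMΘ : PicF.IsInvertible MΘ) (hMΔ : PicF.IsInvertible MΔ) (hMV : PicF.IsInvertible MV)
    (hΘ : Nonempty ((Scheme.Modules.pullback π).obj MΘ ≅ CohB1.tensorMod ((Scheme.Modules.pullback (pullback.fst (C ↘ Spec (CommRingCat.of k)) (C ↘ Spec (CommRingCat.of k)))).obj A) ((Scheme.Modules.pullback (pullback.snd (C ↘ Spec (CommRingCat.of k)) (C ↘ Spec (CommRingCat.of k)))).obj A)))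
    (hΔ : Nonempty ((Scheme.Modules.pullback π).obj MΔ ≅ CohB1.tensorMod ND ND))
    (hV : Nonempty ((Scheme.Modules.pullback π).obj MV ≅ N)) :
    Nonempty (CohB1.tensorPow MΘ 4 ≅ CohB1.tensorMod MΔ (CohB1.tensorPow MV 2)) := by
  obtain ⟨_, h, D, ND', H⟩ := SymSq53.exists_hyper h2 hdim hg hgen κ hκ hκ2 σ hσ hσ1 hσp hN hNinv
  haveI := HypSq53.isClosedImmersion_graph (𝟙 C) (Category.id_comp (C ↘ Spec (CommRingCat.of k)))
  have hsum : PicF.cl ND * PicF.cl N =
      PicF.cl (HypSq53.boxMod (C ↘ Spec (CommRingCat.of k)) (HypSq53.Lh κ) (HypSq53.Lh κ)) := by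
    have := Curves2.ProjLine.isIntegral k 1
    obtain ⟨e, es, y, R, hc⟩ := HypSq53.exists_coord h2 h hκ hκ2 σ hσ hσ1 hσp
    exact hc.cl_diag_graph h2 hκ hσ hσp hNinv hNDinv
  have hAA := SymSq53.cl_sq_weierstrass hx hdim H hσp hN hNinv hxW hAinv
  have hT4 : PicF.IsInvertible (CohB1.tensorPow MΘ 4) := EGA73.isInvertible_tensorPow hMΘ 4
  have hR : PicF.IsInvertible (CohB1.tensorMod MΔ (CohB1.tensorPow MV 2)) :=
    EGA73.isInvertible_tensorMod hMΔ (EGA73.isInvertible_tensorPow hMV 2)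
  obtain ⟨J, hJ, ⟨eJ⟩⟩ := An92.InvMod.exists_inverse hR
  have heJ : PicF.cl J * PicF.cl (CohB1.tensorMod MΔ (CohB1.tensorPow MV 2)) = 1 := by
    rw [← FGA29.cl_tensor]
    exact (HypSq53.cl_eq_of_iso eJ).trans FGA29.cl_one
  have hL := EGA73.isInvertible_tensorMod hT4 hJ
  have key : PicF.cl ((Scheme.Modules.pullback π).obj (CohB1.tensorPow MΘ 4)) =
      PicF.cl ((Scheme.Modules.pullback π).obj (CohB1.tensorMod MΔ (CohB1.tensorPow MV 2))) := by
    rw [HypSq53.cl_pullback_pow π hMΘ, HypSq53.cl_pullback_tensor π hMΔ (EGA73.isInvertible_tensorPow hMV 2),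
      HypSq53.cl_pullback_pow π hMV, HypSq53.cl_eq_of_iso hΘ.some, HypSq53.cl_eq_of_iso hΔ.some,
      HypSq53.cl_eq_of_iso hV.some, FGA29.cl_tensor, FGA29.cl_tensor]
    have hp : ∀ (f : pullback (C ↘ Spec (CommRingCat.of k)) (C ↘ Spec (CommRingCat.of k)) ⟶ C),
        PicF.cl ((Scheme.Modules.pullback f).obj A) * PicF.cl ((Scheme.Modules.pullback f).obj A) =
          PicF.cl ((Scheme.Modules.pullback f).obj (HypSq53.Lh κ)) := fun f => by
      rw [← HypSq53.cl_pullback_tensor f hA hA]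
      exact HypSq53.cl_pullback_congr f ((FGA29.cl_tensor _ _).trans hAA)
    rw [HypSq53.boxMod, FGA29.cl_tensor, ← hp, ← hp] at hsum
    calc _ = (PicF.cl ND * PicF.cl N) * (PicF.cl ND * PicF.cl N) := by
          rw [hsum]; simp only [pow_succ, pow_zero, one_mul, mul_assoc, mul_left_comm, mul_comm]
      _ = _ := by simp only [pow_two, mul_assoc, mul_left_comm, mul_comm]
  have htriv : PicF.cl ((Scheme.Modules.pullback π).obj (CohB1.tensorMod (CohB1.tensorPow MΘ 4) J)) = 1 := by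
    rw [HypSq53.cl_pullback_tensor π hT4 hJ, key, mul_comm, ← HypSq53.cl_pullback_tensor π hJ hR,
      HypSq53.cl_pullback_congr π (show PicF.cl (CohB1.tensorMod J _) = PicF.cl (Coh.structureModule Sq) by
        rw [FGA29.cl_tensor, heJ, FGA29.cl_one]), HypSq53.cl_pullback_one]
  obtain ⟨θ⟩ := HypSq53.nonempty_iso_of_cl_eq (htriv.trans FGA29.cl_one.symm)
  haveI : IsIntegral (pullback (C ↘ Spec (CommRingCat.of k)) (C ↘ Spec (CommRingCat.of k))) :=
    Groth.Agent.S1582.result k C C (C ↘ Spec (CommRingCat.of k)) (C ↘ Spec (CommRingCat.of k))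
  haveI : IsProper (pullback.fst (C ↘ Spec (CommRingCat.of k)) (C ↘ Spec (CommRingCat.of k)) ≫ (C ↘ Spec (CommRingCat.of k))) :=
    HypSq53.isProper_square
  haveI : Nonempty C := ⟨x (IsLocalRing.closedPoint k)⟩
  obtain ⟨e1⟩ := SymSq53.nonempty_iso_of_pullback_trivial (SymSq53.invol_of_quot hρ hπ h2)
    (HypSq53.graph (𝟙 C) (Category.id_comp (C ↘ Spec (CommRingCat.of k))))
    (pullback.hom_ext
      (by rw [Category.assoc, pullbackSymmetry_hom_comp_fst, pullback.lift_snd, pullback.lift_fst])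
      (by rw [Category.assoc, pullbackSymmetry_hom_comp_snd, pullback.lift_snd, pullback.lift_fst]))
    k _ (ASB64.bijective_toGlobal (pullback.fst (C ↘ Spec (CommRingCat.of k)) (C ↘ Spec (CommRingCat.of k)) ≫ (C ↘ Spec (CommRingCat.of k)))).2
    hL θ
  refine HypSq53.nonempty_iso_of_cl_eq ?_
  have h1 := HypSq53.cl_eq_of_iso e1
  rw [FGA29.cl_tensor, FGA29.cl_one] at h1
  calc PicF.cl (CohB1.tensorPow MΘ 4)
      = PicF.cl (CohB1.tensorPow MΘ 4) * (PicF.cl J * PicF.cl (CohB1.tensorMod MΔ (CohB1.tensorPow MV 2))) := by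
        rw [heJ, mul_one]
    _ = _ := by rw [← mul_assoc, h1, one_mul]
end Groth.Agent.S19091
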