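import Groth.Statements.S19096
import Groth.Agent.Char34.ClosedClass

set_option autoImplicit false
open CategoryTheory MonoidalCategory CartesianMonoidalCategory MonObj AlgebraicGeometry
open HopfRep

namespace Groth.Agent.S19096

/-- Let A be a finitely generated commutative Hopf algebra over the complex numbers all of whose
finite-dimensional comodules are semisimple (a linearly reductive complex linear algebraic group G =
Spec A; over the complex numbers these are exactly the algebraic groups, connected or not, whose
identity component has a torus as radical, which is the notion of reductive group used in the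
source), and let g : A → ℂ be a complex point of G. Then the conjugacy class of g, the image of the
morphism G → G sending x to x g x⁻¹, is a closed subset of G if and only if g is semisimple, meaning
that right translation by g on the coordinate ring A (the action of g on the regular comodule) is a
semisimple endomorphism. -/
theorem result
    (A : Type) [CommRing A] [HopfAlgebra ℂ A] [Algebra.FiniteType ℂ A]
    (hred : HopfRep.IsLinearlyReductive ℂ A) (g : A →ₐ[ℂ] ℂ) :
    IsClosed (Set.range ((𝟙 (CoactBr.sp ℂ A) * CoactBr.pt ((Algebra.ofId ℂ A).comp g) *
        (𝟙 (CoactBr.sp ℂ A))⁻¹).left.base)) ↔
      Module.End.IsSemisimple (HopfRep.Comod.act ℂ A A g) := by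
  have hr := Char34.range_conj (k := ℂ) g
  rw [hr]
  constructor
  · intro hcl
    obtain ⟨s, hs, hparts⟩ := Char34.exists_ss_part (WithConv.toConv g)
    obtain ⟨x, hx⟩ := Char34.exists_conj_of_trace hred (g := s) (h := WithConv.toConv g)
      (Char34.isClosedOrbit_of_isSS hs) hcl fun d c => by
        letI := c
        exact (hparts (Fin d → ℂ) inferInstance).2.symm
    have h := Char34.regular_of_isSS (hs.conj x)
    rw [hx] at h
    exact h
  · intro h
    exact Char34.isClosedOrbit_of_isSS (Char34.isSS_of_regular h)

end Groth.Agent.S19096
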