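import Groth.Statements.S19097
import Groth.Agent.Char34.Separate

set_option autoImplicit false
open CategoryTheory MonoidalCategory CartesianMonoidalCategory MonObj AlgebraicGeometry
open HopfRep

namespace Groth.Agent.S19097

/-- Let A be a finitely generated commutative Hopf algebra over the complex numbers (a complex linear
algebraic group G = Spec A) and let g : A → ℂ be a semisimple complex point of G (right translation
by g on A is a semisimple endomorphism). Then there are finitely many finite-dimensional
representations V_1, …, V_m of G, given as comodule structures on coordinate spaces, such that every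
complex point g' of G whose action on each V_i is conjugate, under some linear automorphism of V_i,
to the action of g is conjugate to g in the group of complex points of G. (The published statement
is phrased as an embedding of G in a product H of general linear groups with C_H(g) ∩ G = C_G(g);
conjugacy in a product of general linear groups is conjugacy factor by factor, and the requirement
that the V_i together form a faithful representation, which can be met by adjoining any faithful
representation, is not repeated here.) -/
theorem result
    (A : Type) [CommRing A] [HopfAlgebra ℂ A] [Algebra.FiniteType ℂ A]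
    (g : A →ₐ[ℂ] ℂ) (hg : Module.End.IsSemisimple (HopfRep.Comod.act ℂ A A g)) :
    ∃ (m : ℕ) (d : Fin m → ℕ) (c : (i : Fin m) → HopfRep.Comod ℂ A (Fin (d i) → ℂ)),
      ∀ g' : A →ₐ[ℂ] ℂ,
        (∀ i : Fin m, ∃ P : (Fin (d i) → ℂ) ≃ₗ[ℂ] (Fin (d i) → ℂ),
            P.toLinearMap ∘ₗ @HopfRep.Comod.act ℂ A _ _ _ (Fin (d i) → ℂ) _ _ (c i) g' =
              (@HopfRep.Comod.act ℂ A _ _ _ (Fin (d i) → ℂ) _ _ (c i) g) ∘ₗ P.toLinearMap) →
          ∃ x : CoactBr.sp ℂ ℂ ⟶ CoactBr.sp ℂ A, x * CoactBr.pt g' * x⁻¹ = CoactBr.pt g := by
  obtain ⟨m, d, c, h⟩ := Char34.exists_separating (k := ℂ) (g := WithConv.toConv g) (Char34.isSS_of_regular hg)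
  refine ⟨m, d, c, fun g' hg' => ?_⟩
  obtain ⟨x, hx⟩ := h (WithConv.toConv g') hg'
  refine ⟨Char34.ptHom x, ?_⟩
  have e := congrArg (Char34.ptHom (k := ℂ) (A := A)) hx
  rwa [map_mul, map_mul, map_inv] at e

end Groth.Agent.S19097
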