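import Groth.Prelude.Def_ChGrp
import Groth.Prelude.Def_Par
import Groth.Prelude.Def_Red2
import Mathlib.AlgebraicGeometry.Sites.Fpqc
import Mathlib.AlgebraicGeometry.Morphisms.ClosedImmersion
import Mathlib.AlgebraicGeometry.Morphisms.Finite
import Mathlib.AlgebraicGeometry.Morphisms.Smooth
import Mathlib.AlgebraicGeometry.Morphisms.Separated
import Mathlib.Data.Complex.Basic
import Groth.Agent.Par99.Parabolic
-- import your own Groth.Agent.* helpers here

set_option autoImplicit false
open CategoryTheory MonoidalCategory CartesianMonoidalCategory MonObj AlgebraicGeometry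
open ChGrp

namespace Groth.Agent.S19100

/-- Work over S = Spec ℂ. Let G be a connected affine group scheme of finite type over ℂ acting on a
smooth ℂ-scheme X through a, with finite stabilizer: the global stabilizer S_X, given as a
monomorphism σX : S_X → G × X whose points are the pairs (g, x) with g x = x, is finite over X. Let
h be a complex point of G, i : Z → G a homomorphism and ψ : Ψ → G a closed immersion with a G-action
lifting conjugation and a point o over h such that (Ψ, o) is the homogeneous space G/Z for the fppf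
topology through g ↦ g h g⁻¹ (Z is the centralizer of h and Ψ its conjugacy class, which is closed).
Let p : P → G be a parabolic subgroup and l : Z → P a Levi subgroup of P with l followed by p equal
to i. Let incl : X^h → X be the monomorphism of points fixed by h with its Z-action, σ : S_Ψ → G × X
the monomorphism of pairs (g, x) with g in Ψ and g x = x, with G acting by conjugation and by a, and
Φ : G × X^h → S_Ψ the morphism (g, x) ↦ (g h g⁻¹, g x). Let Y with a G-action and jY : G × X → Y be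
the balanced product G ×^P X for the fppf topology (P acting on X through p), q : Y → X the morphism
with jY followed by q equal to the action, assumed separated, and j : S_Ψ → Y the morphism with Φ
followed by j equal to (G × incl) followed by jY. Then j is a closed immersion. (The source states
it for a smooth algebraic space X and concludes that j is a regular embedding, which for the smooth
spaces S_Ψ and G ×_P X amounts to j being a closed immersion, the assertion its proof establishes
and the one made here; X is a scheme here, and the projection q with its separatedness, implicit in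
the source's G/P × X, is part of the data.) -/
theorem result
    {G X Z Ψ P Xh SX SΨ Y : Over (Spec (CommRingCat.of ℂ))} [GrpObj G] [GrpObj Z] [GrpObj P]
    [IsAffine G.left] [LocallyOfFiniteType G.hom] [ConnectedSpace G.left]
    [Smooth X.hom] (a : AlgGrp.Action G X)
    (σX : SX ⟶ G ⊗ X) [Mono σX]
    (hSX : ∀ (T : Over (Spec (CommRingCat.of ℂ))) (g : T ⟶ G) (x : T ⟶ X),
      (∃ s : T ⟶ SX, s ≫ σX = lift g x) ↔ lift g x ≫ a.act = x)
    [IsFinite (σX ≫ snd G X).left]
    (h : 𝟙_ (Over (Spec (CommRingCat.of ℂ))) ⟶ G)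
    (i : Z ⟶ G) [IsMonHom i]
    (ψ : Ψ ⟶ G) [IsClosedImmersion ψ.left] (aΨ : AlgGrp.Action G Ψ)
    (hψ : aΨ.act ≫ ψ = fst G Ψ * (snd G Ψ ≫ ψ) * (fst G Ψ)⁻¹)
    (o : 𝟙_ (Over (Spec (CommRingCat.of ℂ))) ⟶ Ψ) (ho : o ≫ ψ = h)
    (hhom : ChGrp.IsHomog Scheme.fppfPrecoverage i aΨ o)
    (p : P ⟶ G) [IsMonHom p] (hP : Red.IsParabolicOver ℂ p)
    (l : Z ⟶ P) [IsMonHom l] (hl : l ≫ p = i) (hL : Par.IsLevi l)
    (incl : Xh ⟶ X) [Mono incl]
    (hXh : ∀ (T : Over (Spec (CommRingCat.of ℂ))) (x : T ⟶ X),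
      (∃ y : T ⟶ Xh, y ≫ incl = x) ↔ lift (toUnit T ≫ h) x ≫ a.act = x)
    (aXh : AlgGrp.Action Z Xh) (hincl : AlgGrp.Action.IsEquivariant aXh (a.restrict i) incl)
    (σ : SΨ ⟶ G ⊗ X) [Mono σ]
    (hSΨ : ∀ (T : Over (Spec (CommRingCat.of ℂ))) (g : T ⟶ G) (x : T ⟶ X),
      (∃ s : T ⟶ SΨ, s ≫ σ = lift g x) ↔ ((∃ y : T ⟶ Ψ, y ≫ ψ = g) ∧ lift g x ≫ a.act = x))
    (aS : AlgGrp.Action G SΨ)
    (hσ : aS.act ≫ σ = lift (fst G SΨ * (snd G SΨ ≫ σ ≫ fst G X) * (fst G SΨ)⁻¹)
      (lift (fst G SΨ) (snd G SΨ ≫ σ ≫ snd G X) ≫ a.act))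
    (Φ : G ⊗ Xh ⟶ SΨ)
    (hΦ : Φ ≫ σ = lift (fst G Xh * (toUnit (G ⊗ Xh) ≫ h) * (fst G Xh)⁻¹)
      (lift (fst G Xh) (snd G Xh ≫ incl) ≫ a.act))
    (aY : AlgGrp.Action G Y) (jY : G ⊗ X ⟶ Y)
    (hY : ChGrp.IsBalProd Scheme.fppfPrecoverage p (a.restrict p) aY jY)
    (q : Y ⟶ X) (hq : jY ≫ q = a.act) [IsSeparated q.left]
    (j : SΨ ⟶ Y) (hj : Φ ≫ j = (G ◁ incl) ≫ jY) :
    IsClosedImmersion j.left := by
  haveI : IsClosedImmersion p.left := hP.2.1
  exact Groth.Agent.Par99.isClosedImmersion_stabilizerPart a σX hSX h i ψ aΨ hψ o ho hhom p l hl hL incl hXh aXh hincl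
    σ hSΨ aS hσ Φ hΦ aY jY hY q hq j hj

end Groth.Agent.S19100
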