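import Groth.Statements.S19103
import Groth.Agent.Char34.Separate

set_option autoImplicit false
open CategoryTheory MonoidalCategory CartesianMonoidalCategory MonObj AlgebraicGeometry
open HopfRep

namespace Groth.Agent.S19103

/-- Let A be a finitely generated commutative Hopf algebra over the complex numbers (an arbitrary
complex linear algebraic group G = Spec A) and g, g' : A → ℂ two semisimple complex points of G
(right translation by each on A is a semisimple endomorphism). If every finite-dimensional
representation of G, given as a comodule structure on a coordinate space, has the same trace at g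
and at g' (all characters agree on the two conjugacy classes, i.e. the two maximal ideals of virtual
characters vanishing on them coincide), then g and g' are conjugate in the group of complex points
of G. (The source states that Ψ ↦ m_Ψ is a bijection from semisimple conjugacy classes onto the
maximal ideals of the complexified representation ring; this row is the injectivity, unfolded
through characters; the surjectivity half needs the representation ring itself and is not restated.) -/
theorem result
    (A : Type) [CommRing A] [HopfAlgebra ℂ A] [Algebra.FiniteType ℂ A]
    (g g' : A →ₐ[ℂ] ℂ) (hg : Module.End.IsSemisimple (HopfRep.Comod.act ℂ A A g))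
    (hg' : Module.End.IsSemisimple (HopfRep.Comod.act ℂ A A g'))
    (htr : ∀ (d : ℕ) (c : HopfRep.Comod ℂ A (Fin d → ℂ)),
      LinearMap.trace ℂ (Fin d → ℂ) (@HopfRep.Comod.act ℂ A _ _ _ (Fin d → ℂ) _ _ c g) =
        LinearMap.trace ℂ (Fin d → ℂ) (@HopfRep.Comod.act ℂ A _ _ _ (Fin d → ℂ) _ _ c g')) :
    ∃ x : CoactBr.sp ℂ ℂ ⟶ CoactBr.sp ℂ A, x * CoactBr.pt g * x⁻¹ = CoactBr.pt g' := by
  obtain ⟨x, hx⟩ := Char34.exists_conj_of_isSS (k := ℂ) (g := WithConv.toConv g) (g' := WithConv.toConv g')
    (Char34.isSS_of_regular hg) (Char34.isSS_of_regular hg') htr
  refine ⟨Char34.ptHom x, ?_⟩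
  have h := congrArg (Char34.ptHom (k := ℂ) (A := A)) hx
  rwa [map_mul, map_mul, map_inv] at h

end Groth.Agent.S19103
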