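import Groth.Statements.S19106

set_option autoImplicit false
open HilbD

namespace Groth.Agent.S19106

/-- Let μ be a non-empty Young diagram, V the number of its cells, E the number of unordered pairs of
cells sharing a side (a cell together with the cell immediately below it, or immediately to its
right, both in μ) and Q the number of 2 × 2 blocks of cells of μ (cells c such that the cell
diagonally below-right of c is in μ, the other two corners being in μ automatically). Then V − E + Q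
− 1 = 0, stated as V + Q = E + 1 in the naturals. (The empty diagram, for which the count reads 0 −
0 + 0 − 1, is excluded.) -/
theorem result (μ : YoungDiagram) (hμ : μ ≠ ⊥) :
    μ.cells.card + (μ.cells.filter (fun c => (c.1 + 1, c.2 + 1) ∈ μ)).card =
      (μ.cells.filter (fun c => (c.1 + 1, c.2) ∈ μ)).card + (μ.cells.filter (fun c => (c.1, c.2 + 1) ∈ μ)).card + 1 := by
  classical
  have h00 : (0, 0) ∈ μ := by
    obtain ⟨⟨i, j⟩, hc⟩ : μ.cells.Nonempty := by
      rw [Finset.nonempty_iff_ne_empty]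
      intro h
      exact hμ (SetLike.ext fun c => by
        rw [← YoungDiagram.mem_cells, h]; simp)
    exact μ.up_left_mem (Nat.zero_le i) (Nat.zero_le j) hc
  have hA : (μ.cells.filter (fun c => (c.1 + 1, c.2) ∈ μ)).card = (μ.cells.filter (fun c => 1 ≤ c.1)).card := by
    refine Finset.card_nbij' (fun c => (c.1 + 1, c.2)) (fun c => (c.1 - 1, c.2)) ?_ ?_ ?_ ?_ <;>
      rintro ⟨i, j⟩ h <;> simp only [Finset.coe_filter, Set.mem_ofPred_eq, YoungDiagram.mem_cells] at h ⊢
    · exact ⟨h.2, by omega⟩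
    · refine ⟨μ.up_left_mem (by omega) le_rfl h.1, ?_⟩
      rw [Nat.sub_add_cancel h.2]; exact h.1
    · simp
    · simp [Nat.sub_add_cancel h.2]
  have hB : (μ.cells.filter (fun c => (c.1, c.2 + 1) ∈ μ)).card = (μ.cells.filter (fun c => 1 ≤ c.2)).card := by
    refine Finset.card_nbij' (fun c => (c.1, c.2 + 1)) (fun c => (c.1, c.2 - 1)) ?_ ?_ ?_ ?_ <;>
      rintro ⟨i, j⟩ h <;> simp only [Finset.coe_filter, Set.mem_ofPred_eq, YoungDiagram.mem_cells] at h ⊢
    · exact ⟨h.2, by omega⟩
    · refine ⟨μ.up_left_mem le_rfl (by omega) h.1, ?_⟩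
      rw [Nat.sub_add_cancel h.2]; exact h.1
    · simp
    · simp [Nat.sub_add_cancel h.2]
  have hQ : (μ.cells.filter (fun c => (c.1 + 1, c.2 + 1) ∈ μ)).card =
      (μ.cells.filter (fun c => 1 ≤ c.1 ∧ 1 ≤ c.2)).card := by
    refine Finset.card_nbij' (fun c => (c.1 + 1, c.2 + 1)) (fun c => (c.1 - 1, c.2 - 1)) ?_ ?_ ?_ ?_ <;>
      rintro ⟨i, j⟩ h <;> simp only [Finset.coe_filter, Set.mem_ofPred_eq, YoungDiagram.mem_cells] at h ⊢
    · exact ⟨h.2, by omega, by omega⟩
    · refine ⟨μ.up_left_mem (by omega) (by omega) h.1, ?_⟩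
      rw [Nat.sub_add_cancel h.2.1, Nat.sub_add_cancel h.2.2]; exact h.1
    · simp
    · simp [Nat.sub_add_cancel h.2.1, Nat.sub_add_cancel h.2.2]
  have hsplit : μ.cells.card = (μ.cells.filter (fun c => 1 ≤ c.1 ∨ 1 ≤ c.2)).card + 1 := by
    rw [← Finset.card_filter_add_card_filter_not (s := μ.cells) (fun c : ℕ × ℕ => 1 ≤ c.1 ∨ 1 ≤ c.2)]
    congr 1
    rw [Finset.card_eq_one]
    refine ⟨(0, 0), Finset.ext fun ⟨i, j⟩ => ?_⟩
    simp only [Finset.mem_filter, YoungDiagram.mem_cells, Finset.mem_singleton, Prod.mk.injEq]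
    constructor
    · intro h; omega
    · rintro ⟨rfl, rfl⟩; exact ⟨h00, by omega⟩
  rw [hA, hB, hQ, hsplit, Finset.filter_or, Finset.filter_and]
  have := Finset.card_union_add_card_inter (μ.cells.filter (fun c : ℕ × ℕ => 1 ≤ c.1))
    (μ.cells.filter (fun c : ℕ × ℕ => 1 ≤ c.2))
  omega

end Groth.Agent.S19106
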