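import Groth.Statements.S19130
import Groth.Agent.EtCore45.SepClConst
import Groth.Agent.EtCore45.NormalConst
import Groth.Prelude.Def_EtCore

set_option autoImplicit false
universe u
open CategoryTheory CategoryTheory.Limits AlgebraicGeometry Opposite
open EtCoh

namespace Groth.Agent.S19130

/-- Let p be a prime and Y an integral scheme which is normal (every local ring is integrally closed in
its fraction field) and whose function field is algebraically closed. Then the étale cohomology of
the constant sheaf Z/p on Y is Z/p in degree 0 and vanishes in positive degrees: H^0(Y_et, Z/p) has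
exactly p elements and H^i(Y_et, Z/p) = 0 for i > 0. Moreover, for every nonempty open subscheme j :
U → Y, the unit morphism from the constant sheaf Z/p on Y_et to j_* of its restriction to U is an
isomorphism. -/
theorem result
    (p : ℕ) [Fact p.Prime] (Y : Scheme.{u}) [IsIntegral Y]
    (hnorm : ∀ y : Y, IsIntegrallyClosed (Y.presheaf.stalk y)) [IsAlgClosed Y.functionField] :
    Nat.card (EtCoh.H Y (EtCoh.const Y (ZMod p)) 0) = p ∧
      (∀ i : ℕ, 0 < i → Subsingleton (EtCoh.H Y (EtCoh.const Y (ZMod p)) i)) ∧
      ∀ U : Y.Opens, (U : Set Y).Nonempty →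
        IsIso ((EtCoh.pullPushAdj U.ι).unit.app (EtCoh.const Y (ZMod p))) := by
  refine ⟨?_, fun i hi => ?_, fun U hU => Groth.Agent.EtCore45.isIso_unit_open hnorm U hU _⟩
  · let M : AddCommGrpCat.{u + 1} := AddCommGrpCat.of (ULift.{u + 1} (ZMod p))
    have : IrreducibleSpace (EtCoh.top Y).left := inferInstanceAs (IrreducibleSpace Y)
    have : Nonempty (EtCoh.top Y).left := inferInstanceAs (Nonempty Y)
    have hb : Function.Bijective (Groth.Agent.LocConst45.constσ (X := Y) M (EtCoh.top Y)) :=
      ⟨Groth.Agent.EtCore45.constσ_injective M _, Groth.Agent.EtCore45.constσ_surjective_of_irreducible M _⟩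
    let hT : IsTerminal (EtCoh.top Y) := MorphismProperty.Over.mkIdTerminal EtCoh.etaleMP Y
    refine (Nat.card_congr (Sheaf.H.equiv₀ (EtCoh.const Y (ZMod p)) hT).toEquiv).trans ?_
    refine (Nat.card_congr (Equiv.ofBijective _ hb)).symm.trans ?_
    exact (Nat.card_congr Equiv.ulift).trans (Nat.card_zmod p)
  · have : IsSepClosed Y.functionField := inferInstance
    let W := EtCoh.top Y
    have h := Groth.Agent.EtCore45.isAcyclicEt_cst (Groth.Agent.EtCore45.strictHens_stalk_normal hnorm)
      (AddCommGrpCat.of (ULift.{u + 1} (ZMod p))) W i hi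
    let e : (EtCoh.pull W.hom).obj (EtCoh.const Y (ZMod p)) ≅ EtCoh.const Y (ZMod p) :=
      (EtCore.pullConstIso W.hom).app _
    let q := ((EtCoh.HF Y i).mapIso e).addCommGroupIsoToAddEquiv.toEquiv
    exact @Equiv.subsingleton _ _ q.symm h

end Groth.Agent.S19130
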