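import Groth.Statements.S19133
import Groth.Agent.LC17.HL.Descent
import Groth.Agent.LC17.HL.RegMain
import Groth.Agent.S2654

set_option autoImplicit false
set_option backward.isDefEq.respectTransparency.types false
universe u
open CategoryTheory
open LocCoh

namespace Groth.Agent.S19133

open LC17.HL LC15 in
theorem subsingleton_of_injective {B : Type u} [CommRing B] [IsNoetherianRing B] {L : Type u} [Field L]
    [Algebra B L] (I : Ideal B) (fs : List B) (hfs : Ideal.span {x | x ∈ fs} = I)
    (hu : ∀ f ∈ fs, algebraMap B L f ≠ 0) {M : Type u} [AddCommGroup M] [Module B M] (j : M →ₗ[B] L)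
    (hj : Function.Injective j) (T : Submodule B L) (hT : LinearMap.range j = T) (i : ℕ)
    (h : ∀ c, IsCoc fs T i c → IsBdy fs T i c) : Subsingleton (LocCoh.H I i M) := by
  subst hfs hT
  haveI : Subsingleton (LC16.CechFam.T fs i (ModuleCat.of B (LinearMap.range j)) : Type u) :=
    (subsingleton_iff fs hu _ i).2 h
  obtain ⟨e⟩ := LC16.CechFam.nonempty_equiv fs i (LinearMap.range j)
  haveI : Subsingleton (LocCoh.H (Ideal.span {x : B | x ∈ fs}) i (LinearMap.range j)) :=
    e.symm.injective.subsingleton
  let e' := LinearEquiv.ofInjective j hj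
  refine subsingleton_of_forall_eq 0 fun y => ?_
  have hy : y = Hmap (Ideal.span {x : B | x ∈ fs}) i e'.symm.toLinearMap
      (Hmap (Ideal.span {x : B | x ∈ fs}) i e'.toLinearMap y) := by
    rw [LC16.Colim.Hmap_Hmap _ _ _ _ LinearMap.id (by ext; simp [e']), Hmap_id, LinearMap.id_apply]
  rw [hy, Subsingleton.elim (Hmap (Ideal.span {x : B | x ∈ fs}) i e'.toLinearMap y) 0, map_zero]

/-- Let p be a prime and R a Noetherian local normal domain of characteristic p which is excellent and
F-finite (R is a finitely generated module over itself through the Frobenius), and let R⁺ be the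
absolute integral closure of R, i.e. the integral closure of R in an algebraic closure of its
fraction field. Then R⁺ is Cohen–Macaulay over R in the sense of local cohomology: for every prime
ideal q of R and every i < height q, the i-th local cohomology module of the localization (R⁺)_q
with support in the maximal ideal of R_q vanishes. -/
theorem result
    (p : ℕ) [Fact p.Prime] (R : Type u) [CommRing R] [IsDomain R] [IsNoetherianRing R] [IsLocalRing R]
    [CharP R p] (hexc : EGA4.IsExcellent R) (hnorm : IsIntegrallyClosed R)
    [Module.Finite R (FrobAlg.Twist p R)]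
    (q : Ideal R) [q.IsPrime] (i : ℕ) (hi : (i : ℕ∞) < q.height) :
    Subsingleton (LocCoh.H (IsLocalRing.maximalIdeal (Localization.AtPrime q)) i
      (LocalizedModule q.primeCompl ↥(integralClosure R (AlgebraicClosure (FractionRing R))))) := by
  obtain ⟨hN, -, hG, hJ2⟩ := hexc
  set B := Localization.AtPrime q
  haveI : IsDomain B := IsLocalization.isDomain_localization q.primeCompl_le_nonZeroDivisors
  haveI : IsNoetherianRing B := IsLocalization.isNoetherianRing q.primeCompl B inferInstance
  haveI : IsIntegrallyClosed B :=
    isIntegrallyClosed_of_isLocalization B q.primeCompl q.primeCompl_le_nonZeroDivisors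
  have hinjRB : Function.Injective (algebraMap R B) :=
    IsLocalization.injective B q.primeCompl_le_nonZeroDivisors
  haveI : CharP B p := charP_of_injective_ringHom hinjRB p
  have hBG : CAlg.IsGRing B := EGA4H10.isGRing_localization hG q.primeCompl
  have hBN : CAlg.IsN2 B := CAlg1.Nag.isN2_of_isNagata
    (CAlg1.Nag.isNagata_localization (S2654.result R ⟨hN, hG, hJ2⟩) q.primeCompl B)
  set L := AlgebraicClosure (FractionRing R)
  have hRL : Function.Injective (algebraMap R L) := by
    rw [IsScalarTower.algebraMap_eq R (FractionRing R) L]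
    exact (algebraMap (FractionRing R) L).injective.comp (IsFractionRing.injective R (FractionRing R))
  have hunit : ∀ s : q.primeCompl, IsUnit (algebraMap R L s) := fun s => IsUnit.mk0 _ fun h0 =>
    s.2 ((hRL (h0.trans (map_zero _).symm) : (s : R) = 0) ▸ q.zero_mem)
  haveI : IsScalarTower R B L := inferInstance
  have hBL : Function.Injective (algebraMap B L) := by
    have heq : algebraMap B L = IsLocalization.lift hunit := by
      refine IsLocalization.ringHom_ext q.primeCompl (RingHom.ext fun a => ?_)
      rw [RingHom.comp_apply, RingHom.comp_apply, IsLocalization.lift_eq, ← IsScalarTower.algebraMap_apply]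
    rw [heq]
    refine (IsLocalization.lift_injective_iff _).2 fun x y => ?_
    rw [hinjRB.eq_iff, hRL.eq_iff]
  have hS : ∀ s ∈ q.primeCompl, algebraMap R L s ≠ 0 := fun s hs => (hunit ⟨s, hs⟩).ne_zero
  obtain ⟨fs, hspan, hfs0⟩ := LC17.HL.exists_gens (IsLocalRing.maximalIdeal B) (IsNoetherian.noetherian _)
  have hu : ∀ f ∈ fs, algebraMap B L f ≠ 0 := fun f hf h0 => hfs0 f hf (hBL (h0.trans (map_zero _).symm))
  have hdim : (i : WithBot ℕ∞) < ringKrullDim B := by
    rw [IsLocalization.AtPrime.ringKrullDim_eq_height q B]
    exact WithBot.coe_lt_coe.2 hi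
  refine subsingleton_of_injective (IsLocalRing.maximalIdeal B) fs hspan hu
    (LC17.HL.θ q.primeCompl hS (Subalgebra.toSubmodule (integralClosure R L)))
    (LC17.HL.θ_injective q.primeCompl hS _) (Subalgebra.toSubmodule (integralClosure B L)) ?_ i
    (fun c hc => LC17.HL.coch_bounds p B hBG hBN L hBL fs hfs0 hspan i hdim c hc)
  ext x
  constructor
  · rintro ⟨z, rfl⟩
    induction z using LocalizedModule.induction_on with | h m s => ?_
    have h1 := LC17.HL.smul_θ_mk q.primeCompl hS (Subalgebra.toSubmodule (integralClosure R L)) m s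
    have h2 : IsUnit (algebraMap R B (s : R)) := IsLocalization.map_units B s
    obtain ⟨w, hw⟩ := h2.exists_left_inv
    have h3 : LC17.HL.θ q.primeCompl hS (Subalgebra.toSubmodule (integralClosure R L)) (LocalizedModule.mk m s)
        = algebraMap B L w * (m : L) := by
      rw [← h1, IsScalarTower.algebraMap_apply R B L, ← mul_assoc, ← map_mul, hw, map_one, one_mul]
    rw [h3]
    show _ ∈ integralClosure B L
    exact mul_mem (Subalgebra.algebraMap_mem _ w) (IsIntegral.tower_top (m.2 : IsIntegral R (m : L)))
  · intro hx
    obtain ⟨s, hs⟩ := IsIntegral.exists_multiple_integral_of_isLocalization q.primeCompl x hx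
    refine ⟨LocalizedModule.mk ⟨_, hs⟩ s, mul_left_cancel₀ (hS s s.2) ?_⟩
    rw [LC17.HL.smul_θ_mk]
    show (s : R) • x = _
    exact Algebra.smul_def _ _

end Groth.Agent.S19133
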