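import Groth.Statements.S19135
import Groth.Agent.DR39.RGamma
import Groth.Agent.S11681

set_option autoImplicit false
universe u
open CategoryTheory
attribute [local instance] HasDerivedCategory.standard
open Dual

namespace Groth.Agent.S19135

/-- In the case of the spectrum of the base local ring and its closed point, let A be a Noetherian local
ring with maximal ideal m and ω a normalized dualizing complex over A (Hom(k, ω[i]) = 0 in D(A) for
i ≠ 0), assume the total right derived functor RΓ_m of the m-power-torsion functor exists on D(A),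
and let M be an object of D(A) which is bounded with finitely generated cohomology modules. Then
RHom(M, ω) is concentrated in degrees ≥ 0 (Hom(M, ω[i]) = 0 for all i < 0) if and only if RΓ_m M is
concentrated in degrees ≤ 0 (H^i(RΓ_m M) = 0 for all i > 0); and RHom(M, ω) is concentrated in
degrees ≤ 0 if and only if RΓ_m M is concentrated in degrees ≥ 0. In particular M is perverse
coherent (RHom(M, ω) concentrated in degree 0) exactly when its local cohomology at m is
concentrated in degree 0. (The published statement of the two halves, read in cohomological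
indexing, has the inequalities on the local cohomology side exchanged: over a field k with ω = k,
the complex k[1] has RHom(k[1], ω) = k[−1] concentrated in degrees ≥ 0 while its local cohomology
k[1] is concentrated in degree −1, not in degrees ≥ 0. This statement gives the form that local
duality yields, which is the one compatible with the description of the perverse t-structure by
support conditions.) -/
theorem result
    (A : Type u) [CommRing A] [IsLocalRing A] [IsNoetherianRing A]
    (ω : Dual.D A) (hω : Dual.IsDualizing A ω) (hn : Dual.IsNormalized A ω)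
    [DRing.HasRgammaI (IsLocalRing.maximalIdeal A)] (M : Dual.D A)
    (hfin : ∀ i : ℤ, Module.Finite A (Dual.HD A M i))
    (hbd : ∃ a b : ℤ, ∀ i : ℤ, (i < a ∨ b < i) → Subsingleton (Dual.HD A M i)) :
    ((∀ i : ℤ, i < 0 → Subsingleton (M ⟶ ω⟦i⟧)) ↔
      (∀ i : ℤ, 0 < i → Subsingleton (Dual.HD A ((DRing.RgammaI (IsLocalRing.maximalIdeal A)).obj M) i))) ∧
    ((∀ i : ℤ, 0 < i → Subsingleton (M ⟶ ω⟦i⟧)) ↔
      (∀ i : ℤ, i < 0 → Subsingleton (Dual.HD A ((DRing.RgammaI (IsLocalRing.maximalIdeal A)).obj M) i))) := by
  obtain ⟨E, _, _, f, hf⟩ := InjHull18.exists_hull A (IsLocalRing.ResidueField A)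
  obtain ⟨a, b, hb⟩ := hbd
  obtain ⟨K, hKb, ⟨eK⟩⟩ := DR39.exists_bounded_rep M a b fun i hi =>
    @ModuleCat.isZero_of_subsingleton _ _ _ (hb i hi)
  have hK : ∀ j : ℤ, Module.Finite A (Dual.HD A ((DR39.QA A).obj K) j) := fun j => by
    haveI := hfin j
    exact Module.Finite.equiv ((DR39.HF A j).mapIso eK).toLinearEquiv.symm
  obtain ⟨J, hJ, ⟨eJ⟩, h⟩ := DR39.localDuality_core hω hn E f hf K hKb hK
  obtain ⟨eR⟩ := DR39.nonempty_RgammaI_iso (IsLocalRing.maximalIdeal A) J hJ
  obtain ⟨D, ⟨eD⟩⟩ := DR39.exists_dualModel hω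
  haveI := D.isKInjective
  have key : ∀ i : ℤ, Subsingleton (Dual.HD A ((DRing.RgammaI (IsLocalRing.maximalIdeal A)).obj M) i) ↔
      Subsingleton (M ⟶ ω⟦-i⟧) := fun i => by
    obtain ⟨g⟩ := h i
    let e1 := (((DR39.HQIso _ i).symm ≪≫ (DR39.HF A i).mapIso (eR ≪≫
      (DRing.RgammaI (IsLocalRing.maximalIdeal A)).mapIso (eJ ≪≫ eK))).toLinearEquiv.symm).trans g
    let e2 : (DRing.homCx K D.I).homology (-i) ≃ₗ[A] ((DR39.QA A).obj K ⟶ ω⟦-i⟧) :=
      (DR39.homologyHomCxEquiv K D.I (-i)).trans (CategoryTheory.Linear.homCongr A (Iso.refl _)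
        (((DR39.QA A).commShiftIso (-i)).app D.I ≪≫ (CategoryTheory.shiftFunctor (Dual.D A) (-i)).mapIso eD))
    let e3 := CategoryTheory.Linear.homCongr A eK.symm (Iso.refl (ω⟦-i⟧))
    constructor
    · intro hs
      haveI : Subsingleton (Dual.HD A ((DRing.RgammaI (IsLocalRing.maximalIdeal A)).obj M) i) := hs
      haveI : Subsingleton ((DRing.homCx K D.I).homology (-i) →ₗ[A] E) :=
        ((e1.trans (LinearEquiv.congrLeft E A e2.symm)).symm).toEquiv.subsingleton
      haveI : Subsingleton ((DRing.homCx K D.I).homology (-i)) := ⟨fun x y =>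
        ((S11681.result A E f hf).1 ((DRing.homCx K D.I).homology (-i))).1 (Subsingleton.elim _ _)⟩
      exact (e3.trans e2.symm).toEquiv.subsingleton
    · intro hs
      haveI : Subsingleton ((DR39.QA A).obj K ⟶ ω⟦-i⟧) := e3.symm.toEquiv.subsingleton
      exact e1.toEquiv.subsingleton
  constructor
  · refine ⟨fun H i hi => (key i).2 (H _ (by omega)), fun H i hi => ?_⟩
    have h2 := (key (-i)).1 (H _ (by omega))
    rwa [neg_neg] at h2
  · refine ⟨fun H i hi => (key i).2 (H _ (by omega)), fun H i hi => ?_⟩
    have h2 := (key (-i)).1 (H _ (by omega))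
    rwa [neg_neg] at h2

end Groth.Agent.S19135
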