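import Groth.Statements.S19141
import Groth.Agent.RedPts82.ImageLoc

set_option autoImplicit false
open CategoryTheory MonoidalCategory CartesianMonoidalCategory MonObj GrpObj AlgebraicGeometry
universe u
open SGA3x

namespace Groth.Agent.S19141

/-- Let f : H ⟶ G be a homomorphism of S-group schemes, with H of multiplicative type (of arbitrary
type) and G separated and of finite presentation over S. Then there is a closed subgroup scheme Q of
G, of multiplicative type, such that f factors through a faithfully flat (flat and surjective)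
homomorphism f' : H ⟶ Q; and the pair (Q, f') is unique: for any other such factorization f = f'' ≫
j'' through a closed subgroup Q'' of multiplicative type there is an isomorphism Q ≅ Q'' over S
carrying j to j'' and f' to f''. (Q is called the image of f.) -/
theorem result {S : Scheme.{u}} (H G : Over S) [GrpObj H] [GrpObj G]
    (hH : TwC.Locally S TwC.Topology.fpqc (fun S' g => ∃ (M : Type) (_ : AddCommGroup M), Nonempty (Grp.mk (Red.bc g H) ≅ Grp.mk (Red.DS S' M))))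
    [IsSeparated G.hom] [QuasiCompact G.hom] [LocallyOfFinitePresentation G.hom] (f : H ⟶ G) [IsMonHom f] :
    (∃ (Q : Over S) (_ : GrpObj Q) (j : Q ⟶ G) (_ : IsMonHom j) (f' : H ⟶ Q) (_ : IsMonHom f'),
      IsClosedImmersion j.left ∧ TwC.Locally S TwC.Topology.fpqc (fun S' g => ∃ (M : Type) (_ : AddCommGroup M), Nonempty (Grp.mk (Red.bc g Q) ≅ Grp.mk (Red.DS S' M))) ∧
      Flat f'.left ∧ Surjective f'.left ∧ f' ≫ j = f) ∧
    (∀ (Q₁ Q₂ : Over S) [GrpObj Q₁] [GrpObj Q₂] (j₁ : Q₁ ⟶ G) (j₂ : Q₂ ⟶ G) [IsMonHom j₁] [IsMonHom j₂]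
      (f₁ : H ⟶ Q₁) (f₂ : H ⟶ Q₂) [IsMonHom f₁] [IsMonHom f₂],
      IsClosedImmersion j₁.left → IsClosedImmersion j₂.left →
      TwC.Locally S TwC.Topology.fpqc (fun S' g => ∃ (M : Type) (_ : AddCommGroup M), Nonempty (Grp.mk (Red.bc g Q₁) ≅ Grp.mk (Red.DS S' M))) →
      TwC.Locally S TwC.Topology.fpqc (fun S' g => ∃ (M : Type) (_ : AddCommGroup M), Nonempty (Grp.mk (Red.bc g Q₂) ≅ Grp.mk (Red.DS S' M))) →
      Flat f₁.left → Surjective f₁.left → f₁ ≫ j₁ = f →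
      Flat f₂.left → Surjective f₂.left → f₂ ≫ j₂ = f →
      ∃ e : Q₁ ≅ Q₂, e.hom ≫ j₂ = j₁ ∧ f₁ ≫ e.hom = f₂) := by
  haveI := RedPts82.quasiCompact_of_mult hH f
  refine ⟨?_, fun Q₁ Q₂ _ _ j₁ j₂ _ _ f₁ f₂ _ _ hc₁ hc₂ _ _ hf₁ hs₁ h₁ hf₂ hs₂ h₂ =>
    RedPts82.factor_unique f j₁ j₂ f₁ f₂ h₁ h₂⟩
  obtain ⟨S', π, hπf, hπs, hqc, hloc⟩ := hH
  haveI := hπf
  choose U hU M hM he using hloc
  have hfac := fun s' => RedPts82.exists_mult_factor f π (he s').some (hU s')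
  choose V hV Q₀ hQ₀ Λ hΛ hf₀ hDS using hfac
  obtain ⟨Q, hQ, j, hj, f', hf', h₁, h₂, h₃, h₄, h₅⟩ :=
    RedPts82.exists_image f π hqc fun s' => ⟨V s', hV s', Q₀ s', hQ₀ s', hf₀ s'⟩
  refine ⟨Q, hQ, j, hj, f', hf', h₁, ⟨S', π, hπf, hπs, hqc, fun s' => ⟨V s', hV s', Λ s', hΛ s', ?_⟩⟩,
    h₂, h₃, h₄⟩
  obtain ⟨e⟩ := h₅ _ _ (Q₀ s') inferInstance (hf₀ s')
  exact ⟨e ≪≫ (hDS s').some⟩

end Groth.Agent.S19141
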