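import Groth.Statements.S19146
import Groth.Agent.Const38.HenselComponents
import Groth.Agent.Henz21.EtaleSection

set_option autoImplicit false
open CategoryTheory MonoidalCategory CartesianMonoidalCategory MonObj GrpObj AlgebraicGeometry
universe u
open TwC

namespace Groth.Agent.S19146

/-- Let R be a henselian local ring, s the closed point of S = Spec R, and X a quasi-isotrivial twisted
constant S-scheme (etale-locally on S isomorphic to a constant scheme). Then X is the disjoint
union, over the points x of the closed fibre X_s, of the local schemes X(x) = Spec O_{X,x}: for each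
such x the canonical morphism Spec O_{X,x} ⟶ X is an open and closed immersion and X(x) is a finite
etale cover of S (finite, etale, surjective), every point of X lies in X(x) for exactly one x ∈ X_s,
and restricting a section of X ⟶ S to the closed point is a bijection from the sections of X over S
onto the sections of X_s over s. -/
theorem result (R : Type u) [CommRing R] [HenselianLocalRing R]
    (X : Over (Spec (CommRingCat.of R))) (hX : TwC.IsTwConst TwC.Topology.etale X) :
    (∀ x : X.left, X.hom.base x = IsLocalRing.closedPoint R →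
      IsOpenImmersion (X.left.fromSpecStalk x) ∧ IsClosedImmersion (X.left.fromSpecStalk x) ∧
        IsFinite (X.left.fromSpecStalk x ≫ X.hom) ∧ Etale (X.left.fromSpecStalk x ≫ X.hom) ∧
        Surjective (X.left.fromSpecStalk x ≫ X.hom)) ∧
    (∀ y : X.left, ∃! x : X.left, X.hom.base x = IsLocalRing.closedPoint R ∧
      y ∈ Set.range (X.left.fromSpecStalk x).base) ∧
    (∀ σ₁ σ₂ : Spec (CommRingCat.of R) ⟶ X.left, σ₁ ≫ X.hom = 𝟙 _ → σ₂ ≫ X.hom = 𝟙 _ →
      Spec.map (CommRingCat.ofHom (IsLocalRing.residue R)) ≫ σ₁ = Spec.map (CommRingCat.ofHom (IsLocalRing.residue R)) ≫ σ₂ → σ₁ = σ₂) ∧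
    (∀ τ : Spec (CommRingCat.of (IsLocalRing.ResidueField R)) ⟶ X.left,
      τ ≫ X.hom = Spec.map (CommRingCat.ofHom (IsLocalRing.residue R)) →
      ∃ σ : Spec (CommRingCat.of R) ⟶ X.left, σ ≫ X.hom = 𝟙 _ ∧ Spec.map (CommRingCat.ofHom (IsLocalRing.residue R)) ≫ σ = τ) := by
  obtain ⟨hsep, het⟩ := Const38.isSeparated_and_etale_of_twConst hX
  have : LocallyQuasiFinite X.hom := Unr55.locallyQuasiFinite_of_formallyUnramified X.hom
  have hloc : ∀ x : X.left, X.hom.base x = IsLocalRing.closedPoint R →
      IsOpenImmersion (X.left.fromSpecStalk x) ∧ IsClosedImmersion (X.left.fromSpecStalk x) ∧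
        IsFinite (X.left.fromSpecStalk x ≫ X.hom) ∧ Etale (X.left.fromSpecStalk x ≫ X.hom) ∧
        Surjective (X.left.fromSpecStalk x ≫ X.hom) := fun x hx => by
    obtain ⟨ho, hc, hf⟩ := Const38.local_component X.hom x hx
    refine ⟨ho, hc, hf, inferInstance, Const38.surjective_of_mem_closedPoint _ (IsLocalRing.closedPoint _) ?_⟩
    rw [Scheme.Hom.comp_apply, Scheme.fromSpecStalk_closedPoint]
    exact hx
  refine ⟨hloc, fun y => ?_, ?_, ?_⟩
  · obtain ⟨x, hx, hyx⟩ := Const38.exists_specializes_closedPoint_of_twConst hX y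
    refine ⟨x, ⟨hx, by rw [Scheme.range_fromSpecStalk]; exact hyx⟩, fun x' ⟨hx', hy'⟩ => ?_⟩
    obtain ⟨-, hc, -⟩ := hloc x' hx'
    have h1 : x ∈ Set.range (X.left.fromSpecStalk x') :=
      hyx.mem_closed (X.left.fromSpecStalk x').isClosedEmbedding.isClosed_range hy'
    rw [Scheme.range_fromSpecStalk] at h1
    have : DiscreteTopology ↥(X.hom ⁻¹' {IsLocalRing.closedPoint R}) :=
      isDiscrete_iff_discreteTopology.1 (X.hom.isDiscrete_preimage_singleton _)
    have h2 : (⟨x, hx⟩ : ↥(X.hom ⁻¹' {IsLocalRing.closedPoint R})) ⤳ ⟨x', hx'⟩ :=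
      (subtype_specializes_iff _ _).2 h1
    exact (congrArg Subtype.val h2.eq).symm
  · intro σ₁ σ₂ h₁ h₂ h
    obtain ⟨s, -, hs⟩ := Henz21.existsUnique_section X.hom
      (Spec.map (CommRingCat.ofHom (IsLocalRing.residue R)) ≫ σ₁) (by rw [Category.assoc, h₁, Category.comp_id])
    exact (hs σ₁ ⟨h₁, rfl⟩).trans (hs σ₂ ⟨h₂, h.symm⟩).symm
  · intro τ hτ
    exact (Henz21.existsUnique_section X.hom τ hτ).exists

end Groth.Agent.S19146
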