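import Groth.Statements.S19154
import Groth.Agent.Filt52.Fibre
import Mathlib.Tactic

set_option autoImplicit false
open scoped TensorProduct
universe u v w
open FiltMod

namespace Groth.Agent.S19154

/-- (1) ⇔ (4): in affine form, let Γ be a non-trivial totally ordered commutative group, R a commutative
ring, M a finitely generated projective R-module (a finite locally free sheaf on X = Spec R) and F a
non-increasing Γ-indexed family of submodules of M; write F^γ_+ for the sum of the F^η with η > γ
and Gr^γ = F^γ/F^γ_+. Then the following are equivalent: (1) there is a Γ-grading M = ⊕_γ G_γ by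
submodules (internal direct sum) with F^γ = Σ_{η ≥ γ} G_η for every γ; (4) every Gr^γ is finitely
generated projective over R and, for every prime p of R, dim_{κ(p)} (κ(p) ⊗ M) = Σ_γ dim_{κ(p)} Gr^γ
of the image filtration on κ(p) ⊗ M (whose γ-th term F_x^γ is the image of κ(p) ⊗ F^γ; dim Gr^γ is
written as dim F_x^γ − dim F_x^γ_+, and the sum has finitely many non-zero terms). (The source's
conditions (2), (3) are the Zariski- and fpqc-local forms of (1) on a general scheme; its further
assertions on F^γ ⊗ κ(x) are not stated.) -/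
theorem result
    {Γ : Type w} [AddCommGroup Γ] [LinearOrder Γ] [IsOrderedAddMonoid Γ] [Nontrivial Γ]
    {R : Type u} [CommRing R] {M : Type v} [AddCommGroup M] [Module R M] [Module.Finite R M] [Module.Projective R M]
    (F : Γ → Submodule R M) (hF : Antitone F)
    (Fp : Γ → Submodule R M) (hFp : ∀ γ, Fp γ = ⨆ η ∈ Set.Ioi γ, F η) :
    (∃ G : Γ → Submodule R M, DirectSum.IsInternal G ∧ ∀ γ, F γ = ⨆ η ∈ Set.Ici γ, G η) ↔
    ((∀ γ, Module.Finite R (↥(F γ) ⧸ Submodule.comap (F γ).subtype (Fp γ)) ∧
        Module.Projective R (↥(F γ) ⧸ Submodule.comap (F γ).subtype (Fp γ))) ∧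
      ∀ (p : PrimeSpectrum R) (Fx : Γ → Submodule p.asIdeal.ResidueField (p.asIdeal.ResidueField ⊗[R] M)),
        (∀ γ, Fx γ = LinearMap.range ((F γ).subtype.baseChange p.asIdeal.ResidueField)) →
        Module.finrank p.asIdeal.ResidueField (p.asIdeal.ResidueField ⊗[R] M) =
          ∑ᶠ γ, (Module.finrank p.asIdeal.ResidueField ↥(Fx γ) -
            Module.finrank p.asIdeal.ResidueField ↥(⨆ η ∈ Set.Ioi γ, Fx η))) := by
  classical
  have hFp' : Fp = fun γ => ⨆ η ∈ Set.Ioi γ, F η := funext hFp
  subst hFp'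
  constructor
  · rintro ⟨G, hG, hFG⟩
    refine ⟨fun γ => ?_, fun p Fx hFx => ?_⟩
    · have hle : G γ ≤ F γ := Groth.Agent.Filt52.le_of_split hFG γ
      let q : G γ →ₗ[R] (↥(F γ) ⧸ Submodule.comap (F γ).subtype (⨆ η ∈ Set.Ioi γ, F η)) :=
        (Submodule.mkQ _).comp (Submodule.inclusion hle)
      have hinj : Function.Injective q := by
        rw [injective_iff_map_eq_zero]
        intro x hx
        have h0' : Submodule.inclusion hle x ∈ Submodule.comap (F γ).subtype (⨆ η ∈ Set.Ioi γ, F η) :=
          (Submodule.Quotient.mk_eq_zero _).1 hx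
        have h0 : (x : M) ∈ ⨆ η ∈ Set.Ioi γ, F η := h0'
        have : (x : M) ∈ G γ ⊓ ⨆ η ∈ Set.Ioi γ, F η := ⟨x.2, h0⟩
        rw [Groth.Agent.Filt52.inf_next hG hFG, Submodule.mem_bot] at this
        exact Subtype.ext this
      have hsurj : Function.Surjective q := by
        intro z
        obtain ⟨y, rfl⟩ := Submodule.mkQ_surjective _ z
        refine ⟨⟨_, Groth.Agent.Filt52.proj_mem G hG γ y⟩, (Submodule.Quotient.eq _).2 ?_⟩
        have := neg_mem (Groth.Agent.Filt52.sub_proj_mem_next hG hFG y.2)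
        simpa using this
      let e := LinearEquiv.ofBijective q ⟨hinj, hsurj⟩
      let pr : M →ₗ[R] G γ := (Groth.Agent.Filt52.proj G hG γ).codRestrict (G γ) (Groth.Agent.Filt52.proj_mem G hG γ)
      have hpr : pr ∘ₗ (G γ).subtype = LinearMap.id := by
        ext x
        exact Groth.Agent.Filt52.proj_of_mem_eq G hG x.2
      haveI : Module.Projective R (G γ) := Module.Projective.of_split _ pr hpr
      haveI : Module.Finite R (G γ) :=
        Module.Finite.of_surjective pr fun x => ⟨x, LinearMap.congr_fun hpr x⟩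
      exact ⟨Module.Finite.equiv e, Module.Projective.of_equiv e⟩
    · obtain rfl : Fx = fun γ => (F γ).baseChange p.asIdeal.ResidueField := funext hFx
      exact Groth.Agent.Filt52.finsum_jump_of_split p.asIdeal.ResidueField hG hFG
  · rintro ⟨hgr, hfib⟩
    have hex : ∀ γ, ∃ G : Submodule R M, G ⊔ (⨆ η ∈ Set.Ioi γ, F η) = F γ ∧
        G ⊓ (⨆ η ∈ Set.Ioi γ, F η) = ⊥ := by
      intro γ
      haveI := (hgr γ).2
      obtain ⟨s, hs⟩ := Module.projective_lifting_property
        (Submodule.comap (F γ).subtype (⨆ η ∈ Set.Ioi γ, F η)).mkQ LinearMap.id (Submodule.mkQ_surjective _)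
      refine ⟨(LinearMap.range s).map (F γ).subtype, ?_, ?_⟩
      · refine le_antisymm (sup_le (Submodule.map_subtype_le _ _)
          (iSup₂_le fun η hη => hF (le_of_lt hη))) fun x hx => ?_
        let qx := (Submodule.comap (F γ).subtype (⨆ η ∈ Set.Ioi γ, F η)).mkQ ⟨x, hx⟩
        refine Submodule.mem_sup.2 ⟨(s qx : M), ⟨s qx, ⟨qx, rfl⟩, rfl⟩, x - (s qx : M), ?_, by abel⟩
        have h0 := (Submodule.Quotient.eq _).1 (LinearMap.congr_fun hs qx)
        have h1 : ((s qx : M) - x) ∈ ⨆ η ∈ Set.Ioi γ, F η := h0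
        simpa using neg_mem h1
      · refine (Submodule.eq_bot_iff _).2 ?_
        rintro _ ⟨⟨y, ⟨z, rfl⟩, rfl⟩, hy⟩
        have h0 : (Submodule.comap (F γ).subtype (⨆ η ∈ Set.Ioi γ, F η)).mkQ (s z) = 0 :=
          (Submodule.Quotient.mk_eq_zero _).2 hy
        have h1 := LinearMap.congr_fun hs z
        simp only [LinearMap.comp_apply, LinearMap.id_apply] at h1
        rw [h1] at h0
        rw [h0, map_zero, map_zero]
    choose G hsum hdis using hex
    have hGF : ∀ γ, G γ ≤ F γ := fun γ => le_sup_left.trans_eq (hsum γ)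
    let W : Finset Γ → Γ → Submodule R M := fun S γ => ⨆ η ∈ S, ⨆ (_ : γ ≤ η), F η
    let J : Ideal R :=
      { carrier := {r | ∃ S : Finset Γ, (∀ γ, ∀ x ∈ F γ, r • x ∈ W S γ) ∧
          ∀ x : M, r • x ∈ ⨆ η ∈ S, F η}
        zero_mem' := ⟨∅, fun γ x _ => by rw [zero_smul]; exact zero_mem _,
          fun x => by rw [zero_smul]; exact zero_mem _⟩
        add_mem' := by
          rintro a b ⟨S, hS, hS'⟩ ⟨T, hT, hT'⟩
          refine ⟨S ∪ T, fun γ x hx => ?_, fun x => ?_⟩
          · rw [add_smul]
            exact add_mem (SetLike.le_def.1 (biSup_mono (fun η (h : η ∈ S) => Finset.mem_union_left T h)) (hS γ x hx))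
              (SetLike.le_def.1 (biSup_mono (fun η (h : η ∈ T) => Finset.mem_union_right S h)) (hT γ x hx))
          · rw [add_smul]
            exact add_mem (SetLike.le_def.1 (biSup_mono (fun η (h : η ∈ S) => Finset.mem_union_left T h)) (hS' x))
              (SetLike.le_def.1 (biSup_mono (fun η (h : η ∈ T) => Finset.mem_union_right S h)) (hT' x))
        smul_mem' := by
          rintro c a ⟨S, hS, hS'⟩
          exact ⟨S, fun γ x hx => by rw [smul_assoc]; exact Submodule.smul_mem _ c (hS γ x hx),
            fun x => by rw [smul_assoc]; exact Submodule.smul_mem _ c (hS' x)⟩ }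
    have hJ : J = ⊤ := by
      by_contra hne
      obtain ⟨m, hm, hle⟩ := Ideal.exists_le_maximal J hne
      let p : PrimeSpectrum R := ⟨m, hm.isPrime⟩
      obtain ⟨S, hS⟩ := Groth.Agent.Filt52.exists_finset_span p.asIdeal.ResidueField hGF hsum hF
        (hfib p (fun γ => (F γ).baseChange p.asIdeal.ResidueField) (fun γ => rfl))
      obtain ⟨r, hr, hr'⟩ := Groth.Agent.Filt52.exists_notMem_smul_mem p _ hS
      refine hr (hle ⟨S, fun γ x hx => ?_, fun x => iSup₂_mono (fun η _ => hGF η) (hr' x)⟩)
      obtain ⟨μ, hμ⟩ := (Submodule.mem_iSup_finset_iff_exists_sum G (r • x)).1 (hr' x)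
      rw [← hμ]
      refine sum_mem fun η hη => ?_
      by_cases hlt : η < γ
      · have h0 : (μ η : M) = 0 := Groth.Agent.Filt52.forall_eq_zero hF hGF hdis S (fun i => (μ i : M))
          (fun i _ => (μ i).2) (F γ) (fun i => i < γ) (fun i j hji hi => hji.trans hi)
          (by rw [hμ]; exact Submodule.smul_mem _ r hx)
          (fun i _ hi => le_biSup F (show γ ∈ Set.Ioi i from hi)) η hη hlt
        rw [h0]
        exact zero_mem _
      · exact Submodule.mem_iSup_of_mem η (Submodule.mem_iSup_of_mem hη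
          (Submodule.mem_iSup_of_mem (not_lt.1 hlt) (hGF η (μ η).2)))
    obtain ⟨S, hS, hS'⟩ : (1 : R) ∈ J := hJ ▸ Submodule.mem_top
    refine ⟨G, Groth.Agent.Filt52.split_of_compl hF S hsum hdis
      (fun γ x hx => by simpa only [one_smul] using hS γ x hx)
      (fun x _ => iSup₂_le (fun η _ => le_iSup F η) (by simpa only [one_smul] using hS' x))⟩

end Groth.Agent.S19154
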