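import Groth.Statements.S19155
import Groth.Agent.Roots36.Dominant2

set_option autoImplicit false
open RootPairing
open RootD

namespace Groth.Agent.S19155

/-- Let P be a root datum (root pairing over ℤ with finitely many roots, roots in M), S a system of
positive roots, Γ a non-trivial totally ordered commutative group and f : M → Γ additive. Call f
dominant when f(α) ≥ 0 for every positive root α. Then the dominant maps form a fundamental domain
for the Weyl group W acting on Hom(M, Γ) through M: there is w ∈ W with f ∘ w dominant, and if f and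
f ∘ w are both dominant (w ∈ W) then f ∘ w = f. -/
theorem result {ι M N : Type*} [AddCommGroup M] [AddCommGroup N]
    (P : RootPairing ι ℤ M N) [Finite ι] (S : Set ι) (hS : RootD.IsPosSys P S)
    {Γ : Type*} [AddCommGroup Γ] [LinearOrder Γ] [IsOrderedAddMonoid Γ] [Nontrivial Γ] (f : M →+ Γ) :
    (∃ g : P.Aut, g ∈ P.weylGroup ∧ ∀ i ∈ S, 0 ≤ f (RootPairing.Equiv.weightHom P g (P.root i))) ∧
    (∀ g : P.Aut, g ∈ P.weylGroup → (∀ i ∈ S, 0 ≤ f (P.root i)) →
      (∀ i ∈ S, 0 ≤ f (RootPairing.Equiv.weightHom P g (P.root i))) →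
      ∀ m : M, f (RootPairing.Equiv.weightHom P g m) = f m) := by
  have := Fintype.ofFinite ι
  classical
  obtain ⟨Δ, hΔ, hpos⟩ := Roots36.exists_simple_of_closed P (Roots36.IsPosSys.isClosedSub hS)
    hS.cover fun i hi => hS.disjoint hi
  subst hpos
  refine ⟨?_, fun g hg h1 h2 m => ?_⟩
  · obtain ⟨g, hg, h⟩ := Roots36.exists_smul_nonneg hΔ f
    exact ⟨g, hg, fun i hi => h i hi⟩
  · exact Roots36.eq_of_dominant_smul hΔ (fun k hk => h1 k hk) hg (fun k hk => h2 k hk)
      (fun r k hk => by rw [map_zsmul, hk, smul_zero]) m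

end Groth.Agent.S19155
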