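import Groth.Statements.S19158
import Groth.Agent.Filt52.Split
import Mathlib.Tactic

set_option autoImplicit false
universe u v w
open FiltMod

namespace Groth.Agent.S19158

/-- In affine form, let Γ be a non-trivial totally ordered commutative group, R a commutative ring and
(M_a) a finite family of finitely generated projective R-modules, each carrying a non-increasing
Γ-indexed family of submodules F_a; give M = Π_a M_a the family F^γ = Π_a F_a^γ. Then F is split by
a Γ-grading of M (an internal direct sum decomposition M = ⊕_γ G_γ with F^γ = Σ_{η ≥ γ} G_η for all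
γ) if and only if each F_a is split by a Γ-grading of M_a. (The published statement is for finite
locally free sheaves on a scheme, where a filtration counts as split when it is split by a grading
locally on the scheme; this row is the affine case, in which that is the same as being split by one
global grading.) -/
theorem result
    {Γ : Type w} [AddCommGroup Γ] [LinearOrder Γ] [IsOrderedAddMonoid Γ] [Nontrivial Γ]
    {R : Type u} [CommRing R] {A : Type v} [Fintype A] (M : A → Type v) [∀ a, AddCommGroup (M a)] [∀ a, Module R (M a)]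
    [∀ a, Module.Finite R (M a)] [∀ a, Module.Projective R (M a)]
    (F : ∀ a, Γ → Submodule R (M a)) (hF : ∀ a, Antitone (F a)) :
    (∃ G : Γ → Submodule R (∀ a, M a), DirectSum.IsInternal G ∧
        ∀ γ, Submodule.pi Set.univ (fun a => F a γ) = ⨆ η ∈ Set.Ici γ, G η) ↔
    ∀ a, ∃ G : Γ → Submodule R (M a), DirectSum.IsInternal G ∧ ∀ γ, F a γ = ⨆ η ∈ Set.Ici γ, G η := by
  classical
  have hsup : ∀ (ι : Type w) (N : ι → ∀ a, Submodule R (M a)),
      Submodule.pi Set.univ (fun a => ⨆ j, N j a) = ⨆ j, Submodule.pi Set.univ (fun a => N j a) := by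
    intro ι N
    simp only [← Submodule.iSup_map_single, Submodule.map_iSup]
    exact iSup_comm
  have hsup₂ : ∀ (T : Set Γ) (N : Γ → ∀ a, Submodule R (M a)),
      Submodule.pi Set.univ (fun a => ⨆ η ∈ T, N η a) = ⨆ η ∈ T, Submodule.pi Set.univ (fun a => N η a) := by
    intro T N
    simp only [← Submodule.iSup_map_single, Submodule.map_iSup]
    rw [iSup_comm]
    exact iSup_congr fun η => iSup_comm
  constructor
  · rintro ⟨G, hG, hFG⟩ a
    obtain ⟨S, hS⟩ := Groth.Agent.Filt52.exists_finset hG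
    let π : (∀ b, M b) →ₗ[R] M a := LinearMap.proj a
    let ι : M a →ₗ[R] ∀ b, M b := LinearMap.single R M a
    let σ : Γ → M a →ₗ[R] M a := fun γ => π ∘ₗ Groth.Agent.Filt52.proj G hG γ ∘ₗ ι
    let P : Γ → Submodule R (∀ b, M b) := fun γ => Submodule.pi Set.univ (fun b => F b γ)
    have hπ : ∀ γ, ∀ z ∈ P γ, π z ∈ F a γ := fun γ z hz => hz a (Set.mem_univ a)
    have hι : ∀ γ, ∀ x ∈ F a γ, ι x ∈ P γ := fun γ x hx b _ => by
      rcases eq_or_ne b a with rfl | hne
      · simpa [ι] using hx
      · simp [ι, Pi.single_eq_of_ne hne]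
    have hπnext : ∀ γ, ∀ z ∈ ⨆ η ∈ Set.Ioi γ, P η, π z ∈ ⨆ η ∈ Set.Ioi γ, F a η := by
      intro γ z hz
      have : (⨆ η ∈ Set.Ioi γ, P η) ≤ (⨆ η ∈ Set.Ioi γ, F a η).comap π :=
        iSup₂_le fun η hη z hz =>
          Submodule.mem_iSup_of_mem η (Submodule.mem_iSup_of_mem hη (hπ η z hz))
      exact this hz
    have hkill : ∀ γ, ∀ x ∈ ⨆ η ∈ Set.Ioi γ, F a η, σ γ x = 0 := by
      intro γ x hx
      have hle : (⨆ η ∈ Set.Ioi γ, F a η) ≤ (⨆ η ∈ Set.Ioi γ, P η).comap ι :=
        iSup₂_le fun η hη z hz =>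
          Submodule.mem_iSup_of_mem η (Submodule.mem_iSup_of_mem hη (hι η z hz))
      have h0 : Groth.Agent.Filt52.proj G hG γ (ι x) = 0 :=
        Groth.Agent.Filt52.proj_eq_zero_of_mem_next hG hFG (hle hx)
      simp [σ, h0]
    have hsub : ∀ γ, ∀ x ∈ F a γ, x - σ γ x ∈ ⨆ η ∈ Set.Ioi γ, F a η := by
      intro γ x hx
      have := hπnext γ _ (Groth.Agent.Filt52.sub_proj_mem_next hG hFG (hι γ x hx))
      simpa [σ, π, ι, map_sub] using this
    have hin : ∀ γ, ∀ x ∈ F a γ, σ γ x ∈ F a γ := fun γ x hx =>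
      hπ γ _ (Groth.Agent.Filt52.le_of_split hFG γ (Groth.Agent.Filt52.proj_mem G hG γ _))
    refine ⟨fun γ => (F a γ).map (σ γ), Groth.Agent.Filt52.split_of_compl (hF a) S ?_ ?_ ?_ ?_⟩
    · intro γ
      refine le_antisymm (sup_le (Submodule.map_le_iff_le_comap.2 (hin γ))
        (iSup₂_le fun η hη => hF a (le_of_lt hη))) fun x hx => ?_
      refine Submodule.mem_sup.2 ⟨σ γ x, Submodule.mem_map_of_mem hx, x - σ γ x, hsub γ x hx, ?_⟩
      abel
    · intro γ
      refine (Submodule.eq_bot_iff _).2 ?_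
      rintro y ⟨⟨x, hx, rfl⟩, hy⟩
      have h1 := hkill γ _ (hsub γ x hx)
      rw [map_sub, sub_eq_zero] at h1
      rw [h1]
      exact hkill γ _ hy
    · intro γ x hx
      have h1 := Groth.Agent.Filt52.le_biSup_finset hFG S hS γ (hι γ x hx)
      have h2 : (⨆ η ∈ S, ⨆ (_ : γ ≤ η), P η) ≤ (⨆ η ∈ S, ⨆ (_ : γ ≤ η), F a η).comap π :=
        iSup₂_le fun η hη => iSup_le fun hle z hz =>
          Submodule.mem_iSup_of_mem η (Submodule.mem_iSup_of_mem hη
            (Submodule.mem_iSup_of_mem hle (hπ η z hz)))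
      have := h2 h1
      simpa [π, ι] using this
    · intro x _
      have h2 : (⨆ γ, G γ) ≤ (⨆ γ, F a γ).comap π :=
        iSup_le fun γ z hz =>
          Submodule.mem_iSup_of_mem γ (hπ γ z (Groth.Agent.Filt52.le_of_split hFG γ hz))
      rw [hG.submodule_iSup_eq_top] at h2
      simpa [π, ι] using h2 (Submodule.mem_top (x := ι x))
  · intro h
    choose G hG hFG using h
    refine ⟨fun γ => Submodule.pi Set.univ (fun a => G a γ),
      DirectSum.isInternal_submodule_of_iSupIndep_of_iSup_eq_top ?_ ?_, fun γ => ?_⟩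
    · rw [iSupIndep_iff_finsetSum_eq_zero_imp_eq_zero]
      intro s v hv h0 i hi
      funext a
      have := (iSupIndep_iff_finsetSum_eq_zero_imp_eq_zero _).1 (hG a).submodule_iSupIndep s
        (fun j => v j a) (fun j hj => hv j hj a (Set.mem_univ a))
        (by simpa [Finset.sum_apply] using congrFun h0 a) i hi
      exact this
    · rw [← hsup Γ (fun η a => G a η), show (fun a => ⨆ η, G a η) = fun _ => ⊤ from
        funext fun a => (hG a).submodule_iSup_eq_top]
      exact Submodule.pi_top _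
    · rw [← hsup₂ (Set.Ici γ) (fun η a => G a η)]
      congr 1
      funext a
      exact hFG a γ

end Groth.Agent.S19158
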