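import Groth.Statements.S19159
import Groth.Agent.RedPts82.DSImage

set_option autoImplicit false
open CategoryTheory MonoidalCategory CartesianMonoidalCategory MonObj GrpObj AlgebraicGeometry
universe u
open SGA3x

namespace Groth.Agent.S19159

/-- Let Γ be a commutative group, G an S-group separated and of finite presentation over S, and f :
D_S(Γ) ⟶ G a homomorphism. Then S is covered by open and closed subsets U on each of which there is
a finitely generated subgroup Λ ⊆ Γ (Λ is then the group of those γ ∈ Γ which, as characters of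
D(Γ), are trivial on the kernel of the fibre homomorphism f_{s'}, one and the same group for every
point s' of U) such that f|_U factors as the canonical map D_U(Γ) ⟶ D_U(Λ) (restriction of
characters, faithfully flat with kernel D_U(Γ/Λ)) followed by a homomorphism D_U(Λ) ⟶ G_U which is a
closed immersion: over U, ker f = D(Γ/Λ) and im f ≅ D(Λ). -/
theorem result {S : Scheme.{u}} (Γ : Type) [AddCommGroup Γ]
    (G : Over S) [GrpObj G] [IsSeparated G.hom] [QuasiCompact G.hom] [LocallyOfFinitePresentation G.hom]
    (f : Red.DS S Γ ⟶ G) [IsMonHom f] (s : S) :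
    ∃ U : S.Opens, s ∈ U ∧ IsClosed (U : Set S) ∧ ∃ Λ : AddSubgroup Γ, Λ.FG ∧
      ∃ j : Red.bc U.ι (Red.DS S Λ) ⟶ Red.bc U.ι G, IsMonHom j ∧ IsClosedImmersion j.left ∧
        (Over.pullback U.ι).map f = (Over.pullback U.ι).map (Red.DSmap S Λ.subtype) ≫ j := by
  obtain ⟨U, hsU, hUc, Λ, hΛ, hk, hann⟩ := RedPts82.exists_ann_locus f s
  obtain ⟨j, h₁, h₂, h₃⟩ := RedPts82.exists_factor f U ‹_› Λ hΛ hk hann
  exact ⟨U, hsU, hUc, Λ, hΛ, j, h₁, h₂, h₃⟩

end Groth.Agent.S19159
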