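import Groth.Statements.S19160
import Mathlib.Tactic
import Mathlib.Algebra.TrivSqZeroExt

set_option autoImplicit false
open scoped TensorProduct
universe u
open PureMod

namespace Groth.Agent.S19160

/-- (2) ⇒ (3): in affine form, let R be a commutative ring and i : A → B an R-linear map such that for
every commutative R-algebra R' the base change R' ⊗ A → R' ⊗ B is injective (the pull-back of i to
every affine scheme over Spec R is a monomorphism). Then F ⊗ A → F ⊗ B is injective for every
R-module F, i.e. i is universally injective (pure). (Modules and algebras are taken in the universe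
of R.) -/
theorem result (R : Type u) [CommRing R]
    (A B : Type u) [AddCommGroup A] [Module R A] [AddCommGroup B] [Module R B] (i : A →ₗ[R] B)
    (h : ∀ (R' : Type u) [CommRing R'] [Algebra R R'], Function.Injective (i.baseChange R'))
    (F : Type u) [AddCommGroup F] [Module R F] :
    Function.Injective (i.lTensor F) := by
  letI : Module Rᵐᵒᵖ F := Module.compHom F ((RingHom.id R).fromOpposite fun a b => mul_comm a b)
  haveI : IsCentralScalar R F := ⟨fun r m => rfl⟩
  haveI : SMulCommClass R Rᵐᵒᵖ F := ⟨fun r s m => smul_comm r s.unop m⟩
  have h' := h (TrivSqZeroExt R F)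
  rw [injective_iff_map_eq_zero]
  intro x hx
  have h1 : (TrivSqZeroExt.inrHom R F).rTensor A x = 0 := by
    apply h'
    rw [map_zero]
    show i.lTensor (TrivSqZeroExt R F) ((TrivSqZeroExt.inrHom R F).rTensor A x) = 0
    rw [← LinearMap.comp_apply, LinearMap.lTensor_comp_rTensor, ← LinearMap.rTensor_comp_lTensor,
      LinearMap.comp_apply, hx, map_zero]
  have h2 := congrArg ((TrivSqZeroExt.sndHom R F).rTensor A) h1
  rw [map_zero, ← LinearMap.comp_apply, ← LinearMap.rTensor_comp] at h2
  have h3 : (TrivSqZeroExt.sndHom R F).comp (TrivSqZeroExt.inrHom R F) = LinearMap.id := by ext m; simp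
  rw [h3, LinearMap.rTensor_id, LinearMap.id_apply] at h2
  exact h2

end Groth.Agent.S19160
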