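import Groth.Statements.S19161
import Groth.Agent.Roots36.Dominant2

set_option autoImplicit false
open RootPairing
open RootD

namespace Groth.Agent.S19161

/-- Let P be a root datum (root pairing over ℤ, finitely many roots), S a system of positive roots, W
the Weyl group, Γ a non-trivial totally ordered commutative group and f₁, f₂ : M → Γ additive maps
which are dominant (f_i(α) ≥ 0 for α ∈ S). Then f₁ ≤ f₂ in the weak dominance order (f₁(m) ≤ f₂(m)
for every dominant weight m, i.e. every m with ⟨m, α∨⟩ ≥ 0 for all α ∈ S) if and only if, for every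
non-empty finite W-stable subset X ⊆ M, the maximum of f₁ on X is at most the maximum of f₂ on X.
(The source phrases the right-hand side through W-invariant elements x of ℕ[M] and the largest
element of the support of f_i(x) in ℤ[Γ]; for ℕ-coefficients that largest element is the maximum of
f_i over the support of x.) -/
theorem result {ι M N : Type*} [AddCommGroup M] [AddCommGroup N]
    (P : RootPairing ι ℤ M N) [Finite ι] (S : Set ι) (hS : RootD.IsPosSys P S)
    {Γ : Type*} [AddCommGroup Γ] [LinearOrder Γ] [IsOrderedAddMonoid Γ] [Nontrivial Γ] (f₁ f₂ : M →+ Γ)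
    (hf₁ : ∀ i ∈ S, 0 ≤ f₁ (P.root i)) (hf₂ : ∀ i ∈ S, 0 ≤ f₂ (P.root i)) :
    (∀ m : M, (∀ i ∈ S, 0 ≤ P.coroot' i m) → f₁ m ≤ f₂ m) ↔
    ∀ (X : Finset M) (hX : X.Nonempty), (∀ g : P.Aut, g ∈ P.weylGroup → ∀ m ∈ X, RootPairing.Equiv.weightHom P g m ∈ X) →
      X.sup' hX f₁ ≤ X.sup' hX f₂ := by
  have := Fintype.ofFinite ι
  classical
  obtain ⟨Δ, hΔ, hpos⟩ := Roots36.exists_simple_of_closed P (Roots36.IsPosSys.isClosedSub hS)
    hS.cover fun i hi => hS.disjoint hi
  subst hpos
  have key : ∀ f : M →+ Γ, (∀ i ∈ RootD.posOf P Δ, 0 ≤ f (P.root i)) → ∀ g : P.Aut,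
      g ∈ P.weylGroup → ∀ m : M, (∀ i ∈ RootD.posOf P Δ, 0 ≤ P.coroot' i m) → f (g • m) ≤ f m := by
    intro f hf g hg m hm
    obtain ⟨c, h1, h2, h3⟩ := Roots36.exists_coeffs hΔ hf hg
    rw [← sub_nonneg, h3]
    refine Finset.sum_nonneg fun i _ => ?_
    by_cases hi : i ∈ Δ
    · exact zsmul_nonneg (h1 i) (hm i (Roots36.simple_mem_posOf hΔ hi))
    · rw [h2 i hi, smul_zero]
  constructor
  · intro h X hX hst
    refine Finset.sup'_le _ _ fun x hx => ?_
    obtain ⟨g, hg, hdom⟩ := Roots36.exists_smul_dominant hΔ x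
    have h1 : f₁ x ≤ f₁ (g • x) := by
      have := key f₁ hf₁ g⁻¹ (inv_mem hg) (g • x) hdom
      rwa [inv_smul_smul] at this
    exact h1.trans ((h _ hdom).trans (Finset.le_sup' f₂ (hst g hg x hx)))
  · intro h m hm
    have := Roots36.finite_weylGroup hΔ
    have := Fintype.ofFinite P.weylGroup
    let X : Finset M := Finset.univ.image fun g : P.weylGroup => (g : P.Aut) • m
    have hmX : m ∈ X := Finset.mem_image.mpr ⟨1, Finset.mem_univ _, one_smul _ m⟩
    refine (Finset.le_sup' f₁ hmX).trans ((h X ⟨m, hmX⟩ ?_).trans (Finset.sup'_le _ _ fun x hx => ?_))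
    · intro g hg x hx
      obtain ⟨w, -, rfl⟩ := Finset.mem_image.mp hx
      refine Finset.mem_image.mpr ⟨⟨g, hg⟩ * w, Finset.mem_univ _, ?_⟩
      rw [Subgroup.coe_mul, mul_smul]
      rfl
    · obtain ⟨w, -, rfl⟩ := Finset.mem_image.mp hx
      exact key f₂ hf₂ w w.2 m hm

end Groth.Agent.S19161
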