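import Groth.Statements.S19169
import Groth.Agent.PC28.Basic
-- import your own Groth.Agent.* helpers here

set_option autoImplicit false
universe u
open ProCompl

namespace Groth.Agent.S19169

/-- Let B be a Hausdorff, locally compact, totally disconnected topological abelian group which is
compactly generated, i.e. generated as a group by a compact subset. Then the open subgroups of
finite index of B have trivial intersection: every nonzero b lies outside some open subgroup of
finite index. Equivalently, the natural map from B to its completion with respect to open subgroups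
of finite index is injective. -/
theorem result
    {B : Type u} [AddCommGroup B] [TopologicalSpace B] [IsTopologicalAddGroup B]
    [T2Space B] [LocallyCompactSpace B] [TotallyDisconnectedSpace B]
    (hcg : ∃ K : Set B, IsCompact K ∧ AddSubgroup.closure K = ⊤) (b : B) (hb : b ≠ 0) :
    ∃ B' : AddSubgroup B, IsOpen (B' : Set B) ∧ B'.FiniteIndex ∧ b ∉ B' := by
  obtain ⟨V, hV, hVs⟩ := PC28.exists_open_subgroup
    ((isOpen_compl_singleton (x := b)).mem_nhds (show (0 : B) ≠ b from fun h => hb h.symm))
  have := PC28.fg_quotient_of_compactlyGenerated hcg V hV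
  have hb' : (b : B ⧸ V) ∉ (⊥ : AddSubgroup (B ⧸ V)) := fun h =>
    hVs ((QuotientAddGroup.eq_zero_iff b).1 h) rfl
  obtain ⟨K, -, hK, hbK⟩ := PC28.exists_finiteIndex_avoiding_of_fg _ _ hb'
  refine ⟨K.comap (QuotientAddGroup.mk' V), AddSubgroup.isOpen_mono ?_ hV, ?_, hbK⟩
  · intro v hv
    show (v : B ⧸ V) ∈ K
    rw [(QuotientAddGroup.eq_zero_iff v).2 hv]
    exact K.zero_mem
  · constructor
    rw [AddSubgroup.index_comap_of_surjective _ (QuotientAddGroup.mk'_surjective V)]
    exact hK.index_ne_zero

end Groth.Agent.S19169
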