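import Groth.Statements.S19170
import Groth.Agent.PC28.Basic
import Mathlib.Topology.Instances.AddCircle.Defs
-- import your own Groth.Agent.* helpers here

set_option autoImplicit false
universe u
open ProCompl

namespace Groth.Agent.S19170

/-- Let B be a topological abelian group generated as a group by a compact subset. Then every character
χ : B → ℚ/ℤ with open kernel (a continuous character for discrete ℚ/ℤ) has kernel of finite index;
consequently each such character factors through B^∧, the completion of B taken along its
finite-index open subgroups, i.e. (B^∧)^D = B^D. (The published statement assumes moreover that B is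
Hausdorff, locally compact and totally disconnected; only compact generation is needed for this
assertion, so those assumptions are dropped here.) -/
theorem result
    {B : Type u} [AddCommGroup B] [TopologicalSpace B] [IsTopologicalAddGroup B]
    (hcg : ∃ K : Set B, IsCompact K ∧ AddSubgroup.closure K = ⊤)
    (χ : B →+ ℚ ⧸ AddSubgroup.zmultiples (1 : ℚ)) (hχ : IsOpen (χ.ker : Set B)) : χ.ker.FiniteIndex := by
  have := PC28.fg_quotient_of_compactlyGenerated hcg χ.ker hχ
  have : Finite (B ⧸ χ.ker) := PC28.finite_of_fg_of_torsion fun x => by
    obtain ⟨y, rfl⟩ := QuotientAddGroup.mk_surjective x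
    have hfin : IsOfFinAddOrder (χ y) := by
      obtain ⟨z, hz⟩ := QuotientAddGroup.mk_surjective (χ y)
      rw [← hz, isOfFinAddOrder_iff_nsmul_eq_zero]
      refine ⟨z.den, z.den_pos, ?_⟩
      rw [← QuotientAddGroup.mk_nsmul, QuotientAddGroup.eq_zero_iff, AddSubgroup.mem_zmultiples_iff]
      exact ⟨z.num, by rw [nsmul_eq_mul, zsmul_one, mul_comm, Rat.mul_den_eq_num]⟩
    rw [isOfFinAddOrder_iff_nsmul_eq_zero] at hfin ⊢
    obtain ⟨n, hn, hny⟩ := hfin
    refine ⟨n, hn, ?_⟩
    rw [← QuotientAddGroup.mk_nsmul, QuotientAddGroup.eq_zero_iff, AddMonoidHom.mem_ker, map_nsmul]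
    exact hny
  exact AddSubgroup.finiteIndex_of_finite_quotient

end Groth.Agent.S19170
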