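import Groth.Statements.S19171
import Groth.Agent.PC28.Basic
-- import your own Groth.Agent.* helpers here

set_option autoImplicit false
universe u v
open ProCompl

namespace Groth.Agent.S19171

open Topology in
/-- Let B be a Hausdorff, locally compact, totally disconnected topological abelian group generated as a
group by a compact subset, and let i : A → B be an injective continuous homomorphism inducing the
topology of A from that of B (a strict injection) whose image is closed. Then every character χ : A
→ ℚ/ℤ with open kernel extends along i to a character ψ : B → ℚ/ℤ with open kernel; with ℚ/ℤ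
discrete this says that restriction B^D → A^D of continuous characters is surjective, i.e. the dual
of a topological exact sequence 0 → A → B → C → 0 with such B, strict closed i and open p is a short
exact sequence 0 → C^D → B^D → A^D → 0. -/
theorem result
    {A : Type u} {B : Type v} [AddCommGroup A] [TopologicalSpace A] [IsTopologicalAddGroup A]
    [AddCommGroup B] [TopologicalSpace B] [IsTopologicalAddGroup B]
    [T2Space B] [LocallyCompactSpace B] [TotallyDisconnectedSpace B]
    (hcg : ∃ K : Set B, IsCompact K ∧ AddSubgroup.closure K = ⊤)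
    (i : A →+ B) (hi : Continuous i) (hinj : Function.Injective i) (hind : IsInducing i)
    (hcl : IsClosed (Set.range i))
    (χ : A →+ ℚ ⧸ AddSubgroup.zmultiples (1 : ℚ)) (hχ : IsOpen (χ.ker : Set A)) :
    ∃ ψ : B →+ ℚ ⧸ AddSubgroup.zmultiples (1 : ℚ), IsOpen (ψ.ker : Set B) ∧ ψ.comp i = χ := by
  have h0 := hχ.mem_nhds χ.ker.zero_mem
  rw [hind.nhds_eq_comap, map_zero, Filter.mem_comap] at h0
  obtain ⟨t, ht, hts⟩ := h0
  obtain ⟨W, hW, hWt⟩ := PC28.exists_open_subgroup ht
  let j : (A ⧸ W.comap i) →+ (B ⧸ W) := QuotientAddGroup.map (W.comap i) W i le_rfl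
  have hj : Function.Injective j := by
    rw [injective_iff_map_eq_zero]
    intro x hx
    obtain ⟨a, rfl⟩ := QuotientAddGroup.mk_surjective x
    rw [QuotientAddGroup.eq_zero_iff]
    exact (QuotientAddGroup.eq_zero_iff (i a)).1 hx
  obtain ⟨ψ, hψ⟩ := PC28.exists_extension j hj
    (QuotientAddGroup.lift (W.comap i) χ fun a ha => hts (hWt ha))
  refine ⟨ψ.comp (QuotientAddGroup.mk' W), AddSubgroup.isOpen_mono ?_ hW, ?_⟩
  · intro w hw
    rw [AddMonoidHom.mem_ker]
    show ψ (w : B ⧸ W) = 0
    rw [(QuotientAddGroup.eq_zero_iff w).2 hw, map_zero]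
  · exact AddMonoidHom.ext fun a => DFunLike.congr_fun hψ (a : A ⧸ W.comap i)

end Groth.Agent.S19171
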