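import Groth.Statements.S19172
import Groth.Agent.PC28.Basic
import Groth.Agent.PC28.FICompl
-- import your own Groth.Agent.* helpers here

set_option autoImplicit false
universe u v w
open ProCompl

namespace Groth.Agent.S19172

open W4c61motalbduality in
/-- Let i : A → B and p : B → C be continuous homomorphisms of topological abelian groups with p
surjective and open and with the kernel of p equal to the image of i. Then the induced sequence of
completions with respect to open subgroups of finite index, A^∧ → B^∧ → C^∧ → 0, is exact: the map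
B^∧ → C^∧ is surjective and its kernel is the image of A^∧. The completion is the group of
compatible families of residues modulo all open subgroups of finite index. (The published statement
takes i injective, as the first map of an exact sequence 0 → A → B → C → 0 of topological abelian
groups; here it is only assumed that the image of i is the kernel of p, which is all the proof
uses.) -/
theorem result
    {A : Type u} {B : Type v} {C : Type w}
    [AddCommGroup A] [TopologicalSpace A] [IsTopologicalAddGroup A]
    [AddCommGroup B] [TopologicalSpace B] [IsTopologicalAddGroup B]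
    [AddCommGroup C] [TopologicalSpace C] [IsTopologicalAddGroup C]
    (i : A →+ B) (hi : Continuous i) (p : B →+ C) (hp : Continuous p)
    (hpo : IsOpenMap p) (hps : Function.Surjective p) (hex : p.ker = i.range) :
    Function.Surjective (FICompl.map p hp) ∧ (FICompl.map p hp).ker = (FICompl.map i hi).range := by
  refine ⟨fun y => ?_, le_antisymm ?_ ?_⟩
  · exact PC28.ficompl_mem_range_map p hp y fun V => by
      obtain ⟨c, hc⟩ := QuotientAddGroup.mk_surjective (y.1 V)
      obtain ⟨b, rfl⟩ := hps c
      exact ⟨b, hc⟩
  · intro y hy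
    refine PC28.ficompl_mem_range_map i hi y fun V => ?_
    haveI := V.finiteIndex'
    let V' : OpenFI C := ⟨V.toAddSubgroup.map p, hpo _ V.isOpen', ⟨fun h0 =>
      V.finiteIndex'.index_ne_zero (Nat.eq_zero_of_zero_dvd
        (h0 ▸ AddSubgroup.index_map_dvd V.toAddSubgroup hps))⟩⟩
    have hle : V.toAddSubgroup ≤ (V'.comap p hp).toAddSubgroup := fun v hv => ⟨v, hv, rfl⟩
    obtain ⟨b, hb⟩ := QuotientAddGroup.mk_surjective (y.1 V)
    have h0 : ((p b : C) : C ⧸ V'.toAddSubgroup) = 0 := by
      have h1 : ((FICompl.map p hp y).1 V') = 0 := by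
        rw [AddMonoidHom.mem_ker.1 hy]; rfl
      have h2 : y.1 (V'.comap p hp) = (b : B ⧸ (V'.comap p hp).toAddSubgroup) := by
        rw [← y.2 V _ hle, ← hb]; rfl
      rw [← h1]
      show _ = QuotientAddGroup.map (V'.comap p hp).toAddSubgroup V'.toAddSubgroup p
        (V'.comap_le p) (y.1 (V'.comap p hp))
      rw [h2]
      rfl
    obtain ⟨v, hv, hvb⟩ := (QuotientAddGroup.eq_zero_iff _).1 h0
    have hk : b - v ∈ p.ker := by rw [AddMonoidHom.mem_ker, map_sub, hvb, sub_self]
    rw [hex] at hk
    obtain ⟨a, ha⟩ := hk
    refine ⟨a, ?_⟩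
    rw [← hb, QuotientAddGroup.eq_iff_sub_mem, ha]
    simpa using neg_mem hv
  · rintro _ ⟨x, rfl⟩
    rw [AddMonoidHom.mem_ker]
    ext V
    obtain ⟨a, ha⟩ := QuotientAddGroup.mk_surjective (x.1 ((V.comap p hp).comap i hi))
    show QuotientAddGroup.map _ _ p (V.comap_le p)
      (QuotientAddGroup.map _ _ i ((V.comap p hp).comap_le i) (x.1 ((V.comap p hp).comap i hi))) = 0
    rw [← ha]
    show ((p (i a) : C) : C ⧸ V.toAddSubgroup) = 0
    have : i a ∈ p.ker := hex.ge ⟨a, rfl⟩
    rw [AddMonoidHom.mem_ker.1 this]
    rfl

end Groth.Agent.S19172
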