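import Groth.Statements.S19173
import Groth.Agent.PC28.Basic
-- import your own Groth.Agent.* helpers here

set_option autoImplicit false
universe u v
open ProCompl

namespace Groth.Agent.S19173

open W4c61motalbduality Topology in
/-- Let B be a Hausdorff, locally compact, totally disconnected topological abelian group generated as a
group by a compact subset, and let i : A → B be an injective continuous homomorphism inducing the
topology of A from that of B (a strict injection) with closed image. Then the map induced by i on
completions with respect to open subgroups of finite index is injective; together with right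
exactness for open surjections this makes 0 → A^∧ → B^∧ → C^∧ → 0 exact for a topological exact
sequence 0 → A → B → C → 0 with such B, strict closed i and open p. -/
theorem result
    {A : Type u} {B : Type v} [AddCommGroup A] [TopologicalSpace A] [IsTopologicalAddGroup A]
    [AddCommGroup B] [TopologicalSpace B] [IsTopologicalAddGroup B]
    [T2Space B] [LocallyCompactSpace B] [TotallyDisconnectedSpace B]
    (hcg : ∃ K : Set B, IsCompact K ∧ AddSubgroup.closure K = ⊤)
    (i : A →+ B) (hi : Continuous i) (hinj : Function.Injective i) (hind : IsInducing i)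
    (hcl : IsClosed (Set.range i)) :
    Function.Injective (FICompl.map i hi) := by
  rw [injective_iff_map_eq_zero]
  intro x hx
  ext U
  haveI := U.finiteIndex'
  have h0 := U.isOpen'.mem_nhds U.toAddSubgroup.zero_mem
  rw [hind.nhds_eq_comap, map_zero, Filter.mem_comap] at h0
  obtain ⟨t, ht, hts⟩ := h0
  obtain ⟨W, hW, hWt⟩ := PC28.exists_open_subgroup ht
  have := PC28.fg_quotient_of_compactlyGenerated hcg W hW
  let j : A →+ B ⧸ W := (QuotientAddGroup.mk' W).comp i
  obtain ⟨K, -, hKfi, hKU⟩ := PC28.exists_finiteIndex_comap_le j U.toAddSubgroup ⊥ fun a ha => by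
    obtain ⟨K, hSK, hKfi, haK⟩ := PC28.exists_finiteIndex_avoiding_of_fg (j a)
      (U.toAddSubgroup.map j) (by
        rintro ⟨u, hu, hua⟩
        apply ha
        have hw : a - u ∈ U.toAddSubgroup := by
          apply hts
          apply hWt
          show i (a - u) ∈ W
          rw [map_sub]
          exact QuotientAddGroup.eq_iff_sub_mem.1 hua.symm
        simpa using add_mem hw hu)
    exact ⟨K, bot_le, fun u hu => hSK ⟨u, hu, rfl⟩, hKfi, haK⟩
  let V : OpenFI B :=
    { toAddSubgroup := K.comap (QuotientAddGroup.mk' W)
      isOpen' := by
        refine AddSubgroup.isOpen_mono ?_ hW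
        intro w hw
        show (w : B ⧸ W) ∈ K
        rw [(QuotientAddGroup.eq_zero_iff w).2 hw]
        exact K.zero_mem
      finiteIndex' := by
        constructor
        rw [AddSubgroup.index_comap_of_surjective _ (QuotientAddGroup.mk'_surjective W)]
        exact hKfi.index_ne_zero }
  obtain ⟨a, ha⟩ := QuotientAddGroup.mk_surjective (x.1 (V.comap i hi))
  have h1 : (FICompl.map i hi x).1 V = 0 := by rw [hx]; rfl
  have h2 : i a ∈ V.toAddSubgroup := by
    rw [← QuotientAddGroup.eq_zero_iff, ← h1]
    show _ = QuotientAddGroup.map (V.comap i hi).toAddSubgroup V.toAddSubgroup i (V.comap_le i)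
      (x.1 (V.comap i hi))
    rw [← ha]
    rfl
  rw [← x.2 (V.comap i hi) U hKU, ← ha]
  exact (QuotientAddGroup.eq_zero_iff a).2 (hKU h2)

end Groth.Agent.S19173
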