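import Groth.Statements.S19176
import Mathlib.Tactic
import Mathlib.RingTheory.MvPolynomial.Ideal

set_option autoImplicit false
universe u
open PlaneCurve

namespace Groth.Agent.S19176

theorem mem_eq {A : Type*} [CommRing A] {I : Ideal A} {a b : A} (h : a = b) (hb : b ∈ I) : a ∈ I := h ▸ hb

theorem finrank_quot {k : Type*} [Field k] (a b : ℕ) :
    Module.finrank k (MvPolynomial (Fin 2) k ⧸
      Ideal.span ({(MvPolynomial.X 0 : MvPolynomial (Fin 2) k) ^ a, MvPolynomial.X 1 ^ b} : Set (MvPolynomial (Fin 2) k))) = a * b := by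
  classical
  set e : Fin a × Fin b → (Fin 2 →₀ ℕ) := fun ij => Finsupp.single 0 (ij.1 : ℕ) + Finsupp.single 1 (ij.2 : ℕ)
    with he
  set Φ : MvPolynomial (Fin 2) k →ₗ[k] (Fin a × Fin b → k) :=
    LinearMap.pi fun ij => MvPolynomial.lcoeff k (e ij) with hΦ
  have he0 : ∀ ij, e ij 0 = ij.1 ∧ e ij 1 = ij.2 := fun ij => by simp [he]
  have hsurj : Function.Surjective Φ := by
    intro v
    refine ⟨∑ ij, MvPolynomial.monomial (e ij) (v ij), funext fun xy => ?_⟩
    simp only [hΦ, LinearMap.pi_apply, MvPolynomial.lcoeff_apply, MvPolynomial.coeff_sum,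
      MvPolynomial.coeff_monomial]
    rw [Finset.sum_eq_single xy (fun ij _ hne => if_neg fun h => hne ?_) (by simp), if_pos rfl]
    have h0 := DFunLike.congr_fun h 0
    have h1 := DFunLike.congr_fun h 1
    rw [(he0 ij).1, (he0 xy).1] at h0
    rw [(he0 ij).2, (he0 xy).2] at h1
    exact Prod.ext (Fin.ext h0) (Fin.ext h1)
  have hker : LinearMap.ker Φ =
      (Ideal.span ({(MvPolynomial.X 0 : MvPolynomial (Fin 2) k) ^ a, MvPolynomial.X 1 ^ b} : Set _)).restrictScalars k := by
    rw [show ({(MvPolynomial.X 0 : MvPolynomial (Fin 2) k) ^ a, MvPolynomial.X 1 ^ b} : Set _) = (fun s => MvPolynomial.monomial s (1 : k)) ''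
      ({Finsupp.single 0 a, Finsupp.single 1 b} : Set (Fin 2 →₀ ℕ)) by
        rw [Set.image_pair, MvPolynomial.X_pow_eq_monomial, MvPolynomial.X_pow_eq_monomial]]
    ext p
    simp only [LinearMap.mem_ker, Submodule.restrictScalars_mem, MvPolynomial.mem_ideal_span_monomial_image,
      Set.mem_insert_iff, Set.mem_singleton_iff, exists_eq_or_imp, exists_eq_left, Finsupp.single_le_iff]
    constructor
    · intro h m hm
      by_contra hc
      rw [not_or, not_le, not_le] at hc
      have h' := congrFun h (⟨m 0, hc.1⟩, ⟨m 1, hc.2⟩)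
      simp only [hΦ, LinearMap.pi_apply, MvPolynomial.lcoeff_apply, Pi.zero_apply] at h'
      rw [show e (⟨m 0, hc.1⟩, ⟨m 1, hc.2⟩) = m by ext i; fin_cases i <;> simp [he]] at h'
      exact MvPolynomial.mem_support_iff.mp hm h'
    · intro h
      funext ij
      simp only [hΦ, LinearMap.pi_apply, MvPolynomial.lcoeff_apply, Pi.zero_apply]
      by_contra hc
      rcases h (e ij) (MvPolynomial.mem_support_iff.mpr hc) with h | h
      · rw [(he0 ij).1] at h; exact absurd ij.1.2 (not_lt.mpr h)
      · rw [(he0 ij).2] at h; exact absurd ij.2.2 (not_lt.mpr h)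
  set J := Ideal.span ({(MvPolynomial.X 0 : MvPolynomial (Fin 2) k) ^ a, MvPolynomial.X 1 ^ b} : Set _)
  have h1 := LinearEquiv.finrank_eq (Φ.quotKerEquivOfSurjective hsurj)
  rw [Module.finrank_pi, Fintype.card_prod, Fintype.card_fin, Fintype.card_fin] at h1
  rw [← h1]
  let e2 : (MvPolynomial (Fin 2) k ⧸ J.restrictScalars k) ≃ₗ[k] (MvPolynomial (Fin 2) k ⧸ LinearMap.ker Φ) :=
    Submodule.quotEquivOfEq (J.restrictScalars k) (LinearMap.ker Φ) hker.symm
  exact ((Submodule.Quotient.restrictScalarsEquiv k J).symm.trans e2).finrank_eq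


open MvPolynomial in
/-- Let k be a field of characteristic p (p = 0 allowed) and F = y² − x³ in k[x, y] (x the variable of
index 0, y of index 1). The singular subscheme of the plane curve F = 0, cut out by F and its two
partial derivatives, is finite over k of degree 4 when p = 2, of degree 3 when p = 3, and of degree
2 otherwise: the k-dimension of k[x, y]/(F, ∂F/∂x, ∂F/∂y) is that number. (The source phrases this
through the complete local ring of a cusp; the row is the computation for the standard cusp y² =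
x³.) -/
theorem result (k : Type u) [Field k] (p : ℕ) [CharP k p] :
    Module.finrank k (MvPolynomial (Fin 2) k ⧸ Ideal.span
      ({X 1 ^ 2 - X 0 ^ 3, pderiv 0 (X 1 ^ 2 - X 0 ^ 3), pderiv 1 (X 1 ^ 2 - X 0 ^ 3)} :
        Set (MvPolynomial (Fin 2) k))) = (if p = 2 then 4 else if p = 3 then 3 else 2) := by
  classical
  have hk := CharP.cast_eq_zero_iff k p
  have h0 : pderiv (0 : Fin 2) (X 1 ^ 2 - X 0 ^ 3 : MvPolynomial (Fin 2) k) = -(MvPolynomial.C 3 * X 0 ^ 2) := by
    simp [pderiv_X, Pi.single_apply, map_ofNat]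
  have h1 : pderiv (1 : Fin 2) (X 1 ^ 2 - X 0 ^ 3 : MvPolynomial (Fin 2) k) = MvPolynomial.C 2 * X 1 := by
    simp [pderiv_X, Pi.single_apply, map_ofNat]
  rw [h0, h1]
  split_ifs with hp2 hp3
  · subst hp2
    have h2 : (2 : k) = 0 := by exact_mod_cast (hk 2).mpr dvd_rfl
    have h3 : (3 : k) = 1 := by linear_combination h2
    rw [h2, h3, map_zero, zero_mul, map_one, one_mul]
    have e : Ideal.span ({X 1 ^ 2 - X 0 ^ 3, -(X 0 ^ 2), 0} : Set (MvPolynomial (Fin 2) k)) =
        Ideal.span ({(X 0) ^ 2, X 1 ^ 2} : Set (MvPolynomial (Fin 2) k)) := by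
      apply le_antisymm <;> rw [Ideal.span_le] <;>
        simp only [Set.insert_subset_iff, Set.singleton_subset_iff, SetLike.mem_coe]
      · refine ⟨Ideal.mem_span_pair.mpr ⟨-X 0, 1, by ring⟩, Ideal.mem_span_pair.mpr ⟨-1, 0, by ring⟩, zero_mem _⟩
      · constructor
        · refine mem_eq (neg_neg (X 0 ^ 2 : MvPolynomial (Fin 2) k)).symm ?_
          exact neg_mem (Ideal.subset_span (by first | exact Set.mem_insert _ _ | exact Set.mem_insert_of_mem _ (Set.mem_insert _ _) | exact Set.mem_insert_of_mem _ (Set.mem_insert_of_mem _ (Set.mem_singleton _))))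
        · exact mem_eq (show (X 1 ^ 2 : MvPolynomial (Fin 2) k) = (X 1 ^ 2 - X 0 ^ 3) + (-X 0) * (-(X 0 ^ 2)) by ring) (add_mem (Ideal.subset_span (by first | exact Set.mem_insert _ _ | exact Set.mem_insert_of_mem _ (Set.mem_insert _ _) | exact Set.mem_insert_of_mem _ (Set.mem_insert_of_mem _ (Set.mem_singleton _)))) (Ideal.mul_mem_left _ _ (Ideal.subset_span (by first | exact Set.mem_insert _ _ | exact Set.mem_insert_of_mem _ (Set.mem_insert _ _) | exact Set.mem_insert_of_mem _ (Set.mem_insert_of_mem _ (Set.mem_singleton _))))))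
    rw [e]
    exact finrank_quot 2 2
  · subst hp3
    have h3 : (3 : k) = 0 := by exact_mod_cast (hk 3).mpr dvd_rfl
    have h2 : (2 : k) = -1 := by linear_combination h3
    rw [h2, h3, map_zero, zero_mul, neg_zero, map_neg, map_one, neg_one_mul]
    have e : Ideal.span ({X 1 ^ 2 - X 0 ^ 3, 0, -X 1} : Set (MvPolynomial (Fin 2) k)) =
        Ideal.span ({(X 0) ^ 3, X 1 ^ 1} : Set (MvPolynomial (Fin 2) k)) := by
      apply le_antisymm <;> rw [Ideal.span_le] <;>
        simp only [Set.insert_subset_iff, Set.singleton_subset_iff, SetLike.mem_coe]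
      · refine ⟨Ideal.mem_span_pair.mpr ⟨-1, X 1, by ring⟩, zero_mem _, Ideal.mem_span_pair.mpr ⟨0, -1, by ring⟩⟩
      · constructor
        · exact mem_eq (show (X 0 ^ 3 : MvPolynomial (Fin 2) k) = (-1) * (X 1 ^ 2 - X 0 ^ 3) + (-X 1) * (-X 1) by ring) (add_mem (Ideal.mul_mem_left _ _ (Ideal.subset_span (by first | exact Set.mem_insert _ _ | exact Set.mem_insert_of_mem _ (Set.mem_insert _ _) | exact Set.mem_insert_of_mem _ (Set.mem_insert_of_mem _ (Set.mem_singleton _))))) (Ideal.mul_mem_left _ _ (Ideal.subset_span (by first | exact Set.mem_insert _ _ | exact Set.mem_insert_of_mem _ (Set.mem_insert _ _) | exact Set.mem_insert_of_mem _ (Set.mem_insert_of_mem _ (Set.mem_singleton _))))))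
        · refine mem_eq ((pow_one _).trans (neg_neg (X 1 : MvPolynomial (Fin 2) k)).symm) ?_
          exact neg_mem (Ideal.subset_span (by first | exact Set.mem_insert _ _ | exact Set.mem_insert_of_mem _ (Set.mem_insert _ _) | exact Set.mem_insert_of_mem _ (Set.mem_insert_of_mem _ (Set.mem_singleton _))))
    rw [e]
    exact finrank_quot 3 1
  · have hu : ∀ q : ℕ, q.Prime → p ≠ q → IsUnit (q : k) := by
      intro q hq hne
      refine isUnit_iff_ne_zero.mpr fun h => ?_
      rcases (Nat.dvd_prime hq).mp ((hk q).mp h) with h | h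
      · exact CharP.char_ne_one k p h
      · exact hne h
    have u2 : IsUnit (2 : k) := by exact_mod_cast hu 2 Nat.prime_two hp2
    have u3 : IsUnit (3 : k) := by exact_mod_cast hu 3 Nat.prime_three hp3
    obtain ⟨c2, hc2⟩ := (u2.map (MvPolynomial.C : k →+* MvPolynomial (Fin 2) k)).exists_left_inv
    obtain ⟨c3, hc3⟩ := (u3.map (MvPolynomial.C : k →+* MvPolynomial (Fin 2) k)).exists_left_inv
    have e : Ideal.span ({X 1 ^ 2 - X 0 ^ 3, -(MvPolynomial.C 3 * X 0 ^ 2), MvPolynomial.C 2 * X 1} : Set (MvPolynomial (Fin 2) k)) =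
        Ideal.span ({(X 0) ^ 2, X 1 ^ 1} : Set (MvPolynomial (Fin 2) k)) := by
      apply le_antisymm <;> rw [Ideal.span_le] <;>
        simp only [Set.insert_subset_iff, Set.singleton_subset_iff, SetLike.mem_coe]
      · refine ⟨Ideal.mem_span_pair.mpr ⟨-X 0, X 1, by ring⟩, Ideal.mem_span_pair.mpr ⟨-MvPolynomial.C 3, 0, by ring⟩,
          Ideal.mem_span_pair.mpr ⟨0, MvPolynomial.C 2, by ring⟩⟩
      · constructor
        · exact mem_eq (show (X 0 ^ 2 : MvPolynomial (Fin 2) k) = (-c3) * (-(MvPolynomial.C 3 * X 0 ^ 2)) by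
            linear_combination (-(X 0 : MvPolynomial (Fin 2) k) ^ 2) * hc3) (Ideal.mul_mem_left _ _ (Ideal.subset_span (by first | exact Set.mem_insert _ _ | exact Set.mem_insert_of_mem _ (Set.mem_insert _ _) | exact Set.mem_insert_of_mem _ (Set.mem_insert_of_mem _ (Set.mem_singleton _)))))
        · exact mem_eq (show (X 1 ^ 1 : MvPolynomial (Fin 2) k) = c2 * (MvPolynomial.C 2 * X 1) by
            linear_combination (-(X 1 : MvPolynomial (Fin 2) k)) * hc2) (Ideal.mul_mem_left _ _ (Ideal.subset_span (by first | exact Set.mem_insert _ _ | exact Set.mem_insert_of_mem _ (Set.mem_insert _ _) | exact Set.mem_insert_of_mem _ (Set.mem_insert_of_mem _ (Set.mem_singleton _)))))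
    rw [e]
    exact finrank_quot 2 1

end Groth.Agent.S19176
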