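import Groth.Statements.S19177
import Mathlib.RingTheory.Spectrum.Prime.FreeLocus
import Mathlib.RingTheory.Finiteness.Nakayama
import Mathlib.LinearAlgebra.Projection

set_option autoImplicit false
universe u
open CAlg

namespace Groth.Agent.S19177

/-- Let S → R be a homomorphism of commutative rings making R a finitely generated projective S-module
of rank 2 at every prime of S (the affine form of a finite locally free morphism of degree 2). Then
the cokernel of the (injective) structure map S → R, the S-module R/S, is a projective S-module of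
rank 1 at every prime of S (locally free of rank 1). -/
theorem result
    (S R : Type u) [CommRing S] [CommRing R] [Algebra S R] [Module.Finite S R] [Module.Projective S R]
    (h2 : ∀ p : PrimeSpectrum S, Module.rankAtStalk (R := S) R p = 2) :
    Module.Projective S (R ⧸ LinearMap.range (Algebra.linearMap S R)) ∧
      ∀ p : PrimeSpectrum S,
        Module.rankAtStalk (R := S) (R ⧸ LinearMap.range (Algebra.linearMap S R)) p = 1 := by
  classical
  obtain ⟨n, π, ι, -, -, hιπ⟩ := Module.Finite.exists_comp_eq_id_of_projective S R
  obtain ⟨φ, hφ⟩ : ∃ φ : R →ₗ[S] S, φ 1 = 1 := by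
    let J : Ideal S := Ideal.span (Set.range (ι (1 : R)))
    have hJ : J = ⊤ := by
      by_contra hne
      obtain ⟨m, hm, hJm⟩ := Ideal.exists_le_maximal J hne
      have h1 : ∀ x : R, x ∈ (m • ⊤ : Submodule S R) := by
        intro x
        have hπ : (1 : R) = π (ι 1) := (LinearMap.congr_fun hιπ 1).symm
        have hmem : (1 : R) ∈ (m • ⊤ : Submodule S R) := by
          rw [hπ, show ι 1 = ∑ i, ι 1 i • (Pi.single i (1 : S) : Fin n → S) by
            funext j; simp [Finset.sum_apply, Pi.single_apply], map_sum]
          refine Submodule.sum_mem _ fun i _ => ?_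
          rw [map_smul]
          exact Submodule.smul_mem_smul (hJm (Ideal.subset_span ⟨i, rfl⟩)) trivial
        let μ : R →ₗ[S] R := LinearMap.mulLeft S x
        have h2 := Submodule.mem_map_of_mem (f := μ) hmem
        rw [Submodule.map_smul''] at h2
        have h3 := (smul_mono_right _ le_top : m • (⊤ : Submodule S R).map μ ≤ m • ⊤) h2
        simpa [μ] using h3
      obtain ⟨r, hr, hr0⟩ := Submodule.exists_sub_one_mem_and_smul_eq_zero_of_fg_of_le_smul m
        (⊤ : Submodule S R) Module.Finite.fg_top (fun x _ => h1 x)
      have hpos : 0 < Module.rankAtStalk (R := S) R ⟨m, hm.isPrime⟩ := by rw [h2]; norm_num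
      rw [Module.rankAtStalk_pos_iff_mem_support, Module.mem_support_iff'] at hpos
      obtain ⟨x, hx⟩ := hpos
      refine hx r (fun hrm => hm.ne_top ((Ideal.eq_top_iff_one _).mpr ?_)) (hr0 x trivial)
      simpa using m.sub_mem hrm hr
    obtain ⟨c, hc⟩ := (Ideal.mem_span_range_iff_exists_fun (x := (1 : S)) (v := ι 1)).mp
      (show (1 : S) ∈ J by rw [hJ]; trivial)
    exact ⟨(Fintype.linearCombination S c) ∘ₗ ι, by
      simp [Fintype.linearCombination_apply, mul_comm, ← hc]⟩
  let K := LinearMap.ker φ
  let ψ : R →ₗ[S] K := (LinearMap.id - (Algebra.linearMap S R) ∘ₗ φ).codRestrict K fun x => by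
    simp [K, hφ, Algebra.algebraMap_eq_smul_one]
  have hψs : Function.Surjective ψ := fun x => ⟨x, Subtype.ext (by
    show (x : R) - algebraMap S R (φ x) = x
    rw [show φ x = 0 from x.2, map_zero, sub_zero])⟩
  have hker : LinearMap.ker ψ = LinearMap.range (Algebra.linearMap S R) := by
    ext x
    rw [LinearMap.mem_ker, LinearMap.mem_range]
    constructor
    · intro h
      exact ⟨φ x, (sub_eq_zero.mp (congrArg Subtype.val h)).symm⟩
    · rintro ⟨s, rfl⟩
      refine Subtype.ext ?_
      show algebraMap S R s - algebraMap S R (φ (algebraMap S R s)) = 0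
      rw [Algebra.algebraMap_eq_smul_one, map_smul, hφ]
      simp [Algebra.algebraMap_eq_smul_one]
  have hproj : Module.Projective S K := Module.Projective.of_split K.subtype ψ (LinearMap.ext fun x => Subtype.ext (by
    show (x : R) - algebraMap S R (φ x) = x
    rw [show φ x = 0 from x.2, map_zero, sub_zero]))
  have : Module.Finite S K := Module.Finite.of_surjective ψ hψs
  let e : (R ⧸ LinearMap.range (Algebra.linearMap S R)) ≃ₗ[S] K :=
    (Submodule.quotEquivOfEq _ _ hker.symm).trans (ψ.quotKerEquivOfSurjective hψs)
  refine ⟨Module.Projective.of_equiv e.symm, fun p => ?_⟩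
  have : Nontrivial S := p.nontrivial
  let eR : R ≃ₗ[S] S × K := LinearEquiv.ofBijective (φ.prod ψ) ⟨fun x y h => by
      obtain ⟨h3, h4⟩ := Prod.mk.inj h
      have h5 : x - algebraMap S R (φ x) = y - algebraMap S R (φ y) := congrArg Subtype.val h4
      rwa [h3, sub_left_inj] at h5,
    fun z => ⟨algebraMap S R z.1 + z.2, Prod.ext
      (by
        show φ (algebraMap S R z.1 + z.2) = z.1
        rw [map_add, Algebra.algebraMap_eq_smul_one, map_smul, hφ, show φ z.2 = 0 from z.2.2]
        simp)
      (Subtype.ext (by
        show algebraMap S R z.1 + z.2 - algebraMap S R (φ (algebraMap S R z.1 + z.2)) = z.2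
        have hz : φ (algebraMap S R z.1 + z.2) = z.1 := by
          rw [map_add, Algebra.algebraMap_eq_smul_one, map_smul, hφ, show φ z.2 = 0 from z.2.2]
          simp
        rw [hz, add_sub_cancel_left]))⟩⟩
  have h4 := h2 p
  rw [Module.rankAtStalk_eq_of_equiv eR, Module.rankAtStalk_prod, Pi.add_apply,
    Module.rankAtStalk_self, Pi.one_apply] at h4
  rw [Module.rankAtStalk_eq_of_equiv e]
  omega

end Groth.Agent.S19177
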