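import Groth.Statements.S19178
import Mathlib.Tactic
import Mathlib.Algebra.MvPolynomial.Division
import Mathlib.RingTheory.Polynomial.UniqueFactorization
import Mathlib.Algebra.Polynomial.SpecificDegree

set_option autoImplicit false
universe u
open Curves

namespace Groth.Agent.S19178

/-- For every field k and every choice of coefficients a₁, a₂, a₃, a₄, a₆ in k, the homogeneous
Weierstrass cubic Y²Z + a₁XYZ + a₃YZ² − (X³ + a₂X²Z + a₄XZ² + a₆Z³) is an irreducible polynomial in
k[X, Y, Z]. Applied to all fields, this says every fibre of the Weierstrass family over the affine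
space of coefficients is geometrically integral. -/
theorem result (k : Type u) [Field k]
    (W : WeierstrassCurve k) :
    Irreducible (WeierstrassCurve.Projective.polynomial W) := by
  let e := (MvPolynomial.finSuccEquiv k 2).toMulEquiv
  refine (MulEquiv.irreducible_iff e).mp ?_
  let Y : MvPolynomial (Fin 2) k := MvPolynomial.X 0
  let Z : MvPolynomial (Fin 2) k := MvPolynomial.X 1
  let c : k → MvPolynomial (Fin 2) k := MvPolynomial.C
  let q : Polynomial (MvPolynomial (Fin 2) k) :=
    Polynomial.X ^ 3 + Polynomial.C (c W.a₂ * Z) * Polynomial.X ^ 2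
      + Polynomial.C (c W.a₄ * Z ^ 2 - c W.a₁ * Y * Z) * Polynomial.X
      + Polynomial.C (c W.a₆ * Z ^ 3 - Y ^ 2 * Z - c W.a₃ * Y * Z ^ 2)
  have hC : ∀ r : k, MvPolynomial.finSuccEquiv k 2 (MvPolynomial.C r) = Polynomial.C (c r) := by
    intro r; simp [c, MvPolynomial.finSuccEquiv_apply]
  have h1 : MvPolynomial.finSuccEquiv k 2 (MvPolynomial.X 1) = Polynomial.C Y :=
    MvPolynomial.finSuccEquiv_X_succ (j := (0 : Fin 2))
  have h2 : MvPolynomial.finSuccEquiv k 2 (MvPolynomial.X 2) = Polynomial.C Z :=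
    MvPolynomial.finSuccEquiv_X_succ (j := (1 : Fin 2))
  have he : e (WeierstrassCurve.Projective.polynomial W) = -q := by
    show MvPolynomial.finSuccEquiv k 2 (WeierstrassCurve.Projective.polynomial W) = -q
    rw [WeierstrassCurve.Projective.polynomial]
    simp only [map_add, map_sub, map_mul, map_pow, h1, h2, hC, MvPolynomial.finSuccEquiv_X_zero, q]
    ring
  rw [he]
  refine (Associated.refl q).neg_right.irreducible ?_
  have hm : q.Monic := by unfold q; monicity!
  have hd : q.natDegree = 3 := by unfold q; compute_degree!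
  rw [Polynomial.Monic.irreducible_iff_roots_eq_zero_of_degree_le_three hm (by omega) (by omega),
    Multiset.eq_zero_iff_forall_notMem]
  intro r hr
  rw [Polynomial.mem_roots hm.ne_zero, Polynomial.IsRoot.def] at hr
  simp only [q, Polynomial.eval_add, Polynomial.eval_mul, Polynomial.eval_pow, Polynomial.eval_X,
    Polynomial.eval_C] at hr
  have hZ : Prime Z := MvPolynomial.X_prime
  have : Z ∣ r ^ 3 := ⟨-(c W.a₂ * r ^ 2 + (c W.a₄ * Z - c W.a₁ * Y) * r
      + (c W.a₆ * Z ^ 2 - Y ^ 2 - c W.a₃ * Y * Z)), by linear_combination hr⟩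
  obtain ⟨s, rfl⟩ := hZ.dvd_of_dvd_pow this
  have hy : Z * Y ^ 2 = Z * (Z * (Z * (s ^ 3 + c W.a₂ * s ^ 2 + c W.a₄ * s + c W.a₆)
      - c W.a₁ * Y * s - c W.a₃ * Y)) := by linear_combination -hr
  have hdvd : Z ∣ Y ^ 2 := ⟨_, mul_left_cancel₀ (MvPolynomial.X_ne_zero 1) hy⟩
  obtain ⟨w, hw⟩ := hZ.dvd_of_dvd_pow hdvd
  have := congrArg (MvPolynomial.eval ![(1 : k), 0]) hw
  simp [Y, Z] at this

end Groth.Agent.S19178
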