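import Groth.Statements.S19180
import Groth.Agent.Curves2.H1Zero.Basic
import Groth.Agent.Pn71.Cohomology
import Groth.Agent.QC70.PushGeneric

set_option autoImplicit false
set_option maxSynthPendingDepth 6
set_option linter.style.haveILetI false
set_option backward.isDefEq.respectTransparency.types false
universe u
open Coherent

namespace Groth.Agent.S19180

open CategoryTheory AlgebraicGeometry in
/-- Let R be a local ring and m ≥ 1, and consider the projective line P¹_R with its structure sheaf O
and twisting sheaf O(m). For every O-module F and every short exact sequence 0 → O(m) → F → O → 0 of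
O-modules, the surjection F → O admits a section; consequently F is isomorphic to O(m) ⊕ O. -/
theorem result (R : Type u) [CommRing R] [IsLocalRing R]
    (m : ℕ) (hm : 1 ≤ m) (F : (CohB1.ProjSpace 1 R).Modules)
    (i : Twist.twistProjSpace 1 R (m : ℤ) ⟶ F) (p : F ⟶ Coh.structureModule (CohB1.ProjSpace 1 R))
    (w : i ≫ p = 0) (hex : (ShortComplex.mk i p w).ShortExact) :
    ∃ s : Coh.structureModule (CohB1.ProjSpace 1 R) ⟶ F, s ≫ p = 𝟙 _ := by
  letI : (CohB1.ProjSpace 1 R).Over (Spec (CommRingCat.of R)) := ⟨CohB1.ProjSpace.toSpec 1 R⟩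
  have h1 : Subsingleton (Coh.HH (CohB1.ProjSpace 1 R) (Twist.twistProjSpace 1 R (m : ℤ)) 1) := by
    haveI := Groth.Agent.Pn71.subsingleton_supported_of_eq_empty (A := R) (n := 1)
      (S := Groth.Agent.Pn71.negCell (ι := Fin (1 + 1)) (m : ℤ)) (by
        refine Set.eq_empty_iff_forall_notMem.2 fun x hx => ?_
        have h0 := hx.2 0
        have h1 := hx.2 1
        have hd := hx.1
        rw [Groth.Agent.Pn71.deg, Fin.sum_univ_two] at hd
        omega)
    exact (Groth.Agent.Pn71.hhTopEquiv 1 R (m : ℤ) (fun h => absurd h one_ne_zero)).toEquiv.subsingleton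
  obtain ⟨t, ht⟩ := Groth.Agent.Curves2.H1Zero.surjective_app_top_of_h1 R hex h1
    ((Groth.Agent.QC70.toUnit (X := CohB1.ProjSpace 1 R) 1))
  refine ⟨Groth.Agent.QC70.unitHom t, (Groth.Agent.QC70.unitHom_comp t p).trans ?_⟩
  refine (congrArg Groth.Agent.QC70.unitHom ht).trans ?_
  refine Scheme.Modules.hom_ext _ _ fun V => ?_
  ext a
  exact (Groth.Agent.QC70.app_toUnit (𝟙 (Groth.Agent.QC70.unitMod (CohB1.ProjSpace 1 R))) a).symm

end Groth.Agent.S19180
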