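import Groth.Statements.S19181
import Mathlib.Algebra.Polynomial.AlgebraMap
import Mathlib.Tactic.Ring
import Mathlib.Tactic.ComputeDegree
import Mathlib.Algebra.Polynomial.Monic
import Mathlib.Algebra.MvPolynomial.Eval

set_option autoImplicit false
universe u
open CAlg

namespace Groth.Agent.S19181

open MvPolynomial in
/-- Let R be a commutative ring, a₁, a₂ ∈ R, and C ⊂ A²_R the curve y² + a₁xy = x³ + a₂x², blown up at
the section x = y = 0. In the chart where x = yα (variables y = X 0, α = X 1) the equation of C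
becomes y²·g₁ with g₁ = 1 + a₁α − yα³ − a₂α², and the y-saturation of the ideal (y²g₁) is (g₁): for
s ∈ R[y, α], some yⁿs lies in (y²g₁) if and only if s ∈ (g₁). In the chart where y = xβ (variables x
= X 0, β = X 1) the equation becomes x²·g₂ with g₂ = β² + a₁β − x − a₂, and some xⁿs lies in (x²g₂)
if and only if s ∈ (g₂). In other words the strict transform of C is cut out by g₁, resp. g₂, in the
two charts. -/
theorem result (R : Type u) [CommRing R] (a₁ a₂ : R) :
    (∀ s : MvPolynomial (Fin 2) R,
      (∃ n : ℕ, X 0 ^ n * s ∈ Ideal.span ({X 0 ^ 2 * (1 + C a₁ * X 1 - X 0 * X 1 ^ 3 - C a₂ * X 1 ^ 2)} :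
        Set (MvPolynomial (Fin 2) R))) ↔
      s ∈ Ideal.span ({1 + C a₁ * X 1 - X 0 * X 1 ^ 3 - C a₂ * X 1 ^ 2} : Set (MvPolynomial (Fin 2) R))) ∧
    (∀ s : MvPolynomial (Fin 2) R,
      (∃ n : ℕ, X 0 ^ n * s ∈ Ideal.span ({X 0 ^ 2 * (X 1 ^ 2 + C a₁ * X 1 - X 0 - C a₂)} :
        Set (MvPolynomial (Fin 2) R))) ↔
      s ∈ Ideal.span ({X 1 ^ 2 + C a₁ * X 1 - X 0 - C a₂} : Set (MvPolynomial (Fin 2) R))) := by
  classical
  let ε : MvPolynomial (Fin 2) R →ₐ[R] Polynomial R := aeval ![0, Polynomial.X]
  have hε : ∀ p : MvPolynomial (Fin 2) R, ∃ q, p = Polynomial.aeval (X 1) (ε p) + X 0 * q := by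
    intro p
    induction p using MvPolynomial.induction_on with
    | C a => exact ⟨0, by simp [ε]⟩
    | add p q hp hq =>
      obtain ⟨a, ha⟩ := hp
      obtain ⟨b, hb⟩ := hq
      refine ⟨a + b, ?_⟩
      conv_lhs => rw [ha, hb]
      rw [map_add, map_add]
      ring
    | mul_X p i hp =>
      obtain ⟨a, ha⟩ := hp
      fin_cases i
      · refine ⟨p, ?_⟩
        simp [ε, mul_comm]
      · refine ⟨a * X 1, ?_⟩
        conv_lhs => rw [ha]
        simp [ε]
        ring
  have hkey : ∀ g : MvPolynomial (Fin 2) R, (∀ u : Polynomial R, u * ε g = 0 → u = 0) →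
      ∀ s, (∃ n : ℕ, X 0 ^ n * s ∈ Ideal.span {X 0 ^ 2 * g}) ↔ s ∈ Ideal.span {g} := by
    intro g hg s
    constructor
    · rintro ⟨n, hn⟩
      have h1 : ∀ n, ∀ s, X 0 ^ n * s ∈ Ideal.span {g} → s ∈ Ideal.span {g} := by
        intro n
        induction n with
        | zero => intro s hs; simpa using hs
        | succ n ih =>
          intro s hs
          refine ih s ?_
          rw [Ideal.mem_span_singleton'] at hs ⊢
          obtain ⟨h, hh⟩ := hs
          have h0 : ε h = 0 := hg _ (by rw [← map_mul, hh]; simp [ε])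
          obtain ⟨q, hq⟩ := hε h
          rw [h0, map_zero, zero_add] at hq
          refine ⟨q, (X_mul_cancel_left_iff (i := (0 : Fin 2))).mp ?_⟩
          rw [← mul_assoc, ← hq, hh, pow_succ', mul_assoc]
      refine h1 n s ?_
      rw [Ideal.mem_span_singleton'] at hn ⊢
      obtain ⟨a, ha⟩ := hn
      exact ⟨a * X 0 ^ 2, by rw [mul_assoc, ha]⟩
    · intro hs
      refine ⟨2, ?_⟩
      rw [Ideal.mem_span_singleton'] at hs ⊢
      obtain ⟨a, rfl⟩ := hs
      exact ⟨a, by ring⟩
  refine ⟨hkey _ fun u hu => ?_, hkey _ fun u hu => ?_⟩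
  · simp only [ε, map_sub, map_add, map_mul, map_pow, map_one, aeval_C, aeval_X,
      Matrix.cons_val_zero, Matrix.cons_val_one, zero_mul, sub_zero,
      Polynomial.algebraMap_eq] at hu
    refine Polynomial.ext fun j => ?_
    rw [Polynomial.coeff_zero]
    induction j using Nat.strong_induction_on with
    | _ j ih =>
      have h := congrArg (fun q => Polynomial.coeff q j) hu
      simp only [Polynomial.coeff_mul, Polynomial.coeff_zero] at h
      rw [Finset.sum_eq_single (j, 0)] at h
      · simpa using h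
      · rintro ⟨a, b⟩ hab hne
        rw [Finset.mem_antidiagonal] at hab
        have : a < j := by
          rcases Nat.eq_zero_or_pos b with rfl | hb
          · simp_all
          · omega
        rw [ih a this, zero_mul]
      · simp
  · simp only [ε, map_sub, map_add, map_mul, map_pow, aeval_C, aeval_X,
      Matrix.cons_val_zero, Matrix.cons_val_one, sub_zero,
      Polynomial.algebraMap_eq] at hu
    have hm : (Polynomial.X ^ 2 + Polynomial.C a₁ * Polynomial.X - Polynomial.C a₂).Monic := by
      monicity!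
    exact hm.mul_left_eq_zero_iff.mp hu

end Groth.Agent.S19181
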