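import Groth.Statements.S19182
import Mathlib.RingTheory.Smooth.Basic
import Mathlib.RingTheory.Localization.Away.Basic
import Mathlib.Algebra.MvPolynomial.Equiv
import Mathlib.RingTheory.FinitePresentation
import Mathlib.Tactic.LinearCombination

set_option autoImplicit false
universe u
open CAlg

namespace Groth.Agent.S19182

open MvPolynomial in
/-- Let R be a commutative ring and a₁, a₂ ∈ R. The two affine charts of the blow-up of the plane curve
y² + a₁xy = x³ + a₂x² at the section x = y = 0, with coordinate rings R[y, α]/(1 + a₁α − yα³ − a₂α²)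
and R[x, β]/(β² + a₁β − x − a₂) (variables indexed 0 and 1 in this order), are smooth R-algebras
(formally smooth of finite presentation). This is the local computation behind the statement that
the blow-up of a Weierstrass curve along a section through its singular locus is a smooth proper
curve of genus 0. -/
theorem result (R : Type u) [CommRing R] (a₁ a₂ : R) :
    Algebra.Smooth R (MvPolynomial (Fin 2) R ⧸
      Ideal.span ({1 + C a₁ * X 1 - X 0 * X 1 ^ 3 - C a₂ * X 1 ^ 2} : Set (MvPolynomial (Fin 2) R))) ∧
    Algebra.Smooth R (MvPolynomial (Fin 2) R ⧸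
      Ideal.span ({X 1 ^ 2 + C a₁ * X 1 - X 0 - C a₂} : Set (MvPolynomial (Fin 2) R))) := by
  have hsm : Algebra.Smooth R (Polynomial R) := by
    have : Algebra.Smooth R (MvPolynomial Unit R) :=
      { formallySmooth := inferInstance, finitePresentation := inferInstance }
    exact Algebra.Smooth.of_equiv (MvPolynomial.uniqueAlgEquiv R Unit)
  constructor
  · let g : MvPolynomial (Fin 2) R := 1 + C a₁ * X 1 - X 0 * X 1 ^ 3 - C a₂ * X 1 ^ 2
    let Q := MvPolynomial (Fin 2) R ⧸ Ideal.span {g}
    let L := Localization.Away (Polynomial.X : Polynomial R)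
    have : Algebra.Smooth (Polynomial R) L := Algebra.Smooth.of_isLocalization_Away Polynomial.X
    have hL : Algebra.Smooth R L := Algebra.Smooth.comp R (Polynomial R) L
    let α : L := algebraMap (Polynomial R) L Polynomial.X
    let β : L := IsLocalization.Away.invSelf (Polynomial.X : Polynomial R)
    have hαβ : α * β = 1 := IsLocalization.Away.mul_invSelf (S := L) (Polynomial.X : Polynomial R)
    let φ : MvPolynomial (Fin 2) R →ₐ[R] L :=
      MvPolynomial.aeval ![(1 + algebraMap R L a₁ * α - algebraMap R L a₂ * α ^ 2) * β ^ 3, α]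
    have hφg : φ g = 0 := by
      simp only [φ, g, map_add, map_sub, map_mul, map_pow, map_one, MvPolynomial.aeval_C,
        MvPolynomial.aeval_X, Matrix.cons_val_zero, Matrix.cons_val_one]
      linear_combination -(1 + algebraMap R L a₁ * α - algebraMap R L a₂ * α ^ 2) *
        (1 + α * β + α ^ 2 * β ^ 2) * hαβ
    let f : Q →ₐ[R] L := Ideal.Quotient.liftₐ _ φ fun p hp => by
      obtain ⟨r, rfl⟩ := Ideal.mem_span_singleton'.mp hp
      rw [map_mul, hφg, mul_zero]
    let A1 : Q := Ideal.Quotient.mk _ (X 1)
    let Y : Q := Ideal.Quotient.mk _ (X 0)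
    have hrel : 1 + algebraMap R Q a₁ * A1 - Y * A1 ^ 3 - algebraMap R Q a₂ * A1 ^ 2 = 0 := by
      have h0 : Ideal.Quotient.mk (Ideal.span {g}) g = 0 :=
        Ideal.Quotient.eq_zero_iff_mem.mpr (Ideal.mem_span_singleton_self g)
      simp only [g, map_sub, map_add, map_mul, map_pow, map_one] at h0
      exact h0
    let μ : Polynomial R →ₐ[R] Q := Polynomial.aeval A1
    have hμ : ∀ y : Submonoid.powers (Polynomial.X : Polynomial R), IsUnit (μ y) := by
      rintro ⟨_, n, rfl⟩
      rw [map_pow]
      refine IsUnit.pow n (IsUnit.of_mul_eq_one (Y * A1 ^ 2 - algebraMap R Q a₁ + algebraMap R Q a₂ * A1) ?_)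
      simp only [μ, Polynomial.aeval_X]
      linear_combination -hrel
    let h : L →ₐ[R] Q := IsLocalization.liftAlgHom (M := Submonoid.powers (Polynomial.X : Polynomial R)) (f := μ) hμ
    have hh : ∀ p : Polynomial R, h (algebraMap (Polynomial R) L p) = μ p := fun p => by
      simp [h]
    have hfQ : ∀ p, f (Ideal.Quotient.mk _ p) = φ p := fun p => rfl
    have h1 : f.comp h = AlgHom.id R L := by
      refine AlgHom.coe_ringHom_injective
        (IsLocalization.ringHom_ext (Submonoid.powers (Polynomial.X : Polynomial R)) ?_)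
      refine Polynomial.ringHom_ext (fun r => ?_) ?_
      · show f (h (algebraMap (Polynomial R) L (Polynomial.C r))) = algebraMap (Polynomial R) L (Polynomial.C r)
        rw [hh, ← Polynomial.algebraMap_eq, ← IsScalarTower.algebraMap_apply, AlgHom.commutes, AlgHom.commutes]
      · show f (h α) = α
        simp only [α]
        rw [hh]
        simp only [μ, Polynomial.aeval_X, A1]
        rw [hfQ]
        simp [φ, α]
    have hβ : h β * A1 = 1 := by
      have h3 := congrArg h hαβ
      rw [map_mul, map_one, show h α = μ Polynomial.X from hh _, mul_comm] at h3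
      simpa [μ] using h3
    have h2 : h.comp f = AlgHom.id R Q := by
      refine Ideal.Quotient.algHom_ext _ (MvPolynomial.algHom_ext fun i => ?_)
      show h (f (Ideal.Quotient.mk _ (X i))) = Ideal.Quotient.mk _ (X i)
      rw [hfQ]
      have hA : h α = A1 := by rw [show h α = μ Polynomial.X from hh _]; simp [μ]
      fin_cases i
      · show h (φ (X 0)) = Y
        simp only [φ, MvPolynomial.aeval_X, Matrix.cons_val_zero, map_add, map_sub, map_mul,
          map_pow, map_one, AlgHom.commutes, hA]
        linear_combination (h β) ^ 3 * hrel +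
          Y * (1 + h β * A1 + (h β) ^ 2 * A1 ^ 2) * hβ
      · show h (φ (X 1)) = A1
        simp only [φ, MvPolynomial.aeval_X, Matrix.cons_val_one, Matrix.cons_val_fin_one, hA]
    exact Algebra.Smooth.of_equiv (AlgEquiv.ofAlgHom f h h1 h2).symm
  · let g : MvPolynomial (Fin 2) R := X 1 ^ 2 + C a₁ * X 1 - X 0 - C a₂
    let Q := MvPolynomial (Fin 2) R ⧸ Ideal.span {g}
    let φ : MvPolynomial (Fin 2) R →ₐ[R] Polynomial R := MvPolynomial.aeval
      ![Polynomial.X ^ 2 + Polynomial.C a₁ * Polynomial.X - Polynomial.C a₂, Polynomial.X]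
    have hφg : φ g = 0 := by simp [φ, g, Polynomial.algebraMap_eq]
    let f : Q →ₐ[R] Polynomial R := Ideal.Quotient.liftₐ _ φ fun p hp => by
      obtain ⟨r, rfl⟩ := Ideal.mem_span_singleton'.mp hp
      rw [map_mul, hφg, mul_zero]
    let h : Polynomial R →ₐ[R] Q := Polynomial.aeval (Ideal.Quotient.mk _ (X 1))
    have hfQ : ∀ p, f (Ideal.Quotient.mk _ p) = φ p := fun p => rfl
    have hrel : Ideal.Quotient.mk (Ideal.span {g}) g = 0 :=
      Ideal.Quotient.eq_zero_iff_mem.mpr (Ideal.mem_span_singleton_self g)
    have h1 : f.comp h = AlgHom.id R (Polynomial R) := by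
      refine Polynomial.algHom_ext ?_
      show f (Polynomial.aeval (Ideal.Quotient.mk _ (X 1)) Polynomial.X) = Polynomial.X
      rw [Polynomial.aeval_X, hfQ]
      simp [φ]
    have h2 : h.comp f = AlgHom.id R Q := by
      refine Ideal.Quotient.algHom_ext _ (MvPolynomial.algHom_ext fun i => ?_)
      show h (f (Ideal.Quotient.mk _ (X i))) = Ideal.Quotient.mk _ (X i)
      rw [hfQ]
      fin_cases i
      · simp only [g, map_sub, map_add, map_mul, map_pow] at hrel
        simp only [φ, h, MvPolynomial.aeval_X, Matrix.cons_val_zero, map_sub, map_add, map_mul,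
          map_pow, Polynomial.aeval_X, Polynomial.aeval_C]
        refine Eq.trans ?_ (sub_eq_zero.mp (show
          (Ideal.Quotient.mk (Ideal.span {g}) (X 1) ^ 2 +
            Ideal.Quotient.mk (Ideal.span {g}) (C a₁) * Ideal.Quotient.mk (Ideal.span {g}) (X 1) -
            Ideal.Quotient.mk (Ideal.span {g}) (C a₂)) - Ideal.Quotient.mk (Ideal.span {g}) (X 0) = 0 by
          linear_combination hrel))
        show Polynomial.aeval (Ideal.Quotient.mk (Ideal.span {g}) (X 1))
          (Polynomial.X ^ 2 + Polynomial.C a₁ * Polynomial.X - Polynomial.C a₂) = _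
        simp only [map_add, map_sub, map_mul, map_pow, Polynomial.aeval_X, Polynomial.aeval_C]
        rfl
      · simp [φ, h]
    exact Algebra.Smooth.of_equiv (AlgEquiv.ofAlgHom f h h1 h2).symm

end Groth.Agent.S19182
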