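import Groth.Statements.S19183
import Mathlib.LinearAlgebra.Dimension.Free
import Mathlib.LinearAlgebra.Dimension.Constructions
import Mathlib.LinearAlgebra.FreeModule.StrongRankCondition
import Mathlib.Tactic.LinearCombination
import Mathlib.RingTheory.Ideal.Span
import Mathlib.LinearAlgebra.Finsupp.Pi

set_option autoImplicit false
universe u
open CAlg

namespace Groth.Agent.S19183

/-- Let A be a non-zero commutative ring and f ∈ A a non-zero-divisor. The fibre product A ×_{A/(f)} A
of two copies of A over A/(f) — the A-submodule of A × A of pairs (x, y) with x − y ∈ (f), which is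
the coordinate ring of two copies of Spec A glued along the Cartier divisor f = 0 — is a free
A-module of rank 2. (This is what makes the gluing of two copies of a curve along an effective
Cartier divisor finite locally free of degree 2 over the curve.) -/
theorem result (A : Type u) [CommRing A] [Nontrivial A]
    (f : A) (hf : f ∈ nonZeroDivisors A) :
    Module.Free A (Submodule.comap (LinearMap.fst A A A - LinearMap.snd A A A) (Ideal.span ({f} : Set A))) ∧
      Module.finrank A (Submodule.comap (LinearMap.fst A A A - LinearMap.snd A A A) (Ideal.span ({f} : Set A))) = 2 := by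
  let φ : A × A →ₗ[A] A × A :=
    { toFun := fun p => (p.1, p.1 - f * p.2)
      map_add' := fun p q => by ext <;> simp [mul_add]; ring
      map_smul' := fun c p => by ext <;> simp [mul_sub]; ring }
  have hφinj : Function.Injective φ := by
    intro p q h
    obtain ⟨h1, h2⟩ : p.1 = q.1 ∧ p.1 - f * p.2 = q.1 - f * q.2 := Prod.mk.inj h
    refine Prod.ext h1 (sub_eq_zero.mp ((mul_left_mem_nonZeroDivisors_eq_zero_iff hf).mp ?_))
    linear_combination h1 - h2
  have hrange : LinearMap.range φ =
      Submodule.comap (LinearMap.fst A A A - LinearMap.snd A A A) (Ideal.span ({f} : Set A)) := by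
    ext p
    rw [Submodule.mem_comap, Ideal.mem_span_singleton', LinearMap.mem_range]
    constructor
    · rintro ⟨q, rfl⟩
      exact ⟨q.2, by simp [φ]; ring⟩
    · rintro ⟨c, hc⟩
      refine ⟨(p.1, c), Prod.ext rfl ?_⟩
      show p.1 - f * c = p.2
      have hc' : c * f = p.1 - p.2 := hc
      linear_combination -hc'
  let e := (LinearEquiv.ofInjective φ hφinj).trans (LinearEquiv.ofEq _ _ hrange)
  exact ⟨Module.Free.of_equiv e, by rw [← e.finrank_eq, Module.finrank_prod, Module.finrank_self]⟩

end Groth.Agent.S19183
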