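import Groth.Statements.S19184
import Mathlib.Algebra.Polynomial.Div
import Mathlib.RingTheory.Finiteness.Basic
import Mathlib.LinearAlgebra.Dimension.Free
import Mathlib.RingTheory.AdjoinRoot

set_option autoImplicit false
universe u
open CAlg

namespace Groth.Agent.S19184

open Polynomial in
/-- Let S be a commutative ring, a, b ∈ S, f = x² + ax + b ∈ S[x] and R = S[x]/(f), a free S-algebra of
rank 2. Let A ⊂ S[x] be the S-subalgebra of polynomials whose class in R lies in the image of S → R;
it is the fibre product S[x] ×_R S, the coordinate ring of the affine line over S with the degree-2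
subscheme Spec R collapsed onto Spec S. Then A is a free S-module and S[x] is a finitely generated
A-module. -/
theorem result (S : Type u) [CommRing S] (a b : S) :
    Module.Free S ((⊥ : Subalgebra S (S[X] ⧸ Ideal.span ({X ^ 2 + C a * X + C b} : Set S[X]))).comap
        (Ideal.Quotient.mkₐ S (Ideal.span ({X ^ 2 + C a * X + C b} : Set S[X])))) ∧
      Module.Finite ((⊥ : Subalgebra S (S[X] ⧸ Ideal.span ({X ^ 2 + C a * X + C b} : Set S[X]))).comap
        (Ideal.Quotient.mkₐ S (Ideal.span ({X ^ 2 + C a * X + C b} : Set S[X])))) S[X] := by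
  classical
  set f : S[X] := X ^ 2 + C a * X + C b
  have hf : f.Monic := by simp only [f]; monicity!
  set T := (⊥ : Subalgebra S (S[X] ⧸ Ideal.span ({f} : Set S[X]))).comap
    (Ideal.Quotient.mkₐ S (Ideal.span ({f} : Set S[X])))
  have hmem : ∀ p : S[X], p ∈ T ↔ ∃ (c : S) (q : S[X]), p = C c + q * f := by
    intro p
    show (Ideal.Quotient.mkₐ S (Ideal.span {f})) p ∈ (⊥ : Subalgebra S _) ↔ _
    rw [Algebra.mem_bot, Set.mem_range]
    refine exists_congr fun c => ?_
    rw [← AlgHom.commutes (Ideal.Quotient.mkₐ S (Ideal.span {f})) c, eq_comm,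
      Ideal.Quotient.mkₐ_eq_mk, Ideal.Quotient.eq, Ideal.mem_span_singleton']
    refine exists_congr fun q => ⟨fun h => ?_, fun h => ?_⟩
    · rw [h, Polynomial.algebraMap_eq]; ring
    · rw [h, Polynomial.algebraMap_eq]; ring
  constructor
  · let φ : (S × S[X]) →ₗ[S] T :=
      { toFun := fun z => ⟨C z.1 + z.2 * f, (hmem _).mpr ⟨z.1, z.2, rfl⟩⟩
        map_add' := fun z w => Subtype.ext (by simp; ring)
        map_smul' := fun s z => Subtype.ext (by simp [Polynomial.smul_eq_C_mul]; ring) }
    have hinj : Function.Injective φ := by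
      rw [injective_iff_map_eq_zero]
      rintro ⟨c, q⟩ hz
      have h0 : C c + q * f = 0 := congrArg Subtype.val hz
      nontriviality S
      have hq : q = 0 := by
        by_contra hq
        have h1 : (q * f).natDegree = q.natDegree + 2 := by
          rw [mul_comm, hf.natDegree_mul' hq, Nat.add_comm, show f.natDegree = 2 by simp only [f]; compute_degree!]
        rw [eq_neg_of_add_eq_zero_right h0, natDegree_neg, natDegree_C] at h1
        omega
      subst hq
      rw [zero_mul, add_zero, C_eq_zero] at h0
      rw [h0]; rfl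
    have hsurj : Function.Surjective φ := fun t => by
      obtain ⟨c, q, hq⟩ := (hmem _).mp t.2
      exact ⟨(c, q), Subtype.ext hq.symm⟩
    exact Module.Free.of_equiv (LinearEquiv.ofBijective φ ⟨hinj, hsurj⟩)
  · refine Module.Finite.of_fg_top ⟨{1, X}, eq_top_iff.mpr fun p _ => ?_⟩
    nontriviality S
    have hdeg : (p %ₘ f).natDegree < 2 := by
      have := natDegree_modByMonic_lt p hf (fun h => by
        have := congrArg natDegree h
        rw [show f.natDegree = 2 by simp only [f]; compute_degree!] at this
        simp at this)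
      rwa [show f.natDegree = 2 by simp only [f]; compute_degree!] at this
    have hr := Polynomial.eq_X_add_C_of_natDegree_le_one (p := p %ₘ f) (by omega)
    have hp : p = (p /ₘ f) * f + (C ((p %ₘ f).coeff 1) * X + C ((p %ₘ f).coeff 0)) := by
      rw [← hr, mul_comm, add_comm]; exact (modByMonic_add_div p f).symm
    rw [Finset.coe_pair, Submodule.mem_span_pair]
    refine ⟨⟨C ((p %ₘ f).coeff 0) + (p /ₘ f) * f, (hmem _).mpr ⟨_, _, rfl⟩⟩,
      ⟨C ((p %ₘ f).coeff 1), (hmem _).mpr ⟨(p %ₘ f).coeff 1, 0, by simp⟩⟩, ?_⟩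
    show (C ((p %ₘ f).coeff 0) + (p /ₘ f) * f) * 1 + C ((p %ₘ f).coeff 1) * X = p
    conv_rhs => rw [hp]
    ring

end Groth.Agent.S19184
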