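import Groth.Statements.S19185
import Groth.Agent.Curves2.SmoothHyper
import Mathlib.RingTheory.Polynomial.Resultant.Basic

set_option autoImplicit false
universe u
open Curves

namespace Groth.Agent.S19185

/-- Let k be a field, n ≥ 3, q a binary quadratic form and ξ a binary form of degree n over k, given by
coefficient vectors (q_i the coefficient of x^i y^(2−i), ξ_j that of x^j y^(n−j)), not both zero.
The pair (q, ξ) is a global section of O(2) ⊕ O(n) on P¹_k, i.e. of the line bundle of class e + nf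
on the Hirzebruch surface F_{n−2} = P(O ⊕ O(n−2)) → P¹_k, and cuts out the curve W : q·u + ξ·v = 0
there ([u : v] the fibre coordinates). Over the two standard opens of P¹ (t = x/y, s = y/x) and the
two opens u ≠ 0, v ≠ 0 of the fibres, W is covered by four affine charts with coordinate rings k[t,
w]/(q(t,1) + ξ(t,1)·w), k[t, w]/(q(t,1)·w + ξ(t,1)), k[s, w]/(q(1,s) + ξ(1,s)·w) and k[s,
w]/(q(1,s)·w + ξ(1,s)) (variables indexed 0 for t or s and 1 for w). Then W is smooth over k — all
four chart algebras are smooth k-algebras — if and only if the resultant of q and ξ (the Sylvester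
determinant of the two coefficient vectors with size parameters 2 and n) is nonzero. (The published
statement is over a general base scheme B, for a section (q, ξ) vanishing on no fibre, with 'the
resultant is a unit on B' in place of 'nonzero'; its proof reduces at once to the statement over a
field given here, which is the case B = Spec k.) -/
theorem result (k : Type u) [Field k] (n : ℕ) (hn : 3 ≤ n)
    (q : Fin 3 → k) (ξ : Fin (n + 1) → k) (hqξ : q ≠ 0 ∨ ξ ≠ 0) :
    (Algebra.Smooth k (MvPolynomial (Fin 2) k ⧸ Ideal.span ({(∑ i : Fin 3, MvPolynomial.C (q i) * MvPolynomial.X 0 ^ (i : ℕ)) + (∑ j : Fin (n + 1), MvPolynomial.C (ξ j) * MvPolynomial.X 0 ^ (j : ℕ)) * MvPolynomial.X 1} : Set (MvPolynomial (Fin 2) k))) ∧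
      Algebra.Smooth k (MvPolynomial (Fin 2) k ⧸ Ideal.span ({(∑ i : Fin 3, MvPolynomial.C (q i) * MvPolynomial.X 0 ^ (i : ℕ)) * MvPolynomial.X 1 + (∑ j : Fin (n + 1), MvPolynomial.C (ξ j) * MvPolynomial.X 0 ^ (j : ℕ))} : Set (MvPolynomial (Fin 2) k))) ∧
      Algebra.Smooth k (MvPolynomial (Fin 2) k ⧸ Ideal.span ({(∑ i : Fin 3, MvPolynomial.C (q i) * MvPolynomial.X 0 ^ (2 - (i : ℕ))) + (∑ j : Fin (n + 1), MvPolynomial.C (ξ j) * MvPolynomial.X 0 ^ (n - (j : ℕ))) * MvPolynomial.X 1} : Set (MvPolynomial (Fin 2) k))) ∧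
      Algebra.Smooth k (MvPolynomial (Fin 2) k ⧸ Ideal.span ({(∑ i : Fin 3, MvPolynomial.C (q i) * MvPolynomial.X 0 ^ (2 - (i : ℕ))) * MvPolynomial.X 1 + (∑ j : Fin (n + 1), MvPolynomial.C (ξ j) * MvPolynomial.X 0 ^ (n - (j : ℕ)))} : Set (MvPolynomial (Fin 2) k)))) ↔
    Polynomial.resultant (∑ i : Fin 3, Polynomial.C (q i) * Polynomial.X ^ (i : ℕ))
      (∑ j : Fin (n + 1), Polynomial.C (ξ j) * Polynomial.X ^ (j : ℕ)) 2 n ≠ 0 := by
  have hM : ∀ (N : ℕ) (c : Fin (N + 1) → k) (e : Fin (N + 1) → ℕ),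
      (∑ i, MvPolynomial.C (c i) * (MvPolynomial.X (0 : Fin 2)) ^ e i) =
        Polynomial.aeval (MvPolynomial.X (0 : Fin 2) : MvPolynomial (Fin 2) k)
          (∑ i, Polynomial.C (c i) * Polynomial.X ^ e i) := fun N c e => by
    simp [map_sum]
  have hne : ∀ (N : ℕ) (c : Fin (N + 1) → k) (e : Fin (N + 1) → ℕ), Function.Injective e →
      (∑ i, Polynomial.C (c i) * Polynomial.X ^ e i) = 0 → c = 0 := fun N c e he h => by
    funext i
    have := congrArg (fun p => p.coeff (e i)) h
    simp only [Polynomial.finsetSum_coeff, Polynomial.coeff_C_mul_X_pow, he.eq_iff, Polynomial.coeff_zero,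
      Finset.sum_ite_eq, Finset.mem_univ, if_true] at this
    exact this
  have h1 : Function.Injective fun i : Fin 3 => (i : ℕ) := Fin.val_injective
  have h2 : Function.Injective fun j : Fin (n + 1) => (j : ℕ) := Fin.val_injective
  have h3 : Function.Injective fun i : Fin 3 => 2 - (i : ℕ) := fun a b h => Fin.ext (by simp at h; omega)
  have h4 : Function.Injective fun j : Fin (n + 1) => n - (j : ℕ) := fun a b h => Fin.ext (by simp at h; omega)
  rw [hM 2 q (fun i => (i : ℕ)), hM n ξ (fun i => (i : ℕ)), hM 2 q (fun i => 2 - (i : ℕ)),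
    hM n ξ (fun i => n - (i : ℕ)), ← and_assoc,
    Curves2.smooth_pair_iff _ _ (hqξ.imp (fun h e => h (hne 2 q _ h1 e)) (fun h e => h (hne n ξ _ h2 e))),
    Curves2.smooth_pair_iff _ _ (hqξ.imp (fun h e => h (hne 2 q _ h3 e)) (fun h e => h (hne n ξ _ h4 e))),
    Curves2.coprime_charts_iff (M := 2) q ξ,
    Curves2.resultant_ne_zero_iff (Curves2.coeff_sum_fin (N := 2) q).2.2 (Curves2.coeff_sum_fin ξ).2.2
      (by omega) (by omega),
    (Curves2.coeff_sum_fin (N := 2) q).1, (Curves2.coeff_sum_fin ξ).1]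

end Groth.Agent.S19185
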