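import Groth.Statements.S19186
import Mathlib.RingTheory.Coprime.Lemmas

set_option autoImplicit false
universe u
open OneMot

namespace Groth.Agent.S19186

/-- Let p and ℓ be distinct prime numbers, r and n natural numbers, and f : A → B a homomorphism of
abelian groups whose kernel and cokernel are annihilated by p^r (f a = 0 implies p^r • a = 0, and
every p^r • b lies in the image of f). Then f induces a bijection between the ℓ^n-torsion subgroups
of A and B and a bijection A/ℓ^n A → B/ℓ^n B. Spelled out without quotients: every ℓ^n-torsion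
element of B has exactly one ℓ^n-torsion preimage; an element of A whose image is an ℓ^n-multiple is
itself an ℓ^n-multiple; and every element of B is the sum of an image and an ℓ^n-multiple. -/
theorem result {A B : Type u} [AddCommGroup A] [AddCommGroup B] (f : A →+ B) (p ℓ r n : ℕ) (hp : p.Prime) (hl : ℓ.Prime) (hne : ℓ ≠ p) (hker : ∀ a : A, f a = 0 → p ^ r • a = 0) (hcoker : ∀ b : B, ∃ a : A, f a = p ^ r • b) : (∀ b : B, ℓ ^ n • b = 0 → ∃! a : A, ℓ ^ n • a = 0 ∧ f a = b) ∧ (∀ a : A, (∃ b' : B, f a = ℓ ^ n • b') → ∃ a' : A, a = ℓ ^ n • a') ∧ (∀ b : B, ∃ (a : A) (b' : B), b = f a + ℓ ^ n • b') := by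
  have hco : Nat.Coprime (p ^ r) (ℓ ^ n) :=
    Nat.Coprime.pow _ _ ((Nat.coprime_primes hp hl).mpr (Ne.symm hne))
  obtain ⟨u, v, huv⟩ : ∃ u v : ℤ, u * (p ^ r : ℕ) + v * (ℓ ^ n : ℕ) = 1 :=
    ⟨Nat.gcdA (p ^ r) (ℓ ^ n), Nat.gcdB (p ^ r) (ℓ ^ n), by
      have h := Nat.gcd_eq_gcd_ab (p ^ r) (ℓ ^ n)
      rw [hco.gcd_eq_one] at h
      rw [mul_comm, mul_comm (Nat.gcdB _ _), ← h, Nat.cast_one]⟩
  have dec : ∀ {G : Type u} [AddCommGroup G] (x : G), x = u • (p ^ r • x) + v • (ℓ ^ n • x) := by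
    intro G _ x
    rw [← natCast_zsmul, ← natCast_zsmul, smul_smul, smul_smul, ← add_smul, huv, one_smul]
  refine ⟨?_, ?_, ?_⟩
  · intro b hb
    obtain ⟨a, ha⟩ := hcoker b
    have h1 : f (ℓ ^ n • a) = 0 := by rw [map_nsmul, ha, smul_comm, hb, smul_zero]
    have h2 := hker _ h1
    refine ⟨u • (p ^ r • (u • a)), ⟨?_, ?_⟩, ?_⟩
    · rw [smul_comm (ℓ ^ n) u, smul_comm (p ^ r) u, smul_comm (ℓ ^ n) u, smul_comm (ℓ ^ n) (p ^ r),
        h2, smul_zero, smul_zero]
    · have e1 : b = u • (p ^ r • b) := by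
        conv_lhs => rw [dec b, hb, smul_zero, add_zero]
      rw [map_zsmul, map_nsmul, map_zsmul, ha, ← e1, ← e1]
    · rintro a' ⟨ha', hfa'⟩
      set a₀ := u • (p ^ r • (u • a)) with ha₀
      have hl0 : ℓ ^ n • a₀ = 0 := by
        rw [ha₀, smul_comm (ℓ ^ n) u, smul_comm (p ^ r) u, smul_comm (ℓ ^ n) u,
          smul_comm (ℓ ^ n) (p ^ r), h2, smul_zero, smul_zero]
      have hf0 : f a₀ = b := by
        have e1 : b = u • (p ^ r • b) := by
          conv_lhs => rw [dec b, hb, smul_zero, add_zero]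
        rw [ha₀, map_zsmul, map_nsmul, map_zsmul, ha, ← e1, ← e1]
      have h3 : p ^ r • (a' - a₀) = 0 := hker _ (by rw [map_sub, hfa', hf0, sub_self])
      have h4 := dec (a' - a₀)
      rw [h3, smul_zero, zero_add, smul_sub, ha', hl0, sub_self, smul_zero, sub_eq_zero] at h4
      exact h4
  · rintro a ⟨b', hb'⟩
    obtain ⟨a₁, ha₁⟩ := hcoker b'
    have h1 : p ^ r • (p ^ r • a - ℓ ^ n • a₁) = 0 :=
      hker _ (by rw [map_sub, map_nsmul, map_nsmul, hb', ha₁, smul_comm, sub_self])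
    rw [smul_sub, sub_eq_zero, smul_comm (p ^ r) (ℓ ^ n)] at h1
    refine ⟨u • u • (p ^ r • a₁) + u • (p ^ r • (v • a)) + v • a, ?_⟩
    have h5 : a = u • (p ^ r • (u • (p ^ r • a) + v • (ℓ ^ n • a))) + v • (ℓ ^ n • a) := by
      rw [← dec a]; exact dec a
    conv_lhs => rw [h5]
    simp only [smul_add, smul_comm (p ^ r) u, smul_comm (ℓ ^ n) u, smul_comm (ℓ ^ n) v,
      smul_comm (p ^ r) v, h1, smul_comm (p ^ r) (ℓ ^ n)]
  · intro b
    obtain ⟨a, ha⟩ := hcoker b
    refine ⟨u • a, v • b, ?_⟩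
    rw [map_zsmul, ha, smul_comm (ℓ ^ n) v]
    exact dec b

end Groth.Agent.S19186
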