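import Mathlib

universe u

open CategoryTheory AlgebraicGeometry

namespace Groth.Agent.S19187

theorem result {k : Type u} [Field k] {X Y Xb Yb : Scheme.{u}} (a : Xb ⟶ Spec (CommRingCat.of k)) (b : Yb ⟶ Spec (CommRingCat.of k)) [IsProper a] [IsProper b] (j : X ⟶ Xb) [IsOpenImmersion j] (hj : Dense (Set.range j.base)) (v : Y ⟶ Yb) [IsOpenImmersion v] (f : X ⟶ Y) [IsProper f] (fb : Xb ⟶ Yb) (hfb : fb ≫ b = a) (hsq : j ≫ fb = f ≫ v) : fb ⁻¹ᵁ v.opensRange = j.opensRange := by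
  have hle : j.opensRange ≤ fb ⁻¹ᵁ v.opensRange := by
    rintro _ ⟨x, rfl⟩
    refine ⟨f x, ?_⟩
    change v (f x) = fb (j x)
    rw [← Scheme.Hom.comp_apply, ← hsq, Scheme.Hom.comp_apply]
  let W := fb ⁻¹ᵁ v.opensRange
  let j' : X ⟶ W.toScheme := IsOpenImmersion.lift W.ι j (by rw [W.range_ι]; exact hle)
  have hj' : j' ≫ W.ι = j := IsOpenImmersion.lift_fac _ _ _
  let g : W.toScheme ⟶ Y := IsOpenImmersion.lift v (W.ι ≫ fb) (by
    rintro _ ⟨w, rfl⟩
    exact w.2)
  have hg : g ≫ v = W.ι ≫ fb := IsOpenImmersion.lift_fac _ _ _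
  have hf : j' ≫ g = f := by
    rw [← cancel_mono v, Category.assoc, hg, ← Category.assoc, hj', hsq]
  haveI : IsSeparated (fb ≫ b) := by rw [hfb]; infer_instance
  haveI : IsSeparated fb := IsSeparated.of_comp fb b
  haveI : IsSeparated (g ≫ v) := by rw [hg]; infer_instance
  haveI : IsSeparated g := IsSeparated.of_comp g v
  haveI : IsProper (j' ≫ g) := by rw [hf]; infer_instance
  haveI : IsProper j' := IsProper.of_comp j' g
  have hcl : IsClosed (Set.range j') := j'.isClosedMap.isClosed_range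
  have hd : Dense (Set.range j') := by
    have h1 : Dense (W.ι ⁻¹' Set.range j) := hj.preimage W.ι.isOpenEmbedding.isOpenMap
    refine h1.mono ?_
    rintro w ⟨x, hx⟩
    refine ⟨x, W.ι.isOpenEmbedding.injective ?_⟩
    rw [← Scheme.Hom.comp_apply, hj', hx]
  refine le_antisymm (fun z hz => ?_) hle
  obtain ⟨x, hx⟩ : (⟨z, hz⟩ : W.toScheme) ∈ Set.range j' := by
    rw [← hcl.closure_eq, hd.closure_eq]; trivial
  refine ⟨x, ?_⟩
  rw [← hj', Scheme.Hom.comp_apply, hx]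
  rfl

end Groth.Agent.S19187
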