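import Groth.Statements.S19195
import Groth.Agent.RelReg52.Model

set_option autoImplicit false
universe u
open TensorProduct
open RelS1

namespace Groth.Agent.S19195

/-- Let A be a commutative ring, B a finitely presented A-algebra and M a finitely presented B-module
which is flat over A. Suppose that for every prime p of A, with residue field κ(p), the fibre module
(B ⊗_A κ(p)) ⊗_B M over the fibre ring B ⊗_A κ(p) satisfies Serre's condition (S_1) in the form:
each of its associated primes is a minimal prime of its annihilator. Let a be an element of B whose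
image a ⊗ 1 in every fibre ring B ⊗_A κ(p) lies in no minimal prime of the annihilator of the fibre
module. Then a is a non-zero-divisor on M. (Since all hypotheses are preserved by base change of A
and by passing to affine opens, this expresses that a flat finitely presented sheaf with (S_1)
fibres is pure relative to the base after every base change. The published statement is an
equivalence for sheaves on a locally finitely presented morphism, quantified over all base changes;
this row states its direct implication in affine form.) -/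
theorem result (A B M : Type u) [CommRing A] [CommRing B] [Algebra A B]
    [Algebra.FinitePresentation A B] [AddCommGroup M] [Module B M] [Module A M]
    [IsScalarTower A B M] [Module.FinitePresentation B M] [Module.Flat A M]
    (hS1 : ∀ (p : Ideal A) [p.IsPrime],
      associatedPrimes (B ⊗[A] p.ResidueField) ((B ⊗[A] p.ResidueField) ⊗[B] M) ⊆
        (Module.annihilator (B ⊗[A] p.ResidueField) ((B ⊗[A] p.ResidueField) ⊗[B] M)).minimalPrimes)
    (a : B)
    (ha : ∀ (p : Ideal A) [p.IsPrime],
      ∀ P ∈ (Module.annihilator (B ⊗[A] p.ResidueField) ((B ⊗[A] p.ResidueField) ⊗[B] M)).minimalPrimes,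
        a ⊗ₜ[A] (1 : p.ResidueField) ∉ P) :
    IsSMulRegular M a := by
  classical
  obtain ⟨n, K, ε, hK⟩ := Module.FinitePresentation.exists_fin B M
  obtain ⟨m, v, hv⟩ := Submodule.fg_iff_exists_fin_generating_family.mp hK
  obtain ⟨A₀, B₀, _, _, e, hnoeth, hfp, hsub⟩ :=
    Cons62.exists_model (A := A) (B := B)
      ((Set.finite_range fun p : Fin m × Fin n => v p.1 p.2).insert a)
  choose v₀ hv₀ using fun k i => hsub (Or.inr ⟨(k, i), rfl⟩)
  obtain ⟨a₀, ha₀⟩ := hsub (Or.inl rfl)
  letI : Algebra B₀ B :=
    ((e.toAlgHom.restrictScalars A₀).comp Algebra.TensorProduct.includeRight).toRingHom.toAlgebra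
  haveI : IsScalarTower A₀ B₀ B := IsScalarTower.of_algebraMap_eq fun a =>
    (((e.toAlgHom.restrictScalars A₀).comp Algebra.TensorProduct.includeRight).commutes a).symm
  have hp₀ : Algebra.IsPushout A₀ A B₀ B := by
    letI : Algebra B₀ (A ⊗[A₀] B₀) := Algebra.TensorProduct.rightAlgebra
    haveI : IsScalarTower A₀ B₀ (A ⊗[A₀] B₀) := Algebra.TensorProduct.right_isScalarTower
    haveI : Algebra.IsPushout A₀ A B₀ (A ⊗[A₀] B₀) := TensorProduct.isPushout
    exact Algebra.IsPushout.of_equiv (R := A₀) (R' := A) (S := B₀) (S' := A ⊗[A₀] B₀) e (RingHom.ext fun _ => rfl)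
  haveI := hp₀
  let M₀ := (Fin n → B₀) ⧸ Submodule.span B₀ (Set.range v₀)
  obtain ⟨eM⟩ := FlatStage64.exists_module_model (B₀ := B₀) (ε.symm.toLinearMap ∘ₗ K.mkQ)
    (ε.symm.surjective.comp K.mkQ_surjective) v
    (by rw [LinearEquiv.ker_comp, Submodule.ker_mkQ, hv]) v₀ hv₀
  refine Groth.Agent.RelReg52.isSMulRegular_of_model (A₀ := A₀) (A := A) eM a₀ a ha₀ fun p hp => ?_
  haveI : IsNoetherianRing (p.ResidueField ⊗[A] B) :=
    Algebra.FiniteType.isNoetherianRing p.ResidueField (p.ResidueField ⊗[A] B)
  haveI : IsNoetherianRing (B ⊗[A] p.ResidueField) :=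
    isNoetherianRing_of_ringEquiv _ (Algebra.TensorProduct.comm A p.ResidueField B).toRingEquiv
  have hu := biUnion_associatedPrimes_eq_compl_regular (B ⊗[A] p.ResidueField)
    ((B ⊗[A] p.ResidueField) ⊗[B] M)
  have h1 : ((a ⊗ₜ[A] (1 : p.ResidueField)) : B ⊗[A] p.ResidueField) ∉
      ⋃ P ∈ associatedPrimes (B ⊗[A] p.ResidueField) ((B ⊗[A] p.ResidueField) ⊗[B] M),
        (P : Set (B ⊗[A] p.ResidueField)) := by
    simp only [Set.mem_iUnion, not_exists]
    exact fun P hP => ha p P (hS1 p hP)
  rw [hu] at h1
  simpa using h1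

end Groth.Agent.S19195
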