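import Groth.Statements.S19196
import Mathlib.Tactic

set_option autoImplicit false
universe u
open RelS1

namespace Groth.Agent.S19196

/-- Let R be a Noetherian commutative ring and N a finitely generated R-module which fails Serre's
condition (S_1), in the sense that some associated prime of N is not a minimal prime of the
annihilator of N. Then there exist an element a of R lying in no minimal prime of the annihilator of
N and a nonzero element b of N with a • b = 0; thus the basic open set D(a) meets the support of N
densely while restriction to it is not injective on N. -/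
theorem result (R N : Type u) [CommRing R] [IsNoetherianRing R]
    [AddCommGroup N] [Module R N] [Module.Finite R N]
    (h : ¬ associatedPrimes R N ⊆ (Module.annihilator R N).minimalPrimes) :
    ∃ (a : R) (b : N), (∀ P ∈ (Module.annihilator R N).minimalPrimes, a ∉ P) ∧ b ≠ 0 ∧ a • b = 0 := by
  obtain ⟨P, hP, hPn⟩ := Set.not_subset.mp h
  have hfin := Ideal.finite_minimalPrimes_of_isNoetherianRing R (Module.annihilator R N)
  obtain ⟨hPp, b, hb⟩ := isAssociatedPrime_iff.mp hP
  have hnsub : ¬ ((P : Set R) ⊆ ⋃ Q ∈ (Module.annihilator R N).minimalPrimes, (Q : Set R)) := by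
    intro hsub
    obtain ⟨Q, hQ, hPQ⟩ := (Ideal.subset_union_prime_finite hfin (f := id) ⊥ ⊥ fun i hi _ _ => hi.1.1).mp hsub
    have hann : Module.annihilator R N ≤ P := by
      rw [hb]
      intro r hr
      simpa [Submodule.mem_colon_singleton] using Module.mem_annihilator.mp hr b
    have hle : P ≤ Q := hPQ
    exact hPn (le_antisymm hle (hQ.2 ⟨hPp, hann⟩ hle) ▸ hQ)
  obtain ⟨a, haP, hau⟩ := Set.not_subset.mp hnsub
  refine ⟨a, b, fun Q hQ haQ => hau (Set.mem_iUnion₂.mpr ⟨Q, hQ, haQ⟩), ?_, ?_⟩
  · rintro rfl
    apply hPp.ne_top
    rw [hb, Ideal.eq_top_iff_one]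
    simp [Submodule.mem_colon_singleton]
  · rw [hb] at haP
    simpa [Submodule.mem_colon_singleton] using haP

end Groth.Agent.S19196
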