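import Groth.Statements.S19203
import Groth.Agent.NefVan72.Basic

set_option autoImplicit false
universe u
open CategoryTheory AlgebraicGeometry
open Coh

namespace Groth.Agent.S19203

/-- Let X be a scheme proper over a field k with dim X = r, and L an invertible O_X-module generated by
its global sections. Then for each i ≥ 1 the dimensions dim_k H^i(X, L^{⊗n}) are O(n^{r-1}): there
is a real constant C with dim_k H^i(X, L^{⊗n}) ≤ C·n^{r-1} for every n ≥ 1. (For r = 0 the exponent
r − 1 is read as 0; k is any field.) -/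
theorem result (k : Type u) [Field k] (X : Scheme.{u})
    [X.Over (Spec (CommRingCat.of k))] [IsProper (X ↘ (Spec (CommRingCat.of k)))]
    (r : ℕ) (hdim : topologicalKrullDim X = r)
    (L : X.Modules) (hL : PicF.IsInvertible L) (hgen : Curv2.IsGloballyGenerated L)
    (i : ℕ) (hi : 1 ≤ i) :
    ∃ C : ℝ, ∀ n : ℕ, 1 ≤ n →
      (Module.finrank k (Coh.HH X (CohB1.tensorPow L n) i) : ℝ) ≤ C * (n : ℝ) ^ (r - 1) := by
  obtain ⟨i, rfl⟩ : ∃ j, i = j + 1 := ⟨i - 1, by omega⟩
  have : CompactSpace X := QuasiCompact.compactSpace_of_compactSpace (X ↘ (Spec (CommRingCat.of k)))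
  have : IsLocallyNoetherian X :=
    LocallyOfFiniteType.isLocallyNoetherian (X ↘ (Spec (CommRingCat.of k)))
  obtain ⟨C, hC⟩ := NefVan72.exists_bound k hL hgen (Coh.structureModule X) Crv77.isCoh_structureModule
    (r := r) hdim.le i
  refine ⟨(C : ℝ) * 2 ^ (r - 1), fun n hn => ?_⟩
  have h : Module.finrank k (Coh.HH X (CohB1.tensorPow L n) (i + 1)) ≤ C * Var76.Growth.w r n :=
    ((Crv77.hEquiv k (EGA73.tensUnitLeft (CohB1.tensorPow L n)).symm (i + 1)).finrank_eq.trans_le
      (hC n) :)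
  have hw : (Var76.Growth.w r n : ℝ) ≤ 2 ^ (r - 1) * (n : ℝ) ^ (r - 1) := by
    rcases r with _ | e
    · simp [Var76.Growth.w]
    · rw [show Var76.Growth.w (e + 1) n = (n + 1) ^ e from rfl, Nat.add_sub_cancel, ← mul_pow]
      push_cast
      refine pow_le_pow_left₀ (by positivity) ?_ e
      have : (1 : ℝ) ≤ (n : ℝ) := by exact_mod_cast hn
      linarith
  calc (Module.finrank k (Coh.HH X (CohB1.tensorPow L n) (i + 1)) : ℝ)
      ≤ (C : ℝ) * (Var76.Growth.w r n : ℝ) := by exact_mod_cast h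
    _ ≤ (C : ℝ) * (2 ^ (r - 1) * (n : ℝ) ^ (r - 1)) :=
        mul_le_mul_of_nonneg_left hw (Nat.cast_nonneg C)
    _ = (C : ℝ) * 2 ^ (r - 1) * (n : ℝ) ^ (r - 1) := by ring

end Groth.Agent.S19203
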