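import Groth.Statements.S19206
import Groth.Agent.LA18.Lech


set_option autoImplicit false
universe u
open Filter
open LocAlg

namespace Groth.Agent.S19206

open Groth.Agent.LA18

/-- The bound, for a local ring with infinite residue field. -/
theorem core {B : Type u} [CommRing B] [IsNoetherianRing B] [IsLocalRing B]
    [Infinite (IsLocalRing.ResidueField B)] :
    ∃ t g N₀ G₀ c : ℕ, 1 ≤ g ∧
      (∀ m : ℕ, 0 < m → ((g * m.choose t : ℕ) : ℕ∞) ≤
        Module.length B (B ⧸ IsLocalRing.maximalIdeal B ^ (m + c))) ∧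
      ∀ (I : Ideal B) (L : ℕ), Module.length B (B ⧸ I) = L →
        (∃ N, IsLocalRing.maximalIdeal B ^ N ≤ I) → ∀ n : ℕ, 0 < n →
          Module.length B (B ⧸ I ^ n) ≤
            ((L * (g * n ^ t + t * N₀ * G₀ * n ^ (t - 1)) : ℕ) : ℕ∞) := by
  obtain ⟨t, x, c, hind, hx, hred⟩ := exists_indep_reduction (B := B)
  obtain ⟨g, N₀, G₀, h⟩ := staircase_bounds hind hx hred
  exact ⟨t, g, N₀, G₀, c, h⟩

/-- Transfer to `O` through `O[X]` localised at `m O[X]`. -/
theorem core_of_any (O : Type u) [CommRing O] [IsNoetherianRing O] [IsLocalRing O] :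
    ∃ t g N₀ G₀ c : ℕ, 1 ≤ g ∧
      (∀ m : ℕ, 0 < m → ((g * m.choose t : ℕ) : ℕ∞) ≤
        Module.length O (O ⧸ IsLocalRing.maximalIdeal O ^ (m + c))) ∧
      ∀ (I : Ideal O) (L : ℕ), Module.length O (O ⧸ I) = L →
        (∃ N, IsLocalRing.maximalIdeal O ^ N ≤ I) → ∀ n : ℕ, 0 < n →
          Module.length O (O ⧸ I ^ n) ≤
            ((L * (g * n ^ t + t * N₀ * G₀ * n ^ (t - 1)) : ℕ) : ℕ∞) := by
  let P : Ideal (Polynomial O) := (IsLocalRing.maximalIdeal O).map Polynomial.C
  have : P.IsPrime := Ideal.isPrime_map_C_of_isPrime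
  let B := Localization.AtPrime P
  have : Module.Flat (Polynomial O) B := IsLocalization.flat B P.primeCompl
  have : Module.Flat O B := Module.Flat.trans O (Polynomial O) B
  have hcomp : algebraMap O B = (algebraMap (Polynomial O) B).comp Polynomial.C := by
    rw [IsScalarTower.algebraMap_eq O (Polynomial O) B]; rfl
  have hmax : (IsLocalRing.maximalIdeal O).map (algebraMap O B) = IsLocalRing.maximalIdeal B := by
    rw [hcomp, ← Ideal.map_map]
    exact Localization.AtPrime.map_eq_maximalIdeal
  have : IsLocalHom (algebraMap O B) :=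
    ((IsLocalRing.local_hom_TFAE (algebraMap O B)).out 0 2).2 hmax.le
  have : Infinite (IsLocalRing.ResidueField B) := by
    refine Infinite.of_injective (fun n : ℕ =>
      IsLocalRing.residue B (algebraMap (Polynomial O) B (Polynomial.X ^ n))) fun a b hab => ?_
    by_contra hne
    replace hab := sub_eq_zero.2 hab
    rw [← map_sub, ← map_sub] at hab
    rw [IsLocalRing.residue_eq_zero_iff, IsLocalization.AtPrime.to_map_mem_maximal_iff B P] at hab
    have h1 := Ideal.mem_map_C_iff.1 hab a
    rw [Polynomial.coeff_sub, Polynomial.coeff_X_pow, Polynomial.coeff_X_pow, if_pos rfl,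
      if_neg hne, sub_zero] at h1
    exact (IsLocalRing.maximalIdeal.isMaximal O).ne_top ((Ideal.eq_top_iff_one _).2 h1)
  have hlen : ∀ J : Ideal O,
      Module.length B (B ⧸ J.map (algebraMap O B)) = Module.length O (O ⧸ J) := fun J => by
    have h1 : Module.length B (B ⧸ (IsLocalRing.maximalIdeal O).map (algebraMap O B)) = 1 := by
      rw [Module.length_eq_one_iff, hmax, isSimpleModule_iff_isCoatom, ← Ideal.isMaximal_def]
      exact IsLocalRing.maximalIdeal.isMaximal B
    rw [(Algebra.TensorProduct.quotIdealMapEquivTensorQuot B J).toLinearEquiv.length_eq,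
      IsLocalRing.length_baseChange, h1, mul_one]
  obtain ⟨t, g, N₀, G₀, c, hg, h1, h2⟩ := core (B := B)
  refine ⟨t, g, N₀, G₀, c, hg, fun m hm => ?_, fun I L hL hN n hn => ?_⟩
  · rw [← hlen, Ideal.map_pow, hmax]
    exact h1 m hm
  · obtain ⟨N, hN⟩ := hN
    rw [← hlen, Ideal.map_pow]
    refine h2 _ L (by rw [hlen, hL]) ⟨N, ?_⟩ n hn
    rw [← hmax, ← Ideal.map_pow]
    exact Ideal.map_mono hN

theorem tendsto_choose_self (r : ℕ) :
    Tendsto (fun n : ℕ => (r.factorial : ℝ) * (n.choose r : ℝ) / (n : ℝ) ^ r) atTop (nhds 1) := by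
  refine (tendsto_choose_div r r).congr' ?_
  filter_upwards [eventually_ge_atTop r] with n hn
  rw [Nat.add_sub_cancel' hn]

end Groth.Agent.S19206

namespace Groth.Agent.S19206

/-- Let O be a Noetherian local ring of Krull dimension r which contains a field, with maximal ideal m,
and let I be an m-primary ideal (I ⊆ m and m^N ⊆ I for some N). Write e(I) for the Samuel
multiplicity of I, the limit of r!·length(O/I^n)/n^r, and e(O) for that of m. Then e(I) ≤
r!·e(O)·length(O/I); consequently the supremum of e(I)/(r!·length(O/I)) over such I is at most e(O).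
(Stated for real numbers e(I), e(O) equal to those limits; the hypothesis that O contains a field is
the standing equicharacteristic convention of the section and is not needed for the inequality.) -/
theorem result (O : Type u) [CommRing O] [IsNoetherianRing O] [IsLocalRing O]
    (K : Type u) [Field K] [Algebra K O] (r : ℕ) (hr : ringKrullDim O = r)
    (I : Ideal O) (hI : I ≤ IsLocalRing.maximalIdeal O) (hIN : ∃ N : ℕ, IsLocalRing.maximalIdeal O ^ N ≤ I)
    (eI eO : ℝ)
    (heI : Tendsto (fun n : ℕ => (r.factorial : ℝ) * ((Module.length O (O ⧸ I ^ n)).toNat : ℝ) / (n : ℝ) ^ r)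
      atTop (nhds eI))
    (heO : Tendsto (fun n : ℕ => (r.factorial : ℝ) *
        ((Module.length O (O ⧸ IsLocalRing.maximalIdeal O ^ n)).toNat : ℝ) / (n : ℝ) ^ r) atTop (nhds eO)) :
    eI ≤ (r.factorial : ℝ) * eO * ((Module.length O (O ⧸ I)).toNat : ℝ) := by
  obtain ⟨t, g, N₀, G₀, c, hg, h1, h2⟩ := core_of_any O
  obtain ⟨P, ⟨N, hP⟩, hdeg⟩ := Cohen12.HilbertSamuel.exists_hilbertSamuel (A := O) O
  rw [Module.supportDim_self_eq_ringKrullDim, hr, Nat.cast_inj] at hdeg
  obtain ⟨a, ha⟩ := Cohen12.HilbertSamuel.exists_eval_le P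
  let f : ℕ → ℕ := fun n => (Module.length O (O ⧸ IsLocalRing.maximalIdeal O ^ n)).toNat
  have hlen : ∀ n, N ≤ n → Module.length O (O ⧸ IsLocalRing.maximalIdeal O ^ n) = (f n : ℕ∞) ∧
      f n ≤ a * (n + 1) ^ r := fun n hn => by
    obtain ⟨l, hl, hlP⟩ := hP n hn
    have e : (IsLocalRing.maximalIdeal O ^ n • (⊤ : Submodule O O)) = IsLocalRing.maximalIdeal O ^ n := by
      rw [Ideal.smul_top_eq_map]; simp
    rw [IsLocalRing.ringJacobson_eq_maximalIdeal, e] at hl
    have hfl : f n = l := by simp [f, hl]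
    refine ⟨by rw [hfl, hl], ?_⟩
    have := ha n
    rw [← hlP, hdeg] at this
    rw [hfl]
    exact_mod_cast this
  have htr : t ≤ r := by
    refine EGA4H10.LengthDim.le_of_choose_le (a := a * (N + c + 2) ^ r) (b := 1) fun n => ?_
    have h3 := h1 (n + N + 1) (by omega)
    obtain ⟨e1, e2⟩ := hlen (n + N + 1 + c) (by omega)
    rw [e1, Nat.cast_le] at h3
    calc n.choose t ≤ (n + N + 1).choose t := Nat.choose_le_choose t (by omega)
      _ ≤ g * (n + N + 1).choose t := Nat.le_mul_of_pos_left _ hg
      _ ≤ a * (n + N + 1 + c + 1) ^ r := h3.trans e2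
      _ ≤ a * ((N + c + 2) * (1 * n + 2)) ^ r :=
          Nat.mul_le_mul_left _ (Nat.pow_le_pow_left (by nlinarith) r)
      _ = a * (N + c + 2) ^ r * (1 * n + 2) ^ r := by rw [mul_pow, mul_assoc]
  set L := (Module.length O (O ⧸ I)).toNat with hL
  have hIfin : Module.length O (O ⧸ I) ≠ ⊤ := by
    obtain ⟨M, hM⟩ := hIN
    refine ne_top_of_le_ne_top ?_ (Module.length_le_of_surjective
      (Submodule.factor ((Ideal.pow_le_pow_right (Nat.le_add_right M N)).trans hM))
      (Submodule.factor_surjective _))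
    rw [(hlen (M + N) (by omega)).1]
    exact ENat.natCast_ne_top _
  have hbound := h2 I L (ENat.natCast_toNat hIfin).symm hIN
  have heO0 : 0 ≤ eO := ge_of_tendsto' heO fun n => by positivity
  let K : ℕ := t * N₀ * G₀
  have hub : ∀ n : ℕ, 0 < n →
      (r.factorial : ℝ) * ((Module.length O (O ⧸ I ^ n)).toNat : ℝ) / (n : ℝ) ^ r ≤
        (r.factorial : ℝ) * (L : ℝ) * ((if t = r then (g : ℝ) else 0) + ((g + K : ℕ) : ℝ) / (n : ℝ)) := by
    intro n hn
    have h3 : (Module.length O (O ⧸ I ^ n)).toNat ≤ L * (g * n ^ t + K * n ^ (t - 1)) :=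
      ENat.toNat_le_of_le_coe (hbound n hn)
    have hn' : (0 : ℝ) < n := by exact_mod_cast hn
    rw [mul_div_assoc, mul_assoc]
    refine mul_le_mul_of_nonneg_left ?_ (by positivity)
    rw [div_le_iff₀ (by positivity)]
    refine (Nat.cast_le.2 h3).trans ?_
    push_cast
    rw [mul_assoc]
    refine mul_le_mul_of_nonneg_left ?_ (by positivity)
    have hone : (1 : ℝ) ≤ n := by exact_mod_cast hn
    split_ifs with h
    · rcases Nat.eq_zero_or_pos t with h0 | hpos
      · subst h
        simp only [h0, K, zero_mul, Nat.cast_zero, zero_mul, add_zero, pow_zero, mul_one]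
        exact le_add_of_nonneg_right (by positivity)
      · obtain ⟨s, rfl⟩ : ∃ s, t = s + 1 := ⟨t - 1, by omega⟩
        subst h
        rw [Nat.add_sub_cancel, add_mul, div_mul_eq_mul_div, pow_succ, ← mul_assoc (_ + _),
          mul_div_cancel_right₀ _ hn'.ne']
        have h9 : (0 : ℝ) ≤ (g : ℝ) * (n : ℝ) ^ s := by positivity
        nlinarith
    · obtain ⟨s, rfl⟩ : ∃ s, r = s + 1 := ⟨r - 1, by omega⟩
      rw [zero_add, div_mul_eq_mul_div, pow_succ, ← mul_assoc (_ + _),
        mul_div_cancel_right₀ _ hn'.ne', add_mul]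
      refine add_le_add ?_ ?_
      · exact mul_le_mul_of_nonneg_left (pow_le_pow_right₀ hone (by omega)) (by positivity)
      · exact mul_le_mul_of_nonneg_left (pow_le_pow_right₀ hone (by omega)) (by positivity)
  have hlimK : Tendsto (fun n : ℕ => (r.factorial : ℝ) * (L : ℝ) *
      ((if t = r then (g : ℝ) else 0) + ((g + K : ℕ) : ℝ) / (n : ℝ))) atTop
      (nhds ((r.factorial : ℝ) * (L : ℝ) * ((if t = r then (g : ℝ) else 0) + 0))) :=
    ((tendsto_const_div_atTop_nhds_zero_nat _).const_add _).const_mul _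
  have hI' : eI ≤ (r.factorial : ℝ) * (L : ℝ) * ((if t = r then (g : ℝ) else 0) + 0) := by
    refine le_of_tendsto_of_tendsto heI hlimK ?_
    filter_upwards [eventually_gt_atTop 0] with n hn using hub n hn
  rw [add_zero] at hI'
  refine hI'.trans ?_
  rw [mul_right_comm _ eO]
  refine mul_le_mul_of_nonneg_left ?_ (by positivity)
  split_ifs with h
  · subst h
    have hshift : Tendsto (fun n : ℕ => (t.factorial : ℝ) * (f (n + c) : ℝ) / (n : ℝ) ^ t) atTop
        (nhds (eO * 1)) := by
      have h4 : Tendsto (fun n : ℕ => (((n : ℝ) + c) / n) ^ t) atTop (nhds 1) := by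
        have : Tendsto (fun n : ℕ => 1 + (c : ℝ) / (n : ℝ)) atTop (nhds (1 + 0)) :=
          tendsto_const_nhds.add (tendsto_const_div_atTop_nhds_zero_nat _)
        rw [add_zero] at this
        have h5 := this.pow t
        rw [one_pow] at h5
        refine h5.congr' ?_
        filter_upwards [eventually_gt_atTop 0] with n hn
        have : (n : ℝ) ≠ 0 := by positivity
        field_simp
      refine ((heO.comp (tendsto_add_atTop_nat c)).mul h4).congr' ?_
      filter_upwards [eventually_gt_atTop 0] with n hn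
      have hn' : (n : ℝ) ≠ 0 := by positivity
      have hnc : ((n : ℝ) + c) ≠ 0 := by positivity
      simp only [Function.comp_apply, Nat.cast_add, f, div_pow]
      field_simp
    rw [mul_one] at hshift
    have hleft := (tendsto_choose_self t).const_mul (g : ℝ)
    rw [mul_one] at hleft
    refine le_of_tendsto_of_tendsto hleft hshift ?_
    filter_upwards [eventually_gt_atTop N, eventually_gt_atTop 0] with n hn hn0
    have h5 := h1 n hn0
    rw [(hlen (n + c) (by omega)).1, Nat.cast_le] at h5
    rw [mul_div_assoc', mul_left_comm]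
    refine div_le_div_of_nonneg_right (mul_le_mul_of_nonneg_left ?_ (by positivity)) (by positivity)
    exact_mod_cast h5
  · exact heO0

end Groth.Agent.S19206
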