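import Groth.Statements.S19207
import Groth.Agent.LA18.MonSeries


set_option autoImplicit false
universe u
open Filter
open LocAlg

namespace Groth.Agent.S19207

open Groth.Agent.LA18
open scoped Pointwise
open scoped Pointwise

theorem smul_top_ideal {A : Type u} [CommRing A] (K : Ideal A) :
    (K • (⊤ : Submodule A A)) = K := by
  rw [Ideal.smul_top_eq_map]; simp

section
variable (k : Type u) [Field k]

/-- The power series ring. -/
abbrev R3 : Type u := MvPowerSeries (Fin 3) k

local notation "Xx" => (MvPowerSeries.X 0 : R3 k)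
local notation "Yy" => (MvPowerSeries.X 1 : R3 k)
local notation "Tt" => (MvPowerSeries.X 2 : R3 k)

/-- The equation. -/
noncomputable def feq (n : ℕ) : R3 k := Xx ^ 2 - Yy ^ n

/-- The double point. -/
abbrev Dp (n : ℕ) : Type u := R3 k ⧸ Ideal.span {(Xx ^ 2 - Yy ^ n : R3 k)}

theorem monI_eq_span (L : List (Fin 3 → ℕ)) :
    monI (k := k) (L.map ex3) =
      Ideal.span {φ | ∃ v ∈ L, φ = Xx ^ v 0 * Yy ^ v 1 * Tt ^ v 2} := by
  refine congrArg Ideal.span (Set.ext fun φ => ?_)
  constructor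
  · rintro ⟨g, hg, rfl⟩
    obtain ⟨v, hv, rfl⟩ := List.mem_map.1 hg
    exact ⟨v, hv, monomial_ex3 v⟩
  · rintro ⟨v, hv, rfl⟩
    exact ⟨ex3 v, List.mem_map.2 ⟨v, hv, rfl⟩, (monomial_ex3 v).symm⟩

variable {k}

theorem yn_mem {n : ℕ} (hn : 2 ≤ n) {K : Ideal (R3 k)} (h : Yy ^ 2 ∈ K) : Yy ^ n ∈ K := by
  obtain ⟨m, rfl⟩ := Nat.exists_eq_add_of_le hn
  rw [pow_add]
  exact K.mul_mem_right _ h

theorem length_dp {n : ℕ} (K : Ideal (R3 k)) (hK : feq k n ∈ K) :
    Module.length (Dp k n) (Dp k n ⧸ K.map (Ideal.Quotient.mk _)) =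
      Module.length (R3 k) (R3 k ⧸ K) := by
  rw [← Module.length_eq_of_surjective (S := R3 k) Ideal.Quotient.mk_surjective]
  let φ : R3 k →ₗ[R3 k] (Dp k n ⧸ K.map (Ideal.Quotient.mk _)) :=
    Algebra.linearMap (R3 k) (Dp k n ⧸ K.map (Ideal.Quotient.mk _))
  have hker : LinearMap.ker φ = K := by
    ext b
    change algebraMap (R3 k) (Dp k n ⧸ K.map (Ideal.Quotient.mk _)) b = 0 ↔ _
    rw [show algebraMap (R3 k) (Dp k n ⧸ K.map (Ideal.Quotient.mk _)) b =
      Ideal.Quotient.mk _ (Ideal.Quotient.mk _ b) from rfl, Ideal.Quotient.eq_zero_iff_mem,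
      Ideal.mem_quotient_iff_mem (by rw [Ideal.span_singleton_le_iff_mem]; exact hK)]
  have hsurj : Function.Surjective φ :=
    Ideal.Quotient.mk_surjective.comp Ideal.Quotient.mk_surjective
  rw [← ((Submodule.quotEquivOfEq _ _ hker.symm).trans
    (φ.quotKerEquivOfSurjective hsurj)).length_eq]

/-- The six monomials. -/
def LI : List (Fin 3 → ℕ) :=
  [![2, 0, 0], ![1, 1, 0], ![0, 2, 0], ![1, 0, 1], ![0, 1, 2], ![0, 0, 4]]

/-- The reduction, with `x ^ 2`. -/
def LJ : List (Fin 3 → ℕ) := [![2, 0, 0], ![0, 2, 0], ![0, 0, 4]]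

theorem monI_LI :
    monI (k := k) (LI.map ex3) =
      Ideal.span {Xx ^ 2, Xx * Yy, Yy ^ 2, Xx * Tt, Yy * Tt ^ 2, Tt ^ 4} := by
  rw [monI_eq_span]
  refine congrArg Ideal.span (Set.ext fun φ => ?_)
  simp [LI]

theorem monI_LJ :
    monI (k := k) (LJ.map ex3) = Ideal.span {Xx ^ 2, Yy ^ 2, Tt ^ 4} := by
  rw [monI_eq_span]
  refine congrArg Ideal.span (Set.ext fun φ => ?_)
  simp [LJ]

theorem length_LI :
    Module.length (R3 k) (R3 k ⧸ monI (k := k) (LI.map ex3)) = 7 := by
  rw [length_quot_monI (M := 4) (LI.map ex3) ?_, card_filter_below]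
  · norm_cast
  · intro β hβ
    rw [degree_three] at hβ
    by_contra! h
    simp [LI, ex3_le] at h
    omega

theorem length_LJ :
    Module.length (R3 k) (R3 k ⧸ monI (k := k) (LJ.map ex3)) = 16 := by
  rw [length_quot_monI (M := 6) (LJ.map ex3) ?_, card_filter_below]
  · norm_cast
  · intro β hβ
    rw [degree_three] at hβ
    by_contra! h
    simp [LJ, ex3_le] at h
    omega

theorem pow_three_le {A : Type u} [CommRing A] {J I : Ideal A} {a b c : A} (hJI : J ≤ I)
    (hI : I ≤ J ⊔ Ideal.span {a, b, c}) (ha : a ∈ I) (hb : b ∈ I) (hc : c ∈ I)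
    (haa : a * a ∈ J * I) (hab : a * b ∈ J * I) (hac : a * c ∈ J * I) (hbb : b * b ∈ J * I)
    (hcc : c * c ∈ J * I) : I ^ 3 ≤ J * I ^ 2 := by
  have hK : Ideal.span {a, b, c} ≤ I := by
    rw [Ideal.span_le]
    simp [Set.insert_subset_iff, ha, hb, hc]
  have hpair : ∀ {p q r : A}, p * q ∈ J * I → r ∈ I → p * q * r ∈ J * I ^ 2 := fun h hr => by
    rw [pow_two, ← mul_assoc]
    exact Ideal.mul_mem_mul h hr
  have h3 : Ideal.span {a, b, c} ^ 3 ≤ J * I ^ 2 := by
    rw [pow_succ, pow_two, Ideal.span_mul_span', Ideal.span_mul_span', Ideal.span_le]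
    rintro _ ⟨_, ⟨p, hp, q, hq, rfl⟩, r, hr, rfl⟩
    have hpI := hK (Ideal.subset_span hp)
    have hqI := hK (Ideal.subset_span hq)
    have hrI := hK (Ideal.subset_span hr)
    simp only [SetLike.mem_coe]
    have e1 : p * q * r = p * r * q := by ring
    have e2 : p * q * r = q * r * p := by ring
    have hba : b * a ∈ J * I := mul_comm a b ▸ hab
    have hca : c * a ∈ J * I := mul_comm a c ▸ hac
    have good : p * q ∈ J * I ∨ p * r ∈ J * I ∨ q * r ∈ J * I := by
      simp only [Set.mem_insert_iff, Set.mem_singleton_iff] at hp hq hr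
      rcases hp with rfl | rfl | rfl <;> rcases hq with rfl | rfl | rfl <;>
        rcases hr with rfl | rfl | rfl <;> first
          | (left; assumption)
          | (right; left; assumption)
          | (right; right; assumption)
    rcases good with h | h | h
    · exact hpair h hrI
    · rw [e1]; exact hpair h hqI
    · rw [e2]; exact hpair h hpI
  set K := Ideal.span {a, b, c} with hKdef
  have hX : ∀ X : Ideal A, I * X ≤ J * X ⊔ K * X := fun X => by
    rw [← Ideal.sup_mul]
    exact Ideal.mul_mono_left hI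
  rw [pow_succ' I 2]
  refine (hX _).trans (sup_le le_rfl ?_)
  rw [pow_two I]
  refine (Ideal.mul_mono_right (hX I)).trans ?_
  rw [Ideal.mul_sup]
  refine sup_le ?_ ?_
  · rw [show K * (J * I) = J * (K * I) by ring]
    exact Ideal.mul_mono_right (Ideal.mul_mono_left hK)
  · rw [show K * (K * I) = I * (K * K) by ring]
    refine (hX _).trans (sup_le (Ideal.mul_mono_right (Ideal.mul_mono hK hK)) ?_)
    rw [show K * (K * K) = K ^ 3 by ring, ← pow_two]
    exact h3

theorem pow_le_of_three {A : Type u} [CommRing A] {J I : Ideal A} (h : I ^ 3 ≤ J * I ^ 2) :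
    ∀ m, I ^ (m + 2) ≤ J ^ m
  | 0 => by simp
  | m + 1 => by
    calc I ^ (m + 1 + 2) = I ^ m * I ^ 3 := by ring
      _ ≤ I ^ m * (J * I ^ 2) := Ideal.mul_mono_right h
      _ = J * I ^ (m + 2) := by ring
      _ ≤ J * J ^ m := Ideal.mul_mono_right (pow_le_of_three h m)
      _ = J ^ (m + 1) := by ring

end

end Groth.Agent.S19207

open Groth.Agent.LA18
open scoped Pointwise

namespace Groth.Agent.S19207

/-- Let k be a field and n ≥ 3, and let A = k[[x, y, t]]/(x^2 − y^n), the power-series ring in t over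
the higher double point O = k[[x, y]]/(x^2 − y^n), a two-dimensional local ring. The ideal I = (x^2,
xy, y^2, xt, yt^2, t^4) of A has length(A/I) = 7 and Samuel multiplicity e(I) = 16, in the sense
that 2·length(A/I^m)/m^2 tends to 16. Hence e(I)/(2!·length(A/I)) = 8/7, which gives the bound
e_1(O) ≥ 8/7 for the first flat multiplicity of a higher double point (the supremum of
e(I)/(2!·length(A/I)) over ideals of finite colength of A = O[[t]]). Here x, y, t are the
power-series variables indexed 0, 1, 2. -/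
theorem result (k : Type u) [Field k] (n : ℕ) (hn : 3 ≤ n)
    (I : Ideal (MvPowerSeries (Fin 3) k ⧸ Ideal.span {(MvPowerSeries.X 0 ^ 2 - MvPowerSeries.X 1 ^ n : MvPowerSeries (Fin 3) k)}))
    (hI : I = Ideal.map (Ideal.Quotient.mk (Ideal.span {(MvPowerSeries.X 0 ^ 2 - MvPowerSeries.X 1 ^ n : MvPowerSeries (Fin 3) k)}))
      (Ideal.span {(MvPowerSeries.X 0 ^ 2 : MvPowerSeries (Fin 3) k), MvPowerSeries.X 0 * MvPowerSeries.X 1,
        MvPowerSeries.X 1 ^ 2, MvPowerSeries.X 0 * MvPowerSeries.X 2,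
        MvPowerSeries.X 1 * MvPowerSeries.X 2 ^ 2, MvPowerSeries.X 2 ^ 4})) :
    Module.length (MvPowerSeries (Fin 3) k ⧸ Ideal.span {(MvPowerSeries.X 0 ^ 2 - MvPowerSeries.X 1 ^ n : MvPowerSeries (Fin 3) k)}) ((MvPowerSeries (Fin 3) k ⧸ Ideal.span {(MvPowerSeries.X 0 ^ 2 - MvPowerSeries.X 1 ^ n : MvPowerSeries (Fin 3) k)}) ⧸ I) = 7 ∧
      Tendsto (fun m : ℕ => (2 : ℝ) * ((Module.length (MvPowerSeries (Fin 3) k ⧸ Ideal.span {(MvPowerSeries.X 0 ^ 2 - MvPowerSeries.X 1 ^ n : MvPowerSeries (Fin 3) k)}) ((MvPowerSeries (Fin 3) k ⧸ Ideal.span {(MvPowerSeries.X 0 ^ 2 - MvPowerSeries.X 1 ^ n : MvPowerSeries (Fin 3) k)}) ⧸ I ^ m)).toNat : ℝ) / (m : ℝ) ^ 2)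
        atTop (nhds 16) := by
  classical
  let π := Ideal.Quotient.mk (Ideal.span {(MvPowerSeries.X 0 ^ 2 - MvPowerSeries.X 1 ^ n : MvPowerSeries (Fin 3) k)})
  let x : Dp k n := π (MvPowerSeries.X 0)
  let y : Dp k n := π (MvPowerSeries.X 1)
  let z : Dp k n := π (MvPowerSeries.X 2)
  have hx2 : x ^ 2 = y ^ n := by
    rw [← map_pow, ← map_pow]
    exact (Ideal.Quotient.eq).2 (Ideal.subset_span rfl)
  have hI' : I = Ideal.span {x ^ 2, x * y, y ^ 2, x * z, y * z ^ 2, z ^ 4} := by
    rw [hI, Ideal.map_span]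
    simp only [Set.image_insert_eq, Set.image_singleton, map_pow, map_mul]
    rfl
  have hfI : feq k n ∈ monI (k := k) (LI.map ex3) := by
    rw [monI_LI]
    exact sub_mem (Ideal.subset_span (by simp)) (yn_mem (by omega) (Ideal.subset_span (by simp)))
  have hfJ : feq k n ∈ monI (k := k) (LJ.map ex3) := by
    rw [monI_LJ]
    exact sub_mem (Ideal.subset_span (by simp)) (yn_mem (by omega) (Ideal.subset_span (by simp)))
  have h7 : Module.length (Dp k n) (Dp k n ⧸ I) = 7 := by
    rw [hI, ← monI_LI, length_dp _ hfI, length_LI]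
  refine ⟨h7, ?_⟩
  let J : Ideal (Dp k n) := Ideal.span (Set.range ![y ^ 2, z ^ 4])
  have hJ' : J = Ideal.span {y ^ 2, z ^ 4} := by simp [J, Matrix.range_cons, Set.pair_comm]
  have hy2 : y ^ 2 ∈ J := by rw [hJ']; exact Ideal.subset_span (by simp)
  have hz4 : z ^ 4 ∈ J := by rw [hJ']; exact Ideal.subset_span (by simp)
  have hxxJ : x ^ 2 ∈ J := by
    rw [hx2]
    exact J.mem_of_dvd (pow_dvd_pow y (by omega)) hy2
  have hJmap : J = (monI (k := k) (LJ.map ex3)).map π := by
    rw [monI_LJ, Ideal.map_span]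
    simp only [Set.image_insert_eq, Set.image_singleton, map_pow]
    rw [Ideal.span_insert, sup_eq_right.2]
    · exact hJ'
    · rw [Ideal.span_singleton_le_iff_mem, ← hJ']; exact hxxJ
  have h16 : Module.length (Dp k n) (Dp k n ⧸ J) = 16 := by
    rw [hJmap, length_dp _ hfJ, length_LJ]
  have hsub : ∀ g ∈ ({x ^ 2, x * y, y ^ 2, x * z, y * z ^ 2, z ^ 4} : Set (Dp k n)), g ∈ I := by
    rw [hI']; exact fun g hg => Ideal.subset_span hg
  have hyI : y ^ 2 ∈ I := hsub _ (by simp)
  have hJI : J ≤ I := by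
    rw [hJ', Ideal.span_le]
    simp only [Set.insert_subset_iff, Set.singleton_subset_iff]
    exact ⟨hyI, hsub _ (by simp)⟩
  have hyt : y * z ^ 2 ∈ I := hsub _ (by simp)
  have hynI : ∀ m, 2 ≤ m → y ^ m ∈ I := fun m hm => by
    obtain ⟨p, rfl⟩ := Nat.exists_eq_add_of_le hm
    rw [pow_add]; exact I.mul_mem_right _ hyI
  obtain ⟨p, rfl⟩ := Nat.exists_eq_add_of_le hn
  have h3 : I ^ 3 ≤ J * I ^ 2 := by
    refine pow_three_le (a := x * y) (b := x * z) (c := y * z ^ 2) hJI ?_ (hsub _ (by simp))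
      (hsub _ (by simp)) hyt ?_ ?_ ?_ ?_ ?_
    · rw [hI', Ideal.span_le]
      intro g hg
      simp only [Set.mem_insert_iff, Set.mem_singleton_iff] at hg
      rcases hg with rfl | rfl | rfl | rfl | rfl | rfl
      · exact Submodule.mem_sup_left hxxJ
      · exact Submodule.mem_sup_right (Ideal.subset_span (by simp))
      · exact Submodule.mem_sup_left hy2
      · exact Submodule.mem_sup_right (Ideal.subset_span (by simp))
      · exact Submodule.mem_sup_right (Ideal.subset_span (by simp))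
      · exact Submodule.mem_sup_left hz4
    · rw [show x * y * (x * y) = y ^ 2 * x ^ 2 by ring, hx2]
      exact Ideal.mul_mem_mul hy2 (hynI _ (by omega))
    · rw [show x * y * (x * z) = y * z * x ^ 2 by ring, hx2,
        show y * z * y ^ (3 + p) = y ^ 2 * (y ^ (2 + p) * z) by ring]
      exact Ideal.mul_mem_mul hy2 (I.mul_mem_right _ (hynI _ (by omega)))
    · rw [show x * y * (y * z ^ 2) = y ^ 2 * (x * z * z) by ring]
      exact Ideal.mul_mem_mul hy2 (I.mul_mem_right _ (hsub _ (by simp)))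
    · rw [show x * z * (x * z) = z * z * x ^ 2 by ring, hx2,
        show z * z * y ^ (3 + p) = y ^ 2 * (y ^ p * (y * z ^ 2)) by ring]
      exact Ideal.mul_mem_mul hy2 (I.mul_mem_left _ hyt)
    · rw [show y * z ^ 2 * (y * z ^ 2) = y ^ 2 * z ^ 4 by ring]
      exact Ideal.mul_mem_mul hy2 (hJI hz4)
  -- regularity and the Euler characteristic
  have hreg1 : IsSMulRegular (Dp k (3 + p)) (y ^ 2) := by
    rw [isSMulRegular_iff_right_eq_zero_of_smul]
    intro g hg
    obtain ⟨g, rfl⟩ := Ideal.Quotient.mk_surjective g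
    rw [smul_eq_mul, ← map_pow, ← map_mul, Ideal.Quotient.eq_zero_iff_mem,
      Ideal.mem_span_singleton] at hg
    obtain ⟨h, hh⟩ := hg
    have hdvd : (MvPowerSeries.X 1 : R3 k) ^ 2 ∣ h := by
      have h1 : (MvPowerSeries.X 0 : R3 k) ^ 2 * h ∈ monI (k := k) ([![0, 2, 0]].map ex3) := by
        rw [monI_eq_span]
        have e : (MvPowerSeries.X 0 : R3 k) ^ 2 * h = MvPowerSeries.X 1 ^ 2 *
            (g + MvPowerSeries.X 1 ^ (1 + p) * h) := by
          linear_combination -hh
        rw [e]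
        exact Ideal.mul_mem_right _ _ (Ideal.subset_span (by simp))
      have h2 := mem_monI_of_X_pow_mul (s := 0) (fun g hg => by
        simp only [List.map_cons, List.map_nil, List.mem_singleton] at hg
        subst hg
        rfl) h1
      rw [monI_eq_span] at h2
      simpa [Ideal.mem_span_singleton] using h2
    obtain ⟨h', rfl⟩ := hdvd
    refine Ideal.Quotient.eq_zero_iff_mem.2 (Ideal.mem_span_singleton.2 ⟨h', ?_⟩)
    refine mul_left_cancel₀ (pow_ne_zero 2 (fun e => ?_)) (hh.trans (by ring))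
    simpa [MvPowerSeries.coeff_X] using congrArg (MvPowerSeries.coeff (Finsupp.single (1 : Fin 3) 1)) e
  have hreg2 : IsSMulRegular (QuotSMulTop (y ^ 2) (Dp k (3 + p))) (z ^ 4) := by
    rw [isSMulRegular_iff_right_eq_zero_of_smul]
    intro g hg
    obtain ⟨g, rfl⟩ := Submodule.Quotient.mk_surjective _ g
    obtain ⟨g, rfl⟩ := Ideal.Quotient.mk_surjective g
    rw [← Submodule.Quotient.mk_smul, Submodule.Quotient.mk_eq_zero,
      Submodule.mem_smul_pointwise_iff_exists] at hg
    obtain ⟨w, -, hw⟩ := hg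
    obtain ⟨w, rfl⟩ := Ideal.Quotient.mk_surjective w
    simp only [y, z, π, smul_eq_mul, ← map_pow, ← map_mul] at hw
    rw [Ideal.Quotient.eq, Ideal.mem_span_singleton] at hw
    obtain ⟨c, hc⟩ := hw
    have h1 : (MvPowerSeries.X 2 : R3 k) ^ 4 * g ∈
        monI (k := k) ([![2, 0, 0], ![0, 2, 0]].map ex3) := by
      rw [monI_eq_span]
      have e : (MvPowerSeries.X 2 : R3 k) ^ 4 * g = MvPowerSeries.X 1 ^ 2 *
          (w + MvPowerSeries.X 1 ^ (1 + p) * c) - MvPowerSeries.X 0 ^ 2 * c := by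
        linear_combination -hc
      rw [e]
      exact sub_mem (Ideal.mul_mem_right _ _ (Ideal.subset_span (by simp)))
        (Ideal.mul_mem_right _ _ (Ideal.subset_span (by simp)))
    have h2 := mem_monI_of_X_pow_mul (s := 2) (fun g hg => by
      simp only [List.map_cons, List.map_nil, List.mem_cons, List.not_mem_nil, or_false] at hg
      rcases hg with rfl | rfl <;> rfl) h1
    rw [Submodule.Quotient.mk_eq_zero]
    have h3 := Ideal.mem_map_of_mem π h2
    have hle : (monI (k := k) ([![2, 0, 0], ![0, 2, 0]].map ex3)).map π ≤ Ideal.span {y ^ 2} := by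
      rw [monI_eq_span, Ideal.map_span, Ideal.span_le]
      rintro _ ⟨φ, ⟨v, hv, rfl⟩, rfl⟩
      simp only [List.mem_cons, List.not_mem_nil, or_false] at hv
      rw [SetLike.mem_coe, Ideal.mem_span_singleton]
      rcases hv with rfl | rfl
      · refine ⟨y ^ (1 + p), ?_⟩
        simp only [map_mul, map_pow]
        change x ^ 2 * y ^ 0 * z ^ 0 = _
        rw [hx2]; ring
      · refine ⟨1, ?_⟩
        simp only [map_mul, map_pow]
        change x ^ 0 * y ^ 2 * z ^ 0 = _
        ring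
    obtain ⟨w', hw'⟩ := Ideal.mem_span_singleton'.1 (hle h3)
    exact (Submodule.mem_smul_pointwise_iff_exists _ _ _).2
      ⟨w', trivial, by rw [smul_eq_mul, mul_comm]; exact hw'⟩
  have hchi : LC17.chi (List.ofFn ![y ^ 2, z ^ 4]) (Dp k (3 + p)) = 16 := by
    rw [show List.ofFn ![y ^ 2, z ^ 4] = [y ^ 2, z ^ 4] by simp,
      LC17.chi_cons_regular _ _ _ hreg1, LC17.chi_cons_regular _ _ _ hreg2, LC17.chi_nil, LC17.lenZ]
    have e1 := (Submodule.quotOfListConsSMulTopEquivQuotSMulTopInner (Dp k (3 + p))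
      (y ^ 2) [z ^ 4]).length_eq
    rw [smul_top_ideal, show Ideal.ofList [y ^ 2, z ^ 4] = J by simp [Ideal.ofList, hJ', Set.insert_def]]
      at e1
    rw [h16] at e1
    rw [(Submodule.quotEquivOfEq (Ideal.ofList [z ^ 4] • ⊤ : Submodule (Dp k (3 + p))
      (QuotSMulTop (y ^ 2) (Dp k (3 + p)))) ((z ^ 4) • ⊤)
      (by rw [Ideal.ofList_singleton, Submodule.ideal_span_singleton_smul])).length_eq] at e1
    rw [← e1]
    rfl
  have hfl : IsFiniteLength (Dp k (3 + p)) (Dp k (3 + p) ⧸ (J • (⊤ : Submodule (Dp k (3 + p)) (Dp k (3 + p))))) := by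
    rw [← Module.length_ne_top_iff, smul_top_ideal, h16]
    exact ENat.natCast_ne_top 16
  have hlim := tendsto_samuel (M := Dp k (3 + p)) ![y ^ 2, z ^ 4] hfl
  rw [hchi] at hlim
  change Tendsto (fun m : ℕ => ((Nat.factorial 2 : ℕ) : ℝ) * ((Module.length _ (Dp k (3 + p) ⧸
    (J ^ m • (⊤ : Submodule (Dp k (3 + p)) (Dp k (3 + p)))))).toNat : ℝ) / (m : ℝ) ^ 2) _ _ at hlim
  replace hlim : Tendsto (fun m : ℕ => (2 : ℝ) * ((Module.length (Dp k (3 + p))
      (Dp k (3 + p) ⧸ J ^ m)).toNat : ℝ) / (m : ℝ) ^ 2) atTop (nhds 16) := by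
    convert hlim using 2 with m
    · rw [Nat.factorial_two, smul_top_ideal]
      norm_num
    · norm_num
  have hfin : ∀ m, Module.length (Dp k (3 + p)) (Dp k (3 + p) ⧸ J ^ m) ≠ ⊤ := fun m => by
    have := Cohen12.HilbertSamuel.length_pow_ne_top J (Module.length_ne_top_iff.2 hfl) m
    rwa [smul_top_ideal] at this
  have hIfin : ∀ m, Module.length (Dp k (3 + p)) (Dp k (3 + p) ⧸ I ^ m) ≠ ⊤ := fun m =>
    ne_top_of_le_ne_top (hfin m) (Module.length_le_of_surjective
      (Submodule.factor (Ideal.pow_right_mono hJI m)) (Submodule.factor_surjective _))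
  have hlow : Tendsto (fun m : ℕ => (2 : ℝ) * ((Module.length (Dp k (3 + p))
      (Dp k (3 + p) ⧸ J ^ (m - 2))).toNat : ℝ) / (m : ℝ) ^ 2) atTop (nhds (16 * 1)) := by
    have h4 : Tendsto (fun m : ℕ => (((m - 2 : ℕ) : ℝ) / m) ^ 2) atTop (nhds 1) := by
      have : Tendsto (fun m : ℕ => 1 - (2 : ℝ) / (m : ℝ)) atTop (nhds (1 - 0)) :=
        tendsto_const_nhds.sub (tendsto_const_div_atTop_nhds_zero_nat _)
      rw [sub_zero] at this
      have h5 := this.pow 2
      rw [one_pow] at h5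
      refine h5.congr' ?_
      filter_upwards [eventually_gt_atTop 2] with m hm
      have : (m : ℝ) ≠ 0 := by exact_mod_cast (show m ≠ 0 by omega)
      rw [Nat.cast_sub hm.le]
      field_simp
      norm_num
    refine ((hlim.comp (tendsto_sub_atTop_nat 2)).mul h4).congr' ?_
    filter_upwards [eventually_gt_atTop 2] with m hm
    have : (m : ℝ) ≠ 0 := by exact_mod_cast (show m ≠ 0 by omega)
    have : ((m - 2 : ℕ) : ℝ) ≠ 0 := by exact_mod_cast (show m - 2 ≠ 0 by omega)
    simp only [Function.comp_apply, div_pow]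
    field_simp
  rw [mul_one] at hlow
  refine tendsto_of_tendsto_of_tendsto_of_le_of_le' hlow hlim ?_ ?_
  · filter_upwards [eventually_ge_atTop 2] with m hm
    refine div_le_div_of_nonneg_right (mul_le_mul_of_nonneg_left (Nat.cast_le.2
      (ENat.toNat_le_toNat (Module.length_le_of_surjective (Submodule.factor ?_)
        (Submodule.factor_surjective _)) (hIfin m))) (by norm_num)) (by positivity)
    have h := pow_le_of_three h3 (m - 2)
    rwa [Nat.sub_add_cancel hm] at h
  · filter_upwards with m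
    exact div_le_div_of_nonneg_right (mul_le_mul_of_nonneg_left (Nat.cast_le.2
      (ENat.toNat_le_toNat (Module.length_le_of_surjective
        (Submodule.factor (Ideal.pow_right_mono hJI m)) (Submodule.factor_surjective _)) (hfin m)))
      (by norm_num)) (by positivity)

end Groth.Agent.S19207
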