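import Groth.Statements.S19208
import Groth.Agent.Cohen12.HilbertSamuel


set_option autoImplicit false
universe u
open Filter
open LocAlg

namespace Groth.Agent.S19208

/-- Let O be a Noetherian local ring of Krull dimension r containing a field, with maximal ideal m. The
zeroth flat multiplicity e_0(O), the supremum over m-primary ideals I of e(I)/(r!·length(O/I)) with
e(I) the Samuel multiplicity, is at least 1: for every ε > 0 there is an m-primary ideal I (I ⊆ m,
m^N ⊆ I for some N) whose multiplicity e(I), the limit of r!·length(O/I^n)/n^r, satisfies e(I) ≥ (1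
− ε)·r!·length(O/I). (The same statement for the power-series rings O[[t_1, …, t_k]] is the bound
e_k(O) ≥ 1 for the k-th flat multiplicity.) -/
theorem result (O : Type u) [CommRing O] [IsNoetherianRing O]
    [IsLocalRing O] (K : Type u) [Field K] [Algebra K O] (r : ℕ) (hr : ringKrullDim O = r)
    (ε : ℝ) (hε : 0 < ε) :
    ∃ (I : Ideal O) (e : ℝ), I ≤ IsLocalRing.maximalIdeal O ∧
      (∃ N : ℕ, IsLocalRing.maximalIdeal O ^ N ≤ I) ∧
      Tendsto (fun n : ℕ => (r.factorial : ℝ) * ((Module.length O (O ⧸ I ^ n)).toNat : ℝ) / (n : ℝ) ^ r)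
        atTop (nhds e) ∧
      (1 - ε) * ((r.factorial : ℝ) * ((Module.length O (O ⧸ I)).toNat : ℝ)) ≤ e := by
  obtain ⟨P, ⟨N, hP⟩, hdeg⟩ := Cohen12.HilbertSamuel.exists_hilbertSamuel (A := O) O
  rw [Module.supportDim_self_eq_ringKrullDim, hr, Nat.cast_inj] at hdeg
  let f : ℕ → ℕ := fun n => (Module.length O (O ⧸ IsLocalRing.maximalIdeal O ^ n)).toNat
  have hf : ∀ n, N ≤ n → Module.length O (O ⧸ IsLocalRing.maximalIdeal O ^ n) = (f n : ℕ∞) ∧
      (f n : ℚ) = P.eval (n : ℚ) := fun n hn => by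
    obtain ⟨l, hl, hlP⟩ := hP n hn
    have e : (IsLocalRing.maximalIdeal O ^ n • (⊤ : Submodule O O)) = IsLocalRing.maximalIdeal O ^ n := by
      rw [Ideal.smul_top_eq_map]; simp
    rw [IsLocalRing.ringJacobson_eq_maximalIdeal, e] at hl
    have hfl : f n = l := by simp [f, hl]
    exact ⟨by rw [hfl, hl], by rw [hfl, hlP]⟩
  have hP0 : P ≠ 0 := by
    intro h
    obtain ⟨h1, h2⟩ := hf (N + 1) (by omega)
    rw [h, Polynomial.eval_zero, Nat.cast_eq_zero] at h2
    rw [h2, Nat.cast_zero, Module.length_eq_zero_iff, Submodule.Quotient.subsingleton_iff] at h1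
    exact (IsLocalRing.maximalIdeal.isMaximal O).ne_top
      (top_le_iff.1 (h1.ge.trans (Ideal.pow_le_self N.succ_ne_zero)))
  let PR : Polynomial ℝ := P.map (algebraMap ℚ ℝ)
  let e : ℝ := (r.factorial : ℝ) * PR.leadingCoeff
  have hPRd : PR.natDegree = r := by rw [Polynomial.natDegree_map, hdeg]
  have hlim : Tendsto (fun n : ℕ => (r.factorial : ℝ) * (f n : ℝ) / (n : ℝ) ^ r) atTop (nhds e) := by
    have h1 := (Polynomial.div_tendsto_atTop_leadingCoeff_div_of_degree_eq PR (Polynomial.X ^ r)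
      (by rw [Polynomial.degree_X_pow, Polynomial.degree_eq_natDegree (Polynomial.map_ne_zero hP0), hPRd])).comp
      tendsto_natCast_atTop_atTop
    rw [(Polynomial.monic_X_pow r).leadingCoeff, div_one] at h1
    refine ((h1.const_mul (r.factorial : ℝ))).congr' ?_
    filter_upwards [eventually_ge_atTop N] with n hn
    have he : ((f n : ℚ) : ℝ) = PR.eval ((n : ℚ) : ℝ) := by
      rw [(hf n hn).2]
      simp [PR, Polynomial.eval_map, Polynomial.hom_eval₂, ← Polynomial.eval₂_at_apply]
    simp only [Rat.cast_natCast] at he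
    simp [he, mul_div_assoc]
  have he0 : 0 < e := by
    refine lt_of_le_of_ne (ge_of_tendsto' hlim fun n => by positivity) (Ne.symm (mul_ne_zero ?_ ?_))
    · exact_mod_cast r.factorial_ne_zero
    · exact Polynomial.leadingCoeff_ne_zero.2 (Polynomial.map_ne_zero hP0)
  have hev : ∀ᶠ n : ℕ in atTop,
      (1 - ε) * ((r.factorial : ℝ) * (f n : ℝ) / (n : ℝ) ^ r) ≤ e := by
    refine ((hlim.const_mul (1 - ε)).eventually_le_const ?_)
    nlinarith
  obtain ⟨k, hk, hk0⟩ := (hev.and (eventually_gt_atTop 0)).exists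
  refine ⟨IsLocalRing.maximalIdeal O ^ k, (k : ℝ) ^ r * e, Ideal.pow_le_self (by omega),
    ⟨k, le_rfl⟩, ?_, ?_⟩
  · refine ((hlim.comp (tendsto_id.nsmul_atTop (f := id) hk0)).const_mul ((k : ℝ) ^ r)).congr' ?_
    filter_upwards [eventually_gt_atTop 0] with n hn
    have hk' : (k : ℝ) ≠ 0 := by exact_mod_cast (Nat.pos_iff_ne_zero.1 hk0)
    have hn' : (n : ℝ) ≠ 0 := by exact_mod_cast (Nat.pos_iff_ne_zero.1 hn)
    simp only [Function.comp_apply, id, smul_eq_mul, f, ← pow_mul]
    push_cast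
    rw [mul_pow, ← pow_mul]
    field_simp
  · have hk' : (0 : ℝ) < (k : ℝ) ^ r := by positivity
    rw [← mul_div_assoc, div_le_iff₀ hk'] at hk
    linarith

end Groth.Agent.S19208
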