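import Groth.Statements.S19209
import Mathlib.Tactic

set_option autoImplicit false
universe u
open Curves

namespace Groth.Agent.S19209

/-- twice the area under the interpolation -/
noncomputable def area (p : ℕ → ℝ) (l : ℕ) (s : ℕ → ℕ) : ℝ :=
  ∑ k ∈ Finset.range l, (p (s k) + p (s (k + 1))) * ((s (k + 1) : ℝ) - (s k : ℝ))

theorem area_eq (p : ℕ → ℝ) (l : ℕ) (s : ℕ → ℕ) :
    ∑ k ∈ Finset.range l, (p (s k) - p (s (k + 1))) * ((s k : ℝ) + (s (k + 1) : ℝ)) =
      area p l s + 2 * (p (s 0) * (s 0) - p (s l) * (s l)) := by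
  induction l with
  | zero => simp [area]
  | succ l ih => simp only [area, Finset.sum_range_succ] at ih ⊢; rw [ih]; ring

/-- concatenation -/
def glue (l : ℕ) (s t : ℕ → ℕ) (k : ℕ) : ℕ := if k ≤ l then s k else t (k - l)

theorem area_glue (p : ℕ → ℝ) (l m : ℕ) (s t : ℕ → ℕ) (h : s l = t 0) :
    area p (l + m) (glue l s t) = area p l s + area p m t := by
  unfold area
  rw [Finset.sum_range_add]
  have g : ∀ k, glue l s t (l + k) = t k := by
    intro k; unfold glue; split_ifs with hk
    · have : k = 0 := by omega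
      subst this; simpa using h
    · simp
  congr 1
  · refine Finset.sum_congr rfl fun k hk => ?_
    have : k < l := Finset.mem_range.mp hk
    simp [glue, le_of_lt this, Nat.succ_le_iff.mpr this]
  · refine Finset.sum_congr rfl fun k _ => ?_
    rw [Nat.add_assoc, g, g]

theorem sum_aux (a n : ℕ) :
    (∑ i ∈ Finset.Icc a (a + n), (((a + n : ℕ) : ℝ) - i) = ((n:ℝ)+1) * n / 2) ∧
    (∑ i ∈ Finset.Icc a (a + n), ((i:ℝ) - a) = ((n:ℝ)+1) * n / 2) := by
  induction n with
  | zero => simp
  | succ n ih =>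
    rw [← add_assoc, Finset.sum_Icc_succ_top (by omega), Finset.sum_Icc_succ_top (by omega)]
    refine ⟨?_, by rw [ih.2]; push_cast; ring⟩
    have h := ih.1
    simp only [Finset.sum_sub_distrib, Finset.sum_const, Nat.card_Icc, nsmul_eq_mul] at h ⊢
    have e : a + n + 1 - a = n + 1 := by omega
    rw [e] at h ⊢
    push_cast at h ⊢
    linarith

theorem exists_chain (p : ℕ → ℝ) : ∀ d a b : ℕ, b = a + d + 1 → ∃ (l : ℕ) (s : ℕ → ℕ), s 0 = a ∧ s l = b ∧
      (∀ k, k < l → s k < s (k+1)) ∧
      area p l s ≤ (p a + p b) * ((b:ℝ) - a) ∧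
      area p l s ≤ 2 * (∑ i ∈ Finset.Icc a b, p i) - p a - p b := by
  intro d
  induction d using Nat.strong_induction_on with
  | _ d ih =>
    intro a b hab
    have hba : (b:ℝ) - a = (d:ℝ) + 1 := by subst hab; push_cast; ring
    by_cases hall : ∀ i ∈ Finset.Icc a b, p a * ((b:ℝ) - i) + p b * ((i:ℝ) - a) ≤ p i * ((b:ℝ) - a)
    · refine ⟨1, fun k => if k = 0 then a else b, by simp, by simp, ?_, ?_⟩
      · intro k hk
        interval_cases k
        simp; omega
      have e : area p 1 (fun k => if k = 0 then a else b) = (p a + p b) * ((b:ℝ) - a) := by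
        simp [area]
      rw [e]
      refine ⟨le_rfl, ?_⟩
      have h1 := Finset.sum_le_sum hall
      rw [← Finset.sum_mul, Finset.sum_add_distrib, ← Finset.mul_sum, ← Finset.mul_sum] at h1
      have s1 : ∑ i ∈ Finset.Icc a b, ((b:ℝ) - i) = ((d:ℝ)+2) * ((d:ℝ)+1) / 2 := by
        subst hab; exact (sum_aux a (d+1)).1.trans (by push_cast; ring)
      have s2 : ∑ i ∈ Finset.Icc a b, ((i:ℝ) - a) = ((d:ℝ)+2) * ((d:ℝ)+1) / 2 := by
        subst hab; exact (sum_aux a (d+1)).2.trans (by push_cast; ring)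
      rw [s1, s2, hba] at h1
      rw [hba]
      have : (0:ℝ) < (d:ℝ)+1 := by positivity
      nlinarith
    · push Not at hall
      obtain ⟨m, hm, hlt⟩ := hall
      rw [Finset.mem_Icc] at hm
      have ham : a ≠ m := by rintro rfl; simp at hlt
      have hmb : m ≠ b := by rintro rfl; simp at hlt
      obtain ⟨l₁, s₁, h10, h1l, h1s, h1A, h1B⟩ := ih (m - a - 1) (by omega) a m (by omega)
      obtain ⟨l₂, s₂, h20, h2l, h2s, h2A, h2B⟩ := ih (b - m - 1) (by omega) m b (by omega)
      refine ⟨l₁ + l₂, glue l₁ s₁ s₂, by simp [glue, h10], ?_, ?_, ?_⟩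
      · unfold glue
        split_ifs with h
        · have : l₂ = 0 := by omega
          subst this; simp; omega
        · rwa [Nat.add_sub_cancel_left]
      · intro k hk
        unfold glue
        split_ifs with h h' h'
        · exact h1s k (by omega)
        · have hk1 : k = l₁ := by omega
          have h0 := h2s 0 (by omega)
          rw [h20] at h0
          rw [hk1, h1l, show l₁ + 1 - l₁ = 0 + 1 by omega]
          exact h0
        · omega
        · have := h2s (k - l₁) (by omega)
          rwa [show k + 1 - l₁ = k - l₁ + 1 by omega]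
      rw [area_glue p l₁ l₂ s₁ s₂ (h1l.trans h20.symm)]
      constructor
      · nlinarith
      · have hsum : ∑ i ∈ Finset.Icc a b, p i =
            (∑ i ∈ Finset.Icc a m, p i) + (∑ i ∈ Finset.Icc m b, p i) - p m := by
          rw [← Finset.sum_union_inter]
          have u : Finset.Icc a m ∪ Finset.Icc m b = Finset.Icc a b := by ext; simp; omega
          have v : Finset.Icc a m ∩ Finset.Icc m b = {m} := by ext; simp; omega
          rw [u, v]; simp
        linarith


/-- Let n ≥ 1 and let p_0 ≥ p_1 ≥ … ≥ p_n = 0 be real numbers. Then some chain 0 = s_0 < s_1 < … < s_l =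
n satisfies Σ_{k<l} (p_{s_k} − p_{s_{k+1}})·(s_k + s_{k+1}) ≤ (2n/(n+1))·(p_0 + p_1 + … + p_n).
Equivalently the minimum of these sums over all chains, which is twice the area under the Newton
polygon (lower convex hull) of the points (k, p_k), is at most 2n/(n+1) times the sum of the
weights. -/
theorem result (n : ℕ) (hn : 1 ≤ n) (p : ℕ → ℝ)
    (hp : ∀ i j : ℕ, i ≤ j → j ≤ n → p j ≤ p i) (hpn : p n = 0) :
    ∃ (l : ℕ) (s : ℕ → ℕ), s 0 = 0 ∧ s l = n ∧ (∀ k : ℕ, k < l → s k < s (k + 1)) ∧
      (∑ k ∈ Finset.range l, (p (s k) - p (s (k + 1))) * ((s k : ℝ) + (s (k + 1) : ℝ))) ≤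
        2 * (n : ℝ) / ((n : ℝ) + 1) * ∑ i ∈ Finset.range (n + 1), p i := by
  obtain ⟨l, s, h0, hl, hs, hA, hB⟩ := exists_chain p (n - 1) 0 n (by omega)
  refine ⟨l, s, h0, hl, hs, ?_⟩
  have key : (∑ k ∈ Finset.range l, (p (s k) - p (s (k + 1))) * ((s k : ℝ) + (s (k + 1) : ℝ)))
      = area p l s := by
    rw [area_eq, h0, hl, hpn]; simp
  rw [key, div_mul_eq_mul_div, le_div_iff₀ (by positivity)]
  have hr : Finset.Icc 0 n = Finset.range (n + 1) := by ext; simp
  rw [hr] at hB
  simp only [hpn, Nat.cast_zero, add_zero, sub_zero] at hA hB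
  have : (0:ℝ) ≤ n := by positivity
  nlinarith

end Groth.Agent.S19209
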