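import Groth.Statements.S19210
import Groth.Agent.CAlg1.Regular


set_option autoImplicit false
universe u
open LocAlg

namespace Groth.Agent.S19210

/-- For natural numbers j ≤ r, the sums Σ_{i=0}^{n−1} (n − i)^{r−j} i^j equal n^{r+1}·(r − j)!·j!/(r +
1)! up to O(n^r): there is a real constant C with |Σ_{i<n} (n − i)^{r−j} i^j − ((r − j)!·j!/(r +
1)!)·n^{r+1}| ≤ C·n^r for all n ≥ 1. -/
theorem result (r j : ℕ) (hj : j ≤ r) :
    ∃ C : ℝ, ∀ n : ℕ, 1 ≤ n →
      |(∑ i ∈ Finset.range n, ((n : ℝ) - (i : ℝ)) ^ (r - j) * (i : ℝ) ^ j) -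
          ((r - j).factorial : ℝ) * (j.factorial : ℝ) / ((r + 1).factorial : ℝ) * (n : ℝ) ^ (r + 1)| ≤
        C * (n : ℝ) ^ r := by
  suffices key : ∀ a b : ℕ, ∃ C : ℝ, ∀ n : ℕ, 1 ≤ n →
      |(∑ i ∈ Finset.range n, ((n : ℝ) - (i : ℝ)) ^ a * (i : ℝ) ^ b) -
          (a.factorial : ℝ) * (b.factorial : ℝ) / ((a + b + 1).factorial : ℝ) * (n : ℝ) ^ (a + b + 1)| ≤
        C * (n : ℝ) ^ (a + b) by
    obtain ⟨C, hC⟩ := key (r - j) j
    rw [show r - j + j = r by omega] at hC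
    exact ⟨C, hC⟩
  intro a
  induction a with
  | zero =>
    intro b
    refine ⟨1, fun n _ => ?_⟩
    simp only [pow_zero, one_mul, Nat.factorial_zero, Nat.cast_one, zero_add]
    have hc : (b.factorial : ℝ) / ((b + 1).factorial : ℝ) = 1 / ((b : ℝ) + 1) := by
      rw [Nat.factorial_succ]; push_cast; field_simp
    rw [hc]
    have low : ∀ i : ℕ, ((b : ℝ) + 1) * (i : ℝ) ^ b ≤ ((i : ℝ) + 1) ^ (b + 1) - (i : ℝ) ^ (b + 1) ∧
        ((i : ℝ) + 1) ^ (b + 1) - (i : ℝ) ^ (b + 1) ≤ ((b : ℝ) + 1) * ((i : ℝ) + 1) ^ b := by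
      intro i
      have hg := geom_sum₂_mul ((i : ℝ) + 1) (i : ℝ) (b + 1)
      rw [add_sub_cancel_left, mul_one] at hg
      rw [← hg]
      constructor
      · refine le_trans (le_of_eq ?_) (Finset.sum_le_sum (f := fun _ => (i : ℝ) ^ b) fun l hl => ?_)
        · simp
        · rw [Finset.mem_range] at hl
          calc (i : ℝ) ^ b = (i : ℝ) ^ l * (i : ℝ) ^ (b + 1 - 1 - l) := by
                rw [← pow_add]; congr 1; omega
            _ ≤ _ := mul_le_mul_of_nonneg_right (pow_le_pow_left₀ (by positivity) (by linarith) _) (by positivity)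
      · refine le_trans (Finset.sum_le_sum (g := fun _ => ((i : ℝ) + 1) ^ b) fun l hl => ?_) (le_of_eq ?_)
        · rw [Finset.mem_range] at hl
          calc _ ≤ ((i : ℝ) + 1) ^ l * ((i : ℝ) + 1) ^ (b + 1 - 1 - l) :=
                mul_le_mul_of_nonneg_left (pow_le_pow_left₀ (by positivity) (by linarith) _) (by positivity)
            _ = ((i : ℝ) + 1) ^ b := by rw [← pow_add]; congr 1; omega
        · simp
    have htel : ∑ i ∈ Finset.range n, (((i : ℝ) + 1) ^ (b + 1) - (i : ℝ) ^ (b + 1)) = (n : ℝ) ^ (b + 1) := by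
      have := Finset.sum_range_sub (fun i : ℕ => (i : ℝ) ^ (b + 1)) n
      simpa using this
    have h1 := Finset.sum_le_sum (s := Finset.range n) fun i _ => (low i).1
    have h2 := Finset.sum_le_sum (s := Finset.range n) fun i _ => (low i).2
    rw [htel, ← Finset.mul_sum] at h1 h2
    have hshift : ∑ i ∈ Finset.range n, ((i : ℝ) + 1) ^ b ≤
        (∑ i ∈ Finset.range n, (i : ℝ) ^ b) + (n : ℝ) ^ b := by
      have := Finset.sum_range_succ' (fun i : ℕ => (i : ℝ) ^ b) n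
      rw [Finset.sum_range_succ] at this
      push_cast at this
      have h0 : (0 : ℝ) ≤ (0 : ℝ) ^ b := by positivity
      linarith
    set S := ∑ i ∈ Finset.range n, (i : ℝ) ^ b
    have hb : (0 : ℝ) < (b : ℝ) + 1 := by positivity
    have hn0 : (0 : ℝ) ≤ (n : ℝ) ^ b := by positivity
    have h3 : (n : ℝ) ^ (b + 1) ≤ ((b : ℝ) + 1) * (S + (n : ℝ) ^ b) :=
      h2.trans (mul_le_mul_of_nonneg_left hshift hb.le)
    have e1 : S ≤ 1 / ((b : ℝ) + 1) * (n : ℝ) ^ (b + 1) := by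
      rw [div_mul_eq_mul_div, one_mul, le_div_iff₀ hb]; linarith
    have e2 : 1 / ((b : ℝ) + 1) * (n : ℝ) ^ (b + 1) ≤ S + (n : ℝ) ^ b := by
      rw [div_mul_eq_mul_div, one_mul, div_le_iff₀ hb]; linarith
    rw [abs_le]
    constructor <;> linarith
  | succ a ih =>
    intro b
    obtain ⟨C₁, h₁⟩ := ih b
    obtain ⟨C₂, h₂⟩ := ih (b + 1)
    refine ⟨C₁ + C₂, fun n hn => ?_⟩
    have hs : (∑ i ∈ Finset.range n, ((n : ℝ) - (i : ℝ)) ^ (a + 1) * (i : ℝ) ^ b) =
        (n : ℝ) * (∑ i ∈ Finset.range n, ((n : ℝ) - (i : ℝ)) ^ a * (i : ℝ) ^ b) -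
          ∑ i ∈ Finset.range n, ((n : ℝ) - (i : ℝ)) ^ a * (i : ℝ) ^ (b + 1) := by
      rw [Finset.mul_sum, ← Finset.sum_sub_distrib]
      exact Finset.sum_congr rfl fun i _ => by ring
    have e1 := h₁ n hn
    have e2 := h₂ n hn
    rw [hs]
    set X := ∑ i ∈ Finset.range n, ((n : ℝ) - (i : ℝ)) ^ a * (i : ℝ) ^ b
    set Y := ∑ i ∈ Finset.range n, ((n : ℝ) - (i : ℝ)) ^ a * (i : ℝ) ^ (b + 1)
    have hid : ((a + 1).factorial : ℝ) * (b.factorial : ℝ) / ((a + 1 + b + 1).factorial : ℝ) *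
        (n : ℝ) ^ (a + 1 + b + 1) =
        (n : ℝ) * ((a.factorial : ℝ) * (b.factorial : ℝ) / ((a + b + 1).factorial : ℝ) * (n : ℝ) ^ (a + b + 1)) -
          (a.factorial : ℝ) * ((b + 1).factorial : ℝ) / ((a + (b + 1) + 1).factorial : ℝ) *
            (n : ℝ) ^ (a + (b + 1) + 1) := by
      rw [show a + 1 + b + 1 = (a + b + 1) + 1 by omega, show a + (b + 1) + 1 = (a + b + 1) + 1 by omega,
        Nat.factorial_succ (a + b + 1), Nat.factorial_succ a, Nat.factorial_succ b]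
      have : ((a + b + 1).factorial : ℝ) ≠ 0 := by exact_mod_cast Nat.factorial_ne_zero _
      push_cast
      field_simp
      ring
    rw [hid]
    have hn0 : (0 : ℝ) ≤ (n : ℝ) := by positivity
    have e1' : |(n : ℝ) * X - (n : ℝ) * ((a.factorial : ℝ) * (b.factorial : ℝ) / ((a + b + 1).factorial : ℝ) *
        (n : ℝ) ^ (a + b + 1))| ≤ C₁ * (n : ℝ) ^ (a + 1 + b) := by
      rw [← mul_sub, abs_mul, abs_of_nonneg hn0, show a + 1 + b = a + b + 1 by omega, pow_succ]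
      calc _ ≤ (n : ℝ) * (C₁ * (n : ℝ) ^ (a + b)) := mul_le_mul_of_nonneg_left e1 hn0
        _ = _ := by ring
    rw [show a + (b + 1) = a + 1 + b by omega] at e2
    rw [show a + (b + 1) = a + 1 + b by omega, add_mul]
    rw [abs_le] at e1' e2 ⊢
    constructor <;> linarith

end Groth.Agent.S19210
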