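import Groth.Statements.S19212
import Groth.Agent.DiagI52.Kaehler

set_option autoImplicit false
universe u v
open TensorProduct
open DiagIdeal

namespace Groth.Agent.S19212

/-- Let k be an algebraically closed field of characteristic zero and A a smooth k-algebra which is a
domain. Let the symmetric group on three letters permute the factors of A ⊗ A ⊗ A (it is generated
by the swap of the first two factors and the swap of the last two), let r : A ⊗ (A ⊗ A) → A ⊗ A be
the k-linear map a ⊗ b ⊗ c ↦ ab ⊗ c, and let D : A ⊗ A → Ω_{A/k} be the k-linear map a ⊗ b ↦ 2a·db −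
b·da. Then an element y of A ⊗ A satisfies D y = 0 if and only if y = r x for some x fixed by both
swaps, and D is surjective. (This is exactness at the last two places of the four-term right
resolution of the invariants of the ideal of the big diagonal on the symmetric cube of X = Spec A,
namely invariant functions on X³, then functions on X × X through restriction to a diagonal, then
one-forms on X; exactness at the first two places is immediate. The published statement is the sheaf
version on the symmetric cube of a smooth complex variety of any dimension; an algebraically closed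
field of characteristic zero is used here.) -/
theorem result (k : Type u) [Field k] [IsAlgClosed k] [CharZero k]
    (A : Type v) [CommRing A] [Algebra k A] [Algebra.Smooth k A] [IsDomain A]
    (r : A ⊗[k] (A ⊗[k] A) →ₗ[k] A ⊗[k] A)
    (hr : ∀ a b c : A, r (a ⊗ₜ[k] (b ⊗ₜ[k] c)) = (a * b) ⊗ₜ[k] c)
    (D : A ⊗[k] A →ₗ[k] Ω[A⁄k])
    (hD : ∀ a b : A, D (a ⊗ₜ[k] b) = (2 : A) • (a • KaehlerDifferential.D k A b) - b • KaehlerDifferential.D k A a) :
    (∀ y : A ⊗[k] A, D y = 0 ↔ ∃ x : A ⊗[k] (A ⊗[k] A),
        TensorProduct.leftComm k A A A x = x ∧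
        LinearMap.lTensor A (TensorProduct.comm k A A).toLinearMap x = x ∧ r x = y) ∧
    Function.Surjective D := by
  classical
  let τ := LinearMap.lTensor A (TensorProduct.comm k A A).toLinearMap
  let L := (TensorProduct.leftComm k A A A).toLinearMap
  let Fix : Submodule k (A ⊗[k] (A ⊗[k] A)) :=
    LinearMap.eqLocus L LinearMap.id ⊓ LinearMap.eqLocus τ LinearMap.id
  have hFix : ∀ x, x ∈ Fix ↔ L x = x ∧ τ x = x := fun x => Iff.rfl
  let S : Submodule k (A ⊗[k] A) := Fix.map r
  have gen : ∀ a b c : A, (a * b) ⊗ₜ[k] c + (a * c) ⊗ₜ[k] b + (b * c) ⊗ₜ[k] a ∈ S := by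
    intro a b c
    let x : A ⊗[k] (A ⊗[k] A) := a ⊗ₜ (b ⊗ₜ c) + a ⊗ₜ (c ⊗ₜ b) + b ⊗ₜ (a ⊗ₜ c) +
      b ⊗ₜ (c ⊗ₜ a) + c ⊗ₜ (a ⊗ₜ b) + c ⊗ₜ (b ⊗ₜ a)
    have hx : x ∈ Fix := by
      rw [hFix]
      refine ⟨?_, ?_⟩ <;> simp [x, L, τ] <;> abel
    have h2 : r x ∈ S := Submodule.mem_map_of_mem hx
    have h3 : r x = (2 : k) • ((a * b) ⊗ₜ[k] c + (a * c) ⊗ₜ[k] b + (b * c) ⊗ₜ[k] a) := by
      simp [x, hr, two_smul, mul_comm b a, mul_comm c a, mul_comm c b]
      abel
    rw [h3] at h2
    exact (Submodule.smul_mem_iff _ two_ne_zero).mp h2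
  let φ : A →ₗ[k] A →ₗ[k] (A ⊗[k] A) ⧸ S :=
    (3 : k)⁻¹ • (((2 : k) • TensorProduct.mk k A A + (TensorProduct.mk k A A).flip).compr₂ S.mkQ)
  have hφ : ∀ a b, φ a b = (3 : k)⁻¹ • Submodule.Quotient.mk
      ((2 : k) • (a ⊗ₜ[k] b) + b ⊗ₜ[k] a) := fun a b => by simp [φ]
  have q : ∀ a b c : A, (Submodule.Quotient.mk ((b * c) ⊗ₜ[k] a) : (A ⊗[k] A) ⧸ S) =
      - Submodule.Quotient.mk ((a * b) ⊗ₜ[k] c) - Submodule.Quotient.mk ((a * c) ⊗ₜ[k] b) := by
    intro a b c
    have h := (Submodule.Quotient.mk_eq_zero S).mpr (gen a b c)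
    simp only [Submodule.Quotient.mk_add] at h
    rw [eq_sub_iff_add_eq, ← sub_eq_zero, ← h]
    abel
  have qe : ∀ a : A, (Submodule.Quotient.mk ((1 : A) ⊗ₜ[k] a) : (A ⊗[k] A) ⧸ S) =
      -((2 : k) • Submodule.Quotient.mk (a ⊗ₜ[k] (1 : A))) := by
    intro a
    have h := q a 1 1
    simp only [mul_one] at h
    rw [h, two_smul]; abel
  obtain ⟨Φ, hΦ⟩ := Groth.Agent.DiagI52.exists_linear_of_balanced φ (fun a b c => by
    simp only [hφ, Submodule.Quotient.mk_add, Submodule.Quotient.mk_smul, two_smul, smul_add]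
    have e1 := q a (b * c) 1
    have e2 := q c a b
    have e3 := q b a c
    have e4 := q a b c
    simp only [mul_one, mul_comm c a, mul_comm b a, mul_comm c b] at e1 e2 e3 e4 ⊢
    have e5 := q (a * b) c 1
    have e6 := q (a * c) b 1
    simp only [mul_one] at e5 e6
    have ea : a * b * c = a * (b * c) := mul_assoc a b c
    have eb : a * c * b = a * (b * c) := by ring
    simp only [ea, eb] at e5 e6
    simp only [← smul_add]
    congr 1
    linear_combination (norm := abel) 2 • e1 - e4 - e5 - e6)
  have hD' : ∀ a b, D (a ⊗ₜ[k] b) = (2 : k) • (a • KaehlerDifferential.D k A b)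
      - b • KaehlerDifferential.D k A a := fun a b => by
    rw [hD, two_smul, two_smul]
  have hΦD : ∀ y : A ⊗[k] A, Φ (D y) = Submodule.Quotient.mk y := by
    intro y
    induction y using TensorProduct.induction_on with
    | zero => simp
    | tmul a b =>
      rw [hD', map_sub, map_smul, hΦ, hΦ, hφ, hφ]
      simp only [← Submodule.Quotient.mk_smul, ← Submodule.Quotient.mk_sub]
      congr 1
      match_scalars <;> norm_num
    | add x y hx hy => simp [hx, hy]
  refine ⟨fun y => ⟨fun hy => ?_, ?_⟩, ?_⟩
  · have h0 := hΦD y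
    rw [hy, map_zero] at h0
    obtain ⟨x, hx, rfl⟩ := (Submodule.Quotient.mk_eq_zero S).mp h0.symm
    exact ⟨x, hx.1, hx.2, rfl⟩
  · rintro ⟨x, h1, h2, rfl⟩
    let R := τ ∘ₗ L
    have hR : R x = x := by
      show τ (L x) = x
      rw [show L x = x from h1]; exact h2
    have h0 : D ∘ₗ r + D ∘ₗ r ∘ₗ R + D ∘ₗ r ∘ₗ R ∘ₗ R = 0 := by
      apply TensorProduct.ext'
      intro a bc
      induction bc using TensorProduct.induction_on with
      | zero => simp
      | tmul b c =>
        simp only [R, L, τ, LinearMap.add_apply, LinearMap.comp_apply, LinearEquiv.coe_coe,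
          TensorProduct.leftComm_tmul, LinearMap.lTensor_tmul, TensorProduct.comm_tmul,
          hr, hD, LinearMap.zero_apply, Derivation.leibniz, smul_add, smul_smul, two_mul, add_smul]
        match_scalars <;> ring
      | add x y hx hy => simp only [TensorProduct.tmul_add, map_add, hx, hy, add_zero]
    have h3 := LinearMap.congr_fun h0 x
    simp only [LinearMap.add_apply, LinearMap.comp_apply, hR, LinearMap.zero_apply] at h3
    have h4 : (3 : k) • D (r x) = 0 := by
      rw [← h3, show (3 : k) = 1 + 1 + 1 by norm_num, add_smul, add_smul, one_smul]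
    exact (smul_eq_zero.mp h4).resolve_left (by norm_num)
  · intro ω
    have : ω ∈ (Submodule.span A (Set.range (KaehlerDifferential.D k A))) := by
      rw [KaehlerDifferential.span_range_derivation]; trivial
    have key : ∀ a : A, a • ω ∈ LinearMap.range D := by
      induction this using Submodule.span_induction with
      | mem z hz =>
        obtain ⟨b, rfl⟩ := hz
        intro a
        refine ⟨(3 : k)⁻¹ • ((2 : k) • (a ⊗ₜ[k] b) + b ⊗ₜ[k] a), ?_⟩
        rw [map_smul, map_add, map_smul, hD', hD']
        match_scalars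
        · have h13 : algebraMap k A (3⁻¹) * 3 = 1 := by
            rw [← map_ofNat (algebraMap k A) 3, ← map_mul]; norm_num
          simp only [one_div, map_ofNat, mul_one, map_one, one_mul]
          linear_combination a * h13
        all_goals ring
      | zero => intro a; simp
      | add x y _ _ hx hy => intro a; rw [smul_add]; exact add_mem (hx a) (hy a)
      | smul b x _ hx => intro a; rw [smul_smul]; exact hx _
    simpa using key 1

end Groth.Agent.S19212
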