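import Groth.Statements.S19213
import Groth.Agent.DiagI52.Kaehler

set_option autoImplicit false
universe u v
open TensorProduct
open DiagIdeal

namespace Groth.Agent.S19213

/-- Let k be an algebraically closed field of characteristic zero and A a smooth k-algebra which is a
domain. Let r₁₂, r₂₃ : A ⊗ (A ⊗ A) → A ⊗ A be the k-linear maps a ⊗ u ⊗ v ↦ au ⊗ v and a ⊗ u ⊗ v ↦
uv ⊗ a (restriction to the diagonal of factors 1, 2, resp. 2, 3, the repeated coordinate written
first), let m : A ⊗ A → A be multiplication, and let ψ : (A ⊗ A) × (A ⊗ A) → Ω_{A/k} be the k-linear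
map with ψ(a ⊗ u, b ⊗ v) = 2a·du − v·db. Then for p, q in A ⊗ A with m p = m q one has ψ(p, q) = 0
if and only if (p, q) = (r₁₂ x, r₂₃ x) for some x fixed by the swap of the last two tensor factors;
and every element of Ω_{A/k} is ψ(p, q) for some pair with m p = m q. (This is exactness at the last
two places of the right resolution, on the symmetric cube of X = Spec A, of the invariants of the
ideal of the big diagonal under the transposition of the last two factors; exactness at the first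
two places is immediate. The published statement is the sheaf version for a smooth complex variety
of any dimension; an algebraically closed field of characteristic zero is used here.) -/
theorem result (k : Type u) [Field k] [IsAlgClosed k] [CharZero k]
    (A : Type v) [CommRing A] [Algebra k A] [Algebra.Smooth k A] [IsDomain A]
    (r₁₂ r₂₃ : A ⊗[k] (A ⊗[k] A) →ₗ[k] A ⊗[k] A)
    (h₁₂ : ∀ a u v : A, r₁₂ (a ⊗ₜ[k] (u ⊗ₜ[k] v)) = (a * u) ⊗ₜ[k] v)
    (h₂₃ : ∀ a u v : A, r₂₃ (a ⊗ₜ[k] (u ⊗ₜ[k] v)) = (u * v) ⊗ₜ[k] a)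
    (ψ : (A ⊗[k] A) × (A ⊗[k] A) →ₗ[k] Ω[A⁄k])
    (hψ : ∀ a u b v : A, ψ (a ⊗ₜ[k] u, b ⊗ₜ[k] v) =
      (2 : A) • (a • KaehlerDifferential.D k A u) - v • KaehlerDifferential.D k A b) :
    (∀ p q : A ⊗[k] A, LinearMap.mul' k A p = LinearMap.mul' k A q →
      (ψ (p, q) = 0 ↔ ∃ x : A ⊗[k] (A ⊗[k] A),
        LinearMap.lTensor A (TensorProduct.comm k A A).toLinearMap x = x ∧ r₁₂ x = p ∧ r₂₃ x = q)) ∧
    (∀ ω : Ω[A⁄k], ∃ p q : A ⊗[k] A, LinearMap.mul' k A p = LinearMap.mul' k A q ∧ ψ (p, q) = ω) := by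
  classical
  let τ := LinearMap.lTensor A (TensorProduct.comm k A A).toLinearMap
  let Fix : Submodule k (A ⊗[k] (A ⊗[k] A)) := LinearMap.eqLocus τ LinearMap.id
  have hFix : ∀ x, x ∈ Fix ↔ τ x = x := fun x => Iff.rfl
  let S : Submodule k ((A ⊗[k] A) × (A ⊗[k] A)) := Fix.map (r₁₂.prod r₂₃)
  have gen : ∀ a u v : A, ((a * u) ⊗ₜ[k] v + (a * v) ⊗ₜ[k] u, (2 : k) • ((u * v) ⊗ₜ[k] a)) ∈ S := by
    intro a u v
    refine ⟨a ⊗ₜ (u ⊗ₜ v) + a ⊗ₜ (v ⊗ₜ u), ?_, ?_⟩
    · show τ _ = _
      simp [τ]; abel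
    · simp [h₁₂, h₂₃, two_smul, mul_comm v u]
  let φ : A →ₗ[k] A →ₗ[k] ((A ⊗[k] A) × (A ⊗[k] A)) ⧸ S :=
    (2 : k)⁻¹ • (((TensorProduct.mk k A A).compr₂ (LinearMap.inl k (A ⊗[k] A) (A ⊗[k] A))
      + (LinearMap.mul k A).compr₂ (LinearMap.inr k (A ⊗[k] A) (A ⊗[k] A) ∘ₗ TensorProduct.mk k A A 1)).compr₂ S.mkQ)
  have hφ : ∀ a b, φ a b = (2 : k)⁻¹ • Submodule.Quotient.mk (a ⊗ₜ[k] b, (1 : A) ⊗ₜ[k] (a * b)) :=
    fun a b => by
      simp only [φ, LinearMap.smul_apply, LinearMap.compr₂_apply, LinearMap.add_apply,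
        LinearMap.comp_apply, TensorProduct.mk_apply, LinearMap.mul_apply', LinearMap.inl_apply,
        LinearMap.inr_apply, Prod.mk_add_mk, add_zero, zero_add, Submodule.mkQ_apply]
  obtain ⟨Φ, hΦ⟩ := Groth.Agent.DiagI52.exists_linear_of_balanced φ (fun a b c => by
    rw [hφ, hφ, hφ, ← smul_add]
    congr 1
    rw [← Submodule.Quotient.mk_add, Submodule.Quotient.eq]
    have g1 := gen a (b * c) 1
    have g2 := gen a b c
    have g3 := gen (a * (b * c)) 1 1
    have hg := sub_mem (sub_mem g1 g2) (Submodule.smul_mem S (2 : k)⁻¹ g3)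
    convert hg using 1
    have ea : a * b * c = a * (b * c) := mul_assoc a b c
    have eb : a * c * b = a * (b * c) := by ring
    simp only [mul_one, one_mul, ea, eb, Prod.mk_add_mk, Prod.mk_sub_mk, Prod.smul_mk, Prod.mk.injEq]
    constructor <;> match_scalars <;> norm_num)
  have hψl : ∀ a u, ψ (a ⊗ₜ[k] u, 0) = (2 : k) • (a • KaehlerDifferential.D k A u) := fun a u => by
    have := hψ a u 0 0
    simpa [two_smul] using this
  have hψr : ∀ b v, ψ (0, b ⊗ₜ[k] v) = - (v • KaehlerDifferential.D k A b) := fun b v => by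
    have := hψ 0 0 b v
    simpa using this
  let M : A ⊗[k] A →ₗ[k] A := LinearMap.mul' k A
  let G : A →ₗ[k] ((A ⊗[k] A) × (A ⊗[k] A)) ⧸ S :=
    S.mkQ ∘ₗ LinearMap.inr k (A ⊗[k] A) (A ⊗[k] A) ∘ₗ TensorProduct.mk k A A 1
  have hG : ∀ a, G a = Submodule.Quotient.mk (0, (1 : A) ⊗ₜ[k] a) := fun a => rfl
  have hl : ∀ p : A ⊗[k] A, Φ (ψ (p, 0)) = Submodule.Quotient.mk (p, 0) + G (M p) := by
    intro p
    induction p using TensorProduct.induction_on with
    | zero => simp [Prod.mk_zero_zero]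
    | tmul a u =>
      rw [hψl, map_smul, hΦ, hφ, smul_smul, mul_inv_cancel₀ two_ne_zero, one_smul, hG,
        ← Submodule.Quotient.mk_add]
      simp [M]
    | add x y hx hy =>
      rw [show (x + y, (0 : A ⊗[k] A)) = (x, 0) + (y, 0) by simp]
      simp only [map_add, hx, hy, Submodule.Quotient.mk_add]
      abel
  have hr' : ∀ p : A ⊗[k] A, Φ (ψ (0, p)) = Submodule.Quotient.mk (0, p) - G (M p) := by
    intro p
    induction p using TensorProduct.induction_on with
    | zero => simp [Prod.mk_zero_zero]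
    | tmul b v =>
      rw [hψr, map_neg, hΦ, hφ, hG, ← Submodule.Quotient.mk_smul, ← Submodule.Quotient.mk_neg,
        ← Submodule.Quotient.mk_sub, Submodule.Quotient.eq]
      have g1 := gen v b 1
      have g3 := gen (v * b) 1 1
      have hg := sub_mem (Submodule.smul_mem S (4 : k)⁻¹ g3) (Submodule.smul_mem S (2 : k)⁻¹ g1)
      convert hg using 1
      have ev : b * v = v * b := mul_comm _ _
      simp only [mul_one, one_mul, M, LinearMap.mul'_apply, ev, Prod.smul_mk, Prod.neg_mk, Prod.mk_sub_mk,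
        Prod.mk.injEq]
      constructor <;> match_scalars <;> norm_num
    | add x y hx hy =>
      rw [show ((0 : A ⊗[k] A), x + y) = (0, x) + (0, y) by simp]
      simp only [map_add, hx, hy, Submodule.Quotient.mk_add]
      abel
  refine ⟨fun p q hpq => ⟨fun h0 => ?_, ?_⟩, ?_⟩
  · have e : Φ (ψ (p, q)) = Submodule.Quotient.mk (p, q) := by
      have : (p, q) = (p, 0) + (0, q) := by simp
      rw [this, map_add, map_add, hl, hr', Submodule.Quotient.mk_add]
      simp only [M, hpq]; abel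
    rw [h0, map_zero] at e
    obtain ⟨x, hx, hxe⟩ := (Submodule.Quotient.mk_eq_zero S).mp e.symm
    exact ⟨x, hx, (Prod.mk.inj hxe).1, (Prod.mk.inj hxe).2⟩
  · rintro ⟨x, h1, rfl, rfl⟩
    have h0 : ψ ∘ₗ r₁₂.prod r₂₃ + ψ ∘ₗ r₁₂.prod r₂₃ ∘ₗ τ = 0 := by
      apply TensorProduct.ext'
      intro a bc
      induction bc using TensorProduct.induction_on with
      | zero => simp [Prod.mk_zero_zero]
      | tmul b c =>
        simp only [τ, LinearMap.add_apply, LinearMap.comp_apply, LinearEquiv.coe_coe,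
          LinearMap.lTensor_tmul, TensorProduct.comm_tmul, LinearMap.prod_apply, Function.prod,
          h₁₂, h₂₃, hψ, LinearMap.zero_apply, Derivation.leibniz]
        match_scalars <;> ring
      | add x y hx hy => simp only [TensorProduct.tmul_add, map_add, hx, hy, add_zero]
    have h3 := LinearMap.congr_fun h0 x
    have h1' : τ x = x := h1
    simp only [LinearMap.add_apply, LinearMap.comp_apply, h1', LinearMap.zero_apply,
      LinearMap.prod_apply, Function.prod] at h3
    have h4 : (2 : k) • ψ (r₁₂ x, r₂₃ x) = 0 := by rw [two_smul]; exact h3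
    exact (smul_eq_zero.mp h4).resolve_left (by norm_num)
  · intro ω
    have hsp : ω ∈ (Submodule.span A (Set.range (KaehlerDifferential.D k A))) := by
      rw [KaehlerDifferential.span_range_derivation]; trivial
    have key : ∀ a : A, ∃ p q : A ⊗[k] A, M p = M q ∧ ψ (p, q) = a • ω := by
      induction hsp using Submodule.span_induction with
      | mem z hz =>
        obtain ⟨b, rfl⟩ := hz
        intro a
        refine ⟨(2 : k)⁻¹ • (a ⊗ₜ[k] b), (2 : k)⁻¹ • ((1 : A) ⊗ₜ[k] (a * b)), by simp [M], ?_⟩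
        rw [← Prod.smul_mk, map_smul, hψ]
        simp only [Derivation.map_one_eq_zero, smul_zero, sub_zero]
        rw [two_smul, ← two_smul k, smul_smul, inv_mul_cancel₀ two_ne_zero, one_smul]
      | zero => intro a; exact ⟨0, 0, rfl, by simp [Prod.mk_zero_zero]⟩
      | add x y _ _ hx hy =>
        intro a
        obtain ⟨p, q, e1, e2⟩ := hx a
        obtain ⟨p', q', e1', e2'⟩ := hy a
        exact ⟨p + p', q + q', by simp [e1, e1'],
          by rw [← Prod.mk_add_mk, map_add, e2, e2', smul_add]⟩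
      | smul b x _ hx =>
        intro a
        rw [smul_smul]; exact hx _
    simpa using key 1

end Groth.Agent.S19213
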