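import Groth.Statements.S19214
import Groth.Agent.DiagI52.Sym
import Mathlib.Tactic

set_option autoImplicit false
universe u v
open TensorProduct
open DiagIdeal

namespace Groth.Agent.S19214

/-- The algebra map out of the triple power given by three algebra maps. -/
noncomputable def mkHom {k : Type u} [Field k] {A : Type v} [CommRing A] [Algebra k A] {n : ℕ}
    {S : Type*} [CommRing S] [Algebra k S] (g : Fin n → A →ₐ[k] S) :
    (⨂[k] _ : Fin n, A) →ₐ[k] S :=
  PiTensorProduct.liftAlgHom
    ((MultilinearMap.mkPiAlgebra k (Fin n) S).compLinearMap fun i => (g i).toLinearMap)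
    (by simp) (fun x y => by simp [Finset.prod_mul_distrib])

theorem mkHom_tprod {k : Type u} [Field k] {A : Type v} [CommRing A] [Algebra k A] {n : ℕ}
    {S : Type*} [CommRing S] [Algebra k S] (g : Fin n → A →ₐ[k] S) (f : Fin n → A) :
    mkHom g (PiTensorProduct.tprod k f) = ∏ i, g i (f i) := by
  show PiTensorProduct.lift _ (PiTensorProduct.tprod k f) = _
  rw [PiTensorProduct.lift.tprod]
  rfl

theorem mkHom_single {k : Type u} [Field k] {A : Type v} [CommRing A] [Algebra k A] {n : ℕ}
    {S : Type*} [CommRing S] [Algebra k S] (g : Fin n → A →ₐ[k] S) (i : Fin n) (a : A) :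
    mkHom g (PiTensorProduct.singleAlgHom (R := k) (A := fun _ : Fin n => A) i a) = g i a := by
  rw [PiTensorProduct.singleAlgHom_apply, mkHom_tprod, Finset.prod_eq_single i]
  · simp
  · intro j _ hj
    simp [Pi.mulSingle_eq_of_ne hj]
  · simp


/-- n = 3, affine form: let k be an algebraically closed field of characteristic zero and A a smooth
k-algebra which is a domain. In the triple tensor power of A over k, indexed by Fin 3, let I_{ij} be
the ideal generated by the elements a_i − a_j (a ∈ A put in factor i, resp. j, and 1 elsewhere), the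
ideal of the diagonal of factors i and j. Then every element fixed by all permutations of the three
factors and lying in I₁₂ ∩ I₁₃ ∩ I₂₃ lies in the product I₁₂ I₁₃ I₂₃: on the symmetric cube of Spec
A the invariants of the product of the three diagonal ideals and of their intersection coincide.
(The published statement is the sheaf version for a smooth complex variety; an algebraically closed
field of characteristic zero is used here.) -/
theorem result (k : Type u) [Field k] [IsAlgClosed k] [CharZero k]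
    (A : Type v) [CommRing A] [Algebra k A] [Algebra.Smooth k A] [IsDomain A]
    (x : ⨂[k] _ : Fin 3, A)
    (hx : ∀ σ : Equiv.Perm (Fin 3), PiTensorProduct.reindex k (fun _ : Fin 3 => A) σ x = x)
    (hmem : ∀ p : Fin 3 × Fin 3, p.1 < p.2 → x ∈ Ideal.span (Set.range fun a : A =>
        PiTensorProduct.singleAlgHom (R := k) (A := fun _ : Fin 3 => A) p.1 a -
        PiTensorProduct.singleAlgHom (R := k) (A := fun _ : Fin 3 => A) p.2 a)) :
    x ∈ ∏ p ∈ Finset.univ.filter (fun p : Fin 3 × Fin 3 => p.1 < p.2), Ideal.span (Set.range fun a : A =>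
        PiTensorProduct.singleAlgHom (R := k) (A := fun _ : Fin 3 => A) p.1 a -
        PiTensorProduct.singleAlgHom (R := k) (A := fun _ : Fin 3 => A) p.2 a) := by
  classical
  let R := ⨂[k] _ : Fin 3, A
  let s : Fin 3 → A →ₐ[k] R := fun i => PiTensorProduct.singleAlgHom (R := k) (A := fun _ : Fin 3 => A) i
  let J : Fin 3 × Fin 3 → Ideal R := fun p => Ideal.span (Set.range fun a : A => s p.1 a - s p.2 a)
  have hJ : (Finset.univ.filter (fun p : Fin 3 × Fin 3 => p.1 < p.2)) = {(0, 1), (0, 2), (1, 2)} := by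
    decide
  change x ∈ ∏ p ∈ Finset.univ.filter (fun p : Fin 3 × Fin 3 => p.1 < p.2), J p
  rw [hJ, Finset.prod_insert (by decide), Finset.prod_insert (by decide), Finset.prod_singleton]
  let K : Ideal R := J (0, 1) * (J (0, 2) * J (1, 2))
  change x ∈ K
  let q : R →+* R ⧸ K := Ideal.Quotient.mk K
  suffices hq : q x = 0 from Ideal.Quotient.eq_zero_iff_mem.1 hq
  -- the maps
  let lft : A →ₐ[k] A ⊗[k] A := Algebra.TensorProduct.includeLeft
  let rgt : A →ₐ[k] A ⊗[k] A := Algebra.TensorProduct.includeRight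
  let ψ : R →ₐ[k] A ⊗[k] A := mkHom ![lft, rgt, rgt]
  let i12 : A ⊗[k] A →ₐ[k] R := Algebra.TensorProduct.lift (s 0) (s 1) fun _ _ => mul_comm _ _
  let i13 : A ⊗[k] A →ₐ[k] R := Algebra.TensorProduct.lift (s 0) (s 2) fun _ _ => mul_comm _ _
  have h12 : ∀ a b, i12 (a ⊗ₜ[k] b) = s 0 a * s 1 b := fun a b => Algebra.TensorProduct.lift_tmul _ _ _ a b
  have h13 : ∀ a b, i13 (a ⊗ₜ[k] b) = s 0 a * s 2 b := fun a b => Algebra.TensorProduct.lift_tmul _ _ _ a b
  let e12 : R →ₐ[k] R := mkHom ![s 0, s 0, s 2]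
  let e13 : R →ₐ[k] R := mkHom ![s 0, s 1, s 0]
  let e123 : R →ₐ[k] R := mkHom ![s 0, s 0, s 0]
  let U : A →ₗ[k] ↥(KaehlerDifferential.ideal k A) :=
    (rgt.toLinearMap - lft.toLinearMap).codRestrict ((KaehlerDifferential.ideal k A).restrictScalars k)
      (fun a => KaehlerDifferential.one_smul_sub_smul_one_mem_ideal k a)
  have hU : ∀ a, (U a : A ⊗[k] A) = rgt a - lft a := fun a => rfl
  let W : A ⊗[k] A →ₗ[k]
      (↥(KaehlerDifferential.ideal k A) ⊗[A ⊗[k] A] ↥(KaehlerDifferential.ideal k A)) :=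
    TensorProduct.lift (((TensorProduct.mk (A ⊗[k] A) ↥(KaehlerDifferential.ideal k A)
      ↥(KaehlerDifferential.ideal k A)).restrictScalars₁₂ k k).compl₁₂ U U)
  let M : A ⊗[k] (A ⊗[k] A) →ₗ[k]
      (↥(KaehlerDifferential.ideal k A) ⊗[A ⊗[k] A] ↥(KaehlerDifferential.ideal k A)) :=
    TensorProduct.lift (((LinearMap.lsmul (A ⊗[k] A)
      (↥(KaehlerDifferential.ideal k A) ⊗[A ⊗[k] A] ↥(KaehlerDifferential.ideal k A))).restrictScalars₁₂ k k).compl₁₂
        lft.toLinearMap W)
  let e : R →ₐ[k] A ⊗[k] (A ⊗[k] A) :=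
    mkHom ![Algebra.TensorProduct.includeLeft, Algebra.TensorProduct.includeRight.comp lft,
      Algebra.TensorProduct.includeRight.comp rgt]
  let Γ := M ∘ₗ e.toLinearMap
  have hΓ : ∀ f : Fin 3 → A, Γ (PiTensorProduct.tprod k f) = lft (f 0) • (U (f 1) ⊗ₜ U (f 2)) := by
    intro f
    have he : e (PiTensorProduct.tprod k f) = f 0 ⊗ₜ (f 1 ⊗ₜ f 2) := by
      rw [show e = mkHom _ from rfl, mkHom_tprod, Fin.prod_univ_three]
      simp [lft, rgt]
    show M (e (PiTensorProduct.tprod k f)) = _
    rw [he]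
    rfl
  -- symmetry
  have hτ : ∀ y : R, TensorProduct.comm _ _ _ (Γ y) =
      Γ (PiTensorProduct.reindex k (fun _ : Fin 3 => A) (Equiv.swap 1 2) y) := by
    intro y
    induction y using PiTensorProduct.induction_on with
    | smul_tprod r f =>
      simp only [map_smul, PiTensorProduct.reindex_tprod, hΓ]
      rw [← LinearEquiv.coe_coe, LinearMap.map_smul_of_tower, LinearEquiv.coe_coe, LinearEquiv.map_smul,
        TensorProduct.comm_tmul]
      rfl
    | add a b ha hb => simp only [map_add, ha, hb]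
  -- products
  let L : R →ₗ[k] R := LinearMap.id - e12.toLinearMap - e13.toLinearMap + e123.toLinearMap
  have hL : ∀ f : Fin 3 → A, L (PiTensorProduct.tprod k f) =
      s 0 (f 0) * (s 1 (f 1) - s 0 (f 1)) * (s 2 (f 2) - s 0 (f 2)) := by
    intro f
    have hid : (PiTensorProduct.tprod k f : R) = s 0 (f 0) * s 1 (f 1) * s 2 (f 2) := by
      have h1 := congrArg (fun φ : R →ₐ[k] R => φ (PiTensorProduct.tprod k f))
        (show mkHom ![s 0, s 1, s 2] = AlgHom.id k R from PiTensorProduct.algHom_ext fun i => by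
          ext a
          fin_cases i <;> exact mkHom_single _ _ a)
      have h1' := (mkHom_tprod _ f).symm.trans h1
      simpa [Fin.prod_univ_three] using h1'.symm
    simp only [L, LinearMap.sub_apply, LinearMap.add_apply, LinearMap.id_apply, AlgHom.toLinearMap_apply,
      e12, e13, e123]
    rw [mkHom_tprod, mkHom_tprod, mkHom_tprod]
    simp only [Fin.prod_univ_three]
    simp only [Matrix.cons_val_zero, Matrix.cons_val_one, Matrix.cons_val_two, Matrix.head_cons,
      Matrix.tail_cons]
    rw [hid]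
    ring
  have hgenJ : ∀ (i j : Fin 3) (a : A), s i a - s j a ∈ J (i, j) := fun i j a =>
    Ideal.subset_span ⟨a, rfl⟩
  have kills : ∀ (φ : R →ₐ[k] R) (p : Fin 3 × Fin 3), (∀ a, φ (s p.1 a) = φ (s p.2 a)) →
      ∀ y ∈ J p, φ y = 0 := by
    intro φ p h y hy
    have : J p ≤ RingHom.ker φ.toRingHom := Ideal.span_le.2 (by
      rintro _ ⟨a, rfl⟩
      simp [RingHom.mem_ker, h a])
    exact this hy
  have hx12 : x ∈ J (0, 1) := hmem (0, 1) (by decide)
  have hx13 : x ∈ J (0, 2) := hmem (0, 2) (by decide)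
  have hx23 : x ∈ J (1, 2) := hmem (1, 2) (by decide)
  have hLx : L x = x := by
    have a1 : e12 x = 0 := kills e12 (0, 1) (fun a => (mkHom_single _ 0 a).trans (mkHom_single (![s 0, s 0, s 2]) 1 a).symm) x hx12
    have a2 : e13 x = 0 := kills e13 (0, 2) (fun a => (mkHom_single _ 0 a).trans (mkHom_single (![s 0, s 1, s 0]) 2 a).symm) x hx13
    have a3 : e123 x = 0 := kills e123 (0, 1) (fun a => (mkHom_single _ 0 a).trans (mkHom_single (![s 0, s 0, s 0]) 1 a).symm) x hx12
    simp [L, a1, a2, a3]
  have hψx : ψ x = 0 := by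
    have : J (1, 2) ≤ RingHom.ker ψ.toRingHom := Ideal.span_le.2 (by
      rintro _ ⟨a, rfl⟩
      have h1 : ψ (s 1 a) = rgt a := mkHom_single _ 1 a
      have h2 : ψ (s 2 a) = rgt a := mkHom_single _ 2 a
      simp [RingHom.mem_ker, h1, h2])
    exact this hx23
  have hψs : ∀ a, ψ (s 0 a) = lft a ∧ ψ (s 1 a) = rgt a ∧ ψ (s 2 a) = rgt a := fun a =>
    ⟨mkHom_single _ 0 a, mkHom_single _ 1 a, mkHom_single _ 2 a⟩
  have hμ : ∀ y : R, Groth.Agent.DiagI52.idealMul _ (Γ y) = ψ (L y) := by
    intro y
    induction y using PiTensorProduct.induction_on with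
    | smul_tprod r f =>
      simp only [map_smul, LinearMap.map_smul_of_tower, hΓ, hL, map_mul, map_sub, (hψs _).1, (hψs _).2.1,
        (hψs _).2.2, Groth.Agent.DiagI52.idealMul_tmul, hU, smul_eq_mul, mul_assoc]
    | add a b ha hb => simp only [map_add, ha, hb]
  have hΓx : Γ x = 0 := by
    refine Groth.Agent.DiagI52.eq_zero_of_comm_eq_self (Γ x) ?_ ?_
    · rw [hτ, hx]
    · rw [hμ, hLx, hψx]
  -- back
  letI : Module (A ⊗[k] A) (R ⧸ K) := Module.compHom _ (q.comp i12.toRingHom)
  have hi12 : ∀ f : ↥(KaehlerDifferential.ideal k A), i12 f ∈ J (0, 1) := by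
    intro f
    have : KaehlerDifferential.ideal k A ≤ (J (0, 1)).comap i12.toRingHom := by
      rw [← KaehlerDifferential.span_range_eq_ideal, Ideal.span_le]
      rintro _ ⟨a, rfl⟩
      show i12 ((1 : A) ⊗ₜ[k] a - a ⊗ₜ[k] (1 : A)) ∈ J (0, 1)
      rw [map_sub, h12, h12]
      simp only [map_one, one_mul, mul_one]
      rw [← neg_sub]
      exact neg_mem (hgenJ 0 1 a)
    exact this f.2
  have hi13 : ∀ f : ↥(KaehlerDifferential.ideal k A), i13 f ∈ J (0, 2) := by
    intro f
    have : KaehlerDifferential.ideal k A ≤ (J (0, 2)).comap i13.toRingHom := by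
      rw [← KaehlerDifferential.span_range_eq_ideal, Ideal.span_le]
      rintro _ ⟨a, rfl⟩
      show i13 ((1 : A) ⊗ₜ[k] a - a ⊗ₜ[k] (1 : A)) ∈ J (0, 2)
      rw [map_sub, h13, h13]
      simp only [map_one, one_mul, mul_one]
      rw [← neg_sub]
      exact neg_mem (hgenJ 0 2 a)
    exact this f.2
  have hdiff : ∀ p, i12 p - i13 p ∈ J (1, 2) := by
    intro p
    induction p using TensorProduct.induction_on with
    | zero => simp
    | add a b ha hb =>
      convert add_mem ha hb using 1
      simp only [map_add]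
      ring
    | tmul a b =>
      rw [h12, h13, ← mul_sub]
      exact Ideal.mul_mem_left _ _ (hgenJ 1 2 b)
  let β : ↥(KaehlerDifferential.ideal k A) →ₗ[A ⊗[k] A]
      ↥(KaehlerDifferential.ideal k A) →ₗ[A ⊗[k] A] R ⧸ K :=
    LinearMap.mk₂ _ (fun f g => q (i12 f * i13 g))
      (fun f f' g => by simp only [Submodule.coe_add, map_add, add_mul])
      (fun p f g => by
        show q (i12 ((p : A ⊗[k] A) * f) * i13 g) = q (i12 p) * q (i12 f * i13 g)
        rw [map_mul i12, ← map_mul q, mul_assoc])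
      (fun f g g' => by simp only [Submodule.coe_add, map_add, mul_add])
      (fun p f g => by
        show q (i12 f * i13 ((p : A ⊗[k] A) * g)) = q (i12 p) * q (i12 f * i13 g)
        rw [← map_mul q, map_mul i13, Ideal.Quotient.eq,
          show i12 f * (i13 p * i13 g) - i12 p * (i12 f * i13 g) = -(i12 f * (i13 g * (i12 p - i13 p))) by ring]
        exact neg_mem (Ideal.mul_mem_mul (hi12 f) (Ideal.mul_mem_mul (hi13 g) (hdiff p))))
  have hB : ∀ y : R, TensorProduct.lift β (Γ y) = q (L y) := by
    intro y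
    induction y using PiTensorProduct.induction_on with
    | smul_tprod r f =>
      simp only [map_smul]
      rw [show (TensorProduct.lift β) (r • Γ (PiTensorProduct.tprod k f)) =
        TensorProduct.lift β (algebraMap k (A ⊗[k] A) r • Γ (PiTensorProduct.tprod k f)) by
          rw [algebraMap_smul], LinearMap.map_smul, hΓ, LinearMap.map_smul, hL, Algebra.smul_def r]
      show q (i12 (algebraMap k (A ⊗[k] A) r)) * (q (i12 (lft (f 0))) * q (i12 (U (f 1)) * i13 (U (f 2)))) = _
      rw [AlgHom.commutes, map_mul q, map_mul q, map_mul q, map_mul q, mul_assoc]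
      simp [hU, lft, rgt, h12, h13]
    | add a b ha hb => simp only [map_add, ha, hb]
  rw [← hLx, ← hB, hΓx, map_zero]

end Groth.Agent.S19214
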