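import Groth.Statements.S19216
import Mathlib.Tactic

set_option autoImplicit false
universe u
open SymRep

namespace Groth.Agent.S19216

/-- Let k be a field of characteristic zero and r, s ≥ 1. Realise the standard representation of the
symmetric group on a finite set T as the hyperplane of functions T → k with sum zero, the group
acting by precomposition with the inverse. Then the standard representation of the symmetric group
of Fin r ⊕ Fin s, restricted to the subgroup S_r × S_s, is isomorphic to the direct sum of the
standard representations of S_r and of S_s and of a one-dimensional trivial representation: there is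
a k-linear map E from functions on Fin r ⊕ Fin s to triples (function on Fin r, function on Fin s,
scalar), compatible with the actions of S_r × S_s (trivial on the scalar), which maps the sum-zero
hyperplane bijectively onto the product of the two sum-zero hyperplanes and k. (The published
statement is over the complex numbers; a field of characteristic zero is used here. The published
statement also gives the analogous decomposition for any number of blocks, which follows by
induction; only the two-block case is stated here.) -/
theorem result (k : Type u) [Field k] [CharZero k]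
    (r s : ℕ) (hr : 1 ≤ r) (hs : 1 ≤ s) :
    ∃ E : (Fin r ⊕ Fin s → k) →ₗ[k] (Fin r → k) × (Fin s → k) × k,
      (∀ (σ : Equiv.Perm (Fin r)) (τ : Equiv.Perm (Fin s)) (f : Fin r ⊕ Fin s → k),
        E (f ∘ ⇑(Equiv.sumCongr σ τ).symm) = ((E f).1 ∘ ⇑σ.symm, (E f).2.1 ∘ ⇑τ.symm, (E f).2.2)) ∧
      Set.BijOn E {f | ∑ i, f i = 0}
        ({g : Fin r → k | ∑ i, g i = 0} ×ˢ ({h : Fin s → k | ∑ i, h i = 0} ×ˢ Set.univ)) := by
  have hr' : (r : k) ≠ 0 := Nat.cast_ne_zero.mpr (by omega)
  have hs' : (s : k) ≠ 0 := Nat.cast_ne_zero.mpr (by omega)
  refine ⟨{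
    toFun := fun f => (fun a => f (Sum.inl a) - (∑ i, f (Sum.inl i)) / r,
      fun b => f (Sum.inr b) - (∑ i, f (Sum.inr i)) / s, ∑ i, f (Sum.inl i))
    map_add' := fun f g => by
      refine Prod.ext (funext fun a => ?_) (Prod.ext (funext fun b => ?_) ?_) <;>
        simp [Finset.sum_add_distrib, add_div] <;> ring
    map_smul' := fun c f => by
      refine Prod.ext (funext fun a => ?_) (Prod.ext (funext fun b => ?_) ?_) <;>
        simp [← Finset.mul_sum] <;> ring }, fun σ τ f => ?_, ?_, ?_, ?_⟩
  · refine Prod.ext (funext fun a => ?_) (Prod.ext (funext fun b => ?_) ?_)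
    all_goals simp [Equiv.sum_comp σ.symm (fun i => f (Sum.inl i)), Equiv.sum_comp τ.symm (fun i => f (Sum.inr i))]
  · intro f _
    refine ⟨?_, ?_, Set.mem_univ _⟩
    · show ∑ a, (f (Sum.inl a) - (∑ i, f (Sum.inl i)) / r) = 0
      rw [Finset.sum_sub_distrib, Finset.sum_const, Finset.card_univ, Fintype.card_fin, nsmul_eq_mul,
        mul_div_cancel₀ _ hr', sub_self]
    · show ∑ b, (f (Sum.inr b) - (∑ i, f (Sum.inr i)) / s) = 0
      rw [Finset.sum_sub_distrib, Finset.sum_const, Finset.card_univ, Fintype.card_fin, nsmul_eq_mul,
        mul_div_cancel₀ _ hs', sub_self]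
  · intro f hf g hg he
    simp only [Set.mem_setOf_eq, Fintype.sum_sum_type] at hf hg
    simp only [LinearMap.coe_mk, AddHom.coe_mk, Prod.mk.injEq] at he
    obtain ⟨e1, e2, e3⟩ := he
    have e4 : ∑ i, f (Sum.inr i) = ∑ i, g (Sum.inr i) := by linear_combination hf - hg - e3
    funext x
    cases x with
    | inl a => linear_combination congrFun e1 a + (1 / (r : k)) * e3
    | inr b => linear_combination congrFun e2 b + (1 / (s : k)) * e4
  · rintro ⟨g, h, c⟩ ⟨hg, hh, -⟩
    simp only [Set.mem_setOf_eq] at hg hh
    refine ⟨Sum.elim (fun a => g a + c / r) (fun b => h b - c / s), ?_, ?_⟩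
    · simp only [Set.mem_setOf_eq, Fintype.sum_sum_type, Sum.elim_inl, Sum.elim_inr, Finset.sum_add_distrib,
        Finset.sum_sub_distrib, hg, hh, Finset.sum_const, Finset.card_univ, Fintype.card_fin, nsmul_eq_mul,
        mul_div_cancel₀ _ hr', mul_div_cancel₀ _ hs']
      ring
    · simp only [LinearMap.coe_mk, AddHom.coe_mk, Sum.elim_inl, Sum.elim_inr, Finset.sum_add_distrib,
        Finset.sum_sub_distrib, hg, hh, Finset.sum_const, Finset.card_univ, Fintype.card_fin, nsmul_eq_mul,
        mul_div_cancel₀ _ hr', mul_div_cancel₀ _ hs', zero_add, add_sub_cancel_right, zero_sub]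
      refine Prod.ext rfl (Prod.ext ?_ rfl)
      funext b
      ring

end Groth.Agent.S19216
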