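import Groth.Agent.Hopf35.LocCohLow
import Groth.Agent.Hopf35.DiagSymbolic
import Groth.Agent.Tors37.Hartogs
import Groth.Agent.FlatMor67.SmoothIsRegular
import Groth.Statements.S19217

set_option autoImplicit false
universe u
open TensorProduct CategoryTheory CategoryTheory.Limits
open DiagIdeal

namespace Groth.Agent.S19217

theorem result (k : Type u) [Field k] [IsAlgClosed k] [CharZero k]
    (A : Type u) [CommRing A] [Algebra k A] [Algebra.Smooth k A] [IsDomain A]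
    (hdim : ringKrullDim A = 2) (n : ℕ) (ℓ : Fin n × Fin n → ℕ)
    (I : Fin n × Fin n → Ideal (⨂[k] _ : Fin n, A))
    (hI : ∀ p, I p = Ideal.span (Set.range fun a : A =>
        PiTensorProduct.singleAlgHom (R := k) (A := fun _ : Fin n => A) p.1 a -
        PiTensorProduct.singleAlgHom (R := k) (A := fun _ : Fin n => A) p.2 a))
    (𝔞 : Ideal (⨂[k] _ : Fin n, A))
    (h𝔞 : 𝔞 = ⨅ pq ∈ Finset.univ.filter (fun pq : (Fin n × Fin n) × (Fin n × Fin n) =>
        pq.1.1 < pq.1.2 ∧ pq.2.1 < pq.2.2 ∧ pq.1 ≠ pq.2), I pq.1 ⊔ I pq.2)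
    (M : Submodule (⨂[k] _ : Fin n, A) (⨂[k] _ : Fin n, A))
    (hM : M = ⨅ p ∈ Finset.univ.filter (fun p : Fin n × Fin n => p.1 < p.2), (I p) ^ (ℓ p)) :
    IsZero ((localCohomology 𝔞 0).obj (ModuleCat.of (⨂[k] _ : Fin n, A) M)) ∧
    IsZero ((localCohomology 𝔞 1).obj (ModuleCat.of (⨂[k] _ : Fin n, A) M)) := by
  classical
  haveI : Algebra.Smooth k (⨂[k] _ : Fin n, A) := Hopf35.TensorPow.smooth k A n
  haveI hdom : IsDomain (⨂[k] _ : Fin n, A) := Hopf35.TensorPow.isDomain k A n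
  haveI : IsNoetherianRing (⨂[k] _ : Fin n, A) := Algebra.FiniteType.isNoetherianRing k _
  haveI : IsRegularRing (⨂[k] _ : Fin n, A) := FlatMor67.isRegularRing_of_smooth k _
  have hA : ¬ Function.Surjective (algebraMap k A) := fun hs => by
    have h := ringKrullDim_le_of_surjective (algebraMap k A) hs
    rw [hdim, ringKrullDim_eq_zero_of_field k] at h
    norm_cast at h
  have hI' : ∀ p, I p = Hopf35.DiagSymbolic.diag k A p.1 p.2 := hI
  have hprime : ∀ p, (I p).IsPrime := fun p => hI' p ▸ Hopf35.DiagSymbolic.isPrime_diag p.1 p.2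
  have hnle : ∀ p q : Fin n × Fin n, p.1 < p.2 → q.1 < q.2 → p ≠ q → ¬ I p ≤ I q := fun p q hp hq hne => by
    rw [hI', hI']; exact Hopf35.DiagSymbolic.not_diag_le hA hp hq hne
  have hsplit : ∀ q : Ideal (⨂[k] _ : Fin n, A), q.IsPrime → 𝔞 ≤ q →
      ∃ a b : Fin n × Fin n, a.1 < a.2 ∧ b.1 < b.2 ∧ a ≠ b ∧ I a ≤ q ∧ I b ≤ q := fun q hq hle => by
    rw [h𝔞, ← Finset.inf_eq_iInf, Ideal.IsPrime.inf_le' hq] at hle
    obtain ⟨pq, hpq, hle⟩ := hle
    obtain ⟨ha, hb, hne⟩ := (Finset.mem_filter.1 hpq).2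
    exact ⟨pq.1, pq.2, ha, hb, hne, le_sup_left.trans hle, le_sup_right.trans hle⟩
  have hIne : ∀ a : Fin n × Fin n, a.1 < a.2 → I a ≠ ⊥ := fun a ha h0 => by
    obtain ⟨x, hx⟩ := Hopf35.TensorPow.exists_inc_ne (k := k) hA ha.ne
    refine hx (sub_eq_zero.1 ?_)
    rw [← Ideal.mem_bot, ← h0, hI']
    exact Hopf35.DiagSymbolic.sub_mem_diag _ _ x
  have h𝔞ne : 𝔞 ≠ ⊥ := fun h0 => by
    obtain ⟨a, -, ha, -, -, hle, -⟩ := hsplit ⊥ Ideal.isPrime_bot h0.le
    exact hIne a ha (le_bot_iff.1 hle)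
  have h𝔞p : ∀ p : Fin n × Fin n, p.1 < p.2 → ¬ 𝔞 ≤ I p := fun p hp hle => by
    obtain ⟨a, b, ha, hb, hne, hla, hlb⟩ := hsplit (I p) (hprime p) hle
    by_cases h : a = p
    · exact hnle b p hb hp (fun hb' => hne (h.trans hb'.symm)) hlb
    · exact hnle a p ha hp h hla
  refine ⟨Hopf35.LocCohLow.isZero_localCohomology_of 𝔞 M 0 fun t => ?_,
    Hopf35.LocCohLow.isZero_localCohomology_of 𝔞 M 1 fun t => ?_⟩
  · refine Hopf35.LocCohLow.subsingleton_ext_zero M _ fun m hm => ?_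
    obtain ⟨a, ha, ha0⟩ := (Submodule.ne_bot_iff _).1 (pow_ne_zero t h𝔞ne : 𝔞 ^ t ≠ ⊥)
    exact Subtype.ext ((mul_eq_zero.1 (congrArg Subtype.val (hm a ha))).resolve_left ha0)
  refine Hopf35.LocCohLow.subsingleton_ext_one M _ fun φ => ?_
  obtain ⟨S, hS⟩ := (IsNoetherian.noetherian 𝔞 : 𝔞.FG)
  let f : S → (⨂[k] _ : Fin n, A) := fun i => i
  have hgood : Tors37.Hartogs.Good f := fun q hq hfq => by
    have hle : 𝔞 ≤ q := hS ▸ Ideal.span_le.2 fun i hi => hfq ⟨i, hi⟩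
    refine ⟨IsRegularRing.isRegularLocalRing_localization q, ?_⟩
    obtain ⟨a, b, ha, hb, hne, hla, hlb⟩ := hsplit q hq hle
    haveI := hprime a
    have h1 : (⊥ : Ideal (⨂[k] _ : Fin n, A)) < I a := bot_lt_iff_ne_bot.2 (hIne a ha)
    have h2 : I a < q := lt_of_le_of_ne hla fun h => hnle b a hb ha hne.symm (h ▸ hlb)
    have e1 := Ideal.height_strict_mono_of_isPrime h1
    have e2 := Ideal.height_strict_mono_of_isPrime h2
    have h3 : (2 : ℕ∞) ≤ q.height := by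
      have := Order.add_one_le_of_lt e1
      have := Order.add_one_le_of_lt e2
      calc (2 : ℕ∞) = 0 + 1 + 1 := by norm_num
        _ ≤ (⊥ : Ideal (⨂[k] _ : Fin n, A)).height + 1 + 1 := by gcongr; exact zero_le
        _ ≤ (I a).height + 1 := by gcongr
        _ ≤ q.height := this
    rw [IsLocalization.AtPrime.ringKrullDim_eq_height q (Localization.AtPrime q)]
    exact (WithBot.coe_le_coe.2 h3 : ((2 : ℕ∞) : WithBot ℕ∞) ≤ (q.height : WithBot ℕ∞))
  let e : S → ↥(𝔞 ^ t) := fun i => ⟨f i ^ t, Ideal.pow_mem_pow (hS ▸ Ideal.subset_span i.2) t⟩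
  have hcomm : ∀ x y : ↥(𝔞 ^ t), (x : ⨂[k] _ : Fin n, A) * (φ y : ⨂[k] _ : Fin n, A) = y * (φ x : ⨂[k] _ : Fin n, A) := fun x y => by
    have := congrArg φ (show (x : ⨂[k] _ : Fin n, A) • y = (y : ⨂[k] _ : Fin n, A) • x from Subtype.ext (mul_comm _ _))
    rw [map_smul, map_smul] at this
    exact congrArg Subtype.val this
  obtain ⟨m, hm⟩ := Tors37.Hartogs.ring_exists_glue hgood t (fun i => (φ (e i) : ⨂[k] _ : Fin n, A))
    (fun i j => hcomm (e j) (e i))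
  obtain ⟨i₀, hi₀⟩ : ∃ i : S, f i ≠ 0 := by
    by_contra hc
    push Not at hc
    refine h𝔞ne (hS ▸ Ideal.span_eq_bot.2 fun i hi => hc ⟨i, hi⟩)
  have key : ∀ x : ↥(𝔞 ^ t), (φ x : ⨂[k] _ : Fin n, A) = x * m := fun x => by
    refine mul_left_cancel₀ (pow_ne_zero t hi₀) ?_
    rw [mul_left_comm (f i₀ ^ t), hm i₀]
    exact hcomm (e i₀) x
  have hmM : m ∈ M := by
    rw [hM, Submodule.mem_iInf]
    intro p
    rw [Submodule.mem_iInf]
    intro hp
    have hp' : p.1 < p.2 := (Finset.mem_filter.1 hp).2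
    obtain ⟨i, hi⟩ : ∃ i : S, f i ∉ I p := by
      by_contra hc
      push Not at hc
      exact h𝔞p p hp' (hS ▸ Ideal.span_le.2 fun i hi => hc ⟨i, hi⟩)
    have hmem : f i ^ t * m ∈ I p ^ ℓ p := by
      rw [← key (e i)]
      have := hM.le (φ (e i)).2
      rw [Submodule.mem_iInf] at this
      exact Submodule.mem_iInf _ |>.1 (this p) hp
    have hnot : f i ^ t ∉ I p := fun h => hi ((hprime p).mem_of_pow_mem t h)
    rw [hI' p] at hmem hnot ⊢
    exact Hopf35.DiagSymbolic.mem_pow_of_mul_mem_diag hp'.ne hnot hmem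
  exact ⟨⟨m, hmM⟩, fun x => Subtype.ext (key x)⟩

end Groth.Agent.S19217
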