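import Groth.Statements.S19218
import Mathlib.Tactic

set_option autoImplicit false
universe u v
open TensorProduct
open DiagIdeal

namespace Groth.Agent.S19218

/-- Let k be an algebraically closed field of characteristic zero and A a smooth k-algebra which is a
domain of Krull dimension 2. In the n-fold tensor power R of A over k, indexed by Fin n, let I_p (p
= (i, j), i < j) be the ideal generated by the a_i − a_j, a ∈ A, and let I be the intersection of
the I_p, the ideal of the big diagonal. Assume that for every s ≥ 0 the power I ^ s is the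
intersection of the powers I_p ^ s (a property of the big diagonal of a smooth surface that the
source takes from the literature). Then for m ≥ 1 every element of R fixed by all permutations of
the n factors and lying in I ^ (2m − 1) lies in I ^ (2m): on the symmetric product the invariants of
the odd power and of the next even power of the ideal of the big diagonal coincide. (The source
states the sheaf version for a smooth quasi-projective complex surface, using the displayed property
of the powers without restating it as a hypothesis.) -/
theorem result (k : Type u) [Field k] [IsAlgClosed k] [CharZero k]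
    (A : Type v) [CommRing A] [Algebra k A] [Algebra.Smooth k A] [IsDomain A]
    (hdim : ringKrullDim A = 2) (n : ℕ)
    (I : Fin n × Fin n → Ideal (⨂[k] _ : Fin n, A))
    (hI : ∀ p, I p = Ideal.span (Set.range fun a : A =>
        PiTensorProduct.singleAlgHom (R := k) (A := fun _ : Fin n => A) p.1 a -
        PiTensorProduct.singleAlgHom (R := k) (A := fun _ : Fin n => A) p.2 a))
    (IΔ : Ideal (⨂[k] _ : Fin n, A))
    (hIΔ : IΔ = ⨅ p ∈ Finset.univ.filter (fun p : Fin n × Fin n => p.1 < p.2), I p)
    (hpow : ∀ s : ℕ, IΔ ^ s = ⨅ p ∈ Finset.univ.filter (fun p : Fin n × Fin n => p.1 < p.2), (I p) ^ s)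
    (m : ℕ) (hm : 1 ≤ m) (x : ⨂[k] _ : Fin n, A)
    (hx : ∀ σ : Equiv.Perm (Fin n), PiTensorProduct.reindex k (fun _ : Fin n => A) σ x = x)
    (hmem : x ∈ IΔ ^ (2 * m - 1)) :
    x ∈ IΔ ^ (2 * m) := by
  classical
  obtain ⟨m, rfl⟩ : ∃ t, m = t + 1 := ⟨m - 1, by omega⟩
  rw [hpow, Ideal.mem_iInf]
  rw [hpow, Ideal.mem_iInf] at hmem
  intro p
  rw [Ideal.mem_iInf]
  intro hp
  have hp' : p.1 < p.2 := (Finset.mem_filter.mp hp).2
  have hxm := Ideal.mem_iInf.mp (hmem p) hp
  set σ := Equiv.swap p.1 p.2
  set L : (⨂[k] _ : Fin n, A) →ₗ[k] (⨂[k] _ : Fin n, A) :=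
    (PiTensorProduct.reindex k (fun _ : Fin n => A) σ).toLinearMap with hL
  have hLt : ∀ f : Fin n → A, L (PiTensorProduct.tprod k f) = PiTensorProduct.tprod k (fun i => f (σ i)) :=
    fun f => by simp [hL, σ]
  have hmul : ∀ u v, L (u * v) = L u * L v := by
    intro u v
    induction u using PiTensorProduct.induction_on with
    | smul_tprod r f =>
      induction v using PiTensorProduct.induction_on with
      | smul_tprod r' g =>
        simp only [smul_mul_smul_comm, map_smul, PiTensorProduct.tprod_mul_tprod, hLt]
        rfl
      | add v w hv hw => rw [mul_add, map_add, map_add, mul_add, hv, hw]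
    | add u w hu hw => rw [add_mul, map_add, map_add, add_mul, hu, hw]
  have hs : ∀ (i : Fin n) (a : A), L (PiTensorProduct.singleAlgHom (R := k) (A := fun _ : Fin n => A) i a) =
      PiTensorProduct.singleAlgHom (R := k) (A := fun _ : Fin n => A) (σ i) a := by
    intro i a
    rw [PiTensorProduct.singleAlgHom_apply, PiTensorProduct.singleAlgHom_apply, hLt]
    congr 1
    funext t
    simp only [MonoidHom.mulSingle_apply]
    rcases eq_or_ne (σ t) i with h | h
    · have e : t = σ i := by rw [← h, Equiv.swap_apply_self]
      rw [h, ← e, Pi.mulSingle_eq_same, Pi.mulSingle_eq_same]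
    · have e : t ≠ σ i := by rintro rfl; exact h (Equiv.swap_apply_self _ _ _)
      rw [Pi.mulSingle_eq_of_ne h, Pi.mulSingle_eq_of_ne e]
  set J := I p with hJ
  have hJe : J = _ := hI p
  have hd : ∀ a : A, PiTensorProduct.singleAlgHom (R := k) (A := fun _ : Fin n => A) p.1 a -
      PiTensorProduct.singleAlgHom (R := k) (A := fun _ : Fin n => A) p.2 a ∈ J := fun a => by
    rw [hJe]; exact Ideal.subset_span ⟨a, rfl⟩
  have h0 : ∀ y, L y - y ∈ J := by
    intro y
    induction y using PiTensorProduct.induction_on with
    | smul_tprod r f =>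
      rw [map_smul, ← smul_sub, Algebra.smul_def]
      refine J.mul_mem_left _ ?_
      have hprod : PiTensorProduct.tprod k f =
          ∏ i, PiTensorProduct.singleAlgHom (R := k) (A := fun _ : Fin n => A) i (f i) := by
        conv_lhs => rw [show f = ∏ i, Pi.mulSingle i (f i) from (Finset.univ_prod_mulSingle f).symm]
        rw [show PiTensorProduct.tprod k (∏ i, Pi.mulSingle i (f i)) =
          PiTensorProduct.tprodMonoidHom k (∏ i, Pi.mulSingle i (f i)) from rfl, map_prod]
        rfl
      rw [hprod]
      rw [show L (∏ i, PiTensorProduct.singleAlgHom (R := k) (A := fun _ : Fin n => A) i (f i)) =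
        ∏ i, PiTensorProduct.singleAlgHom (R := k) (A := fun _ : Fin n => A) (σ i) (f i) from ?_]
      · rw [← Ideal.Quotient.eq, map_prod, map_prod]
        refine Finset.prod_congr rfl fun i _ => Ideal.Quotient.eq.mpr ?_
        rcases eq_or_ne i p.1 with rfl | h
        · rw [Equiv.swap_apply_left, ← neg_sub]; exact J.neg_mem (hd _)
        rcases eq_or_ne i p.2 with rfl | h2
        · rw [Equiv.swap_apply_right]; exact hd _
        rw [Equiv.swap_apply_of_ne_of_ne h h2, sub_self]; exact zero_mem _
      · let M : (⨂[k] _ : Fin n, A) →* (⨂[k] _ : Fin n, A) :=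
          { toFun := L, map_one' := by rw [PiTensorProduct.one_def, hLt]; rfl, map_mul' := hmul }
        exact (map_prod M _ _).trans (Finset.prod_congr rfl fun i _ => hs i (f i))
    | add u w hu hw => rw [map_add, add_sub_add_comm]; exact J.add_mem hu hw
  have h1 : ∀ s : ℕ, ∀ y ∈ J ^ s, L y - (-1) ^ s * y ∈ J ^ (s + 1) := by
    intro s
    induction s with
    | zero => intro y _; simpa using h0 y
    | succ s ih =>
      intro y hy
      rw [pow_succ] at hy
      induction hy using Submodule.mul_induction_on' with
      | mem_mul_mem u hu v hv =>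
        have hv' : L v + v ∈ J ^ 2 := by
          rw [hJe] at hv
          induction hv using Submodule.span_induction with
          | mem z hz =>
            obtain ⟨a, rfl⟩ := hz
            rw [map_sub, hs, hs]
            simp only [σ, Equiv.swap_apply_left, Equiv.swap_apply_right, sub_add_sub_cancel, sub_self]
            exact zero_mem _
          | zero => simp
          | add z w _ _ hz hw => rw [map_add, add_add_add_comm]; exact add_mem hz hw
          | smul c z hzm hz =>
            rw [smul_eq_mul, hmul, show L c * L z + c * z = (L c - c) * L z + c * (L z + z) by ring]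
            refine add_mem ?_ (Ideal.mul_mem_left _ c hz)
            rw [pow_two]
            refine Ideal.mul_mem_mul (h0 c) ?_
            have hzJ : z ∈ J := hJe ▸ hzm
            simpa using J.add_mem (h0 z) hzJ
        have e : L (u * v) - (-1) ^ (s + 1) * (u * v) =
            (L u - (-1) ^ s * u) * L v + (-1) ^ s * u * (L v + v) := by rw [hmul]; ring
        rw [e]
        refine add_mem ?_ ?_
        · rw [pow_succ (J) (s + 1)]
          exact Ideal.mul_mem_mul (ih u hu) (by simpa using J.add_mem (h0 v) hv)
        · rw [mul_assoc, show s + 1 + 1 = s + 2 from rfl, pow_add]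
          exact Ideal.mul_mem_left _ _ (Ideal.mul_mem_mul hu hv')
      | add u _ w _ hu hw =>
        rw [map_add, mul_add, add_sub_add_comm]
        exact add_mem hu hw
  have hLx : L x = x := hx σ
  have h2 := h1 (2 * m + 1) x (by simpa [two_mul, mul_add, add_assoc] using hxm)
  rw [hLx, pow_succ (-1 : ⨂[k] _ : Fin n, A), pow_mul, neg_one_sq, one_pow, one_mul, neg_one_mul, sub_neg_eq_add,
    ← two_smul k x] at h2
  have h3 := (J ^ (2 * m + 1 + 1)).smul_of_tower_mem (2 : k)⁻¹ h2
  rw [inv_smul_smul₀ (two_ne_zero : (2 : k) ≠ 0)] at h3
  exact h3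

end Groth.Agent.S19218
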