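import Groth.Statements.S19219
import Groth.Agent.DTen43.TripleTor
import Groth.Agent.FlatMor67.SmoothIsRegular

set_option autoImplicit false
universe u
open CategoryTheory CategoryTheory.Limits MonoidalCategory TensorProduct
attribute [local instance] HasDerivedCategory.standard
open DTen

namespace Groth.Agent.S19219

open Groth.Agent.Koszul19 Groth.Agent.DTen43

set_option maxHeartbeats 1000000 in
/-- Let k be an algebraically closed field of characteristic zero, A a smooth k-algebra which is a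
domain, and J₁, J₂, J₃ ideals of A such that each A/Jᵢ is smooth over k and A/J is smooth over k,
where J = J₁ + J₂ + J₃ (three smooth closed subschemes of Spec A whose scheme-theoretic intersection
Z is smooth). Let S : J₁ × J₂ × J₃ → J be the sum map and K the kernel of its base change to A/J,
i.e. of (A/J) ⊗_A (J₁ ⊕ J₂ ⊕ J₃) → (A/J) ⊗_A J = J/J², the dual of the quotient of the sum of the
restricted normal bundles by the normal bundle of Z. Assume the jointly derived triple tensor
product on D(A) exists (binder). Then for every q ≥ 0 and every prime ideal 𝔭 of A, the localization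
at 𝔭 of the cohomology module in degree −q of A/J₁ ⊗^L A/J₂ ⊗^L A/J₃ (the triple Tor_q of the three
quotients) is carried by a bijective A-linear map onto the localization at 𝔭 of the q-th exterior
power of K over A/J, regarded as an A-module (existence of such a bijection only, prime by prime).
(The published statement is the sheaf isomorphism, for any finite number of smooth subvarieties of a
smooth complex variety; the published proof constructs the isomorphism on a sufficiently small
affine neighbourhood of each point and leaves the gluing of these local isomorphisms to the reader,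
so this row states the local form, isomorphic localizations at every prime, in the case of three
subvarieties on an affine piece, over an algebraically closed field of characteristic zero.) -/
theorem result (k : Type u) [Field k] [IsAlgClosed k] [CharZero k]
    (A : Type u) [CommRing A] [Algebra k A] [Algebra.Smooth k A] [IsDomain A] [DTen.HasLTen₃ A]
    (J₁ J₂ J₃ J : Ideal A) (hJ : J = J₁ ⊔ J₂ ⊔ J₃)
    [Algebra.Smooth k (A ⧸ J₁)] [Algebra.Smooth k (A ⧸ J₂)] [Algebra.Smooth k (A ⧸ J₃)] [Algebra.Smooth k (A ⧸ J)]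
    (S : (↥J₁ × (↥J₂ × ↥J₃)) →ₗ[A] ↥J) (hS : ∀ x, (S x : A) = (x.1 : A) + (x.2.1 : A) + (x.2.2 : A))
    (q : ℕ) (p : Ideal A) [p.IsPrime] :
    ∃ f : LocalizedModule p.primeCompl
          (Dual.HD A ((DTen.LTen₃ A).obj (Dual.inD A (A ⧸ J₁), (Dual.inD A (A ⧸ J₂), Dual.inD A (A ⧸ J₃)))) (-(q : ℤ)))
        →ₗ[A] LocalizedModule p.primeCompl
          (RestrictScalars A (A ⧸ J)
            ↥(ExteriorAlgebra.exteriorPower (A ⧸ J) q ↥(LinearMap.ker (S.baseChange (A ⧸ J))))),
      Function.Bijective f := by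
  classical
  haveI : IsNoetherianRing A := Algebra.FiniteType.isNoetherianRing k A
  haveI := FlatMor67.isRegularRing_of_smooth k A
  haveI := FlatMor67.isRegularRing_of_smooth k (A ⧸ J₁)
  haveI := FlatMor67.isRegularRing_of_smooth k (A ⧸ J₂)
  haveI := FlatMor67.isRegularRing_of_smooth k (A ⧸ J₃)
  haveI := FlatMor67.isRegularRing_of_smooth k (A ⧸ J)
  let B := Localization.AtPrime p
  let φ := algebraMap A B
  have el₁ := LocAlg.exists_local_gens p J₁
  obtain ⟨l₁, h₁, k₁, s₁⟩ := el₁
  have el₂ := LocAlg.exists_local_gens p J₂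
  obtain ⟨l₂, h₂, k₂, s₂⟩ := el₂
  have el₃ := LocAlg.exists_local_gens p J₃
  obtain ⟨l₃, h₃, k₃, s₃⟩ := el₃
  have eg := LocAlg.exists_regular_gens p J
  obtain ⟨g, kg, sg⟩ := eg
  let x₁ : Fin l₁.length → J₁ := fun i => ⟨l₁.get i, h₁ _ (List.get_mem l₁ i)⟩
  let x₂ : Fin l₂.length → J₂ := fun i => ⟨l₂.get i, h₂ _ (List.get_mem l₂ i)⟩
  let x₃ : Fin l₃.length → J₃ := fun i => ⟨l₃.get i, h₃ _ (List.get_mem l₃ i)⟩
  have m₁ : (List.ofFn fun i => φ (x₁ i)) = l₁.map φ := by
    rw [List.ofFn_comp' (f := fun i => (x₁ i : A)) (g := φ)]; simp [x₁]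
  have m₂ : (List.ofFn fun i => φ (x₂ i)) = l₂.map φ := by
    rw [List.ofFn_comp' (f := fun i => (x₂ i : A)) (g := φ)]; simp [x₂]
  have m₃ : (List.ofFn fun i => φ (x₃ i)) = l₃.map φ := by
    rw [List.ofFn_comp' (f := fun i => (x₃ i : A)) (g := φ)]; simp [x₃]
  have p₁ : Ideal.span (Set.range fun i => φ (x₁ i)) = J₁.map φ := by rw [← ofList_ofFn, m₁, s₁]
  have p₂ : Ideal.span (Set.range fun i => φ (x₂ i)) = J₂.map φ := by rw [← ofList_ofFn, m₂, s₂]
  have p₃ : Ideal.span (Set.range fun i => φ (x₃ i)) = J₃.map φ := by rw [← ofList_ofFn, m₃, s₃]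
  let ι := (Fin l₁.length ⊕ Fin l₂.length) ⊕ Fin l₃.length
  let gen : ι → ↥J₁ × (↥J₂ × ↥J₃) :=
    Sum.elim (Sum.elim (fun i => (x₁ i, (0, 0))) (fun i => (0, (x₂ i, 0)))) (fun i => (0, (0, x₃ i)))
  let f : ι → B := fun i => φ (S (gen i) : A)
  have hf : ∀ i, f i = Sum.elim (Sum.elim (fun i => φ (x₁ i)) (fun i => φ (x₂ i))) (fun i => φ (x₃ i)) i := by
    rintro ((i | i) | i) <;> simp [f, gen, hS]
  have hspanf : Ideal.span (Set.range f) = J.map φ := by
    rw [hJ, Ideal.map_sup, Ideal.map_sup, ← p₁, ← p₂, ← p₃, funext hf, Set.Sum.elim_range,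
      Set.Sum.elim_range, Ideal.span_union, Ideal.span_union]
  have hgsp : Ideal.span (Set.range g.get) = J.map φ := by rw [← ofList_ofFn, List.ofFn_get, sg]
  have esel := LocAlg.exists_selection g.get hgsp f hspanf
  obtain ⟨sel, hsel, hcard⟩ := esel
  let e : Fin (Fintype.card {i // i ∈ sel}) ⊕ Fin (Fintype.card {i // ¬ i ∈ sel}) ≃ ι :=
    ((Fintype.equivFin _).symm.sumCongr (Fintype.equivFin _).symm).trans (Equiv.sumCompl _)
  let xs := List.ofFn fun j => f (e (.inl j))
  let ys := List.ofFn fun j => f (e (.inr j))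
  have hrange : (Set.range fun j => f (e (.inl j))) = f '' ↑sel := by
    ext v
    constructor
    · rintro ⟨j, rfl⟩
      exact ⟨_, ((Fintype.equivFin {i // i ∈ sel}).symm j).2, rfl⟩
    · rintro ⟨i, hi, rfl⟩
      exact ⟨Fintype.equivFin {i // i ∈ sel} ⟨i, hi⟩, by simp [e]⟩
  have hxs : Ideal.ofList xs = J.map φ := by rw [ofList_ofFn, hrange, hsel]
  have kxs : KR xs := kR_of_length_le kg (hxs.trans sg.symm) (by simpa [xs] using hcard)
  have hys : ∀ y ∈ ys, y ∈ Ideal.ofList xs := by
    intro y hy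
    obtain ⟨j, rfl⟩ := List.mem_ofFn.1 hy
    rw [hxs]
    exact Ideal.mem_map_of_mem _ (S (gen (e (.inr j)))).2
  have hperm : ((l₁ ++ (l₂ ++ l₃)).map φ).Perm (ys ++ xs) := by
    rw [List.map_append, List.map_append, ← m₁, ← m₂, ← m₃]
    exact TripleTor.perm_ofFn _ _ _ f (Equiv.refl _) hf e
  have eL := TripleTor.nonempty_lhs p l₁ l₂ l₃ h₁ h₂ h₃ k₁ k₂ k₃ s₁ s₂ s₃ xs ys kxs hxs hys hperm
    (Fintype.card {i // ¬ i ∈ sel}) (by simp [ys]) q
  obtain ⟨L⟩ := eL
  have eR := TripleTor.nonempty_rhs p S (hJ ▸ le_sup_of_le_left le_sup_left)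
    (hJ ▸ le_sup_of_le_left le_sup_right) (hJ ▸ le_sup_right) x₁ x₂ x₃ (by rw [m₁]; exact k₁)
    (by rw [m₂]; exact k₂) (by rw [m₃]; exact k₃) p₁ p₂ p₃ gen (fun _ => rfl) e kxs hxs q
  obtain ⟨R⟩ := eR
  exact ⟨(L.trans R.symm).toLinearMap, (L.trans R.symm).bijective⟩

end Groth.Agent.S19219
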