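import Groth.Statements.S19221
import Mathlib.Tactic
import Mathlib.LinearAlgebra.ExteriorAlgebra.OfAlternating

set_option autoImplicit false
universe u
open SymRep

namespace Groth.Agent.S19221

/-- Integer version of the cycles. -/
def zi (c : Fin 2) (i j l : Fin 4) (c' : Fin 2) (a b : Fin 4) : ℤ :=
  if c' = c then
    ((if a = i ∧ b = j then 1 else 0) + (if a = j ∧ b = l then 1 else 0) + (if a = l ∧ b = i then 1 else 0)
      - (if a = j ∧ b = i then 1 else 0) - (if a = l ∧ b = j then 1 else 0) - (if a = i ∧ b = l then 1 else 0))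
  else 0

/-- The four wedge factors. -/
def fac : Fin 4 → Fin 2 × Fin 4 × Fin 4 × Fin 4 := ![(0, 0, 1, 2), (1, 0, 1, 2), (0, 0, 2, 3), (1, 0, 2, 3)]

/-- The four coordinates tested. -/
def crd : Fin 4 → Fin 2 × Fin 4 × Fin 4 := ![(0, 0, 1), (1, 0, 1), (0, 2, 3), (1, 2, 3)]

/-- Integer minor. -/
def minor (σ : Equiv.Perm (Fin 4)) : Matrix (Fin 4) (Fin 4) ℤ := Matrix.of fun p r =>
  zi (fac p).1 (fac p).2.1 (fac p).2.2.1 (fac p).2.2.2 (crd r).1 (σ.symm (crd r).2.1) (σ.symm (crd r).2.2)

theorem minor_sum : (∑ σ : Equiv.Perm (Fin 4), (minor σ).det) ≠ 0 := by decide +kernel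


/-- Let k be a field of characteristic zero and F the k-space of functions Fin 2 → Fin 4 → Fin 4 → k,
with the symmetric group of Fin 4 acting through P σ f c a b = f c (σ⁻¹ a) (σ⁻¹ b). The signed edge
vectors of the complete graph on four vertices live in F as the functions antisymmetric in the two
vertex arguments, and for a colour c and an oriented 3-cycle i → j → l → i the cycle vector z c i j
l is the function equal, in colour c, to +1 at (i,j), (j,l), (l,i), to −1 at (j,i), (l,j), (i,l) and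
to 0 elsewhere (and 0 in the other colour); these cycle vectors span k² ⊗ (cycle space), the
representation written C² ⊗ q in the published text. Let Γ be the graph with edges 01, 02, 03, 12,
23 (a 4-cycle with one chord), whose cycle space is spanned by the cycles (0,1,2) and (0,2,3), and
let ω be the product in the exterior algebra of F of the four vectors z 0 0 1 2, z 1 0 1 2, z 0 0 2
3, z 1 0 2 3 (a generator of the top exterior power of k² ⊗ q_Γ). Then ω is fixed by the stabiliser
of Γ in the symmetric group (generated by the transpositions (0 2) and (1 3)), and the sum over all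
24 permutations σ of the images of ω under the maps induced by P σ is nonzero: the projection of ω
to the invariants of the fourth exterior power of k² ⊗ q_{K₄} does not vanish. (The published
statement is over the complex numbers; a field of characteristic zero is used here. The published
statement also asserts that this map is an isomorphism onto the one-dimensional space of
S₄-invariants of the fourth exterior power of k² ⊗ q_{K₄}; only its non-vanishing is stated here.) -/
theorem result (k : Type u) [Field k] [CharZero k]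
    (P : Equiv.Perm (Fin 4) → ((Fin 2 → Fin 4 → Fin 4 → k) →ₗ[k] (Fin 2 → Fin 4 → Fin 4 → k)))
    (hP : ∀ (σ : Equiv.Perm (Fin 4)) (f : Fin 2 → Fin 4 → Fin 4 → k) (c : Fin 2) (a b : Fin 4),
      P σ f c a b = f c (σ.symm a) (σ.symm b))
    (z : Fin 2 → Fin 4 → Fin 4 → Fin 4 → (Fin 2 → Fin 4 → Fin 4 → k))
    (hz : ∀ (c : Fin 2) (i j l : Fin 4) (c' : Fin 2) (a b : Fin 4), z c i j l c' a b =
      if c' = c then
        ((if a = i ∧ b = j then 1 else 0) + (if a = j ∧ b = l then 1 else 0) + (if a = l ∧ b = i then 1 else 0)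
          - (if a = j ∧ b = i then 1 else 0) - (if a = l ∧ b = j then 1 else 0) - (if a = i ∧ b = l then 1 else 0))
      else 0)
    (ω : ExteriorAlgebra k (Fin 2 → Fin 4 → Fin 4 → k))
    (hω : ω = ExteriorAlgebra.ι k (z 0 0 1 2) * ExteriorAlgebra.ι k (z 1 0 1 2) *
      ExteriorAlgebra.ι k (z 0 0 2 3) * ExteriorAlgebra.ι k (z 1 0 2 3)) :
    ExteriorAlgebra.map (P (Equiv.swap 0 2)) ω = ω ∧
    ExteriorAlgebra.map (P (Equiv.swap 1 3)) ω = ω ∧
    (∑ σ : Equiv.Perm (Fin 4), ExteriorAlgebra.map (P σ) ω) ≠ 0 := by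
  classical
  have hzc : ∀ c i j l c' a b, z c i j l c' a b = ((zi c i j l c' a b : ℤ) : k) := by
    intro c i j l c' a b
    rw [hz, zi]
    split_ifs <;> push_cast <;> ring
  set v : Fin 4 → (Fin 2 → Fin 4 → Fin 4 → k) :=
    fun p => z (fac p).1 (fac p).2.1 (fac p).2.2.1 (fac p).2.2.2 with hv
  have hω' : ω = ExteriorAlgebra.ι k (v 0) * ExteriorAlgebra.ι k (v 1) * ExteriorAlgebra.ι k (v 2) * ExteriorAlgebra.ι k (v 3) := hω
  have hωM : ω = ExteriorAlgebra.ιMulti k 4 v := by
    rw [hω', ExteriorAlgebra.ιMulti_apply]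
    simp [List.ofFn_succ, mul_assoc]
  have hneg : ∀ (σ : Equiv.Perm (Fin 4)) (c : Fin 2) (i j l i' j' l' : Fin 4),
      (∀ c' a b, zi c i j l c' (σ.symm a) (σ.symm b) = -zi c i' j' l' c' a b) →
      P σ (z c i j l) = -z c i' j' l' := by
    intro σ c i j l i' j' l' h
    funext c' a b
    rw [hP, Pi.neg_apply, Pi.neg_apply, Pi.neg_apply, hzc, hzc, h, Int.cast_neg]
  refine ⟨?_, ?_, ?_⟩
  · rw [hω]
    simp only [map_mul, ExteriorAlgebra.map_apply_ι]
    rw [hneg _ 0 0 1 2 0 1 2 (by decide), hneg _ 1 0 1 2 0 1 2 (by decide), hneg _ 0 0 2 3 0 2 3 (by decide),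
      hneg _ 1 0 2 3 0 2 3 (by decide)]
    simp [mul_assoc]
  · rw [hω]
    simp only [map_mul, ExteriorAlgebra.map_apply_ι]
    rw [hneg _ 0 0 1 2 0 2 3 (by decide), hneg _ 1 0 1 2 0 2 3 (by decide), hneg _ 0 0 2 3 0 1 2 (by decide),
      hneg _ 1 0 2 3 0 1 2 (by decide)]
    simp only [map_neg, neg_mul, mul_neg, neg_neg, mul_assoc]
    have hsw : ∀ u w : Fin 2 → Fin 4 → Fin 4 → k, ExteriorAlgebra.ι k u * ExteriorAlgebra.ι k w = -(ExteriorAlgebra.ι k w * ExteriorAlgebra.ι k u) :=
      fun u w => eq_neg_of_add_eq_zero_left (ExteriorAlgebra.ι_add_mul_swap u w)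
    set A := ExteriorAlgebra.ι k (z 0 0 1 2)
    set B := ExteriorAlgebra.ι k (z 1 0 1 2)
    set C := ExteriorAlgebra.ι k (z 0 0 2 3)
    set D := ExteriorAlgebra.ι k (z 1 0 2 3)
    calc C * (D * (A * B)) = C * ((D * A) * B) := by rw [mul_assoc]
      _ = -(C * (A * (D * B))) := by rw [hsw (z 1 0 2 3) (z 0 0 1 2), neg_mul, mul_neg, mul_assoc]
      _ = C * (A * (B * D)) := by rw [hsw (z 1 0 2 3) (z 1 0 1 2), mul_neg, mul_neg, neg_neg]
      _ = (C * A) * (B * D) := by rw [mul_assoc]
      _ = -((A * C) * (B * D)) := by rw [hsw (z 0 0 2 3) (z 0 0 1 2), neg_mul]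
      _ = -(A * ((C * B) * D)) := by simp only [mul_assoc]
      _ = A * (B * (C * D)) := by rw [hsw (z 0 0 2 3) (z 1 0 1 2), neg_mul, mul_neg, neg_neg, mul_assoc]
  · intro hzero
    set L : (Fin 2 → Fin 4 → Fin 4 → k) →ₗ[k] (Fin 4 → k) :=
      { toFun := fun f r => f (crd r).1 (crd r).2.1 (crd r).2.2
        map_add' := fun f g => rfl
        map_smul' := fun a f => rfl } with hL
    set F : ∀ i, (Fin 2 → Fin 4 → Fin 4 → k) [⋀^Fin i]→ₗ[k] k :=
      Function.update 0 4 ((Matrix.detRowAlternating (R := k) (n := Fin 4)).compLinearMap L) with hF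
    have h := congrArg (ExteriorAlgebra.liftAlternating (R := k) (M := Fin 2 → Fin 4 → Fin 4 → k) (N := k) F) hzero
    rw [map_sum, map_zero, hωM] at h
    simp only [ExteriorAlgebra.map_apply_ιMulti, ExteriorAlgebra.liftAlternating_apply_ιMulti, hF,
      Function.update_self, AlternatingMap.compLinearMap_apply] at h
    refine minor_sum ((Int.cast_eq_zero (α := k)).mp ?_)
    rw [Int.cast_sum, ← h]
    refine Finset.sum_congr rfl fun σ _ => ?_
    rw [Int.cast_det]
    show Matrix.det _ = Matrix.det _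
    congr 1
    ext p r
    simp only [Matrix.map_apply, minor, Matrix.of_apply, Function.comp_apply, hL, LinearMap.coe_mk, AddHom.coe_mk]
    rw [hP, hv]
    exact (hzc _ _ _ _ _ _ _).symm

end Groth.Agent.S19221
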