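import Groth.Statements.S19223
import Groth.Agent.GalH1.UniqDivKer
-- import your own Groth.Agent.* helpers here

set_option autoImplicit false
attribute [local instance] Units.mulDistribMulActionRight
open GalCoh

namespace Groth.Agent.S19223

/-- For a strictly henselian local ring R whose residue field k has characteristic p ≥ 0, and a finite
group G of order prime to p acting on R by ring automorphisms (hence on the unit groups R^× and
k^×), consider the homomorphism H^n(G, R^×) → H^n(G, k^×) induced by the reduction map. It is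
bijective for every n ≥ 2; it is also bijective for n = 1 provided that p = 0 or the only p-power
root of unity in R is 1. (The reduction map on cohomology is pinned by its values on units; groups,
rings and modules are taken in the lowest universe, as integral coefficients in the group-cohomology
library require.) -/
theorem result (R : Type) [CommRing R]
    [HenselianLocalRing R] [IsSepClosed (IsLocalRing.ResidueField R)] (p : ℕ) [CharP (IsLocalRing.ResidueField R) p]
    (G : Type) [Group G] [Finite G] [MulSemiringAction G R] (hp : ¬ p ∣ Nat.card G)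
    (φ : Rep.ofMulDistribMulAction G Rˣ ⟶ Rep.ofMulDistribMulAction G (IsLocalRing.ResidueField R)ˣ)
    (hφ : ∀ x : Rˣ, Additive.toMul (φ.hom (Additive.ofMul x)) = Units.map (IsLocalRing.residue R).toMonoidHom x)
    (n : ℕ) (hn : 1 ≤ n) (h1 : n = 1 → p ≠ 0 → ∀ (ζ : Rˣ) (m : ℕ), ζ ^ p ^ m = 1 → ζ = 1) :
    Function.Bijective ((groupCohomology.functor ℤ G n).map φ).hom := by
  open IsLocalRing in
  have := Fintype.ofFinite G
  obtain ⟨m, rfl⟩ := Nat.exists_eq_succ_of_ne_zero (show n ≠ 0 by omega)
  let N := Fintype.card G
  have hN0 : N ≠ 0 := Fintype.card_ne_zero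
  have hNu : IsUnit (N : R) := by
    rw [← notMem_maximalIdeal, ← Ideal.Quotient.eq_zero_iff_mem, map_natCast]
    intro h0
    exact hp (Nat.card_eq_fintype_card (α := G) ▸ (CharP.cast_eq_zero_iff (ResidueField R) p N).mp h0)
  have hsum : ∀ x : R, x - 1 ∈ maximalIdeal R → IsUnit (∑ i ∈ Finset.range N, x ^ i) := fun x hx => by
    rw [← notMem_maximalIdeal, ← Ideal.Quotient.eq_zero_iff_mem, map_sum]
    simp only [map_pow, Ideal.Quotient.eq.mpr hx, map_one, one_pow, Finset.sum_const, Finset.card_range,
      nsmul_eq_mul, mul_one]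
    rw [← map_natCast (Ideal.Quotient.mk _), Ideal.Quotient.eq_zero_iff_mem]
    exact notMem_maximalIdeal.mpr hNu
  have hker : ∀ b : Additive Rˣ, φ.hom b = 0 ↔ ((Additive.toMul b : Rˣ) : R) - 1 ∈ maximalIdeal R := fun b => by
    rw [← Ideal.Quotient.eq]
    constructor
    · intro h
      have h1 := (hφ (Additive.toMul b)).symm.trans (congrArg Additive.toMul h)
      exact congrArg Units.val h1
    · intro h
      refine Additive.toMul.injective ((hφ (Additive.toMul b)).trans ?_)
      exact Units.ext h
  refine Groth.Agent.GalH1.bijective_map φ (fun y => ?_) (fun a ha => ?_) m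
  · obtain ⟨x, hx⟩ := IsLocalRing.surjective_units_map_of_local_ringHom (residue R) residue_surjective
      inferInstance (Additive.toMul y)
    exact ⟨Additive.ofMul x, Additive.toMul.injective ((hφ x).trans hx)⟩
  · let u : Rˣ := Additive.toMul a
    obtain ⟨r, hr, hr1⟩ := HenselianLocalRing.is_henselian (Polynomial.X ^ N - Polynomial.C (u : R))
      (Polynomial.monic_X_pow_sub_C _ hN0) 1
      (by
        rw [Polynomial.eval_sub, Polynomial.eval_pow, Polynomial.eval_X, Polynomial.eval_C, one_pow, ← neg_sub]
        exact neg_mem ((hker a).mp ha))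
      (by simpa [Polynomial.derivative_X_pow] using hNu)
    have hrN : r ^ N = u := by
      simpa [sub_eq_zero] using hr
    let v : Rˣ := (show IsUnit r from (isUnit_pow_iff hN0).mp (hrN ▸ u.isUnit)).unit
    refine ⟨Additive.ofMul v, ⟨(hker _).mpr hr1, congrArg Additive.ofMul (Units.ext (by simp [v, N, hrN, u]) :
      v ^ N = u)⟩, fun b hb => ?_⟩
    let w : Rˣ := Additive.toMul b
    have hwN : w ^ N = u := congrArg Additive.toMul hb.2
    have hq : (w * v⁻¹) ^ N = 1 := by
      rw [mul_pow, hwN, inv_pow, show v ^ N = u from Units.ext (by simp [v, hrN]), mul_inv_cancel]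
    have hq1 : ((w * v⁻¹ : Rˣ) : R) - 1 ∈ maximalIdeal R := by
      have h2 : (w : R) - (v : R) ∈ maximalIdeal R := by
        have := sub_mem ((hker b).mp hb.1) hr1
        simpa [v, w] using this
      have := Ideal.mul_mem_right ((v⁻¹ : Rˣ) : R) _ h2
      rwa [sub_mul, Units.mul_inv, ← Units.val_mul] at this
    have h0 : (∑ i ∈ Finset.range N, ((w * v⁻¹ : Rˣ) : R) ^ i) * (((w * v⁻¹ : Rˣ) : R) - 1) = 0 := by
      rw [geom_sum_mul, ← Units.val_pow_eq_pow_val, hq, Units.val_one, sub_self]
    have := mul_inv_eq_one.mp (Units.ext (sub_eq_zero.mp ((hsum _ hq1).mul_right_eq_zero.mp h0)) : w * v⁻¹ = 1)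
    exact congrArg Additive.ofMul this

end Groth.Agent.S19223
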