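import Groth.Statements.S19224
import Groth.Agent.GalH1.UniqDivKer
import Mathlib.RingTheory.RootsOfUnity.AlgebraicallyClosed
import Mathlib.FieldTheory.IsSepClosed
-- import your own Groth.Agent.* helpers here

set_option autoImplicit false
open GalCoh

namespace Groth.Agent.S19224

open groupCohomology in
theorem map_d {Q : Type} [Group Q] {M N : Type} [AddCommGroup M] [AddCommGroup N] (L : M →ₗ[ℤ] N) {n : ℕ}
    (f : (Fin n → Q) → M) (y : Fin (n + 1) → Q) :
    L (_root_.inhomogeneousCochains.d (Rep.trivial ℤ Q M) n f y) =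
      _root_.inhomogeneousCochains.d (Rep.trivial ℤ Q N) n (fun x => L (f x)) y := by
  simp only [_root_.inhomogeneousCochains.d_hom_apply, map_add, map_sum, map_zsmul]
  rfl

/-- A divisible module with cyclic torsion by the order of the group has trivial second cohomology as soon as
`H^3` of the integers vanishes. -/
theorem subsingleton_two {Q : Type} [Group Q] [Fintype Q]
    (hQ : Subsingleton (groupCohomology (Rep.trivial ℤ Q ℤ) 3)) {M : Type} [AddCommGroup M]
    (hdiv : ∀ x : M, ∃ y, (Fintype.card Q : ℤ) • y = x) (ζ : M) (hζ : (Fintype.card Q : ℤ) • ζ = 0)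
    (hgen : ∀ x : M, (Fintype.card Q : ℤ) • x = 0 → ∃ c : ℤ, c • ζ = x)
    (hker : ∀ c : ℤ, c • ζ = 0 → (Fintype.card Q : ℤ) ∣ c) :
    Subsingleton (groupCohomology (Rep.trivial ℤ Q M) 2) := by
  refine subsingleton_of_forall_eq 0 fun z => ?_
  induction z using groupCohomology_induction_on with
  | h z =>
    let A := Rep.trivial ℤ Q M
    let Z := Rep.trivial ℤ Q ℤ
    let N : ℤ := Fintype.card Q
    have hN : N ≠ 0 := by simp [N]
    let f : (Fin 2 → Q) → M := groupCohomology.iCocycles A 2 z
    have hsum : ∀ {P : Type} [AddCommGroup P] (g : (Fin 2 → Q) → P),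
        (∀ y, _root_.inhomogeneousCochains.d (Rep.trivial ℤ Q P) 2 g y = 0) →
        ∀ y, _root_.inhomogeneousCochains.d (Rep.trivial ℤ Q P) 1
          (GalH1.sumLast (Rep.trivial ℤ Q P) (fun _ => LinearMap.id) g) y = N • g y := by
      intro P _ g hg y
      have h := GalH1.d_sumLast_add (Rep.trivial ℤ Q P) (fun _ => LinearMap.id) (fun _ _ _ => rfl) g hg y
      simp only [LinearMap.id_apply, Finset.sum_const, Finset.card_univ] at h
      rw [add_eq_zero_iff_eq_neg] at h
      rw [h]
      simp [N, pow_succ]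
    have hf : ∀ y, _root_.inhomogeneousCochains.d A 2 f y = 0 := GalH1.d_iCocycles A 2 z
    choose a ha using fun x : Fin 1 → Q => hdiv (GalH1.sumLast A (fun _ => LinearMap.id) f x)
    let f₁ : (Fin 2 → Q) → M := fun y => f y - _root_.inhomogeneousCochains.d A 1 a y
    have hf₁ : ∀ y, N • f₁ y = 0 := fun y => by
      show N • (f y - _root_.inhomogeneousCochains.d A 1 a y) = 0
      rw [smul_sub]
      refine sub_eq_zero.mpr ((hsum f hf y).symm.trans ?_)
      rw [← Pi.smul_apply, ← map_smul,
        show N • a = GalH1.sumLast A (fun _ => LinearMap.id) f from funext ha]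
    choose c hc using fun y => hgen (f₁ y) (hf₁ y)
    let j : ℤ →ₗ[ℤ] M := LinearMap.toSpanSingleton ℤ M ζ
    have hjc : (fun y => j (c y)) = f₁ := funext hc
    have hdd : ∀ {P : Rep.{0} ℤ Q} (n : ℕ) (g : (Fin n → Q) → P) (y),
        _root_.inhomogeneousCochains.d P (n + 1) (_root_.inhomogeneousCochains.d P n g) y = 0 := fun {P} n g y =>
      congrFun (CategoryTheory.ConcreteCategory.congr_hom (groupCohomology.inhomogeneousCochains.d_comp_d (A := P) (n := n)) g) y
    have hdc : ∀ y, N ∣ _root_.inhomogeneousCochains.d Z 2 c y := fun y => hker _ (by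
      show j (_root_.inhomogeneousCochains.d Z 2 c y) = 0
      rw [map_d j, hjc, show f₁ = f - _root_.inhomogeneousCochains.d A 1 a from rfl, map_sub, Pi.sub_apply, hf,
        hdd, sub_zero])
    choose e₃ he₃ using hdc
    have hde₃ : _root_.inhomogeneousCochains.d Z 3 e₃ = 0 := funext fun y => by
      have h := hdd (P := Z) 2 c y
      rw [show _root_.inhomogeneousCochains.d Z 2 c = N • e₃ from funext he₃, map_smul, Pi.smul_apply,
        smul_eq_zero] at h
      exact h.resolve_left hN
    obtain ⟨e₂, he₂⟩ := (GalH1.π_eq_zero_iff Z 2 (groupCohomology.cocyclesMk e₃ hde₃)).mp (Subsingleton.elim _ _)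
    let c' : (Fin 2 → Q) → ℤ := c - N • e₂
    have hc' : ∀ y, _root_.inhomogeneousCochains.d Z 2 c' y = 0 := fun y => by
      show _root_.inhomogeneousCochains.d Z 2 (c - N • e₂) y = 0
      rw [map_sub, map_smul, Pi.sub_apply, Pi.smul_apply, he₂, groupCohomology.iCocycles_mk, he₃]
      exact sub_self _
    obtain ⟨η, hη⟩ := hdiv ζ
    let ι : ℤ →ₗ[ℤ] M := LinearMap.toSpanSingleton ℤ M η
    refine (GalH1.π_eq_zero_iff A 1 z).mpr
      ⟨a + fun x => ι (GalH1.sumLast Z (fun _ => LinearMap.id) c' x), fun y => ?_⟩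
    have key : f₁ y = _root_.inhomogeneousCochains.d A 1
        (fun x => ι (GalH1.sumLast Z (fun _ => LinearMap.id) c' x)) y := by
      rw [← map_d ι, hsum (P := ℤ) c' hc' y, ← hc y]
      show c y • ζ = (N * (c y - N * e₂ y)) • η
      rw [mul_comm, mul_smul, hη, sub_smul, mul_comm N, mul_smul (e₂ y), hζ, smul_zero, sub_zero]
    rw [map_add, Pi.add_apply, ← key]
    exact add_sub_cancel _ _

/-- Let Q be a finite group such that H^3(Q, ℤ) = 0 for the trivial action, and let k be a separably
closed field of characteristic p ≥ 0 with p not dividing the order of Q. Then H^2(Q, k^×) = 0, where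
Q acts trivially on the units of k. (Groups and fields are taken in the lowest universe, as integral
coefficients in the group-cohomology library require.) -/
theorem result (Q : Type) [Group Q] [Finite Q]
    (hQ : Subsingleton (groupCohomology (Rep.trivial ℤ Q ℤ) 3)) (k : Type) [Field k] [IsSepClosed k]
    (p : ℕ) [CharP k p] (hp : ¬ p ∣ Nat.card Q) :
    Subsingleton (groupCohomology (Rep.trivial ℤ Q (Additive kˣ)) 2) := by
  have := Fintype.ofFinite Q
  let N := Fintype.card Q
  have : NeZero N := ⟨Fintype.card_ne_zero⟩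
  have hNk : NeZero (N : k) := ⟨fun h0 => hp (Nat.card_eq_fintype_card (α := Q) ▸ (CharP.cast_eq_zero_iff k p N).mp h0)⟩
  obtain ⟨ζ₀, hζ₀⟩ := HasEnoughRootsOfUnity.exists_primitiveRoot k N
  let ζ : kˣ := (hζ₀.isUnit NeZero.out).unit
  have hζ : IsPrimitiveRoot ζ N := IsPrimitiveRoot.coe_units_iff.mp (by simpa [ζ] using hζ₀)
  refine subsingleton_two hQ (fun x => ?_) (Additive.ofMul ζ) ?_ (fun x hx => ?_) (fun c hc => ?_)
  · obtain ⟨y, hy⟩ := IsSepClosed.exists_pow_nat_eq ((Additive.toMul x : kˣ) : k) N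
    have hy' : IsUnit y := (isUnit_pow_iff NeZero.out).mp (hy ▸ Units.isUnit _)
    refine ⟨Additive.ofMul hy'.unit, ?_⟩
    rw [natCast_zsmul]
    exact congrArg Additive.ofMul (Units.ext (by simpa using hy) : hy'.unit ^ N = Additive.toMul x)
  · rw [natCast_zsmul]
    exact congrArg Additive.ofMul hζ.pow_eq_one
  · rw [natCast_zsmul] at hx
    have hx' : Additive.toMul x ^ N = 1 := congrArg Additive.toMul hx
    obtain ⟨i, -, hi⟩ := hζ₀.eq_pow_of_pow_eq_one (ξ := ((Additive.toMul x : kˣ) : k))
      (by rw [← Units.val_pow_eq_pow_val, hx', Units.val_one])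
    refine ⟨i, ?_⟩
    rw [natCast_zsmul]
    exact congrArg Additive.ofMul (Units.ext (by simpa [ζ] using hi) : ζ ^ i = Additive.toMul x)
  · exact (hζ.zpow_eq_one_iff_dvd c).mp (congrArg Additive.toMul hc)

end Groth.Agent.S19224
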