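import Groth.Statements.S19227
import Mathlib
import Groth.Agent.Dix2.GmNorm
import Groth.Agent.Unr55.Et.FinitePushExact
import Groth.Agent.Unr55.Et.PullExact
import Groth.Agent.EtCore45.ExtAdjoint

set_option autoImplicit false
set_option linter.style.haveILetI false
set_option linter.style.longLine false
universe u
open CategoryTheory AlgebraicGeometry
open Dix

namespace Groth.Agent.S19227

/-- Let f : X → Y be a finite locally free morphism of schemes of constant degree d ≥ 1, so that f is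
finite, flat, of finite presentation and surjective. If H²(X_et, G_m) is a torsion group, then
H²(Y_et, G_m) is a torsion group. (The source states this for a finite, flat, finitely presented
surjection of algebraic stacks and argues with multiplication by the degree of f; the case of
schemes with f of constant degree is what is stated here.) -/
theorem result (X Y : Scheme.{u}) (f : X ⟶ Y) (d : ℕ) (hd : 1 ≤ d)
    (hf : Mor2.IsFinLocFreeOfDeg d f) (hX : IsAddTorsion (Dix.BrCoh X)) :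
    IsAddTorsion (Dix.BrCoh Y) := by
  obtain ⟨⟨_, _, _⟩, hrk⟩ := hf
  haveI := Unr55.EtSh.preservesFiniteLimits_pull f
  have hinj : Function.Injective (EtLim.HofPush f (EtCoh.Gm X) 2) :=
    (EtCore45.adjTransfer_bijective (EtCoh.pullPushAdj f) (EtCore.pullConst f ℤ).inv 2 (EtCoh.Gm X)
      fun q hq => Unr55.EtSh.isZero_Rpush_of_finite f _ q hq).1
  let Φ : EtCoh.H Y (EtCoh.Gm Y) 2 →+ EtCoh.H Y ((EtCoh.push f).obj (EtCoh.Gm X)) 2 :=
    ((EtCoh.HF Y 2).map (EtLim.GmPush f)).hom
  let Ψ : EtCoh.H Y ((EtCoh.push f).obj (EtCoh.Gm X)) 2 →+ EtCoh.H Y (EtCoh.Gm Y) 2 :=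
    ((EtCoh.HF Y 2).map (Dix2.normGm f)).hom
  intro ξ
  have h0 : EtLim.HGmPull f 2 ξ = EtLim.HofPush f (EtCoh.Gm X) 2 (Φ ξ) := AddMonoidHom.comp_apply _ _ _
  obtain ⟨k, hk, hk0⟩ := isOfFinAddOrder_iff_nsmul_eq_zero.mp (hX (EtLim.HGmPull f 2 ξ))
  rw [h0] at hk0
  have h1 : k • Φ ξ = 0 := hinj (((AddMonoidHom.map_nsmul _ _ _).trans hk0).trans (AddMonoidHom.map_zero _).symm)
  have e : Ψ (Φ ξ) = d • ξ := by
    have h2 : (EtCoh.HF Y 2).map (EtLim.GmPush f) ≫ (EtCoh.HF Y 2).map (Dix2.normGm f) =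
        (EtCoh.HF Y 2).map (d • 𝟙 (EtCoh.Gm Y)) := by
      rw [← Functor.map_comp, Dix2.GmPush_normGm f hrk]
      rfl
    rw [Functor.map_nsmul, CategoryTheory.Functor.map_id] at h2
    exact DFunLike.congr_fun (congrArg AddCommGrpCat.Hom.hom h2) ξ
  refine isOfFinAddOrder_iff_nsmul_eq_zero.mpr ⟨k * d, Nat.mul_pos hk (by omega), ?_⟩
  rw [mul_nsmul', ← e, ← AddMonoidHom.map_nsmul, h1, AddMonoidHom.map_zero]

end Groth.Agent.S19227
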