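import Groth.Statements.S1923
import Groth.Agent.Cyc90.ZeroSection
import Groth.Agent.Cyc90.IntegralOrd

set_option autoImplicit false
universe u
open CategoryTheory AlgebraicGeometry
open Cyc

namespace Groth.Agent.S1923

/-- Let X be integral with δ(η) = n, L an invertible O_X-module and s a global section of L whose germ
at η is nonzero. Then div_L(s) = [Z(s)]_{n−1} as (n − 1)-cycles, where s is viewed as a rational
section through its image in L(η). Here L(ξ) = L_ξ/𝔪_ξ L_ξ is the space of rational sections of L on
the closure of ξ, div_{L|W}(s) and c_1(L) ∩ α are computed as coefficient functions from chosen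
nonzero rational sections (Cyc.secDivFun, Cyc.c1CapFun), and results are compared up to rational
equivalence for any cycles with those coefficients. A pair (X, δ) with Cyc.IsSetup plays the role of
a scheme locally of finite type over a fixed base with a dimension function (X locally Noetherian
with universally catenary local rings, δ a dimension function), and Cyc.DeltaCompat records that the
dimension function upstairs is the induced one. -/
theorem result (X : Scheme.{u}) [IsIntegral X] (δ : X → ℤ) (hX : Cyc.IsSetup X δ) (n : ℤ) (hn : δ (genericPoint X) = n) (L : X.Modules) (hL : PicF.IsInvertible L) (s : L.presheaf.obj (Opposite.op ⊤)) (hs : (L.presheaf.germ ⊤ (genericPoint X) trivial) s ≠ 0) : Cyc.secDivFun δ L (genericPoint X) (Submodule.Quotient.mk ((L.presheaf.germ ⊤ (genericPoint X) trivial) s)) = Cyc.zeroSectionFun δ (n - 1) L s := by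
  have := hX.1
  set η := genericPoint X with hη
  have hle : ∀ y, δ y ≤ n := fun y => hn ▸ Groth.Agent.Cyc90.delta_le hX.2.2 (Groth.Agent.Cyc90.gen_specializes y)
  have hgen : ∀ y, δ y = n → y = η := fun y hy =>
    (Groth.Agent.Cyc90.eq_of_delta_le hX.2.2 (Groth.Agent.Cyc90.gen_specializes y) (by rw [hy, hn])).symm
  have hF : IsField (X.presheaf.stalk η) := Field.toIsField X.functionField
  have hm : IsLocalRing.maximalIdeal (X.presheaf.stalk η) = ⊥ := IsLocalRing.isField_iff_maximalIdeal_eq.1 hF
  have hne : (Submodule.Quotient.mk ((L.presheaf.germ ⊤ η trivial) s) : Cyc.secFibre L η) ≠ 0 := fun h0 => by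
    have := (Submodule.Quotient.mk_eq_zero _).1 h0
    rw [hm, Submodule.bot_smul] at this
    exact hs this
  have key := Groth.Agent.Cyc90.zeroSectionFun_eq_c1CapFun hX hL (n - 1) (fun y => by have := hle y; omega) s
    (fun ξ hd => by
      have hξ : ξ = η := hgen ξ (by omega)
      subst hξ
      exact hne)
    (fun y _ a b e => ?_)
  · rw [key]
    funext x
    unfold Cyc.c1CapFun
    rw [finsum_eq_single _ η fun ξ hξ => ?_]
    · have h1 : Cyc.subschemeFun δ (n - 1 + 1) (𝟙 X) η = 1 := by
        rw [Cyc.subschemeFun]
        simp only [show δ η = n - 1 + 1 by omega, if_pos]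
        rw [show {z : X | (𝟙 X : X ⟶ X) z = η} = {η} from Set.ext fun z => Iff.rfl, finsum_mem_singleton]
        have : IsSimpleModule (X.presheaf.stalk η) (X.presheaf.stalk η) :=
          isSimpleModule_iff_isCoatom.2 ?_ |>.congr (Submodule.quotEquivOfEqBot ⊥ rfl).symm
        · rw [Module.length_eq_one]; rfl
        · exact Ideal.isMaximal_def.1 (hm ▸ IsLocalRing.maximalIdeal.isMaximal _)
      rw [h1, one_mul]
    · rw [show Cyc.subschemeFun δ (n - 1 + 1) (𝟙 X) ξ = 0 from if_neg fun h => hξ (hgen ξ (by omega)), zero_mul]
  · have h := Groth.Agent.Cyc90.gen_specializes y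
    have e0 : (a - b) • (L.presheaf.germ ⊤ y trivial) s = 0 := by rw [sub_smul]; exact sub_eq_zero.2 e
    have e1 := congrArg (L.presheaf.stalkSpecializes h) e0
    rw [map_zero, Groth.Agent.Cyc90.stalkSpecializes_smul] at e1
    by_contra hab
    refine hs ?_
    have hu : IsUnit (show X.presheaf.stalk η from X.presheaf.stalkSpecializes h (a - b)) := by
      refine isUnit_iff_ne_zero.2 ?_ |> fun z => z
      intro h0
      exact sub_ne_zero.2 hab (Groth.Agent.Cyc90.stalk_generic_injective y
        ((congrArg (X.residue η) h0).trans (by simp)))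
    have e2 := hu.smul_eq_zero.1 e1
    exact (TopCat.Presheaf.germ_stalkSpecializes_apply L.presheaf (U := ⊤) trivial h s).symm.trans e2

end Groth.Agent.S1923
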