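import Groth.Statements.S19238
import Groth.Agent.SigmaLin26.Witt

set_option autoImplicit false
universe u v
open SigmaLin

namespace Groth.Agent.S19238

/-- Let k be an algebraically closed field of characteristic p > 0 and n a natural number; let M be a
finitely generated module over the ring W_n(k) of truncated Witt vectors and T : M → M an additive
map with T (c • m) = σ(c) • T m, where σ is either the Frobenius endomorphism of W_n(k) or its
inverse. Then the set of T-fixed elements of M is finite. (The printed statement says that the
T-fixed elements form a finitely generated module over the σ-fixed subring of W_n(k), which is the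
finite ring of integers modulo p^n.) -/
theorem result
    (p : ℕ) [Fact p.Prime] (k : Type u) [Field k] [CharP k p] [IsAlgClosed k] (n : ℕ)
    (σ : TruncatedWittVector p n k →+* TruncatedWittVector p n k)
    (hσ : σ = WittGrp.truncMap p n (frobenius k p) ∨
      σ = WittGrp.truncMap p n (frobeniusEquiv k p).symm.toRingHom)
    (M : Type v) [AddCommGroup M] [Module (TruncatedWittVector p n k) M] [Module.Finite (TruncatedWittVector p n k) M]
    (T : M →ₛₗ[σ] M) :
    {m : M | T m = m}.Finite := by
  obtain ⟨f, hf, rfl⟩ : ∃ f : k →+* k,
      (f = frobenius k p ∨ f = (frobeniusEquiv k p).symm.toRingHom) ∧ σ = WittGrp.truncMap p n f :=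
    hσ.elim (fun h => ⟨_, Or.inl rfl, h⟩) (fun h => ⟨_, Or.inr rfl, h⟩)
  cases n with
  | zero =>
    haveI : Subsingleton (TruncatedWittVector p 0 k) := ⟨fun a b => TruncatedWittVector.ext fun i => i.elim0⟩
    haveI : Subsingleton M := Module.subsingleton (TruncatedWittVector p 0 k) M
    exact Set.toFinite _
  | succ m =>
    classical
    obtain ⟨π, h1, h2, h3, h4, h5, h6, h7, h8⟩ := SigmaLin26.witt_setup m f hf
    obtain ⟨s, -, hs⟩ := SigmaLin26.fixed_fg' h1 h2 h3 h4 h5 h6 h7 (m + 1)
      (SigmaLin26.natCast_pow_eq_zero (m + 1)) T
    let Z := {r : TruncatedWittVector p (m + 1) k // WittGrp.truncMap p (m + 1) f r = r}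
    haveI : Finite Z := by
      haveI := h8.to_subtype
      refine Finite.of_injective (β := Fin (m + 1) → {x : k | f x = x})
        (fun r i => ⟨r.1.coeff i, ?_⟩) fun a b h => ?_
      · have := congrArg (TruncatedWittVector.coeff i) r.2
        rwa [WittGrp.coeff_truncMap] at this
      · exact Subtype.ext (TruncatedWittVector.ext fun i => congrArg Subtype.val (congrFun h i))
    refine (Set.finite_range fun c : (↥s → Z) => ∑ x : ↥s, (c x).1 • (x : M)).subset fun z hz => ?_
    obtain ⟨c, hc, hzc⟩ := hs z hz
    exact ⟨fun x => ⟨c x.1, hc x.1 x.2⟩, (Finset.sum_coe_sort s fun x => c x • x).trans hzc.symm⟩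

end Groth.Agent.S19238
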