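import Groth.Statements.S19240
import Groth.Agent.Frob53.UnivHomeoFrob

set_option autoImplicit false
set_option linter.unusedVariables false
universe u
open FrobSch

namespace Groth.Agent.S19240

open CategoryTheory CategoryTheory.Limits AlgebraicGeometry in
/-- Let k be a perfect field of characteristic p > 0 and let u : X ⟶ Y be a k-morphism between integral
k-schemes (separated, of finite type and quasi-projective over k) which is a universal
homeomorphism, and assume Y is normal. Then the degree of the function field of X over that of Y is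
p ^ n for some natural number n, and for this n there is a universal homeomorphism v : Y ⟶ X^{(n)},
where X^{(n)} is the base change of X along the n-th power of the Frobenius of Spec k, such that v
is a k-morphism, u followed by v is the n-th relative Frobenius of X over k (its composite with the
projection X^{(n)} ⟶ X is the n-th power of the absolute Frobenius of X) and v followed by the base
change of u is the n-th relative Frobenius of Y over k (the composite of v with the projection to X
and with u is the n-th power of the absolute Frobenius of Y). -/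
theorem result
    (p : ℕ) [Fact p.Prime] (k : Type u) [Field k] [CharP k p] [PerfectField k]
    {X Y : Scheme.{u}} (fX : X ⟶ Spec (CommRingCat.of k)) (fY : Y ⟶ Spec (CommRingCat.of k))
    [IsIntegral X] [IsIntegral Y] [FrobSch.IsCharP X p] [FrobSch.IsCharP Y p]
    [IsSeparated fX] [IsSeparated fY] [LocallyOfFiniteType fX] [LocallyOfFiniteType fY]
    (hqX : ∃ (N : ℕ) (i : X ⟶ CohB1.ProjSpace N k), IsImmersion i ∧ i ≫ CohB1.ProjSpace.toSpec N k = fX)
    (hqY : ∃ (N : ℕ) (i : Y ⟶ CohB1.ProjSpace N k), IsImmersion i ∧ i ≫ CohB1.ProjSpace.toSpec N k = fY)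
    (hY : Pi1.IsNormalScheme Y)
    (u : X ⟶ Y) (hu : u ≫ fY = fX) (huniv : FlatMor.IsUnivHomeo u)
    (e : u (genericPoint X) = genericPoint Y) :
    ∃ n : ℕ,
      @Module.finrank Y.functionField X.functionField _ _
          (Y.presheaf.stalkSpecializes (specializes_of_eq e) ≫ u.stalkMap (genericPoint X)).hom.toAlgebra.toModule = p ^ n ∧
      ∃ v : Y ⟶ pullback fX ((fun g : Spec (CommRingCat.of k) ⟶ Spec (CommRingCat.of k) => g ≫ FrobSch.frob (Spec (CommRingCat.of k)) p)^[n] (𝟙 (Spec (CommRingCat.of k)))),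
        FlatMor.IsUnivHomeo v ∧
        v ≫ pullback.snd fX ((fun g : Spec (CommRingCat.of k) ⟶ Spec (CommRingCat.of k) => g ≫ FrobSch.frob (Spec (CommRingCat.of k)) p)^[n] (𝟙 (Spec (CommRingCat.of k)))) = fY ∧
        u ≫ v ≫ pullback.fst fX ((fun g : Spec (CommRingCat.of k) ⟶ Spec (CommRingCat.of k) => g ≫ FrobSch.frob (Spec (CommRingCat.of k)) p)^[n] (𝟙 (Spec (CommRingCat.of k)))) =
          (fun g : X ⟶ X => g ≫ FrobSch.frob X p)^[n] (𝟙 X) ∧
        v ≫ pullback.fst fX ((fun g : Spec (CommRingCat.of k) ⟶ Spec (CommRingCat.of k) => g ≫ FrobSch.frob (Spec (CommRingCat.of k)) p)^[n] (𝟙 (Spec (CommRingCat.of k)))) ≫ u =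
          (fun g : Y ⟶ Y => g ≫ FrobSch.frob Y p)^[n] (𝟙 Y) := by
  haveI : LocallyOfFiniteType (u ≫ fY) := by rw [hu]; infer_instance
  haveI : LocallyOfFiniteType u := locallyOfFiniteType_of_comp u fY
  haveI : IsIntegralHom u := Var76.FrobHomeo.isIntegralHom_of_isUnivHomeo huniv
  haveI : Surjective u := ⟨(Perf96.isHomeomorph_of_isUnivHomeo huniv).surjective⟩
  haveI : X.IsSeparated := ⟨by
    rw [← terminal.comp_from fX]
    infer_instance⟩
  obtain ⟨n, hn, hpow⟩ := Frob53.exists_finrank_pow (p := p) u huniv e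
  obtain ⟨w, hw⟩ := Frob53.exists_factor_frobIter hY hpow
  refine ⟨n, hn, ?_⟩
  obtain ⟨F, hFdef⟩ : ∃ F, F = (fun g : Spec (CommRingCat.of k) ⟶ Spec (CommRingCat.of k) =>
      g ≫ FrobSch.frob (Spec (CommRingCat.of k)) p)^[n] (𝟙 _) := ⟨_, rfl⟩
  have hFn : F = FrobSch.frobIter (Spec (CommRingCat.of k)) p n :=
    hFdef.trans (Frob53.iterate_comp_frob _ n)
  have hF : FlatMor.IsUnivHomeo F := hFn ▸ Frob53.frobIter_isUnivHomeo _ n
  rw [← hFdef]
  have hwu : w ≫ u = FrobSch.frobIter Y p n := by
    haveI : Y.IsSeparated := ⟨by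
      rw [← terminal.comp_from fY]
      infer_instance⟩
    refine ext_of_isDominant u ?_
    rw [← Category.assoc, hw, Frob53.frobIter_naturality]
  have hwf : w ≫ fX = fY ≫ F := by
    rw [← hu, ← Category.assoc, hwu, Frob53.frobIter_naturality (p := p) _ fY, hFn]
  have hfst : FlatMor.IsUnivHomeo (pullback.fst fX F) :=
    haveI : MorphismProperty.IsStableUnderBaseChange FlatMor.IsUnivHomeo.{u} :=
      inferInstanceAs (MorphismProperty.universally
        (AlgebraicGeometry.topologically (fun f => IsHomeomorph f))).IsStableUnderBaseChange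
    MorphismProperty.pullback_fst (P := FlatMor.IsUnivHomeo) _ _ hF
  have hwUH : FlatMor.IsUnivHomeo w :=
    Perf96.isUnivHomeo_of_comp_left (hwu ▸ Frob53.frobIter_isUnivHomeo Y n) huniv
  refine ⟨pullback.lift w fY hwf, ?_, pullback.lift_snd _ _ _, ?_, ?_⟩
  · exact Perf96.isUnivHomeo_of_comp_left (by rwa [pullback.lift_fst]) hfst
  · rw [Frob53.iterate_comp_frob]
    exact (congrArg (u ≫ ·) (pullback.lift_fst _ _ _)).trans hw
  · rw [Frob53.iterate_comp_frob, ← Category.assoc, pullback.lift_fst]
    exact hwu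
end Groth.Agent.S19240
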