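import Groth.Statements.S19244
import Mathlib

set_option autoImplicit false
universe v v' u u'
open HomAlg3

namespace Groth.Agent.S19244

open CategoryTheory in
/-- Let A be an abelian category and let P be the class of bounded-torsion objects of A, those X with n
• 𝟙_X = 0 for some nonzero integer n; assume P is a Serre class. Let L : A ⥤ D be an additive
functor to a preadditive category exhibiting D as the localization of A at the morphisms whose
kernel and cokernel are in P (so D is the quotient category A_ℚ = A ⧸ A_{b-tor}; the source assumes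
A well-powered, which guarantees that this quotient exists). Then for all objects X, Y of A: (1) for
every nonzero integer n, multiplication by n is bijective on Hom_D(L X, L Y), so that this group is
naturally a ℚ-vector space; (2) a morphism f : X ⟶ Y satisfies L f = 0 if and only if n • f = 0 for
some nonzero integer n; (3) for every g : L X ⟶ L Y there are a nonzero integer n and f : X ⟶ Y with
n • g = L f. Equivalently, the natural map Hom_A(X, Y) ⊗_ℤ ℚ → Hom_D(L X, L Y) is an isomorphism. -/
theorem result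
    {A : Type u} [Category.{v} A] [Abelian A] {D : Type u'} [Category.{v'} D] [Preadditive D]
    (P : ObjectProperty A) (hP : ∀ X : A, P X ↔ ∃ n : ℤ, n ≠ 0 ∧ n • (𝟙 X) = 0) [P.IsSerreClass]
    (L : A ⥤ D) [L.Additive] [L.IsLocalization P.isoModSerre] (X Y : A) :
    (∀ n : ℤ, n ≠ 0 → Function.Bijective (fun g : L.obj X ⟶ L.obj Y => n • g)) ∧
    (∀ f : X ⟶ Y, L.map f = 0 ↔ ∃ n : ℤ, n ≠ 0 ∧ n • f = 0) ∧
    (∀ g : L.obj X ⟶ L.obj Y, ∃ (n : ℤ) (f : X ⟶ Y), n ≠ 0 ∧ n • g = L.map f) := by
  haveI : IsIso (L.map (𝟙 X)) := inferInstance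
  have hkey : ∀ {U V : A} (s : U ⟶ V), P.isoModSerre s →
      ∃ (n : ℤ) (t : V ⟶ U), n ≠ 0 ∧ s ≫ t = n • 𝟙 U := by
    intro U V s hs
    obtain ⟨n, hn, hnk⟩ := (hP _).1 hs.1
    obtain ⟨m, hm, hmc⟩ := (hP _).1 hs.2
    have h1 : Limits.kernel.ι s ≫ (n • 𝟙 U) = 0 := by
      rw [Preadditive.comp_zsmul, Category.comp_id,
        ← Category.id_comp (Limits.kernel.ι s), ← Preadditive.zsmul_comp, hnk, Limits.zero_comp]
    have h2 : (m • 𝟙 V) ≫ Limits.cokernel.π s = 0 := by
      rw [Preadditive.zsmul_comp, Category.id_comp,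
        ← Category.comp_id (Limits.cokernel.π s), ← Preadditive.comp_zsmul, hmc, Limits.comp_zero]
    let u : Abelian.coimage s ⟶ U := Limits.cokernel.desc _ (n • 𝟙 U) h1
    have hu : Abelian.coimage.π s ≫ u = n • 𝟙 U := Limits.cokernel.π_desc _ _ _
    let w : V ⟶ Abelian.image s := Limits.kernel.lift _ (m • 𝟙 V) h2
    have hw : w ≫ Abelian.image.ι s = m • 𝟙 V := Limits.kernel.lift_ι _ _ _
    have hw' : Abelian.image.ι s ≫ w = m • 𝟙 _ := by
      rw [← cancel_mono (Abelian.image.ι s), Category.assoc, hw]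
      simp
    refine ⟨m * n, w ≫ (Abelian.coimageIsoImage s).inv ≫ u, mul_ne_zero hm hn, ?_⟩
    have hsw : s ≫ w = Abelian.coimage.π s ≫ (Abelian.coimageIsoImage s).hom ≫ (m • 𝟙 _) := by
      rw [← hw']
      simp
    rw [← Category.assoc, hsw]
    simp [hu, mul_smul]
  have hbij : ∀ n : ℤ, n ≠ 0 → Function.Bijective (fun g : L.obj X ⟶ L.obj Y => n • g) := by
    intro n hn
    have hW : P.isoModSerre (n • 𝟙 X) := by
      refine ⟨(hP _).2 ⟨n, hn, ?_⟩, (hP _).2 ⟨n, hn, ?_⟩⟩
      · rw [← cancel_mono (Limits.kernel.ι (n • 𝟙 X)), Limits.zero_comp,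
          Preadditive.zsmul_comp, Category.id_comp]
        have := Limits.kernel.condition (n • 𝟙 X)
        rwa [Preadditive.comp_zsmul, Category.comp_id] at this
      · rw [← cancel_epi (Limits.cokernel.π (n • 𝟙 X)), Limits.comp_zero,
          Preadditive.comp_zsmul, Category.comp_id]
        have := Limits.cokernel.condition (n • 𝟙 X)
        rwa [Preadditive.zsmul_comp, Category.id_comp] at this
    haveI := Localization.inverts L P.isoModSerre _ hW
    have e : (fun g : L.obj X ⟶ L.obj Y => n • g) = fun g => L.map (n • 𝟙 X) ≫ g := by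
      funext g
      simp [Functor.map_zsmul]
    rw [e]
    exact ⟨fun a b h => (cancel_epi _).1 h,
      fun b => ⟨inv (L.map (n • 𝟙 X)) ≫ b, IsIso.hom_inv_id_assoc _ _⟩⟩
  refine ⟨hbij, fun f => ?_, fun g => ?_⟩
  · rw [ObjectProperty.SerreClassLocalization.map_eq_zero_iff L P, hP]
    constructor
    · rintro ⟨n, hn, h⟩
      refine ⟨n, hn, ?_⟩
      rw [← Abelian.image.fac f, ← Preadditive.zsmul_comp, ← Category.comp_id
        (Abelian.factorThruImage f), ← Preadditive.comp_zsmul, h, Limits.comp_zero, Limits.zero_comp]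
    · rintro ⟨n, hn, h⟩
      refine ⟨n, hn, ?_⟩
      rw [← cancel_epi (Abelian.factorThruImage f), ← cancel_mono (Abelian.image.ι f)]
      simpa using h
  · obtain ⟨φ, hφ⟩ := Localization.exists_leftFraction L P.isoModSerre g
    obtain ⟨n, t, hn, ht⟩ := hkey φ.s φ.hs
    refine ⟨n, φ.f ≫ t, hn, ?_⟩
    rw [L.map_comp, hφ, ← φ.map_comp_map_s L (Localization.inverts L P.isoModSerre), Category.assoc,
      ← L.map_comp, ht, L.map_zsmul, L.map_id, Preadditive.comp_zsmul, Category.comp_id]

end Groth.Agent.S19244
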