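import Groth.Statements.S19245
import Groth.Agent.LocCohZ46.Basic
-- import your own Groth.Agent.* helpers here

set_option autoImplicit false
universe u
open LocCohZ

namespace Groth.Agent.S19245

open Groth.Agent.LocCohZ46

open CategoryTheory TopologicalSpace in
/-- Let A be a flasque abelian sheaf on a topological space X and Z = X ∖ U the closed complement of an
open U. Then the sheaf Γ_Z(A) of sections of A supported in Z is flasque. (The source states the
lemma for every family of supports Φ on a Noetherian topological space, where Γ_Φ(A) is the filtered
union of the Γ_Z(A), Z ∈ Φ; for a single closed Z no Noetherian hypothesis is needed.) -/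
theorem result {X : TopCat.{u}} (A : CohTop.Ab X) [TopCat.Sheaf.IsFlasque A]
    (U : Opens X) : TopCat.Sheaf.IsFlasque ((LocCohZ.sectSuppF U).obj A) := by
  exact isFlasque_sectSupp A U

end Groth.Agent.S19245
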