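import Groth.Statements.S19258
import Mathlib.Tactic
import Mathlib.Topology.Instances.AddCircle.Defs

set_option autoImplicit false
universe u
open PontDual

namespace Groth.Agent.S19258

/-- Let G and G' be abelian groups such that every element of G' has finite order, and let β : G' →
Hom(G, ℚ/ℤ) be an injective homomorphism (equivalently a pairing G' × G → ℚ/ℤ with no left kernel).
Endow G with the weak topology defined by G': the coarsest topology for which every character β(f),
f ∈ G', is continuous when ℚ/ℤ carries the discrete topology. Then every homomorphism χ : G → ℚ/ℤ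
that is continuous for this topology on G and the discrete topology on ℚ/ℤ equals β(f) for some f ∈
G', so that β is a bijection from G' onto the group of continuous characters of G. -/
theorem result
    (G : Type u) (G' : Type u) [AddCommGroup G] [AddCommGroup G'] (hG' : IsAddTorsion G')
    (β : G' →+ (G →+ AddCircle (1 : ℚ))) (hβ : Function.Injective β)
    (χ : G →+ AddCircle (1 : ℚ))
    (hχ : @Continuous G (AddCircle (1 : ℚ)) (⨅ f' : G', TopologicalSpace.induced (fun x : G => β f' x) ⊥) ⊥ χ) :
    ∃ f' : G', β f' = χ := by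
  classical
  obtain ⟨s, hs⟩ : ∃ s : Finset G', ∀ x : G, (∀ f ∈ s, β f x = 0) → χ x = 0 := by
    letI : TopologicalSpace (AddCircle (1 : ℚ)) := ⊥
    haveI : DiscreteTopology (AddCircle (1 : ℚ)) := ⟨rfl⟩
    letI : TopologicalSpace G := ⨅ f' : G', TopologicalSpace.induced (fun x : G => β f' x) ⊥
    have h0 : χ ⁻¹' {χ 0} ∈ nhds (0 : G) := ((isOpen_discrete _).preimage hχ).mem_nhds rfl
    rw [nhds_iInf, Filter.mem_iInf_finite] at h0
    obtain ⟨s, hs⟩ := h0
    refine ⟨s, fun x hx => ?_⟩
    have hmem : x ∈ χ ⁻¹' {χ 0} := by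
      have hle : pure x ≤ ⨅ i ∈ s, @nhds G (TopologicalSpace.induced (fun x : G => β i x) ⊥) 0 := by
        refine le_iInf₂ fun i hi => ?_
        rw [nhds_induced, map_zero, nhds_discrete, Filter.comap_pure, Filter.le_principal_iff, Filter.mem_pure]
        exact hx i hi
      exact Filter.mem_pure.mp (hle hs)
    simpa using hmem
  have one : ∀ (H : AddSubgroup G) (f : G') (ψ : H →+ AddCircle (1 : ℚ)),
      (∀ x : H, β f x = 0 → ψ x = 0) → ∃ a : ℤ, ∀ x : H, ψ x = a • β f x := by
    intro H f ψ hψ
    haveI : Fact ((0 : ℚ) < 1) := ⟨one_pos⟩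
    let F : H →+ AddCircle (1 : ℚ) := (β f).comp H.subtype
    set n := addOrderOf F with hn
    have hFt : IsOfFinAddOrder F :=
      (AddMonoidHom.mk' (fun g => (β g).comp H.subtype) (fun a b => by ext z; simp)).isOfFinAddOrder (hG' f)
    have hnpos : 0 < n := hFt.addOrderOf_pos
    have htor : ∀ x : H, n • F x = 0 := fun x => by
      have := DFunLike.congr_fun (addOrderOf_nsmul_eq_zero F) x
      rw [AddMonoidHom.nsmul_apply, AddMonoidHom.zero_apply] at this
      exact this
    have htors : ∀ y : AddCircle (1 : ℚ), n • y = 0 → ∃ j : ℕ, y = j • (((1 : ℚ) / n : ℚ) : AddCircle (1 : ℚ)) := by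
      intro y hy
      obtain ⟨m, -, hm⟩ := (AddCircle.nsmul_eq_zero_iff hnpos).mp hy
      exact ⟨m, by rw [← hm, ← AddCircle.coe_nsmul, nsmul_eq_mul, mul_one, mul_one_div]⟩
    set c : AddCircle (1 : ℚ) := (((1 : ℚ) / n : ℚ) : AddCircle (1 : ℚ))
    have hrange : c ∈ F.range := by
      haveI : Finite F.range := Finite.of_surjective
        (fun j : {j : Fin n // (j : ℕ) • c ∈ F.range} => (⟨(j.1 : ℕ) • c, j.2⟩ : F.range)) (by
          rintro ⟨y, x, rfl⟩
          obtain ⟨j, hj⟩ := htors _ (htor x)
          have hc : n • c = 0 := by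
            rw [← AddCircle.coe_nsmul, nsmul_eq_mul, mul_one_div_cancel (by exact_mod_cast hnpos.ne')]
            exact AddCircle.coe_period (1 : ℚ)
          have hjn : (j % n) • c = F x := by
            rw [hj]
            conv_rhs => rw [← Nat.mod_add_div j n, add_nsmul, mul_comm n, mul_nsmul', hc, smul_zero, add_zero]
          exact ⟨⟨⟨j % n, Nat.mod_lt _ hnpos⟩, ⟨x, hjn.symm⟩⟩, Subtype.ext hjn⟩)
      -- the range is cyclic of exponent `n`
      have hexp : n ∣ Nat.card F.range := by
        refine addOrderOf_dvd_of_nsmul_eq_zero (AddMonoidHom.ext fun x => ?_)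
        have := card_nsmul_eq_zero' (x := (⟨F x, x, rfl⟩ : F.range))
        simpa using congrArg Subtype.val this
      let S := {j : Fin n // (j : ℕ) • c ∈ F.range}
      have hcard : Nat.card F.range ≤ Nat.card S := Nat.card_le_card_of_surjective
        (fun j : S => (⟨(j.1 : ℕ) • c, j.2⟩ : F.range)) (by
          rintro ⟨y, x, rfl⟩
          obtain ⟨j, hj⟩ := htors _ (htor x)
          have hc : n • c = 0 := by
            rw [← AddCircle.coe_nsmul, nsmul_eq_mul, mul_one_div_cancel (by exact_mod_cast hnpos.ne')]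
            exact AddCircle.coe_period (1 : ℚ)
          have hjn : (j % n) • c = F x := by
            rw [hj]
            conv_rhs => rw [← Nat.mod_add_div j n, add_nsmul, mul_comm n, mul_nsmul', hc, smul_zero, add_zero]
          exact ⟨⟨⟨j % n, Nat.mod_lt _ hnpos⟩, ⟨x, hjn.symm⟩⟩, Subtype.ext hjn⟩)
      have hle : n ≤ Nat.card S := (Nat.le_of_dvd Nat.card_pos hexp).trans hcard
      by_contra hcr
      rcases Nat.lt_or_ge 1 n with h1 | h1
      · have : Nat.card S < n := by
          exact (Finite.card_subtype_lt (p := fun j : Fin n => (j : ℕ) • c ∈ F.range) (x := ⟨1, h1⟩)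
            (by rw [one_nsmul]; exact hcr)).trans_eq (Nat.card_fin n)
        omega
      · apply hcr
        have hn1 : n = 1 := by omega
        refine ⟨0, ?_⟩
        simp only [map_zero, c, hn1, Nat.cast_one, div_one]
        exact (AddCircle.coe_period (1 : ℚ)).symm
    obtain ⟨x₀, hx₀⟩ := hrange
    have hψn : n • ψ x₀ = 0 := by
      rw [← map_nsmul]
      exact hψ _ (by simpa [F] using htor x₀)
    obtain ⟨a, ha⟩ := htors _ hψn
    refine ⟨(a : ℤ), fun x => ?_⟩
    obtain ⟨j, hj⟩ := htors _ (htor x)
    have hk : ψ (x - j • x₀) = 0 := hψ _ (by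
      show β f ((x - j • x₀ : H) : G) = 0
      show F (x - j • x₀) = 0
      rw [map_sub, map_nsmul, hx₀, hj, sub_self])
    rw [map_sub, map_nsmul, sub_eq_zero, ha] at hk
    rw [hk, natCast_zsmul, show β f (x : G) = F x from rfl, hj, ← mul_nsmul', ← mul_nsmul', mul_comm]
  suffices h : ∀ (t : Finset G') (ψ : G →+ AddCircle (1 : ℚ)),
      (∀ x : G, (∀ f ∈ t, β f x = 0) → ψ x = 0) → ∃ f', β f' = ψ from h s χ hs
  intro t
  induction t using Finset.induction_on with
  | empty =>
    intro ψ hψ
    exact ⟨0, by ext x; simp [hψ x]⟩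
  | insert f t _ ih =>
    intro ψ hψ
    let H : AddSubgroup G := ⨅ g ∈ t, (β g).ker
    obtain ⟨a, ha⟩ := one H f (ψ.comp H.subtype) fun x hx => hψ x fun g hg => by
      rcases Finset.mem_insert.mp hg with rfl | hg
      · exact hx
      · exact (AddSubgroup.mem_iInf.mp ((AddSubgroup.mem_iInf.mp x.2) g)) hg
    obtain ⟨g, hg⟩ := ih (ψ - a • β f) fun x hx => by
      have := ha ⟨x, AddSubgroup.mem_iInf.mpr fun g => AddSubgroup.mem_iInf.mpr fun hg => hx g hg⟩
      simpa [sub_eq_zero] using this
    exact ⟨g + a • f, by rw [map_add, map_zsmul, hg, sub_add_cancel]⟩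

end Groth.Agent.S19258
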