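import Groth.Statements.S19264
import Groth.Agent.WittFil53.Root

set_option autoImplicit false
set_option linter.unusedVariables false
universe u
open WittFil

namespace Groth.Agent.S19264

/-- Let A be a unique factorisation domain of characteristic p, x_1, …, x_r pairwise non-associate prime
elements of A, B = A[1/(x_1⋯x_r)] with u_i the unit of B defined by x_i, n ∈ ℤ^r and m ≥ 0. The
restriction map from truncated p-typical Witt vectors of length m+1 to those of length m over B
(forgetting the last coordinate) maps the filtered piece cut out by ∏ u_i ^ n_i onto the filtered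
piece cut out by ∏ u_i ^ ⌊n_i / p⌋; that is, the image is exactly that piece. (The other parts of
the exact sequence, injectivity of the (m-fold) Verschiebung from the fractional ideal generated by
(∏ u_i ^ n_i)⁻¹ and exactness in the middle, are immediate from the definition and are not restated.
The published setting is a regular local ring; only unique factorisation is used.) -/
theorem result (p : ℕ) [Fact p.Prime] {A B : Type u} [CommRing A] [IsDomain A]
    [UniqueFactorizationMonoid A] [CharP A p] [CommRing B] [Algebra A B] {r : ℕ} (x : Fin r → A)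
    (hx : ∀ i, Prime (x i)) (hxa : ∀ i j, Associated (x i) (x j) → i = j)
    [IsLocalization.Away (∏ i, x i) B] (u : Fin r → Bˣ)
    (hu : ∀ i, (u i : B) = algebraMap A B (x i)) (n : Fin r → ℤ) (m : ℕ) :
    (TruncatedWittVector.truncate (Nat.le_succ m)) '' WittFil.fil p (m + 1) (A := A) (WittFil.zmon u n) =
      WittFil.fil p m (A := A) (WittFil.zmon u (fun i => n i / (p : ℤ))) := by
  have hp : (0 : ℤ) < p := by exact_mod_cast (Fact.out : p.Prime).pos
  set q : Fin r → ℤ := fun i => n i / (p : ℤ) with hq
  set e : Fin r → ℤ := fun i => n i % (p : ℤ) with he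
  have hdec : Groth.Agent.WittFil53.mono u n =
      Groth.Agent.WittFil53.mono u q ^ p * Groth.Agent.WittFil53.mono u e := by
    rw [Groth.Agent.WittFil53.mono_pow, ← Groth.Agent.WittFil53.mono_add]
    congr 1
    funext i
    simp only [hq, he, Pi.add_apply]
    rw [mul_comm]
    exact (Int.mul_ediv_add_emod (n i) p).symm
  have hkey : ∀ (y : B) (k : ℕ), y ^ p ^ (k + 1) * WittFil.zmon u n =
      (y ^ p ^ k * WittFil.zmon u q) ^ p * (Groth.Agent.WittFil53.mono u e : B) := by
    intro y k
    show _ * (Groth.Agent.WittFil53.mono u n : B) = (_ * (Groth.Agent.WittFil53.mono u q : B)) ^ p * _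
    rw [hdec, Units.val_mul, Units.val_pow_eq_pow_val, mul_pow, ← pow_mul, pow_succ, mul_assoc]
  ext b
  constructor
  · rintro ⟨a, ha, rfl⟩ j
    have h := ha (Fin.castLE (Nat.le_succ m) j)
    rw [Fin.val_castLE, show m + 1 - 1 - (j : ℕ) = m - 1 - (j : ℕ) + 1 by omega, hkey] at h
    rw [TruncatedWittVector.coeff_truncate]
    exact Groth.Agent.WittFil53.mem_range_of_pow_mul_mono_mem x hx hxa u hu _ p e
      (fun i => Int.emod_lt_of_pos _ hp) h
  · intro hb
    refine ⟨TruncatedWittVector.mk p (Fin.snoc (fun j => TruncatedWittVector.coeff j b) 0), ?_, ?_⟩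
    · intro j
      rw [TruncatedWittVector.coeff_mk]
      refine Fin.lastCases ?_ (fun i => ?_) j
      · simp
      · rw [Fin.snoc_castSucc, Fin.val_castSucc,
          show m + 1 - 1 - (i : ℕ) = m - 1 - (i : ℕ) + 1 by omega, hkey]
        exact mul_mem (pow_mem (hb i) _)
          (Groth.Agent.WittFil53.mono_nonneg_mem x u hu e fun k => Int.emod_nonneg _ hp.ne')
    · refine TruncatedWittVector.ext fun i => ?_
      rw [TruncatedWittVector.coeff_truncate, TruncatedWittVector.coeff_mk]
      exact Fin.snoc_castSucc (α := fun _ => B) 0 (fun j => TruncatedWittVector.coeff j b) i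
end Groth.Agent.S19264
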