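import Groth.Statements.S19267
import Groth.Agent.WittFil53.Coeff

set_option autoImplicit false
set_option linter.unusedVariables false
universe u
open WittFil

namespace Groth.Agent.S19267

/-- Let A → B be a homomorphism of commutative rings, u a unit of B, m ≥ 0 and n, l integers. For an
element c of B call the filtered piece cut out by c the set of truncated p-typical Witt vectors of
length m over B whose j-th coordinate y_j satisfies: y_j ^ (p ^ (m-1-j)) · c lies in the image of A,
for every j < m. Then the piece cut out by u ^ (n − p^(m−1)·l) is exactly the image of the piece cut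
out by u ^ n under multiplication by the truncated Teichmüller representative [u ^ l]. (The
published case is B = S[[π]][1/π] over A = S[[π]] with u = π; the computation is the same in
general.) -/
theorem result (p : ℕ) [Fact p.Prime] {A B : Type u}
    [CommRing A] [CommRing B] [Algebra A B] (m : ℕ) (u : Bˣ) (n l : ℤ) :
    WittFil.fil p m (A := A) ((u ^ (n - (p : ℤ) ^ (m - 1) * l) : Bˣ) : B) =
      (fun a => WittVector.truncate m (WittVector.teichmuller p ((u ^ l : Bˣ) : B)) * a) ''
        WittFil.fil p m (A := A) ((u ^ n : Bˣ) : B) := by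
  have key : ∀ (e : ℤ) (a : TruncatedWittVector p m B) (j : Fin m),
      TruncatedWittVector.coeff j
          (WittVector.truncate m (WittVector.teichmuller p ((u ^ e : Bˣ) : B)) * a) ^
            p ^ (m - 1 - (j : ℕ)) =
        TruncatedWittVector.coeff j a ^ p ^ (m - 1 - (j : ℕ)) *
          ((u ^ ((p : ℤ) ^ (m - 1) * e) : Bˣ) : B) := by
    intro e a j
    have he : u ^ ((p : ℤ) ^ (m - 1) * e) = (u ^ e) ^ (p ^ (m - 1)) := by
      rw [← zpow_natCast (u ^ e), ← zpow_mul]; push_cast; rw [mul_comm]
    rw [Groth.Agent.WittFil53.coeff_truncate_teichmuller_mul, mul_pow, ← pow_mul, ← pow_add,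
      Nat.add_sub_cancel' (by omega : (j : ℕ) ≤ m - 1), he, Units.val_pow_eq_pow_val, mul_comm]
  ext a
  constructor
  · intro ha
    refine ⟨WittVector.truncate m (WittVector.teichmuller p ((u ^ (-l) : Bˣ) : B)) * a, fun j => ?_, ?_⟩
    · rw [key, mul_assoc, ← Units.val_mul, ← zpow_add,
        show (p : ℤ) ^ (m - 1) * -l + n = n - (p : ℤ) ^ (m - 1) * l by ring]
      exact ha j
    · simp only
      rw [← mul_assoc, ← map_mul, ← map_mul, ← Units.val_mul, ← zpow_add, add_neg_cancel, zpow_zero,
        Units.val_one, map_one, map_one, one_mul]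
  · rintro ⟨b, hb, rfl⟩ j
    rw [key, mul_assoc, ← Units.val_mul, ← zpow_add,
      show (p : ℤ) ^ (m - 1) * l + (n - (p : ℤ) ^ (m - 1) * l) = n by ring]
    exact hb j
end Groth.Agent.S19267
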