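import Groth.Statements.S19269
import Groth.Agent.CAlg9.AdicComplete
import Mathlib.RingTheory.AdicCompletion.AsTensorProduct
import Mathlib.RingTheory.AdicCompletion.Noetherian
import Mathlib.RingTheory.Filtration

set_option autoImplicit false
universe u
open CAlg

namespace Groth.Agent.S19269

open IsLocalRing in
/-- Let R be a Noetherian local ring with maximal ideal 𝔪, M a finitely generated R-module and M^ its
𝔪-adic completion, a module over the 𝔪-adic completion R^ of R. Let N' be an R^-submodule of M^ and
N an R-submodule of M whose image in M^ is contained in N' and is dense in N' for the 𝔪-adic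
topology, in the sense that for every y in N' and every k there is x in N with y ≡ x modulo the
kernel of M^ → M/𝔪^k M. Then N' equals the image of the completion of N under the map induced by the
inclusion N → M (so N' is the completion of N), and N is the set of elements of M whose image in M^
lies in N'. -/
theorem result {R : Type u} [CommRing R]
    [IsNoetherianRing R] [IsLocalRing R] {M : Type u} [AddCommGroup M] [Module R M]
    [Module.Finite R M] (N : Submodule R M)
    (N' : Submodule (AdicCompletion (maximalIdeal R) R) (AdicCompletion (maximalIdeal R) M))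
    (hle : ∀ x ∈ N, AdicCompletion.of (maximalIdeal R) M x ∈ N')
    (hdense : ∀ y ∈ N', ∀ k : ℕ, ∃ x ∈ N,
      AdicCompletion.eval (maximalIdeal R) M k y = Submodule.Quotient.mk x) :
    (N'.restrictScalars R =
        (LinearMap.range (AdicCompletion.map (maximalIdeal R) N.subtype)).restrictScalars R) ∧
      (∀ x : M, x ∈ N ↔ AdicCompletion.of (maximalIdeal R) M x ∈ N') := by
  have hback : ∀ x : M, AdicCompletion.of (maximalIdeal R) M x ∈ N' → x ∈ N := by
    intro x hx
    rw [← Submodule.Quotient.mk_eq_zero N]
    refine IsHausdorff.haus (inferInstance : IsHausdorff (maximalIdeal R) (M ⧸ N)) _ fun k => ?_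
    rw [SModEq.sub_mem, sub_zero]
    obtain ⟨y, hy, hxy⟩ := hdense _ hx k
    rw [AdicCompletion.eval_of, Submodule.mkQ_apply, Submodule.Quotient.eq] at hxy
    have h := Groth.Agent.CAlg9.map_pow_smul_top_le (maximalIdeal R) N.mkQ k hxy
    rw [map_sub, Submodule.mkQ_apply, Submodule.mkQ_apply,
      (Submodule.Quotient.mk_eq_zero N).mpr hy, sub_zero] at h
    exact h
  refine ⟨le_antisymm (fun y hy => ?_) ?_, fun x => ⟨hle x, hback x⟩⟩
  · obtain ⟨c, hc⟩ := Ideal.exists_pow_inf_eq_pow_smul (maximalIdeal R) N
    choose z hzN hz using fun n => hdense y hy (n + c)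
    have hz' : ∀ n, y.val (n + c) = Submodule.Quotient.mk (z n) := hz
    have hcau : ∀ {a b : ℕ}, a ≤ b → z a - z b ∈ (maximalIdeal R) ^ a • N := by
      intro a b hab
      have h1 : z a - z b ∈ ((maximalIdeal R) ^ (a + c) • ⊤ : Submodule R M) := by
        have h2 := y.prop (show a + c ≤ b + c by omega)
        rw [hz' a, hz' b] at h2
        exact (Submodule.Quotient.eq _).mp h2.symm
      have h3 : z a - z b ∈ ((maximalIdeal R) ^ (a + c) • ⊤ ⊓ N : Submodule R M) := ⟨h1, sub_mem (hzN a) (hzN b)⟩
      rw [hc (a + c) (by omega), Nat.add_sub_cancel] at h3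
      exact (smul_mono_right _ inf_le_right : _ ≤ (maximalIdeal R) ^ a • N) h3
    let X : AdicCompletion (maximalIdeal R) N := ⟨fun n => Submodule.Quotient.mk ⟨z n, hzN n⟩, by
      intro a b hab
      show (Submodule.Quotient.mk ⟨z b, hzN b⟩ : N ⧸ ((maximalIdeal R) ^ a • ⊤ : Submodule R N)) =
        Submodule.Quotient.mk ⟨z a, hzN a⟩
      symm
      rw [Submodule.Quotient.eq]
      exact (Submodule.mem_smul_top_iff ((maximalIdeal R) ^ a) N _).mpr (hcau hab)⟩
    refine ⟨X, AdicCompletion.ext fun n => ?_⟩
    rw [← y.prop (show n ≤ n + c by omega), hz' n]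
    rfl
  · rintro _ ⟨X, rfl⟩
    obtain ⟨t, rfl⟩ := AdicCompletion.ofTensorProduct_surjective_of_finite (maximalIdeal R) N X
    show AdicCompletion.map (maximalIdeal R) N.subtype (AdicCompletion.ofTensorProduct (maximalIdeal R) N t) ∈ N'
    induction t with
    | zero => simp
    | tmul r x =>
      rw [AdicCompletion.ofTensorProduct_tmul, map_smul, AdicCompletion.map_of]
      exact N'.smul_mem r (hle x x.2)
    | add a b ha hb => rw [map_add, map_add]; exact add_mem ha hb

end Groth.Agent.S19269
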