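import Groth.Statements.S19270
import Groth.Agent.H98.FSArtin
import Mathlib.RingTheory.Derivation.ToSquareZero
import Mathlib.RingTheory.Ideal.Cotangent
import Mathlib.RingTheory.RegularLocalRing.Defs
import Mathlib.RingTheory.LocalRing.Module
import Mathlib.RingTheory.Finiteness.Nakayama
import Mathlib.Algebra.Algebra.ZMod
import Mathlib.FieldTheory.Finite.Basic
import Mathlib.LinearAlgebra.Basis.Prod
import Mathlib.RingTheory.Smooth.Basic

set_option autoImplicit false
universe u
open CAlg

namespace Groth.Agent.S19270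

open IsLocalRing KaehlerDifferential

/-- The linear map `Ω → m/m²` inverse to `d` on the maximal ideal. -/
theorem exists_toCotangent {A : Type u} [CommRing A] [IsLocalRing A] (p : ℕ) [Fact p.Prime] [CharP A p] :
    ∃ L : Ω[A⁄ℤ] →ₗ[A] (maximalIdeal A).Cotangent,
      ∀ (a : A) (ha : a ∈ maximalIdeal A),
        L (KaehlerDifferential.D ℤ A a) = - (maximalIdeal A).toCotangent ⟨a, ha⟩ := by
  let m := maximalIdeal A
  let B := A ⧸ m ^ 2
  let k := A ⧸ m
  let : Field k := Ideal.Quotient.field m
  have : CharP k p := (CharP.charP_iff_prime_eq_zero (Fact.out : p.Prime)).mpr (by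
    rw [← map_natCast (Ideal.Quotient.mk m), CharP.cast_eq_zero, map_zero])
  have hle : m ^ 2 ≤ m := Ideal.pow_le_self two_ne_zero
  let π : B →+* k := Ideal.Quotient.factor hle
  have hπ : Function.Surjective π := Ideal.Quotient.factor_surjective hle
  have hnil : IsNilpotent (RingHom.ker π) := by
    refine ⟨2, ?_⟩
    show (RingHom.ker (Ideal.Quotient.factor hle)) ^ 2 = ⊥
    rw [Ideal.Quotient.factor_ker, ← Ideal.map_pow, Ideal.map_quotient_self]
  let θ : ZMod p →+* k := ZMod.castHom (dvd_refl p) k
  let θ' : ZMod p ≃+* θ.fieldRange := RingEquiv.ofBijective θ.rangeRestrictField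
    ⟨θ.rangeRestrictField.injective, fun ⟨_, z, hz⟩ => ⟨z, Subtype.ext hz⟩⟩
  let ι : (⊥ : Subfield k) →+* B := ((Ideal.Quotient.mk (m ^ 2)).comp
    (ZMod.castHom (dvd_refl p) A)).comp (θ'.symm.toRingHom.comp (Subfield.inclusion bot_le))
  obtain ⟨σ, hσ'⟩ := Groth.Agent.H98.FSArtin.exists_ringHom_lift π hπ hnil ι (RingHom.id k)
  have hσ : ∀ c, π (σ c) = c := fun c => RingHom.congr_fun hσ' c
  let f : A →ₐ[ℤ] B := (σ.comp (Ideal.Quotient.mk m)).toIntAlgHom
  have hf : (Ideal.Quotient.mkₐ ℤ m.cotangentIdeal).comp f =
      IsScalarTower.toAlgHom ℤ A (B ⧸ m.cotangentIdeal) := by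
    refine AlgHom.ext fun a => ?_
    refine Ideal.Quotient.eq.mpr ?_
    show σ (Ideal.Quotient.mk m a) - Ideal.Quotient.mk (m ^ 2) a ∈ m.cotangentIdeal
    obtain ⟨y, hy⟩ := Ideal.Quotient.mk_surjective (I := m ^ 2) (σ (Ideal.Quotient.mk m a))
    rw [← hy, ← map_sub]
    refine Submodule.mem_map_of_mem ?_
    rw [← Ideal.Quotient.eq_zero_iff_mem, map_sub, sub_eq_zero]
    have := hσ (Ideal.Quotient.mk m a)
    rw [← hy] at this
    exact this
  let δ : Derivation ℤ A m.cotangentIdeal :=
    derivationToSquareZeroOfLift m.cotangentIdeal m.cotangentIdeal_square f hf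
  refine ⟨m.cotangentEquivIdeal.symm.toLinearMap.comp δ.liftKaehlerDifferential, fun a ha => ?_⟩
  rw [LinearMap.comp_apply, Derivation.liftKaehlerDifferential_comp_D, LinearEquiv.coe_coe,
    ← m.cotangentEquivIdeal_symm_apply a ha, ← map_neg]
  congr 1
  refine Subtype.ext ?_
  rw [derivationToSquareZeroOfLift_apply, Submodule.coe_neg]
  show σ (Ideal.Quotient.mk m a) - Ideal.Quotient.mk (m ^ 2) a = - (Ideal.Quotient.mk (m ^ 2) a)
  rw [Ideal.Quotient.eq_zero_iff_mem.mpr ha, map_zero, zero_sub]


open IsLocalRing in
/-- Let A be a regular local ring of prime characteristic p, of Krull dimension N, with maximal ideal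
generated by x_1, …, x_N, and assume that the module Ω_A of absolute Kähler differentials of A
(differentials relative to ℤ, equivalently relative to the prime field) is a free A-module of finite
rank. Then dx_1, …, dx_N are part of a basis of Ω_A: there exist a basis b of Ω_A and an injection e
of the indices 1, …, N into the index type of b with b (e i) = d(x_i) for all i. (In the published
statement A is a regular local F-finite algebra over the prime field and the freeness and finiteness
of Ω_A form the first assertion, taken there from the literature; here they are hypotheses.) -/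
theorem result (p : ℕ) [Fact p.Prime]
    {A : Type u} [CommRing A] [IsRegularLocalRing A] [CharP A p]
    [Module.Free A (KaehlerDifferential ℤ A)] [Module.Finite A (KaehlerDifferential ℤ A)]
    {N : ℕ} (x : Fin N → A) (hx : Ideal.span (Set.range x) = maximalIdeal A)
    (hN : ringKrullDim A = (N : WithBot ℕ∞)) :
    ∃ (ι : Type u) (b : Module.Basis ι A (KaehlerDifferential ℤ A)) (e : Fin N ↪ ι),
      ∀ i : Fin N, b (e i) = KaehlerDifferential.D ℤ A (x i) := by
  classical
  obtain ⟨L, hL⟩ := exists_toCotangent (A := A) p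
  have hxm : ∀ i, x i ∈ maximalIdeal A := fun i => hx ▸ Ideal.subset_span ⟨i, rfl⟩
  let t : Fin N → (maximalIdeal A).Cotangent := fun i => (maximalIdeal A).toCotangent ⟨x i, hxm i⟩
  have hspanA : Submodule.span A (Set.range t) = ⊤ := by
    have h1 : Submodule.span A (Set.range fun i => (⟨x i, hxm i⟩ : maximalIdeal A)) = ⊤ := by
      apply Submodule.map_injective_of_injective (maximalIdeal A).injective_subtype
      rw [Submodule.map_span, Submodule.map_subtype_top, ← Set.range_comp]
      exact hx
    have h2 := congrArg (Submodule.map (maximalIdeal A).toCotangent) h1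
    rwa [Submodule.map_span, Submodule.map_top,
      LinearMap.range_eq_top.mpr (maximalIdeal A).toCotangent_surjective, ← Set.range_comp] at h2
  have hli : LinearIndependent (ResidueField A) t := by
    refine linearIndependent_of_top_le_span_of_card_eq_finrank ?_ ?_
    · intro z _
      exact Submodule.span_le_restrictScalars A (ResidueField A) _ (hspanA ▸ Submodule.mem_top)
    · have h1 := IsRegularLocalRing.spanFinrank_maximalIdeal (R := A)
      rw [hN, IsLocalRing.spanFinrank_maximalIdeal_eq_finrank_cotangentSpace] at h1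
      rw [Fintype.card_fin]
      exact_mod_cast h1.symm
  let φ : (Fin N → A) →ₗ[A] Ω[A⁄ℤ] := Fintype.linearCombination A fun i => KaehlerDifferential.D ℤ A (x i)
  let q : (Fin N → A) →ₗ[A] (maximalIdeal A).Cotangent := Fintype.linearCombination A fun i => - t i
  have hq : Function.Surjective q := by
    rw [← LinearMap.range_eq_top, Fintype.range_linearCombination, show (fun i => -t i) = -t from rfl,
      eq_top_iff, ← hspanA, Submodule.span_le]
    rintro _ ⟨i, rfl⟩
    rw [SetLike.mem_coe, ← neg_neg (t i)]
    exact neg_mem (Submodule.subset_span ⟨i, rfl⟩)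
  obtain ⟨Ψ, hΨ⟩ := Module.projective_lifting_property q L hq
  have hφi : ∀ i, φ (Pi.single i 1) = KaehlerDifferential.D ℤ A (x i) := fun i => by
    simp [φ, Fintype.linearCombination_apply_single]
  have hqker : ∀ c : Fin N → A, q c = 0 → ∀ i, c i ∈ maximalIdeal A := by
    intro c hc i
    rw [← residue_eq_zero_iff]
    refine Fintype.linearIndependent_iff.mp hli (fun i => residue A (c i)) ?_ i
    have hc' : ∑ i, c i • t i = 0 := by
      simpa [q, Fintype.linearCombination_apply] using hc
    exact Eq.trans (Finset.sum_congr rfl fun j _ => (IsScalarTower.algebraMap_smul (ResidueField A) (c j) (t j))) hc'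
  have hcongr : ∀ c, q (Ψ (φ c) - c) = 0 := by
    intro c
    rw [map_sub, sub_eq_zero]
    have : q.comp (Ψ.comp φ) = q := by
      refine LinearMap.pi_ext' fun i => LinearMap.ext_ring ?_
      simp only [LinearMap.comp_apply, LinearMap.coe_single]
      rw [hφi, ← LinearMap.comp_apply, hΨ, hL _ (hxm i)]
      simp [q, Fintype.linearCombination_apply_single, t]
    exact LinearMap.congr_fun this c
  have hE : Function.Bijective (Ψ.comp φ) := by
    have hsurj : Function.Surjective (Ψ.comp φ) := by
      rw [← LinearMap.range_eq_top, eq_top_iff]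
      refine Submodule.le_of_le_smul_of_le_jacobson_bot Module.Finite.fg_top
        (IsLocalRing.maximalIdeal_le_jacobson ⊥) ?_
      intro c _
      have h1 : c = (Ψ.comp φ) c + -(Ψ (φ c) - c) := by simp
      rw [h1]
      refine add_mem (Submodule.mem_sup_left (LinearMap.mem_range_self _ _))
        (Submodule.mem_sup_right (neg_mem ?_))
      rw [pi_eq_sum_univ (Ψ (φ c) - c)]
      exact Submodule.sum_mem _ fun i _ =>
        Submodule.smul_mem_smul (hqker _ (hcongr c) i) Submodule.mem_top
    exact ⟨OrzechProperty.injective_of_surjective_endomorphism _ hsurj, hsurj⟩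
  let E := LinearEquiv.ofBijective _ hE
  let Ψ' : Ω[A⁄ℤ] →ₗ[A] (Fin N → A) := E.symm.toLinearMap.comp Ψ
  have hret : ∀ c, Ψ' (φ c) = c := fun c => E.symm_apply_apply c
  let P := LinearMap.ker Ψ'
  let e : ((Fin N → A) × P) ≃ₗ[A] Ω[A⁄ℤ] :=
    LinearEquiv.ofLinearMap (φ.coprod P.subtype)
      (Ψ'.prod (LinearMap.codRestrict P (LinearMap.id - φ.comp Ψ') fun w => by
        simp [P, hret, map_sub]))
      (by ext w; simp)
      (by
        refine LinearMap.ext fun ⟨c, ⟨z, hz⟩⟩ => ?_
        have hz' : Ψ' z = 0 := hz
        refine Prod.ext ?_ (Subtype.ext ?_)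
        · simp [hret, hz']
        · simp [hret, hz'])
  have : Module.Finite A P := Module.Finite.of_surjective
    ((LinearMap.snd A (Fin N → A) P).comp e.symm.toLinearMap)
    (Prod.snd_surjective.comp e.symm.surjective)
  have : Module.Projective A P := Module.Projective.of_split
    ((e.toLinearMap).comp (LinearMap.inr A _ P)) ((LinearMap.snd A _ P).comp e.symm.toLinearMap)
    (by ext z; simp)
  have : Module.FinitePresentation A P := Module.finitePresentation_of_projective A P
  have : Module.Free A P := Module.free_of_flat_of_isLocalRing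
  let bP := Module.Free.chooseBasis A P
  refine ⟨ULift.{u} (Fin N) ⊕ Module.Free.ChooseBasisIndex A P,
    ((((Pi.basisFun A (Fin N)).prod bP).map e).reindex (Equiv.sumCongr Equiv.ulift.symm (Equiv.refl _))),
    ⟨fun i => Sum.inl ⟨i⟩, fun i j h => by simpa using h⟩, fun i => ?_⟩
  simp only [Module.Basis.reindex_apply, Module.Basis.map_apply]
  show e ((Pi.basisFun A (Fin N)).prod bP (Sum.inl i)) = _
  rw [Module.Basis.prod_apply, Sum.elim_inl]
  show φ (Pi.basisFun A (Fin N) i) + ((0 : P) : Ω[A⁄ℤ]) = _
  rw [Pi.basisFun_apply, hφi, Submodule.coe_zero, add_zero]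

end Groth.Agent.S19270
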