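import Groth.Statements.S19273
import Mathlib.RingTheory.Etale.Kaehler
import Mathlib.RingTheory.Localization.Module
import Mathlib.RingTheory.Localization.Away.Basic

set_option autoImplicit false
universe u
open CAlg

namespace Groth.Agent.S19273

open KaehlerDifferential in
/-- Let A be an integral domain of prime characteristic p, x_1, …, x_N elements of A, r ≤ N, B =
A[1/(x_1⋯x_r)] with u_i the unit of B defined by x_i for i ≤ r, and suppose that the module Ω_A of
absolute Kähler differentials of A is free with a basis b indexed by {1, …, N} ⊔ ι whose i-th vector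
is d(x_i) for i ≤ N. Then the module of logarithmic 1-forms — the A-submodule of Ω_B spanned by the
image of Ω_A and the forms u_i⁻¹ · d(x_i), i ≤ r — is a free A-module: it has a basis indexed by {1,
…, N} ⊔ ι whose vector at i ≤ r is u_i⁻¹ · d(x_i), at r < i ≤ N is d(x_i), and at k ∈ ι is the image
of b_k. (In the published statement A is a regular local F-finite algebra over the prime field with
maximal ideal (x_1, …, x_N), the basis of Ω_A comes from the preceding lemma, and the assertion
covers the logarithmic q-forms for all q together with their identification with the log de Rham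
complex of the log ring; only the degree-one freeness is stated here, from the properties of A
actually used.) -/
theorem result (p : ℕ) [Fact p.Prime]
    {A B : Type u} [CommRing A] [IsDomain A] [CharP A p] [CommRing B] [Algebra A B] {r N : ℕ}
    (hr : r ≤ N) (x : Fin N → A) [IsLocalization.Away (∏ i : Fin r, x (Fin.castLE hr i)) B]
    (u : Fin r → Bˣ) (hu : ∀ i, (u i : B) = algebraMap A B (x (Fin.castLE hr i)))
    {ι : Type u} (b : Module.Basis (Fin N ⊕ ι) A (Ω[A⁄ℤ])) (hb : ∀ i, b (Sum.inl i) = D ℤ A (x i)) :
    ∃ e : Module.Basis (Fin N ⊕ ι) A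
        (W4c6katofilta.logForms1 (fun i : Fin r => x (Fin.castLE hr i)) u),
      (∀ i : Fin r, (e (Sum.inl (Fin.castLE hr i)) : Ω[B⁄ℤ]) =
          ((u i)⁻¹ : Bˣ) • KaehlerDifferential.map ℤ ℤ A B (D ℤ A (x (Fin.castLE hr i)))) ∧
      (∀ i : Fin N, r ≤ (i : ℕ) →
          (e (Sum.inl i) : Ω[B⁄ℤ]) = KaehlerDifferential.map ℤ ℤ A B (D ℤ A (x i))) ∧
      (∀ k : ι, (e (Sum.inr k) : Ω[B⁄ℤ]) = KaehlerDifferential.map ℤ ℤ A B (b (Sum.inr k))) := by

  classical
  let P := Submonoid.powers (∏ i : Fin r, x (Fin.castLE hr i))
  have hx : ∀ i : Fin r, x (Fin.castLE hr i) ≠ 0 := fun i h => by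
    have h1 := b.ne_zero (Sum.inl (Fin.castLE hr i))
    rw [hb, h, map_zero] at h1
    exact h1 rfl
  have hinj : Function.Injective (algebraMap A B) :=
    IsLocalization.injective B (powers_le_nonZeroDivisors_of_noZeroDivisors
      (x := ∏ i : Fin r, x (Fin.castLE hr i)) (Finset.prod_ne_zero_iff.mpr fun i _ => hx i))
  haveI : IsLocalizedModule P (KaehlerDifferential.map ℤ ℤ A B) :=
    KaehlerDifferential.isLocalizedModule_map ℤ A B P
  let bB := b.ofIsLocalizedModule B P (KaehlerDifferential.map ℤ ℤ A B)
  let w : Fin N ⊕ ι → Bˣ := Sum.elim (fun i => if h : (i : ℕ) < r then (u ⟨i, h⟩)⁻¹ else 1) fun _ => 1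
  let e' := bB.unitsSMul w
  have he' : ∀ s, e' s = w s • KaehlerDifferential.map ℤ ℤ A B (b s) := fun s => by
    simp [e', bB, Module.Basis.unitsSMul_apply]
  have hwl : ∀ i : Fin r, w (Sum.inl (Fin.castLE hr i)) = (u i)⁻¹ := fun i => by
    simp [w]
  have hli : LinearIndependent A e' := by
    refine e'.linearIndependent.restrict_scalars ?_
    intro a a' h
    simp only [Algebra.smul_def, mul_one] at h
    exact hinj h
  have hspan : Submodule.span A (Set.range e') =
      W4c6katofilta.logForms1 (fun i : Fin r => x (Fin.castLE hr i)) u := by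
    refine le_antisymm (Submodule.span_le.mpr ?_) (Submodule.span_le.mpr (Set.union_subset ?_ ?_))
    · rintro _ ⟨s, rfl⟩
      rw [he']
      rcases s with i | k
      · by_cases h : (i : ℕ) < r
        · exact Submodule.subset_span (Or.inr ⟨⟨i, h⟩, by simp [w, h, hb]⟩)
        · exact Submodule.subset_span (Or.inl ⟨b (Sum.inl i), by simp [w, h]⟩)
      · exact Submodule.subset_span (Or.inl ⟨b (Sum.inr k), by simp [w]⟩)
    · rintro _ ⟨z, rfl⟩
      have hz : z ∈ Submodule.span A (Set.range b) := by rw [b.span_eq]; exact Submodule.mem_top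
      induction hz using Submodule.span_induction with
      | mem y hy =>
        obtain ⟨s, rfl⟩ := hy
        have key : ∃ a : A, a • e' s = KaehlerDifferential.map ℤ ℤ A B (b s) := by
          simp only [he']
          rcases s with i | k
          · by_cases h : (i : ℕ) < r
            · refine ⟨x i, ?_⟩
              rw [← algebraMap_smul B, show w (Sum.inl i) = (u ⟨i, h⟩)⁻¹ by simp [w, h],
                Units.smul_def, smul_smul, show algebraMap A B (x i) = (u ⟨i, h⟩ : B) by rw [hu]; rfl,
                Units.mul_inv, one_smul]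
            · exact ⟨1, by simp [w, h]⟩
          · exact ⟨1, by simp [w]⟩
        obtain ⟨a, ha⟩ := key
        rw [← ha]
        exact Submodule.smul_mem _ a (Submodule.subset_span ⟨s, rfl⟩)
      | zero => simp
      | add y y' _ _ hy hy' => rw [map_add]; exact add_mem hy hy'
      | smul a y _ hy => rw [map_smul]; exact Submodule.smul_mem _ a hy
    · rintro _ ⟨i, rfl⟩
      refine Submodule.subset_span ⟨Sum.inl (Fin.castLE hr i), ?_⟩
      rw [he', hwl, hb]
  refine ⟨(Module.Basis.span hli).map (LinearEquiv.ofEq _ _ hspan), fun i => ?_, fun i hi => ?_, fun k => ?_⟩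
  · rw [Module.Basis.map_apply, LinearEquiv.coe_ofEq_apply, Module.Basis.span_apply]
    exact (he' _).trans (by rw [hwl, hb])
  · rw [Module.Basis.map_apply, LinearEquiv.coe_ofEq_apply, Module.Basis.span_apply]
    exact (he' _).trans (by simp [w, not_lt.mpr hi, hb])
  · rw [Module.Basis.map_apply, LinearEquiv.coe_ofEq_apply, Module.Basis.span_apply]
    exact (he' _).trans (by simp [w])

end Groth.Agent.S19273
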