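import Groth.Statements.S19274
import Groth.Agent.WittFil53.Root

set_option autoImplicit false
set_option linter.unusedVariables false
universe u
open WittFil

namespace Groth.Agent.S19274

/-- Let A be a unique factorisation domain of characteristic p, x a prime element of A, B = A[1/x] with
u the unit of B defined by x, m ≥ 1, and n an integer NOT divisible by p^m. For e in B and k ≥ 0
write fil_k(e) for the set of truncated p-typical Witt vectors of length k over B whose j-th
coordinate y_j satisfies y_j ^ (p ^ (k−1−j)) · e ∈ A for all j < k (the filtered piece; fil_k(u^n)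
is the piece of index n). Then fil_{m+1}(u^n) is contained in fil_{m+1}(u^(n−1)) + V(fil_m(u^n))
(the reverse inclusion is immediate): every a in fil_{m+1}(u^n) can be written a = b + V(y) with b
in fil_{m+1}(u^(n−1)) and y a Witt vector over B whose length-m truncation lies in fil_m(u^n), V(y)
being truncated to length m+1. (In the source A is a henselian discrete valuation ring, n = p^r·l >
1 with p not dividing l, and the condition reads m ≥ r + 1.) -/
theorem result (p : ℕ) [Fact p.Prime]
    {A B : Type u} [CommRing A] [IsDomain A] [UniqueFactorizationMonoid A] [CharP A p]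
    [CommRing B] [Algebra A B] (x : A) (hx : Prime x) [IsLocalization.Away x B] (u : Bˣ)
    (hu : (u : B) = algebraMap A B x) (m : ℕ) (hm : 0 < m) (n : ℤ) (hn : ¬ ((p : ℤ) ^ m ∣ n)) :
    ∀ a ∈ WittFil.fil p (m + 1) (A := A) ((u ^ n : Bˣ) : B),
      ∃ b ∈ WittFil.fil p (m + 1) (A := A) ((u ^ (n - 1) : Bˣ) : B),
        ∃ y : WittVector p B,
          WittVector.truncate m y ∈ WittFil.fil p m (A := A) ((u ^ n : Bˣ) : B) ∧
            a = b + WittVector.truncate (m + 1) (WittVector.verschiebung y) := by
  intro a ha
  set X : Fin 1 → A := fun _ => x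
  haveI : IsLocalization.Away (∏ i, X i) B := by simpa [X] using ‹IsLocalization.Away x B›
  have hX : ∀ i, ((fun _ : Fin 1 => u) i : B) = algebraMap A B (X i) := fun _ => hu
  have hmono : ∀ e : ℤ, Groth.Agent.WittFil53.mono (fun _ : Fin 1 => u) (fun _ => e) = u ^ e := by
    intro e; simp [Groth.Agent.WittFil53.mono]
  have hq : (0 : ℤ) < (p : ℤ) ^ m := by have := (Fact.out : p.Prime).pos; positivity
  set a0 := TruncatedWittVector.coeff (0 : Fin (m + 1)) a
  have h0 : a0 ^ p ^ m * ((u ^ n : Bˣ) : B) ∈ (algebraMap A B).range := by simpa using ha 0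
  -- sharpen the bound on the first coordinate
  set t := n / (p : ℤ) ^ m
  set e := n % (p : ℤ) ^ m
  have hne : n = t * (p : ℤ) ^ m + e := by
    rw [mul_comm]; exact (Int.mul_ediv_add_emod n _).symm
  have he0 : 0 < e := lt_of_le_of_ne (Int.emod_nonneg _ hq.ne')
    fun h => hn (Int.dvd_of_emod_eq_zero h.symm)
  have hshift : ∀ d : ℤ, a0 ^ p ^ m * ((u ^ (n - d) : Bˣ) : B) =
      (a0 * ((u ^ t : Bˣ) : B)) ^ p ^ m * ((u ^ (e - d) : Bˣ) : B) := by
    intro d
    rw [mul_pow, ← Units.val_pow_eq_pow_val (u ^ t), mul_assoc, ← Units.val_mul, ← zpow_natCast (u ^ t),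
      ← zpow_mul, ← zpow_add, hne, Nat.cast_pow, add_sub_assoc]
  have hz : a0 * ((u ^ t : Bˣ) : B) ∈ (algebraMap A B).range := by
    refine Groth.Agent.WittFil53.mem_range_of_pow_mul_mono_mem X (fun _ => hx)
      (fun i j _ => Subsingleton.elim i j) (fun _ => u) hX _ (p ^ m) (fun _ => e) (fun _ => ?_) ?_
    · push_cast; exact Int.emod_lt_of_pos _ hq
    · rw [hmono]
      have h00 := hshift 0
      rw [sub_zero, sub_zero] at h00
      exact h00 ▸ h0
  have h1 : a0 ^ p ^ m * ((u ^ (n - 1) : Bˣ) : B) ∈ (algebraMap A B).range := by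
    rw [hshift]
    refine mul_mem (pow_mem hz _) ?_
    rw [← hmono]
    exact Groth.Agent.WittFil53.mono_nonneg_mem X _ hX _ fun _ => by omega
  let w : WittVector p B := WittVector.teichmuller p a0
  let y : WittVector p B := WittVector.mk p fun i => a.out.coeff (i + 1)
  have hdec : w + WittVector.verschiebung y = a.out := by
    ext k
    rw [WittVector.coeff_add_of_disjoint]
    · cases k with
      | zero =>
        rw [WittVector.teichmuller_coeff_zero, WittVector.verschiebung_coeff_zero, add_zero]
        exact (TruncatedWittVector.coeff_out a 0).symm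
      | succ k =>
        rw [WittVector.teichmuller_coeff_pos p a0 _ k.succ_pos, zero_add,
          WittVector.verschiebung_coeff_succ]
        rfl
    · intro i
      cases i with
      | zero => exact Or.inr (WittVector.verschiebung_coeff_zero _)
      | succ i => exact Or.inl (WittVector.teichmuller_coeff_pos p a0 _ i.succ_pos)
  refine ⟨WittVector.truncate (m + 1) w, fun j => ?_, y, fun j => ?_, ?_⟩
  · rw [WittVector.coeff_truncate]
    refine Fin.cases ?_ (fun i => ?_) j
    · simpa [w, WittVector.teichmuller_coeff_zero] using h1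
    · rw [Fin.val_succ, WittVector.teichmuller_coeff_pos p a0 _ (Nat.succ_pos _),
        zero_pow (pow_ne_zero _ (Fact.out : p.Prime).ne_zero), zero_mul]
      exact zero_mem _
  · have := ha j.succ
    rw [WittVector.coeff_truncate]
    rw [Fin.val_succ, show m + 1 - 1 - ((j : ℕ) + 1) = m - 1 - (j : ℕ) by omega] at this
    rw [← TruncatedWittVector.coeff_out] at this
    exact this
  · rw [← map_add, hdec]
    exact (TruncatedWittVector.truncateFun_out a).symm
end Groth.Agent.S19274
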