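import Groth.Statements.S19275
import Mathlib

set_option autoImplicit false
universe u v w
open Hoch

namespace Groth.Agent.S19275

open TensorProduct

section

variable (K : Type u) [Field K] (A : Type v) [CommRing A] [HopfAlgebra K A]
  (V : Type v) [AddCommGroup V] [Module K V] [HopfRep.Comod K A V]
  (R : Type w) [CommRing R] [Algebra K R]

theorem comul_one_tmul (a : A) :
    Coalgebra.comul (R := R) (A := R ⊗[K] A) ((1 : R) ⊗ₜ[K] a) =
      TensorProduct.AlgebraTensorModule.tensorTensorTensorComm K R K R R R A A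
        (((1 : R) ⊗ₜ[R] (1 : R)) ⊗ₜ[K] Coalgebra.comul (R := K) a) := by
  rw [TensorProduct.comul_tmul]
  rfl

variable (φ : ∀ n : ℕ, R ⊗[K] (Hoch.cochain K A V n) →ₗ[R] (Hoch.cochain R (R ⊗[K] A) (R ⊗[K] V) n))
  (hφ0 : ∀ x : R ⊗[K] V, φ 0 x = x)
  (hφs : ∀ (n : ℕ) (r : R) (c : Hoch.cochain K A V n) (a : A),
    φ (n + 1) (r ⊗ₜ[K] (c ⊗ₜ[K] a)) = (φ n (r ⊗ₜ[K] c)) ⊗ₜ[R] ((1 : R) ⊗ₜ[K] a))

include hφ0 hφs

omit [HopfRep.Comod K A V] in
theorem bij (n : ℕ) : Function.Bijective (φ n) := by
  induction n with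
  | zero => exact (show ⇑(φ 0) = id from funext hφ0) ▸ Function.bijective_id
  | succ n ih =>
    let e := (TensorProduct.AlgebraTensorModule.distribBaseChange K R (Hoch.cochain K A V n) A).trans
      (TensorProduct.congr (LinearEquiv.ofBijective (φ n) ih) (LinearEquiv.refl R (R ⊗[K] A)))
    have h : ∀ x, φ (n + 1) x = e x := by
      intro x
      induction x using TensorProduct.induction_on with
      | zero => rw [map_zero, map_zero]
      | add a b ha hb => rw [map_add, map_add, ha, hb]
      | tmul r z =>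
        induction z using TensorProduct.induction_on with
        | zero => rw [TensorProduct.tmul_zero, map_zero, map_zero]
        | add a b ha hb => rw [TensorProduct.tmul_add, map_add, map_add, ha, hb]
        | tmul c a => exact hφs n r c a
    exact (show ⇑(φ (n + 1)) = e from funext h) ▸ e.bijective

theorem comm (n : ℕ) :
    letI := CoactBr.Comod.baseChange K R A V
    ∀ x : R ⊗[K] (Hoch.cochain K A V n),
      φ (n + 1) ((Hoch.d K A V n).baseChange R x) = Hoch.d R (R ⊗[K] A) (R ⊗[K] V) n (φ n x) := by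
  letI := CoactBr.Comod.baseChange K R A V
  induction n with
  | zero =>
    intro x
    induction x using TensorProduct.induction_on with
    | zero => simp only [map_zero]
    | add a b ha hb => simp only [map_add, ha, hb]
    | tmul r v =>
      rw [LinearMap.baseChange_tmul, Hoch.d_zero_apply, TensorProduct.tmul_sub, map_sub, hφ0]
      rw [Hoch.d_zero_apply]
      congr 1
      · rw [CoactBr.baseChange_coact_tmul]
        induction (HopfRep.Comod.coact (k := K) (A := A) v : V ⊗[K] A) using TensorProduct.induction_on with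
        | zero => simp only [TensorProduct.tmul_zero, map_zero]
        | add a b ha hb => simp only [TensorProduct.tmul_add, map_add, ha, hb]
        | tmul b a =>
          rw [hφs, hφ0]
          show _ = ((1 : R) ⊗ₜ[K] b) ⊗ₜ[R] (r ⊗ₜ[K] a)
          rw [show r ⊗ₜ[K] b = r • ((1 : R) ⊗ₜ[K] b) by rw [TensorProduct.smul_tmul', smul_eq_mul, mul_one],
            show r ⊗ₜ[K] a = r • ((1 : R) ⊗ₜ[K] a) by rw [TensorProduct.smul_tmul', smul_eq_mul, mul_one],
            TensorProduct.smul_tmul]
      · rw [hφs, hφ0]; rfl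
  | succ n ih =>
    intro x
    induction x using TensorProduct.induction_on with
    | zero => simp only [map_zero]
    | add a b ha hb => simp only [map_add, ha, hb]
    | tmul r z =>
      induction z using TensorProduct.induction_on with
      | zero => simp only [TensorProduct.tmul_zero, map_zero]
      | add a b ha hb => simp only [TensorProduct.tmul_add, map_add, ha, hb]
      | tmul c a =>
        have key : ∀ z : A ⊗[K] A,
            φ (n + 1 + 1) (r ⊗ₜ[K] (TensorProduct.assoc K (Hoch.cochain K A V n) A A).symm (c ⊗ₜ[K] z)) =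
              (TensorProduct.assoc R (Hoch.cochain R (R ⊗[K] A) (R ⊗[K] V) n) (R ⊗[K] A) (R ⊗[K] A)).symm
                ((φ n (r ⊗ₜ[K] c)) ⊗ₜ[R] TensorProduct.AlgebraTensorModule.tensorTensorTensorComm K R K R R R A A
                  (((1 : R) ⊗ₜ[R] (1 : R)) ⊗ₜ[K] z)) := by
          intro z
          induction z using TensorProduct.induction_on with
          | zero => simp only [TensorProduct.tmul_zero, map_zero]
          | add a b ha hb => simp only [TensorProduct.tmul_add, map_add, ha, hb]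
          | tmul a b =>
            rw [TensorProduct.assoc_symm_tmul, hφs, hφs]
            rfl
        rw [LinearMap.baseChange_tmul, Hoch.d_succ, Hoch.d_succ, LinearMap.add_apply, LinearMap.smul_apply,
          LinearMap.rTensor_tmul, TensorProduct.tmul_add, TensorProduct.tmul_smul, map_add, hφs, hφs,
          LinearMap.add_apply, LinearMap.smul_apply, LinearMap.rTensor_tmul, ← ih, LinearMap.baseChange_tmul]
        refine congrArg₂ (· + ·) rfl ?_
        rw [← algebraMap_smul R ((-1 : K) ^ (n + 1)), map_smul, map_pow, map_neg, map_one]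
        congr 1
        rw [Hoch.tail_tmul, Hoch.tail_tmul, key, TensorProduct.tmul_sub, TensorProduct.tmul_sub, map_sub,
          map_sub, comul_one_tmul]
        rfl

theorem cohom (n : ℕ) :
    letI := CoactBr.Comod.baseChange K R A V
    ∃ e : R ⊗[K] Hoch.H K A V n ≃ₗ[R] Hoch.H R (R ⊗[K] A) (R ⊗[K] V) n,
      ∀ (r : R) (z : Hoch.cocycles K A V n)
        (hz : φ n (r ⊗ₜ[K] (z : Hoch.cochain K A V n)) ∈ Hoch.cocycles R (R ⊗[K] A) (R ⊗[K] V) n),
        e (r ⊗ₜ[K] Hoch.H.mk K A V n z) = Hoch.H.mk R (R ⊗[K] A) (R ⊗[K] V) n ⟨φ n (r ⊗ₜ[K] (z : Hoch.cochain K A V n)), hz⟩ := by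
  letI := CoactBr.Comod.baseChange K R A V
  let Z := Hoch.cocycles K A V n
  let Z' := Hoch.cocycles R (R ⊗[K] A) (R ⊗[K] V) n
  let ψ0 : R ⊗[K] Z →ₗ[R] Hoch.cochain R (R ⊗[K] A) (R ⊗[K] V) n := (φ n).comp (Z.subtype.baseChange R)
  have hψ0 : ∀ x, ψ0 x ∈ Z' := fun x => by
    show Hoch.d R (R ⊗[K] A) (R ⊗[K] V) n (φ n (Z.subtype.baseChange R x)) = 0
    rw [← comm K A V R φ hφ0 hφs n, show ∀ y, (Hoch.d K A V n).baseChange R (Z.subtype.baseChange R y) =
        ((Hoch.d K A V n) ∘ₗ Z.subtype).baseChange R y from fun y => by rw [LinearMap.baseChange_comp]; rfl,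
      show Hoch.d K A V n ∘ₗ Z.subtype = 0 from LinearMap.ext fun z => z.2]
    simp
  let ψ : R ⊗[K] Z →ₗ[R] Z' := ψ0.codRestrict Z' hψ0
  let f := (Hoch.H.mk R (R ⊗[K] A) (R ⊗[K] V) n).comp ψ
  let g := (Hoch.H.mk K A V n).baseChange R
  have hgs : Function.Surjective g :=
    LinearMap.lTensor_surjective R (Submodule.mkQ_surjective _)
  have hfs : Function.Surjective f := by
    intro y
    obtain ⟨⟨z', hz'⟩, rfl⟩ := Submodule.mkQ_surjective _ y
    obtain ⟨x, rfl⟩ := (bij K A V R φ hφ0 hφs n).surjective z'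
    have hx : (Hoch.d K A V n).baseChange R x = 0 := by
      apply (bij K A V R φ hφ0 hφs (n + 1)).injective
      rw [map_zero, comm K A V R φ hφ0 hφs n]
      exact hz'
    have hex : Function.Exact (Z.subtype.lTensor R) ((Hoch.d K A V n).lTensor R) :=
      Module.Flat.lTensor_exact R (LinearMap.exact_subtype_ker_map _)
    obtain ⟨w, hw⟩ := (hex x).mp (by rw [← LinearMap.baseChange_eq_ltensor]; exact hx)
    refine ⟨w, congrArg _ (Subtype.ext ?_)⟩
    show φ n (Z.subtype.baseChange R w) = φ n x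
    rw [← hw]; rfl
  have hker : LinearMap.ker g = LinearMap.ker f := by
    apply le_antisymm
    · intro x hx
      have hex : Function.Exact
          (((Hoch.coboundaries K A V n).comap Z.subtype).subtype.lTensor R) ((Hoch.H.mk K A V n).lTensor R) :=
        lTensor_exact R (LinearMap.exact_subtype_mkQ _) (Submodule.mkQ_surjective _)
      obtain ⟨w, rfl⟩ := (hex x).mp (by rw [← LinearMap.baseChange_eq_ltensor]; exact hx)
      induction w using TensorProduct.induction_on with
      | zero => simp only [map_zero, zero_mem]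
      | add a b ha hb => rw [map_add]; exact add_mem (ha (hex.apply_apply_eq_zero a)) (hb (hex.apply_apply_eq_zero b))
      | tmul r z =>
        refine (Submodule.Quotient.mk_eq_zero _).mpr ?_
        show φ n (r ⊗ₜ[K] (z.1.1)) ∈ Hoch.coboundaries R (R ⊗[K] A) (R ⊗[K] V) n
        obtain ⟨⟨z, hz⟩, hzb⟩ := z
        cases n with
        | zero =>
          have : z = 0 := hzb
          simp [this]
        | succ m =>
          obtain ⟨y, hy⟩ := hzb
          refine ⟨φ m (r ⊗ₜ[K] y), ?_⟩
          rw [← comm K A V R φ hφ0 hφs m, LinearMap.baseChange_tmul, hy]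
          rfl
    · intro x hx
      have hmem : φ n (Z.subtype.baseChange R x) ∈ Hoch.coboundaries R (R ⊗[K] A) (R ⊗[K] V) n :=
        ((Submodule.Quotient.mk_eq_zero _).mp (LinearMap.mem_ker.mp hx) : ψ x ∈ Submodule.comap _ _)
      let ι : Hoch.H K A V n →ₗ[K] (Hoch.cochain K A V n ⧸ Hoch.coboundaries K A V n) :=
        Submodule.mapQ _ _ Z.subtype le_rfl
      have hι : Function.Injective ι := by
        rw [injective_iff_map_eq_zero]
        intro q hq
        obtain ⟨z, rfl⟩ := Submodule.mkQ_surjective _ q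
        exact (Submodule.Quotient.mk_eq_zero _).mpr
          ((Submodule.Quotient.mk_eq_zero (Hoch.coboundaries K A V n)).mp hq)
      have hιR : Function.Injective (ι.lTensor R) := Module.Flat.lTensor_preserves_injective_linearMap ι hι
      refine hιR ?_
      rw [map_zero]
      show (ι.lTensor R) ((Hoch.H.mk K A V n).lTensor R x) = 0
      rw [← LinearMap.comp_apply, ← LinearMap.lTensor_comp,
        show ι ∘ₗ Hoch.H.mk K A V n = (Hoch.coboundaries K A V n).mkQ ∘ₗ Z.subtype from rfl,
        LinearMap.lTensor_comp, LinearMap.comp_apply]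
      cases n with
      | zero =>
        have h0 : φ 0 (Z.subtype.baseChange R x) = 0 := hmem
        rw [hφ0] at h0
        rw [show Z.subtype.lTensor R x = Z.subtype.baseChange R x from rfl, h0, map_zero]
      | succ m =>
        obtain ⟨y', hy'⟩ := hmem
        obtain ⟨y, rfl⟩ := (bij K A V R φ hφ0 hφs m).surjective y'
        rw [← comm K A V R φ hφ0 hφs m] at hy'
        have hy := (bij K A V R φ hφ0 hφs (m + 1)).injective hy'
        rw [show Z.subtype.lTensor R x = Z.subtype.baseChange R x from rfl, ← hy,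
          show (Hoch.d K A V m).baseChange R y = (Hoch.d K A V m).lTensor R y from rfl,
          ← LinearMap.comp_apply, ← LinearMap.lTensor_comp]
        rw [show (Hoch.coboundaries K A V (m + 1)).mkQ ∘ₗ Hoch.d K A V m = 0 from
          LinearMap.ext fun t => (Submodule.Quotient.mk_eq_zero _).mpr ⟨t, rfl⟩]
        simp
  refine ⟨((g.quotKerEquivOfSurjective hgs).symm.trans (Submodule.quotEquivOfEq _ _ hker)).trans
    (f.quotKerEquivOfSurjective hfs), fun r z hz => ?_⟩
  have : (g.quotKerEquivOfSurjective hgs).symm (r ⊗ₜ[K] Hoch.H.mk K A V n z) =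
      Submodule.Quotient.mk (r ⊗ₜ[K] z) := by
    rw [LinearEquiv.symm_apply_eq]; rfl
  rw [LinearEquiv.trans_apply, LinearEquiv.trans_apply, this]
  rfl

end

theorem result
    (K : Type u) [Field K] (A : Type v) [CommRing A] [HopfAlgebra K A]
    (V : Type v) [AddCommGroup V] [Module K V] [HopfRep.Comod K A V]
    (R : Type w) [CommRing R] [Algebra K R]
    (φ : ∀ n : ℕ, R ⊗[K] (Hoch.cochain K A V n) →ₗ[R] (Hoch.cochain R (R ⊗[K] A) (R ⊗[K] V) n))
    (hφ0 : ∀ x : R ⊗[K] V, φ 0 x = x)
    (hφs : ∀ (n : ℕ) (r : R) (c : Hoch.cochain K A V n) (a : A),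
      φ (n + 1) (r ⊗ₜ[K] (c ⊗ₜ[K] a)) = (φ n (r ⊗ₜ[K] c)) ⊗ₜ[R] ((1 : R) ⊗ₜ[K] a)) :
    letI := CoactBr.Comod.baseChange K R A V
    (∀ n : ℕ, Function.Bijective (φ n)) ∧
    (∀ (n : ℕ) (x : R ⊗[K] (Hoch.cochain K A V n)),
        φ (n + 1) ((Hoch.d K A V n).baseChange R x) = Hoch.d R (R ⊗[K] A) (R ⊗[K] V) n (φ n x)) ∧
      ∀ n : ℕ, ∃ e : R ⊗[K] Hoch.H K A V n ≃ₗ[R] Hoch.H R (R ⊗[K] A) (R ⊗[K] V) n,
        ∀ (r : R) (z : Hoch.cocycles K A V n)
          (hz : φ n (r ⊗ₜ[K] (z : Hoch.cochain K A V n)) ∈ Hoch.cocycles R (R ⊗[K] A) (R ⊗[K] V) n),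
          e (r ⊗ₜ[K] Hoch.H.mk K A V n z) = Hoch.H.mk R (R ⊗[K] A) (R ⊗[K] V) n ⟨φ n (r ⊗ₜ[K] (z : Hoch.cochain K A V n)), hz⟩ :=
  ⟨bij K A V R φ hφ0 hφs, comm K A V R φ hφ0 hφs, cohom K A V R φ hφ0 hφs⟩

end Groth.Agent.S19275
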