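import Groth.Agent.Hopf35.GrpAlg
import Groth.Statements.S19276

set_option autoImplicit false
universe u v
open GrpAlg

namespace Groth.Agent.S19276

theorem result (Λ : Type u) [CommRing Λ] (A : Type v)
    [AddCommGroup A] [Finite A] (hA : IsUnit ((Nat.card A : ℕ) : Λ)) :
    Function.Bijective (RingHom.pi fun B : {B : AddSubgroup A // IsAddCyclic (A ⧸ B)} =>
      W4c6equivkfinstab.cycQuotMap Λ A B.1) := by
  haveI : ∀ B : {B : AddSubgroup A // IsAddCyclic (A ⧸ B)}, IsAddCyclic (A ⧸ B.1) := fun B => B.2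
  exact Hopf35.GrpAlg.bijective_pi hA (fun B : {B : AddSubgroup A // IsAddCyclic (A ⧸ B)} => A ⧸ B.1)
    (fun B => QuotientAddGroup.mk' B.1) (fun B => QuotientAddGroup.mk'_surjective B.1)
    (fun B B' h => Subtype.ext (by simpa using h)) (fun B hB => ⟨⟨B, hB⟩, QuotientAddGroup.ker_mk' B⟩)

end Groth.Agent.S19276
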