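import Groth.Agent.Hopf35.GrpAlg
import Groth.Statements.S19277

set_option autoImplicit false
universe u v
open GrpAlg

namespace Groth.Agent.S19277

theorem result (Λ : Type u) [CommRing Λ] (M : Type v)
    [AddCommGroup M] (B B' : AddSubgroup M) [B.FiniteIndex] [B'.FiniteIndex]
    [IsAddCyclic (M ⧸ B)] [IsAddCyclic (M ⧸ B')] (hne : B ≠ B')
    (hu : IsUnit ((B.index * B'.index : ℕ) : Λ)) :
    Subsingleton (LocalizedModule (W4c6equivkfinstab.locSubmonoid Λ M B')
      (W4c6equivkfinstab.CycQuot Λ (M ⧸ B))) := by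
  haveI : Finite (M ⧸ B) := AddSubgroup.finite_quotient_of_finiteIndex
  haveI : Finite (M ⧸ B') := AddSubgroup.finite_quotient_of_finiteIndex
  rw [Nat.cast_mul, IsUnit.mul_iff] at hu
  refine Hopf35.GrpAlg.subsingleton_localizedModule (R' := W4c6equivkfinstab.CycQuot Λ (M ⧸ B)) ?_
  exact Hopf35.GrpAlg.sup_ker_cmap_eq_top (QuotientAddGroup.mk' B') (QuotientAddGroup.mk'_surjective B') hu.2
    (QuotientAddGroup.mk' B) (QuotientAddGroup.mk'_surjective B) hu.1 (by simpa using hne.symm)

end Groth.Agent.S19277
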