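import Groth.Agent.Hopf35.GrpAlg
import Groth.Statements.S19278

set_option autoImplicit false
universe u v
open GrpAlg

namespace Groth.Agent.S19278

theorem result (Λ : Type u) [CommRing Λ]
    (M : Type v) [AddCommGroup M] (B₀ B : AddSubgroup M) [B₀.FiniteIndex] [B.FiniteIndex]
    [IsAddCyclic (M ⧸ B)] (hle : ¬ B₀ ≤ B) (hu : IsUnit ((B₀.index * B.index : ℕ) : Λ)) :
    Subsingleton (LocalizedModule (W4c6equivkfinstab.locSubmonoid Λ M B)
      (AddMonoidAlgebra Λ (M ⧸ B₀))) := by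
  haveI : Finite (M ⧸ B) := AddSubgroup.finite_quotient_of_finiteIndex
  rw [Nat.cast_mul, IsUnit.mul_iff] at hu
  refine Hopf35.GrpAlg.subsingleton_localizedModule (R' := AddMonoidAlgebra Λ (M ⧸ B₀)) ?_
  exact Hopf35.GrpAlg.sup_ker_quotMap_eq_top (QuotientAddGroup.mk' B) (QuotientAddGroup.mk'_surjective B) hu.2 B₀
    (by simpa using hle)

end Groth.Agent.S19278
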