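import Groth.Agent.Hopf35.GrpAlg
import Groth.Statements.S19279

set_option autoImplicit false
universe u v
open GrpAlg

namespace Groth.Agent.S19279

theorem result (Λ : Type u) [CommRing Λ]
    (M : Type v) [AddCommGroup M] (B₀ : AddSubgroup M) [B₀.FiniteIndex]
    (hu : IsUnit ((B₀.index : ℕ) : Λ)) :
    Function.Bijective (LinearMap.pi (R := AddMonoidAlgebra Λ M)
      fun B : {B : AddSubgroup M // B₀ ≤ B ∧ IsAddCyclic (M ⧸ B)} =>
        LocalizedModule.mkLinearMap (W4c6equivkfinstab.locSubmonoid Λ M B.1)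
          (AddMonoidAlgebra Λ (M ⧸ B₀))) := by
  haveI : Finite (M ⧸ B₀) := AddSubgroup.finite_quotient_of_finiteIndex
  haveI : ∀ B : {B : AddSubgroup M // B₀ ≤ B ∧ IsAddCyclic (M ⧸ B)}, IsAddCyclic (M ⧸ B.1) := fun B => B.2.2
  haveI : ∀ B : {B : AddSubgroup M // B₀ ≤ B ∧ IsAddCyclic (M ⧸ B)}, Finite (M ⧸ B.1) := fun B =>
    haveI := AddSubgroup.finiteIndex_of_le B.2.1
    AddSubgroup.finite_quotient_of_finiteIndex
  let f : ∀ B : {B : AddSubgroup M // B₀ ≤ B ∧ IsAddCyclic (M ⧸ B)}, M ⧸ B₀ →+ M ⧸ B.1 := fun B =>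
    QuotientAddGroup.map B₀ B.1 (AddMonoidHom.id M) B.2.1
  have hf : ∀ B, Function.Surjective (f B) := fun B y => by
    obtain ⟨a, rfl⟩ := QuotientAddGroup.mk'_surjective B.1 y
    exact ⟨(a : M ⧸ B₀), rfl⟩
  have hker : ∀ B, (f B).ker.comap (QuotientAddGroup.mk' B₀) = B.1 := fun B => by
    ext a
    exact QuotientAddGroup.eq_zero_iff a
  have hpi := Hopf35.GrpAlg.bijective_pi (Λ := Λ) (A := M ⧸ B₀) hu _ f hf
    (fun B B' h => Subtype.ext (by rw [← hker B, ← hker B']; exact congrArg _ h))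
    (fun C hC => by
      let B := C.comap (QuotientAddGroup.mk' B₀)
      have hle : B₀ ≤ B := fun b hb => by
        show ((b : M ⧸ B₀)) ∈ C
        rw [(QuotientAddGroup.eq_zero_iff b).mpr hb]; exact zero_mem C
      have hcyc : IsAddCyclic (M ⧸ B) := by
        refine isAddCyclic_of_injective (QuotientAddGroup.map B C (QuotientAddGroup.mk' B₀) le_rfl) ?_
        rw [injective_iff_map_eq_zero]
        intro y hy
        obtain ⟨a, rfl⟩ := QuotientAddGroup.mk'_surjective B y
        exact (QuotientAddGroup.eq_zero_iff a).mpr ((QuotientAddGroup.eq_zero_iff (a : M ⧸ B₀)).mp hy)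
      exact ⟨⟨B, hle, hcyc⟩, AddSubgroup.comap_injective (QuotientAddGroup.mk'_surjective B₀) (hker ⟨B, hle, hcyc⟩)⟩)
  refine Hopf35.GrpAlg.bijective_pi_localized (R' := AddMonoidAlgebra Λ (M ⧸ B₀)) ?_ _ _ _ hpi fun B x => ?_
  · intro y
    induction y using AddMonoidAlgebra.induction_linear with
    | zero => exact ⟨0, map_zero _⟩
    | add a b ha hb =>
      obtain ⟨a', ha'⟩ := ha
      obtain ⟨b', hb'⟩ := hb
      exact ⟨a' + b', by rw [map_add, ha', hb']⟩
    | single c r =>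
      obtain ⟨a, rfl⟩ := QuotientAddGroup.mk'_surjective B₀ c
      exact ⟨AddMonoidAlgebra.single a r, by simp [RingHom.algebraMap_toAlgebra, W4c6equivkfinstab.quotMap]⟩
  · have h : ∀ z, Hopf35.GrpAlg.cmap (Λ := Λ) (f B) (algebraMap (AddMonoidAlgebra Λ M) (AddMonoidAlgebra Λ (M ⧸ B₀)) z) =
        W4c6equivkfinstab.cycQuotMap Λ M B.1 z := by
      intro z
      induction z using AddMonoidAlgebra.induction_linear with
      | zero => simp
      | add a b ha hb => simp only [map_add, ha, hb]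
      | single a r =>
        simp [Hopf35.GrpAlg.cmap, W4c6equivkfinstab.cycQuotMap, RingHom.algebraMap_toAlgebra, W4c6equivkfinstab.quotMap, f]
    rw [h]
    rfl

end Groth.Agent.S19279
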