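import Groth.Statements.S19284
import Groth.Agent.NF31.Decomp
import Groth.Agent.NF31.Moebius
import Mathlib.RingTheory.IntegralDomain

set_option autoImplicit false
universe u
open NumberField

namespace Groth.Agent.S19284

/-- Let L/K be a finite extension of number fields and Ω an algebraic closure of K. Suppose that L/K is
almost abelian in the non-abelian way: for some prime number p there is a bijection between the set
of K-embeddings L → Ω and Z/p under which every K-automorphism of Ω acts by an affine transformation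
x ↦ a x + b with a ≠ 0, and L/K is not an abelian extension (it is not Galois with commutative
automorphism group). Then there is an intermediate extension K ⊂ E ⊂ Ω contained in the normal
closure of L, Galois over K with nontrivial cyclic group, such that for every finite place w of K
which is unramified in L (every prime of the integers of L above w has ramification index 1), either
E admits a K-algebra embedding into the completion K_w (since E/K is Galois: w splits completely in
E) or L admits a K-algebra embedding into K_w (L has a place of degree 1 over w). (Only finite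
places are treated here.) -/
theorem result (K L Ω : Type u) [Field K] [NumberField K]
    [Field L] [NumberField L] [Algebra K L] [Field Ω] [Algebra K Ω] [IsAlgClosure K Ω]
    (p : ℕ) (hp : p.Prime) (e : (L →ₐ[K] Ω) ≃ ZMod p)
    (haff : ∀ σ : Ω ≃ₐ[K] Ω, ∃ a b : ZMod p, a ≠ 0 ∧
      ∀ φ : L →ₐ[K] Ω, e (σ.toAlgHom.comp φ) = a * e φ + b)
    (hnab : IsGalois K L → ∃ σ τ : L ≃ₐ[K] L, σ * τ ≠ τ * σ) :
    ∃ E : IntermediateField K Ω, E ≤ IntermediateField.normalClosure K L Ω ∧
      FiniteDimensional K E ∧ IsGalois K E ∧ IsCyclic (E ≃ₐ[K] E) ∧ 1 < Module.finrank K E ∧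
      ∀ w : IsDedekindDomain.HeightOneSpectrum (NumberField.RingOfIntegers K),
        (∀ P : Ideal (NumberField.RingOfIntegers L), P.IsPrime → P.LiesOver w.asIdeal →
          P.ramificationIdx (NumberField.RingOfIntegers K) = 1) →
        Nonempty (E →ₐ[K] w.adicCompletion K) ∨ Nonempty (L →ₐ[K] w.adicCompletion K) := by
  classical
  have := Fact.mk hp
  have : Normal K Ω := normal_iff.mpr fun x => ⟨Algebra.IsIntegral.isIntegral x,
    @IsAlgClosed.splits _ _ (IsAlgClosure.isAlgClosed K) _⟩
  have : FiniteDimensional K L := FiniteDimensional.right ℚ K L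
  let Nf := IntermediateField.normalClosure K L Ω
  have : CharZero Ω := charZero_of_injective_algebraMap (algebraMap K Ω).injective
  have : FiniteDimensional K Nf := inferInstance
  have : NumberField Nf := NumberField.of_module_finite K Nf
  have : IsGalois K Nf := { }
  let G := Nf ≃ₐ[K] Nf
  let ι : (L →ₐ[K] Ω) ≃ (L →ₐ[K] Nf) :=
    { toFun := fun φ => φ.codRestrict Nf.toSubalgebra fun x => AlgHom.fieldRange_le_normalClosure φ ⟨x, rfl⟩
      invFun := fun φ => Nf.val.comp φ
      left_inv := fun φ => rfl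
      right_inv := fun φ => rfl }
  let E' : (L →ₐ[K] Nf) ≃ ZMod p := ι.symm.trans e
  have haff' : ∀ σ : G, ∃ a : (ZMod p)ˣ, ∃ b : ZMod p, ∀ φ : L →ₐ[K] Nf,
      E' (σ.toAlgHom.comp φ) = a * E' φ + b := fun σ => by
    obtain ⟨a, b, ha, h⟩ := haff (σ.liftNormal Ω)
    refine ⟨Units.mk0 a ha, b, fun φ => ?_⟩
    show e (Nf.val.comp (σ.toAlgHom.comp φ)) = a * e (Nf.val.comp φ) + b
    rw [← h]
    refine congrArg e (AlgHom.ext fun x => ?_)
    exact (σ.liftNormal_commutes Ω (φ x)).symm
  choose A B hAB using haff'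
  have hA : ∀ σ τ, A (σ * τ) = A σ * A τ := fun σ τ => by
    have h : ∀ z : ZMod p, (A (σ * τ) : ZMod p) * z + B (σ * τ) = A σ * (A τ * z + B τ) + B σ := fun z => by
      obtain ⟨φ, rfl⟩ := E'.surjective z
      rw [← hAB, ← hAB, ← hAB]
      rfl
    refine Units.ext ?_
    rw [Units.val_mul]
    linear_combination h 1 - h 0
  let Ahom : G →* (ZMod p)ˣ := MonoidHom.mk' A hA
  have hfaith : ∀ σ : G, (∀ φ : L →ₐ[K] Nf, σ.toAlgHom.comp φ = φ) → σ = 1 := fun σ h => by
    have hle : Nf ≤ IntermediateField.lift (IntermediateField.fixedField (Subgroup.zpowers σ)) := by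
      refine normalClosure_le_iff.2 ?_
      rintro f _ ⟨x, rfl⟩
      refine (IntermediateField.mem_lift (ι f x)).2 ?_
      rintro ⟨τ, hτ⟩
      show τ (ι f x) = ι f x
      have hs : σ ∈ MulAction.stabilizer G (ι f x) := DFunLike.congr_fun (h (ι f)) x
      exact (Subgroup.zpowers_le.2 hs hτ : τ ∈ MulAction.stabilizer G (ι f x))
    refine AlgEquiv.ext fun y => ?_
    exact ((IntermediateField.mem_lift y).1 (hle y.2)) ⟨σ, Subgroup.mem_zpowers σ⟩
  -- the translations
  let H : Subgroup G := Ahom.ker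
  let E₀ : IntermediateField K Nf := IntermediateField.fixedField H
  refine ⟨IntermediateField.lift E₀, IntermediateField.lift_le E₀, ?_, ?_, ?_, ?_, fun w hw => ?_⟩
  · exact Module.Finite.equiv (IntermediateField.liftAlgEquiv E₀).toLinearEquiv
  · exact IsGalois.of_algEquiv (IntermediateField.liftAlgEquiv E₀)
  · have : IsCyclic (G ⧸ H) := isCyclic_of_injective _ (QuotientGroup.kerLift_injective Ahom)
    exact isCyclic_of_surjective
      (((IsGalois.normalAutEquivQuotient H).trans (IntermediateField.liftAlgEquiv E₀).autCongr)).toMonoidHom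
      ((IsGalois.normalAutEquivQuotient H).trans (IntermediateField.liftAlgEquiv E₀).autCongr).surjective
  · rw [← (IntermediateField.liftAlgEquiv E₀).toLinearEquiv.finrank_eq, Nat.one_lt_iff_ne_zero_and_ne_one]
    refine ⟨Module.finrank_pos.ne', fun h1 => ?_⟩
    have hbot : E₀ = ⊥ := IntermediateField.finrank_eq_one_iff.1 h1
    have htop : H = ⊤ := by
      rw [← IntermediateField.fixingSubgroup_fixedField H]
      show E₀.fixingSubgroup = ⊤
      rw [hbot, IntermediateField.fixingSubgroup_bot]
    have hA1 : ∀ σ : G, (A σ : ZMod p) = 1 := fun σ => by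
      have : Ahom σ = 1 := (htop ▸ Subgroup.mem_top σ : σ ∈ H)
      exact congrArg Units.val this
    have hcomm : ∀ σ τ : G, σ * τ = τ * σ := fun σ τ => by
      refine mul_inv_eq_one.1 (hfaith _ fun φ => E'.injective ?_)
      have h2 : ∀ (σ : G) φ, E' (σ.toAlgHom.comp φ) = E' φ + B σ := fun σ φ => by rw [hAB, hA1, one_mul]
      have h3 : ∀ ρ₁ ρ₂ : G, ∀ φ, E' ((ρ₁ * ρ₂).toAlgHom.comp φ) = E' φ + (B ρ₁ + B ρ₂) := fun ρ₁ ρ₂ φ => by
        rw [show (ρ₁ * ρ₂).toAlgHom.comp φ = ρ₁.toAlgHom.comp (ρ₂.toAlgHom.comp φ) from rfl, h2, h2]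
        ring
      have h4 : ∀ φ, E' ((τ * σ)⁻¹.toAlgHom.comp φ) = E' φ - (B τ + B σ) := fun φ => by
        rw [eq_sub_iff_add_eq, ← h3 τ σ ((τ * σ)⁻¹.toAlgHom.comp φ)]
        exact congrArg E' (AlgHom.ext fun x => (τ * σ).apply_symm_apply (φ x))
      rw [show (σ * τ * (τ * σ)⁻¹).toAlgHom.comp φ = (σ * τ).toAlgHom.comp ((τ * σ)⁻¹.toAlgHom.comp φ) from rfl,
        h3, h4]
      ring
    obtain ⟨φ, -⟩ := E'.surjective 0
    have hsurj : φ.fieldRange = ⊤ := by
      rw [← IsGalois.fixedField_fixingSubgroup φ.fieldRange, ← IntermediateField.fixedField_bot]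
      congr 1
      refine (Subgroup.eq_bot_iff_forall _).2 fun σ hσ => ?_
      have hφ : σ.toAlgHom.comp φ = φ := AlgHom.ext fun x => hσ ⟨φ x, x, rfl⟩
      have hB : B σ = 0 := by
        have h := hAB σ φ
        rw [hφ, hA1, one_mul] at h
        linear_combination -h
      exact hfaith σ fun ψ => E'.injective (by rw [hAB, hA1, hB, one_mul, add_zero])
    let ε : L ≃ₐ[K] Nf := AlgEquiv.ofBijective φ ⟨φ.injective, fun y => by
      have : y ∈ φ.fieldRange := hsurj ▸ IntermediateField.mem_top
      exact this⟩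
    obtain ⟨σ, τ, hne⟩ := hnab (IsGalois.of_algEquiv ε.symm)
    exact hne (ε.autCongr.injective (by rw [map_mul, map_mul]; exact hcomm _ _))
  -- the places
  obtain ⟨W, hW⟩ := NF31.exists_notMem_over Nf w
  let Q := W.asIdeal
  have hI : ∀ σ : G, σ ∈ Q.inertia G → σ = 1 := fun σ hσ => NF31.eq_one_of_mem_inertia hfaith w hw Q hσ
  obtain ⟨F, hF⟩ := NF31.exists_generator w Q hI
  by_cases hA1 : A F = 1
  · left
    obtain ⟨f⟩ := NF31.exists_embedding w Q E₀ fun τ hτ x hx => by
      obtain ⟨m, rfl⟩ := hF τ hτ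
      refine hx ⟨F ^ m, ?_⟩
      show Ahom (F ^ m) = 1
      rw [map_pow, show Ahom F = 1 from hA1, one_pow]
    exact ⟨f.comp (IntermediateField.liftAlgEquiv E₀).symm.toAlgHom⟩
  · right
    have hne : (1 : ZMod p) - A F ≠ 0 := sub_ne_zero.2 fun h => hA1 (Units.ext h.symm)
    obtain ⟨φ, hφ⟩ := E'.surjective (((1 : ZMod p) - A F)⁻¹ * B F)
    have hfix : F.toAlgHom.comp φ = φ := E'.injective (by
      rw [hAB, hφ]
      field_simp
      ring)
    obtain ⟨f⟩ := NF31.exists_embedding w Q φ.fieldRange fun τ hτ x hx => by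
      obtain ⟨m, rfl⟩ := hF τ hτ
      obtain ⟨x, rfl⟩ := hx
      have : F ∈ MulAction.stabilizer G (φ x) := DFunLike.congr_fun hfix x
      exact (pow_mem this m : F ^ m ∈ MulAction.stabilizer G (φ x))
    exact ⟨f.comp (φ.codRestrict φ.fieldRange.toSubalgebra fun x => ⟨x, rfl⟩)⟩

end Groth.Agent.S19284
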