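import Groth.Statements.S19285
import Groth.Agent.NF31.Locally

set_option autoImplicit false
universe u
open scoped TensorProduct
open NumberField

namespace Groth.Agent.S19285

/-- A conjectured statement on locally split values of the polynomials t − a_i holds unconditionally
when the degrees [k_i : k] sum to at most 2. Precisely: let k be a number field, n ≥ 1, and for each
i let k_i = k(a_i) be a finite extension generated by a_i, the minimal polynomials of the a_i over k
being pairwise distinct and the degrees [k_i : k] summing to at most 2; let L_i/k_i be finite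
extensions and b_i ∈ k_i nonzero. Let S_f, S_∞ be finite sets of finite and infinite places of k
such that S_∞ contains every real place and S_f contains every finite place of k below a finite
place of some k_i at which b_i is not a unit or below a prime of some L_i ramified over k_i. For v ∈
S_f ∪ S_∞ let t_v ∈ k_v, with an open neighbourhood U_v, be such that for every i the element b_i
(t_v − a_i) of k_v ⊗_k k_i is the norm of a unit of the (k_v ⊗_k k_i)-algebra k_v ⊗_k L_i. Then
there is t_0 ∈ k whose image lies in U_v for all v ∈ S_f ∪ S_∞ and such that for every i and every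
finite place w of k_i at which t_0 − a_i has positive valuation, either w lies above a place of S_f
or L_i admits a k_i-algebra embedding into the completion (k_i)_w (a place of L_i of degree 1 over
w). -/
theorem result (k : Type u) [Field k] [NumberField k]
    (n : ℕ) (hn : 1 ≤ n)
    (kf : Fin n → Type u) [∀ i, Field (kf i)] [∀ i, NumberField (kf i)] [∀ i, Algebra k (kf i)]
    (Lf : Fin n → Type u) [∀ i, Field (Lf i)] [∀ i, NumberField (Lf i)] [∀ i, Algebra (kf i) (Lf i)]
    [∀ i, Algebra k (Lf i)] [∀ i, IsScalarTower k (kf i) (Lf i)]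
    (a : (i : Fin n) → kf i) (ha : ∀ i, IntermediateField.adjoin k {a i} = ⊤)
    (hdist : ∀ i j, i ≠ j → minpoly k (a i) ≠ minpoly k (a j))
    (hdeg : ∑ i, Module.finrank k (kf i) ≤ 2)
    (b : (i : Fin n) → kf i) (hb : ∀ i, b i ≠ 0)
    (Sf : Finset (IsDedekindDomain.HeightOneSpectrum (NumberField.RingOfIntegers k)))
    (Si : Finset (NumberField.InfinitePlace k))
    (hSreal : ∀ w : NumberField.InfinitePlace k, w.IsReal → w ∈ Si)
    (hSb : ∀ i, ∀ W : IsDedekindDomain.HeightOneSpectrum (NumberField.RingOfIntegers (kf i)),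
      W.valuation (kf i) (b i) ≠ 1 → ∃ v ∈ Sf, W.asIdeal.LiesOver v.asIdeal)
    (hSram : ∀ i, ∀ Q : Ideal (NumberField.RingOfIntegers (Lf i)), Q.IsPrime → Q ≠ ⊥ →
      Q.ramificationIdx (NumberField.RingOfIntegers (kf i)) ≠ 1 → ∃ v ∈ Sf, Q.LiesOver v.asIdeal)
    (tf : (v : IsDedekindDomain.HeightOneSpectrum (NumberField.RingOfIntegers k)) → v.adicCompletion k)
    (ti : (w : NumberField.InfinitePlace k) → w.Completion)
    (htf : ∀ i, ∀ v ∈ Sf,
      letI := (Algebra.TensorProduct.map (AlgHom.id k (v.adicCompletion k))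
        (IsScalarTower.toAlgHom k (kf i) (Lf i))).toRingHom.toAlgebra
      ∃ x : (v.adicCompletion k) ⊗[k] Lf i, IsUnit x ∧
        Algebra.norm ((v.adicCompletion k) ⊗[k] kf i) x =
          (1 : v.adicCompletion k) ⊗ₜ[k] b i * (tf v ⊗ₜ[k] (1 : kf i) - (1 : v.adicCompletion k) ⊗ₜ[k] a i))
    (hti : ∀ i, ∀ w ∈ Si,
      letI := (Algebra.TensorProduct.map (AlgHom.id k w.Completion)
        (IsScalarTower.toAlgHom k (kf i) (Lf i))).toRingHom.toAlgebra
      ∃ x : w.Completion ⊗[k] Lf i, IsUnit x ∧
        Algebra.norm (w.Completion ⊗[k] kf i) x =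
          (1 : w.Completion) ⊗ₜ[k] b i * (ti w ⊗ₜ[k] (1 : kf i) - (1 : w.Completion) ⊗ₜ[k] a i))
    (Uf : (v : IsDedekindDomain.HeightOneSpectrum (NumberField.RingOfIntegers k)) → Set (v.adicCompletion k))
    (hUf : ∀ v ∈ Sf, IsOpen (Uf v) ∧ tf v ∈ Uf v)
    (Ui : (w : NumberField.InfinitePlace k) → Set w.Completion)
    (hUi : ∀ w ∈ Si, IsOpen (Ui w) ∧ ti w ∈ Ui w) :
    ∃ t₀ : k, (∀ v ∈ Sf, algebraMap k (v.adicCompletion k) t₀ ∈ Uf v) ∧
      (∀ w ∈ Si, algebraMap k w.Completion t₀ ∈ Ui w) ∧
      ∀ i, ∀ W : IsDedekindDomain.HeightOneSpectrum (NumberField.RingOfIntegers (kf i)),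
        W.valuation (kf i) (algebraMap k (kf i) t₀ - a i) < 1 →
          (∃ v ∈ Sf, W.asIdeal.LiesOver v.asIdeal) ∨ Nonempty (Lf i →ₐ[kf i] W.adicCompletion (kf i)) := by
  classical
  have : ∀ i, FiniteDimensional k (kf i) := fun i => FiniteDimensional.right ℚ k (kf i)
  have htf' := fun i v hv => (htf i v hv).imp fun x h => h.2
  have hti' := fun i w hw => (hti i w hw).imp fun x h => h.2
  have hpos : ∀ i, 1 ≤ Module.finrank k (kf i) := fun i => Module.finrank_pos
  by_cases h2 : ∑ i, Module.finrank k (kf i) = 2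
  · let Φ : k × k →ₗ[k] ((i : Fin n) → kf i) := LinearMap.pi fun i =>
      (Algebra.linearMap k (kf i)).comp (LinearMap.fst k k k) -
        ((LinearMap.mulRight k (a i)).comp (Algebra.linearMap k (kf i))).comp (LinearMap.snd k k k)
    have hΦ : ∀ c i, Φ c i = algebraMap k (kf i) c.1 - algebraMap k (kf i) c.2 * a i := fun _ _ => rfl
    have hker : ∀ c, Φ c = 0 → c = 0 := by
      intro c hc
      have hc' : ∀ i, algebraMap k (kf i) c.1 = algebraMap k (kf i) c.2 * a i := fun i => by
        have := congrFun hc i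
        rw [hΦ] at this
        exact sub_eq_zero.1 this
      by_cases hq : c.2 = 0
      · have := hc' ⟨0, hn⟩
        rw [hq, map_zero, zero_mul, _root_.map_eq_zero] at this
        exact Prod.ext this hq
      exfalso
      have hk : ∀ i, a i = algebraMap k (kf i) (c.1 / c.2) := fun i => by
        rw [map_div₀, hc' i, mul_div_cancel_left₀ _ ((_root_.map_ne_zero _).2 hq)]
      have h1 : ∀ i, Module.finrank k (kf i) = 1 := fun i => by
        have h := ha i
        rw [IntermediateField.adjoin_simple_eq_bot_iff.2 (hk i ▸ IntermediateField.algebraMap_mem _ _)] at h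
        exact IntermediateField.bot_eq_top_iff_finrank_eq_one.1 h
      have hn2 : n = 2 := by simpa [h1] using h2
      have hne : (⟨0, by omega⟩ : Fin n) ≠ ⟨1, by omega⟩ := by simp
      refine hdist _ _ hne ?_
      rw [hk, hk, minpoly.eq_X_sub_C, minpoly.eq_X_sub_C]
    have hbij : Function.Bijective Φ := by
      have hinj : Function.Injective Φ := LinearMap.ker_eq_bot.1 (LinearMap.ker_eq_bot'.2 hker)
      exact ⟨hinj, (LinearMap.injective_iff_surjective_of_finrank_eq_finrank
        (by rw [Module.finrank_prod, Module.finrank_self, Module.finrank_pi_fintype, h2])).1 hinj⟩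
    let e := LinearEquiv.ofBijective Φ hbij
    let φ := fun i => ((LinearMap.fst k k k).comp e.symm.toLinearMap).comp (LinearMap.single k kf i)
    let ψ := fun i => ((LinearMap.snd k k k).comp e.symm.toLinearMap).comp (LinearMap.single k kf i)
    have hsum : ∀ x : (i : Fin n) → kf i, e.symm x = (∑ i, φ i (x i), ∑ i, ψ i (x i)) := fun x => by
      conv_lhs => rw [← Finset.univ_sum_single x, map_sum]
      ext <;> simp [φ, ψ, Prod.fst_sum, Prod.snd_sum]
    have hs1 : ∀ x : (i : Fin n) → kf i, ∑ i, φ i (x i) = (e.symm x).1 := fun x => by rw [hsum x]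
    have hs2 : ∀ x : (i : Fin n) → kf i, ∑ i, ψ i (x i) = (e.symm x).2 := fun x => by rw [hsum x]
    have h1 : e.symm (fun i => 1) = (1, 0) := by
      rw [e.symm_apply_eq]
      funext i
      simp [e, hΦ]
    have hA : e.symm a = (0, -1) := by
      rw [e.symm_apply_eq]
      funext i
      simp [e, hΦ]
    refine NF31.exists_locally_split k kf Lf a b hb φ ψ 0 0 ?_ ?_ ?_ ?_ (fun v => by simp) ?_ Sf Si hSb hSram tf ti
      htf' hti' Uf hUf Ui hUi
    · exact (hs1 _).trans (congrArg Prod.fst h1)
    · rw [hs1, hA]; simp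
    · exact (hs2 _).trans (congrArg Prod.snd h1)
    · rw [hs2, hA]; simp
    · intro x i
      rw [zero_add, zero_add, hs1 x, hs2 x, ← hΦ]
      exact congrFun (e.apply_symm_apply x) i
  · have hle : n ≤ ∑ i, Module.finrank k (kf i) := by
      simpa using Finset.sum_le_sum fun i (_ : i ∈ Finset.univ) => hpos i
    obtain rfl : n = 1 := by omega
    rw [Fin.sum_univ_one] at h2 hdeg
    have hf : ∀ i, Function.Bijective (Algebra.linearMap k (kf i)) := fun i => by
      have h1 : Module.finrank k (kf i) = 1 := by
        rw [Subsingleton.elim i 0]; have := hpos 0; omega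
      have hinj : Function.Injective (Algebra.linearMap k (kf i)) := (algebraMap k (kf i)).injective
      exact ⟨hinj, (LinearMap.injective_iff_surjective_of_finrank_eq_finrank
        ((Module.finrank_self k).trans h1.symm)).1 hinj⟩
    let φ := fun i => (LinearEquiv.ofBijective _ (hf i)).symm.toLinearMap
    have hφ : ∀ i x, algebraMap k (kf i) (φ i x) = x := fun i x =>
      (LinearEquiv.ofBijective _ (hf i)).apply_symm_apply x
    refine NF31.exists_locally_split k kf Lf a b hb φ (fun _ => 0) (φ 0 (a 0)) 1 ?_ ?_ ?_ ?_ (fun v => by simp) ?_ Sf Si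
      hSb hSram tf ti htf' hti' Uf hUf Ui hUi
    · rw [Fin.sum_univ_one]
      exact (algebraMap k (kf 0)).injective ((hφ 0 1).trans (map_one _).symm)
    · rw [Fin.sum_univ_one, sub_self]
    · simp
    · simp
    · intro x i
      obtain rfl : i = 0 := Subsingleton.elim i 0
      simp [hφ]

end Groth.Agent.S19285
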