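import Groth.Statements.S19286
import Groth.Agent.NF31.Moebius

set_option autoImplicit false
universe u
open scoped TensorProduct
open NumberField

namespace Groth.Agent.S19286

/-- Invariance, under a linear change of coordinate on the projective line, of the hypotheses (the data
listed next) of a conjecture on locally split values. Data: k a number field, n ≥ 1, k_i = k(a_i)
with pairwise distinct minimal polynomials, L_i/k_i finite, b_i ∈ k_i nonzero, finite sets S_f ⊇
(finite places below a non-unit place of some b_i or a ramified prime of some L_i/k_i), S_∞ ⊇ real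
places, t_v ∈ k_v for v ∈ S_f ∪ S_∞ with b_i(t_v − a_i) the norm of a unit of k_v ⊗_k L_i over k_v
⊗_k k_i. Let α, β, γ, δ ∈ k with αδ − βγ ≠ 0 satisfy: (i) γa_i + δ ≠ 0 for all i and γt_v + δ ≠ 0
for v ∈ S_f ∪ S_∞; (ii) α is a unit at every finite place outside S_f and αa_i + β is a unit at
every finite place of k_i not above S_f; (iii) for every i and v ∈ S_f ∪ S_∞, (αδ − βγ)/(γt_v + δ)
is the norm of a unit of k_v ⊗_k L_i. Put a'_i = (αa_i + β)/(γa_i + δ), b'_i = b_i(γa_i + δ); let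
S'_f ⊇ S_f be a finite set of finite places containing those where α or γ is not integral and those
below a place of some k_i where a'_i is not integral or b'_i is not a unit; put t'_v = (αt_v +
β)/(γt_v + δ) for v ∈ S_f ∪ S_∞ and t'_v = 0 for v ∈ S'_f ∖ S_f; for t'_0 ∈ k with α ≠ γt'_0 write
t_0 = (δt'_0 − β)/(α − γt'_0). Then: (1) for every i and v ∈ S'_f ∪ S_∞, b'_i(t'_v − a'_i) is the
norm of a unit of k_v ⊗_k L_i over k_v ⊗_k k_i; (2) for v ∈ S_f ∪ S_∞ and every neighbourhood U of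
t_v there is a neighbourhood U' of t'_v such that t'_0 ∈ U' forces t_0 ∈ U; (4) there are
neighbourhoods U'_v of 0 in k_v for v ∈ S'_f ∖ S_f such that whenever t'_0 ∈ U'_v for all such v,
every finite place w of some k_i with w(t_0 − a_i) > 0 either lies above S_f, or does not lie above
S'_f and satisfies w(t'_0 − a'_i) > 0. (The published statement's S' may also contain further
infinite places, and it has a further conclusion on signs at real places; both are omitted here.) -/
theorem result (k : Type u) [Field k] [NumberField k]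
    (n : ℕ) (hn : 1 ≤ n)
    (kf : Fin n → Type u) [∀ i, Field (kf i)] [∀ i, NumberField (kf i)] [∀ i, Algebra k (kf i)]
    (Lf : Fin n → Type u) [∀ i, Field (Lf i)] [∀ i, NumberField (Lf i)] [∀ i, Algebra (kf i) (Lf i)]
    [∀ i, Algebra k (Lf i)] [∀ i, IsScalarTower k (kf i) (Lf i)]
    (a : (i : Fin n) → kf i) (ha : ∀ i, IntermediateField.adjoin k {a i} = ⊤)
    (hdist : ∀ i j, i ≠ j → minpoly k (a i) ≠ minpoly k (a j))
    (b : (i : Fin n) → kf i) (hb : ∀ i, b i ≠ 0)
    (Sf : Finset (IsDedekindDomain.HeightOneSpectrum (NumberField.RingOfIntegers k)))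
    (Si : Finset (NumberField.InfinitePlace k))
    (hSreal : ∀ w : NumberField.InfinitePlace k, w.IsReal → w ∈ Si)
    (hSb : ∀ i, ∀ W : IsDedekindDomain.HeightOneSpectrum (NumberField.RingOfIntegers (kf i)),
      W.valuation (kf i) (b i) ≠ 1 → ∃ v ∈ Sf, W.asIdeal.LiesOver v.asIdeal)
    (hSram : ∀ i, ∀ Q : Ideal (NumberField.RingOfIntegers (Lf i)), Q.IsPrime → Q ≠ ⊥ →
      Q.ramificationIdx (NumberField.RingOfIntegers (kf i)) ≠ 1 → ∃ v ∈ Sf, Q.LiesOver v.asIdeal)
    (tf : (v : IsDedekindDomain.HeightOneSpectrum (NumberField.RingOfIntegers k)) → v.adicCompletion k)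
    (ti : (w : NumberField.InfinitePlace k) → w.Completion)
    (htf : ∀ i, ∀ v ∈ Sf,
      letI := (Algebra.TensorProduct.map (AlgHom.id k (v.adicCompletion k))
        (IsScalarTower.toAlgHom k (kf i) (Lf i))).toRingHom.toAlgebra
      ∃ x : (v.adicCompletion k) ⊗[k] Lf i, IsUnit x ∧
        Algebra.norm ((v.adicCompletion k) ⊗[k] kf i) x =
          (1 : v.adicCompletion k) ⊗ₜ[k] b i * (tf v ⊗ₜ[k] (1 : kf i) - (1 : v.adicCompletion k) ⊗ₜ[k] a i))
    (hti : ∀ i, ∀ w ∈ Si,
      letI := (Algebra.TensorProduct.map (AlgHom.id k w.Completion)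
        (IsScalarTower.toAlgHom k (kf i) (Lf i))).toRingHom.toAlgebra
      ∃ x : w.Completion ⊗[k] Lf i, IsUnit x ∧
        Algebra.norm (w.Completion ⊗[k] kf i) x =
          (1 : w.Completion) ⊗ₜ[k] b i * (ti w ⊗ₜ[k] (1 : kf i) - (1 : w.Completion) ⊗ₜ[k] a i))
    (α β γ δ : k) (hdet : α * δ - β * γ ≠ 0)
    (hia : ∀ i, algebraMap k (kf i) γ * a i + algebraMap k (kf i) δ ≠ 0)
    (hitf : ∀ v ∈ Sf, algebraMap k (v.adicCompletion k) γ * tf v + algebraMap k (v.adicCompletion k) δ ≠ 0)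
    (hiti : ∀ w ∈ Si, algebraMap k w.Completion γ * ti w + algebraMap k w.Completion δ ≠ 0)
    (hiiα : ∀ v : IsDedekindDomain.HeightOneSpectrum (NumberField.RingOfIntegers k), v ∉ Sf → v.valuation k α = 1)
    (hiia : ∀ i, ∀ W : IsDedekindDomain.HeightOneSpectrum (NumberField.RingOfIntegers (kf i)),
      (¬ ∃ v ∈ Sf, W.asIdeal.LiesOver v.asIdeal) →
        W.valuation (kf i) (algebraMap k (kf i) α * a i + algebraMap k (kf i) β) = 1)
    (hiiif : ∀ i, ∀ v ∈ Sf,
      letI := (Algebra.TensorProduct.map (AlgHom.id k (v.adicCompletion k))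
        (IsScalarTower.toAlgHom k (kf i) (Lf i))).toRingHom.toAlgebra
      ∃ y : (v.adicCompletion k) ⊗[k] Lf i, IsUnit y ∧
        Algebra.norm ((v.adicCompletion k) ⊗[k] kf i) y =
          (algebraMap k (v.adicCompletion k) (α * δ - β * γ) /
            (algebraMap k (v.adicCompletion k) γ * tf v + algebraMap k (v.adicCompletion k) δ)) ⊗ₜ[k] (1 : kf i))
    (hiiii : ∀ i, ∀ w ∈ Si,
      letI := (Algebra.TensorProduct.map (AlgHom.id k w.Completion)
        (IsScalarTower.toAlgHom k (kf i) (Lf i))).toRingHom.toAlgebra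
      ∃ y : w.Completion ⊗[k] Lf i, IsUnit y ∧
        Algebra.norm (w.Completion ⊗[k] kf i) y =
          (algebraMap k w.Completion (α * δ - β * γ) /
            (algebraMap k w.Completion γ * ti w + algebraMap k w.Completion δ)) ⊗ₜ[k] (1 : kf i))
    (a' b' : (i : Fin n) → kf i)
    (ha' : ∀ i, a' i = (algebraMap k (kf i) α * a i + algebraMap k (kf i) β) /
      (algebraMap k (kf i) γ * a i + algebraMap k (kf i) δ))
    (hb' : ∀ i, b' i = b i * (algebraMap k (kf i) γ * a i + algebraMap k (kf i) δ))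
    (Sf' : Finset (IsDedekindDomain.HeightOneSpectrum (NumberField.RingOfIntegers k))) (hSS' : Sf ⊆ Sf')
    (hS'αγ : ∀ v : IsDedekindDomain.HeightOneSpectrum (NumberField.RingOfIntegers k), v ∉ Sf' →
      v.valuation k α ≤ 1 ∧ v.valuation k γ ≤ 1)
    (hS'ab : ∀ i, ∀ W : IsDedekindDomain.HeightOneSpectrum (NumberField.RingOfIntegers (kf i)),
      (¬ ∃ v ∈ Sf', W.asIdeal.LiesOver v.asIdeal) → W.valuation (kf i) (a' i) ≤ 1 ∧ W.valuation (kf i) (b' i) = 1)
    (tf' : (v : IsDedekindDomain.HeightOneSpectrum (NumberField.RingOfIntegers k)) → v.adicCompletion k)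
    (htf'S : ∀ v ∈ Sf, tf' v = (algebraMap k (v.adicCompletion k) α * tf v + algebraMap k (v.adicCompletion k) β) /
      (algebraMap k (v.adicCompletion k) γ * tf v + algebraMap k (v.adicCompletion k) δ))
    (htf'S' : ∀ v ∈ Sf', v ∉ Sf → tf' v = 0)
    (ti' : (w : NumberField.InfinitePlace k) → w.Completion)
    (hti' : ∀ w ∈ Si, ti' w = (algebraMap k w.Completion α * ti w + algebraMap k w.Completion β) /
      (algebraMap k w.Completion γ * ti w + algebraMap k w.Completion δ)) :
    (∀ i, ∀ v ∈ Sf',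
      letI := (Algebra.TensorProduct.map (AlgHom.id k (v.adicCompletion k))
        (IsScalarTower.toAlgHom k (kf i) (Lf i))).toRingHom.toAlgebra
      ∃ x : (v.adicCompletion k) ⊗[k] Lf i, IsUnit x ∧
        Algebra.norm ((v.adicCompletion k) ⊗[k] kf i) x =
          (1 : v.adicCompletion k) ⊗ₜ[k] b' i * (tf' v ⊗ₜ[k] (1 : kf i) - (1 : v.adicCompletion k) ⊗ₜ[k] a' i)) ∧
    (∀ i, ∀ w ∈ Si,
      letI := (Algebra.TensorProduct.map (AlgHom.id k w.Completion)
        (IsScalarTower.toAlgHom k (kf i) (Lf i))).toRingHom.toAlgebra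
      ∃ x : w.Completion ⊗[k] Lf i, IsUnit x ∧
        Algebra.norm (w.Completion ⊗[k] kf i) x =
          (1 : w.Completion) ⊗ₜ[k] b' i * (ti' w ⊗ₜ[k] (1 : kf i) - (1 : w.Completion) ⊗ₜ[k] a' i)) ∧
    (∀ v ∈ Sf, ∀ U : Set (v.adicCompletion k), IsOpen U → tf v ∈ U →
      ∃ U' : Set (v.adicCompletion k), IsOpen U' ∧ tf' v ∈ U' ∧
        ∀ t₀' : k, α ≠ γ * t₀' → algebraMap k (v.adicCompletion k) t₀' ∈ U' →
          algebraMap k (v.adicCompletion k) ((δ * t₀' - β) / (α - γ * t₀')) ∈ U) ∧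
    (∀ w ∈ Si, ∀ U : Set w.Completion, IsOpen U → ti w ∈ U →
      ∃ U' : Set w.Completion, IsOpen U' ∧ ti' w ∈ U' ∧
        ∀ t₀' : k, α ≠ γ * t₀' → algebraMap k w.Completion t₀' ∈ U' →
          algebraMap k w.Completion ((δ * t₀' - β) / (α - γ * t₀')) ∈ U) ∧
    (∃ U' : (v : IsDedekindDomain.HeightOneSpectrum (NumberField.RingOfIntegers k)) → Set (v.adicCompletion k),
      (∀ v ∈ Sf', v ∉ Sf → IsOpen (U' v) ∧ (0 : v.adicCompletion k) ∈ U' v) ∧
      ∀ t₀' : k, α ≠ γ * t₀' → (∀ v ∈ Sf', v ∉ Sf → algebraMap k (v.adicCompletion k) t₀' ∈ U' v) →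
        ∀ i, ∀ W : IsDedekindDomain.HeightOneSpectrum (NumberField.RingOfIntegers (kf i)),
          W.valuation (kf i) (algebraMap k (kf i) ((δ * t₀' - β) / (α - γ * t₀')) - a i) < 1 →
            (∃ v ∈ Sf, W.asIdeal.LiesOver v.asIdeal) ∨
            ((¬ ∃ v ∈ Sf', W.asIdeal.LiesOver v.asIdeal) ∧
              W.valuation (kf i) (algebraMap k (kf i) t₀' - a' i) < 1)) := by
  classical
  have hover : ∀ {i} {S : Finset (IsDedekindDomain.HeightOneSpectrum (𝓞 k))}
      (W : IsDedekindDomain.HeightOneSpectrum (𝓞 (kf i))) {v : IsDedekindDomain.HeightOneSpectrum (𝓞 k)}, v ∉ S →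
      W.asIdeal.LiesOver v.asIdeal → ¬ ∃ v ∈ S, W.asIdeal.LiesOver v.asIdeal := by
    rintro i S W v hv hW ⟨v', hv', hW'⟩
    exact hv ((NF31.eq_under (v := v') W).trans (NF31.eq_under (v := v) W).symm ▸ hv')
  have hbu : ∀ i (W : IsDedekindDomain.HeightOneSpectrum (𝓞 (kf i))),
      (¬ ∃ v ∈ Sf, W.asIdeal.LiesOver v.asIdeal) → W.valuation (kf i) (b i) = 1 := fun i W h =>
    not_not.1 fun hne => h (hSb i W hne)
  refine ⟨fun i v hv => ?_, fun i w hw => ?_, fun v hv U hU ht => ?_, fun w hw U hU ht => ?_, ?_⟩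
  · by_cases hvS : v ∈ Sf
    · obtain ⟨x, hx, hNx⟩ := htf i v hvS
      obtain ⟨y, hy, hNy⟩ := hiiif i v hvS
      rw [hb', ha', htf'S v hvS]
      let _ := (Algebra.TensorProduct.map (AlgHom.id k (v.adicCompletion k))
        (IsScalarTower.toAlgHom k (kf i) (Lf i))).toRingHom.toAlgebra
      exact NF31.norm_data_moebius (a i) (b i) (tf v) α β γ δ (hitf v hvS) (hia i) hx hy hNx hNy
    · have hu : ∀ W : IsDedekindDomain.HeightOneSpectrum (𝓞 (kf i)), W.asIdeal.LiesOver v.asIdeal →
          NF31.IsUnramifiedIn W (Lf i) := fun W hW Q hQ => by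
        by_contra hne
        obtain ⟨v', hv', hQv'⟩ := hSram i Q.asIdeal Q.isPrime Q.ne_bot hne
        have := hQ; have := hQv'
        exact hover W hvS hW ⟨v', hv', Ideal.LiesOver.tower_bot Q.asIdeal W.asIdeal v'.asIdeal⟩
      have hnum : algebraMap k (kf i) α * a i + algebraMap k (kf i) β ≠ 0 := by
        intro h0
        obtain ⟨W, hW⟩ := NF31.exists_notMem_over (kf i) v
        have h := hiia i W (hover W hvS hW)
        rw [h0, map_zero] at h
        exact zero_ne_one h
      obtain ⟨x, hx, hNx⟩ := NF31.exists_tensor_norm_eq (L := Lf i) v hu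
        (b := -(b i * (algebraMap k (kf i) α * a i + algebraMap k (kf i) β)))
        (neg_ne_zero.2 (mul_ne_zero (hb i) hnum)) fun W hW => by
          rw [Valuation.map_neg, map_mul, hbu i W (hover W hvS hW), hiia i W (hover W hvS hW), mul_one]
      refine ⟨x, hx, hNx.trans ?_⟩
      rw [htf'S' v hv hvS, TensorProduct.zero_tmul, zero_sub, mul_neg, Algebra.TensorProduct.tmul_mul_tmul, one_mul,
        ← TensorProduct.tmul_neg, hb', ha', mul_assoc, mul_div_cancel₀ _ (hia i)]
  · obtain ⟨x, hx, hNx⟩ := hti i w hw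
    obtain ⟨y, hy, hNy⟩ := hiiii i w hw
    rw [hb', ha', hti' w hw]
    let _ := (Algebra.TensorProduct.map (AlgHom.id k w.Completion)
      (IsScalarTower.toAlgHom k (kf i) (Lf i))).toRingHom.toAlgebra
    exact NF31.norm_data_moebius (a i) (b i) (ti w) α β γ δ (hiti w hw) (hia i) hx hy hNx hNy
  · rw [htf'S v hv]
    exact NF31.exists_open_preimage (tf v) hdet (hitf v hv) hU ht
  · rw [hti' w hw]
    exact NF31.exists_open_preimage (ti w) hdet (hiti w hw) hU ht
  -- the neighbourhoods of zero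
  have hM : ∀ v : IsDedekindDomain.HeightOneSpectrum (𝓞 k), v ∉ Sf → ∃ M : ℕ, ∀ t : k,
      v.valuation k t < WithZero.exp (-(M : ℤ)) → ∀ i, ∀ W : IsDedekindDomain.HeightOneSpectrum (𝓞 (kf i)),
        W.asIdeal.LiesOver v.asIdeal →
          W.valuation (kf i) (algebraMap k (kf i) t * (algebraMap k (kf i) γ * a i + algebraMap k (kf i) δ)) < 1 ∧
            W.valuation (kf i) (algebraMap k (kf i) (γ * t)) < 1 := by
    intro v _
    exact NF31.exists_small_nhd (K := kf) v (fun i => algebraMap k (kf i) γ * a i + algebraMap k (kf i) δ) γ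
  choose! M hM using hM
  refine ⟨fun v => {y | Valued.v y < WithZero.exp (-(M v : ℤ))}, fun v _ _ => ⟨NF31.isOpen_lt_exp v (M v), ?_⟩, ?_⟩
  · show Valued.v (0 : v.adicCompletion k) < _
    rw [map_zero]; exact WithZero.exp_pos
  intro t ht hU' i W hlt
  by_cases hS : ∃ v ∈ Sf, W.asIdeal.LiesOver v.asIdeal
  · exact Or.inl hS
  refine Or.inr ?_
  set v := W.under (𝓞 k) with hv
  have hlies : W.asIdeal.LiesOver v.asIdeal := NF31.liesOver_under W
  have hvS : v ∉ Sf := fun h => hS ⟨v, h, hlies⟩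
  set K := kf i
  set g := algebraMap k K γ * a i + algebraMap k K δ with hg
  set den := algebraMap k K α - algebraMap k K γ * algebraMap k K t with hden
  have hden0 : den ≠ 0 := by
    rw [hden, ← map_mul, ← map_sub]
    exact (_root_.map_ne_zero _).2 (sub_ne_zero.2 ht)
  have e : algebraMap k K ((δ * t - β) / (α - γ * t)) - a i =
      (algebraMap k K t * g - (algebraMap k K α * a i + algebraMap k K β)) / den := by
    rw [eq_div_iff hden0, map_div₀, hden, map_sub, map_sub, map_mul, map_mul, sub_mul, div_mul_cancel₀ _ hden0, hg]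
    ring
  rw [e, map_div₀, div_lt_iff₀ (zero_lt_iff.2 ((Valuation.ne_zero_iff _).2 hden0)), one_mul] at hlt
  have hα : W.valuation K (algebraMap k K α) = 1 := by
    rw [← IsDedekindDomain.HeightOneSpectrum.valuation_liesOver (K := k) (L := K) v W α, hiiα v hvS, one_pow]
  have hnum := hiia i W hS
  by_cases hvS' : v ∈ Sf'
  · exfalso
    obtain ⟨h1, h2⟩ := hM v hvS t (by rw [← NF31.valued_algebraMap v]; exact hU' v hvS' hvS) i W hlies
    rw [Valuation.map_sub_eq_of_lt_right _ (by rw [hnum]; exact h1), hnum,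
      hden, ← map_mul, Valuation.map_sub_eq_of_lt_left _ (by rw [hα]; exact h2), hα] at hlt
    exact lt_irrefl _ hlt
  have hS' : ¬ ∃ v ∈ Sf', W.asIdeal.LiesOver v.asIdeal := hover W hvS' hlies
  refine ⟨hS', ?_⟩
  obtain ⟨ha1, hb1⟩ := hS'ab i W hS'
  rw [hb', map_mul, hbu i W hS, one_mul] at hb1
  rw [show algebraMap k K t * g - (algebraMap k K α * a i + algebraMap k K β) = g * (algebraMap k K t - a' i) by
    rw [mul_sub, ha', mul_div_cancel₀ _ (hia i), mul_comm], map_mul, hb1, one_mul] at hlt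
  refine hlt.trans_le ?_
  have hγ : W.valuation K (algebraMap k K γ) ≤ 1 := NF31.valuation_map_le (v := v) W (hS'αγ v hvS').2 le_rfl
  by_cases ht1 : W.valuation K (algebraMap k K t) ≤ 1
  · exact (W.valuation K).map_sub_le hα.le (by rw [map_mul]; exact mul_le_one' hγ ht1)
  · exfalso
    rw [not_le] at ht1
    rw [Valuation.map_sub_eq_of_lt_left _ (ha1.trans_lt ht1)] at hlt
    refine hlt.not_ge ((W.valuation K).map_sub_le (hα.le.trans ht1.le) ?_)
    rw [map_mul]; exact mul_le_of_le_one_left' hγ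

end Groth.Agent.S19286
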