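import Groth.Statements.S19288
import Groth.Agent.Unr55.Rigid

set_option autoImplicit false
universe u
open CategoryTheory CategoryTheory.Limits MonoidalCategory CartesianMonoidalCategory MonObj AlgebraicGeometry
open AbSch

namespace Groth.Agent.S19288

set_option backward.isDefEq.respectTransparency false

/-- Let S be a scheme, X a commutative S-group scheme which is etale and separated over S (hence locally
of finite presentation), and P a commutative S-group scheme of finite presentation over S all of
whose fibres are connected. Then every homomorphism of S-group schemes from P to X is trivial (it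
factors through the unit section). -/
theorem result {S : Scheme.{u}} (P X : Over S)
    [GrpObj P] [IsCommMonObj P] [GrpObj X] [IsCommMonObj X]
    [Etale X.hom] [IsSeparated X.hom]
    [QuasiCompact P.hom] [QuasiSeparated P.hom] [LocallyOfFinitePresentation P.hom]
    (hP : ∀ s : S, ConnectedSpace ↥(P.hom.fiber s))
    (f : P ⟶ X) [IsMonHom f] : f = 1 := by
  obtain ⟨W, hW, hmem, hcl⟩ := Unr55.exists_eqLocus X.hom f.left (1 : P ⟶ X).left (by rw [Over.w, Over.w])
  have hη : η[P].left ≫ f.left = η[P].left ≫ (1 : P ⟶ X).left := by
    rw [← Over.comp_left, ← Over.comp_left, IsMonHom.one_hom, MonObj.comp_one]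
    simp [Hom.one_def, toUnit_unit]
  have hW' : ∀ x, x ∈ W := fun x => by
    have hx : P.hom (η[P].left (P.hom x)) = P.hom x :=
      congrArg (fun m : S ⟶ S => m (P.hom x)) (Over.w η[P])
    have hc : _root_.IsPreconnected (P.hom ⁻¹' {P.hom x}) := by
      rw [← Scheme.Hom.range_fiberι]
      have := hP (P.hom x)
      exact isPreconnected_range (P.hom.fiberι (P.hom x)).continuous
    exact hc.subset_isClopen ⟨hcl inferInstance, W.2⟩ ⟨_, hx, hmem _ hη ⟨_, rfl⟩⟩ rfl
  have : IsIso W.ι := by
    rw [show W = ⊤ from top_le_iff.1 fun x _ => hW' x]
    exact inferInstanceAs (IsIso (Scheme.topIso P.left).hom)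
  exact Over.OverMorphism.ext ((cancel_epi W.ι).1 hW)

end Groth.Agent.S19288
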