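import Groth.Statements.S19290
import Groth.Agent.TorusAb7.Main
import Groth.Agent.AbSch7.Biadd
import Groth.Agent.AlgGrp79.TorusProper

set_option autoImplicit false
universe u
open CategoryTheory CategoryTheory.Limits MonoidalCategory CartesianMonoidalCategory MonObj AlgebraicGeometry
open AbSch

namespace Groth.Agent.S19290

open Opposite GrpObj

variable {S : Scheme.{u}}

local notation "Pts" => CGrpSh.pts Scheme.fppfPrecoverage

/-- A point as a section of the sheaf of points. -/
abbrev pt (G : Over S) [GrpObj G] [IsCommMonObj G] {T : Over S} (x : T ⟶ G) :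
    (Pts G).obj.obj (op T) := ULift.up (Additive.ofMul x)

open RedPts82 in
/-- A fibrewise-additive family of points of an abelian scheme parametrised by a torus is trivial. -/
lemma family_eq_one {T A : Over S} [GrpObj T] (hT : Red.IsTorus T) [GrpObj A] [Smooth A.hom] [IsProper A.hom]
    [GeometricallyConnected A.hom] {Y : Over S} (θ : ∀ {U : Over S}, (U ⟶ Y) → (U ⟶ T) → (U ⟶ A))
    (hnat : ∀ {U V : Over S} (g : U ⟶ Y) (k : V ⟶ U) (t : U ⟶ T), θ (k ≫ g) (k ≫ t) = k ≫ θ g t)
    (hadd : ∀ {U : Over S} (g : U ⟶ Y) (t t' : U ⟶ T), θ g (t * t') = θ g t * θ g t')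
    {U : Over S} (g : U ⟶ Y) (t : U ⟶ T) : θ g t = 1 := by
  obtain ⟨S', f, hf, hs, -, hloc⟩ := hT
  choose W hW r hr using hloc
  have hcov : TopologicalSpace.IsOpenCover W := by
    rw [TopologicalSpace.IsOpenCover, eq_top_iff]
    exact fun x _ => TopologicalSpace.Opens.mem_iSup.mpr ⟨x, hW x⟩
  have hchart : ∀ (v : S') (V : Over S) (g : V ⟶ Y) (t : V ⟶ T) (l : V.left ⟶ (W v : Scheme.{u})),
      l ≫ (W v).ι ≫ f = V.hom → θ g t = 1 := by
    intro v V g t l hl
    obtain ⟨e⟩ := hr v
    let q := (W v).ι ≫ f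
    let e' : Red.bc q T ≅ Red.DS (W v : Scheme.{u}) (Fin (r v) → ℤ) := (Grp.forget _).mapIso e
    have : IsMonHom e'.inv := e.inv.hom.isMonHom_hom
    let D : Scheme.{u} := pullback q Y.hom
    let k : D ⟶ (W v : Scheme.{u}) := pullback.fst _ _
    let d : D ⟶ S := k ≫ q
    obtain ⟨δ, hδm, hδi⟩ := AlgGrp79.exists_ds_iso' k (Fin (r v) → ℤ)
    have : Smooth (Red.bc d A).hom := inferInstanceAs (Smooth (pullback.snd A.hom d))
    have : IsProper (Red.bc d A).hom := inferInstanceAs (IsProper (pullback.snd A.hom d))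
    have : GeometricallyConnected (Red.bc d A).hom :=
      inferInstanceAs (GeometricallyConnected (pullback.snd A.hom d))
    let gX : ∀ X : Over D, (Over.map d).obj X ⟶ Y := fun X =>
      Over.homMk (X.hom ≫ pullback.snd q Y.hom) (by
        show (X.hom ≫ pullback.snd q Y.hom) ≫ Y.hom = X.hom ≫ d
        rw [Category.assoc, ← pullback.condition])
    let iX : ∀ X : Over D, (Over.map d).obj X ≅ (Over.map q).obj ((Over.map k).obj X) := fun X =>
      Over.isoMk (Iso.refl _) (by
        show 𝟙 _ ≫ (X.hom ≫ k) ≫ q = X.hom ≫ d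
        rw [Category.id_comp, Category.assoc])
    let pT : ∀ (X : Over D), (X ⟶ Red.DS D (Fin (r v) → ℤ)) → ((Over.map d).obj X ⟶ T) := fun X x =>
      (iX X).hom ≫ toBase q (toBase k (x ≫ δ) ≫ e'.inv)
    let h : Red.DS D (Fin (r v) → ℤ) ⟶ Red.bc d A := ofBase d (θ (gX _) (pT _ (𝟙 _)))
    have hh : ∀ (X : Over D) (x : X ⟶ Red.DS D (Fin (r v) → ℤ)),
        toBase d (x ≫ h) = θ (gX X) (pT X x) := by
      intro X x
      rw [toBase_comp, toBase_ofBase, ← hnat]
      congr 1
      · ext : 1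
        show x.left ≫ _ ≫ pullback.snd q Y.hom = X.hom ≫ pullback.snd q Y.hom
        rw [← Category.assoc, Over.w x]
    have : IsMonHom h := isMonHom_of_points h fun X x y => toBase_injective d (by
      rw [hh, toBase_mul, hh, hh, ← hadd]
      congr 1
      show (iX X).hom ≫ _ = ((iX X).hom ≫ _) * ((iX X).hom ≫ _)
      rw [← MonObj.comp_mul, @MonObj.mul_comp _ _ _ _ _ _ _ _ x y δ hδm, toBase_mul, MonObj.mul_comp, toBase_mul])
    have h1 : h = 1 := TorusAb7.hom_DS_eq_one (Red.bc d A) h
    -- lift the given point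
    let lD : V.left ⟶ D := pullback.lift l g.left (by rw [hl]; exact (Over.w g).symm)
    let X : Over D := Over.mk lD
    let iV : (Over.map d).obj X ≅ V := Over.isoMk (Iso.refl _) (by
      show 𝟙 _ ≫ V.hom = lD ≫ k ≫ q
      rw [Category.id_comp, pullback.lift_fst_assoc, hl])
    let x : X ⟶ Red.DS D (Fin (r v) → ℤ) :=
      ofBase k (ofBase q ((iX X).inv ≫ iV.hom ≫ t) ≫ e'.hom) ≫ inv δ
    have hx : pT X x = iV.hom ≫ t := by
      show (iX X).hom ≫ toBase q (toBase k ((_ ≫ inv δ) ≫ δ) ≫ e'.inv) = _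
      rw [Category.assoc, IsIso.inv_hom_id, Category.comp_id, toBase_ofBase, Category.assoc, e'.hom_inv_id,
        Category.comp_id, toBase_ofBase, Iso.hom_inv_id_assoc]
    have e0 := hh X x
    rw [h1, MonObj.comp_one, toBase_one, hx,
      show gX X = iV.hom ≫ g by
        ext : 1
        exact (pullback.lift_snd _ _ _).trans (Category.id_comp _).symm, hnat] at e0
    rw [← cancel_epi iV.hom, MonObj.comp_one]
    exact e0.symm
  apply Over.OverMorphism.ext
  have : Surjective (pullback.fst U.hom f) := inferInstance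
  have : Epi (pullback.fst U.hom f) := Flat.epi_of_flat_of_surjective _
  rw [← cancel_epi (pullback.fst U.hom f)]
  refine Scheme.Cover.hom_ext ((S'.openCoverOfIsOpenCover W hcov).pullback₁ (pullback.snd U.hom f))
    _ _ fun (v : S') => ?_
  change pullback.fst (pullback.snd U.hom f) (W v).ι ≫ pullback.fst U.hom f ≫ (θ g t).left =
    pullback.fst (pullback.snd U.hom f) (W v).ι ≫ pullback.fst U.hom f ≫ _
  let V : Over S := Over.mk ((pullback.fst (pullback.snd U.hom f) (W v).ι ≫ pullback.fst U.hom f) ≫ U.hom)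
  let j : V ⟶ U := Over.homMk (pullback.fst (pullback.snd U.hom f) (W v).ι ≫ pullback.fst U.hom f) rfl
  have h := hchart v V (j ≫ g) (j ≫ t) (pullback.snd _ _) (by
    show pullback.snd (pullback.snd U.hom f) (W v).ι ≫ (W v).ι ≫ f =
      (pullback.fst (pullback.snd U.hom f) (W v).ι ≫ pullback.fst U.hom f) ≫ U.hom
    rw [← pullback.condition_assoc, Category.assoc, pullback.condition])
  rw [hnat] at h
  rw [← Category.assoc, ← Category.assoc]
  exact congrArg (fun m : V ⟶ A => m.left) (h.trans (MonObj.comp_one j).symm)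

/-- Let S be a scheme, T an S-torus and A an abelian S-scheme (smooth, proper, with connected fibres).
Then the S-sheaf of homomorphisms from T to A is trivial: the internal Hom sheaf, on the big fppf
site of S, from the abelian sheaf of points of T to that of A is the zero sheaf. -/
theorem result {S : Scheme.{u}} (T A : Over S)
    [GrpObj T] [IsCommMonObj T] (hT : Red.IsTorus T)
    [GrpObj A] [IsCommMonObj A] [Smooth A.hom] [IsProper A.hom]
    (hA : ∀ s : S, ConnectedSpace ↥(A.hom.fiber s)) :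
    IsZero (HomSh.homSh (QuotSh.J Scheme.fppfPrecoverage S) (CGrpSh.pts Scheme.fppfPrecoverage T) (CGrpSh.pts Scheme.fppfPrecoverage A)) := by
  have hgc := (AbSch7.geometrically_of_smooth_group A hA).1
  let F := HomSh.homSh (QuotSh.J Scheme.fppfPrecoverage S) (Pts T) (Pts A)
  suffices key : ∀ (Y : Over S) (ψ : (Pts T).over Y ⟶ (Pts A).over Y), ψ = 0 by
    rw [IsZero.iff_id_eq_zero]
    exact Sheaf.hom_ext (NatTrans.ext (funext fun Y => AddCommGrpCat.ext fun ψ => key (unop Y) ψ))
  intro Y ψ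
  let θ : ∀ {U : Over S} (g : U ⟶ Y) (t : U ⟶ T), (U ⟶ A) := fun {U} g t =>
    ((ψ.hom.app (op (Over.mk g)) (pt T t)).down).toMul
  have hnat : ∀ {U V : Over S} (g : U ⟶ Y) (k : V ⟶ U) (t : U ⟶ T), θ (k ≫ g) (k ≫ t) = k ≫ θ g t := by
    intro U V g k t
    let m : Over.mk (k ≫ g) ⟶ Over.mk g := Over.homMk k rfl
    exact congrArg (fun x => x.down.toMul) (ConcreteCategory.congr_hom (ψ.hom.naturality m.op) (pt T t))
  have hadd : ∀ {U : Over S} (g : U ⟶ Y) (t t' : U ⟶ T), θ g (t * t') = θ g t * θ g t' := by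
    intro U g t t'
    exact congrArg (fun x => x.down.toMul) (map_add (ψ.hom.app (op (Over.mk g))).hom (pt T t) (pt T t'))
  refine Sheaf.hom_ext (NatTrans.ext (funext fun U => AddCommGrpCat.ext fun t => ?_))
  obtain ⟨U⟩ := U
  obtain ⟨t⟩ := t
  have e' : θ U.hom t.toMul = 1 := family_eq_one (Y := Y) hT θ hnat hadd U.hom t.toMul
  apply ULift.ext
  change Additive.ofMul (θ U.hom t.toMul) = 0
  rw [e']
  rfl

end Groth.Agent.S19290
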