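import Groth.Statements.S19291
import Groth.Agent.AbSch7.Biadd

set_option autoImplicit false
universe u
open CategoryTheory CategoryTheory.Limits MonoidalCategory CartesianMonoidalCategory MonObj AlgebraicGeometry
open AbSch

namespace Groth.Agent.S19291

set_option backward.isDefEq.respectTransparency false
open Opposite GrpObj

variable {S : Scheme.{u}}

local notation "Pts" => CGrpSh.pts Scheme.fppfPrecoverage

/-- A point as a section of the sheaf of points. -/
abbrev pt (G : Over S) [GrpObj G] [IsCommMonObj G] {T : Over S} (x : T ⟶ G) :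
    (Pts G).obj.obj (op T) := ULift.up (Additive.ofMul x)

/-- Let S be a scheme and A, B, C three abelian S-schemes (smooth proper S-group schemes with connected
fibres). Then the group of homomorphisms from A to the S-sheaf of homomorphisms from B to C is
trivial: on the big fppf site of S, every morphism of abelian sheaves from the sheaf of points of A
to the internal Hom sheaf of the sheaves of points of B and C is zero (equivalently, there is no
non-zero biadditive morphism from A × B to C). -/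
theorem result {S : Scheme.{u}} (A B C : Over S)
    [GrpObj A] [IsCommMonObj A] [Smooth A.hom] [IsProper A.hom]
    (hA : ∀ s : S, ConnectedSpace ↥(A.hom.fiber s))
    [GrpObj B] [IsCommMonObj B] [Smooth B.hom] [IsProper B.hom]
    (hB : ∀ s : S, ConnectedSpace ↥(B.hom.fiber s))
    [GrpObj C] [IsCommMonObj C] [Smooth C.hom] [IsProper C.hom]
    (hC : ∀ s : S, ConnectedSpace ↥(C.hom.fiber s))
    (φ : (CGrpSh.pts Scheme.fppfPrecoverage A) ⟶ HomSh.homSh (QuotSh.J Scheme.fppfPrecoverage S) (CGrpSh.pts Scheme.fppfPrecoverage B) (CGrpSh.pts Scheme.fppfPrecoverage C)) : φ = 0 := by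
  let J := QuotSh.J Scheme.fppfPrecoverage S
  let F := Pts A
  -- the value of φ on a pair of points
  let θ : ∀ {T : Over S} (a : T ⟶ A) {U : Over S} (g : U ⟶ T) (b : U ⟶ B), (U ⟶ C) := fun {T} a {U} g b =>
    (((φ.hom.app (op T) (pt A a)).hom.app (op (Over.mk g)) (pt B b)).down).toMul
  have hnat : ∀ {T : Over S} (a : T ⟶ A) {U V : Over S} (g : U ⟶ T) (h : V ⟶ U) (b : V ⟶ B),
      θ a (h ≫ g) b = θ (g ≫ a) h b := by
    intro T a U V g h b
    have e := ConcreteCategory.congr_hom (φ.hom.naturality g.op) (pt A a)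
    exact (congrArg (fun ψ : (Pts B).over U ⟶ (Pts C).over U =>
      ((ψ.hom.app (op (Over.mk h)) (pt B b)).down).toMul) e).symm
  let β : A ⊗ B ⟶ C := θ (fst A B) (𝟙 (A ⊗ B)) (snd A B)
  have hθ : ∀ {T : Over S} (a : T ⟶ A) {U : Over S} (g : U ⟶ T) (b : U ⟶ B),
      θ a g b = lift (g ≫ a) b ≫ β := by
    intro T a U g b
    let k := lift (g ≫ a) b
    have h1 : θ a g b = θ (g ≫ a) (𝟙 U) b := by
      rw [← hnat a g (𝟙 U) b, Category.id_comp]
    have h2 : θ (g ≫ a) (𝟙 U) b = θ (fst A B) k b := by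
      have := hnat (fst A B) k (𝟙 U) b
      rw [Category.id_comp, lift_fst] at this
      exact this.symm
    let m : Over.mk k ⟶ Over.mk (𝟙 (A ⊗ B)) := Over.homMk k (by simp)
    have e := ConcreteCategory.congr_hom ((φ.hom.app (op (A ⊗ B)) (pt A (fst A B))).hom.naturality m.op)
      (pt B (snd A B))
    have h3 : θ (fst A B) k (k ≫ snd A B) = k ≫ β := congrArg (fun x => x.down.toMul) e
    rw [h1, h2, ← h3, lift_snd]
  have hzeroB : ∀ {T : Over S} (a : T ⟶ A) {U : Over S} (g : U ⟶ T), θ a g 1 = 1 := by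
    intro T a U g
    exact congrArg (fun x => x.down.toMul) (map_zero ((φ.hom.app (op T) (pt A a)).hom.app (op (Over.mk g))).hom)
  have hzeroA : ∀ {T : Over S} {U : Over S} (g : U ⟶ T) (b : U ⟶ B), θ (1 : T ⟶ A) g b = 1 := by
    intro T U g b
    have e := map_zero (φ.hom.app (op T)).hom
    exact congrArg (fun ψ : (Pts B).over T ⟶ (Pts C).over T =>
      ((ψ.hom.app (op (Over.mk g)) (pt B b)).down).toMul) e
  have hβ : β = 1 := by
    refine AbSch7.eq_one_of_axes A B C hA hB β ?_ ?_
    · rw [← hzeroB (𝟙 A) (𝟙 A), hθ, Category.id_comp]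
    · rw [← hzeroA (T := B) (𝟙 B) (𝟙 B), hθ, MonObj.comp_one]
  refine Sheaf.hom_ext (NatTrans.ext (funext fun T => AddCommGrpCat.ext fun a => ?_))
  obtain ⟨T⟩ := T
  obtain ⟨a⟩ := a
  refine Sheaf.hom_ext (NatTrans.ext (funext fun U => AddCommGrpCat.ext fun b => ?_))
  obtain ⟨U⟩ := U
  obtain ⟨b⟩ := b
  apply ULift.ext
  change Additive.ofMul (θ a.toMul U.hom b.toMul) = 0
  rw [hθ, hβ, MonObj.comp_one]
  rfl

end Groth.Agent.S19291
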