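import Groth.Statements.S19306
import Mathlib.RingTheory.Flat.Tensor
import Mathlib.RingTheory.Flat.EquationalCriterion
import Mathlib.Algebra.Module.FinitePresentation
import Mathlib.RingTheory.PowerSeries.Inverse
import Mathlib.Algebra.Ring.GeomSum
import Mathlib.LinearAlgebra.TensorProduct.Tower
import Mathlib.RingTheory.TensorProduct.Free
import Mathlib.RingTheory.Flat.TorsionFree

set_option autoImplicit false
universe u
open PowerSeries
open CAlg

namespace Groth.Agent.S19306

open PowerSeries TensorProduct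

variable {R : Type u} [CommRing R]

/-- Coefficients below `M`. -/
noncomputable def tr (n M : ℕ) : (Fin n → R⟦X⟧) →ₗ[R] (Fin n × Fin M → R) :=
  LinearMap.pi fun ia => (coeff (R := R) ia.2.1).comp (LinearMap.proj ia.1)

/-- The polynomial lift. -/
noncomputable def lift' (n M : ℕ) : (Fin n × Fin M → R) →ₗ[R] (Fin n → R⟦X⟧) where
  toFun c i := mk fun m => if h : m < M then c (i, ⟨m, h⟩) else 0
  map_add' c d := by
    ext i m
    simp only [Pi.add_apply, coeff_mk, map_add]
    split_ifs <;> simp
  map_smul' r c := by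
    ext i m
    simp only [Pi.smul_apply, coeff_mk, RingHom.id_apply, LinearMap.map_smul]
    split_ifs <;> simp

/-- The shift by `M`. -/
noncomputable def shiftM (n M : ℕ) : (Fin n → R⟦X⟧) →ₗ[R] (Fin n → R⟦X⟧) where
  toFun f i := mk fun m => coeff (m + M) (f i)
  map_add' f g := by ext i m; simp
  map_smul' r f := by ext i m; simp

theorem tr_lift (n M : ℕ) (c : Fin n × Fin M → R) : tr n M (lift' n M c) = c := by
  funext ⟨i, a, ha⟩
  simp [tr, lift', ha]

theorem decomp (n M : ℕ) (f : Fin n → R⟦X⟧) :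
    f = lift' n M (tr n M f) + ((X : R⟦X⟧) ^ M) • shiftM n M f := by
  ext i m
  simp only [Pi.add_apply, Pi.smul_apply, smul_eq_mul, map_add]
  rw [coeff_X_pow_mul']
  simp only [lift', shiftM, LinearMap.coe_mk, AddHom.coe_mk, coeff_mk]
  by_cases h : m < M
  · rw [dif_pos h, if_neg (by omega), add_zero]
    rfl
  · rw [dif_neg h, if_pos (by omega), zero_add, Nat.sub_add_cancel (by omega)]

theorem tr_X_pow_smul (n M : ℕ) (g : Fin n → R⟦X⟧) : tr n M (((X : R⟦X⟧) ^ M) • g) = 0 := by
  funext ⟨i, a, ha⟩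
  simp [tr, coeff_X_pow_mul', Nat.not_le.mpr ha]

theorem shiftM_X_pow_smul (n M : ℕ) (g : Fin n → R⟦X⟧) :
    shiftM n M (((X : R⟦X⟧) ^ M) • g) = g := by
  ext i m
  simp [shiftM, coeff_X_pow_mul]

theorem map_smul_top_le {V W : Type u} [AddCommGroup V] [Module R V] [AddCommGroup W] [Module R W]
    (φ : V →ₗ[R] W) (I : Ideal R) {v : V} (hv : v ∈ I • (⊤ : Submodule R V)) :
    φ v ∈ I • (⊤ : Submodule R W) := by
  have := Submodule.mem_map_of_mem (f := φ) hv
  rw [Submodule.map_smul''] at this
  exact Submodule.smul_mono le_rfl le_top this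

theorem exists_tensor_of_mem {V : Type u} [AddCommGroup V] [Module R V] (I : Ideal R) {v : V}
    (hv : v ∈ I • (⊤ : Submodule R V)) :
    ∃ y : I ⊗[R] V, TensorProduct.lid R V (LinearMap.rTensor V I.subtype y) = v := by
  refine Submodule.smul_induction_on hv (fun r hr w _ => ⟨(⟨r, hr⟩ : I) ⊗ₜ w, by simp⟩) ?_
  rintro v w ⟨a, rfl⟩ ⟨b, rfl⟩
  exact ⟨a + b, by simp⟩

theorem lid_mem_smul_top {V : Type u} [AddCommGroup V] [Module R V] (I : Ideal R)
    (y : I ⊗[R] V) :
    TensorProduct.lid R V (LinearMap.rTensor V I.subtype y) ∈ I • (⊤ : Submodule R V) := by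
  induction y with
  | zero => simp
  | tmul r v => simpa using Submodule.smul_mem_smul r.2 (Submodule.mem_top : v ∈ ⊤)
  | add a b ha hb => simpa using add_mem ha hb

theorem natural_lid {V W : Type u} [AddCommGroup V] [Module R V] [AddCommGroup W] [Module R W]
    (φ : V →ₗ[R] W) (I : Ideal R) (y : I ⊗[R] V) :
    TensorProduct.lid R W (LinearMap.rTensor W I.subtype (φ.lTensor I y)) =
      φ (TensorProduct.lid R V (LinearMap.rTensor V I.subtype y)) := by
  induction y with
  | zero => simp
  | tmul r v => simp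
  | add a b ha hb => simp [ha, hb]

theorem injective_sub {S P : Type u} [CommRing S] [AddCommGroup P] [Module S P]
    (N : Module.End S P) (x : S) (M : ℕ) (hN : N ^ M = 0) (hreg : IsSMulRegular P (x ^ M)) :
    Function.Injective (x • (1 : Module.End S P) - N) := by
  have hgeom := ((Commute.one_left N).smul_left x).geom_sum₂_mul M
  rw [hN, sub_zero, smul_pow, one_pow] at hgeom
  refine (injective_iff_map_eq_zero _).mpr fun v hv => hreg ?_
  have := LinearMap.congr_fun hgeom v
  rw [Module.End.mul_apply, hv, map_zero] at this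
  simpa using this.symm

theorem schanuel {S F P : Type u} [CommRing S] [AddCommGroup F] [Module S F] [Module.Projective S F]
    [AddCommGroup P] [Module S P] [Module.Projective S P] (Λ : Submodule S F)
    (ev : P →ₗ[S] F ⧸ Λ) (D : P →ₗ[S] P) (hinj : Function.Injective D)
    (hsurj : Function.Surjective ev) (hevD : ∀ v, ev (D v) = 0)
    (hker : ∀ v, ev v = 0 → v ∈ LinearMap.range D) : Module.Projective S Λ := by
  obtain ⟨l, hl⟩ := Module.projective_lifting_property Λ.mkQ ev Λ.mkQ_surjective
  obtain ⟨l', hl'⟩ := Module.projective_lifting_property ev Λ.mkQ hsurj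
  let e : P ≃ₗ[S] LinearMap.range D := LinearEquiv.ofInjective D hinj
  have hjmem : ∀ a : Λ, l' (a : F) ∈ LinearMap.range D := fun a =>
    hker _ ((LinearMap.congr_fun hl' _).trans ((Submodule.Quotient.mk_eq_zero Λ).mpr a.2))
  let j : Λ →ₗ[S] F × LinearMap.range D :=
    Λ.subtype.prod (LinearMap.codRestrict _ (l'.comp Λ.subtype) hjmem)
  let π : F × LinearMap.range D →ₗ[S] Λ :=
    LinearMap.codRestrict Λ ((LinearMap.id - l.comp l').coprod (l.comp (LinearMap.range D).subtype))
      (fun v => by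
        obtain ⟨f, ⟨_, w, rfl⟩⟩ := v
        have h1 := LinearMap.congr_fun hl (l' f)
        have h2 := LinearMap.congr_fun hl' f
        have h3 := LinearMap.congr_fun hl (D w)
        simp only [LinearMap.comp_apply, hevD] at h1 h2 h3
        rw [← Submodule.Quotient.mk_eq_zero, ← Submodule.mkQ_apply]
        simp [LinearMap.coprod_apply, h1, h2, h3, map_sub, map_add])
  have : Module.Projective S (LinearMap.range D) := Module.Projective.of_equiv e
  exact Module.Projective.of_split j π (by
    ext a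
    simp only [j, π, LinearMap.comp_apply, LinearMap.prod_apply, LinearMap.id_apply]
    exact sub_add_cancel (a : F) (l (l' (a : F))))

theorem projective_quotient {n M : ℕ} (Λ : Submodule R⟦X⟧ (Fin n → R⟦X⟧))
    (hΛ : ∀ v : Fin n → R⟦X⟧, ((X : R⟦X⟧) ^ M) • v ∈ Λ)
    [Module.Finite R⟦X⟧ Λ] [Module.Projective R⟦X⟧ Λ] :
    Module.Projective R ((Fin n → R⟦X⟧) ⧸ Λ) := by
  let q : (Fin n → R⟦X⟧) →ₗ[R] (Fin n → R⟦X⟧) ⧸ Λ := Λ.mkQ.restrictScalars R
  let qT := q ∘ₗ lift' (R := R) n M
  have hq0 : ∀ f, q f = 0 ↔ f ∈ Λ := fun f => Submodule.Quotient.mk_eq_zero Λ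
  have hqtr : ∀ f, qT (tr n M f) = q f := by
    intro f
    conv_rhs => rw [decomp n M f, map_add, (hq0 _).mpr (hΛ _), add_zero]
    rfl
  have hsurj : Function.Surjective qT := fun x => by
    obtain ⟨f, rfl⟩ := Submodule.Quotient.mk_surjective Λ x
    exact ⟨_, hqtr f⟩
  obtain ⟨m, G, hG⟩ := Module.Finite.exists_fin' R⟦X⟧ Λ
  obtain ⟨σ, hσ⟩ := Module.projective_lifting_property G LinearMap.id hG
  let GR : (Fin m → R⟦X⟧) →ₗ[R] Λ := G.restrictScalars R
  let trΛ : Λ →ₗ[R] LinearMap.ker qT :=
    LinearMap.codRestrict _ ((tr n M).comp (Λ.subtype.restrictScalars R)) (fun y => by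
      rw [LinearMap.mem_ker]
      exact (hqtr _).trans ((hq0 _).mpr y.2))
  have hfg : (LinearMap.ker qT).FG := by
    have hrange : LinearMap.ker qT =
        LinearMap.range ((LinearMap.ker qT).subtype ∘ₗ trΛ ∘ₗ GR ∘ₗ lift' m M) := by
      refine le_antisymm (fun c hc => ?_) ?_
      · obtain ⟨v, hv⟩ := hG ⟨lift' n M c, (hq0 _).mp hc⟩
        refine ⟨tr m M v, ?_⟩
        have h1 : tr n M (G v : Fin n → R⟦X⟧) =
            tr n M (G (lift' m M (tr m M v)) : Fin n → R⟦X⟧) := by
          conv_lhs => rw [decomp m M v, map_add, map_smul, Submodule.coe_add, Submodule.coe_smul,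
            map_add, tr_X_pow_smul, add_zero]
        change tr n M (G (lift' m M (tr m M v)) : Fin n → R⟦X⟧) = c
        rw [← h1, hv]
        exact tr_lift n M c
      · rintro _ ⟨v, rfl⟩
        exact (trΛ _).2
    rw [hrange]
    exact Module.Finite.iff_fg.mp (Module.Finite.range _)
  have hfp : Module.FinitePresentation R ((Fin n → R⟦X⟧) ⧸ Λ) :=
    Module.finitePresentation_of_surjective qT hsurj hfg
  have hflat : Module.Flat R ((Fin n → R⟦X⟧) ⧸ Λ) := by
    refine Module.Flat.iff_rTensor_injective'.mpr fun I => (injective_iff_map_eq_zero _).mpr ?_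
    intro x hx
    obtain ⟨y, rfl⟩ := LinearMap.lTensor_surjective I hsurj x
    let z := TensorProduct.lid R _ (LinearMap.rTensor (Fin n × Fin M → R) I.subtype y)
    have hz : qT z = 0 := by rw [← natural_lid, hx, map_zero]
    have hTz : lift' n M z ∈ Λ := (hq0 _).mp hz
    let w : Λ := ⟨lift' n M z, hTz⟩
    have hw : w ∈ I • (⊤ : Submodule R Λ) := by
      let μ : (Fin n → R⟦X⟧) →ₗ[R] Λ :=
        LinearMap.codRestrict (Λ.restrictScalars R)
          ((LinearMap.lsmul R⟦X⟧ (Fin n → R⟦X⟧) ((X : R⟦X⟧) ^ M)).restrictScalars R) hΛ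
      have h1 : μ (lift' n M z) ∈ I • (⊤ : Submodule R Λ) :=
        map_smul_top_le μ I (map_smul_top_le (lift' n M) I (lid_mem_smul_top I y))
      have h2 : μ (lift' n M z) = ((X : R⟦X⟧) ^ M) • w := rfl
      rw [h2] at h1
      have h3 := map_smul_top_le (shiftM m M) I (map_smul_top_le (σ.restrictScalars R) I h1)
      rw [LinearMap.restrictScalars_apply, map_smul, shiftM_X_pow_smul] at h3
      have h4 := map_smul_top_le GR I h3
      rwa [show GR (σ w) = w from LinearMap.congr_fun hσ w] at h4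
    obtain ⟨y', hy'⟩ := exists_tensor_of_mem I (map_smul_top_le trΛ I hw)
    have hyy : (LinearMap.ker qT).subtype.lTensor I y' = y := by
      apply Module.Flat.rTensor_preserves_injective_linearMap (M := (Fin n × Fin M → R))
        I.subtype Subtype.val_injective
      apply (TensorProduct.lid R _).injective
      rw [natural_lid, hy']
      exact tr_lift n M z
    rw [← hyy, ← LinearMap.comp_apply, ← LinearMap.lTensor_comp, LinearMap.comp_ker_subtype,
      LinearMap.lTensor_zero, LinearMap.zero_apply]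
  exact Module.Flat.projective_of_finitePresentation

theorem finite_projective_of_projective_quotient {n M : ℕ}
    (Λ : Submodule R⟦X⟧ (Fin n → R⟦X⟧)) (hΛ : ∀ v : Fin n → R⟦X⟧, ((X : R⟦X⟧) ^ M) • v ∈ Λ)
    [Module.Projective R ((Fin n → R⟦X⟧) ⧸ Λ)] :
    Module.Finite R⟦X⟧ Λ ∧ Module.Projective R⟦X⟧ Λ := by
  classical
  let Q := (Fin n → R⟦X⟧) ⧸ Λ
  let q : (Fin n → R⟦X⟧) →ₗ[R] Q := Λ.mkQ.restrictScalars R
  let qT := q ∘ₗ lift' (R := R) n M
  have hq0 : ∀ f, q f = 0 ↔ f ∈ Λ := fun f => Submodule.Quotient.mk_eq_zero Λ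
  have hqtr : ∀ f, qT (tr n M f) = q f := by
    intro f
    conv_rhs => rw [decomp n M f, map_add, (hq0 _).mpr (hΛ _), add_zero]
    rfl
  have hsurj : Function.Surjective qT := fun x => by
    obtain ⟨f, rfl⟩ := Submodule.Quotient.mk_surjective Λ x
    exact ⟨_, hqtr f⟩
  have hQfin : Module.Finite R Q := Module.Finite.of_surjective qT hsurj
  have hQfp : Module.FinitePresentation R Q := Module.finitePresentation_of_projective R Q
  refine ⟨?_, ?_⟩
  · obtain ⟨gens, hgens⟩ := Module.FinitePresentation.fg_ker qT hsurj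
    refine Module.Finite.iff_fg.mpr ⟨gens.image (lift' n M) ∪
      Finset.univ.image (fun i => ((X : R⟦X⟧) ^ M) • (Pi.single i 1 : Fin n → R⟦X⟧)), ?_⟩
    refine le_antisymm (Submodule.span_le.mpr ?_) fun f hf => ?_
    · intro f hf
      rcases Finset.mem_union.mp hf with h | h
      · obtain ⟨c, hc, rfl⟩ := Finset.mem_image.mp h
        refine (hq0 _).mp (?_ : qT c = 0)
        rw [← LinearMap.mem_ker, ← hgens]
        exact Submodule.subset_span hc
      · obtain ⟨i, -, rfl⟩ := Finset.mem_image.mp h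
        exact hΛ _
    · rw [decomp n M f]
      refine add_mem ?_ ?_
      · have hc : tr n M f ∈ LinearMap.ker qT := by
          rw [LinearMap.mem_ker]
          exact (hqtr f).trans ((hq0 f).mpr hf)
        rw [← hgens] at hc
        have := Submodule.mem_map_of_mem (f := lift' n M) hc
        rw [Submodule.map_span] at this
        refine Submodule.span_mono ?_ (Submodule.span_le_restrictScalars R R⟦X⟧ _ this)
        intro g hg
        obtain ⟨c, hc, rfl⟩ := hg
        exact Finset.mem_union_left _ (Finset.mem_image_of_mem _ hc)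
      · have hsum : ((X : R⟦X⟧) ^ M) • shiftM n M f = ∑ i, shiftM n M f i •
            (((X : R⟦X⟧) ^ M) • (Pi.single i 1 : Fin n → R⟦X⟧)) := by
          funext k
          simp [Finset.sum_apply, Pi.single_apply, mul_comm]
        rw [hsum]
        exact Submodule.sum_mem _ fun i _ => Submodule.smul_mem _ _ (Submodule.subset_span
          (Finset.mem_union_right _ (Finset.mem_image_of_mem _ (Finset.mem_univ i))))
  · have hXM : ∀ x : Q, ((X : R⟦X⟧) ^ M) • x = 0 := by
      intro x
      obtain ⟨f, rfl⟩ := Submodule.Quotient.mk_surjective Λ x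
      exact (hq0 _).mpr (hΛ f)
    let ev : R⟦X⟧ ⊗[R] Q →ₗ[R⟦X⟧] Q := LinearMap.liftBaseChange R⟦X⟧ (LinearMap.id : Q →ₗ[R] Q)
    let ν : Q →ₗ[R] Q := (LinearMap.lsmul R⟦X⟧ Q X).restrictScalars R
    let N : Module.End R⟦X⟧ (R⟦X⟧ ⊗[R] Q) := LinearMap.baseChange R⟦X⟧ ν
    let D : Module.End R⟦X⟧ (R⟦X⟧ ⊗[R] Q) := (X : R⟦X⟧) • (1 : Module.End R⟦X⟧ (R⟦X⟧ ⊗[R] Q)) - N
    have hD : ∀ (s : R⟦X⟧) (x : Q), D (s ⊗ₜ x) = (X * s) ⊗ₜ x - s ⊗ₜ ((X : R⟦X⟧) • x) :=
      fun s x => by
        have hN : N (s ⊗ₜ x) = s ⊗ₜ ((X : R⟦X⟧) • x) := LinearMap.baseChange_tmul (A := R⟦X⟧) (f := ν) s x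
        simp only [D, LinearMap.sub_apply, LinearMap.smul_apply, Module.End.one_apply, hN,
          TensorProduct.smul_tmul', smul_eq_mul]
    have hev : ∀ (s : R⟦X⟧) (x : Q), ev (s ⊗ₜ x) = s • x := fun s x => LinearMap.liftBaseChange_tmul _ _ _ _
    have hevD : ∀ v, ev (D v) = 0 := by
      intro v
      induction v with
      | zero => simp
      | tmul s x =>
        rw [hD, map_sub, hev, hev, sub_eq_zero, mul_comm, mul_smul]
      | add a b ha hb => rw [map_add, map_add, ha, hb, add_zero]
    have hred : ∀ (a : ℕ) (s : R⟦X⟧) (x : Q), ((X : R⟦X⟧) ^ a) • x = 0 →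
        s ⊗ₜ[R] x - (1 : R⟦X⟧) ⊗ₜ[R] (s • x) ∈ LinearMap.range D := by
      intro a
      induction a with
      | zero =>
        intro s x hx
        rw [pow_zero, one_smul] at hx
        simp [hx]
      | succ a ih =>
        intro s x hx
        obtain ⟨s', c, rfl⟩ : ∃ (s' : R⟦X⟧) (c : R), s = X * s' + C c :=
          ⟨_, _, eq_X_mul_shift_add_const s⟩
        have hCx : (C c : R⟦X⟧) ⊗ₜ[R] x = (1 : R⟦X⟧) ⊗ₜ[R] ((C c : R⟦X⟧) • x) := by
          have h1 : (C c : R⟦X⟧) = algebraMap R R⟦X⟧ c := by rw [PowerSeries.algebraMap_eq]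
          rw [h1, algebraMap_smul, ← smul_tmul, Algebra.smul_def, mul_one]
        have hD' := LinearMap.mem_range_self D (s' ⊗ₜ x)
        rw [hD] at hD'
        have hrec := ih s' ((X : R⟦X⟧) • x) (by rw [← mul_smul, ← pow_succ]; exact hx)
        rw [← mul_smul, mul_comm s' X] at hrec
        convert add_mem hD' hrec using 1
        rw [TensorProduct.add_tmul, add_smul, TensorProduct.tmul_add, hCx]
        abel
    have hker : ∀ v, ev v = 0 → v ∈ LinearMap.range D := by
      intro v hv
      have : v - (1 : R⟦X⟧) ⊗ₜ[R] (ev v) ∈ LinearMap.range D := by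
        clear hv
        induction v with
        | zero => simp
        | tmul s x => rw [hev]; exact hred M s x (hXM x)
        | add a b ha hb =>
          rw [map_add, TensorProduct.tmul_add]
          convert add_mem ha hb using 1
          abel
      rwa [hv, TensorProduct.tmul_zero, sub_zero] at this
    have hν : ν ^ M = 0 := by
      refine LinearMap.ext fun x => ?_
      have : ∀ a : ℕ, ∀ x : Q, (ν ^ a) x = ((X : R⟦X⟧) ^ a) • x := by
        intro a
        induction a with
        | zero => intro x; rw [pow_zero, pow_zero, one_smul]; rfl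
        | succ a ih =>
          intro x
          rw [pow_succ', Module.End.mul_apply, ih, pow_succ', mul_smul]
          rfl
      rw [this, hXM, LinearMap.zero_apply]
    have hinj : Function.Injective D := by
      refine injective_sub N X M ?_ (Module.Flat.isSMulRegular_of_nonZeroDivisors
        (mem_nonZeroDivisors_iff_right.mpr fun a h => X_pow_mul_cancel (k := M) (by rw [mul_zero, mul_comm]; exact h)))
      exact (LinearMap.baseChange_pow R R⟦X⟧ Q ν M).symm.trans (by rw [hν, LinearMap.baseChange_zero])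
    exact schanuel Λ ev D hinj (fun x => ⟨1 ⊗ₜ x, by rw [hev, one_smul]⟩) hevD hker


/-- Let k be a field, R a commutative k-algebra, n, M natural numbers and Λ an R⟦X⟧-submodule of the
free module R⟦X⟧^n with X^M · R⟦X⟧^n ⊆ Λ. Then Λ is a finitely generated projective R⟦X⟧-module if
and only if the quotient R⟦X⟧^n / Λ is projective as an R-module. (The published statement
identifies, functorially in R, the families of lattices between t^N Λ₀ and t^{-N} Λ₀ in R((t))^n, Λ₀
the standard lattice, with the R⟦t⟧-submodules in that range whose quotient t^{-N} Λ₀ / Λ is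
R-projective; after multiplying by t^N this is the pointwise statement here, with 2N replaced by any
exponent M; a submodule containing X^M · R⟦X⟧^n automatically spans R((X))^n.) -/
theorem result
    (k : Type u) [Field k] (R : Type u) [CommRing R] [Algebra k R] (n M : ℕ)
    (Λ : Submodule R⟦X⟧ (Fin n → R⟦X⟧))
    (hΛ : ∀ v : Fin n → R⟦X⟧, ((PowerSeries.X : R⟦X⟧) ^ M) • v ∈ Λ) :
    (Module.Finite R⟦X⟧ Λ ∧ Module.Projective R⟦X⟧ Λ) ↔
      Module.Projective R ((Fin n → R⟦X⟧) ⧸ Λ) := by
  constructor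
  · rintro ⟨h1, h2⟩
    exact projective_quotient Λ hΛ
  · intro h
    exact finite_projective_of_projective_quotient Λ hΛ

end Groth.Agent.S19306
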