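import Groth.Statements.S19310
import Groth.Agent.FBase64.TensorField
import Mathlib.RingTheory.Filtration
import Mathlib.LinearAlgebra.TensorProduct.Basis
import Mathlib.RingTheory.FiniteType
import Mathlib.RingTheory.Flat.Basic
import Mathlib.LinearAlgebra.Dual.Lemmas

set_option autoImplicit false
universe u
open TensorProduct
open CAlg

namespace Groth.Agent.S19310

open TensorProduct IsLocalRing

variable {k A : Type u} [Field k] [CommRing A] [Algebra k A]

theorem semilinear {T K : Type u} [CommRing T] [Algebra k T] [CommRing K] [Algebra k K] [Algebra T K]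
    [IsScalarTower k T K] (I : Ideal T) (φ : I →ₗ[T] K) (g : T ⊗[k] A) (f' : I ⊗[k] A) :
    ∃ h : I ⊗[k] A,
      (I.subtype.restrictScalars k).rTensor A h = g * (I.subtype.restrictScalars k).rTensor A f' ∧
      (φ.restrictScalars k).rTensor A h =
        Algebra.TensorProduct.map (IsScalarTower.toAlgHom k T K) (AlgHom.id k A) g *
          (φ.restrictScalars k).rTensor A f' := by
  induction g with
  | zero => exact ⟨0, by simp, by simp⟩
  | add g₁ g₂ h₁ h₂ =>
    obtain ⟨a, ha, ha'⟩ := h₁
    obtain ⟨b, hb, hb'⟩ := h₂
    exact ⟨a + b, by rw [map_add, ha, hb, add_mul], by rw [map_add, ha', hb', map_add, add_mul]⟩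
  | tmul t a =>
    induction f' with
    | zero => exact ⟨0, by simp, by simp⟩
    | add f₁ f₂ h₁ h₂ =>
      obtain ⟨x, hx, hx'⟩ := h₁
      obtain ⟨y, hy, hy'⟩ := h₂
      exact ⟨x + y, by rw [map_add, hx, hy, map_add, mul_add], by
        rw [map_add, hx', hy', map_add, mul_add]⟩
    | tmul x a' =>
      refine ⟨(t • x) ⊗ₜ (a * a'), ?_, ?_⟩
      · simp [Algebra.TensorProduct.tmul_mul_tmul]
      · simp [Algebra.TensorProduct.tmul_mul_tmul, Algebra.smul_def]

variable {ι : Type u} (b : Module.Basis ι k A)

theorem coord_rTensor {M N : Type u} [AddCommGroup M] [Module k M] [AddCommGroup N] [Module k N]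
    [DecidableEq ι] (φ : M →ₗ[k] N) (x : M ⊗[k] A) (i : ι) :
    TensorProduct.equivFinsuppOfBasisRight b (φ.rTensor A x) i =
      φ (TensorProduct.equivFinsuppOfBasisRight b x i) := by
  induction x with
  | zero => simp
  | tmul m a => simp
  | add x y hx hy => simp [hx, hy]

theorem basis_repr_eq {R : Type u} [CommRing R] [Algebra k R] [DecidableEq ι] (x : R ⊗[k] A) (i : ι) :
    (Algebra.TensorProduct.basis R b).repr x i = TensorProduct.equivFinsuppOfBasisRight b x i := by
  induction x with
  | zero => simp
  | tmul r a => simp [Algebra.TensorProduct.basis_repr_tmul, Algebra.smul_def, mul_comm]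
  | add x y hx hy => simp [hx, hy]

theorem mem_map_of_coord {R : Type u} [CommRing R] [Algebra k R] (q : Ideal R) (x : R ⊗[k] A)
    (h : ∀ i, (Algebra.TensorProduct.basis R b).repr x i ∈ q) :
    x ∈ q.map (Algebra.TensorProduct.includeLeftRingHom : R →+* R ⊗[k] A) := by
  rw [← (Algebra.TensorProduct.basis R b).linearCombination_repr x, Finsupp.linearCombination_apply]
  refine Ideal.sum_mem _ fun i _ => ?_
  simp only [Algebra.smul_def]
  exact Ideal.mul_mem_right _ _ (Ideal.mem_map_of_mem _ (h i))

/-- An element whose residue is a non-zero-divisor is a non-zero-divisor. -/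
theorem eq_zero_of_mul_eq_zero {T : Type u} [CommRing T] [Algebra k T] [IsLocalRing T]
    [IsNoetherianRing T] [NoZeroDivisors ((T ⧸ maximalIdeal T) ⊗[k] A)] (g f : T ⊗[k] A)
    (hg : Algebra.TensorProduct.map (IsScalarTower.toAlgHom k T (T ⧸ maximalIdeal T))
      (AlgHom.id k A) g ≠ 0) (hgf : g * f = 0) : f = 0 := by
  classical
  let b := Module.Free.chooseBasis k A
  apply (TensorProduct.equivFinsuppOfBasisRight (M := T) b).injective
  rw [map_zero]
  set r := TensorProduct.equivFinsuppOfBasisRight (M := T) b f with hr
  suffices h : ∀ n i, r i ∈ (maximalIdeal T) ^ n by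
    ext i
    rw [Finsupp.zero_apply, ← Ideal.mem_bot, ← Ideal.iInf_pow_eq_bot_of_isLocalRing (maximalIdeal T)
      (maximalIdeal.isMaximal T).ne_top, Submodule.mem_iInf]
    exact fun n => h n i
  intro n
  induction n with
  | zero => intro i; simp
  | succ n ih =>
    let I : Ideal T := maximalIdeal T ^ n
    let r' : _ →₀ I := Finsupp.onFinset r.support (fun i => ⟨r i, ih i⟩) (fun i hi => by
      rw [Finsupp.mem_support_iff]
      intro h0
      exact hi (Subtype.ext h0))
    let f' : I ⊗[k] A := (TensorProduct.equivFinsuppOfBasisRight b).symm r'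
    have hf' : (I.subtype.restrictScalars k).rTensor A f' = f := by
      apply (TensorProduct.equivFinsuppOfBasisRight (M := T) b).injective
      ext i
      rw [coord_rTensor, LinearEquiv.apply_symm_apply]
      rfl
    intro i
    have hmem : r' i ∈ maximalIdeal T • (⊤ : Submodule T I) := by
      rw [← Submodule.Quotient.mk_eq_zero]
      let := Ideal.Quotient.field (maximalIdeal T)
      rw [← Module.forall_dual_apply_eq_zero_iff (T ⧸ maximalIdeal T)]
      intro μ
      let φ : I →ₗ[T] T ⧸ maximalIdeal T :=
        (μ.restrictScalars T).comp (maximalIdeal T • (⊤ : Submodule T I)).mkQ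
      obtain ⟨h, h1, h2⟩ := semilinear I φ g f'
      rw [hf', hgf] at h1
      have hh : h = 0 := Module.Flat.rTensor_preserves_injective_linearMap (M := A)
        (I.subtype.restrictScalars k) Subtype.val_injective (by rw [h1, map_zero])
      rw [hh, map_zero, eq_comm, mul_eq_zero] at h2
      have := congrArg (fun z => TensorProduct.equivFinsuppOfBasisRight b z i)
        (h2.resolve_left hg)
      simp only [coord_rTensor, f', LinearEquiv.apply_symm_apply, map_zero, Finsupp.zero_apply] at this
      exact this
    have := Submodule.mem_map_of_mem (f := I.subtype) hmem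
    rw [Submodule.map_smul'', Submodule.map_top, Submodule.range_subtype, smul_eq_mul] at this
    rw [pow_succ']
    exact this


/-- Let k be an algebraically closed field, A a finitely generated k-algebra which is an integral domain
(X = Spec A an affine variety), R a commutative k-algebra, possibly non-reduced, and U an open
subset of X_R = Spec (R ⊗_k A) meeting every fibre of X_R → Spec R (a very dense open subset). Then
a regular function on X_R whose restriction to U vanishes is zero: if f ∈ R ⊗_k A maps to 0 in the
localisation (R ⊗_k A)[1/g] for every g with D(g) ⊆ U, then f = 0. (The published statement is that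
automorphisms of a torsor under a smooth affine group scheme over X_R which are the identity over a
very dense open subset are the identity, for X a smooth projective curve; its proof reduces this to
the present assertion about functions, for quasi-projective X; this row is the affine case.) -/
theorem result
    (k : Type u) [Field k] [IsAlgClosed k]
    (A : Type u) [CommRing A] [Algebra k A] [IsDomain A] [Algebra.FiniteType k A]
    (R : Type u) [CommRing R] [Algebra k R]
    (U : TopologicalSpace.Opens (PrimeSpectrum (TensorProduct k R A)))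
    (hsurj : ∀ q : PrimeSpectrum R, ∃ P ∈ U,
      PrimeSpectrum.comap (Algebra.TensorProduct.includeLeftRingHom : R →+* TensorProduct k R A) P = q)
    (f : TensorProduct k R A)
    (hf : ∀ g : TensorProduct k R A, (PrimeSpectrum.basicOpen g : Set (PrimeSpectrum (TensorProduct k R A))) ⊆ U →
      algebraMap (TensorProduct k R A) (Localization.Away g) f = 0) :
    f = 0 := by
  classical
  let b := Module.Free.chooseBasis k A
  apply (Algebra.TensorProduct.basis R b).repr.injective
  rw [map_zero]
  ext i
  rw [Finsupp.zero_apply]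
  by_contra hne
  obtain ⟨q, hq, hle⟩ := Ideal.exists_le_maximal (Ideal.span {(1 : R)} ⊓ Submodule.colon ⊥ {(Algebra.TensorProduct.basis R b).repr f i})
    (fun htop => hne (by
      have h1 : (1 : R) ∈ Ideal.span {(1 : R)} ⊓ Submodule.colon ⊥ {(Algebra.TensorProduct.basis R b).repr f i} :=
        htop ▸ Submodule.mem_top
      simpa [Submodule.mem_colon_singleton] using h1.2))
  obtain ⟨P, hPU, hPq⟩ := hsurj ⟨q, hq.isPrime⟩
  obtain ⟨-, ⟨g, rfl⟩, hPg, hgU⟩ :=
    PrimeSpectrum.isTopologicalBasis_basic_opens.exists_subset_of_mem_open hPU U.2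
  obtain ⟨⟨_, N, rfl⟩, hN⟩ := (IsLocalization.map_eq_zero_iff (Submonoid.powers g) _ f).mp (hf g hgU)
  have hgP : g ^ N ∉ P.asIdeal := fun h => hPg (P.isPrime.mem_of_pow_mem N h)
  let B0 : Subalgebra k R := Algebra.adjoin k
    ((((Algebra.TensorProduct.basis R b).repr f).frange ∪
      ((Algebra.TensorProduct.basis R b).repr (g ^ N)).frange : Finset R) : Set R)
  have : IsNoetherianRing B0 := by
    have : Algebra.FiniteType k B0 :=
      ⟨(Subalgebra.fg_top B0).mpr (Subalgebra.fg_adjoin_finset _)⟩
    exact Algebra.FiniteType.isNoetherianRing k B0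
  have hlift : ∀ x : R ⊗[k] A, (∀ i, (Algebra.TensorProduct.basis R b).repr x i ∈ B0) →
      ∃ x0 : B0 ⊗[k] A, Algebra.TensorProduct.map B0.val (AlgHom.id k A) x0 = x := by
    intro x hx
    refine ⟨∑ j ∈ ((Algebra.TensorProduct.basis R b).repr x).support,
      (⟨_, hx j⟩ : B0) ⊗ₜ b j, ?_⟩
    conv_rhs => rw [← (Algebra.TensorProduct.basis R b).linearCombination_repr x,
      Finsupp.linearCombination_apply, Finsupp.sum]
    rw [map_sum]
    refine Finset.sum_congr rfl fun j _ => ?_
    simp [Algebra.TensorProduct.basis_apply, TensorProduct.smul_tmul']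
  have hfr : ∀ (x : R ⊗[k] A) (j), (Algebra.TensorProduct.basis R b).repr x j ≠ 0 →
      (Algebra.TensorProduct.basis R b).repr x j ∈
        ((Algebra.TensorProduct.basis R b).repr x).frange := fun x j hj =>
    Finsupp.mem_frange.mpr ⟨hj, j, rfl⟩
  obtain ⟨f0, hf0⟩ := hlift f fun j => by
    by_cases hj : (Algebra.TensorProduct.basis R b).repr f j = 0
    · rw [hj]; exact zero_mem _
    · exact Algebra.subset_adjoin (Finset.mem_union_left _ (hfr f j hj))
  obtain ⟨g0, hg0⟩ := hlift (g ^ N) fun j => by
    by_cases hj : (Algebra.TensorProduct.basis R b).repr (g ^ N) j = 0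
    · rw [hj]; exact zero_mem _
    · exact Algebra.subset_adjoin (Finset.mem_union_right _ (hfr _ j hj))
  have h00 : g0 * f0 = 0 := by
    apply Groth.Agent.FBase64.map_injective_left B0.val Subtype.val_injective
    rw [map_mul, map_zero, hg0, hf0]
    exact hN
  let q0 : Ideal B0 := q.comap B0.val
  have : q0.IsPrime := Ideal.IsPrime.comap _
  let T := Localization.AtPrime q0
  have hdom := Groth.Agent.FBase64.isDomain_tensor_of_isAlgClosed k (T ⧸ IsLocalRing.maximalIdeal T) A
  have hT : Algebra.TensorProduct.map (IsScalarTower.toAlgHom k B0 T) (AlgHom.id k A) f0 = 0 := by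
    refine eq_zero_of_mul_eq_zero
      (Algebra.TensorProduct.map (IsScalarTower.toAlgHom k B0 T) (AlgHom.id k A) g0) _ (fun h => ?_)
      (by rw [← map_mul, h00, map_zero])
    refine hgP ?_
    have hq' : q.map (Algebra.TensorProduct.includeLeftRingHom : R →+* R ⊗[k] A) ≤ P.asIdeal :=
      Ideal.map_le_iff_le_comap.mpr (le_of_eq (congrArg PrimeSpectrum.asIdeal hPq).symm)
    refine hq' (mem_map_of_coord b q _ fun j => ?_)
    have := congrArg (fun z => (Algebra.TensorProduct.basis _ b).repr z j) h
    simp only [Groth.Agent.FBase64.coord_map, map_zero, Finsupp.zero_apply] at this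
    rw [← hg0, Groth.Agent.FBase64.coord_map]
    have h2 := Ideal.Quotient.eq_zero_iff_mem.mp this
    have h3 : (Algebra.TensorProduct.basis B0 b).repr g0 j ∈
        (IsLocalRing.maximalIdeal T).under B0 := h2
    rw [IsLocalization.AtPrime.under_maximalIdeal T q0] at h3
    exact h3
  have := congrArg (fun z => (Algebra.TensorProduct.basis T b).repr z i) hT
  simp only [Groth.Agent.FBase64.coord_map, map_zero, Finsupp.zero_apply,
    IsScalarTower.coe_toAlgHom'] at this
  obtain ⟨⟨s, hs⟩, hs'⟩ := (IsLocalization.map_eq_zero_iff q0.primeCompl T _).mp this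
  refine hs (hle ⟨Ideal.mem_span_singleton.mpr (one_dvd _), ?_⟩)
  rw [SetLike.mem_coe, Submodule.mem_colon_singleton, Submodule.mem_bot, ← hf0,
    Groth.Agent.FBase64.coord_map, smul_eq_mul]
  exact (map_mul B0.val s _).symm.trans (by rw [hs', map_zero])

end Groth.Agent.S19310
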