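import Groth.Statements.S19308
import Groth.Agent.S19310
import Mathlib.RingTheory.Flat.Tensor

set_option autoImplicit false
universe u
open TensorProduct
open CAlg

namespace Groth.Agent.S19308


open Groth.Agent.S19310

variable {k A : Type u} [Field k] [IsAlgClosed k] [CommRing A] [Algebra k A] [IsDomain A]
  [Algebra.FiniteType k A] {ι : Type u} (b : Module.Basis ι k A)

/-- If one coordinate of `g` is a unit then `g` is a non-zero-divisor. -/
theorem eq_zero_of_isUnit_coord {R : Type u} [CommRing R] [Algebra k R] (g f : R ⊗[k] A) (i : ι)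
    (hu : IsUnit ((Algebra.TensorProduct.basis R b).repr g i)) (hgf : g * f = 0) : f = 0 := by
  classical
  apply (Algebra.TensorProduct.basis R b).repr.injective
  rw [map_zero]
  ext j
  rw [Finsupp.zero_apply]
  by_contra hne
  obtain ⟨q, hq, hle⟩ := Ideal.exists_le_maximal (Submodule.colon ⊥ {(Algebra.TensorProduct.basis R b).repr f j})
    (fun htop => hne (by
      have h1 : (1 : R) ∈ Submodule.colon ⊥ {(Algebra.TensorProduct.basis R b).repr f j} :=
        htop ▸ Submodule.mem_top
      simpa [Submodule.mem_colon_singleton] using h1))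
  obtain ⟨v, hv⟩ := hu.exists_left_inv
  let B0 : Subalgebra k R := Algebra.adjoin k
    ((((Algebra.TensorProduct.basis R b).repr f).frange ∪
      ((Algebra.TensorProduct.basis R b).repr g).frange ∪ {v} : Finset R) : Set R)
  have : IsNoetherianRing B0 := by
    have : Algebra.FiniteType k B0 :=
      ⟨(Subalgebra.fg_top B0).mpr (Subalgebra.fg_adjoin_finset _)⟩
    exact Algebra.FiniteType.isNoetherianRing k B0
  have hlift : ∀ x : R ⊗[k] A, (∀ j, (Algebra.TensorProduct.basis R b).repr x j ∈ B0) →
      ∃ x0 : B0 ⊗[k] A, Algebra.TensorProduct.map B0.val (AlgHom.id k A) x0 = x := by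
    intro x hx
    refine ⟨∑ j ∈ ((Algebra.TensorProduct.basis R b).repr x).support,
      (⟨_, hx j⟩ : B0) ⊗ₜ b j, ?_⟩
    conv_rhs => rw [← (Algebra.TensorProduct.basis R b).linearCombination_repr x,
      Finsupp.linearCombination_apply, Finsupp.sum]
    rw [map_sum]
    refine Finset.sum_congr rfl fun j _ => ?_
    simp [Algebra.TensorProduct.basis_apply, TensorProduct.smul_tmul']
  have hfr : ∀ (x : R ⊗[k] A), (((Algebra.TensorProduct.basis R b).repr x).frange : Set R) ⊆ B0 →
      ∀ j, (Algebra.TensorProduct.basis R b).repr x j ∈ B0 := fun x hx j => by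
    by_cases hj : (Algebra.TensorProduct.basis R b).repr x j = 0
    · rw [hj]; exact zero_mem _
    · exact hx (Finsupp.mem_frange.mpr ⟨hj, j, rfl⟩)
  obtain ⟨f0, hf0⟩ := hlift f (hfr f fun x hx => Algebra.subset_adjoin (by simp [Finset.mem_coe.mp hx]))
  obtain ⟨g0, hg0⟩ := hlift g (hfr g fun x hx => Algebra.subset_adjoin (by simp [Finset.mem_coe.mp hx]))
  have h00 : g0 * f0 = 0 := by
    apply Groth.Agent.FBase64.map_injective_left B0.val Subtype.val_injective
    rw [map_mul, map_zero, hg0, hf0, hgf]
  let q0 : Ideal B0 := q.comap B0.val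
  have : q0.IsPrime := Ideal.IsPrime.comap _
  let T := Localization.AtPrime q0
  have hdom := Groth.Agent.FBase64.isDomain_tensor_of_isAlgClosed k (T ⧸ IsLocalRing.maximalIdeal T) A
  have hu0 : IsUnit ((Algebra.TensorProduct.basis B0 b).repr g0 i) := by
    refine IsUnit.of_mul_eq_one (⟨v, Algebra.subset_adjoin (by simp)⟩ : B0) (Subtype.ext ?_)
    have h : ((Algebra.TensorProduct.basis B0 b).repr g0 i : R) = (Algebra.TensorProduct.basis R b).repr g i := by
      rw [← hg0, Groth.Agent.FBase64.coord_map]; rfl
    show ((Algebra.TensorProduct.basis B0 b).repr g0 i : R) * v = 1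
    rw [h, mul_comm, hv]
  have hT : Algebra.TensorProduct.map (IsScalarTower.toAlgHom k B0 T) (AlgHom.id k A) f0 = 0 := by
    refine eq_zero_of_mul_eq_zero
      (Algebra.TensorProduct.map (IsScalarTower.toAlgHom k B0 T) (AlgHom.id k A) g0) _ (fun h => ?_)
      (by rw [← map_mul, h00, map_zero])
    have h1 := congrArg (fun z => (Algebra.TensorProduct.basis _ b).repr z i) h
    simp only [Groth.Agent.FBase64.coord_map, map_zero, Finsupp.zero_apply] at h1
    exact (hu0.map ((IsScalarTower.toAlgHom k T (T ⧸ IsLocalRing.maximalIdeal T)).comp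
      (IsScalarTower.toAlgHom k B0 T))).ne_zero h1
  have := congrArg (fun z => (Algebra.TensorProduct.basis T b).repr z j) hT
  simp only [Groth.Agent.FBase64.coord_map, map_zero, Finsupp.zero_apply,
    IsScalarTower.coe_toAlgHom'] at this
  obtain ⟨⟨s, hs⟩, hs'⟩ := (IsLocalization.map_eq_zero_iff q0.primeCompl T _).mp this
  refine hs (hle ?_)
  rw [Submodule.mem_colon_singleton, Submodule.mem_bot, ← hf0, Groth.Agent.FBase64.coord_map, smul_eq_mul]
  exact (map_mul B0.val s _).symm.trans (by rw [hs', map_zero])

theorem map_coord {R S : Type u} [CommRing R] [Algebra k R] [CommRing S] [Algebra k S] (φ : R →ₐ[k] S)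
    (x : R ⊗[k] A) (i : ι) :
    (Algebra.TensorProduct.basis S b).repr (Algebra.TensorProduct.map φ (AlgHom.id k A) x) i =
      φ ((Algebra.TensorProduct.basis R b).repr x i) :=
  Groth.Agent.FBase64.coord_map _ _ _ _

/-- The quotient by an element with a unit coordinate is flat. -/
theorem flat_quotient {R : Type u} [CommRing R] [Algebra k R] (g : R ⊗[k] A) (i : ι)
    (hu : IsUnit ((Algebra.TensorProduct.basis R b).repr g i)) :
    Module.Flat R ((R ⊗[k] A) ⧸ Ideal.span {g}) := by
  classical
  let F := R ⊗[k] A
  let q : F →ₗ[R] F ⧸ Ideal.span {g} := ((Ideal.Quotient.mkₐ R (Ideal.span {g})) : F →ₐ[R] _).toLinearMap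
  have hq : Function.Surjective q := Ideal.Quotient.mk_surjective
  haveI : Module.Flat R F := Module.Flat.of_free
  rw [Module.Flat.iff_rTensor_injective']
  intro I
  rw [injective_iff_map_eq_zero]
  intro z hz
  obtain ⟨z', rfl⟩ := LinearMap.lTensor_surjective I hq z
  let a : I ⊗[R] F →ₗ[R] F := (TensorProduct.lid R F).toLinearMap ∘ₗ I.subtype.rTensor F
  have ha : Function.Injective a :=
    (TensorProduct.lid R F).injective.comp (Module.Flat.rTensor_preserves_injective_linearMap _ Subtype.val_injective)
  have hq2 : ∀ w : I ⊗[R] F, TensorProduct.lid R _ (I.subtype.rTensor _ (q.lTensor I w)) = q (a w) := fun w => by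
    induction w with
    | zero => simp
    | tmul x y => simp [a]
    | add x y hx hy => simp only [map_add, hx, hy]
  have h1 : q (a z') = 0 := by rw [← hq2, hz, map_zero]
  obtain ⟨y, hy⟩ := Ideal.mem_span_singleton.mp (Ideal.Quotient.eq_zero_iff_mem.mp h1)
  -- `y` has coordinates in `I`
  have hI : ∀ w : I ⊗[R] F, ∀ j, (Algebra.TensorProduct.basis R b).repr (a w) j ∈ I := fun w j => by
    induction w with
    | zero => simp
    | tmul x y =>
      simp only [a, LinearMap.comp_apply, LinearMap.rTensor_tmul, LinearEquiv.coe_coe, TensorProduct.lid_tmul,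
        map_smul, Finsupp.smul_apply, smul_eq_mul]
      exact I.mul_mem_right _ x.2
    | add x y hx hy => rw [map_add, map_add, Finsupp.add_apply]; exact add_mem hx hy
  have hy' : ∀ j, (Algebra.TensorProduct.basis R b).repr y j ∈ I := by
    let π := Ideal.Quotient.mkₐ k I
    have h0 : Algebra.TensorProduct.map π (AlgHom.id k A) y = 0 := by
      refine eq_zero_of_isUnit_coord b (Algebra.TensorProduct.map π (AlgHom.id k A) g) _ i ?_ ?_
      · rw [map_coord]; exact hu.map π
      · rw [← map_mul, ← hy]
        refine (Algebra.TensorProduct.basis (R ⧸ I) b).repr.injective (Finsupp.ext fun j => ?_)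
        rw [map_coord, map_zero, Finsupp.zero_apply]
        exact Ideal.Quotient.eq_zero_iff_mem.mpr (hI z' j)
    intro j
    have := congrArg (fun z => (Algebra.TensorProduct.basis (R ⧸ I) b).repr z j) h0
    simp only [map_coord, map_zero, Finsupp.zero_apply] at this
    exact Ideal.Quotient.eq_zero_iff_mem.mp this
  let w : I ⊗[R] F := ∑ j ∈ ((Algebra.TensorProduct.basis R b).repr y).support,
    (⟨_, hy' j⟩ : I) ⊗ₜ[R] (g * Algebra.TensorProduct.basis R b j)
  have hw : z' = w := by
    apply ha
    rw [hy]
    conv_lhs => rw [← (Algebra.TensorProduct.basis R b).linearCombination_repr y,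
      Finsupp.linearCombination_apply, Finsupp.sum, Finset.mul_sum]
    rw [map_sum]
    refine Finset.sum_congr rfl fun j _ => ?_
    simp only [a, LinearMap.comp_apply, LinearMap.rTensor_tmul, LinearEquiv.coe_coe, TensorProduct.lid_tmul,
      Submodule.coe_subtype, mul_smul_comm]
  rw [hw, map_sum]
  refine Finset.sum_eq_zero fun j _ => ?_
  rw [LinearMap.lTensor_tmul]
  have : q (g * Algebra.TensorProduct.basis R b j) = 0 :=
    Ideal.Quotient.eq_zero_iff_mem.mpr (Ideal.mul_mem_right _ _ (Ideal.mem_span_singleton_self g))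
  rw [this, TensorProduct.tmul_zero]


/-- Let k be an algebraically closed field, A a finitely generated k-algebra which is an integral domain
(an affine variety X = Spec A), Z a finite (possibly empty) set of k-points of A, R a commutative
k-algebra and U an open dense subset of Spec (R ⊗_k A) = X_R containing every point of Z_R and
meeting every fibre of X_R → Spec R. Then locally on Spec R there is a principal relative effective
Cartier divisor missing Z_R whose complement lies in U: for every prime p of R there are r ∉ p and f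
∈ R[1/r] ⊗_k A such that f is a non-zero-divisor, (R[1/r] ⊗_k A)/(f) is flat over R[1/r], f maps to
a unit under every point of Z, and the basic open set D(f) of X_{R[1/r]} maps into U. (The published
statement is for a quasi-projective variety X and asks for relative Cartier divisors D_i over an
open cover of Spec R; this row is the affine case, to which the published proof reduces, where the
divisors produced are principal.) -/
theorem result
    (k : Type u) [Field k] [IsAlgClosed k]
    (A : Type u) [CommRing A] [Algebra k A] [IsDomain A] [Algebra.FiniteType k A]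
    (Z : Finset (A →ₐ[k] k))
    (R : Type u) [CommRing R] [Algebra k R]
    (U : TopologicalSpace.Opens (PrimeSpectrum (TensorProduct k R A)))
    (hU : Dense (U : Set (PrimeSpectrum (TensorProduct k R A))))
    (hZ : ∀ z ∈ Z, ∀ q : PrimeSpectrum R,
      PrimeSpectrum.comap (Algebra.TensorProduct.lift (AlgHom.id k R) ((Algebra.ofId k R).comp z)
        (fun _ _ => Commute.all _ _)).toRingHom q ∈ U)
    (hsurj : ∀ q : PrimeSpectrum R, ∃ P ∈ U,
      PrimeSpectrum.comap (Algebra.TensorProduct.includeLeftRingHom : R →+* TensorProduct k R A) P = q)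
    (p : PrimeSpectrum R) :
    ∃ r : R, r ∉ p.asIdeal ∧
      ∃ f : TensorProduct k (Localization.Away r) A,
        f ∈ nonZeroDivisors (TensorProduct k (Localization.Away r) A) ∧
        Module.Flat (Localization.Away r)
          (TensorProduct k (Localization.Away r) A ⧸ Ideal.span {f}) ∧
        (∀ z ∈ Z, IsUnit (Algebra.TensorProduct.lift (AlgHom.id k (Localization.Away r))
          ((Algebra.ofId k (Localization.Away r)).comp z) (fun _ _ => Commute.all _ _) f)) ∧
        (∀ P : PrimeSpectrum (TensorProduct k (Localization.Away r) A), f ∉ P.asIdeal →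
          PrimeSpectrum.comap (Algebra.TensorProduct.map
            (IsScalarTower.toAlgHom k R (Localization.Away r)) (AlgHom.id k A)).toRingHom P ∈ U) := by
  classical
  let b := Module.Free.chooseBasis k A
  let J := PrimeSpectrum.vanishingIdeal ((U : Set (PrimeSpectrum (TensorProduct k R A)))ᶜ)
  have hJ : ∀ (g : TensorProduct k R A), g ∈ J → ∀ P : PrimeSpectrum (TensorProduct k R A),
      g ∉ P.asIdeal → P ∈ U := fun g hg P hgP => by
    by_contra hP
    exact hgP ((PrimeSpectrum.mem_vanishingIdeal _ _).mp hg P hP)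
  have hJ' : ∀ P ∈ U, ¬ J ≤ P.asIdeal := fun P hP hle => by
    have : P ∈ PrimeSpectrum.zeroLocus (J : Set (TensorProduct k R A)) := hle
    rw [PrimeSpectrum.zeroLocus_vanishingIdeal_eq_closure, U.isOpen.isClosed_compl.closure_eq] at this
    exact this hP
  obtain ⟨P, hPU, hPp⟩ := hsurj p
  let pt : (A →ₐ[k] k) → PrimeSpectrum (TensorProduct k R A) := fun z =>
    PrimeSpectrum.comap (Algebra.TensorProduct.lift (AlgHom.id k R) ((Algebra.ofId k R).comp z)
        (fun _ _ => Commute.all _ _)).toRingHom p
  let S : Finset (PrimeSpectrum (TensorProduct k R A)) := insert P (Z.image pt)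
  have hS : ∀ Q ∈ S, Q ∈ U := fun Q hQ => by
    rcases Finset.mem_insert.mp hQ with rfl | h
    · exact hPU
    · obtain ⟨z, hz, rfl⟩ := Finset.mem_image.mp h
      exact hZ z hz p
  obtain ⟨f, hfJ, hf⟩ : ∃ f ∈ J, ∀ Q ∈ S, f ∉ Q.asIdeal := by
    by_contra hcon
    push Not at hcon
    have hsub : (J : Set (TensorProduct k R A)) ⊆ ⋃ Q ∈ (S : Set (PrimeSpectrum (TensorProduct k R A))),
        (Q.asIdeal : Set (TensorProduct k R A)) := fun x hx => by
      obtain ⟨Q, hQ, hxQ⟩ := hcon x hx
      exact Set.mem_biUnion hQ hxQ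
    obtain ⟨Q, hQ, hle⟩ := (Ideal.subset_union_prime P P fun Q _ _ _ => Q.2).mp hsub
    exact hJ' Q (hS Q hQ) hle
  obtain ⟨i, hi⟩ : ∃ i, (Algebra.TensorProduct.basis R b).repr f i ∉ p.asIdeal := by
    by_contra hcon
    push Not at hcon
    refine hf P (Finset.mem_insert_self _ _) ?_
    have h2 : p.asIdeal.map (Algebra.TensorProduct.includeLeftRingHom : R →+* TensorProduct k R A) ≤ P.asIdeal :=
      Ideal.map_le_iff_le_comap.mpr (le_of_eq (congrArg PrimeSpectrum.asIdeal hPp).symm)
    exact h2 (Groth.Agent.S19310.mem_map_of_coord b p.asIdeal f hcon)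
  let ev : (A →ₐ[k] k) → R := fun z => Algebra.TensorProduct.lift (AlgHom.id k R) ((Algebra.ofId k R).comp z)
        (fun _ _ => Commute.all _ _) f
  have hev : ∀ z ∈ Z, ev z ∉ p.asIdeal := fun z hz =>
    hf (pt z) (Finset.mem_insert_of_mem (Finset.mem_image_of_mem pt hz))
  let r := (Algebra.TensorProduct.basis R b).repr f i * ∏ z ∈ Z, ev z
  have hr : r ∉ p.asIdeal := fun h => by
    rcases p.2.mem_or_mem h with h | h
    · exact hi h
    · obtain ⟨z, hz, hz'⟩ := p.2.prod_mem_iff.mp h
      exact hev z hz hz'
  refine ⟨r, hr, Algebra.TensorProduct.map (IsScalarTower.toAlgHom k R (Localization.Away r)) (AlgHom.id k A) f, ?_⟩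
  have hru : IsUnit (algebraMap R (Localization.Away r) r) := IsLocalization.Away.algebraMap_isUnit r
  have hu : IsUnit ((Algebra.TensorProduct.basis (Localization.Away r) b).repr
      (Algebra.TensorProduct.map (IsScalarTower.toAlgHom k R (Localization.Away r)) (AlgHom.id k A) f) i) := by
    rw [map_coord, IsScalarTower.coe_toAlgHom']
    simp only [r, map_mul, IsUnit.mul_iff] at hru
    exact hru.1
  refine ⟨mem_nonZeroDivisors_iff_right.mpr fun x hx => ?_, flat_quotient b _ i hu, fun z hz => ?_, fun Q hQ => ?_⟩
  · exact eq_zero_of_isUnit_coord b _ _ i hu (by rw [mul_comm]; exact hx)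
  · have h1 : IsUnit (algebraMap R (Localization.Away r) (ev z)) := by
      simp only [r, map_mul, map_prod, IsUnit.mul_iff, IsUnit.prod_iff] at hru
      exact hru.2 z hz
    have h2 : (Algebra.TensorProduct.lift (AlgHom.id k (Localization.Away r))
          ((Algebra.ofId k (Localization.Away r)).comp z) (fun _ _ => Commute.all _ _)).comp
        (Algebra.TensorProduct.map (IsScalarTower.toAlgHom k R (Localization.Away r)) (AlgHom.id k A)) =
        (IsScalarTower.toAlgHom k R (Localization.Away r)).comp
          (Algebra.TensorProduct.lift (AlgHom.id k R) ((Algebra.ofId k R).comp z) (fun _ _ => Commute.all _ _)) := by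
      refine Algebra.TensorProduct.ext' fun x a => ?_
      simp [Algebra.ofId_apply, map_mul, ← IsScalarTower.algebraMap_apply]
    rw [← AlgHom.comp_apply, h2]
    exact h1
  · exact hJ f hfJ _ hQ

end Groth.Agent.S19308
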