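import Groth.Statements.S19309
import Mathlib.RingTheory.LaurentSeries
import Mathlib.RingTheory.FinitePresentation

set_option autoImplicit false
universe u
open PowerSeries LaurentSeries
open CAlg

namespace Groth.Agent.S19309

/-- Let k be a field, R a commutative k-algebra, B a finitely presented R⟦X⟧-algebra (an affine scheme V
= Spec B of finite presentation over the disc D_R = Spec R⟦X⟧) and s : B → R((X)) an R⟦X⟧-algebra
map (a section of V over the punctured disc). Then there is an ideal I of R such that for every ring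
map φ : R → R', writing θ : R((X)) → R'((X)) for the ring map compatible with R⟦X⟧ → R'⟦X⟧, the
section s extends to a section over D_{R'} — an R⟦X⟧-algebra map s' : B → R'⟦X⟧ whose composite with
R'⟦X⟧ → R'((X)) is θ ∘ s — if and only if φ kills I. In other words the sub-presheaf of Spec R where
s extends over the disc is the closed subscheme defined by I. -/
theorem result
    (k : Type u) [Field k] (R : Type u) [CommRing R] [Algebra k R]
    (B : Type u) [CommRing B] [Algebra R⟦X⟧ B] [Algebra.FinitePresentation R⟦X⟧ B]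
    (s : B →ₐ[R⟦X⟧] R⸨X⸩) :
    ∃ I : Ideal R, ∀ (R' : Type u) [CommRing R'] (φ : R →+* R') (θ : R⸨X⸩ →+* R'⸨X⸩),
      θ.comp (algebraMap R⟦X⟧ R⸨X⸩) = (algebraMap R'⟦X⟧ R'⸨X⸩).comp (PowerSeries.map φ) →
      ((∃ s' : B →+* R'⟦X⟧, s'.comp (algebraMap R⟦X⟧ B) = PowerSeries.map φ ∧
          (algebraMap R'⟦X⟧ R'⸨X⸩).comp s' = θ.comp s.toRingHom) ↔ I ≤ RingHom.ker φ) := by

  classical
  obtain ⟨G, hG⟩ := (inferInstance : Algebra.FiniteType R⟦X⟧ B).out
  refine ⟨Ideal.span {r | ∃ b ∈ G, ∃ n : ℤ, n < 0 ∧ r = (s b).coeff n}, fun R' _ φ θ hθ => ?_⟩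
  have hinj : Function.Injective (algebraMap R'⟦X⟧ R'⸨X⸩) := HahnSeries.ofPowerSeries_injective
  have hθp : ∀ f : R⟦X⟧, θ (f : R⸨X⸩) = ((PowerSeries.map φ f : R'⟦X⟧) : R'⸨X⸩) :=
    fun f => RingHom.congr_fun hθ f
  have hsingle : ∀ k : ℤ, θ (HahnSeries.single k (1 : R)) = HahnSeries.single k (1 : R') := by
    have hnat : ∀ m : ℕ, θ (HahnSeries.single (m : ℤ) (1 : R)) = HahnSeries.single (m : ℤ) (1 : R') := by
      intro m
      have := hθp (PowerSeries.X ^ m)
      rwa [map_pow (PowerSeries.map φ), PowerSeries.map_X, HahnSeries.ofPowerSeries_X_pow,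
        HahnSeries.ofPowerSeries_X_pow] at this
    intro k
    obtain ⟨m, rfl | rfl⟩ := k.eq_nat_or_neg
    · exact hnat m
    · have h1 : θ (HahnSeries.single (-(m : ℤ)) (1 : R)) * HahnSeries.single (m : ℤ) (1 : R') = 1 := by
        rw [← hnat m, ← map_mul, HahnSeries.single_mul_single, neg_add_cancel, mul_one]
        exact map_one θ
      calc θ (HahnSeries.single (-(m : ℤ)) (1 : R))
          = θ (HahnSeries.single (-(m : ℤ)) (1 : R)) * (HahnSeries.single (m : ℤ) (1 : R') *
              HahnSeries.single (-(m : ℤ)) (1 : R')) := by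
            rw [HahnSeries.single_mul_single, add_neg_cancel, mul_one, HahnSeries.single_zero_one, mul_one]
        _ = _ := by rw [← mul_assoc, h1, one_mul]
  have hcoeff : ∀ (z : R⸨X⸩) (n : ℤ), (θ z).coeff n = φ (z.coeff n) := by
    intro z n
    conv_lhs => rw [← LaurentSeries.single_order_mul_powerSeriesPart z, map_mul, hsingle, hθp]
    conv_rhs => rw [← LaurentSeries.single_order_mul_powerSeriesPart z]
    obtain ⟨d, rfl⟩ : ∃ d, n = d + z.order := ⟨n - z.order, by ring⟩
    rw [HahnSeries.coeff_single_mul_add, HahnSeries.coeff_single_mul_add, one_mul, one_mul,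
      PowerSeries.coeff_coe, PowerSeries.coeff_coe]
    split_ifs with h
    · rw [map_zero]
    · rw [PowerSeries.coeff_map]
  constructor
  · rintro ⟨s', -, hs'⟩
    rw [Ideal.span_le]
    rintro _ ⟨b, -, n, hn, rfl⟩
    show φ ((s b).coeff n) = 0
    rw [← hcoeff, show θ (s b) = algebraMap R'⟦X⟧ R'⸨X⸩ (s' b) from (RingHom.congr_fun hs' b).symm]
    exact (PowerSeries.coeff_coe (s' b) n).trans (if_pos hn)
  · intro hI
    have hmem : ∀ b : B, θ (s b) ∈ (algebraMap R'⟦X⟧ R'⸨X⸩).range := by
      intro b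
      have hb : b ∈ Algebra.adjoin R⟦X⟧ (G : Set B) := hG ▸ Algebra.mem_top
      induction hb using Algebra.adjoin_induction with
      | mem b hb =>
        refine ⟨PowerSeries.mk fun i => (θ (s b)).coeff i, ?_⟩
        ext n
        refine (PowerSeries.coeff_coe _ n).trans ?_
        split_ifs with h
        · rw [hcoeff]
          exact (hI (Ideal.subset_span ⟨b, hb, n, h, rfl⟩)).symm
        · rw [PowerSeries.coeff_mk, Int.natAbs_of_nonneg (not_lt.mp h)]
      | algebraMap f => exact ⟨PowerSeries.map φ f, by rw [AlgHom.commutes]; exact (hθp f).symm⟩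
      | add x y _ _ hx hy => rw [map_add, map_add]; exact add_mem hx hy
      | mul x y _ _ hx hy => rw [map_mul, map_mul]; exact mul_mem hx hy
    choose s' hs' using hmem
    refine ⟨⟨⟨⟨s', hinj ?_⟩, fun x y => hinj ?_⟩, hinj ?_, fun x y => hinj ?_⟩, RingHom.ext fun f => hinj ?_,
      RingHom.ext hs'⟩
    · rw [hs', map_one, map_one, map_one]
    · rw [hs', map_mul, map_mul, map_mul, hs', hs']
    · show algebraMap R'⟦X⟧ R'⸨X⸩ (s' 0) = _
      rw [hs', map_zero, map_zero, map_zero]
    · show algebraMap R'⟦X⟧ R'⸨X⸩ (s' (x + y)) = algebraMap R'⟦X⟧ R'⸨X⸩ (s' x + s' y)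
      rw [hs', map_add, map_add, map_add, hs', hs']
    · show algebraMap R'⟦X⟧ R'⸨X⸩ (s' (algebraMap R⟦X⟧ B f)) = _
      rw [hs', AlgHom.commutes]
      exact RingHom.congr_fun hθ f

end Groth.Agent.S19309
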