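import Groth.Statements.S19322
import Groth.Agent.SpSeq40.Dims

set_option autoImplicit false
universe v u
open CategoryTheory CategoryTheory.Limits
open SpSeq

namespace Groth.Agent.S19322

/-- Let K be a field and E a cohomological spectral sequence of K-vector spaces, pages from r₀,
concentrated in the first quadrant on page r₀ and with all terms of page r₀ finite-dimensional, and
let H be abutment data for E whose filtration in degree n is finite, H n finite-dimensional. If the
dimensions of the page-r₀ terms E^{s, n-s}, 0 ≤ s ≤ n, add up to the dimension of H n, then every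
position of total degree n is stationary from page r₀ on: all differentials into and out of it
vanish on every page. (The printed statement takes r₀ a positive integer and n ≥ 0; neither
restriction is needed.) -/
theorem result
    {K : Type u} [Field K] {r₀ : ℤ}
    (E : CohomologicalSpectralSequence (ModuleCat.{v} K) r₀) (H : ℤ → ModuleCat.{v} K)
    (a : SpSeq.Abutment E H) (n : ℤ) (hfin : a.IsFinite n)
    (hquad : ∀ pq : ℤ × ℤ, pq.1 < 0 ∨ pq.2 < 0 → IsZero ((E.page r₀ le_rfl).X pq))
    (hfd : ∀ pq : ℤ × ℤ, Module.Finite K ((E.page r₀ le_rfl).X pq))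
    (hH : Module.Finite K (H n))
    (hsum : ∑ s ∈ Finset.Icc (0 : ℤ) n, Module.finrank K ((E.page r₀ le_rfl).X (s, n - s)) =
      Module.finrank K (H n)) :
    ∀ s : ℤ, SpSeq.StationaryAt E (s, n - s) r₀ := by
  intro s
  let D : ∀ k : ℤ, r₀ ≤ k → ℤ → ℕ := fun k hk s =>
    Module.finrank K ((E.page k hk).X (s, n - s))
  -- dimensions never change
  have hconst : ∀ k hk, D k hk s = D r₀ le_rfl s := by
    intro k hk
    refine le_antisymm (SpSeq40.dim_page_antitone E hfd _ le_rfl k hk) ?_
    by_cases hs : s < 0 ∨ n - s < 0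
    · haveI := ModuleCat.subsingleton_of_isZero (hquad (s, n - s) hs)
      simp [D, Module.finrank_zero_of_subsingleton]
    rw [not_or, not_lt, not_lt] at hs
    have hz : ∀ (i : ℕ), i < n.toNat + 1 →
        Module.Finite K (SpSeq.grPiece (a.fil n) (a.anti n) ((0 : ℤ) + i) : ModuleCat.{v} K) ∧
        Module.finrank K (SpSeq.grPiece (a.fil n) (a.anti n) ((0 : ℤ) + i) : ModuleCat.{v} K) =
          D (a.rk ((i : ℤ), n - i)) (a.stat _).1 i := by
      intro i _
      rw [zero_add]
      obtain ⟨e⟩ := SpSeq40.nonempty_gr_iso_rk a n i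
      haveI := SpSeq40.finite_page E hfd _ (a.stat ((i : ℤ), n - i)).1 ((i : ℤ), n - i)
      exact ⟨Module.Finite.equiv e.toLinearEquiv, e.toLinearEquiv.finrank_eq.symm⟩
    obtain ⟨h0, hn⟩ := SpSeq40.fil_top_bot a n r₀ le_rfl hfin hquad 0
      ((0 : ℤ) + (n.toNat + 1 : ℕ)) le_rfl (by push_cast; omega)
    obtain ⟨-, hsum'⟩ := SpSeq40.fil_sum (a.fil n) (a.anti n)
      (fun M : ModuleCat.{v} K => Module.Finite K M) (fun M => Module.finrank K M)
      (fun Y hY => by
        haveI := ModuleCat.subsingleton_of_isZero hY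
        exact ⟨inferInstance, Module.finrank_zero_of_subsingleton⟩)
      (fun e hY => by
        haveI := hY
        exact ⟨Module.Finite.equiv e.toLinearEquiv, e.toLinearEquiv.finrank_eq.symm⟩)
      (fun S hS h1 h3 => ⟨SpSeq40.finite_mid hS h1 h3,
        SpSeq40.dim_add hS (SpSeq40.finite_mid hS h1 h3)⟩)
      0 (n.toNat + 1) h0 hn (fun i hi => (hz i hi).1)
    rw [Finset.sum_congr rfl fun i hi => (hz i (Finset.mem_range.1 hi)).2] at hsum'
    have hicc : ∑ s ∈ Finset.Icc (0 : ℤ) n, D r₀ le_rfl s =
        ∑ i ∈ Finset.range (n.toNat + 1), D r₀ le_rfl i := by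
      refine Finset.sum_nbij' (fun x => x.toNat) (fun i => (i : ℤ)) ?_ ?_ ?_ ?_ ?_
      · intro x hx; simp at hx ⊢; omega
      · intro i hi; simp at hi ⊢; omega
      · intro x hx; simp at hx ⊢; omega
      · intro i _; simp
      · intro x hx
        simp at hx
        simp [Int.toNat_of_nonneg hx.1]
    have heq := (Finset.sum_eq_sum_iff_of_le (s := Finset.range (n.toNat + 1))
      (f := fun i : ℕ => D (a.rk ((i : ℤ), n - i)) (a.stat _).1 i)
      (g := fun i : ℕ => D r₀ le_rfl i)
      fun i _ => SpSeq40.dim_page_antitone E hfd _ le_rfl _ (a.stat _).1).1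
      (by rw [← hicc, ← hsum']; exact hsum.symm) s.toNat (by simp; omega)
    simp only [Int.toNat_of_nonneg hs.1] at heq
    rcases le_total k (a.rk (s, n - s)) with h | h
    · exact heq ▸ SpSeq40.dim_page_antitone E hfd _ hk _ h
    · obtain ⟨e⟩ := SpSeq40.nonempty_page_iso E (a.stat (s, n - s)) k h
      exact heq ▸ e.toLinearEquiv.finrank_eq.le
  refine ⟨le_rfl, fun k h₀ hk => ?_⟩
  have h := SpSeq40.dim_page_succ E hfd k h₀ (s, n - s)
  have h1 := hconst k h₀
  have h2 := hconst (k + 1) (Int.le_add_one h₀)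
  simp only [D] at h1 h2
  exact ⟨SpSeq40.d_eq_zero_of_bdry E h₀ _ _ (sub_add_cancel _ _) hfd (by omega),
    SpSeq40.d_eq_zero_of_bdry E h₀ _ _ rfl hfd (by omega)⟩

end Groth.Agent.S19322
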