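import Groth.Statements.S19324
import Groth.Agent.PsRefl34.Regular
import Groth.Agent.PsRefl34.Linear
import Groth.Agent.PsRefl34.Graded
import Groth.Agent.EGA4Alg4.IntegralDim
import Mathlib.RingTheory.KrullDimension.Polynomial
import Mathlib.RingTheory.KrullDimension.NonZeroDivisors
import Mathlib.RingTheory.KrullDimension.Field
import Mathlib.RingTheory.RegularLocalRing.Polynomial

set_option autoImplicit false
universe u
open GLin

namespace Groth.Agent.S19324

/-- generators of a prime up to elements outside it, at most as many as the dimension -/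
theorem exists_local_generators {C : Type u} [CommRing C] [IsNoetherianRing C] (y : Ideal C) [y.IsPrime]
    [IsRegularLocalRing (Localization.AtPrime y)] (d : ℕ) (hd : ringKrullDim C ≤ (d : WithBot ℕ∞)) :
    ∃ (n : ℕ) (a : Fin n → C), n ≤ d ∧ (∀ i, a i ∈ y) ∧
      ∀ v ∈ y, ∃ s : C, s ∉ y ∧ s * v ∈ Ideal.span (Set.range a) := by
  let Cy := Localization.AtPrime y
  let 𝔪 : Ideal Cy := IsLocalRing.maximalIdeal Cy
  have hle : Submodule.spanFinrank 𝔪 ≤ d := by
    have h1 : (Submodule.spanFinrank 𝔪 : WithBot ℕ∞) ≤ (d : WithBot ℕ∞) := by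
      refine le_of_eq_of_le (IsRegularLocalRing.spanFinrank_maximalIdeal (R := Cy)) ?_
      rw [IsLocalization.AtPrime.ringKrullDim_eq_height y Cy]
      exact Ideal.height_le_ringKrullDim_of_isPrime.trans hd
    exact_mod_cast h1
  have hfg : Submodule.FG 𝔪 := IsNoetherian.noetherian _
  have hgfin := hfg.finite_generators
  have := hgfin.to_subtype
  let e := Finite.equivFin (Submodule.generators 𝔪)
  choose z hz using fun i => IsLocalization.surj y.primeCompl ((e.symm i : (Submodule.generators 𝔪)) : Cy)
  have hspan : Ideal.map (algebraMap C Cy) (Ideal.span (Set.range fun i => (z i).1)) = 𝔪 := by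
    refine le_antisymm ?_ ?_
    · rw [Ideal.map_span, Ideal.span_le]
      rintro _ ⟨_, ⟨i, rfl⟩, rfl⟩
      rw [SetLike.mem_coe, ← hz i]
      exact Ideal.mul_mem_right _ _ ((Submodule.span_generators 𝔪).le (Submodule.subset_span (e.symm i).2))
    · conv_lhs => rw [← Submodule.span_generators 𝔪]
      refine Submodule.span_le.2 fun u hu => ?_
      have h1 := hz (e ⟨u, hu⟩)
      rw [Equiv.symm_apply_apply] at h1
      rw [SetLike.mem_coe, ← Ideal.mul_unit_mem_iff_mem _ (IsLocalization.map_units Cy (z (e ⟨u, hu⟩)).2), h1]
      exact Ideal.mem_map_of_mem _ (Ideal.subset_span ⟨_, rfl⟩)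
  have hzy : ∀ i, (z i).1 ∈ y := fun i => (IsLocalization.AtPrime.to_map_mem_maximal_iff Cy y _).1
    (hspan.le (Ideal.mem_map_of_mem _ (Ideal.subset_span ⟨i, rfl⟩)))
  have ha : ∀ v ∈ y, ∃ s : C, s ∉ y ∧ s * v ∈ Ideal.span (Set.range fun i => (z i).1) := by
    intro v hv
    have h1 : algebraMap C Cy v ∈ Ideal.map (algebraMap C Cy) (Ideal.span (Set.range fun i => (z i).1)) :=
      hspan.ge ((IsLocalization.AtPrime.to_map_mem_maximal_iff Cy y _).2 hv)
    obtain ⟨⟨⟨w, hw⟩, s⟩, hws⟩ := (IsLocalization.mem_map_algebraMap_iff y.primeCompl Cy).1 h1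
    rw [← map_mul] at hws
    obtain ⟨c, hc⟩ := (IsLocalization.eq_iff_exists y.primeCompl Cy).1 hws
    refine ⟨c * s, mul_mem (s := y.primeCompl) c.2 s.2, ?_⟩
    rw [mul_assoc, mul_comm (s : C), hc]
    exact Ideal.mul_mem_left _ _ hw
  refine ⟨_, fun i => (z i).1, ?_, hzy, ha⟩
  rw [Nat.card_coe_set_eq, hfg.generators_ncard]
  exact hle

/-- Let k be a field and G = Spec A a finite linearly reductive group scheme over k (A a
finite-dimensional commutative Hopf algebra all of whose finite-dimensional comodules are
semisimple), acting on the polynomial ring in finitely many variables through a multiplicative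
coaction that is linear (each variable goes to an A-combination of variables) and faithful on linear
forms. If G is generated by pseudo-reflections — the only Hopf ideal contained in every
pseudo-reflection ideal is zero, a pseudo-reflection ideal being a Hopf ideal whose closed subgroup
scheme fixes a subspace of linear forms of codimension exactly one — then the ring of invariant
polynomials is a polynomial ring over k. (Besides linear reductivity of G the row assumes that every
quotient of A by a Hopf ideal is linearly reductive, i.e. that every closed subgroup scheme of G is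
linearly reductive; this holds for finite linearly reductive group schemes and is what the argument
uses about the pseudo-reflection subgroups.) -/
theorem result
    {k : Type u} [Field k] {A : Type u} [CommRing A] [HopfAlgebra k A] [Module.Finite k A]
    (hG : HopfRep.IsLinearlyReductive k A)
    (hsub : ∀ (I : Ideal A) [I.IsHopfIdeal k], HopfRep.IsLinearlyReductive k (A ⧸ I))
    {ι : Type u} [Fintype ι] [HopfRep.Comod k A (MvPolynomial ι k)]
    [GLin.IsCoactAlg k A (MvPolynomial ι k)]
    (hlin : GLin.IsLinear k A ι) (hf : GLin.IsFaithfulLin k A ι)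
    (hgen : GLin.IsGenByPseudoRefl k A ι) :
    ∃ m : ℕ, Nonempty (↥(GLin.invariants k A (MvPolynomial ι k)) ≃ₐ[k] MvPolynomial (Fin m) k) := by
  classical
  let x : MvPolynomial ι k →ₐ[k] k := MvPolynomial.aeval fun _ : ι => (0 : k)
  set C := GLin.invariants k A (MvPolynomial ι k)
  set y : Ideal C := PsRefl34.yI A x
  have : y.IsPrime := RingHom.ker_isPrime _
  have : (RingHom.ker x).IsPrime := RingHom.ker_isPrime _
  have hreg := PsRefl34.isRegular_invariants
    (IsRegularRing.isRegularLocalRing_localization (RingHom.ker x)) hG hsub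
    (PsRefl34.isFixedPt_origin hlin) (PsRefl34.isGenByPseudoReflAt_origin hlin hgen)
  have : IsNoetherianRing C := FinGrp34.isNoetherianRing_invariants_of_finite (MvPolynomial ι k)
  have : Algebra.IsIntegral C (MvPolynomial ι k) := FinGrp34.isIntegral_over_invariants (MvPolynomial ι k)
  have hdimC : ringKrullDim C = (Fintype.card ι : WithBot ℕ∞) := by
    rw [← EGA4Alg4.ringKrullDim_eq_of_integral C (MvPolynomial ι k) Subtype.val_injective,
      MvPolynomial.ringKrullDim_of_isNoetherianRing, ringKrullDim_eq_zero_of_field, zero_add,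
      Nat.card_eq_fintype_card]
  have : IsRegularLocalRing (Localization.AtPrime y) := hreg
  obtain ⟨n, a, hn, hay, ha⟩ := exists_local_generators y (Fintype.card ι) hdimC.le
  have hy : ∀ v : C, v ∈ y ↔ MvPolynomial.homogeneousComponent 0 (v : MvPolynomial ι k) = 0 := by
    intro v
    show x (v : MvPolynomial ι k) = 0 ↔ _
    rw [MvPolynomial.homogeneousComponent_zero, MvPolynomial.C_eq_zero,
      show x = MvPolynomial.aeval (0 : ι → k) from rfl, MvPolynomial.aeval_zero]
    simp [MvPolynomial.constantCoeff_eq]
  obtain ⟨r, f, hr, hsurj⟩ := PsRefl34.exists_generators C (fun v hv d => PsRefl34.comp_mem_invariants hlin hv d)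
    y hy n a ha hay
  have hrle : r ≤ Fintype.card ι := hr.trans hn
  have hinj : Function.Injective (MvPolynomial.aeval (R := k) f) := by
    rw [injective_iff_map_eq_zero]
    intro p hp
    by_contra hp0
    have h1 := ringKrullDim_succ_le_of_surjective (MvPolynomial.aeval (R := k) f).toRingHom hsurj
      (mem_nonZeroDivisors_of_ne_zero hp0) hp
    rw [hdimC, MvPolynomial.ringKrullDim_of_isNoetherianRing, ringKrullDim_eq_zero_of_field, zero_add,
      Nat.card_fin] at h1
    have h2 : Fintype.card ι + 1 ≤ r := by exact_mod_cast h1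
    omega
  exact ⟨r, ⟨(AlgEquiv.ofBijective _ ⟨hinj, hsurj⟩).symm⟩⟩

end Groth.Agent.S19324
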