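import Groth.Statements.S19326
import Groth.Agent.Hopf34.Fin

set_option autoImplicit false
universe u
open TensorProduct
open GLin

namespace Groth.Agent.S19326

open Groth.Agent.Hopf34 in
private theorem aux {k : Type u} [Field k] {M : Type u} [AddCommGroup M] [Finite M]
    {R : Type u} [CommRing R] [Algebra k R] [HopfRep.Comod k (AddMonoidAlgebra k M) R]
    (J : Ideal R) :
    (∀ f : R, LinearMap.rTensor (AddMonoidAlgebra k M) (Ideal.Quotient.mkₐ k J).toLinearMap
        (HopfRep.Comod.coact (k := k) (A := AddMonoidAlgebra k M) f) =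
        (Ideal.Quotient.mk J f) ⊗ₜ[k] (1 : AddMonoidAlgebra k M)) ↔
      Ideal.span (⋃ (a : M) (_ : a ≠ 0),
        (HopfRep.eigenspace k (AddMonoidAlgebra k M) R (AddMonoidAlgebra.single a 1) : Set R)) ≤ J := by
  classical
  have : Fintype M := Fintype.ofFinite M
  let B : Module.Basis M k (AddMonoidAlgebra k M) := AddMonoidAlgebra.basis M k
  have hB : ∀ a, B a = AddMonoidAlgebra.single a (1 : k) := fun a => by simp [B]
  have he : ∀ a b, B.coord a (AddMonoidAlgebra.single b (1 : k)) = if b = a then 1 else 0 := fun a b => by
    rw [← hB, Module.Basis.coord_apply, B.repr_self, Finsupp.single_apply]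
  have heps : (CoalgebraStruct.counit (R := k) (A := AddMonoidAlgebra k M)) = ∑ a, B.coord a := by
    refine B.ext fun b => ?_
    rw [LinearMap.sum_apply, hB]
    simp [he]
  let cp : M → R → R := fun a f => sl (B.coord a) (HopfRep.Comod.coact (k := k) f)
  have hcp : ∀ a f, cp a f ∈ HopfRep.eigenspace k (AddMonoidAlgebra k M) R (AddMonoidAlgebra.single a 1) := by
    intro a f
    show HopfRep.Comod.coact (k := k) (cp a f) = cp a f ⊗ₜ[k] (AddMonoidAlgebra.single a 1 : AddMonoidAlgebra k M)
    refine sub_eq_zero.1 (eq_zero_of_forall_sl fun φ => ?_)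
    rw [map_sub, sl_tmul, sub_eq_zero, sl_coact_sl]
    have h1 : conv φ (B.coord a) = φ (AddMonoidAlgebra.single a 1) • B.coord a := by
      refine B.ext fun b => ?_
      rw [hB]
      simp only [conv, LinearMap.comp_apply, LinearMap.smul_apply]
      rw [AddMonoidAlgebra.comul_single]
      simp [he]
      split_ifs with h <;> simp [h]
    rw [h1]
    simp [cp, sl, LinearMap.lTensor_smul]
  constructor
  · intro h
    rw [Ideal.span_le]
    intro f hf
    simp only [Set.mem_iUnion] at hf
    obtain ⟨a, ha, hf⟩ := hf
    have h2 := congrArg (sl (B.coord a)) (h f)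
    rw [show HopfRep.Comod.coact (k := k) (A := AddMonoidAlgebra k M) f = f ⊗ₜ[k] AddMonoidAlgebra.single a 1 from hf,
      LinearMap.rTensor_tmul, sl_tmul, sl_tmul, AddMonoidAlgebra.one_def, he, he, if_pos rfl, if_neg (Ne.symm ha),
      one_smul, zero_smul] at h2
    exact Ideal.Quotient.eq_zero_iff_mem.1 h2
  · intro h f
    have hf : f = ∑ a, cp a f := by
      conv_lhs => rw [← sl_counit (k := k) (A := AddMonoidAlgebra k M) f, heps]
      simp only [cp, sl, LinearMap.comp_apply, ← LinearMap.coe_lTensorHom, map_sum, LinearMap.sum_apply]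
    have h0 : ∀ a ≠ 0, Ideal.Quotient.mk J (cp a f) = 0 := fun a ha =>
      Ideal.Quotient.eq_zero_iff_mem.2 (h (Ideal.subset_span (Set.mem_iUnion₂.2 ⟨a, ha, hcp a f⟩)))
    rw [hf, map_sum, map_sum, map_sum, TensorProduct.sum_tmul]
    refine Finset.sum_congr rfl fun a _ => ?_
    rw [show HopfRep.Comod.coact (k := k) (A := AddMonoidAlgebra k M) (cp a f) = _ from hcp a f, LinearMap.rTensor_tmul]
    rcases eq_or_ne a 0 with rfl | ha
    · rw [AddMonoidAlgebra.one_def]; rfl
    · show Ideal.Quotient.mk J (cp a f) ⊗ₜ[k] _ = _
      rw [h0 a ha, TensorProduct.zero_tmul, TensorProduct.zero_tmul]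

/-- Let k be a field, M a finite abelian group and D = Spec k[M] the finite diagonalizable group scheme
it defines, acting on an affine k-scheme U = Spec R through a multiplicative coaction R → R ⊗ k[M];
write R_a for the weight space of a ∈ M (elements with coaction f ⊗ a). For an ideal J of R the
induced action of D on the closed subscheme V(J) is trivial, meaning that the coaction followed by
reduction modulo J equals f ↦ (f mod J) ⊗ 1, exactly when J contains the ideal generated by the
weight spaces R_a for a ≠ 0; in other words that ideal defines the largest closed subscheme of U on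
which D acts trivially. (The printed setting has U smooth, which plays no role here and is not
assumed; the further assertion that the construction commutes with flat base change on U/D is not
part of this statement.) -/
theorem result
    {k : Type u} [Field k] {M : Type u} [AddCommGroup M] [Finite M]
    {R : Type u} [CommRing R] [Algebra k R] [HopfRep.Comod k (AddMonoidAlgebra k M) R]
    [GLin.IsCoactAlg k (AddMonoidAlgebra k M) R] (J : Ideal R) :
    (∀ f : R, LinearMap.rTensor (AddMonoidAlgebra k M) (Ideal.Quotient.mkₐ k J).toLinearMap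
        (HopfRep.Comod.coact (k := k) (A := AddMonoidAlgebra k M) f) =
        (Ideal.Quotient.mk J f) ⊗ₜ[k] (1 : AddMonoidAlgebra k M)) ↔
      Ideal.span (⋃ (a : M) (_ : a ≠ 0),
        (HopfRep.eigenspace k (AddMonoidAlgebra k M) R (AddMonoidAlgebra.single a 1) : Set R)) ≤ J := by
  exact aux J

end Groth.Agent.S19326
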