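import Groth.Statements.S19328
import Mathlib.RingTheory.AdjoinRoot
import Mathlib.RingTheory.Flat.Rank
import Mathlib.AlgebraicGeometry.Morphisms.FinitePresentation
import Mathlib.FieldTheory.IsAlgClosed.Basic
import Mathlib.RingTheory.Polynomial.ScaleRoots

set_option autoImplicit false
universe u
open CategoryTheory CategoryTheory.Limits AlgebraicGeometry
open ModPair

namespace Groth.Agent.S19328

/-- Let A be a commutative ring such that Spec A is local for fppf coverings, in the sense that for
every scheme X, every jointly surjective family of morphisms to X each of which is flat and of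
finite presentation (locally of finite presentation, quasi-compact and quasi-separated), and every
morphism Spec A ⟶ X, the morphism factors through a member of the family. Then the residue field of
A at every prime ideal is algebraically closed. -/
theorem result (A : Type u) [CommRing A]
    (hloc : ∀ (X : Scheme.{u}) (R : Presieve X),
      R ∈ Scheme.precoverage (@Flat ⊓ @LocallyOfFinitePresentation ⊓ @QuasiCompact ⊓ @QuasiSeparated) X →
      ∀ g : Spec (CommRingCat.of A) ⟶ X,
        ∃ (Y : Scheme.{u}) (v : Y ⟶ X) (h : Spec (CommRingCat.of A) ⟶ Y), R v ∧ h ≫ v = g)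
    (p : Ideal A) [p.IsPrime] : IsAlgClosed p.ResidueField := by
  have aic : ∀ f : Polynomial A, f.Monic → 0 < f.natDegree → ∃ r : A, f.eval r = 0 := by
    intro f hf hdeg
    haveI := hf.free_adjoinRoot
    haveI := hf.finite_adjoinRoot
    let φ := CommRingCat.ofHom (algebraMap A (AdjoinRoot f))
    have hsurj : Function.Surjective (Spec.map φ).base := by
      show Function.Surjective (PrimeSpectrum.comap (algebraMap A (AdjoinRoot f)))
      rw [PrimeSpectrum.comap_surjective_iff_injective_of_finite]
      rcases subsingleton_or_nontrivial A with hA | hA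
      · exact Function.injective_of_subsingleton _
      refine (injective_iff_map_eq_zero _).mpr fun a ha => ?_
      have h1 : f ∣ Polynomial.C a := AdjoinRoot.mk_eq_zero.mp ha
      by_contra h0
      exact hf.not_dvd_of_natDegree_lt (Polynomial.C_ne_zero.mpr h0) (by rwa [Polynomial.natDegree_C]) h1
    haveI : Flat (Spec.map φ) := by
      rw [HasRingHomProperty.Spec_iff (P := @Flat.{u})]
      exact RingHom.flat_algebraMap_iff.mpr inferInstance
    haveI : LocallyOfFinitePresentation (Spec.map φ) := by
      rw [HasRingHomProperty.Spec_iff (P := @LocallyOfFinitePresentation.{u})]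
      exact RingHom.finitePresentation_algebraMap.mpr inferInstance
    obtain ⟨Y, v, h, hv, hh⟩ := hloc (Spec (CommRingCat.of A)) (Presieve.singleton (Spec.map φ))
      ((Scheme.singleton_mem_precoverage_iff _ (Spec.map φ)).mpr
        ⟨hsurj, ⟨⟨‹Flat (Spec.map φ)›, ‹LocallyOfFinitePresentation (Spec.map φ)›⟩, inferInstance⟩, inferInstance⟩)
      (𝟙 _)
    cases hv
    obtain ⟨ψ, rfl⟩ : ∃ ψ, Spec.map ψ = h := ⟨_, Spec.map_preimage _⟩
    rw [← Spec.map_comp, ← Spec.map_id] at hh
    have e := Spec.map_injective hh
    refine ⟨ψ.hom (AdjoinRoot.root f), ?_⟩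
    have h2 : ψ.hom.comp (algebraMap A (AdjoinRoot f)) = RingHom.id A := congrArg CommRingCat.Hom.hom e
    have h3 := congrArg ψ.hom (AdjoinRoot.eval₂_root f)
    rw [Polynomial.hom_eval₂, map_zero] at h3
    rw [Polynomial.eval, ← h2]
    exact h3
  refine IsAlgClosed.of_exists_root _ fun g hg hirr => ?_
  have hdeg : 0 < g.natDegree := hirr.natDegree_pos
  obtain ⟨b, hb⟩ := IsLocalization.exist_integer_multiples_of_finset (nonZeroDivisors (A ⧸ p)) g.coeffs
  obtain ⟨b₀, hb₀⟩ := Ideal.Quotient.mk_surjective (b : A ⧸ p)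
  let s : p.ResidueField := algebraMap A p.ResidueField b₀
  have hs : s = algebraMap (A ⧸ p) p.ResidueField b := by
    rw [← hb₀]; exact (IsScalarTower.algebraMap_apply A (A ⧸ p) p.ResidueField b₀)
  have hs0 : s ≠ 0 := by
    rw [hs, ne_eq, map_eq_zero_iff _ (IsFractionRing.injective (A ⧸ p) p.ResidueField)]
    exact nonZeroDivisors.ne_zero b.2
  have hlift : g.scaleRoots s ∈ Polynomial.lifts (algebraMap A p.ResidueField) := by
    rw [Polynomial.lifts_iff_coeff_lifts]
    intro i
    rw [Polynomial.coeff_scaleRoots]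
    rcases lt_trichotomy i g.natDegree with hi | hi | hi
    · obtain ⟨k, hk⟩ : ∃ k, g.natDegree - i = k + 1 := ⟨g.natDegree - i - 1, by omega⟩
      by_cases hc : g.coeff i = 0
      · exact ⟨0, by rw [hc, zero_mul, map_zero]⟩
      obtain ⟨r, hr⟩ := hb (g.coeff i) (Polynomial.coeff_mem_coeffs hc)
      obtain ⟨r₀, rfl⟩ := Ideal.Quotient.mk_surjective r
      refine ⟨r₀ * b₀ ^ k, ?_⟩
      rw [map_mul, map_pow, hk, pow_succ]
      have : algebraMap A p.ResidueField r₀ = s * g.coeff i := by
        rw [IsScalarTower.algebraMap_apply A (A ⧸ p) p.ResidueField, hs]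
        exact hr.trans (Algebra.smul_def _ _)
      rw [this]
      show s * g.coeff i * s ^ k = _
      ring
    · exact ⟨1, by rw [hi, hg.coeff_natDegree, Nat.sub_self, pow_zero, one_mul, map_one]⟩
    · exact ⟨0, by rw [Polynomial.coeff_eq_zero_of_natDegree_lt hi, zero_mul, map_zero]⟩
  obtain ⟨f, hf, hfdeg, hfm⟩ := Polynomial.lifts_and_natDegree_eq_and_monic hlift
    ((Polynomial.monic_scaleRoots_iff s).mpr hg)
  obtain ⟨r, hr⟩ := aic f hfm (by rw [hfdeg, Polynomial.natDegree_scaleRoots]; exact hdeg)
  refine ⟨algebraMap A p.ResidueField r / s, ?_⟩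
  have h1 : (g.scaleRoots s).eval (algebraMap A p.ResidueField r) = 0 := by
    rw [← hf, Polynomial.eval_map_apply, hr, map_zero]
  have h4 := Polynomial.scaleRoots_eval_mul g (algebraMap A p.ResidueField r / s) s
  rw [mul_div_cancel₀ _ hs0, h1] at h4
  exact (mul_eq_zero.mp h4.symm).resolve_left (pow_ne_zero _ hs0)

end Groth.Agent.S19328
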