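import Groth.Statements.S19329
import Groth.Agent.MP99.Valuation

set_option autoImplicit false
universe u
open CategoryTheory CategoryTheory.Limits AlgebraicGeometry TopologicalSpace
open ModPair

namespace Groth.Agent.S19329

/-- Let (X, I), (Y, J), (Z, K) be modulus pairs, i.e. schemes with quasi-coherent ideal sheaves of
effective Cartier divisors, and let f : X ⟶ Y and g : Y ⟶ Z satisfy the modulus conditions I ≤
J.comap f and J ≤ K.comap g. Suppose the composite X ⟶ Z is minimal, I = K.comap (f ≫ g). Then f is
minimal, and there is an open subset U of Y whose inclusion is quasi-compact, which contains the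
image of f, and such that U ⟶ Z is minimal for the modulus of Y restricted to U. -/
theorem result {X Y Z : Scheme.{u}}
    (I : X.IdealSheafData) (J : Y.IdealSheafData) (K : Z.IdealSheafData)
    (hI : BlowUp.IsEffCartierIdeal I) (hJ : BlowUp.IsEffCartierIdeal J)
    (hK : BlowUp.IsEffCartierIdeal K) (f : X ⟶ Y) (g : Y ⟶ Z)
    (hf : ModPair.IsAmbient I J f) (hg : ModPair.IsAmbient J K g)
    (hfg : ModPair.IsMinimal I K (f ≫ g)) :
    ModPair.IsMinimal I J f ∧
      ∃ U : Y.Opens, QuasiCompact U.ι ∧ Set.range f.base ⊆ (U : Set Y) ∧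
        ModPair.IsMinimal (J.comap U.ι) K (U.ι ≫ g) := by
  have h1 : I ≤ J.comap f := hf
  have h2 : J ≤ K.comap g := hg
  have h3 : I = K.comap (f ≫ g) := hfg
  rw [Scheme.IdealSheafData.comap_comp] at h3
  refine ⟨le_antisymm h1 (h3 ▸ Scheme.IdealSheafData.comap_mono f h2), ?_⟩
  haveI := MP99.dominant_of_isEffCartier hJ
  have hKg : BlowUp.IsEffCartierIdeal (K.comap g) :=
    MP99.isEffCartier_comap (MP99.isLocPrincipal_of_isEffCartier hK) g
      (W := ModPair.interior J) (by rw [← MP99.interior_comap]; exact MP99.interior_mono h2)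
  obtain ⟨C, hC, e⟩ := MP99.exists_cofactor hJ hKg h2
  haveI := MP99.isAffineHom_interior (MP99.isLocPrincipal_of_isEffCartier hC)
  refine ⟨ModPair.interior C, inferInstance, ?_, ?_⟩
  · have hJf : J.comap f = I := le_antisymm (h3 ▸ Scheme.IdealSheafData.comap_mono f h2) h1
    rw [e, MP99.comap_mul, ← h3] at hJf
    have hCf : C.comap f = ⊤ := MP99.eq_of_mul_eq_mul hI (hJf.trans (MP99.top_mul' I).symm)
    rintro _ ⟨x, rfl⟩
    have : x ∈ ModPair.interior (C.comap f) := by rw [hCf, MP99.interior_top]; trivial
    rw [MP99.interior_comap] at this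
    exact this
  · show J.comap _ = _
    have hCU : C.comap (ModPair.interior C).ι = ⊤ := MP99.eq_top_of_interior_eq_top fun x => by
      rw [MP99.interior_comap]; exact x.2
    rw [e, MP99.comap_mul, hCU, MP99.top_mul', ← Scheme.IdealSheafData.comap_comp]

end Groth.Agent.S19329
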