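import Groth.Statements.S1933
import Groth.Agent.Cyc90.GysinBC
import Groth.Agent.Cyc90.RelDimShift

set_option autoImplicit false
universe u
open CategoryTheory AlgebraicGeometry
open CategoryTheory.Limits
open Cyc

namespace Groth.Agent.S1933

/-- Gysin maps commute with flat pullback. Let f : X' → X be flat, locally of finite type, of relative
dimension r, (L, s, i : D → X) as in the Gysin construction and D' = X' ×_X D with i' : D' → X' (the
zero scheme of a section of f^*L) and g : D' → D. For a (k + 1)-cycle α on X, (i')^*(f^*α) ∼_rat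
g^*(i^*α) as (k + r)-cycles on D', flat pullbacks being taken coefficientwise. Here i : D → X is the
zero scheme of a global section s of the invertible module L (Cyc.IsZeroSchemeOf), the Gysin map i^*
: Z_{k+1}(X) → CH_k(D) is computed on coefficient functions as c_1(L) ∩ − with the rational sections
taken to be s where it is nonzero (Cyc.gysinChoice) and restricted to the points of D, and classes
on D are compared up to rational equivalence on D for the restricted dimension function. A pair (X,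
δ) with Cyc.IsSetup plays the role of a scheme locally of finite type over a base (S, δ) (X locally
Noetherian with universally catenary local rings, δ a dimension function), and Cyc.DeltaCompat
records that the dimension function upstairs is the induced one. -/
theorem result (X X' D : Scheme.{u}) (δ : X → ℤ) (δ' : X' → ℤ) (hX : Cyc.IsSetup X δ) (hX' : Cyc.IsSetup X' δ') (f : X' ⟶ X) [Flat f] [LocallyOfFiniteType f] (r : ℕ) (hr : Cyc.HasRelDim f r) (hδ : Cyc.DeltaCompat f δ' δ) (L : X.Modules) (hL : PicF.IsInvertible L) (s : L.presheaf.obj (Opposite.op ⊤)) (i : D ⟶ X) [IsClosedImmersion i] (hD : Cyc.IsZeroSchemeOf i L s) (s' : ((Scheme.Modules.pullback f).obj L).presheaf.obj (Opposite.op ⊤)) (hD' : Cyc.IsZeroSchemeOf (pullback.fst f i) ((Scheme.Modules.pullback f).obj L) s') (k : ℤ) (α : AlgebraicCycle X ℤ) (hα : α ∈ Cyc.Zk X δ (k + 1)) (w : (ξ : X) → Cyc.secFibre L ξ) (hw : ∀ ξ, w ξ ≠ 0) (w' : (ξ : X') → Cyc.secFibre ((Scheme.Modules.pullback f).obj L) ξ) (hw' : ∀ ξ, w' ξ ≠ 0)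 (ζ₁ ζ₂ : AlgebraicCycle (pullback f i) ℤ) (h₁ : ∀ z, ζ₁ z = Cyc.c1CapFun δ' ((Scheme.Modules.pullback f).obj L) (Cyc.pullFun f δ' δ r ⇑α) (Cyc.gysinChoice ((Scheme.Modules.pullback f).obj L) s' w') (pullback.fst f i z)) (h₂ : ⇑ζ₂ = Cyc.pullFun (pullback.snd f i) (fun z => δ' (pullback.fst f i z)) (fun d => δ (i d)) r (fun d => Cyc.c1CapFun δ L ⇑α (Cyc.gysinChoice L s w) (i d))) : Cyc.RatEquiv (fun z => δ' (pullback.fst f i z)) (k + r) ζ₁ ζ₂ := by
  have hc := Groth.Agent.Cyc90.shiftAt_of_hasRelDim f hr hδ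
  have hv := Groth.Agent.Cyc90.gysinChoice_ne_zero s w hw
  have hLp := Groth.Agent.Amp73.isInvertible_pullback f hL
  have hfull := Groth.Agent.Cyc90.pullFun_c1Cap f hX' hX hc hL α (Cyc.gysinChoice L s w) hv
  have hs2 := Groth.Agent.Cyc90.isZeroSchemeOf_pullback f hL hD
  refine Groth.Agent.Cyc90.ratEquiv_restrict_c1Cap hX' (pullback.fst f i) hLp (k + r)
    (Groth.Agent.Cyc90.pullCycle f hX' hc α) ?_ _ _ (Groth.Agent.Cyc90.gysinChoice_ne_zero s' w' hw')
    (Groth.Agent.Cyc90.pullSec_ne_zero f hL _ hv) (fun ξ hξ x => ?_) ζ₁ ζ₂ h₁ (fun z => ?_)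
  · have := Groth.Agent.Cyc90.pullCycle_mem f hX' hc hα
    rwa [show k + (r : ℤ) + 1 = k + 1 + r by ring]
  · have hfξ : f ξ ∉ Set.range i := fun h => hξ (by rw [Scheme.Pullback.range_fst]; exact h)
    rw [Groth.Agent.Cyc90.gysinChoice_of_notMem hD' w' hξ,
      Groth.Agent.Cyc90.pullSec_eq_germ f hL _ hv s ξ (Groth.Agent.Cyc90.gysinChoice_of_notMem hD w hfξ)]
    exact Groth.Agent.Cyc90.secDivFun_eq_of_zeroScheme hX' hLp hD' hs2 hξ x
  · rw [h₂, ← Groth.Agent.Cyc90.pullFun_closed f i δ' δ r _ z, hfull]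

end Groth.Agent.S1933
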