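import Groth.Statements.S19338
-- import your own Groth.Agent.* helpers here

set_option autoImplicit false
universe w v u
open CategoryTheory
open ModPair

namespace Groth.Agent.S19338

/-- Let C be a category and S a class of morphisms which contains the identities, is closed under
composition, admits a right calculus of fractions, and consists of monomorphisms. Then the sieves
containing a morphism of S are the covering sieves of a Grothendieck topology on C, and for every
such topology J a presheaf of types F on C is a J-sheaf if and only if it is S-local, i.e. F sends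
every morphism of S to a bijection. -/
theorem result {C : Type u} [Category.{v} C]
    (S : MorphismProperty C) [S.HasRightCalculusOfFractions]
    (hmono : ∀ ⦃X Y : C⦄ (s : X ⟶ Y), S s → Mono s) :
    (∃ J : GrothendieckTopology C, ∀ (X : C) (T : Sieve X),
        T ∈ J X ↔ ∃ (Y : C) (s : Y ⟶ X), S s ∧ T s) ∧
      ∀ J : GrothendieckTopology C, (∀ (X : C) (T : Sieve X),
          T ∈ J X ↔ ∃ (Y : C) (s : Y ⟶ X), S s ∧ T s) →
        ∀ F : Cᵒᵖ ⥤ Type w,
          Presheaf.IsSheaf J F ↔ ∀ ⦃X Y : C⦄ (s : X ⟶ Y), S s → IsIso (F.map s.op) := by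
  classical
  refine ⟨⟨{
    sieves := fun X => {T : Sieve X | ∃ (Y : C) (s : Y ⟶ X), S s ∧ T s}
    top_mem' := fun X => ⟨X, 𝟙 X, S.id_mem X, trivial⟩
    pullback_stable' := ?_
    transitive' := ?_ }, fun X T => Iff.rfl⟩, fun J hJ F => ?_⟩
  · rintro X Y T f ⟨Z, s, hs, hT⟩
    obtain ⟨ψ, hψ⟩ := (MorphismProperty.LeftFraction.mk f s hs : S.LeftFraction Y Z).exists_rightFraction
    dsimp at hψ
    refine ⟨ψ.X', ψ.s, ψ.hs, ?_⟩
    show T (ψ.s ≫ f)
    rw [hψ]
    exact T.downward_closed hT ψ.f
  · rintro X T ⟨Y, s, hs, hTs⟩ R h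
    obtain ⟨Z, t, ht, hR⟩ := h hTs
    exact ⟨Z, t ≫ s, S.comp_mem _ _ ht hs, hR⟩
  · rw [isSheaf_iff_isSheaf_of_type]
    constructor
    · intro hF X Y s hs
      haveI := hmono s hs
      have hc : Sieve.generate (Presieve.singleton s) ∈ J Y :=
        (hJ _ _).mpr ⟨X, s, hs, Sieve.le_generate _ _ _ (Presieve.singleton_self s)⟩
      have h := (Presieve.isSheafFor_iff_generate _).mpr (hF _ hc)
      rw [Presieve.isSheafFor_singleton] at h
      rw [isIso_iff_bijective]
      constructor
      · intro a b hab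
        obtain ⟨z, -, hz⟩ := h (F.map s.op a) (fun {Z} p₁ p₂ e => by rw [cancel_mono] at e; rw [e])
        rw [hz a rfl, hz b hab.symm]
      · intro y
        obtain ⟨z, hz, -⟩ := h y (fun {Z} p₁ p₂ e => by rw [cancel_mono] at e; rw [e])
        exact ⟨z, hz⟩
    · intro h X T hT x hx
      obtain ⟨Y, s, hs, hTs⟩ := (hJ _ _).mp hT
      haveI := h s hs
      have bij := (isIso_iff_bijective (F.map s.op)).mp inferInstance
      obtain ⟨z, hz⟩ := bij.2 (x s hTs)
      refine ⟨z, fun Z f hf => ?_, fun z' hz' => bij.1 ((hz' s hTs).trans hz.symm)⟩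
      obtain ⟨ψ, hψ⟩ := (MorphismProperty.LeftFraction.mk f s hs : S.LeftFraction Z Y).exists_rightFraction
      dsimp at hψ
      have bij' := (isIso_iff_bijective (F.map ψ.s.op)).mp (h ψ.s ψ.hs)
      refine bij'.1 ?_
      rw [← FunctorToTypes.map_comp_apply, ← op_comp, hψ, op_comp, FunctorToTypes.map_comp_apply, hz]
      exact hx ψ.f ψ.s hTs hf hψ.symm

end Groth.Agent.S19338
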