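import Groth.Statements.S19340
-- import your own Groth.Agent.* helpers here

set_option autoImplicit false
universe v v' u u'
open CategoryTheory
open ModPair

namespace Groth.Agent.S19340

/-- Let C be a category, S a class of morphisms of C containing the identities, closed under composition
and admitting a right calculus of fractions, and L : C ⥤ D a localization functor for S. Then for
every object X of C the comma category of L under X, whose objects are pairs (Y, L(X) ⟶ L(Y)) and
whose morphisms are morphisms Y ⟶ Y' of C compatible with the structure maps, is cofiltered. The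
published statement calls this category filtered; its proof verifies, and this row states,
cofilteredness. -/
theorem result {C : Type u}
    [Category.{v} C] {D : Type u'} [Category.{v'} D] (S : MorphismProperty C)
    [S.HasRightCalculusOfFractions] (L : C ⥤ D) [L.IsLocalization S] (X : C) :
    IsCofiltered (StructuredArrow (L.obj X) L) := by
  have hinv := Localization.inverts L S
  let obj' : ∀ {Z W : C} (s : W ⟶ X) (hs : S s) (f : W ⟶ Z), StructuredArrow (L.obj X) L :=
    fun s hs f => StructuredArrow.mk ((MorphismProperty.RightFraction.mk s hs f).map L hinv)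
  haveI : IsCofilteredOrEmpty (StructuredArrow (L.obj X) L) := by
    constructor
    · intro A B
      obtain ⟨φ₁, e₁⟩ := Localization.exists_rightFraction L S A.hom
      obtain ⟨φ₂, e₂⟩ := Localization.exists_rightFraction L S B.hom
      obtain ⟨ψ, hψ⟩ := (MorphismProperty.LeftFraction.mk φ₁.s φ₂.s φ₂.hs :
        S.LeftFraction φ₁.X' φ₂.X').exists_rightFraction
      dsimp at hψ
      have hs : S (ψ.s ≫ φ₁.s) := S.comp_mem _ _ ψ.hs φ₁.hs
      let W : StructuredArrow (L.obj X) L := obj' (ψ.s ≫ φ₁.s) hs (𝟙 ψ.X')
      haveI := hinv _ hs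
      have hW : L.map (ψ.s ≫ φ₁.s) ≫ W.hom = 𝟙 _ := by
        simp [W, obj', MorphismProperty.RightFraction.map]
      refine ⟨W, StructuredArrow.homMk (ψ.s ≫ φ₁.f) ?_, StructuredArrow.homMk (ψ.f ≫ φ₂.f) ?_, trivial⟩
      · rw [← cancel_epi (L.map (ψ.s ≫ φ₁.s)), reassoc_of% hW, e₁, L.map_comp, L.map_comp,
          Category.assoc, MorphismProperty.RightFraction.map_s_comp_map]
      · rw [← cancel_epi (L.map (ψ.s ≫ φ₁.s)), reassoc_of% hW, e₂, hψ, L.map_comp, L.map_comp,
          Category.assoc, MorphismProperty.RightFraction.map_s_comp_map]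
    · intro A B a b
      obtain ⟨φ, e⟩ := Localization.exists_rightFraction L S A.hom
      have hab : L.map (φ.f ≫ a.right) = L.map (φ.f ≫ b.right) := by
        have h1 := StructuredArrow.w a
        have h2 := StructuredArrow.w b
        rw [e] at h1 h2
        rw [L.map_comp, L.map_comp, ← φ.map_s_comp_map L hinv, Category.assoc, Category.assoc, h1, h2]
      obtain ⟨V, t, ht, hte⟩ := (MorphismProperty.map_eq_iff_precomp L S _ _).mp hab
      have hs : S (t ≫ φ.s) := S.comp_mem _ _ ht φ.hs
      let W : StructuredArrow (L.obj X) L := obj' (t ≫ φ.s) hs (𝟙 V)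
      haveI := hinv _ hs
      have hW : L.map (t ≫ φ.s) ≫ W.hom = 𝟙 _ := by
        simp [W, obj', MorphismProperty.RightFraction.map]
      refine ⟨W, StructuredArrow.homMk (t ≫ φ.f) ?_, ?_⟩
      · rw [← cancel_epi (L.map (t ≫ φ.s)), reassoc_of% hW, e, L.map_comp, L.map_comp,
          Category.assoc, MorphismProperty.RightFraction.map_s_comp_map]
      · apply StructuredArrow.ext
        show (t ≫ φ.f) ≫ a.right = (t ≫ φ.f) ≫ b.right
        simpa using hte
  haveI : Nonempty (StructuredArrow (L.obj X) L) := ⟨StructuredArrow.mk (𝟙 (L.obj X))⟩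
  exact ⟨⟩

end Groth.Agent.S19340
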