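import Mathlib

universe u

namespace Groth.Agent.S19348

theorem result (p : ℕ) [Fact p.Prime] (m : ℕ)
    (P : Type u) [CommRing P] [IsAdicComplete (Ideal.span {(p : P)}) P]
    (I J : Ideal P) (hJ : DividedPowers J) (hJI : J ≤ I)
    (hpow : ∀ x ∈ I, x ^ (p ^ m) ∈ J) (hmul : ∀ x ∈ I, (p : P) * x ∈ J)
    (u : P) (hu : IsUnit (Ideal.Quotient.mk I u)) : IsUnit u := by
  obtain ⟨v', hv'⟩ := isUnit_iff_exists_inv.1 hu
  obtain ⟨v, rfl⟩ := Ideal.Quotient.mk_surjective v'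
  rw [← map_mul, ← map_one (Ideal.Quotient.mk I), Ideal.Quotient.eq] at hv'
  have hjac : Ideal.span {(p : P)} ≤ Ideal.jacobson ⊥ := IsAdicComplete.le_jacobson_bot _
  have hx : u * v - 1 ∈ Ideal.jacobson (⊥ : Ideal P) := by
    have h1 : ((u * v - 1) ^ (p ^ m)) ^ p ∈ Ideal.jacobson (⊥ : Ideal P) := by
      rw [← hJ.factorial_mul_dpow_eq_pow (hpow _ hv')]
      refine hjac (Ideal.mul_mem_right _ _ (Ideal.mem_span_singleton.2 ?_))
      exact_mod_cast Nat.cast_dvd_cast (Nat.dvd_factorial (Fact.out : p.Prime).pos le_rfl)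
    rw [← pow_mul] at h1
    exact (Ideal.isRadical_jacobson ⊥) ⟨_, h1⟩
  have := Ideal.mem_jacobson_bot.1 hx 1
  rw [mul_one, sub_add_cancel] at this
  exact isUnit_of_mul_isUnit_left this

end Groth.Agent.S19348
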