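import Groth.Statements.S1935
import Groth.Agent.Grpd80.EtaleFinitePart

set_option autoImplicit false
universe u
open CategoryTheory CategoryTheory.Limits AlgebraicGeometry
open Grpd

namespace Groth.Agent.S1935

/-- Let (U, R, s, t, c) be a groupoid scheme over S, p a point of S and u a point of U over p. Assume U
→ S is locally of finite type, separated and quasi-finite at u (u has an open neighbourhood meeting
the fibre over p only in u), R → S is separated, s and t are flat and locally of finite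
presentation, s⁻¹{u} is finite, and j = (t, s) : R → U ×_S U is universally closed. Then there are
an étale neighbourhood g : (S', p') → (S, p) inducing an isomorphism of residue fields κ(p) ≅ κ(p')
and open-and-closed subsets U' ⊆ U_{S'} = U ×_S S' and R' ⊆ R_{S'} = R ×_S S' such that, writing s',
t' : R_{S'} → U_{S'} for the base changes of s and t: some point u' of U' lies over u and over p';
for every such u' the fibre of U' over p' is t'(s'⁻¹{u'}); the fibre of R' over p' is s'⁻¹ of the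
fibre of U' over p'; U' and R' are finite over S'; s' and t' map R' into U'; and R' is the full
restriction of R_{S'} to U', i.e. R' = s'⁻¹(U') ∩ t'⁻¹(U'). The published statement obtains all
conclusions but the last without assuming j universally closed and adds the last one under that
assumption; here j universally closed is assumed throughout. The published statement also has
further conclusions, which are not stated here. (A groupoid scheme carries U, R, s, t, c, e, i over
S with the groupoid axioms on T-points.) -/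
theorem result (S : Scheme.{u}) (G : Grpd.GroupoidScheme S) (p : S) (u : G.U) (hu : G.pU u = p) [UniversallyClosed G.j] [LocallyOfFiniteType G.pU] [IsSeparated G.pU] [IsSeparated G.pR] [Flat G.s] [LocallyOfFinitePresentation G.s] [Flat G.t] [LocallyOfFinitePresentation G.t] (hqf : ∃ V : G.U.Opens, u ∈ V ∧ ∀ x ∈ V, G.pU x = p → x = u) (hfin : (⇑G.s ⁻¹' {u}).Finite) : ∃ (S' : Scheme.{u}) (g : S' ⟶ S) (p' : S') (_ : Hens2.IsEtaleNbhd g p' p) (U' : (pullback G.pU g).Opens) (R' : (pullback G.pR g).Opens), IsClosed (U' : Set ↥(pullback G.pU g)) ∧ IsClosed (R' : Set ↥(pullback G.pR g)) ∧ (∃ u' : ↥(pullback G.pU g), u' ∈ U' ∧ pullback.fst G.pU g u' = u ∧ pullback.snd G.pU g u' = p') ∧ (∀ u' : ↥(pullback G.pU g), u' ∈ U' → pullback.fst G.pU g u' = u → pullback.snd G.pU g u' = p' → {x : ↥(pullback G.pU g) | x ∈ U' ∧ pullback.snd G.pU g x = p'} = ⇑(pullback.map G.pR g G.pU g G.t (𝟙 S') (𝟙 S) ((Category.comp_id _).trans G.t_over.symm) ((Category.comp_id _).trans (Category.id_comp _).symm)) ''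 (⇑(pullback.map G.pR g G.pU g G.s (𝟙 S') (𝟙 S) ((Category.comp_id _).trans G.s_over.symm) ((Category.comp_id _).trans (Category.id_comp _).symm)) ⁻¹' {u'})) ∧ {r : ↥(pullback G.pR g) | r ∈ R' ∧ pullback.snd G.pR g r = p'} = ⇑(pullback.map G.pR g G.pU g G.s (𝟙 S') (𝟙 S) ((Category.comp_id _).trans G.s_over.symm) ((Category.comp_id _).trans (Category.id_comp _).symm)) ⁻¹' {x | x ∈ U' ∧ pullback.snd G.pU g x = p'} ∧ IsFinite (U'.ι ≫ pullback.snd G.pU g) ∧ IsFinite (R'.ι ≫ pullback.snd G.pR g) ∧ ⇑(pullback.map G.pR g G.pU g G.s (𝟙 S') (𝟙 S) ((Category.comp_id _).trans G.s_over.symm) ((Category.comp_id _).trans (Category.id_comp _).symm)) '' (R' : Set ↥(pullback G.pR g)) ⊆ U' ∧ ⇑(pullback.map G.pR g G.pU g G.t (𝟙 S') (𝟙 S) ((Category.comp_id _).trans G.t_over.symm) ((Category.comp_id _).trans (Category.id_comp _).symm)) '' (R' : Set ↥(pullback G.pR g)) ⊆ U' ∧ (R' : Set ↥(pullback G.pR g)) = ⇑(pullback.map G.pR g G.pU g G.s (𝟙 S') (𝟙 S) ((Category.comp_id _).trans G.s_over.symm) ((Category.comp_id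 _).trans (Category.id_comp _).symm)) ⁻¹' (U' : Set ↥(pullback G.pU g)) ∩ ⇑(pullback.map G.pR g G.pU g G.t (𝟙 S') (𝟙 S) ((Category.comp_id _).trans G.t_over.symm) ((Category.comp_id _).trans (Category.id_comp _).symm)) ⁻¹' (U' : Set ↥(pullback G.pU g)) := by
  obtain ⟨S', g, p', hg, hgp, hiso, U', R', h⟩ := Grpd80.exists_goodPart G p u hu hqf hfin
  obtain ⟨O, hpO, hO⟩ := h.exists_full
  have h' := h.transfer G O.ι ⟨p', hpO⟩ rfl
  have hgp' : (O.ι ≫ g) (⟨p', hpO⟩ : O.toScheme) = p := hgp
  have hiso' : IsIso ((O.ι ≫ g).residueFieldMap (⟨p', hpO⟩ : O.toScheme)) := by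
    rw [Scheme.residueFieldMap_comp]
    exact IsIso.comp_isIso' hiso inferInstance
  refine ⟨_, O.ι ≫ g, ⟨p', hpO⟩, ⟨inferInstance, hgp', ConcreteCategory.bijective_of_isIso _⟩, _, _,
    h'.partU.closed, h'.partR.closed, h'.exists_point hu hgp',
    fun u' _ h1 h2 => h'.fibre_eq u' h1 h2, h'.fibreR_eq, h'.partU.finite, h'.partR.finite,
    h'.sMaps, h'.tMaps, Set.Subset.antisymm
      (fun x hx => ⟨h'.sMaps ⟨x, hx, rfl⟩, h'.tMaps ⟨x, hx, rfl⟩⟩) ?_⟩
  rintro x ⟨hs, ht⟩
  let m := pullback.map G.pR (O.ι ≫ g) G.pR g (𝟙 _) O.ι (𝟙 S) (by simp) (by simp)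
  let mU := pullback.map G.pU (O.ι ≫ g) G.pU g (𝟙 _) O.ι (𝟙 S) (by simp) (by simp)
  have e1 : m ≫ Grpd80.sBC G g = Grpd80.sBC G (O.ι ≫ g) ≫ mU := by
    apply pullback.hom_ext <;>
      simp [m, mU, pullback.lift_fst, pullback.lift_snd, pullback.lift_fst_assoc, pullback.lift_snd_assoc]
  have e2 : m ≫ Grpd80.tBC G g = Grpd80.tBC G (O.ι ≫ g) ≫ mU := by
    apply pullback.hom_ext <;>
      simp [m, mU, pullback.lift_fst, pullback.lift_snd, pullback.lift_fst_assoc, pullback.lift_snd_assoc]
  refine hO (m x) ?_ ?_ ?_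
  · rw [← Scheme.Hom.comp_apply, e1]; exact hs
  · rw [← Scheme.Hom.comp_apply, e2]; exact ht
  · rw [← Scheme.Hom.comp_apply, pullback.lift_snd, Scheme.Hom.comp_apply]
    exact (pullback.snd G.pR (O.ι ≫ g) x).2

end Groth.Agent.S1935
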