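import Groth.Statements.S19356
import Mathlib
-- import your own Groth.Agent.* helpers here

set_option autoImplicit false
universe u
open AbVar

namespace Groth.Agent.S19356
open Polynomial

theorem core {S : Type u} [CommRing S] [Algebra ℚ S] [Module.Finite ℚ S] (B : LinearMap.BilinForm ℚ S)
    (hs : LinearMap.IsSymm B) (hpos : ∀ x, x ≠ 0 → 0 < B x x) (a : S) (q : ℚ)
    (hB : ∀ x y, B (a * x) (a * y) = q * B x y) (ρ : S →ₐ[ℚ] ℂ) : ‖ρ a‖ ^ 2 = (q : ℝ) := by
  obtain ⟨v, hv⟩ := LinearMap.BilinForm.exists_orthogonal_basis hs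
  set d := fun i => B (v i) (v i) with hd
  have hdpos : ∀ i, 0 < d i := fun i => hpos _ (v.ne_zero i)
  let M := LinearMap.toMatrix v v (Algebra.lmul ℚ S a)
  have hM : ∀ i j, ∑ k, M k i * M k j * d k = q * (if i = j then d i else 0) := by
    intro i j
    have h1 : ∀ i, a * v i = ∑ k, M k i • v k := by
      intro i
      conv_lhs => rw [← v.sum_repr (a * v i)]
      exact Finset.sum_congr rfl fun k _ => by simp [M, LinearMap.toMatrix_apply]
    have e : B (v i) (v j) = if i = j then d i else 0 := by
      split_ifs with h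
      · subst h; rfl
      · exact hv h
    rw [← e, ← hB, h1, h1]
    simp only [map_sum, map_smul, LinearMap.sum_apply, LinearMap.smul_apply, smul_eq_mul, Finset.mul_sum]
    refine Finset.sum_congr rfl fun k _ => ?_
    rw [Finset.sum_eq_single k]
    · ring
    · intro b _ hb; rw [show B (v b) (v k) = 0 from hv hb]; simp
    · simp
  have hP : aeval a M.charpoly = 0 := by
    have : aeval (Algebra.lmul ℚ S a) M.charpoly = 0 := by
      apply (LinearMap.toMatrixAlgEquiv v).injective
      rw [← aeval_algHom_apply, map_zero]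
      exact M.aeval_self_charpoly
    rw [aeval_algHom_apply] at this
    have := LinearMap.congr_fun this 1
    simpa using this
  have hroot : (M.map (algebraMap ℚ ℂ)).charpoly.eval (ρ a) = 0 := by
    rw [Matrix.charpoly_map, eval_map_algebraMap, aeval_algHom_apply, hP, map_zero]
  rw [Matrix.eval_charpoly] at hroot
  obtain ⟨w, hw0, hw⟩ := Matrix.exists_mulVec_eq_zero_iff.mpr hroot
  have hMw : ∀ k, ∑ i, (M k i : ℂ) * w i = ρ a * w k := by
    intro k
    have := congrFun hw k
    simp only [Matrix.sub_mulVec, Pi.sub_apply, Pi.zero_apply, sub_eq_zero, Matrix.scalar_apply,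
      Matrix.mulVec_diagonal] at this
    rw [this]; simp [Matrix.mulVec, dotProduct, eq_ratCast]
  have key : ∑ k, (d k : ℂ) * (ρ a * w k * starRingEnd ℂ (ρ a * w k)) = (q : ℂ) * ∑ k, (d k : ℂ) * (w k * starRingEnd ℂ (w k)) := by
    calc _ = ∑ k, (d k : ℂ) * ((∑ i, (M k i : ℂ) * w i) * ∑ j, (M k j : ℂ) * starRingEnd ℂ (w j)) := by
          refine Finset.sum_congr rfl fun k _ => ?_
          rw [← hMw k]; simp [map_sum]
      _ = ∑ i, ∑ j, ((∑ k, M k i * M k j * d k : ℚ) : ℂ) * (w i * starRingEnd ℂ (w j)) := by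
          simp only [Finset.sum_mul_sum]
          simp only [Finset.mul_sum, Finset.sum_mul, Rat.cast_sum, Rat.cast_mul]
          conv_lhs => rw [Finset.sum_comm]
          refine Finset.sum_congr rfl fun i _ => ?_
          rw [Finset.sum_comm]
          exact Finset.sum_congr rfl fun j _ => Finset.sum_congr rfl fun k _ => by ring
      _ = _ := by
          rw [Finset.mul_sum]
          refine Finset.sum_congr rfl fun i _ => ?_
          rw [Finset.sum_eq_single i]
          · rw [hM]; simp; ring
          · intro j _ hj; rw [hM]; simp [hj.symm]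
          · simp
  simp only [Complex.mul_conj', norm_mul] at key
  have key' : ∑ k, (d k : ℝ) * (‖ρ a‖ * ‖w k‖) ^ 2 = (q : ℝ) * ∑ k, (d k : ℝ) * ‖w k‖ ^ 2 := by exact_mod_cast key
  have hsum : 0 < ∑ k, (d k : ℝ) * ‖w k‖ ^ 2 := by
    obtain ⟨k, hk⟩ := Function.ne_iff.mp hw0
    refine Finset.sum_pos' (fun i _ => ?_) ⟨k, Finset.mem_univ k, ?_⟩
    · have : (0:ℝ) < d i := by exact_mod_cast hdpos i
      positivity
    · have : (0:ℝ) < d k := by exact_mod_cast hdpos k
      have : 0 < ‖w k‖ := norm_pos_iff.mpr hk
      positivity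
  apply mul_right_cancel₀ hsum.ne'
  rw [← key', Finset.mul_sum]
  exact Finset.sum_congr rfl fun k _ => by ring


/-- Let R be a finite-dimensional ℚ-algebra with a ℚ-linear involution x ↦ x† (an anti-automorphism of
order two) and a ℚ-linear functional σ with σ(x x†) > 0 for every x ≠ 0; this is the positivity of
the involution, σ being the trace of R over ℚ in the case of the endomorphism algebra of an abelian
variety with a Rosati involution, and the trace on a cohomology group in the case of an algebra of
correspondences with the adjoint for a Weil form. Let α ∈ R with α α† = q for a rational number q.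
Then α† lies in the subalgebra ℚ[α], and for every ℚ-algebra homomorphism ρ : ℚ[α] → ℂ one has ρ(α†)
= the complex conjugate of ρ(α) and |ρ(α)|² = q. (The published statement is for the endomorphism
algebra of an abelian variety with a Rosati involution, with σ its trace over ℚ and q an integer;
the form given here, for an arbitrary ℚ-linear functional σ positive on every x x† with x ≠ 0 and
rational q, is what its proof establishes.) -/
theorem result (R : Type u) [Ring R] [Algebra ℚ R]
    [Module.Finite ℚ R] [StarRing R] [StarModule ℚ R]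
    (σ : R →ₗ[ℚ] ℚ) (hpos : ∀ x : R, x ≠ 0 → 0 < σ (x * star x))
    (α : R) (q : ℚ) (hα : α * star α = algebraMap ℚ R q) :
    ∃ hmem : star α ∈ Algebra.adjoin ℚ ({α} : Set R),
      ∀ ρ : Algebra.adjoin ℚ ({α} : Set R) →ₐ[ℚ] ℂ,
        ρ ⟨star α, hmem⟩ = starRingEnd ℂ (ρ ⟨α, Algebra.self_mem_adjoin_singleton ℚ α⟩) ∧
          ‖ρ ⟨α, Algebra.self_mem_adjoin_singleton ℚ α⟩‖ ^ 2 = (q : ℝ) := by
  by_cases hα0 : α = 0
  · subst hα0
    refine ⟨by simp, fun ρ => ?_⟩
    rcases subsingleton_or_nontrivial R with hR | hR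
    · have := congrArg ρ (Subsingleton.elim (1 : Algebra.adjoin ℚ ({0} : Set R)) 0)
      simp at this
    have hq : q = 0 := by
      apply (algebraMap ℚ R).injective
      rw [← hα]; simp
    have e : (⟨(0:R), Algebra.self_mem_adjoin_singleton ℚ (0:R)⟩ : Algebra.adjoin ℚ ({0} : Set R)) = 0 := rfl
    have e' : ∀ h, (⟨star (0:R), h⟩ : Algebra.adjoin ℚ ({0} : Set R)) = 0 := fun h => Subtype.ext (star_zero R)
    simp [e, e', hq]
  have hq : q ≠ 0 := by
    rintro rfl
    have := hpos α hα0
    rw [hα] at this; simp at this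
  have hne : Nontrivial R := ⟨α, 0, hα0⟩
  set S := Algebra.adjoin ℚ ({α} : Set R) with hS
  let a : S := ⟨α, Algebra.self_mem_adjoin_singleton ℚ α⟩
  obtain ⟨u, hu⟩ : IsUnit α := by
    have : α * (q⁻¹ • star α) = 1 := by rw [mul_smul_comm, hα, Algebra.algebraMap_eq_smul_one, smul_smul, inv_mul_cancel₀ hq, one_smul]
    refine ⟨⟨α, _, this, ?_⟩, rfl⟩
    have hsurj : Function.Surjective (LinearMap.mulLeft ℚ α) := fun y => ⟨(q⁻¹ • star α) * y, by
      rw [LinearMap.mulLeft_apply, ← mul_assoc, this, one_mul]⟩
    apply LinearMap.injective_iff_surjective.mpr hsurj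
    simp only [LinearMap.mulLeft_apply]
    rw [← mul_assoc, this, one_mul, mul_one]
  have hinj : Function.Injective (LinearMap.mulLeft ℚ a) := fun x y h => Subtype.ext
    ((u.isUnit.mul_right_inj).mp (by simpa [hu, a] using congrArg Subtype.val h))
  obtain ⟨b, hb⟩ := (LinearMap.injective_iff_surjective.mp hinj) (algebraMap ℚ S q)
  have hbα : (b : R) = star α := by
    apply (u.isUnit.mul_right_inj).mp
    simp only [hu, hα]
    simpa [a] using congrArg Subtype.val hb
  have hmem : star α ∈ S := hbα ▸ b.2
  letI : CommRing S := { (inferInstance : Ring S) with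
    mul_comm := fun x y => Subtype.ext (Algebra.commute_of_mem_adjoin_singleton_of_commute y.2 (Algebra.commute_of_mem_adjoin_singleton_of_commute x.2 (Commute.refl α)).symm) }
  refine ⟨hmem, fun ρ => ?_⟩
  let B : LinearMap.BilinForm ℚ S := LinearMap.mk₂ ℚ (fun x y => σ ((x:R) * star (y:R)) + σ ((y:R) * star (x:R)))
    (fun x x' y => by simp [add_mul, mul_add]; ring)
    (fun c x y => by simp [star_smul, mul_add])
    (fun x y y' => by simp [add_mul, mul_add]; ring)
    (fun c x y => by simp [star_smul, mul_add])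
  have hs : LinearMap.IsSymm B := ⟨fun x y => by simp [B, add_comm]⟩
  have hBpos : ∀ x, x ≠ 0 → 0 < B x x := fun x hx => by
    have := hpos x (fun h => hx (Subtype.ext h))
    simp [B]; linarith
  have hab : ∀ x y : S, B (a * x) (a * y) = q * B x y := by
    intro x y
    have key : ∀ x y : S, ((a * x : S) : R) * star ((a * y : S) : R) = q • ((x:R) * star (y:R)) := by
      intro x y
      have c1 : Commute α (x : R) := (Algebra.commute_of_mem_adjoin_singleton_of_commute x.2 (Commute.refl α))
      rw [show a * y = y * a from mul_comm _ _, show a * x = x * a from mul_comm _ _]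
      simp only [Subalgebra.coe_mul, star_mul, a]
      rw [mul_assoc, ← mul_assoc α, hα, ← Algebra.smul_def, mul_smul_comm]
    simp only [B, LinearMap.mk₂_apply, key, map_smul, smul_eq_mul, mul_add]
  have h2 : ‖ρ a‖ ^ 2 = (q : ℝ) := core B hs hBpos a q hab ρ
  refine ⟨?_, h2⟩
  have h3 : ρ a * ρ ⟨star α, hmem⟩ = (q : ℂ) := by
    rw [← map_mul, show a * ⟨star α, hmem⟩ = algebraMap ℚ S q from Subtype.ext hα, AlgHom.commutes, eq_ratCast]
  have hne : ρ a ≠ 0 := by intro h; rw [h, norm_zero] at h2; simp at h2; exact hq (by exact_mod_cast h2.symm)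
  apply mul_left_cancel₀ hne
  rw [h3, Complex.mul_conj']
  exact_mod_cast h2.symm

end Groth.Agent.S19356
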