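import Groth.Statements.S19374
import Groth.Agent.Fan37.Basic
import Mathlib.Analysis.Convex.Basic

set_option autoImplicit false
universe u
open CategoryTheory Opposite Instab
open Instab Instab.Fan

namespace Groth.Agent.S19374

/-- Let F be a formal fan and U ⊆ P F. Then U is locally convex in the simplex-wise sense — for every
rational simplex, a ray lying strictly between two rays that map into U also maps into U — if and
only if, for every n-cone ξ of F, the set of nonzero nonnegative vectors v of ℝ^n whose point of the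
rational simplex of ξ lies in U is a convex subset of ℝ^n (convexity of the preimage of U in each
punctured cone of the affine realization). -/
theorem result (F : Fan.{u}) (U : Set (Fan.P F)) :
    Fan.IsLocallyConvex U ↔
      ∀ (n : ICone) (ξ : F.obj (op n)),
        Convex ℝ {v : Fin n.dim → ℝ | ∃ h : (∀ i, 0 ≤ v i) ∧ v ≠ 0, Fan.P.mk ξ (⟨v, h⟩ : Fan.Orth n) ∈ U} := by
  constructor
  · intro h n ξ
    refine convex_iff_add_mem.2 ?_
    rintro v ⟨hv, hvU⟩ w ⟨hw, hwU⟩ a b ha hb hab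
    rcases eq_or_lt_of_le ha with rfl | ha
    · rw [zero_add] at hab
      subst hab
      simpa using ⟨hw, hwU⟩
    rcases eq_or_lt_of_le hb with rfl | hb
    · rw [add_zero] at hab
      subst hab
      simpa using ⟨hv, hvU⟩
    have h0 : (∀ i, 0 ≤ (a • v + b • w) i) ∧ a • v + b • w ≠ 0 := by
      refine ⟨fun i => add_nonneg (mul_nonneg ha.le (hv.1 i)) (mul_nonneg hb.le (hw.1 i)), fun h0 => hv.2 ?_⟩
      funext i
      have h1 : a * v i + b * w i = 0 := congr_fun h0 i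
      have h2 := ((add_eq_zero_iff_of_nonneg (mul_nonneg ha.le (hv.1 i)) (mul_nonneg hb.le (hw.1 i))).1 h1).1
      exact (mul_eq_zero.1 h2).resolve_left ha.ne'
    exact ⟨h0, h n ξ ⟨v, hv⟩ ⟨_, h0⟩ ⟨w, hw⟩ hvU hwU ⟨a, b, ha, hb, rfl⟩⟩
  · intro h n ξ v₀ v₁ v₂ h₀ h₂ hab
    obtain ⟨a, b, ha, hb, hv⟩ := hab
    have hs : 0 < a + b := add_pos ha hb
    have key : ∀ {x y : Fin n.dim → ℝ} (t r : ℝ), x ∈ {v : Fin n.dim → ℝ | ∃ h : (∀ i, 0 ≤ v i) ∧ v ≠ 0, Fan.P.mk ξ (⟨v, h⟩ : Fan.Orth n) ∈ U} →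
        y ∈ {v : Fin n.dim → ℝ | ∃ h : (∀ i, 0 ≤ v i) ∧ v ≠ 0, Fan.P.mk ξ (⟨v, h⟩ : Fan.Orth n) ∈ U} → 0 ≤ t → 0 ≤ r → t + r = 1 →
        t • x + r • y ∈ {v : Fin n.dim → ℝ | ∃ h : (∀ i, 0 ≤ v i) ∧ v ≠ 0, Fan.P.mk ξ (⟨v, h⟩ : Fan.Orth n) ∈ U} :=
      fun t r hx hy ht hr htr => convex_iff_add_mem.1 (h n ξ) hx hy ht hr htr
    obtain ⟨hm, hmU⟩ := key (a / (a + b)) (b / (a + b)) ⟨v₀.2, h₀⟩ ⟨v₂.2, h₂⟩
      (div_nonneg ha.le hs.le) (div_nonneg hb.le hs.le) (by rw [← add_div, div_self hs.ne'])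
    have e : v₁.1 = (a + b) • ((a / (a + b)) • v₀.1 + (b / (a + b)) • v₂.1) := by
      rw [smul_add, smul_smul, smul_smul, mul_div_cancel₀ _ hs.ne', mul_div_cancel₀ _ hs.ne', hv]
    rw [← Fan37.mk_scale ξ (v := ⟨_, hm⟩) hs e]
    exact hmU

end Groth.Agent.S19374
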