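import Groth.Statements.S19378
import Groth.Agent.Cohen12.AdicFibre
import Groth.Agent.EGA4H10.NormalFlat

set_option autoImplicit false
universe u
open EGA4

namespace Groth.Agent.S19378

/-- Let A be a Noetherian ring, J a proper ideal of A, Â the J-adic completion and A_T the localization
of A at T = 1 + J. If the canonical map A → Â is a normal homomorphism (flat with geometrically
normal fibres), then A_T is a normal ring (all local rings integrally closed domains) if and only if
Â is. (The case of the henselization of the pair and of the weak completion is not stated here.) -/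
theorem result
    (A : Type u) [CommRing A] [IsNoetherianRing A] (J : Ideal A) (hJ : J ≠ ⊤)
    (hf : EGA4.IsNormalHom A (AdicCompletion J A))
    (T : Submonoid A) (hT : T = MonoidHom.mker (Ideal.Quotient.mk J)) :
    EGA4.IsNormalRing (Localization T) ↔ EGA4.IsNormalRing (AdicCompletion J A) := by
  have : IsNoetherianRing (AdicCompletion J A) :=
    Groth.Agent.CAlg1.isNoetherianRing_adicCompletion _ (IsNoetherian.noetherian _)
  have : Module.Flat A (AdicCompletion J A) := hf.1
  subst hT
  constructor
  · intro h q _
    obtain ⟨P, hP, ⟨e⟩⟩ := Cohen12.exists_localization_equiv _ _ (Cohen12.disjoint_comap J q)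
    obtain ⟨h1, h2⟩ := h P
    exact EGA4H10.normal_localization_of_flat A (AdicCompletion J A)
      (fun r _ => EGA4H10.fibLocRing_normal hf.2 r) q (e.symm.toMulEquiv.isDomain _)
      (IsIntegrallyClosed.of_equiv e)
  · intro h P _
    obtain ⟨hd, ⟨e⟩⟩ := Cohen12.exists_prime_equiv _ P
    obtain ⟨q, hq, hover⟩ := Cohen12.exists_over_of_disjoint J _ hd
    obtain ⟨h1, h2⟩ := h q
    obtain ⟨h3, h4⟩ := EGA4H10.normal_base_of_flat A (AdicCompletion J A) q h1 h2
    have key : ∀ (r : Ideal A) [r.IsPrime], q.comap (algebraMap A (AdicCompletion J A)) = r →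
        IsDomain (Localization.AtPrime r) ∧ IsIntegrallyClosed (Localization.AtPrime r) := by
      intro r _ hr
      subst hr
      exact ⟨h3, h4⟩
    obtain ⟨h5, h6⟩ := key _ hover
    exact ⟨e.toMulEquiv.isDomain _, IsIntegrallyClosed.of_equiv e.symm⟩

end Groth.Agent.S19378
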