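import Groth.Statements.S19375
import Groth.Agent.Cohen12.ConnectedNormal
import Groth.Agent.S19378

set_option autoImplicit false
universe u
open EGA4

namespace Groth.Agent.S19375

/-- Let A be a Noetherian ring, J a proper ideal of A, Â the J-adic completion of A and A_T the
localization of A at the multiplicative set T = 1 + J (the elements congruent to 1 modulo J). Assume
that the canonical map A → Â is a normal homomorphism (flat, with geometrically normal fibres), as
happens when A is excellent. Then Â is an integrally closed domain if and only if A_T is an
integrally closed domain and the spectrum of A/J is connected. (The published statement asserts the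
equivalence of the first two conditions alone; for A = ℤ and J = 6ℤ the localization A_T is an
integrally closed domain while Â ≅ ℤ_2 × ℤ_3 is not a domain, and the published proof tacitly uses
that Spec Â, whose connected components correspond to those of Spec(A/J), is connected. The case of
the henselization of the pair and of the weak completion is not stated here.) -/
theorem result
    (A : Type u) [CommRing A] [IsNoetherianRing A] (J : Ideal A) (hJ : J ≠ ⊤)
    (hf : EGA4.IsNormalHom A (AdicCompletion J A))
    (T : Submonoid A) (hT : T = MonoidHom.mker (Ideal.Quotient.mk J)) :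
    (IsDomain (AdicCompletion J A) ∧ IsIntegrallyClosed (AdicCompletion J A)) ↔
      ((IsDomain (Localization T) ∧ IsIntegrallyClosed (Localization T)) ∧
        ConnectedSpace (PrimeSpectrum (A ⧸ J))) := by
  have hnorm := Groth.Agent.S19378.result A J hJ hf T hT
  have : IsNoetherianRing (AdicCompletion J A) :=
    Groth.Agent.CAlg1.isNoetherianRing_adicCompletion _ (IsNoetherian.noetherian _)
  have : IsNoetherianRing (Localization T) := IsLocalization.isNoetherianRing T (Localization T) inferInstance
  have hTmem : ∀ t, t ∈ T ↔ t - 1 ∈ J := fun t => by rw [hT]; exact Cohen12.mem_mker_mk J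
  -- connectedness passes from `A/J` to `A_T`
  have hconnT : ConnectedSpace (PrimeSpectrum (A ⧸ J)) → ConnectedSpace (PrimeSpectrum (Localization T)) := by
    intro h
    obtain ⟨hnt, hidem⟩ := (Cohen12.connectedSpace_iff_idempotents _).mp h
    let ψ : Localization T →+* A ⧸ J := IsLocalization.lift (M := T) (g := Ideal.Quotient.mk J) fun t => by
      rw [show Ideal.Quotient.mk J t = 1 by
        rw [← map_one (Ideal.Quotient.mk J), Ideal.Quotient.eq]; exact (hTmem t).mp t.2]
      exact isUnit_one
    have hinj0 : ∀ e : Localization T, IsIdempotentElem e → ψ e = 0 → e = 0 := fun e he h0 => by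
      obtain ⟨⟨a, s⟩, has⟩ := IsLocalization.surj T e
      have haJ : a ∈ J := by
        rw [← Ideal.Quotient.eq_zero_iff_mem]
        have := congrArg ψ has
        rw [map_mul, h0, zero_mul, IsLocalization.lift_eq] at this
        exact this.symm
      have hu : IsUnit (1 - e) := by
        have h1 : IsUnit (algebraMap A (Localization T) ((s : A) - a)) := by
          refine IsLocalization.map_units (Localization T) (⟨_, (hTmem _).mpr ?_⟩ : T)
          rw [sub_right_comm]
          exact sub_mem ((hTmem s).mp s.2) haJ
        refine isUnit_of_mul_isUnit_left (y := algebraMap A (Localization T) s) ?_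
        rwa [sub_mul, one_mul, has, ← map_sub]
      refine hu.mul_left_eq_zero.mp ?_
      rw [mul_sub, mul_one, he.eq, sub_self]
    refine (Cohen12.connectedSpace_iff_idempotents _).mpr ⟨ψ.domain_nontrivial, fun e he => ?_⟩
    rcases hidem (ψ e) (he.map ψ) with h0 | h1
    · exact Or.inl (hinj0 e he h0)
    · exact Or.inr (sub_eq_zero.mp (hinj0 (1 - e) he.one_sub (by rw [map_sub, map_one, h1, sub_self]))).symm
  have hconn := Cohen12.connectedSpace_completion_iff A J
  constructor
  · rintro ⟨hd, hic⟩
    have hCconn : ConnectedSpace (PrimeSpectrum (AdicCompletion J A)) :=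
      (Cohen12.connectedSpace_iff_idempotents _).mpr ⟨inferInstance, fun e he => IsIdempotentElem.iff_eq_zero_or_one.mp he⟩
    have hAJ := hconn.mp hCconn
    exact ⟨Cohen12.isDomain_of_normal _ (hnorm.mpr (EGA4H10.normal_of_domain _)) (hconnT hAJ), hAJ⟩
  · rintro ⟨⟨hd, hic⟩, hAJ⟩
    exact Cohen12.isDomain_of_normal _ (hnorm.mp (EGA4H10.normal_of_domain _)) (hconn.mpr hAJ)

end Groth.Agent.S19375
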