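import Groth.Statements.S19376
import Groth.Agent.Cohen12.FiniteLift
import Groth.Agent.Cohen12.Section
import Mathlib.RingTheory.AdicCompletion.LocalRing
import Mathlib.RingTheory.Smooth.Basic

set_option autoImplicit false
universe u
open EGA4

namespace Groth.Agent.S19376

/-- Let V be an excellent normal ring with no additive torsion, I an ideal of V such that (V, I) is a
henselian pair, A and C smooth V-algebras, and φ₀ a V-algebra homomorphism from A/IA to C/IC which
is finite. Then φ₀ lifts to a finite V-algebra homomorphism φ from the IA-adic completion of A to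
the IC-adic completion of C: composing φ with the projection onto C/IC equals the projection onto
A/IA followed by φ₀. (The published statement also treats finite flat, finite faithfully flat and
finite étale maps, whose proofs are referred elsewhere; only the finite case is stated.) -/
theorem result
    (V : Type u) [CommRing V] [IsAddTorsionFree V]
    (hexc : EGA4.IsExcellent V) (hV : EGA4.IsNormalRing V)
    (I : Ideal V) [HenselianRing V I]
    (A C : Type u) [CommRing A] [Algebra V A] [Algebra.Smooth V A]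
    [CommRing C] [Algebra V C] [Algebra.Smooth V C]
    (φ₀ : (A ⧸ I.map (algebraMap V A)) →ₐ[V] (C ⧸ I.map (algebraMap V C)))
    (hφ₀ : φ₀.toRingHom.Finite) :
    ∃ φ : AdicCompletion (I.map (algebraMap V A)) A →ₐ[V]
        AdicCompletion (I.map (algebraMap V C)) C,
      φ.toRingHom.Finite ∧
      (AdicCompletion.evalOneₐ (I.map (algebraMap V C))).toRingHom.comp φ.toRingHom =
        φ₀.toRingHom.comp (AdicCompletion.evalOneₐ (I.map (algebraMap V A))).toRingHom := by
  classical
  have : IsNoetherianRing V := hexc.1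
  have : IsNoetherianRing A := Algebra.FiniteType.isNoetherianRing V A
  have : IsNoetherianRing C := Algebra.FiniteType.isNoetherianRing V C
  let IA := I.map (algebraMap V A)
  let IC := I.map (algebraMap V C)
  let Ah := AdicCompletion IA A
  let Ch := AdicCompletion IC C
  let J' : Ideal Ch := IC.map (algebraMap C Ch)
  have : IsAdicComplete J' Ch := AdicCompletion.isAdicComplete_self IC (IsNoetherian.noetherian _)
  have := AdicCompletion.isAdicComplete_self IA (IsNoetherian.noetherian _)
  let π : Ch →ₐ[V] C ⧸ IC := (AdicCompletion.evalOneₐ IC).restrictScalars V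
  have hπ : Function.Surjective π := AdicCompletion.evalOneₐ_surjective IC
  have hkerπ : RingHom.ker π = J' := AdicCompletion.ker_evalOneₐ_eq_map IC (IsNoetherian.noetherian _)
  have hπmk : ∀ x : Ch, x ∈ J' ↔ π x = 0 := fun x => by rw [← hkerπ, RingHom.mem_ker]
  -- the map modulo `I`, lifted by formal smoothness
  let eker := Ideal.quotientKerAlgEquivOfSurjective hπ
  let eJ : (C ⧸ IC) →ₐ[V] Ch ⧸ J' :=
    (Ideal.quotientEquivAlgOfEq V hkerπ).toAlgHom.comp eker.symm.toAlgHom
  have heJ : ∀ x : Ch, eJ (π x) = Ideal.Quotient.mk J' x := fun x => by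
    show Ideal.quotientEquivAlgOfEq V hkerπ (eker.symm (π x)) = _
    rw [show π x = eker (Ideal.Quotient.mk _ x) from rfl, eker.symm_apply_apply]
    rfl
  have heJi : ∀ y, eJ y = 0 → y = 0 := fun y hy => by
    obtain ⟨x, rfl⟩ := hπ y
    rw [heJ, Ideal.Quotient.eq_zero_iff_mem] at hy
    exact (hπmk x).mp hy
  obtain ⟨g, hg⟩ := Cohen12.exists_lift_complete J' ((eJ.comp φ₀).comp (Ideal.Quotient.mkₐ V IA))
  have hgπ : ∀ a, π (g a) = φ₀ (Ideal.Quotient.mk IA a) := fun a => by
    obtain ⟨x, hx⟩ := hπ (φ₀ (Ideal.Quotient.mk IA a))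
    have h := hg a
    rw [AlgHom.comp_apply, AlgHom.comp_apply, Ideal.Quotient.mkₐ_eq_mk, ← hx, heJ, Ideal.Quotient.eq,
      hπmk, map_sub, sub_eq_zero] at h
    rw [h, hx]
  have hJg : IA.map g ≤ J' := by
    rw [Ideal.map_le_iff_le_comap]
    intro a ha
    rw [Ideal.mem_comap, hπmk, hgπ, Ideal.Quotient.eq_zero_iff_mem.mpr ha, map_zero]
  obtain ⟨φ, hφ⟩ := Cohen12.exists_algHom_extension IA J' g hJg
  have hcomm : ∀ c : Ah, π (φ c) = φ₀ (AdicCompletion.evalOneₐ IA c) := by
    intro c
    obtain ⟨a, ha⟩ := Ideal.Quotient.mk_surjective (AdicCompletion.evalOneₐ IA c)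
    have hmem : c - algebraMap A Ah a ∈ IA.map (algebraMap A Ah) := by
      rw [← AdicCompletion.ker_evalOneₐ_eq_map IA (IsNoetherian.noetherian _)]
      show AdicCompletion.evalOneₐ IA (c - algebraMap A Ah a) = 0
      rw [map_sub, AlgHom.commutes, ← ha, Ideal.Quotient.algebraMap_eq, sub_self]
    have h0 : φ (c - algebraMap A Ah a) ∈ J' := by
      have hle : (IA.map (algebraMap A Ah)).map φ ≤ J' := by
        rw [Ideal.map_le_iff_le_comap, Ideal.map_le_iff_le_comap]
        intro x hx
        rw [Ideal.mem_comap, Ideal.mem_comap, hφ]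
        exact hJg (Ideal.mem_map_of_mem _ hx)
      exact hle (Ideal.mem_map_of_mem _ hmem)
    rw [hπmk, map_sub, map_sub, sub_eq_zero, hφ, hgπ, ha] at h0
    exact h0
  refine ⟨φ, ?_, RingHom.ext hcomm⟩
  -- finiteness
  have hJeq : (IA.map (algebraMap A Ah)).map φ.toRingHom = J' := by
    have h1 : I.map ((φ.toRingHom.comp (algebraMap A Ah)).comp (algebraMap V A)) =
        I.map ((algebraMap C Ch).comp (algebraMap V C)) := by
      congr 1
      refine RingHom.ext fun v => ?_
      show φ (algebraMap A Ah (algebraMap V A v)) = algebraMap C Ch (algebraMap V C v)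
      rw [hφ, AlgHom.commutes, ← IsScalarTower.algebraMap_apply]
    rw [← Ideal.map_map, ← Ideal.map_map, ← Ideal.map_map] at h1
    exact h1
  have : IsHausdorff ((IA.map (algebraMap A Ah)).map φ.toRingHom) Ch := by rw [hJeq]; infer_instance
  refine Cohen12.finite_of_finite_mk_comp φ.toRingHom (IA.map (algebraMap A Ah)) ?_
  rw [hJeq]
  have heq : (Ideal.Quotient.mk J').comp φ.toRingHom =
      eJ.toRingHom.comp (φ₀.toRingHom.comp (AdicCompletion.evalOneₐ IA).toRingHom) := by
    ext c
    show Ideal.Quotient.mk J' (φ c) = eJ (φ₀ (AdicCompletion.evalOneₐ IA c))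
    rw [← hcomm, heJ]
  rw [heq]
  refine RingHom.Finite.comp (RingHom.Finite.of_surjective _ fun y => ?_)
    (hφ₀.comp (RingHom.Finite.of_surjective _ (AdicCompletion.evalOneₐ_surjective IA)))
  obtain ⟨x, rfl⟩ := Ideal.Quotient.mk_surjective y
  exact ⟨π x, heJ x⟩

end Groth.Agent.S19376
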