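import Groth.Statements.S19377
import Groth.Agent.EGA73.RelAmpleComp
import Groth.Agent.S12416
import Groth.Agent.S4418
import Groth.Agent.SecComp38.Open
import Groth.Agent.Amp73.QA

set_option autoImplicit false
universe u
open CategoryTheory AlgebraicGeometry
open RelProj

namespace Groth.Agent.S19377

/-- Let k be a field, S a smooth, separated and quasi-compact k-scheme and f : X → S a proper smooth
morphism. The following two conditions are equivalent. (P): there is a dense open subscheme U of X,
quasi-projective over S, such that every connected component of S has a point not lying in the image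
f(X ∖ U). Generic projectivity: there is a dense open subscheme V of S such that the restriction
f⁻¹(V) → V of f is projective. (The source works over the residue field of a complete discrete
valuation ring of mixed characteristic and adds that the restriction over V is smooth, which is
automatic; the base field plays no role and is arbitrary here.) -/
theorem result
    {k : Type u} [Field k] {X S : Scheme.{u}} (f : X ⟶ S) (g : S ⟶ Spec (.of k))
    [Smooth g] [IsSeparated g] [QuasiCompact g] [IsProper f] [Smooth f] :
    (∃ U : X.Opens, Dense (U : Set X) ∧ RelProj.IsQuasiProjective (U.ι ≫ f) ∧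
        ∀ s : S, ∃ s' : S, s' ∈ connectedComponent s ∧ s' ∉ ⇑f.base '' (U : Set X)ᶜ) ↔
      ∃ V : S.Opens, Dense (V : Set S) ∧ RelProj.IsProjective (f ∣_ V) := by
  have : IsLocallyNoetherian S := LocallyOfFiniteType.isLocallyNoetherian g
  have : CompactSpace S := QuasiCompact.compactSpace_of_compactSpace g
  have : IsNoetherian S := ⟨⟩
  have : IsLocallyNoetherian X := LocallyOfFiniteType.isLocallyNoetherian f
  have : CompactSpace X := QuasiCompact.compactSpace_of_compactSpace f
  have : IsNoetherian X := ⟨⟩
  constructor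
  · rintro ⟨U, -, ⟨_, _, L, hL⟩, hUS⟩
    let V : S.Opens := ⟨(⇑f.base '' (U : Set X)ᶜ)ᶜ, (f.isClosedMap _ U.2.isClosed_compl).isOpen_compl⟩
    refine ⟨V, dense_iff_inter_open.mpr fun W hW ⟨s, hs⟩ => ?_, ?_⟩
    · obtain ⟨s₁, hs₁, hV⟩ := hUS s
      obtain ⟨z, -, hz⟩ := Groth.Agent.SecComp38.isPreirreducible_connectedComponent g s W (V : Set S) hW V.2
        ⟨s, mem_connectedComponent, hs⟩ ⟨s₁, hs₁, hV⟩
      exact ⟨z, hz⟩
    · have hle : f ⁻¹ᵁ V ≤ U := fun x hx => by
        by_contra hxU
        exact hx ⟨x, hxU, rfl⟩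
      let j := X.homOfLE hle
      have : QuasiCompact j := QuasiCompact.of_comp j U.ι
      have h1 := Groth.Agent.Amp73.isRelAmple_pullback_comp j
        (Groth.Agent.Amp73.isQuasiAffine_of_isEmbedding j j.isOpenEmbedding.isEmbedding) hL
      rw [show j ≫ U.ι ≫ f = (f ∣_ V) ≫ V.ι by rw [Scheme.homOfLE_ι_assoc, morphismRestrict_ι]] at h1
      have : CompactSpace (V : Scheme.{u}) := isCompact_iff_compactSpace.mp (TopologicalSpace.NoetherianSpace.isCompact _)
      exact Groth.Agent.S12416.result (f ∣_ V) ⟨inferInstance, inferInstance, _,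
        Groth.Agent.Amp73.isRelAmple_of_comp (f ∣_ V) V.ι h1⟩
  · rintro ⟨V, hV, hproj⟩
    refine ⟨f ⁻¹ᵁ V, hV.preimage f.isOpenMap, ?_, fun s => ?_⟩
    · obtain ⟨⟨_, _, L, hL⟩, -⟩ := Groth.Agent.S4418.result _ hproj
      have hK := (Groth.Agent.Amp73.isQuasiAffine_iff_isRelAmple V.ι).mp
        (Groth.Agent.Amp73.isQuasiAffine_of_isEmbedding V.ι V.ι.isOpenEmbedding.isEmbedding)
      obtain ⟨n, -, hn⟩ := Groth.Agent.EGA73.RelAmpleComp.eventually_isRelAmple_comp (f ∣_ V) V.ι hL hK
      rw [RelProj.IsQuasiProjective, ← morphismRestrict_ι f V]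
      exact ⟨inferInstance, inferInstance, _, hn n le_rfl⟩
    · obtain ⟨o, ho, hne, hsub⟩ := TopologicalSpace.NoetherianSpace.exists_isOpen_nonempty_subset_irreducibleComponent
        (irreducibleComponent s) (irreducibleComponent_mem_irreducibleComponents s)
      obtain ⟨s₁, hs₁, hs₁V⟩ := hV.inter_open_nonempty o ho hne
      refine ⟨s₁, irreducibleComponent_subset_connectedComponent (hsub hs₁), ?_⟩
      rintro ⟨x, hx, rfl⟩
      exact hx hs₁V

end Groth.Agent.S19377
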