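import Groth.Statements.S19383
import Mathlib.RingTheory.AdicCompletion.AsTensorProduct
import Mathlib.RingTheory.Flat.TorsionFree
import Mathlib.RingTheory.Filtration
import Mathlib.RingTheory.Flat.Stability
import Mathlib.RingTheory.DiscreteValuationRing.Basic

set_option autoImplicit false
universe u
open CAlg

namespace Groth.Agent.S19383

/-- Over a discrete valuation ring, let V be a henselian discrete valuation ring with maximal ideal 𝔪
and B a Noetherian V-algebra, B̂ its 𝔪B-adic completion. Then B is flat over V if and only if B̂ is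
flat over V. (The published lemma takes V an excellent normal ring with an ideal I such that (V,
V/I) is a henselian pair and B of finite type; in that generality it fails: for V = ℤ_p[[x]], I =
(p) and B = V[y]/(x, py − 1) ≅ ℚ_p one has IB = B, so B̂ = 0 is flat while B is not flat over V.
Over a discrete valuation ring flatness is torsion-freeness and the statement holds for every
Noetherian B.) -/
theorem result
    (V : Type u) [CommRing V] [IsDomain V] [IsDiscreteValuationRing V] [HenselianLocalRing V]
    (B : Type u) [CommRing B] [Algebra V B] [IsNoetherianRing B] :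
    Module.Flat V B ↔
      Module.Flat V (AdicCompletion ((IsLocalRing.maximalIdeal V).map (algebraMap V B)) B) := by

  refine ⟨fun _ => Module.Flat.trans V B _, fun h => ?_⟩
  obtain ⟨π, hπ⟩ := IsDiscreteValuationRing.exists_irreducible V
  have hm := (IsDiscreteValuationRing.irreducible_iff_uniformizer π).mp hπ
  set I := (IsLocalRing.maximalIdeal V).map (algebraMap V B)
  rw [Module.Flat.flat_iff_torsion_eq_bot_of_isBezout, eq_bot_iff]
  intro b hb
  obtain ⟨⟨v, hv⟩, hvb⟩ := (Submodule.mem_torsion_iff b).mp hb
  have hv0 : v ≠ 0 := nonZeroDivisors.ne_zero hv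
  -- reduce to `π`
  have key : ∀ x : B, π • x = 0 → x = 0 := by
    intro x hx
    have hof : (AdicCompletion.of I B x) = 0 := by
      have ht : Submodule.torsion V (AdicCompletion I B) = ⊥ := Module.Flat.torsion_eq_bot
      rw [← Submodule.mem_bot V, ← ht, Submodule.mem_torsion_iff]
      refine ⟨⟨π, mem_nonZeroDivisors_of_ne_zero hπ.ne_zero⟩, ?_⟩
      rw [Submonoid.smul_def, ← LinearMap.map_smul_of_tower, hx, map_zero]
    have hmem : x ∈ (⨅ n : ℕ, I ^ n • ⊤ : Submodule B B) := by
      rw [Submodule.mem_iInf]
      intro n
      have := congrArg (fun z : AdicCompletion I B => z.1 n) hof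
      simp only [AdicCompletion.of_apply] at this
      exact (Submodule.Quotient.mk_eq_zero _).mp this
    obtain ⟨⟨r, hr⟩, hrx⟩ := (Ideal.mem_iInf_smul_pow_eq_bot_iff I x).mp hmem
    rw [show I = Ideal.span {algebraMap V B π} by
      simp only [I, hm, Ideal.map_span, Set.image_singleton], Ideal.mem_span_singleton'] at hr
    obtain ⟨c, rfl⟩ := hr
    rw [← hrx]
    show (c * algebraMap V B π) * x = 0
    rw [mul_assoc, ← Algebra.smul_def, hx, mul_zero]
  obtain ⟨n, u, rfl⟩ := IsDiscreteValuationRing.eq_unit_mul_pow_irreducible hv0 hπ
  rw [Submonoid.smul_def] at hvb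
  have hvb' : π ^ n • b = 0 := by
    simp only [mul_smul] at hvb
    exact (IsUnit.smul_eq_zero u.isUnit).mp hvb
  clear hvb hv hv0 hb
  rw [Submodule.mem_bot]
  induction n with
  | zero => simpa using hvb'
  | succ n ih => rw [pow_succ', mul_smul] at hvb'; exact ih (key _ hvb')

end Groth.Agent.S19383
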