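import Groth.Statements.S19384
import Groth.Agent.Versch53.Basic

set_option autoImplicit false
set_option linter.unusedVariables false
universe u
open Versch

namespace Groth.Agent.S19384

/-- Over a field and for one finite level, let k be a field of characteristic p > 0 and G = Spec A a
finite commutative k-group scheme (A a finite-dimensional commutative cocommutative Hopf algebra)
killed by p^n, i.e. the p^n-th power map of G is the trivial homomorphism, and suppose the
Verschiebung of G is an isomorphism (the ring map v : A → A ⊗_k k^(p) characterised as the
Verschiebung is bijective). Then G is infinitesimal, more precisely the n-th iterate of its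
Frobenius is trivial: a^(p^n) = 0 for every a in the augmentation ideal. (The source states this for
the p^n-torsion levels of a p-divisible group of multiplicative type over any scheme of
characteristic p and reduces to a field fibre by fibre; it also records that the Cartier dual has
unipotent fibres, which is not stated here.) -/
theorem result
    (p : ℕ) [Fact p.Prime] (k : Type u) [Field k] [CharP k p]
    (A : Type u) [CommRing A] [HopfAlgebra k A] [Coalgebra.IsCocomm k A] [Module.Finite k A]
    (n : ℕ)
    (hn : SGA3b.powConv k A (p ^ n) = (Algebra.ofId k A).comp (Bialgebra.counitAlgHom k A))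
    (v : A →+* FrobAlg.BaseChange p k A) (hv : Versch.IsVerschiebung p k A v)
    (hbij : Function.Bijective v)
    (a : A) (ha : Coalgebra.counit (R := k) a = 0) : a ^ (p ^ n) = 0 := by
  haveI : CharP A p := charP_of_injective_algebraMap (Bialgebra.algebraMap_injective (R := k) A) p
  have hF := RingHom.congr_fun (Groth.Agent.Versch53.relFrob_comp_v hv)
  have hpow : ∀ (m : ℕ) (b : A), ∃ d, SGA3b.powConv k A (p ^ m) d = b ^ p ^ m := by
    intro m
    induction m with
    | zero => exact fun b => ⟨b, by simp [SGA3b.powConv]⟩
    | succ m ih =>
      intro b
      obtain ⟨c, hc⟩ := hbij.2 (b ⊗ₜ[k] (1 : FrobAlg.Twist p k))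
      have hb : SGA3b.powConv k A p c = b ^ p := by
        rw [← (show (SGA3b.powConv k A p).toRingHom c = SGA3b.powConv k A p c from rfl), ← hF c,
          RingHom.comp_apply, hc]
        simp [FrobAlg.relFrob, FrobAlg.frobHom, FrobAlg.inclHom, Algebra.TensorProduct.lift_tmul]
        rfl
      obtain ⟨d, hd⟩ := ih c
      refine ⟨d, ?_⟩
      rw [pow_succ', ← Groth.Agent.Versch53.powConv_comp, AlgHom.comp_apply, hd, map_pow, hb, ← pow_mul]
  obtain ⟨d, hd⟩ := hpow n a
  rw [hn, AlgHom.comp_apply, Algebra.ofId_apply] at hd
  have h0 : Coalgebra.counit (R := k) d = 0 := by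
    have := congrArg (Bialgebra.counitAlgHom k A) hd
    rw [AlgHom.commutes, map_pow, Algebra.algebraMap_self, RingHom.id_apply] at this
    simp only [Bialgebra.counitAlgHom_apply] at this
    rw [this, ha, zero_pow (pow_ne_zero n (Fact.out : p.Prime).ne_zero)]
  rw [← hd, Bialgebra.counitAlgHom_apply, h0, map_zero]
end Groth.Agent.S19384
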