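import Mathlib

universe u

open Finset

namespace Groth.Agent.S19390

theorem result {α : Type u} [DecidableEq α] (e : ℕ) (he : 1 ≤ e)
    (x : Fin (2 * e + 1) → α)
    (hx : ∀ a : α, (Finset.univ.filter fun k => x k = a).card ≤ e) :
    ∃ i j : Fin (2 * e + 1) → Fin (2 * e + 1),
      (∀ m : Fin (2 * e + 1),
        (Finset.univ.filter fun k => i k = m).card + (Finset.univ.filter fun k => j k = m).card = 2) ∧
      (∀ k, x (i k) ≠ x (j k)) ∧
      i 0 = j 2 ∧ i 1 = j 0 ∧ i 2 = j 1 := by
  let F : α → Finset (Fin (2 * e + 1)) := fun v => univ.filter fun k => x k = v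
  have hF : ∀ v k, k ∈ F v ↔ x k = v := fun v k => by simp [F]
  have hd : ∀ {u v}, u ≠ v → Disjoint (F u) (F v) := fun {u v} huv => by
    rw [Finset.disjoint_left]
    intro k hk hk'
    exact huv (((hF u k).1 hk).symm.trans ((hF v k).1 hk'))
  have hn : (univ : Finset (Fin (2 * e + 1))).card = 2 * e + 1 := by simp
  obtain ⟨a, -, ha⟩ := exists_max_image univ (fun k => (F (x k)).card) univ_nonempty
  have hne : (univ \ F (x a)).Nonempty := by
    rw [← card_pos, card_sdiff, inter_univ, hn]
    have := hx (x a)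
    change 0 < 2 * e + 1 - (F (x a)).card
    change (F (x a)).card ≤ e at this
    omega
  obtain ⟨b, hb, hb'⟩ := exists_max_image (univ \ F (x a)) (fun k => (F (x k)).card) hne
  have hab : x b ≠ x a := fun h => (mem_sdiff.1 hb).2 ((hF _ _).2 h)
  obtain ⟨c, hca, hcb⟩ : ∃ c, x c ≠ x a ∧ x c ≠ x b := by
    by_contra hc
    simp only [not_exists, not_and, not_not] at hc
    have : (univ : Finset (Fin (2 * e + 1))) ⊆ F (x a) ∪ F (x b) := fun k _ => by
      rw [mem_union, hF, hF]
      exact (em (x k = x a)).imp_right (hc k)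
    have h1 := (card_le_card this).trans (card_union_le _ _)
    have h2 := hx (x a); have h3 := hx (x b)
    rw [hn] at h1
    change (F (x a)).card ≤ e at h2
    change (F (x b)).card ≤ e at h3
    omega
  let R : Finset (Fin (2 * e + 1)) := univ \ {a, b, c}
  have habc : ({a, b, c} : Finset _).card = 3 := by
    rw [card_insert_of_notMem, card_insert_of_notMem, card_singleton]
    · simp only [mem_singleton]; exact fun h => hcb (congrArg x h.symm)
    · simp only [mem_insert, mem_singleton, not_or]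
      exact ⟨fun h => hab (congrArg x h.symm), fun h => hca (congrArg x h.symm)⟩
  have hR : R.card = 2 * e + 1 - 3 := by
    rw [card_sdiff, inter_univ, habc, hn]
  have hRv : ∀ v, (R ∩ F v).card ≤ e - 1 := by
    intro v
    by_cases hv : ∃ t ∈ ({a, b, c} : Finset _), x t = v
    · obtain ⟨t, ht, rfl⟩ := hv
      have h1 : R ∩ F (x t) ⊆ (F (x t)).erase t := fun k hk => by
        rw [mem_inter, mem_sdiff] at hk
        exact mem_erase.2 ⟨fun h => hk.1.2 (h ▸ ht), hk.2⟩
      have h2 := card_le_card h1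
      rw [card_erase_of_mem ((hF _ _).2 rfl)] at h2
      have := hx (x t)
      change (F (x t)).card ≤ e at this
      omega
    · simp only [mem_insert, mem_singleton, exists_eq_or_imp, exists_eq_left, not_or] at hv
      refine (card_le_card inter_subset_right).trans ?_
      by_contra hlt
      obtain ⟨k, hk⟩ := card_pos.1 (show 0 < (F v).card by omega)
      rw [hF] at hk
      subst hk
      have h1 := ha k (mem_univ _)
      have h2 := hb' k (mem_sdiff.2 ⟨mem_univ _, fun h => hv.1 ((hF _ _).1 h).symm⟩)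
      have h3 : 1 ≤ (F (x c)).card := card_pos.2 ⟨c, (hF _ _).2 rfl⟩
      have h4 : (F (x a) ∪ F (x b) ∪ F (x c) ∪ F (x k)).card ≤ 2 * e + 1 :=
        (card_le_univ _).trans (by simp)
      rw [card_union_of_disjoint, card_union_of_disjoint, card_union_of_disjoint (hd hab.symm)] at h4
      · omega
      · exact disjoint_union_left.2 ⟨hd hca.symm, hd hcb.symm⟩
      · exact disjoint_union_left.2 ⟨disjoint_union_left.2 ⟨hd hv.1, hd hv.2.1⟩, hd hv.2.2⟩
  have hall : ∀ S : Finset {k // k ∈ R}, S.card ≤ (S.biUnion fun k => R \ F (x k.1)).card := by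
    intro S
    rcases S.eq_empty_or_nonempty with rfl | ⟨s, hs⟩
    · simp
    by_cases hsv : ∀ t ∈ S, x t.1 = x s.1
    · have h1 : S.card ≤ (R ∩ F (x s.1)).card :=
        card_le_card_of_injOn Subtype.val
          (fun t ht => mem_inter.2 ⟨t.2, (hF _ _).2 (hsv t ht)⟩) Subtype.val_injective.injOn
      have h2 : (R \ F (x s.1)).card ≤ (S.biUnion fun k => R \ F (x k.1)).card :=
        card_le_card (subset_biUnion_of_mem (fun k : {k // k ∈ R} => R \ F (x k.1)) hs)
      have h3 := card_sdiff_add_card_inter R (F (x s.1))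
      have := hRv (x s.1)
      omega
    · simp only [not_forall] at hsv
      obtain ⟨t, ht, hts⟩ := hsv
      have h1 : S.card ≤ R.card :=
        card_le_card_of_injOn Subtype.val (fun t _ => t.2) Subtype.val_injective.injOn
      refine h1.trans (card_le_card fun k hk => ?_)
      rw [mem_biUnion]
      by_cases hks : x k = x s.1
      · exact ⟨t, ht, mem_sdiff.2 ⟨hk, fun h => hts ((hks.symm.trans ((hF _ _).1 h)).symm)⟩⟩
      · exact ⟨s, hs, mem_sdiff.2 ⟨hk, fun h => hks ((hF _ _).1 h)⟩⟩
  obtain ⟨σ, hσ, hσ'⟩ := (all_card_le_biUnion_card_iff_exists_injective _).1 hall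
  let τ : Fin (2 * e + 1) → Fin (2 * e + 1) := fun m =>
    if m = a then b else if m = b then c else if m = c then a else
      if h : m ∈ R then σ ⟨m, h⟩ else a
  have hmem : ∀ m, m ≠ a → m ≠ b → m ≠ c → m ∈ R := fun m h1 h2 h3 => by simp [R, h1, h2, h3]
  have nab : a ≠ b := fun h => hab (congrArg x h.symm)
  have nac : a ≠ c := fun h => hca (congrArg x h.symm)
  have nbc : b ≠ c := fun h => hcb (congrArg x h.symm)
  have hta : τ a = b := if_pos rfl
  have htb : τ b = c := by simp [τ, nab.symm]
  have htc : τ c = a := by simp [τ, nac.symm, nbc.symm]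
  have htR : ∀ m (h : m ∈ R), τ m = σ ⟨m, h⟩ := fun m h => by
    have h' := h
    simp only [R, mem_sdiff, mem_insert, mem_singleton, not_or] at h'
    simp [τ, h'.2.1, h'.2.2.1, h'.2.2.2, h]
  have hσR : ∀ m, σ m ∈ R := fun m => (mem_sdiff.1 (hσ' m)).1
  have hne' : ∀ m ∈ R, m ≠ a ∧ m ≠ b ∧ m ≠ c := fun m h => by
    simp only [R, mem_sdiff, mem_insert, mem_singleton, not_or] at h
    exact h.2
  have hcases : ∀ m, m = a ∨ m = b ∨ m = c ∨ m ∈ R := fun m => by
    by_cases h1 : m = a <;> by_cases h2 : m = b <;> by_cases h3 : m = c <;>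
      simp [h1, h2, h3, R]
  have hxt : ∀ m, x m ≠ x (τ m) := fun m => by
    rcases hcases m with rfl | rfl | rfl | h
    · rw [hta]; exact hab.symm
    · rw [htb]; exact hcb.symm
    · rw [htc]; exact hca
    · rw [htR m h]
      exact fun e' => (mem_sdiff.1 (hσ' ⟨m, h⟩)).2 ((hF _ _).2 e'.symm)
  have hτ : Function.Bijective τ := by
    rw [Finite.injective_iff_bijective.symm]
    intro m m' h
    rcases hcases m with rfl | rfl | rfl | hm <;> rcases hcases m' with rfl | rfl | rfl | hm' <;>
      (try simp only [hta, htb, htc] at h) <;>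
      first
      | rfl
      | exact absurd h nab
      | exact absurd h nac
      | exact absurd h nbc
      | exact absurd h nab.symm
      | exact absurd h nac.symm
      | exact absurd h nbc.symm
      | (rw [htR _ hm'] at h
         obtain ⟨h1, h2, h3⟩ := hne' _ (hσR ⟨_, hm'⟩)
         first | exact absurd h.symm h1 | exact absurd h.symm h2 | exact absurd h.symm h3
               | (rw [htR _ hm] at h; exact congrArg Subtype.val (hσ h)))
      | (rw [htR _ hm] at h
         obtain ⟨h1, h2, h3⟩ := hne' _ (hσR ⟨_, hm⟩)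
         first | exact absurd h h1 | exact absurd h h2 | exact absurd h h3)
  have h01 : (0 : Fin (2 * e + 1)) ≠ 1 := by
    rw [Ne, Fin.ext_iff, Fin.val_zero, Fin.val_one', Nat.mod_eq_of_lt (by omega)]; omega
  have h2v : ((2 : Fin (2 * e + 1)) : ℕ) = 2 := by
    exact Nat.mod_eq_of_lt (show 2 < 2 * e + 1 by omega)
  have h02 : (0 : Fin (2 * e + 1)) ≠ 2 := by
    rw [Ne, Fin.ext_iff, Fin.val_zero, h2v]; omega
  have h12 : (1 : Fin (2 * e + 1)) ≠ 2 := by
    rw [Ne, Fin.ext_iff, h2v, Fin.val_one', Nat.mod_eq_of_lt (by omega)]; omega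
  let p1 : Equiv.Perm (Fin (2 * e + 1)) := Equiv.swap 0 a
  let p2 := (Equiv.swap (p1 1) b) * p1
  let p3 := (Equiv.swap (p2 2) c) * p2
  have q10 : p1 0 = a := Equiv.swap_apply_left _ _
  have q20 : p2 0 = a := by
    change Equiv.swap (p1 1) b (p1 0) = a
    rw [q10, Equiv.swap_apply_of_ne_of_ne ?_ nab]
    rw [← q10]; exact fun h => h01 (p1.injective h)
  have q21 : p2 1 = b := Equiv.swap_apply_left _ _
  have q30 : p3 0 = a := by
    change Equiv.swap (p2 2) c (p2 0) = a
    rw [q20, Equiv.swap_apply_of_ne_of_ne ?_ nac]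
    rw [← q20]; exact fun h => h02 (p2.injective h)
  have q31 : p3 1 = b := by
    change Equiv.swap (p2 2) c (p2 1) = b
    rw [q21, Equiv.swap_apply_of_ne_of_ne ?_ nbc]
    rw [← q21]; exact fun h => h12 (p2.injective h)
  have q32 : p3 2 = c := Equiv.swap_apply_left _ _
  refine ⟨p3, fun k => τ (p3 k), fun m => ?_, fun k => hxt _, ?_, ?_, ?_⟩
  · have h1 : (univ.filter fun k => p3 k = m) = {p3.symm m} := by
      ext k; simp [Equiv.eq_symm_apply]
    have hbij : Function.Bijective (fun k => τ (p3 k)) := hτ.comp p3.bijective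
    obtain ⟨k0, hk0⟩ := hbij.2 m
    have h2 : (univ.filter fun k => τ (p3 k) = m) = {k0} := by
      ext k
      simp only [mem_filter, mem_univ, true_and, mem_singleton]
      exact ⟨fun h => hbij.1 (h.trans hk0.symm), fun h => h ▸ hk0⟩
    rw [h1, h2, card_singleton, card_singleton]
  · change p3 0 = τ (p3 2)
    rw [q32, q30, htc]
  · change p3 1 = τ (p3 0)
    rw [q31, q30, hta]
  · change p3 2 = τ (p3 1)
    rw [q32, q31, htb]

end Groth.Agent.S19390
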