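import Mathlib
import Groth.Statements.S19391

set_option autoImplicit false
universe u
open InvQ

namespace Groth.Agent.S19391

open TensorProduct

theorem result (R : Type u) [CommRing R] (la mu : Fin 4 → R) :
    27 * W4c6intromoduli.disc la mu =
      4 * W4c6intromoduli.invI (W4c6intromoduli.coef la mu) ^ 3
        - W4c6intromoduli.invJ (W4c6intromoduli.coef la mu) ^ 2 := by
  have hs : ((Finset.univ : Finset (Fin 4 × Fin 4)).filter fun p => p.1 < p.2) =
    {(0,1),(0,2),(0,3),(1,2),(1,3),(2,3)} := by decide
  simp [W4c6intromoduli.disc, hs, W4c6intromoduli.invI, W4c6intromoduli.invJ, W4c6intromoduli.coef,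
    W4c6intromoduli.rootPoly, Fin.prod_univ_four, Polynomial.coeff_mul, Finset.Nat.antidiagonal_succ,
    Polynomial.coeff_X, Polynomial.coeff_C]
  ring

end Groth.Agent.S19391
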