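import Groth.Agent.Hopf35.ConjClosure
import Groth.Statements.S19394

set_option autoImplicit false
universe u
open InvQ

namespace Groth.Agent.S19394

theorem result (k : Type u) [Field k] [IsAlgClosed k] (n : ℕ)
    (B S N : Matrix (Fin n) (Fin n) k) (hS : Module.End.IsSemisimple (Matrix.toLin' S))
    (hN : IsNilpotent N) (hSN : Commute S N) (hB : B = S + N)
    (F : MvPolynomial (Fin n × Fin n) k)
    (hF : ∀ A : Matrix (Fin n) (Fin n) k, IsUnit A.det →
      MvPolynomial.eval (fun p => (A * B * A⁻¹) p.1 p.2) F = 0) :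
    MvPolynomial.eval (fun p => S p.1 p.2) F = 0 := by
  subst hB
  exact Hopf35.ConjClosure.inClosure_of_nilpotent hS hN hSN F hF

end Groth.Agent.S19394
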