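import Groth.Statements.S19396
import Groth.Agent.LLS31.GenusOne

set_option autoImplicit false
universe u v
open FunFld

namespace Groth.Agent.S19396

/-- On an elliptic curve with base point 0, if f has a double pole at 0 and no other pole and g a triple
pole at 0 and no other pole, then for n ≥ 2 the functions 1, f, …, f^[n/2], g, fg, …, f^[(n−3)/2] g
form a basis of the space of functions with at most an n-fold pole at 0. Stated for a function field
K/k of one variable of genus 1 with a place P of degree 1 in the role of the curve and its base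
point: the family indexed by Fin (n/2 + 1) ⊕ Fin ((n − 1)/2), sending i on the left to f^i and i on
the right to f^i g, is linearly independent over k and spans L(nP). -/
theorem result (k : Type u) (K : Type v) [Field k] [Field K]
    [Algebra k K] (hK : FunFld.IsFunctionField k K) (hgen : FunFld.genus k K = 1)
    (P : FunFld.Place k K) (hP : P.deg = 1) (f g : K)
    (hf : f ∈ FunFld.L (Finsupp.single P 2)) (hf2 : P.ord f = -2)
    (hg : g ∈ FunFld.L (Finsupp.single P 3)) (hg3 : P.ord g = -3) (n : ℕ) (hn : 2 ≤ n) :
    LinearIndependent k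
        (Sum.elim (fun i : Fin (n / 2 + 1) => f ^ (i : ℕ)) (fun i : Fin ((n - 1) / 2) => f ^ (i : ℕ) * g)) ∧
      Submodule.span k (Set.range
        (Sum.elim (fun i : Fin (n / 2 + 1) => f ^ (i : ℕ)) (fun i : Fin ((n - 1) / 2) => f ^ (i : ℕ) * g))) =
        FunFld.L (Finsupp.single P (n : ℤ)) := by
  classical
  have hf0 : f ≠ 0 := by rintro rfl; rw [Groth.Agent.FF30.ord_zero] at hf2; omega
  have hg0 : g ≠ 0 := by rintro rfl; rw [Groth.Agent.FF30.ord_zero] at hg3; omega
  set v := Sum.elim (fun i : Fin (n / 2 + 1) => f ^ (i : ℕ))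
    (fun i : Fin ((n - 1) / 2) => f ^ (i : ℕ) * g) with hv
  have hvne : ∀ i, v i ≠ 0 := by
    rintro (i | i)
    · exact pow_ne_zero _ hf0
    · exact mul_ne_zero (pow_ne_zero _ hf0) hg0
  have hord : ∀ i, P.ord (v i) = Sum.elim (fun i : Fin (n / 2 + 1) => -(2 * (i : ℕ) : ℤ))
      (fun i : Fin ((n - 1) / 2) => -(2 * (i : ℕ) : ℤ) - 3) i := by
    rintro (i | i)
    · show P.ord (f ^ (i : ℕ)) = _
      rw [Groth.Agent.FF30.ord_pow, hf2]; simp; ring
    · show P.ord (f ^ (i : ℕ) * g) = _
      rw [Groth.Agent.FF30.ord_mul P (pow_ne_zero _ hf0) hg0, Groth.Agent.FF30.ord_pow, hf2, hg3]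
      simp; ring
  have hli : LinearIndependent k v := by
    refine Groth.Agent.LLS31.linearIndependent_of_injective_val P v hvne fun a b hab => ?_
    simp only [Groth.Agent.FF30.val_eq P (hvne a), Groth.Agent.FF30.val_eq P (hvne b),
      WithZero.exp_inj, neg_inj, hord] at hab
    rcases a with a | a <;> rcases b with b | b <;> simp only [Sum.elim_inl, Sum.elim_inr] at hab
    · exact congrArg Sum.inl (Fin.ext (by omega))
    · omega
    · omega
    · exact congrArg Sum.inr (Fin.ext (by omega))
  refine ⟨hli, ?_⟩
  have hle : Submodule.span k (Set.range v) ≤ L (Finsupp.single P (n : ℤ)) := by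
    rw [Submodule.span_le]
    rintro _ ⟨i, rfl⟩ R
    rcases eq_or_ne R P with rfl | hR
    · rw [Groth.Agent.FF30.val_eq R (hvne i), hord, WithZero.exp_le_exp, Finsupp.single_eq_same]
      rcases i with i | i <;> simp only [Sum.elim_inl, Sum.elim_inr] <;> have := i.2 <;> omega
    · have h1 : R.1 f ≤ 1 := by
        have := hf R
        rwa [Finsupp.single_eq_of_ne hR, WithZero.exp_zero] at this
      have h2 : R.1 g ≤ 1 := by
        have := hg R
        rwa [Finsupp.single_eq_of_ne hR, WithZero.exp_zero] at this
      rw [Finsupp.single_eq_of_ne hR, WithZero.exp_zero]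
      rcases i with i | i
      · show R.1 (f ^ (i : ℕ)) ≤ 1
        rw [map_pow]; exact pow_le_one₀ zero_le h1
      · show R.1 (f ^ (i : ℕ) * g) ≤ 1
        rw [map_mul, map_pow]; exact mul_le_one' (pow_le_one₀ zero_le h1) h2
  have := (Groth.Agent.FF30.FF.of_isFunctionField hK).finite_L (Finsupp.single P (n : ℤ))
  refine Submodule.eq_of_le_of_finrank_le hle ?_
  have hell := Groth.Agent.LLS31.ell_of_genus_one hK hgen (D := Finsupp.single P (n : ℤ))
    (by rw [Groth.Agent.LLS31.deg_single, hP]; omega)
  rw [Groth.Agent.LLS31.deg_single, hP] at hell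
  rw [finrank_span_eq_card hli, Fintype.card_sum, Fintype.card_fin, Fintype.card_fin]
  omega

end Groth.Agent.S19396
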