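import Groth.Statements.S19397
import Groth.Agent.LLS31.Weierstrass
import Mathlib.RingTheory.RootsOfUnity.EnoughRootsOfUnity
import Mathlib.RingTheory.RootsOfUnity.AlgebraicallyClosed

set_option autoImplicit false
universe u v
open FunFld

namespace Groth.Agent.S19397

open Classical in
/-- Over an algebraically closed field of characteristic different from 2 and 3, the automorphism group
of an elliptic curve (automorphisms fixing the base point) with invariant j has order 2 if j ≠ 0,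
12³, order 4 if j = 12³ and order 6 if j = 0. Stated for the function field K/k of the curve: K of
genus 1 generated by x, y with y² = x³ + a x + b and 4a³ + 27b² ≠ 0, P the place where x has its
double and y its triple pole (and no other poles), so that j = 12³ · 4a³/(4a³ + 27b²) and the three
cases are a, b ≠ 0; b = 0; a = 0; the automorphisms are the k-algebra automorphisms of K preserving
the valuation of P. -/
theorem result (k : Type u) (K : Type v) [Field k]
    [IsAlgClosed k] [Field K] [Algebra k K] (h2 : (2 : k) ≠ 0) (h3 : (3 : k) ≠ 0)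
    (hK : FunFld.IsFunctionField k K) (hgen : FunFld.genus k K = 1) (P : FunFld.Place k K)
    (a b : k) (hdisc : 4 * a ^ 3 + 27 * b ^ 2 ≠ 0) (x y : K)
    (heq : y ^ 2 = x ^ 3 + algebraMap k K a * x + algebraMap k K b)
    (hxy : IntermediateField.adjoin k ({x, y} : Set K) = ⊤)
    (hx : x ∈ FunFld.L (Finsupp.single P 2)) (hx2 : P.ord x = -2)
    (hy : y ∈ FunFld.L (Finsupp.single P 3)) (hy3 : P.ord y = -3) :
    Nat.card {σ : K ≃ₐ[k] K // ∀ z : K, P.1 (σ z) = P.1 z} =
      if a = 0 then 6 else if b = 0 then 4 else 2 := by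
  classical
  have hPdeg := Groth.Agent.LLS31.deg_place_eq_one (k := k) hK P
  have hab : ¬ (a = 0 ∧ b = 0) := by
    rintro ⟨rfl, rfl⟩
    exact hdisc (by ring)
  let S := {u : k // a * (u ^ 4 - 1) = 0 ∧ b * (u ^ 6 - 1) = 0}
  have hu0 : ∀ u : S, (u : k) ≠ 0 := fun u h => by
    have h1 := u.2.1
    have h2' := u.2.2
    rw [h] at h1 h2'
    exact hab ⟨by simpa using h1, by simpa using h2'⟩
  have hex : ∀ u : S, ∃ σ : {σ : K ≃ₐ[k] K // ∀ z : K, P.1 (σ z) = P.1 z},
      σ.1 x = algebraMap k K ((u : k) ^ 2) * x ∧ σ.1 y = algebraMap k K ((u : k) ^ 3) * y := by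
    intro u
    obtain ⟨σ, hσx, hσy⟩ := Groth.Agent.LLS31.exists_algHom hx2 hy3 heq hxy (hu0 u) u.2.1 u.2.2
    exact ⟨⟨σ, fun z => Groth.Agent.LLS31.val_eq_of_scale hx hx2 σ (pow_ne_zero 2 (hu0 u)) hσx z⟩, hσx, hσy⟩
  choose F hFx hFy using hex
  have hx0 : x ≠ 0 := by rintro rfl; rw [Groth.Agent.FF30.ord_zero] at hx2; omega
  have hy0 : y ≠ 0 := by rintro rfl; rw [Groth.Agent.FF30.ord_zero] at hy3; omega
  have hbij : Function.Bijective F := by
    refine ⟨fun u v huv => Subtype.ext ?_, fun σ => ?_⟩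
    · have e2 : (u : k) ^ 2 = (v : k) ^ 2 := (algebraMap k K).injective
        (mul_right_cancel₀ hx0 ((hFx u).symm.trans (huv ▸ hFx v)))
      have e3 : (u : k) ^ 3 = (v : k) ^ 3 := (algebraMap k K).injective
        (mul_right_cancel₀ hy0 ((hFy u).symm.trans (huv ▸ hFy v)))
      exact mul_left_cancel₀ (pow_ne_zero 2 (hu0 v)) (by linear_combination e3 - (u : k) * e2)
    · obtain ⟨u, hu, hσx, hσy⟩ :=
        Groth.Agent.LLS31.exists_scale h2 h3 hK hgen hPdeg heq hx hx2 hy hy3 σ.1 σ.2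
      refine ⟨⟨u, hu⟩, Subtype.ext (AlgEquiv.coe_toAlgHom_injective ?_)⟩
      exact Groth.Agent.LLS31.algHom_ext_of_adjoin_pair hxy ((hFx ⟨u, hu⟩).trans hσx.symm)
        ((hFy ⟨u, hu⟩).trans hσy.symm)
  rw [← Nat.card_congr (Equiv.ofBijective F hbij)]
  have hroots : ∀ n : ℕ, 0 < n → (n : k) ≠ 0 → Nat.card {u : k // u ^ n = 1} = n := by
    intro n hn hn0
    have : NeZero (n : k) := ⟨hn0⟩
    obtain ⟨ζ, hζ⟩ := HasEnoughRootsOfUnity.exists_primitiveRoot k n
    rw [Nat.card_congr (Equiv.subtypeEquivRight (q := fun u => u ∈ Polynomial.nthRootsFinset n (1 : k))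
      fun u => (Polynomial.mem_nthRootsFinset hn 1).symm), Nat.card_eq_finsetCard]
    exact hζ.card_nthRootsFinset
  have h4 : ((4 : ℕ) : k) ≠ 0 := by
    rw [show ((4 : ℕ) : k) = 2 * 2 by norm_num]; exact mul_ne_zero h2 h2
  have h6 : ((6 : ℕ) : k) ≠ 0 := by
    rw [show ((6 : ℕ) : k) = 2 * 3 by norm_num]; exact mul_ne_zero h2 h3
  have h2' : ((2 : ℕ) : k) ≠ 0 := by simpa using h2
  split_ifs with ha hb
  · refine (Nat.card_congr (Equiv.subtypeEquivRight fun u => ?_)).trans (hroots 6 (by norm_num) h6)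
    have hb : b ≠ 0 := fun hb => hab ⟨ha, hb⟩
    simp [ha, hb, sub_eq_zero]
  · refine (Nat.card_congr (Equiv.subtypeEquivRight fun u => ?_)).trans (hroots 4 (by norm_num) h4)
    simp [ha, hb, sub_eq_zero]
  · refine (Nat.card_congr (Equiv.subtypeEquivRight fun u => ?_)).trans (hroots 2 (by norm_num) h2')
    simp only [mul_eq_zero, ha, hb, false_or, sub_eq_zero]
    refine ⟨fun ⟨e4, e6⟩ => by linear_combination e6 - u ^ 2 * e4, fun e => ⟨?_, ?_⟩⟩
    · rw [show u ^ 4 = (u ^ 2) ^ 2 by ring, e]; ring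
    · rw [show u ^ 6 = (u ^ 2) ^ 3 by ring, e]; ring

end Groth.Agent.S19397
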