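import Groth.Statements.S19402
import Groth.Agent.FinGrp34.EtaleFree
import Mathlib.RingTheory.Jacobson.Ring
import Mathlib.FieldTheory.IsAlgClosed.Basic
import Mathlib.RingTheory.Ideal.Pointwise

set_option autoImplicit false
universe u v w
open scoped Pointwise
open GLin

namespace Groth.Agent.S19402

open scoped Pointwise
/-- Let k be an algebraically closed field of characteristic zero, R a finitely generated commutative
k-algebra which is an integrally closed domain (a normal irreducible affine variety X), and G a
finite group acting faithfully on R by k-algebra automorphisms. Let B be a commutative k-algebra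
with an injective algebra map B → R, compatible with the k-structures and G-invariant, whose image
is exactly the subring of G-invariants (so Spec R → Spec B is the quotient morphism X → X/G). Then
for a maximal ideal m of R (a closed point x of X), R is étale over B at m (the local ring R_m is
formally étale over B) if and only if the stabilizer of m in G is trivial. -/
theorem result (k : Type u) [Field k] [IsAlgClosed k] [CharZero k]
    (R : Type v) [CommRing R] [IsDomain R] [IsIntegrallyClosed R] [Algebra k R] [Algebra.FiniteType k R]
    (G : Type w) [Group G] [Finite G] [MulSemiringAction G R] [FaithfulSMul G R] [SMulCommClass G k R]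
    (B : Type v) [CommRing B] [Algebra k B] [Algebra B R] [IsScalarTower k B R] [FaithfulSMul B R]
    [SMulCommClass G B R] [Algebra.IsInvariant B R G]
    (m : Ideal R) [m.IsMaximal] :
    Algebra.IsEtaleAt B m ↔ MulAction.stabilizer G m = ⊥ := by
  have hinj : Function.Injective (algebraMap B R) := FaithfulSMul.algebraMap_injective B R
  haveI : Algebra.IsIntegral B R := Algebra.IsInvariant.isIntegral B R G
  haveI : Algebra.FiniteType B R := Algebra.FiniteType.of_restrictScalars_finiteType k B R
  haveI : Module.Finite B R := Algebra.IsIntegral.finite
  haveI : Algebra.FiniteType k B :=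
    ⟨fg_of_fg_of_fg k B R Algebra.FiniteType.out Module.Finite.fg_top hinj⟩
  haveI : IsNoetherianRing B := Algebra.FiniteType.isNoetherianRing k B
  haveI : IsNoetherianRing R := Algebra.FiniteType.isNoetherianRing k R
  haveI : Algebra.FinitePresentation B R := Algebra.FinitePresentation.of_finiteType.1 inferInstance
  letI := Ideal.Quotient.field m
  haveI : Module.Finite k (R ⧸ m) := finite_of_finite_type_of_isJacobsonRing k (R ⧸ m)
  have hrat : Function.Bijective (algebraMap k (R ⧸ m)) :=
    IsAlgClosed.algebraMap_bijective_of_isIntegral
  have key : ∀ g : G, g ∈ MulAction.stabilizer G m ↔ ∀ r : R, g • r - r ∈ m := by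
    intro g
    rw [MulAction.mem_stabilizer_iff]
    refine ⟨fun h r => ?_, fun h => ?_⟩
    · obtain ⟨c, hc⟩ := hrat.2 (Ideal.Quotient.mk m r)
      have hd : r - algebraMap k R c ∈ m := Ideal.Quotient.eq.1 hc.symm
      have hgd : g • (r - algebraMap k R c) ∈ m := by
        rw [← h]
        exact Ideal.smul_mem_pointwise_smul g _ _ hd
      rw [smul_sub, smul_algebraMap] at hgd
      simpa using m.sub_mem hgd hd
    · ext r
      rw [Ideal.mem_pointwise_smul_iff_inv_smul_mem]
      have h1 := h (g⁻¹ • r)
      rw [smul_inv_smul] at h1
      exact ⟨fun hr => by simpa using m.add_mem h1 hr, fun hr => by simpa using m.sub_mem hr h1⟩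
  refine ⟨fun he => ?_, fun hs => ?_⟩
  · haveI := he
    haveI : Algebra.IsUnramifiedAt B m :=
      inferInstanceAs (Algebra.FormallyUnramified B (Localization.AtPrime m))
    refine (Subgroup.eq_bot_iff_forall _).2 fun g hg => ?_
    exact Groth.Agent.FinGrp34.eq_one_of_unramified (B := B) m g ((key g).1 hg)
  · refine Groth.Agent.FinGrp34.isEtaleAt_of_trivial_inertia G (fun r hr => ?_) hinj m fun g hg => ?_
    · exact Algebra.IsInvariant.isInvariant (G := G) r hr
    · have : g ∈ MulAction.stabilizer G m := (key g).2 hg
      rwa [hs, Subgroup.mem_bot] at this

end Groth.Agent.S19402
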