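import Groth.Statements.S19404
import Groth.Agent.Luna34.Semicont
import Groth.Agent.Hopf34.Fin
import Groth.Prelude.Def_ComodSub

set_option autoImplicit false
universe u
open TensorProduct
open GLin

namespace Groth.Agent.S19404

/-- Let k be an algebraically closed field of characteristic zero, A a finitely generated commutative
Hopf algebra over k which is an integral domain and all of whose finite-dimensional comodules are
semisimple (a connected reductive group G), R a reduced finitely generated commutative k-algebra
with a multiplicative A-coaction (G acting on the affine variety X = Spec R), and x a k-point of X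
whose orbit is closed. Then there is a G-invariant function f on X with f(x) ≠ 0 (so the
non-vanishing locus X_f is a saturated open neighbourhood of x) such that for every k-point x' of X
with f(x') ≠ 0 whose orbit is closed there is a k-point g of G with the stabilizer ideal of x
contained in the stabilizer ideal of the translate of x' by g: the stabilizer of x' is conjugate to
a subgroup of the stabilizer of x. (The published statement allows any reductive G; the argument in
the source is complete for connected G, which is assumed here.) -/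
theorem result (k : Type u) [Field k] [IsAlgClosed k] [CharZero k]
    (A : Type u) [CommRing A] [IsDomain A] [HopfAlgebra k A] [Algebra.FiniteType k A] (hG : HopfRep.IsLinearlyReductive k A)
    (R : Type u) [CommRing R] [IsReduced R] [Algebra k R] [Algebra.FiniteType k R] [HopfRep.Comod k A R] [GLin.IsCoactAlg k A R]
    (x : R →ₐ[k] k) (hx : GLin.IsClosedOrbit k A x) :
    ∃ f ∈ GLin.invariants k A R, x f ≠ 0 ∧
      ∀ x' : R →ₐ[k] k, x' f ≠ 0 → GLin.IsClosedOrbit k A x' →
        ∃ g : A →ₐ[k] k, GLin.stabIdeal k A x ≤ GLin.stabIdeal k A (GLin.actPt k g x') := by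
  classical
  obtain ⟨s, hs⟩ := ‹Algebra.FiniteType k R›.out
  obtain ⟨W, hWfin, hW, hsW, -⟩ := Groth.Agent.Hopf34.exists_finite_isSubcomod (k := k) (A := A) (s : Set R) s.finite_toSet
  letI cW := ComodSub.Comod.restr ‹HopfRep.Comod k A R› W hW
  haveI := hWfin
  let ι := Module.Free.ChooseBasisIndex k W
  let b : Module.Basis ι k W := Module.Free.chooseBasis k W
  let c : ι → ι → A := Comod33.Mat.mc (A := A) b
  have hc : Comod33.Mat.IsRep (k := k) c := Comod33.Mat.isRep_mc b
  let r : ι → R := fun j => (b j : R)
  have hr : ∀ j, HopfRep.Comod.coact (k := k) (A := A) (r j) = ∑ i, r i ⊗ₜ[k] c i j := by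
    intro j
    have h := LinearMap.congr_fun (ComodSub.isComodHom_subtype ‹HopfRep.Comod k A R› W hW) (b j)
    simp only [LinearMap.comp_apply] at h
    refine h.trans ?_
    rw [Comod33.Mat.coact_basis b j, map_sum]
    rfl
  letI := FinGrp34.PolyComod.comod hc
  haveI := FinGrp34.PolyComod.isCoactAlg hc
  let π : MvPolynomial ι k →ₐ[k] R := MvPolynomial.aeval r
  have hπc : ∀ p, HopfRep.Comod.coact (k := k) (A := A) (π p) = Algebra.TensorProduct.map π (AlgHom.id k A) (HopfRep.Comod.coact (k := k) (A := A) p) :=
    fun p => FinGrp34.PolyComod.coact_aeval r hr p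
  have hπs : Function.Surjective π := by
    rw [← AlgHom.range_eq_top]
    refine eq_top_iff.2 (hs.symm.le.trans (Algebra.adjoin_le fun a ha => ?_))
    have h : (⟨a, hsW ha⟩ : W) ∈ Submodule.span k (Set.range b) := by rw [b.span_eq]; exact Submodule.mem_top
    have h' := Submodule.mem_map_of_mem (f := W.subtype) h
    rw [Submodule.map_span] at h'
    suffices hle : Submodule.span k (W.subtype '' Set.range b) ≤ Subalgebra.toSubmodule π.range from hle h'
    refine Submodule.span_le.2 ?_
    rintro _ ⟨_, ⟨i, rfl⟩, rfl⟩
    exact ⟨MvPolynomial.X i, MvPolynomial.aeval_X r i⟩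
  have hX : ∀ j, HopfRep.Comod.coact (k := k) (A := A) (MvPolynomial.X j : MvPolynomial ι k) = ∑ i, MvPolynomial.X i ⊗ₜ[k] c i j :=
    fun j => FinGrp34.PolyComod.polyCoact_X j
  have hint : π.toRingHom.IsIntegral := RingHom.IsIntegral.of_finite (RingHom.Finite.of_surjective _ hπs)
  have hclosed : ∀ z : R →ₐ[k] k, GLin.IsClosedOrbit k A z → GLin.IsClosedOrbit k A (z.comp π) := fun z hz =>
    FinGrp34.OrbitMap.isClosedOrbit_map_of_integral π hπc hint hz
  obtain ⟨F, hF, hxF, hmain⟩ := Luna34.exists_semicont_poly hG hc hX (x.comp π) (hclosed x hx)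
  refine ⟨π F, Luna34.invariants_map π hπc hF, hxF, fun x' hx'F hx' => ?_⟩
  obtain ⟨g, hg⟩ := hmain (x'.comp π) hx'F (hclosed x' hx')
  refine ⟨g, ?_⟩
  rw [← FinGrp34.OrbitMap.actPt_comp π hπc, Luna34.stabIdeal_comp π hπc hπs, Luna34.stabIdeal_comp π hπc hπs] at hg
  exact hg

end Groth.Agent.S19404
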