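import Groth.Statements.S19406
import Groth.Agent.LinRed34.OrbitChar
import Mathlib.RingTheory.HopfAlgebra.GroupLike

set_option autoImplicit false
universe u
open TensorProduct
open GLin

namespace Groth.Agent.S19406

/-- Let k be an algebraically closed field of characteristic zero, A a finitely generated commutative
Hopf algebra over k which is an integral domain and all of whose finite-dimensional comodules are
semisimple (a connected reductive group G), R a reduced finitely generated commutative k-algebra
with a multiplicative A-coaction (G acting on the affine variety X = Spec R), and χ a group-like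
element of A (a character of G). Then there is a set E of G-invariant functions on X such that, for
every k-point x of X whose orbit is closed, χ − 1 lies in the stabilizer ideal of x (χ is trivial on
the stabilizer of x) if and only if some member of E does not vanish at x: the set of points of X//G
over which the closed orbit has stabilizer on which χ is trivial is open. (The published statement
allows any reductive G; this row assumes G connected, the case the source's argument covers.) -/
theorem result (k : Type u) [Field k] [IsAlgClosed k] [CharZero k]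
    (A : Type u) [CommRing A] [IsDomain A] [HopfAlgebra k A] [Algebra.FiniteType k A] (hG : HopfRep.IsLinearlyReductive k A)
    (R : Type u) [CommRing R] [IsReduced R] [Algebra k R] [Algebra.FiniteType k R] [HopfRep.Comod k A R] [GLin.IsCoactAlg k A R]
    (χ : A) (hχ : IsGroupLikeElem k χ) :
    ∃ E : Set R, E ⊆ GLin.invariants k A R ∧
      ∀ x : R →ₐ[k] k, GLin.IsClosedOrbit k A x →
        (χ - 1 ∈ GLin.stabIdeal k A x ↔ ∃ f ∈ E, x f ≠ 0) := by
  have hmul : χ * HopfAlgebraStruct.antipode (R := k) χ = 1 := by
    have h := HopfAlgebra.mul_antipode_lTensor_comul_apply (R := k) χ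
    rw [hχ.comul_eq_tmul_self] at h
    simpa [hχ.counit_eq_one] using h
  refine ⟨{F | ∃ f f' : R, HopfRep.Comod.coact (k := k) (A := A) f = f ⊗ₜ[k] χ ∧
    HopfRep.Comod.coact (k := k) (A := A) f' = f' ⊗ₜ[k] HopfAlgebraStruct.antipode (R := k) χ ∧ F = f * f'}, ?_, ?_⟩
  · rintro _ ⟨f, f', hf, hf', rfl⟩
    show HopfRep.Comod.coact (k := k) (A := A) (f * f') = (f * f') ⊗ₜ[k] (1 : A)
    rw [GLin.IsCoactAlg.coact_mul, hf, hf', Algebra.TensorProduct.tmul_mul_tmul, hmul]
  intro x hx
  constructor
  · intro h
    have h' : HopfAlgebraStruct.antipode (R := k) χ - 1 ∈ GLin.stabIdeal k A x := by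
      have e : HopfAlgebraStruct.antipode (R := k) χ - 1 =
          -(HopfAlgebraStruct.antipode (R := k) χ) * (χ - 1) := by
        rw [mul_sub, mul_one, neg_mul, mul_comm, hmul]; ring
      rw [e]
      exact Ideal.mul_mem_left _ _ h
    obtain ⟨f, hf, hxf⟩ := Groth.Agent.LinRed34.exists_semiInvariant hG hx hχ h
    obtain ⟨f', hf', hxf'⟩ := Groth.Agent.LinRed34.exists_semiInvariant hG hx hχ.antipode h'
    exact ⟨f * f', ⟨f, f', hf, hf', rfl⟩, by rw [map_mul, hxf, hxf', one_mul]; exact one_ne_zero⟩
  · rintro ⟨_, ⟨f, f', hf, -, rfl⟩, hne⟩
    rw [map_mul] at hne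
    have hxf : x f ≠ 0 := left_ne_zero_of_mul hne
    have horb : GLin.orbitHom k A x f = x f • χ := by
      show (Algebra.TensorProduct.lid k A) (Algebra.TensorProduct.map x (AlgHom.id k A)
        (HopfRep.Comod.coact (k := k) (A := A) f)) = _
      rw [hf]
      simp
    have hmem : GLin.orbitHom k A x (f - algebraMap k R (x f)) ∈ GLin.stabIdeal k A x :=
      Ideal.mem_map_of_mem _ (RingHom.mem_ker.2 (by simp))
    rw [map_sub, AlgHom.commutes, horb, Algebra.algebraMap_eq_smul_one, ← smul_sub] at hmem
    have h2 := Submodule.smul_of_tower_mem (GLin.stabIdeal k A x) (x f)⁻¹ hmem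
    rwa [smul_smul, inv_mul_cancel₀ hxf, one_smul] at h2

end Groth.Agent.S19406
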