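import Groth.Statements.S19408
import Groth.Agent.FinGrp34.StrongQuot
import Groth.Agent.LinRed34.Basic

set_option autoImplicit false
universe u
open TensorProduct
open GLin

namespace Groth.Agent.S19408

open TensorProduct

theorem mk_mem_invariants {k A : Type u} [Field k] [CommRing A] [HopfAlgebra k A] {V W : Type u} [CommRing V] [CommRing W]
    [Algebra k V] [Algebra k W] [HopfRep.Comod k A V] [HopfRep.Comod k A W] [GLin.IsCoactAlg k A V] [GLin.IsCoactAlg k A W]
    (q : V →ₐ[k] W) (hq : ∀ v, HopfRep.Comod.coact (k := k) (A := A) (q v) =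
      Algebra.TensorProduct.map q (AlgHom.id k A) (HopfRep.Comod.coact (k := k) (A := A) v))
    {v : V} (hv : v ∈ GLin.invariants k A V) : q v ∈ GLin.invariants k A W := by
  rw [GLin.mem_invariants_iff] at hv ⊢
  rw [hq, hv]
  simp

theorem isComodHom_of_coact {k A : Type u} [Field k] [CommRing A] [HopfAlgebra k A] {V W : Type u} [CommRing V] [CommRing W]
    [Algebra k V] [Algebra k W] [HopfRep.Comod k A V] [HopfRep.Comod k A W]
    (q : V →ₐ[k] W) (hq : ∀ v, HopfRep.Comod.coact (k := k) (A := A) (q v) =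
      Algebra.TensorProduct.map q (AlgHom.id k A) (HopfRep.Comod.coact (k := k) (A := A) v)) :
    Hoch.IsComodHom A q.toLinearMap := by
  refine LinearMap.ext fun v => ?_
  show HopfRep.Comod.coact (k := k) (A := A) (q v) = q.toLinearMap.rTensor A _
  rw [hq]
  generalize HopfRep.Comod.coact (k := k) (A := A) v = t
  induction t using TensorProduct.induction_on with
  | zero => simp
  | tmul a b => simp
  | add p q hp hq => simp only [map_add, hp, hq]
/-- Let k be an algebraically closed field of characteristic zero, A a finitely generated commutative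
Hopf algebra over k all of whose finite-dimensional comodules are semisimple (a reductive group G),
S and R finitely generated commutative k-algebras with multiplicative A-coactions (G acting on
affine Y = Spec S and X = Spec R), S → R an algebra map compatible with the coactions (a G-morphism
θ : X → Y), S₀ → S and R₀ → R injective k-algebra maps whose images are the subrings of invariants,
and S₀ → R₀ an algebra map with S₀ → R₀ → R equal to S₀ → S → R (θ/G). Suppose R is étale over S, R₀
is étale over S₀, and the canonical map S ⊗_{S₀} R₀ → R is bijective (θ and θ/G étale and X ≅ Y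
×_{Y//G} X//G). Let J be an ideal of S which is a subcomodule (Y' = V(J) a closed G-invariant
subscheme), let S/J and R/JR carry A-coactions for which the quotient maps are compatible with the
coactions (the induced actions on Y' and X' = Y' ×_Y X), and let S₁ → S/J and R₁ → R/JR be injective
k-algebra maps whose images are the subrings of invariants, with S₁ → R₁ an algebra map such that S₁
→ R₁ → R/JR equals S₁ → S/J → R/JR. Then R/JR is étale over S/J, R₁ is étale over S₁, and the
canonical map (S/J) ⊗_{S₁} R₁ → R/JR is bijective (θ' : X' → Y' and θ'/G are étale and X' ≅ Y'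
×_{Y'//G} X'//G). -/
theorem result (k : Type u) [Field k] [IsAlgClosed k] [CharZero k]
    (A : Type u) [CommRing A] [HopfAlgebra k A] [Algebra.FiniteType k A] (hG : HopfRep.IsLinearlyReductive k A)
    (S : Type u) [CommRing S] [Algebra k S] [Algebra.FiniteType k S] [HopfRep.Comod k A S] [GLin.IsCoactAlg k A S]
    (R : Type u) [CommRing R] [Algebra k R] [Algebra.FiniteType k R] [HopfRep.Comod k A R] [GLin.IsCoactAlg k A R]
    [Algebra S R] [IsScalarTower k S R]
    (hequiv : (∀ s : S, HopfRep.Comod.coact (k := k) (A := A) (algebraMap S R s) =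
      Algebra.TensorProduct.map (IsScalarTower.toAlgHom k S R) (AlgHom.id k A) (HopfRep.Comod.coact (k := k) (A := A) s)))
    (S₀ : Type u) [CommRing S₀] [Algebra k S₀] [Algebra S₀ S] [IsScalarTower k S₀ S]
    (hS₀i : Function.Injective (algebraMap S₀ S)) (hS₀ : (IsScalarTower.toAlgHom k S₀ S).range = GLin.invariants k A S)
    (R₀ : Type u) [CommRing R₀] [Algebra k R₀] [Algebra R₀ R] [IsScalarTower k R₀ R]
    (hR₀i : Function.Injective (algebraMap R₀ R)) (hR₀ : (IsScalarTower.toAlgHom k R₀ R).range = GLin.invariants k A R)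
    [Algebra S₀ R₀] [Algebra S₀ R] [IsScalarTower S₀ S R] [IsScalarTower S₀ R₀ R]
    (het : Algebra.Etale S R) (het₀ : Algebra.Etale S₀ R₀)
    (hcart : Function.Bijective (Algebra.TensorProduct.productMap (IsScalarTower.toAlgHom S₀ S R) (IsScalarTower.toAlgHom S₀ R₀ R)))
    (J : Ideal S) (hJ : HopfRep.IsSubcomod (k := k) (A := A) (J.restrictScalars k))
    [HopfRep.Comod k A (S ⧸ J)] [GLin.IsCoactAlg k A (S ⧸ J)]
    (hqS : (∀ s : S, HopfRep.Comod.coact (k := k) (A := A) ((Ideal.Quotient.mkₐ k J) s) =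
        Algebra.TensorProduct.map (Ideal.Quotient.mkₐ k J) (AlgHom.id k A) (HopfRep.Comod.coact (k := k) (A := A) s)))
    [HopfRep.Comod k A (R ⧸ J.map (algebraMap S R))] [GLin.IsCoactAlg k A (R ⧸ J.map (algebraMap S R))]
    (hqR : (∀ s : R, HopfRep.Comod.coact (k := k) (A := A) ((Ideal.Quotient.mkₐ k (J.map (algebraMap S R))) s) =
        Algebra.TensorProduct.map (Ideal.Quotient.mkₐ k (J.map (algebraMap S R))) (AlgHom.id k A) (HopfRep.Comod.coact (k := k) (A := A) s)))
    (S₁ : Type u) [CommRing S₁] [Algebra k S₁] [Algebra S₁ (S ⧸ J)] [IsScalarTower k S₁ (S ⧸ J)]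
    (hS₁i : Function.Injective (algebraMap S₁ (S ⧸ J)))
    (hS₁ : (IsScalarTower.toAlgHom k S₁ (S ⧸ J)).range = GLin.invariants k A (S ⧸ J))
    (R₁ : Type u) [CommRing R₁] [Algebra k R₁] [Algebra R₁ (R ⧸ J.map (algebraMap S R))] [IsScalarTower k R₁ (R ⧸ J.map (algebraMap S R))]
    (hR₁i : Function.Injective (algebraMap R₁ (R ⧸ J.map (algebraMap S R))))
    (hR₁ : (IsScalarTower.toAlgHom k R₁ (R ⧸ J.map (algebraMap S R))).range = GLin.invariants k A (R ⧸ J.map (algebraMap S R)))
    [Algebra S₁ R₁] [Algebra S₁ (R ⧸ J.map (algebraMap S R))]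
    [IsScalarTower S₁ (S ⧸ J) (R ⧸ J.map (algebraMap S R))] [IsScalarTower S₁ R₁ (R ⧸ J.map (algebraMap S R))] :
    Algebra.Etale (S ⧸ J) (R ⧸ J.map (algebraMap S R)) ∧ Algebra.Etale S₁ R₁ ∧
      Function.Bijective (Algebra.TensorProduct.productMap
        (IsScalarTower.toAlgHom S₁ (S ⧸ J) (R ⧸ J.map (algebraMap S R)))
        (IsScalarTower.toAlgHom S₁ R₁ (R ⧸ J.map (algebraMap S R)))) := by
  haveI := het₀
  let qS := Ideal.Quotient.mkₐ k J
  let qR := Ideal.Quotient.mkₐ k (J.map (algebraMap S R))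
  let eS₁ := AlgEquiv.ofInjective (IsScalarTower.toAlgHom k S₁ (S ⧸ J)) hS₁i
  let eR₁ := AlgEquiv.ofInjective (IsScalarTower.toAlgHom k R₁ (R ⧸ J.map (algebraMap S R))) hR₁i
  let σ : S₀ →ₐ[k] S₁ := eS₁.symm.toAlgHom.comp ((qS.comp (IsScalarTower.toAlgHom k S₀ S)).codRestrict _ fun z => by
    rw [hS₁]; exact mk_mem_invariants qS hqS (by rw [← hS₀]; exact ⟨z, rfl⟩))
  let γ : R₀ →ₐ[k] R₁ := eR₁.symm.toAlgHom.comp ((qR.comp (IsScalarTower.toAlgHom k R₀ R)).codRestrict _ fun z => by
    rw [hR₁]; exact mk_mem_invariants qR hqR (by rw [← hR₀]; exact ⟨z, rfl⟩))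
  have hσ : ∀ z, algebraMap S₁ (S ⧸ J) (σ z) = Ideal.Quotient.mk J (algebraMap S₀ S z) := fun z =>
    congrArg Subtype.val (eS₁.apply_symm_apply _)
  have hγ : ∀ z, algebraMap R₁ (R ⧸ J.map (algebraMap S R)) (γ z) = Ideal.Quotient.mk _ (algebraMap R₀ R z) := fun z =>
    congrArg Subtype.val (eR₁.apply_symm_apply _)
  have hγs : Function.Surjective γ := fun w => by
    obtain ⟨r, hr, hrw⟩ := Groth.Agent.LinRed34.exists_fixed_preimage hG (isComodHom_of_coact qR hqR)
      (w := algebraMap R₁ (R ⧸ J.map (algebraMap S R)) w)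
      (show algebraMap R₁ _ w ∈ GLin.invariants k A (R ⧸ J.map (algebraMap S R)) by rw [← hR₁]; exact ⟨w, rfl⟩)
      (Ideal.Quotient.mk_surjective _)
    obtain ⟨r₀, rfl⟩ : r ∈ (IsScalarTower.toAlgHom k R₀ R).range := by rw [hR₀]; exact hr
    exact ⟨r₀, hR₁i ((hγ r₀).trans hrw)⟩
  letI : Algebra S₀ S₁ := σ.toRingHom.toAlgebra
  haveI : IsScalarTower S₀ S₁ (S ⧸ J) := IsScalarTower.of_algebraMap_eq fun z => (hσ z).symm
  exact Groth.Agent.FinGrp34.StrongQuot.etale_quot hcart J S₁ R₁ hS₁i γ.toRingHom hγs hγ hR₁i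

end Groth.Agent.S19408
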