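import Groth.Statements.S19410
import Groth.Agent.FinGrp34.PolyComod
import Groth.Agent.FinGrp34.QFLocus
import Groth.Agent.FinGrp34.EquivFactor
import Mathlib.RingTheory.IntegralClosure.IntegrallyClosed
import Mathlib.RingTheory.Polynomial.UniqueFactorization

set_option autoImplicit false
universe u
open TensorProduct
open GLin

namespace Groth.Agent.S19410

open Groth.Agent.FinGrp34

/-- Work over a field k that is algebraically closed and of characteristic zero. Suppose A is a finitely
generated commutative Hopf algebra over k whose finite-dimensional comodules are all semisimple (a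
reductive group G). Take finitely generated commutative k-algebras S and R, each carrying a
multiplicative A-coaction (G acting on the affine schemes Y = Spec S and X = Spec R), together with
an injective, quasi-finite algebra map S → R that respects the coactions (a dominant quasi-finite
G-morphism φ : X → Y). Then one can find finitely generated commutative k-algebras R' and S', both
integral domains with R' integrally closed, each equipped with a multiplicative A-coaction, along
with coaction-compatible surjective algebra maps R' → R and S' → S (so X and Y sit as closed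
G-stable subschemes inside the integral affine G-varieties X' = Spec R' and Y' = Spec S', where X'
is normal), and a coaction-compatible algebra map S' → R' that is injective and quasi-finite (a
dominant quasi-finite G-morphism X' → Y'), such that following S' → R' by R' → R gives the same map
as following S' → S by S → R. -/
theorem result (k : Type u) [Field k] [IsAlgClosed k] [CharZero k]
    (A : Type u) [CommRing A] [HopfAlgebra k A] [Algebra.FiniteType k A] (hG : HopfRep.IsLinearlyReductive k A)
    (S : Type u) [CommRing S] [Algebra k S] [Algebra.FiniteType k S] [HopfRep.Comod k A S] [GLin.IsCoactAlg k A S]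
    (R : Type u) [CommRing R] [Algebra k R] [Algebra.FiniteType k R] [HopfRep.Comod k A R] [GLin.IsCoactAlg k A R]
    [Algebra S R] [IsScalarTower k S R] [Algebra.QuasiFinite S R] (hinj : Function.Injective (algebraMap S R))
    (hequiv : (∀ s : S, HopfRep.Comod.coact (k := k) (A := A) (algebraMap S R s) =
      Algebra.TensorProduct.map (IsScalarTower.toAlgHom k S R) (AlgHom.id k A) (HopfRep.Comod.coact (k := k) (A := A) s))) :
    ∃ (R' : Type u) (_ : CommRing R') (_ : IsDomain R') (_ : IsIntegrallyClosed R') (_ : Algebra k R')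
      (_ : HopfRep.Comod k A R') (_ : GLin.IsCoactAlg k A R')
      (S' : Type u) (_ : CommRing S') (_ : IsDomain S') (_ : Algebra k S')
      (_ : HopfRep.Comod k A S') (_ : GLin.IsCoactAlg k A S'),
      Algebra.FiniteType k R' ∧ Algebra.FiniteType k S' ∧
      ∃ (pR : R' →ₐ[k] R) (pS : S' →ₐ[k] S) (φ' : S' →ₐ[k] R'),
        Function.Surjective pR ∧ Function.Surjective pS ∧ Function.Injective φ' ∧ φ'.toRingHom.QuasiFinite ∧
        (∀ s : R', HopfRep.Comod.coact (k := k) (A := A) (pR s) =
        Algebra.TensorProduct.map pR (AlgHom.id k A) (HopfRep.Comod.coact (k := k) (A := A) s)) ∧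
        (∀ s : S', HopfRep.Comod.coact (k := k) (A := A) (pS s) =
        Algebra.TensorProduct.map pS (AlgHom.id k A) (HopfRep.Comod.coact (k := k) (A := A) s)) ∧
        (∀ s : S', HopfRep.Comod.coact (k := k) (A := A) (φ' s) =
        Algebra.TensorProduct.map φ' (AlgHom.id k A) (HopfRep.Comod.coact (k := k) (A := A) s)) ∧
        pR.comp φ' = (IsScalarTower.toAlgHom k S R).comp pS := by
  classical
  haveI hAred : IsReduced A := Comod33.Aug.isReduced_of_charZero (k := k) (A := A)
  -- the linear ambient space
  obtain ⟨gR, hgR⟩ := (Algebra.FiniteType.out : (⊤ : Subalgebra k R).FG)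
  obtain ⟨gS, hgS⟩ := (Algebra.FiniteType.out : (⊤ : Subalgebra k S).FG)
  obtain ⟨W, hWfin, hWs, hgW, -⟩ := Hopf34.exists_finite_isSubcomod (k := k) (A := A) (gS : Set S) gS.finite_toSet
  haveI := hWfin
  let bW := Module.finBasis k W
  obtain ⟨V, hVfin, hVs, hV, -⟩ := Hopf34.exists_finite_isSubcomod (k := k) (A := A)
    ((gR : Set R) ∪ Set.range fun i => algebraMap S R (bW i : S)) (gR.finite_toSet.union (Set.finite_range _))
  haveI := hVfin
  letI cV := ComodSub.Comod.restr ‹HopfRep.Comod k A R› V hVs
  letI cW := ComodSub.Comod.restr ‹HopfRep.Comod k A S› W hWs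
  let ι := ULift.{u} (Fin (Module.finrank k V))
  let b : Module.Basis ι k V := (Module.finBasis k V).reindex Equiv.ulift.symm
  let c : ι → ι → A := Comod33.Mat.mc (A := A) b
  have hc : Comod33.Mat.IsRep (k := k) c := Comod33.Mat.isRep_mc b
  letI cP := PolyComod.comod hc
  haveI := PolyComod.isCoactAlg hc
  have hVR : ∀ v : V, HopfRep.Comod.coact (k := k) (A := A) (v : R) =
      V.subtype.rTensor A (HopfRep.Comod.coact (k := k) (A := A) v) := fun v =>
    (ComodSub.restr_coact_coe _ V hVs v).symm
  have hWS : ∀ w : W, HopfRep.Comod.coact (k := k) (A := A) (w : S) =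
      W.subtype.rTensor A (HopfRep.Comod.coact (k := k) (A := A) w) := fun w =>
    (ComodSub.restr_coact_coe _ W hWs w).symm
  let π : MvPolynomial ι k →ₐ[k] R := MvPolynomial.aeval fun i => (b i : R)
  have hπ : ∀ p, HopfRep.Comod.coact (k := k) (A := A) (π p) =
      Algebra.TensorProduct.map π (AlgHom.id k A) (HopfRep.Comod.coact (k := k) (A := A) p) := by
    intro p
    refine PolyComod.coact_aeval (c := c) _ (fun j => ?_) p
    rw [hVR, Comod33.Mat.coact_basis b j, map_sum]
    rfl
  let lin : V →ₗ[k] MvPolynomial ι k := b.constr k fun i => MvPolynomial.X i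
  have hlinπ : ∀ v : V, π (lin v) = v := by
    have : π.toLinearMap ∘ₗ lin = V.subtype := b.ext fun i => by
      show π (lin (b i)) = (b i : R)
      simp only [lin, π, Module.Basis.constr_basis, MvPolynomial.aeval_X]
    exact fun v => DFunLike.congr_fun this v
  have hlin : Hoch.IsComodHom A lin := b.ext fun j => by
    show PolyComod.polyCoact (k := k) c (lin (b j)) = lin.rTensor A (HopfRep.Comod.coact (k := k) (A := A) (b j))
    rw [Comod33.Mat.coact_basis b j, map_sum]
    simp only [lin, Module.Basis.constr_basis, PolyComod.polyCoact_X, LinearMap.rTensor_tmul, c]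
  have hπs : Function.Surjective π := by
    have : (⊤ : Subalgebra k R) ≤ π.range := by
      rw [← hgR]
      exact Algebra.adjoin_le fun r hr => ⟨lin ⟨r, hV (Or.inl hr)⟩, hlinπ _⟩
    exact fun r => this Algebra.mem_top
  -- the lift of W
  have hWV : ∀ w : W, algebraMap S R (w : S) ∈ V := by
    intro w
    have : ⊤ ≤ V.comap ((IsScalarTower.toAlgHom k S R).toLinearMap ∘ₗ W.subtype) := by
      rw [← bW.span_eq, Submodule.span_le]
      rintro _ ⟨i, rfl⟩
      exact hV (Or.inr ⟨i, rfl⟩)
    exact this Submodule.mem_top (x := w)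
  let j : W →ₗ[k] V := ((IsScalarTower.toAlgHom k S R).toLinearMap ∘ₗ W.subtype).codRestrict V hWV
  have hj : Hoch.IsComodHom A j := LinearMap.ext fun w => by
    refine Module.Flat.rTensor_preserves_injective_linearMap (M := A) V.subtype Subtype.val_injective ?_
    show V.subtype.rTensor A (HopfRep.Comod.coact (k := k) (A := A) (j w)) =
      V.subtype.rTensor A (j.rTensor A (HopfRep.Comod.coact (k := k) (A := A) w))
    rw [← hVR, ← LinearMap.rTensor_comp_apply]
    show HopfRep.Comod.coact (k := k) (A := A) (algebraMap S R (w : S)) = _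
    rw [hequiv, hWS]
    generalize HopfRep.Comod.coact (k := k) (A := A) w = t
    induction t with
    | zero => simp
    | tmul p q => simp [j]
    | add p q hp hq => simp only [map_add, hp, hq]
  let l : W →ₗ[k] MvPolynomial ι k := lin ∘ₗ j
  have hl : ∀ w : W, HopfRep.Comod.coact (k := k) (A := A) (l w) =
      l.rTensor A (HopfRep.Comod.coact (k := k) (A := A) w) := fun w => by
    refine (DFunLike.congr_fun hlin (j w)).trans ?_
    rw [LinearMap.comp_apply, show HopfRep.Comod.coact (k := k) (A := A) (j w) =
      j.rTensor A (HopfRep.Comod.coact (k := k) (A := A) w) from DFunLike.congr_fun hj w, ← LinearMap.rTensor_comp_apply]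
  -- the equations of X
  have hker := PolyComod.isSubcomod_ker hπ
  obtain ⟨gK, hgK⟩ := (IsNoetherian.noetherian (RingHom.ker π) : (RingHom.ker π).FG)
  obtain ⟨U, hUfin, hUs, hgU, hUmin⟩ := Hopf34.exists_finite_isSubcomod (k := k) (A := A)
    (gK : Set (MvPolynomial ι k)) gK.finite_toSet
  haveI := hUfin
  have hUker : ∀ x ∈ U, π x = 0 := fun x hx => (hUmin _ hker (by
    intro y hy
    show y ∈ RingHom.ker π
    rw [← hgK]
    exact Ideal.subset_span hy) hx : x ∈ RingHom.ker π)
  let bU := Module.finBasis k U
  let T : Set (MvPolynomial ι k) := Set.range (fun i => l (bW i)) ∪ Set.range fun i => (bU i : MvPolynomial ι k)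
  let S' := Algebra.adjoin k T
  have hlS : ∀ w : W, l w ∈ S' := by
    intro w
    have : ⊤ ≤ (Subalgebra.toSubmodule S').comap l := by
      rw [← bW.span_eq, Submodule.span_le]
      rintro _ ⟨i, rfl⟩
      exact Algebra.subset_adjoin (Or.inl ⟨i, rfl⟩)
    exact this Submodule.mem_top (x := w)
  have hUS : ∀ x ∈ U, x ∈ S' := by
    intro x hx
    have : ⊤ ≤ (Subalgebra.toSubmodule S').comap U.subtype := by
      rw [← bU.span_eq, Submodule.span_le]
      rintro _ ⟨i, rfl⟩
      exact Algebra.subset_adjoin (Or.inr ⟨i, rfl⟩)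
    exact this Submodule.mem_top (x := ⟨x, hx⟩)
  haveI hS'ft : Algebra.FiniteType k S' := Algebra.FiniteType.adjoin_of_finite ((Set.finite_range _).union (Set.finite_range _))
  let M := Algebra.TensorProduct.map S'.val (AlgHom.id k A)
  let G : Subalgebra k (MvPolynomial ι k) := M.range.comap (GLin.coactAlgHom k A (MvPolynomial ι k))
  have hS'G : S' ≤ G := by
    refine Algebra.adjoin_le ?_
    rintro _ (⟨i, rfl⟩ | ⟨i, rfl⟩)
    · show HopfRep.Comod.coact (k := k) (A := A) (l (bW i)) ∈ M.range
      rw [hl]
      generalize HopfRep.Comod.coact (k := k) (A := A) (bW i) = t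
      induction t with
      | zero => simp
      | tmul p q => exact ⟨(⟨l p, hlS p⟩ : S') ⊗ₜ[k] q, by simp [M]⟩
      | add p q hp hq => rw [map_add]; exact add_mem hp hq
    · show HopfRep.Comod.coact (k := k) (A := A) (bU i : MvPolynomial ι k) ∈ M.range
      obtain ⟨z, hz⟩ := hUs _ (bU i).2
      rw [← hz]
      clear hz
      induction z with
      | zero => simp
      | tmul p q => exact ⟨(⟨(p : MvPolynomial ι k), hUS p p.2⟩ : S') ⊗ₜ[k] q, by simp [M]⟩
      | add p q hp hq => rw [map_add]; exact add_mem hp hq
  obtain ⟨cS', hcS', hval⟩ := EquivFactor.exists_comod S'.val Subtype.val_injective fun s => hS'G s.2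
  letI := cS'
  haveI := hcS'
  -- the projection to S
  have hrange : S' ≤ (IsScalarTower.toAlgHom k S R).range.comap π := by
    refine Algebra.adjoin_le ?_
    rintro _ (⟨i, rfl⟩ | ⟨i, rfl⟩)
    · exact ⟨(bW i : S), (hlinπ (j (bW i))).symm⟩
    · exact ⟨0, by simp [hUker _ (bU i).2]⟩
  let eS := AlgEquiv.ofInjective (IsScalarTower.toAlgHom k S R) hinj
  let pS : S' →ₐ[k] S := eS.symm.toAlgHom.comp ((π.comp S'.val).codRestrict _ fun s => hrange s.2)
  have hpS : ∀ s : S', algebraMap S R (pS s) = π (s : MvPolynomial ι k) := fun s =>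
    congrArg Subtype.val (eS.apply_symm_apply _)
  have hpSs : Function.Surjective pS := by
    have : (⊤ : Subalgebra k S) ≤ pS.range := by
      rw [← hgS]
      refine Algebra.adjoin_le fun s hs => ⟨⟨l ⟨s, hgW hs⟩, hlS _⟩, hinj ?_⟩
      exact (hpS _).trans (hlinπ _)
    exact fun s => this Algebra.mem_top
  -- the bad locus
  haveI : Algebra.FiniteType S' (MvPolynomial ι k) := Algebra.FiniteType.of_restrictScalars_finiteType k S' _
  let Bad : Set (PrimeSpectrum (MvPolynomial ι k)) := {q | ¬ Algebra.QuasiFiniteAt S' q.asIdeal}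
  have hclosed : IsClosed Bad := QFLocus.isClosed_bad
  let I := PrimeSpectrum.vanishingIdeal Bad
  have hIs : HopfRep.IsSubcomod (k := k) (A := A) (I.restrictScalars k) := by
    refine PolyComod.isSubcomod_of_stable fun g f hf => ?_
    show OrbitMap.actHom A (MvPolynomial ι k) g f ∈ I
    rw [PrimeSpectrum.mem_vanishingIdeal]
    intro q hq
    let σ := RingEquiv.ofBijective (OrbitMap.actHom A (MvPolynomial ι k) g) (OrbitMap.actHom_bijective g)
    let σ' := RingEquiv.ofBijective (OrbitMap.actHom A S' g) (OrbitMap.actHom_bijective g)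
    have hq' : q.comap σ.toRingHom ∈ Bad := fun hg =>
      hq (QFLocus.quasiFiniteAt_of_comap σ σ' (fun s => PolyComod.map_actHom hval g s) q.asIdeal hg)
    exact (PrimeSpectrum.mem_vanishingIdeal _ _).1 hf _ hq'
  have hgood : ∀ q : PrimeSpectrum (MvPolynomial ι k), RingHom.ker π ≤ q.asIdeal → q ∉ Bad := by
    intro q hq
    refine not_not_intro (QFLocus.quasiFiniteAt_of_finite_fibre q ?_)
    have hsub : PrimeSpectrum.comap (algebraMap S' (MvPolynomial ι k)) ⁻¹' {q.comap (algebraMap S' _)} ⊆
        PrimeSpectrum.comap π.toRingHom '' (PrimeSpectrum.comap (algebraMap S R) ⁻¹'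
          (PrimeSpectrum.comap pS.toRingHom ⁻¹' {q.comap (algebraMap S' _)})) := by
      intro q₁ hq₁
      have hk : RingHom.ker π ≤ q₁.asIdeal := by
        rw [← hgK, Ideal.span_le]
        intro x hx
        have h1 : (⟨x, hUS x (hgU hx)⟩ : S') ∈ (q.comap (algebraMap S' _)).asIdeal :=
          hq (show π x = 0 from hUker x (hgU hx))
        rw [← show q₁.comap (algebraMap S' _) = q.comap (algebraMap S' _) from hq₁] at h1
        exact h1
      obtain ⟨Q, hQ⟩ : q₁ ∈ Set.range (PrimeSpectrum.comap π.toRingHom) := by
        rw [range_comap_of_surjective _ π.toRingHom hπs]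
        exact hk
      refine ⟨Q, ?_, hQ⟩
      show (Q.comap (algebraMap S R)).comap pS.toRingHom = q.comap (algebraMap S' _)
      rw [← show q₁.comap (algebraMap S' _) = q.comap (algebraMap S' _) from hq₁, ← hQ]
      refine PrimeSpectrum.ext (Ideal.ext fun s => ?_)
      show algebraMap S R (pS s) ∈ Q.asIdeal ↔ π (s : MvPolynomial ι k) ∈ Q.asIdeal
      rw [hpS]
    refine Set.Finite.subset (Set.Finite.image _ (Algebra.QuasiFinite.finite_comap_preimage ?_)) hsub
    exact (Set.finite_singleton _).preimage (PrimeSpectrum.comap_injective_of_surjective _ hpSs).injOn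
  have hI1 : ∃ i ∈ I, π i = 1 := by
    have htop : I ⊔ RingHom.ker π = ⊤ := by
      by_contra hne
      obtain ⟨m, hm, hle⟩ := Ideal.exists_le_maximal _ hne
      have hmB : (⟨m, hm.isPrime⟩ : PrimeSpectrum (MvPolynomial ι k)) ∈ closure Bad := by
        rw [← PrimeSpectrum.zeroLocus_vanishingIdeal_eq_closure]
        exact le_sup_left.trans hle
      rw [hclosed.closure_eq] at hmB
      exact hgood _ (le_sup_right.trans hle) hmB
    obtain ⟨i, hi, i', hi', hii'⟩ := Submodule.mem_sup.1 ((Ideal.eq_top_iff_one _).1 htop)
    refine ⟨i, hi, ?_⟩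
    have := congrArg π hii'
    rw [map_add, map_one, show π i' = 0 from hi', add_zero] at this
    exact this
  let rP := LinRed34.rey k A (MvPolynomial ι k) hG
  have hπrey : ∀ p, π (rP p) = LinRed34.rey k A R hG (π p) := fun p =>
    LinRed34.map_rey hG (φ := π.toLinearMap) (LinearMap.ext fun x => hπ x) p
  obtain ⟨f, hfinv, hπf, hf0, hfq⟩ : ∃ f : MvPolynomial ι k, f ∈ GLin.invariants k A (MvPolynomial ι k) ∧ π f = 1 ∧
      f ≠ 0 ∧ ∀ q : PrimeSpectrum (MvPolynomial ι k), f ∉ q.asIdeal → Algebra.QuasiFiniteAt S' q.asIdeal := by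
    rcases subsingleton_or_nontrivial R with hR | hR
    · refine ⟨1, one_mem _, Subsingleton.elim _ _, one_ne_zero, fun q _ => ?_⟩
      haveI : Subsingleton V := inferInstance
      haveI : IsEmpty ι := by
        refine ⟨fun i => ?_⟩
        exact b.ne_zero i (Subsingleton.elim _ _)
      haveI : Module.Finite k (MvPolynomial ι k) := Module.Finite.equiv (MvPolynomial.isEmptyAlgEquiv k ι).symm.toLinearEquiv
      haveI : Module.Finite S' (MvPolynomial ι k) := Module.Finite.of_restrictScalars_finite k S' _
      exact inferInstance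
    · obtain ⟨i, hi, hi1⟩ := hI1
      have h1 : π (rP i) = 1 := by
        rw [hπrey, hi1]
        exact LinRed34.rey_of_fixed hG (show (1 : R) ∈ HopfRep.fixedPts k A R from (one_mem (GLin.invariants k A R) :))
      refine ⟨rP i, LinRed34.rey_mem hG i, h1, fun h0 => ?_, fun q hq => ?_⟩
      · rw [h0, map_zero] at h1
        exact zero_ne_one h1
      · by_contra hbad
        exact hq ((PrimeSpectrum.mem_vanishingIdeal _ _).1
          (LinRed34.rey_mem_of_isSubcomod hG hIs (v := i) hi : rP i ∈ I) q hbad)
  -- the open piece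
  obtain ⟨cL, hcL, hL⟩ := PolyComod.exists_comod_away hfinv
  letI := cL
  haveI := hcL
  let L := Localization.Away f
  have hpow : Submonoid.powers f ≤ nonZeroDivisors (MvPolynomial ι k) :=
    powers_le_nonZeroDivisors_of_noZeroDivisors hf0
  haveI hLdom : IsDomain L := IsLocalization.isDomain_localization hpow
  haveI hLic : IsIntegrallyClosed L := isIntegrallyClosed_of_isLocalization L (Submonoid.powers f) hpow
  haveI : Algebra.FiniteType (MvPolynomial ι k) L := IsLocalization.finiteType_of_monoid_fg (Submonoid.powers f) _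
  have hLft : Algebra.FiniteType k L := Algebra.FiniteType.trans (S := MvPolynomial ι k) inferInstance inferInstance
  let pR : L →ₐ[k] R := IsLocalization.liftAlgHom (M := Submonoid.powers f) (f := π) (by
    rintro ⟨_, n, rfl⟩
    simp [hπf])
  have hpR : ∀ p, pR (algebraMap _ L p) = π p := fun p => by simp [pR]
  have hpReq : (GLin.coactAlgHom k A R).comp pR =
      (Algebra.TensorProduct.map pR (AlgHom.id k A)).comp (GLin.coactAlgHom k A L) := by
    refine IsLocalization.algHom_ext (Submonoid.powers f) (AlgHom.ext fun p => ?_)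
    show HopfRep.Comod.coact (k := k) (A := A) (pR (algebraMap _ L p)) =
      Algebra.TensorProduct.map pR (AlgHom.id k A) (HopfRep.Comod.coact (k := k) (A := A) (algebraMap _ L p))
    rw [hpR, hπ, hL]
    generalize HopfRep.Comod.coact (k := k) (A := A) p = t
    induction t with
    | zero => simp
    | tmul x y =>
      simp only [Algebra.TensorProduct.map_tmul, IsScalarTower.coe_toAlgHom', AlgHom.id_apply]
      exact (congrArg (· ⊗ₜ[k] y) (hpR x)).symm
    | add x y hx hy => simp only [map_add, hx, hy]
  refine ⟨L, inferInstance, hLdom, hLic, inferInstance, cL, hcL, S', inferInstance, inferInstance, inferInstance,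
    cS', hcS', hLft, hS'ft, pR, pS, (IsScalarTower.toAlgHom k (MvPolynomial ι k) L).comp S'.val, ?_, hpSs, ?_, ?_,
    fun s => DFunLike.congr_fun hpReq s, fun s => ?_, fun s => ?_, AlgHom.ext fun s => ?_⟩
  · intro r
    obtain ⟨p, rfl⟩ := hπs r
    exact ⟨_, hpR p⟩
  · intro s t hst
    exact Subtype.ext (IsLocalization.injective L hpow hst)
  · have h := (@RingHom.quasiFinite_algebraMap S' (Localization.Away f) _ _ OreLocalization.instAlgebra).2 (QFLocus.quasiFinite_away (S := S') f hfq)
    exact (congrArg RingHom.QuasiFinite (RingHom.ext fun s => rfl)).mp h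
  · refine Module.Flat.rTensor_preserves_injective_linearMap (M := A) (IsScalarTower.toAlgHom k S R).toLinearMap hinj ?_
    show Algebra.TensorProduct.map (IsScalarTower.toAlgHom k S R) (AlgHom.id k A) (HopfRep.Comod.coact (k := k) (A := A) (pS s)) =
      Algebra.TensorProduct.map (IsScalarTower.toAlgHom k S R) (AlgHom.id k A)
        (Algebra.TensorProduct.map pS (AlgHom.id k A) (HopfRep.Comod.coact (k := k) (A := A) s))
    rw [← hequiv, hpS, hπ, show HopfRep.Comod.coact (k := k) (A := A) (s : MvPolynomial ι k) = _ from hval s]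
    generalize HopfRep.Comod.coact (k := k) (A := A) s = t
    induction t with
    | zero => simp
    | tmul x y => simp [hpS]
    | add x y hx hy => simp only [map_add, hx, hy]
  · show HopfRep.Comod.coact (k := k) (A := A) (algebraMap _ L (s : MvPolynomial ι k)) = _
    rw [hL, show HopfRep.Comod.coact (k := k) (A := A) (s : MvPolynomial ι k) = _ from hval s]
    generalize HopfRep.Comod.coact (k := k) (A := A) s = t
    induction t with
    | zero => simp
    | tmul x y => rfl
    | add x y hx hy => simp only [map_add, hx, hy]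
  · show pR (algebraMap _ L (s : MvPolynomial ι k)) = algebraMap S R (pS s)
    rw [hpR, hpS]

end Groth.Agent.S19410
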