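import Groth.Statements.S19411
import Groth.Agent.Hopf35.Stable
import Groth.Agent.Hopf34.Fin
import Groth.Agent.Comod33.CartierReduced
import Mathlib.RingTheory.Coalgebra.GroupLike
import Mathlib.RingTheory.HopfAlgebra.Basic

set_option autoImplicit false
universe u
open TensorProduct
open GLin

namespace Groth.Agent.S19411

variable {k : Type u} [Field k] {A : Type u} [CommRing A] [HopfAlgebra k A] {R : Type u} [CommRing R] [Algebra k R]

/-- evaluation of a function on `X × G` at a point of `X` -/
noncomputable def ev (x : R →ₐ[k] k) : R ⊗[k] A →ₐ[k] A :=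
  (Algebra.TensorProduct.lid k A).toAlgHom.comp (Algebra.TensorProduct.map x (AlgHom.id k A))

@[simp] theorem ev_tmul (x : R →ₐ[k] k) (r : R) (a : A) : ev x (r ⊗ₜ[k] a) = x r • a := by simp [ev]

/-- evaluation of a function on `X × G` at a point of `G` -/
noncomputable def evG (g : A →ₐ[k] k) : R ⊗[k] A →ₐ[k] R :=
  (Algebra.TensorProduct.rid k k R).toAlgHom.comp (Algebra.TensorProduct.map (AlgHom.id k R) g)

@[simp] theorem evG_tmul (g : A →ₐ[k] k) (r : R) (a : A) : evG g (r ⊗ₜ[k] a) = g a • r := by simp [evG]

theorem ev_evG (x : R →ₐ[k] k) (g : A →ₐ[k] k) (z : R ⊗[k] A) : g (ev x z) = x (evG g z) := by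
  induction z with
  | zero => simp
  | tmul r a => simp [mul_comm]
  | add p q hp hq => simp only [map_add, hp, hq]

theorem sl_ev (x : R →ₐ[k] k) (φ : A →ₗ[k] k) (z : R ⊗[k] A) :
    x (Hopf34.sl φ z) = φ (ev x z) := by
  induction z with
  | zero => simp
  | tmul r a => simp [mul_comm]
  | add p q hp hq => simp only [map_add, hp, hq]

/-- Let k be an uncountable algebraically closed field of characteristic zero, A a finitely generated
commutative Hopf algebra over k all of whose finite-dimensional comodules are semisimple (a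
reductive group G), and R a reduced finitely generated commutative k-algebra whose prime spectrum is
connected, with a multiplicative A-coaction ρ (G acting on the connected affine scheme X = Spec R).
Let θ ∈ R ⊗ A be such that the map r ↦ ρ(r)·θ from R to R ⊗ A is coassociative and counital (a
structure of G-line bundle on the trivial line bundle of X, θ being the corresponding invertible
function on X × G). Suppose that either every unit of A is a scalar multiple of a group-like element
(every invertible function on G is a constant times a character), or every unit of R is a scalar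
(every invertible function on X is constant). Then θ = 1 ⊗ χ for some group-like element χ of A: the
G-line bundle is the one attached to the character χ. (Stated for G-line bundle structures on the
trivial bundle, the case to which the hypothesis of a trivial Picard group reduces the source's
statement; uncountability of k is what the argument uses in the first case.) -/
theorem result (k : Type u) [Field k] [IsAlgClosed k] [CharZero k] [Uncountable k]
    (A : Type u) [CommRing A] [HopfAlgebra k A] [Algebra.FiniteType k A] (hG : HopfRep.IsLinearlyReductive k A)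
    (R : Type u) [CommRing R] [IsReduced R] [Algebra k R] [Algebra.FiniteType k R] [HopfRep.Comod k A R] [GLin.IsCoactAlg k A R]
    [ConnectedSpace (PrimeSpectrum R)]
    (θ : R ⊗[k] A)
    (hassoc : (TensorProduct.assoc k R A A).toLinearMap ∘ₗ
        ((LinearMap.mulRight k θ) ∘ₗ HopfRep.Comod.coact (k := k) (A := A) (V := R)).rTensor A ∘ₗ
          ((LinearMap.mulRight k θ) ∘ₗ HopfRep.Comod.coact (k := k) (A := A) (V := R)) =
      (CoalgebraStruct.comul (R := k) (A := A)).lTensor R ∘ₗ
        ((LinearMap.mulRight k θ) ∘ₗ HopfRep.Comod.coact (k := k) (A := A) (V := R)))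
    (hcounit : (CoalgebraStruct.counit (R := k) (A := A)).lTensor R ∘ₗ
        ((LinearMap.mulRight k θ) ∘ₗ HopfRep.Comod.coact (k := k) (A := A) (V := R)) =
      (TensorProduct.mk k R k).flip 1)
    (h : (∀ u : Aˣ, ∃ (c : k) (χ : A), IsGroupLikeElem k χ ∧ (u : A) = c • χ) ∨
      (∀ u : Rˣ, (u : R) ∈ Set.range (algebraMap k R))) :
    ∃ χ : A, IsGroupLikeElem k χ ∧ θ = (1 : R) ⊗ₜ[k] χ := by
  haveI : IsReduced A := Comod33.Aug.isReduced_of_charZero (k := k) (A := A)
  haveI hne : Nonempty (PrimeSpectrum R) := ConnectedSpace.toNonempty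
  have hpts : ∀ r : R, (∀ x : R →ₐ[k] k, x r = 0) → r = 0 := by
    intro r hr
    refine IsNilpotent.eq_zero ?_
    rw [nilpotent_iff_mem_prime]
    intro P hP
    by_contra hrP
    obtain ⟨z, -, hz⟩ := Hopf35.Stable.exists_point_ne (k := k) P hrP
    exact hz (hr z)
  obtain ⟨x₀, -⟩ : ∃ x₀ : R →ₐ[k] k, x₀ 1 ≠ 0 := by
    obtain ⟨P⟩ := hne
    obtain ⟨z, -, hz⟩ := Hopf35.Stable.exists_point_ne (k := k) P.asIdeal (f := 1) P.asIdeal.one_notMem
    exact ⟨z, hz⟩
  -- the cocycle identity
  let D : R ⊗[k] A →ₐ[k] R ⊗[k] (A ⊗[k] A) :=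
    (Algebra.TensorProduct.assoc k k k R A A).toAlgHom.comp
      (Algebra.TensorProduct.map (GLin.coactAlgHom k A R) (AlgHom.id k A))
  let J : R ⊗[k] A →ₐ[k] R ⊗[k] (A ⊗[k] A) :=
    Algebra.TensorProduct.map (AlgHom.id k R) Algebra.TensorProduct.includeLeft
  have hE : D θ * J θ = Algebra.TensorProduct.map (AlgHom.id k R) (Bialgebra.comulAlgHom k A) θ := by
    have h1 := DFunLike.congr_fun hassoc 1
    simp only [LinearMap.comp_apply, LinearEquiv.coe_coe, IsCoactAlg.coact_one (k := k) (A := A) (R := R),
      LinearMap.mulRight_apply, one_mul] at h1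
    have hJ : J θ = Algebra.TensorProduct.assoc k k k R A A (θ ⊗ₜ[k] (1 : A)) := by
      generalize θ = z
      induction z with
      | zero => simp
      | tmul p q => simp [J]
      | add p q hp hq => simp only [map_add, add_tmul, hp, hq]
    have hR' : (CoalgebraStruct.comul (R := k) (A := A)).lTensor R θ =
        Algebra.TensorProduct.map (AlgHom.id k R) (Bialgebra.comulAlgHom k A) θ := by
      generalize θ = z
      induction z with
      | zero => simp
      | tmul p q => simp
      | add p q hp hq => simp only [map_add, hp, hq]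
    have hL : ∀ z : R ⊗[k] A, ((LinearMap.mulRight k θ) ∘ₗ HopfRep.Comod.coact (k := k) (A := A) (V := R)).rTensor A z =
        Algebra.TensorProduct.map (GLin.coactAlgHom k A R) (AlgHom.id k A) z * (θ ⊗ₜ[k] (1 : A)) := by
      intro z
      induction z with
      | zero => simp
      | tmul p q => simp
      | add p q hp hq => simp only [map_add, add_mul, hp, hq]
    rw [← hR', ← h1, hL, hJ]
    exact (map_mul (Algebra.TensorProduct.assoc k k k R A A) _ _).symm
  have hε : Algebra.TensorProduct.map (AlgHom.id k R) (Bialgebra.counitAlgHom k A) θ = 1 := by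
    have h1 := DFunLike.congr_fun hcounit 1
    simp only [LinearMap.comp_apply, IsCoactAlg.coact_one (k := k) (A := A) (R := R),
      LinearMap.mulRight_apply, one_mul] at h1
    rw [Algebra.TensorProduct.one_def]
    refine Eq.trans ?_ h1
    generalize θ = z
    induction z with
    | zero => simp
    | tmul p q => simp
    | add p q hp hq => simp only [map_add, hp, hq]
  have hεx : ∀ x : R →ₐ[k] k, CoalgebraStruct.counit (R := k) (ev x θ) = 1 := by
    intro x
    show (Bialgebra.counitAlgHom k A).toLinearMap (ev x θ) = 1
    rw [← sl_ev]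
    have h1 : Hopf34.sl (Bialgebra.counitAlgHom k A).toLinearMap θ =
        Algebra.TensorProduct.rid k k R (Algebra.TensorProduct.map (AlgHom.id k R) (Bialgebra.counitAlgHom k A) θ) := by
      generalize θ = z
      induction z with
      | zero => simp
      | tmul p q => simp
      | add p q hp hq => simp only [map_add, hp, hq]
    rw [h1, hε, map_one, map_one]
  -- θ is invertible
  let μ : A ⊗[k] A →ₐ[k] A :=
    Algebra.TensorProduct.lift (AlgHom.id k A) (HopfAlgebra.antipodeAlgHom k A) fun _ _ => Commute.all _ _
  have hθu : IsUnit θ := by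
    have h1 := congrArg (Algebra.TensorProduct.map (AlgHom.id k R) μ) hE
    rw [map_mul] at h1
    have hJμ : ∀ z : R ⊗[k] A, Algebra.TensorProduct.map (AlgHom.id k R) μ (J z) = z := by
      intro z
      induction z with
      | zero => simp
      | tmul p q => simp [J, μ]
      | add p q hp hq => simp only [map_add, hp, hq]
    have hΔμ : ∀ z : R ⊗[k] A, Algebra.TensorProduct.map (AlgHom.id k R) μ
        (Algebra.TensorProduct.map (AlgHom.id k R) (Bialgebra.comulAlgHom k A) z) =
        Algebra.TensorProduct.map (AlgHom.id k R) (Algebra.ofId k A)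
          (Algebra.TensorProduct.map (AlgHom.id k R) (Bialgebra.counitAlgHom k A) z) := by
      intro z
      induction z with
      | zero => simp
      | add p q hp hq => simp only [map_add, hp, hq]
      | tmul p q =>
        simp only [Algebra.TensorProduct.map_tmul, AlgHom.id_apply]
        congr 1
        have e : μ.toLinearMap = LinearMap.mul' k A ∘ₗ (HopfAlgebraStruct.antipode (R := k) (A := A)).lTensor A :=
          TensorProduct.ext' fun a b => by simp [μ]
        show μ.toLinearMap (CoalgebraStruct.comul q) = algebraMap k A (CoalgebraStruct.counit q)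
        rw [e, LinearMap.comp_apply, HopfAlgebra.mul_antipode_lTensor_comul_apply]
    rw [hJμ, hΔμ, hε, map_one] at h1
    exact .of_mul_eq_one_right _ h1
  suffices hs : θ = (1 : R) ⊗ₜ[k] ev x₀ θ by
    refine ⟨ev x₀ θ, ⟨hεx x₀, ?_⟩, hs⟩
    have h1 : D θ * J θ = Algebra.TensorProduct.map (AlgHom.id k R) (Bialgebra.comulAlgHom k A) θ := hE
    generalize ev x₀ θ = χ at hs ⊢
    subst hs
    simp only [D, J, AlgHom.comp_apply, Algebra.TensorProduct.map_tmul, AlgHom.id_apply,
      GLin.coactAlgHom_apply, IsCoactAlg.coact_one (k := k) (A := A) (R := R), Algebra.TensorProduct.one_def,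
      AlgEquiv.coe_toAlgHom, Algebra.TensorProduct.assoc_tmul, Algebra.TensorProduct.includeLeft_apply,
      Algebra.TensorProduct.tmul_mul_tmul, one_mul, mul_one, Bialgebra.comulAlgHom_apply] at h1
    have := congrArg ((Algebra.TensorProduct.lid k (A ⊗[k] A)).toAlgHom.comp
      (Algebra.TensorProduct.map x₀ (AlgHom.id k (A ⊗[k] A)))) h1
    simpa using this.symm
  have hzero : ∀ z : R ⊗[k] A, (∀ x : R →ₐ[k] k, ev x z = 0) → z = 0 := fun z hz =>
    Hopf34.eq_zero_of_forall_sl fun φ => hpts _ fun x => by rw [sl_ev, hz, map_zero]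
  rw [← sub_eq_zero]
  refine hzero _ fun x => ?_
  rw [map_sub, ev_tmul, map_one, one_smul, sub_eq_zero]
  rcases h with h | h
  · have hgl : ∀ y : R →ₐ[k] k, IsGroupLikeElem k (ev y θ) := by
      intro y
      obtain ⟨c, χ, hχ, hc⟩ := h (hθu.map (ev y)).unit
      rw [IsUnit.unit_spec] at hc
      have hc1 := hεx y
      rw [hc, map_smul, hχ.counit_eq_one, smul_eq_mul, mul_one] at hc1
      rw [hc, hc1, one_smul]
      exact hχ
    have hli : LinearIndepOn k id {a : A | IsGroupLikeElem k a} := linearIndepOn_isGroupLikeElem
    let b := Module.Basis.extend hli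
    let i₀ : hli.extend (Set.subset_univ _) := ⟨ev x₀ θ, hli.subset_extend _ (hgl x₀)⟩
    let u := Hopf34.sl (b.coord i₀) θ
    have hu : ∀ y : R →ₐ[k] k, (ev y θ = ev x₀ θ → y u = 1) ∧ (ev y θ ≠ ev x₀ θ → y u = 0) := by
      intro y
      let i : hli.extend (Set.subset_univ _) := ⟨ev y θ, hli.subset_extend _ (hgl y)⟩
      have hy : y u = b.coord i₀ (b i) := by rw [sl_ev, Module.Basis.extend_apply_self]
      refine ⟨fun he => ?_, fun hne' => ?_⟩
      · rw [hy, show i = i₀ from Subtype.ext he]; simp
      · rw [hy]
        have : i ≠ i₀ := fun hh => hne' (congrArg Subtype.val hh)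
        simp [Finsupp.single_eq_of_ne' this]
    have hid : IsIdempotentElem u := sub_eq_zero.1 <| hpts _ fun y => by
      by_cases he : ev y θ = ev x₀ θ
      · simp [(hu y).1 he]
      · simp [(hu y).2 he]
    have h01 : u = 0 ∨ u = 1 := by
      rcases isClopen_iff.1 (PrimeSpectrum.isClopen_iff.2 ⟨u, hid, rfl⟩ :
          IsClopen (PrimeSpectrum.basicOpen u : Set (PrimeSpectrum R))) with hc | hc
      · exact Or.inl (PrimeSpectrum.basicOpen_injOn_isIdempotentElem hid .zero
          (SetLike.ext' (by simpa using hc)))
      · exact Or.inr (PrimeSpectrum.basicOpen_injOn_isIdempotentElem hid .one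
          (SetLike.ext' (by simpa using hc)))
    rcases h01 with hu0 | hu1
    · exfalso
      have := (hu x₀).1 rfl
      rw [hu0, map_zero] at this
      exact zero_ne_one this
    · by_contra hne'
      have := (hu x).2 hne'
      rw [hu1, map_one] at this
      exact one_ne_zero this
  · refine sub_eq_zero.1 (Hopf35.Stable.eq_zero_of_points (k := k) fun g => ?_)
    obtain ⟨c, hc⟩ := h (hθu.map (evG g)).unit
    rw [IsUnit.unit_spec] at hc
    rw [map_sub, ev_evG, ev_evG, ← hc, AlgHom.commutes, AlgHom.commutes, sub_self]

end Groth.Agent.S19411
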