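import Groth.Statements.S19412
import Groth.Agent.FinGrp34.OrbitMap
import Mathlib.RingTheory.Etale.Basic

set_option autoImplicit false
universe u
open TensorProduct
open GLin

namespace Groth.Agent.S19412

open TensorProduct Groth.Agent.Hopf35.Stable Groth.Agent.FinGrp34.OrbitMap
/-- Let k be an algebraically closed field of characteristic zero, A a finitely generated commutative
Hopf algebra over k (an algebraic group G), S and R finitely generated commutative k-algebras with
multiplicative A-coactions (G acting on affine Y = Spec S, X = Spec R), S → R an algebra map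
compatible with the coactions (a G-morphism φ : X → Y), S₀ → S and R₀ → R injective k-algebra maps
whose images are the subrings of invariants, and S₀ → R₀ an algebra map with S₀ → R₀ → R equal to S₀
→ S → R (φ/G). Suppose R₀ is étale over S₀ and the canonical map S ⊗_{S₀} R₀ → R is bijective (φ is
strongly étale: φ/G étale and X ≅ Y ×_{Y//G} X//G). Then R is étale over S (φ étale), and for every
k-point x of X: every k-point of G fixing the image point φ(x) fixes x (φ restricted to the orbit of
x is injective), and the orbit of x is closed if and only if the orbit of φ(x) is closed. (The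
published item also asserts that φ is surjective; that fails when φ is the inclusion of a proper
saturated open subset, which is strongly étale, so surjectivity is not asserted here.) -/
theorem result (k : Type u) [Field k] [IsAlgClosed k] [CharZero k]
    (A : Type u) [CommRing A] [HopfAlgebra k A] [Algebra.FiniteType k A]
    (S : Type u) [CommRing S] [Algebra k S] [Algebra.FiniteType k S] [HopfRep.Comod k A S] [GLin.IsCoactAlg k A S]
    (R : Type u) [CommRing R] [Algebra k R] [Algebra.FiniteType k R] [HopfRep.Comod k A R] [GLin.IsCoactAlg k A R]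
    [Algebra S R] [IsScalarTower k S R]
    (hequiv : (∀ s : S, HopfRep.Comod.coact (k := k) (A := A) (algebraMap S R s) =
      Algebra.TensorProduct.map (IsScalarTower.toAlgHom k S R) (AlgHom.id k A) (HopfRep.Comod.coact (k := k) (A := A) s)))
    (S₀ : Type u) [CommRing S₀] [Algebra k S₀] [Algebra S₀ S] [IsScalarTower k S₀ S]
    (hS₀i : Function.Injective (algebraMap S₀ S)) (hS₀ : (IsScalarTower.toAlgHom k S₀ S).range = GLin.invariants k A S)
    (R₀ : Type u) [CommRing R₀] [Algebra k R₀] [Algebra R₀ R] [IsScalarTower k R₀ R]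
    (hR₀i : Function.Injective (algebraMap R₀ R)) (hR₀ : (IsScalarTower.toAlgHom k R₀ R).range = GLin.invariants k A R)
    [Algebra S₀ R₀] [Algebra S₀ R] [IsScalarTower S₀ S R] [IsScalarTower S₀ R₀ R]
    (het₀ : Algebra.Etale S₀ R₀)
    (hcart : Function.Bijective (Algebra.TensorProduct.productMap (IsScalarTower.toAlgHom S₀ S R) (IsScalarTower.toAlgHom S₀ R₀ R))) :
    Algebra.Etale S R ∧
      ∀ x : R →ₐ[k] k,
        (∀ g : A →ₐ[k] k, GLin.actPt k g (x.comp (IsScalarTower.toAlgHom k S R)) = x.comp (IsScalarTower.toAlgHom k S R) →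
          GLin.actPt k g x = x) ∧
        (GLin.IsClosedOrbit k A x ↔ GLin.IsClosedOrbit k A (x.comp (IsScalarTower.toAlgHom k S R))) := by
  haveI : IsReduced A := Groth.Agent.Comod33.Aug.isReduced_of_charZero (k := k)
  haveI := het₀
  let P := Algebra.TensorProduct.productMap (IsScalarTower.toAlgHom S₀ S R) (IsScalarTower.toAlgHom S₀ R₀ R)
  let P' : S ⊗[S₀] R₀ →ₐ[S] R :=
    { toRingHom := P.toRingHom
      commutes' := fun s => by
        show P (s ⊗ₜ[S₀] (1 : R₀)) = algebraMap S R s
        simp [P] }
  let eP : S ⊗[S₀] R₀ ≃ₐ[S] R := AlgEquiv.ofBijective P' hcart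
  refine ⟨Algebra.Etale.of_equiv eP, fun x => ?_⟩
  let φ := IsScalarTower.toAlgHom k S R
  have hinv : ∀ r : R₀, algebraMap R₀ R r ∈ GLin.invariants k A R := fun r => by
    rw [← hR₀]; exact ⟨r, rfl⟩
  have hgen : ∀ (r : R), ∃ t : S ⊗[S₀] R₀, P t = r := hcart.2
  have hPt : ∀ (s : S) (r : R₀), P (s ⊗ₜ[S₀] r) = φ s * algebraMap R₀ R r := fun s r => by simp [P, φ]
  have hext : ∀ u v : R →ₐ[k] k, u.comp φ = v.comp φ → (∀ r, u (algebraMap R₀ R r) = v (algebraMap R₀ R r)) →
      u = v := fun u v h1 h2 => AlgHom.ext fun f => by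
    obtain ⟨t, rfl⟩ := hgen f
    induction t using TensorProduct.induction_on with
    | zero => simp
    | tmul s r =>
      rw [hPt, map_mul, map_mul, h2, show u (φ s) = v (φ s) from DFunLike.congr_fun h1 s]
    | add p q hp hq => simp only [map_add, hp, hq]
  have hgx : ∀ (g : A →ₐ[k] k) r, GLin.actPt k g x (algebraMap R₀ R r) = x (algebraMap R₀ R r) := fun g r => by
    show g (GLin.orbitHom k A x _) = _
    rw [Groth.Agent.LinRed34.orbitHom_invariant x (hinv r), AlgHom.commutes]; rfl
  refine ⟨fun g hg => hext _ _ ((actPt_comp φ hequiv g x).trans hg) (hgx g), ?_⟩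
  rw [isClosedOrbit_iff, isClosedOrbit_iff]
  constructor
  · intro hx w hw
    have hS₀' : ∀ s : S₀, w (algebraMap S₀ S s) = x (φ (algebraMap S₀ S s)) := fun s => by
      have h : algebraMap S₀ S s ∈ GLin.invariants k A S := by rw [← hS₀]; exact ⟨s, rfl⟩
      exact invariants_eq_of_closure hw h
    letI : Algebra S₀ k := (w.toRingHom.comp (algebraMap S₀ S)).toAlgebra
    let ww : S →ₐ[S₀] k := { w.toRingHom with commutes' := fun s => rfl }
    let xx : R₀ →ₐ[S₀] k :=
      { x.toRingHom.comp (algebraMap R₀ R) with
        commutes' := fun s => by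
          show x (algebraMap R₀ R (algebraMap S₀ R₀ s)) = w (algebraMap S₀ S s)
          rw [hS₀', ← IsScalarTower.algebraMap_apply S₀ R₀ R, IsScalarTower.algebraMap_apply S₀ S R]
          rfl }
    let Q := Algebra.TensorProduct.productMap ww xx
    let zr : R →+* k := Q.toRingHom.comp eP.symm.toAlgHom.toRingHom
    have hzP : ∀ t, zr (P t) = Q t := fun t => congrArg Q (eP.symm_apply_apply t)
    have hzS : ∀ s, zr (φ s) = w s := fun s => by
      have h := hzP (s ⊗ₜ[S₀] (1 : R₀))
      rw [hPt, map_one, mul_one] at h
      rw [h]; simp [Q, ww, xx]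
    have hzR : ∀ r, zr (algebraMap R₀ R r) = x (algebraMap R₀ R r) := fun r => by
      have h := hzP ((1 : S) ⊗ₜ[S₀] r)
      rw [hPt, map_one, one_mul] at h
      rw [h]; simp [Q, ww, xx]
    let z : R →ₐ[k] k :=
      { zr with
        commutes' := fun c => by
          show zr (algebraMap k R c) = c
          rw [IsScalarTower.algebraMap_apply k S R]
          exact (hzS _).trans (w.commutes c) }
    have hz : GLin.InOrbitClosure k A x z := by
      have key : ∀ f : R, ∃ s : S, GLin.orbitHom k A x f = GLin.orbitHom k A (x.comp φ) s ∧ z f = w s := by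
        intro f
        obtain ⟨t, rfl⟩ := hgen f
        induction t using TensorProduct.induction_on with
        | zero => exact ⟨0, by simp, by simp⟩
        | tmul s r =>
          refine ⟨algebraMap k S (x (algebraMap R₀ R r)) * s, ?_, ?_⟩
          · rw [hPt, map_mul, map_mul, Groth.Agent.LinRed34.orbitHom_invariant x (hinv r), AlgHom.commutes, mul_comm,
              orbitHom_comp φ hequiv]
            rfl
          · rw [hPt, map_mul, map_mul, AlgHom.commutes, show z (φ s) = w s from hzS s,
              show z (algebraMap R₀ R r) = x (algebraMap R₀ R r) from hzR r, mul_comm]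
            rfl
        | add p q hp hq =>
          obtain ⟨a, ha, ha'⟩ := hp
          obtain ⟨b, hb, hb'⟩ := hq
          exact ⟨a + b, by simp only [map_add, ha, hb], by simp only [map_add, ha', hb']⟩
      intro f hf
      obtain ⟨s, h1, h2⟩ := key f
      rw [RingHom.mem_ker] at hf ⊢
      show z f = 0
      rw [h2]
      exact RingHom.mem_ker.1 (hw (RingHom.mem_ker.2 (h1.symm.trans hf)))
    obtain ⟨g, hg⟩ := hx z hz
    refine ⟨g, ?_⟩
    rw [← actPt_comp φ hequiv g x, hg]
    exact AlgHom.ext hzS
  · intro hy z hz
    obtain ⟨g, hg⟩ := hy _ (inOrbitClosure_comp φ hequiv hz)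
    refine ⟨g, hext _ _ ((actPt_comp φ hequiv g x).trans hg) fun r => ?_⟩
    rw [hgx, invariants_eq_of_closure hz (hinv r)]

end Groth.Agent.S19412
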