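import Groth.Statements.S19418
import Groth.Agent.Zeta24.Semisimple
-- import your own Groth.Agent.* helpers here

set_option autoImplicit false
universe u v
open CategoryTheory AlgebraicGeometry
open WeilCoh

namespace Groth.Agent.S19418

/-- Key step, cohomological form: let H be a Weil cohomology theory with coefficients in a field K of
characteristic zero on nonsingular connected projective varieties over an algebraically closed field
k, X such a variety of dimension n, P = X × X with projections p, q and the swap automorphism σ (σ p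
= q, σ q = p); the identity dim P = 2n is carried as the arithmetic hypothesis hdim. A class u ∈
H^{2n}(P) acts as a degree-0 correspondence on each H^j(X), 0 ≤ j ≤ 2n, by β ↦ q_*(p^*(β) · u); call
u algebraic when it lies in the K-linear span of the classes of closed irreducible subsets of P, and
let A be the K-subalgebra of ∏_j End_K(H^j(X)) generated by the actions of the algebraic classes in
H^{2n}(P). If u is algebraic and ψ ∘ (action of u) is nilpotent for every ψ ∈ A — that is, the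
action of u lies in the Jacobson radical of the finite-dimensional algebra A — then u is numerically
trivial against algebraic classes: Tr_P(u · v) = 0 for every algebraic v ∈ H^{2n}(P). In the
published argument this is the step showing that the algebra of degree-0 algebraic correspondences
modulo numerical equivalence has zero Jacobson radical, hence is semisimple; it is stated here on
the cohomological side, with the algebra generated by the correspondence actions in place of the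
algebra of cycle classes. -/
theorem result (k : Type u) [Field k] [IsAlgClosed k]
    (K : Type v) [Field K] [CharZero K] (T : WeilCoh.Theory k K) (X P : WeilCoh.Var k)
    (p q : P ⟶ X) (hP : WeilCoh.IsProd p q) (σ : P ⟶ P) (hσp : σ ≫ p = q) (hσq : σ ≫ q = p)
    (hdim : ∀ j : ℤ, j + 2 * (WeilCoh.dim X.obj.left : ℤ) + 2 * (WeilCoh.dim X.obj.left : ℤ) - 2 * (WeilCoh.dim P.obj.left : ℤ) = j)
    (u : ↥(T.gr P (2 * (WeilCoh.dim X.obj.left : ℤ)))) (hu : (u : T.H P) ∈ Submodule.span K (Set.range (T.cl P)))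
    (hJ : ∀ ψ ∈ Algebra.adjoin K
          (Set.range (fun w : {w : ↥(T.gr P (2 * (WeilCoh.dim X.obj.left : ℤ))) // (w : T.H P) ∈ Submodule.span K (Set.range (T.cl P))} =>
            fun j : Fin (2 * WeilCoh.dim X.obj.left + 1) =>
              ((LinearEquiv.ofEq (T.gr X (((j : ℕ) : ℤ) + 2 * (WeilCoh.dim X.obj.left : ℤ) + 2 * (WeilCoh.dim X.obj.left : ℤ) - 2 * (WeilCoh.dim P.obj.left : ℤ))) (T.gr X ((j : ℕ) : ℤ)) (congrArg (T.gr X) (hdim ((j : ℕ) : ℤ)))).toLinearMap ∘ₗ
              ((T.push q (((j : ℕ) : ℤ) + 2 * (WeilCoh.dim X.obj.left : ℤ))) ∘ₗ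
                (((LinearMap.mulRight K (w.1 : T.H P)).restrict (p := T.gr P ((j : ℕ) : ℤ))
                    (q := T.gr P (((j : ℕ) : ℤ) + 2 * (WeilCoh.dim X.obj.left : ℤ))) (fun x hx => SetLike.mul_mem_graded hx w.1.2)) ∘ₗ
                  T.pullDeg p ((j : ℕ) : ℤ)))))),
        IsNilpotent (ψ * fun j : Fin (2 * WeilCoh.dim X.obj.left + 1) =>
          ((LinearEquiv.ofEq (T.gr X (((j : ℕ) : ℤ) + 2 * (WeilCoh.dim X.obj.left : ℤ) + 2 * (WeilCoh.dim X.obj.left : ℤ) - 2 * (WeilCoh.dim P.obj.left : ℤ))) (T.gr X ((j : ℕ) : ℤ)) (congrArg (T.gr X) (hdim ((j : ℕ) : ℤ)))).toLinearMap ∘ₗ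
              ((T.push q (((j : ℕ) : ℤ) + 2 * (WeilCoh.dim X.obj.left : ℤ))) ∘ₗ
                (((LinearMap.mulRight K (u : T.H P)).restrict (p := T.gr P ((j : ℕ) : ℤ))
                    (q := T.gr P (((j : ℕ) : ℤ) + 2 * (WeilCoh.dim X.obj.left : ℤ))) (fun x hx => SetLike.mul_mem_graded hx u.2)) ∘ₗ
                  T.pullDeg p ((j : ℕ) : ℤ))))))
    (v : ↥(T.gr P (2 * (WeilCoh.dim X.obj.left : ℤ)))) (hv : (v : T.H P) ∈ Submodule.span K (Set.range (T.cl P))) :
    T.tr P ((u : T.H P) * (v : T.H P)) = 0 := by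
  classical
  let n := WeilCoh.dim X.obj.left
  let act : {w : ↥(T.gr P (2 * (n : ℤ))) // (w : T.H P) ∈ Submodule.span K (Set.range (T.cl P))} →
      ∀ j : Fin (2 * n + 1), Module.End K (T.gr X ((j : ℕ) : ℤ)) := fun w j =>
    (LinearEquiv.ofEq (T.gr X (((j : ℕ) : ℤ) + 2 * (n : ℤ) + 2 * (n : ℤ) - 2 * (WeilCoh.dim P.obj.left : ℤ))) (T.gr X ((j : ℕ) : ℤ)) (congrArg (T.gr X) (hdim ((j : ℕ) : ℤ)))).toLinearMap ∘ₗ
      ((T.push q (((j : ℕ) : ℤ) + 2 * (n : ℤ))) ∘ₗ
        (((LinearMap.mulRight K (w.1 : T.H P)).restrict (p := T.gr P ((j : ℕ) : ℤ))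
            (q := T.gr P (((j : ℕ) : ℤ) + 2 * (n : ℤ))) (fun x hx => SetLike.mul_mem_graded hx w.1.2)) ∘ₗ
          T.pullDeg p ((j : ℕ) : ℤ)))
  let v' : {w : ↥(T.gr P (2 * (n : ℤ))) // (w : T.H P) ∈ Submodule.span K (Set.range (T.cl P))} :=
    ⟨⟨T.pull σ v, T.pull_mem σ _ _ v.2⟩, Groth.Agent.Zeta24.pull_swap_mem_algebraic T hP hσp hσq hv⟩
  have hnil : IsNilpotent (act v' * act ⟨u, hu⟩) := hJ (act v') (Algebra.subset_adjoin ⟨v', rfl⟩)
  have hval : ∀ w (j : Fin (2 * n + 1)) (x : T.gr X ((j : ℕ) : ℤ)) (c : T.H X),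
      T.tr X ((act w j x : T.H X) * c) = T.tr P (T.pull p (x : T.H X) * (w.1 : T.H P) * T.pull q c) := by
    intro w j x c
    exact (Groth.Agent.WC97.tr_push_mul T q (((j : ℕ) : ℤ) + 2 * (n : ℤ))
      ⟨T.pull p (x : T.H X) * (w.1 : T.H P), SetLike.mul_mem_graded (T.pull_mem p _ _ x.2) w.1.2⟩ c :)
  refine Groth.Agent.Zeta24.tr_mul_eq_zero_of_nilpotent T hP hσp hσq (u : T.H P) (v : T.H P) u.2 v.2
    (fun i => if h : i < 2 * n + 1 then (act v' * act ⟨u, hu⟩) ⟨i, h⟩ else 0) (fun i hi => ?_) fun i x => ?_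
  · have h : i < 2 * n + 1 := Nat.lt_succ_of_le hi
    simp only [dif_pos h]
    obtain ⟨m, hm⟩ := hnil
    exact ⟨m, by rw [← Pi.pow_apply, hm]; rfl⟩
  by_cases h : i < 2 * n + 1
  · refine ⟨(act ⟨u, hu⟩ ⟨i, h⟩ x : T.H X), (act ⟨u, hu⟩ ⟨i, h⟩ x).2, fun c => hval _ ⟨i, h⟩ x c, fun b => ?_⟩
    simp only [dif_pos h]
    exact hval v' ⟨i, h⟩ (act ⟨u, hu⟩ ⟨i, h⟩ x) b
  · have hv0 := T.vanish X i (Or.inr (by omega))
    have hx : (x : T.H X) = 0 := (Submodule.mem_bot K).1 (hv0.le x.2)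
    exact ⟨0, zero_mem _, fun c => by simp [hx], fun b => by rw [dif_neg h]; simp⟩

end Groth.Agent.S19418
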