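import Groth.Statements.S19419
import Groth.Agent.Cyc90.PullClosed
import Groth.Agent.Crv77.Basic

set_option autoImplicit false
universe u
open CategoryTheory CategoryTheory.Limits AlgebraicGeometry
open Cyc

namespace Groth.Agent.S19419

/-- Let X be a smooth proper integral curve over an algebraically closed field k, with generic point η,
and ψ : X → X a flat endomorphism over k. Let Y = X ×_k X with its two projections, m = ψ × id : Y →
Y (first projection intertwines ψ, second projection unchanged), d : X → Y the diagonal and g = (id,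
ψ) : X → Y the graph of ψ. For the dimension function δ on Y induced from weight 0 on Spec k, the
flat pull-back of cycles along m in relative dimension 0 takes the diagonal divisor [Δ], the cycle
equal to 1 at d(η) and 0 elsewhere, to the graph divisor [Γ_ψ], the cycle equal to 1 at g(η) and 0
elsewhere: (ψ × id)^*[Δ] = [Γ_ψ]. The published statement allows any endomorphism ψ and reads the
pull-back on divisors; flatness of ψ is what the flat pull-back of cycles requires (the intended
case is the Frobenius endomorphism), and iterating gives [Γ_{ψ^n}] = ((ψ × id)^*)^n [Δ]. -/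
theorem result (k : Type u) [Field k]
    [IsAlgClosed k] (X : Scheme.{u}) (f : X ⟶ Spec (CommRingCat.of k)) [Smooth f] [IsProper f]
    [IsIntegral X] (hdim : topologicalKrullDim ↥X = 1) (ψ : X ⟶ X) (hψ : ψ ≫ f = f) [Flat ψ]
    (m : pullback f f ⟶ pullback f f) (hm₁ : m ≫ pullback.fst f f = pullback.fst f f ≫ ψ)
    (hm₂ : m ≫ pullback.snd f f = pullback.snd f f) (g : X ⟶ pullback f f)
    (hg₁ : g ≫ pullback.fst f f = 𝟙 X) (hg₂ : g ≫ pullback.snd f f = ψ)
    (δ : ↥(pullback f f) → ℤ) (hδ : Cyc.DeltaCompat (pullback.fst f f ≫ f) δ (fun _ => 0)) :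
    Cyc.pullFun m δ δ 0
        (Set.indicator ({pullback.diagonal f (genericPoint ↥X)} : Set ↥(pullback f f)) (fun _ => (1 : ℤ))) =
      Set.indicator ({g (genericPoint ↥X)} : Set ↥(pullback f f)) (fun _ => (1 : ℤ)) := by
  set P := pullback.fst f f ≫ f with hP
  set G := g (genericPoint X) with hG
  set D := pullback.diagonal f (genericPoint X) with hD
  have hψη : ψ (genericPoint X) = genericPoint X := Cyc90.apply_genericPoint_of_flat ψ
  have : IsProper ψ := by
    have : IsProper (ψ ≫ f) := by rw [hψ]; infer_instance
    exact IsProper.of_comp ψ f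
  have hne : ∀ t : X, ψ t = genericPoint X → t = genericPoint X := by
    intro t ht
    by_contra hcon
    have h1 := ψ.isClosedMap _ (Crv77.isClosed_singleton hdim.le hcon)
    rw [Set.image_singleton, ht] at h1
    exact Cyc90.not_isClosed_generic hdim h1
  have hgψ : g ≫ m = ψ ≫ pullback.diagonal f := by
    ext <;> simp [hm₁, hm₂, reassoc_of% hg₁, hg₂]
  have hmG : m G = D := by
    change (g ≫ m) (genericPoint X) = _
    rw [hgψ]
    change pullback.diagonal f (ψ (genericPoint X)) = _
    rw [hψη]
  let a := pullback.fst m (pullback.diagonal f) ≫ pullback.fst f f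
  have hfac : pullback.fst m (pullback.diagonal f) = a ≫ g := by
    have e1 := congrArg (· ≫ pullback.fst f f) (pullback.condition (f := m) (g := pullback.diagonal f))
    have e2 := congrArg (· ≫ pullback.snd f f) (pullback.condition (f := m) (g := pullback.diagonal f))
    simp only [Category.assoc, hm₁, hm₂, pullback.diagonal_fst, pullback.diagonal_snd,
      Category.comp_id] at e1 e2
    ext
    · simp [a, hg₁]
    · simp [a, hg₂, e2, ← e1]
  have hpre : ∀ y, m y = D → y = G := by
    intro y hy
    obtain ⟨p, hp, hp2⟩ := Scheme.Pullback.exists_preimage_pullback y (genericPoint X) hy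
    have hyg : y = g (a p) := by rw [← hp]; exact congr($hfac p)
    rw [hyg]
    rw [hyg] at hy
    change (g ≫ m) (a p) = _ at hy
    rw [hgψ] at hy
    have h2 : ψ (a p) = genericPoint X :=
      (pullback.diagonal f).isClosedEmbedding.injective hy
    rw [hne _ h2]
  have hdel : δ G = δ D := by
    have hcl : ∀ s : X ⟶ pullback f f, IsClosedImmersion s → s ≫ P = f →
        Cyc.DeltaCompat f (fun x => δ (s x)) (fun _ => 0) := by
      intro s _ hs
      suffices h : Cyc.DeltaCompat (s ≫ P) (fun x => δ (s x)) (fun _ => 0) by rwa [hs] at h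
      intro x
      obtain ⟨n, hn, hd⟩ := hδ (s x)
      refine ⟨n, ?_, hd⟩
      letI a1 : Algebra ((Spec (CommRingCat.of k)).residueField ((s ≫ P) x))
          ((pullback f f).residueField (s x)) := (P.residueFieldMap (s x)).hom.toAlgebra
      letI a3 : Algebra ((Spec (CommRingCat.of k)).residueField ((s ≫ P) x)) (X.residueField x) :=
        ((s ≫ P).residueFieldMap x).hom.toAlgebra
      refine Eq.trans ?_ hn
      refine (AlgEquiv.trdeg_eq (AlgEquiv.ofBijective ⟨(s.residueFieldMap x).hom, fun c => ?_⟩
        ⟨RingHom.injective _, Cyc90.residueFieldMap_surjective s x⟩)).symm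
      exact (DFunLike.congr_fun
        (congrArg CommRingCat.Hom.hom (Scheme.residueFieldMap_comp s P x)) c).symm
    have : IsClosedImmersion g := by
      have : IsClosedImmersion (g ≫ pullback.fst f f) := by rw [hg₁]; infer_instance
      exact IsClosedImmersion.of_comp g (pullback.fst f f)
    obtain ⟨n₁, hn₁, hd₁⟩ := hcl g ‹_› (by simp [P, reassoc_of% hg₁]) (genericPoint X)
    obtain ⟨n₂, hn₂, hd₂⟩ := hcl (pullback.diagonal f) inferInstance (by simp [P]) (genericPoint X)
    have := Nat.cast_injective (R := Cardinal) (hn₁.symm.trans hn₂)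
    simp only [hG, hD] at *
    omega
  have hmax : (IsLocalRing.maximalIdeal ((pullback f f).presheaf.stalk (m G))).map (m.stalkMap G).hom =
      IsLocalRing.maximalIdeal ((pullback f f).presheaf.stalk G) := by
    refine le_antisymm
      (Ideal.map_le_iff_le_comap.2 (IsLocalRing.maximalIdeal_comap _).ge) ?_
    obtain ⟨p, hp, -⟩ := Scheme.Pullback.exists_preimage_pullback G (genericPoint X) hmG
    have key : ∀ (W : Scheme.{u}) (h : W ⟶ pullback f f) (a : W ⟶ X) (p : W), h = a ≫ g →
        a p = genericPoint X →
        IsLocalRing.maximalIdeal ((pullback f f).presheaf.stalk (h p)) ≤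
          RingHom.ker (h.stalkMap p).hom := by
      intro W h a p e ha x hx
      subst e
      have hfld : IsField (X.presheaf.stalk (a p)) := by
        rw [ha]; exact Field.toIsField X.functionField
      have hloc : (g.stalkMap (a p)).hom x ∈ IsLocalRing.maximalIdeal (X.presheaf.stalk (a p)) :=
        (Ideal.map_le_iff_le_comap.1 (Ideal.map_le_iff_le_comap.2
          (IsLocalRing.maximalIdeal_comap (g.stalkMap (a p)).hom).ge)) hx
      rw [(IsLocalRing.isField_iff_maximalIdeal_eq.1 hfld)] at hloc
      rw [RingHom.mem_ker, Scheme.Hom.stalkMap_comp]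
      change (a.stalkMap p).hom ((g.stalkMap (a p)).hom x) = 0
      rw [Ideal.mem_bot.1 hloc, map_zero]
    have hap : a p = genericPoint X := by
      change pullback.fst f f (pullback.fst m (pullback.diagonal f) p) = _
      rw [hp]
      exact congr($hg₁ (genericPoint X))
    have h3 := (key _ _ a p hfac hap).trans (Cyc90.ker_fst_stalkMap_le m (pullback.diagonal f) p)
    rw [hp] at h3
    exact h3
  funext y
  unfold Cyc.pullFun
  by_cases hy : y = G
  · subst hy
    rw [if_pos (by rw [hmG, add_zero, hdel]), hmax, Set.indicator_of_mem (show m G ∈ ({D} : Set _) from hmG),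
      Set.indicator_of_mem (Set.mem_singleton G)]
    have : Module.length ((pullback f f).presheaf.stalk G) ((pullback f f).presheaf.stalk G ⧸
        IsLocalRing.maximalIdeal ((pullback f f).presheaf.stalk G)) = 1 := by
      have := isSimpleModule_iff_quot_maximal (R := (pullback f f).presheaf.stalk G)
        (M := (pullback f f).presheaf.stalk G ⧸ IsLocalRing.maximalIdeal ((pullback f f).presheaf.stalk G)) |>.2
        ⟨_, inferInstance, ⟨LinearEquiv.refl _ _⟩⟩
      exact Module.length_eq_one _ _
    rw [this]
    simp
  · rw [Set.indicator_of_notMem (show y ∉ ({G} : Set _) from hy)]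
    have : m y ∉ ({D} : Set _) := fun h => hy (hpre y h)
    rw [Set.indicator_of_notMem this]
    simp

end Groth.Agent.S19419
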