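import Groth.Agent.GmAct99.Basic

universe u

open TensorProduct LaurentPolynomial

namespace Groth.Agent.S19422

theorem result (k : Type u) [Field k] [IsAlgClosed k]
    (ι : Type u) [Fintype ι] [HopfRep.Comod k k[T;T⁻¹] (MvPolynomial ι k)] [GLin.IsCoactAlg k k[T;T⁻¹] (MvPolynomial ι k)]
    (r : ι → ℤ)
    (hr : ∀ i : ι, HopfRep.Comod.coact (k := k) (A := k[T;T⁻¹]) (MvPolynomial.X i : MvPolynomial ι k) =
      (MvPolynomial.X i : MvPolynomial ι k) ⊗ₜ[k] (T (r i) : k[T;T⁻¹]))
    (v : ι → k) :
    GLin.IsSemistableVec k k[T;T⁻¹] v ↔ ∃ i j : ι, v i ≠ 0 ∧ v j ≠ 0 ∧ r i ≤ 0 ∧ 0 ≤ r j := by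
  classical
  constructor
  · intro h
    simp only [GLin.IsSemistableVec, GLin.IsNullform, not_forall] at h
    obtain ⟨F, hF, d, hd, hhom, hev⟩ := h
    obtain ⟨m, hm, hmv⟩ : ∃ m ∈ F.support, ∀ i, m i ≠ 0 → v i ≠ 0 := by
      by_contra hc
      simp only [not_exists, not_and, not_forall, not_not] at hc
      refine hev ?_
      rw [MvPolynomial.eval_eq]
      refine Finset.sum_eq_zero fun m hm => ?_
      obtain ⟨i, hi, hvi⟩ := hc m hm
      rw [Finset.prod_eq_zero (Finsupp.mem_support_iff.2 hi), mul_zero]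
      rw [hvi, zero_pow hi]
    have hw := GmAct99.weight_eq_zero_of_mem_invariants hr hF (MvPolynomial.mem_support_iff.1 hm)
    have hne : ∃ i, m i ≠ 0 := by
      by_contra hz
      simp only [not_exists, not_not] at hz
      have := hhom (MvPolynomial.mem_support_iff.1 hm)
      rw [show m = 0 from Finsupp.ext hz] at this
      simp at this
      omega
    obtain ⟨i0, hi0⟩ := hne
    have H1 : ∃ i, m i ≠ 0 ∧ r i ≤ 0 := by
      by_contra hc
      simp only [not_exists, not_and, not_le] at hc
      have : 0 < GmAct99.weight r m := by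
        refine Finset.sum_pos' (fun i _ => ?_) ⟨i0, Finset.mem_univ _, ?_⟩
        · rcases eq_or_ne (m i) 0 with h0 | h0
          · simp [h0]
          · exact mul_nonneg (by positivity) (hc i h0).le
        · exact mul_pos (by exact_mod_cast Nat.pos_of_ne_zero hi0) (hc i0 hi0)
      omega
    have H2 : ∃ i, m i ≠ 0 ∧ 0 ≤ r i := by
      by_contra hc
      simp only [not_exists, not_and, not_le] at hc
      have : GmAct99.weight r m < 0 := by
        refine Finset.sum_neg' (fun i _ => ?_) ⟨i0, Finset.mem_univ _, ?_⟩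
        · rcases eq_or_ne (m i) 0 with h0 | h0
          · simp [h0]
          · exact mul_nonpos_of_nonneg_of_nonpos (by positivity) (hc i h0).le
        · exact mul_neg_of_pos_of_neg (by exact_mod_cast Nat.pos_of_ne_zero hi0) (hc i0 hi0)
      omega
    obtain ⟨i, hi, hri⟩ := H1
    obtain ⟨j, hj, hrj⟩ := H2
    exact ⟨i, j, hmv i hi, hmv j hj, hri, hrj⟩
  · rintro ⟨i, j, hi, hj, hri, hrj⟩ hnull
    obtain ⟨m, hw, hd, hmv⟩ : ∃ m : ι →₀ ℕ, GmAct99.weight r m = 0 ∧ 0 < m.degree ∧
        ∀ l, m l ≠ 0 → v l ≠ 0 := by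
      have hwt : ∀ l (n : ℕ), GmAct99.weight r (Finsupp.single l n) = (n : ℤ) * r l := fun l n => by
        rw [GmAct99.weight, Finset.sum_eq_single l (fun b _ hb => by simp [Finsupp.single_eq_of_ne hb])
          (fun h => absurd (Finset.mem_univ l) h), Finsupp.single_eq_same]
      rcases hri.eq_or_lt with h0 | h0
      · refine ⟨Finsupp.single i 1, by rw [hwt, h0, mul_zero], by simp, fun l hl => ?_⟩
        rw [Finsupp.single_apply_ne_zero] at hl
        exact hl.1 ▸ hi
      rcases hrj.eq_or_lt with h1 | h1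
      · refine ⟨Finsupp.single j 1, by rw [hwt, ← h1, mul_zero], by simp, fun l hl => ?_⟩
        rw [Finsupp.single_apply_ne_zero] at hl
        exact hl.1 ▸ hj
      refine ⟨Finsupp.single i (r j).toNat + Finsupp.single j (-r i).toNat, ?_, ?_, fun l hl => ?_⟩
      · have : ∀ a b : ι →₀ ℕ, GmAct99.weight r (a + b) = GmAct99.weight r a + GmAct99.weight r b :=
          fun a b => by simp [GmAct99.weight, add_mul, Finset.sum_add_distrib]
        rw [this, hwt, hwt, Int.toNat_of_nonneg h1.le, Int.toNat_of_nonneg (by omega)]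
        ring
      · rw [map_add, Finsupp.degree_single, Finsupp.degree_single]; omega
      · by_contra hv
        apply hl
        have e1 : l ≠ i := fun e => hi (e ▸ hv)
        have e2 : l ≠ j := fun e => hj (e ▸ hv)
        rw [Finsupp.add_apply, Finsupp.single_eq_of_ne e1, Finsupp.single_eq_of_ne e2, add_zero]
    have := hnull _ (GmAct99.monomial_mem_invariants hr hw (1 : k)) m.degree hd
      (MvPolynomial.isHomogeneous_monomial _ rfl)
    rw [MvPolynomial.eval_monomial, one_mul] at this
    exact Finset.prod_ne_zero_iff.2 (fun l hl => pow_ne_zero _ (hmv l (Finsupp.mem_support_iff.1 hl))) this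

end Groth.Agent.S19422
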