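import Groth.Agent.GmAct99.Basic

universe u

open TensorProduct LaurentPolynomial

namespace Groth.Agent.S19423

theorem not_finite_laurent (k : Type u) [Field k] : ¬ Module.Finite k k[T;T⁻¹] := by
  intro h
  have : Module.Finite k (Polynomial k) :=
    Module.Finite.of_injective (Polynomial.toLaurentAlg (R := k)).toLinearMap Polynomial.toLaurent_injective
  exact Polynomial.not_finite this

theorem result (k : Type u) [Field k] [IsAlgClosed k]
    (ι : Type u) [Fintype ι] [HopfRep.Comod k k[T;T⁻¹] (MvPolynomial ι k)] [GLin.IsCoactAlg k k[T;T⁻¹] (MvPolynomial ι k)]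
    (r : ι → ℤ)
    (hr : ∀ i : ι, HopfRep.Comod.coact (k := k) (A := k[T;T⁻¹]) (MvPolynomial.X i : MvPolynomial ι k) =
      (MvPolynomial.X i : MvPolynomial ι k) ⊗ₜ[k] (T (r i) : k[T;T⁻¹]))
    (v : ι → k) :
    GLin.IsStableVec k k[T;T⁻¹] v ↔ ∃ i j : ι, v i ≠ 0 ∧ v j ≠ 0 ∧ r i < 0 ∧ 0 < r j := by
  classical
  set x := GLin.vecPt k ι v
  set φ := GLin.orbitHom k k[T;T⁻¹] x with hφ
  have hX : ∀ i, φ (MvPolynomial.X i) = C (v i) * T (r i) := GmAct99.orbitHom_X hr v
  constructor
  · rintro ⟨hclosed, hfin⟩
    by_contra hc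
    -- a sign `ε` such that all weights of `v` are `≥ 0` after multiplying by it
    obtain ⟨ε, hε, hpos⟩ : ∃ ε : ℤ, (ε = 1 ∨ ε = -1) ∧ ∀ i, v i ≠ 0 → 0 ≤ ε * r i := by
      by_cases h : ∀ i, v i ≠ 0 → 0 ≤ r i
      · exact ⟨1, .inl rfl, fun i hi => by rw [one_mul]; exact h i hi⟩
      · simp only [not_forall, not_le] at h
        obtain ⟨i, hi, hri⟩ := h
        refine ⟨-1, .inr rfl, fun j hj => ?_⟩
        by_contra hj'
        exact hc ⟨i, j, hi, hj, hri, by omega⟩
    by_cases hz : ∀ i, v i ≠ 0 → r i = 0
    · have hcomp : φ = (Algebra.ofId k k[T;T⁻¹]).comp x := by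
        apply MvPolynomial.algHom_ext
        intro i
        rw [hX, AlgHom.comp_apply, show x (MvPolynomial.X i) = v i from MvPolynomial.aeval_X _ i]
        rcases eq_or_ne (v i) 0 with h | h
        · simp [h]
        · rw [hz i h, T_zero, mul_one]; rfl
      have hI : GLin.stabIdeal k k[T;T⁻¹] x = ⊥ := by
        rw [GLin.stabIdeal, Ideal.map_eq_bot_iff_le_ker]
        intro f hf
        rw [RingHom.mem_ker] at hf ⊢
        change φ f = 0
        rw [hcomp, AlgHom.comp_apply, hf, map_zero]
      unfold GLin.HasFiniteStab at hfin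
      rw [hI] at hfin
      exact not_finite_laurent k
        (Module.Finite.equiv (AlgEquiv.quotientBot k k[T;T⁻¹]).toLinearEquiv)
    simp only [not_forall] at hz
    obtain ⟨i0, hi0, hri0⟩ := hz
    let y : ι → k := fun i => if r i = 0 then v i else 0
    let ρ : MvPolynomial ι k →ₐ[k] Polynomial k :=
      MvPolynomial.aeval fun i => Polynomial.C (v i) * Polynomial.X ^ (ε * r i).toNat
    -- `ρ` is the orbit in the coordinate `T ^ ε`
    let j : Polynomial k →ₐ[k] k[T;T⁻¹] := Polynomial.aeval (T ε)
    have hρ : j.comp ρ = φ := by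
      apply MvPolynomial.algHom_ext
      intro i
      rw [hX, AlgHom.comp_apply]
      simp only [ρ, j, MvPolynomial.aeval_X, map_mul, map_pow, Polynomial.aeval_C, Polynomial.aeval_X,
        LaurentPolynomial.algebraMap_apply, T_pow]
      rcases eq_or_ne (v i) 0 with h | h
      · simp [h]
      · rw [Int.toNat_of_nonneg (hpos i h)]
        have : ε * r i * ε = r i := by rcases hε with rfl | rfl <;> ring
        rw [this]
        rfl
    have hy : (Polynomial.aeval (0 : k)).comp ρ = GLin.vecPt k ι y := by
      apply MvPolynomial.algHom_ext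
      intro i
      simp only [AlgHom.comp_apply, ρ, MvPolynomial.aeval_X, map_mul, map_pow, Polynomial.aeval_C,
        Polynomial.aeval_X, y, Algebra.algebraMap_self, RingHom.id_apply]
      rcases eq_or_ne (v i) 0 with h | h
      · simp [h]
      · have := hpos i h
        split_ifs with h0
        · simp [h0]
        · have hne : ε * r i ≠ 0 := mul_ne_zero (by rcases hε with rfl | rfl <;> decide) h0
          rw [zero_pow (by omega), mul_zero]
    let P : PrimeSpectrum (MvPolynomial ι k) :=
      ⟨RingHom.ker (GLin.vecPt k ι y), RingHom.ker_isPrime _⟩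
    have hker : RingHom.ker φ ≤ RingHom.ker (GLin.vecPt k ι y) := by
      intro f hf
      rw [RingHom.mem_ker] at hf ⊢
      rw [← hρ, AlgHom.comp_apply] at hf
      have hinj : Function.Injective j := by
        rcases hε with rfl | rfl
        · have : j = Polynomial.toLaurentAlg := Polynomial.algHom_ext (by simp [j])
          rw [this]
          exact Polynomial.toLaurent_injective
        · have : j = (LaurentPolynomial.invert (R := k)).toAlgHom.comp Polynomial.toLaurentAlg :=
            Polynomial.algHom_ext (by simp [j])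
          rw [this]
          exact (LaurentPolynomial.invert (R := k)).injective.comp Polynomial.toLaurent_injective
      rw [← hy, AlgHom.comp_apply, (map_eq_zero_iff j hinj).1 hf, map_zero]
    have hmem : P ∈ Set.range (PrimeSpectrum.comap φ.toRingHom) := by
      rw [← hclosed.closure_eq]
      change P ∈ closure (Set.range (PrimeSpectrum.comap φ.toRingHom))
      rw [PrimeSpectrum.closure_range_comap]
      exact hker
    obtain ⟨Q, hQ⟩ := hmem
    have h1 : φ (MvPolynomial.X i0) ∈ Q.asIdeal := by
      have : MvPolynomial.X i0 ∈ P.asIdeal := by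
        change GLin.vecPt k ι y (MvPolynomial.X i0) = 0
        rw [MvPolynomial.aeval_X]
        exact if_neg hri0
      rw [← hQ] at this
      exact this
    rw [hX] at h1
    exact Q.isPrime.ne_top (Ideal.eq_top_of_isUnit_mem _ h1
      (((Ne.isUnit hi0).map (C (R := k))).mul (isUnit_T _)))
  · rintro ⟨i, j, hi, hj, hri, hrj⟩
    have hmem : ∀ l, v l ≠ 0 → T (r l) ∈ φ.range := fun l hl =>
      φ.mem_range.2 ⟨(v l)⁻¹ • MvPolynomial.X l, by
        rw [map_smul, hX, Algebra.smul_def,
          LaurentPolynomial.algebraMap_apply, ← mul_assoc, Algebra.algebraMap_self, RingHom.id_apply,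
          ← map_mul, inv_mul_cancel₀ hl, map_one, one_mul]⟩
    letI : Algebra (MvPolynomial ι k) k[T;T⁻¹] := φ.toRingHom.toAlgebra
    have hint : ∀ (n : ℕ) (z : k[T;T⁻¹]), 0 < n → z ^ n ∈ φ.range → IsIntegral (MvPolynomial ι k) z := by
      rintro n z hn ⟨f, hf⟩
      exact IsIntegral.of_pow hn (hf ▸ isIntegral_algebraMap)
    have hT1 : IsIntegral (MvPolynomial ι k) (T 1 : k[T;T⁻¹]) := by
      refine hint (r j).toNat _ (by omega) ?_
      rw [T_pow, mul_one, Int.toNat_of_nonneg hrj.le]
      exact hmem j hj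
    have hTn : IsIntegral (MvPolynomial ι k) (T (-1) : k[T;T⁻¹]) := by
      refine hint (-r i).toNat _ (by omega) ?_
      rw [T_pow, Int.toNat_of_nonneg (by omega), neg_mul_neg, mul_one]
      exact hmem i hi
    have hI : Algebra.IsIntegral (MvPolynomial ι k) k[T;T⁻¹] := by
      refine ⟨fun z => ?_⟩
      induction z using LaurentPolynomial.induction_on with
      | h_C a =>
        have : (C a : k[T;T⁻¹]) = φ (algebraMap k _ a) := by
          rw [AlgHom.commutes, LaurentPolynomial.algebraMap_apply]; rfl
        rw [this]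
        exact isIntegral_algebraMap (R := MvPolynomial ι k)
      | h_add h h' => exact IsIntegral.add h h'
      | h_C_mul_T n a h =>
        rw [show (C a * T ((n : ℤ) + 1) : k[T;T⁻¹]) = C a * T n * T 1 by rw [mul_assoc, ← T_add]]
        exact IsIntegral.mul h hT1
      | h_C_mul_T_Z n a h =>
        rw [show (C a * T (-(n : ℤ) - 1) : k[T;T⁻¹]) = C a * T (-(n:ℤ)) * T (-1) by
          rw [mul_assoc, ← T_add]; rfl]
        exact IsIntegral.mul h hTn
    refine ⟨(PrimeSpectrum.isClosedMap_comap_of_isIntegral φ.toRingHom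
      (fun z => hI.isIntegral z)).isClosed_range, ?_⟩
    unfold GLin.HasFiniteStab
    have : Algebra.FiniteType k k[T;T⁻¹] := inferInstance
    have hfinR : Module.Finite (MvPolynomial ι k) k[T;T⁻¹] := by
      have : IsScalarTower k (MvPolynomial ι k) k[T;T⁻¹] := IsScalarTower.of_algHom φ
      have : Algebra.FiniteType (MvPolynomial ι k) k[T;T⁻¹] :=
        Algebra.FiniteType.of_restrictScalars_finiteType k _ _
      exact Algebra.IsIntegral.finite
    obtain ⟨s, hs⟩ := hfinR
    refine ⟨s.image (Ideal.Quotient.mk (GLin.stabIdeal k k[T;T⁻¹] x)), eq_top_iff.2 ?_⟩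
    rintro q -
    obtain ⟨z, rfl⟩ := Ideal.Quotient.mk_surjective q
    have hz : z ∈ Submodule.span (MvPolynomial ι k) (↑s : Set k[T;T⁻¹]) := hs ▸ Submodule.mem_top
    induction hz using Submodule.span_induction with
    | mem w hw => exact Submodule.subset_span (by simpa using ⟨w, hw, rfl⟩)
    | zero => rw [map_zero]; exact zero_mem _
    | add a b _ _ ha hb => rw [map_add]; exact add_mem ha hb
    | smul f a _ ha =>
      have : Ideal.Quotient.mk (GLin.stabIdeal k k[T;T⁻¹] x) (f • a) =
          x f • Ideal.Quotient.mk (GLin.stabIdeal k k[T;T⁻¹] x) a := by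
        rw [← Ideal.Quotient.mkₐ_eq_mk k, ← map_smul, Ideal.Quotient.mkₐ_eq_mk, Ideal.Quotient.eq]
        have he : f • a - x f • a = φ (f - algebraMap k _ (x f)) * a := by
          rw [map_sub, AlgHom.commutes, sub_mul, ← Algebra.smul_def (x f) a]
          rfl
        rw [he]
        refine Ideal.mul_mem_right _ _ (Ideal.mem_map_of_mem _ ?_)
        rw [RingHom.mem_ker, map_sub, AlgHom.commutes]
        simp
      rw [this]
      exact Submodule.smul_mem _ _ ha

end Groth.Agent.S19423
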