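import Groth.Prelude.Def_W4c6nonredquotmfGoodQuot
import Groth.Prelude.Def_W4bk4git07Quot
import Groth.Prelude.Def_AlgGrp
import Mathlib.AlgebraicGeometry.Morphisms.Affine
import Mathlib.AlgebraicGeometry.Morphisms.FiniteType
import Mathlib.FieldTheory.IsAlgClosed.Basic
import Mathlib.Topology.Maps.Basic
import Mathlib.CategoryTheory.Monoidal.Cartesian.Over
import Mathlib.CategoryTheory.Monoidal.Cartesian.Grp
import Groth.Agent.GoodQuot99.Restrict
-- import your own Groth.Agent.* helpers here

set_option autoImplicit false
universe u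
open CategoryTheory MonoidalCategory CartesianMonoidalCategory MonObj AlgebraicGeometry Topology
open NRQuot

namespace Groth.Agent.S19425

/-- Let k be an algebraically closed field, G an affine group scheme of finite type over k acting on a
k-scheme X locally of finite type, φ : X → Y a good quotient (affine and invariant, functions on
every open of Y are exactly the invariant functions on its preimage, invariant closed subsets have
closed images, and images commute with intersections of families of invariant closed subsets), and U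
an open subset of Y. Equip the open subscheme φ⁻¹(U) of X with the restricted action, given here as
an action compatible with the inclusion into X, and let φ_U : φ⁻¹(U) → U be the restriction of φ.
Then φ_U is a good quotient for the restricted action. -/
theorem result
    (k : Type u) [Field k] [IsAlgClosed k]
    (G X Y : Over (Spec (CommRingCat.of k))) [GrpObj G] [IsAffine G.left] [LocallyOfFiniteType G.hom]
    [LocallyOfFiniteType X.hom]
    (a : AlgGrp.Action G X) (φ : X ⟶ Y) (h : NRQuot.IsGoodQuot a φ)
    (U : Y.left.Opens)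
    (aU : AlgGrp.Action G (Over.mk ((φ.left ⁻¹ᵁ U).ι ≫ X.hom)))
    (jU : Over.mk ((φ.left ⁻¹ᵁ U).ι ≫ X.hom) ⟶ X) (hjU : jU.left = (φ.left ⁻¹ᵁ U).ι)
    (haU : aU.act ≫ jU = (G ◁ jU) ≫ a.act)
    (φU : Over.mk ((φ.left ⁻¹ᵁ U).ι ≫ X.hom) ⟶ Over.mk (U.ι ≫ Y.hom))
    (hφU : φU.left ≫ U.ι = (φ.left ⁻¹ᵁ U).ι ≫ φ.left) :
    NRQuot.IsGoodQuot aU φU := by
  haveI : IsOpenImmersion jU.left := by rw [hjU]; infer_instance
  let u : Over.mk (U.ι ≫ Y.hom) ⟶ Y := Over.homMk U.ι rfl
  haveI : IsOpenImmersion u.left := inferInstanceAs (IsOpenImmersion U.ι)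
  refine Groth.Agent.GoodQuot99.isGoodQuot_of_open h aU φU jU u haU ?_ ?_ ?_
  · apply Over.OverMorphism.ext
    simp only [Over.comp_left, hjU]
    exact hφU
  · rw [hjU]
    show Set.range (φ.left ⁻¹ᵁ U).ι.base = φ.left.base ⁻¹' Set.range U.ι.base
    rw [Scheme.Opens.range_ι, Scheme.Opens.range_ι]
    rfl
  · have e : φU.left = φ.left ∣_ U := by
      rw [← cancel_mono U.ι]
      exact hφU.trans (morphismRestrict_ι φ.left U).symm
    rw [e]
    haveI := h.affine
    exact MorphismProperty.of_isPullback (P := @IsAffineHom)
      (isPullback_morphismRestrict φ.left U).flip h.affine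

end Groth.Agent.S19425
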