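import Groth.Statements.S19427
import Groth.Agent.MilK95.Basic

set_option autoImplicit false
universe u
open MilnorK

namespace Groth.Agent.S19427

/-- For a field F and nonzero b, c with b + c ≠ 0, in the Milnor K-group K_2(F) one has {b, c} + {b + c,
-b/c} = 0, that is {b, c} = -{b + c, -b/c} = {b + c, -c/b}. (The identity as displayed in the source
is {b, c} = {b + c, -b/c}, which differs from this by a sign and fails in general: for b = 3, c = 5
over the rationals the tame symbol at 5 takes the values 3 and 1/3 on the two sides; the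
accompanying derivation from the Steinberg relation b/(b+c) + c/(b+c) = 1 gives exactly the identity
stated here.) -/
theorem result (F : Type u) [Field F] (b c : Fˣ)
    (h : (b : F) + (c : F) ≠ 0) :
    (MilK.symbol ![b, c] : MilK.K F 2) + MilK.symbol ![Units.mk0 ((b : F) + (c : F)) h, -(b / c)] = 0 := by
  set s := Units.mk0 ((b : F) + (c : F)) h with hs
  have e : ∀ (x : Fˣ) (y : Fˣ), (MilK.symbol ![x, y] : MilK.K F 2) =
      Groth.Agent.MilK95.sc x (MilK.symbol ![y]) := fun x y => by
    rw [Groth.Agent.MilK95.sc_symbol]; rfl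
  have hst : (MilK.symbol ![b * s⁻¹, c * s⁻¹] : MilK.K F 2) = 0 := by
    refine Groth.Agent.MilK95.symbol_steinberg _ (i := 0) (j := 1) (by decide) ?_
    have hsv : (s : F) = (b : F) + c := rfl
    simp only [Matrix.cons_val_zero, Matrix.cons_val_one, Units.val_mul, Units.val_inv_eq_inv_val]
    rw [← add_mul, ← hsv, mul_inv_cancel₀ s.ne_zero]
  have h1 : ∀ x y z : Fˣ, (MilK.symbol ![x, y * z] : MilK.K F 2) = MilK.symbol ![x, y] + MilK.symbol ![x, z] := by
    intro x y z
    have := Groth.Agent.MilK95.symbol_update_mul (![x, 1] : Fin 2 → Fˣ) 1 y z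
    simpa [show ∀ w, Function.update (![x, 1] : Fin 2 → Fˣ) 1 w = ![x, w] from fun w => by
      funext i; fin_cases i <;> simp] using this
  have h2 : ∀ x y z : Fˣ, (MilK.symbol ![x * y, z] : MilK.K F 2) = MilK.symbol ![x, z] + MilK.symbol ![y, z] := by
    intro x y z; rw [e, e, e, Groth.Agent.MilK95.sc_mul_apply]
  have hanti : ∀ x y : Fˣ, (MilK.symbol ![x, y] : MilK.K F 2) = -MilK.symbol ![y, x] := by
    intro x y
    have := Groth.Agent.MilK95.symbol_comp_swap (![y, x] : Fin 2 → Fˣ) (i := 0) (j := 1) (by decide)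
    rw [show (![y, x] : Fin 2 → Fˣ) ∘ Equiv.swap 0 1 = ![x, y] from by funext i; fin_cases i <;> simp] at this
    exact this
  have hinv1 : ∀ x y : Fˣ, (MilK.symbol ![x⁻¹, y] : MilK.K F 2) = -MilK.symbol ![x, y] := by
    intro x y; rw [e, e, Groth.Agent.MilK95.sc_inv]
  have hinv2 : ∀ x y : Fˣ, (MilK.symbol ![x, y⁻¹] : MilK.K F 2) = -MilK.symbol ![x, y] := by
    intro x y; rw [hanti x, hinv1, hanti x y]
  have hself : (MilK.symbol ![s, s] : MilK.K F 2) = MilK.symbol ![s, -1] := by
    rw [e, e]
    have h0 := Groth.Agent.MilK95.sc_sc_self (n := 0) s (MilK.symbol (Fin.elim0 : Fin 0 → Fˣ))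
    simp only [Groth.Agent.MilK95.sc_symbol] at h0
    simp only [Groth.Agent.MilK95.sc_symbol]
    convert h0 using 3 <;> (funext i; fin_cases i <;> rfl)
  have hr : -(b / c) = (-1) * (b * c⁻¹) := by rw [neg_one_mul, div_eq_mul_inv]
  rw [h2, h1, h1] at hst
  simp only [hinv1, hinv2, neg_neg] at hst
  rw [hr, h1, h1, hinv2, ← hself]
  rw [hanti b s] at hst
  linear_combination (norm := abel) hst

end Groth.Agent.S19427
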