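import Groth.Statements.S19434
import Groth.Agent.CI16.Hypersurface

set_option autoImplicit false
universe u
open Coherent

namespace Groth.Agent.S19434

open Groth.Agent Var76 Var76.Reg Crv77

open CategoryTheory CategoryTheory.Limits AlgebraicGeometry in
/-- Let F be a field, d ≥ 1, k ≥ 1, P = P^{d+1}_F, and X ⊆ P a hypersurface of degree k: a closed
subscheme (ideal sheaf I) whose ideal sheaf is isomorphic, as an O_P-module, to O_P(-k) —
equivalently X is cut out by one nonzero form q of degree k, with homogeneous coordinate ring A =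
F[x_0, …, x_{d+1}]/(q), whose degree-m piece has dimension a(m) = C(m+d+1, d+1) - C(m-k+d+1, d+1) (a
binomial coefficient with a negative upper entry read as 0). For an integer n let O_X(n) denote the
O_P-module O_X ⊗ O_P(n). Then H^p(P, O_X(n)) vanishes for every p different from 0 and d, H^0(P,
O_X(n)) is a finite-dimensional F-vector space of dimension a(n), and H^d(P, O_X(n)) is
finite-dimensional of dimension a(k-2-d-n). Only the vanishing, the finiteness and the dimensions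
are stated here; the identifications of H^0(P, O_X(n)) with A_n and of H^d(P, O_X(n)) with the dual
of A_{k-2-d-n} are not. -/
theorem result (F : Type u) [Field F] (d k : ℕ)
    (hd : 1 ≤ d) (hk : 1 ≤ k) (I : (CohB1.ProjSpace (d + 1) F).IdealSheafData)
    (hI : Nonempty (ClSub.idealMod I ≅ Twist.twistProjSpace (d + 1) F (-(k : ℤ)))) (n : ℤ) :
    (∀ p : ℕ, p ≠ 0 → p ≠ d →
      Subsingleton (Coh.HH (CohB1.ProjSpace (d + 1) F)
        (CohB1.tensorMod (ClSub.quotMod I) (Twist.twistProjSpace (d + 1) F n)) p)) ∧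
    (Module.Finite F (Coh.HH (CohB1.ProjSpace (d + 1) F)
        (CohB1.tensorMod (ClSub.quotMod I) (Twist.twistProjSpace (d + 1) F n)) 0) ∧
      Module.finrank F (Coh.HH (CohB1.ProjSpace (d + 1) F)
        (CohB1.tensorMod (ClSub.quotMod I) (Twist.twistProjSpace (d + 1) F n)) 0) =
        (Nat.choose (n + ((d : ℤ) + 1)).toNat (d + 1) - Nat.choose (n - (k : ℤ) + ((d : ℤ) + 1)).toNat (d + 1))) ∧
    (Module.Finite F (Coh.HH (CohB1.ProjSpace (d + 1) F)
        (CohB1.tensorMod (ClSub.quotMod I) (Twist.twistProjSpace (d + 1) F n)) d) ∧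
      Module.finrank F (Coh.HH (CohB1.ProjSpace (d + 1) F)
        (CohB1.tensorMod (ClSub.quotMod I) (Twist.twistProjSpace (d + 1) F n)) d) =
        (Nat.choose (((k : ℤ) - 2 - (d : ℤ) - n) + ((d : ℤ) + 1)).toNat (d + 1) - Nat.choose (((k : ℤ) - 2 - (d : ℤ) - n) - (k : ℤ) + ((d : ℤ) + 1)).toNat (d + 1))) := by
  obtain ⟨S, hS, ⟨e₁⟩, ⟨e₂⟩, e₃⟩ := CI16.exists_seq I (-(k : ℤ)) hI n
  have hsub : ∀ (m : ℤ) (q : ℕ), 0 < q → q ≠ (d + 1) → Subsingleton (Coh.HH (CohB1.ProjSpace (d + 1) F) (Twist.twistProjSpace (d + 1) F m) q) :=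
    fun m q hq hq' => Pn71.subsingleton_hh (d + 1) F m q (by omega) (by omega)
  have f₁ : ∀ q, Module.finrank F (Coh.HH (CohB1.ProjSpace (d + 1) F) S.X₁ q) =
      Module.finrank F (Coh.HH (CohB1.ProjSpace (d + 1) F) (Twist.twistProjSpace (d + 1) F (-(k : ℤ) + n)) q) := fun q => (hEquiv F e₁ q).finrank_eq
  have f₂ : ∀ q, Module.finrank F (Coh.HH (CohB1.ProjSpace (d + 1) F) S.X₂ q) =
      Module.finrank F (Coh.HH (CohB1.ProjSpace (d + 1) F) (Twist.twistProjSpace (d + 1) F n) q) := fun q => (hEquiv F e₂ q).finrank_eq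
  have s₁ : ∀ q, 0 < q → q ≠ (d + 1) → Subsingleton (Coh.HH (CohB1.ProjSpace (d + 1) F) S.X₁ q) := fun q hq hq' =>
    have := hsub (-(k : ℤ) + n) q hq hq'
    (hEquiv F e₁ q).toEquiv.subsingleton
  have s₂ : ∀ q, 0 < q → q ≠ (d + 1) → Subsingleton (Coh.HH (CohB1.ProjSpace (d + 1) F) S.X₂ q) := fun q hq hq' =>
    have := hsub n q hq hq'
    (hEquiv F e₂ q).toEquiv.subsingleton
  have fin₁ : ∀ q, Module.Finite F (Coh.HH (CohB1.ProjSpace (d + 1) F) S.X₁ q) := fun q =>
    have := CI16.finite_hh_twist (k := F) (N := (d + 1)) (-(k : ℤ) + n) q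
    Module.Finite.equiv (hEquiv F e₁ q).symm
  have fin₂ : ∀ q, Module.Finite F (Coh.HH (CohB1.ProjSpace (d + 1) F) S.X₂ q) := fun q =>
    have := CI16.finite_hh_twist (k := F) (N := (d + 1)) n q
    Module.Finite.equiv (hEquiv F e₂ q).symm
  have hHtop := CI16.subsingleton_hh_quot_top (N := (d + 1)) (by omega) I (-(k : ℤ)) hI n
  have hS₃ : ∀ q, (d + 1) ≤ q → Subsingleton (Coh.HH (CohB1.ProjSpace (d + 1) F) S.X₃ q) := e₃ ▸ hHtop
  refine ⟨fun p hp0 hpd => ?_, ?_⟩
  · rcases lt_or_ge p (d + 1) with h | h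
    · change Subsingleton (Coh.HH (CohB1.ProjSpace (d + 1) F) (tw (d + 1) F (ClSub.quotMod I) n) p)
      rw [← e₃]
      exact ValVan29.subsingleton_hh_X₃ hS p (s₂ p (by omega) (by omega)) (s₁ (p + 1) (by omega) (by omega))
    · exact hHtop p h
  change (Module.Finite F (Coh.HH (CohB1.ProjSpace (d + 1) F) (tw (d + 1) F (ClSub.quotMod I) n) 0) ∧
      Module.finrank F (Coh.HH (CohB1.ProjSpace (d + 1) F) (tw (d + 1) F (ClSub.quotMod I) n) 0) = _) ∧
    (Module.Finite F (Coh.HH (CohB1.ProjSpace (d + 1) F) (tw (d + 1) F (ClSub.quotMod I) n) d) ∧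
      Module.finrank F (Coh.HH (CohB1.ProjSpace (d + 1) F) (tw (d + 1) F (ClSub.quotMod I) n) d) = _)
  rw [← e₃]
  have hg : Function.Surjective (hmap F S.g 0) := fun z =>
    (exact_g_δ F hS 0 z).1 ((s₁ 1 (by omega) (by omega)).elim _ _)
  refine ⟨⟨Module.Finite.of_surjective _ hg, ?_⟩, ?_⟩
  · have h := CI16.finrank_mid 0 (injective_f_zero F hS) hg (exact_f_g F hS 0)
    rw [f₁, f₂, CI16.finrank_hh_zero (by omega), CI16.finrank_hh_zero (by omega)] at h
    rw [show (n + ((d : ℤ) + 1)).toNat = (n + ((d + 1 : ℕ) : ℤ)).toNat by push_cast; rfl,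
      show (n - (k : ℤ) + ((d : ℤ) + 1)).toNat = (-(k : ℤ) + n + ((d + 1 : ℕ) : ℤ)).toNat by push_cast; congr 1; ring]
    omega
  have hδi : Function.Injective (hδ F hS d) := by
    refine (injective_iff_map_eq_zero _).2 fun z hz => ?_
    obtain ⟨y, rfl⟩ := (exact_g_δ F hS d z).1 hz
    rw [(s₂ d (by omega) (by omega)).elim y 0, map_zero]
  have hfs : Function.Surjective (hmap F S.f (d + 1)) := fun z =>
    (exact_f_g F hS (d + 1) z).1 (by
      have := hS₃ (d + 1) le_rfl
      exact Subsingleton.elim _ _)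
  refine ⟨Module.Finite.of_injective _ hδi, ?_⟩
  have h := LinearMap.finrank_range_add_finrank_ker (hmap F S.f (d + 1))
  rw [LinearMap.range_eq_top.2 hfs, finrank_top, LinearMap.exact_iff.1 (exact_δ_f F hS d),
    LinearMap.finrank_range_of_inj hδi, f₁, f₂, CI16.finrank_hh_top (by omega),
    CI16.finrank_hh_top (by omega)] at h
  rw [show ((k : ℤ) - 2 - (d : ℤ) - n + ((d : ℤ) + 1)).toNat = (-(-(k : ℤ) + n) - 1).toNat by congr 1; ring,
    show ((k : ℤ) - 2 - (d : ℤ) - n - (k : ℤ) + ((d : ℤ) + 1)).toNat = (-n - 1).toNat by congr 1; ring]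
  omega

end Groth.Agent.S19434
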