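import Groth.Statements.S19435
import Groth.Agent.CI16.Hypersurface

set_option autoImplicit false
universe u
open Coherent

namespace Groth.Agent.S19435

open Groth.Agent Var76 Var76.Reg Crv77

open CategoryTheory CategoryTheory.Limits AlgebraicGeometry in
/-- The case d = 0. Let F be a field, k ≥ 1, P = P^1_F and X ⊆ P a hypersurface of degree k: a closed
subscheme (ideal sheaf I) whose ideal sheaf is isomorphic as an O_P-module to O_P(-k), with
coordinate ring A = F[x_0, x_1]/(q) whose degree-m piece has dimension a(m) = C(m+1, 1) - C(m-k+1,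
1) (negative upper entries read as 0); O_X(n) = O_X ⊗ O_P(n) as an O_P-module. Then H^0(P, O_X(n))
is finite-dimensional of dimension a(n) + a(k-2-n), that of an extension of the dual of the
degree-(k-2-n) piece of A by the degree-n piece (the exact sequence itself is not stated here); and
H^p(P, O_X(n)) vanishes for every p ≥ 1. -/
theorem result (F : Type u) [Field F] (k : ℕ)
    (hk : 1 ≤ k) (I : (CohB1.ProjSpace 1 F).IdealSheafData)
    (hI : Nonempty (ClSub.idealMod I ≅ Twist.twistProjSpace 1 F (-(k : ℤ)))) (n : ℤ) :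
    (Module.Finite F (Coh.HH (CohB1.ProjSpace 1 F)
        (CohB1.tensorMod (ClSub.quotMod I) (Twist.twistProjSpace 1 F n)) 0) ∧
      Module.finrank F (Coh.HH (CohB1.ProjSpace 1 F)
        (CohB1.tensorMod (ClSub.quotMod I) (Twist.twistProjSpace 1 F n)) 0) =
        (Nat.choose (n + 1).toNat 1 - Nat.choose (n - (k : ℤ) + 1).toNat 1) +
        (Nat.choose ((k : ℤ) - 2 - n + 1).toNat 1 - Nat.choose ((k : ℤ) - 2 - n - (k : ℤ) + 1).toNat 1)) ∧
    (∀ p : ℕ, 1 ≤ p →
      Subsingleton (Coh.HH (CohB1.ProjSpace 1 F)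
        (CohB1.tensorMod (ClSub.quotMod I) (Twist.twistProjSpace 1 F n)) p)) := by
  obtain ⟨S, hS, ⟨e₁⟩, ⟨e₂⟩, e₃⟩ := CI16.exists_seq I (-(k : ℤ)) hI n
  have hsub : ∀ (m : ℤ) (q : ℕ), 0 < q → q ≠ 1 → Subsingleton (Coh.HH (CohB1.ProjSpace 1 F) (Twist.twistProjSpace 1 F m) q) :=
    fun m q hq hq' => Pn71.subsingleton_hh 1 F m q (by omega) (by omega)
  have f₁ : ∀ q, Module.finrank F (Coh.HH (CohB1.ProjSpace 1 F) S.X₁ q) =
      Module.finrank F (Coh.HH (CohB1.ProjSpace 1 F) (Twist.twistProjSpace 1 F (-(k : ℤ) + n)) q) := fun q => (hEquiv F e₁ q).finrank_eq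
  have f₂ : ∀ q, Module.finrank F (Coh.HH (CohB1.ProjSpace 1 F) S.X₂ q) =
      Module.finrank F (Coh.HH (CohB1.ProjSpace 1 F) (Twist.twistProjSpace 1 F n) q) := fun q => (hEquiv F e₂ q).finrank_eq
  have s₁ : ∀ q, 0 < q → q ≠ 1 → Subsingleton (Coh.HH (CohB1.ProjSpace 1 F) S.X₁ q) := fun q hq hq' =>
    have := hsub (-(k : ℤ) + n) q hq hq'
    (hEquiv F e₁ q).toEquiv.subsingleton
  have s₂ : ∀ q, 0 < q → q ≠ 1 → Subsingleton (Coh.HH (CohB1.ProjSpace 1 F) S.X₂ q) := fun q hq hq' =>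
    have := hsub n q hq hq'
    (hEquiv F e₂ q).toEquiv.subsingleton
  have fin₁ : ∀ q, Module.Finite F (Coh.HH (CohB1.ProjSpace 1 F) S.X₁ q) := fun q =>
    have := CI16.finite_hh_twist (k := F) (N := 1) (-(k : ℤ) + n) q
    Module.Finite.equiv (hEquiv F e₁ q).symm
  have fin₂ : ∀ q, Module.Finite F (Coh.HH (CohB1.ProjSpace 1 F) S.X₂ q) := fun q =>
    have := CI16.finite_hh_twist (k := F) (N := 1) n q
    Module.Finite.equiv (hEquiv F e₂ q).symm
  have hHtop := CI16.subsingleton_hh_quot_top (N := 1) (by omega) I (-(k : ℤ)) hI n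
  have hS₃ : ∀ q, 1 ≤ q → Subsingleton (Coh.HH (CohB1.ProjSpace 1 F) S.X₃ q) := e₃ ▸ hHtop
  refine ⟨?_, fun p hp => hHtop p hp⟩
  change Module.Finite F (Coh.HH (CohB1.ProjSpace 1 F) (tw 1 F (ClSub.quotMod I) n) 0) ∧
      Module.finrank F (Coh.HH (CohB1.ProjSpace 1 F) (tw 1 F (ClSub.quotMod I) n) 0) = _
  rw [← e₃]
  have hfs : Function.Surjective (hmap F S.f 1) := fun z =>
    (exact_f_g F hS 1 z).1 (by
      have := hS₃ 1 le_rfl
      exact Subsingleton.elim _ _)
  have hker := LinearMap.finrank_range_add_finrank_ker (hmap F S.f 1)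
  rw [LinearMap.range_eq_top.2 hfs, finrank_top, LinearMap.exact_iff.1 (exact_δ_f F hS 0), f₁, f₂,
    CI16.finrank_hh_top le_rfl, CI16.finrank_hh_top le_rfl] at hker
  haveI : Module.Finite F (LinearMap.range (hδ F hS 0)) := inferInstance
  haveI : Module.Finite F (LinearMap.ker (hδ F hS 0)) := by
    rw [LinearMap.exact_iff.1 (exact_g_δ F hS 0)]
    infer_instance
  haveI hfin : Module.Finite F (Coh.HH (CohB1.ProjSpace 1 F) S.X₃ 0) :=
    have : Module.Finite F (Coh.HH (CohB1.ProjSpace 1 F) S.X₃ 0 ⧸ LinearMap.ker (hδ F hS 0)) :=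
      Module.Finite.equiv (hδ F hS 0).quotKerEquivRange.symm
    Module.Finite.of_submodule_quotient (LinearMap.ker (hδ F hS 0))
  refine ⟨hfin, ?_⟩
  have h3 := LinearMap.finrank_range_add_finrank_ker (hδ F hS 0)
  rw [LinearMap.exact_iff.1 (exact_g_δ F hS 0)] at h3
  have h2 := LinearMap.finrank_range_add_finrank_ker (hmap F S.g 0)
  rw [LinearMap.exact_iff.1 (exact_f_g F hS 0), LinearMap.finrank_range_of_inj (injective_f_zero F hS), f₁, f₂,
    CI16.finrank_hh_zero le_rfl, CI16.finrank_hh_zero le_rfl] at h2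
  rw [show ((k : ℤ) - 2 - n + 1).toNat = (-(-(k : ℤ) + n) - 1).toNat by congr 1; ring,
    show ((k : ℤ) - 2 - n - (k : ℤ) + 1).toNat = (-n - 1).toNat by congr 1; ring,
    show (n - (k : ℤ) + 1).toNat = (-(k : ℤ) + n + ((1 : ℕ) : ℤ)).toNat by push_cast; congr 1; ring,
    show (n + 1).toNat = (n + ((1 : ℕ) : ℤ)).toNat by push_cast; rfl]
  simp only [Nat.choose_one_right] at hker h2 ⊢
  rw [← h3, ← h2, ← hker, Nat.add_sub_cancel, Nat.add_sub_cancel_left]
  exact add_comm _ _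

end Groth.Agent.S19435
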