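import Groth.Statements.S19436
import Mathlib.RingTheory.Nakayama
import Mathlib.LinearAlgebra.FiniteDimensional.Lemmas

set_option autoImplicit false
universe u
open CAlg

namespace Groth.Agent.S19436

/-- For a Noetherian local commutative algebra R over a field k, with maximal ideal M, and an ideal I of
R whose quotient R/I is finite-dimensional over k of dimension n, the power M^n lies in I. -/
theorem result (k : Type u) [Field k] (R : Type u) [CommRing R]
    [Algebra k R] [IsNoetherianRing R] [IsLocalRing R] (I : Ideal R) [Module.Finite k (R ⧸ I)] (n : ℕ)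
    (hn : Module.finrank k (R ⧸ I) = n) : IsLocalRing.maximalIdeal R ^ n ≤ I := by
  classical
  by_contra hcon
  set M := IsLocalRing.maximalIdeal R
  let Q : ℕ → Submodule k (R ⧸ I) := fun j =>
    ((M ^ j).map (Ideal.Quotient.mk I)).restrictScalars k
  have hanti : ∀ i j, i ≤ j → Q j ≤ Q i := fun i j h =>
    Ideal.map_mono (Ideal.pow_le_pow_right h)
  have hstep : ∀ j ≤ n, Q (j + 1) < Q j := by
    intro j hj
    refine lt_of_le_of_ne (hanti j (j + 1) j.le_succ) fun h => hcon ?_
    have h' : (M ^ (j + 1)).map (Ideal.Quotient.mk I) = (M ^ j).map (Ideal.Quotient.mk I) :=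
      Submodule.restrictScalars_injective k (R ⧸ I) (R ⧸ I) h
    have h2 : M ^ j ≤ I ⊔ M • M ^ j := by
      have := congrArg (Ideal.comap (Ideal.Quotient.mk I)) h'
      rw [Ideal.comap_map_quotientMk, Ideal.comap_map_quotientMk, pow_succ'] at this
      rw [smul_eq_mul, this]
      exact le_sup_right
    exact (Ideal.pow_le_pow_right hj).trans (Submodule.le_of_le_smul_of_le_jacobson_bot
      (IsNoetherian.noetherian _) (IsLocalRing.maximalIdeal_le_jacobson ⊥) h2)
  have hrank : ∀ j ≤ n + 1, Module.finrank k (Q j) + j ≤ n := by
    intro j hj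
    induction j with
    | zero => simpa [← hn] using Submodule.finrank_le (Q 0)
    | succ j ih =>
      have := Submodule.finrank_lt_finrank_of_lt (hstep j (by omega))
      have := ih (by omega)
      omega
  have := hrank (n + 1) le_rfl
  omega

end Groth.Agent.S19436
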