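import Groth.Statements.S19437
import Mathlib.RingTheory.MvPowerSeries.Inverse
import Mathlib.RingTheory.Artinian.Ring
import Mathlib.LinearAlgebra.Dimension.RankNullity
import Mathlib.LinearAlgebra.Dimension.FreeAndStrongRankCondition
import Mathlib.RingTheory.Artinian.Module
import Mathlib.LinearAlgebra.Dimension.Constructions
import Mathlib.Tactic.LinearCombination
import Mathlib.Tactic.FinCases
import Mathlib.LinearAlgebra.FiniteDimensional.Lemmas
import Mathlib.LinearAlgebra.Dimension.DivisionRing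

set_option autoImplicit false
universe u
open CAlg

namespace Groth.Agent.S19437


open MvPowerSeries

section
variable {k : Type u} [Field k]

local notation "R" => MvPowerSeries (Fin 2) k

theorem single_cases (m : Fin 2 →₀ ℕ) (h : m 0 = 0 ∨ m 1 = 0) :
    m = Finsupp.single 0 (m 0) ∨ m = Finsupp.single 1 (m 1) := by
  rcases h with h | h
  · right; ext i; fin_cases i <;> simp [h]
  · left; ext i; fin_cases i <;> simp [h]

/-- The ideal `(xy, x^a, y^b)`. -/
noncomputable def mon (a b : ℕ) : Ideal (MvPowerSeries (Fin 2) k) :=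
  Ideal.span {X 0 * X 1, X 0 ^ a, X 1 ^ b}

theorem mem_mon_iff {a b : ℕ} (hb : 1 ≤ b) (f : MvPowerSeries (Fin 2) k) : f ∈ mon a b ↔
    (∀ i < a, coeff (Finsupp.single 0 i) f = 0) ∧
      (∀ j, 1 ≤ j → j < b → coeff (Finsupp.single 1 j) f = 0) ∨ (a = 0) := by
  classical
  constructor
  · intro hf
    by_cases ha : a = 0
    · exact Or.inr ha
    left
    rw [mon, Ideal.mem_span_insert] at hf
    obtain ⟨u, z, hz, rfl⟩ := hf
    rw [Ideal.mem_span_pair] at hz
    obtain ⟨v, w, rfl⟩ := hz
    have hx : ∀ m : Fin 2 →₀ ℕ, m 0 = 0 → coeff m (u * (X 0 * X 1)) = 0 := fun m hm =>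
      X_dvd_iff.mp ⟨X 1 * u, by ring⟩ m hm
    have hy : ∀ m : Fin 2 →₀ ℕ, m 1 = 0 → coeff m (u * (X 0 * X 1)) = 0 := fun m hm =>
      X_dvd_iff.mp ⟨X 0 * u, by ring⟩ m hm
    refine ⟨fun i hi => ?_, fun j hj hj' => ?_⟩
    · rw [map_add, map_add, hy _ (by simp), X_pow_dvd_iff.mp (dvd_mul_left _ v) _ (by simpa using hi),
        X_pow_dvd_iff.mp (dvd_mul_left _ w) _ (by simp; omega), add_zero, add_zero]
    · rw [map_add, map_add, hx _ (by simp),
        X_pow_dvd_iff.mp (dvd_mul_left _ v) _ (by simp; omega),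
        X_pow_dvd_iff.mp (dvd_mul_left _ w) _ (by simpa using hj'), add_zero, add_zero]
  · rintro (⟨h0, h1⟩ | rfl)
    · let fx : MvPowerSeries (Fin 2) k := fun m => if a ≤ m 0 then coeff m f else 0
      let fy : MvPowerSeries (Fin 2) k := fun m => if ¬ a ≤ m 0 ∧ b ≤ m 1 then coeff m f else 0
      have hfx : ∀ m, coeff m fx = if a ≤ m 0 then coeff m f else 0 := fun m => rfl
      have hfy : ∀ m, coeff m fy = if ¬ a ≤ m 0 ∧ b ≤ m 1 then coeff m f else 0 := fun m => rfl
      obtain ⟨g, hg⟩ : X 0 ^ a ∣ fx := X_pow_dvd_iff.mpr fun m hm => by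
        rw [hfx, if_neg (by omega)]
      obtain ⟨g', hg'⟩ : X 1 ^ b ∣ fy := X_pow_dvd_iff.mpr fun m hm => by
        rw [hfy, if_neg (by omega)]
      have hr : ∀ m, (m 0 = 0 ∨ m 1 = 0) → coeff m (f - fx - fy) = 0 := by
        intro m hm
        rw [map_sub, map_sub, hfx, hfy]
        by_cases hma : a ≤ m 0
        · simp [hma]
        by_cases hmb : b ≤ m 1
        · simp [hma, hmb]
        rw [if_neg hma, if_neg (by tauto), sub_zero, sub_zero]
        rcases single_cases m hm with h | h
        · rw [h]; exact h0 _ (by omega)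
        · rw [h]
          by_cases hm1 : m 1 = 0
          · have := h0 0 (by omega)
            simpa [hm1] using this
          · exact h1 _ (by omega) (by omega)
      obtain ⟨r, hr0⟩ : X 0 ∣ f - fx - fy := X_dvd_iff.mpr fun m hm => hr m (Or.inl hm)
      obtain ⟨r', hr'⟩ : X 1 ∣ r := X_dvd_iff.mpr fun m hm => by
        have h := hr (Finsupp.single 0 1 + m) (Or.inr (by simp [hm]))
        rw [hr0, MvPowerSeries.X, coeff_add_monomial_mul, one_mul] at h
        exact h
      have e : f = r' * (X 0 * X 1) + (g * X 0 ^ a + g' * X 1 ^ b) := by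
        have h2 : f = (f - fx - fy) + fx + fy := by ring
        rw [h2, hr0, hr', hg, hg']; ring
      rw [e]
      exact add_mem (Ideal.mul_mem_left _ _ (Ideal.subset_span (by simp)))
        (add_mem (Ideal.mul_mem_left _ _ (Ideal.subset_span (by simp)))
          (Ideal.mul_mem_left _ _ (Ideal.subset_span (by simp))))
    · have : (1 : MvPowerSeries (Fin 2) k) ∈ mon 0 b := Ideal.subset_span (by simp)
      simpa using Ideal.mul_mem_left _ f this

theorem exists_pow_mem {J : Ideal (MvPowerSeries (Fin 2) k)}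
    [Module.Finite k (MvPowerSeries (Fin 2) k ⧸ J)] (hJ : J ≠ ⊤) (s : Fin 2) :
    ∃ N, X s ^ N ∈ J := by
  haveI : IsArtinianRing (MvPowerSeries (Fin 2) k ⧸ J) := IsArtinianRing.of_finite k _
  haveI : Nontrivial (MvPowerSeries (Fin 2) k ⧸ J) := Ideal.Quotient.nontrivial_iff.mpr hJ
  haveI : IsLocalRing (MvPowerSeries (Fin 2) k ⧸ J) :=
    .of_surjective' _ Ideal.Quotient.mk_surjective
  obtain ⟨N, hN⟩ := (IsArtinianRing.isNilpotent_jacobson_bot :
    IsNilpotent (Ideal.jacobson (⊥ : Ideal (MvPowerSeries (Fin 2) k ⧸ J))))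
  have hX : Ideal.Quotient.mk J (X s) ∈ Ideal.jacobson (⊥ : Ideal (MvPowerSeries (Fin 2) k ⧸ J)) := by
    rw [IsLocalRing.jacobson_eq_maximalIdeal _ bot_ne_top, IsLocalRing.mem_maximalIdeal]
    intro h
    obtain ⟨v, hv⟩ := h.exists_right_inv
    obtain ⟨g, rfl⟩ := Ideal.Quotient.mk_surjective v
    rw [← map_mul, ← map_one (Ideal.Quotient.mk J), Ideal.Quotient.eq] at hv
    refine hJ (Ideal.eq_top_of_isUnit_mem _ hv ?_)
    rw [MvPowerSeries.isUnit_iff_constantCoeff]
    simp
  refine ⟨N, Ideal.Quotient.eq_zero_iff_mem.mp ?_⟩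
  have := Ideal.pow_mem_pow hX N
  rw [hN] at this
  simpa using this

theorem low_coeff_eq_zero {J : Ideal (MvPowerSeries (Fin 2) k)} (s t : Fin 2) (hst : s ≠ t)
    (hxy : (X s * X t : MvPowerSeries (Fin 2) k) ∈ J) (a : ℕ) (hmin : ∀ i, i < a → X s ^ i ∉ J)
    {f : MvPowerSeries (Fin 2) k} (hf : f ∈ J) :
    ∀ i, i + 1 < a → coeff (Finsupp.single s i) f = 0 := by
  intro i
  induction i using Nat.strong_induction_on with
  | _ i ih =>
    intro hi
    by_contra hne
    -- `X s * f` is `X s ^ (i+1) * unit` modulo `X s * X t`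
    let fx : MvPowerSeries (Fin 2) k := fun m => if m t = 0 then coeff m f else 0
    have hfx : ∀ m, coeff m fx = if m t = 0 then coeff m f else 0 := fun m => rfl
    obtain ⟨w, hw⟩ : X t ∣ f - fx := X_dvd_iff.mpr fun m hm => by
      rw [map_sub, hfx, if_pos hm, sub_self]
    obtain ⟨u, hu⟩ : X s ^ i ∣ fx := X_pow_dvd_iff.mpr fun m hm => by
      rw [hfx]
      split_ifs with h
      · have : m = Finsupp.single s (m s) := by
          ext j
          rcases eq_or_ne j s with rfl | hj
          · simp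
          · have : j = t :=
              (by decide : ∀ s t j : Fin 2, s ≠ t → j ≠ s → j = t) s t j hst hj
            simp [this, h, Finsupp.single_eq_of_ne hst.symm]
        rw [this]; exact ih _ hm (by omega)
      · rfl
    have hu0 : IsUnit u := by
      rw [MvPowerSeries.isUnit_iff_constantCoeff, isUnit_iff_ne_zero]
      intro h0
      refine hne ?_
      have h := congrArg (coeff (Finsupp.single s i + 0)) hu
      rw [hfx, if_pos (by simp [Finsupp.single_eq_of_ne hst.symm]), X_pow_eq, coeff_add_monomial_mul,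
        one_mul, coeff_zero_eq_constantCoeff_apply, h0, add_zero] at h
      exact h
    refine hmin (i + 1) hi ((Ideal.mul_unit_mem_iff_mem J hu0).mp ?_)
    have e : X s ^ (i + 1) * u = X s * f - X s * X t * w := by
      linear_combination (-(X s)) * hw - (X s) * hu
    rw [e]
    exact sub_mem (Ideal.mul_mem_left _ _ hf) (Ideal.mul_mem_right _ _ hxy)

theorem finrank_of_ker {W : Type u} [AddCommGroup W] [Module k W]
    {J : Ideal (MvPowerSeries (Fin 2) k)} (Φ : MvPowerSeries (Fin 2) k →ₗ[k] W)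
    (hs : Function.Surjective Φ) (hk : ∀ f, f ∈ J ↔ Φ f = 0) :
    Module.finrank k (MvPowerSeries (Fin 2) k ⧸ J) = Module.finrank k W := by
  have e : J.restrictScalars k = LinearMap.ker Φ := by ext f; exact hk f
  exact ((Submodule.Quotient.restrictScalarsEquiv k J).symm.trans
    ((Submodule.quotEquivOfEq _ _ e).trans (LinearMap.quotKerEquivOfSurjective Φ hs))).finrank_eq

end


/-- Ideals of colength n of the complete local ring of a node. Let k be a field and J an ideal of the
power series ring k[[x,y]] in two variables x, y which contains xy and whose quotient is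
finite-dimensional over k of dimension n ≥ 2. Then there are integers a, b ≥ 1 such that either a +
b = n + 1 and J is generated by xy, x^a, y^b, or a + b = n and J is generated by xy and x^a + α y^b
for some nonzero scalar α. -/
theorem result (k : Type u) [Field k]
    (J : Ideal (MvPowerSeries (Fin 2) k))
    (hxy : (MvPowerSeries.X 0 * MvPowerSeries.X 1 : MvPowerSeries (Fin 2) k) ∈ J)
    [Module.Finite k (MvPowerSeries (Fin 2) k ⧸ J)] (n : ℕ) (hn : Module.finrank k (MvPowerSeries (Fin 2) k ⧸ J) = n)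
    (h2 : 2 ≤ n) :
    ∃ a b : ℕ, 1 ≤ a ∧ 1 ≤ b ∧
      ((a + b = n + 1 ∧
        J = Ideal.span {MvPowerSeries.X 0 * MvPowerSeries.X 1, MvPowerSeries.X 0 ^ a, MvPowerSeries.X 1 ^ b}) ∨
       (a + b = n ∧ ∃ α : k, α ≠ 0 ∧
        J = Ideal.span {MvPowerSeries.X 0 * MvPowerSeries.X 1,
          MvPowerSeries.X 0 ^ a + MvPowerSeries.C α * MvPowerSeries.X 1 ^ b})) := by

  classical
  have hJ : J ≠ ⊤ := by
    intro h
    haveI : Subsingleton (MvPowerSeries (Fin 2) k ⧸ J) := Ideal.Quotient.subsingleton_iff.mpr h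
    rw [Module.finrank_zero_of_subsingleton] at hn
    omega
  have hex : ∀ s : Fin 2, ∃ N, (MvPowerSeries.X s : MvPowerSeries (Fin 2) k) ^ N ∈ J := exists_pow_mem hJ
  set a := Nat.find (hex 0) with hadef
  set b := Nat.find (hex 1) with hbdef
  have hpos : ∀ s, 1 ≤ Nat.find (hex s) := fun s => by
    rw [Nat.one_le_iff_ne_zero]
    intro h
    exact hJ ((Ideal.eq_top_iff_one J).mpr (by simpa [h] using Nat.find_spec (hex s)))
  have ha : 1 ≤ a := hpos 0
  have hb : 1 ≤ b := hpos 1
  have hamin : ∀ i, i < a → (MvPowerSeries.X 0 : MvPowerSeries (Fin 2) k) ^ i ∉ J :=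
    fun i hi => Nat.find_min (hex 0) hi
  have hbmin : ∀ i, i < b → (MvPowerSeries.X 1 : MvPowerSeries (Fin 2) k) ^ i ∉ J :=
    fun i hi => Nat.find_min (hex 1) hi
  have hle : mon a b ≤ J := Ideal.span_le.mpr (by
    rintro _ (rfl | rfl | rfl)
    exacts [hxy, Nat.find_spec (hex 0), Nat.find_spec (hex 1)])
  let c : MvPowerSeries (Fin 2) k →ₗ[k] k := MvPowerSeries.coeff (Finsupp.single 0 (a - 1))
  let d : MvPowerSeries (Fin 2) k →ₗ[k] k := MvPowerSeries.coeff (Finsupp.single 1 (b - 1))
  have hc1 : ∀ f ∈ J, a = 1 → c f = 0 := by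
    intro f hf h1
    by_contra h
    refine hJ (Ideal.eq_top_of_isUnit_mem _ hf ?_)
    rw [MvPowerSeries.isUnit_iff_constantCoeff, isUnit_iff_ne_zero]
    simpa [c, h1] using h
  have hd1 : ∀ f ∈ J, b = 1 → d f = 0 := by
    intro f hf h1
    by_contra h
    refine hJ (Ideal.eq_top_of_isUnit_mem _ hf ?_)
    rw [MvPowerSeries.isUnit_iff_constantCoeff, isUnit_iff_ne_zero]
    simpa [d, h1] using h
  have hred : ∀ f ∈ J, f - MvPowerSeries.C (c f) * MvPowerSeries.X 0 ^ (a - 1)
      - MvPowerSeries.C (d f) * MvPowerSeries.X 1 ^ (b - 1) ∈ mon a b := by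
    intro f hf
    have hdy : ∀ i, MvPowerSeries.coeff (Finsupp.single 0 i)
        (MvPowerSeries.C (d f) * MvPowerSeries.X 1 ^ (b - 1) : MvPowerSeries (Fin 2) k) = 0 := by
      intro i
      rw [MvPowerSeries.coeff_C_mul, MvPowerSeries.coeff_X_pow]
      split_ifs with h
      · have h2 := congrArg (fun m : Fin 2 →₀ ℕ => m 1) h
        simp at h2
        rw [hd1 f hf (by omega), zero_mul]
      · rw [mul_zero]
    have hcx : ∀ j, MvPowerSeries.coeff (Finsupp.single 1 j)
        (MvPowerSeries.C (c f) * MvPowerSeries.X 0 ^ (a - 1) : MvPowerSeries (Fin 2) k) = 0 := by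
      intro i
      rw [MvPowerSeries.coeff_C_mul, MvPowerSeries.coeff_X_pow]
      split_ifs with h
      · have h2 := congrArg (fun m : Fin 2 →₀ ℕ => m 0) h
        simp at h2
        rw [hc1 f hf (by omega), zero_mul]
      · rw [mul_zero]
    rw [mem_mon_iff hb]
    refine Or.inl ⟨fun i hi => ?_, fun j hj hj' => ?_⟩
    · rw [map_sub, map_sub, hdy, sub_zero, MvPowerSeries.coeff_C_mul, MvPowerSeries.coeff_X_pow]
      by_cases h : i = a - 1
      · subst h; simp [c]
      · rw [low_coeff_eq_zero 0 1 (by decide) hxy a hamin hf i (by omega),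
          if_neg (fun he => h (Finsupp.single_injective 0 he)), mul_zero, sub_zero]
    · rw [map_sub, map_sub, hcx, sub_zero, MvPowerSeries.coeff_C_mul, MvPowerSeries.coeff_X_pow]
      by_cases h : j = b - 1
      · subst h; simp [d]
      · rw [low_coeff_eq_zero 1 0 (by decide) (by rwa [mul_comm]) b hbmin hf j (by omega),
          if_neg (fun he => h (Finsupp.single_injective 1 he)), mul_zero, sub_zero]
  have hboth : ∀ f ∈ J, (c f = 0 ↔ d f = 0) := by
    intro f hf
    have h := sub_mem hf (hle (hred f hf))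
    constructor
    · intro h0
      by_contra hd0
      refine hbmin (b - 1) (by omega) ((Ideal.unit_mul_mem_iff_mem J
        ((isUnit_iff_ne_zero.mpr hd0).map (MvPowerSeries.C (σ := Fin 2) (R := k)))).mp ?_)
      simpa [h0] using h
    · intro h0
      by_contra hc0
      refine hamin (a - 1) (by omega) ((Ideal.unit_mul_mem_iff_mem J
        ((isUnit_iff_ne_zero.mpr hc0).map (MvPowerSeries.C (σ := Fin 2) (R := k)))).mp ?_)
      simpa [h0] using h
  let Φ : MvPowerSeries (Fin 2) k →ₗ[k] (Fin a → k) × (Fin (b - 1) → k) :=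
    (LinearMap.pi fun i : Fin a => MvPowerSeries.coeff (Finsupp.single 0 (i : ℕ))).prod
      (LinearMap.pi fun j : Fin (b - 1) => MvPowerSeries.coeff (Finsupp.single 1 ((j : ℕ) + 1)))
  have hΦker : ∀ f, f ∈ mon a b ↔ Φ f = 0 := by
    intro f
    rw [mem_mon_iff hb]
    constructor
    · rintro (⟨h0, h1⟩ | h)
      · refine Prod.ext (funext fun i => h0 i i.2) (funext fun j => h1 _ (by omega) (by omega))
      · omega
    · intro h
      refine Or.inl ⟨fun i hi => congrFun (congrArg Prod.fst h) ⟨i, hi⟩, fun j hj hj' => ?_⟩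
      have := congrFun (congrArg Prod.snd h) ⟨j - 1, by omega⟩
      change MvPowerSeries.coeff (Finsupp.single 1 (j - 1 + 1)) f = 0 at this
      rwa [Nat.sub_add_cancel hj] at this
  have hΦsurj : Function.Surjective Φ := by
    rintro ⟨u, v⟩
    refine ⟨fun m => if hm : m 1 = 0 then (if h : m 0 < a then u ⟨m 0, h⟩ else 0)
      else (if h : m 0 = 0 ∧ m 1 - 1 < b - 1 then v ⟨m 1 - 1, h.2⟩ else 0), ?_⟩
    refine Prod.ext (funext fun i => ?_) (funext fun j => ?_)
    · show dite _ _ _ = u i
      simp [i.2]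
    · show dite _ _ _ = v j
      rw [dif_neg (by simp), dif_pos (by simp)]
      congr 1
      ext
      simp
  by_cases hall : ∀ f ∈ J, c f = 0
  · refine ⟨a, b, ha, hb, Or.inl ?_⟩
    have hJeq : J = mon a b := le_antisymm (fun f hf => by
      have := hred f hf
      simpa [hall f hf, (hboth f hf).mp (hall f hf)] using this) hle
    refine ⟨?_, hJeq⟩
    have h := finrank_of_ker (J := J) Φ hΦsurj (fun f => by rw [hJeq]; exact hΦker f)
    rw [hn, Module.finrank_prod, Module.finrank_fin_fun, Module.finrank_fin_fun] at h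
    omega
  · push Not at hall
    obtain ⟨f, hf, hcf⟩ := hall
    have hdf : d f ≠ 0 := fun h => hcf ((hboth f hf).mpr h)
    have ha2 : 2 ≤ a := by have : a ≠ 1 := fun h => hcf (hc1 f hf h); omega
    have hb2 : 2 ≤ b := by have : b ≠ 1 := fun h => hdf (hd1 f hf h); omega
    let α := d f / c f
    have hα : α ≠ 0 := div_ne_zero hdf hcf
    set h : MvPowerSeries (Fin 2) k :=
      MvPowerSeries.X 0 ^ (a - 1) + MvPowerSeries.C α * MvPowerSeries.X 1 ^ (b - 1) with hh
    have hhJ : h ∈ J := by
      have h1 := sub_mem hf (hle (hred f hf))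
      refine (Ideal.unit_mul_mem_iff_mem J
        ((isUnit_iff_ne_zero.mpr hcf).map (MvPowerSeries.C (σ := Fin 2) (R := k)))).mp ?_
      convert h1 using 1
      rw [hh, mul_add, ← mul_assoc, ← map_mul, mul_div_cancel₀ _ hcf]
      ring
    have hmon : mon a b ≤ Ideal.span {MvPowerSeries.X 0 * MvPowerSeries.X 1, h} := by
      refine Ideal.span_le.mpr ?_
      rintro _ (rfl | rfl | rfl)
      · exact Ideal.subset_span (Or.inl rfl)
      · rw [SetLike.mem_coe, Ideal.mem_span_pair]
        refine ⟨-(MvPowerSeries.C α * MvPowerSeries.X 1 ^ (b - 2)), MvPowerSeries.X 0, ?_⟩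
        rw [hh, show a = (a - 1) + 1 by omega, show b - 1 = (b - 2) + 1 by omega, Nat.add_sub_cancel]
        ring
      · rw [SetLike.mem_coe, Ideal.mem_span_pair]
        refine ⟨-(MvPowerSeries.C α⁻¹ * MvPowerSeries.X 0 ^ (a - 2)),
          MvPowerSeries.C α⁻¹ * MvPowerSeries.X 1, ?_⟩
        have e : (MvPowerSeries.C α⁻¹ * MvPowerSeries.C α : MvPowerSeries (Fin 2) k) = 1 := by
          rw [← map_mul, inv_mul_cancel₀ hα, map_one]
        rw [hh, show a - 1 = (a - 2) + 1 by omega, show b = (b - 1) + 1 by omega, Nat.add_sub_cancel]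
        linear_combination (MvPowerSeries.X 1 ^ (b - 1) * MvPowerSeries.X 1 : MvPowerSeries (Fin 2) k) * e
    have hJeq : J = Ideal.span {MvPowerSeries.X 0 * MvPowerSeries.X 1, h} := by
      refine le_antisymm (fun g hg => ?_) (Ideal.span_le.mpr (by
        rintro _ (rfl | rfl); exacts [hxy, hhJ]))
      have hg' : g - MvPowerSeries.C (c g) * h ∈ J := sub_mem hg (Ideal.mul_mem_left _ _ hhJ)
      have hc0 : c (g - MvPowerSeries.C (c g) * h) = 0 := by
        simp only [c, h, map_sub, MvPowerSeries.coeff_C_mul, map_add, MvPowerSeries.coeff_X_pow, if_true]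
        rw [if_neg (fun he => by
          have h2 := congrArg (fun m : Fin 2 →₀ ℕ => m 0) he
          simp at h2; omega)]
        simp
      have h2 := hred _ hg'
      rw [hc0, (hboth _ hg').mp hc0, map_zero, zero_mul, zero_mul, sub_zero, sub_zero] at h2
      have := add_mem (hmon h2) (Ideal.mul_mem_left _ (MvPowerSeries.C (c g))
        (Ideal.subset_span (Or.inr rfl) : h ∈ Ideal.span {MvPowerSeries.X 0 * MvPowerSeries.X 1, h}))
      rwa [sub_add_cancel] at this
    refine ⟨a - 1, b - 1, by omega, by omega, Or.inr ⟨?_, α, hα, hJeq⟩⟩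
    have hΦh : Φ h ≠ 0 := by
      intro h0
      have h3 := congrFun (congrArg Prod.fst h0) ⟨a - 1, by omega⟩
      have h4 : MvPowerSeries.coeff (Finsupp.single 0 (a - 1)) h = 1 := by
        rw [hh, map_add, MvPowerSeries.coeff_X_pow, MvPowerSeries.coeff_C_mul, MvPowerSeries.coeff_X_pow,
          if_pos rfl, if_neg (fun he => by
            have h2 := congrArg (fun m : Fin 2 →₀ ℕ => m 0) he
            simp at h2; omega), mul_zero, add_zero]
      exact one_ne_zero (h4.symm.trans h3)
    let V : Submodule k ((Fin a → k) × (Fin (b - 1) → k)) := k ∙ Φ h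
    have hker : ∀ g, g ∈ J ↔ (V.mkQ ∘ₗ Φ) g = 0 := by
      intro g
      rw [LinearMap.comp_apply, Submodule.mkQ_apply, Submodule.Quotient.mk_eq_zero,
        Submodule.mem_span_singleton]
      constructor
      · intro hg
        refine ⟨c g, ?_⟩
        have hg' : g - MvPowerSeries.C (c g) * h ∈ J := sub_mem hg (Ideal.mul_mem_left _ _ hhJ)
        have hc0 : c (g - MvPowerSeries.C (c g) * h) = 0 := by
          simp only [c, h, map_sub, MvPowerSeries.coeff_C_mul, map_add, MvPowerSeries.coeff_X_pow, if_true]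
          rw [if_neg (fun he => by
            have h2 := congrArg (fun m : Fin 2 →₀ ℕ => m 0) he
            simp at h2; omega)]
          simp
        have h2 := hred _ hg'
        rw [hc0, (hboth _ hg').mp hc0, map_zero, zero_mul, zero_mul, sub_zero, sub_zero, hΦker,
          ← MvPowerSeries.smul_eq_C_mul, map_sub, map_smul, sub_eq_zero] at h2
        exact h2.symm
      · rintro ⟨r, hr⟩
        have h2 : g - r • h ∈ mon a b := by rw [hΦker, map_sub, map_smul, hr, sub_self]
        have := add_mem (hle h2) (Submodule.smul_of_tower_mem J r hhJ)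
        rwa [sub_add_cancel] at this
    have h5 := finrank_of_ker (V.mkQ ∘ₗ Φ) (V.mkQ_surjective.comp hΦsurj) hker
    have h6 := Submodule.finrank_quotient_add_finrank V
    rw [Module.finrank_prod, Module.finrank_fin_fun, Module.finrank_fin_fun,
      finrank_span_singleton hΦh] at h6
    omega

end Groth.Agent.S19437
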