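import Groth.Statements.S19438
import Mathlib.RingTheory.Ideal.Cotangent
import Mathlib.RingTheory.Adjoin.Basic
import Mathlib.LinearAlgebra.Dimension.Finite
import Mathlib.LinearAlgebra.Dimension.Constructions

set_option autoImplicit false
universe u
open CAlg

namespace Groth.Agent.S19438

/-- First assertion: let A be a Noetherian local commutative algebra over a field k with maximal ideal
M, residue field k (the map from k to A/M is onto) and embedding dimension dim M/M^2 at least 2, and
let I be a proper ideal with A/I finite-dimensional over k. If A/I is generated as a k-algebra by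
one element, then some element of I does not lie in M^2; that is, the finite closed subscheme
defined by I lies on a smooth hypersurface germ (it is curvilinear). (The published statement is for
the local ring of a smooth surface at a closed point; only a Noetherian local algebra with residue
field k and embedding dimension at least 2 is assumed here, which is what the published argument
uses.) -/
theorem result (k : Type u) [Field k]
    (A : Type u) [CommRing A] [Algebra k A] [IsNoetherianRing A] [IsLocalRing A]
    (hres : Function.Surjective (algebraMap k (IsLocalRing.ResidueField A)))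
    (hemb : 2 ≤ Module.finrank (IsLocalRing.ResidueField A) (IsLocalRing.CotangentSpace A))
    (I : Ideal A) (hI : I ≠ ⊤) [Module.Finite k (A ⧸ I)]
    (f : A ⧸ I) (hf : Algebra.adjoin k {f} = ⊤) :
    ∃ g ∈ I, g ∉ IsLocalRing.maximalIdeal A ^ 2 := by
  classical
  by_contra hcon
  simp only [not_exists, not_and, not_not] at hcon
  obtain ⟨F, rfl⟩ := Ideal.Quotient.mk_surjective f
  obtain ⟨c, hc⟩ := hres (IsLocalRing.residue A F)
  have hc' : IsLocalRing.residue A (algebraMap k A c) = IsLocalRing.residue A F := by
    rw [← hc]; rfl
  set G := F - algebraMap k A c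
  have hG : G ∈ IsLocalRing.maximalIdeal A := by
    rw [← IsLocalRing.residue_eq_zero_iff, map_sub, hc', sub_self]
  have key : ∀ x : A ⧸ I, x ∈ Algebra.adjoin k {Ideal.Quotient.mk I F} → ∃ a b : k, ∀ X : A,
      Ideal.Quotient.mk I X = x →
        X - (algebraMap k A a + algebraMap k A b * G) ∈ IsLocalRing.maximalIdeal A ^ 2 := by
    intro x hx
    induction hx using Algebra.adjoin_induction with
    | mem y hy =>
      rw [Set.mem_singleton_iff] at hy
      subst hy
      refine ⟨c, 1, fun X hX => ?_⟩
      have h1 := hcon _ (Ideal.Quotient.eq.mp hX)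
      convert h1 using 1
      simp [G]
    | algebraMap a =>
      refine ⟨a, 0, fun X hX => ?_⟩
      have h1 := hcon _ (Ideal.Quotient.eq.mp (hX.trans (Ideal.Quotient.mk_algebraMap k I a).symm))
      simpa using h1
    | add y z _ _ hy hz =>
      obtain ⟨a, b, h⟩ := hy
      obtain ⟨a', b', h'⟩ := hz
      refine ⟨a + a', b + b', fun X hX => ?_⟩
      obtain ⟨Y, hY⟩ := Ideal.Quotient.mk_surjective y
      have h2 := h' (X - Y) (by rw [map_sub, hX, hY, add_sub_cancel_left])
      have h1 := h Y hY
      have h3 := add_mem h1 h2
      convert h3 using 1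
      simp only [map_add]
      ring
    | mul y z _ _ hy hz =>
      obtain ⟨a, b, h⟩ := hy
      obtain ⟨a', b', h'⟩ := hz
      refine ⟨a * a', a * b' + b * a', fun X hX => ?_⟩
      obtain ⟨Y, hY⟩ := Ideal.Quotient.mk_surjective y
      obtain ⟨Z, hZ⟩ := Ideal.Quotient.mk_surjective z
      have h0 := hcon _ (Ideal.Quotient.eq.mp
        (show Ideal.Quotient.mk I X = Ideal.Quotient.mk I (Y * Z) by rw [map_mul, hY, hZ, hX]))
      have hGG : G * G ∈ IsLocalRing.maximalIdeal A ^ 2 := by
        rw [pow_two]; exact Ideal.mul_mem_mul hG hG
      have h3 := add_mem (add_mem (add_mem h0 (Ideal.mul_mem_right Z _ (h Y hY)))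
        (Ideal.mul_mem_left _ (algebraMap k A a + algebraMap k A b * G) (h' Z hZ)))
        (Ideal.mul_mem_left _ (algebraMap k A b * algebraMap k A b') hGG)
      convert h3 using 1
      simp only [map_add, map_mul]
      ring
  have hspan : ∀ v : IsLocalRing.CotangentSpace A,
      v ∈ Submodule.span (IsLocalRing.ResidueField A)
        {(IsLocalRing.maximalIdeal A).toCotangent ⟨G, hG⟩} := by
    intro v
    obtain ⟨⟨X, hXm⟩, rfl⟩ := Ideal.toCotangent_surjective _ v
    obtain ⟨a, b, h⟩ := key (Ideal.Quotient.mk I X) (hf ▸ Algebra.mem_top)
    have h1 := h X rfl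
    have ha : algebraMap k A a ∈ IsLocalRing.maximalIdeal A := by
      have h2 := sub_mem (sub_mem hXm (Ideal.pow_le_self two_ne_zero h1))
        (Ideal.mul_mem_left _ (algebraMap k A b) hG)
      convert h2 using 1
      ring
    have ha0 : a = 0 := by
      by_contra hne
      exact (IsLocalRing.mem_maximalIdeal _).mp ha ((isUnit_iff_ne_zero.mpr hne).map _)
    subst ha0
    rw [map_zero, zero_add] at h1
    rw [Submodule.mem_span_singleton]
    refine ⟨IsLocalRing.residue A (algebraMap k A b), ?_⟩
    show algebraMap A (IsLocalRing.ResidueField A) (algebraMap k A b) • _ = _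
    rw [algebraMap_smul, ← map_smul, Ideal.toCotangent_eq]
    rw [← neg_mem_iff, neg_sub]
    exact h1
  have h1 : Module.finrank (IsLocalRing.ResidueField A) (IsLocalRing.CotangentSpace A) ≤ 1 :=
    finrank_le_one _ fun v => Submodule.mem_span_singleton.mp (hspan v)
  omega

end Groth.Agent.S19438
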