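import Groth.Statements.S19439
import Mathlib.RingTheory.MvPolynomial.Basic
import Mathlib.LinearAlgebra.FiniteDimensional.Basic
import Mathlib.RingTheory.Ideal.Quotient.Operations

set_option autoImplicit false
universe u
open CAlg

namespace Groth.Agent.S19439

/-- Affine form: for all n and N there is an integer d, that depends only on n and N, such that for
every algebraically closed field k and every ideal I of the polynomial ring in N variables over k
whose quotient has finite dimension n over k, the polynomials of total degree at most d map onto the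
quotient. -/
theorem result (n N : ℕ) :
    ∃ d : ℕ, ∀ (k : Type u) [Field k] [IsAlgClosed k] (I : Ideal (MvPolynomial (Fin N) k))
      [Module.Finite k (MvPolynomial (Fin N) k ⧸ I)],
      Module.finrank k (MvPolynomial (Fin N) k ⧸ I) = n →
      Submodule.map (Ideal.Quotient.mkₐ k I).toLinearMap (MvPolynomial.restrictTotalDegree (Fin N) k d) = ⊤ := by

  refine ⟨n, fun k _ _ I _ hn => ?_⟩
  let W : ℕ → Submodule k (MvPolynomial (Fin N) k ⧸ I) := fun d =>
    Submodule.map (Ideal.Quotient.mkₐ k I).toLinearMap (MvPolynomial.restrictTotalDegree (Fin N) k d)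
  have hmono : ∀ {a b}, a ≤ b → W a ≤ W b := fun {a b} h => Submodule.map_mono fun p hp => by
    rw [MvPolynomial.mem_restrictTotalDegree] at hp ⊢; omega
  have hstab : ∀ d, W (d + 1) = W d → W d = ⊤ := by
    intro d hd
    rw [eq_top_iff]
    rintro x -
    obtain ⟨p, rfl⟩ := Ideal.Quotient.mk_surjective x
    induction p using MvPolynomial.induction_on with
    | C a =>
      exact ⟨MvPolynomial.C a, by
        rw [SetLike.mem_coe, MvPolynomial.mem_restrictTotalDegree, MvPolynomial.totalDegree_C]
        exact Nat.zero_le _, rfl⟩
    | add p q hp hq => rw [map_add]; exact add_mem hp hq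
    | mul_X p i hp =>
      obtain ⟨q, hq, hqp⟩ := hp
      rw [← hd]
      refine ⟨q * MvPolynomial.X i, ?_, ?_⟩
      · rw [SetLike.mem_coe, MvPolynomial.mem_restrictTotalDegree] at hq ⊢
        calc _ ≤ q.totalDegree + (MvPolynomial.X i : MvPolynomial (Fin N) k).totalDegree :=
              MvPolynomial.totalDegree_mul _ _
          _ ≤ d + 1 := by rw [MvPolynomial.totalDegree_X]; omega
      · show Ideal.Quotient.mk I (q * _) = Ideal.Quotient.mk I (p * _)
        rw [map_mul, map_mul]
        congr 1
  have hrank : ∀ d, W d ≠ ⊤ → d ≤ Module.finrank k (W d) := by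
    intro d
    induction d with
    | zero => intro _; exact Nat.zero_le _
    | succ d ih =>
      intro hd
      have hd' : W d ≠ ⊤ := fun h => hd (top_le_iff.mp (h ▸ hmono d.le_succ))
      have hlt : W d < W (d + 1) := lt_of_le_of_ne (hmono d.le_succ) fun h => hd' (hstab d h.symm)
      have := Submodule.finrank_lt_finrank_of_lt hlt
      have := ih hd'
      omega
  by_contra hne
  have h1 := hrank n hne
  have h2 : Module.finrank k (W n) < n := by
    have := Submodule.finrank_lt (s := W n) hne
    rwa [hn] at this
  omega

end Groth.Agent.S19439
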