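import Groth.Statements.S19443
import Mathlib.Tactic

set_option autoImplicit false
universe u
open LinAlg

namespace Groth.Agent.S19443

/-- Algebraic form: let G be a finite group with order invertible in the field k, ρ a linear
representation of G on a k-vector space V, and ω a nondegenerate bilinear form on V invariant under
G. Then ω restricted to the fixed subspace V^G is nondegenerate (for a finite group of symplectic
automorphisms, the fixed subspace is a symplectic subspace). -/
theorem result (k : Type u) [Field k]
    (G : Type u) [Group G] [Finite G] (hG : (Nat.card G : k) ≠ 0)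
    (V : Type u) [AddCommGroup V] [Module k V] (ρ : Representation k G V)
    (ω : LinearMap.BilinForm k V) (hω : ω.Nondegenerate)
    (hinv : ∀ (g : G) (v w : V), ω (ρ g v) (ρ g w) = ω v w) :
    (ω.restrict ρ.invariants).Nondegenerate := by
  classical
  haveI := Fintype.ofFinite G
  haveI : Invertible (Fintype.card G : k) := invertibleOfNonzero (by rwa [← Nat.card_eq_fintype_card])
  have key : ∀ (ω' : LinearMap.BilinForm k V), (∀ (g : G) (v w : V), ω' (ρ g v) (ρ g w) = ω' v w) →
      ω'.SeparatingLeft → (ω'.restrict ρ.invariants).SeparatingLeft := by
    intro ω' hinv' hsep v hv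
    refine Subtype.ext (hsep v fun w => ?_)
    have h1 : ∀ g : G, ω' (v : V) (ρ g w) = ω' v w := fun g => by
      conv_lhs => rw [show (v : V) = ρ g v from (v.2 g).symm]
      exact hinv' g v w
    have hinvw : (∑ g : G, ρ g w) ∈ ρ.invariants := fun h => by
      rw [map_sum]
      refine Fintype.sum_equiv (Equiv.mulLeft h) _ _ fun g => ?_
      simp
    have h2 := hv ⟨_, hinvw⟩
    simp only [LinearMap.BilinForm.restrict_apply, LinearMap.domRestrict_apply, map_sum, h1, Finset.sum_const,
      Finset.card_univ, nsmul_eq_mul] at h2
    exact (mul_eq_zero.mp h2).resolve_left (Invertible.ne_zero _)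
  refine ⟨key ω hinv hω.1, ?_⟩
  intro w hw
  exact key ω.flip (fun g v w => hinv g w v) (fun v hv => hω.2 v hv) w hw

end Groth.Agent.S19443
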