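import Groth.Statements.S19444
import Groth.Agent.SymTen54.Det
import Groth.Agent.SymTen54.Polar

set_option autoImplicit false
universe u
open SymTen

namespace Groth.Agent.S19444

/-- Linearised norm: let A be a commutative ring in which n! is invertible and R a commutative
A-algebra, free of rank n as an A-module. There is a unique A-algebra homomorphism from the
symmetric tensors TS^n_A(R) to A taking r ⊗ ⋯ ⊗ r to the norm of r for every r in R. (The published
corollary is stated for any free algebra of rank n; the construction printed for it divides by n!,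
and n! invertible is assumed here.) -/
theorem result (A : Type u) [CommRing A] (R : Type u) [CommRing R]
    [Algebra A R] [Module.Free A R] [Module.Finite A R] (n : ℕ) (hn : Module.finrank A R = n)
    (hfact : IsUnit ((Nat.factorial n : ℕ) : A)) :
    ∃! φ : SymTen.TS A R n →ₐ[A] A, ∀ r : R, φ (SymTen.tpow A R n r) = Algebra.norm A r := by
  classical
  rcases subsingleton_or_nontrivial A with hA | hA
  · have hsub : Subsingleton A := hA
    refine ⟨AlgHom.ofLinearMap 0 (Subsingleton.elim _ _) (fun _ _ => Subsingleton.elim _ _),
      fun r => Subsingleton.elim _ _, fun ψ _ => AlgHom.ext fun x => Subsingleton.elim _ _⟩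
  let b := Module.finBasisOfFinrankEq A R hn
  refine ⟨Groth.Agent.SymTen54.detHom b, Groth.Agent.SymTen54.detHom_tpow b, fun ψ hψ => ?_⟩
  refine AlgHom.ext fun t => ?_
  have ht := Groth.Agent.SymTen54.mem_span_tpow hfact t.2
  suffices key : ∀ x, x ∈ Submodule.span A (Set.range fun r : R => PiTensorProduct.tprod A (fun _ : Fin n => r)) →
      ∀ hx : x ∈ SymTen.TS A R n, ψ ⟨x, hx⟩ = Groth.Agent.SymTen54.detHom b ⟨x, hx⟩ from key t.1 ht t.2
  have hmem : Submodule.span A (Set.range fun r : R => PiTensorProduct.tprod A (fun _ : Fin n => r)) ≤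
      (SymTen.TS A R n).toSubmodule := by
    rw [Submodule.span_le]
    rintro _ ⟨r, rfl⟩
    exact (SymTen.tpow A R n r).2
  intro x hx
  induction hx using Submodule.span_induction with
  | mem y hy =>
    obtain ⟨r, rfl⟩ := hy
    intro h
    exact (hψ r).trans (Groth.Agent.SymTen54.detHom_tpow b r).symm
  | zero => intro h; exact (map_zero ψ).trans (map_zero (Groth.Agent.SymTen54.detHom b)).symm
  | add a c ha hc iha ihc =>
    intro h
    have e : (⟨a + c, h⟩ : SymTen.TS A R n) = ⟨a, hmem ha⟩ + ⟨c, hmem hc⟩ := rfl
    rw [e, map_add, map_add, iha, ihc]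
  | smul r a ha iha =>
    intro h
    have e : (⟨r • a, h⟩ : SymTen.TS A R n) = r • ⟨a, hmem ha⟩ := rfl
    rw [e, map_smul, map_smul, iha]

end Groth.Agent.S19444
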