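import Groth.Statements.S19447
import Groth.Agent.CAlg6.Reflection
import Groth.Agent.CAlg6.CompleteSurj
-- import your own Groth.Agent.* helpers here

set_option autoImplicit false
universe u
open ConstAct

namespace Groth.Agent.S19447

/-- Let k be an algebraically closed field, A the power series ring in n variables over k with maximal
ideal M, and G a finite group of order invertible in k acting faithfully on A by k-algebra
automorphisms, A being finite over the ring of invariants A^G. Say g is a pseudo-reflection or acts
trivially on the cotangent space when A modulo M^2 and the elements g·a − a has dimension at least n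
over k. If G is generated by such elements, then A is flat over A^G and A^G is a regular local ring:
generation by pseudo-reflections implies the other two conditions of the published criterion (only
this sufficiency half is stated; the converse implication is not part of this statement). -/
theorem result (k : Type u) [Field k]
    [IsAlgClosed k] (n : ℕ) (G : Type u) [Group G] [Finite G] [MulSemiringAction G (MvPowerSeries (Fin n) k)]
    [SMulCommClass G k (MvPowerSeries (Fin n) k)] [FaithfulSMul G (MvPowerSeries (Fin n) k)]
    (hG : (Nat.card G : k) ≠ 0)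
    [Module.Finite (ConstAct.inv k (MvPowerSeries (Fin n) k) G) (MvPowerSeries (Fin n) k)]
    (hgen : Subgroup.closure {g : G | n ≤ Module.finrank k (MvPowerSeries (Fin n) k ⧸
        (Ideal.span {x : MvPowerSeries (Fin n) k | ∃ a, x = g • a - a} ⊔
          IsLocalRing.maximalIdeal (MvPowerSeries (Fin n) k) ^ 2))} = ⊤) :
    Module.Flat (ConstAct.inv k (MvPowerSeries (Fin n) k) G) (MvPowerSeries (Fin n) k) ∧
      IsRegularLocalRing (ConstAct.inv k (MvPowerSeries (Fin n) k) G) := by
  haveI : IsRegularLocalRing (MvPowerSeries (Fin n) k) := CAlg6.isRegularLocalRing_mvPowerSeries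
  haveI : IsDomain (MvPowerSeries (Fin n) k) := NoZeroDivisors.to_isDomain _
  have hk : Function.Surjective
      (IsLocalRing.residue (MvPowerSeries (Fin n) k) ∘ algebraMap k (MvPowerSeries (Fin n) k)) := by
    intro y
    obtain ⟨f, rfl⟩ := IsLocalRing.residue_surjective y
    refine ⟨MvPowerSeries.constantCoeff f, ?_⟩
    rw [Function.comp_apply, ← sub_eq_zero, ← map_sub, IsLocalRing.residue_eq_zero_iff,
      CAlg6.mem_maximalIdeal_iff, map_sub, sub_eq_zero]
    exact MvPowerSeries.constantCoeff_C _
  have hflat : Module.Flat (ConstAct.inv k (MvPowerSeries (Fin n) k) G) (MvPowerSeries (Fin n) k) := by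
    refine CAlg6.Reflection.flat_inv hG ?_
    rw [eq_top_iff, ← hgen]
    refine Subgroup.closure_mono fun g hg => ?_
    refine CAlg6.Reflection.exists_span_singleton hk MvPowerSeries.X
      CAlg6.maximalIdeal_eq_span_X.symm g (fun h => hG ?_) hg
    obtain ⟨c, hc⟩ := orderOf_dvd_natCard g
    rw [hc, Nat.cast_mul, h, zero_mul]
  refine ⟨hflat, ?_⟩
  haveI := CAlg6.Reflection.isLocalRing_inv (k := k) (A := MvPowerSeries (Fin n) k) (G := G)
  haveI := CAlg6.Reflection.isNoetherianRing_inv (A := MvPowerSeries (Fin n) k) hG
  haveI : IsLocalHom (algebraMap (ConstAct.inv k (MvPowerSeries (Fin n) k) G)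
      (MvPowerSeries (Fin n) k)) := ⟨fun _ h => CAlg6.Reflection.isUnit_inv h⟩
  exact CAlg1.regular_of_flat _ (MvPowerSeries (Fin n) k)

end Groth.Agent.S19447
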