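import Groth.Statements.S19448
import Groth.Agent.CAlg9.Tame
import Mathlib.GroupTheory.OrderOfElement
import Mathlib.Algebra.Ring.Action.Basic

set_option autoImplicit false
universe u
open CAlg

namespace Groth.Agent.S19448

/-- Let k be a field, A a Noetherian local k-algebra with maximal ideal M and residue field k, and G a
finite group with |G| ≠ 0 in k acting on A by k-algebra automorphisms. An element of G which acts
trivially on M/M^2 acts trivially on A; in other words the stabilizer acts faithfully on the
cotangent space whenever it acts faithfully on the local ring. -/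
theorem result (k : Type u) [Field k] (A : Type u) [CommRing A]
    [Algebra k A] [IsLocalRing A] [IsNoetherianRing A]
    (hres : Function.Surjective (algebraMap k (IsLocalRing.ResidueField A)))
    (G : Type u) [Group G] [Finite G] [MulSemiringAction G A] [SMulCommClass G k A]
    (hG : (Nat.card G : k) ≠ 0) (g : G)
    (hg : ∀ a ∈ IsLocalRing.maximalIdeal A, g • a - a ∈ IsLocalRing.maximalIdeal A ^ 2) (a : A) :
    g • a = a := by
  have hu : IsUnit ((Nat.card G : ℕ) : A) := by
    rw [← map_natCast (algebraMap k A)]
    exact (isUnit_iff_ne_zero.mpr hG).map _
  have hit : ∀ (j : ℕ) (b : A), (MulSemiringAction.toRingHom G A g : A → A)^[j] b = g ^ j • b := by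
    intro j
    induction j with
    | zero => simp
    | succ j ih =>
      intro b
      rw [Function.iterate_succ_apply', ih, pow_succ', mul_smul]
      rfl
  refine Groth.Agent.CAlg9.apply_eq_self_of_iterate_eq (MulSemiringAction.toRingHom G A g)
    (Nat.card G) hu (fun b => by rw [hit, pow_card_eq_one', one_smul]) (fun b => ?_) hg a
  obtain ⟨c, hc⟩ := hres (IsLocalRing.residue A b)
  have hm : b - algebraMap k A c ∈ IsLocalRing.maximalIdeal A := by
    rw [← IsLocalRing.residue_eq_zero_iff, map_sub,
      show IsLocalRing.residue A (algebraMap k A c) = algebraMap k (IsLocalRing.ResidueField A) c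
        from rfl, hc, sub_self]
  show g • b - b ∈ _
  have e : g • b - b = g • (b - algebraMap k A c) - (b - algebraMap k A c) := by
    rw [smul_sub, smul_algebraMap]; abel
  rw [e]
  exact Ideal.pow_le_self two_ne_zero (hg _ hm)

end Groth.Agent.S19448
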