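import Groth.Statements.S19453
import Groth.Agent.S19436
import Mathlib.RingTheory.IsAdjoinRoot
import Mathlib.RingTheory.RegularLocalRing.Defs
import Mathlib.RingTheory.Ideal.Cotangent
import Mathlib.LinearAlgebra.Dimension.RankNullity
import Mathlib.RingTheory.Nakayama
import Mathlib.LinearAlgebra.FiniteDimensional.Lemmas

set_option autoImplicit false
universe u
open CAlg

namespace Groth.Agent.S19453

/-- Converse direction: let k be a field, A a regular local k-algebra of Krull dimension 2 with maximal
ideal M and residue field k, and I an ideal with A/I of finite dimension n ≥ 1 over k. If some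
element of I does not lie in M^2, then A/I is isomorphic as a k-algebra to k[x]/(x^n): a cluster
lying on a smooth curve germ of a smooth surface is curvilinear, with coordinate ring generated by
one element. -/
theorem result (k : Type u) [Field k]
    (A : Type u) [CommRing A] [Algebra k A] [IsRegularLocalRing A] (hdim : ringKrullDim A = 2)
    (hres : Function.Surjective (algebraMap k (IsLocalRing.ResidueField A)))
    (I : Ideal A) [Module.Finite k (A ⧸ I)] (n : ℕ) (hn : Module.finrank k (A ⧸ I) = n) (h1 : 1 ≤ n)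
    (g : A) (hgI : g ∈ I) (hg : g ∉ IsLocalRing.maximalIdeal A ^ 2) :
    Nonempty ((A ⧸ I) ≃ₐ[k] (Polynomial k ⧸ Ideal.span {(Polynomial.X : Polynomial k) ^ n})) := by
  classical
  have hItop : I ≠ ⊤ := by
    intro h
    have : Subsingleton (A ⧸ I) := Ideal.Quotient.subsingleton_iff.mpr h
    rw [Module.finrank_zero_of_subsingleton] at hn
    omega
  have hgm : g ∈ IsLocalRing.maximalIdeal A := IsLocalRing.le_maximalIdeal hItop hgI
  have hfr : Module.finrank (IsLocalRing.ResidueField A) (IsLocalRing.CotangentSpace A) = 2 := by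
    have h := (IsRegularLocalRing.iff_finrank_cotangentSpace A).mp inferInstance
    rw [hdim] at h
    exact_mod_cast h
  obtain ⟨v, hv⟩ := exists_linearIndependent_pair_of_one_lt_finrank
    (R := IsLocalRing.ResidueField A) (M := IsLocalRing.CotangentSpace A) (by omega)
    (x := (IsLocalRing.maximalIdeal A).toCotangent ⟨g, hgm⟩)
    (fun h => hg ((Ideal.toCotangent_eq_zero _ ⟨g, hgm⟩).mp h))
  obtain ⟨⟨h, hhm⟩, rfl⟩ := Ideal.toCotangent_surjective _ v
  have hspan : Submodule.span (IsLocalRing.ResidueField A)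
      (Set.range ![(IsLocalRing.maximalIdeal A).toCotangent ⟨g, hgm⟩,
        (IsLocalRing.maximalIdeal A).toCotangent ⟨h, hhm⟩]) = ⊤ :=
    LinearIndependent.span_eq_top_of_card_eq_finrank' hv (by simp [hfr])
  have hm : IsLocalRing.maximalIdeal A ≤ Ideal.span {g, h} := by
    refine Submodule.le_of_le_smul_of_le_jacobson_bot (IsNoetherian.noetherian _)
      (IsLocalRing.maximalIdeal_le_jacobson ⊥) fun x hx => ?_
    have hx' : (IsLocalRing.maximalIdeal A).toCotangent ⟨x, hx⟩ ∈ Submodule.span (IsLocalRing.ResidueField A)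
        (Set.range ![(IsLocalRing.maximalIdeal A).toCotangent ⟨g, hgm⟩,
          (IsLocalRing.maximalIdeal A).toCotangent ⟨h, hhm⟩]) := hspan ▸ Submodule.mem_top
    obtain ⟨c, hc⟩ := (Submodule.mem_span_range_iff_exists_fun _).mp hx'
    rw [Fin.sum_univ_two] at hc
    obtain ⟨a, ha⟩ := IsLocalRing.residue_surjective (c 0)
    obtain ⟨b, hb⟩ := IsLocalRing.residue_surjective (c 1)
    simp only [Matrix.cons_val_zero, Matrix.cons_val_one, ← ha, ← hb] at hc
    have hc' : (IsLocalRing.maximalIdeal A).toCotangent (a • ⟨g, hgm⟩ + b • ⟨h, hhm⟩) =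
        (IsLocalRing.maximalIdeal A).toCotangent ⟨x, hx⟩ := by
      rw [← hc, map_add, map_smul, map_smul]
      exact congrArg₂ (· + ·) (algebraMap_smul (IsLocalRing.ResidueField A) a _).symm
        (algebraMap_smul (IsLocalRing.ResidueField A) b _).symm
    rw [Ideal.toCotangent_eq] at hc'
    refine Submodule.mem_sup.mpr ⟨a * g + b * h, Ideal.mem_span_pair.mpr ⟨a, b, rfl⟩,
      x - (a * g + b * h), ?_, by ring⟩
    rw [smul_eq_mul, ← pow_two, ← neg_mem_iff, neg_sub]
    exact hc'
  have hpow := Groth.Agent.S19436.result k A I n hn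
  let e : Polynomial k →ₐ[k] (A ⧸ I) := Polynomial.aeval (Ideal.Quotient.mk I h)
  have key : ∀ j, ∀ a : A, ∃ p : Polynomial k,
      a - Polynomial.aeval h p ∈ I ⊔ IsLocalRing.maximalIdeal A ^ j := by
    intro j
    induction j with
    | zero => exact fun a => ⟨0, by simp⟩
    | succ j ih =>
      intro a
      obtain ⟨c, hc⟩ := hres (IsLocalRing.residue A a)
      have hac : a - algebraMap k A c ∈ IsLocalRing.maximalIdeal A := by
        rw [← IsLocalRing.residue_eq_zero_iff, map_sub,
          show IsLocalRing.residue A (algebraMap k A c) = algebraMap k (IsLocalRing.ResidueField A) c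
            from rfl, hc, sub_self]
      obtain ⟨α, β, hab⟩ := Ideal.mem_span_pair.mp (hm hac)
      obtain ⟨q, hq⟩ := ih β
      refine ⟨Polynomial.C c + Polynomial.X * q, ?_⟩
      obtain ⟨u, hu, w, hw, huw⟩ := Submodule.mem_sup.mp hq
      have e1 : a - Polynomial.aeval h (Polynomial.C c + Polynomial.X * q) =
          (α * g + h * u) + h * w := by
        simp only [map_add, map_mul, Polynomial.aeval_C, Polynomial.aeval_X]
        linear_combination -hab - h * huw
      rw [e1, pow_succ']
      exact Submodule.add_mem_sup (add_mem (I.mul_mem_left _ hgI) (I.mul_mem_left _ hu))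
        (Ideal.mul_mem_mul hhm hw)
  have hsurj : Function.Surjective e := fun x => by
    obtain ⟨a, rfl⟩ := Ideal.Quotient.mk_surjective x
    obtain ⟨p, hp⟩ := key n a
    refine ⟨p, ?_⟩
    show Polynomial.aeval (Ideal.Quotient.mkₐ k I h) p = Ideal.Quotient.mk I a
    rw [Polynomial.aeval_algHom_apply, Ideal.Quotient.mkₐ_eq_mk, eq_comm, Ideal.Quotient.eq]
    exact sup_le le_rfl hpow hp
  let q : (Polynomial k ⧸ Ideal.span {(Polynomial.X : Polynomial k) ^ n}) →ₐ[k] (A ⧸ I) :=
    Ideal.Quotient.liftₐ _ e fun p hp => by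
      obtain ⟨r, rfl⟩ := Ideal.mem_span_singleton'.mp hp
      rw [map_mul, map_pow]
      show e r * Polynomial.aeval (Ideal.Quotient.mk I h) Polynomial.X ^ n = 0
      rw [Polynomial.aeval_X, ← map_pow, Ideal.Quotient.eq_zero_iff_mem.mpr
        (hpow (Ideal.pow_mem_pow hhm n)), mul_zero]
  have hqs : Function.Surjective q := fun x => by
    obtain ⟨p, hp⟩ := hsurj x
    exact ⟨Ideal.Quotient.mk _ p, hp⟩
  have : Module.Finite k (Polynomial k ⧸ Ideal.span {(Polynomial.X : Polynomial k) ^ n}) :=
    (Polynomial.monic_X_pow n).finite_quotient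
  have hdimq : Module.finrank k (Polynomial k ⧸ Ideal.span {(Polynomial.X : Polynomial k) ^ n}) =
      Module.finrank k (A ⧸ I) := by
    rw [finrank_quotient_span_eq_natDegree' (Polynomial.monic_X_pow n), Polynomial.natDegree_X_pow, hn]
  exact ⟨(AlgEquiv.ofBijective q
    ⟨(LinearMap.injective_iff_surjective_of_finrank_eq_finrank (f := q.toLinearMap) hdimq).mpr hqs,
      hqs⟩).symm⟩

end Groth.Agent.S19453
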