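import Groth.Prelude.Def_Pic
import Groth.Prelude.Def_PicF2
import Groth.Prelude.Def_SecTwist
import Mathlib.AlgebraicGeometry.Properties
import Groth.Agent.Amp73.Gen
-- import your own Groth.Agent.* helpers here

set_option autoImplicit false
universe u
open CategoryTheory CategoryTheory.Limits AlgebraicGeometry TopologicalSpace Opposite
open PicF2
open Groth.Agent.Var76.LineBundle Groth.Agent.Var76.ZeroScheme Groth.Agent.Var76.Frames

namespace Groth.Agent.S19457

variable {X : Scheme.{u}}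

theorem ext_section {L : X.Modules} {s s' : Coh.structureModule X ⟶ L}
    (h : ∀ W : X.Opens, val L s W = val L s' W) : s = s' := by
  apply L.unitHomEquiv.injective
  ext U
  exact h U.unop

theorem exists_affine_frame {L : X.Modules} (hL : PicF.IsInvertible L) (x : X) :
    ∃ W : X.Opens, IsAffineOpen W ∧ x ∈ W ∧ ∃ e : Γ(L, W), IsFrame L W e := by
  obtain ⟨U, hxU, e, he⟩ := Mero90.exists_frame' hL x
  obtain ⟨W, hW, hxW, hWU⟩ := exists_isAffineOpen_mem_and_subset hxU
  exact ⟨W, hW, hxW, res L hWU e, he.res hWU⟩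

/-- On an integral scheme the coordinate of a nonzero section does not vanish. -/
theorem coord_ne_zero [AlgebraicGeometry.IsIntegral X] {L : X.Modules} (hL : PicF.IsInvertible L)
    {s : Coh.structureModule X ⟶ L} (hs : s ≠ 0) {W : X.Opens} (hne : (W : Set X).Nonempty) {e : Γ(L, W)}
    {c : Γ(X, W)} (hc : c • e = val L s W) : c ≠ 0 := by
  rintro rfl
  rw [zero_smul] at hc
  refine hs (ext_section fun V => ?_)
  refine eq_of_locally L _ _ fun x hx => ?_
  obtain ⟨U, hU, hxU, e', he'⟩ := exists_affine_frame hL x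
  refine ⟨U ⊓ V, inf_le_right, ⟨hxU, hx⟩, ?_⟩
  obtain ⟨d, hd⟩ := Amp73.exists_coord s (he'.res (inf_le_left : U ⊓ V ≤ U))
  obtain ⟨z, hz⟩ := nonempty_preirreducible_inter (U ⊓ V).isOpen W.isOpen ⟨x, hxU, hx⟩ hne
  have : Nonempty (((U ⊓ V) ⊓ W : X.Opens) : Scheme.{u}) := ⟨⟨z, hz⟩⟩
  have h1 : fres (inf_le_left : (U ⊓ V) ⊓ W ≤ U ⊓ V) d = 0 := by
    refine ((he'.res (inf_le_left : U ⊓ V ≤ U)) _ inf_le_left).1 ?_
    dsimp only
    rw [zero_smul, ← res_smul, hd, res_val, ← res_val L s (inf_le_right : (U ⊓ V) ⊓ W ≤ W), ← hc]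
    exact map_zero _
  have h2 : d = 0 := map_injective_of_isIntegral X (homOfLE (inf_le_left : (U ⊓ V) ⊓ W ≤ U ⊓ V))
    (h1.trans (map_zero _).symm)
  rw [res_val, res_val, ← hd, h2, zero_smul]
  rfl

/-- Multipliers of a nonzero section are unique. -/
theorem smul_val_cancel [AlgebraicGeometry.IsIntegral X] {L : X.Modules} (hL : PicF.IsInvertible L)
    {s : Coh.structureModule X ⟶ L} (hs : s ≠ 0) {V : X.Opens} {a b : Γ(X, V)}
    (h : a • val L s V = b • val L s V) : a = b := by
  choose U hU hxU e he using fun x : V => exists_affine_frame hL (x : X)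
  refine TopCat.Sheaf.eq_of_locally_eq' X.sheaf (fun x : V => V ⊓ U x) V
    (fun x => homOfLE inf_le_left) (fun y hy => Opens.mem_iSup.2 ⟨⟨y, hy⟩, hy, hxU _⟩) a b fun x => ?_
  obtain ⟨c, hc⟩ := Amp73.exists_coord s ((he x).res (inf_le_right : V ⊓ U x ≤ U x))
  have hne : ((V ⊓ U x : X.Opens) : Set X).Nonempty := ⟨x.1, x.2, hxU x⟩
  have : Nonempty ((V ⊓ U x : X.Opens) : Scheme.{u}) := ⟨⟨x.1, x.2, hxU x⟩⟩
  have h1 := congrArg (res L (inf_le_left : V ⊓ U x ≤ V)) h
  rw [res_smul, res_smul, res_val, ← hc, smul_smul, smul_smul] at h1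
  have h2 := ((he x).res (inf_le_right : V ⊓ U x ≤ U x) _ le_rfl).1
    (a₁ := fres inf_le_left a * c) (a₂ := fres inf_le_left b * c) (by
      dsimp only; rw [Amp73.res_self]; exact h1)
  have : IsDomain Γ(X, V ⊓ U x) := inferInstance
  exact @mul_right_cancel₀ Γ(X, V ⊓ U x) _ _ _ _ _ _ (coord_ne_zero hL hs hne hc) h2

theorem exists_smul_of_zeroScheme_eq [AlgebraicGeometry.IsIntegral X] {L : X.Modules}
    (hL : PicF.IsInvertible L) {s s' : Coh.structureModule X ⟶ L} (hs : s ≠ 0)
    (h : PicF2.zeroScheme L s' = PicF2.zeroScheme L s) :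
    ∃ a : Γ(X, ⊤), val L s' ⊤ = a • val L s ⊤ := by
  have hrk := isFinLocFreeOfRank_of_frames L fun x => Mero90.exists_frame' hL x
  choose U hU hxU e he using exists_affine_frame hL
  choose c hc using fun x => Amp73.exists_coord s (he x)
  choose c' hc' using fun x => Amp73.exists_coord s' (he x)
  have hu : ∀ x, ∃ a : Γ(X, U x), a * c x = c' x := fun x => by
    refine Ideal.mem_span_singleton'.1 ?_
    rw [← ideal_zeroScheme hrk ⟨U x, hU x⟩ (he x) (hc x), ← h,
      ideal_zeroScheme hrk ⟨U x, hU x⟩ (he x) (hc' x)]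
    exact Ideal.mem_span_singleton_self _
  choose a ha using hu
  have key : ∀ x, a x • val L s (U x) = val L s' (U x) := fun x => by
    rw [← hc, ← hc', smul_smul, ha]
  obtain ⟨g, hg, -⟩ := X.sheaf.existsUnique_gluing' U ⊤ (fun x => homOfLE le_top)
    (fun y _ => Opens.mem_iSup.2 ⟨y, hxU y⟩) a (fun x y => by
      refine smul_val_cancel hL hs ?_
      have h1 := congrArg (res L (inf_le_left : U x ⊓ U y ≤ U x)) (key x)
      have h2 := congrArg (res L (inf_le_right : U x ⊓ U y ≤ U y)) (key y)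
      rw [res_smul, res_val, res_val] at h1 h2
      exact h1.trans h2.symm)
  refine ⟨g, eq_of_locally L _ _ fun y _ => ⟨U y, le_top, hxU y, ?_⟩⟩
  rw [res_smul, res_val, res_val, ← key y]
  exact congrArg (· • val L s (U y)) (hg y).symm

/-- Let X be an integral scheme, L an invertible O_X-module and s, s' two nonzero global sections of L,
given as nonzero morphisms O_X → L. Then the zero schemes Z(s') and Z(s) are equal (as
quasi-coherent ideal sheaves of O_X, that is, as effective Cartier divisors) if and only if s' = h ·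
s for some unit h of the ring of global functions Γ(X, O_X). (The published statement is for an
irreducible variety over an algebraically closed field; this row states it for an arbitrary integral
scheme.) -/
theorem result (X : Scheme.{u}) [AlgebraicGeometry.IsIntegral X]
    (L : X.Modules) (hL : PicF.IsInvertible L) (s s' : Coh.structureModule X ⟶ L) (hs : s ≠ 0) (hs' : s' ≠ 0) :
    PicF2.zeroScheme L s' = PicF2.zeroScheme L s ↔
      ∃ h : Γ(X, ⊤), IsUnit h ∧ (SecTwist.val s' ⊤ : Γ(L, ⊤)) = h • (SecTwist.val s ⊤ : Γ(L, ⊤)) := by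
  show _ ↔ ∃ h : Γ(X, ⊤), IsUnit h ∧ val L s' ⊤ = h • val L s ⊤
  constructor
  · intro h
    obtain ⟨a, ha⟩ := exists_smul_of_zeroScheme_eq hL hs h
    obtain ⟨b, hb⟩ := exists_smul_of_zeroScheme_eq hL hs' h.symm
    refine ⟨a, IsUnit.of_mul_eq_one b (smul_val_cancel hL hs ?_), ha⟩
    rw [one_smul, mul_comm, mul_smul, ← ha, ← hb]
  · rintro ⟨g, hg, hgs⟩
    have hrk := isFinLocFreeOfRank_of_frames L fun x => Mero90.exists_frame' hL x
    choose U hU hxU e he using exists_affine_frame hL
    refine Scheme.IdealSheafData.ext_of_iSup_eq_top (fun x : X => (⟨U x, hU x⟩ : X.affineOpens))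
      (top_le_iff.1 fun y _ => Opens.mem_iSup.2 ⟨y, hxU y⟩) fun x => ?_
    obtain ⟨c, hc⟩ := Amp73.exists_coord s (he x)
    have hc' : (fres le_top g * c) • e x = val L s' (U x) := by
      rw [mul_smul, hc, ← res_val L s (le_top : U x ≤ ⊤), ← res_smul, ← hgs, res_val]
    rw [ideal_zeroScheme hrk ⟨U x, hU x⟩ (he x) hc', ideal_zeroScheme hrk ⟨U x, hU x⟩ (he x) hc]
    exact Ideal.span_singleton_mul_left_unit (hg.map _) c


end Groth.Agent.S19457
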