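import Groth.Statements.S19460
import Groth.Agent.Var76.RelDim
import Groth.Agent.Var76.SmoothFibre
import Mathlib.AlgebraicGeometry.Morphisms.UniversallyOpen

set_option autoImplicit false
universe u
open CategoryTheory CategoryTheory.Limits AlgebraicGeometry
open Variety

namespace Groth.Agent.S19460

open Groth.Agent.Var76
set_option backward.isDefEq.respectTransparency false

/-- Let k be an algebraically closed field, X and Y smooth irreducible varieties over k (integral,
separated, of finite type and smooth over k) of dimensions dX and dY, and f : X → Y a k-morphism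
which is smooth in the sense that at every closed point x of X the tangent map T_x X → T_{f(x)} Y is
surjective, equivalently the cotangent map m_{f(x)}/m_{f(x)}² → m_x/m_x² of the local rings is
injective. Then f is dominant, dY ≤ dX, and for every closed point y of Y in the image of f the
scheme-theoretic fibre X_y is smooth over the residue field κ(y) (which is k) and each of its
irreducible components has dimension dX − dY. (The published statement is for varieties in the
classical sense, with the fibre carrying its reduced structure, and it also identifies the tangent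
space of the fibre at each point with the kernel of the tangent map; that identification is not part
of this row.) -/
theorem result (k : Type u) [Field k] [IsAlgClosed k]
    {X Y : Scheme.{u}} (qX : X ⟶ Spec (CommRingCat.of k)) (qY : Y ⟶ Spec (CommRingCat.of k))
    [AlgebraicGeometry.IsIntegral X] [IsSeparated qX] [LocallyOfFiniteType qX] [QuasiCompact qX] [Smooth qX]
    [AlgebraicGeometry.IsIntegral Y] [IsSeparated qY] [LocallyOfFiniteType qY] [QuasiCompact qY] [Smooth qY]
    (f : X ⟶ Y) (hf : f ≫ qY = qX) (dX dY : ℕ) (hX : topologicalKrullDim ↥X = dX)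
    (hY : topologicalKrullDim ↥Y = dY)
    (hT : ∀ x : X, IsClosed ({x} : Set ↥X) → Function.Injective (FixPt.cotangentMapAt f x (f.base x) rfl)) :
    DenseRange f.base ∧ dY ≤ dX ∧
      ∀ y : Y, IsClosed ({y} : Set ↥Y) → y ∈ Set.range f.base →
        Smooth (f.fiberToSpecResidueField y) ∧
          ∀ Z ∈ irreducibleComponents ↥(f.fiber y),
            topologicalKrullDim ↥Z = ((dX - dY : ℕ) : WithBot ℕ∞) := by
  have hsm : Smooth f := (SmoothCrit.smooth_iff_cotangent qX qY f hf).2 hT
  have hdense : DenseRange f.base := by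
    have ho : IsOpen (Set.range f.base) := f.isOpenMap.isOpen_range
    exact (ho.dense (Set.range_nonempty _))
  have hle : dY ≤ dX := by
    let : X.Over (Spec (CommRingCat.of k)) := ⟨qX⟩
    let : Y.Over (Spec (CommRingCat.of k)) := ⟨qY⟩
    have hqX : LocallyOfFiniteType (X ↘ Spec (CommRingCat.of k)) := ‹LocallyOfFiniteType qX›
    have hqY : LocallyOfFiniteType (Y ↘ Spec (CommRingCat.of k)) := ‹LocallyOfFiniteType qY›
    obtain ⟨V, hV, hxV, -⟩ := exists_isAffineOpen_mem_and_subset (U := (⊤ : Y.Opens)) (x := f (genericPoint X)) trivial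
    obtain ⟨W, hW, hxW, e'⟩ := exists_isAffineOpen_mem_and_subset (show genericPoint X ∈ f ⁻¹ᵁ V from hxV)
    have e : W ≤ f ⁻¹ᵁ V := e'
    have : Nonempty W := ⟨⟨_, hxW⟩⟩
    have : Nonempty V := ⟨⟨_, hxV⟩⟩
    let : Algebra k Γ(Y, V) := (BertiniScheme.const (k := k) Y V).toAlgebra
    let : Algebra k Γ(X, W) := (BertiniScheme.const (k := k) X W).toAlgebra
    let : Algebra Γ(Y, V) Γ(X, W) := (f.appLE V W e).hom.toAlgebra
    have : IsScalarTower k Γ(Y, V) Γ(X, W) := IsScalarTower.of_algebraMap_eq fun r => by
      show qX.appLE ⊤ W (le_top : W ≤ qX ⁻¹ᵁ ⊤) ((Scheme.ΓSpecIso (CommRingCat.of k)).inv r) =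
        f.appLE V W e (qY.appLE ⊤ V (le_top : V ≤ qY ⁻¹ᵁ ⊤) ((Scheme.ΓSpecIso (CommRingCat.of k)).inv r))
      rw [← ConcreteCategory.comp_apply (qY.appLE ⊤ V _), Scheme.Hom.appLE_comp_appLE]
      simp only [hf]
    have : Algebra.Smooth Γ(Y, V) Γ(X, W) :=
      RingHom.smooth_algebraMap.1 (HasRingHomProperty.appLE @Smooth f hsm ⟨V, hV⟩ ⟨W, hW⟩ e)
    have := VarDim.finiteType_const (k := k) (X := Y) hV
    have : IsNoetherianRing Γ(Y, V) := Algebra.FiniteType.isNoetherianRing k _
    have h := trdeg_le_of_injective (IsScalarTower.toAlgHom k Γ(Y, V) Γ(X, W)) RelDim.injective_of_flat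
    rw [(VarDim.trdeg_chart (k := k) hV).1, (VarDim.trdeg_chart (k := k) hW).1,
      VarDim.trdegFF_eq (k := k) hY, VarDim.trdegFF_eq (k := k) hX, Nat.cast_le] at h
    exact h
  refine ⟨hdense, hle, fun y hy hrange => ⟨?_, fun Z hZ => ?_⟩⟩
  · exact MorphismProperty.pullback_snd _ _ hsm
  · have : SmoothOfRelativeDimension (dX - dY) f :=
      RelDim.smoothOfRelativeDimension qX qY f hf dY (dX - dY) hY (by rw [Nat.add_sub_cancel' hle]; exact hX)
    have := smoothOfRelativeDimension_isStableUnderBaseChange (dX - dY)
    have : SmoothOfRelativeDimension (dX - dY) (f.fiberToSpecResidueField y) :=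
      MorphismProperty.pullback_snd (P := @SmoothOfRelativeDimension (dX - dY)) _ _ ‹_›
    exact SmoothFibre.dim_component (f.fiberToSpecResidueField y) (dX - dY) Z hZ

end Groth.Agent.S19460
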