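import Groth.Statements.S19461
import Mathlib.RingTheory.AdicCompletion.LocalRing
import Mathlib.RingTheory.AdicCompletion.AsTensorProduct
import Mathlib.RingTheory.Flat.FaithfullyFlat.Algebra
import Mathlib.RingTheory.Flat.Tensor
import Mathlib.RingTheory.Flat.Stability
import Mathlib.RingTheory.Nakayama

set_option autoImplicit false
universe u
open CAlg

namespace Groth.Agent.S19461

/-- The implication from isomorphic completions to flat and unramified. Let A → B be a local
homomorphism of Noetherian local rings and ψ a ring map from the completion of A at its maximal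
ideal to that of B whose composite with A → A^ is A → B → B^. If ψ is bijective, then A → B is flat
and the maximal ideal of A generates the maximal ideal of B. (The published statement is the
implication, for a morphism of algebraic varieties over an algebraically closed field, from
isomorphic induced maps of completed local rings at every point to flat and unramified; its proof is
this local-ring argument, valid for any Noetherian local rings. The converse implication is a
separate result.) -/
theorem result (A B : Type u) [CommRing A]
    [CommRing B] [IsLocalRing A] [IsLocalRing B] [IsNoetherianRing A] [IsNoetherianRing B]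
    [Algebra A B] [IsLocalHom (algebraMap A B)]
    (ψ : AdicCompletion (IsLocalRing.maximalIdeal A) A →+* AdicCompletion (IsLocalRing.maximalIdeal B) B)
    (hψ : ψ.comp (algebraMap A (AdicCompletion (IsLocalRing.maximalIdeal A) A)) =
      (algebraMap B (AdicCompletion (IsLocalRing.maximalIdeal B) B)).comp (algebraMap A B))
    (hbij : Function.Bijective ψ) :
    Module.Flat A B ∧
      Ideal.map (algebraMap A B) (IsLocalRing.maximalIdeal A) = IsLocalRing.maximalIdeal B := by
  let B' := AdicCompletion (IsLocalRing.maximalIdeal B) B
  constructor
  · have hff : Module.FaithfullyFlat B B' := Module.FaithfullyFlat.of_flat_of_isLocalHom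
    have hψ' : ∀ a, ψ (algebraMap A _ a) = algebraMap B B' (algebraMap A B a) := fun a =>
      RingHom.congr_fun hψ a
    let e : AdicCompletion (IsLocalRing.maximalIdeal A) A →ₗ[A] B' :=
      { toFun := ψ
        map_add' := map_add ψ
        map_smul' := fun a x => by
          rw [Algebra.smul_def, map_mul, hψ', RingHom.id_apply, ← IsScalarTower.algebraMap_apply,
            Algebra.smul_def] }
    have : Module.Flat A B' := Module.Flat.of_linearEquiv (LinearEquiv.ofBijective e hbij).symm
    rw [Module.Flat.iff_lTensor_injective']
    intro J
    let ι : B →ₗ[A] B' := (IsScalarTower.toAlgHom A B B').toLinearMap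
    have h1 : Function.Injective (ι.rTensor J) := by
      have h2 := Module.FaithfullyFlat.tensorProduct_mk_injective (A := B) (B := B') (TensorProduct A B J)
      have h3 : ∀ t, ι.rTensor J t =
          TensorProduct.AlgebraTensorModule.cancelBaseChange A B B B' J (1 ⊗ₜ t) := by
        intro t
        induction t with
        | zero => simp
        | tmul b j => simp [ι, ← Algebra.algebraMap_eq_smul_one]
        | add x y hx hy => rw [map_add, TensorProduct.tmul_add, map_add, hx, hy]
      intro s t hst
      rw [h3, h3] at hst
      exact h2 ((LinearEquiv.injective _) hst)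
    have h4 := Module.Flat.lTensor_preserves_injective_linearMap (M := B') J.subtype J.injective_subtype
    have h5 : LinearMap.lTensor B' J.subtype ∘ₗ LinearMap.rTensor J ι =
        LinearMap.rTensor A ι ∘ₗ LinearMap.lTensor B J.subtype := by
      rw [LinearMap.lTensor_comp_rTensor, LinearMap.rTensor_comp_lTensor]
    intro s t hst
    apply h1
    apply h4
    have h6 := LinearMap.congr_fun h5
    simp only [LinearMap.comp_apply] at h6
    rw [h6, h6, hst]
  · have hmn : (IsLocalRing.maximalIdeal A).map (algebraMap A B) ≤ (IsLocalRing.maximalIdeal B) := by
      rw [Ideal.map_le_iff_le_comap]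
      exact fun a ha => map_nonunit (algebraMap A B) a ha
    refine le_antisymm hmn ?_
    have hmap : ((IsLocalRing.maximalIdeal A).map (algebraMap A B)).map (algebraMap B B') = IsLocalRing.maximalIdeal B' := by
      rw [Ideal.map_map, ← hψ, ← Ideal.map_map, ← AdicCompletion.maximalIdeal_eq_map]
      exact IsLocalRing.map_maximalIdeal_of_surjective ψ hbij.2
    have hle : (IsLocalRing.maximalIdeal B) ≤ (IsLocalRing.maximalIdeal A).map (algebraMap A B) ⊔ (IsLocalRing.maximalIdeal B) ^ 2 := by
      intro b hb
      have hb' : algebraMap B B' b ∈ ((IsLocalRing.maximalIdeal A).map (algebraMap A B)).map (algebraMap B B') := by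
        rw [hmap, AdicCompletion.maximalIdeal_eq_map]
        exact Ideal.mem_map_of_mem _ hb
      have := Ideal.mem_map_of_mem (AdicCompletion.evalₐ (IsLocalRing.maximalIdeal B) 2).toRingHom hb'
      rw [Ideal.map_map, show (AdicCompletion.evalₐ (IsLocalRing.maximalIdeal B) 2).toRingHom.comp (algebraMap B B') =
        Ideal.Quotient.mk ((IsLocalRing.maximalIdeal B) ^ 2) from (AdicCompletion.evalₐ (IsLocalRing.maximalIdeal B) 2).comp_algebraMap] at this
      have h7 : (AdicCompletion.evalₐ (IsLocalRing.maximalIdeal B) 2).toRingHom (algebraMap B B' b) = Ideal.Quotient.mk ((IsLocalRing.maximalIdeal B) ^ 2) b :=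
        (AdicCompletion.evalₐ (IsLocalRing.maximalIdeal B) 2).commutes b
      rw [h7] at this
      have h8 : b ∈ (((IsLocalRing.maximalIdeal A).map (algebraMap A B)).map (Ideal.Quotient.mk ((IsLocalRing.maximalIdeal B) ^ 2))).comap
          (Ideal.Quotient.mk ((IsLocalRing.maximalIdeal B) ^ 2)) := this
      rwa [Ideal.comap_map_quotientMk, sup_comm] at h8
    refine Submodule.le_of_le_smul_of_le_jacobson_bot (IsNoetherian.noetherian (IsLocalRing.maximalIdeal B))
      (IsLocalRing.maximalIdeal_le_jacobson ⊥) ?_
    rwa [smul_eq_mul, ← pow_two]

end Groth.Agent.S19461
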