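import Groth.Statements.S19462
import Mathlib
-- import your own Groth.Agent.* helpers here

set_option autoImplicit false
universe u
open GrNak

namespace Groth.Agent.S19462

/-- Let k be a field and R a commutative ℤ-graded k-algebra whose pieces of negative degree vanish and
whose degree-zero piece is the image of k, and let M be a finitely generated ℤ-graded R-module,
graded compatibly with R. Then M is a projective R-module if and only if M has an R-basis consisting
of homogeneous elements, i.e. M is a free graded module. (The published statement takes R a graded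
quotient of a polynomial ring k[x_0, …, x_n] with its standard grading; stated here for any
commutative graded k-algebra concentrated in non-negative degrees with degree-zero part k, to which
the same graded-Nakayama argument applies.) -/
theorem result {k : Type u} [Field k] {R : Type u} [CommRing R] [Algebra k R]
    {σ : Type u} [SetLike σ R] [AddSubmonoidClass σ R] (𝒜 : ℤ → σ) [GradedRing 𝒜]
    (hneg : ∀ i : ℤ, i < 0 → ∀ x ∈ 𝒜 i, x = 0)
    (hk : ∀ c : k, algebraMap k R c ∈ 𝒜 0) (h0 : ∀ x ∈ 𝒜 0, ∃ c : k, algebraMap k R c = x)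
    {M : Type u} [AddCommGroup M] [Module R M] [Module.Finite R M]
    {τ : Type u} [SetLike τ M] [AddSubmonoidClass τ M] (ℳ : ℤ → τ) [DirectSum.Decomposition ℳ]
    [SetLike.GradedSMul 𝒜 ℳ] :
    Module.Projective R M ↔
      ∃ (ι : Type u) (b : Module.Basis ι R M), ∀ i : ι, SetLike.IsHomogeneousElem ℳ (b i) := by
  classical
  constructor
  swap
  · rintro ⟨ι, b, -⟩
    exact Module.Projective.of_basis b
  intro hproj
  rcases subsingleton_or_nontrivial R with hR | hR
  · haveI : Subsingleton M := Module.subsingleton R M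
    exact ⟨PEmpty, Module.Basis.empty M, fun i => i.elim⟩
  let P : Ideal R := Ideal.span {a : R | ∃ d : ℤ, 0 < d ∧ a ∈ 𝒜 d}
  -- components of products below the bottom degree
  have hbelow : ∀ (r x : R) (j : ℤ), (∀ i < j, (DirectSum.decompose 𝒜 x i : R) = 0) →
      ∀ i < j, (DirectSum.decompose 𝒜 (r * x) i : R) = 0 := fun r x j hx i hi => by
    rw [← DirectSum.sum_support_decompose 𝒜 r, Finset.sum_mul, DirectSum.decompose_sum,
      DFinsupp.finsetSum_apply, AddSubmonoidClass.coe_finsetSum]
    refine Finset.sum_eq_zero fun l _ => ?_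
    rcases lt_or_ge l 0 with h | h
    · rw [hneg l h _ (DirectSum.decompose 𝒜 r l).2, zero_mul]; simp
    · rw [show i = l + (i - l) from by ring,
        DirectSum.coe_decompose_mul_add_of_left_mem 𝒜 (DirectSum.decompose 𝒜 r l).2, hx _ (by omega), mul_zero]
  have hlow : ∀ a ∈ P, ∀ (x : R) (j : ℤ), (∀ i < j, (DirectSum.decompose 𝒜 x i : R) = 0) →
      (DirectSum.decompose 𝒜 (a * x) j : R) = 0 := fun a ha => by
    induction ha using Submodule.span_induction with
    | mem p hp =>
      obtain ⟨d, hd, hp⟩ := hp
      intro x j hx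
      rw [show j = d + (j - d) from by ring, DirectSum.coe_decompose_mul_add_of_left_mem 𝒜 hp, hx _ (by omega), mul_zero]
    | zero => simp
    | add p q _ _ hp hq =>
      intro x j hx
      rw [add_mul, DirectSum.decompose_add, DirectSum.add_apply, AddMemClass.coe_add, hp x j hx, hq x j hx, add_zero]
    | smul r p _ hp =>
      intro x j hx
      rw [smul_eq_mul, mul_comm r p, mul_assoc]
      exact hp _ j (hbelow r x j hx)
  have hmemP : ∀ a : R, (DirectSum.decompose 𝒜 a 0 : R) = 0 → a ∈ P := fun a ha => by
    rw [← DirectSum.sum_support_decompose 𝒜 a]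
    refine Submodule.sum_mem _ fun i _ => ?_
    rcases lt_trichotomy i 0 with h | h | h
    · rw [hneg i h _ (DirectSum.decompose 𝒜 a i).2]; exact P.zero_mem
    · rw [h, ha]; exact P.zero_mem
    · exact Ideal.subset_span ⟨i, h, (DirectSum.decompose 𝒜 a i).2⟩
  -- a minimal homogeneous generating set
  have hex : ∃ n : ℕ, ∃ s : Finset M, s.card = n ∧ (∀ x ∈ s, ∃ d, x ∈ ℳ d) ∧ Submodule.span R (s : Set M) = ⊤ := by
    obtain ⟨t, ht⟩ := Module.Finite.fg_top (R := R) (M := M)
    let s : Finset M := t.biUnion fun x => (DirectSum.decompose ℳ x).support.image fun d => (DirectSum.decompose ℳ x d : M)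
    refine ⟨_, s, rfl, fun x hx => ?_, ?_⟩
    · obtain ⟨y, -, hy⟩ := Finset.mem_biUnion.1 hx
      obtain ⟨d, -, rfl⟩ := Finset.mem_image.1 hy
      exact ⟨d, (DirectSum.decompose ℳ y d).2⟩
    · rw [eq_top_iff, ← ht, Submodule.span_le]
      intro x hx
      rw [SetLike.mem_coe, ← DirectSum.sum_support_decompose ℳ x]
      exact Submodule.sum_mem _ fun d hd =>
        Submodule.subset_span (Finset.mem_biUnion.2 ⟨x, hx, Finset.mem_image.2 ⟨d, hd, rfl⟩⟩)
  obtain ⟨s, hcard, hhom, hspan⟩ := Nat.find_spec hex
  choose dg hdg using fun x : {x // x ∈ s} => hhom x.1 x.2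
  let π : ({x // x ∈ s} → R) →ₗ[R] M := Fintype.linearCombination R fun x => x.1
  have hπ : Function.Surjective π := by
    rw [← LinearMap.range_eq_top, Fintype.range_linearCombination]
    rw [← hspan]
    congr 1
    ext y
    simp
  have hsmul : ∀ (r : R) (y : {x // x ∈ s}) (e : ℤ),
      (DirectSum.decompose ℳ (r • y.1) e : M) = (DirectSum.decompose 𝒜 r (e - dg y) : R) • y.1 := fun r y e => by
    conv_lhs => rw [← DirectSum.sum_support_decompose 𝒜 r, Finset.sum_smul, DirectSum.decompose_sum,
      DFinsupp.finsetSum_apply, AddSubmonoidClass.coe_finsetSum]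
    rw [Finset.sum_eq_single (e - dg y)]
    · refine DirectSum.decompose_of_mem_same ℳ ?_
      have := SetLike.GradedSMul.smul_mem (A := 𝒜) (B := ℳ) (DirectSum.decompose 𝒜 r (e - dg y)).2 (hdg y)
      rwa [vadd_eq_add, sub_add_cancel] at this
    · intro i _ hi
      refine DirectSum.decompose_of_mem_ne ℳ (SetLike.GradedSMul.smul_mem (DirectSum.decompose 𝒜 r i).2 (hdg y)) ?_
      rw [vadd_eq_add]
      omega
    · intro h
      rw [DFinsupp.notMem_support_iff.1 h, ZeroMemClass.coe_zero, zero_smul]
      simp
  have hker : ∀ v, π v = 0 → ∀ x, v x ∈ P := fun v hv x => by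
    refine hmemP _ ?_
    obtain ⟨c, hc⟩ := h0 _ (DirectSum.decompose 𝒜 (v x) 0).2
    by_contra hne
    have hc0 : c ≠ 0 := fun h => hne (by rw [← hc, h, map_zero])
    have h1 := congrArg (fun m => (DirectSum.decompose ℳ m (dg x) : M)) hv
    simp only [π, Fintype.linearCombination_apply, DirectSum.decompose_zero, DirectSum.zero_apply, ZeroMemClass.coe_zero] at h1
    rw [DirectSum.decompose_sum, DFinsupp.finsetSum_apply, AddSubmonoidClass.coe_finsetSum] at h1
    simp only [hsmul] at h1
    rw [← Finset.add_sum_erase _ _ (Finset.mem_univ x), sub_self, ← hc] at h1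
    have hmem : x.1 ∈ Submodule.span R (((s.erase x.1) : Finset M) : Set M) := by
      have h2 : algebraMap k R c • x.1 ∈ Submodule.span R (((s.erase x.1) : Finset M) : Set M) := by
        rw [eq_neg_of_add_eq_zero_left h1]
        exact Submodule.neg_mem _ (Submodule.sum_mem _ fun y hy => Submodule.smul_mem _ _ (Submodule.subset_span
          (Finset.mem_coe.2 (Finset.mem_erase.2 ⟨fun e => Finset.ne_of_mem_erase hy (Subtype.ext e), y.2⟩))))
      have h3 := Submodule.smul_mem _ (algebraMap k R c⁻¹) h2
      rwa [smul_smul, ← map_mul, inv_mul_cancel₀ hc0, map_one, one_smul] at h3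
    refine Nat.find_min hex (m := (s.erase x.1).card) (by rw [← hcard]; exact Finset.card_lt_card (Finset.erase_ssubset x.2))
      ⟨_, rfl, fun y hy => hhom y (Finset.mem_of_mem_erase hy), ?_⟩
    rw [eq_top_iff, ← hspan, Submodule.span_le]
    intro y hy
    by_cases h : y = x.1
    · exact h ▸ hmem
    · exact Submodule.subset_span (Finset.mem_coe.2 (Finset.mem_erase.2 ⟨h, hy⟩))
  -- the kernel of a split surjection
  obtain ⟨sec, hsec⟩ := Module.projective_lifting_property π LinearMap.id hπ
  let e : ({x // x ∈ s} → R) →ₗ[R] LinearMap.ker π :=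
    LinearMap.codRestrict _ (LinearMap.id - sec ∘ₗ π) fun v => by
      simp [show π (sec (π v)) = π v from LinearMap.congr_fun hsec (π v)]
  have he : ∀ v : LinearMap.ker π, e v.1 = v := fun v => Subtype.ext (by
    simp [e, show π v.1 = 0 from v.2])
  have hle : (⊤ : Submodule R (LinearMap.ker π)) ≤ P • ⊤ := fun v _ => by
    rw [← he v, ← (Pi.basisFun R {x // x ∈ s}).sum_repr v.1, map_sum]
    refine Submodule.sum_mem _ fun x _ => ?_
    rw [map_smul, Pi.basisFun_repr]
    exact Submodule.smul_mem_smul (hker v.1 v.2 x) Submodule.mem_top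
  haveI : Module.Finite R (LinearMap.ker π) := Module.Finite.of_surjective e fun v => ⟨v.1, he v⟩
  obtain ⟨r, hr, hr0⟩ :=
    Submodule.exists_sub_one_mem_and_smul_eq_zero_of_fg_of_le_smul P ⊤ Module.Finite.fg_top hle
  have hreg : ∀ x : R, r * x = 0 → x = 0 := fun x hx => by
    by_contra hne
    have hS : (DirectSum.decompose 𝒜 x).support.Nonempty := by
      by_contra h
      rw [Finset.not_nonempty_iff_eq_empty] at h
      exact hne (by rw [← DirectSum.sum_support_decompose 𝒜 x, h, Finset.sum_empty])
    set j := (DirectSum.decompose 𝒜 x).support.min' hS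
    have hb : ∀ i < j, (DirectSum.decompose 𝒜 x i : R) = 0 := fun i hi => by
      rw [DFinsupp.notMem_support_iff.1 fun h => absurd (Finset.min'_le _ i h) (not_le.2 hi), ZeroMemClass.coe_zero]
    have h1 := hlow _ hr x j hb
    have h2 := congrArg (fun y => (DirectSum.decompose 𝒜 y j : R)) (show (r - 1) * x + x = 0 by rw [sub_mul, one_mul, sub_add_cancel, hx])
    simp only [DirectSum.decompose_add, DirectSum.add_apply, AddMemClass.coe_add, h1, zero_add,
      DirectSum.decompose_zero, DirectSum.zero_apply, ZeroMemClass.coe_zero] at h2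
    exact (DFinsupp.mem_support_iff.1 (Finset.min'_mem _ hS)) (Subtype.ext h2)
  have hbij : Function.Bijective π := ⟨LinearMap.ker_eq_bot.1 (eq_bot_iff.2 fun v hv => funext fun x =>
    hreg _ (congrFun (congrArg Subtype.val (hr0 ⟨v, hv⟩ Submodule.mem_top)) x)), hπ⟩
  refine ⟨_, (Pi.basisFun R {x // x ∈ s}).map (LinearEquiv.ofBijective π hbij), fun x => ⟨dg x, ?_⟩⟩
  simpa [π, Fintype.linearCombination_apply, Pi.single_apply] using hdg x

end Groth.Agent.S19462
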