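import Groth.Statements.S19465
import Groth.Agent.AlgGrp79.Unram

set_option autoImplicit false
universe u
open CategoryTheory CategoryTheory.Limits MonoidalCategory CartesianMonoidalCategory MonObj GrpObj AlgebraicGeometry
open AlgGrp

namespace Groth.Agent.S19465
open Groth.Agent.AlgGrp79 CategoryTheory.Limits

/-- Let S be a scheme and G an S-group scheme whose structure morphism G → S is locally of finite type.
Then G → S is an isomorphism (G is the trivial group scheme over S) if and only if every fibre G_s →
Spec κ(s), s ∈ S, is an isomorphism. -/
theorem result (S : Scheme.{u}) (G : Over S)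
    [GrpObj G] [LocallyOfFiniteType G.hom] :
    IsIso G.hom ↔ ∀ s : S, IsIso (G.hom.fiberToSpecResidueField s) := by
  constructor
  · intro h s
    exact inferInstanceAs (IsIso (pullback.snd G.hom (S.fromSpecResidueField s)))
  · intro h
    have : FormallyUnramified G.hom := formallyUnramified_of_fiberToSpecResidueField _ fun y => by
      have := h y; infer_instance
    have : UniversallyInjective G.hom := universallyInjective_of_fiber_mono _ fun y => by
      have := h y; infer_instance
    have : Surjective (pullback.diagonal G.hom) := (UniversallyInjective.iff_diagonal _).1 ‹_›
    have : IsIso (pullback.diagonal G.hom) := by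
      rw [isIso_iff_isOpenImmersion_and_epi_base]
      exact ⟨inferInstance, (TopCat.epi_iff_surjective _).2 (Scheme.Hom.surjective _)⟩
    have : Mono G.hom := (pullback.isIso_diagonal_iff _).1 ‹_›
    exact ⟨⟨η[G].left, by rw [← cancel_mono G.hom, Category.assoc, Over.w, Category.id_comp]; exact Category.comp_id _,
      Over.w η[G]⟩⟩
end Groth.Agent.S19465
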