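import Groth.Statements.S1947
import Groth.Agent.Cyc90.Dev.K0Killed
import Groth.Agent.KCohDev46.Main
open Groth.Agent.Cyc90.Dev
open CategoryTheory CategoryTheory.Limits AlgebraicGeometry

set_option autoImplicit false
universe u
open CategoryTheory AlgebraicGeometry
open Cyc

namespace Groth.Agent.S1947

/-- Let X be locally Noetherian and i : Z → X a closed immersion. Pushforward of coherent modules along
i induces an isomorphism K_0(Coh(Z)) → K_0(Coh_Z(X)), where Coh_Z(X) consists of those coherent
O_X-modules supported inside (the image of) Z. Here K_0 of a full subcategory of the abelian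
category of O-modules is the shared prelude's KZero.K0sub (free abelian group on the objects modulo
the relations of short exact sequences with all terms in the subcategory), and the isomorphism is
asserted to exist compatibly with classes of objects. -/
theorem result (X Z : Scheme.{u}) [IsLocallyNoetherian X] (i : Z ⟶ X) [IsClosedImmersion i] : ∃ φ : KZero.K0sub (fun F : Z.Modules => Coh.IsCoh F) ≃+ KZero.K0sub (fun G : X.Modules => Coh.IsCoh G ∧ ∀ x : X, Nontrivial (G.presheaf.stalk x) → x ∈ Set.range ⇑i), ∀ F : Z.Modules, Coh.IsCoh F → φ (KZero.clSub (fun F : Z.Modules => Coh.IsCoh F) F) = KZero.clSub (fun G : X.Modules => Coh.IsCoh G ∧ ∀ x : X, Nontrivial (G.presheaf.stalk x) → x ∈ Set.range ⇑i) ((Coh.push i).obj F) := by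
  classical
  have : IsLocallyNoetherian Z := LocallyOfFiniteType.isLocallyNoetherian i
  let PZ : ObjectProperty Z.Modules := fun F => Coh.IsCoh F
  let PX : ObjectProperty X.Modules := fun G => Coh.IsCoh G ∧ ∀ x : X, Nontrivial (G.presheaf.stalk x) → x ∈ Set.range ⇑i
  have hpush : ∀ F : Z.Modules, Coh.IsCoh F → Killed i ((Coh.push i).obj F) := fun F hF => by
    have hc : Coh.IsCoh ((Scheme.Modules.pushforward i).obj F) := QC70.isCoh_pushforward i F hF
    have := hc.1
    exact ⟨hc, killedSt_of_isKilled i (GSS45.Descend.isKilled_pushforward i F)⟩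
  have := GSS45.ClosedHom.preservesFiniteLimits_pushforward i
  have := GSS45.ClosedHom.preservesFiniteColimits_pushforward i
  let φ : KZero.K0sub PZ →+ KZero.K0sub PX :=
    QuotientAddGroup.lift _ (FreeAbelianGroup.lift fun F => KZero.clSub PX ((Coh.push i).obj F.1)) (by
      refine (AddSubgroup.closure_le _).2 ?_
      rintro _ ⟨S, h1, h2, h3, hS, rfl⟩
      rw [SetLike.mem_coe, AddMonoidHom.mem_ker, map_sub, map_sub, FreeAbelianGroup.lift_apply_of,
        FreeAbelianGroup.lift_apply_of, FreeAbelianGroup.lift_apply_of]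
      have := KCohDev46.clSub_add PX (S.map (Scheme.Modules.pushforward i)) (hS.map_of_exact _)
        ((hpush _ h1).inSupp i) ((hpush _ h2).inSupp i) ((hpush _ h3).inSupp i)
      change KZero.clSub PX ((Coh.push i).obj S.X₂) = KZero.clSub PX ((Coh.push i).obj S.X₁) + KZero.clSub PX ((Coh.push i).obj S.X₃) at this
      rw [this]
      abel)
  have hφ : ∀ F : Z.Modules, Coh.IsCoh F → φ (KZero.clSub PZ F) = KZero.clSub PX ((Coh.push i).obj F) := by
    intro F hF
    rw [KCohDev46.clSub_eq PZ hF]
    exact FreeAbelianGroup.lift_apply_of _ _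
  let τ : X.Modules → KZero.K0sub PZ := fun G => KZero.clSub PZ ((Scheme.Modules.pullback i).obj G)
  have hpull : ∀ G : X.Modules, Killed i G → PZ ((Scheme.Modules.pullback i).obj G) := fun G h =>
    ZClos93.isCoh_pullback i G h.1
  have hτ : IsAddFn (Killed i) τ := by
    intro S hS h1 h2 h3
    obtain ⟨T, hT, e1, e2, e3⟩ := exists_pullback_shortExact hS h1 h2 h3
    have := KCohDev46.clSub_add PZ T hT (e1 ▸ hpull _ h1) (e2 ▸ hpull _ h2) (e3 ▸ hpull _ h3)
    rw [e1, e2, e3] at this
    exact this
  have hg := isAddFn_adicGr hτ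
  let ψ : KZero.K0sub PX →+ KZero.K0sub PZ :=
    QuotientAddGroup.lift _ (FreeAbelianGroup.lift fun G => τ (adicGr i G.1)) (by
      refine (AddSubgroup.closure_le _).2 ?_
      rintro _ ⟨S, h1, h2, h3, hS, rfl⟩
      rw [SetLike.mem_coe, AddMonoidHom.mem_ker, map_sub, map_sub, FreeAbelianGroup.lift_apply_of,
        FreeAbelianGroup.lift_apply_of, FreeAbelianGroup.lift_apply_of]
      have := hg S hS h1 h2 h3
      simp only at this
      rw [this]
      abel)
  have hψ : ∀ G : X.Modules, InSupp i G → ψ (KZero.clSub PX G) = τ (adicGr i G) := by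
    intro G hG
    rw [KCohDev46.clSub_eq PX hG]
    exact FreeAbelianGroup.lift_apply_of _ _
  have hclX : IsAddFn (InSupp i) (KZero.clSub PX) := fun S hS h1 h2 h3 =>
    KCohDev46.clSub_add PX S hS h1 h2 h3
  have hclZ : ∀ {A B : Z.Modules}, (A ≅ B) → Coh.IsCoh A → KZero.clSub PZ A = KZero.clSub PZ B := by
    intro A B e hA
    obtain ⟨O, hO⟩ := HasZeroObject.zero (C := Z.Modules)
    have hS : (ShortComplex.mk e.hom (0 : B ⟶ O) comp_zero).ShortExact :=
      ShortComplex.Splitting.shortExact
        { r := e.inv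
          s := 0
          f_r := e.hom_inv_id
          s_g := hO.eq_of_src _ _
          id := by simp }
    have hS0 : (ShortComplex.mk (𝟙 O) (0 : O ⟶ O) comp_zero).ShortExact :=
      ShortComplex.Splitting.shortExact
        { r := 𝟙 O
          s := 0
          f_r := hO.eq_of_src _ _
          s_g := hO.eq_of_src _ _
          id := hO.eq_of_src _ _ }
    have hOc : PZ O := QC70.isCoh_of_isZero hO
    have e0 : KZero.clSub PZ O = 0 := left_eq_add.1 (KCohDev46.clSub_add PZ _ hS0 hOc hOc hOc)
    have e1 := KCohDev46.clSub_add PZ _ hS hA (QC70.isCoh_of_iso e hA) hOc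
    simp only at e1
    rw [e1, e0, add_zero]
  have hψφ : ∀ c, ψ (φ c) = c := by
    suffices h : ψ.comp φ = AddMonoidHom.id _ from fun c => DFunLike.congr_fun h c
    refine QuotientAddGroup.addMonoidHom_ext _ (FreeAbelianGroup.lift.symm.injective ?_)
    funext ⟨F, hF⟩
    have key : ψ (φ (KZero.clSub PZ F)) = KZero.clSub PZ F := by
      rw [hφ F hF, hψ _ ((hpush F hF).inSupp i),
        ← hτ.eq_adicGr (goodClass_killed i) ((hpush F hF).inSupp i) (hpush F hF)]
      exact hclZ ((GSS45.ClosedHom.counitIso i).app F) (hpull _ (hpush F hF))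
    rw [KCohDev46.clSub_eq PZ hF] at key
    exact key
  have hφψ : ∀ c, φ (ψ c) = c := by
    suffices h : φ.comp ψ = AddMonoidHom.id _ from fun c => DFunLike.congr_fun h c
    refine QuotientAddGroup.addMonoidHom_ext _ (FreeAbelianGroup.lift.symm.injective ?_)
    funext ⟨G, hG⟩
    have key : φ (ψ (KZero.clSub PX G)) = KZero.clSub PX G := by
      have hk := killed_adicGr (i := i) hG
      rw [hψ G hG, hφ _ (hpull _ hk), hclX.eq_adicGr (goodClass_inSupp i) (i := i) hG hG]
      exact hclX.eq_of_iso (goodClass_inSupp i)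
        (GSS45.ClosedHom.pullPushIso i (isKilled_of_killedSt i hk.2))
        ((hpush _ (hpull _ hk)).inSupp i)
    rw [KCohDev46.clSub_eq PX hG] at key
    exact key
  exact ⟨{ φ with invFun := ψ, left_inv := hψφ, right_inv := hφψ }, hφ⟩

end Groth.Agent.S1947
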