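import Groth.Statements.S19474
import Groth.Agent.CAlg1.Complete
import Groth.Agent.CAlg1.Regular
import Groth.Agent.CAlg1.Serre
import Mathlib.RingTheory.AdicCompletion.AsTensorProduct

set_option autoImplicit false
universe u
open CAlg

namespace Groth.Agent.S19474

/-- Let A be a Noetherian local ring and I an ideal of A different from A. Then the I-adic completion of
A has the same Krull dimension as A, and A is a regular local ring if and only if the I-adic
completion of A is a regular local ring (in particular the completion is then local and Noetherian).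
The case where I is the maximal ideal is the classical one; here I is any proper ideal. -/
theorem result (A : Type u) [CommRing A]
    [IsLocalRing A] [IsNoetherianRing A] (I : Ideal A) (hI : I ≠ ⊤) :
    ringKrullDim (AdicCompletion I A) = ringKrullDim A ∧
      (IsRegularLocalRing A ↔ IsRegularLocalRing (AdicCompletion I A)) := by

  classical
  let C := AdicCompletion I A
  have hIfg : I.FG := IsNoetherian.noetherian I
  have hIm : I ≤ IsLocalRing.maximalIdeal A := IsLocalRing.le_maximalIdeal hI
  haveI : IsNoetherianRing C := Groth.Agent.CAlg1.isNoetherianRing_adicCompletion I hIfg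
  set J := I.map (algebraMap A C)
  haveI : IsAdicComplete J C := AdicCompletion.isAdicComplete_self I hIfg
  have hker : ∀ x, AdicCompletion.evalOneₐ I x = 0 ↔ x ∈ J := fun x => by
    show x ∈ RingHom.ker (AdicCompletion.evalOneₐ I).toRingHom ↔ _
    rw [AdicCompletion.ker_evalOneₐ_eq_map I hIfg]
  have hrep : ∀ x : C, ∃ a : A, x - algebraMap A C a ∈ J := fun x => by
    obtain ⟨a, ha⟩ := Ideal.Quotient.mk_surjective (AdicCompletion.evalOneₐ I x)
    refine ⟨a, (hker _).mp ?_⟩
    rw [map_sub, AlgHom.commutes, sub_eq_zero]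
    exact ha.symm
  have hJm : J ≤ (IsLocalRing.maximalIdeal A).map (algebraMap A C) := Ideal.map_mono hIm
  have hunit : ∀ x : C, x ∉ (IsLocalRing.maximalIdeal A).map (algebraMap A C) → IsUnit x := fun x hx => by
    obtain ⟨a, ha⟩ := hrep x
    have hau : IsUnit a := IsLocalRing.notMem_maximalIdeal.mp fun ham => hx (by
      have := add_mem (hJm ha) (Ideal.mem_map_of_mem (algebraMap A C) ham)
      simpa using this)
    obtain ⟨u, hu⟩ := hau.map (algebraMap A C)
    have h1 : IsUnit ((↑u⁻¹ : C) * (x - algebraMap A C a) * 1 + 1) :=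
      Ideal.mem_jacobson_bot.mp (IsAdicComplete.le_jacobson_bot J (J.mul_mem_left _ ha)) 1
    have h2 : x = (u : C) * ((↑u⁻¹ : C) * (x - algebraMap A C a) * 1 + 1) := by
      rw [mul_add, mul_one, mul_one, ← mul_assoc, Units.mul_inv, one_mul, hu, sub_add_cancel]
    rw [h2]; exact u.isUnit.mul h1
  have hne : (IsLocalRing.maximalIdeal A).map (algebraMap A C) ≠ ⊤ := by
    intro h
    have := congrArg (Ideal.map ((Ideal.Quotient.factor hIm).comp (AdicCompletion.evalOneₐ I).toRingHom)) h
    rw [Ideal.map_map, RingHom.comp_assoc, AdicCompletion.evalOneₐ_comp_algebraMap_eq_mk,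
      Ideal.Quotient.factor_comp_mk, Ideal.map_quotient_self, Ideal.map_top] at this
    exact bot_ne_top this
  haveI : Nontrivial C := ⟨⟨0, 1, fun h => hne ((Ideal.eq_top_iff_one _).mpr (h ▸ zero_mem _))⟩⟩
  haveI : IsLocalRing C := .of_nonunits_add fun x y hx hy => by
    have hmem : ∀ z ∈ nonunits C, z ∈ (IsLocalRing.maximalIdeal A).map (algebraMap A C) := fun z hz => by
      by_contra h; exact hz (hunit z h)
    exact fun hu => hne (Ideal.eq_top_of_isUnit_mem _ (add_mem (hmem x hx) (hmem y hy)) hu)
  have hmax : (IsLocalRing.maximalIdeal A).map (algebraMap A C) = IsLocalRing.maximalIdeal C :=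
    le_antisymm (IsLocalRing.le_maximalIdeal hne) fun x hx => by
      by_contra h; exact hx (hunit x h)
  haveI : IsLocalHom (algebraMap A C) := ⟨fun a ha => IsLocalRing.notMem_maximalIdeal.mp fun h =>
    IsLocalRing.notMem_maximalIdeal.mpr ha (hmax ▸ Ideal.mem_map_of_mem _ h)⟩
  have hdim := Groth.Agent.CAlg1.ringKrullDim_eq_of_flat hmax
  refine ⟨hdim, fun hA => ?_, fun hC => Groth.Agent.CAlg1.regular_of_flat A C⟩
  refine IsRegularLocalRing.of_spanFinrank_maximalIdeal_le _ ?_
  rw [hdim, ← hA.spanFinrank_maximalIdeal]
  refine Nat.cast_le.mpr ?_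
  rw [← hmax]
  obtain ⟨s, hs, hspan⟩ := Submodule.FG.exists_span_finset_card_eq_spanFinrank
    (IsLocalRing.maximalIdeal A).fg_of_isNoetherianRing
  rw [← hs]
  have : (IsLocalRing.maximalIdeal A).map (algebraMap A C) =
      Submodule.span C ((s.image (algebraMap A C) : Finset C) : Set C) := by
    rw [Finset.coe_image]
    exact (congrArg (Ideal.map (algebraMap A C)) hspan.symm).trans (Ideal.map_span _ _)
  rw [this]
  exact (Submodule.spanFinrank_span_le_ncard_of_finite (Finset.finite_toSet _)).trans
    (by rw [Set.ncard_coe_finset]; exact Finset.card_image_le)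

end Groth.Agent.S19474
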