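import Groth.Statements.S19475
import Mathlib.RingTheory.AdicCompletion.Completeness
import Mathlib.RingTheory.LocalRing.ResidueField.Basic
import Mathlib.RingTheory.Localization.Submodule

set_option autoImplicit false
universe u
open CAlg

namespace Groth.Agent.S19475

open IsLocalRing in
/-- Let A be a Noetherian ring, B an A-algebra, q a prime ideal of B and p its preimage in A; let A_p
and B_q be the local rings at p and q and Â_p the completion of A_p at its maximal ideal pA_p. Then
the ideal generated by qB_q in B_q ⊗ Â_p is maximal. (The tensor product is formed over A; since A_p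
is a localization of A it agrees with the tensor product over A_p used in the published statement.) -/
theorem result (A B : Type u) [CommRing A] [CommRing B]
    [Algebra A B] [IsNoetherianRing A] (q : Ideal B) [q.IsPrime] :
    ((maximalIdeal (Localization.AtPrime q)).map
      (Algebra.TensorProduct.includeLeftRingHom :
        Localization.AtPrime q →+* TensorProduct A (Localization.AtPrime q)
          (AdicCompletion (maximalIdeal (Localization.AtPrime (q.under A)))
            (Localization.AtPrime (q.under A))))).IsMaximal := by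
  let Ap := Localization.AtPrime (q.under A)
  let Bq := Localization.AtPrime q
  let C := AdicCompletion (maximalIdeal Ap) Ap
  have hu : ∀ y : (q.under A).primeCompl, IsUnit (algebraMap A Bq y) := fun y => by
    rw [IsScalarTower.algebraMap_apply A B Bq]
    exact IsLocalization.map_units Bq (M := q.primeCompl) ⟨algebraMap A B y, y.2⟩
  let ψ : Ap →ₐ[A] Bq := IsLocalization.liftAlgHom (M := (q.under A).primeCompl)
    (f := Algebra.ofId A Bq) hu
  have hψ : ∀ x ∈ maximalIdeal Ap, ψ x ∈ maximalIdeal Bq := by
    intro x hx
    obtain ⟨a, s, rfl⟩ := IsLocalization.exists_mk'_eq (q.under A).primeCompl x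
    rw [IsLocalization.AtPrime.mk'_mem_maximal_iff Ap (q.under A) a s] at hx
    have he : ψ (IsLocalization.mk' Ap a s) * algebraMap A Bq s = algebraMap A Bq a := by
      rw [← AlgHom.commutes ψ (s : A), ← map_mul, IsLocalization.mk'_spec, AlgHom.commutes]
    have ha : algebraMap A Bq a ∈ maximalIdeal Bq := by
      rw [IsScalarTower.algebraMap_apply A B Bq]
      exact (IsLocalization.AtPrime.to_map_mem_maximal_iff Bq q _).mpr hx
    rw [← he] at ha
    exact ((maximalIdeal.isMaximal Bq).isPrime.mem_or_mem ha).resolve_right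
      fun h => (mem_maximalIdeal _).mp h (hu s)
  let κ : Bq →ₐ[A] ResidueField Bq := IsScalarTower.toAlgHom A Bq (ResidueField Bq)
  let ev : C →ₐ[A] (Ap ⧸ maximalIdeal Ap) := (AdicCompletion.evalOneₐ (maximalIdeal Ap)).restrictScalars A
  let ρ : (Ap ⧸ maximalIdeal Ap) →ₐ[A] ResidueField Bq :=
    Ideal.Quotient.liftₐ _ (κ.comp ψ) fun x hx => (residue_eq_zero_iff _).mpr (hψ x hx)
  let Φ : TensorProduct A Bq C →ₐ[A] ResidueField Bq :=
    Algebra.TensorProduct.lift κ (ρ.comp ev) fun _ _ => Commute.all _ _
  let inl : Bq →+* TensorProduct A Bq C := Algebra.TensorProduct.includeLeftRingHom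
  let inr : C →+* TensorProduct A Bq C :=
    (Algebra.TensorProduct.includeRight : C →ₐ[A] TensorProduct A Bq C).toRingHom
  let M : Ideal (TensorProduct A Bq C) := (maximalIdeal Bq).map inl
  have hcomm : inr.comp (algebraMap Ap C) = inl.comp ψ.toRingHom := by
    refine IsLocalization.ringHom_ext (q.under A).primeCompl (RingHom.ext fun a => ?_)
    show (Algebra.TensorProduct.includeRight : C →ₐ[A] TensorProduct A Bq C)
        (algebraMap Ap C (algebraMap A Ap a)) = inl (ψ (algebraMap A Ap a))
    rw [← IsScalarTower.algebraMap_apply, AlgHom.commutes, AlgHom.commutes]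
    rfl
  have hkerev : (maximalIdeal Ap).map (algebraMap Ap C) = RingHom.ker ev.toRingHom :=
    (AdicCompletion.ker_evalOneₐ_eq_map (I := maximalIdeal Ap) (IsNoetherian.noetherian _)).symm
  have hdec : ∀ t : TensorProduct A Bq C, ∃ b : Bq, t - inl b ∈ M := by
    intro t
    induction t with
    | zero => exact ⟨0, by simp⟩
    | add x y hx hy =>
      obtain ⟨b, hb⟩ := hx
      obtain ⟨c, hc⟩ := hy
      exact ⟨b + c, by rw [map_add, add_sub_add_comm]; exact add_mem hb hc⟩
    | tmul b c =>
      obtain ⟨x, hx⟩ := Ideal.Quotient.mk_surjective (ev c)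
      have hc : c - algebraMap Ap C x ∈ (maximalIdeal Ap).map (algebraMap Ap C) := by
        rw [hkerev, RingHom.mem_ker, map_sub, sub_eq_zero]
        exact hx.symm.trans ((AdicCompletion.evalOneₐ (maximalIdeal Ap)).commutes x).symm
      have h1 := Ideal.mem_map_of_mem inr hc
      rw [Ideal.map_map, hcomm, ← Ideal.map_map, map_sub,
        show inr (algebraMap Ap C x) = inl (ψ x) from RingHom.congr_fun hcomm x] at h1
      have h2 : inr c - inl (ψ x) ∈ M :=
        Ideal.map_mono (Ideal.map_le_iff_le_comap.mpr hψ) h1
      refine ⟨b * ψ x, ?_⟩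
      have e : b ⊗ₜ[A] c - inl (b * ψ x) = inl b * (inr c - inl (ψ x)) := by
        rw [mul_sub, map_mul]
        congr 1
        simp [inl, inr]
      rw [e]
      exact Ideal.mul_mem_left _ _ h2
  have hΦl : ∀ b, Φ (inl b) = κ b := fun b => by simp [Φ, inl]
  have hle : M ≤ RingHom.ker Φ.toRingHom := Ideal.map_le_iff_le_comap.mpr fun b hb => by
    show Φ (inl b) = 0
    rw [hΦl]
    exact (residue_eq_zero_iff _).mpr hb
  have hker : M = RingHom.ker Φ.toRingHom := le_antisymm hle fun t ht => by
    obtain ⟨b, hb⟩ := hdec t
    have h0 : κ b = 0 := by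
      have h1 : Φ (t - inl b) = 0 := hle hb
      rw [map_sub, show Φ t = 0 from ht, hΦl, zero_sub, neg_eq_zero] at h1
      exact h1
    have h2 := add_mem hb (Ideal.mem_map_of_mem inl ((residue_eq_zero_iff _).mp h0))
    simpa using h2
  show M.IsMaximal
  rw [hker]
  refine RingHom.ker_isMaximal_of_surjective Φ.toRingHom fun y => ?_
  obtain ⟨b, rfl⟩ := residue_surjective y
  exact ⟨inl b, hΦl b⟩

end Groth.Agent.S19475
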