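import Groth.Statements.S19476
import Groth.Agent.PicSee25.Global
import Groth.Agent.CAlg8.Canon.Basic
-- import your own Groth.Agent.* helpers here

set_option autoImplicit false
universe u
open CategoryTheory CategoryTheory.Limits AlgebraicGeometry
open PicF

namespace Groth.Agent.S19476

/-- Let S be a locally Noetherian scheme, f : X → S flat and proper with integral geometric fibres, and
L a line bundle on X (a locally free module of rank 1). Then there is a closed subscheme Z ⊆ S with
the following universal property among locally Noetherian S-schemes: a morphism u : T → S with T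
locally Noetherian factors through Z if and only if the pullback of L to X ×_S T is isomorphic to
the pullback along the projection X ×_S T → T of some line bundle on T, i.e. is trivial relative to
T. (Only the existence of such a closed subscheme is asserted.) -/
theorem result {X S : Scheme.{u}} (f : X ⟶ S)
    [IsProper f] [Flat f] [GeometricallyIntegral f] [IsLocallyNoetherian S]
    (L : X.Modules) (hL : FlatMod.IsFinLocFreeOfRank 1 L) :
    ∃ (Z : Scheme.{u}) (ι : Z ⟶ S), IsClosedImmersion ι ∧
      ∀ (T : Scheme.{u}) (u : T ⟶ S), IsLocallyNoetherian T →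
        ((∃ u' : T ⟶ Z, u' ≫ ι = u) ↔
          ∃ M : T.Modules, FlatMod.IsFinLocFreeOfRank 1 M ∧
            Nonempty ((Scheme.Modules.pullback (pullback.fst f u)).obj L ≅
              (Scheme.Modules.pullback (pullback.snd f u)).obj M)) := by
  have hLi := Groth.Agent.CAlg8.Canon.isInvertible_of_rank_one hL
  have : GeometricallyConnected f := Groth.Agent.FBase64.geometricallyConnected_of_geometricallyIrreducible f
  have h0 := Groth.Agent.AbSch7.H0Fib.of_geometrically f
  obtain ⟨Z, ι, hι, hZ⟩ := Groth.Agent.PicSee25.exists_closed_trOver (f := f) (L := L) h0 (fun K _ x => by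
    have : GeometricallyIntegral (Limits.pullback.snd f x) := inferInstance
    exact GeometricallyIntegral.isIntegral_of_subsingleton (Limits.pullback.snd f x)) hLi
  refine ⟨Z, ι, hι, fun T u hT => (hZ T u hT).trans ⟨fun h => ?_, ?_⟩⟩
  · obtain ⟨M, hM, e⟩ := h.exists_iso fun V =>
      Groth.Agent.AbSch7.app_bijective _ (h0.of_isPullback (IsPullback.of_hasPullback f u)) V
    exact ⟨M, Groth.Agent.Mero90.isFinLocFreeOfRank_of_isInvertible hM, e⟩
  · rintro ⟨M, hM, ⟨e⟩⟩
    exact Groth.Agent.PicSee25.Tr.of_pullback (Groth.Agent.CAlg8.Canon.isInvertible_of_rank_one hM) e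

end Groth.Agent.S19476
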