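import Groth.Statements.S19477
import Mathlib.RingTheory.Localization.Submodule
import Mathlib.RingTheory.EssentialFiniteness
import Mathlib.RingTheory.LocalRing.ResidueField.Ideal
import Mathlib.FieldTheory.IsAlgClosed.AlgebraicClosure
import Mathlib.FieldTheory.Normal.Basic
import Mathlib.RingTheory.Ideal.MinimalPrime.Noetherian
import Mathlib.RingTheory.Ideal.GoingUp

set_option autoImplicit false
universe u
open Variety

namespace Groth.Agent.S19477

open Groth.Agent
open scoped TensorProduct

theorem exists_comp_eq {K L Ω : Type*} [Field K] [Field L] [Field Ω] [Algebra K L] [Algebra K Ω]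
    [Normal K L] (σ τ : L →ₐ[K] Ω) : ∃ γ : L ≃ₐ[K] L, ∀ x, σ (γ x) = τ x := by
  have hr : ∀ x, ∃ y, σ y = τ x := by
    intro x
    have hint : IsIntegral K x := Algebra.IsIntegral.isIntegral x
    have hroot : Polynomial.aeval (τ x) (minpoly K x) = 0 := by
      rw [Polynomial.aeval_algHom_apply, minpoly.aeval, map_zero]
    have hsplit := Normal.splits (F := K) (K := L) inferInstance x
    have h2 := Polynomial.Splits.mem_range_of_isRoot hsplit (i := σ.toRingHom) (x := τ x) (by
      exact Polynomial.map_ne_zero (minpoly.ne_zero hint)) (by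
      rw [Polynomial.IsRoot.def, Polynomial.eval_map, Polynomial.eval₂_map,
        show σ.toRingHom.comp (algebraMap K L) = algebraMap K Ω from σ.comp_algebraMap]
      exact hroot)
    exact h2
  choose g hg using hr
  let φ : L →ₐ[K] L :=
    { toFun := g
      map_one' := σ.toRingHom.injective (show σ _ = σ _ by rw [hg, map_one, map_one])
      map_mul' := fun a b => σ.toRingHom.injective (show σ _ = σ _ by rw [hg, map_mul, map_mul, hg, hg])
      map_zero' := σ.toRingHom.injective (show σ _ = σ _ by rw [hg, map_zero, map_zero])
      map_add' := fun a b => σ.toRingHom.injective (show σ _ = σ _ by rw [hg, map_add, map_add, hg, hg])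
      commutes' := fun r => σ.toRingHom.injective (show σ _ = σ _ by rw [hg, τ.commutes, σ.commutes]) }
  exact ⟨AlgEquiv.ofBijective φ (Algebra.IsAlgebraic.algHom_bijective φ), hg⟩

/-- Let K be a field, B an integral K-algebra of finite type with fraction field F, and L a Galois
extension of K with group Γ = Aut_K(L). Then F ⊗_K L has only finitely many prime ideals and Γ,
acting through the second factor, permutes them transitively: for prime ideals P, Q there is γ ∈ Γ
with Q the preimage of P under id ⊗ γ. (The published statement is the geometric one, that the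
points of an algebraic K-scheme X correspond to the Γ-orbits of points of X_L and that these orbits
are finite; it reduces to this algebraic statement by passing to the fibre over a point, and the
algebraic statement is what is proved.) -/
theorem result (K B L : Type u) [Field K]
    [CommRing B] [IsDomain B] [Algebra K B] [Algebra.FiniteType K B] [Field L] [Algebra K L] [IsGalois K L] :
    Finite (PrimeSpectrum (TensorProduct K (FractionRing B) L)) ∧
      ∀ P Q : PrimeSpectrum (TensorProduct K (FractionRing B) L), ∃ γ : L ≃ₐ[K] L,
        Q.asIdeal = P.asIdeal.comap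
          (Algebra.TensorProduct.map (AlgHom.id K (FractionRing B)) (γ : L →ₐ[K] L)) := by
  classical
  let F := FractionRing B
  let T := F ⊗[K] L
  have : Algebra.EssFiniteType B F := Algebra.EssFiniteType.of_isLocalization F (nonZeroDivisors B)
  have : Algebra.EssFiniteType K F := Algebra.EssFiniteType.comp K B F
  have : IsNoetherianRing (L ⊗[K] F) := Algebra.EssFiniteType.isNoetherianRing L (L ⊗[K] F)
  have : IsNoetherianRing T :=
    isNoetherianRing_of_ringEquiv (L ⊗[K] F) (Algebra.TensorProduct.comm K L F).toRingEquiv
  have : Algebra.IsIntegral K L := inferInstance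
  have : Algebra.IsIntegral F T := inferInstance
  have hmax : ∀ p : PrimeSpectrum T, p.asIdeal.IsMaximal := fun p => by
    have : (p.asIdeal.comap (algebraMap F T)).IsMaximal := by
      rcases Ideal.eq_bot_or_top (p.asIdeal.comap (algebraMap F T)) with h | h
      · rw [h]; exact Ideal.bot_isMaximal
      · exact absurd h (Ideal.IsPrime.ne_top inferInstance)
    exact Ideal.isMaximal_of_isIntegral_of_isMaximal_comap p.asIdeal this
  refine ⟨?_, fun P Q => ?_⟩
  · have hfin := (minimalPrimes.finite_of_isNoetherianRing T).to_subtype
    refine Finite.of_injective (fun p : PrimeSpectrum T => (⟨p.asIdeal, ?_⟩ : minimalPrimes T)) ?_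
    · refine ⟨⟨p.2, bot_le⟩, fun q hq hqp => ?_⟩
      have := (hmax ⟨q, hq.1⟩).eq_of_le p.2.ne_top hqp
      exact this.ge
    · intro a b h
      exact PrimeSpectrum.ext (congrArg Subtype.val h)
  · let κP := P.asIdeal.ResidueField
    let κQ := Q.asIdeal.ResidueField
    let Ω := AlgebraicClosure κP
    let eQ : T →+* κQ := algebraMap T κQ
    let eP : T →+* Ω := (algebraMap κP Ω).comp (algebraMap T κP)
    have hsurjQ : Function.Surjective eQ := by
      haveI := hmax Q
      intro z
      obtain ⟨w, hw⟩ := Q.asIdeal.bijective_algebraMap_quotient_residueField.2 z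
      obtain ⟨t, rfl⟩ := Ideal.Quotient.mk_surjective w
      exact ⟨t, hw⟩
    let iF : F →+* T := Algebra.TensorProduct.includeLeftRingHom
    let iL : L →ₐ[K] T := Algebra.TensorProduct.includeRight
    letI : Algebra F κQ := (eQ.comp iF).toAlgebra
    letI : Algebra F Ω := (eP.comp iF).toAlgebra
    have : Algebra.IsAlgebraic F κQ := by
      refine ⟨fun z => ?_⟩
      obtain ⟨t, rfl⟩ := hsurjQ z
      obtain ⟨p, hp, hpt⟩ := Algebra.IsIntegral.isIntegral (R := F) t
      refine IsIntegral.isAlgebraic ⟨p, hp, ?_⟩
      show Polynomial.eval₂ (eQ.comp iF) (eQ t) p = 0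
      rw [← Polynomial.hom_eval₂]
      exact (congrArg eQ hpt).trans (map_zero _)
    let j : κQ →ₐ[F] Ω := IsAlgClosed.lift
    have hF : ∀ a : F, j (eQ (iF a)) = eP (iF a) := fun a => j.commutes a
    letI : Algebra K Ω := (eP.comp (algebraMap K T)).toAlgebra
    let σ : L →ₐ[K] Ω := { eP.comp iL.toRingHom with
      commutes' := fun r => congrArg eP (iL.commutes r) }
    let τ : L →ₐ[K] Ω := { (j.toRingHom.comp eQ).comp iL.toRingHom with
      commutes' := fun r => by
        show j (eQ (iL (algebraMap K L r))) = eP (algebraMap K T r)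
        rw [iL.commutes, Algebra.TensorProduct.algebraMap_apply]
        exact hF (algebraMap K F r) }
    obtain ⟨γ, hγ⟩ := exists_comp_eq σ τ
    refine ⟨γ, ?_⟩
    let m := Algebra.TensorProduct.map (AlgHom.id K F) (γ : L →ₐ[K] L)
    have hcomp : (j.toRingHom.comp eQ) = eP.comp m.toRingHom := by
      apply Algebra.TensorProduct.ringHom_ext
      · refine RingHom.ext fun a => ?_
        show j (eQ (iF a)) = eP (m (a ⊗ₜ 1))
        rw [hF, Algebra.TensorProduct.map_tmul, AlgHom.id_apply, map_one]
        rfl
      · refine RingHom.ext fun x => ?_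
        show τ x = eP (m (1 ⊗ₜ x))
        rw [← hγ x, Algebra.TensorProduct.map_tmul, map_one]
        rfl
    ext t
    rw [Ideal.mem_comap, ← Ideal.algebraMap_residueField_eq_zero (I := Q.asIdeal),
      ← Ideal.algebraMap_residueField_eq_zero (I := P.asIdeal)]
    have h := congrArg (fun φ => φ t) hcomp
    change j (eQ t) = algebraMap κP Ω (algebraMap T κP (m t)) at h
    rw [← map_eq_zero j.toRingHom, ← map_eq_zero (algebraMap κP Ω)]
    exact ⟨fun h0 => h ▸ h0, fun h0 => h.symm ▸ h0⟩

end Groth.Agent.S19477
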