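import Groth.Statements.S19482
import Groth.Agent.VB30.Weil


set_option autoImplicit false
universe u
open CategoryTheory CategoryTheory.Limits AlgebraicGeometry
open VBCurve

namespace Groth.Agent.S19482
set_option backward.isDefEq.respectTransparency.types false

/-- Let X be a smooth proper integral curve over an algebraically closed field k. Say that a finite
locally free O_X-module E of rank r is essentially finite if it is slope-semistable of degree 0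
(degree = χ(E) − r·χ(O_X); semistable: every finite locally free submodule of positive rank has
degree ≤ 0) and there exist a finite locally free module G which is finite in the sense of Weil —
P(G) ≅ Q(G) for two distinct polynomials P ≠ Q with natural-number coefficients, where P(G) is the
direct sum over i of P_i copies of G^{⊗ i} — and sub-bundles F₂ ⊆ F₁ ⊆ G (monomorphisms F₂ → F₁ → G
whose cokernels are finite locally free), with F₁ and F₂ slope-semistable of degree 0, such that E ≅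
F₁/F₂. If E₁ of rank r₁ and E₂ of rank r₂ are essentially finite, then E₁ ⊗ E₂ is finite locally
free of rank r₁ r₂ and essentially finite. (The predicate is written out in full three times; the
curve is smooth, proper and integral of dimension one over an algebraically closed field, so
slope-semistability has its usual meaning.) -/
theorem result (k : Type u) [Field k] [IsAlgClosed k] (X : Scheme.{u}) [X.Over (Spec (CommRingCat.of k))]
    [IsIntegral X] [IsProper (X ↘ Spec (CommRingCat.of k))] [Smooth (X ↘ Spec (CommRingCat.of k))]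
    (hdim : topologicalKrullDim X = 1)
    (r₁ r₂ : ℕ) (E₁ E₂ : X.Modules) (hE₁ : FlatMod.IsFinLocFreeOfRank r₁ E₁) (hE₂ : FlatMod.IsFinLocFreeOfRank r₂ E₂)
    (h₁ : (Curv2.deg k X E₁ r₁ = 0 ∧ ModFun.IsSlopeSemistable k X E₁ r₁ ∧
      ∃ (s : ℕ) (G : X.Modules) (s₁ : ℕ) (F₁ : X.Modules) (s₂ : ℕ) (F₂ : X.Modules) (i₁ : F₁ ⟶ G) (i₂ : F₂ ⟶ F₁),
        FlatMod.IsFinLocFreeOfRank s G ∧
        (∃ P Q : Polynomial ℕ, P ≠ Q ∧ Nonempty ((∐ fun i : Fin (P.natDegree + 1) => ∐ fun _ : Fin (P.coeff ↑i) => CohB1.tensorPow G ↑i) ≅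
          (∐ fun i : Fin (Q.natDegree + 1) => ∐ fun _ : Fin (Q.coeff ↑i) => CohB1.tensorPow G ↑i))) ∧
        FlatMod.IsFinLocFreeOfRank s₁ F₁ ∧ FlatMod.IsFinLocFreeOfRank s₂ F₂ ∧ Mono i₁ ∧ Mono i₂ ∧
        FlatMod.IsFinLocFree (cokernel i₁) ∧ FlatMod.IsFinLocFree (cokernel i₂) ∧
        Curv2.deg k X F₁ s₁ = 0 ∧ ModFun.IsSlopeSemistable k X F₁ s₁ ∧
        Curv2.deg k X F₂ s₂ = 0 ∧ ModFun.IsSlopeSemistable k X F₂ s₂ ∧
        Nonempty (E₁ ≅ cokernel i₂)))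
    (h₂ : (Curv2.deg k X E₂ r₂ = 0 ∧ ModFun.IsSlopeSemistable k X E₂ r₂ ∧
      ∃ (s : ℕ) (G : X.Modules) (s₁ : ℕ) (F₁ : X.Modules) (s₂ : ℕ) (F₂ : X.Modules) (i₁ : F₁ ⟶ G) (i₂ : F₂ ⟶ F₁),
        FlatMod.IsFinLocFreeOfRank s G ∧
        (∃ P Q : Polynomial ℕ, P ≠ Q ∧ Nonempty ((∐ fun i : Fin (P.natDegree + 1) => ∐ fun _ : Fin (P.coeff ↑i) => CohB1.tensorPow G ↑i) ≅
          (∐ fun i : Fin (Q.natDegree + 1) => ∐ fun _ : Fin (Q.coeff ↑i) => CohB1.tensorPow G ↑i))) ∧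
        FlatMod.IsFinLocFreeOfRank s₁ F₁ ∧ FlatMod.IsFinLocFreeOfRank s₂ F₂ ∧ Mono i₁ ∧ Mono i₂ ∧
        FlatMod.IsFinLocFree (cokernel i₁) ∧ FlatMod.IsFinLocFree (cokernel i₂) ∧
        Curv2.deg k X F₁ s₁ = 0 ∧ ModFun.IsSlopeSemistable k X F₁ s₁ ∧
        Curv2.deg k X F₂ s₂ = 0 ∧ ModFun.IsSlopeSemistable k X F₂ s₂ ∧
        Nonempty (E₂ ≅ cokernel i₂))) :
    FlatMod.IsFinLocFreeOfRank (r₁ * r₂) (CohB1.tensorMod E₁ E₂) ∧
    (Curv2.deg k X (CohB1.tensorMod E₁ E₂) (r₁ * r₂) = 0 ∧ ModFun.IsSlopeSemistable k X (CohB1.tensorMod E₁ E₂) (r₁ * r₂) ∧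
      ∃ (s : ℕ) (G : X.Modules) (s₁ : ℕ) (F₁ : X.Modules) (s₂ : ℕ) (F₂ : X.Modules) (i₁ : F₁ ⟶ G) (i₂ : F₂ ⟶ F₁),
        FlatMod.IsFinLocFreeOfRank s G ∧
        (∃ P Q : Polynomial ℕ, P ≠ Q ∧ Nonempty ((∐ fun i : Fin (P.natDegree + 1) => ∐ fun _ : Fin (P.coeff ↑i) => CohB1.tensorPow G ↑i) ≅
          (∐ fun i : Fin (Q.natDegree + 1) => ∐ fun _ : Fin (Q.coeff ↑i) => CohB1.tensorPow G ↑i))) ∧
        FlatMod.IsFinLocFreeOfRank s₁ F₁ ∧ FlatMod.IsFinLocFreeOfRank s₂ F₂ ∧ Mono i₁ ∧ Mono i₂ ∧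
        FlatMod.IsFinLocFree (cokernel i₁) ∧ FlatMod.IsFinLocFree (cokernel i₂) ∧
        Curv2.deg k X F₁ s₁ = 0 ∧ ModFun.IsSlopeSemistable k X F₁ s₁ ∧
        Curv2.deg k X F₂ s₂ = 0 ∧ ModFun.IsSlopeSemistable k X F₂ s₂ ∧
        Nonempty ((CohB1.tensorMod E₁ E₂) ≅ cokernel i₂)) := by
  have hS : CrvPic30.Setup k X := CrvPic30.setup_of_smooth_algClosed hdim
  have hc := VB30.cur_of_setup hS
  have hT := hc.tensor_lf (VB30.isFinLocFree_of_rank hE₁) (VB30.isFinLocFree_of_rank hE₂)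
  obtain ⟨hd1, -, s, G, s₁, F₁, s₂, F₂, i₁, i₂, hG, hGw, hF₁, hF₂, hi₁, hi₂, -, -, dF₁, -, dF₂, -, ⟨e⟩⟩ := h₁
  obtain ⟨hd2, -, t, G', t₁, F₁', t₂, F₂', j₁, j₂, hG', hGw', hF₁', hF₂', hj₁, hj₂, -, -, dF₁', -, dF₂', -, ⟨e'⟩⟩ := h₂
  rw [VB30.deg_eq_dg hE₁] at hd1
  rw [VB30.deg_eq_dg hE₂] at hd2
  rw [VB30.deg_eq_dg hF₁] at dF₁
  rw [VB30.deg_eq_dg hF₁'] at dF₁'
  have lG := VB30.isFinLocFree_of_rank hG
  have lG' := VB30.isFinLocFree_of_rank hG'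
  have lF := VB30.isFinLocFree_of_rank hF₁
  have lF' := VB30.isFinLocFree_of_rank hF₁'
  obtain ⟨lW, -, -⟩ := hc.tensor_lf lG lG'
  have hW := hc.wf_tensor lG lG' hGw hGw'
  obtain ⟨lA, rA, dA⟩ := hc.tensor_lf lF lF'
  rw [dF₁, dF₁', mul_zero, mul_zero, add_zero] at dA
  obtain ⟨lT, rT, dT⟩ := hT
  rw [hd1, hd2, mul_zero, mul_zero, add_zero] at dT
  -- the subbundle
  obtain ⟨f, g, w, hf⟩ := VB30.Cur.shortExact_tensor_left lF (VB30.shortExact_cokernel j₁)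
  obtain ⟨f', g', w', hf'⟩ := VB30.Cur.shortExact_tensor_left lG' (VB30.shortExact_cokernel i₁)
  let a₁ : CohB1.tensorMod F₁ F₁' ⟶ CohB1.tensorMod F₁ G' := f
  let a₂ : CohB1.tensorMod G' F₁ ⟶ CohB1.tensorMod G' G := f'
  have : Mono a₁ := hf.mono_f
  have : Mono a₂ := hf'.mono_f
  let ι : CohB1.tensorMod F₁ F₁' ⟶ CohB1.tensorMod G G' :=
    a₁ ≫ (EGA73.tensComm F₁ G').hom ≫ a₂ ≫ (EGA73.tensComm G' G).hom
  have hι : Mono ι := by
    have : Mono (a₂ ≫ (EGA73.tensComm G' G).hom) := mono_comp _ _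
    have : Mono ((EGA73.tensComm F₁ G').hom ≫ a₂ ≫ (EGA73.tensComm G' G).hom) := mono_comp _ _
    exact mono_comp _ _
  have lQ : FlatMod.IsFinLocFree (cokernel ι) := by
    obtain ⟨G₂, i', a, hi', ha, hfac, l₂, lQ', hr, hd⟩ :=
      hc.exists_saturation ι (VB30.isCoh_of_isFinLocFree lA) lW
    have := hc.dg_nonpos_of_wf lW hW i' l₂
    have := hc.isIso_of_rk_eq a (VB30.isCoh_of_isFinLocFree lA) (VB30.isCoh_of_isFinLocFree l₂) hr.symm (by omega)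
    have c : cokernel i' ≅ cokernel ι :=
      cokernel.mapIso i' ι (asIso a).symm (Iso.refl _)
        (by simp only [Iso.refl_hom, Category.comp_id, Iso.symm_hom, asIso_inv, IsIso.eq_inv_comp, hfac])
    exact hc.isFinLocFree_of_isTF (QC70.isCoh_of_iso c (VB30.isCoh_of_isFinLocFree lQ'))
      ((VB30.isTF_of_isFinLocFree lQ').of_mono c.inv)
  -- the quotient
  have : (Crv77.twist F₁').PreservesEpimorphisms :=
    Functor.preservesEpimorphisms_of_adjunction (QC70.homModAdjR F₁')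
  have : (Crv77.twist E₁).PreservesEpimorphisms :=
    Functor.preservesEpimorphisms_of_adjunction (QC70.homModAdjR E₁)
  let π₁ : F₁ ⟶ E₁ := cokernel.π i₂ ≫ e.inv
  let π₂ : F₁' ⟶ E₂ := cokernel.π j₂ ≫ e'.inv
  have : Epi π₁ := epi_comp _ _
  have : Epi π₂ := epi_comp _ _
  let u₁ : CohB1.tensorMod F₁ F₁' ⟶ CohB1.tensorMod E₁ F₁' := (Crv77.twist F₁').map π₁
  let u₂ : CohB1.tensorMod F₁' E₁ ⟶ CohB1.tensorMod E₂ E₁ := (Crv77.twist E₁).map π₂
  have : Epi u₁ := (Crv77.twist F₁').map_epi π₁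
  have : Epi u₂ := (Crv77.twist E₁).map_epi π₂
  let q : CohB1.tensorMod F₁ F₁' ⟶ CohB1.tensorMod E₁ E₂ :=
    u₁ ≫ (EGA73.tensComm E₁ F₁').hom ≫ u₂ ≫ (EGA73.tensComm E₂ E₁).hom
  have hq : Epi q := by
    have : Epi (u₂ ≫ (EGA73.tensComm E₂ E₁).hom) := epi_comp _ _
    have : Epi ((EGA73.tensComm E₁ F₁').hom ≫ u₂ ≫ (EGA73.tensComm E₂ E₁).hom) := epi_comp _ _
    exact epi_comp _ _
  have hKc := hc.isCoh_kernel q (VB30.isCoh_of_isFinLocFree lA) (VB30.isCoh_of_isFinLocFree lT)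
  have lK := hc.isFinLocFree_of_mono (kernel.ι q) hKc lA
  have hSE : (ShortComplex.mk (kernel.ι q) q (kernel.condition q)).ShortExact :=
    { exact := ShortComplex.exact_of_f_is_kernel _ (kernelIsKernel q) }
  have dK : VB30.dg k (kernel q) = 0 := by
    have := hc.dg_add hSE hKc (VB30.isCoh_of_isFinLocFree lA)
    dsimp only at this
    omega
  have sA : ∀ (H : X.Modules) (j : H ⟶ CohB1.tensorMod F₁ F₁'), Mono j → FlatMod.IsFinLocFree H → VB30.dg k H ≤ 0 :=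
    fun H j hj hH => by
      have : Mono (j ≫ ι) := mono_comp _ _
      exact hc.dg_nonpos_of_wf lW hW (j ≫ ι) hH
  have ss : ∀ (A : X.Modules) (n : ℕ), FlatMod.IsFinLocFreeOfRank n A → VB30.dg k A = 0 →
      (∀ (H : X.Modules) (j : H ⟶ A), Mono j → FlatMod.IsFinLocFree H → VB30.dg k H ≤ 0) →
      Curv2.deg k X A n = 0 ∧ ModFun.IsSlopeSemistable k X A n := fun A n hA hd hsub =>
    ⟨(VB30.deg_eq_dg hA).trans hd, fun H r' j hj hr' hH => by
      rw [VB30.deg_eq_dg hA, hd, zero_mul, VB30.deg_eq_dg hH]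
      exact mul_nonpos_of_nonpos_of_nonneg (hsub H j hj (VB30.isFinLocFree_of_rank hH)) (Int.natCast_nonneg n)⟩
  have hrank : FlatMod.IsFinLocFreeOfRank (r₁ * r₂) (CohB1.tensorMod E₁ E₂) := by
    have := VB30.isFinLocFreeOfRank_rk lT
    rwa [rT, VB30.rk_eq_of_isFinLocFreeOfRank hE₁, VB30.rk_eq_of_isFinLocFreeOfRank hE₂] at this
  obtain ⟨hdT, hsT⟩ := ss _ _ hrank dT fun H j hj hH => by
    obtain ⟨H', j', hj', lH', -, dH'⟩ := hc.exists_preimage hSE lK lA lT j (VB30.isCoh_of_isFinLocFree hH)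
    have := sA H' j' hj' lH'
    dsimp only at dH'
    omega
  obtain ⟨hA0, hAs⟩ := ss _ _ (VB30.isFinLocFreeOfRank_rk lA) dA sA
  obtain ⟨hK0, hKs⟩ := ss _ _ (VB30.isFinLocFreeOfRank_rk lK) dK fun H j hj hH =>
    sA H (j ≫ kernel.ι q) (mono_comp _ _) hH
  let c : CohB1.tensorMod E₁ E₂ ≅ cokernel (kernel.ι q) :=
    (Abelian.epiIsCokernelOfKernel _ (kernelIsKernel q)).coconePointUniqueUpToIso
      (colimit.isColimit _)
  refine ⟨hrank, hdT, hsT, _, CohB1.tensorMod G G', _, CohB1.tensorMod F₁ F₁', _, kernel q, ι, kernel.ι q,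
    VB30.isFinLocFreeOfRank_rk lW, hW, VB30.isFinLocFreeOfRank_rk lA, VB30.isFinLocFreeOfRank_rk lK, hι,
    inferInstance, lQ, ?_, hA0, hAs, hK0, hKs, ⟨c⟩⟩
  exact hc.isFinLocFree_of_isTF (QC70.isCoh_of_iso c (VB30.isCoh_of_isFinLocFree lT))
    ((VB30.isTF_of_isFinLocFree lT).of_mono c.inv)

end Groth.Agent.S19482
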