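import Groth.Statements.S19485
import Groth.Agent.Small51.Crimp
-- import your own Groth.Agent.* helpers here

set_option autoImplicit false
universe u
open Crimp

namespace Groth.Agent.S19485

theorem closed_iff {A T : Type*} [CommRing A] [CommRing T] [Algebra A T] (w : T) (J : Submodule A T)
    (hJ : ∀ (t : T), ∀ j ∈ J, t * j ∈ J) (S : Submodule A T) (hS : S = Submodule.span A {1, w} ⊔ J) :
    (∀ x ∈ S, ∀ y ∈ S, x * y ∈ S) ↔ w * w ∈ S := by
  have hw : w ∈ S := hS ▸ Submodule.mem_sup_left (Submodule.subset_span (by simp))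
  have h1 : (1 : T) ∈ S := hS ▸ Submodule.mem_sup_left (Submodule.subset_span (by simp))
  refine ⟨fun h => h w hw w hw, fun hww x hx y hy => ?_⟩
  rw [hS, Submodule.mem_sup] at hx hy
  obtain ⟨p, hp, j, hj, rfl⟩ := hx
  obtain ⟨q, hq, l, hl, rfl⟩ := hy
  obtain ⟨a, b, rfl⟩ := Submodule.mem_span_pair.1 hp
  obtain ⟨c, d, rfl⟩ := Submodule.mem_span_pair.1 hq
  have hJS : ∀ j ∈ J, j ∈ S := fun j hj => hS ▸ Submodule.mem_sup_right hj
  have e : (a • (1 : T) + b • w + j) * (c • (1 : T) + d • w + l) =
      (a * c) • (1 : T) + (a * d + b * c) • w + (b * d) • (w * w) +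
        ((a • (1 : T) + b • w + j) * l + (c • (1 : T) + d • w) * j) := by
    simp only [Algebra.smul_def, map_mul, map_add]; ring
  rw [e]
  exact add_mem (add_mem (add_mem (S.smul_mem _ h1) (S.smul_mem _ hw)) (S.smul_mem _ hww))
    (hJS _ (add_mem (hJ _ l hl) (hJ _ j hj)))

theorem smul_top_mul {A T : Type*} [CommRing A] [CommRing T] [Algebra A T] (r : A) (t j : T)
    (hj : j ∈ Ideal.span {r} • (⊤ : Submodule A T)) : t * j ∈ Ideal.span {r} • (⊤ : Submodule A T) := by
  rw [Submodule.ideal_span_singleton_smul, Submodule.mem_smul_pointwise_iff_exists] at hj ⊢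
  obtain ⟨z, -, rfl⟩ := hj
  exact ⟨t * z, Submodule.mem_top, (mul_smul_comm r t z).symm⟩

open W4c1hurwitzcpt in
theorem order_w {k : Type u} [Field k] {p : ℕ} (m : ℕ) (x g : RootDisk p k) (hx : RootDisk.val x = PowerSeries.X)
    (hg : PowerSeries.order (RootDisk.val g) = 0) : PowerSeries.order (RootDisk.val (x ^ m * g)) = (m : ℕ) := by
  rw [map_mul, map_pow, hx, PowerSeries.order_mul, PowerSeries.order_X_pow, hg, add_zero]

open W4c1hurwitzcpt in
theorem dvd_w {k : Type u} [Field k] {p : ℕ} (n : ℕ) (x z : RootDisk p k) (hx : RootDisk.val x = PowerSeries.X)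
    (hz : z ∈ (Ideal.span {x ^ n} : Ideal (RootDisk p k))) (i : ℕ) (hi : i < n) :
    PowerSeries.coeff i (RootDisk.val z) = 0 := by
  obtain ⟨q, rfl⟩ := Ideal.mem_span_singleton.1 hz
  rw [map_mul, map_pow, hx, PowerSeries.coeff_X_pow_mul', if_neg (by omega)]


/-- The criterion for closedness under multiplication on which the description of the stratum rests.
Over R = k⟦t⟧ with k an algebraically closed field of characteristic zero, let S̃ = k⟦x⟧ regarded as
an R-algebra through t ↦ x ^ 3, that is S̃ = R[x] / (x ^ 3 - t). Let m, n be natural numbers with m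
not divisible by 3, and let g be a power series with nonzero constant term. Then the R-submodule of
S̃ spanned by 1 and x ^ m g together with the ideal x ^ n S̃ is closed under multiplication if and
only if n ≤ 2m. (The published proposition goes on to describe the stratum of crimps with these
invariants as irreducible of dimension ⌊(n - m)/3⌋ with a normal form for g; only the closedness
criterion is stated here.) -/
theorem result {k : Type u} [Field k] [IsAlgClosed k] [CharZero k]
    (m n : ℕ) (hm : ¬ 3 ∣ m) (x g : W4c1hurwitzcpt.RootDisk 3 k)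
    (hx : W4c1hurwitzcpt.RootDisk.val x = PowerSeries.X) (hg : PowerSeries.order (W4c1hurwitzcpt.RootDisk.val g) = 0)
    (M : Submodule (PowerSeries k) (W4c1hurwitzcpt.RootDisk 3 k))
    (hM : M = Submodule.span (PowerSeries k) {1, x ^ m * g} ⊔
      (Ideal.span {x ^ n} : Ideal (W4c1hurwitzcpt.RootDisk 3 k)).restrictScalars (PowerSeries k)) :
    (∀ a ∈ M, ∀ b ∈ M, a * b ∈ M) ↔ n ≤ 2 * m := by
  classical
  have hJ : ∀ t : W4c1hurwitzcpt.RootDisk 3 k, ∀ j ∈ (Ideal.span {x ^ n} : Ideal (W4c1hurwitzcpt.RootDisk 3 k)).restrictScalars (PowerSeries k),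
      t * j ∈ (Ideal.span {x ^ n} : Ideal (W4c1hurwitzcpt.RootDisk 3 k)).restrictScalars (PowerSeries k) :=
    fun t j hj => Ideal.mul_mem_left _ t hj
  rw [closed_iff _ _ hJ M hM, hM, Submodule.mem_sup]
  constructor
  · rintro ⟨y, hy, z, hz, hyz⟩
    obtain ⟨a, b, rfl⟩ := Submodule.mem_span_pair.1 hy
    by_contra hlt
    rw [not_le] at hlt
    let d : Fin 2 → ℕ := ![0, m]
    have hd : ∀ i, (W4c1hurwitzcpt.RootDisk.val ((![1, x ^ m * g] : Fin 2 → _) i)).order = d i := fun i => by
      fin_cases i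
      · simp [d]
      · simpa [d] using order_w m x g hx hg
    have hmod : ∀ i j, d i % 3 = d j % 3 → i = j := fun i j => by
      fin_cases i <;> fin_cases j <;> simp [d] <;> omega
    have hsq : PowerSeries.order (W4c1hurwitzcpt.RootDisk.val (x ^ m * g * (x ^ m * g))) = (m + m : ℕ) := by
      rw [map_mul, PowerSeries.order_mul, order_w m x g hx hg, Nat.cast_add]
    have hcoeff : ∀ i < n, PowerSeries.coeff i (W4c1hurwitzcpt.RootDisk.val (a • (1 : W4c1hurwitzcpt.RootDisk 3 k) + b • (x ^ m * g))) =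
        PowerSeries.coeff i (W4c1hurwitzcpt.RootDisk.val (x ^ m * g * (x ^ m * g))) := fun i hi => by
      rw [← hyz, map_add _ (a • 1 + b • (x ^ m * g)) z, map_add (PowerSeries.coeff i), dvd_w n x z hx hz i hi, add_zero]
    have h2 : PowerSeries.order (W4c1hurwitzcpt.RootDisk.val (a • (1 : W4c1hurwitzcpt.RootDisk 3 k) + b • (x ^ m * g))) = (m + m : ℕ) :=
      PowerSeries.order_eq_nat.2 ⟨by rw [hcoeff _ (by omega)]; exact (PowerSeries.order_eq_nat.1 hsq).1,
        fun i hi => by rw [hcoeff _ (by omega)]; exact (PowerSeries.order_eq_nat.1 hsq).2 i hi⟩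
    by_cases hab : (![a, b] : Fin 2 → PowerSeries k) = 0
    · have ha : a = 0 := congrFun hab 0
      have hb : b = 0 := congrFun hab 1
      rw [ha, hb, zero_smul, zero_smul, add_zero, map_zero, PowerSeries.order_zero] at h2
      exact ENat.top_ne_natCast _ h2
    obtain ⟨i, e, -, he⟩ := Crimp51.exists_order_sum _ d hd hmod ![a, b] hab
    rw [Fin.sum_univ_two] at he
    simp only [Matrix.cons_val_zero, Matrix.cons_val_one, Matrix.cons_val_fin_one] at he
    rw [h2, Nat.cast_inj] at he
    fin_cases i <;> simp [d] at he <;> omega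
  · intro hle
    refine ⟨0, Submodule.zero_mem _, _, ?_, zero_add _⟩
    show x ^ m * g * (x ^ m * g) ∈ (Ideal.span {x ^ n} : Ideal (W4c1hurwitzcpt.RootDisk 3 k))
    refine Ideal.mem_span_singleton.2 ?_
    rw [mul_mul_mul_comm, ← pow_add]
    exact dvd_mul_of_dvd_left (pow_dvd_pow x (by omega)) _

end Groth.Agent.S19485
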