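import Groth.Statements.S19486
import Groth.Agent.Small51.Crimp
-- import your own Groth.Agent.* helpers here

set_option autoImplicit false
universe u
open Crimp

namespace Groth.Agent.S19486

open W4c1hurwitzcpt in
theorem order_w {k : Type u} [Field k] {p : ℕ} (m : ℕ) (x g : RootDisk p k) (hx : RootDisk.val x = PowerSeries.X)
    (hg : PowerSeries.order (RootDisk.val g) = 0) : PowerSeries.order (RootDisk.val (x ^ m * g)) = (m : ℕ) := by
  rw [map_mul, map_pow, hx, PowerSeries.order_mul, PowerSeries.order_X_pow, hg, add_zero]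

open W4c1hurwitzcpt in
theorem dvd_w {k : Type u} [Field k] {p : ℕ} (n : ℕ) (x z : RootDisk p k) (hx : RootDisk.val x = PowerSeries.X)
    (hz : z ∈ (Ideal.span {x ^ n} : Ideal (RootDisk p k))) (i : ℕ) (hi : i < n) :
    PowerSeries.coeff i (RootDisk.val z) = 0 := by
  obtain ⟨q, rfl⟩ := Ideal.mem_span_singleton.1 hz
  rw [map_mul, map_pow, hx, PowerSeries.coeff_X_pow_mul', if_neg (by omega)]


/-- The emptiness of the stratum rests on the following computation. Over R = k⟦t⟧ with k an
algebraically closed field of characteristic zero, let S̃ = S̃₁ × R where S̃₁ = k⟦x⟧ is regarded as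
an R-algebra through t ↦ x ^ 2, that is S̃₁ = R[x] / (x ^ 2 - t), with R embedded diagonally in the
product. Let m be odd, n > 2m, and let g be a power series with nonzero constant term. Then the
R-submodule of S̃ spanned by 1 = (1, 1) and (x ^ m g, 0) together with the ideal x ^ n S̃₁ × 0 is
not closed under multiplication. (The published item concludes that the corresponding stratum of
crimps is empty; only this computation is stated here, with the ideal read as x ^ n S̃₁ × 0.) -/
theorem result {k : Type u} [Field k] [IsAlgClosed k] [CharZero k]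
    (m n : ℕ) (hm : Odd m) (hmn : 2 * m < n) (x g : W4c1hurwitzcpt.RootDisk 2 k)
    (hx : W4c1hurwitzcpt.RootDisk.val x = PowerSeries.X) (hg : PowerSeries.order (W4c1hurwitzcpt.RootDisk.val g) = 0)
    (M : Submodule (PowerSeries k) (W4c1hurwitzcpt.RootDisk 2 k × PowerSeries k))
    (hM : M = Submodule.span (PowerSeries k) {(1 : W4c1hurwitzcpt.RootDisk 2 k × PowerSeries k), (x ^ m * g, 0)} ⊔
      ((Ideal.span {x ^ n} : Ideal (W4c1hurwitzcpt.RootDisk 2 k)).restrictScalars (PowerSeries k)).prod ⊥) :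
    ∃ a ∈ M, ∃ b ∈ M, a * b ∉ M := by
  classical
  let T := W4c1hurwitzcpt.RootDisk 2 k
  have hw : ((x ^ m * g, 0) : T × PowerSeries k) ∈ M :=
    hM ▸ Submodule.mem_sup_left (Submodule.subset_span (by simp))
  refine ⟨_, hw, _, hw, fun h => ?_⟩
  rw [hM, Submodule.mem_sup] at h
  obtain ⟨y, hy, ⟨z, z'⟩, hz, hyz⟩ := h
  obtain ⟨a, b, rfl⟩ := Submodule.mem_span_pair.1 hy
  obtain ⟨hz, hz'⟩ := Submodule.mem_prod.1 hz
  have hz'' : z' = 0 := (Submodule.mem_bot _).1 hz'
  have h1 := congrArg Prod.fst hyz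
  have h2 := congrArg Prod.snd hyz
  simp [hz''] at h1 h2
  subst h2
  rw [zero_smul, zero_add] at h1
  have hsq : PowerSeries.order (W4c1hurwitzcpt.RootDisk.val (x ^ m * g * (x ^ m * g))) = (m + m : ℕ) := by
    rw [map_mul, PowerSeries.order_mul, order_w m x g hx hg, Nat.cast_add]
  have hcoeff : ∀ i < n, PowerSeries.coeff i (W4c1hurwitzcpt.RootDisk.val (b • (x ^ m * g))) =
      PowerSeries.coeff i (W4c1hurwitzcpt.RootDisk.val (x ^ m * g * (x ^ m * g))) := fun i hi => by
    rw [← h1, map_add _ (b • (x ^ m * g)) z, map_add (PowerSeries.coeff i), dvd_w n x z hx hz i hi, add_zero]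
  have h3 : PowerSeries.order (W4c1hurwitzcpt.RootDisk.val (b • (x ^ m * g))) = (m + m : ℕ) :=
    PowerSeries.order_eq_nat.2 ⟨by rw [hcoeff _ (by omega)]; exact (PowerSeries.order_eq_nat.1 hsq).1,
      fun i hi => by rw [hcoeff _ (by omega)]; exact (PowerSeries.order_eq_nat.1 hsq).2 i hi⟩
  obtain ⟨c, hc⟩ := hm
  by_cases hb : b = 0
  · rw [hb, zero_smul, map_zero, PowerSeries.order_zero] at h3
    exact ENat.top_ne_natCast _ h3
  obtain ⟨i, e, -, he⟩ := Crimp51.exists_order_sum (fun _ : Fin 1 => x ^ m * g) (fun _ => m)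
    (fun _ => order_w m x g hx hg) (fun _ _ _ => Subsingleton.elim _ _) (fun _ => b) (fun h => hb (congrFun h 0))
  rw [Fin.sum_univ_one, h3, Nat.cast_inj] at he
  omega

end Groth.Agent.S19486
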