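import Mathlib

namespace Groth.Agent.S19487

open Finset

theorem result (p n s D : ℕ) (hp : Odd p) :
    Fintype.card {e : Fin n → Fin p // (∀ i, 1 ≤ (e i : ℕ)) ∧ ∑ i, (e i : ℕ) = s ∧
        (Finset.univ.filter fun i => 2 * (e i : ℕ) < p).card = D} =
      n.choose D * ∑ j ∈ Finset.range (s + 1),
        Fintype.card {e : Fin D → Fin ((p + 1) / 2) // (∀ i, 1 ≤ (e i : ℕ)) ∧ ∑ i, (e i : ℕ) = j} *
          Fintype.card {e : Fin (n - D) → Fin ((p + 1) / 2) // (∀ i, 1 ≤ (e i : ℕ)) ∧ ∑ i, (e i : ℕ) = (s - j - (n - D) * ((p - 1) / 2))} := by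
  obtain ⟨q, rfl⟩ := hp
  rw [show (2 * q + 1 + 1) / 2 = q + 1 by omega, show (2 * q + 1 - 1) / 2 = q by omega]
  simp only [Fintype.card_subtype]
  let small : (Fin n → Fin (2 * q + 1)) → Finset (Fin n) := fun e =>
    univ.filter fun i => 2 * (e i : ℕ) < 2 * q + 1
  let T : Finset ((Fin D → Fin (q + 1)) × (Fin (n - D) → Fin (q + 1))) :=
    univ.filter fun uv => (∀ i, 1 ≤ (uv.1 i : ℕ)) ∧ (∀ i, 1 ≤ (uv.2 i : ℕ)) ∧
      ∑ i, (uv.1 i : ℕ) + (∑ i, (uv.2 i : ℕ) + (n - D) * q) = s
  have key : ∀ S ∈ (univ : Finset (Fin n)).powersetCard D,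
      (univ.filter fun e : Fin n → Fin (2 * q + 1) =>
        (∀ i, 1 ≤ (e i : ℕ)) ∧ ∑ i, (e i : ℕ) = s ∧ small e = S).card = T.card := by
    intro S hS
    rw [mem_powersetCard] at hS
    have hSc : Sᶜ.card = n - D := by rw [card_compl, hS.2, Fintype.card_fin]
    let E : Fin D ⊕ Fin (n - D) ≃ Fin n := finSumEquivOfFinset hS.2 hSc
    have hl : ∀ i, E (Sum.inl i) ∈ S := fun i => by simp [E]
    have hr : ∀ i, E (Sum.inr i) ∉ S := fun i => by
      have : E (Sum.inr i) ∈ Sᶜ := by simp only [E, finSumEquivOfFinset_inr]; exact orderEmbOfFin_mem _ _ _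
      exact mem_compl.1 this
    have hsum : ∀ f : Fin n → ℕ, ∑ i, f i = ∑ i, f (E (Sum.inl i)) + ∑ i, f (E (Sum.inr i)) := by
      intro f
      rw [← E.sum_comp, Fintype.sum_sum_type]
    symm
    refine Finset.card_bij
      (fun uv _ k => Sum.elim (fun i => (⟨uv.1 i, by omega⟩ : Fin (2 * q + 1)))
        (fun i => (⟨uv.2 i + q, by omega⟩ : Fin (2 * q + 1))) (E.symm k))
      ?_ ?_ ?_
    · intro uv huv
      simp only [T, mem_filter, mem_univ, true_and] at huv
      simp only [mem_filter, mem_univ, true_and]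
      refine ⟨fun k => ?_, ?_, ?_⟩
      · obtain ⟨x, rfl⟩ := E.surjective k
        rcases x with i | i <;> simp only [Equiv.symm_apply_apply, Sum.elim_inl, Sum.elim_inr]
        · exact huv.1 i
        · have := huv.2.1 i; omega
      · rw [hsum]
        simp only [Equiv.symm_apply_apply, Sum.elim_inl, Sum.elim_inr, sum_add_distrib, sum_const,
          card_univ, Fintype.card_fin, smul_eq_mul]
        exact huv.2.2
      · ext k
        obtain ⟨x, rfl⟩ := E.surjective k
        simp only [small, mem_filter, mem_univ, true_and, Equiv.symm_apply_apply]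
        rcases x with i | i <;> simp only [Sum.elim_inl, Sum.elim_inr]
        · exact ⟨fun _ => hl i, fun _ => by have := (uv.1 i).isLt; omega⟩
        · exact ⟨fun h => by have := huv.2.1 i; omega, fun h => absurd h (hr i)⟩
    · intro uv _ uv' _ h
      have h' : ∀ x, (Sum.elim (fun i => (⟨uv.1 i, by omega⟩ : Fin (2 * q + 1)))
          (fun i => (⟨uv.2 i + q, by omega⟩ : Fin (2 * q + 1))) x) =
          (Sum.elim (fun i => (⟨uv'.1 i, by omega⟩ : Fin (2 * q + 1)))
            (fun i => (⟨uv'.2 i + q, by omega⟩ : Fin (2 * q + 1))) x) := fun x => by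
        have := congrFun h (E x)
        simpa using this
      refine Prod.ext (funext fun i => Fin.ext ?_) (funext fun i => Fin.ext ?_)
      · have := congrArg Fin.val (h' (Sum.inl i))
        simpa using this
      · have := congrArg Fin.val (h' (Sum.inr i))
        simpa using this
    · intro e he
      simp only [mem_filter, mem_univ, true_and] at he
      obtain ⟨h1, h2, h3⟩ := he
      have hsm : ∀ k, k ∈ S ↔ 2 * (e k : ℕ) < 2 * q + 1 := fun k => by simp [← h3, small]
      have hu : ∀ i, (e (E (Sum.inl i)) : ℕ) < q + 1 := fun i => by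
        have := (hsm _).1 (hl i); omega
      have hv : ∀ i, q < (e (E (Sum.inr i)) : ℕ) := fun i => by
        have := mt (hsm _).2 (hr i); omega
      refine ⟨(fun i => ⟨e (E (Sum.inl i)), hu i⟩,
        fun i => ⟨e (E (Sum.inr i)) - q, by have := (e (E (Sum.inr i))).isLt; omega⟩), ?_, ?_⟩
      · simp only [T, mem_filter, mem_univ, true_and]
        refine ⟨fun i => h1 _, fun i => by have := hv i; omega, ?_⟩
        rw [← h2, hsum]
        congr 1
        calc ∑ i, ((e (E (Sum.inr i)) : ℕ) - q) + (n - D) * q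
            = ∑ i : Fin (n - D), (((e (E (Sum.inr i)) : ℕ) - q) + q) := by
              simp [sum_add_distrib]
          _ = _ := sum_congr rfl fun i _ => by have := hv i; omega
      · funext k
        obtain ⟨x, rfl⟩ := E.surjective k
        apply Fin.ext
        rcases x with i | i <;> simp only [Equiv.symm_apply_apply, Sum.elim_inl, Sum.elim_inr]
        have := hv i; omega
  have hT : T.card = ∑ j ∈ Finset.range (s + 1),
      (univ.filter fun e : Fin D → Fin (q + 1) => (∀ i, 1 ≤ (e i : ℕ)) ∧ ∑ i, (e i : ℕ) = j).card *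
      (univ.filter fun e : Fin (n - D) → Fin (q + 1) => (∀ i, 1 ≤ (e i : ℕ)) ∧
        ∑ i, (e i : ℕ) = s - j - (n - D) * q).card := by
    rw [card_eq_sum_card_fiberwise (f := fun uv => ∑ i, (uv.1 i : ℕ)) (t := range (s + 1))
      (fun uv huv => by
        simp only [T, coe_filter, mem_univ, true_and, Set.mem_ofPred_eq] at huv
        simp only [coe_range, Set.mem_Iio]
        omega)]
    refine sum_congr rfl fun j hj => ?_
    rw [mem_range] at hj
    rw [← card_product]
    congr 1
    ext uv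
    simp only [T, mem_filter, mem_univ, true_and, mem_product]
    refine ⟨fun ⟨⟨a, b, c⟩, d⟩ => ⟨⟨a, d⟩, b, by omega⟩, fun ⟨⟨a, d⟩, b, c⟩ => ⟨⟨a, b, ?_⟩, d⟩⟩
    have : n - D ≤ ∑ i, (uv.2 i : ℕ) :=
      le_trans (by simp) (sum_le_sum (fun i (_ : i ∈ univ) => b i))
    rcases Nat.eq_zero_or_pos (n - D) with h0 | h0
    · have h1 : (n - D) * q = 0 := mul_eq_zero_of_left h0 q
      omega
    · omega
  rw [← hT, card_eq_sum_card_fiberwise (f := small) (t := (univ : Finset (Fin n)).powersetCard D)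
    (fun e he => by
      simp only [coe_filter, mem_univ, true_and, Set.mem_ofPred_eq] at he
      exact mem_powersetCard.2 ⟨subset_univ _, he.2.2⟩)]
  rw [sum_congr rfl (g := fun _ => T.card), sum_const, card_powersetCard, card_univ,
    Fintype.card_fin, smul_eq_mul]
  intro S hS
  rw [← key S hS, filter_filter]
  congr 1
  refine filter_congr fun e _ => ⟨fun ⟨⟨a, b, _⟩, c⟩ => ⟨a, b, c⟩, fun ⟨a, b, c⟩ => ⟨⟨a, b, ?_⟩, c⟩⟩
  change (small e).card = D
  rw [c, (mem_powersetCard.1 hS).2]

end Groth.Agent.S19487
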