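import Mathlib
import Groth.Statements.S19488

set_option autoImplicit false
universe u
open CategoryTheory CategoryTheory.Limits AlgebraicGeometry
open W4c1frobunstiva

namespace Groth.Agent.S19488

theorem result
    {S T : Scheme.{u}} (f : S ⟶ T) [IsClosedImmersion f] (G : T.Modules) (E : S.Modules)
    (ψ : G ⟶ (Scheme.Modules.pushforward f).obj E) [Epi ψ] :
    Epi (((Scheme.Modules.pullbackPushforwardAdjunction f).homEquiv G E).symm ψ) ∧
      Epi (kernelComparison ψ (Scheme.Modules.pullback f)) := by
  haveI : (Scheme.Modules.pushforward f).Faithful := ⟨fun {M N} a b h => Scheme.Modules.hom_ext _ _ fun U => by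
    obtain ⟨s, hs, hsU⟩ := f.isClosedEmbedding.isInducing.isOpen_iff.mp U.2
    obtain rfl : f ⁻¹ᵁ (⟨s, hs⟩ : T.Opens) = U := TopologicalSpace.Opens.ext hsU
    simpa using congrArg (fun φ => Scheme.Modules.Hom.app φ (⟨s, hs⟩ : T.Opens)) h⟩
  let adj := Scheme.Modules.pullbackPushforwardAdjunction f
  haveI : (Scheme.Modules.pullback f).IsLeftAdjoint := adj.isLeftAdjoint
  refine ⟨?_, ?_⟩
  · rw [Adjunction.homEquiv_counit]
    exact epi_comp _ _
  · have hS : (ShortComplex.mk (kernel.ι ψ) ψ (kernel.condition ψ)).Exact :=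
      ShortComplex.exact_of_f_is_kernel _ (kernelIsKernel ψ)
    haveI : Epi (ShortComplex.mk (kernel.ι ψ) ψ (kernel.condition ψ)).g := inferInstanceAs (Epi ψ)
    haveI : (Scheme.Modules.pullback f).PreservesZeroMorphisms := Functor.preservesZeroMorphisms_of_isLeftAdjoint _
    let S' := (ShortComplex.mk (kernel.ι ψ) ψ (kernel.condition ψ)).map (Scheme.Modules.pullback f)
    haveI := PreservesColimitsOfShape.preservesColimit (F := Scheme.Modules.pullback f) (K := parallelPair (kernel.ι ψ) 0)
    have hc : IsColimit (CokernelCofork.ofπ S'.g S'.zero) :=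
      CokernelCofork.mapIsColimit _ hS.gIsCokernel (Scheme.Modules.pullback f)
    have hS' : S'.Exact := S'.exact_of_g_is_cokernel hc
    exact S'.exact_iff_epi_kernel_lift.mp hS'

end Groth.Agent.S19488
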