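import Groth.Statements.S1949
import Groth.Agent.IntMult12.P1Move

set_option autoImplicit false
universe u
open CategoryTheory CategoryTheory.Limits AlgebraicGeometry
attribute [local instance] HasDerivedCategory.standard
open IntMult

namespace Groth.Agent.S1949

/-- Let W → P^1_X be a closed immersion with W integral of dimension s + 1 (for the dimension function
δP on P^1_X induced from δ) dominating P^1_K (dense image under P^1_X → P^1_K), W_0, W_∞ → X its
pullbacks along the sections at 0 and ∞, and V ⊆ X the closure of a point v with δ(v) = r, such that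
[V] intersects [W_0]_s and [W_∞]_s properly. Then [V]·[W_0]_s ∼_rat [V]·[W_∞]_s as (r + s −
n)-cycles on X. (The source allows any two closed points a, b of P^1; they are taken to be 0 and ∞,
to which any two distinct closed points are carried by an automorphism of P^1 over the algebraically
closed K.) Here X is a nonsingular variety over the algebraically closed field K (smooth, separated,
quasi-compact, integral) with dimension function δ (transcendence degree) and n = dim X; cycles are
Mathlib AlgebraicCycles with Cyc.Zk membership, proper intersection is IntMult.IntersectProperly and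
α · β is the Tor-formula intersection product on coefficient functions (IntMult.interProd), bundled
where needed as 'any cycle with these coefficients'. -/
theorem result (K : Type u) [Field K] [IsAlgClosed K] (X : Scheme.{u}) (f : X ⟶ Spec (CommRingCat.of K)) [Smooth f] [IsSeparated f] [QuasiCompact f] [IsIntegral X] (δ : X → ℤ) (hX : Cyc.IsSetup X δ) (hδ : Cyc.DeltaCompat f δ (fun _ => 0)) (n : ℤ) (hn : δ (genericPoint X) = n) (δP : ↥(CohB1.ProjSpaceOver 1 X) → ℤ) (hP : Cyc.DeltaCompat (CohB1.ProjSpaceOver.toBase 1 X) δP δ) (r s : ℤ) (W : Scheme.{u}) [IsIntegral W] (ιW : W ⟶ CohB1.ProjSpaceOver 1 X) [IsClosedImmersion ιW] (hW : δP (ιW (genericPoint W)) = s + 1) (hdom : ∀ U : (CohB1.ProjSpaceOver 1 (Spec (CommRingCat.of K))).Opens, (U : Set ↥(CohB1.ProjSpaceOver 1 (Spec (CommRingCat.of K)))).Nonempty → ∃ w : W, (ιW ≫ P1.toP1 f) w ∈ U) (v : X) (hv : δ v = r) (h0 : IntMult.IntersectProperly δ n (Set.indicator {v} 1) (Cyc.subschemeFun δ s (pullback.snd ιW (P1.sect X 0)))) (h1 : IntMult.IntersectProperly δ n (Set.indicator {v} 1) (Cyc.subschemeFun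 δ s (pullback.snd ιW (P1.sect X 1)))) (γ₀ γ₁ : AlgebraicCycle X ℤ) (hγ₀ : ⇑γ₀ = IntMult.interProd δ n (Set.indicator {v} 1) (Cyc.subschemeFun δ s (pullback.snd ιW (P1.sect X 0)))) (hγ₁ : ⇑γ₁ = IntMult.interProd δ n (Set.indicator {v} 1) (Cyc.subschemeFun δ s (pullback.snd ιW (P1.sect X 1)))) : Cyc.RatEquiv δ (r + s - n) γ₀ γ₁ := by
  haveI : IsProper (CohB1.ProjSpaceOver.toBase 1 X) := Cyc90.P1L.isProper_toBase X
  exact IntMult12.ratEquiv_sect δ δP hX hP f hδ n hn r s ιW hW
    (IntMult12.notMem_range_of_dominant f ιW hdom) v hv (Fin.forall_fin_two.2 ⟨h0, h1⟩) ![γ₀, γ₁]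
    (Fin.forall_fin_two.2 ⟨hγ₀, hγ₁⟩)

end Groth.Agent.S1949
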