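import Groth.Statements.S19493
import Groth.Agent.Hopf35.EtaleHull.Fac
import Groth.Agent.S1699
import Groth.Agent.FlatMor68.DedekindFlat
-- import your own Groth.Agent.* helpers here

set_option autoImplicit false
universe u
open CategoryTheory AlgebraicGeometry
open EtHull

namespace Groth.Agent.S19493

open Groth.Agent.Hopf35.EtaleHull IsLocalRing in
/-- A point of an etale scheme over an associated point is associated. -/
theorem isAss_of_map {E S : Scheme.{u}} [IsLocallyNoetherian S] (g : E ⟶ S) [Etale g] {z : E}
    (hz : IsAss (g z)) : IsAss z := by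
  haveI : LocallyQuasiFinite g := Groth.Agent.Unr55.locallyQuasiFinite_of_formallyUnramified g
  haveI : IsLocallyNoetherian E := LocallyOfFiniteType.isLocallyNoetherian g
  obtain ⟨hp, s, hs⟩ := hz
  let φ := (g.stalkMap z).hom
  algebraize [(g.stalkMap z).hom]
  have hff : Module.FaithfullyFlat (S.presheaf.stalk (g z)) (E.presheaf.stalk z) :=
    @Module.FaithfullyFlat.of_flat_of_isLocalHom _ _ _ _ _ _ _
      (Flat.stalkMap g z) (g.toLRSHom.prop z)
  have hs0 : φ s ≠ 0 := fun h => by
    have : s = 0 := ‹RingHom.FaithfullyFlat _›.injective (h.trans (map_zero _).symm)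
    exact hp.ne_top (by rw [hs, this]; simp)
  obtain ⟨p, hp', hle⟩ := exists_le_isAssociatedPrime_of_isNoetherianRing (E.presheaf.stalk z) (φ s) hs0
  let P : PrimeSpectrum (E.presheaf.stalk z) := ⟨p, hp'.isPrime⟩
  have hP : PrimeSpectrum.comap φ P = closedPoint (S.presheaf.stalk (g z)) := by
    refine PrimeSpectrum.ext (le_antisymm (le_maximalIdeal (Ideal.IsPrime.ne_top inferInstance)) fun a ha => ?_)
    have ha' : a ∈ maximalIdeal (S.presheaf.stalk (g z)) := ha
    rw [hs] at ha'
    obtain ⟨k, hk⟩ := ha'
    rw [Submodule.mem_colon_singleton, Submodule.mem_bot, smul_eq_mul] at hk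
    show φ a ∈ p
    refine hp'.isPrime.mem_of_pow_mem k (hle ?_)
    rw [Submodule.mem_colon_singleton, Submodule.mem_bot, smul_eq_mul, ← map_pow, ← map_mul, hk, map_zero]
  have hz' : E.fromSpecStalk z P = z := by
    refine eq_of_specializes g ?_ ?_
    · have : E.fromSpecStalk z P ∈ Set.range (E.fromSpecStalk z) := ⟨P, rfl⟩
      rw [Scheme.range_fromSpecStalk] at this
      exact this
    · show (E.fromSpecStalk z ≫ g) P = _
      rw [← Scheme.SpecMap_stalkMap_fromSpecStalk]
      show S.fromSpecStalk (g z) (PrimeSpectrum.comap φ P) = _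
      rw [hP]
      exact Scheme.fromSpecStalk_closedPoint
  have hP' : P = closedPoint (E.presheaf.stalk z) :=
    (E.fromSpecStalk z).isEmbedding.injective (hz'.trans Scheme.fromSpecStalk_closedPoint.symm)
  show IsAssociatedPrime _ _
  rw [show maximalIdeal (E.presheaf.stalk z) = p from (congrArg PrimeSpectrum.asIdeal hP').symm]
  exact hp'

open Groth.Agent.Hopf35.EtaleHull IsLocalRing TopologicalSpace in
/-- A flat morphism to a locally Noetherian scheme is scheme-theoretically dominant iff it hits every
associated point. -/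
theorem dominant_iff {X E : Scheme.{u}} [IsLocallyNoetherian E] (u : X ⟶ E) [Flat u] :
    IsSchemeTheoreticallyDominant u ↔ ∀ y : E, IsAss y → y ∈ Set.range u := by
  constructor
  · intro hu z hz
    by_contra hzu
    let O : E.Opens := ⟨(closure {z})ᶜ, isClosed_closure.isOpen_compl⟩
    have hsub : Set.range u ⊆ Set.range O.ι := by
      rw [Scheme.Opens.range_ι]
      rintro _ ⟨x, rfl⟩ hx
      obtain ⟨x', -, hx'⟩ := Flat.generalizingMap u (specializes_iff_mem_closure.2 hx)
      exact hzu ⟨x', hx'⟩
    have hker : O.ι.ker = ⊥ := le_bot_iff.1 (by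
      have := Scheme.Hom.le_ker_comp (IsOpenImmersion.lift O.ι u hsub) O.ι
      rwa [IsOpenImmersion.lift_fac, hu.ker_eq_bot] at this)
    haveI : IsSchemeTheoreticallyDominant O.ι := ⟨hker⟩
    have hO : CInt.IsSchematicallyDense O := fun V => by
      intro a b hab
      apply O.ι.app_injective V
      have he : O.ι ''ᵁ (O.ι ⁻¹ᵁ V) = V ⊓ O := by
        rw [Scheme.Hom.image_preimage_eq_opensRange_inf, Scheme.Opens.opensRange_ι, inf_comm]
      simp only [Scheme.Opens.ι_app]
      have h' := congrArg (E.presheaf.map (eqToHom he).op) hab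
      erw [← ConcreteCategory.comp_apply, ← ConcreteCategory.comp_apply, ← Functor.map_comp] at h'
      exact h'
    exact (Groth.Agent.S1699.result E O).1 hO z hz (subset_closure rfl)
  · intro h
    rw [isSchemeTheoreticallyDominant_iff, ← le_bot_iff, Scheme.IdealSheafData.le_def]
    intro W a ha
    have h0 : u.app W.1 a = 0 := RingHom.mem_ker.1 ((u.ideal_ker_le W) ha)
    show a = 0
    refine TopCat.Presheaf.section_ext E.sheaf _ _ _ fun y hy => ?_
    show E.presheaf.germ W.1 y hy a = E.presheaf.germ W.1 y hy 0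
    rw [map_zero]
    by_contra hne
    obtain ⟨p, hp, hle⟩ := exists_le_isAssociatedPrime_of_isNoetherianRing (E.presheaf.stalk y) _ hne
    let P : PrimeSpectrum (E.presheaf.stalk y) := ⟨p, hp.isPrime⟩
    have hz : Curv2.IsAssPoint (Coh.structureModule E) (E.fromSpecStalk y P) :=
      Groth.Agent.FlatMor68.DedekindFlat.assPrime_maximal_of_localization P hp
    obtain ⟨x, hx⟩ := h _ ((mem_ass_iff _).1 hz)
    have hzy : E.fromSpecStalk y P ⤳ y := by
      have : E.fromSpecStalk y P ∈ Set.range (E.fromSpecStalk y) := ⟨P, rfl⟩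
      rw [Scheme.range_fromSpecStalk] at this
      exact this
    have hxW : u x ∈ W.1 := by rw [hx]; exact hzy.mem_open W.1.2 hy
    have hgerm : E.presheaf.germ W.1 (u x) hxW a = 0 := by
      algebraize [(u.stalkMap x).hom]
      have : Module.FaithfullyFlat (E.presheaf.stalk (u x)) (X.presheaf.stalk x) :=
        @Module.FaithfullyFlat.of_flat_of_isLocalHom _ _ _ _ _ _ _
          (Flat.stalkMap u x) (u.toLRSHom.prop x)
      apply ‹RingHom.FaithfullyFlat _›.injective
      rw [map_zero]
      erw [Scheme.Hom.germ_stalkMap_apply]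
      rw [h0, map_zero]
    have key : ∀ (z : E) (hzy : z ⤳ y), z = u x →
        (E.presheaf.stalkSpecializes hzy).hom (E.presheaf.germ W.1 y hy a) = 0 := by
      rintro z hzy rfl
      exact (TopCat.Presheaf.germ_stalkSpecializes_apply E.presheaf hy hzy a).trans hgerm
    have h1 := key _ hzy hx.symm
    letI := (E.presheaf.stalkSpecializes hzy).hom.toAlgebra
    haveI := Groth.Agent.Cyc90.isLocalization_genPrime hzy
    obtain ⟨⟨c, hc⟩, hca⟩ := (IsLocalization.map_eq_zero_iff (Groth.Agent.Cyc90.genPrime hzy).asIdeal.primeCompl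
      (E.presheaf.stalk (E.fromSpecStalk y P)) _).mp h1
    have hcp : c ∈ p := hle (by rw [Submodule.mem_colon_singleton]; simpa using hca)
    have hq : (Groth.Agent.Cyc90.genPrime hzy).asIdeal = p :=
      congrArg PrimeSpectrum.asIdeal (Groth.Agent.Cyc90.genPrime_fromSpecStalk P)
    rw [← hq] at hcp
    exact hc hcp

/-- Let f : S' → S be a morphism of locally Noetherian schemes which is integral, radicial (universally
injective) and surjective, and which matches embedded points: a point s' of S' is an embedded
associated point of O_{S'} (an associated point that is a proper specialization of another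
associated point) if and only if f(s') is an embedded associated point of O_S. Let a : X → S be
faithfully flat, g : E → S étale and u : X → E a morphism with u ≫ g = a, so that X → E → S is a
factorization of a through an étale S-scheme. Let E' → S' be the base change of g along f, with
projection φ : E' → E, and u' : X' → E' the base change of u along φ (so X' = X ×_S S'). Then u is
scheme-theoretically dominant if and only if u' is. (The source allows algebraic spaces; schemes
here.) -/
theorem result {X E S S' E' X' : Scheme.{u}}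
    [IsLocallyNoetherian S] [IsLocallyNoetherian S'] (f : S' ⟶ S) [IsIntegralHom f]
    [UniversallyInjective f] [Surjective f]
    (hemb : ∀ s' : S', (s' ∈ AssSch.Ass (Coh.structureModule S') ∧ ∃ t ∈ AssSch.Ass (Coh.structureModule S'), t ⤳ s' ∧ t ≠ s') ↔
      (f.base s' ∈ AssSch.Ass (Coh.structureModule S) ∧ ∃ t ∈ AssSch.Ass (Coh.structureModule S), t ⤳ f.base s' ∧ t ≠ f.base s'))
    (a : X ⟶ S) [Flat a] [Surjective a] (g : E ⟶ S) [Etale g] (u : X ⟶ E) (hu : u ≫ g = a)
    (g' : E' ⟶ S') (φ : E' ⟶ E) (hE : IsPullback φ g' g f)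
    (u' : X' ⟶ E') (ψ : X' ⟶ X) (hX : IsPullback ψ u' u φ) :
    IsSchemeTheoreticallyDominant u ↔ IsSchemeTheoreticallyDominant u' := by
  haveI hflat : Flat u := Groth.Agent.Hopf35.EtaleHull.flat_of_etale u g hu
  haveI : Flat u' := MorphismProperty.of_isPullback (P := @Flat) hX hflat
  haveI : Etale g' := MorphismProperty.of_isPullback (P := @Etale) hE inferInstance
  haveI : IsLocallyNoetherian E := LocallyOfFiniteType.isLocallyNoetherian g
  haveI : IsLocallyNoetherian E' := LocallyOfFiniteType.isLocallyNoetherian g'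
  haveI hint : IsIntegralHom φ := MorphismProperty.of_isPullback (P := @IsIntegralHom) hE.flip inferInstance
  haveI hui : UniversallyInjective φ := MorphismProperty.of_isPullback (P := @UniversallyInjective) hE.flip inferInstance
  haveI hsur : Surjective φ := MorphismProperty.of_isPullback (P := @Surjective) hE.flip inferInstance
  -- associated points of the base
  have hS : ∀ s' : S', Groth.Agent.Hopf35.EtaleHull.IsAss s' ↔ Groth.Agent.Hopf35.EtaleHull.IsAss (f s') := by
    have hbij : Function.Bijective f := ⟨f.injective, f.surjective⟩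
    have hspec : ∀ a b : S', f a ⤳ f b → a ⤳ b := fun a b h => by
      rw [specializes_iff_mem_closure]
      have hc : f b ∈ f '' closure {a} := by
        refine closure_minimal ?_ (f.isClosedMap _ isClosed_closure) h.mem_closure
        exact Set.singleton_subset_iff.2 ⟨a, subset_closure rfl, rfl⟩
      obtain ⟨c, hc, hce⟩ := hc
      exact hbij.1 hce ▸ hc
    have hgen : ∀ s' : S', Groth.Agent.Hopf35.EtaleHull.IsGen s' ↔ Groth.Agent.Hopf35.EtaleHull.IsGen (f s') := by
      intro s'
      constructor
      · intro h y hy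
        obtain ⟨t, rfl⟩ := hbij.2 y
        rw [h t (hspec t s' hy)]
      · intro h t ht
        exact hbij.1 (h _ (ht.map f.continuous))
    have haux : ∀ {Y : Scheme.{u}} [IsLocallyNoetherian Y] (y : Y), Groth.Agent.Hopf35.EtaleHull.IsAss y →
        Groth.Agent.Hopf35.EtaleHull.IsGen y ∨ (y ∈ AssSch.Ass (Coh.structureModule Y) ∧
          ∃ t ∈ AssSch.Ass (Coh.structureModule Y), t ⤳ y ∧ t ≠ y) := by
      intro Y _ y hy
      by_cases hg : Groth.Agent.Hopf35.EtaleHull.IsGen y
      · exact Or.inl hg
      · obtain ⟨t, ht, htg⟩ := Groth.Agent.Hopf35.EtaleHull.exists_gen y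
        exact Or.inr ⟨(Groth.Agent.Hopf35.EtaleHull.mem_ass_iff y).2 hy, t,
          (Groth.Agent.Hopf35.EtaleHull.mem_ass_iff t).2 (Groth.Agent.Hopf35.EtaleHull.isAss_of_isGen htg), ht,
          fun h => hg (h ▸ htg)⟩
    intro s'
    constructor
    · intro h
      rcases haux s' h with h' | h'
      · exact Groth.Agent.Hopf35.EtaleHull.isAss_of_isGen ((hgen s').1 h')
      · exact (Groth.Agent.Hopf35.EtaleHull.mem_ass_iff _).1 ((hemb s').1 h').1
    · intro h
      rcases haux (f s') h with h' | h'
      · exact Groth.Agent.Hopf35.EtaleHull.isAss_of_isGen ((hgen s').2 h')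
      · exact (Groth.Agent.Hopf35.EtaleHull.mem_ass_iff _).1 ((hemb s').2 h').1
  have hE' : ∀ y : E', Groth.Agent.Hopf35.EtaleHull.IsAss y ↔ Groth.Agent.Hopf35.EtaleHull.IsAss (φ y) := by
    intro y
    have hw : g (φ y) = f (g' y) := by rw [← Scheme.Hom.comp_apply, hE.w, Scheme.Hom.comp_apply]
    constructor
    · intro h
      refine isAss_of_map g ?_
      rw [hw]
      exact (hS _).1 (Groth.Agent.Hopf35.EtaleHull.isAss_map g' h)
    · intro h
      refine isAss_of_map g' ((hS _).2 ?_)
      rw [← hw]
      exact Groth.Agent.Hopf35.EtaleHull.isAss_map g h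
  have hrange : ∀ y : E', y ∈ Set.range u' ↔ φ y ∈ Set.range u := by
    intro y
    constructor
    · rintro ⟨x', rfl⟩
      exact ⟨ψ x', by rw [← Scheme.Hom.comp_apply, hX.w, Scheme.Hom.comp_apply]⟩
    · rintro ⟨x, hx⟩
      obtain ⟨q, -, hq⟩ := Scheme.Pullback.exists_preimage_pullback (f := u) (g := φ) x y hx
      refine ⟨hX.isoPullback.inv q, ?_⟩
      rw [← Scheme.Hom.comp_apply, hX.isoPullback_inv_snd, hq]
  rw [dominant_iff u, dominant_iff u']
  constructor
  · exact fun h y hy => (hrange y).2 (h _ ((hE' y).1 hy))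
  · intro h y hy
    obtain ⟨y', rfl⟩ := φ.surjective y
    exact (hrange y').1 (h _ ((hE' y').2 hy))

end Groth.Agent.S19493
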