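import Groth.Statements.S19499
import Groth.Agent.Cyc90.Defo.Centre
import Groth.Agent.S2896
import Groth.Agent.Div89.BlowSpec
import Groth.Agent.RegImm10.BlowLocal

set_option autoImplicit false
set_option backward.isDefEq.respectTransparency.types false
set_option synthInstance.maxHeartbeats 200000
set_option linter.style.haveILetI false
universe u
open CategoryTheory CategoryTheory.Limits AlgebraicGeometry
open IntTh

namespace Groth.Agent.S19499

/-- Formation of M commutes with base change: let f : X ⟶ S be locally projective, flat, surjective and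
locally of finite presentation, with every fibre of local dimension n at each of its points, and let
i : Y ⟶ X be a closed immersion that is regular of constant codimension c ≤ n (locally cut out by a
regular sequence of length c) such that Y ⟶ S is again locally projective, flat, surjective and
locally of finite presentation with fibres of local dimension n − c everywhere. Let b : M ⟶ P¹_X be
a blowing-up of P¹_X in the closed subscheme Y × {∞} (the image of Y under the section at infinity),
given through its universal property. Let S' ⟶ S be any morphism, X' = X ×_S S' and Y' = Y ×_S S'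
the base changes with the induced closed immersion i' : Y' ⟶ X', and M' = M ×_{P¹_X} P¹_{X'} with
projection b' : M' ⟶ P¹_{X'} (so M' = M ×_S S'). Then b' is a blowing-up of P¹_{X'} in Y' × {∞}: the
formation of the deformation to the normal cone commutes with arbitrary base change on S. -/
theorem result
    {S S' X X' Y Y' M M' : Scheme.{u}} (f : X ⟶ S) (n c : ℕ) (hc : c ≤ n)
    (hfproj : RedSub.IsLocallyProjective (Over.mk f))
    [Flat f] [Surjective f] [LocallyOfFinitePresentation f]
    (hfdim : ∀ x : ↥X, FlatMor.fibreDimAt f x = n)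
    (i : Y ⟶ X) [IsClosedImmersion i]
    (hi : RegImm.IsRegularImmersionOfCodim RegImm.Kind.regular c i)
    (hgproj : RedSub.IsLocallyProjective (Over.mk (i ≫ f)))
    [Flat (i ≫ f)] [Surjective (i ≫ f)] [LocallyOfFinitePresentation (i ≫ f)]
    (hgdim : ∀ y : ↥Y, FlatMor.fibreDimAt (i ≫ f) y = ((n - c : ℕ) : WithBot ℕ∞))
    (b : M ⟶ CohB1.ProjSpaceOver 1 X)
    (hb : BlowUp.IsBlowUp b (i ≫ P1.sect X 1).ker)
    (h : S' ⟶ S) (f' : X' ⟶ S') (g : X' ⟶ X) (hX : IsPullback g f' f h)
    (i' : Y' ⟶ X') (gY : Y' ⟶ Y) (hY : IsPullback gY i' i g)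
    (b' : M' ⟶ CohB1.ProjSpaceOver 1 X') (μ : M' ⟶ M) (hM : IsPullback μ b' b (P1.toP1 g)) :
    BlowUp.IsBlowUp b' (i' ≫ P1.sect X' 1).ker := by
  set str := CohB1.ProjSpaceOver.toBase 1 X ≫ f with hstr
  set J := (i ≫ P1.sect X 1).ker with hJ
  haveI : Flat ((i ≫ P1.sect X 1) ≫ str) := by
    have e : (i ≫ P1.sect X 1) ≫ str = i ≫ f := by
      rw [hstr, Category.assoc, ← Category.assoc (P1.sect X 1), Cyc90.P1L.sect_toBase, Category.id_comp]
    rw [e]; infer_instance
  obtain ⟨-, hbc⟩ := S2896.result str J
    (fun m => Cyc90.Defo.flat_pow (i ≫ P1.sect X 1) (Cyc90.Defo.isRegularImmersion_centre i hi) str m) b hb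
  have hP' : IsPullback (P1.toP1 g) (CohB1.ProjSpaceOver.toBase 1 X' ≫ f') str h :=
    (Cyc90.Defo.isPullback_sect_toP1.isPullback_toP1 g).paste_vert hX
  have hM' : IsPullback μ (b' ≫ CohB1.ProjSpaceOver.toBase 1 X' ≫ f') (b ≫ str) h := hM.paste_vert hP'
  set φ := hP'.isoPullback with hφ
  set e := hM'.isoPullback with he
  have hcomp : b' ≫ φ.hom = e.hom ≫ CInt.baseChangeOver b str h := by
    apply pullback.hom_ext
    · rw [Category.assoc, hP'.isoPullback_hom_fst, Category.assoc, CInt.baseChangeOver, pullback.map,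
        pullback.lift_fst, ← Category.assoc, hM'.isoPullback_hom_fst, hM.w]
    · rw [Category.assoc, hP'.isoPullback_hom_snd, Category.assoc, CInt.baseChangeOver, pullback.map,
        pullback.lift_snd, Category.comp_id, hM'.isoPullback_hom_snd]
  haveI : IsClosedImmersion i' := MorphismProperty.of_isPullback hY inferInstance
  have hJ' : (i' ≫ P1.sect X' 1).ker = J.comap (P1.toP1 g) :=
    An92.FSch.comap_ker_of_isPullback (hY.paste_vert (Cyc90.Defo.isPullback_sect_toP1 g 1)).flip
  have h1 : BlowUp.IsBlowUp (b' ≫ φ.hom) (J.comap (pullback.fst str h)) := by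
    rw [hcomp]
    exact RegImm10.BlowLocal.isBlowUp_iso_comp e (hbc S' h)
  have h2 : (J.comap (P1.toP1 g)).comap φ.symm.hom = J.comap (pullback.fst str h) := by
    rw [← Scheme.IdealSheafData.comap_comp, Iso.symm_hom, hP'.isoPullback_inv_fst]
  have h3 := Div89.isBlowUp_comp_iso φ.symm (b' ≫ φ.hom) (J.comap (P1.toP1 g)) (h2 ▸ h1)
  rw [Iso.symm_hom, Category.assoc, φ.hom_inv_id, Category.comp_id] at h3
  exact hJ' ▸ h3

end Groth.Agent.S19499
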