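import Groth.Agent.Cubic51.TFinite
import Groth.Statements.S19500
-- import your own Groth.Agent.* helpers here

set_option autoImplicit false
universe u
open Cubic

namespace Groth.Agent.S19500

open Groth.Agent.Cubic51 Groth.Agent.Eckardt51 MvPolynomial

/-- Let K be an algebraically closed field of characteristic zero and S = V(F) ⊂ P^3_K a cubic surface
(F homogeneous of degree 3) which is irreducible and not a cone (no nonzero vector v has Σ_i v_i
∂F/∂x_i = 0). For a nonzero vector b with F(b) = 0 write ℓ_b = Σ_i ∂F/∂x_i(b) · x_i for the linear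
form of the tangent plane at b; call b a T-point when b is a smooth point of S (some ∂F/∂x_i(b) ≠ 0)
and F is congruent modulo ℓ_b to a product of three linear forms (the plane cubic T_b S ∩ S is
set-theoretically a union of lines). Let a be a smooth point of S which is not a T-point and H ⊂ K^4
the hyperplane ℓ_a = 0 (the tangent plane T_a S). Then T_a S contains only finitely many T-points of
S: the set of one-dimensional subspaces U ≤ H all of whose nonzero vectors are T-points is finite. -/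
theorem result (K : Type u) [Field K] [IsAlgClosed K]
    [CharZero K] (F : MvPolynomial (Fin 4) K) (hF : F.IsHomogeneous 3) (hirr : Irreducible F)
    (hcone : ¬ ∃ v : Fin 4 → K, v ≠ 0 ∧ ∑ i : Fin 4, v i • MvPolynomial.pderiv i F = 0)
    (tp : (Fin 4 → K) → Prop)
    (htp : ∀ b : Fin 4 → K, tp b ↔ (b ≠ 0 ∧ MvPolynomial.eval b F = 0 ∧
      (∃ i : Fin 4, MvPolynomial.eval b (MvPolynomial.pderiv i F) ≠ 0) ∧
      ∃ L₁ L₂ L₃ : MvPolynomial (Fin 4) K, L₁.IsHomogeneous 1 ∧ L₂.IsHomogeneous 1 ∧ L₃.IsHomogeneous 1 ∧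
        F - L₁ * L₂ * L₃ ∈ Ideal.span {∑ i : Fin 4,
          MvPolynomial.C (MvPolynomial.eval b (MvPolynomial.pderiv i F)) * MvPolynomial.X i}))
    (a : Fin 4 → K) (haF : MvPolynomial.eval a F = 0)
    (hsm : ∃ i : Fin 4, MvPolynomial.eval a (MvPolynomial.pderiv i F) ≠ 0) (ha : ¬ tp a)
    (H : Submodule K (Fin 4 → K))
    (hH : ∀ x : Fin 4 → K, x ∈ H ↔ MvPolynomial.eval x (∑ i : Fin 4,
      MvPolynomial.C (MvPolynomial.eval a (MvPolynomial.pderiv i F)) * MvPolynomial.X i) = 0) :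
    Set.Finite {U : Submodule K (Fin 4 → K) | Module.finrank K ↥U = 1 ∧ U ≤ H ∧
      ∀ b ∈ U, b ≠ 0 → tp b} := by
  classical
  have hC : NonCone (ofPoly F) := nonCone_of hF hcone
  have hP : NoPlane (ofPoly F) := noPlane_of_irr hF hirr
  have hell : ∀ b x : Fin 4 → K, eval x (∑ i : Fin 4, C (eval b (pderiv i F)) * X i) =
      3 * (ofPoly F).T b b x := fun b x => by
    rw [← sum_pderiv_eq hF, map_sum]
    exact Finset.sum_congr rfl fun i _ => by rw [map_mul, eval_C, eval_X]; ring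
  have hsm' : ∀ b : Fin 4 → K, (∃ i : Fin 4, eval b (pderiv i F) ≠ 0) → (ofPoly F).T b b ≠ 0 :=
    fun b ⟨i, hi⟩ h => hi (by rw [← ofPoly_T_single hF, h]; simp)
  have hHeq : H = LinearMap.ker ((ofPoly F).T a a) := Submodule.ext fun x => by
    rw [hH, hell, LinearMap.mem_ker, mul_eq_zero, or_iff_right (by norm_num : (3 : K) ≠ 0)]
  have hns : ¬ SplitOn (ofPoly F) (LinearMap.ker ((ofPoly F).T a a)) := by
    rintro ⟨l₁, l₂, l₃, hl⟩
    refine ha ((htp a).2 ⟨fun h => hsm' a hsm (by simp [h]), haF, hsm, linPoly l₁, linPoly l₂,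
      linPoly l₃, linPoly_homogeneous _, linPoly_homogeneous _, linPoly_homogeneous _, ?_⟩)
    have hd := dvd_of_vanish (hsm' a hsm) (G := F - linPoly l₁ * linPoly l₂ * linPoly l₃)
      fun x hx => by
        rw [map_sub, map_mul, map_mul, eval_linPoly, eval_linPoly, eval_linPoly, eval_eq_f hF,
          hl x (LinearMap.mem_ker.2 hx), sub_self]
    rw [Ideal.mem_span_singleton,
      show ∑ i : Fin 4, C (eval a (pderiv i F)) * X i = C 3 * linPoly ((ofPoly F).T a a) from
        MvPolynomial.funext fun x => by rw [hell, map_mul, eval_C, eval_linPoly],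
      IsUnit.mul_left_dvd (IsUnit.map C (isUnit_iff_ne_zero.2 (by norm_num : (3 : K) ≠ 0)))]
    exact hd
  have hsplit : ∀ b, tp b → (ofPoly F).f b = 0 ∧ (ofPoly F).T b b ≠ 0 ∧
      SplitOn (ofPoly F) (LinearMap.ker ((ofPoly F).T b b)) := by
    intro b hb
    obtain ⟨-, hbF, hbs, L₁, L₂, L₃, h₁, h₂, h₃, hmem⟩ := (htp b).1 hb
    refine ⟨by rw [← eval_eq_f hF]; exact hbF, hsm' b hbs, ?_⟩
    have hlin : ∀ L : MvPolynomial (Fin 4) K, L.IsHomogeneous 1 →
        ∃ l : (Fin 4 → K) →ₗ[K] K, ∀ x, eval x L = l x := fun L hL => by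
      refine ⟨∑ i, constantCoeff (pderiv i L) • LinearMap.proj i, fun x => ?_⟩
      have h := euler hL x
      simp only [Nat.cast_one, one_mul] at h
      rw [← h, LinearMap.sum_apply]
      refine Finset.sum_congr rfl fun i _ => ?_
      rw [eval_eq_constantCoeff (show (pderiv i L).IsHomogeneous 0 from hL.pderiv),
        LinearMap.smul_apply, LinearMap.proj_apply, smul_eq_mul, mul_comm]
    obtain ⟨l₁, hl₁⟩ := hlin L₁ h₁
    obtain ⟨l₂, hl₂⟩ := hlin L₂ h₂
    obtain ⟨l₃, hl₃⟩ := hlin L₃ h₃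
    refine ⟨l₁, l₂, l₃, fun z hz => ?_⟩
    obtain ⟨G, hG⟩ := Ideal.mem_span_singleton.1 hmem
    have h := congrArg (eval z) hG
    rw [map_mul, hell, LinearMap.mem_ker.1 hz, mul_zero, zero_mul, map_sub, map_mul, map_mul,
      hl₁, hl₂, hl₃, eval_eq_f hF, sub_eq_zero] at h
    exact h
  refine (Cubic51.finite_TPoints (Eckardt51.ofPoly F) (Module.finrank_fin_fun K) hP hC (a := a)
    (by rw [← Eckardt51.eval_eq_f hF]; exact haF) (hsm' a hsm) hns).subset ?_
  rintro U ⟨hU, hUH, hUt⟩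
  exact ⟨hU, hHeq ▸ hUH, fun b hb hb0 => hsplit b (hUt b hb hb0)⟩

end Groth.Agent.S19500
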