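import Mathlib

universe u

open Finset

namespace Groth.Agent.S19502

theorem result {ι : Type u} [DecidableEq ι]
    (θ : ι → ℚ) (h h' : ι → ℕ) (hle : ∀ i, h' i ≤ h i) (hfin : {i | θ i < 0}.Finite)
    (hsum : Summable (fun i => (θ i : ℝ) * (h i : ℝ))) (D D' : Finset ι)
    (hDm : hfin.toFinset ⊆ D) (hDD' : D ⊆ D') (hsupp : ∀ i ∈ D', θ i ≠ 0) :
    (((∑ i ∈ D', (θ i : ℝ) * (h' i : ℝ)) + ((∑' i, if i ∈ D' then (0 : ℝ) else (θ i : ℝ) * (h i : ℝ)) / ((D' \ hfin.toFinset).card : ℝ)) * (∑ σ ∈ D' \ hfin.toFinset, ((h' σ : ℝ) / (h σ : ℝ)))) - ((∑ i ∈ D, (θ i : ℝ) * (h' i : ℝ)) + ((∑' i, if i ∈ D then (0 : ℝ) else (θ i : ℝ) * (h i : ℝ)) / ((D \ hfin.toFinset).card : ℝ)) * (∑ σ ∈ D \ hfin.toFinset, ((h' σ : ℝ) / (h σ : ℝ)))) =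
      ∑ τ ∈ D' \ D, ((θ τ : ℝ) * (h τ : ℝ) + (∑' i, if i ∈ D' then (0 : ℝ) else (θ i : ℝ) * (h i : ℝ)) / ((D' \ hfin.toFinset).card : ℝ)) *
        (((h' τ : ℝ) / (h τ : ℝ)) - (1 / ((D \ hfin.toFinset).card : ℝ)) * (∑ σ ∈ D \ hfin.toFinset, ((h' σ : ℝ) / (h σ : ℝ))))) ∧
    ((∑' i, (θ i : ℝ) * (h' i : ℝ)) - ((∑ i ∈ D, (θ i : ℝ) * (h' i : ℝ)) + ((∑' i, if i ∈ D then (0 : ℝ) else (θ i : ℝ) * (h i : ℝ)) / ((D \ hfin.toFinset).card : ℝ)) * (∑ σ ∈ D \ hfin.toFinset, ((h' σ : ℝ) / (h σ : ℝ)))) =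
      ∑' τ, if τ ∈ D then (0 : ℝ) else (θ τ : ℝ) * (h τ : ℝ) *
        (((h' τ : ℝ) / (h τ : ℝ)) - (1 / ((D \ hfin.toFinset).card : ℝ)) * (∑ σ ∈ D \ hfin.toFinset, ((h' σ : ℝ) / (h σ : ℝ))))) := by
  set f : ι → ℝ := fun i => (θ i : ℝ) * (h i : ℝ) with hf
  set g : ι → ℝ := fun i => (θ i : ℝ) * (h' i : ℝ) with hg
  set r : ι → ℝ := fun i => (h' i : ℝ) / (h i : ℝ) with hr
  set N := hfin.toFinset with hN
  have hfr : ∀ i, f i * r i = g i := fun i => by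
    rcases Nat.eq_zero_or_pos (h i) with h0 | h0
    · have : h' i = 0 := Nat.le_zero.1 (h0 ▸ hle i)
      simp [f, g, r, h0, this]
    · simp only [f, g, r]
      field_simp
  have hsg : Summable g := by
    refine Summable.of_norm_bounded hsum.norm fun i => ?_
    simp only [f, g, norm_mul, Real.norm_natCast]
    exact mul_le_mul_of_nonneg_left (by exact_mod_cast hle i) (norm_nonneg _)
  have hsplit : ∀ (u : ι → ℝ), Summable u → ∀ E : Finset ι,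
      (∑ i ∈ E, u i) + (∑' i, if i ∈ E then (0:ℝ) else u i) = ∑' i, u i := by
    intro u hu E
    rw [← hu.sum_add_tsum_compl (s := E), tsum_subtype (↑E : Set ι)ᶜ u]
    congr 1
    refine tsum_congr fun i => ?_
    by_cases hi : i ∈ E <;> simp [hi]
  have hS : (∑' i, if i ∈ D then (0:ℝ) else f i) =
      (∑' i, if i ∈ D' then (0:ℝ) else f i) + ∑ i ∈ D' \ D, f i := by
    have h1 := hsplit f hsum D
    have h2 := hsplit f hsum D'
    have h3 := Finset.sum_sdiff (f := f) hDD'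
    linarith
  have hunion : D' \ N = (D \ N) ∪ (D' \ D) := by
    ext x
    simp only [mem_sdiff, mem_union]
    exact ⟨fun hx => (em (x ∈ D)).elim (fun hd => .inl ⟨hd, hx.2⟩) (fun hd => .inr ⟨hx.1, hd⟩),
      fun hx => hx.elim (fun a => ⟨hDD' a.1, a.2⟩) (fun a => ⟨a.1, fun b => a.2 (hDm b)⟩)⟩
  have hdisj : Disjoint (D \ N) (D' \ D) := by
    rw [Finset.disjoint_left]
    exact fun x hx hx' => (mem_sdiff.1 hx').2 (mem_sdiff.1 hx).1
  constructor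
  · change ((∑ i ∈ D', g i) + (∑' i, if i ∈ D' then (0:ℝ) else f i) / ((D' \ N).card : ℝ) * (∑ σ ∈ D' \ N, r σ))
      - ((∑ i ∈ D, g i) + (∑' i, if i ∈ D then (0:ℝ) else f i) / ((D \ N).card : ℝ) * (∑ σ ∈ D \ N, r σ)) =
      ∑ τ ∈ D' \ D, (f τ + (∑' i, if i ∈ D' then (0:ℝ) else f i) / ((D' \ N).card : ℝ)) *
        (r τ - 1 / ((D \ N).card : ℝ) * ∑ σ ∈ D \ N, r σ)
    rw [hS, hunion, Finset.sum_union hdisj, Finset.card_union_of_disjoint hdisj, Nat.cast_add,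
      ← Finset.sum_sdiff (f := g) hDD']
    set S := (∑' i, if i ∈ D' then (0:ℝ) else f i)
    set d := ((D \ N).card : ℝ) with hd
    set m := ((D' \ D).card : ℝ) with hm
    set R := ∑ σ ∈ D \ N, r σ with hR
    simp only [add_mul, mul_sub, Finset.sum_add_distrib, Finset.sum_sub_distrib, ← Finset.sum_mul,
      ← Finset.mul_sum, hfr, Finset.sum_const, nsmul_eq_mul]
    rcases Nat.eq_zero_or_pos (D \ N).card with h0 | h0
    · have : R = 0 := by rw [hR, Finset.card_eq_zero.1 h0, Finset.sum_empty]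
      rw [this]
      ring
    · have hd0 : d ≠ 0 := by rw [hd]; exact_mod_cast h0.ne'
      have hd0' : d + m ≠ 0 := by
        have : (0:ℝ) < d := by rw [hd]; exact_mod_cast h0
        have : (0:ℝ) ≤ m := Nat.cast_nonneg _
        linarith
      field_simp
      ring
  · change (∑' i, g i) - ((∑ i ∈ D, g i) + (∑' i, if i ∈ D then (0:ℝ) else f i) / ((D \ N).card : ℝ) * (∑ σ ∈ D \ N, r σ)) =
      ∑' τ, if τ ∈ D then (0:ℝ) else f τ * (r τ - 1 / ((D \ N).card : ℝ) * ∑ σ ∈ D \ N, r σ)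
    set c := 1 / ((D \ N).card : ℝ) * ∑ σ ∈ D \ N, r σ with hc
    have e : ∀ τ, (if τ ∈ D then (0:ℝ) else f τ * (r τ - c)) =
        (if τ ∈ D then (0:ℝ) else g τ) - (if τ ∈ D then (0:ℝ) else f τ) * c := fun τ => by
      split_ifs
      · ring
      · rw [mul_sub, hfr]
    have s1 : ∀ u : ι → ℝ, Summable u → Summable (fun τ => if τ ∈ D then (0:ℝ) else u τ) := by
      intro u hu
      refine Summable.of_norm_bounded hu.norm fun i => ?_
      split_ifs <;> simp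
    rw [tsum_congr e, Summable.tsum_sub (s1 g hsg) ((s1 f hsum).mul_right c), tsum_mul_right,
      ← hsplit g hsg D, hc]
    ring

end Groth.Agent.S19502
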