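import Groth.Statements.S19503
import Groth.Agent.Curves2.H1Zero.Castelnuovo

set_option autoImplicit false
universe u
open CategoryTheory CategoryTheory.Limits AlgebraicGeometry
open Curves

namespace Groth.Agent.S19503

/-- Let A be a Noetherian ring and f : X → Spec A a proper morphism such that H^1(X, O_X) = 0 and every
fibre of f has dimension at most one. If an O_X-module L is f-ample (f quasi-compact and L an ample
invertible module on the preimage of every affine open of Spec A), then L is f-very ample: for some
n there is an immersion i : X → Pⁿ over Spec A, compatible with f, such that L is isomorphic to the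
pullback of O(1) along i. -/
theorem result (A : Type u) [CommRing A]
    [IsNoetherianRing A] (X : Scheme.{u}) (f : X ⟶ Spec (CommRingCat.of A)) [IsProper f]
    (h1 : Subsingleton (Coh.HH X (Coh.structureModule X) 1))
    (hfib : ∀ y : ↥(Spec (CommRingCat.of A)), topologicalKrullDim ↥(f.fiber y) ≤ 1)
    (L : X.Modules) (hL : RelAmple.IsRelAmple f L) :
    RelAmple.IsRelVeryAmplePn f L := by
  letI : X.Over (Spec (CommRingCat.of A)) := ⟨f⟩
  haveI : IsProper (X ↘ Spec (CommRingCat.of A)) := ‹IsProper f›
  have hA : CohB1.IsAmple L := (Amp73.isRelAmple_iff_isAmple f).1 hL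
  haveI : CompactSpace X := hA.2.1
  haveI : IsLocallyNoetherian X := LocallyOfFiniteType.isLocallyNoetherian f
  haveI : AlgebraicGeometry.IsNoetherian X := ⟨⟩
  have hgg := Curves2.H1Zero.isGloballyGenerated_relative A hfib h1 hA.1
    (Curves2.H1Zero.relNef_of_isAmple hA)
  exact Curves2.H1Zero.isRelVeryAmplePn_of_degOne A f hA
    (Curves2.H1Zero.degOneGen_of_nef (A := A) (Curves2.H1Zero.h2Zero_relative A f hfib) h1 hA.1 hgg)

end Groth.Agent.S19503
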