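import Groth.Prelude.Def_Coh
import Groth.Prelude.Def_CohB1
import Groth.Prelude.Def_TorSh
import Mathlib.AlgebraicGeometry.Morphisms.Smooth
import Mathlib.AlgebraicGeometry.Morphisms.ClosedImmersion
import Mathlib.Topology.KrullDimension
import Mathlib.FieldTheory.IsAlgClosed.Basic
import Mathlib.Algebra.Category.ModuleCat.Sheaf.ChangeOfRings
import Mathlib.Algebra.Category.ModuleCat.Stalk
import Mathlib.RingTheory.SimpleModule.Basic
import Mathlib.LinearAlgebra.Eigenspace.Triangularizable
import Groth.Agent.QC70.HomCoh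
import Groth.Agent.Serre71.Finite
import Groth.Agent.Crv77.Sections
import Groth.Agent.Approx60.Segre
-- import your own Groth.Agent.* helpers here

set_option autoImplicit false
universe u
open CategoryTheory CategoryTheory.Limits AlgebraicGeometry TopologicalSpace Opposite
namespace OrdSurf
end OrdSurf
open OrdSurf
open Groth.Agent.QC70

namespace Groth.Agent.S19505

section TF

variable {X : Scheme.{u}} [IsIntegral X]

/-- A section of a quasi-coherent torsion-free module dying at the generic point vanishes. -/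
theorem eq_zero_of_germ_generic (F : X.Modules) [F.IsQuasicoherent] (hF : TorSh.IsTorsionFree F)
    {U : X.Opens} (m : Γ(F, U)) (hη : genericPoint X ∈ U)
    (h : TopCat.Presheaf.germ F.presheaf U (genericPoint X) hη m = 0) : m = 0 := by
  obtain ⟨W, hηW, iW, iW', hW⟩ := TopCat.Presheaf.germ_eq F.presheaf _ hη hη m 0
    (h.trans (map_zero _).symm)
  rw [map_zero] at hW
  refine TopCat.Presheaf.section_ext (⟨F.presheaf, F.isSheaf⟩ : TopCat.Sheaf Ab X) U m 0 fun x hx => ?_
  obtain ⟨V, hV, hxV, hVU⟩ := exists_isAffineOpen_mem_and_subset hx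
  have hηV : genericPoint X ∈ V := (genericPoint_spec X).mem_open_set_iff V.isOpen |>.2 ⟨x, trivial, hxV⟩
  obtain ⟨f, hfW, hfη⟩ := hV.exists_basicOpen_le ⟨genericPoint X, hηW⟩ hηV
  obtain ⟨n, hn⟩ := (isLocAt_of_isQuasicoherent F hV).eq_zero_of f (res F hVU m) (by
    rw [res_res]
    have h2 := congrArg (res F hfW) hW
    rw [QC70.res_zero] at h2
    refine Eq.trans ?_ h2
    exact (res_res _ _ _).symm)
  have hf : X.presheaf.germ V x hxV f ≠ 0 := by
    intro h0
    have : f = 0 := by
      have := germ_injective_of_isIntegral X (U := V) x hxV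
      exact this (h0.trans (map_zero _).symm)
    rw [this, Scheme.basicOpen_zero] at hfη
    exact hfη
  have h3 : X.presheaf.germ V x hxV f ^ n • TopCat.Presheaf.germ F.presheaf V x hxV (res F hVU m) = 0 := by
    have hs : TopCat.Presheaf.germ F.presheaf V x hxV (f ^ n • res F hVU m) =
        X.presheaf.germ V x hxV (f ^ n) • TopCat.Presheaf.germ F.presheaf V x hxV (res F hVU m) :=
      PresheafOfModules.germ_smul (R := X.presheaf) F.val x V hxV (f ^ n) (res F hVU m)
    rw [hn, map_zero, map_pow] at hs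
    exact hs.symm
  haveI := hF x
  haveI : Nonempty (V : Scheme.{u}) := ⟨⟨x, hxV⟩⟩
  have h4 : TopCat.Presheaf.germ F.presheaf V x hxV (res F hVU m) = 0 :=
    (smul_eq_zero.1 h3).resolve_left (pow_ne_zero n hf)
  show TopCat.Presheaf.germ F.presheaf U x hx m = TopCat.Presheaf.germ F.presheaf U x hx 0
  rw [map_zero, ← TopCat.Presheaf.germ_res_apply F.presheaf (homOfLE hVU) x hxV]
  exact h4

end TF

/-- An endomorphism of finite dimensional sections has an eigenvector. -/
theorem exists_smul_eq {k : Type u} [Field k] [IsAlgClosed k] {X : Scheme.{u}}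
    (g : k →+* Γ(X, ⊤)) (H : X.Modules) (L : H ⟶ H) (x₀ : Γ(H, ⊤)) (hx₀ : x₀ ≠ 0)
    (hfin : letI := Module.compHom Γ(H, ⊤) g; Module.Finite k Γ(H, ⊤)) :
    ∃ (c : k) (x : Γ(H, ⊤)), x ≠ 0 ∧ L.app ⊤ x = g c • x := by
  letI := Module.compHom Γ(H, ⊤) g
  haveI : Nontrivial Γ(H, ⊤) := ⟨x₀, 0, hx₀⟩
  let l : Module.End k Γ(H, ⊤) :=
    { toFun := fun x => L.app ⊤ x
      map_add' := map_add (L.app ⊤).hom
      map_smul' := fun c x => Scheme.Modules.Hom.app_smul L (g c) x }
  obtain ⟨c, hc⟩ := Module.End.exists_eigenvalue l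
  obtain ⟨x, hx⟩ := hc.exists_hasEigenvector
  exact ⟨c, x, hx.2, hx.apply_eq_smul⟩

/-- Restriction, with its honest type. -/
noncomputable def rM {Y : TopCat.{u}} {R : TopCat.Presheaf RingCat.{u} Y} (M : PresheafOfModules.{u} R)
    {U V : (Opens Y)ᵒᵖ} (i : U ⟶ V) (m : M.obj U) : M.obj V := M.presheaf.map i m

theorem rM_zero {Y : TopCat.{u}} {R : TopCat.Presheaf RingCat.{u} Y} (M : PresheafOfModules.{u} R)
    {U V : (Opens Y)ᵒᵖ} (i : U ⟶ V) : rM M i (0 : M.obj U) = 0 := map_zero _

/-- A map of modules over a sheaf of rings killing one nonzero germ of a simple stalk kills all. -/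
theorem forall_eq_zero_of_simple {Y : TopCat.{u}} {R : TopCat.Presheaf RingCat.{u} Y}
    (M : PresheafOfModules.{u} R) (η : Y)
    [IsSimpleModule (R.stalk η) ↑(TopCat.Presheaf.stalk (C := Ab.{u}) M.presheaf η)]
    (δ : ∀ U : (Opens Y)ᵒᵖ, M.obj U →+ M.obj U)
    (hsmul : ∀ U (r : R.obj U) (m : M.obj U), δ U (r • m) = r • δ U m)
    (hres : ∀ {U V : (Opens Y)ᵒᵖ} (i : U ⟶ V) (m : M.obj U),
      δ V (rM M i m) = rM M i (δ U m))
    {U₀ : Opens Y} (h₀ : η ∈ U₀) (m₀ : M.obj (op U₀)) (hm₀ : δ _ m₀ = 0)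
    (hne : TopCat.Presheaf.germ (C := Ab.{u}) M.presheaf U₀ η h₀ m₀ ≠ 0)
    {U : Opens Y} (hU : η ∈ U) (m : M.obj (op U)) :
    TopCat.Presheaf.germ (C := Ab.{u}) M.presheaf U η hU (δ _ m) = 0 := by
  let N : Submodule (R.stalk η) ↑(TopCat.Presheaf.stalk (C := Ab.{u}) M.presheaf η) :=
    { carrier := {t | ∃ (V : Opens Y) (hV : η ∈ V) (v : M.obj (op V)),
        TopCat.Presheaf.germ (C := Ab.{u}) M.presheaf V η hV v = t ∧ δ _ v = 0}
      zero_mem' := ⟨U₀, h₀, 0, map_zero _, map_zero _⟩
      add_mem' := by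
        rintro _ _ ⟨V, hV, v, rfl, hv⟩ ⟨W, hW, w, rfl, hw⟩
        let iV : V ⊓ W ⟶ V := homOfLE inf_le_left
        let iW : V ⊓ W ⟶ W := homOfLE inf_le_right
        refine ⟨V ⊓ W, ⟨hV, hW⟩, rM M iV.op v + rM M iW.op w, ?_, ?_⟩
        · refine (map_add (TopCat.Presheaf.germ (C := Ab.{u}) M.presheaf (V ⊓ W) η ⟨hV, hW⟩).hom _ _).trans ?_
          exact congrArg₂ (· + ·) (TopCat.Presheaf.germ_res_apply (C := Ab.{u}) M.presheaf iV η ⟨hV, hW⟩ v)
            (TopCat.Presheaf.germ_res_apply (C := Ab.{u}) M.presheaf iW η ⟨hV, hW⟩ w)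
        · rw [map_add, hres, hres, hv, hw, rM_zero, rM_zero, add_zero]
      smul_mem' := by
        rintro a _ ⟨V, hV, v, rfl, hv⟩
        obtain ⟨W, hW, r, rfl⟩ := TopCat.Presheaf.exists_germ_eq R a
        let iV : V ⊓ W ⟶ V := homOfLE inf_le_left
        let iW : V ⊓ W ⟶ W := homOfLE inf_le_right
        refine ⟨V ⊓ W, ⟨hV, hW⟩, R.map iW.op r • rM M iV.op v, ?_, ?_⟩
        · rw [PresheafOfModules.germ_ringCat_smul]
          exact congrArg₂ (· • ·) (TopCat.Presheaf.germ_res_apply R iW η ⟨hV, hW⟩ r)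
            (TopCat.Presheaf.germ_res_apply (C := Ab.{u}) M.presheaf iV η ⟨hV, hW⟩ v)
        · rw [hsmul, hres, hv, rM_zero, smul_zero] }
  have hN : N = ⊤ := by
    refine (eq_bot_or_eq_top N).resolve_left fun h => hne ?_
    have : TopCat.Presheaf.germ (C := Ab.{u}) M.presheaf U₀ η h₀ m₀ ∈ N := ⟨U₀, h₀, m₀, rfl, hm₀⟩
    rwa [h, Submodule.mem_bot] at this
  obtain ⟨V, hV, v, hv, hv0⟩ := (hN.ge (Submodule.mem_top : TopCat.Presheaf.germ (C := Ab.{u}) M.presheaf U η hU m ∈ _))
  obtain ⟨W, hW, iV, iU, hWeq⟩ := TopCat.Presheaf.germ_eq (C := Ab.{u}) M.presheaf η hV hU v m hv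
  have h5 : δ (op W) (rM M iU.op m) = 0 := by
    have e : rM M iV.op v = rM M iU.op m := hWeq
    rw [← e, hres, hv0, rM_zero]
  rw [hres] at h5
  rw [← TopCat.Presheaf.germ_res_apply (C := Ab.{u}) M.presheaf iU η hW]
  exact (congrArg (TopCat.Presheaf.germ (C := Ab.{u}) M.presheaf W η hW) h5).trans (map_zero _)

/-- Let k be an algebraically closed field of characteristic zero and X a smooth projective surface over
k (an integral k-scheme, smooth over k, of dimension two, admitting a closed immersion over k into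
some projective space P^n_k), with generic point η. Let A be a sheaf of rings on X with a morphism φ
: O_X → A of sheaves of rings with central image whose generic stalk A_η is a division ring (simple
as a left module over itself), and let M be a sheaf of A-modules whose underlying O_X-module is
coherent with torsion-free stalks and whose generic stalk M_η is a simple A_η-module. Then M is
simple in the sense that End_A(M) = k: every endomorphism ψ of the sheaf of A-modules M is
multiplication by a scalar c ∈ k, i.e. on every open U it acts on sections as multiplication by the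
image of c in Γ(U, O_X) under the structure map, pushed into A by φ. (The published statement takes
A to be an order on X and M a torsion-free A-module of rank one; only the hypotheses listed are
assumed here, the others playing no role in the argument.) -/
theorem result (k : Type u) [Field k] [IsAlgClosed k] [CharZero k]
    (X : Scheme.{u}) [X.Over (Spec (CommRingCat.of k))] [IsIntegral X]
    [Smooth (X ↘ Spec (CommRingCat.of k))] (hdim : topologicalKrullDim X = 2)
    (hproj : ∃ (n : ℕ) (ι : X ⟶ CohB1.ProjSpace n k), IsClosedImmersion ι ∧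
      ι ≫ CohB1.ProjSpace.toSpec n k = X ↘ Spec (CommRingCat.of k))
    (A : Sheaf (Opens.grothendieckTopology X) RingCat.{u}) (φ : X.ringCatSheaf ⟶ A)
    (hcen : ∀ (U : (Opens X)ᵒᵖ) (s : X.ringCatSheaf.obj.obj U) (a : A.obj.obj U),
      φ.hom.app U s * a = a * φ.hom.app U s)
    (hAη : IsSimpleModule (↑(TopCat.Presheaf.stalk (C := RingCat.{u}) (X := X.carrier) A.obj (genericPoint X))) (↑(TopCat.Presheaf.stalk (C := RingCat.{u}) (X := X.carrier) A.obj (genericPoint X))))
    (M : SheafOfModules.{u} A)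
    (hMc : Coh.IsCoh (X := X) ((SheafOfModules.restrictScalars φ).obj M))
    (hMt : TorSh.IsTorsionFree (X := X) ((SheafOfModules.restrictScalars φ).obj M))
    (hMη : IsSimpleModule (↑(TopCat.Presheaf.stalk (C := RingCat.{u}) (X := X.carrier) A.obj (genericPoint X))) (↑(TopCat.Presheaf.stalk (C := Ab.{u}) (X := X.carrier) M.val.presheaf (genericPoint X))))
    (ψ : M ⟶ M) :
    ∃ c : k, ∀ (U : (Opens X)ᵒᵖ) (m : M.val.obj U),
      (ψ.val.app U).hom m =
        φ.hom.app U ((X.presheaf.map (homOfLE (le_top (a := U.unop))).op)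
          (((X ↘ Spec (CommRingCat.of k)).appTop).hom ((Scheme.ΓSpecIso (CommRingCat.of k)).inv.hom c))) • m := by
  classical
  haveI := hMη
  obtain ⟨N, ι, hι, hιc⟩ := hproj
  have : IsProper (CohB1.ProjSpace.toSpec N k) := Approx60.Segre.isProper_toSpec k N
  have : IsProper (X ↘ Spec (CommRingCat.of k)) := by rw [← hιc]; infer_instance
  have : IsLocallyNoetherian X :=
    LocallyOfFiniteType.isLocallyNoetherian (X ↘ Spec (CommRingCat.of k))
  let M₀ : X.Modules := (SheafOfModules.restrictScalars φ).obj M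
  let ψ₀ : M₀ ⟶ M₀ := (SheafOfModules.restrictScalars φ).map ψ
  haveI : M₀.IsQuasicoherent := hMc.1
  let g : k →+* Γ(X, ⊤) := Coh.toGlobal (X ↘ Spec (CommRingCat.of k))
  let H : X.Modules := homMod M₀ M₀
  have hfin : letI := Module.compHom Γ(H, ⊤) g; Module.Finite k Γ(H, ⊤) := by
    letI := Module.compHom Γ(H, ⊤) g
    haveI := Serre71.finite_hh_of_isProper k H (isCoh_homMod hMc hMc) 0
    exact Module.Finite.of_surjective
      ({ toFun := fun x => Crv77.sec H x, map_add' := map_add _,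
         map_smul' := fun a x => Crv77.sec_smul k H a x } : Coh.HH X H 0 →ₗ[k] Γ(H, ⊤))
      (Crv77.sec H).surjective
  haveI : Nontrivial (TopCat.Presheaf.stalk (C := Ab.{u}) (X := X.carrier) M.val.presheaf (genericPoint X)) :=
    IsSimpleModule.nontrivial (↑(TopCat.Presheaf.stalk (C := RingCat.{u}) (X := X.carrier) A.obj (genericPoint X))) _
  obtain ⟨t, ht⟩ := exists_ne (0 : TopCat.Presheaf.stalk (C := Ab.{u}) (X := X.carrier) M.val.presheaf (genericPoint X))
  obtain ⟨U₁, hη₁, m₁, rfl⟩ := TopCat.Presheaf.exists_germ_eq (C := Ab.{u}) (X := X.carrier) M.val.presheaf t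
  let x₀ : Γ(H, ⊤) := HomOn.toSec (HomOn.ofHom (𝟙 M₀) ⊤)
  have hx₀ : x₀ ≠ 0 := fun h => ht (by
    have e : m₁ = 0 := congrArg (fun x : Γ(H, ⊤) => (ofSec x).app U₁ le_top (m₁ : Γ(M₀, U₁))) h
    rw [e]; exact map_zero _)
  obtain ⟨c, x, hx, hxc⟩ := exists_smul_eq g H (homMap M₀ ψ₀) x₀ hx₀ hfin
  refine ⟨c, fun U m => ?_⟩
  let cU : ∀ V : (Opens X)ᵒᵖ, A.obj.obj V := fun V => φ.hom.app V
    ((X.presheaf.map (homOfLE (le_top (a := V.unop))).op) (g c))
  show (ψ.val.app U).hom m = cU U • m
  let δ : ∀ V : (Opens X)ᵒᵖ, M.val.obj V →+ M.val.obj V := fun V =>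
    { toFun := fun v => (ψ.val.app V).hom v - cU V • v
      map_zero' := by rw [map_zero, smul_zero, sub_zero]
      map_add' := fun a b => by rw [map_add, smul_add]; abel }
  have hsmul : ∀ V (r : A.obj.obj V) (v : M.val.obj V), δ V (r • v) = r • δ V v := fun V r v => by
    show (ψ.val.app V).hom (r • v) - cU V • r • v = r • ((ψ.val.app V).hom v - cU V • v)
    rw [map_smul, smul_sub, smul_smul, smul_smul, hcen]
  have hcU : ∀ {V W : (Opens X)ᵒᵖ} (i : V ⟶ W), A.obj.map i (cU V) = cU W := fun {V W} i => by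
    show A.obj.map i (φ.hom.app V _) = φ.hom.app W _
    refine (ConcreteCategory.congr_hom (φ.hom.naturality i) _).symm.trans (congrArg (φ.hom.app W) ?_)
    exact ConcreteCategory.congr_hom (X.presheaf.map_comp (homOfLE (le_top (a := V.unop))).op i).symm (g c)
  have hres : ∀ {V W : (Opens X)ᵒᵖ} (i : V ⟶ W) (v : M.val.obj V),
      δ W (rM M.val i v) = rM M.val i (δ V v) := fun {V W} i v => by
    show (ψ.val.app W).hom (rM M.val i v) - cU W • rM M.val i v =
      rM M.val i ((ψ.val.app V).hom v - cU V • v)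
    refine Eq.trans ?_ (map_sub (M.val.presheaf.map i).hom _ _).symm
    refine congrArg₂ (· - ·) (PresheafOfModules.naturality_apply ψ.val i v) ?_
    rw [← hcU i]
    exact (PresheafOfModules.map_smul M.val i (cU V) v).symm
  -- a nonzero value of the eigenvector
  obtain ⟨W, v, hv⟩ : ∃ (W : X.Opens) (v : Γ(M₀, W)), (ofSec x).app W le_top v ≠ 0 := by
    by_contra hcon
    simp only [not_exists, not_not] at hcon
    exact hx (HomOn.ext' fun W hW v => hcon W v)
  let w : Γ(M₀, W) := (ofSec x).app W le_top v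
  have hw : δ (op W) (w : M.val.obj (op W)) = 0 := by
    have h := congrArg (fun z : Γ(H, ⊤) => (ofSec z).app W le_top v) hxc
    exact sub_eq_zero.2 h
  have hηW : genericPoint X ∈ W := by
    by_contra hn
    refine hv ?_
    have hW : W = ⊥ := le_bot_iff.1 fun y hy =>
      hn ((genericPoint_spec X).mem_open_set_iff W.isOpen |>.2 ⟨y, trivial, hy⟩)
    subst hW
    exact TopCat.Presheaf.section_ext (⟨M₀.presheaf, M₀.isSheaf⟩ : TopCat.Sheaf Ab X) ⊥ _ _ fun y hy => hy.elim
  by_cases hU : genericPoint X ∈ U.unop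
  · have key := forall_eq_zero_of_simple M.val (genericPoint X) δ hsmul hres hηW w hw
      (fun h0 => hv (eq_zero_of_germ_generic M₀ hMt w hηW h0)) hU m
    exact sub_eq_zero.1 (eq_zero_of_germ_generic M₀ hMt (δ U m) hU key)
  · have hbot : ∀ y ∈ U.unop, False := fun y hy =>
      hU ((genericPoint_spec X).mem_open_set_iff U.unop.isOpen |>.2 ⟨y, trivial, hy⟩)
    exact TopCat.Presheaf.section_ext (⟨M₀.presheaf, M₀.isSheaf⟩ : TopCat.Sheaf Ab X) U.unop _ _ fun y hy => (hbot y hy).elim


end Groth.Agent.S19505
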