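import Groth.Statements.S19506
import Groth.Agent.S2453
import Groth.Agent.S2481
import Groth.Agent.S4537

set_option autoImplicit false
universe u
open CAlg

namespace Groth.Agent.S19506


open IsLocalRing in
theorem lift_nilpotent {k A : Type u} [Field k] [CommRing A] [Algebra k A] [IsLocalRing A]
    (h : ∀ (R : Type u) [CommRing R] [Algebra k R] [IsArtinianRing R] [IsLocalRing R] (J : Ideal R),
        J ^ 2 = ⊥ → ∀ f : A →ₐ[k] R ⧸ J, IsLocalHom (f : A →+* R ⧸ J) →
          ∃ g : A →ₐ[k] R, (Ideal.Quotient.mkₐ k J).comp g = f) :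
    ∀ (n : ℕ) (C : Type u) [CommRing C] [Algebra k C] [IsArtinianRing C] [IsLocalRing C] (J : Ideal C),
      J ^ 2 ^ n = ⊥ → ∀ f : A →ₐ[k] C ⧸ J, IsLocalHom (f : A →+* C ⧸ J) →
        ∃ g : A →ₐ[k] C, IsLocalHom (g : A →+* C) ∧ (Ideal.Quotient.mkₐ k J).comp g = f := by
  intro n
  have local_of : ∀ (C : Type u) [CommRing C] [Algebra k C] (J : Ideal C) (g : A →ₐ[k] C) (f : A →ₐ[k] C ⧸ J),
      IsLocalHom (f : A →+* C ⧸ J) → (Ideal.Quotient.mkₐ k J).comp g = f → IsLocalHom (g : A →+* C) := by
    intro C _ _ J g f hf hg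
    refine ⟨fun a ha => isUnit_of_map_unit (f : A →+* C ⧸ J) a ?_⟩
    have := ha.map (Ideal.Quotient.mk J)
    rw [← hg]
    exact this
  induction n with
  | zero =>
    intro C _ _ _ _ J hJ f hf
    obtain ⟨g, hg⟩ := h C J (by rw [pow_zero, pow_one] at hJ; rw [hJ, pow_two, Submodule.bot_mul]) f hf
    exact ⟨g, local_of C J g f hf hg, hg⟩
  | succ n ih =>
    intro C _ _ _ _ J hJ f hf
    let K := J ^ 2 ^ n
    have hKJ : K ≤ J := Ideal.pow_le_self (by positivity)
    have hK2 : K ^ 2 = ⊥ := by rw [← pow_mul, ← pow_succ]; exact hJ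
    have hJt : J ≠ ⊤ := by
      rintro rfl
      rw [Ideal.top_pow] at hJ
      exact top_ne_bot hJ
    haveI : Nontrivial (C ⧸ K) := Ideal.Quotient.nontrivial_iff.mpr fun hK => hJt (top_le_iff.mp (hK ▸ hKJ))
    haveI := IsLocalRing.of_surjective' (Ideal.Quotient.mk K) Ideal.Quotient.mk_surjective
    let e : (C ⧸ J) ≃ₐ[k] (C ⧸ K) ⧸ J.map (Ideal.Quotient.mkₐ k K) :=
      (DoubleQuot.quotQuotEquivQuotOfLEₐ k hKJ).symm
    obtain ⟨g₁, hg₁, hg₁'⟩ := ih (C ⧸ K) (J.map (Ideal.Quotient.mkₐ k K))
      (by rw [← Ideal.map_pow]; exact Ideal.map_quotient_self _) (e.toAlgHom.comp f)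
      ⟨fun a ha => by
        have h1 := ha.map e.symm
        change IsUnit (e.symm (e (f a))) at h1
        rw [e.symm_apply_apply] at h1
        exact isUnit_of_map_unit (f : A →+* C ⧸ J) a h1⟩
    obtain ⟨g, hg⟩ := h C K hK2 g₁ hg₁
    have hgf : (Ideal.Quotient.mkₐ k J).comp g = f := by
      refine AlgHom.ext fun a => e.injective ?_
      refine Eq.trans ?_ (AlgHom.congr_fun hg₁' a)
      rw [← hg]
      rfl
    exact ⟨g, local_of C J g f hf hgf, hgf⟩


/-- (i) ⇔ (iii): let k be a field and A a complete local Noetherian k-algebra with residue field k (a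
k-algebra map π : A → k with kernel the maximal ideal; A complete for the adic topology of its
maximal ideal). Then A is regular if and only if A satisfies the infinitesimal lifting criterion:
for every Artinian local k-algebra R and every ideal J of R of square zero, every local k-algebra
homomorphism A → R/J (one carrying non-units to non-units) lifts to a k-algebra homomorphism A → R.
(The test algebras R range over one universe, that of A. The published criterion is worded for
arbitrary k-algebra homomorphisms A → R/J; it is stated here for local ones, the case the argument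
establishes and the form in which the text itself restates the criterion afterwards. The published
statement lists a third equivalent condition, A ≅ k[[x_1, …, x_d]].) -/
theorem result (k A : Type u) [Field k]
    [CommRing A] [Algebra k A] [IsLocalRing A] [IsNoetherianRing A]
    [IsAdicComplete (IsLocalRing.maximalIdeal A) A]
    (π : A →ₐ[k] k) (hπ : RingHom.ker π = IsLocalRing.maximalIdeal A) :
    IsRegularLocalRing A ↔
      ∀ (R : Type u) [CommRing R] [Algebra k R] [IsArtinianRing R] [IsLocalRing R] (J : Ideal R),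
        J ^ 2 = ⊥ → ∀ f : A →ₐ[k] R ⧸ J, IsLocalHom (f : A →+* R ⧸ J) →
          ∃ g : A →ₐ[k] R, (Ideal.Quotient.mkₐ k J).comp g = f := by
  haveI : IsLocalHom (algebraMap k A) := ⟨fun a ha => Ne.isUnit fun h0 => by
    rw [h0, map_zero] at ha; exact not_isUnit_zero ha⟩
  haveI : Algebra.IsGeometricallyReduced k (IsLocalRing.ResidueField A) := by
    let φ : IsLocalRing.ResidueField A →ₐ[k] k := Ideal.Quotient.liftₐ (IsLocalRing.maximalIdeal A) π
      (fun a ha => by rw [← hπ] at ha; exact ha)
    haveI : Algebra.IsGeometricallyReduced k k :=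
      ⟨fun _ _ => isReduced_of_injective (Algebra.TensorProduct.rid k k (AlgebraicClosure _)).toRingEquiv.toRingHom
        (Algebra.TensorProduct.rid k k (AlgebraicClosure _)).injective⟩
    exact Algebra.IsGeometricallyReduced.of_injective φ (φ : IsLocalRing.ResidueField A →+* k).injective
  constructor
  · intro hreg R _ _ _ _ J hJ f hf
    have hfs := (S2453.result (k := k) (A := A)).out 3 0 |>.mp hreg
    obtain ⟨m, hm⟩ := IsArtinianRing.isNilpotent_jacobson_bot (R := R)
    refine hfs R J hJ f ⟨m, fun x hx => ?_⟩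
    have hle : (IsLocalRing.maximalIdeal A).map (f : A →+* R ⧸ J) ≤
        (IsLocalRing.maximalIdeal R).map (Ideal.Quotient.mk J) := by
      rw [Ideal.map_le_iff_le_comap]
      intro a ha
      obtain ⟨r, hr⟩ := Ideal.Quotient.mk_surjective ((f : A →+* R ⧸ J) a)
      rw [Ideal.mem_comap, ← hr]
      refine Ideal.mem_map_of_mem _ ((IsLocalRing.mem_maximalIdeal _).mpr fun hu => ?_)
      have h1 := hu.map (Ideal.Quotient.mk J)
      rw [hr] at h1
      exact (IsLocalRing.mem_maximalIdeal _).mp ha (isUnit_of_map_unit (f : A →+* R ⧸ J) a h1)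
    have h1 : f x ∈ ((IsLocalRing.maximalIdeal R) ^ m).map (Ideal.Quotient.mk J) := by
      rw [Ideal.map_pow]
      exact Ideal.pow_right_mono hle m (Ideal.map_pow (f : A →+* R ⧸ J) _ m ▸ Ideal.mem_map_of_mem _ hx)
    rw [← IsLocalRing.jacobson_eq_maximalIdeal ⊥ bot_ne_top, hm] at h1
    rw [Ideal.zero_eq_bot, Ideal.map_bot] at h1
    exact h1
  · intro h
    refine ((S2453.result (k := k) (A := A)).out 0 3).mp ((S4537.result _).mpr ?_)
    have h2 := (S2481.result (A := k) (B := A)).mpr fun C _ _ _ _ _ J hJ _ u _ _ => by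
      obtain ⟨n, hn⟩ := hJ
      obtain ⟨g, hg, hgu⟩ := lift_nilpotent h n C J
        (le_bot_iff.mp ((Ideal.pow_le_pow_right Nat.lt_two_pow_self.le).trans hn.le)) u ‹_›
      exact ⟨g, hg, hgu⟩
    rwa [IsLocalRing.maximalIdeal_eq_bot] at h2

end Groth.Agent.S19506
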