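import Groth.Statements.S19508
import Groth.Agent.AGF80.Descend

set_option autoImplicit false
universe u
open CategoryTheory MonoidalCategory CartesianMonoidalCategory MonObj GrpObj AlgebraicGeometry
open AGF

namespace Groth.Agent.S19508

/-- Let k be a field, G an affine, smooth, connected k-group scheme, P a smooth connected closed
k-subgroup scheme of G and X = G/P the quotient. Then X is proper over k if and only if, after base
change to an algebraic closure of k (the geometric fibre over the point of Spec k), P contains a
Borel subgroup of G. (Over an algebraically closed field this is the usual characterisation of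
parabolic subgroups; the point here is an arbitrary ground field.) -/
theorem result (k : Type u) [Field k]
    (G : Over (Spec (CommRingCat.of k))) [GrpObj G] [IsAffine G.left] [Smooth G.hom] [ConnectedSpace G.left]
    (P : Over (Spec (CommRingCat.of k))) [GrpObj P] (iP : P ⟶ G) [IsMonHom iP] (hcl : IsClosedImmersion iP.left)
    [Smooth P.hom] [ConnectedSpace P.left]
    (X : Over (Spec (CommRingCat.of k))) (a : AlgGrp.Action G X) (o : 𝟙_ (Over (Spec (CommRingCat.of k))) ⟶ X)
    (hX : AGF.IsQuotient iP X a o) :
    IsProper X.hom ↔ Red.IsParabolic iP := by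
  haveI := hcl
  have key : ∀ s : Spec (CommRingCat.of k), IsProper X.hom ↔
      Red.IsParabolicOver (AlgebraicClosure ((Spec (CommRingCat.of k)).residueField s))
        ((Over.pullback (Red.geomPt s)).map iP) := by
    intro s
    let f := Red.geomPt s
    haveI := Groth.Agent.AGF80.GeomSub.isAffine_bc f G
    haveI := Groth.Agent.AGF80.GeomSub.smooth_bc f G
    haveI := Groth.Agent.AGF80.GeomSub.smooth_bc f P
    haveI := Groth.Agent.AlgGrp79.BorelDesc.connectedSpace_bc (G := G) f
    haveI := Groth.Agent.AGF80.GeomSub.isClosedImmersion_bc f iP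
    haveI : Mono ((Over.pullback f).map iP) := Over.mono_of_mono_left _
    haveI : IsAffine P.left := isAffine_of_isAffineHom iP.left
    haveI := Groth.Agent.AGF80.GeomSub.isAffine_bc f P
    obtain ⟨Y, b, y, h1, -, h3, h4, h5⟩ :=
      Groth.Agent.AlgGrp79.QuotSub.exists_quotient (Red.bc f G) (Red.bc f P) ((Over.pullback f).map iP)
    rw [Groth.Agent.AGF80.Descend.isProper_quotient_bc_iff f iP hX (b := b) (y := y) ⟨h1, h3, h4, h5⟩]
    exact Groth.Agent.AlgGrp79.BorelOps.isProper_iff_isParabolicOver (Red.bc f G) ((Over.pullback f).map iP)
      (a := b) (o := y) ⟨h1, h3, h4, h5⟩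
  exact ⟨fun h => ⟨inferInstance, hcl, inferInstance, fun s => (key s).1 h⟩,
    fun h => (key (IsLocalRing.closedPoint k)).2 (h.2.2.2 _)⟩

end Groth.Agent.S19508
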