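import Groth.Statements.S19512
import Groth.Agent.S19511

set_option autoImplicit false
universe u
open CategoryTheory CategoryTheory.Limits AlgebraicGeometry
open Variety

namespace Groth.Agent.S19512

open Groth.Agent

/-- Let k be a field and f : X → Y a k-morphism between proper k-schemes which is a fibration, i.e. O_Y
→ f_*O_X is an isomorphism (Γ(V, O_Y) → Γ(f⁻¹V, O_X) bijective for every open V ⊆ Y). If X is
integral, then Y is integral. (The second assertion of (ii), generic flatness of f, is quoted from
the literature and not stated.) -/
theorem result (k : Type u) [Field k] (X Y : Scheme.{u})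
    [X.Over (Spec (CommRingCat.of k))] [Y.Over (Spec (CommRingCat.of k))] [IsProper (X ↘ Spec (CommRingCat.of k))] [IsProper (Y ↘ Spec (CommRingCat.of k))]
    (f : X ⟶ Y) (hf : f ≫ (Y ↘ Spec (CommRingCat.of k)) = X ↘ Spec (CommRingCat.of k)) (hfib : ∀ V : Y.Opens, IsIso (f.app V))
    [AlgebraicGeometry.IsIntegral X] : AlgebraicGeometry.IsIntegral Y := by
  have : Surjective f := Groth.Agent.S19511.result k X Y f hf hfib
  have : Nonempty Y := ⟨f (Classical.arbitrary X)⟩
  have : IrreducibleSpace Y := by
    have h : _root_.IsIrreducible (Set.range (f : X → Y)) := by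
      rw [← Set.image_univ]
      exact (IrreducibleSpace.isIrreducible_univ _).image _ f.continuous.continuousOn
    rw [Set.range_eq_univ.2 f.surjective] at h
    exact { isPreirreducible_univ := h.2, toNonempty := inferInstance }
  have : AlgebraicGeometry.IsReduced Y := by
    refine ⟨fun V => ?_⟩
    have := hfib V
    exact isReduced_of_injective (f.app V).hom (ConcreteCategory.bijective_of_isIso (f.app V)).1
  exact isIntegral_of_irreducibleSpace_of_isReduced Y

end Groth.Agent.S19512
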