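import Groth.Statements.S19513
import Groth.Agent.S2260
import Mathlib.AlgebraicGeometry.Morphisms.FiniteType
import Mathlib.RingTheory.IntegralClosure.IntegrallyClosed
import Mathlib.Topology.Sheaves.SheafCondition.UniqueGluing
import Mathlib.Algebra.BigOperators.Field

set_option autoImplicit false
universe u
open CategoryTheory CategoryTheory.Limits AlgebraicGeometry
open Variety

namespace Groth.Agent.S19513

open CategoryTheory AlgebraicGeometry TopologicalSpace Opposite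
open Groth.Agent

set_option backward.isDefEq.respectTransparency false

theorem res_res {X : Scheme.{u}} {U V W : X.Opens} (f : V ⟶ U) (g : W ⟶ V) (a : Γ(X, U)) :
    X.presheaf.map g.op (X.presheaf.map f.op a) = X.presheaf.map (g ≫ f).op a := by
  rw [op_comp, Functor.map_comp, ConcreteCategory.comp_apply]

variable {X : Scheme.{u}} [IsLocallyNoetherian X]

/-- Where the stalks are domains, vanishing of a germ is a clopen condition. -/
theorem isClopen_zero (hd : ∀ x : X, IsDomain (X.presheaf.stalk x)) (U : X.Opens) (a : Γ(X, U)) :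
    ∃ Z N : X.Opens, Z ⊔ N = U ∧ Disjoint Z N ∧
      (∀ (x : X) (hx : x ∈ U), x ∈ Z ↔ X.presheaf.germ U x hx a = 0) := by
  have key : ∀ (x : X) (hx : x ∈ U), ∃ W : X.Opens, x ∈ W ∧ ∃ hW : W ≤ U,
      ∀ (z : X) (hz : z ∈ W), (X.presheaf.germ U z (hW hz) a = 0 ↔ X.presheaf.germ U x hx a = 0) := by
    intro x hx
    obtain ⟨W₀, hxW₀, hint⟩ := S2260.result X x
    let W := W₀ ⊓ U
    have : Nonempty (W : Scheme.{u}) := ⟨⟨x, hxW₀, hx⟩⟩
    have hWint : IsIntegral (W : Scheme.{u}) := isIntegral_of_isOpenImmersion (X.homOfLE (inf_le_left : W ≤ W₀))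
    refine ⟨W, ⟨hxW₀, hx⟩, inf_le_right, fun z hz => ?_⟩
    have hinj : ∀ (z : X) (hz : z ∈ W), X.presheaf.germ U z hz.2 a = 0 ↔ W.ι.app U a = 0 := by
      intro z hz
      have h1 := Scheme.Hom.germ_stalkMap_apply W.ι U ⟨z, hz⟩ hz.2 a
      constructor
      · intro h
        refine germ_injective_of_isIntegral (W : Scheme.{u}) (⟨z, hz⟩ : (W : Scheme.{u})) (U := W.ι ⁻¹ᵁ U) hz.2 ?_
        rw [map_zero, ← h1]
        exact (congrArg (W.ι.stalkMap ⟨z, hz⟩) h).trans (map_zero _)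
      · intro h
        rw [h, map_zero] at h1
        exact (ConcreteCategory.bijective_of_isIso (W.ι.stalkMap ⟨z, hz⟩)).1 (h1.trans (map_zero _).symm)
    exact (hinj z hz).trans (hinj x ⟨hxW₀, hx⟩).symm
  let Z : X.Opens := ⟨{x | ∃ hx : x ∈ U, X.presheaf.germ U x hx a = 0}, by
    rw [isOpen_iff_forall_mem_open]
    rintro x ⟨hx, h⟩
    obtain ⟨W, hxW, hW, hWz⟩ := key x hx
    exact ⟨W, fun z hz => ⟨hW hz, (hWz z hz).2 h⟩, W.isOpen, hxW⟩⟩
  let N : X.Opens := ⟨{x | ∃ hx : x ∈ U, X.presheaf.germ U x hx a ≠ 0}, by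
    rw [isOpen_iff_forall_mem_open]
    rintro x ⟨hx, h⟩
    obtain ⟨W, hxW, hW, hWz⟩ := key x hx
    exact ⟨W, fun z hz => ⟨hW hz, fun h0 => h ((hWz z hz).1 h0)⟩, W.isOpen, hxW⟩⟩
  refine ⟨Z, N, ?_, ?_, fun x hx => ⟨fun ⟨_, h⟩ => h, fun h => ⟨hx, h⟩⟩⟩
  · refine le_antisymm (sup_le (fun x hx => hx.1) (fun x hx => hx.1)) fun x hx => ?_
    by_cases h : X.presheaf.germ U x hx a = 0
    · exact Or.inl ⟨hx, h⟩
    · exact Or.inr ⟨hx, h⟩
  · rw [disjoint_iff_inf_le]
    rintro x ⟨⟨_, h⟩, ⟨_, h'⟩⟩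
    exact absurd h h'

/-- A section equal to one on the first of two disjoint opens and to zero on the second. -/
theorem exists_idem {X : Scheme.{u}} (Z N U : X.Opens) (hU : Z ⊔ N = U) (hd : Disjoint Z N) :
    ∃ e : Γ(X, U), X.presheaf.map (homOfLE (hU ▸ le_sup_left : Z ≤ U)).op e = 1 ∧
      X.presheaf.map (homOfLE (hU ▸ le_sup_right : N ≤ U)).op e = 0 := by
  let F : Bool → X.Opens := fun b => if b then Z else N
  let sf : ∀ b, Γ(X, F b) := fun b => if b then 1 else 0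
  have hcompat : TopCat.Presheaf.IsCompatible X.presheaf F sf := by
    intro b c
    cases b <;> cases c
    · simp [sf]
    · have : Subsingleton Γ(X, F false ⊓ F true) := by
        rw [show F false ⊓ F true = ⊥ from disjoint_iff.1 hd.symm]
        exact CommRingCat.subsingleton_of_isTerminal X.sheaf.isTerminalOfEmpty
      exact Subsingleton.elim _ _
    · have : Subsingleton Γ(X, F true ⊓ F false) := by
        rw [show F true ⊓ F false = ⊥ from disjoint_iff.1 hd]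
        exact CommRingCat.subsingleton_of_isTerminal X.sheaf.isTerminalOfEmpty
      exact Subsingleton.elim _ _
    · simp [sf]
  obtain ⟨e, he, -⟩ := X.sheaf.existsUnique_gluing' F U
    (fun b => homOfLE (by cases b <;> simp [F, ← hU]))
    (by rw [← hU]; exact sup_le (le_iSup F true) (le_iSup F false)) sf hcompat
  exact ⟨e, he true, he false⟩

/-- A section of a scheme with fibres having only trivial idempotents: germs of both kinds cannot
occur over an arbitrarily small neighbourhood of a point. -/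
theorem exists_nhd_of_split {Y : Scheme.{u}} (f : X ⟶ Y) (hf : ∀ V : Y.Opens, IsIso (f.app V))
    (y : Y) (V : Y.Opens) (hy : y ∈ V) (Z N : X.Opens) (hU : Z ⊔ N = f ⁻¹ᵁ V) (hd : Disjoint Z N) :
    ∃ V' : Y.Opens, y ∈ V' ∧ V' ≤ V ∧ (f ⁻¹ᵁ V' ≤ Z ∨ f ⁻¹ᵁ V' ≤ N) := by
  obtain ⟨e, he1, he0⟩ := exists_idem Z N _ hU hd
  have := hf V
  obtain ⟨ε, hε⟩ := (ConcreteCategory.bijective_of_isIso (f.app V)).2 e
  by_cases h : y ∈ Y.basicOpen ε
  · refine ⟨Y.basicOpen ε, h, Y.basicOpen_le _, Or.inl fun x hx => ?_⟩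
    rw [Scheme.preimage_basicOpen, hε] at hx
    rcases (hU.symm ▸ (X.basicOpen_le e hx : x ∈ f ⁻¹ᵁ V) : x ∈ Z ⊔ N) with hz | hn
    · exact hz
    · rw [Scheme.mem_basicOpen _ _ x (X.basicOpen_le e hx), ← X.presheaf.germ_res_apply
        (homOfLE (hU ▸ le_sup_right : N ≤ f ⁻¹ᵁ V)) x hn e, he0, map_zero] at hx
      exact absurd hx not_isUnit_zero
  · have h1 : y ∈ Y.basicOpen (1 - ε) := by
      rw [Scheme.mem_basicOpen _ _ y hy] at h ⊢
      rw [map_sub, map_one]
      exact (IsLocalRing.isUnit_or_isUnit_one_sub_self _).resolve_left h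
    refine ⟨Y.basicOpen (1 - ε), h1, Y.basicOpen_le _, Or.inr fun x hx => ?_⟩
    rw [Scheme.preimage_basicOpen, map_sub, map_one, hε] at hx
    rcases (hU.symm ▸ (X.basicOpen_le _ hx : x ∈ f ⁻¹ᵁ V) : x ∈ Z ⊔ N) with hz | hn
    · rw [Scheme.mem_basicOpen _ _ x (X.basicOpen_le _ hx), map_sub, map_one, ← X.presheaf.germ_res_apply
        (homOfLE (hU ▸ le_sup_left : Z ≤ f ⁻¹ᵁ V)) x hz e, he1, map_one, sub_self] at hx
      exact absurd hx not_isUnit_zero
    · exact hn

/-- A nonzero germ on the target has, nearby, all germs nonzero on the source. -/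
theorem exists_nhd_nonzero {Y : Scheme.{u}} (f : X ⟶ Y) (hd : ∀ x : X, IsDomain (X.presheaf.stalk x))
    (hf : ∀ V : Y.Opens, IsIso (f.app V)) (y : Y) (V : Y.Opens) (hy : y ∈ V) (a : Γ(Y, V))
    (ha : Y.presheaf.germ V y hy a ≠ 0) :
    ∃ V' : Y.Opens, y ∈ V' ∧ ∃ h : V' ≤ V, ∀ (x : X) (hx : x ∈ f ⁻¹ᵁ V'),
      X.presheaf.germ (f ⁻¹ᵁ V') x hx (f.app V' (Y.presheaf.map (homOfLE h).op a)) ≠ 0 := by
  obtain ⟨Z, N, hU, hdis, hZ⟩ := isClopen_zero hd (f ⁻¹ᵁ V) (f.app V a)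
  obtain ⟨V', hy', hle, hcase⟩ := exists_nhd_of_split f hf y V hy Z N hU hdis
  have hres : ∀ (x : X) (hx : x ∈ f ⁻¹ᵁ V'),
      X.presheaf.germ (f ⁻¹ᵁ V') x hx (f.app V' (Y.presheaf.map (homOfLE hle).op a)) =
        X.presheaf.germ (f ⁻¹ᵁ V) x (hle hx) (f.app V a) := by
    intro x hx
    rw [← Scheme.Hom.germ_stalkMap_apply, ← Scheme.Hom.germ_stalkMap_apply, Y.presheaf.germ_res_apply]
  rcases hcase with h | h
  · refine absurd ?_ ha
    have h0 : f.app V' (Y.presheaf.map (homOfLE hle).op a) = 0 := by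
      refine TopCat.Presheaf.section_ext X.sheaf _ _ _ fun x hx => ?_
      rw [map_zero]
      exact (hres x hx).trans ((hZ x (hle hx)).1 (h hx))
    have := hf V'
    have h00 := (ConcreteCategory.bijective_of_isIso (f.app V')).1 (h0.trans (map_zero _).symm)
    rw [← Y.presheaf.germ_res_apply (homOfLE hle) y hy' a, h00, map_zero]
  · exact ⟨V', hy', hle, fun x hx h0 => (Disjoint.le_bot hdis ⟨(hZ x (hle hx)).2 ((hres x hx).symm.trans h0), h hx⟩).elim⟩

/-- Divisibility in normal stalks glues. -/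
theorem exists_eq_mul {X : Scheme.{u}} (hd : ∀ x : X, IsDomain (X.presheaf.stalk x)) (U : X.Opens)
    (a b : Γ(X, U)) (hb : ∀ (x : X) (hx : x ∈ U), X.presheaf.germ U x hx b ≠ 0)
    (h : ∀ (x : X) (hx : x ∈ U), X.presheaf.germ U x hx b ∣ X.presheaf.germ U x hx a) :
    ∃ t : Γ(X, U), a = b * t := by
  have key : ∀ x : U, ∃ W : X.Opens, (x : X) ∈ W ∧ ∃ hW : W ≤ U, ∃ t : Γ(X, W),
      X.presheaf.map (homOfLE hW).op a = X.presheaf.map (homOfLE hW).op b * t := by
    rintro ⟨x, hx⟩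
    obtain ⟨c, hc⟩ := h x hx
    obtain ⟨W₀, hxW₀, t, rfl⟩ := X.presheaf.germ_exist c
    let W := W₀ ⊓ U
    have hc' : X.presheaf.germ W x ⟨hxW₀, hx⟩ (X.presheaf.map (homOfLE (inf_le_right : W ≤ U)).op a) =
        X.presheaf.germ W x ⟨hxW₀, hx⟩ (X.presheaf.map (homOfLE (inf_le_right : W ≤ U)).op b *
          X.presheaf.map (homOfLE (inf_le_left : W ≤ W₀)).op t) := by
      rw [map_mul, X.presheaf.germ_res_apply, X.presheaf.germ_res_apply, X.presheaf.germ_res_apply]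
      exact hc
    obtain ⟨W', hxW', iU, iV, e⟩ := X.presheaf.germ_eq x _ _ _ _ hc'
    cases Subsingleton.elim iU iV
    refine ⟨W', hxW', iU.le.trans inf_le_right, X.presheaf.map (iU ≫ homOfLE inf_le_left).op t, ?_⟩
    rw [map_mul, res_res, res_res, res_res] at e
    exact e
  choose W hxW hW t ht using key
  have hcompat : TopCat.Presheaf.IsCompatible X.presheaf W t := by
    intro i j
    refine TopCat.Presheaf.section_ext X.sheaf _ _ _ fun x hx => ?_
    show X.presheaf.germ _ x hx _ = X.presheaf.germ _ x hx _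
    rw [X.presheaf.germ_res_apply, X.presheaf.germ_res_apply]
    have h1 := congrArg (X.presheaf.germ (W i) x hx.1) (ht i)
    have h2 := congrArg (X.presheaf.germ (W j) x hx.2) (ht j)
    rw [map_mul, X.presheaf.germ_res_apply, X.presheaf.germ_res_apply] at h1 h2
    have := hd x
    exact mul_left_cancel₀ (hb x (hW i hx.1)) (h1.symm.trans h2)
  obtain ⟨T, hT, -⟩ := X.sheaf.existsUnique_gluing' W U (fun i => homOfLE (hW i))
    (fun x hx => Opens.mem_iSup.2 ⟨⟨x, hx⟩, hxW _⟩) t hcompat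
  have T' : Γ(X, U) := T
  refine ⟨(id T : Γ(X, U)), TopCat.Presheaf.section_ext X.sheaf _ _ _ fun x hx => ?_⟩
  show X.presheaf.germ U x hx a = X.presheaf.germ U x hx (b * (id T : Γ(X, U)))
  dsimp only [id]
  have h1 := congrArg (X.presheaf.germ (W ⟨x, hx⟩) x (hxW _)) (ht ⟨x, hx⟩)
  rw [← hT ⟨x, hx⟩, map_mul] at h1
  rw [map_mul]
  exact (X.presheaf.germ_res_apply _ _ _ _).symm.trans (h1.trans
    (congrArg₂ (· * ·) (X.presheaf.germ_res_apply _ _ _ _) (X.presheaf.germ_res_apply _ _ _ _)))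

/-- Finitely many germs at a point are germs of sections over one open. -/
theorem exists_common (Y : Scheme.{u}) (y : Y) {ι : Type} [Fintype ι] (c : ι → Y.presheaf.stalk y) :
    ∃ (V : Y.Opens) (hy : y ∈ V) (s : ι → Γ(Y, V)), ∀ i, Y.presheaf.germ V y hy (s i) = c i := by
  choose W hW s hs using fun i => Y.presheaf.germ_exist (c i)
  let V : Y.Opens := ⟨⋂ i, (W i : Set Y), isOpen_iInter_of_finite fun i => (W i).isOpen⟩
  have hV : ∀ i, V ≤ W i := fun i x hx => Set.mem_iInter.1 hx i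
  exact ⟨V, Set.mem_iInter.2 hW, fun i => Y.presheaf.map (homOfLE (hV i)).op (s i),
    fun i => by rw [Y.presheaf.germ_res_apply]; exact hs i⟩

/-- Let k be a field and f : X → Y a k-morphism between proper k-schemes which is a fibration, i.e. O_Y
→ f_*O_X is an isomorphism (Γ(V, O_Y) → Γ(f⁻¹V, O_X) bijective for every open V ⊆ Y). If X is normal
(every local ring an integrally closed domain), then so is Y. -/
theorem result (k : Type u) [Field k] (X Y : Scheme.{u})
    [X.Over (Spec (CommRingCat.of k))] [Y.Over (Spec (CommRingCat.of k))] [IsProper (X ↘ Spec (CommRingCat.of k))] [IsProper (Y ↘ Spec (CommRingCat.of k))]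
    (f : X ⟶ Y) (hf : f ≫ (Y ↘ Spec (CommRingCat.of k)) = X ↘ Spec (CommRingCat.of k)) (hfib : ∀ V : Y.Opens, IsIso (f.app V))
    (hX : Pi1.IsNormalScheme X) : Pi1.IsNormalScheme Y := by
  have : IsLocallyNoetherian X := LocallyOfFiniteType.isLocallyNoetherian (X ↘ Spec (CommRingCat.of k))
  have hd : ∀ x : X, IsDomain (X.presheaf.stalk x) := fun x => (hX x).1
  intro y
  have hdomy : IsDomain (Y.presheaf.stalk y) := by
    rw [isDomain_iff_noZeroDivisors_and_nontrivial]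
    refine ⟨⟨fun {a b} hab => ?_⟩, inferInstance⟩
    by_contra hne
    push Not at hne
    obtain ⟨V, hy, s, hs⟩ := exists_common Y y ![a, b]
    have hsa : Y.presheaf.germ V y hy (s 0) = a := hs 0
    have hsb : Y.presheaf.germ V y hy (s 1) = b := hs 1
    obtain ⟨V₁, hy₁, hle₁, h₁⟩ := exists_nhd_nonzero f hd hfib y V hy (s 0) (by rw [hsa]; exact hne.1)
    obtain ⟨V₂, hy₂, hle₂, h₂⟩ := exists_nhd_nonzero f hd hfib y V₁ hy₁ (Y.presheaf.map (homOfLE hle₁).op (s 1))
      (by rw [Y.presheaf.germ_res_apply, hsb]; exact hne.2)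
    have hzero : Y.presheaf.germ V y hy (s 0 * s 1) = Y.presheaf.germ V y hy 0 := by
      rw [map_mul, hsa, hsb, hab, map_zero]
    obtain ⟨W, hyW, iU, iV, e⟩ := Y.presheaf.germ_eq y hy hy _ _ hzero
    by_cases hne' : ∃ x : X, x ∈ f ⁻¹ᵁ (W ⊓ V₂)
    · obtain ⟨x, hx⟩ := hne'
      have := hd x
      have e1 := congrArg (fun z => f.stalkMap x (Y.presheaf.germ W (f x) hx.1 z)) e
      rw [Y.presheaf.germ_res_apply, Y.presheaf.germ_res_apply, map_zero, map_zero, map_mul, map_mul] at e1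
      have c1 := h₁ x (hle₂ hx.2)
      have c2 := h₂ x hx.2
      rw [← Scheme.Hom.germ_stalkMap_apply, Y.presheaf.germ_res_apply] at c1
      rw [← Scheme.Hom.germ_stalkMap_apply, Y.presheaf.germ_res_apply, Y.presheaf.germ_res_apply] at c2
      exact (mul_ne_zero c1 c2) e1
    · -- the preimage is empty, so the sections vanish
      have := hfib (W ⊓ V₂)
      have : Subsingleton Γ(X, f ⁻¹ᵁ (W ⊓ V₂)) := by
        rw [show f ⁻¹ᵁ (W ⊓ V₂) = ⊥ from Opens.ext (Set.eq_empty_iff_forall_notMem.2 fun x hx => hne' ⟨x, hx⟩)]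
        exact CommRingCat.subsingleton_of_isTerminal X.sheaf.isTerminalOfEmpty
      have : Subsingleton Γ(Y, W ⊓ V₂) := (ConcreteCategory.bijective_of_isIso (f.app (W ⊓ V₂))).1.subsingleton
      refine hne.1 ?_
      rw [← hsa, ← Y.presheaf.germ_res_apply (homOfLE ((inf_le_right.trans hle₂).trans hle₁ : W ⊓ V₂ ≤ V)) y ⟨hyW, hy₂⟩,
        Subsingleton.elim (Y.presheaf.map (homOfLE ((inf_le_right.trans hle₂).trans hle₁ : W ⊓ V₂ ≤ V)).op (s 0)) 0,
        map_zero]
  refine ⟨hdomy, (isIntegrallyClosed_iff (FractionRing (Y.presheaf.stalk y))).2 fun {z} hz => ?_⟩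
  obtain ⟨a, ⟨b, hb⟩, rfl⟩ := IsLocalization.exists_mk'_eq (nonZeroDivisors (Y.presheaf.stalk y)) z
  obtain ⟨V, hy, s, hs⟩ := exists_common Y y ![a, b]
  have hsa : Y.presheaf.germ V y hy (s 0) = a := hs 0
  have hsb : Y.presheaf.germ V y hy (s 1) = b := hs 1
  have hb0 : b ≠ 0 := nonZeroDivisors.ne_zero hb
  obtain ⟨p, hp, hpz⟩ := hz
  have hp' : ∃ (n : ℕ) (c : Fin (n + 1) → Y.presheaf.stalk y), c (Fin.last n) = 1 ∧
      ∑ i, c i * a ^ (i : ℕ) * b ^ (n - (i : ℕ)) = 0 := by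
    refine ⟨p.natDegree, fun i => p.coeff i, hp, ?_⟩
    refine IsFractionRing.injective (Y.presheaf.stalk y) (FractionRing (Y.presheaf.stalk y)) ?_
    rw [Polynomial.eval₂_eq_sum_range, ← Fin.sum_univ_eq_sum_range] at hpz
    have h3 := congrArg (fun t => t * algebraMap _ (FractionRing (Y.presheaf.stalk y)) b ^ p.natDegree) hpz
    simp only [zero_mul, Finset.sum_mul] at h3
    rw [map_zero, map_sum, ← h3]
    refine Finset.sum_congr rfl fun i _ => ?_
    have hi : (i : ℕ) + (p.natDegree - i) = p.natDegree := by omega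
    rw [map_mul, map_mul, map_pow, map_pow, ← IsLocalization.mk'_spec (FractionRing (Y.presheaf.stalk y)) a ⟨b, hb⟩,
      mul_pow]
    rw [show algebraMap _ (FractionRing (Y.presheaf.stalk y)) b ^ p.natDegree =
      algebraMap _ _ b ^ (i : ℕ) * algebraMap _ _ b ^ (p.natDegree - i) by rw [← pow_add, hi]]
    ring
  obtain ⟨n, c, hc1, hsum⟩ := hp'
  obtain ⟨V₁, hy₁, sc, hsc⟩ := exists_common Y y c
  let V₂ := V ⊓ V₁
  let A := Y.presheaf.map (homOfLE (inf_le_left : V₂ ≤ V)).op (s 0)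
  let B := Y.presheaf.map (homOfLE (inf_le_left : V₂ ≤ V)).op (s 1)
  let C := fun i => Y.presheaf.map (homOfLE (inf_le_right : V₂ ≤ V₁)).op (sc i)
  have hy₂ : y ∈ V₂ := ⟨hy, hy₁⟩
  have hA : Y.presheaf.germ V₂ y hy₂ A = a := by rw [Y.presheaf.germ_res_apply]; exact hsa
  have hB : Y.presheaf.germ V₂ y hy₂ B = b := by rw [Y.presheaf.germ_res_apply]; exact hsb
  have hC : ∀ i, Y.presheaf.germ V₂ y hy₂ (C i) = c i := fun i => by rw [Y.presheaf.germ_res_apply]; exact hsc i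
  have h4 : Y.presheaf.germ V₂ y hy₂ (∑ i, C i * A ^ (i : ℕ) * B ^ (n - (i : ℕ))) = Y.presheaf.germ V₂ y hy₂ 0 := by
    simp only [map_sum, map_mul, map_pow, hA, hB, hC, hsum, map_zero]
  have h5 : Y.presheaf.germ V₂ y hy₂ (C (Fin.last n)) = Y.presheaf.germ V₂ y hy₂ 1 := by rw [hC, hc1, map_one]
  obtain ⟨W, hyW, iU, iV, e⟩ := Y.presheaf.germ_eq y hy₂ hy₂ _ _ h4
  obtain ⟨W', hyW', iU', iV', e'⟩ := Y.presheaf.germ_eq y hy₂ hy₂ _ _ h5
  let V₃ := W ⊓ W'
  have h3le : V₃ ≤ V₂ := inf_le_left.trans iU.le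
  obtain ⟨V₄, hy₄, hle₄, hnz⟩ := exists_nhd_nonzero f hd hfib y V₃ ⟨hyW, hyW'⟩
    (Y.presheaf.map (homOfLE h3le).op B) (by rw [Y.presheaf.germ_res_apply, hB]; exact hb0)
  let ρ : Γ(Y, V₂) →+* Γ(X, f ⁻¹ᵁ V₄) := (f.app V₄).hom.comp (Y.presheaf.map (homOfLE (hle₄.trans h3le)).op).hom
  have hρB : ∀ (x : X) (hx : x ∈ f ⁻¹ᵁ V₄), X.presheaf.germ _ x hx (ρ B) ≠ 0 := by
    intro x hx
    have := hnz x hx
    rw [← ConcreteCategory.comp_apply (Y.presheaf.map _) (Y.presheaf.map _), ← Functor.map_comp] at this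
    exact this
  obtain ⟨t, ht⟩ := exists_eq_mul hd (f ⁻¹ᵁ V₄) (ρ A) (ρ B) hρB fun x hx => by
    have := hd x
    have := (hX x).2
    let σ : Γ(Y, V₂) →+* X.presheaf.stalk x := (X.presheaf.germ (f ⁻¹ᵁ V₄) x hx).hom.comp ρ
    have hs0 : ∑ i, σ (C i) * σ A ^ (i : ℕ) * σ B ^ (n - (i : ℕ)) = 0 := by
      have := congrArg (fun z => X.presheaf.germ (f ⁻¹ᵁ V₄) x hx (f.app V₄ (Y.presheaf.map (homOfLE (hle₄.trans inf_le_left : V₄ ≤ W)).op z))) e
      simp only [res_res] at this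
      simp only [← map_pow, ← map_mul, ← map_sum]
      exact this.trans (by simp)
    have hs1 : σ (C (Fin.last n)) = 1 := by
      have := congrArg (fun z => X.presheaf.germ (f ⁻¹ᵁ V₄) x hx (f.app V₄ (Y.presheaf.map (homOfLE (hle₄.trans inf_le_right : V₄ ≤ W')).op z))) e'
      simp only [res_res] at this
      exact this.trans (by simp)
    show σ B ∣ σ A
    have hB0 : σ B ≠ 0 := hρB x hx
    have hBK : algebraMap _ (FractionRing (X.presheaf.stalk x)) (σ B) ≠ 0 := (map_ne_zero_iff _ (IsFractionRing.injective _ _)).2 hB0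
    have hint : _root_.IsIntegral (X.presheaf.stalk x) (algebraMap _ (FractionRing (X.presheaf.stalk x)) (σ A) / algebraMap _ (FractionRing (X.presheaf.stalk x)) (σ B)) := by
      refine ⟨∑ i : Fin (n + 1), Polynomial.C (σ (C i)) * Polynomial.X ^ (i : ℕ), ?_, ?_⟩
      · rw [Fin.sum_univ_castSucc, hs1, map_one, one_mul, Fin.val_last, add_comm]
        exact Polynomial.monic_X_pow_add (Polynomial.degree_sum_fin_lt _)
      · rw [Polynomial.eval₂_finsetSum]
        have h6 := congrArg (fun t => algebraMap _ (FractionRing (X.presheaf.stalk x)) t / algebraMap _ (FractionRing (X.presheaf.stalk x)) (σ B) ^ n) hs0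
        simp only [map_zero, zero_div, map_sum] at h6
        rw [Finset.sum_div] at h6
        rw [← h6]
        refine Finset.sum_congr rfl fun i _ => ?_
        have hi : (i : ℕ) + (n - i) = n := by omega
        rw [Polynomial.eval₂_mul, Polynomial.eval₂_C, Polynomial.eval₂_pow, Polynomial.eval₂_X, map_mul, map_mul,
          map_pow, map_pow, div_pow]
        rw [show algebraMap _ (FractionRing (X.presheaf.stalk x)) (σ B) ^ n = algebraMap _ (FractionRing (X.presheaf.stalk x)) (σ B) ^ (i : ℕ) * algebraMap _ (FractionRing (X.presheaf.stalk x)) (σ B) ^ (n - i) by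
          rw [← pow_add, hi]]
        field_simp
    obtain ⟨r, hr⟩ := IsIntegrallyClosed.isIntegral_iff.1 hint
    exact ⟨r, IsFractionRing.injective _ (FractionRing (X.presheaf.stalk x)) (by rw [map_mul, hr, mul_div_cancel₀ _ hBK])⟩
  have := hfib V₄
  obtain ⟨τ, hτ⟩ := (ConcreteCategory.bijective_of_isIso (f.app V₄)).2 t
  have h7 : Y.presheaf.map (homOfLE (hle₄.trans h3le)).op A = Y.presheaf.map (homOfLE (hle₄.trans h3le)).op B * τ :=
    (ConcreteCategory.bijective_of_isIso (f.app V₄)).1 (by rw [map_mul, hτ]; exact ht)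
  have h8 := congrArg (Y.presheaf.germ V₄ y hy₄) h7
  rw [map_mul, Y.presheaf.germ_res_apply (homOfLE (hle₄.trans h3le)) y hy₄,
    Y.presheaf.germ_res_apply (homOfLE (hle₄.trans h3le)) y hy₄] at h8
  rw [hA, hB] at h8
  refine ⟨Y.presheaf.germ V₄ y hy₄ τ, ?_⟩
  rw [IsLocalization.eq_mk'_iff_mul_eq, ← map_mul, mul_comm, ← h8]

end Groth.Agent.S19513
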