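import Groth.Statements.S19514
import Groth.Agent.Var76.FibBC
import Mathlib.AlgebraicGeometry.Geometrically.Integral

set_option autoImplicit false
universe u
open CategoryTheory CategoryTheory.Limits AlgebraicGeometry
open Variety

namespace Groth.Agent.S19514

open CategoryTheory CategoryTheory.Limits AlgebraicGeometry
open Groth.Agent

set_option backward.isDefEq.respectTransparency false

/-- The target of a morphism with `f_* O_X = O_Y` from an integral scheme is integral. -/
theorem isIntegral_of_isIso_app {A B : Scheme.{u}} (g : A ⟶ B) [IsIntegral A]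
    (hg : ∀ W : B.Opens, IsIso (g.app W)) : IsIntegral B := by
  have hne : Nonempty B := ⟨g (genericPoint A)⟩
  refine ⟨hne, fun W hW => ?_⟩
  have := hg W
  have : Nonempty (g ⁻¹ᵁ W) := by
    obtain ⟨⟨w, hw⟩⟩ := hW
    by_contra he
    have he' : g ⁻¹ᵁ W = ⊥ := TopologicalSpace.Opens.ext
      (Set.eq_empty_iff_forall_notMem.2 fun x hx => he ⟨⟨x, hx⟩⟩)
    have : Subsingleton Γ(A, g ⁻¹ᵁ W) := by
      rw [he']
      exact CommRingCat.subsingleton_of_isTerminal A.sheaf.isTerminalOfEmpty
    have : Subsingleton Γ(B, W) := (ConcreteCategory.bijective_of_isIso (g.app W)).1.subsingleton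
    have h01 := congrArg (B.presheaf.germ W w hw) (Subsingleton.elim (1 : Γ(B, W)) 0)
    rw [map_one, map_zero] at h01
    exact one_ne_zero h01
  exact MulEquiv.isDomain Γ(A, g ⁻¹ᵁ W) (asIso (g.app W)).commRingCatIsoToRingEquiv.toMulEquiv

/-- Let k be a field and f : X → Y a k-morphism between proper k-schemes which is a fibration, i.e. O_Y
→ f_*O_X is an isomorphism (Γ(V, O_Y) → Γ(f⁻¹V, O_X) bijective for every open V ⊆ Y). If X is
geometrically integral over k, then so is Y. (The assertion of (iii) for geometric normality is not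
stated here.) -/
theorem result (k : Type u) [Field k] (X Y : Scheme.{u})
    [X.Over (Spec (CommRingCat.of k))] [Y.Over (Spec (CommRingCat.of k))] [IsProper (X ↘ Spec (CommRingCat.of k))] [IsProper (Y ↘ Spec (CommRingCat.of k))]
    (f : X ⟶ Y) (hf : f ≫ (Y ↘ Spec (CommRingCat.of k)) = X ↘ Spec (CommRingCat.of k)) (hfib : ∀ V : Y.Opens, IsIso (f.app V))
    [GeometricallyIntegral (X ↘ Spec (CommRingCat.of k))] : GeometricallyIntegral (Y ↘ Spec (CommRingCat.of k)) := by
  let sX := X ↘ Spec (CommRingCat.of k)
  let sY := Y ↘ Spec (CommRingCat.of k)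
  refine ⟨fun K _ y Z fst snd h => ?_⟩
  have := Var76.FibBC.flat_of_field y
  have : Flat fst := MorphismProperty.of_isPullback h.flip inferInstance
  have : IsProper (f ≫ sY) := by rw [hf]; infer_instance
  have : QuasiCompact f := QuasiCompact.of_comp f sY
  have : QuasiSeparated f := QuasiSeparated.of_comp f sY
  have hX' : IsPullback (pullback.fst f fst) (pullback.snd f fst ≫ snd) sX y := by
    have := (IsPullback.of_hasPullback f fst).paste_vert h
    rwa [hf] at this
  have : IsIntegral (pullback f fst) :=
    GeometricallyIntegral.geometrically_isIntegral (f := sX) y _ _ hX'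
  exact isIntegral_of_isIso_app _ (Var76.FibBC.isIso_app_baseChange f (IsPullback.of_hasPullback f fst) hfib)

end Groth.Agent.S19514
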