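import Groth.Statements.S19515
import Groth.Agent.S19513
import Groth.Agent.Var76.FibBC

set_option autoImplicit false
universe u
open CategoryTheory CategoryTheory.Limits AlgebraicGeometry
open Variety

namespace Groth.Agent.S19515

open CategoryTheory CategoryTheory.Limits AlgebraicGeometry
open Groth.Agent

set_option backward.isDefEq.respectTransparency false

/-- Let k be a field and f : X → Y a k-morphism between proper k-schemes which is a fibration, i.e. O_Y
→ f_*O_X is an isomorphism (Γ(V, O_Y) → Γ(f⁻¹V, O_X) bijective for every open V ⊆ Y). If X is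
geometrically normal, i.e. its base change to every algebraic closure of k has all local rings
integrally closed domains, then Y is geometrically normal in the same sense. -/
theorem result (k : Type u) [Field k] (X Y : Scheme.{u})
    [X.Over (Spec (CommRingCat.of k))] [Y.Over (Spec (CommRingCat.of k))] [IsProper (X ↘ Spec (CommRingCat.of k))] [IsProper (Y ↘ Spec (CommRingCat.of k))]
    (f : X ⟶ Y) (hf : f ≫ (Y ↘ Spec (CommRingCat.of k)) = X ↘ Spec (CommRingCat.of k)) (hfib : ∀ V : Y.Opens, IsIso (f.app V))
    (hX : ∀ (K : Type u) [Field K] [Algebra k K] [IsAlgClosure k K],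
      Pi1.IsNormalScheme (pullback (X ↘ Spec (CommRingCat.of k)) (Spec.map (CommRingCat.ofHom (algebraMap k K)))))
    (K : Type u) [Field K] [Algebra k K] [IsAlgClosure k K] :
    Pi1.IsNormalScheme (pullback (Y ↘ Spec (CommRingCat.of k)) (Spec.map (CommRingCat.ofHom (algebraMap k K)))) := by
  let sX := X ↘ Spec (CommRingCat.of k)
  let sY := Y ↘ Spec (CommRingCat.of k)
  let i : Spec (CommRingCat.of K) ⟶ Spec (CommRingCat.of k) := Spec.map (CommRingCat.ofHom (algebraMap k K))
  let fK : pullback sX i ⟶ pullback sY i :=
    pullback.map sX i sY i f (𝟙 _) (𝟙 _) (by rw [Category.comp_id]; exact hf.symm) (by simp)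
  have hsnd : fK ≫ pullback.snd sY i = pullback.snd sX i := by simp [fK]
  have H : IsPullback (pullback.fst sX i) fK f (pullback.fst sY i) := by
    refine IsPullback.of_bot ?_ (by simp [fK]) (IsPullback.of_hasPullback sY i)
    rw [hsnd, hf]
    exact IsPullback.of_hasPullback sX i
  have := Var76.FibBC.flat_of_field i
  have : IsProper (f ≫ sY) := by rw [hf]; infer_instance
  have : QuasiCompact f := QuasiCompact.of_comp f sY
  have : QuasiSeparated f := QuasiSeparated.of_comp f sY
  letI : (pullback sX i).Over (Spec (CommRingCat.of K)) := ⟨pullback.snd sX i⟩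
  letI : (pullback sY i).Over (Spec (CommRingCat.of K)) := ⟨pullback.snd sY i⟩
  have : IsProper (pullback sX i ↘ Spec (CommRingCat.of K)) := inferInstanceAs (IsProper (pullback.snd sX i))
  have : IsProper (pullback sY i ↘ Spec (CommRingCat.of K)) := inferInstanceAs (IsProper (pullback.snd sY i))
  exact S19513.result K _ _ fK hsnd (Var76.FibBC.isIso_app_baseChange f H hfib) (hX K)

end Groth.Agent.S19515
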