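import Groth.Statements.S19517
import Groth.Agent.S8000
import Groth.Agent.S5341
import Groth.Agent.Grp57.IdentityComponent
import Groth.Agent.AlgGrp79.FiniteKernelHom
import Groth.Agent.AlgGrp79.RosUnits
import Groth.Agent.Alb96.MaxAbelian
-- import your own Groth.Agent.* helpers here

set_option autoImplicit false
universe u
open CategoryTheory CategoryTheory.Limits MonoidalCategory CartesianMonoidalCategory MonObj GrpObj AlgebraicGeometry
open AlgGrp

namespace Groth.Agent.S19517

open CategoryTheory MonoidalCategory CartesianMonoidalCategory MonObj AlgebraicGeometry CategoryTheory.Limits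
open Groth.Agent.AlgGrp79

variable {k : Type u} [Field k]

lemma conj_iso {G K : Over (Spec (CommRingCat.of k))} [GrpObj G] [GrpObj K] (j : K ⟶ G) [IsMonHom j] [Mono j]
    (hK : AlgGrp.IsNormalHom j) (g : 𝟙_ (Over (Spec (CommRingCat.of k))) ⟶ G) :
    ∃ c : K ≅ K, IsMonHom c.hom ∧ c.hom ≫ j = (toUnit K ≫ g) * j * (toUnit K ≫ g)⁻¹ := by
  obtain ⟨c, hc⟩ := hK K (toUnit K ≫ g) (𝟙 K)
  obtain ⟨d, hd⟩ := hK K (toUnit K ≫ g⁻¹) (𝟙 K)
  rw [Category.id_comp] at hc hd
  have key : ∀ {T : Over (Spec (CommRingCat.of k))} (a : T ⟶ K) (e : K ⟶ K) (h : 𝟙_ (Over (Spec (CommRingCat.of k))) ⟶ G),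
      e ≫ j = (toUnit K ≫ h) * j * (toUnit K ≫ h)⁻¹ →
      (a ≫ e) ≫ j = (toUnit T ≫ h) * (a ≫ j) * (toUnit T ≫ h)⁻¹ := fun a e h he => by
    rw [Category.assoc, he]
    simp [MonObj.comp_mul, GrpObj.comp_inv, comp_toUnit_assoc]
  have hinv : c ≫ d = 𝟙 K ∧ d ≫ c = 𝟙 K := by
    constructor <;> rw [← cancel_mono j, Category.id_comp]
    · rw [key c d g⁻¹ hd.symm, ← hc, GrpObj.comp_inv]
      group
    · rw [key d c g hc.symm, ← hd, GrpObj.comp_inv]
      group
  refine ⟨⟨c, d, hinv.1, hinv.2⟩, isMonHom_of_forall c fun T a b => ?_, hc.symm⟩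
  rw [← cancel_mono j, key (a * b) c g hc.symm, mul_comp' a b j, mul_comp' (a ≫ c) (b ≫ c) j, key a c g hc.symm, key b c g hc.symm]
  group

lemma normal_comp {G NK K : Over (Spec (CommRingCat.of k))} [GrpObj G] [GrpObj K] [GrpObj NK] [IsAlgClosed k]
    [Smooth G.hom] [QuasiCompact G.hom] [Smooth NK.hom] [QuasiCompact NK.hom]
    (j : K ⟶ G) [IsMonHom j] [IsClosedImmersion j.left] (hK : AlgGrp.IsNormalHom j)
    (iK : NK ⟶ K) [IsMonHom iK] [IsClosedImmersion iK.left] [ConnectedSpace ↥NK.left] [IsAffine NK.left]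
    (hNK : AlgGrp.IsNormalHom iK)
    (hNKmax : (∀ (N' : Over (Spec (CommRingCat.of k))) [GrpObj N'] (i' : N' ⟶ K) [IsMonHom i'] [IsClosedImmersion i'.left]
      [Smooth N'.hom] [ConnectedSpace ↥N'.left] [IsAffine N'.left], AlgGrp.IsNormalHom i' → ∃ f : N' ⟶ NK, f ≫ iK = i')) :
    AlgGrp.IsNormalHom (iK ≫ j) := by
  have := Over.mono_of_mono_left j
  have : IsClosedImmersion (iK ≫ j).left := inferInstanceAs (IsClosedImmersion (iK.left ≫ j.left))
  refine S8000.result k k G NK (iK ≫ j) fun g h => ?_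
  obtain ⟨e⟩ := kPt_iso (k := k)
  have hg : g = toUnit _ ≫ e.inv ≫ g := by
    rw [← toUnit_unique e.hom (toUnit _), Iso.hom_inv_id_assoc]
  obtain ⟨c, hcm, hc⟩ := conj_iso j hK (e.inv ≫ g)
  have : IsIso c.hom.left := ((Over.forget _).mapIso c).isIso_hom
  have : IsClosedImmersion (iK ≫ c.hom).left := inferInstanceAs (IsClosedImmersion (iK.left ≫ c.hom.left))
  obtain ⟨f, hf⟩ := hNKmax NK (iK ≫ c.hom) (fun T x n => by
    obtain ⟨n', hn'⟩ := hNK T (x ≫ c.inv) n
    refine ⟨n', ?_⟩
    have h2 := congrArg (· ≫ c.hom) hn'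
    simp only [mul_comp', GrpObj.inv_comp, Category.assoc, Iso.inv_hom_id, Category.comp_id] at h2
    exact h2)
  refine ⟨h ≫ f, ?_⟩
  rw [Category.assoc, reassoc_of% hf, hc]
  conv_lhs => rw [hg]
  simp [MonObj.comp_mul, GrpObj.comp_inv, comp_toUnit_assoc]

/-- Linear part, the assertion on the kernel: over an algebraically closed field k let G be a smooth
k-group scheme of finite type, j : K → G a closed normal subgroup scheme of finite type, i : G_lin →
G the largest smooth connected affine normal closed subgroup scheme of G and i_K : K_lin → K the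
largest smooth connected affine normal closed subgroup scheme of K. Then K_lin is contained in
G_lin, and K_lin has finite index in K ∩ G_lin in the sense that K_lin and the fibre product K ×_G
G_lin have the same dimension (K_lin is the reduced identity component of K ∩ G_lin). (The published
proposition is stated for an exact sequence e → K → G → Q → e of arbitrary algebraic groups and also
for unipotent and solvable parts; G is assumed smooth here, and only the linear part is stated.) -/
theorem result (k : Type u) [Field k] [IsAlgClosed k]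
    (G : Over (Spec (CommRingCat.of k))) [GrpObj G] [Smooth G.hom] [QuasiCompact G.hom]
    (K : Over (Spec (CommRingCat.of k))) [GrpObj K] [QuasiCompact K.hom] [LocallyOfFiniteType K.hom]
    (j : K ⟶ G) [IsMonHom j] [IsClosedImmersion j.left] (hK : AlgGrp.IsNormalHom j)
    (N : Over (Spec (CommRingCat.of k))) [GrpObj N] (i : N ⟶ G) [IsMonHom i] [IsClosedImmersion i.left]
    [Smooth N.hom] [ConnectedSpace ↥N.left] [IsAffine N.left] (hN : AlgGrp.IsNormalHom i)
    (hNmax : (∀ (N' : Over (Spec (CommRingCat.of k))) [GrpObj N'] (i' : N' ⟶ G) [IsMonHom i'] [IsClosedImmersion i'.left]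
      [Smooth N'.hom] [ConnectedSpace ↥N'.left] [IsAffine N'.left], AlgGrp.IsNormalHom i' → ∃ f : N' ⟶ N, f ≫ i = i'))
    (NK : Over (Spec (CommRingCat.of k))) [GrpObj NK] (iK : NK ⟶ K) [IsMonHom iK] [IsClosedImmersion iK.left]
    [Smooth NK.hom] [ConnectedSpace ↥NK.left] [IsAffine NK.left] (hNK : AlgGrp.IsNormalHom iK)
    (hNKmax : (∀ (N' : Over (Spec (CommRingCat.of k))) [GrpObj N'] (i' : N' ⟶ K) [IsMonHom i'] [IsClosedImmersion i'.left]
      [Smooth N'.hom] [ConnectedSpace ↥N'.left] [IsAffine N'.left], AlgGrp.IsNormalHom i' → ∃ f : N' ⟶ NK, f ≫ iK = i')) :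
    (∃ g : NK ⟶ N, g ≫ i = iK ≫ j) ∧
      topologicalKrullDim ↥NK.left = topologicalKrullDim ↥(pullback j.left i.left) := by
  have := Over.mono_of_mono_left j
  have := Over.mono_of_mono_left i
  have hsepG := isSeparated_grp G
  have : QuasiCompact NK.hom := by rw [← Over.w iK]; infer_instance
  have hnG : AlgGrp.IsNormalHom (iK ≫ j) := normal_comp j hK iK hNK hNKmax
  have : IsClosedImmersion (iK ≫ j).left := inferInstanceAs (IsClosedImmersion (iK.left ≫ j.left))
  obtain ⟨g, hg⟩ := hNmax NK (iK ≫ j) hnG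
  refine ⟨⟨g, hg⟩, ?_⟩
  -- the intersection
  let P := pullback j i
  let p₁ : P ⟶ K := pullback.fst j i
  let p₂ : P ⟶ N := pullback.snd j i
  have hsq : IsPullback p₁ p₂ j i := IsPullback.of_hasPullback j i
  have hw : p₁ ≫ j = p₂ ≫ i := pullback.condition
  have hP : IsPullback p₁.left p₂.left j.left i.left := isPullback_left hsq
  have : IsClosedImmersion p₁.left := MorphismProperty.of_isPullback hP.flip ‹IsClosedImmersion i.left›
  have : IsClosedImmersion p₂.left := MorphismProperty.of_isPullback hP ‹IsClosedImmersion j.left›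
  have := Over.mono_of_mono_left p₁
  obtain ⟨hPg, hp₁⟩ := exists_grpObj_closed p₁
    ⟨pullback.lift η[K] η[N] (by rw [IsMonHom.one_hom, IsMonHom.one_hom]), pullback.lift_fst _ _ _⟩
    fun T a b => ⟨pullback.lift ((a ≫ p₁)⁻¹ * (b ≫ p₁)) ((a ≫ p₂)⁻¹ * (b ≫ p₂)) (by
      rw [mul_comp', mul_comp', GrpObj.inv_comp, GrpObj.inv_comp, Category.assoc, Category.assoc, hw,
        Category.assoc, Category.assoc]), pullback.lift_fst _ _ _⟩
  have : LocallyOfFiniteType P.hom := by rw [← Over.w p₁]; infer_instance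
  have : IsAffine P.left := isAffine_of_isAffineHom p₂.left
  obtain ⟨P₀, _, incl, _, _, _, hrange, _, _⟩ := Grp57.exists_identityComponent P
  have : LocallyOfFiniteType P₀.hom := by rw [← Over.w incl]; infer_instance
  obtain ⟨Pr, _, r, _, _, _, _⟩ := exists_reduced_subgroup P₀
  have : LocallyOfFiniteType Pr.hom := by rw [← Over.w r]; infer_instance
  have hred : IsReduced Pr.left := ‹_›
  have : IsIso (Spec.map (CommRingCat.ofHom (algebraMap k k))) :=
    inferInstanceAs (IsIso (Spec.map (𝟙 (CommRingCat.of k))))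
  have : IsIso (pullback.fst Pr.hom (Spec.map (CommRingCat.ofHom (algebraMap k k)))) :=
    MorphismProperty.pullback_fst (P := MorphismProperty.isomorphisms Scheme.{u}) _ _ ‹IsIso (Spec.map (CommRingCat.ofHom (algebraMap k k)))›
  have : IsReduced (FBase.bc Pr.hom k) :=
    @isReduced_of_isOpenImmersion _ _ (pullback.fst Pr.hom (Spec.map (CommRingCat.ofHom (algebraMap k k)))) (@IsOpenImmersion.of_isIso _ _ _ this) hred
  have : GeometricallyReduced Pr.hom := FBase64.geometricallyReduced_of_isReduced_perfect Pr.hom k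
  have : GrpObj (Over.mk Pr.hom) := ‹GrpObj Pr›
  have hPrs : Smooth Pr.hom := AlgebraicGeometry.smooth_of_grpObj Pr.hom
  have : IsClosedImmersion (r ≫ incl).left := inferInstanceAs (IsClosedImmersion (r.left ≫ incl.left))
  have hrr : Set.range (r ≫ incl).left = connectedComponent (η[P].left (IsLocalRing.closedPoint k)) := by
    rw [← hrange, Over.comp_left, Scheme.Hom.comp_base, TopCat.coe_comp, Set.range_comp, r.left.surjective.range_eq,
      Set.image_univ]
  have : ConnectedSpace Pr.left := by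
    have : IrreducibleSpace P₀.left := GeometricallyIrreducible.irreducibleSpace_of_subsingleton P₀.hom
    refine (r.left.isClosedEmbedding.isEmbedding.toHomeomorph.trans
      ((Homeomorph.setCongr r.left.surjective.range_eq).trans (Homeomorph.Set.univ _))).connectedSpace_iff.2 inferInstance
  have : IsAffine Pr.left := isAffine_of_isAffineHom (r ≫ incl).left
  have := Over.mono_of_mono_left p₂
  -- normality of the reduced neutral component
  have hn : AlgGrp.IsNormalHom (r ≫ incl ≫ p₁) := by
    obtain ⟨a, ha⟩ := hK (G ⊗ P₀) (fst G P₀) (snd G P₀ ≫ incl ≫ p₁)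
    obtain ⟨b, hb⟩ := hN (G ⊗ P₀) (fst G P₀) (snd G P₀ ≫ incl ≫ p₂)
    let c : G ⊗ P₀ ⟶ P := pullback.lift a b (by rw [← ha, ← hb]; simp only [Category.assoc, hw])
    have hc1 : c ≫ p₁ ≫ j = fst G P₀ * ((snd G P₀ ≫ incl ≫ p₁) ≫ j) * (fst G P₀)⁻¹ := by
      rw [← Category.assoc, pullback.lift_fst, ← ha]
    have hcr : Set.range c.left ⊆ connectedComponent (η[P].left (IsLocalRing.closedPoint k)) := by
      rintro _ ⟨z, rfl⟩
      have : GeometricallyIrreducible (fst G P₀).left := inferInstanceAs (GeometricallyIrreducible (pullback.fst G.hom P₀.hom))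
      set w := (fst G P₀).left z with hwdef
      let e₁ : G ⟶ G ⊗ P₀ := lift (𝟙 G) (toUnit G ≫ η[P₀])
      have he : e₁.left w ∈ (fst G P₀).left ⁻¹' {w} := by
        show (fst G P₀).left (e₁.left w) = w
        rw [← Scheme.Hom.comp_apply, ← Over.comp_left, lift_fst]
        rfl
      have hconn : _root_.IsPreconnected ((fst G P₀).left ⁻¹' {w}) := by
        rw [← (fst G P₀).left.range_fiberι]
        exact isPreconnected_range ((fst G P₀).left.fiberι w).continuous
      have h1 : e₁ ≫ c = toUnit G ≫ η[P] := by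
        rw [← cancel_mono p₁, ← cancel_mono j, Category.assoc, Category.assoc, hc1]
        simp [e₁, MonObj.comp_mul, GrpObj.comp_inv, IsMonHom.one_hom_assoc, IsMonHom.one_hom, ← Hom.one_def]
      refine (hconn.image c.left c.left.continuous.continuousOn).subset_connectedComponent ?_ ⟨z, hwdef.symm, rfl⟩
      refine ⟨_, he, ?_⟩
      rw [← Scheme.Hom.comp_apply, ← Over.comp_left, h1, Over.comp_left, Scheme.Hom.comp_apply]
      exact congrArg η[P].left (Subsingleton.elim (α := PrimeSpectrum k) _ _)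
    have : IsReduced (G ⊗ Pr).left := by
      have := isReduced_of_smooth G.hom
      exact reduced_prod G Pr
    obtain ⟨ψ, hψ⟩ := Alb96.exists_lift_of_range_subset (r ≫ incl) ((G ◁ r) ≫ c) (by
      rw [hrr]
      rintro _ ⟨z, rfl⟩
      exact hcr ⟨(G ◁ r).left z, (Scheme.Hom.comp_apply _ _ _).symm⟩)
    intro T x n
    refine ⟨lift (x ≫ j) n ≫ ψ, ?_⟩
    rw [← cancel_mono j]
    have h3 := congrArg (fun f => lift (x ≫ j) n ≫ f ≫ p₁ ≫ j) hψ
    simp only [Category.assoc, hc1] at h3 ⊢
    rw [h3]
    simp [mul_comp', GrpObj.inv_comp, MonObj.comp_mul, GrpObj.comp_inv]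
  have : IsClosedImmersion (r ≫ incl ≫ p₁).left :=
    inferInstanceAs (IsClosedImmersion (r.left ≫ incl.left ≫ p₁.left))
  obtain ⟨f, hf⟩ := hNKmax Pr (r ≫ incl ≫ p₁) hn
  have hf' : IsClosedImmersion f.left := by
    have : IsClosedImmersion (f.left ≫ iK.left) := by rw [← Over.comp_left, hf]; infer_instance
    exact IsClosedImmersion.of_comp f.left iK.left
  let u : NK ⟶ P := pullback.lift iK g hg.symm
  have hu : IsClosedImmersion u.left := by
    have : IsClosedImmersion (u.left ≫ p₁.left) := by rw [← Over.comp_left, pullback.lift_fst]; infer_instance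
    exact IsClosedImmersion.of_comp u.left p₁.left
  have hdim : topologicalKrullDim ↥Pr.left = topologicalKrullDim ↥P.left := by
    have hmem := irreducibleComponent_mem_irreducibleComponents (Grp57.unitPt P)
    have hc := Grp57.component_eq_connectedComponent P hmem mem_irreducibleComponent
    rw [← (S5341.result k P).1 _ hmem, hc]
    exact IsHomeomorph.topologicalKrullDim_eq _ ((r ≫ incl).left.isClosedEmbedding.isEmbedding.toHomeomorph.trans
      (Homeomorph.setCongr hrr)).isHomeomorph
  rw [← IsHomeomorph.topologicalKrullDim_eq _ hP.isoPullback.hom.homeomorph.isHomeomorph]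
  refine le_antisymm u.left.isClosedEmbedding.isInducing.topologicalKrullDim_le ?_
  rw [← hdim]
  exact f.left.isClosedEmbedding.isInducing.topologicalKrullDim_le

end Groth.Agent.S19517
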