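import Groth.Statements.S19519
import Groth.Agent.AlgGrp79.OrbitDim
import Groth.Agent.AlgGrp79.GenSubgroup
-- import your own Groth.Agent.* helpers here

set_option autoImplicit false
universe u
open CategoryTheory MonoidalCategory CartesianMonoidalCategory MonObj GrpObj AlgebraicGeometry
open AlgGrp

namespace Groth.Agent.S19519

/-- Let k be an algebraically closed field, G a smooth k-group scheme of finite type acting on a
k-scheme X of finite type, and x a rational point of X. If the orbit of x — the image of the orbit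
map G → X, g ↦ g · x, with its subspace topology — has Krull dimension at most that of the orbit of
every rational point of X, then the orbit of x is closed in X. (The first assertions of the lemma,
local closedness and smoothness of orbits over any field, are not restated here.) -/
theorem result (k : Type u) [Field k] [IsAlgClosed k]
    (G X : Over (Spec (CommRingCat.of k))) [GrpObj G] [Smooth G.hom] [QuasiCompact G.hom]
    [LocallyOfFiniteType X.hom] [QuasiCompact X.hom] (a : AlgGrp.Action G X)
    (x : 𝟙_ (Over (Spec (CommRingCat.of k))) ⟶ X)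
    (hmin : ∀ y : 𝟙_ (Over (Spec (CommRingCat.of k))) ⟶ X,
      topologicalKrullDim (Set.range (a.orbitMap x).left.base) ≤ topologicalKrullDim (Set.range (a.orbitMap y).left.base)) :
    IsClosed (Set.range (a.orbitMap x).left.base) := by
  let α := a.orbitMap x
  haveI : LocallyOfFiniteType G.hom := inferInstance
  haveI := Groth.Agent.Var76.FibreBound.noetherianSpace G.hom
  haveI := Groth.Agent.Var76.FibreBound.noetherianSpace X.hom
  haveI : JacobsonSpace X.left := LocallyOfFiniteType.jacobsonSpace X.hom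
  set O : Set X.left := Set.range α.left with hOdef
  have hO : IsLocallyClosed O := Groth.Agent.AlgGrp79.isLocallyClosed_range_equivariant a α (Groth.Agent.AlgGrp79.orbitMap_equivariant a x)
  by_contra hcl
  obtain ⟨U, C, hU, hC, hUC⟩ := hO
  have hB : IsClosed (closure O \ O) := by
    have : closure O \ O = closure O ∩ Uᶜ := by
      ext z
      refine ⟨fun h => ⟨h.1, fun hzU => h.2 (hUC ▸ ⟨hzU, hC.closure_subset_iff.2 (hUC ▸ Set.inter_subset_right) h.1⟩)⟩,
        fun h => ⟨h.1, fun hz => h.2 (hUC ▸ hz : z ∈ U ∩ C).1⟩⟩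
    rw [this]
    exact isClosed_closure.inter hU.isClosed_compl
  have hne : (closure O \ O).Nonempty := by
    rw [Set.nonempty_iff_ne_empty]
    intro h
    refine hcl ?_
    rw [← closure_subset_iff_isClosed]
    exact fun z hz => by_contra fun hz' => h.le ⟨hz, hz'⟩
  obtain ⟨z, hz, hzc⟩ := nonempty_inter_closedPoints hne hB.isLocallyClosed
  obtain ⟨y, rfl⟩ := Groth.Agent.AlgGrp79.ptVal_eq z hzc
  have hsub : Set.range (a.orbitMap y).left ⊆ closure O \ O := by
    refine Groth.Agent.AlgGrp79.range_subset_of_pts _ hB fun σ => ?_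
    have he : σ ≫ a.orbitMap y = y ≫ (Groth.Agent.Var76.ActTrans.xTrans a σ).hom := by
      rw [Groth.Agent.Var76.ActTrans.comp_xTrans, Groth.Agent.Var76.ActTrans.comp_orbit,
        toUnit_unique (toUnit (𝟙_ (Over (Spec (CommRingCat.of k))))) (𝟙 _), Category.id_comp, Category.id_comp]
    rw [he]
    let H : X.left ≃ₜ X.left := ((Over.forget _).mapIso (Groth.Agent.Var76.ActTrans.xTrans a σ)).hom.homeomorph
    have hR : H '' O = O := by
      rw [hOdef, ← Set.range_comp]
      have hc : (H ∘ α.left : G.left → X.left) = α.left ∘ (Groth.Agent.Var76.ActTrans.lTrans σ).hom.left := funext fun g =>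
        (congr(($(Groth.Agent.AlgGrp79.lTrans_comp_equivariant a α (Groth.Agent.AlgGrp79.orbitMap_equivariant a x) σ)).left g)).symm
      rw [hc, Function.Surjective.range_comp]
      exact ((Over.forget _).mapIso (Groth.Agent.Var76.ActTrans.lTrans σ)).hom.homeomorph.surjective
    have hR' : H '' (closure O \ O) = closure O \ O := by
      rw [Set.image_diff H.injective, H.image_closure, hR]
    exact hR'.le ⟨_, hz, rfl⟩
  obtain ⟨d, hd⟩ : ∃ d : ℕ, topologicalKrullDim ↥O = d ∧ 0 < d ∧ ∀ z ∈ closure O \ O, Groth.Agent.WC97.tdegN X.hom z < d := by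
    classical
    have hO : IsLocallyClosed O := ⟨U, C, hU, hC, hUC⟩
    have hbdd : BddAbove ((fun y => Groth.Agent.WC97.tdegN X.hom y) '' O) := by
      obtain ⟨x₀, -, hx₀⟩ := @Groth.Agent.Var76.FibreBound.exists_tdegN_eq_dim k _ X.left X.hom _ ⟨(y.left (IsLocalRing.closedPoint k))⟩ _
      refine ⟨Groth.Agent.WC97.tdegN X.hom x₀, ?_⟩
      rintro _ ⟨w, -, rfl⟩
      have := (Groth.Agent.Var76.FibreBound.tdegN_le_dim X.hom w).trans hx₀.le
      exact_mod_cast this
    have hne : O.Nonempty := ⟨_, ⟨(η[G]).left (IsLocalRing.closedPoint k), rfl⟩⟩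
    obtain ⟨ep, hep, hd⟩ := Nat.sSup_mem (hne.image (fun y => Groth.Agent.WC97.tdegN X.hom y)) hbdd
    simp only at hd
    have hlt : ∀ w ∈ closure O \ O, Groth.Agent.WC97.tdegN X.hom w < Groth.Agent.WC97.tdegN X.hom ep := by
      rintro w ⟨hw, hw'⟩
      obtain ⟨e', he', hew⟩ := Groth.Agent.AlgGrp79.closure_range_orbit α.left hw
      refine (Groth.Agent.Var76.FibreBound.tdegN_lt X.hom hew fun h => hw' (h ▸ he')).trans_le ?_
      rw [hd]
      exact le_csSup hbdd ⟨e', he', rfl⟩
    refine ⟨Groth.Agent.WC97.tdegN X.hom ep, le_antisymm ?_ (Groth.Agent.AlgGrp79.tdegN_le_dim_of_locallyClosed X.hom hO hep),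
      (Nat.zero_le _).trans_lt (hlt _ hz), hlt⟩
    refine (Groth.Agent.TopDim50.dim_mono subset_closure).trans (Groth.Agent.Var76.FibreBound.dim_le_of_forall X.hom isClosed_closure fun w hw => ?_)
    obtain ⟨e', he', hew⟩ := Groth.Agent.AlgGrp79.closure_range_orbit α.left hw
    rw [hd]
    exact Nat.cast_le.2 ((Groth.Agent.Var76.FibreBound.tdegN_le X.hom hew).trans (le_csSup hbdd ⟨e', he', rfl⟩))
  obtain ⟨hdim, hpos, hlt⟩ := hd
  have h1 : topologicalKrullDim ↥(Set.range (a.orbitMap y).left) ≤ ((d - 1 : ℕ) : WithBot ℕ∞) :=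
    (Groth.Agent.TopDim50.dim_mono hsub).trans (Groth.Agent.Var76.FibreBound.dim_le_of_forall X.hom hB fun w hw =>
      Nat.cast_le.2 (Nat.le_sub_one_of_lt (hlt w hw)))
  have h2 := (hmin y).trans h1
  rw [show topologicalKrullDim ↥(Set.range (a.orbitMap x).left.base) = _ from hdim] at h2
  have h3 : d ≤ d - 1 := by exact_mod_cast h2
  omega

end Groth.Agent.S19519
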