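import Groth.Statements.S19522
import Mathlib.Algebra.Polynomial.AlgebraMap
import Mathlib.Algebra.Polynomial.Monomial

set_option autoImplicit false
universe u
open TensorProduct
open GLin

namespace Groth.Agent.S19522

/-- Let k be a field, A a commutative k-bialgebra coacting multiplicatively on a commutative k-algebra
R, and χ ∈ A a group-like element with an inverse χ' (χχ' = 1). Suppose the polynomial ring R[t]
carries a multiplicative coaction which restricts to the given one on constants and sends t to t ⊗
χ'. Then g ∈ R[t] is coinvariant if and only if, for every r, its r-th coefficient has coaction g_r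
↦ g_r ⊗ χ^r; that is, the ring of invariants of R[t] is the sum over r ≥ 0 of the weight-χ^r
semi-invariants of R times t^r. (The published statement is phrased for an affine variety with an
action of a linear algebraic group over an algebraically closed field of characteristic zero and
identifies the invariants of X × A¹ with the graded ring of invariant sections of the powers of the
linearised trivial bundle; this is its coordinate-ring content, valid over any field.) -/
theorem result (k : Type u) [Field k]
    (A : Type u) [CommRing A] [Bialgebra k A]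
    (R : Type u) [CommRing R] [Algebra k R] [HopfRep.Comod k A R] [GLin.IsCoactAlg k A R]
    [HopfRep.Comod k A (Polynomial R)] [GLin.IsCoactAlg k A (Polynomial R)]
    (χ χ' : A) (hχ : CoalgebraStruct.comul (R := k) (A := A) χ = χ ⊗ₜ[k] χ)
    (hχε : CoalgebraStruct.counit (R := k) (A := A) χ = 1) (hχχ' : χ * χ' = 1)
    (hC : ∀ r : R, HopfRep.Comod.coact (k := k) (A := A) (Polynomial.C r) =
      Algebra.TensorProduct.map (Polynomial.CAlgHom : R →ₐ[k] Polynomial R) (AlgHom.id k A)
        (HopfRep.Comod.coact (k := k) (A := A) r))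
    (hX : HopfRep.Comod.coact (k := k) (A := A) (Polynomial.X : Polynomial R) = Polynomial.X ⊗ₜ[k] χ')
    (g : Polynomial R) :
    g ∈ GLin.invariants k A (Polynomial R) ↔
      ∀ r : ℕ, g.coeff r ∈ HopfRep.eigenspace k A R (χ ^ r) := by
  let mC : R ⊗[k] A →ₐ[k] Polynomial R ⊗[k] A :=
    Algebra.TensorProduct.map (Polynomial.CAlgHom : R →ₐ[k] Polynomial R) (AlgHom.id k A)
  let cf : ℕ → Polynomial R ⊗[k] A →ₗ[k] R ⊗[k] A := fun r =>
    ((Polynomial.lcoeff R r).restrictScalars k).rTensor A
  have hmono : ∀ (n : ℕ) (a : R), HopfRep.Comod.coact (k := k) (A := A) (Polynomial.monomial n a) =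
      mC (HopfRep.Comod.coact (k := k) (A := A) a) * (((Polynomial.X : Polynomial R) ^ n) ⊗ₜ[k] (χ' ^ n)) := by
    intro n a
    rw [← Polynomial.C_mul_X_pow_eq_monomial, GLin.IsCoactAlg.coact_mul, hC]
    congr 1
    have hp := map_pow (GLin.coactAlgHom k A (Polynomial R)) Polynomial.X n
    simp only [GLin.coactAlgHom_apply] at hp
    rw [hp, hX, Algebra.TensorProduct.tmul_pow]
  have hcf : ∀ (r n : ℕ) (z : R ⊗[k] A) (c : A), cf r (mC z * (((Polynomial.X : Polynomial R) ^ n) ⊗ₜ[k] c)) =
      if n = r then z * ((1 : R) ⊗ₜ[k] c) else 0 := by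
    intro r n z c
    induction z using TensorProduct.induction_on with
    | zero => simp
    | add y z hy hz => simp only [map_add, add_mul, hy, hz]; split_ifs <;> simp
    | tmul x a =>
      simp only [mC, cf, Algebra.TensorProduct.map_tmul, Algebra.TensorProduct.tmul_mul_tmul,
        AlgHom.id_apply, LinearMap.rTensor_tmul]
      split_ifs with h
      · subst h; simp [Polynomial.coeff_C_mul]
      · simp [Polynomial.coeff_C_mul, Polynomial.coeff_X_pow, Ne.symm h]
  have hpow : ∀ r : ℕ, χ ^ r * χ' ^ r = 1 := fun r => by rw [← mul_pow, hχχ', one_pow]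
  have hkey : ∀ r, cf r (HopfRep.Comod.coact (k := k) (A := A) g) =
      HopfRep.Comod.coact (k := k) (A := A) (g.coeff r) * ((1 : R) ⊗ₜ[k] (χ' ^ r)) := by
    intro r
    induction g using Polynomial.induction_on' with
    | add p q hp hq => simp only [map_add, Polynomial.coeff_add, hp, hq, add_mul]
    | monomial n a =>
      rw [hmono, hcf, Polynomial.coeff_monomial]
      split_ifs with h
      · rw [h]
      · simp
  rw [GLin.mem_invariants_iff]
  constructor
  · intro hg r
    have h := congrArg (fun z => z * ((1 : R) ⊗ₜ[k] (χ ^ r))) ((congrArg (cf r) hg).symm.trans (hkey r))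
    simp only [mul_assoc, Algebra.TensorProduct.tmul_mul_tmul, one_mul, mul_comm (χ' ^ r), hpow,
      ← Algebra.TensorProduct.one_def, mul_one, cf, LinearMap.rTensor_tmul] at h
    exact h.symm
  · intro h
    conv_lhs => rw [g.as_sum_support]
    conv_rhs => rw [g.as_sum_support]
    rw [map_sum, TensorProduct.sum_tmul]
    refine Finset.sum_congr rfl fun r _ => ?_
    rw [hmono, show HopfRep.Comod.coact (k := k) (A := A) (g.coeff r) = g.coeff r ⊗ₜ[k] (χ ^ r) from h r]
    simp only [mC, Algebra.TensorProduct.map_tmul, AlgHom.id_apply, Algebra.TensorProduct.tmul_mul_tmul, hpow]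
    exact congrArg (· ⊗ₜ[k] (1 : A)) Polynomial.C_mul_X_pow_eq_monomial

end Groth.Agent.S19522
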