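import Groth.Statements.S19523
import Groth.Agent.AlgGrp79.Homogeneous
import Groth.Agent.AlgGrp79.RatDense
import Groth.Agent.AlgGrp79.DiscreteAct
import Groth.Agent.AlgGrp79.SmoothDescent

set_option autoImplicit false
universe u
open CategoryTheory MonoidalCategory CartesianMonoidalCategory MonObj GrpObj AlgebraicGeometry
open AlgGrp

namespace Groth.Agent.S19523
open Groth.Agent.AlgGrp79 CategoryTheory.Limits
open scoped commutatorElement

/-- Let k be a field, G a smooth k-group scheme of finite type acting on a k-scheme X of finite type,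
and x a rational point of X. The orbit of x, the image of the orbit map G → X, is locally closed
(not restated here); if i : O → X is an immersion from a reduced scheme whose image is exactly the
orbit — the orbit with its reduced induced structure — then O is smooth over k. -/
theorem result (k : Type u) [Field k]
    (G X : Over (Spec (CommRingCat.of k))) [GrpObj G] [Smooth G.hom] [QuasiCompact G.hom]
    [LocallyOfFiniteType X.hom] [QuasiCompact X.hom] (a : AlgGrp.Action G X)
    (x : 𝟙_ (Over (Spec (CommRingCat.of k))) ⟶ X)
    (O : Scheme.{u}) (i : O ⟶ X.left) [IsImmersion i] [IsReduced O]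
    (hO : Set.range i.base = Set.range (a.orbitMap x).left.base) : Smooth (i ≫ X.hom) := by
  let α := a.orbitMap x
  let O' : Over (Spec (CommRingCat.of k)) := Over.mk (i ≫ X.hom)
  let j : O' ⟶ X := Over.homMk i rfl
  have : IsImmersion j.left := ‹IsImmersion i›
  have : IsReduced O'.left := ‹IsReduced O›
  have : Mono j := Over.mono_of_mono_left j
  have : LocallyOfFiniteType O'.hom := inferInstanceAs (LocallyOfFiniteType (i ≫ X.hom))
  have := Var76.FibreBound.noetherianSpace X.hom
  have : IsLocallyNoetherian X.left := LocallyOfFiniteType.isLocallyNoetherian X.hom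
  have : CompactSpace O'.left := by
    have : TopologicalSpace.NoetherianSpace O'.left := j.left.isEmbedding.isInducing.noetherianSpace
    infer_instance
  have : QuasiCompact O'.hom := (quasiCompact_iff_compactSpace O'.hom).2 inferInstance
  have : GeometricallyReduced G.hom := geometricallyReduced_of_smooth' G.hom
  have : IsReduced G.left := isReduced_of_smooth G.hom
  have hr : Set.range α.left ⊆ Set.range j.left := by rw [show Set.range j.left = Set.range α.left from hO]
  obtain ⟨β, hβ⟩ := exists_lift_immersion j α hr
  have hG : IsReduced (G ⊗ O').left := FBase64.isReduced_pullback_of_geometricallyReduced G.hom O'.hom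
  have hr2 : Set.range ((G ◁ j) ≫ a.act).left ⊆ Set.range j.left := by
    rintro _ ⟨z, rfl⟩
    obtain ⟨g0, hg0⟩ : (j.left ((snd G O').left z)) ∈ Set.range α.left := hO ▸ ⟨_, rfl⟩
    obtain ⟨z', hz1, hz2⟩ := exists_preimage_of_isPullback
      (isPullback_left (whiskerLeft_isPullback G α).flip) g0 ((G ◁ j).left z) (by
        rw [hg0, ← Scheme.Hom.comp_apply, ← Scheme.Hom.comp_apply, ← Over.comp_left, ← Over.comp_left, whiskerLeft_snd])
    rw [show Set.range j.left = Set.range α.left from hO]
    refine ⟨(μ[G]).left z', ?_⟩
    rw [Over.comp_left, Scheme.Hom.comp_apply, ← hz2, ← Scheme.Hom.comp_apply, ← Scheme.Hom.comp_apply,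
      ← Over.comp_left, ← Over.comp_left, orbitMap_equivariant a x]
  obtain ⟨act', hact'⟩ := exists_lift_immersion j ((G ◁ j) ≫ a.act) hr2
  let b : AlgGrp.Action G O' :=
    { act := act'
      one_act := by
        rw [← cancel_mono j, Category.assoc, hact', ← whisker_exchange_assoc, a.one_act, leftUnitor_hom_comp_aux j]
      mul_act := by
        rw [← cancel_mono j]
        simp only [Category.assoc, hact']
        rw [← whisker_exchange_assoc, a.mul_act, ← MonoidalCategory.whiskerLeft_comp_assoc, hact',
          MonoidalCategory.whiskerLeft_comp_assoc, ← MonoidalCategory.associator_naturality_right_assoc] }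
  let bG : AlgGrp.Action G G :=
    { act := μ[G]
      one_act := MonObj.one_mul G
      mul_act := MonObj.mul_assoc G }
  have hequiv : (G ◁ β) ≫ b.act = bG.act ≫ β := by
    rw [← cancel_mono j, Category.assoc, Category.assoc, hβ]
    show (G ◁ β) ≫ act' ≫ j = _
    rw [hact', ← MonoidalCategory.whiskerLeft_comp_assoc, hβ, orbitMap_equivariant]
  have : IsLocallyNoetherian O'.left := LocallyOfFiniteType.isLocallyNoetherian O'.hom
  have : QuasiSeparated O'.hom := (quasiSeparated_iff_quasiSeparatedSpace _).2 inferInstance
  have : Nonempty G.left := ⟨(η[G]).left (IsLocalRing.closedPoint k)⟩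
  obtain ⟨hflat, hsurj⟩ := flat_surjective_of_transitive (K := AlgebraicClosure k) bG b β hequiv (fun y y' => by
    have hsur : Surjective β.left := ⟨fun y => by
      obtain ⟨g, hg⟩ : j.left y ∈ Set.range α.left := hO ▸ ⟨y, rfl⟩
      refine ⟨g, j.left.isEmbedding.injective ?_⟩
      rw [← Scheme.Hom.comp_apply, ← Over.comp_left, hβ, hg]⟩
    obtain ⟨g1, hg1⟩ := exists_pt_lift β y
    obtain ⟨g2, hg2⟩ := exists_pt_lift β y'
    refine ⟨g2 * g1⁻¹, ?_⟩
    rw [← hg1, ← lift_whiskerLeft_assoc, hequiv, ← Category.assoc]
    show (lift (g2 * g1⁻¹) g1 ≫ μ[G]) ≫ β = y'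
    rw [← Hom.mul_def, inv_mul_cancel_right, hg2])
  have : LocallyOfFiniteType (i ≫ X.hom) := ‹LocallyOfFiniteType O'.hom›
  have : QuasiCompact (i ≫ X.hom) := ‹QuasiCompact O'.hom›
  have : Smooth (β.left ≫ i ≫ X.hom) := by
    rw [show β.left ≫ i ≫ X.hom = G.hom from Over.w β]; infer_instance
  exact smooth_of_flat_surjective β.left (i ≫ X.hom)
end Groth.Agent.S19523
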