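import Groth.Statements.S19534
import Groth.Agent.ASB64.Isotypical
import Groth.Agent.ASB64.GlobalConst
import Groth.Agent.Props58.LocFree.Criteria

set_option autoImplicit false
universe u
open CategoryTheory CategoryTheory.Limits AlgebraicGeometry
open ASBun

namespace Groth.Agent.S19534

open W4c1astiltbs12 in
/-- Let X be a proper, geometrically integral scheme over a field k, K an algebraic closure of k with
projection π : X_K → X, and E a nonzero finite locally free O_X-module which is absolutely
rank-one-isotypical: π^*E ≅ L^{⊕r} for some invertible O_{X_K}-module L and some natural number r.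
Then the endomorphism ring of E (multiplication = composition) is a simple ring. (The published
statement says that this ring is a central simple algebra over k; centrality over k and
finite-dimensionality are not stated here, only simplicity as a ring. Non-vanishing of E is part of
the definition of rank-one-isotypical there, the direct sum having at least one summand.) -/
theorem result (k : Type u) [Field k]
    {X : Scheme.{u}} (p : X ⟶ Spec (CommRingCat.of k)) [IsProper p] [GeometricallyIntegral p]
    (K : Type u) [Field K] [Algebra k K] [IsAlgClosure k K]
    (E : X.Modules) (hE : FlatMod.IsFinLocFree E) (hE0 : ¬ IsZero E)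
    (L : (W4bk4gw11416.baseChange p K).Modules) (hL : PicF.IsInvertible L) (r : ℕ)
    (e : Nonempty (bcMod p K E ≅ pow L r)) :
    IsSimpleRing (CategoryTheory.End E) := by
  letI : X.Over (Spec (CommRingCat.of k)) := ⟨p⟩
  haveI : IsProper (X ↘ Spec (CommRingCat.of k)) := ‹IsProper p›
  haveI : AlgebraicGeometry.IsIntegral (W4bk4gw11416.baseChange p K) :=
    GeometricallyIntegral.geometrically_isIntegral _ _ _ (.of_hasPullback _ _)
  have hcoh : Coh.IsCoh E := ⟨Groth.Agent.Props58.LocFree.isQuasicoherent_of_isFinLocFree hE,
    Groth.Agent.Props58.LocFree.isFiniteType_of_isFinLocFree hE⟩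
  haveI : IsProper (pullback.snd p (Spec.map (CommRingCat.ofHom (algebraMap k K)))) :=
    inferInstanceAs (IsProper (Groth.Agent.FF71.bc k X K ↘ Spec (CommRingCat.of K)))
  haveI : IsAlgClosed K := IsAlgClosure.isAlgClosed k
  exact (Groth.Agent.ASB64.csa_end (K := K) hcoh
    (Groth.Agent.ASB64.bijective_toGlobal (pullback.snd p (Spec.map (CommRingCat.ofHom (algebraMap k K))))) hL e.some hE0).2.1

end Groth.Agent.S19534
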