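import Groth.Statements.S19537
import Groth.Agent.FTors27.TKappa
import Groth.Agent.FTors27.DerKappa
import Groth.Agent.S3854
-- import your own Groth.Agent.* helpers here

set_option autoImplicit false
open CategoryTheory CategoryTheory.Limits AlgebraicGeometry
universe u
attribute [local instance] HasDerivedCategory.standard
open FTors

namespace Groth.Agent.S19537

/-- Let X be a locally Noetherian scheme, 𝓘 a quasi-coherent ideal of O_X with closed subset Z, X̂ the
completion of X along 𝓘 and κ : X̂ ⟶ X the completion morphism of ringed spaces, with κ^* exact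
(assumed) and the derived direct image Rκ_* existing on unbounded derived categories. Write D_Z(X)
for the complexes of O_X-modules whose cohomology sheaves are 𝓘-power torsion and D_qcZ(X) for those
whose cohomology sheaves are moreover quasi-coherent; write D_t(X̂) for the complexes of
O_X̂-modules whose cohomology sheaves are torsion and D_qct(X̂) for those whose cohomology sheaves
are quasi-coherent torsion modules. Then κ^* sends D_Z(X) into D_t(X̂); Rκ_* sends D_t(X̂) into
D_Z(X); κ^* sends D_qcZ(X) into D_qct(X̂); Rκ_* sends D_qct(X̂) into D_qcZ(X); and if M ∈ D_qct(X̂)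
has coherent cohomology sheaves, then so does Rκ_*M. (The published statement says moreover that κ^*
and κ_* are inverse isomorphisms between D_Z(X) and D_t(X̂) and between D_qcZ(X) and D_qct(X̂); that
the unit and counit are isomorphisms there is not stated here.) -/
theorem result (X : Scheme.{u}) [IsLocallyNoetherian X]
    (𝓘 : X.IdealSheafData) (hX : (FSch.completionAlong X 𝓘).IsFormal)
    [PreservesFiniteLimits (FSch.toSchemeMor (FSch.completionAlong X 𝓘) hX (FSch.completionToX X 𝓘) (FSch.completionToX_comm X 𝓘)).pull] [SiteCmp.HasRpushD (FSch.toSchemeMor (FSch.completionAlong X 𝓘) hX (FSch.completionToX X 𝓘) (FSch.completionToX_comm X 𝓘))] :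
    (∀ F : DerivedCategory (ModSite.Mod X.sheaf), FTors.IsDTorsZp X 𝓘 F →
      FTors.IsDTorsF (FSch.completionAlong X 𝓘) hX ((SiteCmp.pullD (FSch.toSchemeMor (FSch.completionAlong X 𝓘) hX (FSch.completionToX X 𝓘) (FSch.completionToX_comm X 𝓘))).obj F)) ∧
    (∀ G : DerivedCategory (FSch.ModF (FSch.completionAlong X 𝓘) hX), FTors.IsDTorsF (FSch.completionAlong X 𝓘) hX G →
      FTors.IsDTorsZp X 𝓘 ((SiteCmp.RpushD (FSch.toSchemeMor (FSch.completionAlong X 𝓘) hX (FSch.completionToX X 𝓘) (FSch.completionToX_comm X 𝓘))).obj G)) ∧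
    (∀ F : DerivedCategory (ModSite.Mod X.sheaf), FTors.IsDTorsZp X 𝓘 F →
      (∀ i : ℤ, SheafOfModules.IsQuasicoherent.{u} (SiteCmp.HMod F i)) →
      FTors.IsDQCT (FSch.completionAlong X 𝓘) hX ((SiteCmp.pullD (FSch.toSchemeMor (FSch.completionAlong X 𝓘) hX (FSch.completionToX X 𝓘) (FSch.completionToX_comm X 𝓘))).obj F)) ∧
    (∀ G : DerivedCategory (FSch.ModF (FSch.completionAlong X 𝓘) hX), FTors.IsDQCT (FSch.completionAlong X 𝓘) hX G →
      FTors.IsDTorsZp X 𝓘 ((SiteCmp.RpushD (FSch.toSchemeMor (FSch.completionAlong X 𝓘) hX (FSch.completionToX X 𝓘) (FSch.completionToX_comm X 𝓘))).obj G) ∧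
        ∀ i : ℤ, SheafOfModules.IsQuasicoherent.{u} (SiteCmp.HMod ((SiteCmp.RpushD (FSch.toSchemeMor (FSch.completionAlong X 𝓘) hX (FSch.completionToX X 𝓘) (FSch.completionToX_comm X 𝓘))).obj G) i)) ∧
    (∀ G : DerivedCategory (FSch.ModF (FSch.completionAlong X 𝓘) hX), FTors.IsDQCT (FSch.completionAlong X 𝓘) hX G →
      (∀ i : ℤ, FSch.IsCohF (FSch.completionAlong X 𝓘) hX (SiteCmp.HMod G i)) →
      ∀ i : ℤ, Coh.IsCoh (SiteCmp.HMod ((SiteCmp.RpushD (FSch.toSchemeMor (FSch.completionAlong X 𝓘) hX (FSch.completionToX X 𝓘) (FSch.completionToX_comm X 𝓘))).obj G) i)) := by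
  haveI : ∀ n, IsClosedImmersion (FSch.completionToX X 𝓘 n) := fun n =>
    inferInstanceAs (IsClosedImmersion (𝓘 ^ (n + 1)).subschemeι)
  have h𝔛 := S3854.result X 𝓘
  let p := FSch.completionToX X 𝓘
  have hp := FSch.completionToX_comm X 𝓘
  have hker : ∀ n, (p n).ker = 𝓘 ^ (n + 1) := fun n => Scheme.IdealSheafData.ker_subschemeι _
  let f := FSch.toSchemeMor (FSch.completionAlong X 𝓘) hX p hp
  haveI : PreservesFiniteColimits f.push := FTors27.preservesFiniteColimits_κ hX p hp
  obtain ⟨e⟩ := FTors27.nonempty_rpushD_iso f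
  have key : ∀ G (i : ℤ), Nonempty (f.push.obj (SiteCmp.HMod G i) ≅ SiteCmp.HMod ((SiteCmp.RpushD f).obj G) i) :=
    fun G i => by
      obtain ⟨e'⟩ := FTors27.nonempty_homology_map_iso f.push G i
      exact ⟨((DerivedCategory.homologyFunctor _ i).mapIso (e.app G) ≪≫ e').symm⟩
  refine ⟨FTors27.pullD_torsion hX p hp 𝓘 hker, FTors27.rpushD_torsion hX p hp 𝓘 hker,
    fun F hF hq i => ?_, fun G hG => ⟨FTors27.rpushD_torsion hX p hp 𝓘 hker G fun i => (hG i).1, fun i => ?_⟩,
    fun G hG hc i => ?_⟩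
  · obtain ⟨e'⟩ := FTors27.nonempty_homology_map_iso f.pull F i
    have h0 := FTors27.isQCT_pull h𝔛 p hp 𝓘 hker (hF i) (hq i)
    exact ⟨FTors27.isTors_of_iso _ e'.symm h0.1,
      (SheafOfModules.isQuasicoherent.{u} (R := ModSite.ringSh _)).prop_of_iso e'.symm h0.2⟩
  · obtain ⟨e'⟩ := key G i
    exact (SheafOfModules.isQuasicoherent.{u} (R := ModSite.ringSh _)).prop_of_iso e'
      (FTors27.isQuasicoherent_push h𝔛 p hp (hG i))
  · obtain ⟨e'⟩ := key G i
    obtain ⟨hq, hft⟩ := FTors27.isCoh_push h𝔛 p hp 𝓘 hker (hG i) (hc i)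
    haveI := hft
    exact ⟨(SheafOfModules.isQuasicoherent.{u} (R := ModSite.ringSh _)).prop_of_iso e' hq,
      FCompl13.isFiniteType_of_epi' e'.hom⟩

end Groth.Agent.S19537
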