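import Groth.Statements.S19540
import Mathlib.Algebra.Homology.ShortComplex.Ab
import Mathlib.CategoryTheory.Sites.EpiMono

set_option autoImplicit false
open CategoryTheory CategoryTheory.Limits Opposite
universe w v u
open CohSite

namespace Groth.Agent.S19540

lemma isLocallySurjective_of_epi {C : Type u} [Category.{v} C] {J : GrothendieckTopology C}
    [HasSheafify J AddCommGrpCat.{w}] [J.WEqualsLocallyBijective AddCommGrpCat.{w}]
    {F G : Sheaf J AddCommGrpCat.{w}} (φ : F ⟶ G) [Epi φ] : Sheaf.IsLocallySurjective φ where
  imageSieve_mem {V} s := by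
    let q := cokernel.π φ.hom
    let η : G ⟶ (presheafToSheaf J AddCommGrpCat.{w}).obj (cokernel φ.hom) :=
      ObjectProperty.homMk (q ≫ toSheafify J (cokernel φ.hom))
    have h : φ ≫ η = φ ≫ 0 := by
      ext : 1
      change φ.hom ≫ q ≫ toSheafify J (cokernel φ.hom) = φ.hom ≫ 0
      rw [cokernel.condition_assoc, zero_comp, comp_zero]
    have hη : q ≫ toSheafify J (cokernel φ.hom) = 0 :=
      congrArg InducedCategory.Hom.hom ((cancel_epi φ).1 h)
    have := ((J.W_iff_isLocallyBijective _).1 (J.W_toSheafify (cokernel φ.hom))).1
    have hq : (toSheafify J (cokernel φ.hom)).app (op V) (q.app (op V) s) =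
        (toSheafify J (cokernel φ.hom)).app (op V) 0 :=
      (ConcreteCategory.congr_hom (NatTrans.congr_app hη (op V)) s).trans (map_zero _).symm
    refine J.superset_covering (fun W g hg => ?_)
      (Presheaf.equalizerSieve_mem J (toSheafify J (cokernel φ.hom)) _ _ hq)
    have hz : q.app (op W) (G.obj.map g.op s) = 0 :=
      (NatTrans.naturality_apply q g.op s).trans (hg.trans (map_zero _))
    have hE : ((ShortComplex.mk φ.hom q (cokernel.condition _)).map
        ((evaluation Cᵒᵖ AddCommGrpCat.{w}).obj (op W))).Exact :=
      (ShortComplex.exact_of_g_is_cokernel _ (cokernelIsCokernel _)).map _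
    obtain ⟨x, hx⟩ := (ShortComplex.ab_exact_iff _).1 hE _ hz
    exact ⟨x, hx⟩

/-- Let (C, J) be a site and B a class of objects of C, each weakly contractible (every epimorphism of
sheaves of sets, valued in a fixed universe, is surjective on sections over it), such that every
object V of C has a covering sieve all of whose arrows factor through some object of B. Then a
three-term complex F ⟶ G ⟶ H of abelian sheaves on (C, J) is exact if and only if for every U in B
the sequence of section groups F(U) ⟶ G(U) ⟶ H(U) is exact. (The published statement is for sheaves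
of modules over a sheaf of rings O; this row is the case of the constant sheaf of rings ℤ, i.e.
abelian sheaves, to which exactness questions for O-modules reduce. The universe set-up assumes that
abelian sheafification exists and inverts exactly the locally bijective maps, as on any small site.) -/
theorem result
    {C : Type u} [Category.{v} C] (J : GrothendieckTopology C) [HasSheafify J AddCommGrpCat.{w}]
    [J.WEqualsLocallyBijective AddCommGrpCat.{w}]
    (B : C → Prop)
    (hB : ∀ U : C, B U → ∀ (P Q : Sheaf J (Type w)) (ψ : P ⟶ Q), Epi ψ → Function.Surjective (ψ.hom.app (op U)))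
    (hcov : ∀ V : C, ∃ S : Sieve V, S ∈ J V ∧ ∀ ⦃W : C⦄ (f : W ⟶ V), S.arrows f →
      ∃ (U : C) (g : W ⟶ U) (h : U ⟶ V), B U ∧ g ≫ h = f)
    (S : ShortComplex (Sheaf J AddCommGrpCat.{w})) :
    S.Exact ↔ ∀ U : C, B U →
      (S.map (sheafToPresheaf J AddCommGrpCat.{w} ⋙ (evaluation Cᵒᵖ AddCommGrpCat.{w}).obj (op U))).Exact := by
  constructor
  · intro hS U hU
    rw [ShortComplex.ab_exact_iff]
    intro y hy
    have : Epi (kernel.lift S.g S.f S.zero) := (S.exact_iff_epi_kernel_lift).1 hS
    have : Sheaf.IsLocallySurjective (kernel.lift S.g S.f S.zero) :=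
      isLocallySurjective_of_epi _
    have hK : ((ShortComplex.mk (kernel.ι S.g) S.g (kernel.condition _)).map
        (sheafToPresheaf J AddCommGrpCat.{w} ⋙ (evaluation Cᵒᵖ AddCommGrpCat.{w}).obj (op U))).Exact :=
      (ShortComplex.exact_of_f_is_kernel _ (kernelIsKernel _)).map_of_mono_of_preservesKernel _
        inferInstance inferInstance
    obtain ⟨z, rfl⟩ := (ShortComplex.ab_exact_iff _).1 hK y hy
    have : Sheaf.IsLocallySurjective ((sheafCompose J (forget AddCommGrpCat.{w})).map
        (kernel.lift S.g S.f S.zero)) :=
      (Presheaf.isLocallySurjective_iff_whisker_forget J (kernel.lift S.g S.f S.zero).hom).1 ‹_›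
    obtain ⟨x, hx⟩ := hB U hU _ _ ((sheafCompose J (forget AddCommGrpCat.{w})).map
      (kernel.lift S.g S.f S.zero)) inferInstance z
    refine ⟨x, ?_⟩
    have h := ConcreteCategory.congr_hom
      (NatTrans.congr_app (congrArg InducedCategory.Hom.hom (kernel.lift_ι S.g S.f S.zero)) (op U)) x
    exact h.symm.trans (congrArg ((kernel.ι S.g).hom.app (op U)) hx)
  · intro h
    rw [S.exact_iff_epi_kernel_lift]
    have : Sheaf.IsLocallySurjective (kernel.lift S.g S.f S.zero) := by
      constructor
      intro V s
      obtain ⟨R, hR, hRB⟩ := hcov V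
      refine J.superset_covering (fun W g hg => ?_) hR
      obtain ⟨U, a, b, hU, rfl⟩ := hRB g hg
      let y := (kernel.ι S.g).hom.app (op U) ((kernel S.g).obj.map b.op s)
      have hy : S.g.hom.app (op U) y = 0 := ConcreteCategory.congr_hom
        (NatTrans.congr_app (congrArg InducedCategory.Hom.hom (kernel.condition S.g)) (op U)) _
      obtain ⟨x, hx⟩ := (ShortComplex.ab_exact_iff _).1 (h U hU) y hy
      have hinj : Function.Injective ((kernel.ι S.g).hom.app (op U)) := by
        have : Mono ((sheafToPresheaf J AddCommGrpCat.{w} ⋙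
            (evaluation Cᵒᵖ AddCommGrpCat.{w}).obj (op U)).map (kernel.ι S.g)) := inferInstance
        exact (AddCommGrpCat.mono_iff_injective _).1 this
      have hx' : (kernel.lift S.g S.f S.zero).hom.app (op U) x = (kernel S.g).obj.map b.op s :=
        hinj ((ConcreteCategory.congr_hom (NatTrans.congr_app
          (congrArg InducedCategory.Hom.hom (kernel.lift_ι S.g S.f S.zero)) (op U)) x).trans hx)
      refine ⟨S.X₁.obj.map a.op x, ?_⟩
      refine (NatTrans.naturality_apply (kernel.lift S.g S.f S.zero).hom a.op x).trans ?_
      refine (congrArg ((kernel S.g).obj.map a.op) hx').trans ?_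
      exact (ConcreteCategory.congr_hom ((kernel S.g).obj.map_comp b.op a.op) s).symm
    infer_instance

end Groth.Agent.S19540
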