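import Groth.Statements.S19541
import Groth.Agent.Curves2.CurveMaps
import Groth.Agent.Unr55.EtStalk
import Mathlib.RingTheory.Jacobson.Ring
import Mathlib.RingTheory.Smooth.Fiber

set_option autoImplicit false
universe u
open CategoryTheory CategoryTheory.Limits AlgebraicGeometry TopologicalSpace
open Curves

namespace Groth.Agent.S19541

/-- Pointwise criterion for a map of smooth curves to be étale: let k be an algebraically closed field,
X and Y integral schemes each smooth, separated and quasi-compact over Spec k and of dimension one,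
φ : X → Y a morphism over k and x a closed point of X. Then φ is étale at x (the restriction of φ to
some open neighbourhood of x is étale) if and only if the induced homomorphism of stalks O_{Y,φ(x)}
→ O_{X,x} carries the maximal ideal of the discrete valuation ring O_{Y,φ(x)} to an ideal generating
the maximal ideal of O_{X,x}; equivalently a uniformiser at φ(x) pulls back to a uniformiser at x.
(The published statement is for smooth curves, which are in addition geometrically connected;
integrality is what is used. For a constant φ both sides fail.) -/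
theorem result (k : Type u) [Field k] [IsAlgClosed k] {X Y : Scheme.{u}}
    (pX : X ⟶ Spec (CommRingCat.of k)) (pY : Y ⟶ Spec (CommRingCat.of k)) (φ : X ⟶ Y) (w : φ ≫ pY = pX)
    [IsIntegral X] [Smooth pX] [IsSeparated pX] [QuasiCompact pX] (hdX : topologicalKrullDim X = 1)
    [IsIntegral Y] [Smooth pY] [IsSeparated pY] [QuasiCompact pY] (hdY : topologicalKrullDim Y = 1)
    (x : X) (hx : IsClosed ({x} : Set X)) :
    (∃ U : X.Opens, x ∈ U ∧ Etale (U.ι ≫ φ)) ↔
      Ideal.map (φ.stalkMap x).hom (IsLocalRing.maximalIdeal (Y.presheaf.stalk (φ.base x))) =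
        IsLocalRing.maximalIdeal (X.presheaf.stalk x) := by
  have hm : IsLocalRing.maximalIdeal (X.presheaf.stalk x) ≠ ⊥ :=
    Curves2.maximalIdeal_stalk_ne_bot (by rw [hdX]; exact zero_lt_one) x hx
  constructor
  · rintro ⟨U, hxU, hU⟩
    obtain ⟨-, -, h⟩ := Unr55.stalkMap_facts (U.ι ≫ φ) ⟨x, hxU⟩
    have e : (U.ι ≫ φ).stalkMap ⟨x, hxU⟩ = φ.stalkMap x ≫ U.ι.stalkMap ⟨x, hxU⟩ :=
      Scheme.Hom.stalkMap_comp _ _ _
    have : IsIso (U.ι.stalkMap ⟨x, hxU⟩) :=
      (IsOpenImmersion.iff_isIso_stalkMap.mp (inferInstance : IsOpenImmersion U.ι)).2 ⟨x, hxU⟩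
    let i := (asIso (U.ι.stalkMap ⟨x, hxU⟩)).commRingCatIsoToRingEquiv
    refine (Ideal.comap_map_of_bijective (f := i) i.bijective).symm.trans
      ((congrArg (Ideal.comap i) ?_).trans (Ideal.comap_map_of_bijective (f := i) i.bijective))
    have : IsLocalRing (U.toScheme.presheaf.stalk (⟨x, hxU⟩ : U.toScheme)) :=
      U.toScheme.toLocallyRingedSpace.isLocalRing _
    refine Eq.trans ?_ (@IsLocalRing.map_ringEquiv_maximalIdeal _ _ _ _ _ this i).symm
    refine Eq.trans ?_ h
    rw [RingHom.algebraMap_toAlgebra, e]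
    exact Ideal.map_map _ _
  · intro h
    have := Curves2.valuationRing_stalk_of_smooth pY hdY.le (φ x)
    have : IsLocallyNoetherian Y := LocallyOfFiniteType.isLocallyNoetherian pY
    have hinj : Function.Injective (φ.stalkMap x) := by
      show Function.Injective (φ.stalkMap x).hom
      rw [RingHom.injective_iff_ker_eq_bot]
      by_contra hk
      have hprime : (RingHom.ker (φ.stalkMap x).hom).IsPrime := RingHom.ker_isPrime _
      have hd : Ring.KrullDimLE 1 (Y.presheaf.stalk (φ x)) :=
        Ring.krullDimLE_iff.mpr ((FlatMor68.DedekindFlat.stalk_dim_le (φ x)).trans hdY.le)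
      have hmax := IsLocalRing.eq_maximalIdeal
        (Ring.krullDimLE_one_iff_of_noZeroDivisors.mp hd _ hk hprime)
      apply hm
      refine h.symm.trans ((Ideal.map_eq_bot_iff_le_ker _).mpr ?_)
      rw [hmax]
    have hgen := SchBasics.apply_genericPoint_of_stalkMap_injective φ x hinj
    have : Flat φ := Curves2.flat_of_dominant pY hdY.le φ hgen
    have : LocallyOfFiniteType (φ ≫ pY) := w ▸ inferInstance
    have : LocallyOfFiniteType φ := locallyOfFiniteType_of_comp φ pY
    have : LocallyOfFinitePresentation φ := LocallyOfFinitePresentation.iff_locallyOfFiniteType.mpr ‹_›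
    obtain ⟨W, hW, hxW, -⟩ := exists_isAffineOpen_mem_and_subset (U := ⊤) (show φ x ∈ (⊤ : Y.Opens) from trivial)
    obtain ⟨V, hV, hxV, hVW⟩ := exists_isAffineOpen_mem_and_subset (U := φ ⁻¹ᵁ W) (x := x) hxW
    let A := Γ(Y, W); let B := Γ(X, V)
    let : Algebra A B := (φ.appLE W V hVW).hom.toAlgebra
    have : Algebra.FinitePresentation A B := φ.finitePresentation_appLE hW hV hVW
    have : Module.Flat A B := φ.flat_appLE hW hV hVW
    set Q := (hV.primeIdealOf ⟨x, hxV⟩).asIdeal
    set P := (hW.primeIdealOf ⟨φ x, hVW hxV⟩).asIdeal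
    have hQ : Q.IsMaximal := Curves2.isClosed_primeIdealOf hV hxV hx
    have hlies : Q.LiesOver P := ⟨congr($(IsAffineOpen.comap_primeIdealOf_appLE W hW V hV hVW hxV).1).symm⟩
    -- k structures
    let kA : k →+* A := (pY.appLE ⊤ W le_top).hom.comp (Scheme.ΓSpecIso (CommRingCat.of k)).inv.hom
    let : Algebra k A := kA.toAlgebra
    let : Algebra k B := ((φ.appLE W V hVW).hom.comp kA).toAlgebra
    have : IsScalarTower k A B := .of_algebraMap_eq' rfl
    have : Algebra.FiniteType k B := by
      have h2 : ((φ ≫ pY).appLE ⊤ V le_top).hom.FiniteType :=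
        (φ ≫ pY).finiteType_appLE (isAffineOpen_top _) hV le_top
      rw [← Scheme.Hom.appLE_comp_appLE φ pY ⊤ W V le_top hVW] at h2
      exact h2.comp (RingHom.FiniteType.of_surjective _
        (Scheme.ΓSpecIso (CommRingCat.of k)).symm.commRingCatIsoToRingEquiv.surjective)
    let : Field (B ⧸ Q) := Ideal.Quotient.field Q
    have := finite_of_finite_type_of_isJacobsonRing k (B ⧸ Q)
    have : Module.Finite k Q.ResidueField :=
      Module.Finite.of_surjective (IsScalarTower.toAlgHom k (B ⧸ Q) Q.ResidueField).toLinearMap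
        Q.bijective_algebraMap_quotient_residueField.2
    let := Localization.AtPrime.algebraOfLiesOver P Q
    have : Algebra.IsUnramifiedAt A Q := by
      rw [Algebra.isUnramifiedAt_iff_map_eq A P Q]
      refine ⟨Algebra.isSeparable_tower_top_of_isSeparable k P.ResidueField Q.ResidueField, ?_⟩
      let : Algebra B (X.presheaf.stalk x) := TopCat.Presheaf.algebra_section_stalk X.presheaf ⟨x, hxV⟩
      let : Algebra A (Y.presheaf.stalk (φ x)) := TopCat.Presheaf.algebra_section_stalk Y.presheaf ⟨φ x, hVW hxV⟩
      have := hV.isLocalization_stalk ⟨x, hxV⟩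
      have := hW.isLocalization_stalk ⟨φ x, hVW hxV⟩
      let est : X.presheaf.stalk x ≃ₐ[B] Localization.AtPrime Q := IsLocalization.algEquiv Q.primeCompl _ _
      have hP : P.map (algebraMap A (Y.presheaf.stalk (φ x))) = IsLocalRing.maximalIdeal _ :=
        IsLocalization.AtPrime.map_eq_maximalIdeal P (Y.presheaf.stalk (φ x))
      rw [← IsLocalRing.map_ringEquiv_maximalIdeal est.toRingEquiv, ← h, ← hP, Ideal.map_map,
        ← Ideal.map_coe est.toRingEquiv, Ideal.map_map]
      congr 1
      ext a
      show algebraMap A (Localization.AtPrime Q) a = est (φ.stalkMap x (Y.presheaf.germ W (φ x) (hVW hxV) a))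
      rw [show φ.stalkMap x (Y.presheaf.germ W (φ x) (hVW hxV) a) =
          X.presheaf.germ (φ ⁻¹ᵁ W) x (hVW hxV) (φ.app W a) from Scheme.Hom.germ_stalkMap_apply φ W x (hVW hxV) a,
        IsScalarTower.algebraMap_apply A B, ← est.commutes]
      congr 1
      exact TopCat.Presheaf.germ_res_apply X.presheaf (homOfLE hVW) x hxV (φ.app W a)
    obtain ⟨r, hrQ, hr⟩ : ∃ r : B, r ∉ Q ∧ Algebra.Etale A (Localization.Away r) := by
      obtain ⟨r, hr, H⟩ := Algebra.exists_unramified_of_isUnramifiedAt (R := A) Q
      exact ⟨r, hr, Algebra.Etale.of_formallyUnramified_of_flat⟩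
    have hxU : x ∈ X.basicOpen r := by
      have h1 : hV.primeIdealOf ⟨x, hxV⟩ ∈ hV.fromSpec ⁻¹ᵁ X.basicOpen r := by
        rw [hV.fromSpec_preimage_basicOpen]; exact hrQ
      have h2 := hV.fromSpec_primeIdealOf ⟨x, hxV⟩
      have h1' : hV.fromSpec (hV.primeIdealOf ⟨x, hxV⟩) ∈ X.basicOpen r := h1
      rwa [h2] at h1'
    refine ⟨X.basicOpen r, hxU, ?_⟩
    have e : X.basicOpen r ≤ φ ⁻¹ᵁ W := (X.basicOpen_le r).trans hVW
    have := hV.isLocalization_basicOpen r
    have het : (φ.appLE W (X.basicOpen r) e).hom.Etale := by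
      rw [← RingHom.etale_algebraMap] at hr
      convert RingHom.Etale.respectsIso.1 _
        (IsLocalization.algEquiv (.powers r) _ Γ(X, X.basicOpen r)).toRingEquiv hr using 1
      ext a
      show φ.appLE W (X.basicOpen r) e a = _
      rw [← Scheme.Hom.appLE_map φ hVW (homOfLE (X.basicOpen_le r)).op]
      exact ((IsLocalization.algEquiv (.powers r) (Localization.Away r) Γ(X, X.basicOpen r)).commutes
        (φ.appLE W V hVW a)).symm
    have : IsAffine W := hW
    have : IsAffine (X.basicOpen r) := hV.basicOpen r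
    have hres : Etale (φ.resLE W (X.basicOpen r) e) := by
      rw [HasRingHomProperty.iff_of_isAffine (P := @Etale)]
      rw [RingHom.Etale.respectsIso.arrow_mk_iso_iff (arrowResLEAppIso φ W _ e)]
      exact het
    rw [← Scheme.Hom.resLE_comp_ι φ e]
    infer_instance

end Groth.Agent.S19541
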