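import Groth.Statements.S19544
import Groth.Agent.CAlg9.Bass

set_option autoImplicit false
universe u
open CAlg

namespace Groth.Agent.S19544

/-- Let R be a Noetherian ring of Krull dimension d and P a finitely generated projective R-module of
constant rank n at every prime of R, with n > d. Then P is isomorphic to P₀ ⊕ R^(n-d) for some
module P₀; concretely, P has complementary submodules P₀ and Q with Q free of rank n - d. -/
theorem result (R : Type u) [CommRing R]
    [IsNoetherianRing R] (d n : ℕ) (hdim : ringKrullDim R = d)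
    (P : Type u) [AddCommGroup P] [Module R P] [Module.Finite R P] [Module.Projective R P]
    (hrk : ∀ p : PrimeSpectrum R, Module.rankAtStalk (R := R) P p = n) (hnd : d < n) :
    ∃ (P₀ Q : Submodule R P), IsCompl P₀ Q ∧ Nonempty (Q ≃ₗ[R] (Fin (n - d) → R)) := by

  classical
  have key : ∀ j : ℕ, j + d ≤ n → ∃ (P₀ : Type u) (_ : AddCommGroup P₀) (_ : Module R P₀),
      Module.Finite R P₀ ∧ Module.Projective R P₀ ∧ Nonempty (P ≃ₗ[R] P₀ × (Fin j → R)) := by
    intro j
    induction j with
    | zero => exact fun _ => ⟨P, inferInstance, inferInstance, inferInstance, inferInstance,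
        ⟨LinearEquiv.prodUnique.symm⟩⟩
    | succ j ih =>
      intro hj
      obtain ⟨P₀, _, _, _, _, ⟨e⟩⟩ := ih (by omega)
      have hrk₀ : ∀ p : PrimeSpectrum R, Module.rankAtStalk (R := R) P₀ p = n - j := fun p => by
        have := p.nontrivial
        have h := congrFun (Module.rankAtStalk_eq_of_equiv e) p
        rw [hrk, Module.rankAtStalk_prod, Pi.add_apply, Module.rankAtStalk_eq_finrank_of_free (M := Fin j → R)] at h
        simp at h
        omega
      obtain ⟨t, θ, hθ⟩ := Groth.Agent.CAlg9.Bass.exists_dual_apply_eq_one (M := P₀) d (n - j) hdim.le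
        (by omega) hrk₀ 0 1 (fun y h => absurd ((Ideal.eq_top_iff_one _).mpr h) y.isMaximal.ne_top)
      set v := (0 : P₀) + (1 : R) • t
      let π : P₀ →ₗ[R] LinearMap.ker θ := (LinearMap.id - θ.smulRight v).codRestrict _ fun x => by
        simp [hθ]
      have hπv : ∀ x, (π x : P₀) = x - θ x • v := fun _ => rfl
      have hπs : Function.Surjective π := fun x => ⟨x, Subtype.ext (by simp [hπv, show θ x = 0 from x.2])⟩
      haveI : Module.Finite R (LinearMap.ker θ) := Module.Finite.of_surjective π hπs
      haveI : Module.Projective R (LinearMap.ker θ) := Module.Projective.of_split (LinearMap.ker θ).subtype π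
        (LinearMap.ext fun x => Subtype.ext (by simp [hπv, show θ x = 0 from x.2]))
      let s : P₀ ≃ₗ[R] LinearMap.ker θ × R :=
        LinearEquiv.ofLinearMap (π.prod θ) ((LinearMap.ker θ).subtype.coprod (LinearMap.toSpanSingleton R P₀ v))
          (LinearMap.ext fun x => Prod.ext
            (Subtype.ext (by simp [hπv, hθ, show θ x.1 = 0 from x.1.2]))
            (by simp [hθ, show θ x.1 = 0 from x.1.2]))
          (LinearMap.ext fun x => by simp [hπv])
      refine ⟨LinearMap.ker θ, inferInstance, inferInstance, inferInstance, inferInstance, ⟨?_⟩⟩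
      exact e.trans (((s.prodCongr (LinearEquiv.refl R _)).trans (LinearEquiv.prodAssoc R _ _ _)).trans
        ((LinearEquiv.refl R _).prodCongr (Fin.consLinearEquiv R (fun _ : Fin (j + 1) => R))))
  obtain ⟨P₀, _, _, _, _, ⟨e⟩⟩ := key (n - d) (by omega)
  refine ⟨(LinearMap.range (LinearMap.inl R P₀ (Fin (n - d) → R))).map e.symm.toLinearMap,
    (LinearMap.range (LinearMap.inr R P₀ (Fin (n - d) → R))).map e.symm.toLinearMap, ?_, ⟨?_⟩⟩
  · exact (Submodule.orderIsoMapComap e.symm).isCompl LinearMap.isCompl_range_inl_inr
  · exact ((LinearEquiv.submoduleMap e.symm _).symm.trans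
      (LinearEquiv.ofInjective (LinearMap.inr R P₀ (Fin (n - d) → R)) LinearMap.inr_injective).symm)

end Groth.Agent.S19544
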