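import Groth.Statements.S19546
import Groth.Agent.Alg99.Hopf
import Mathlib.LinearAlgebra.TensorProduct.Basis
import Mathlib.Analysis.Complex.Polynomial.Basic

set_option autoImplicit false
universe u v w
open scoped TensorProduct
open VBCurve

namespace Groth.Agent.S19546

/-- Let A, B, C be complex vector spaces, A and B finite-dimensional, and ν : A ⊗ B → C a linear map
injective on each factor separately (b ↦ ν(a ⊗ b) is injective for every a ≠ 0 and a ↦ ν(a ⊗ b) is
injective for every b ≠ 0). Then the image of ν has dimension at least dim A + dim B - 1. (For A = 0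
the separate-injectivity hypothesis is empty and the inequality fails as soon as dim B ≥ 2, so A and
B are taken nonzero here, the case the inequality is about.) -/
theorem result
    (A : Type u) (B : Type v) (C : Type w) [AddCommGroup A] [Module ℂ A] [AddCommGroup B] [Module ℂ B]
    [AddCommGroup C] [Module ℂ C] [FiniteDimensional ℂ A] [FiniteDimensional ℂ B]
    [Nontrivial A] [Nontrivial B] (ν : A ⊗[ℂ] B →ₗ[ℂ] C)
    (hA : ∀ a : A, a ≠ 0 → Function.Injective (fun b : B => ν (a ⊗ₜ[ℂ] b)))
    (hB : ∀ b : B, b ≠ 0 → Function.Injective (fun a : A => ν (a ⊗ₜ[ℂ] b))) :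
    Module.finrank ℂ A + Module.finrank ℂ B ≤ Module.finrank ℂ (LinearMap.range ν) + 1 := by
  classical
  by_contra hcon
  push Not at hcon
  obtain ⟨a, ha⟩ : ∃ a, Module.finrank ℂ A = a + 1 := ⟨Module.finrank ℂ A - 1, by have := Module.finrank_pos (R := ℂ) (M := A); omega⟩
  obtain ⟨b, hb⟩ : ∃ b, Module.finrank ℂ B = b + 1 := ⟨Module.finrank ℂ B - 1, by have := Module.finrank_pos (R := ℂ) (M := B); omega⟩
  let bA := Module.finBasisOfFinrankEq ℂ A ha
  let bB := Module.finBasisOfFinrankEq ℂ B hb
  let bR := Module.finBasis ℂ (LinearMap.range ν)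
  let L : Fin (Module.finrank ℂ (LinearMap.range ν)) → Fin (a + 1) × Fin (b + 1) → ℂ :=
    fun l p => bR.repr (ν.rangeRestrict (bA p.1 ⊗ₜ[ℂ] bB p.2)) l
  obtain ⟨u, v, hu, hv, huv⟩ := Groth.Agent.Alg99.Hopf.exists_rankOne (a := a) (b := b)
    (by omega : Module.finrank ℂ (LinearMap.range ν) + 1 < a + 1 + (b + 1)) L
  let x := bA.equivFun.symm u
  let y := bB.equivFun.symm v
  have hx : x ≠ 0 := (LinearEquiv.map_ne_zero_iff _).mpr hu
  have hy : y ≠ 0 := (LinearEquiv.map_ne_zero_iff _).mpr hv
  apply hy
  apply hA x hx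
  simp only [TensorProduct.tmul_zero, map_zero]
  have hrr : ν.rangeRestrict (x ⊗ₜ[ℂ] y) = 0 := by
    refine bR.repr.injective (Finsupp.ext fun l => ?_)
    rw [map_zero, Finsupp.zero_apply, ← huv l]
    simp only [x, y, Module.Basis.equivFun_symm_apply, TensorProduct.sum_tmul, TensorProduct.tmul_sum,
      ← TensorProduct.smul_tmul', TensorProduct.tmul_smul, map_sum, map_smul, Finsupp.coe_finsetSum,
      Finset.sum_apply, Finsupp.smul_apply, smul_eq_mul, L, Fintype.sum_prod_type]
    simp only [Finset.mul_sum]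
    rw [Finset.sum_comm]
    refine Finset.sum_congr rfl fun i _ => ?_
    refine Finset.sum_congr rfl fun j _ => ?_
    ring
  exact congrArg Subtype.val hrr

end Groth.Agent.S19546
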