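import Groth.Statements.S19547
import Groth.Agent.Desc59.UnivInjFF

set_option autoImplicit false
universe u
open TensorProduct
open Desc

namespace Groth.Agent.S19547

/-- Let A → A' be a faithfully flat homomorphism of commutative rings, M' an A'-module and φ : M' ⊗_A A'
→ A' ⊗_A M' an isomorphism of (A' ⊗_A A')-modules for the diagonal actions (x ⊗ y)(u ⊗ z) = xu ⊗ yz
and (x ⊗ y)(z ⊗ u) = xz ⊗ yu, satisfying the cocycle condition φ_13 = φ_23 ∘ φ_12 between the three
pullbacks to A' ⊗_A A' ⊗_A A'. Here linearity over A' ⊗_A A' is stated on the generators x ⊗ 1 and 1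
⊗ y, and the cocycle condition on pure tensors u ⊗ a ⊗ b: writing φ(u ⊗ a) = Σ a_i ⊗ u_i, it says Σ
a_i ⊗ φ(u_i ⊗ b) = Σ b_j ⊗ a ⊗ u'_j where φ(u ⊗ b) = Σ b_j ⊗ u'_j. Let M = {u ∈ M' : φ(u ⊗ 1) = 1 ⊗
u}, an A-submodule of M'. Then the canonical map λ : A' ⊗_A M → M', x ⊗ u ↦ xu, is an isomorphism. -/
theorem result (A A' : Type u) [CommRing A] [CommRing A']
    [Algebra A A'] [Module.FaithfullyFlat A A'] (M' : Type u) [AddCommGroup M'] [Module A M']
    [Module A' M'] [IsScalarTower A A' M']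
    (φ : M' ⊗[A] A' →ₗ[A] A' ⊗[A] M') (hφ : Function.Bijective φ)
    (h1 : ∀ (x : A') (u : M') (z : A'),
      φ ((x • u) ⊗ₜ[A] z) = LinearMap.rTensor M' (LinearMap.mulLeft A x) (φ (u ⊗ₜ[A] z)))
    (h2 : ∀ (y : A') (u : M') (z : A'),
      φ (u ⊗ₜ[A] (y * z)) = LinearMap.lTensor A' (Algebra.lsmul A A M' y) (φ (u ⊗ₜ[A] z)))
    (hcoc : ∀ (u : M') (a b : A'),
      LinearMap.lTensor A' φ (TensorProduct.assoc A A' M' A' (LinearMap.rTensor A' φ ((u ⊗ₜ[A] a) ⊗ₜ[A] b))) =
        LinearMap.lTensor A' (TensorProduct.mk A A' M' a) (φ (u ⊗ₜ[A] b)))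
    (M : Submodule A M') (hM : ∀ u : M', u ∈ M ↔ φ (u ⊗ₜ[A] (1 : A')) = (1 : A') ⊗ₜ[A] u) :
    Function.Bijective
      ((TensorProduct.lift (Algebra.lsmul A A M').toLinearMap) ∘ₗ (LinearMap.lTensor A' M.subtype)) := by
  have hs := Groth.Agent.Desc59.dualSplit_of_faithfullyFlat A A'
  let ψ : M' →ₗ[A] A' ⊗[A] M' := φ ∘ₗ (TensorProduct.mk A M' A').flip 1
  have hψ : ∀ u, ψ u = φ (u ⊗ₜ[A] (1 : A')) := fun u => rfl
  have hlin : ∀ (s : A') (v : M'), ψ (s • v) = s • ψ v := by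
    intro s v
    rw [hψ, hψ, h1]
    generalize φ (v ⊗ₜ[A] (1 : A')) = y
    induction y with
    | zero => simp
    | tmul b n => simp [TensorProduct.smul_tmul']
    | add a b ha hb => simp only [map_add, ha, hb, smul_add]
  have hinj : Function.Injective ψ := by
    intro a b hab
    apply Groth.Agent.Desc59.tmul_one_injective hs M'
    apply (TensorProduct.comm A A' M').injective
    simpa using hφ.1 hab
  have hcoassoc : ∀ v, LinearMap.lTensor A' ψ (ψ v) =
      LinearMap.lTensor A' (TensorProduct.mk A A' M' 1) (ψ v) := by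
    intro v
    rw [hψ, ← hcoc v 1 1, LinearMap.rTensor_tmul]
    generalize φ (v ⊗ₜ[A] (1 : A')) = y
    induction y with
    | zero => simp
    | tmul b n => simp [hψ]
    | add a b ha hb => simp only [map_add, ha, hb, TensorProduct.add_tmul]
  have hMeq : M = Groth.Agent.Desc59.invariants ψ :=
    Submodule.ext fun u => (hM u).trans (Groth.Agent.Desc59.mem_invariants ψ u).symm
  subst hMeq
  exact Groth.Agent.Desc59.lift_invariants_bijective hs hlin hinj hcoassoc

end Groth.Agent.S19547
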