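import Groth.Prelude.Def_SchFin
import Groth.Prelude.Def_SchFin2
import Mathlib.RingTheory.RingHom.Etale
import Mathlib.RingTheory.Flat.FaithfullyFlat.Basic
import Mathlib.RingTheory.RingHom.FaithfullyFlat
import Mathlib.RingTheory.Etale.Descent
import Mathlib.LinearAlgebra.TensorProduct.Pi
import Groth.Agent.SF97.Affine
-- import your own Groth.Agent.* helpers here

set_option autoImplicit false
universe u
open SchFin SchFin.Alg

namespace Groth.Agent.S19549

open TensorProduct SchFin

theorem away_eval {ι : Type u} [DecidableEq ι] (S : ι → Type u) [∀ i, CommRing (S i)] (i : ι) :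
    letI := (Pi.evalRingHom S i).toAlgebra
    IsLocalization.Away (Pi.single i 1 : ∀ i, S i) (S i) := by
  letI := (Pi.evalRingHom S i).toAlgebra
  refine IsLocalization.away_of_isIdempotentElem_of_mul ?_ (fun x y => ?_) fun z => ⟨Pi.single i z, ?_⟩
  · simp [IsIdempotentElem, ← Pi.single_mul]
  · show x i = y i ↔ _
    refine ⟨fun h => funext fun j => ?_, fun h => by simpa using congrFun h i⟩
    rcases eq_or_ne j i with rfl | hj
    · simp [h]
    · simp [Pi.single_eq_of_ne hj]
  · show (Pi.single i z : ∀ i, S i) i = z
    simp

theorem etale_piMap {ι : Type u} [Fintype ι] (R S : ι → Type u) [∀ i, CommRing (R i)] [∀ i, CommRing (S i)]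
    (f : ∀ i, R i →+* S i) (hf : ∀ i, (f i).Etale) :
    (Pi.ringHom fun i => (f i).comp (Pi.evalRingHom R i) : (∀ i, R i) →+* ∀ i, S i).Etale := by
  classical
  refine RingHom.Etale.ofLocalizationSpanTarget _ (Set.range fun i => (Pi.single i 1 : ∀ i, S i)) ?_ ?_
  · exact (Ideal.eq_top_iff_one _).2
      ((Finset.univ_sum_single (1 : ∀ i, S i)) ▸ Ideal.sum_mem _ fun i _ => Ideal.subset_span ⟨i, rfl⟩)
  · rintro ⟨_, i, rfl⟩
    letI := (Pi.evalRingHom S i).toAlgebra
    haveI := away_eval S i
    let e : S i ≃ₐ[∀ i, S i] Localization.Away (Pi.single i 1 : ∀ i, S i) :=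
      IsLocalization.algEquiv (Submonoid.powers (Pi.single i 1 : ∀ i, S i)) _ _
    have h1 : (Pi.evalRingHom R i).Etale := by
      letI := (Pi.evalRingHom R i).toAlgebra
      haveI := away_eval R i
      exact RingHom.etale_algebraMap.2 (Algebra.Etale.of_isLocalizationAway (Pi.single i 1 : ∀ i, R i))
    have h3 := RingHom.Etale.respectsIso.1 _ e.toRingEquiv
      (RingHom.Etale.stableUnderComposition _ _ h1 (hf i))
    convert h3 using 1
    ext x
    exact (e.commutes _).symm

variable (X : RSpace.{u}) (U : Set X.pt) (A : Alg X) (hA : A.IsQcoh) (hUa : (X.restrict U).IsAffine)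

include hA hUa in
theorem exists_algEquiv (q : U) :
    letI := (A.sectMap U).toAlgebra
    letI := (X.evalRing U q).toAlgebra
    ∃ e : X.ring q.1 ⊗[X.sectRing U] A.total.sectRing U ≃ₐ[X.ring q.1] A.carrier q.1,
      ∀ (c : X.ring q.1) (s : A.total.sectRing U), e (c ⊗ₜ s) = c • SF97.valA X U A s q := by
  letI := (A.sectMap U).toAlgebra
  letI := (X.evalRing U q).toAlgebra
  obtain ⟨e, he⟩ := SF97.alg_eval_equiv X U A hA hUa q
  refine ⟨Algebra.TensorProduct.algEquivOfLinearEquivTensorProduct e
    (fun c c' s s' => ?_) ?_, he⟩
  · rw [he, he, he, smul_mul_smul_comm]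
    rfl
  · rw [he, one_smul]
    rfl

variable (hφ : Module.FaithfullyFlat (X.sectRing U) ((q : ↥U) → X.ring q.1))

include hA hUa hφ in
theorem etale_iff :
    (∀ q : X.pt, q ∈ U → Algebra.Etale (X.ring q) (A.carrier q)) ↔ (A.sectMap U).Etale := by
  classical
  letI := (A.sectMap U).toAlgebra
  constructor
  · intro h
    haveI := Fintype.ofFinite U
    letI : Algebra (X.sectRing U) ((q : ↥U) → X.ring q.1) := (X.sectRing U).subtype.toAlgebra
    let B := (q : ↥U) → A.carrier q.1
    let g : ((q : ↥U) → X.ring q.1) →+* B :=
      Pi.ringHom fun q => (algebraMap (X.ring q.1) (A.carrier q.1)).comp (Pi.evalRingHom (fun q : U => X.ring q.1) q)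
    haveI hB : Algebra.Etale ((q : ↥U) → X.ring q.1) B :=
      RingHom.etale_algebraMap.1 <| etale_piMap _ _ _ fun q => RingHom.etale_algebraMap.2 (h q.1 q.2)
    haveI : Module.FaithfullyFlat (X.sectRing U) ((q : ↥U) → X.ring q.1) := hφ
    letI : Algebra (X.sectRing U) B := (g.comp (X.sectRing U).subtype).toAlgebra
    haveI : IsScalarTower (X.sectRing U) ((q : ↥U) → X.ring q.1) B := IsScalarTower.of_algebraMap_eq' rfl
    let σ : A.total.sectRing U →ₐ[X.sectRing U] B :=
      { (A.total.sectRing U).subtype with commutes' := fun r => rfl }
    let Ψ : ((q : ↥U) → X.ring q.1) ⊗[X.sectRing U] A.total.sectRing U →ₐ[(q : ↥U) → X.ring q.1] B :=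
      Algebra.TensorProduct.lift (Algebra.ofId _ _) σ fun _ _ => Commute.all _ _
    have hΨ : Function.Bijective Ψ := by
      letI : ∀ q : U, Algebra (X.sectRing U) (X.ring q.1) := fun q => (X.evalRing U q).toAlgebra
      choose e he using fun q : U => exists_algEquiv X U A hA hUa q
      let E : ((q : ↥U) → X.ring q.1) ⊗[X.sectRing U] A.total.sectRing U ≃+
          ((q : ↥U) → A.carrier q.1) :=
        (((TensorProduct.comm _ _ _).trans (TensorProduct.piRight (X.sectRing U) (X.sectRing U) (A.total.sectRing U) (fun q : U => X.ring q.1))).toAddEquiv.trans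
          (AddEquiv.piCongrRight fun q : U => ((TensorProduct.comm (X.sectRing U) (A.total.sectRing U) (X.ring q.1)).toAddEquiv.trans (e q).toAddEquiv)))
      have : ∀ z, Ψ z = E z := by
        intro z
        induction z using TensorProduct.induction_on with
        | zero => exact (map_zero Ψ).trans (map_zero E).symm
        | tmul p s =>
          funext q
          refine Eq.trans ?_ (he q (p q) s).symm
          rw [Algebra.smul_def]
          rfl
        | add a b ha hb => exact (map_add Ψ a b).trans ((congrArg₂ (· + ·) ha hb).trans (map_add E a b).symm)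
      rw [funext this]
      exact E.bijective
    haveI : Algebra.Etale ((q : ↥U) → X.ring q.1)
        (((q : ↥U) → X.ring q.1) ⊗[X.sectRing U] A.total.sectRing U) :=
      Algebra.Etale.of_equiv (AlgEquiv.ofBijective Ψ hΨ).symm
    exact Algebra.Etale.of_etale_tensorProduct_of_faithfullyFlat ((q : ↥U) → X.ring q.1)
  · intro h q hq
    haveI : Algebra.Etale (X.sectRing U) (A.total.sectRing U) := h
    letI := (X.evalRing U ⟨q, hq⟩).toAlgebra
    obtain ⟨e, -⟩ := exists_algEquiv X U A hA hUa ⟨q, hq⟩
    exact Algebra.Etale.of_equiv e

open SchFin in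
/-- Let X be a schematic finite space, A a quasi-coherent algebra on X and U an affine up-closed set of
points. Then the value of A at every point of U is étale over the ring of that point (flat,
unramified and of finite presentation) if and only if the ring map from the sections of the rings
over U to the sections of A over U is étale. (The published statement ranges over all affine open
subsets, with the same criterion for an affine open cover, and is phrased for étale cover sheaves,
which are in addition finite at every point; this row states the étale part of the criterion for one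
affine up-closed subset, finiteness at the points of U being equivalent to finiteness of the same
ring map by the companion criterion for finite algebras. It carries explicitly the hypotheses that
the product of the rings of the points of U is faithfully flat over the ring of sections of the
rings over U, and likewise for the algebra; these hold for every affine open subset and every
quasi-coherent algebra by results the published proof uses and recalls without proof.) -/
theorem result (X : RSpace.{u}) (hX : X.IsSchematic) (A : Alg X) (hA : A.IsQcoh)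
    (U : Set X.pt) (hU' : IsUpperSet U) (hUa : (X.restrict U).IsAffine)
    (hφ : Module.FaithfullyFlat (X.sectRing U) ((q : ↥U) → X.ring q.1))
    (hψ : (A.total.sectRing U).subtype.FaithfullyFlat) :
    (∀ q : X.pt, q ∈ U → Algebra.Etale (X.ring q) (A.carrier q)) ↔ (A.sectMap U).Etale := etale_iff X U A hA hUa hφ


end Groth.Agent.S19549
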