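import Groth.Statements.S1955
import Groth.Agent.Cyc90.Dev.Cls
open Groth.Agent.Cyc90

set_option autoImplicit false
universe u
open CategoryTheory AlgebraicGeometry
open Cyc

namespace Groth.Agent.S1955

/-- The assignment F ↦ [F]_k induces an isomorphism from K_0(Coh_{≤k}(X)/Coh_{≤k−1}(X)) onto the group
Z_k(X) of k-cycles: there is an additive map ψ to coefficient functions with ψ[F] = [F]_k for every
coherent F with support of δ-dimension ≤ k, which is injective with image exactly the coefficient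
functions of k-cycles. K_0 of the Serre quotient is modelled as K_0(Coh_{≤k}) modulo the classes of
Coh_{≤k−1} (Cyc.K0CohQuot). Here a pair (X, δ) with Cyc.IsSetup plays the role of a scheme locally
of finite type over a fixed base with a dimension function (X locally Noetherian with universally
catenary local rings, δ a dimension function). -/
theorem result (X : Scheme.{u}) (δ : X → ℤ) (hX : Cyc.IsSetup X δ) (k : ℤ) : ∃ ψ : Cyc.K0CohQuot δ k (k - 1) →+ (X → ℤ), (∀ F : X.Modules, Cyc.CohLe δ k F → ψ (Cyc.toK0CohQuot δ k (k - 1) F) = Cyc.sheafFun δ k F) ∧ Function.Injective ψ ∧ Set.range ψ = {a | ∃ α : AlgebraicCycle X ℤ, α ∈ Cyc.Zk X δ k ∧ ⇑α = a} := by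
  have := hX.1
  let K := Cyc.K0CohQuot δ k (k - 1)
  let g : KZero.K0sub (Cyc.CohLe δ k) →+ (X → ℤ) :=
    QuotientAddGroup.lift _ (FreeAbelianGroup.lift fun F => Cyc.sheafFun δ k F.1) (by
      refine (AddSubgroup.closure_le _).2 ?_
      rintro _ ⟨S, h1, h2, h3, hS, rfl⟩
      rw [SetLike.mem_coe, AddMonoidHom.mem_ker, map_sub, map_sub, FreeAbelianGroup.lift_apply_of,
        FreeAbelianGroup.lift_apply_of, FreeAbelianGroup.lift_apply_of,
        sheafFun_shortExact hX k S hS h2.1 h2.2]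
      abel)
  have hg : ∀ F, Cyc.CohLe δ k F → g (KZero.clSub (Cyc.CohLe δ k) F) = Cyc.sheafFun δ k F := by
    intro F hF
    rw [KCohDev46.clSub_eq _ hF]
    exact FreeAbelianGroup.lift_apply_of _ _
  let ψ : K →+ (X → ℤ) := QuotientAddGroup.lift _ g (by
    refine (AddSubgroup.closure_le _).2 ?_
    rintro _ ⟨F, hF, rfl⟩
    rw [SetLike.mem_coe, AddMonoidHom.mem_ker, hg F (Dev.cohLe_mono hF (by omega))]
    funext x
    unfold Cyc.sheafFun
    split_ifs with h
    · have : Subsingleton (F.presheaf.stalk x) := not_nontrivial_iff_subsingleton.1 fun hn => by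
        have := hF.2 x hn
        omega
      rw [Module.length_eq_zero]; rfl
    · rfl)
  have hψ : ∀ F : X.Modules, Cyc.CohLe δ k F →
      ψ (Cyc.toK0CohQuot δ k (k - 1) F) = Cyc.sheafFun δ k F := fun F hF => hg F hF
  have hdiff : ∀ c : K, ∃ F G : X.Modules, Cyc.CohLe δ k F ∧ Cyc.CohLe δ k G ∧
      c = Cyc.toK0CohQuot δ k (k - 1) F - Cyc.toK0CohQuot δ k (k - 1) G := by
    intro c
    obtain ⟨d, rfl⟩ := QuotientAddGroup.mk_surjective c
    obtain ⟨e, rfl⟩ := QuotientAddGroup.mk_surjective d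
    have hz : ∀ {M : X.Modules}, CategoryTheory.Limits.IsZero M → Cyc.CohLe δ k M := fun h => Dev.cohLe_of_isZero h
    obtain ⟨Z, hZ⟩ := CategoryTheory.Limits.HasZeroObject.zero (C := X.Modules)
    have hZ0 : Cyc.toK0CohQuot δ k (k - 1) Z = 0 := Dev.toK_small (Dev.cohLe_of_isZero hZ)
    induction e using FreeAbelianGroup.induction_on with
    | zero => exact ⟨Z, Z, hz hZ, hz hZ, by rw [sub_self]; rfl⟩
    | of F =>
      refine ⟨F.1, Z, F.2, hz hZ, ?_⟩
      rw [hZ0, sub_zero, Cyc.toK0CohQuot, KCohDev46.clSub_eq _ F.2]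
    | neg F h =>
      obtain ⟨A, B, hA, hB, e⟩ := h
      refine ⟨B, A, hB, hA, ?_⟩
      rw [QuotientAddGroup.mk_neg, QuotientAddGroup.mk_neg, e, neg_sub]
    | add p q hp hq =>
      obtain ⟨A, B, hA, hB, e⟩ := hp
      obtain ⟨A₂, B₂, hA₂, hB₂, e₂⟩ := hq
      refine ⟨A ⊞ A₂, B ⊞ B₂, Dev.cohLe_sum hA hA₂, Dev.cohLe_sum hB hB₂, ?_⟩
      rw [QuotientAddGroup.mk_add, QuotientAddGroup.mk_add, e, e₂, Dev.toK_sum hA hA₂,
        Dev.toK_sum hB hB₂]
      abel
  refine ⟨ψ, hψ, ?_, ?_⟩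
  · rw [injective_iff_map_eq_zero]
    intro c hc
    obtain ⟨F, G, hF, hG, rfl⟩ := hdiff c
    rw [map_sub, hψ F hF, hψ G hG, sub_eq_zero] at hc
    rw [sub_eq_zero]
    exact Dev.toK_eq_of_sheafFun_eq hX hF hG hc le_rfl
  · ext f
    constructor
    · rintro ⟨c, rfl⟩
      obtain ⟨F, G, hF, hG, rfl⟩ := hdiff c
      have h := fun x => (Dev.isCycFun_sheafFun hX hF).locFin x
      have h2 := fun x => (Dev.isCycFun_sheafFun hX hG).locFin x
      refine ⟨{ toFun := ψ (Cyc.toK0CohQuot δ k (k - 1) F - Cyc.toK0CohQuot δ k (k - 1) G)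
                supportWithinDomain' := Set.subset_univ _
                supportLocallyFiniteWithinDomain' := fun x _ => ?_ }, ?_, rfl⟩
      · obtain ⟨U, hU, hxU, hf⟩ := h x
        obtain ⟨V, hV, hxV, hf2⟩ := h2 x
        refine ⟨U ∩ V, (hU.inter hV).mem_nhds ⟨hxU, hxV⟩, (hf.union hf2).subset fun ζ hζ => ?_⟩
        obtain ⟨⟨h1, h2'⟩, h3⟩ := hζ
        rw [Function.mem_support, map_sub, hψ F hF, hψ G hG, Pi.sub_apply] at h3
        by_cases hF0 : Cyc.sheafFun δ k F ζ = 0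
        · exact Or.inr ⟨fun h0 => h3 (by rw [hF0, h0, sub_zero]), h2'⟩
        · exact Or.inl ⟨hF0, h1⟩
      · intro x hx
        change ψ (Cyc.toK0CohQuot δ k (k - 1) F - Cyc.toK0CohQuot δ k (k - 1) G) x = 0
        rw [map_sub, hψ F hF, hψ G hG, Pi.sub_apply, Cyc.sheafFun, Cyc.sheafFun, if_neg hx, if_neg hx,
          sub_zero]
    · rintro ⟨α, hα, rfl⟩
      have hf := Dev.isCycFun_of_cycle hα
      refine ⟨Cyc.toK0CohQuot δ k (k - 1) (Cyc.cycleSheafPos ⇑α) -
        Cyc.toK0CohQuot δ k (k - 1) (Cyc.cycleSheafNeg ⇑α), ?_⟩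
      rw [map_sub, hψ _ (hf.cohLe_pos hX), hψ _ (show Cyc.CohLe δ k (Cyc.cycleSheafNeg ⇑α) from hf.neg.cohLe_pos hX)]
      funext x
      have e1 := hf.sheafFun_pos hX x
      have e2 : Cyc.sheafFun δ k (Cyc.cycleSheafNeg ⇑α) x = if 0 < -α x then -α x else 0 :=
        hf.neg.sheafFun_pos hX x
      rw [Pi.sub_apply, e1, e2]
      split_ifs <;> omega

end Groth.Agent.S1955
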