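import Groth.Statements.S19552
import Groth.Agent.CAlg9.Bass

set_option autoImplicit false
universe u
open CAlg

namespace Groth.Agent.S19552

/-- Let R be a Noetherian ring of Krull dimension d and P, Q finitely generated projective R-modules of
constant rank at every prime which have the same class in the Grothendieck group, i.e. are stably
isomorphic: P ⊕ R^m ≅ Q ⊕ R^m for some m. Then there is a positive integer N with P^N ≅ Q^N. (The
two exponents in the published display are read as the same integer N; for modules of positive rank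
an isomorphism between direct powers forces equal exponents.) -/
theorem result (R : Type u) [CommRing R] [IsNoetherianRing R]
    (d n : ℕ) (hdim : ringKrullDim R = d)
    (P Q : Type u) [AddCommGroup P] [Module R P] [Module.Finite R P] [Module.Projective R P]
    [AddCommGroup Q] [Module R Q] [Module.Finite R Q] [Module.Projective R Q]
    (hrk : ∀ p : PrimeSpectrum R, Module.rankAtStalk (R := R) P p = n)
    (hrk' : ∀ p : PrimeSpectrum R, Module.rankAtStalk (R := R) Q p = n)
    (m : ℕ) (e : (P × (Fin m → R)) ≃ₗ[R] (Q × (Fin m → R))) :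
    ∃ N : ℕ, 1 ≤ N ∧ Nonempty ((Fin N → P) ≃ₗ[R] (Fin N → Q)) := by

  classical
  refine ⟨d + 1, by omega, ?_⟩
  rcases Nat.eq_zero_or_pos n with rfl | hn
  · have hP : Subsingleton P := Module.rankAtStalk_eq_zero_iff_subsingleton.mp (funext hrk)
    have hQ : Subsingleton Q := Module.rankAtStalk_eq_zero_iff_subsingleton.mp (funext hrk')
    exact ⟨⟨⟨⟨fun _ => 0, fun _ _ => by simp⟩, fun _ _ => by simp⟩, fun _ => 0,
      fun x => Subsingleton.elim _ _, fun x => Subsingleton.elim _ _⟩⟩
  · let split : ∀ (X : Type u) [AddCommGroup X] [Module R X],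
        (Fin (d + 1) → X × (Fin m → R)) ≃ₗ[R] (Fin (d + 1) → X) × (Fin ((d + 1) * m) → R) := fun X _ _ =>
      LinearEquiv.trans
        ({ toFun := fun f => (fun i => (f i).1, fun i => (f i).2)
           invFun := fun f i => (f.1 i, f.2 i)
           map_add' := fun _ _ => rfl
           map_smul' := fun _ _ => rfl
           left_inv := fun _ => rfl
           right_inv := fun _ => rfl } :
          (Fin (d + 1) → X × (Fin m → R)) ≃ₗ[R] (Fin (d + 1) → X) × (Fin (d + 1) → Fin m → R))
        ((LinearEquiv.refl R _).prodCongr
          ((LinearEquiv.curry R R (Fin (d + 1)) (Fin m)).symm.trans (LinearEquiv.funCongrLeft R R finProdFinEquiv.symm)))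
    haveI : Module.Projective R (Fin (d + 1) → P) :=
      Module.Projective.of_equiv (DFinsupp.linearEquivFunOnFintype (R := R) : (Π₀ _ : Fin (d + 1), P) ≃ₗ[R] _)
    refine Groth.Agent.CAlg9.Bass.cancel d hdim.le ((d + 1) * m) ((d + 1) * n) ?_ (fun p => ?_) ?_
    · calc d < (d + 1) * 1 := by omega
        _ ≤ (d + 1) * n := Nat.mul_le_mul_left _ hn
    · rw [Module.rankAtStalk_pi, finsum_eq_sum_of_fintype]
      simp [hrk]
    · exact ((split P).symm.trans (LinearEquiv.piCongrRight fun _ => e)).trans (split Q)

end Groth.Agent.S19552
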