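import Groth.Statements.S19560

set_option autoImplicit false
universe u
open W4c1limliniiii

namespace Groth.Agent.S19560

open Polynomial in
/-- Let k be an algebraically closed field of characteristic p (a prime or zero) and let F, G be
polynomials spanning a base-point-free pencil V of degree d (a two-dimensional space of polynomials
of degree at most d containing one of degree d and with no common zero in k), so that V encodes a
degree-d self-map F/G of the projective line up to automorphisms of the target. Suppose the
Wronskian W = F′G − FG′ is non-zero and vanishes at the point a to order exactly e − 1 with e ≥ 1,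
and that p = 0 or e − 1 < p. Then the map is tamely ramified at a with index e: the largest order of
vanishing at a of a non-zero member of V is e, and p does not divide e. (The hypothesis W ≠ 0 makes
the order of vanishing meaningful; for W = 0 the map is inseparable.) -/
theorem result
    (k : Type u) [Field k] [IsAlgClosed k] (p : ℕ) [CharP k p]
    (d : ℕ) (F G : k[X]) (hV : W4c1limliniiii.IsPencil d (Submodule.span k {F, G}))
    (hW : Polynomial.wronskian F G ≠ 0) (a : k) (e : ℕ)
    (he : (Polynomial.wronskian F G).rootMultiplicity a + 1 = e) (hp : p = 0 ∨ e - 1 < p) :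
    W4c1limliniiii.HasRamIdx (Submodule.span k {F, G}) a e ∧ ¬ p ∣ e := by
  classical
  set V := Submodule.span k ({F, G} : Set k[X]) with hVdef
  have hFm : F ∈ V := Submodule.subset_span (by simp)
  have hGm : G ∈ V := Submodule.subset_span (by simp)
  obtain ⟨S, H, c, hc, hSm, hSa, hHa, hWS, huniq⟩ : ∃ S H : k[X], ∃ c : k, c ≠ 0 ∧ S ∈ V ∧ S.eval a = 0 ∧
      H.eval a ≠ 0 ∧ Polynomial.wronskian S H = C c * Polynomial.wronskian F G ∧
      ∀ s ∈ V, s.eval a = 0 → ∃ l : k, s = C l * S := by
    by_cases hG : G.eval a = 0
    · have hF : F.eval a ≠ 0 := by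
        obtain ⟨s, hs, hsa⟩ := hV.2.2.2 a
        obtain ⟨x, y, rfl⟩ := Submodule.mem_span_pair.mp hs
        intro h0
        apply hsa
        simp [h0, hG]
      refine ⟨G, F, -1, by simp, hGm, hG, hF, ?_, ?_⟩
      · rw [Polynomial.wronskian, Polynomial.wronskian, map_neg, map_one]; ring
      · intro s hs hsa
        obtain ⟨x, y, rfl⟩ := Submodule.mem_span_pair.mp hs
        have hx : x = 0 := by simpa [hG, hF] using hsa
        exact ⟨y, by simp [hx, smul_eq_C_mul]⟩
    · refine ⟨C (G.eval a) * F - C (F.eval a) * G, G, G.eval a, hG, ?_, ?_, hG, ?_, ?_⟩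
      · rw [← smul_eq_C_mul, ← smul_eq_C_mul]; exact sub_mem (V.smul_mem _ hFm) (V.smul_mem _ hGm)
      · simp; ring
      · simp only [Polynomial.wronskian, derivative_sub, derivative_C_mul]; ring
      · intro s hs hsa
        obtain ⟨x, y, rfl⟩ := Submodule.mem_span_pair.mp hs
        refine ⟨x / G.eval a, ?_⟩
        have hy : y = -(x / G.eval a * F.eval a) := by
          have h0 : x * F.eval a + y * G.eval a = 0 := by simpa using hsa
          field_simp
          linear_combination h0
        simp only [smul_eq_C_mul, hy, map_neg, map_mul]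
        have hx : C x = C (x / G.eval a) * C (G.eval a) := by rw [← map_mul, div_mul_cancel₀ _ hG]
        rw [hx]; ring
  have hWne : Polynomial.wronskian S H ≠ 0 := by
    rw [hWS]; exact mul_ne_zero (by simpa using hc) hW
  have hS0 : S ≠ 0 := by
    intro h
    apply hWne
    simp [h, Polynomial.wronskian]
  have hrm : (Polynomial.wronskian S H).rootMultiplicity a = (Polynomial.wronskian F G).rootMultiplicity a := by
    rw [hWS, rootMultiplicity_mul (by rw [← hWS]; exact hWne), rootMultiplicity_C, zero_add]
  obtain ⟨m, hm⟩ : ∃ m, S.rootMultiplicity a = m := ⟨_, rfl⟩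
  obtain ⟨u, hSu, hu⟩ := exists_eq_pow_rootMultiplicity_mul_and_not_dvd S hS0 a
  rw [hm] at hSu
  have hua : u.eval a ≠ 0 := fun h => hu (dvd_iff_isRoot.mpr h)
  have hm1 : 0 < m := by
    rw [← hm]; exact (rootMultiplicity_pos hS0).mpr hSa
  obtain ⟨m', rfl⟩ : ∃ m', m = m' + 1 := ⟨m - 1, by omega⟩
  set R : k[X] := (X - C a) * (u * derivative H - derivative u * H) - C ((m' + 1 : ℕ) : k) * (u * H) with hR
  have hfac : Polynomial.wronskian S H = (X - C a) ^ m' * R := by
    rw [hR, Polynomial.wronskian, hSu]
    simp only [derivative_mul, derivative_pow, derivative_sub, derivative_X, derivative_C, sub_zero,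
      mul_one, Nat.add_sub_cancel]
    ring
  have hR0 : R ≠ 0 := fun h => hWne (by rw [hfac, h, mul_zero])
  have hmul : (Polynomial.wronskian S H).rootMultiplicity a = m' + R.rootMultiplicity a := by
    rw [hfac, rootMultiplicity_mul (by rw [← hfac]; exact hWne), rootMultiplicity_X_sub_C_pow]
  have hndvd : ¬ p ∣ (m' + 1) := by
    intro hdvd
    rcases hp with hp0 | hlt
    · subst hp0
      exact Nat.succ_ne_zero m' (zero_dvd_iff.mp hdvd)
    · have hRa : R.IsRoot a := by
        rw [IsRoot.def, hR, (CharP.cast_eq_zero_iff k p _).mpr hdvd]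
        simp
      have := (rootMultiplicity_pos hR0).mpr hRa
      have hle := Nat.le_of_dvd (Nat.succ_pos _) hdvd
      omega
  have hRe : R.rootMultiplicity a = 0 := by
    rw [rootMultiplicity_eq_zero_iff]
    intro hRa
    exfalso
    rw [IsRoot.def, hR] at hRa
    simp only [eval_sub, eval_mul, eval_X, eval_C, sub_self, zero_mul, zero_sub, neg_eq_zero,
      mul_eq_zero, CharP.cast_eq_zero_iff k p] at hRa
    rcases hRa with h | h | h
    · exact hndvd h
    · exact hua h
    · exact hHa h
  have hem : e = m' + 1 := by omega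
  subst hem
  refine ⟨⟨⟨S, hSm, hS0, hm.ge⟩, ?_⟩, hndvd⟩
  intro s hs hs0
  by_cases hsa : s.eval a = 0
  · obtain ⟨l, rfl⟩ := huniq s hs hsa
    rw [rootMultiplicity_mul hs0, rootMultiplicity_C, zero_add, hm]
  · rw [rootMultiplicity_eq_zero hsa]; exact Nat.zero_le _

end Groth.Agent.S19560
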