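import Groth.Statements.S19562

set_option autoImplicit false
universe u
open W4c1limliniiii

namespace Groth.Agent.S19562

open TensorProduct in
/-- Let k be a field, 0 < r < d, and f_i, g_i (i < n) linear maps forward and backward between
consecutive ones of n + 1 copies of k^d, forming a linked Grassmannian over Spec k whose scalar s is
zero: every composite f_i ∘ g_i and g_i ∘ f_i vanishes, rank f_i + rank g_i ≥ d, and for consecutive
indices im f_i ∩ ker f_{i+1} = 0 and im g_{i+1} ∩ ker g_i = 0. Let (V_i) be a k-valued point of the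
linked Grassmannian of rank-r sub-bundles (subspaces V_i of k ⊗ k^d with quotient of rank d − r,
with f_i(V_i) ⊆ V_{i+1} and g_i(V_{i+1}) ⊆ V_i). Then (V_i) is exact, meaning ker g_i ∩ V_{i+1} ⊆
f_i(V_i) and ker f_i ∩ V_i ⊆ g_i(V_{i+1}) for all i, if and only if dim f_i(V_i) + dim g_i(V_{i+1})
= r for all i. (The published assertion is for points with values in an arbitrary scheme and also
says that f_i(V_i) and g_i(V_{i+1}) are then sub-bundles; this row is the case of a field, where the
last clause is empty.) -/
theorem result (k : Type u) [Field k]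
    (d r n : ℕ) (hr : 0 < r) (hrd : r < d) (f g : Fin n → ((Fin d → k) →ₗ[k] (Fin d → k)))
    (hI : ∀ i, (f i).comp (g i) = 0 ∧ (g i).comp (f i) = 0)
    (hII : ∀ i, d ≤ Module.finrank k (LinearMap.range (f i)) + Module.finrank k (LinearMap.range (g i)))
    (hIII : ∀ i j : Fin n, i.val + 1 = j.val →
      LinearMap.range (f i) ⊓ LinearMap.ker (f j) = ⊥ ∧
        LinearMap.range (g j) ⊓ LinearMap.ker (g i) = ⊥)
    (V : Fin (n + 1) → Module.Grassmannian k (k ⊗[k] (Fin d → k)) (d - r))
    (hV : V ∈ W4c1limliniiii.LGPoints k d r n f g k) :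
    W4c1limliniiii.IsExact k d r n f g k V ↔
      ∀ i : Fin n,
        Module.finrank k ↥(Submodule.map ((f i).baseChange k) (V i.castSucc).toSubmodule) +
          Module.finrank k ↥(Submodule.map ((g i).baseChange k) (V i.succ).toSubmodule) = r := by
  refine forall_congr' fun i => ?_
  set F := (f i).baseChange k with hF
  set G := (g i).baseChange k with hG
  set A := (V i.castSucc).toSubmodule with hA
  set B := (V i.succ).toSubmodule with hB
  have hdimr : ∀ j, Module.finrank k ↥(V j).toSubmodule = r := by
    intro j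
    have h1 := Submodule.finrank_quotient_add_finrank (V j).toSubmodule
    have h2 : Module.finrank k ((k ⊗[k] (Fin d → k)) ⧸ (V j).toSubmodule) = d - r := by
      have := (V j).rankAtStalk_eq ⟨⊥, Ideal.isPrime_bot⟩
      rw [Module.rankAtStalk_eq_finrank_of_free] at this
      simpa using this
    have h3 : Module.finrank k (k ⊗[k] (Fin d → k)) = d := by
      rw [(TensorProduct.lid k (Fin d → k)).finrank_eq, Module.finrank_fin_fun]
    omega
  have hFG : F.comp G = 0 := by rw [hF, hG, ← LinearMap.baseChange_comp, (hI i).1, LinearMap.baseChange_zero]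
  have hGF : G.comp F = 0 := by rw [hF, hG, ← LinearMap.baseChange_comp, (hI i).2, LinearMap.baseChange_zero]
  obtain ⟨hfV, hgV⟩ := hV i
  have hsub1 : Submodule.map F A ≤ LinearMap.ker G ⊓ B := le_inf (by
    rintro _ ⟨x, _, rfl⟩; exact LinearMap.congr_fun hGF x) hfV
  have hsub2 : Submodule.map G B ≤ LinearMap.ker F ⊓ A := le_inf (by
    rintro _ ⟨x, _, rfl⟩; exact LinearMap.congr_fun hFG x) hgV
  have gen : ∀ {M : Type u} [AddCommGroup M] [Module k M] [FiniteDimensional k M] (φ : M →ₗ[k] M)
      (W : Submodule k M), Module.finrank k ↥(Submodule.map φ W) +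
        Module.finrank k ↥(LinearMap.ker φ ⊓ W) = Module.finrank k ↥W := by
    intro M _ _ _ φ W
    have h := LinearMap.finrank_range_add_finrank_ker (φ.domRestrict W)
    rw [LinearMap.range_domRestrict] at h
    rw [← h]
    congr 1
    rw [LinearMap.ker_domRestrict, inf_comm, ← Submodule.map_comap_subtype,
      Submodule.finrank_map_subtype_eq]
  have rn := @gen (k ⊗[k] (Fin d → k)) _ _ _
  have hrA := rn F A
  have hrB := rn G B
  rw [hdimr] at hrA hrB
  constructor
  · rintro ⟨h1, h2⟩
    have := le_antisymm hsub2 h2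
    rw [this]
    omega
  · intro h
    exact ⟨(Submodule.eq_of_le_of_finrank_le hsub1 (by omega)).ge,
      (Submodule.eq_of_le_of_finrank_le hsub2 (by omega)).ge⟩

end Groth.Agent.S19562
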