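import Groth.Statements.S19564
import Groth.Agent.FrobAlg53.Quadric

set_option autoImplicit false
universe u
open scoped BigOperators
open FrobAlg

namespace Groth.Agent.S19564

/-- Let k be a perfect field of characteristic p ≥ 3 and n ≥ 3. Then the ordinary double point k[x_1,
y_1, …, x_n, y_n]/(x_1y_1 + ⋯ + x_ny_n), the affine cone over the split quadric in 2n ≥ 6 variables,
admits no flat lifting over W₂(k) compatible with Frobenius (no flat W₂(k)-algebra reducing to it
that carries a ring endomorphism which is σ₂-semilinear and reduces to the p-th power map). (The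
published statement is for any number N ≥ 5 of variables and allows arbitrary terms of degree ≥ 3 to
be added to a non-degenerate quadratic form; this row is the case of the split form in an even
number of variables with nothing added, the case in which the argument is a pure comparison of
homogeneous components.) -/
theorem result
    (p : ℕ) [Fact p.Prime] (hp : 3 ≤ p) (k : Type u) [Field k] [CharP k p] [PerfectRing k p]
    (n : ℕ) (hn : 3 ≤ n) :
    ¬ FrobAlg.IsFLiftable p k
      (MvPolynomial (Fin n × Fin 2) k ⧸ Ideal.span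
        {(∑ i : Fin n, MvPolynomial.X (i, (0 : Fin 2)) * MvPolynomial.X (i, (1 : Fin 2)) : MvPolynomial (Fin n × Fin 2) k)}) := by
  classical
  open MvPolynomial in
  set q : MvPolynomial (Fin n × Fin 2) k := ∑ i : Fin n, X (i, (0 : Fin 2)) * X (i, (1 : Fin 2)) with hq
  let Q : Ideal (MvPolynomial (Fin n × Fin 2) k) := Ideal.span {q}
  rintro ⟨B, _, ι, π, Φ, hΦ⟩
  have hB := hΦ.toIsLift
  obtain ⟨C', hC⟩ := Groth.Agent.FrobAlg53.exists_freshman p n
  choose L hL using fun v : Fin n × Fin 2 => hB.surj (Ideal.Quotient.mk Q (MvPolynomial.X v))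
  have hp2 : (p : B) * (p : B) = 0 := Groth.Agent.FrobAlg53.p_sq_of_hom ι
  have hΦL : ∀ v, ∃ a, Φ (L v) - L v ^ p = (p : B) * a := fun v =>
    (Groth.Agent.FrobAlg53.lift_ker hB _).1 (by rw [map_sub, hΦ.red, map_pow, sub_self])
  choose c hc using hΦL
  obtain ⟨g, hg⟩ : ∃ g, ∑ i, L (i, 0) * L (i, 1) = (p : B) * g := (Groth.Agent.FrobAlg53.lift_ker hB _).1 (by
    simp only [map_sum, map_mul, hL]
    simp only [← map_mul, ← map_sum]
    exact Ideal.Quotient.eq_zero_iff_mem.2 (Ideal.subset_span rfl))
  set U : Fin n → B := fun i => L (i, 0) * L (i, 1) with hU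
  have h := congrArg (MvPolynomial.aeval U) hC
  simp only [map_add, map_mul, map_sum, map_pow, MvPolynomial.aeval_X, MvPolynomial.aeval_C, map_natCast] at h
  rw [show ∑ i, U i = (p : B) * g from hg] at h
  have hL0 : ((p : B) * g) ^ p = 0 := by
    obtain ⟨m, hm⟩ := Nat.exists_eq_add_of_le (Fact.out : p.Prime).two_le
    rw [hm] at hp2 ⊢
    rw [pow_add, pow_two]
    linear_combination (g * g * ((((2 + m : ℕ) : B)) * g) ^ m) * hp2
  rw [hL0] at h
  have hsum : (p : B) * Φ g = ∑ i, Φ (U i) := by
    rw [← map_natCast Φ, ← map_mul, ← hg, map_sum]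
  have hexp : ∀ i, Φ (U i) = U i ^ p + (p : B) * (c (i, 0) * L (i, 1) ^ p + c (i, 1) * L (i, 0) ^ p) := by
    intro i
    simp only [hU, map_mul]
    rw [show Φ (L (i, 0)) = L (i, 0) ^ p + (p : B) * c (i, 0) by rw [← hc]; ring,
      show Φ (L (i, 1)) = L (i, 1) ^ p + (p : B) * c (i, 1) by rw [← hc]; ring]
    linear_combination (c (i, 0) * c (i, 1)) * hp2
  rw [Finset.sum_congr rfl fun i _ => hexp i, Finset.sum_add_distrib, ← Finset.mul_sum] at hsum
  have hkey : π (Φ g) = π (∑ i, (c (i, 0) * L (i, 1) ^ p + c (i, 1) * L (i, 0) ^ p) - MvPolynomial.aeval U C') :=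
    (Groth.Agent.FrobAlg53.lift_mul_p_eq_iff hB _ _).1 (by linear_combination hsum - h)
  rw [hΦ.red, map_sub] at hkey
  let S : MvPolynomial (Fin n × Fin 2) k := MvPolynomial.aeval (fun i => (MvPolynomial.X (i, (0 : Fin 2)) * MvPolynomial.X (i, (1 : Fin 2)) : MvPolynomial (Fin n × Fin 2) k)) C'
  have h3 : Ideal.Quotient.mk Q S = π (MvPolynomial.aeval U C') := by
    have : (Ideal.Quotient.mk Q).comp (MvPolynomial.aeval (R := ℤ) fun i => (MvPolynomial.X (i, (0 : Fin 2)) * MvPolynomial.X (i, (1 : Fin 2)) :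
        MvPolynomial (Fin n × Fin 2) k)).toRingHom = π.comp (MvPolynomial.aeval (R := ℤ) U).toRingHom := by
      refine MvPolynomial.ringHom_ext (fun a => ?_) (fun i => ?_)
      · simp [map_intCast]
      · simp [hU, hL]
    exact RingHom.congr_fun this C'
  obtain ⟨G, hG⟩ := Ideal.Quotient.mk_surjective (π g)
  choose cc hcc using fun v => Ideal.Quotient.mk_surjective (π (c v))
  set J := Ideal.span (insert q (Set.range fun v : Fin n × Fin 2 => (MvPolynomial.X v : MvPolynomial (Fin n × Fin 2) k) ^ p)) with hJ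
  have hQJ : Q ≤ J := Ideal.span_mono (by simp)
  have hXp : ∀ v, (MvPolynomial.X v : MvPolynomial (Fin n × Fin 2) k) ^ p ∈ J := fun v =>
    Ideal.subset_span (Set.mem_insert_of_mem _ ⟨v, rfl⟩)
  let T := ∑ i, (cc (i, 0) * (MvPolynomial.X (i, 1) : MvPolynomial (Fin n × Fin 2) k) ^ p +
    cc (i, 1) * (MvPolynomial.X (i, 0) : MvPolynomial (Fin n × Fin 2) k) ^ p)
  have hS : S + G ^ p ∈ J := by
    have h4 : Ideal.Quotient.mk Q (G ^ p) = Ideal.Quotient.mk Q (T - S) := by
      have hG' : Ideal.Quotient.mk Q G = π g := hG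
      have hcc' : ∀ v, Ideal.Quotient.mk Q (cc v) = π (c v) := hcc
      simp only [T, map_sub, map_sum, map_add, map_mul, map_pow, hG', hcc', h3, hL] at hkey ⊢
      exact hkey
    have h5 := hQJ (Ideal.Quotient.eq.1 h4)
    have hT : T ∈ J := Submodule.sum_mem _ fun i _ =>
      J.add_mem (J.mul_mem_left _ (hXp _)) (J.mul_mem_left _ (hXp _))
    have := J.add_mem h5 hT
    convert this using 1
    ring
  have hGp : ∀ f : MvPolynomial (Fin n × Fin 2) k, f ^ p - MvPolynomial.C (MvPolynomial.constantCoeff f ^ p) ∈ J := by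
    intro f
    induction f using MvPolynomial.induction_on with
    | C a => simp
    | add a b ha hb =>
      rw [add_pow_char, map_add, add_pow_char, map_add]
      convert J.add_mem ha hb using 1
      ring
    | mul_X a v _ =>
      rw [map_mul, MvPolynomial.constantCoeff_X, mul_zero, zero_pow (Fact.out : p.Prime).ne_zero, map_zero, sub_zero,
        mul_pow]
      exact J.mul_mem_left _ (hXp v)
  have hS0 : MvPolynomial.constantCoeff S = 0 := by
    have hp0 : (p : ℤ) ≠ 0 := by exact_mod_cast (Fact.out : p.Prime).ne_zero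
    have h1 := congrArg MvPolynomial.constantCoeff hC
    simp only [map_add, map_mul, map_sum, map_pow, MvPolynomial.constantCoeff_X, MvPolynomial.constantCoeff_C,
      zero_pow (Fact.out : p.Prime).ne_zero, Finset.sum_const_zero, zero_add] at h1
    have h2 : MvPolynomial.constantCoeff C' = 0 := (mul_eq_zero.1 h1.symm).resolve_left hp0
    have : (MvPolynomial.constantCoeff (R := k) (σ := Fin n × Fin 2)).comp (MvPolynomial.aeval (R := ℤ) fun i => (MvPolynomial.X (i, (0 : Fin 2)) * MvPolynomial.X (i, (1 : Fin 2)) :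
        MvPolynomial (Fin n × Fin 2) k)).toRingHom = (Int.castRingHom k).comp MvPolynomial.constantCoeff :=
      MvPolynomial.ringHom_ext (fun a => by simp) (fun i => by simp)
    show MvPolynomial.constantCoeff S = 0
    rw [show MvPolynomial.constantCoeff S = Int.castRingHom k (MvPolynomial.constantCoeff C') from RingHom.congr_fun this C',
      h2, map_zero]
  have hle : J ≤ RingHom.ker (MvPolynomial.constantCoeff (R := k) (σ := Fin n × Fin 2)) := by
    refine Ideal.span_le.2 ?_
    rintro _ (rfl | ⟨v, rfl⟩)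
    · simp [hq]
    · simp [(Fact.out : p.Prime).ne_zero]
  have h6 : S + MvPolynomial.C (MvPolynomial.constantCoeff G ^ p) ∈ J := by
    convert J.sub_mem hS (hGp G) using 1
    ring
  have h7 := hle h6
  simp only [RingHom.mem_ker, map_add, hS0, MvPolynomial.constantCoeff_C, zero_add] at h7
  rw [h7, map_zero, add_zero] at h6
  exact Groth.Agent.FrobAlg53.freshman_not_mem hn C' hC h6

end Groth.Agent.S19564
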