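import Groth.Statements.S19566
import Groth.Agent.StMass44.Mass

set_option autoImplicit false
universe u
open CategoryTheory CategoryTheory.Limits AlgebraicGeometry
open AlgSt

namespace Groth.Agent.S19566

/-- Let F be a finite field, X a smooth F-scheme of finite type, and G a smooth affine connected F-group
scheme acting on X. Form the quotient stack [X/G] as the category over F-schemes whose objects over
T are fppf G-torsors P → T (as schemes) with a G-equivariant map P → X, and take its fibre category
over Spec F itself. Then the isomorphism classes of this fibre are finite in number, each of its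
objects has a finite automorphism group, and the mass Σ_{[ξ]} 1/#Aut(ξ) over the isomorphism classes
equals #X(F) / #G(F), the number of F-points of X divided by the order of the finite group G(F).
(The published statement allows X to be a smooth Deligne–Mumford stack, with 1/#Aut(x) weights on
the right as well, and G any connected algebraic group; this row is the case of a scheme X and a
smooth affine G, where F-points of X have no automorphisms.) -/
theorem result
    {F : Type u} [Field F] [Finite F]
    (X G : Over (Spec (CommRingCat.of F))) [GrpObj G] (aX : AlgGrp.Action G X)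
    [Smooth X.hom] [QuasiCompact X.hom] [Smooth G.hom] [IsAffineHom G.hom] [ConnectedSpace ↥G.left] :
    Finite (Quotient (isIsomorphicSetoid ((AlgSt.QuotSt Scheme.fppfPrecoverage G aX).p.Fiber (Over.mk (𝟙 (Spec (CommRingCat.of F))))))) ∧
      (∀ ξ : ((AlgSt.QuotSt Scheme.fppfPrecoverage G aX).p.Fiber (Over.mk (𝟙 (Spec (CommRingCat.of F))))), Finite (Aut ξ)) ∧
      ∑ᶠ c : Quotient (isIsomorphicSetoid ((AlgSt.QuotSt Scheme.fppfPrecoverage G aX).p.Fiber (Over.mk (𝟙 (Spec (CommRingCat.of F)))))), ((Nat.card (Aut c.out) : ℚ))⁻¹ =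
        (Nat.card (Over.mk (𝟙 (Spec (CommRingCat.of F))) ⟶ X) : ℚ) /
          (Nat.card (Over.mk (𝟙 (Spec (CommRingCat.of F))) ⟶ G) : ℚ) := by
  open scoped MonObj GrpObj in
  letI : MulAction (Over.mk (𝟙 (Spec (CommRingCat.of F))) ⟶ G) (Over.mk (𝟙 (Spec (CommRingCat.of F))) ⟶ X) :=
    Groth.Agent.StMass44.ptAction aX _
  haveI : IsAffine G.left := isAffine_of_isAffineHom G.hom
  haveI hXf : Finite (Over.mk (𝟙 (Spec (CommRingCat.of F))) ⟶ X) := Groth.Agent.StMass44.finite_points
  haveI hGf : Finite (Over.mk (𝟙 (Spec (CommRingCat.of F))) ⟶ G) := Groth.Agent.StMass44.finite_points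
  let f : (Over.mk (𝟙 (Spec (CommRingCat.of F))) ⟶ X) → Quotient (isIsomorphicSetoid
      ((AlgSt.QuotSt Scheme.fppfPrecoverage G aX).p.Fiber (Over.mk (𝟙 (Spec (CommRingCat.of F)))))) :=
    fun x => Quotient.mk _ (Groth.Agent.StMass44.trivFib aX x)
  have hf : Function.Surjective f := fun c => by
    obtain ⟨A, rfl⟩ := Quotient.exists_rep c
    obtain ⟨x, hx⟩ := Groth.Agent.StMass44.exists_iso_triv aX A
    exact ⟨x, Quotient.sound hx⟩
  have haut : ∀ (A : (AlgSt.QuotSt Scheme.fppfPrecoverage G aX).p.Fiber (Over.mk (𝟙 (Spec (CommRingCat.of F))))) x,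
      IsIsomorphic (Groth.Agent.StMass44.trivFib aX x) A →
        Nonempty (Aut A ≃ Aut (Groth.Agent.StMass44.trivFib aX x)) := fun A x ⟨e⟩ => ⟨e.symm.conjAut.toEquiv⟩
  have hfin : ∀ A, Finite (Aut A) := fun A => by
    obtain ⟨x, hx⟩ := Groth.Agent.StMass44.exists_iso_triv aX A
    obtain ⟨e⟩ := haut A x hx
    obtain ⟨e'⟩ := Groth.Agent.StMass44.nonempty_hom_equiv aX x x
    have : Finite (Groth.Agent.StMass44.trivFib aX x ⟶ Groth.Agent.StMass44.trivFib aX x) :=
      Finite.of_equiv _ e'.symm
    have : Finite (Aut (Groth.Agent.StMass44.trivFib aX x)) :=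
      Finite.of_injective (fun a => a.hom) fun a b h => Iso.ext h
    exact Finite.of_equiv _ e.symm
  refine ⟨Finite.of_surjective f hf, hfin,
    Groth.Agent.StMass44.sum_inv_card f hf (fun x y => ?_) (fun c => Nat.card (Aut c.out)) fun x => ?_⟩
  · exact Quotient.eq.trans (Groth.Agent.StMass44.isIsomorphic_triv_iff aX x y)
  · obtain ⟨e⟩ := haut (f x).out x (Quotient.eq.1 (Quotient.out_eq (f x)).symm)
    exact (Nat.card_congr e).trans ((Groth.Agent.StMass44.card_aut_triv aX x).trans
      (Nat.card_congr (Equiv.refl _)))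

end Groth.Agent.S19566
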