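import Groth.Statements.S19567
import Groth.Agent.Hens22.PairHens

set_option autoImplicit false
universe u
open Hensel

namespace Groth.Agent.S19567

/-- Let A be a ring and I an ideal of A, and consider étale A-algebras A' for which the induced map A/I
→ A'/IA' is bijective. (1) For any two such algebras A₁ and A₂ there is a third such algebra A₃
admitting A-algebra maps from both. (2) For any two A-algebra maps f, g : A₁ → A₂ between such
algebras there are such an algebra A₃ and an A-algebra map h : A₂ → A₃ with h ∘ f = h ∘ g. (All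
algebras are taken in the universe of A. Since A itself is such an algebra, (1) and (2) say that the
category of these algebras and A-algebra maps is filtered.) -/
theorem result (A : Type u) [CommRing A] (I : Ideal A) :
    (∀ (A₁ A₂ : Type u) [CommRing A₁] [Algebra A A₁] [Algebra.Etale A A₁] [CommRing A₂] [Algebra A A₂]
        [Algebra.Etale A A₂],
        Function.Bijective (Ideal.quotientMap (I.map (algebraMap A A₁)) (algebraMap A A₁) Ideal.le_comap_map) →
        Function.Bijective (Ideal.quotientMap (I.map (algebraMap A A₂)) (algebraMap A A₂) Ideal.le_comap_map) →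
          ∃ (A₃ : Type u) (_ : CommRing A₃) (_ : Algebra A A₃) (_ : Algebra.Etale A A₃),
            Function.Bijective (Ideal.quotientMap (I.map (algebraMap A A₃)) (algebraMap A A₃) Ideal.le_comap_map) ∧
              Nonempty (A₁ →ₐ[A] A₃) ∧ Nonempty (A₂ →ₐ[A] A₃)) ∧
    (∀ (A₁ A₂ : Type u) [CommRing A₁] [Algebra A A₁] [Algebra.Etale A A₁] [CommRing A₂] [Algebra A A₂]
        [Algebra.Etale A A₂],
        Function.Bijective (Ideal.quotientMap (I.map (algebraMap A A₁)) (algebraMap A A₁) Ideal.le_comap_map) →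
        Function.Bijective (Ideal.quotientMap (I.map (algebraMap A A₂)) (algebraMap A A₂) Ideal.le_comap_map) →
          ∀ (f g : A₁ →ₐ[A] A₂),
            ∃ (A₃ : Type u) (_ : CommRing A₃) (_ : Algebra A A₃) (_ : Algebra.Etale A A₃),
              Function.Bijective (Ideal.quotientMap (I.map (algebraMap A A₃)) (algebraMap A A₃) Ideal.le_comap_map) ∧
                ∃ h : A₂ →ₐ[A] A₃, h.comp f = h.comp g) := by
  have key : ∀ (A₁ : Type u) [CommRing A₁] [Algebra A A₁] [Algebra.Etale A A₁],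
      Function.Bijective
        (Ideal.quotientMap (I.map (algebraMap A A₁)) (algebraMap A A₁) Ideal.le_comap_map) →
      ∃ (i : Henz21.Pt A (A ⧸ I)), Nonempty (A₁ ≃ₐ[A] i.S) := by
    intro A₁ _ _ _ h
    obtain ⟨σ, -⟩ := Hens22.exists_pt_of_bijective I A₁ h
    obtain ⟨i, e, -⟩ := Henz21.Pt.exists_equiv A₁ σ
    exact ⟨i, ⟨e⟩⟩
  refine ⟨fun A₁ A₂ _ _ _ _ _ _ h₁ h₂ => ?_, fun A₁ A₂ _ _ _ _ _ _ h₁ h₂ f g => ?_⟩
  · obtain ⟨i, ⟨e₁⟩⟩ := key A₁ h₁
    obtain ⟨j, ⟨e₂⟩⟩ := key A₂ h₂
    obtain ⟨S, hc, ha, he, φ, -, -, hS⟩ :=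
      Hens22.exists_trivial_refinement I (CategoryTheory.IsFiltered.max i j)
    exact ⟨S, hc, ha, he, hS,
      ⟨(φ.comp (CategoryTheory.IsFiltered.leftToMax i j).φ).comp e₁.toAlgHom⟩,
      ⟨(φ.comp (CategoryTheory.IsFiltered.rightToMax i j).φ).comp e₂.toAlgHom⟩⟩
  · obtain ⟨σ₁, -⟩ := Hens22.exists_pt_of_bijective I A₁ h₁
    obtain ⟨σ₂, -⟩ := Hens22.exists_pt_of_bijective I A₂ h₂
    obtain ⟨i, e₁, he₁⟩ := Henz21.Pt.exists_equiv A₁ σ₁
    obtain ⟨j, e₂, he₂⟩ := Henz21.Pt.exists_equiv A₂ σ₂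
    have hbot : I.map (algebraMap A (A ⧸ I)) = ⊥ := by
      rw [Ideal.Quotient.algebraMap_eq, Ideal.map_quotient_self]
    have hcomp : ∀ k : A₁ →ₐ[A] A₂,
        j.pt.comp ((e₂.toAlgHom.comp k).comp e₁.symm.toAlgHom) = i.pt := by
      intro k
      ext x
      obtain ⟨y, rfl⟩ := e₁.surjective x
      have := DFunLike.congr_fun (Hens22.pt_unique I A₁ h₁.2 hbot (σ₂.comp k) σ₁) y
      simpa [he₁, he₂] using this
    let F : i ⟶ j := ⟨_, hcomp f⟩
    let G : i ⟶ j := ⟨_, hcomp g⟩
    obtain ⟨S, hc, ha, he, φ, -, -, hS⟩ :=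
      Hens22.exists_trivial_refinement I (CategoryTheory.IsFiltered.coeq F G)
    refine ⟨S, hc, ha, he, hS,
      (φ.comp (CategoryTheory.IsFiltered.coeqHom F G).φ).comp e₂.toAlgHom, ?_⟩
    ext x
    have := congrArg (fun h => φ (Henz21.Pt.Hom.φ h (e₁ x)))
      (CategoryTheory.IsFiltered.coeq_condition F G)
    simpa [F, G] using this

end Groth.Agent.S19567
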