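import Groth.Statements.S19569
import Mathlib.RingTheory.Smooth.NoetherianDescent
import Mathlib.RingTheory.Etale.Basic
import Mathlib.RingTheory.FinitePresentation
import Mathlib.RingTheory.Polynomial.Basic
import Mathlib.RingTheory.TensorProduct.Maps
import Mathlib.Data.Finset.Order

set_option autoImplicit false
universe u
open CAlg

namespace Groth.Agent.S19569

open TensorProduct in
/-- Let A be the colimit of a directed system of rings (A_i), given by compatible ring maps A_i → A
which are jointly surjective and such that an element of some A_i mapping to zero in A already maps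
to zero in some later A_j, and let B be an étale A-algebra. Then for some index i there is an étale
A_i-algebra B_i such that B is isomorphic, as an A-algebra, to the base change A ⊗_{A_i} B_i
(existence of an isomorphism). (Stated for a system indexed by a directed preordered set.) -/
theorem result {ι : Type u} [Preorder ι] [IsDirected ι (· ≤ ·)] [Nonempty ι]
    (G : ι → Type u) [∀ i, CommRing (G i)] (f : ∀ i j, i ≤ j → (G i →+* G j))
    (A : Type u) [CommRing A] (g : ∀ i, G i →+* A) (hg : ∀ i j (h : i ≤ j), (g j).comp (f i j h) = g i)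
    (hsurj : ∀ a : A, ∃ i, ∃ x : G i, g i x = a)
    (hker : ∀ i (x : G i), g i x = 0 → ∃ j, ∃ h : i ≤ j, f i j h x = 0)
    (B : Type u) [CommRing B] [Algebra A B] [Algebra.Etale A B] :
    ∃ (i : ι) (Bi : Type u) (_ : CommRing Bi) (_ : Algebra (G i) Bi), Algebra.Etale (G i) Bi ∧
      letI : Algebra (G i) A := (g i).toAlgebra
      Nonempty (B ≃ₐ[A] A ⊗[G i] Bi) := by

  classical
  obtain ⟨A₀, B₀, _, _, hA₀, hB₀, ⟨eB⟩⟩ := Algebra.Etale.exists_subalgebra_fg ℤ A B
  haveI : Algebra.FiniteType ℤ A₀ := (Subalgebra.fg_iff_finiteType A₀).mp hA₀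
  haveI : Algebra.FinitePresentation ℤ A₀ := Algebra.FinitePresentation.of_finiteType.mp inferInstance
  obtain ⟨n, π, hπ, T, hT⟩ := (inferInstance : Algebra.FinitePresentation ℤ A₀).out
  choose iv xv hxv using fun k : Fin n => hsurj ((π (MvPolynomial.X k) : A₀) : A)
  obtain ⟨l, hl⟩ := Finset.exists_le (Finset.univ.image iv)
  let x : Fin n → G l := fun k =>
    f (iv k) l (hl _ (Finset.mem_image_of_mem _ (Finset.mem_univ k))) (xv k)
  have hx : ∀ k, g l (x k) = ((π (MvPolynomial.X k) : A₀) : A) := fun k => by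
    rw [← RingHom.comp_apply, hg, hxv]
  let ψ : MvPolynomial (Fin n) ℤ →ₐ[ℤ] G l := MvPolynomial.aeval x
  have hψ : (g l).toIntAlgHom.comp ψ = A₀.val.comp π := MvPolynomial.algHom_ext fun k => by
    simp only [ψ, AlgHom.comp_apply, MvPolynomial.aeval_X]
    exact hx k
  have hT' : ∀ t ∈ T, π t = 0 := fun t ht => by
    have h1 : t ∈ Ideal.span (T : Set (MvPolynomial (Fin n) ℤ)) := Ideal.subset_span ht
    rw [hT] at h1
    exact h1
  have hkill : ∀ S ⊆ T, ∃ m, ∃ h : G l →+* G m, (g m).comp h = g l ∧ ∀ t ∈ S, h (ψ t) = 0 := by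
    intro S
    induction S using Finset.induction with
    | empty => exact fun _ => ⟨l, RingHom.id _, RingHom.comp_id _, by simp⟩
    | insert t S _ ih =>
      intro hS
      obtain ⟨m, h, hh, hk⟩ := ih (fun s hs => hS (Finset.mem_insert_of_mem hs))
      obtain ⟨m', hm, hm'⟩ := hker m (h (ψ t)) (by
        rw [← RingHom.comp_apply, hh]
        show (g l).toIntAlgHom (ψ t) = 0
        rw [← AlgHom.comp_apply, hψ, AlgHom.comp_apply, hT' t (hS (Finset.mem_insert_self _ _)), map_zero])
      refine ⟨m', (f m m' hm).comp h, by rw [← RingHom.comp_assoc, hg, hh], fun s hs => ?_⟩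
      rcases Finset.mem_insert.mp hs with rfl | hs
      · exact hm'
      · rw [RingHom.comp_apply, hk s hs, map_zero]
  obtain ⟨m, h, hh, hk⟩ := hkill T (Finset.Subset.refl _)
  let ψ' : MvPolynomial (Fin n) ℤ →ₐ[ℤ] G m := h.toIntAlgHom.comp ψ
  have hker' : RingHom.ker π ≤ RingHom.ker ψ' := by
    show RingHom.ker π.toRingHom ≤ _
    rw [← hT, Ideal.span_le]
    exact fun t ht => hk t ht
  let τ : A₀ →ₐ[ℤ] G m := (Ideal.Quotient.liftₐ (RingHom.ker π) ψ' fun t ht => hker' ht).comp
    (Ideal.quotientKerAlgEquivOfSurjective hπ).symm.toAlgHom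
  have hτ : ∀ a : A₀, g m (τ a) = a := by
    intro a
    obtain ⟨p, rfl⟩ := hπ a
    have e : (Ideal.quotientKerAlgEquivOfSurjective hπ).symm (π p) = Ideal.Quotient.mk _ p := by
      rw [AlgEquiv.symm_apply_eq]; rfl
    show g m (Ideal.Quotient.liftₐ (RingHom.ker π) ψ' (fun t ht => hker' ht)
      ((Ideal.quotientKerAlgEquivOfSurjective hπ).symm (π p))) = _
    rw [e]
    show g m (h (ψ p)) = _
    exact ((DFunLike.congr_fun hh (ψ p)).trans (DFunLike.congr_fun hψ p))
  letI : Algebra A₀ (G m) := τ.toRingHom.toAlgebra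
  letI : Algebra (G m) A := (g m).toAlgebra
  haveI : IsScalarTower A₀ (G m) A := IsScalarTower.of_algebraMap_eq fun a => (hτ a).symm
  refine ⟨m, G m ⊗[A₀] B₀, inferInstance, inferInstance, inferInstance, ?_⟩
  exact ⟨eB.trans (Algebra.TensorProduct.cancelBaseChange A₀ (G m) A A B₀).symm⟩

end Groth.Agent.S19569
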