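import Groth.Statements.S1957
import Groth.Agent.CAlg1.EtaleShrink

set_option autoImplicit false
universe u
open Polynomial
open EtAlg

namespace Groth.Agent.S1957

theorem bijective_quotientMap_away {A A' : Type u} [CommRing A] [CommRing A'] [Algebra A A']
    (I : Ideal A) (a : A) (ha : IsUnit (Ideal.Quotient.mk I a))
    (h : Function.Bijective
      (Ideal.quotientMap (I.map (algebraMap A A')) (algebraMap A A') Ideal.le_comap_map)) :
    Function.Bijective
      (Ideal.quotientMap (I.map (algebraMap A (Localization.Away (algebraMap A A' a))))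
        (algebraMap A (Localization.Away (algebraMap A A' a))) Ideal.le_comap_map) := by
  set L := Localization.Away (algebraMap A A' a)
  obtain ⟨v, hv⟩ := isUnit_iff_exists_inv'.1 ha
  obtain ⟨v, rfl⟩ := Ideal.Quotient.mk_surjective v
  rw [← map_mul, ← map_one (Ideal.Quotient.mk I), Ideal.Quotient.eq] at hv
  have hmap : I.map (algebraMap A L) = (I.map (algebraMap A A')).map (algebraMap A' L) := by
    rw [Ideal.map_map, ← IsScalarTower.algebraMap_eq]
  refine ⟨?_, fun z => ?_⟩
  · rw [injective_iff_map_eq_zero]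
    intro x hx
    obtain ⟨b, rfl⟩ := Ideal.Quotient.mk_surjective x
    rw [Ideal.quotientMap_mk, Ideal.Quotient.eq_zero_iff_mem, hmap,
      IsScalarTower.algebraMap_apply A A' L,
      IsLocalization.algebraMap_mem_map_algebraMap_iff (Submonoid.powers (algebraMap A A' a)) L]
      at hx
    obtain ⟨_, ⟨n, rfl⟩, hn⟩ := hx
    dsimp only at hn
    rw [← map_pow, ← map_mul] at hn
    have h1 : Ideal.Quotient.mk I (a ^ n * b) = 0 := by
      apply h.1
      rw [Ideal.quotientMap_mk, map_zero, Ideal.Quotient.eq_zero_iff_mem]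
      exact hn
    rw [map_mul, map_pow] at h1
    exact ((ha.pow n).mul_right_eq_zero).1 h1
  · obtain ⟨y, rfl⟩ := Ideal.Quotient.mk_surjective z
    obtain ⟨x, ⟨_, n, rfl⟩, rfl⟩ := IsLocalization.exists_mk'_eq
      (Submonoid.powers (algebraMap A A' a)) y
    obtain ⟨b, hb⟩ := h.2 (Ideal.Quotient.mk _ x)
    obtain ⟨b, rfl⟩ := Ideal.Quotient.mk_surjective b
    refine ⟨Ideal.Quotient.mk I (b * v ^ n), ?_⟩
    rw [Ideal.quotientMap_mk]
    have h1 : algebraMap A L (v * a) - 1 ∈ I.map (algebraMap A L) := by
      simpa using Ideal.mem_map_of_mem (algebraMap A L) hv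
    rw [← Ideal.Quotient.eq_zero_iff_mem, map_sub, map_one, sub_eq_zero] at h1
    have h2 : Ideal.Quotient.mk (I.map (algebraMap A L)) (algebraMap A L b) =
        Ideal.Quotient.mk _ (algebraMap A' L x) := by
      rw [Ideal.quotientMap_mk, Ideal.Quotient.eq] at hb
      rw [Ideal.Quotient.eq, IsScalarTower.algebraMap_apply A A' L, ← map_sub, hmap]
      exact Ideal.mem_map_of_mem _ hb
    have h3 := congrArg (Ideal.Quotient.mk (I.map (algebraMap A L))) (IsLocalization.mk'_spec L x
      (⟨algebraMap A A' a ^ n, n, rfl⟩ : Submonoid.powers (algebraMap A A' a)))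
    simp only [map_mul, map_pow, ← IsScalarTower.algebraMap_apply] at h3
    rw [map_mul, map_mul, map_pow, map_pow, h2, ← h3, mul_assoc, ← mul_pow]
    have h4 : Ideal.Quotient.mk (I.map (algebraMap A L)) (algebraMap A L a) *
        Ideal.Quotient.mk (I.map (algebraMap A L)) (algebraMap A L v) = 1 := by
      rw [← map_mul, ← map_mul, mul_comm a v, h1]
    rw [h4, one_pow, mul_one]

/-- Let A be a ring, I an ideal and f a monic polynomial over A. Suppose the image of f in (A/I)[x]
factors as g h where the leading coefficient of g is a unit and g, h generate the unit ideal. Then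
there is an etale A-algebra A' such that A/I -> A'/IA' is bijective, together with a factorization f
= g' h' in A'[x] whose reduction modulo IA' is the image of the given one. -/
theorem result (A : Type u) [CommRing A] (I : Ideal A) (f : A[X]) (hf : f.Monic)
    (g h : (A ⧸ I)[X]) (hgh : f.map (Ideal.Quotient.mk I) = g * h) (hlead : IsUnit g.leadingCoeff)
    (hcop : IsCoprime g h) :
    ∃ (A' : Type u) (_ : CommRing A') (_ : Algebra A A') (_ : Algebra.Etale A A'),
      Function.Bijective (Ideal.quotientMap (I.map (algebraMap A A')) (algebraMap A A') Ideal.le_comap_map) ∧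
      ∃ g' h' : A'[X], f.map (algebraMap A A') = g' * h' ∧
        g'.map (Ideal.Quotient.mk (I.map (algebraMap A A'))) =
          g.map (Ideal.quotientMap (I.map (algebraMap A A')) (algebraMap A A') Ideal.le_comap_map) ∧
        h'.map (Ideal.Quotient.mk (I.map (algebraMap A A'))) =
          h.map (Ideal.quotientMap (I.map (algebraMap A A')) (algebraMap A A') Ideal.le_comap_map) := by
  obtain ⟨c, hc⟩ := hlead
  have hlc : (c : A ⧸ I) * h.leadingCoeff = 1 := by
    rcases subsingleton_or_nontrivial (A ⧸ I) with hsub | hnt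
    · exact Subsingleton.elim _ _
    · have hm : (g * h).Monic := hgh ▸ hf.map _
      have h0 : h ≠ 0 := by
        intro h0
        rw [h0, mul_zero] at hm
        exact hm.ne_zero rfl
      have : g.leadingCoeff * h.leadingCoeff ≠ 0 := by
        rw [← hc, Ne, c.mul_right_eq_zero]
        exact leadingCoeff_ne_zero.2 h0
      rw [hc, ← leadingCoeff_mul' this, hm.leadingCoeff]
  have hg0 : (C (c⁻¹ : (A ⧸ I)ˣ).1 * g).Monic :=
    monic_C_mul_of_mul_leadingCoeff_eq_one (by rw [← hc, Units.inv_mul])
  have hh0 : (C c.1 * h).Monic := monic_C_mul_of_mul_leadingCoeff_eq_one hlc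
  have hu₁ : IsUnit (C (c⁻¹ : (A ⧸ I)ˣ).1) := isUnit_C.2 (Units.isUnit _)
  have hu₂ : IsUnit (C c.1) := isUnit_C.2 (Units.isUnit _)
  obtain ⟨A', _, _, _, hbij, g', h', -, -, -, heq, e1, e2⟩ :=
    CAlg1.exists_etale_lift_factorization I f hf _ _ hg0 hh0
      ((isCoprime_mul_unit_left_left hu₁ _ _).2 ((isCoprime_mul_unit_left_right hu₂ _ _).2 hcop))
      (by rw [hgh]; calc g * h = C (((c⁻¹ : (A ⧸ I)ˣ) : A ⧸ I) * c) * (g * h) := by simp
            _ = _ := by rw [map_mul]; ring)
  obtain ⟨a, ha⟩ := Ideal.Quotient.mk_surjective c.1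
  let L := Localization.Away (algebraMap A A' a)
  have : Algebra.Etale A' L := Algebra.Etale.of_isLocalizationAway (algebraMap A A' a)
  have hb' := bijective_quotientMap_away (A' := A') I a (ha ▸ c.isUnit) hbij
  have hu : IsUnit (algebraMap A L a) := by
    rw [IsScalarTower.algebraMap_apply A A' L]
    exact IsLocalization.Away.algebraMap_isUnit _
  obtain ⟨u, hu⟩ := hu
  refine ⟨L, inferInstance, inferInstance, Algebra.Etale.comp A A' L, hb',
    C u.1 * g'.map (algebraMap A' L), C (u⁻¹ : Lˣ).1 * h'.map (algebraMap A' L), ?_, ?_, ?_⟩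
  · rw [IsScalarTower.algebraMap_eq A A' L, ← Polynomial.map_map, heq, Polynomial.map_mul]
    calc _ = C (u.1 * (u⁻¹ : Lˣ).1) * (g'.map (algebraMap A' L) * h'.map (algebraMap A' L)) := by simp
      _ = _ := by rw [map_mul]; ring
  all_goals
    have hle : I.map (algebraMap A A') ≤ (I.map (algebraMap A L)).comap (algebraMap A' L) := by
      rw [IsScalarTower.algebraMap_eq A A' L, ← Ideal.map_map]
      exact Ideal.le_comap_map
    have hmk : (Ideal.Quotient.mk (I.map (algebraMap A L))).comp (algebraMap A' L) =
      (Ideal.quotientMap _ (algebraMap A' L) hle).comp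
        (Ideal.Quotient.mk (I.map (algebraMap A A'))) := rfl
    have hqq : (Ideal.quotientMap _ (algebraMap A' L) hle).comp
        (algebraMap (A ⧸ I) (A' ⧸ I.map (algebraMap A A'))) =
      Ideal.quotientMap (I.map (algebraMap A L)) (algebraMap A L) Ideal.le_comap_map := by
      refine Ideal.Quotient.ringHom_ext (RingHom.ext fun x => ?_)
      exact congrArg (Ideal.Quotient.mk _) (IsScalarTower.algebraMap_apply A A' L x).symm
    have hu' : Ideal.Quotient.mk (I.map (algebraMap A L)) u.1 =
        Ideal.quotientMap (I.map (algebraMap A L)) (algebraMap A L) Ideal.le_comap_map c.1 := by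
      rw [← ha, Ideal.quotientMap_mk, hu]
    rw [Polynomial.map_mul, map_C, Polynomial.map_map, hmk, ← Polynomial.map_map]
  · rw [e1, Polynomial.map_map, hqq, Polynomial.map_mul, map_C, hu', ← mul_assoc, ← map_mul,
      ← map_mul, Units.mul_inv, map_one, map_one, one_mul]
  · rw [e2, Polynomial.map_map, hqq, Polynomial.map_mul, map_C, ← hu', ← mul_assoc, ← map_mul,
      ← map_mul, Units.inv_mul, map_one, map_one, one_mul]

end Groth.Agent.S1957
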