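import Groth.Statements.S19570
import Groth.Agent.Cohen12.EtaleNbhdLift
import Groth.Agent.Smooth28.Lift
import Groth.Agent.Desc59.SmoothRing
import Groth.Agent.EGA4H10.NormalFlat
import Mathlib.RingTheory.Localization.BaseChange

set_option autoImplicit false
universe u
open scoped TensorProduct
open EGA4

namespace Groth.Agent.S19570

/-- Let V be a complete discrete valuation ring of characteristic zero, with maximal ideal 𝔪 and residue
field k, let A₀ be a smooth k-algebra and B₀ a finite étale A₀-algebra. Then A₀ lifts to a smooth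
V-algebra A (an isomorphism k ⊗_V A ≅ A₀ of k-algebras), and the finite étale cover lifts over it:
there is a finite A-algebra B which is a normal ring, with an isomorphism k ⊗_V B ≅ B₀ compatible
with the one for A and with the algebra maps, such that the localization A_T → B_T at T = 1 + 𝔪A is
étale. The published corollary also claims, for the lift it produces, a finite étale lift after
inverting a suitable element and further properties of formal completions of projective closures;
the statement here asserts only that B is finite over A and normal and that A_T → B_T is étale. -/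
theorem result
    (V : Type u) [CommRing V] [IsDomain V] [IsDiscreteValuationRing V] [CharZero V]
    [IsAdicComplete (IsLocalRing.maximalIdeal V) V]
    (A₀ : Type u) [CommRing A₀] [Algebra (IsLocalRing.ResidueField V) A₀]
    [Algebra.Smooth (IsLocalRing.ResidueField V) A₀]
    (B₀ : Type u) [CommRing B₀] [Algebra A₀ B₀] [Algebra (IsLocalRing.ResidueField V) B₀]
    [IsScalarTower (IsLocalRing.ResidueField V) A₀ B₀] [Module.Finite A₀ B₀] [Algebra.Etale A₀ B₀] :
    ∃ (A : Type u) (_ : CommRing A) (_ : Algebra V A) (_ : Algebra.Smooth V A)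
      (e : (IsLocalRing.ResidueField V) ⊗[V] A ≃ₐ[IsLocalRing.ResidueField V] A₀)
      (B : Type u) (_ : CommRing B) (_ : Algebra A B) (_ : Algebra V B) (_ : IsScalarTower V A B)
      (e' : (IsLocalRing.ResidueField V) ⊗[V] B ≃ₐ[IsLocalRing.ResidueField V] B₀),
      Module.Finite A B ∧ EGA4.IsNormalRing B ∧
      (∀ x : (IsLocalRing.ResidueField V) ⊗[V] A,
        e' (Algebra.TensorProduct.map (AlgHom.id (IsLocalRing.ResidueField V) (IsLocalRing.ResidueField V))
          (IsScalarTower.toAlgHom V A B) x) = algebraMap A₀ B₀ (e x)) ∧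
      Algebra.Etale (Localization (MonoidHom.mker (Ideal.Quotient.mk ((IsLocalRing.maximalIdeal V).map (algebraMap V A)))))
        (Localization (Algebra.algebraMapSubmonoid B
          (MonoidHom.mker (Ideal.Quotient.mk ((IsLocalRing.maximalIdeal V).map (algebraMap V A)))))) := by
  classical
  let k := IsLocalRing.ResidueField V
  let : Algebra V A₀ := ((algebraMap k A₀).comp (algebraMap V k)).toAlgebra
  have : IsScalarTower V k A₀ := IsScalarTower.of_algebraMap_eq fun _ => rfl
  let : Algebra V B₀ := ((algebraMap k B₀).comp (algebraMap V k)).toAlgebra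
  have : IsScalarTower V k B₀ := IsScalarTower.of_algebraMap_eq fun _ => rfl
  obtain ⟨A₁, _, _, _, π₁, hπ₁, hker₁⟩ :=
    Smooth28.exists_smooth_lift (R := V) (R₀ := k) (A₀ := A₀) IsLocalRing.residue_surjective
  rw [show RingHom.ker (algebraMap V k) = IsLocalRing.maximalIdeal V from IsLocalRing.ker_residue] at hker₁
  let I := (IsLocalRing.maximalIdeal V).map (algebraMap V A₁)
  let e₁ : (A₁ ⧸ I) ≃ₐ[V] A₀ :=
    (Ideal.quotientEquivAlgOfEq V hker₁.symm).trans (Ideal.quotientKerAlgEquivOfSurjective hπ₁)
  let : Algebra (A₁ ⧸ I) B₀ := ((algebraMap A₀ B₀).comp e₁.toRingEquiv.toRingHom).toAlgebra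
  let : Algebra A₁ B₀ := ((algebraMap (A₁ ⧸ I) B₀).comp (Ideal.Quotient.mk I)).toAlgebra
  have : IsScalarTower A₁ (A₁ ⧸ I) B₀ := IsScalarTower.of_algebraMap_eq fun _ => rfl
  have : Module.Finite (A₁ ⧸ I) B₀ := by
    show ((algebraMap A₀ B₀).comp e₁.toRingEquiv.toRingHom).Finite
    exact (RingHom.finite_algebraMap.mpr inferInstance).comp (RingHom.Finite.of_surjective _ e₁.surjective)
  have : Algebra.Etale (A₁ ⧸ I) B₀ := by
    rw [← RingHom.etale_algebraMap]
    exact RingHom.Etale.respectsIso.2 _ e₁.toRingEquiv (RingHom.etale_algebraMap.mpr inferInstance)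
  obtain ⟨A, _, _, _, π, B, _, _, _, _, πB, hkerπ, _, _, hπB, hkerB, hcomp⟩ :=
    Cohen12.exists_finite_etale_nbhd (A := A₁) (I := I) (B₀ := B₀)
  let : Algebra V A := ((algebraMap A₁ A).comp (algebraMap V A₁)).toAlgebra
  have : IsScalarTower V A₁ A := IsScalarTower.of_algebraMap_eq fun _ => rfl
  let : Algebra V B := ((algebraMap A B).comp (algebraMap V A)).toAlgebra
  have : IsScalarTower V A B := IsScalarTower.of_algebraMap_eq fun _ => rfl
  have : IsScalarTower V A₁ B := IsScalarTower.of_algebraMap_eq fun v => by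
    show algebraMap A B (algebraMap A₁ A (algebraMap V A₁ v)) = _
    rw [← IsScalarTower.algebraMap_apply A₁ A B]
  have : Algebra.Smooth V A := Algebra.Smooth.comp V A₁ A
  have : Algebra.Smooth V B := Algebra.Smooth.comp V A B
  let φA : A →ₐ[V] A₀ := e₁.toAlgHom.comp (π.restrictScalars V)
  let φB : B →ₐ[V] B₀ :=
    { πB.toRingHom with
      commutes' := fun v => by
        show πB (algebraMap V B v) = _
        rw [IsScalarTower.algebraMap_apply V A₁ B, AlgHom.commutes]
        show algebraMap A₀ B₀ (e₁ (Ideal.Quotient.mk I (algebraMap V A₁ v))) = _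
        rw [← Ideal.Quotient.algebraMap_eq, ← IsScalarTower.algebraMap_apply, AlgEquiv.commutes,
          IsScalarTower.algebraMap_apply V k A₀, ← IsScalarTower.algebraMap_apply k A₀ B₀,
          ← IsScalarTower.algebraMap_apply V k B₀] }
  have key : ∀ (X : Type u) [CommRing X] [Algebra V X] (X₀ : Type u) [CommRing X₀] [Algebra k X₀] [Algebra V X₀]
      [IsScalarTower V k X₀] (φ : X →ₐ[V] X₀), Function.Surjective φ →
      RingHom.ker φ.toRingHom = (IsLocalRing.maximalIdeal V).map (algebraMap V X) →
      ∃ e : k ⊗[V] X ≃ₐ[k] X₀, ∀ x, e ((1 : k) ⊗ₜ x) = φ x := by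
    intro X _ _ X₀ _ _ _ _ φ hφ hkerφ
    let θ : k ⊗[V] X →ₐ[k] X₀ := Algebra.TensorProduct.lift (Algebra.ofId k X₀) φ fun _ _ => .all _ _
    have hθ : ∀ x, θ ((1 : k) ⊗ₜ x) = φ x := fun x => by simp [θ]
    have hone : ∀ z : k ⊗[V] X, ∃ x, z = (1 : k) ⊗ₜ[V] x := fun z => by
      induction z using TensorProduct.induction_on with
      | zero => exact ⟨0, by simp⟩
      | tmul c x =>
        obtain ⟨v, rfl⟩ := IsLocalRing.residue_surjective c
        refine ⟨v • x, ?_⟩
        rw [← TensorProduct.smul_tmul, ← Algebra.algebraMap_eq_smul_one]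
        rfl
      | add a b ha hb =>
        obtain ⟨x, rfl⟩ := ha
        obtain ⟨y, rfl⟩ := hb
        exact ⟨x + y, (TensorProduct.tmul_add _ _ _).symm⟩
    refine ⟨AlgEquiv.ofBijective θ ⟨(injective_iff_map_eq_zero _).mpr fun z hz => ?_, fun y => ?_⟩, hθ⟩
    · obtain ⟨x, rfl⟩ := hone z
      rw [hθ] at hz
      have hx : x ∈ (IsLocalRing.maximalIdeal V).map (algebraMap V X) := hkerφ ▸ hz
      have hle : (IsLocalRing.maximalIdeal V).map (algebraMap V X) ≤
          RingHom.ker (Algebra.TensorProduct.includeRight : X →ₐ[V] k ⊗[V] X).toRingHom := by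
        rw [Ideal.map_le_iff_le_comap]
        intro v hv
        show (Algebra.TensorProduct.includeRight : X →ₐ[V] k ⊗[V] X) (algebraMap V X v) = 0
        rw [AlgHom.commutes, IsScalarTower.algebraMap_apply V k (k ⊗[V] X),
          show algebraMap V k v = 0 from (IsLocalRing.residue_eq_zero_iff v).mpr hv, map_zero]
      exact hle hx
    · obtain ⟨x, rfl⟩ := hφ y
      exact ⟨_, hθ x⟩
  have hker' : ∀ (X : Type u) [CommRing X] [Algebra A₁ X] [Algebra V X] [IsScalarTower V A₁ X],
      I.map (algebraMap A₁ X) = (IsLocalRing.maximalIdeal V).map (algebraMap V X) := fun X _ _ _ _ => by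
    rw [Ideal.map_map, ← IsScalarTower.algebraMap_eq]
  obtain ⟨e, he⟩ := key A A₀ φA (e₁.surjective.comp fun z => by
      obtain ⟨a, rfl⟩ := Ideal.Quotient.mk_surjective z
      exact ⟨algebraMap A₁ A a, AlgHom.commutes _ a⟩) (by
    rw [← hker' A, ← hkerπ]
    ext x
    show e₁ (π x) = 0 ↔ π x = 0
    exact EmbeddingLike.map_eq_zero_iff)
  obtain ⟨e', he'⟩ := key B B₀ φB hπB (by
    rw [← hker' B, ← hkerB]
    rfl)
  refine ⟨A, inferInstance, inferInstance, inferInstance, e, B, inferInstance, inferInstance, inferInstance,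
    inferInstance, e', inferInstance, ?_, fun x => ?_, ?_⟩
  · intro q _
    rw [Desc59.SmoothRing.normal_iff (A := V) (B := B) q]
    exact EGA4H10.normal_of_domain V _
  · induction x using TensorProduct.induction_on with
    | zero => simp
    | tmul c a =>
      have h : c ⊗ₜ[V] a = c • ((1 : k) ⊗ₜ[V] a) := by rw [TensorProduct.smul_tmul', smul_eq_mul, mul_one]
      rw [h, map_smul, map_smul, map_smul, he, Algebra.TensorProduct.map_tmul, AlgHom.coe_id, id_eq, he',
        Algebra.smul_def, Algebra.smul_def, map_mul, ← IsScalarTower.algebraMap_apply]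
      congr 1
      exact hcomp a
    | add a b ha hb => rw [map_add, map_add, map_add, map_add, ha, hb]
  · exact Algebra.Etale.of_equiv (Localization.tensorRightAlgEquiv _ B)

end Groth.Agent.S19570
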