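import Groth.Statements.S19575
import Groth.Agent.EtaPt32.Away
-- import your own Groth.Agent.* helpers here

set_option autoImplicit false
universe u
open EtaPt

namespace Groth.Agent.S19575

open Groth.Agent.EtaPt32

/-- Let η be the field-endofunctor datum of the pointwise construction, A a commutative ring with
finitely many minimal prime ideals and φ : A → B a ring map inducing a surjection on prime spectra.
If the canonical map A → (B/A)_η (the corestriction of φ onto the subring of B of elements whose
image in ∏_q F(k(q)) comes from M_η(A)) is bijective, then for every f ∈ A the canonical map A_f →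
(B_f/A_f)_η attached to the localized map A_f → B_{φ(f)} is bijective as well. -/
theorem result (η : EtaPt.FieldEndo.{u}) {A B : Type u} [CommRing A] [CommRing B]
    (hA : (minimalPrimes A).Finite) (φ : A →+* B) (hs : Function.Surjective (PrimeSpectrum.comap φ))
    (h : Function.Bijective (η.qRel φ)) (f : A) :
    Function.Bijective (η.qRel (Localization.awayMap φ f)) := by
  rw [bijective_qRel_iff] at h ⊢
  refine ⟨(injective_iff_map_eq_zero _).mpr fun z hz => ?_, fun y hy => ?_⟩
  · obtain ⟨⟨a, _, n, rfl⟩, ha⟩ := IsLocalization.surj (Submonoid.powers f) z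
    have h0 : algebraMap B (Localization.Away (φ f)) (φ a) = 0 := by
      have h1 := congrArg (Localization.awayMap φ f) ha
      rw [map_mul, hz, zero_mul] at h1
      rw [show algebraMap B (Localization.Away (φ f)) (φ a) =
        Localization.awayMap φ f (algebraMap A _ a) from (IsLocalization.map_eq _ a).symm, ← h1]
    obtain ⟨⟨_, k, rfl⟩, hk⟩ := (IsLocalization.map_eq_zero_iff (Submonoid.powers (φ f)) _ _).mp h0
    have : f ^ k * a = 0 := h.1 (by rw [map_mul, map_pow, map_zero]; exact hk)
    have ha0 : algebraMap A (Localization.Away f) a = 0 :=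
      (IsLocalization.map_eq_zero_iff (Submonoid.powers f) _ _).mpr ⟨⟨_, k, rfl⟩, this⟩
    rw [ha0] at ha
    exact (IsUnit.mul_left_eq_zero
      (IsLocalization.map_units (Localization.Away f) (⟨_, n, rfl⟩ : Submonoid.powers f))).mp ha
  · obtain ⟨x, hx, n, hn⟩ := exists_mem_rel_of_away η hA φ f hy
    obtain ⟨a, rfl⟩ := h.2 x hx
    refine ⟨IsLocalization.mk' _ a (⟨_, n, rfl⟩ : Submonoid.powers f), ?_⟩
    apply (IsLocalization.map_units (Localization.Away (φ f))
      (⟨_, n, rfl⟩ : Submonoid.powers (φ f))).mul_left_injective
    change _ * algebraMap B _ (φ f ^ n) = y * algebraMap B _ (φ f ^ n)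
    rw [map_pow, hn, ← map_pow,
      show algebraMap B (Localization.Away (φ f)) (φ f ^ n) =
        Localization.awayMap φ f (algebraMap A _ (f ^ n)) by
          rw [← map_pow φ]; exact (IsLocalization.map_eq _ _).symm,
      ← map_mul, IsLocalization.mk'_spec]
    exact IsLocalization.map_eq _ _

end Groth.Agent.S19575
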