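import Groth.Statements.S19576
import Groth.Agent.EtaPt32.Away
-- import your own Groth.Agent.* helpers here

set_option autoImplicit false
universe u
open EtaPt

namespace Groth.Agent.S19576

open Groth.Agent.EtaPt32

/-- Let η be the field-endofunctor datum of the pointwise construction, A a commutative ring with
finitely many minimal prime ideals and φ : A → B a ring map inducing a surjection on prime spectra.
If finitely many elements f_1, …, f_n of A generate the unit ideal and, for each i, the canonical
map A_{f_i} → (B_{f_i}/A_{f_i})_η attached to the localized map A_{f_i} → B_{φ(f_i)} is bijective,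
then the canonical map A → (B/A)_η is bijective. -/
theorem result (η : EtaPt.FieldEndo.{u}) {A B : Type u} [CommRing A] [CommRing B]
    (hA : (minimalPrimes A).Finite) (φ : A →+* B) (hs : Function.Surjective (PrimeSpectrum.comap φ))
    (s : Finset A) (hspan : Ideal.span (s : Set A) = ⊤)
    (h : ∀ f ∈ s, Function.Bijective (η.qRel (Localization.awayMap φ f))) :
    Function.Bijective (η.qRel φ) := by
  rw [bijective_qRel_iff]
  have h' := fun f hf => (bijective_qRel_iff η _).mp (h f hf)
  refine ⟨(injective_iff_map_eq_zero _).mpr fun a ha => ?_, fun b hb => ?_⟩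
  · refine Submodule.mem_bot A |>.mp
      (Submodule.mem_of_span_eq_top_of_smul_pow_mem ⊥ (s : Set A) hspan a fun ⟨f, hf⟩ => ?_)
    have h0 : algebraMap A (Localization.Away f) a = 0 := (h' f hf).1 (by
      rw [show Localization.awayMap φ f (algebraMap A _ a) = algebraMap B _ (φ a) from
        IsLocalization.map_eq _ a, ha, map_zero, map_zero])
    obtain ⟨⟨_, k, rfl⟩, hk⟩ := (IsLocalization.map_eq_zero_iff (Submonoid.powers f) _ _).mp h0
    exact ⟨k, (Submodule.mem_bot A).mpr (by rw [smul_eq_mul]; exact hk)⟩
  · let _ : Algebra A B := φ.toAlgebra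
    suffices b ∈ LinearMap.range (Algebra.linearMap A B) by
      obtain ⟨a, ha⟩ := this; exact ⟨a, ha⟩
    refine Submodule.mem_of_span_eq_top_of_smul_pow_mem _ (s : Set A) hspan b fun ⟨f, hf⟩ => ?_
    obtain ⟨z, hz⟩ := (h' f hf).2 _
      (map_mem_rel_of_square η (j' := Localization.awayMap φ f) (IsLocalization.map_comp _) hb)
    obtain ⟨⟨a, _, n, rfl⟩, ha⟩ := IsLocalization.surj (Submonoid.powers f) z
    have h1 := congrArg (Localization.awayMap φ f) ha
    rw [map_mul, hz] at h1
    change algebraMap B (Localization.Away (φ f)) b *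
      Localization.awayMap φ f (algebraMap A _ (f ^ n)) =
      Localization.awayMap φ f (algebraMap A _ a) at h1
    rw [show Localization.awayMap φ f (algebraMap A _ (f ^ n)) = algebraMap B _ (φ (f ^ n)) from
        IsLocalization.map_eq _ _,
      show Localization.awayMap φ f (algebraMap A _ a) = algebraMap B _ (φ a) from
        IsLocalization.map_eq _ _, ← map_mul,
      IsLocalization.eq_iff_exists (Submonoid.powers (φ f))] at h1
    obtain ⟨⟨_, k, rfl⟩, hk⟩ := h1
    refine ⟨k + n, f ^ k * a, ?_⟩
    change φ (f ^ k * a) = φ (f ^ (k + n)) * b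
    simp only [map_mul, map_pow] at hk ⊢
    rw [hk.symm, pow_add]
    ring

end Groth.Agent.S19576
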