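import Groth.Statements.S19577
import Groth.Agent.EtaPt32.Spec
-- import your own Groth.Agent.* helpers here

set_option autoImplicit false
universe u
open EtaPt

namespace Groth.Agent.S19577

open Groth.Agent.EtaPt32

/-- Let f : A → B be a homomorphism of commutative rings, each with only finitely many minimal primes.
Then M_η(f) : M_η(A) → M_η(B) is integral exactly when f is integral, and Spec M_η(f) is surjective
exactly when Spec f is. Here η is the field-endofunctor datum of the pointwise construction, M_η(A)
⊆ ∏_p F(k(p)) the subring attached to A with q_A : A → M_η(A), and M_η(f) : M_η(A) → M_η(B) the ring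
map induced by N_η(f), pinned here as the ring map g compatible with N_η(f) under the two subring
inclusions. -/
theorem result (η : EtaPt.FieldEndo.{u}) {A B : Type u} [CommRing A] [CommRing B]
    (hA : (minimalPrimes A).Finite) (hB : (minimalPrimes B).Finite) (f : A →+* B)
    (g : η.M A →+* η.M B) (hg : ∀ x : η.M A, ((g x : η.M B) : η.N B) = η.Nmap f (x : η.N A)) :
    (f.IsIntegral ↔ g.IsIntegral) ∧
      (Function.Surjective (PrimeSpectrum.comap f) ↔ Function.Surjective (PrimeSpectrum.comap g)) := by
  have hgq : g.comp (η.q A) = (η.q B).comp f := RingHom.ext fun a =>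
    Subtype.ext ((hg _).trans (η.Nmap_t_apply f a))
  refine ⟨⟨fun h => ?_, fun h => ?_⟩, ?_⟩
  · refine RingHom.IsIntegral.tower_top (η.q A) g ?_
    rw [hgq]
    exact RingHom.IsIntegral.trans f _ h (isIntegral_q η hB)
  · have h2 : ((η.q B).comp f).IsIntegral :=
      hgq ▸ RingHom.IsIntegral.trans (η.q A) g (isIntegral_q η hA) h
    intro b
    obtain ⟨p, hp, hp0⟩ := h2 (η.q B b)
    rw [← Polynomial.hom_eval₂] at hp0
    obtain ⟨k, hk⟩ := isNilpotent_of_t_eq_zero η (congrArg Subtype.val hp0)
    exact ⟨p ^ k, hp.pow k, by rw [Polynomial.eval₂_pow, hk]⟩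
  · have e : PrimeSpectrum.comap f ∘ PrimeSpectrum.comap (η.q B) =
        PrimeSpectrum.comap (η.q A) ∘ PrimeSpectrum.comap g := by
      rw [← PrimeSpectrum.comap_comp, ← PrimeSpectrum.comap_comp, hgq]
    have hb := bijective_comap_q η hB
    have ha := bijective_comap_q η hA
    rw [← Function.Surjective.of_comp_iff _ hb.2, e, Function.Surjective.of_comp_iff' ha]

end Groth.Agent.S19577
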