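import Groth.Statements.S19579
import Groth.Agent.Cube7.Mumford
import Groth.Agent.E4O.DvrCrit
-- import your own Groth.Agent.* helpers here

set_option autoImplicit false
universe u
open CategoryTheory CategoryTheory.Limits MonoidalCategory CartesianMonoidalCategory MonObj AlgebraicGeometry
open AbVar

namespace Groth.Agent.S19579
open Groth.Agent

/-- The implication from triviality of the Mumford bundle on one fibre to its triviality relative to the
base, with the identification of the descended bundle. Let X be an abelian variety over a field k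
(proper, geometrically integral k-group scheme with multiplication m and unit e), T a connected
locally Noetherian k-scheme and L an invertible module on X ×_k T. On X ×_k X ×_k T let m_T, p_13,
p_23 be the maps to X ×_k T induced by m and by the two projections X × X → X, π the projection to
T, and e_T : T → X ×_k T the unit section. If there is a point t of T over whose fibre X × X × Spec
k(t) the modules m_T^*L and p_13^*L ⊗ p_23^*L become isomorphic (equivalently the Mumford bundle
Λ(L) = m_T^*L ⊗ p_13^*L⁻¹ ⊗ p_23^*L⁻¹ is trivial on one fibre), then m_T^*L ⊗ π^*(e_T^*L) and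
p_13^*L ⊗ p_23^*L are isomorphic on all of X × X × T, i.e. Λ(L) ≅ π^*N with N = e_T^*L⁻¹ (existence
of an isomorphism). -/
theorem result (k : Type u) [Field k]
    (X T : Over (Spec (CommRingCat.of k)))
    [GrpObj X] [IsProper X.hom] [GeometricallyIntegral X.hom]
    [IsLocallyNoetherian T.left] [ConnectedSpace ↥T.left]
    (L : (X ⊗ T).left.Modules) (hL : PicF.IsInvertible L)
    (t : ↥T.left)
    (ht : Nonempty
      ((Scheme.Modules.pullback (pullback.fst (snd (X ⊗ X) T).left
          (T.left.fromSpecResidueField t))).obj
          ((Scheme.Modules.pullback (μ[X] ▷ T).left).obj L) ≅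
       (Scheme.Modules.pullback (pullback.fst (snd (X ⊗ X) T).left
          (T.left.fromSpecResidueField t))).obj
          (CohB1.tensorMod ((Scheme.Modules.pullback (fst X X ▷ T).left).obj L)
            ((Scheme.Modules.pullback (snd X X ▷ T).left).obj L)))) :
    Nonempty
      (CohB1.tensorMod ((Scheme.Modules.pullback (μ[X] ▷ T).left).obj L)
          ((Scheme.Modules.pullback (snd (X ⊗ X) T).left).obj
            ((Scheme.Modules.pullback (CartesianMonoidalCategory.lift (toUnit T ≫ η[X]) (𝟙 T)).left).obj L)) ≅
        CohB1.tensorMod ((Scheme.Modules.pullback (fst X X ▷ T).left).obj L)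
          ((Scheme.Modules.pullback (snd X X ▷ T).left).obj L)) := by
  have h1 := PicLoc.isInvertible_pullback (μ[X] ▷ T).left hL
  have h2 := PicLoc.isInvertible_pullback (fst X X ▷ T).left hL
  have h3 := PicLoc.isInvertible_pullback (snd X X ▷ T).left hL
  have he := PicLoc.isInvertible_pullback
    (CartesianMonoidalCategory.lift (toUnit T ≫ η[X]) (𝟙 T)).left hL
  have : LocallyOfFinitePresentation X.hom := E4O.locallyOfFinitePresentation_of_isLocallyNoetherian X.hom
  have h := Cube7.mumford_eq_one X T (PicGrp.cls L hL) t (by
    rw [Cube7.PicCalc.pb_cls _ hL, Cube7.PicCalc.pb_cls _ hL, Cube7.PicCalc.pb_cls _ hL,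
      ← Cube7.PicCalc.cls_tensor h2 h3, Cube7.PicCalc.pb_cls _ h1,
      Cube7.PicCalc.pb_cls _ (EGA73.isInvertible_tensorMod h2 h3)]
    exact (PicGrp.cls_eq_cls_iff _ _).2 ht)
  rw [Cube7.mumford, div_eq_one, Cube7.PicCalc.pb_cls _ hL, Cube7.PicCalc.pb_cls _ hL,
    Cube7.PicCalc.pb_cls _ hL, Cube7.PicCalc.pb_cls _ hL, Cube7.PicCalc.pb_cls _ he,
    ← Cube7.PicCalc.cls_tensor h1 (PicLoc.isInvertible_pullback _ he), ← Cube7.PicCalc.cls_tensor h2 h3] at h
  exact (PicGrp.cls_eq_cls_iff _ _).1 h

end Groth.Agent.S19579
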