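import Groth.Statements.S19582
import Groth.Agent.Cyc90.Equidim.FlatDVR
import Groth.Agent.Cyc90.TensorGen
import Groth.Agent.Cyc90.ImageGen
import Groth.Agent.E4O.Subscheme
import Mathlib.AlgebraicGeometry.Morphisms.SchemeTheoreticallyDominant
import Groth.Agent.FlatMor68.FlatLimit

set_option autoImplicit false
set_option backward.isDefEq.respectTransparency.types false
set_option synthInstance.maxHeartbeats 200000
set_option linter.style.haveILetI false
universe u
open Cyc

namespace Groth.Agent.S19582

section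

open CategoryTheory CategoryTheory.Limits AlgebraicGeometry Groth.Agent

lemma isPrincipalIdealRing_stalk (R : Type u) [CommRing R] [IsPrincipalIdealRing R]
    (y : ↥(Spec (CommRingCat.of R))) : IsPrincipalIdealRing ((Spec (CommRingCat.of R)).presheaf.stalk y) := by
  let : Algebra R ((Spec (CommRingCat.of R)).presheaf.stalk y) := (StructureSheaf.toStalk R y).hom.toAlgebra
  have : IsLocalization.AtPrime ((Spec (CommRingCat.of R)).presheaf.stalk y) (show PrimeSpectrum R from y).asIdeal :=
    StructureSheaf.IsLocalization.to_stalk R y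
  refine ⟨fun I => ?_⟩
  obtain ⟨a, ha⟩ := (IsPrincipalIdealRing.principal (I.under R)).1
  exact ⟨algebraMap R _ a, by
    rw [← IsLocalization.map_comap (show PrimeSpectrum R from y).asIdeal.primeCompl _ I, ha, Ideal.submodule_span_eq,
      Ideal.map_span, Set.image_singleton]⟩

end

open CategoryTheory CategoryTheory.Limits AlgebraicGeometry in
/-- Let S be a separated Noetherian scheme, p : X → S separated of finite type, z a point of X lying
over a generic point of an irreducible component of S whose closure in its fibre p⁻¹(p z) has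
dimension r, and ι : Z → X a closed immersion from a reduced scheme with image the closure of z. Let
R be a discrete valuation ring with fraction field K and x : Spec R → S a morphism sending the
generic point of Spec R to a generic point of an irreducible component of S, and let q : φ → Spec R
be the flat closure φ = φ_x(Z) of Z along x, i.e. the scheme-theoretic image of Z ×_S Spec K in Z
×_S Spec R, with its projection to Spec R. Then q is universally equidimensional of dimension r: for
every scheme S' and every S' → Spec R, the base change φ ×_R S' → S' has local fibre dimension r at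
every point (the dimension at w of the fibre through w is r) and every irreducible component of φ
×_R S' dominates an irreducible component of S'. -/
theorem result {X S Z : Scheme.{u}} [IsNoetherian S] [S.IsSeparated] [X.IsSeparated]
    (p : X ⟶ S) [LocallyOfFiniteType p] [QuasiCompact p] (z : X) (hz : closure {p.base z} ∈ irreducibleComponents ↥S)
    (r : ℕ) (hr : topologicalKrullDim ↥(closure ({p.asFiber z} : Set ↥(p.fiber (p.base z)))) = r)
    (ι : Z ⟶ X) [IsClosedImmersion ι] [IsReduced Z] (hZ : Set.range ι.base = closure {z})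
    (R : Type u) [CommRing R] [IsDomain R] [IsDiscreteValuationRing R] (x : Spec (CommRingCat.of R) ⟶ S)
    (hx : closure {x.base ⟨⊥, Ideal.isPrime_bot⟩} ∈ irreducibleComponents ↥S)
    (q : (pullback.map (ι ≫ p) (Spec.map (CommRingCat.ofHom (algebraMap R (FractionRing R))) ≫ x) (ι ≫ p) x (𝟙 Z) (Spec.map (CommRingCat.ofHom (algebraMap R (FractionRing R)))) (𝟙 S) ((Category.comp_id _).trans (Category.id_comp _).symm) (Category.comp_id _)).ker.subscheme ⟶ Spec (CommRingCat.of R))
    (hq : q = (pullback.map (ι ≫ p) (Spec.map (CommRingCat.ofHom (algebraMap R (FractionRing R))) ≫ x) (ι ≫ p) x (𝟙 Z) (Spec.map (CommRingCat.ofHom (algebraMap R (FractionRing R)))) (𝟙 S) ((Category.comp_id _).trans (Category.id_comp _).symm) (Category.comp_id _)).ker.subschemeι ≫ pullback.snd (ι ≫ p) x)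
    (S' : Scheme.{u}) (g : S' ⟶ Spec (CommRingCat.of R)) :
    (∀ w : ↥(pullback q g), FlatMor.fibreDimAt (pullback.snd q g) w = r) ∧
      ∀ C ∈ irreducibleComponents ↥(pullback q g),
        closure ((pullback.snd q g).base '' C) ∈ irreducibleComponents ↥S' := by
  subst hq
  haveI := Cyc90.ImageGen.isOpenImmersion_specMap_fractionRing R
  set j := Spec.map (CommRingCat.ofHom (algebraMap R (FractionRing R))) with hj
  set α := pullback.map (ι ≫ p) (j ≫ x) (ι ≫ p) x (𝟙 Z) j (𝟙 S)
    ((Category.comp_id _).trans (Category.id_comp _).symm) (Category.comp_id _) with hα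
  have hαsnd : α ≫ pullback.snd (ι ≫ p) x = pullback.snd (ι ≫ p) (j ≫ x) ≫ j := pullback.lift_snd _ _ _
  have hαfst : α ≫ pullback.fst (ι ≫ p) x = pullback.fst (ι ≫ p) (j ≫ x) :=
    (pullback.lift_fst _ _ _).trans (Category.comp_id _)
  haveI : Subsingleton ↥(Spec (CommRingCat.of (FractionRing R))) :=
    inferInstanceAs (Subsingleton (PrimeSpectrum (FractionRing R)))
  haveI : Flat (pullback.snd (ι ≫ p) (j ≫ x)) := inferInstance
  haveI : Flat (α ≫ pullback.snd (ι ≫ p) x) := by rw [hαsnd]; infer_instance
  haveI : IsOpenImmersion α := inferInstance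
  haveI : QuasiCompact α := by
    have : QuasiCompact (α ≫ pullback.snd (ι ≫ p) x) := by rw [hαsnd]; infer_instance
    exact QuasiCompact.of_comp α (pullback.snd (ι ≫ p) x)
  haveI hflat : Flat (α.imageι ≫ pullback.snd (ι ≫ p) x) :=
    FlatMor68.FlatLimit.flat_imageι (isPrincipalIdealRing_stalk R) α _
  set q := α.imageι ≫ pullback.snd (ι ≫ p) x with hqdef
  obtain ⟨ζ₀, hζ₀⟩ : ∃ ζ₀, ι ζ₀ = z := (hZ.symm ▸ subset_closure rfl : z ∈ Set.range ι.base)
  have hζall : ∀ ζ : Z, ζ₀ ⤳ ζ := fun ζ => by
    rw [← ι.isEmbedding.isInducing.specializes_iff, specializes_iff_mem_closure]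
    exact hζ₀ ▸ hZ ▸ ⟨ζ, rfl⟩
  have hrel : Cyc.HasRelDim q r := Cyc90.Equidim.hasRelDim_of_flat_dvr q fun t ht hmax => by
    set w := α.imageι t with hw
    have hfd : E4O.fdeg q t = E4O.fdeg (pullback.snd (ι ≫ p) x) w :=
      E4O.fdeg_comp_closedImmersion _ _ _
    have hrange : ∀ w' : ↥(pullback (ι ≫ p) x), pullback.snd (ι ≫ p) x w' = Cyc90.DVR.ηPt R →
        w' ∈ Set.range α.imageι := by
      intro w' hw'
      obtain ⟨a, -, ha⟩ : ∃ a : ↥(pullback (ι ≫ p) (j ≫ x)), True ∧ α a = w' := by
        have hη : Cyc90.DVR.ηPt R = j (IsLocalRing.closedPoint (FractionRing R)) := by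
          rw [Cyc90.DVR.ηPt, genericPoint_eq_bot_of_affine]
          refine PrimeSpectrum.ext ?_
          show ⊥ = Ideal.comap (algebraMap R (FractionRing R)) (IsLocalRing.maximalIdeal _)
          rw [IsLocalRing.isField_iff_maximalIdeal_eq.1 (Field.toIsField (FractionRing R)), ← RingHom.ker_eq_comap_bot,
            (RingHom.injective_iff_ker_eq_bot _).1 (IsFractionRing.injective R (FractionRing R))]
        have hsq : IsPullback α (pullback.snd (ι ≫ p) (j ≫ x)) (pullback.snd (ι ≫ p) x) j := by
          refine IsPullback.of_right ?_ hαsnd (IsPullback.of_hasPullback (ι ≫ p) x)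
          rw [hαfst]
          exact IsPullback.of_hasPullback _ _
        obtain ⟨a, ha, -⟩ := Scheme.Pullback.exists_preimage_pullback (f := pullback.snd (ι ≫ p) x) (g := j) w'
          (IsLocalRing.closedPoint (FractionRing R)) (hw'.trans hη)
        refine ⟨hsq.isoPullback.inv a, trivial, ?_⟩
        rw [← Scheme.Hom.comp_apply, hsq.isoPullback_inv_fst]
        exact ha
      exact ⟨α.toImage a, by rw [← Scheme.Hom.comp_apply, Scheme.Hom.toImage_imageι, ha]⟩
    have hwη : pullback.snd (ι ≫ p) x w = Cyc90.DVR.ηPt R := ht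
    have hwmax : E4O.IsFibreMax (pullback.snd (ι ≫ p) x) w := by
      intro w' hsp he
      obtain ⟨t', rfl⟩ := hrange w' (he.trans hwη)
      rw [hw] at hsp ⊢
      exact congrArg _ (hmax t' (α.imageι.isEmbedding.isInducing.specializes_iff.1 hsp) he)
    -- the point of `Z` below
    obtain ⟨m, hm, -, -, hmι⟩ := E4O.exists_fibre_map_flat (IsPullback.of_hasPullback (ι ≫ p) x) (Cyc90.DVR.ηPt R)
    have hfx : E4O.IsFibreMax (ι ≫ p) (pullback.fst (ι ≫ p) x w) := by
      intro x' hx' hfx'
      have hgy : (ι ≫ p) x' = x (Cyc90.DVR.ηPt R) := by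
        rw [hfx', ← hwη]; exact congr($(pullback.condition (f := ι ≫ p) (g := x)) w)
      obtain ⟨v, hv⟩ := E4O.exists_fiberι_eq (ι ≫ p) hgy
      obtain ⟨w₁, hw₁⟩ := E4O.exists_fiberι_eq (pullback.snd (ι ≫ p) x) hwη
      have hvz : v ⤳ m w₁ := by
        refine (E4O.specializes_fiberι_iff (ι ≫ p) _ _ _).1 ?_
        rw [hmι w₁, hw₁, hv]; exact hx'
      obtain ⟨v', hv', hmv⟩ := Flat.generalizingMap m hvz
      have h1 : (pullback.snd (ι ≫ p) x).fiberι (Cyc90.DVR.ηPt R) v' = w :=
        hwmax _ (hw₁ ▸ (E4O.specializes_fiberι_iff _ _ _ _).2 hv') (by rw [E4O.apply_fiberι, hwη])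
      rw [← hv, ← hmv, hmι v', h1]
    have hζ : pullback.fst (ι ≫ p) x w = ζ₀ := by
      refine (hfx ζ₀ (hζall _) ?_).symm
      have e : (ι ≫ p) (pullback.fst (ι ≫ p) x w) = x (Cyc90.DVR.ηPt R) := by
        rw [← hwη]; exact congr($(pullback.condition (f := ι ≫ p) (g := x)) w)
      have hx' : closure ({x (Cyc90.DVR.ηPt R)} : Set ↥S) ∈ irreducibleComponents ↥S := by
        rw [Cyc90.DVR.ηPt, genericPoint_eq_bot_of_affine]; exact hx
      rw [e, Scheme.Hom.comp_apply, hζ₀]
      refine Cyc90.Equidim.eq_of_specializes_of_component hx' ?_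
      rw [← hζ₀, ← e, ← Scheme.Hom.comp_apply]
      exact (hζall _).map (ι ≫ p).continuous
    rw [hfd, Cyc90.fdeg_snd_eq w fun u _ h2 h3 => hwmax u h3 h2, hζ, E4O.fdeg_comp_closedImmersion, hζ₀]
    have h := E4O.dim_closure_fiber p (p z) (p.asFiber z)
    rw [hr, Scheme.Hom.fiberι_asFiber] at h
    exact_mod_cast h.symm
  refine ⟨fun w => (Approx60.hasRelDim_iff_forall_fibreDimAt _ r).1 (Cyc90.hasRelDim_pullback_snd q g hrel) w,
    fun C hC => Cyc90.Equidim.closure_image_component _ hC⟩

end Groth.Agent.S19582
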