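import Groth.Statements.S19583
import Mathlib.AlgebraicGeometry.Morphisms.SchemeTheoreticallyDominant
import Groth.Agent.QCSupp72.Basic
import Groth.Agent.Div89.Stalk

set_option autoImplicit false
set_option linter.style.haveILetI false
set_option backward.isDefEq.respectTransparency.types false
universe u
open Cyc

namespace Groth.Agent.S19583

section

open CategoryTheory CategoryTheory.Limits AlgebraicGeometry Groth.Agent

/-- An ideal whose sections are killed by a power of an ideal sheaf vanishes off its support. -/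
lemma le_ker_ι_of_killed {W : Scheme.{u}} (𝓔 𝒥 : W.IdealSheafData) (V₀ : W.Opens)
    (hV₀ : ∀ x ∈ V₀, x ∉ (𝓔.support : Set W))
    (h : ∀ (V : W.affineOpens) (a : Γ(W, V.1)), a ∈ 𝒥.ideal V →
      BlowUp.KilledByPowerNear 𝓔 (Coh.structureModule W) V a) :
    𝒥 ≤ V₀.ι.ker := by
  refine Scheme.IdealSheafData.le_ofIdeals_iff.2 fun V a ha => ?_
  rw [RingHom.mem_ker, Scheme.Opens.ι_app]
  refine TopCat.Presheaf.section_ext W.sheaf _ _ _ fun x hx => ?_
  obtain ⟨y, hyV, rfl⟩ := hx
  obtain ⟨_, ⟨V', hV', rfl⟩, hyV', hle⟩ := W.isBasis_affineOpens.exists_subset_of_mem_open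
    (show V₀.ι y ∈ (V.1 ⊓ V₀ : W.Opens) from ⟨hyV, y.2⟩) (V.1 ⊓ V₀).isOpen
  have hV'V : V' ≤ V.1 := fun z hz => (hle hz).1
  let r : Γ(W, V.1) ⟶ Γ(W, V') := W.presheaf.map (homOfLE hV'V).op
  have hr : W.presheaf.map (homOfLE hV'V).op a ∈ 𝒥.ideal ⟨V', hV'⟩ :=
    𝒥.map_ideal (U := ⟨V', hV'⟩) (V := V) hV'V ▸ Ideal.mem_map_of_mem _ ha
  obtain ⟨n, hn⟩ := h ⟨V', hV'⟩ _ hr
  have htop : 𝓔.ideal ⟨V', hV'⟩ = ⊤ := by
    by_contra hne
    obtain ⟨m, hm, hle'⟩ := Ideal.exists_le_maximal _ hne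
    obtain ⟨z, hz, hzm⟩ := QCSupp72.range_primeIdealOf hV' ⟨m, hm.isPrime⟩
    refine hV₀ z (hle hz).2 ((𝓔.mem_support_iff_of_mem (U := ⟨V', hV'⟩) hz).2 ((Scheme.mem_zeroLocus_iff _ _ _).2 ?_))
    intro c hc hb
    refine (QCSupp72.mem_basicOpen_iff_notMem hV' hz c).1 hb ?_
    rw [hzm]
    exact hle' hc
  have h0 : W.presheaf.map (homOfLE hV'V).op a = 0 := by
    have h1 := hn 1 (by rw [Scheme.IdealSheafData.ideal_pow, Pi.pow_apply, htop, Ideal.top_pow]; trivial)
    exact (one_smul _ _).symm.trans h1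
  show W.presheaf.germ _ _ _ (W.presheaf.map _ a) = W.presheaf.germ _ _ _ 0
  refine (TopCat.Presheaf.germ_res_apply W.presheaf _ _ _ a).trans (Eq.trans ?_ (map_zero _).symm)
  have h2 := congrArg (W.presheaf.germ V' _ hyV') h0
  rw [map_zero, TopCat.Presheaf.germ_res_apply] at h2
  exact h2

/-- On the spectrum of a discrete valuation ring an ideal sheaf is effective Cartier if its support
avoids the generic point. -/
lemma isEffCartier_spec {R : Type u} [CommRing R] [IsDomain R] [IsPrincipalIdealRing R]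
    (J : (Spec (CommRingCat.of R)).IdealSheafData)
    (h : (⟨⊥, Ideal.isPrime_bot⟩ : PrimeSpectrum R) ∉ (J.support : Set (Spec (CommRingCat.of R)))) :
    BlowUp.IsEffCartierIdeal J := fun x => by
  let e : Γ(Spec (CommRingCat.of R), ⊤) ≃+* R := (Scheme.ΓSpecIso (CommRingCat.of R)).commRingCatIsoToRingEquiv
  haveI : IsDomain Γ(Spec (CommRingCat.of R), ⊤) := e.toMulEquiv.isDomain
  haveI : IsPrincipalIdealRing Γ(Spec (CommRingCat.of R), ⊤) :=
    IsPrincipalIdealRing.of_surjective e.symm.toRingHom e.symm.surjective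
  obtain ⟨f, hf⟩ := (IsPrincipalIdealRing.principal (J.ideal ⟨⊤, isAffineOpen_top _⟩)).1
  refine ⟨⟨⊤, isAffineOpen_top _⟩, trivial, f, mem_nonZeroDivisors_of_ne_zero fun hf0 => h ?_, hf⟩
  have hJ : J = ⊥ := Scheme.IdealSheafData.ext_of_isAffine (by
    rw [hf, hf0, Scheme.IdealSheafData.ideal_bot]; simp)
  rw [hJ, Scheme.IdealSheafData.support_bot]
  trivial

end

open CategoryTheory CategoryTheory.Limits AlgebraicGeometry in
/-- Let S be a separated Noetherian scheme, p : X → S a morphism from a separated scheme X (no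
finiteness condition), ι : Z → X a closed immersion, and b : S' → S a blowing up of S in a
quasi-coherent ideal with support S₀ such that (1) b restricts to a bijection between the generic
points of the irreducible components of S' and of S and (2) the strict transform Z~ of Z — the
closed subscheme of Z ×_S S' whose ideal consists, on each affine open, of the functions annihilated
by a power of the pulled-back centre — is flat over S'. Let R be a discrete valuation ring with
fraction field K and f : Spec R → S a morphism sending the generic point of Spec R into S ∖ S₀. Then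
f factors uniquely through b, and for the factorisation f' : Spec R → S' the flat closure φ_f(Z) ⊆ Z
×_S Spec R (the scheme-theoretic image of Z ×_S Spec K) coincides with Spec R ×_{S'} Z~: its ideal
sheaf equals the inverse image of the ideal of Z~ under the map Z ×_S Spec R → Z ×_S S' induced by
f'. -/
theorem result {X S Z S' : Scheme.{u}} [IsNoetherian S] [S.IsSeparated] [X.IsSeparated]
    (p : X ⟶ S) (ι : Z ⟶ X) [IsClosedImmersion ι]
    (𝓘 : S.IdealSheafData) (b : S' ⟶ S) (hb : BlowUp.IsBlowUp b 𝓘)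
    (hgen : Set.BijOn b.base {s' : ↥S' | closure {s'} ∈ irreducibleComponents ↥S'} {s : ↥S | closure {s} ∈ irreducibleComponents ↥S})
    (𝒥 : (pullback (ι ≫ p) b).IdealSheafData)
    (h𝒥 : ∀ (V : (pullback (ι ≫ p) b).affineOpens) (a : Γ(pullback (ι ≫ p) b, V.1)), a ∈ 𝒥.ideal V ↔
      BlowUp.KilledByPowerNear ((𝓘.comap (ι ≫ p)).comap (pullback.fst (ι ≫ p) b)) (Coh.structureModule (pullback (ι ≫ p) b)) V a)
    [Flat (𝒥.subschemeι ≫ pullback.snd (ι ≫ p) b)]
    (R : Type u) [CommRing R] [IsDomain R] [IsDiscreteValuationRing R] (f : Spec (CommRingCat.of R) ⟶ S)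
    (hf : f.base ⟨⊥, Ideal.isPrime_bot⟩ ∉ (𝓘.support : Set ↥S)) :
    (∃! f' : Spec (CommRingCat.of R) ⟶ S', f' ≫ b = f) ∧
      ∀ (f' : Spec (CommRingCat.of R) ⟶ S') (hf' : f' ≫ b = f),
        (pullback.map (ι ≫ p) (Spec.map (CommRingCat.ofHom (algebraMap R (FractionRing R))) ≫ f) (ι ≫ p) f (𝟙 Z) (Spec.map (CommRingCat.ofHom (algebraMap R (FractionRing R)))) (𝟙 S) ((Category.comp_id _).trans (Category.id_comp _).symm) (Category.comp_id _)).ker = 𝒥.comap (pullback.map (ι ≫ p) f (ι ≫ p) b (𝟙 Z) f' (𝟙 S) ((Category.comp_id _).trans (Category.id_comp _).symm) ((Category.comp_id f).trans hf'.symm)) := by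
  let Q : Spec (CommRingCat.of (FractionRing R)) ⟶ Spec (CommRingCat.of R) :=
    Spec.map (CommRingCat.ofHom (algebraMap R (FractionRing R)))
  have hη : ∀ z, Q.base z = ⟨⊥, Ideal.isPrime_bot⟩ := fun z => PrimeSpectrum.ext (by
    show Ideal.comap (algebraMap R (FractionRing R)) z.asIdeal = ⊥
    rw [show z.asIdeal = ⊥ from (Ideal.eq_bot_or_top z.asIdeal).resolve_right z.2.ne_top,
      ← RingHom.ker_eq_comap_bot]
    exact (RingHom.injective_iff_ker_eq_bot _).1 (IsFractionRing.injective R (FractionRing R)))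
  haveI : IsDominant Q := by
    rw [isDominant_iff, denseRange_iff_closure_range]
    refine Set.eq_univ_of_forall fun y => ?_
    have hmem : (⟨⊥, Ideal.isPrime_bot⟩ : PrimeSpectrum R) ∈ Set.range Q.base :=
      ⟨⟨⊥, Ideal.isPrime_bot⟩, hη _⟩
    exact ((PrimeSpectrum.le_iff_specializes (⟨⊥, Ideal.isPrime_bot⟩ : PrimeSpectrum R) y).1 bot_le).mem_closed
      isClosed_closure (subset_closure hmem)
  haveI : IsSchemeTheoreticallyDominant Q := .of_isDominant Q
  refine ⟨hb.2 _ f (isEffCartier_spec _ ?_), fun f' hf' => ?_⟩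
  · rw [Scheme.IdealSheafData.support_comap]
    exact hf
  subst hf'
  set α := pullback.map (ι ≫ p) (Q ≫ f' ≫ b) (ι ≫ p) (f' ≫ b) (𝟙 Z) Q (𝟙 S)
    ((Category.comp_id _).trans (Category.id_comp _).symm) (Category.comp_id _) with hα
  set φ := pullback.map (ι ≫ p) (f' ≫ b) (ι ≫ p) b (𝟙 Z) f' (𝟙 S)
    ((Category.comp_id _).trans (Category.id_comp _).symm) (Category.comp_id _) with hφ
  have hαfst : α ≫ pullback.fst (ι ≫ p) (f' ≫ b) = pullback.fst (ι ≫ p) (Q ≫ f' ≫ b) :=
    (pullback.lift_fst _ _ _).trans (Category.comp_id _)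
  have hαsnd : α ≫ pullback.snd (ι ≫ p) (f' ≫ b) = pullback.snd (ι ≫ p) (Q ≫ f' ≫ b) ≫ Q :=
    pullback.lift_snd _ _ _
  have hφfst : φ ≫ pullback.fst (ι ≫ p) b = pullback.fst (ι ≫ p) (f' ≫ b) :=
    (pullback.lift_fst _ _ _).trans (Category.comp_id _)
  have hφsnd : φ ≫ pullback.snd (ι ≫ p) b = pullback.snd (ι ≫ p) (f' ≫ b) ≫ f' :=
    pullback.lift_snd _ _ _
  refine le_antisymm ?_ ?_
  · -- the base change of the strict transform has dense generic fibre
    have hsq : IsPullback φ (pullback.snd (ι ≫ p) (f' ≫ b)) (pullback.snd (ι ≫ p) b) f' := by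
      refine IsPullback.of_right ?_ ?_ (IsPullback.of_hasPullback (ι ≫ p) b)
      · rw [hφfst]
        exact IsPullback.of_hasPullback _ _
      · exact hφsnd
    have hT : IsPullback (pullback.snd φ 𝒥.subschemeι)
        (pullback.fst φ 𝒥.subschemeι ≫ pullback.snd (ι ≫ p) (f' ≫ b))
        (𝒥.subschemeι ≫ pullback.snd (ι ≫ p) b) f' :=
      (IsPullback.of_hasPullback φ 𝒥.subschemeι).flip.paste_vert hsq
    let q := pullback.fst φ 𝒥.subschemeι ≫ pullback.snd (ι ≫ p) (f' ≫ b)
    haveI : Flat q := MorphismProperty.of_isPullback hT inferInstance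
    let β := pullback.fst q Q
    let w : pullback q Q ⟶ pullback (ι ≫ p) (Q ≫ f' ≫ b) :=
      pullback.lift (β ≫ pullback.fst φ 𝒥.subschemeι ≫ pullback.fst (ι ≫ p) (f' ≫ b)) (pullback.snd q Q) (by
        rw [Category.assoc, Category.assoc, pullback.condition, ← pullback.condition_assoc]
        simp only [q, Category.assoc, β])
    have hw : w ≫ α = β ≫ pullback.fst φ 𝒥.subschemeι := by
      apply pullback.hom_ext
      · rw [Category.assoc, hαfst, pullback.lift_fst, Category.assoc]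
      · rw [Category.assoc, hαsnd, pullback.lift_snd_assoc, Category.assoc]
        exact pullback.condition.symm
    calc α.ker ≤ (w ≫ α).ker := Scheme.Hom.le_ker_comp w α
      _ = (β ≫ pullback.fst φ 𝒥.subschemeι).ker := by rw [hw]
      _ = 𝒥.comap φ := by
        rw [Scheme.Hom.ker_comp, Scheme.Hom.ker_eq_bot β, Scheme.IdealSheafData.map_bot]
        rfl
  · -- the generic fibre avoids the exceptional locus
    let V₀ : (pullback (ι ≫ p) b).Opens := ⟨((𝓘.comap (ι ≫ p)).comap (pullback.fst (ι ≫ p) b)).supportᶜ,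
      ((𝓘.comap (ι ≫ p)).comap (pullback.fst (ι ≫ p) b)).support.isClosed.isOpen_compl⟩
    have hmem : Set.range (α ≫ φ).base ⊆ Set.range V₀.ι.base := by
      rintro _ ⟨z, rfl⟩
      rw [Scheme.Opens.range_ι]
      show _ ∉ _
      rw [SetLike.mem_coe, Scheme.IdealSheafData.support_comap, Scheme.IdealSheafData.support_comap]
      intro hc
      refine hf ?_
      rw [← hη ((pullback.snd (ι ≫ p) (Q ≫ f' ≫ b)).base z)]
      have e : (α ≫ φ) ≫ pullback.fst (ι ≫ p) b ≫ (ι ≫ p) =
          pullback.snd (ι ≫ p) (Q ≫ f' ≫ b) ≫ Q ≫ f' ≫ b := by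
        rw [pullback.condition, Category.assoc, reassoc_of% hφsnd, reassoc_of% hαsnd]
      have e' := congrArg (fun m => m.base z) e
      simp only [Scheme.Hom.comp_base, TopCat.comp_app] at e'
      exact e' ▸ hc
    rw [← Scheme.IdealSheafData.le_map_iff_comap_le, Scheme.IdealSheafData.map_ker]
    refine (le_ker_ι_of_killed _ 𝒥 V₀ (fun x hx => hx) fun V a ha => (h𝒥 V a).1 ha).trans ?_
    rw [← IsOpenImmersion.lift_fac V₀.ι (α ≫ φ) hmem]
    exact Scheme.Hom.le_ker_comp _ _

end Groth.Agent.S19583
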