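import Groth.Statements.S19584
import Groth.Agent.Cyc90.Equidim.PointFibre
import Groth.Agent.S19583
import Groth.Agent.E4O.SectionCompDvr
import Groth.Agent.Div89.BlowUp

set_option autoImplicit false
set_option backward.isDefEq.respectTransparency.types false
set_option synthInstance.maxHeartbeats 200000
set_option linter.style.haveILetI false
universe u
open Cyc

namespace Groth.Agent.S19584

open CategoryTheory CategoryTheory.Limits AlgebraicGeometry in
/-- Let S be a separated Noetherian scheme, p : X → S separated of finite type, z a point of X lying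
over a generic point of an irreducible component of S whose closure in its fibre p⁻¹(p z) has
dimension r, and ι : Z → X a closed immersion from a reduced scheme with image the closure of z. Let
b : S′ → S be a blowing up (S′ Noetherian) such that the strict transform Z~ of Z — the closed
subscheme of Z ×_S S′ whose ideal consists, on each affine open, of the functions annihilated by a
power of the pulled-back centre — is flat over S′. Then Z~ → S′ is universally equidimensional of
dimension r: after any base change S″ → S′ every point of Z~ ×_{S′} S″ has local fibre dimension r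
and every irreducible component of Z~ ×_{S′} S″ dominates an irreducible component of S″. (The
published lemma takes a blow-up of the reduced scheme S_red; this statement takes a blow-up of S
itself, to which the printed argument applies unchanged.) -/
theorem result {X S Z S' : Scheme.{u}} [IsNoetherian S] [S.IsSeparated] [X.IsSeparated]
    (p : X ⟶ S) [LocallyOfFiniteType p] [QuasiCompact p] (z : X) (hz : closure {p.base z} ∈ irreducibleComponents ↥S)
    (r : ℕ) (hr : topologicalKrullDim ↥(closure ({p.asFiber z} : Set ↥(p.fiber (p.base z)))) = r)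
    (ι : Z ⟶ X) [IsClosedImmersion ι] [IsReduced Z] (hZ : Set.range ι.base = closure {z})
    [IsNoetherian S'] (𝓘 : S.IdealSheafData) (b : S' ⟶ S) (hb : BlowUp.IsBlowUp b 𝓘)
    (𝒥 : (pullback (ι ≫ p) b).IdealSheafData)
    (h𝒥 : ∀ (V : (pullback (ι ≫ p) b).affineOpens) (a : Γ(pullback (ι ≫ p) b, V.1)), a ∈ 𝒥.ideal V ↔
      BlowUp.KilledByPowerNear ((𝓘.comap (ι ≫ p)).comap (pullback.fst (ι ≫ p) b)) (Coh.structureModule (pullback (ι ≫ p) b)) V a)
    [Flat (𝒥.subschemeι ≫ pullback.snd (ι ≫ p) b)]
    (S'' : Scheme.{u}) (g : S'' ⟶ S') :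
    (∀ w : ↥(pullback (𝒥.subschemeι ≫ pullback.snd (ι ≫ p) b) g),
        FlatMor.fibreDimAt (pullback.snd (𝒥.subschemeι ≫ pullback.snd (ι ≫ p) b) g) w = r) ∧
      ∀ C ∈ irreducibleComponents ↥(pullback (𝒥.subschemeι ≫ pullback.snd (ι ≫ p) b) g),
        closure ((pullback.snd (𝒥.subschemeι ≫ pullback.snd (ι ≫ p) b) g).base '' C) ∈ irreducibleComponents ↥S'' := by
  set π := pullback.snd (ι ≫ p) b with hπ
  set q := 𝒥.subschemeι ≫ π with hq
  -- the pullback to `S'` of the exceptional divisor cuts out the exceptional part of `Z ×_S S'`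
  let E := (𝓘.comap (ι ≫ p)).comap (pullback.fst (ι ≫ p) b)
  let V₀ : (pullback (ι ≫ p) b).Opens := ⟨(E.support : Set ↥(pullback (ι ≫ p) b))ᶜ, E.support.isClosed.isOpen_compl⟩
  have hV₀ : 𝒥 ≤ V₀.ι.ker :=
    S19583.le_ker_ι_of_killed E 𝒥 V₀ (fun _ h => h) fun V a ha => (h𝒥 V a).1 ha
  have hbase : ∀ w : ↥(pullback (ι ≫ p) b), b (π w) ∉ (𝓘.support : Set ↥S) → w ∈ Set.range 𝒥.subschemeι := by
    intro w hw
    rw [Scheme.IdealSheafData.range_subschemeι]
    refine Scheme.IdealSheafData.support_antitone hV₀ (V₀.ι.range_subset_ker_support ?_)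
    rw [Scheme.Opens.range_ι]
    show w ∉ (E.support : Set ↥(pullback (ι ≫ p) b))
    rw [Scheme.IdealSheafData.support_comap, Scheme.IdealSheafData.support_comap]
    intro h
    refine hw ?_
    have e : b (π w) = (ι ≫ p) (pullback.fst (ι ≫ p) b w) :=
      (congr($(pullback.condition (f := ι ≫ p) (g := b)) w)).symm
    rw [e]
    exact h
  have hmaxb : ∀ s' : ↥S', (∀ y, y ⤳ s' → y = s') →
      closure ({b s'} : Set ↥S) ∈ irreducibleComponents ↥S ∧ b s' ∉ (𝓘.support : Set ↥S) := fun s' hs' => by
    obtain ⟨h1, h2⟩ := (Div89.bijOn_maximalPoints hb).mapsTo hs'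
    exact ⟨Cyc90.Equidim.closure_mem_irreducibleComponents h1, h2⟩
  -- fibres over maximal points
  have hgen : ∀ s' : ↥S', (∀ y, y ⤳ s' → y = s') → ∀ t, q t = s' → E4O.IsFibreMax q t → E4O.fdeg q t = r := by
    intro s' hs' t ht hmax
    obtain ⟨hc, hns⟩ := hmaxb s' hs'
    have hwm : E4O.IsFibreMax π (𝒥.subschemeι t) := by
      intro w' hsp he
      have hπw : π w' = s' := he.trans ht
      obtain ⟨t', rfl⟩ := hbase w' (by rw [hπw]; exact hns)
      exact congrArg _ (hmax t' (𝒥.subschemeι.isEmbedding.isInducing.specializes_iff.1 hsp) he)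
    rw [hq, E4O.fdeg_comp_closedImmersion]
    exact (Cyc90.Equidim.fdeg_snd_of_maximal p z ι hZ b hc _ ht hwm).trans
      (Cyc90.Equidim.fdeg_eq_of_dim p z hr)
  have hrel : Cyc.HasRelDim q r := by
    intro s' T hT
    obtain ⟨z', -, hmax, hd⟩ := E4O.exists_of_mem_irreducibleComponents_fiber q hT
    rw [hd]
    set t := q.fiberι s' z' with htdef
    have ht : q t = s' := E4O.apply_fiberι _ _ _
    suffices h : E4O.fdeg q t = r by rw [h]
    obtain ⟨s₀, hs₀, hs₀max⟩ := Cyc90.exists_maximal s'
    rcases eq_or_ne s₀ s' with rfl | hne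
    · exact hgen _ hs₀max t ht hmax
    obtain ⟨A, _, _, _, j, hj0, hj1⟩ := E4O.exists_dvr_of_specializes hs₀ hne
    have hrelA : Cyc.HasRelDim (pullback.snd q j) r := Cyc90.Equidim.hasRelDim_of_flat_dvr _ fun w hw hwmax => by
      obtain ⟨m, hm, -, -, hmι⟩ := E4O.exists_fibre_map_flat (IsPullback.of_hasPullback q j) (Cyc90.DVR.ηPt A)
      have hcond : q (pullback.fst q j w) = s₀ := by
        refine (congr($(pullback.condition (f := q) (g := j)) w)).trans ?_
        exact (congrArg j hw).trans hj1
      have hfx : E4O.IsFibreMax q (pullback.fst q j w) := by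
        intro x' hx' hfx'
        obtain ⟨v, hv⟩ := E4O.exists_fiberι_eq q (show q x' = j (Cyc90.DVR.ηPt A) by rw [hfx', hcond, hj1])
        obtain ⟨w₁, hw₁⟩ := E4O.exists_fiberι_eq (pullback.snd q j) hw
        have hvz : v ⤳ m w₁ := by
          refine (E4O.specializes_fiberι_iff q _ _ _).1 ?_
          rw [hmι w₁, hw₁, hv]; exact hx'
        obtain ⟨v', hv', hmv⟩ := Flat.generalizingMap m hvz
        have h1 : (pullback.snd q j).fiberι (Cyc90.DVR.ηPt A) v' = w :=
          hwmax _ (hw₁ ▸ (E4O.specializes_fiberι_iff _ _ _ _).2 hv') (by rw [E4O.apply_fiberι, hw])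
        rw [← hv, ← hmv, hmι v', h1]
      rw [Cyc90.fdeg_snd_eq w fun u _ h2 h3 => hwmax u h3 h2]
      exact hgen s₀ hs₀max _ hcond hfx
    obtain ⟨u₀, hu1, hu2⟩ := Scheme.Pullback.exists_preimage_pullback (f := q) (g := j) t
      (IsLocalRing.closedPoint A) (ht.trans hj0.symm)
    obtain ⟨u, hu, hfu, humax, -, -⟩ := E4O.exists_isFibreMax_specializes (pullback.snd q j) u₀
    have hfst : pullback.fst q j u = t := by
      refine hmax _ (hu1 ▸ hu.map (pullback.fst q j).continuous) ?_
      have h2 := congr($(pullback.condition (f := q) (g := j)) u)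
      refine h2.trans ?_
      show j (pullback.snd q j u) = q t
      rw [hfu, hu2, hj0, ht]
    rw [← hfst, ← Cyc90.fdeg_snd_eq u fun v _ h2 h3 => humax v h3 h2]
    exact Cyc90.fdeg_eq_of_hasRelDim _ hrelA humax
  exact ⟨fun w => (Approx60.hasRelDim_iff_forall_fibreDimAt _ r).1 (Cyc90.hasRelDim_pullback_snd q g hrel) w,
    fun C hC => Cyc90.Equidim.closure_image_component _ hC⟩

end Groth.Agent.S19584
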