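import Groth.Statements.S1959
import Mathlib.LinearAlgebra.Matrix.Charpoly.LinearMap
import Mathlib.RingTheory.Adjoin.FG

set_option autoImplicit false
universe u
open Polynomial
open EtAlg

namespace Groth.Agent.S1959

open Polynomial

/-- Let I be an ideal of a ring A, A -> B an integral ring map and b an element of B whose image in B/IB
is idempotent. Then there are d ≥ 1 and a monic polynomial f over A with f(b) = 0 whose reduction
modulo I is x^d (x - 1)^d. -/
theorem result (A B : Type u) [CommRing A] [CommRing B] [Algebra A B]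
    [Algebra.IsIntegral A B] (I : Ideal A) (b : B)
    (hb : IsIdempotentElem (Ideal.Quotient.mk (I.map (algebraMap A B)) b)) :
    ∃ (f : A[X]) (d : ℕ), f.Monic ∧ 1 ≤ d ∧ aeval b f = 0 ∧
      f.map (Ideal.Quotient.mk I) = X ^ d * (X - 1) ^ d := by
  have hy : b ^ 2 - b ∈ I.map (algebraMap A B) := by
    rw [← Ideal.Quotient.eq_zero_iff_mem, map_sub, sq, map_mul, hb.eq, sub_self]
  obtain ⟨T, hTI, hT⟩ : ∃ T : Finset B, ∃ c : B → A, (∀ t, c t ∈ I) ∧ b ^ 2 - b = ∑ t ∈ T, c t • t := by
    classical
    obtain ⟨l, hlI, hl⟩ : ∃ l : List (A × B), (∀ p ∈ l, p.1 ∈ I) ∧ b ^ 2 - b = (l.map fun p => p.1 • p.2).sum := by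
      have hy' : b ^ 2 - b ∈ I • (⊤ : Submodule A B) := by
        rw [Ideal.smul_top_eq_map]; exact hy
      refine Submodule.smul_induction_on hy' (fun a ha x _ => ⟨[(a, x)], by simpa using ha, by simp⟩) ?_
      rintro x y ⟨l, hl, rfl⟩ ⟨l', hl', rfl⟩
      exact ⟨l ++ l', fun p hp => (List.mem_append.1 hp).elim (hl p) (hl' p), by simp⟩
    clear hy
    revert hl
    generalize b ^ 2 - b = y
    intro hl
    subst hl
    induction l with
    | nil => exact ⟨∅, fun _ => 0, fun _ => I.zero_mem, by simp⟩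
    | cons p l ih =>
      obtain ⟨T, c, hc, hsum⟩ := ih fun q hq => hlI q (List.mem_cons_of_mem _ hq)
      refine ⟨insert p.2 T, fun t => (if t ∈ T then c t else 0) + (if t = p.2 then p.1 else 0),
        fun t => I.add_mem (by split_ifs <;> simp [hc]) (by split_ifs <;> simp [hlI p]), ?_⟩
      rw [List.map_cons, List.sum_cons, hsum]
      simp only [add_smul, Finset.sum_add_distrib, ite_smul, zero_smul]
      rw [Finset.sum_ite_eq' (insert p.2 T) p.2, if_pos (Finset.mem_insert_self _ _), add_comm]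
      congr 1
      rw [← Finset.sum_filter]
      refine Finset.sum_congr (Finset.ext fun t => by simp) fun _ _ => rfl
  obtain ⟨c, hc, hsum⟩ : ∃ c : B → A, (∀ t, c t ∈ I) ∧ b ^ 2 - b = ∑ t ∈ T, c t • t := ⟨hTI, hT⟩
  classical
  let C := Algebra.adjoin A (↑(insert b T) : Set B)
  haveI : Module.Finite A C := Module.Finite.iff_fg.2
    (fg_adjoin_of_finite (Finset.finite_toSet _) fun x _ => Algebra.IsIntegral.isIntegral x)
  have hbC : b ∈ C := Algebra.subset_adjoin (by simp)
  let y : C := ⟨b ^ 2 - b, sub_mem (pow_mem hbC 2) hbC⟩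
  have hrange : LinearMap.range (Algebra.lmul A C y) ≤ I • ⊤ := by
    rintro _ ⟨x, rfl⟩
    have : y = ∑ t ∈ T.attach, c t.1 • (⟨t.1, Algebra.subset_adjoin (Finset.mem_insert_of_mem t.2)⟩ : C) :=
      Subtype.ext (by
        rw [AddSubmonoidClass.coe_finsetSum]
        show b ^ 2 - b = ∑ t ∈ T.attach, c t.1 • (t.1 : B)
        rw [hsum, Finset.sum_attach T (fun t => c t • t)])
    show y * x ∈ _
    rw [this, Finset.sum_mul]
    exact sum_mem fun t _ => by rw [smul_mul_assoc]; exact Submodule.smul_mem_smul (hc _) Submodule.mem_top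
  obtain ⟨p, hpm, -, hpI, hp0⟩ :=
    LinearMap.exists_monic_and_natDegree_eq_and_coeff_mem_pow_and_aeval_eq_zero A (Algebra.lmul A C y) I hrange
  have hpy : aeval (b ^ 2 - b) p = 0 := by
    have h1 := LinearMap.congr_fun hp0 1
    rw [aeval_algHom_apply] at h1
    have h2 : aeval y p = 0 := by simpa using h1
    have := congrArg C.val h2
    rw [← aeval_algHom_apply, map_zero] at this
    exact this
  have hmap : p.map (Ideal.Quotient.mk I) = X ^ p.natDegree := by
    ext i
    rw [coeff_map, coeff_X_pow]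
    split_ifs with h
    · rw [h, hpm.coeff_natDegree, map_one]
    · rw [Ideal.Quotient.eq_zero_iff_mem]
      rcases lt_or_gt_of_ne h with h' | h'
      · exact Ideal.pow_le_self (by omega) (hpI i)
      · rw [coeff_eq_zero_of_natDegree_lt h']; exact I.zero_mem
  by_cases hd : p.natDegree = 0
  · have h1 : p = 1 := hpm.natDegree_eq_zero.1 hd
    rw [h1, map_one] at hpy
    haveI : Subsingleton B := subsingleton_of_zero_eq_one hpy.symm
    exact ⟨X ^ 1 * (X - 1) ^ 1, 1, by simpa using (monic_X_pow 1).mul (monic_X_sub_C (1 : A)), le_rfl,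
      Subsingleton.elim _ _, by simp⟩
  refine ⟨p.comp (X ^ 2 - X), p.natDegree, ?_, Nat.one_le_iff_ne_zero.2 hd, ?_, ?_⟩
  · have hq : (X ^ 2 - X : A[X]).Monic := monic_X_pow_sub (by
      exact lt_of_le_of_lt degree_X_le (by decide))
    refine hpm.comp hq fun h => ?_
    rcases subsingleton_or_nontrivial A with hA | hA
    · exact hd (natDegree_of_subsingleton)
    · rw [natDegree_sub_eq_left_of_natDegree_lt (by simp), natDegree_X_pow] at h
      omega
  · rw [aeval_comp]
    simpa using hpy
  · rw [map_comp, hmap, pow_comp, X_comp, Polynomial.map_sub, Polynomial.map_pow, Polynomial.map_X,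
      ← mul_pow]
    congr 1
    ring

end Groth.Agent.S1959
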