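import Groth.Statements.S19590
import Mathlib
-- import your own Groth.Agent.* helpers here

set_option autoImplicit false
open BddFin

namespace Groth.Agent.S19590

theorem one_add_pow {R : Type*} [Ring R] (a : R) (m : ℕ) :
    ∃ c : R, (1 + a) ^ m = 1 + m • a + a ^ 2 * c := by
  induction m with
  | zero => exact ⟨0, by simp⟩
  | succ m ih =>
    obtain ⟨c, hc⟩ := ih
    refine ⟨m • (1 : R) + c + c * a, ?_⟩
    rw [pow_succ, hc]
    simp only [add_smul, one_smul, mul_add, add_mul, one_mul, mul_one, pow_two, nsmul_eq_mul, Nat.cast_comm, mul_assoc]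
    abel

theorem eq_one_of_pow_prime {n : ℕ} {g : Matrix (Fin n) (Fin n) ℤ} {p : ℕ} (hp : p.Prime)
    (hg : g ^ p = 1) (h : ∃ A : Matrix (Fin n) (Fin n) ℤ, g = 1 + (3 : ℤ) • A) : g = 1 := by
  have key : ∀ k : ℕ, ∃ A : Matrix (Fin n) (Fin n) ℤ, g = 1 + ((3 : ℤ) ^ (k + 1)) • A := by
    intro k
    induction k with
    | zero => simpa using h
    | succ k ih =>
      obtain ⟨B, hB⟩ := ih
      set x : ℤ := (3 : ℤ) ^ (k + 1) with hx
      have hx0 : x ≠ 0 := by positivity
      have hd : ∀ i j, (3 : ℤ) ∣ B i j := by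
        rw [hB] at hg
        by_cases h3 : p = 3
        · subst h3
          have e : (1 + x • B) ^ 3 = 1 + (3 * x) • B + (3 * x * x) • (B * B) + (x * x * x) • (B * B * B) := by
            simp only [pow_succ, pow_zero, one_mul, mul_add, add_mul, mul_one, smul_mul_assoc, mul_smul_comm, smul_smul, mul_assoc]
            module
          rw [e] at hg
          intro i j
          have := congrFun (congrFun hg i) j
          simp only [Matrix.add_apply, Matrix.smul_apply, smul_eq_mul] at this
          have h2 : x * (3 * B i j + 3 * x * (B * B) i j + x * x * (B * B * B) i j) = 0 := by linear_combination this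
          have h4 := (mul_eq_zero.mp h2).resolve_left hx0
          refine ⟨-(3 ^ k) * (B * B) i j - 3 ^ k * 3 ^ k * (B * B * B) i j, ?_⟩
          rw [hx, pow_succ] at h4
          linarith
        · obtain ⟨c, hc⟩ := one_add_pow (x • B) p
          rw [hc] at hg
          intro i j
          have := congrFun (congrFun hg i) j
          simp only [pow_two, smul_mul_assoc, mul_smul_comm, smul_smul, ← Nat.cast_smul_eq_nsmul ℤ, Matrix.add_apply, Matrix.smul_apply, smul_eq_mul] at this
          have h2 : x * ((p : ℤ) * B i j + x * (B * B * c) i j) = 0 := by linear_combination this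
          have h4 := (mul_eq_zero.mp h2).resolve_left hx0
          have h5 : (3 : ℤ) ∣ (p : ℤ) * B i j := ⟨-(3 ^ k) * (B * B * c) i j, by rw [hx, pow_succ] at h4; linarith⟩
          refine (Int.Prime.dvd_mul' (by norm_num : Nat.Prime 3) (by exact_mod_cast h5)).resolve_left ?_
          intro hh
          have : 3 ∣ p := by exact_mod_cast hh
          exact h3 ((Nat.prime_dvd_prime_iff_eq (by norm_num) hp).mp this).symm
      choose C hC using hd
      refine ⟨Matrix.of C, ?_⟩
      rw [hB]
      congr 1
      ext i j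
      simp [hC i j, hx, pow_succ]
      ring
  obtain ⟨A, hA⟩ := h
  suffices g - 1 = 0 from sub_eq_zero.mp this
  ext i j
  simp only [Matrix.zero_apply]
  by_contra hne
  obtain ⟨B, hB⟩ := key ((g - 1) i j).natAbs
  have hdiv : (3 : ℤ) ^ (((g - 1) i j).natAbs + 1) ∣ (g - 1) i j := ⟨B i j, by
    generalize ((g - 1) i j).natAbs + 1 = N at hB ⊢
    rw [hB, add_sub_cancel_left]; rfl⟩
  have h1 := Nat.le_of_dvd (Int.natAbs_pos.mpr hne) (Int.natAbs_dvd_natAbs.mpr hdiv)
  rw [Int.natAbs_pow] at h1
  have := @Nat.lt_pow_self (((g - 1) i j).natAbs + 1) 3 (by norm_num)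
  rw [show Int.natAbs 3 = 3 from rfl] at h1
  exact absurd (lt_of_lt_of_le this h1) (by omega)


/-- For every n, the orders of the finite subgroups of GL_n(ℤ) are bounded: there is B such that every
finite subgroup of GL_n(ℤ) has at most B elements. -/
theorem result (n : ℕ) :
    ∃ B : ℕ, ∀ H : Subgroup (Matrix.GeneralLinearGroup (Fin n) ℤ), Finite H → Nat.card H ≤ B := by
  refine ⟨Nat.card (Matrix.GeneralLinearGroup (Fin n) (ZMod 3)), fun H hH => ?_⟩
  let φ : H →* Matrix.GeneralLinearGroup (Fin n) (ZMod 3) :=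
    (Units.map ((Int.castRingHom (ZMod 3)).mapMatrix.toMonoidHom)).comp H.subtype
  refine Nat.card_le_card_of_injective φ ((injective_iff_map_eq_one φ).mpr fun g hg => ?_)
  by_contra hne
  have hfin : IsOfFinOrder g := isOfFinOrder_of_finite g
  have hord : orderOf g ≠ 1 := fun h => hne (orderOf_eq_one_iff.mp h)
  obtain ⟨p, hp, m, hm⟩ := Nat.exists_prime_and_dvd hord
  let u := g ^ m
  have hu : u ^ p = 1 := by rw [← pow_mul, mul_comm, ← hm, pow_orderOf_eq_one]
  have hu1 : u ≠ 1 := by
    intro h
    have := orderOf_dvd_of_pow_eq_one h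
    have hm0 : m ≠ 0 := by rintro rfl; simp [hfin.orderOf_pos.ne'] at hm
    have := Nat.le_of_dvd (Nat.pos_of_ne_zero hm0) this
    have := hp.two_le
    nlinarith [Nat.pos_of_ne_zero hm0]
  have hφu : φ u = 1 := by simp [u, hg]
  apply hu1
  apply Subtype.ext
  apply Units.ext
  have e1 := congrArg Units.val hφu
  refine eq_one_of_pow_prime hp ?_ ?_
  · have := congrArg (fun z : H => ((z : Matrix.GeneralLinearGroup (Fin n) ℤ) : Matrix (Fin n) (Fin n) ℤ)) hu
    simpa using this
  · have hd : ∀ i j, (3 : ℤ) ∣ (((u : Matrix.GeneralLinearGroup (Fin n) ℤ) : Matrix (Fin n) (Fin n) ℤ) - 1) i j := by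
      intro i j
      rw [← Nat.cast_ofNat, ← ZMod.intCast_zmod_eq_zero_iff_dvd]
      have := congrFun (congrFun e1 i) j
      simp [φ, Matrix.one_apply] at this ⊢
      split_ifs with hij <;> simp_all
    choose C hC using hd
    exact ⟨Matrix.of C, by ext i j; have := hC i j; simp at this ⊢; linarith⟩

end Groth.Agent.S19590
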