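import Groth.Statements.S19591

set_option autoImplicit false
universe u v
open BddFin

namespace Groth.Agent.S19591

/-- Let K be a perfect field of characteristic 2, V a finite-dimensional K-vector space with dim V > 2
and q a quadratic form on V whose polar bilinear form is non-degenerate. Then q represents zero
non-trivially. (Non-degeneracy of the polar form, which is alternating in characteristic 2, forces
dim V to be even, as the published lemma notes.) -/
theorem result
    (K : Type u) [Field K] [CharP K 2] [PerfectField K]
    (V : Type v) [AddCommGroup V] [Module K V] [FiniteDimensional K V]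
    (hV : 2 < Module.finrank K V) (q : QuadraticForm K V)
    (hq : (QuadraticMap.polarBilin q).Nondegenerate) :
    ∃ v : V, v ≠ 0 ∧ q v = 0 := by
  haveI : ExpChar K 2 := ExpChar.prime Nat.prime_two
  haveI : Nontrivial V := Module.nontrivial_of_finrank_pos (by omega : 0 < Module.finrank K V)
  obtain ⟨v, hv⟩ := exists_ne (0 : V)
  by_cases hqv : q v = 0
  · exact ⟨v, hv, hqv⟩
  have hker : 2 ≤ Module.finrank K (LinearMap.ker (QuadraticMap.polarBilin q v)) := by
    have h1 := LinearMap.finrank_range_add_finrank_ker (QuadraticMap.polarBilin q v)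
    have h2 := Submodule.finrank_le (LinearMap.range (QuadraticMap.polarBilin q v))
    rw [Module.finrank_self] at h2
    omega
  obtain ⟨w, hw, hwv⟩ : ∃ w, QuadraticMap.polarBilin q v w = 0 ∧ w ∉ Submodule.span K {v} := by
    by_contra hcon
    push Not at hcon
    have hle : LinearMap.ker (QuadraticMap.polarBilin q v) ≤ Submodule.span K {v} :=
      fun w hw => hcon w hw
    have := Submodule.finrank_mono hle
    rw [finrank_span_singleton hv] at this
    omega
  obtain ⟨s, hs⟩ := surjective_frobenius K 2 (q v)
  obtain ⟨t, ht⟩ := surjective_frobenius K 2 (q w)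
  simp only [frobenius_def] at hs ht
  refine ⟨t • v + s • w, fun h0 => ?_, ?_⟩
  · apply hwv
    have hs0 : s ≠ 0 := fun h => hqv (by rw [← hs, h, zero_pow two_ne_zero])
    rw [Submodule.mem_span_singleton]
    refine ⟨-(s⁻¹ * t), ?_⟩
    have : s • w = -(t • v) := eq_neg_of_add_eq_zero_right h0
    calc -(s⁻¹ * t) • v = s⁻¹ • (-(t • v)) := by rw [neg_smul, smul_neg, smul_smul]
      _ = w := by rw [← this, smul_smul, inv_mul_cancel₀ hs0, one_smul]
  · rw [QuadraticMap.map_add (⇑q) (t • v) (s • w), QuadraticMap.map_smul, QuadraticMap.map_smul, QuadraticMap.polar_smul_left,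
      QuadraticMap.polar_smul_right, ← QuadraticMap.polarBilin_apply_apply, hw]
    simp only [smul_eq_mul, mul_zero, add_zero, ← hs, ← ht]
    have h2 : (2 : K) = 0 := CharTwo.two_eq_zero
    linear_combination (t ^ 2 * s ^ 2) * h2

end Groth.Agent.S19591
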