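import Groth.Statements.S19593
import Groth.Agent.Desc59.Pic.GenAtPoints
import Groth.Agent.S9707
import Groth.Agent.EGA73.RelAmpleEmb
import Groth.Agent.EGAProj74.SymAlgUnique
import Groth.Agent.Amp73.Local

set_option autoImplicit false
universe u
open CategoryTheory AlgebraicGeometry
open PicF

namespace Groth.Agent.S19593

/-- Let k be an infinite field, Y a scheme proper over k with a relatively very ample O_Y-module A (the
pullback of O(1) along an immersion of Y into the Proj of a symmetric algebra over k), and y_1, …,
y_m finitely many points of Y. Then some global section of A generates A at every y_i. (The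
published statement takes Y projective over k and A a very ample line bundle; here Y is proper over
k and A very ample relative to Y → Spec k, which makes Y projective.) -/
theorem result
    (k : Type u) [Field k] [Infinite k] (Y : Scheme.{u}) (f : Y ⟶ Spec (CommRingCat.of k)) [IsProper f]
    (A : Y.Modules) (hA : RelProj.IsRelVeryAmple f A)
    (ι : Type) [Finite ι] (y : ι → ↥Y) :
    ∃ s : Coh.structureModule Y ⟶ A, ∀ i : ι, y i ∈ CohB1.genLocus A s := by
  have hinv : PicF.IsInvertible A := by
    obtain ⟨E, hE, 𝒮, j, hj, P, p, chart, -, O1, lam, hO1, i, hi, rfl, ⟨e⟩⟩ := hA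
    exact Groth.Agent.Amp73.isInvertible_of_isRelAmple (Groth.Agent.Amp73.isRelAmple_of_iso e.symm
      (Groth.Agent.EGA73.isRelAmple_pullback_twist_one (Groth.Agent.EGAProj74.isGenDegOne_grSym hE hj) hO1 i i.isEmbedding))
  obtain ⟨n, t, ht⟩ := Groth.Agent.Desc59.Pic.exists_sections_cover (Groth.Agent.S9707.result f A hinv hA)
  exact Groth.Agent.Desc59.Pic.exists_comb (f.appTop.hom.comp (Scheme.ΓSpecIso (CommRingCat.of k)).inv.hom) t hinv ht y

end Groth.Agent.S19593
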