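import Groth.Statements.S19596
import Groth.Agent.ArLef32.Cases

set_option autoImplicit false
universe u
open ArLef ArLef.NodeAlg

namespace Groth.Agent.S19596

/-- In the cases where σ fixes the two branches through the point, these lie on different components,
and the second branch lies in the divisorial part of the fixed locus with multiplicity i₂ strictly
between 0 and j while the first has multiplicity i₁ ≤ i₂, let B be a discrete valuation ring with
uniformizer π, N = B[[t, e]]/(te - π) the complete local ring of a semi-stable arithmetic surface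
over B at a singular point x of the closed fibre, and σ a ring automorphism of N with σ(π) = π + γ
π^j (γ a unit of B, j ≥ 1) and σ(c) - c ∈ π^j N for all c ∈ B. Suppose σ(t) = α t and σ(e) = β e
with units α, β, and α - 1 = t^{i₁} e^{i₂} a, β - 1 = t^{i₁} e^{i₂} b with i₁ ≤ i₂, 0 < i₂ < j, e
not dividing a and t not dividing b. Then, I being the fixed-point ideal of σ, whose divisorial part
near x is t^{i₁} e^{i₂}, the residual fixed-point scheme with ideal (I : t^{i₁} e^{i₂}) has length 1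
+ (j - i₁)·Leng N/(t, b) + (j - i₂)·Leng N/(e, a) at x; here Leng N/(t, b) + i₂ + 1 and Leng N/(e,
a) + i₁ + 1 are the orders at x of the derivations σ induces on the two components (the fixed-point
multiplicities when the component is outside the divisorial part). -/
theorem result (B : Type u) [CommRing B] [IsDomain B] [IsDiscreteValuationRing B] (π : B) (hπ : Irreducible π)
    (j i₁ i₂ : ℕ) (h12 : i₁ ≤ i₂) (h2 : 0 < i₂) (h2j : i₂ < j) (γ : B) (hγ : IsUnit γ)
    (σ : ArLef.NodeAlg B π ≃+* ArLef.NodeAlg B π)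
    (hσB : ∀ c : B, σ (algebraMap B (ArLef.NodeAlg B π) c) - algebraMap B (ArLef.NodeAlg B π) c ∈
      Ideal.span ({algebraMap B (ArLef.NodeAlg B π) (π ^ j)} : Set (ArLef.NodeAlg B π)))
    (hσπ : σ (algebraMap B (ArLef.NodeAlg B π) π) = algebraMap B (ArLef.NodeAlg B π) (π + γ * π ^ j))
    (α β : (ArLef.NodeAlg B π)ˣ) (ht : σ (ArLef.NodeAlg.t π) = (α : ArLef.NodeAlg B π) * ArLef.NodeAlg.t π) (he : σ (ArLef.NodeAlg.e π) = (β : ArLef.NodeAlg B π) * ArLef.NodeAlg.e π)
    (a b : ArLef.NodeAlg B π) (ha : (α : ArLef.NodeAlg B π) - 1 = ArLef.NodeAlg.t π ^ i₁ * ArLef.NodeAlg.e π ^ i₂ * a) (hb : (β : ArLef.NodeAlg B π) - 1 = ArLef.NodeAlg.t π ^ i₁ * ArLef.NodeAlg.e π ^ i₂ * b)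
    (hea : ¬ (ArLef.NodeAlg.e π ∣ a)) (htb : ¬ (ArLef.NodeAlg.t π ∣ b)) :
    Module.length (ArLef.NodeAlg B π) (ArLef.NodeAlg B π ⧸ (ArLef.fixIdeal σ).colon ({ArLef.NodeAlg.t π ^ i₁ * ArLef.NodeAlg.e π ^ i₂} : Set (ArLef.NodeAlg B π))) =
      1 + ((j - i₁ : ℕ) : ℕ∞) * Module.length (ArLef.NodeAlg B π) (ArLef.NodeAlg B π ⧸ Ideal.span ({ArLef.NodeAlg.t π, b} : Set (ArLef.NodeAlg B π))) +
        ((j - i₂ : ℕ) : ℕ∞) * Module.length (ArLef.NodeAlg B π) (ArLef.NodeAlg B π ⧸ Ideal.span ({ArLef.NodeAlg.e π, a} : Set (ArLef.NodeAlg B π))) := by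
  have : Fact (IsLocalRing.maximalIdeal B = Ideal.span {π}) := ⟨hπ.maximalIdeal_eq⟩
  have := ArLef32.isDomain_node (π := π) hπ.ne_zero
  have hab := ArLef32.mul_sub_one_eq hπ.ne_zero σ (α := (α : NodeAlg B π)) (β := β)
    (show 1 ≤ j by omega) hσπ (by rw [ht, he]; ring)
  set g := t π ^ i₁ * e π ^ i₂
  have hg : g ≠ 0 :=
    mul_ne_zero (pow_ne_zero _ (ArLef32.T_ne_zero 0)) (pow_ne_zero _ (ArLef32.T_ne_zero 1))
  obtain ⟨p, hp⟩ : ∃ p, j = i₁ + p + 1 := ⟨j - 1 - i₁, by omega⟩
  obtain ⟨q, hq⟩ : ∃ q, j = i₂ + q + 1 := ⟨j - 1 - i₂, by omega⟩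
  have hpow : algebraMap B (NodeAlg B π) π ^ (j - 1) = g * (t π ^ p * e π ^ q) := by
    rw [← ArLef32.te_eq, mul_pow]
    conv_lhs => rw [show j - 1 = i₁ + p by omega]; arg 2; rw [show i₁ + p = i₂ + q by omega]
    rw [pow_add, pow_add]
    ring
  have hK := ArLef32.length_core (π := π) hπ.ne_zero (p := p) (q := q) (by omega) α
    (γ := algebraMap B (NodeAlg B π) γ) (a := a) (b := b)
    (mul_left_cancel₀ hg (by
      linear_combination hab + algebraMap B (NodeAlg B π) γ * hpow - ha - (α : NodeAlg B π) * hb))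
    hea htb
  rw [ArLef32.colon_eq_of_mul_span hg (ArLef32.P π * (t π ^ p * e π ^ q)) (a * t π) (b * e π) ?_,
    hK, show j - i₁ = p + 1 by omega, show j - i₂ = q + 1 by omega]
  rw [ArLef32.fixIdeal_eq_span σ _ hγ hσB hσπ, ht, he]
  rw [show (α : NodeAlg B π) * t π - t π = g * (a * t π) by linear_combination (t π) * ha,
    show (β : NodeAlg B π) * e π - e π = g * (b * e π) by linear_combination (e π) * hb,
    show ArLef32.P π ^ j = g * (ArLef32.P π * (t π ^ p * e π ^ q)) by
      rw [mul_left_comm, ← hpow, ← pow_succ', Nat.sub_add_cancel (show 1 ≤ j by omega)]]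

end Groth.Agent.S19596
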