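import Groth.Statements.S19597
import Groth.Agent.ArLef32.Cases

set_option autoImplicit false
universe u
open ArLef ArLef.NodeAlg

namespace Groth.Agent.S19597

/-- In the cases where σ fixes the two branches through the point, these lie on different components,
the second lies in the divisorial part of the fixed locus with the maximal multiplicity j and the
first with multiplicity i₁ < j, let B be a discrete valuation ring with uniformizer π, N = B[[t,
e]]/(te - π) the complete local ring of a semi-stable arithmetic surface over B at a singular point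
x of the closed fibre, and σ a ring automorphism of N with σ(π) = π + γ π^j (γ a unit of B, j ≥ 1)
and σ(c) - c ∈ π^j N for all c ∈ B. Suppose σ(t) = α t and σ(e) = β e with units α, β, that α - 1 =
t^{i₁} e^j a and β - 1 = t^{i₁} e^{j-1} b with i₁ < j and t not dividing b. Then, I being the
fixed-point ideal of σ, whose divisorial part near x is t^{i₁} e^j, the length l of the residual
fixed-point scheme with ideal (I : t^{i₁} e^j) satisfies l + (j - 1 - i₁) = (j - i₁)·Leng N/(t, b);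
for i₁ = 0, Leng N/(t, b) + j is the fixed-point multiplicity s₁ of σ at x on the first component
and l = j (s₁ - j - 1) + 1. -/
theorem result (B : Type u) [CommRing B] [IsDomain B] [IsDiscreteValuationRing B] (π : B) (hπ : Irreducible π)
    (j i₁ : ℕ) (h1 : i₁ < j) (γ : B) (hγ : IsUnit γ)
    (σ : ArLef.NodeAlg B π ≃+* ArLef.NodeAlg B π)
    (hσB : ∀ c : B, σ (algebraMap B (ArLef.NodeAlg B π) c) - algebraMap B (ArLef.NodeAlg B π) c ∈
      Ideal.span ({algebraMap B (ArLef.NodeAlg B π) (π ^ j)} : Set (ArLef.NodeAlg B π)))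
    (hσπ : σ (algebraMap B (ArLef.NodeAlg B π) π) = algebraMap B (ArLef.NodeAlg B π) (π + γ * π ^ j))
    (α β : (ArLef.NodeAlg B π)ˣ) (ht : σ (ArLef.NodeAlg.t π) = (α : ArLef.NodeAlg B π) * ArLef.NodeAlg.t π) (he : σ (ArLef.NodeAlg.e π) = (β : ArLef.NodeAlg B π) * ArLef.NodeAlg.e π)
    (a b : ArLef.NodeAlg B π) (ha : (α : ArLef.NodeAlg B π) - 1 = ArLef.NodeAlg.t π ^ i₁ * ArLef.NodeAlg.e π ^ j * a) (hb : (β : ArLef.NodeAlg B π) - 1 = ArLef.NodeAlg.t π ^ i₁ * ArLef.NodeAlg.e π ^ (j - 1) * b)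
    (htb : ¬ (ArLef.NodeAlg.t π ∣ b)) :
    Module.length (ArLef.NodeAlg B π) (ArLef.NodeAlg B π ⧸ (ArLef.fixIdeal σ).colon ({ArLef.NodeAlg.t π ^ i₁ * ArLef.NodeAlg.e π ^ j} : Set (ArLef.NodeAlg B π))) + ((j - 1 - i₁ : ℕ) : ℕ∞) =
      ((j - i₁ : ℕ) : ℕ∞) * Module.length (ArLef.NodeAlg B π) (ArLef.NodeAlg B π ⧸ Ideal.span ({ArLef.NodeAlg.t π, b} : Set (ArLef.NodeAlg B π))) := by
  have : Fact (IsLocalRing.maximalIdeal B = Ideal.span {π}) := ⟨hπ.maximalIdeal_eq⟩
  have := ArLef32.isDomain_node (π := π) hπ.ne_zero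
  have hab := ArLef32.mul_sub_one_eq hπ.ne_zero σ (α := (α : NodeAlg B π)) (β := β)
    (show 1 ≤ j by omega) hσπ (by rw [ht, he]; ring)
  obtain ⟨p, rfl⟩ : ∃ p, j = i₁ + p + 1 := ⟨j - 1 - i₁, by omega⟩
  rw [Nat.add_sub_cancel] at hab hb
  rw [ArLef32.P, ← ArLef32.te_eq, mul_pow] at hab
  set g := t π ^ i₁ * e π ^ (i₁ + p + 1)
  have hg' : t π ^ i₁ * e π ^ (i₁ + p) ≠ 0 :=
    mul_ne_zero (pow_ne_zero _ (ArLef32.T_ne_zero 0)) (pow_ne_zero _ (ArLef32.T_ne_zero 1))
  have hg : g ≠ 0 :=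
    mul_ne_zero (pow_ne_zero _ (ArLef32.T_ne_zero 0)) (pow_ne_zero _ (ArLef32.T_ne_zero 1))
  have hK := ArLef32.length_core' (π := π) hπ.ne_zero p α (γ := algebraMap B (NodeAlg B π) γ)
    (a := a) (b := b) (mul_left_cancel₀ hg' (by
      rw [pow_add (t π) i₁ p] at hab
      linear_combination hab - ha - (α : NodeAlg B π) * hb)) htb
  rw [ArLef32.colon_eq_of_mul_span hg (t π ^ (p + 1)) (a * t π) b ?_,
    show i₁ + p + 1 - 1 - i₁ = p by omega, show i₁ + p + 1 - i₁ = p + 1 by omega]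
  · exact hK
  rw [ArLef32.fixIdeal_eq_span σ _ hγ hσB hσπ, ht, he]
  rw [show (α : NodeAlg B π) * t π - t π = g * (a * t π) by linear_combination (t π) * ha,
    show (β : NodeAlg B π) * e π - e π = g * b by
      simp only [g, pow_succ]; linear_combination (e π) * hb,
    show ArLef32.P π ^ (i₁ + p + 1) = g * t π ^ (p + 1) by
      simp only [g]; rw [ArLef32.P, ← ArLef32.te_eq, mul_pow, add_assoc i₁ p 1, pow_add (t π)]; ring]

end Groth.Agent.S19597
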