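import Groth.Agent.Hopf35.ReyUnique
import Groth.Statements.S19602

set_option autoImplicit false
universe u
open GIT

namespace Groth.Agent.S19602

theorem result (k : Type u) [Field k] [IsAlgClosed k]
    (A : Type u) [CommRing A] [HopfAlgebra k A] [Algebra.FiniteType k A] (hG : HopfRep.IsLinearlyReductive k A)
    (R : Type u) [CommRing R] [Algebra k R] [Algebra.FiniteType k R] [HopfRep.Comod k A R] [GLin.IsCoactAlg k A R]
    (x₁ x₂ : R →ₐ[k] k) :
    x₁.comp (GLin.invariants k A R).val = x₂.comp (GLin.invariants k A R).val ↔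
      ∃ z : R →ₐ[k] k, GLin.InOrbitClosure k A x₁ z ∧ GLin.InOrbitClosure k A x₂ z := by
  exact Groth.Agent.Hopf35.ReyUnique.comp_invariants_eq_iff hG x₁ x₂

end Groth.Agent.S19602
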