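import Groth.Agent.Hopf35.ReyUnique
import Groth.Statements.S19603

set_option autoImplicit false
universe u
open GIT

namespace Groth.Agent.S19603

theorem result (k : Type u) [Field k] [IsAlgClosed k]
    (A : Type u) [CommRing A] [HopfAlgebra k A] [Algebra.FiniteType k A] (hG : HopfRep.IsLinearlyReductive k A)
    (ι : Type u) [Fintype ι] [HopfRep.Comod k A (MvPolynomial ι k)] [GLin.IsCoactAlg k A (MvPolynomial ι k)]
    (hlin : GLin.IsLinear k A ι) (v : ι → k) :
    GLin.IsSemistableVec k A v ↔
      ¬ GLin.InOrbitClosure k A (GLin.vecPt k ι v) (GLin.vecPt k ι (fun _ => (0 : k))) := by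
  exact Groth.Agent.Hopf35.ReyUnique.isSemistableVec_iff hG hlin v

end Groth.Agent.S19603
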