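import Groth.Statements.S19609

set_option autoImplicit false
universe u
open CartMod

namespace Groth.Agent.S19609

/-- Let p be a prime and u : A → B a ring homomorphism between commutative rings which are complete and
separated for the p-adic topology and have no p-torsion (flat over the p-adic base). If u induces a
bijection A/pA → B/pB (injectivity: u a ∈ pB forces a ∈ pA; surjectivity: every b ∈ B is congruent
to some u a modulo pB), then u is bijective. (The published statement is for a morphism of flat
p-adic formal schemes over the Witt vectors of a perfect field: if its special fibre is an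
isomorphism, so is the morphism; this row is its affine, ring-level case.) -/
theorem result (p : ℕ) [Fact p.Prime]
    {A B : Type u} [CommRing A] [CommRing B]
    [IsAdicComplete (Ideal.span {(p : A)}) A] [IsAdicComplete (Ideal.span {(p : B)}) B]
    (hA : IsSMulRegular A (p : A)) (hB : IsSMulRegular B (p : B)) (u : A →+* B)
    (hinj : ∀ a : A, u a ∈ Ideal.span {(p : B)} → a ∈ Ideal.span {(p : A)})
    (hsurj : ∀ b : B, ∃ a : A, b - u a ∈ Ideal.span {(p : B)}) :
    Function.Bijective u := by
  have hn : ∀ (n : ℕ) (a : A), u a = 0 → a ∈ Ideal.span {(p : A)} ^ n := by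
    intro n
    induction n with
    | zero => intro a _; simp
    | succ n ih =>
      intro a ha
      obtain ⟨a', ha'⟩ := Ideal.mem_span_singleton'.mp (hinj a (by simp [ha]))
      have h0 : u a' = 0 := hB (by
        simp only [smul_eq_mul, mul_zero]
        rw [← map_natCast u, ← map_mul, mul_comm, ha', ha])
      rw [← ha', pow_succ]
      exact Ideal.mul_mem_mul (ih a' h0) (Ideal.mem_span_singleton_self _)
  refine ⟨(injective_iff_map_eq_zero u).mpr fun a ha =>
    IsHausdorff.haus (I := Ideal.span {(p : A)}) inferInstance a fun n => ?_, ?_⟩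
  · rw [SModEq.zero, smul_eq_mul, Ideal.mul_top]
    exact hn n a ha
  intro b
  have step : ∀ x : B, ∃ (a : A) (x' : B), x - u a = (p : B) * x' := by
    intro x
    obtain ⟨a, ha⟩ := hsurj x
    obtain ⟨x', hx'⟩ := Ideal.mem_span_singleton'.mp ha
    exact ⟨a, x', by rw [← hx', mul_comm]⟩
  choose f g hfg using step
  let bs : ℕ → B := fun n => g^[n] b
  let S : ℕ → A := fun n => ∑ i ∈ Finset.range n, (p : A) ^ i * f (bs i)
  have hS : ∀ n, b - u (S n) = (p : B) ^ n * bs n := by
    intro n
    induction n with
    | zero => simp [S, bs]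
    | succ n ih =>
      have hb : bs (n + 1) = g (bs n) := Function.iterate_succ_apply' g n b
      have : S (n + 1) = S n + (p : A) ^ n * f (bs n) := Finset.sum_range_succ _ n
      rw [this, map_add, map_mul, map_pow, map_natCast, ← sub_sub, ih, ← mul_sub, hfg, hb, pow_succ,
        mul_assoc]
  have hC : ∀ {m n : ℕ}, m ≤ n → S m ≡ S n [SMOD (Ideal.span {(p : A)} ^ m • ⊤ : Submodule A A)] := by
    intro m n hmn
    rw [SModEq.sub_mem, smul_eq_mul, Ideal.mul_top, Ideal.span_singleton_pow]
    simp only [S]
    rw [← neg_sub, Ideal.neg_mem_iff, ← Finset.sum_Ico_eq_sub _ hmn]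
    refine Submodule.sum_mem _ fun i hi => Ideal.mem_span_singleton.mpr ?_
    exact Dvd.dvd.mul_right (pow_dvd_pow _ (Finset.mem_Ico.mp hi).1) _
  obtain ⟨L, hL⟩ := IsPrecomplete.prec (I := Ideal.span {(p : A)}) inferInstance hC
  refine ⟨L, sub_eq_zero.mp (IsHausdorff.haus (I := Ideal.span {(p : B)}) inferInstance _ fun n => ?_)⟩
  rw [SModEq.zero, smul_eq_mul, Ideal.mul_top, Ideal.span_singleton_pow, Ideal.mem_span_singleton]
  have h := hL n
  rw [SModEq.sub_mem, smul_eq_mul, Ideal.mul_top, Ideal.span_singleton_pow,
    Ideal.mem_span_singleton] at h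
  have h2 := map_dvd u h
  rw [map_pow, map_natCast, map_sub] at h2
  have e : u L - b = -(u (S n) - u L) - (b - u (S n)) := by ring
  rw [e, hS]
  exact dvd_sub (dvd_neg.mpr h2) (dvd_mul_right _ _)

end Groth.Agent.S19609
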