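import Groth.Statements.S1961
import Mathlib.RingTheory.Etale.Basic
import Groth.Agent.EtAlg23.HenselBasic

set_option autoImplicit false
universe u
open EtAlg

namespace Groth.Agent.S1961

/-- A henselization S of a local ring R (characterized by its universal property) is formally étale over
R. -/
theorem result (R S : Type u) [CommRing R] [IsLocalRing R] [CommRing S] [IsLocalRing S]
    [Algebra R S] [IsLocalHom (algebraMap R S)] [Hensel.IsHenselization R S] : Algebra.FormallyEtale R S := by
  rw [Algebra.FormallyEtale.iff_comp_bijective]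
  intro C _ _ N hN
  have hnilN : ∀ x ∈ N, IsNilpotent x := fun x hx => ⟨2, by
    have := Ideal.pow_mem_pow hx 2; rwa [hN, Ideal.mem_bot] at this⟩
  have key : ∀ fb : S →ₐ[R] C ⧸ N, ∃! g : S →ₐ[R] C, (Ideal.Quotient.mkₐ R N).comp g = fb := by
    intro fb
    let P := AlgHom.equalizer ((Ideal.Quotient.mkₐ R N).comp (AlgHom.fst R C S)) (fb.comp (AlgHom.snd R C S))
    let p : P →+* S := ((AlgHom.snd R C S).comp P.val).toRingHom
    have hp : Function.Surjective p := fun s => by
      obtain ⟨c, hc⟩ := Ideal.Quotient.mkₐ_surjective R N (fb s)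
      exact ⟨⟨(c, s), hc⟩, rfl⟩
    have hn : ∀ x, p x = 0 → IsNilpotent x := by
      rintro ⟨⟨c, s⟩, hcs⟩ (rfl : s = 0)
      obtain ⟨n, hn⟩ := hnilN c (Ideal.Quotient.eq_zero_iff_mem.1 (hcs.trans (map_zero fb)))
      exact ⟨n + 1, Subtype.ext (Prod.ext (by simp [pow_succ, hn]) (by simp))⟩
    haveI := Hensel.IsHenselization.henselian (R := R) (S := S)
    haveI := Groth.Agent.EtAlg23.henselianLocalRing_of_surjective_nil p hp hn
    haveI := Groth.Agent.EtAlg23.isLocalHom_of_surjective_nil p hp hn
    have hloc : IsLocalHom (algebraMap R P) := by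
      haveI : IsLocalHom (p.comp (algebraMap R P)) := by
        have : p.comp (algebraMap R P) = algebraMap R S := rfl
        rw [this]; infer_instance
      exact isLocalHom_of_comp _ p
    obtain ⟨g, hg, hu⟩ := Hensel.IsHenselization.universal (R := R) (S := S) P (algebraMap R P) hloc
    obtain ⟨i, -, hiu⟩ := Hensel.IsHenselization.universal (R := R) (S := S) S (algebraMap R S) inferInstance
    have hpg : ∀ s, p (g s) = s := fun s => by
      have h1 : p.comp g = RingHom.id S := (hiu _ (by simp only [RingHom.comp_assoc, hg]; rfl)).trans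
        (hiu _ (RingHom.id_comp _)).symm
      exact RingHom.congr_fun h1 s
    let G : S →ₐ[R] P := { g with commutes' := fun r => RingHom.congr_fun hg r }
    refine ⟨((AlgHom.fst R C S).comp P.val).comp G, ?_, fun g' hg' => ?_⟩
    · ext s
      exact (G s).2.trans (congrArg fb (hpg s))
    · have hmem : ∀ s, (g' s, s) ∈ P := fun s => AlgHom.congr_fun hg' s
      let G' : S →ₐ[R] P := (g'.prod (AlgHom.id R S)).codRestrict P hmem
      have : G'.toRingHom = g := hu _ G'.comp_algebraMap
      ext s
      exact congrArg (fun x : P => x.1.1) (RingHom.congr_fun this s)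
  exact ⟨fun a b hab => (key _).unique (y₁ := a) (y₂ := b) rfl hab.symm, fun fb => (key fb).exists⟩

end Groth.Agent.S1961
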