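import Groth.Agent.Helper62.FlatNilCrit
import Mathlib

universe u

open TensorProduct

namespace Groth.Agent.S19610

theorem result (p : ℕ) [Fact p.Prime]
    {A B : Type u} [CommRing A] [CommRing B] [Algebra A B]
    [IsAdicComplete (Ideal.span {(p : A)}) A] [IsAdicComplete (Ideal.span {(p : B)}) B]
    (hA : IsSMulRegular A (p : A)) (hB : IsSMulRegular B (p : B))
    (h : Module.Flat (A ⧸ Ideal.span {(p : A)}) ((A ⧸ Ideal.span {(p : A)}) ⊗[A] B))
    (n : ℕ) (hn : 1 ≤ n) :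
    Module.Flat (A ⧸ (Ideal.span {(p : A)} ^ n)) ((A ⧸ (Ideal.span {(p : A)} ^ n)) ⊗[A] B) := by
  set I := Ideal.span {(p : A)}
  let R := A ⧸ I ^ n
  let π : R := Ideal.Quotient.mk (I ^ n) (p : A)
  let J : Ideal R := Ideal.span {π}
  have hπ : π ^ n = 0 := by
    rw [← map_pow, Ideal.Quotient.eq_zero_iff_mem]
    exact Ideal.pow_mem_pow (Ideal.mem_span_singleton_self _) n
  let φ : A ⧸ I →+* R ⧸ J := Ideal.Quotient.lift I (algebraMap A (R ⧸ J)) fun a ha => by
    obtain ⟨c, rfl⟩ := Ideal.mem_span_singleton.1 ha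
    rw [map_mul]
    refine mul_eq_zero_of_left ?_ _
    rw [IsScalarTower.algebraMap_apply A R (R ⧸ J), Ideal.Quotient.algebraMap_eq,
      Ideal.Quotient.eq_zero_iff_mem]
    exact Ideal.mem_span_singleton_self _
  let alg : Algebra (A ⧸ I) (R ⧸ J) := φ.toAlgebra
  have : IsScalarTower A (A ⧸ I) (R ⧸ J) := IsScalarTower.of_algebraMap_eq' rfl
  have : Module.Flat (R ⧸ J) ((R ⧸ J) ⊗[R] (R ⊗[A] B)) :=
    Module.Flat.of_linearEquiv
      ((TensorProduct.AlgebraTensorModule.cancelBaseChange A R (R ⧸ J) (R ⧸ J) B).trans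
        (TensorProduct.AlgebraTensorModule.cancelBaseChange A (A ⧸ I) (R ⧸ J) (R ⧸ J) B).symm)
  refine FlatNilCrit62.flat_of_nilpotent_injective (J := J) ⟨n, ?_⟩ (R ⊗[A] B) ?_
  · rw [show J ^ n = Ideal.span {π} ^ n from rfl, Ideal.span_singleton_pow π, hπ]; simp
  let t : J := ⟨π, Ideal.mem_span_singleton_self π⟩
  rw [injective_iff_map_eq_zero]
  intro x hx
  obtain ⟨m, rfl⟩ : ∃ m : R ⊗[A] B, t ⊗ₜ[R] m = x := by
    clear hx
    induction x using TensorProduct.induction_on with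
    | zero => exact ⟨0, tmul_zero _ _⟩
    | add x y hx hy =>
      obtain ⟨a, rfl⟩ := hx; obtain ⟨b, rfl⟩ := hy
      exact ⟨a + b, tmul_add _ _ _⟩
    | tmul j m =>
      obtain ⟨c, hc⟩ := Ideal.mem_span_singleton'.1 j.2
      refine ⟨c • m, ?_⟩
      rw [tmul_smul, smul_tmul']
      congr 1
      exact Subtype.ext hc
  obtain ⟨b, rfl⟩ : ∃ b : B, (1 : R) ⊗ₜ[A] b = m := by
    clear hx
    induction m using TensorProduct.induction_on with
    | zero => exact ⟨0, tmul_zero _ _⟩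
    | add x y hx hy =>
      obtain ⟨a, rfl⟩ := hx; obtain ⟨b, rfl⟩ := hy
      exact ⟨a + b, tmul_add _ _ _⟩
    | tmul r m =>
      obtain ⟨a, rfl⟩ := Ideal.Quotient.mk_surjective r
      refine ⟨a • m, ?_⟩
      rw [tmul_smul, smul_tmul']
      congr 1
      rw [← Ideal.Quotient.algebraMap_eq, Algebra.algebraMap_eq_smul_one]
  have hpb : (1 : R) ⊗ₜ[A] ((p : A) • b) = 0 := by
    rw [tmul_smul, smul_tmul']
    have : (p : A) • (1 : R) = π * 1 := Algebra.smul_def _ _
    rw [this]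
    rw [LinearMap.rTensor_tmul] at hx
    have hh := congrArg (TensorProduct.lid R (R ⊗[A] B)) hx
    rwa [lid_tmul, map_zero, smul_tmul', Submodule.subtype_apply, smul_eq_mul] at hh
  have hmem : (p : A) • b ∈ (I ^ n) • (⊤ : Submodule A B) := by
    rw [← Submodule.Quotient.mk_eq_zero]
    have := congrArg (quotTensorEquivQuotSMul B (I ^ n)) hpb
    rw [map_zero, show (1 : R) = Ideal.Quotient.mk (I ^ n) 1 from rfl,
      quotTensorEquivQuotSMul_mk_tmul, one_smul] at this
    exact this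
  obtain ⟨k, rfl⟩ : ∃ k, n = k + 1 := ⟨n - 1, by omega⟩
  rw [Ideal.span_singleton_pow, Submodule.ideal_span_singleton_smul] at hmem
  obtain ⟨b', -, hb'⟩ := (Submodule.mem_smul_pointwise_iff_exists _ _ _).1 hmem
  have hb : b = (p : A) ^ k • b' := by
    apply hB
    simp only [smul_eq_mul, Algebra.smul_def, map_pow, map_natCast] at hb' ⊢
    rw [← hb', pow_succ]
    ring
  rw [hb, tmul_smul, ← algebraMap_smul R ((p : A) ^ k), tmul_smul, smul_tmul']
  have : (algebraMap A R ((p : A) ^ k)) • t = 0 := Subtype.ext (by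
    change algebraMap A R ((p : A) ^ k) • π = 0
    rw [smul_eq_mul, map_pow, Ideal.Quotient.algebraMap_eq, ← pow_succ, hπ])
  rw [this, zero_tmul]

end Groth.Agent.S19610
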