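import Groth.Statements.S19611
import Mathlib.AlgebraicGeometry.IdealSheaf.Subscheme
import Mathlib.AlgebraicGeometry.Morphisms.QuasiCompact

set_option autoImplicit false
universe u
open CategoryTheory AlgebraicGeometry
open CartMod

namespace Groth.Agent.S19611

/-- For a prime p and a scheme Y of characteristic p, write Y♭ for the scheme-theoretic image of the
absolute Frobenius F_Y : Y → Y, i.e. the closed subscheme of Y defined by the sections of O_Y whose
p-th power vanishes, and Y → Y♭ for the canonical morphism through which F_Y factors. Then Y → Y♭ is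
an epimorphism of schemes: two morphisms g₁, g₂ from Y♭ to a scheme Z with equal composites Y → Y♭ →
Z are equal. (The published statement is for k-morphisms g₁, g₂ from Y♭ to a k-scheme Z over a
perfect field k of characteristic p, compared after Frobenius twist through Y → (Y♭)'; this row asks
right-cancellation against morphisms to every scheme Z, which is equivalent to it for k-morphisms.) -/
theorem result (p : ℕ) [Fact p.Prime] (Y : Scheme.{u}) [FrobSch.IsCharP Y p] :
    Epi (FrobSch.frob Y p).toImage := by
  have hbase : ∀ y, (FrobSch.frob Y p) y = y := fun y => rfl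
  have : QuasiCompact (FrobSch.frob Y p) := ⟨fun U _ hc => hc⟩
  set F := FrobSch.frob Y p with hF
  have hs : Function.Surjective F.toImage := fun z => ⟨F.imageι z, F.imageι.isEmbedding.injective
    (by rw [← Scheme.Hom.comp_apply, F.toImage_imageι, hbase])⟩
  refine ⟨fun {Z} g₁ g₂ h => ?_⟩
  have hb : g₁.base = g₂.base := by
    ext z
    obtain ⟨y, rfl⟩ := hs z
    exact congrArg (fun k : Y ⟶ Z => k.base y) h
  refine Scheme.Hom.ext hb fun U => ?_
  have : Mono (F.toImage.app (g₂ ⁻¹ᵁ U)) := ConcreteCategory.mono_of_injective _
    (TopCat.Presheaf.app_injective_of_stalkFunctor_map_injective (F := F.image.sheaf)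
      F.toImage.c (g₂ ⁻¹ᵁ U) fun x _ => F.stalkFunctor_toImage_injective x)
  rw [← cancel_mono (F.toImage.app (g₂ ⁻¹ᵁ U))]
  have h' := Scheme.Hom.congr_app h U
  simp only [Scheme.Hom.comp_app] at h'
  rw [Category.assoc]
  erw [Scheme.Hom.naturality]
  rw [← Category.assoc]
  erw [h']
  have e : ∀ {V : Y.Opens} (i : Opposite.op V ⟶ Opposite.op V), Y.presheaf.map i = 𝟙 _ := fun i => by
    rw [Subsingleton.elim i (𝟙 _), CategoryTheory.Functor.map_id]
  exact (Category.assoc _ _ _).trans ((congrArg (CategoryStruct.comp _)
    ((Y.presheaf.map_comp _ _).symm.trans (e _))).trans (Category.comp_id _))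

end Groth.Agent.S19611
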