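import Mathlib

universe u

open TensorProduct

namespace Groth.Agent.S19612

theorem aux {W : Type u} [CommRing W] [IsDomain W] {A : Type u} [CommRing A] [Algebra W A]
    (π : W) (hπ : π ≠ 0) (k : ℕ)
    (hflat : Module.Flat (W ⧸ Ideal.span {π} ^ (k + 1)) ((W ⧸ Ideal.span {π} ^ (k + 1)) ⊗[W] A))
    (a : A) (ha : π • a = 0) : a ∈ (Ideal.span {π} ^ k) • (⊤ : Submodule W A) := by
  set I := Ideal.span {π} ^ (k + 1) with hI
  let R := W ⧸ I
  let M := R ⊗[W] A
  let f : R →ₗ[R] R := LinearMap.lsmul R R (Ideal.Quotient.mk I (π ^ k))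
  let g : R →ₗ[R] R := LinearMap.lsmul R R (Ideal.Quotient.mk I π)
  have hfg : Function.Exact f g := by
    intro x
    obtain ⟨x, rfl⟩ := Ideal.Quotient.mk_surjective x
    constructor
    · intro hx
      change Ideal.Quotient.mk I π * Ideal.Quotient.mk I x = 0 at hx
      rw [← map_mul, Ideal.Quotient.eq_zero_iff_mem, hI, Ideal.span_singleton_pow,
        Ideal.mem_span_singleton'] at hx
      obtain ⟨c, hc⟩ := hx
      refine ⟨Ideal.Quotient.mk I c, ?_⟩
      change Ideal.Quotient.mk I (π ^ k) * Ideal.Quotient.mk I c = _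
      rw [← map_mul]
      congr 1
      apply mul_left_cancel₀ hπ
      rw [← hc, pow_succ]
      ring
    · rintro ⟨c, hc⟩
      rw [← hc]
      change Ideal.Quotient.mk I π * (Ideal.Quotient.mk I (π ^ k) * c) = 0
      rw [← mul_assoc, ← map_mul, Ideal.Quotient.eq_zero_iff_mem.2, zero_mul]
      rw [hI, Ideal.span_singleton_pow, ← pow_succ']
      exact Ideal.mem_span_singleton_self _
  have hex := Module.Flat.lTensor_exact M hfg
  let m : M := (1 : R) ⊗ₜ[W] a
  have hm : g.lTensor M (m ⊗ₜ[R] 1) = 0 := by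
    rw [LinearMap.lTensor_tmul]
    change m ⊗ₜ[R] (Ideal.Quotient.mk I π • (1 : R)) = 0
    rw [tmul_smul, smul_tmul']
    have : Ideal.Quotient.mk I π • m = π • m := algebraMap_smul R π m
    rw [this, ← tmul_smul, ha, tmul_zero, zero_tmul]
  obtain ⟨z, hz⟩ := (hex _).1 hm
  have hz' := congrArg (TensorProduct.rid R M) hz
  obtain ⟨y, rfl⟩ := (TensorProduct.rid R M).symm.surjective z
  rw [rid_symm_apply, LinearMap.lTensor_tmul] at hz'
  simp only [rid_tmul, one_smul] at hz'
  change (Ideal.Quotient.mk I (π ^ k) • (1 : R)) • y = m at hz'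
  rw [smul_eq_mul, mul_one] at hz'
  obtain ⟨b, rfl⟩ : ∃ b : A, (1 : R) ⊗ₜ[W] b = y := by
    clear hz hz'
    induction y using TensorProduct.induction_on with
    | zero => exact ⟨0, tmul_zero _ _⟩
    | add x y hx hy =>
      obtain ⟨a, rfl⟩ := hx; obtain ⟨b, rfl⟩ := hy
      exact ⟨a + b, tmul_add _ _ _⟩
    | tmul r m =>
      obtain ⟨a, rfl⟩ := Ideal.Quotient.mk_surjective r
      refine ⟨a • m, ?_⟩
      rw [tmul_smul, smul_tmul']
      congr 1
      rw [← Ideal.Quotient.algebraMap_eq, Algebra.algebraMap_eq_smul_one]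
  have h1 : (1 : R) ⊗ₜ[W] (π ^ k • b) = (1 : R) ⊗ₜ[W] a := by
    rw [tmul_smul, ← algebraMap_smul R (π ^ k)]
    exact hz'
  have := congrArg (quotTensorEquivQuotSMul A I) h1
  rw [show (1 : R) = Ideal.Quotient.mk I 1 from rfl, quotTensorEquivQuotSMul_mk_tmul,
    quotTensorEquivQuotSMul_mk_tmul, one_smul, one_smul, Submodule.Quotient.eq] at this
  have hle : I • (⊤ : Submodule W A) ≤ (Ideal.span {π} ^ k) • (⊤ : Submodule W A) :=
    Submodule.smul_mono_left (Ideal.pow_le_pow_right (Nat.le_succ k))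
  have hb : π ^ k • b ∈ (Ideal.span {π} ^ k) • (⊤ : Submodule W A) :=
    Submodule.smul_mem_smul (Ideal.pow_mem_pow (Ideal.mem_span_singleton_self π) k) Submodule.mem_top
  simpa using sub_mem hb (hle this)

theorem result (p : ℕ) [Fact p.Prime] (k : Type u) [Field k]
    [CharP k p] [PerfectRing k p] (A : Type u) [CommRing A] [Algebra (WittVector p k) A]
    [IsAdicComplete (Ideal.span {(p : WittVector p k)}) A] :
    Module.Flat (WittVector p k) A ↔
      ∀ n : ℕ, 1 ≤ n →
        Module.Flat (WittVector p k ⧸ (Ideal.span {(p : WittVector p k)} ^ n))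
          ((WittVector p k ⧸ (Ideal.span {(p : WittVector p k)} ^ n)) ⊗[WittVector p k] A) := by
  constructor
  · intro h n _
    infer_instance
  intro h
  have hp : (p : WittVector p k) ≠ 0 := (WittVector.irreducible p).ne_zero
  have key : ∀ a : A, (p : WittVector p k) • a = 0 → a = 0 := by
    intro a ha
    refine IsHausdorff.haus (inferInstance : IsHausdorff (Ideal.span {(p : WittVector p k)}) A) a
      fun n => ?_
    rw [SModEq.zero]
    exact aux _ hp n (h (n + 1) (by omega)) a ha
  have hn : ∀ (n : ℕ) (a : A), (p : WittVector p k) ^ n • a = 0 → a = 0 := by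
    intro n
    induction n with
    | zero => intro a ha; simpa using ha
    | succ n ih =>
      intro a ha
      rw [pow_succ', mul_smul] at ha
      exact ih a (key _ ha)
  have : Module.IsTorsionFree (WittVector p k) A := by
    rw [Module.isTorsionFree_iff_smul_eq_zero]
    intro w a hwa
    by_contra hne
    rw [not_or] at hne
    obtain ⟨n, v, rfl⟩ := WittVector.exists_eq_pow_p_mul' w hne.1
    rw [mul_comm, mul_smul, IsUnit.smul_eq_zero v.isUnit] at hwa
    exact hne.2 (hn n a hwa)
  infer_instance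

end Groth.Agent.S19612
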