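import Groth.Statements.S19616
import Mathlib.RingTheory.AdicCompletion.Completeness
import Mathlib.RingTheory.AdicCompletion.RingHom
import Mathlib.RingTheory.Localization.Away.Basic
import Mathlib.RingTheory.Adjoin.Basic

set_option autoImplicit false
universe u
open CartMod

namespace Groth.Agent.S19616

set_option maxHeartbeats 1600000 in
/-- Let p be a prime, A a commutative ring which is complete and separated for the p-adic topology and
has no p-torsion, and a_1, …, a_n elements of A (so that (p, a_1, …, a_n) is an open ideal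
containing p). Then there is a commutative A-algebra D, complete and separated for the p-adic
topology and without p-torsion, in which each a_i is divisible by p, with the following universal
property: for every A-algebra B which is p-adically complete and separated, has no p-torsion, and in
which each a_i is divisible by p, there is exactly one A-algebra homomorphism D → B; moreover this
homomorphism is surjective whenever A → B is. (D is the coordinate ring of the dilatation of Spf A
with respect to p along the closed subscheme defined by (p, a_1, …, a_n). The published statement is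
for flat p-adic formal schemes locally of finite type over the Witt vectors of a perfect field; this
row is its affine, ring-level case without a finiteness hypothesis.) -/
theorem result (p : ℕ) [Fact p.Prime]
    (A : Type u) [CommRing A] [IsAdicComplete (Ideal.span {(p : A)}) A]
    (hA : IsSMulRegular A (p : A)) {n : ℕ} (a : Fin n → A) :
    ∃ (D : Type u) (_ : CommRing D) (_ : Algebra A D),
      IsAdicComplete (Ideal.span {(p : D)}) D ∧ IsSMulRegular D (p : D) ∧
      (∀ i, algebraMap A D (a i) ∈ Ideal.span {(p : D)}) ∧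
      ∀ (B : Type u) [CommRing B] [Algebra A B] [IsAdicComplete (Ideal.span {(p : B)}) B],
        IsSMulRegular B (p : B) → (∀ i, algebraMap A B (a i) ∈ Ideal.span {(p : B)}) →
          Nonempty (D →ₐ[A] B) ∧ Subsingleton (D →ₐ[A] B) ∧
            (Function.Surjective (algebraMap A B) → ∀ f : D →ₐ[A] B, Function.Surjective f) := by
  classical
  let Ap := Localization.Away (p : A)
  have hpAp : IsUnit (p : Ap) := by
    simpa using IsLocalization.Away.algebraMap_isUnit (p : A) (S := Ap)
  let xs : Fin n → Ap := fun i => IsLocalization.mk' Ap (a i) (⟨(p : A), Submonoid.mem_powers _⟩ : Submonoid.powers (p : A))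
  let D0 := Algebra.adjoin A (Set.range xs)
  have hxs : ∀ i, (p : Ap) * xs i = algebraMap A Ap (a i) := fun i => by
    rw [← map_natCast (algebraMap A Ap) p]
    exact IsLocalization.mk'_spec' Ap (a i) (⟨(p : A), Submonoid.mem_powers _⟩ : Submonoid.powers (p : A))
  have hreg : ∀ y : D0, (p : D0) * y = 0 → y = 0 := fun y hy => Subtype.ext (by
    have := congrArg Subtype.val hy
    simpa [hpAp.mul_right_eq_zero] using this)
  let J : Ideal D0 := Ideal.span {(p : D0)}
  have hJ : J.FG := ⟨{(p : D0)}, by simp [J]⟩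
  let D := AdicCompletion J D0
  have hmap : J.map (algebraMap D0 D) = Ideal.span {(p : D)} := by
    rw [Ideal.map_span, Set.image_singleton, map_natCast]
  have hcomp : IsAdicComplete (Ideal.span {(p : D)}) D := by
    rw [← hmap, IsAdicComplete.map_algebraMap_iff]
    exact AdicCompletion.isAdicComplete hJ
  have hDreg : IsSMulRegular D (p : D) := by
    refine IsSMulRegular.of_right_eq_zero_of_smul fun z hz => AdicCompletion.ext_evalₐ fun m => ?_
    obtain ⟨s, rfl⟩ := AdicCompletion.mk_surjective J D0 z
    have h1 := congrArg (AdicCompletion.evalₐ J (m + 1)) hz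
    rw [smul_eq_mul, map_mul, map_natCast, map_zero, AdicCompletion.evalₐ_mk,
      ← map_natCast (Ideal.Quotient.mk (J ^ (m + 1))), ← map_mul, Ideal.Quotient.eq_zero_iff_mem,
      Ideal.span_singleton_pow, Ideal.mem_span_singleton'] at h1
    obtain ⟨c, hc⟩ := h1
    have h2 : s.val (m + 1) = c * (p : D0) ^ m := by
      refine sub_eq_zero.1 (hreg _ ?_)
      rw [mul_sub, ← hc, pow_succ]; ring
    rw [map_zero, AdicCompletion.evalₐ_mk, ← AdicCompletion.Ideal.mk_eq_mk J (Nat.le_succ m) s, h2,
      Ideal.Quotient.eq_zero_iff_mem, Ideal.span_singleton_pow]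
    exact Ideal.mem_span_singleton'.2 ⟨c, rfl⟩
  refine ⟨D, inferInstance, inferInstance, hcomp, hDreg, fun i => ?_, ?_⟩
  · rw [Ideal.mem_span_singleton]
    refine ⟨algebraMap D0 D ⟨xs i, Algebra.subset_adjoin ⟨i, rfl⟩⟩, ?_⟩
    rw [IsScalarTower.algebraMap_apply A D0 D, ← map_natCast (algebraMap D0 D) p, ← map_mul]
    congr 1
    exact Subtype.ext (hxs i).symm
  intro B _ _ _ hBreg hBdiv
  let Bp := Localization.Away (p : B)
  let ι : B →ₐ[A] Bp := IsScalarTower.toAlgHom A B Bp
  have hι : Function.Injective ι := by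
    refine IsLocalization.injective Bp (M := Submonoid.powers (p : B)) ?_
    rintro _ ⟨k, rfl⟩
    have h := (hBreg.pow k)
    exact mem_nonZeroDivisors_iff_right.2 fun x hx => h.right_eq_zero_of_smul (by
      simpa [smul_eq_mul, mul_comm] using hx)
  have hpu : IsUnit (algebraMap A Bp (p : A)) := by
    rw [map_natCast]
    simpa using IsLocalization.Away.algebraMap_isUnit (p : B) (S := Bp)
  let φ : Ap →ₐ[A] Bp :=
    { IsLocalization.Away.lift (p : A) hpu with
      commutes' := fun c => IsLocalization.Away.lift_eq (p : A) hpu c }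
  have hD0 : ∀ y : D0, φ y ∈ ι.range := fun y => by
    refine (show D0 ≤ ι.range.comap φ from Algebra.adjoin_le ?_) y.2
    rintro _ ⟨i, rfl⟩
    obtain ⟨b, hb⟩ := Ideal.mem_span_singleton.1 (hBdiv i)
    refine ⟨b, ?_⟩
    have h1 := congrArg φ (hxs i)
    rw [map_mul, map_natCast, φ.commutes] at h1
    show algebraMap B Bp b = φ (xs i)
    refine (show IsUnit (p : Bp) by simpa using hpu).mul_left_cancel ?_
    rw [h1, IsScalarTower.algebraMap_apply A B Bp, hb, map_mul, map_natCast]
  let ψ : D0 →ₐ[A] B := (AlgEquiv.ofInjective ι hι).symm.toAlgHom.comp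
    ((φ.comp D0.val).codRestrict ι.range hD0)
  set K : Ideal B := Ideal.span {(p : B)} with hK
  have hψJ : ∀ m, ∀ y ∈ J ^ m, (Ideal.Quotient.mkₐ A (K ^ m)).comp ψ y = 0 := fun m y hy => by
    show Ideal.Quotient.mk (K ^ m) (ψ y) = 0
    rw [Ideal.Quotient.eq_zero_iff_mem, hK, Ideal.span_singleton_pow, Ideal.mem_span_singleton]
    rw [Ideal.span_singleton_pow, Ideal.mem_span_singleton] at hy
    simpa using map_dvd ψ hy
  let f : ∀ m, D →ₐ[A] B ⧸ K ^ m := fun m =>
    (Ideal.Quotient.liftₐ (J ^ m) ((Ideal.Quotient.mkₐ A (K ^ m)).comp ψ) (hψJ m)).comp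
      ((AdicCompletion.evalₐ J m).restrictScalars A)
  have hf : ∀ m (s : AdicCompletion.AdicCauchySequence J D0),
      f m (AdicCompletion.mk J D0 s) = Ideal.Quotient.mk (K ^ m) (ψ (s.val m)) := fun m s => by
    show Ideal.Quotient.liftₐ (J ^ m) _ (hψJ m) (AdicCompletion.evalₐ J m (AdicCompletion.mk J D0 s)) = _
    rw [AdicCompletion.evalₐ_mk]
    rfl
  let F : D →ₐ[A] B := IsAdicComplete.liftAlgHom K f (fun {m k} hle => AlgHom.ext fun z => by
    obtain ⟨s, rfl⟩ := AdicCompletion.mk_surjective J D0 z
    rw [AlgHom.comp_apply, hf, hf, ← Ideal.Quotient.mkₐ_eq_mk A, ← AlgHom.comp_apply,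
      Ideal.Quotient.factorₐ_comp_mk, Ideal.Quotient.mkₐ_eq_mk, Ideal.Quotient.eq, ← Ideal.Quotient.eq_zero_iff_mem]
    have h := AdicCompletion.Ideal.mk_eq_mk J hle s
    rw [eq_comm, Ideal.Quotient.eq] at h
    rw [← map_sub]
    exact hψJ m _ (by simpa using neg_mem h))
  refine ⟨⟨F⟩, ⟨fun g₁ g₂ => ?_⟩, fun hsurj g b => ?_⟩
  · have hD0' : g₁.comp (IsScalarTower.toAlgHom A D0 D) = g₂.comp (IsScalarTower.toAlgHom A D0 D) := by
      refine AlgHom.ext_of_adjoin_eq_top (s := {y : D0 | (y : Ap) ∈ Set.range xs})
        Algebra.adjoin_adjoin_coe_preimage ?_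
      rintro y ⟨i, hi⟩
      have hy : (p : D0) * y = algebraMap A D0 (a i) := Subtype.ext (by
        show (p : Ap) * (y : Ap) = algebraMap A Ap (a i)
        rw [← hi]; exact hxs i)
      have key : ∀ g : D →ₐ[A] B, (p : B) • g (algebraMap D0 D y) = algebraMap A B (a i) := fun g => by
        rw [smul_eq_mul, ← map_natCast g, ← map_mul, ← map_natCast (algebraMap D0 D) p, ← map_mul, hy,
          ← IsScalarTower.algebraMap_apply, AlgHom.commutes]
      exact hBreg ((key g₁).trans (key g₂).symm)
    refine IsAdicComplete.algHom_ext K fun m => AlgHom.ext fun z => ?_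
    obtain ⟨y, hy⟩ := Ideal.Quotient.mk_surjective (AdicCompletion.evalₐ J m z)
    have h1 : z - algebraMap D0 D y ∈ (Ideal.span {(p : D)}) ^ m := by
      rw [← hmap, ← Ideal.map_pow]
      have h2 : AdicCompletion.eval J D0 m (z - algebraMap D0 D y) = 0 := by
        rw [← AdicCompletion.factor_evalₐ_eq_eval J _ (le_of_eq (Ideal.mul_top _).symm), map_sub,
          ← hy, AlgHom.commutes, Ideal.Quotient.algebraMap_eq, sub_self, map_zero]
      rw [← LinearMap.mem_ker, ← AdicCompletion.pow_smul_top_eq_ker_eval hJ] at h2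
      exact (Ideal.smul_top_eq_map (J ^ m) (S := D)).le h2
    rw [Ideal.span_singleton_pow, Ideal.mem_span_singleton] at h1
    obtain ⟨c, hc⟩ := h1
    have key : ∀ g : D →ₐ[A] B, Ideal.Quotient.mk (K ^ m) (g z) =
        Ideal.Quotient.mk (K ^ m) ((g.comp (IsScalarTower.toAlgHom A D0 D)) y) := fun g => by
      rw [Ideal.Quotient.eq]
      show g z - g (algebraMap D0 D y) ∈ _
      rw [← map_sub, hc, map_mul, map_pow, map_natCast]
      exact Ideal.mul_mem_right _ _ (Ideal.pow_mem_pow (Ideal.mem_span_singleton_self _) m)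
    show Ideal.Quotient.mk (K ^ m) (g₁ z) = Ideal.Quotient.mk (K ^ m) (g₂ z)
    rw [key, key, hD0']
  · obtain ⟨c, rfl⟩ := hsurj b
    exact ⟨algebraMap A D c, g.commutes c⟩

end Groth.Agent.S19616
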