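import Groth.Statements.S19620
import Groth.Agent.QCohPush72.Main
import Groth.Agent.DCX42.Coh
import Groth.Agent.QC70.CohOps

set_option autoImplicit false
universe u
open CategoryTheory CategoryTheory.Limits AlgebraicGeometry
attribute [local instance] HasDerivedCategory.standard
open DCoh

namespace Groth.Agent.S19620

/-- Let f : X → Y be a proper morphism of schemes, with Rf_* the total right derived functor of f_* on
the unbounded derived categories of modules (assumed to exist), let Z ⊆ X be a closed subset and E
an object of D(O_X) whose cohomology sheaves are all supported in Z (every stalk at a point outside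
Z is trivial). Then the cohomology sheaves of Rf_*E are supported in the closed subset f(Z) of Y.
(The published statement, made in a setting where all schemes are separated and of finite type over
a regular base, takes f proper and perfect and concludes that Rf_* carries perfect complexes acyclic
outside Z to perfect complexes acyclic outside f(Z); the perfectness of Rf_*E is a separate result,
and the support inclusion, which is what the published proof establishes, holds for every proper f
and every E and is stated in that generality.) -/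
theorem result {X Y : Scheme.{u}} (f : X ⟶ Y) [IsProper f]
    [DCoh.HasRpush f] (Z : Set ↥X) (hZ : IsClosed Z) (E : DCoh.D X)
    (hE : ∀ i : ℤ, CohB1.support (DCoh.HD E i) ⊆ Z) (i : ℤ) :
    CohB1.support (DCoh.HD ((DCoh.Rpush f).obj E) i) ⊆ f.base '' Z := by
  intro y hy
  by_contra hny
  have hC : IsClosed (f.base '' Z) := f.isClosedMap Z hZ
  let V : Y.Opens := ⟨(f.base '' Z)ᶜ, hC.isOpen_compl⟩
  haveI := DCX42.hasRpush (f ∣_ V)
  obtain ⟨e⟩ := DCX42.nonempty_Rpush_restrict f V
  have hzero : IsZero ((DCX42.resD (f ⁻¹ᵁ V).ι).obj E) := by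
    refine Mod48.isZero_of_isZero_homology fun j => ?_
    refine IsZero.of_iso ?_ ((Mod48.homologyMapDerivedIso
      (Scheme.Modules.restrictFunctor (f ⁻¹ᵁ V).ι) j).app E)
    refine QC70.isZero_of_support_eq_empty (Set.eq_empty_iff_forall_notMem.mpr fun z hz => ?_)
    have h1 : (f ⁻¹ᵁ V).ι z ∈ CohB1.support (DCoh.HD E j) := fun hs =>
      hz (((Scheme.Modules.restrictStalkNatIso (f ⁻¹ᵁ V).ι z).app
        (DCoh.HD E j)).addCommGroupIsoToAddEquiv.toEquiv.subsingleton_congr.mpr hs)
    exact z.2 ⟨_, hE j h1, rfl⟩
  haveI := Mod48.LocGen.preservesZeroMorphisms_push (A := (f ⁻¹ᵁ V).toScheme.Modules) (B := V.toScheme.Modules)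
    (DCoh.Rpush (f ∣_ V)) (PropPush72.αu (f ∣_ V)) (PropPush72.hα (f ∣_ V)) CohDer42.RdAdj.enoughKInj i
  have h2 : IsZero ((Scheme.Modules.restrictFunctor V.ι).obj (DCoh.HD ((DCoh.Rpush f).obj E) i)) :=
    ((DCoh.Rpush (f ∣_ V) ⋙ DerivedCategory.homologyFunctor _ i).map_isZero hzero).of_iso
      (((Mod48.homologyMapDerivedIso (Scheme.Modules.restrictFunctor V.ι) i).app _).symm ≪≫
        (DerivedCategory.homologyFunctor _ i).mapIso (e.app E))
  refine hy ?_
  refine ((Scheme.Modules.restrictStalkNatIso V.ι (⟨y, hny⟩ : V)).app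
    (DCoh.HD ((DCoh.Rpush f).obj E) i)).addCommGroupIsoToAddEquiv.toEquiv.subsingleton_congr.mp ?_
  exact AddCommGrpCat.subsingleton_of_isZero (G := (TopCat.Presheaf.stalkFunctor AddCommGrpCat.{u} (⟨y, hny⟩ : V)).obj ((Scheme.Modules.toPresheaf V.toScheme).obj _))
    ((TopCat.Presheaf.stalkFunctor AddCommGrpCat.{u} (⟨y, hny⟩ : V)).map_isZero ((Scheme.Modules.toPresheaf V.toScheme).map_isZero h2))

end Groth.Agent.S19620
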