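import Groth.Statements.S19624
import Groth.Agent.Len90.DetLength
import Mathlib.RingTheory.OrderOfVanishing.Noetherian

set_option autoImplicit false
universe u v
open IntTh

namespace Groth.Agent.S19624

/-- Let B be a discrete valuation ring with its normalised additive valuation v (so v(0) = ∞) and ω a
ring automorphism of B. For each i in a finite index set let M_i and N_i be free B-modules with
chosen bases indexed by one and the same finite type, and χ_i : M_i → N_i an additive map which is
ω-semilinear, χ_i(b·x) = ω(b)·χ_i(x); write A_i for the matrix of χ_i in the chosen bases. Then the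
length over B of the cokernel of the direct sum χ = ⊕_i χ_i : ⊕_i M_i → ⊕_i N_i (the quotient of ⊕_i
N_i by the submodule generated by the image of χ) equals v(∏_i det A_i); in particular both sides
are infinite exactly when some det A_i is zero. -/
theorem result {B : Type u} [CommRing B] [IsDomain B]
    [IsDiscreteValuationRing B] (ω : B ≃+* B) {n : ℕ} (r : Fin n → ℕ)
    (M N : Fin n → Type v) [∀ i, AddCommGroup (M i)] [∀ i, Module B (M i)]
    [∀ i, AddCommGroup (N i)] [∀ i, Module B (N i)]
    (bM : ∀ i, Module.Basis (Fin (r i)) B (M i)) (bN : ∀ i, Module.Basis (Fin (r i)) B (N i))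
    (χ : ∀ i, M i →+ N i) (hχ : ∀ i (b : B) (x : M i), χ i (b • x) = ω b • χ i x) :
    Module.length B ((∀ i, N i) ⧸ Submodule.span B (Set.range (fun (x : ∀ i, M i) (i : Fin n) => χ i (x i)))) =
      IsDiscreteValuationRing.addVal B (∏ i, Matrix.det
        (Matrix.of fun (a c : Fin (r i)) => (bN i).repr (χ i (bM i c)) a)) := by
  classical
  let A : ∀ i, Matrix (Fin (r i)) (Fin (r i)) B := fun i =>
    Matrix.of fun a c => (bN i).repr (χ i (bM i c)) a
  let L : ∀ i, (Fin (r i) → B) →ₗ[B] (Fin (r i) → B) := fun i => Matrix.toLin' (A i)
  have hrange : ∀ i, Submodule.span B (Set.range (χ i)) =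
      (LinearMap.range (L i)).map (bN i).equivFun.symm.toLinearMap := by
    intro i
    have key : ∀ x, (bN i).equivFun (χ i x) = L i (fun c => ω ((bM i).repr x c)) := by
      intro x
      conv_lhs => rw [← (bM i).sum_repr x, map_sum]
      funext a
      simp only [hχ, map_sum, Finset.sum_apply, L, A, Matrix.toLin'_apply, Matrix.mulVec, dotProduct,
        Matrix.of_apply, map_smul, Pi.smul_apply, Module.Basis.equivFun_apply, smul_eq_mul, mul_comm]
    refine le_antisymm (Submodule.span_le.mpr ?_) ?_
    · rintro _ ⟨x, rfl⟩
      exact ⟨(bN i).equivFun (χ i x), ⟨_, (key x).symm⟩, (bN i).equivFun.symm_apply_apply _⟩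
    · rintro _ ⟨_, ⟨v, rfl⟩, rfl⟩
      refine Submodule.subset_span ⟨(bM i).equivFun.symm fun c => ω.symm (v c), ?_⟩
      apply (bN i).equivFun.injective
      change (bN i).equivFun _ = (bN i).equivFun ((bN i).equivFun.symm (L i v))
      rw [key, LinearEquiv.apply_symm_apply]
      congr 1; funext c
      rw [← Module.Basis.equivFun_apply, LinearEquiv.apply_symm_apply, RingEquiv.apply_symm_apply]
  have hspan : Submodule.span B (Set.range fun (x : ∀ i, M i) (i : Fin n) => χ i (x i)) =
      Submodule.pi Set.univ fun i => Submodule.span B (Set.range (χ i)) := by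
    refine le_antisymm (Submodule.span_le.mpr ?_) fun v hv => ?_
    · rintro _ ⟨x, rfl⟩ i -
      exact Submodule.subset_span ⟨x i, rfl⟩
    · rw [← Finset.univ_sum_single v]
      refine Submodule.sum_mem _ fun i _ => ?_
      have hle : Submodule.span B (Set.range (χ i)) ≤ Submodule.comap (LinearMap.single B N i)
          (Submodule.span B (Set.range fun (x : ∀ i, M i) (i : Fin n) => χ i (x i))) := by
        rw [Submodule.span_le]
        rintro _ ⟨y, rfl⟩
        refine Submodule.subset_span ⟨Pi.single i y, funext fun j => ?_⟩
        by_cases h : j = i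
        · subst h; simp
        · simp [Pi.single_eq_of_ne h, map_zero]
      exact hle (hv i trivial)
  have hlen : ∀ i, Module.length B (N i ⧸ Submodule.span B (Set.range (χ i))) =
      IsDiscreteValuationRing.addVal B (A i).det := by
    intro i
    rw [← Ring.ord_eq_addVal, (Submodule.Quotient.equiv (LinearMap.range (L i))
      (Submodule.span B (Set.range (χ i))) (bN i).equivFun.symm (hrange i).symm).length_eq.symm]
    change Len90.coker (Matrix.toLin' (A i)) = _
    by_cases hd : (A i).det = 0
    · by_contra h
      refine Len90.ord_det_ne_top (A i) (fun htop => h ?_) ?_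
      · rw [htop, hd, Ring.ord_eq_addVal, IsDiscreteValuationRing.addVal_zero]
      · rw [hd, Ring.ord_eq_addVal, IsDiscreteValuationRing.addVal_zero]
    · exact Len90.coker_toLin' _ (mem_nonZeroDivisors_of_ne_zero hd)
  rw [hspan, (Submodule.quotientPi _).length_eq, Module.length_pi_of_fintype,
    Finset.sum_congr rfl fun i _ => hlen i]
  change ∑ i, IsDiscreteValuationRing.addVal B (A i).det =
    IsDiscreteValuationRing.addVal B (∏ i, (A i).det)
  induction (Finset.univ : Finset (Fin n)) using Finset.induction with
  | empty => simp
  | insert a s ha ih => rw [Finset.sum_insert ha, Finset.prod_insert ha,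
      IsDiscreteValuationRing.addVal_mul, ih]

end Groth.Agent.S19624
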