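import Groth.Statements.S19628
import Groth.Agent.DR29.BaseChange
import Mathlib.RingTheory.Flat.Equalizer

set_option autoImplicit false
universe u
open DeRham

namespace Groth.Agent.S19628

open exteriorPower in
/-- In the affine case, at ring level, let k ⊆ K be an extension of fields of characteristic zero, A a
smooth k-algebra and A' = K ⊗_k A (a pushout square of commutative rings with the scalar-tower
conventions). Let d be the de Rham differential of A over k, d' that of A' over K, and ψ the map of
de Rham complexes induced by A → A', assumed compatible with d and d'. Then for every p the K-span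
of ψ(closed p-forms of A/k) is the module of closed p-forms of A'/K, and the K-span of ψ(exact
p-forms of A/k) is the module of exact p-forms of A'/K. Together with the degreewise base-change
bijection for exterior powers of differentials, this says that the natural map H^p_dR(A/k) ⊗_k K →
H^p_dR(A'/K) is an isomorphism. (The source states the isomorphism H^i_dR(X) ⊗_k K ≅ H^i_dR(X_K) for
a smooth variety X, induced by a quasi-isomorphism of complexes; this row is the case of an affine
X, phrased through closed and exact forms.) -/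
theorem result
    (k K : Type u) [Field k] [Field K] [CharZero k] [Algebra k K]
    (A A' : Type u) [CommRing A] [CommRing A'] [Algebra k A] [Algebra.Smooth k A]
    [Algebra A A'] [Algebra k A'] [IsScalarTower k A A'] [Algebra K A'] [IsScalarTower k K A']
    [Algebra.IsPushout k K A A']
    (d : ∀ p : ℕ, ↥(⋀[A]^p (Ω[A⁄k])) →ₗ[k] ↥(⋀[A]^(p + 1) (Ω[A⁄k])))
    (hd : DeRham.IsDiff (KaehlerDifferential.D k A) d)
    (d' : ∀ p : ℕ, ↥(⋀[A']^p (Ω[A'⁄K])) →ₗ[K] ↥(⋀[A']^(p + 1) (Ω[A'⁄K])))
    (hd' : DeRham.IsDiff (KaehlerDifferential.D K A') d')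
    (ψ : ∀ p : ℕ, ↥(⋀[A]^p (Ω[A⁄k])) →+ ↥(⋀[A']^p (Ω[A'⁄K])))
    (hψ : DeRham.IsCxMap (KaehlerDifferential.D k A) (KaehlerDifferential.D K A') (algebraMap A A') ψ)
    (hcomm : ∀ (p : ℕ) (x : ↥(⋀[A]^p (Ω[A⁄k]))), ψ (p + 1) (d p x) = d' p (ψ p x))
    (p : ℕ) :
    Submodule.span K (ψ p '' (DeRham.cocycles d p : Set ↥(⋀[A]^p (Ω[A⁄k])))) = DeRham.cocycles d' p ∧
      Submodule.span K (ψ p '' (DeRham.coboundaries d p : Set ↥(⋀[A]^p (Ω[A⁄k])))) =
        DeRham.coboundaries d' p := by
  have hψsmul : ∀ (q : ℕ) (c : k) (x : ↥(⋀[A]^q (Ω[A⁄k]))), ψ q (c • x) = c • ψ q x := by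
    intro q c x
    rw [← algebraMap_smul A c x, Agent.DR29.cxMap_smul (Agent.DR29.span_kaehler k A) hψ,
      ← IsScalarTower.algebraMap_apply k A A', algebraMap_smul]
  let L : ∀ q, ↥(⋀[A]^q (Ω[A⁄k])) →ₗ[k] ↥(⋀[A']^q (Ω[A'⁄K])) := fun q =>
    { toFun := ψ q, map_add' := map_add _, map_smul' := hψsmul q }
  let Φ : ∀ q, TensorProduct k K ↥(⋀[A]^q (Ω[A⁄k])) →ₗ[K] ↥(⋀[A']^q (Ω[A'⁄K])) := fun q =>
    (L q).liftBaseChange K
  have hΦ : ∀ q (s : K) x, Φ q (s ⊗ₜ[k] x) = s • ψ q x := fun q s x => by
    simp [Φ, L]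
  have hbij : ∀ q, Function.Bijective (Φ q) := fun q =>
    Agent.DR29.baseChange_bijective k K A A' ψ hψ q (Φ q).toAddMonoidHom (hΦ q)
  have hdΦ : ∀ q t, d' q (Φ q t) = Φ (q + 1) ((d q).baseChange K t) := by
    intro q t
    induction t with
    | zero => simp
    | add x y hx hy => simp only [map_add, hx, hy]
    | tmul s x => rw [LinearMap.baseChange_tmul, hΦ, hΦ, map_smul, hcomm]
  have hspan : ∀ q (S : Submodule k ↥(⋀[A]^q (Ω[A⁄k]))) (t : TensorProduct k K S),
      Φ q (S.subtype.baseChange K t) ∈ Submodule.span K (ψ q '' (S : Set _)) := by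
    intro q S t
    induction t with
    | zero => simp
    | add x y hx hy => simp only [map_add]; exact add_mem hx hy
    | tmul s x =>
      rw [LinearMap.baseChange_tmul, hΦ]
      exact Submodule.smul_mem _ _ (Submodule.subset_span ⟨x, x.2, rfl⟩)
  constructor
  · refine le_antisymm (Submodule.span_le.mpr ?_) fun y hy => ?_
    · rintro _ ⟨x, hx, rfl⟩
      show d' p (ψ p x) = 0
      rw [← hcomm, show d p x = 0 from hx, map_zero]
    · obtain ⟨t, rfl⟩ := (hbij p).2 y
      have ht : (d p).baseChange K t = 0 := by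
        refine (hbij (p + 1)).1 ?_
        rw [map_zero, ← hdΦ]
        exact hy
      have ht' : t ∈ LinearMap.ker (TensorProduct.AlgebraTensorModule.lTensor K K (d p)) := ht
      rw [Module.Flat.ker_lTensor_eq K (S := K) (d p)] at ht'
      obtain ⟨u, rfl⟩ := ht'
      exact hspan p _ u
  · refine le_antisymm (Submodule.span_le.mpr ?_) ?_
    · rintro _ ⟨x, hx, rfl⟩
      cases p with
      | zero =>
        rw [show x = 0 from hx, map_zero]
        exact zero_mem _
      | succ q =>
        obtain ⟨z, rfl⟩ := hx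
        exact ⟨ψ q z, (hcomm q z).symm⟩
    · cases p with
      | zero => exact bot_le
      | succ q =>
        rintro _ ⟨z, rfl⟩
        obtain ⟨t, rfl⟩ := (hbij q).2 z
        rw [hdΦ]
        induction t with
        | zero => simp
        | add x y hx hy => simp only [map_add]; exact add_mem hx hy
        | tmul s x =>
          rw [LinearMap.baseChange_tmul, hΦ]
          exact Submodule.smul_mem _ _ (Submodule.subset_span ⟨d q x, ⟨x, rfl⟩, rfl⟩)

end Groth.Agent.S19628
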