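import Groth.Statements.S19630
import Groth.Agent.DR29.Basic
import Mathlib.RingTheory.Unramified.Field

set_option autoImplicit false
universe u
open DeRham

namespace Groth.Agent.S19630

open exteriorPower in
/-- In the affine case, at ring level, let k ⊆ K be a finite extension of fields of characteristic zero
and B a smooth K-algebra, so that Y = Spec B is a smooth affine variety over K which may also be
regarded over k. Let ψ be the map of de Rham complexes from Ω•_{B/k} to Ω•_{B/K} induced by the
identity of B. Then ψ is bijective in every degree: the de Rham complex of Y over k and over K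
coincide, and hence the natural map H^i_dR(Y/k) → H^i_dR(Y/K) is an isomorphism. (The source states
the isomorphism on de Rham cohomology for any smooth variety Y over K, through the equality of the
two de Rham complexes; this row is that equality for affine Y.) -/
theorem result
    (k K : Type u) [Field k] [Field K] [CharZero k] [Algebra k K] [Module.Finite k K]
    (B : Type u) [CommRing B] [Algebra K B] [Algebra k B] [IsScalarTower k K B] [Algebra.Smooth K B]
    (ψ : ∀ p : ℕ, ↥(⋀[B]^p (Ω[B⁄k])) →+ ↥(⋀[B]^p (Ω[B⁄K])))
    (hψ : DeRham.IsCxMap (KaehlerDifferential.D k B) (KaehlerDifferential.D K B) (RingHom.id B) ψ)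
    (p : ℕ) :
    Function.Bijective (ψ p) := by
  haveI : CharZero K := charZero_of_injective_algebraMap (algebraMap k K).injective
  haveI : Algebra.FormallyUnramified k K := Algebra.FormallyUnramified.of_isSeparable k K
  have h0 : ∀ c : K, KaehlerDifferential.D k B (algebraMap K B c) = 0 := fun c => by
    have h : KaehlerDifferential.D k K c = 0 := Subsingleton.elim _ _
    rw [← KaehlerDifferential.map_D k k K B c, h, map_zero]
  let D' : Derivation K B (Ω[B⁄k]) := Derivation.mk'
    { toFun := KaehlerDifferential.D k B
      map_add' := map_add _
      map_smul' := fun c x => by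
        rw [RingHom.id_apply, Algebra.smul_def, Derivation.leibniz, h0, smul_zero, add_zero,
          algebraMap_smul] }
    (KaehlerDifferential.D k B).leibniz
  let inv := D'.liftKaehlerDifferential
  let φ := exteriorPower.map p inv
  have hinv : ∀ x, inv (KaehlerDifferential.D K B x) = KaehlerDifferential.D k B x := fun x =>
    Derivation.liftKaehlerDifferential_comp_D D' x
  have hφ : ∀ b₀ b, φ (DeRham.gen (KaehlerDifferential.D K B) p b₀ b) =
      DeRham.gen (KaehlerDifferential.D k B) p b₀ b := fun b₀ b => by
    rw [DeRham.gen, map_smul, exteriorPower.map_apply_ιMulti, DeRham.gen]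
    simp only [Function.comp_def, hinv]
  refine Function.bijective_iff_has_inverse.mpr ⟨φ, fun x => ?_, fun x => ?_⟩
  · refine Agent.DR29.induction_gen (Agent.DR29.span_kaehler k B) (P := fun x => φ (ψ p x) = x) (by simp)
      (fun x y hx hy => by rw [map_add, map_add, hx, hy]) (fun b₀ b => ?_) x
    rw [hψ, hφ]
    simp
  · refine Agent.DR29.induction_gen (Agent.DR29.span_kaehler K B) (P := fun x => ψ p (φ x) = x) (by simp)
      (fun x y hx hy => by rw [map_add, map_add, hx, hy]) (fun b₀ b => ?_) x
    rw [hφ, hψ]
    simp

end Groth.Agent.S19630
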