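import Groth.Statements.S19632
import Groth.Agent.DR29.Laurent

set_option autoImplicit false
universe u
open DeRham

namespace Groth.Agent.S19632

/-- Let k be a field of characteristic zero and G_m = Spec k[t, t⁻¹] the multiplicative group. The
kernel of the differential d : k[t, t⁻¹] → Ω¹ of the de Rham complex of G_m consists of the
constants: for a Laurent polynomial f, df = 0 if and only if f lies in the image of k. Equivalently
H^0_dR(G_m/k) = k. (Characteristic zero is used: in characteristic p the element t^p is closed.) -/
theorem result (k : Type u) [Field k] [CharZero k]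
    (f : LaurentPolynomial k) :
    KaehlerDifferential.D k (LaurentPolynomial k) f = 0 ↔ f ∈ Set.range (algebraMap k (LaurentPolynomial k)) := by
  constructor
  · intro h
    have h0 := congrArg (Agent.DR29.formVal k) h
    rw [Agent.DR29.formVal_D, map_zero] at h0
    refine ⟨f.coeff 0, AddMonoidAlgebra.ext (Finsupp.ext fun n => ?_)⟩
    rw [← LaurentPolynomial.C_eq_algebraMap, LaurentPolynomial.C_apply]
    rcases eq_or_ne n 0 with rfl | hn
    · simp
    · rw [if_neg hn]
      have h1 := congrArg (fun g : LaurentPolynomial k => g.coeff n) h0
      simp only [Agent.DR29.coeff_eulerDer, AddMonoidAlgebra.coeff_zero, Finsupp.zero_apply,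
        mul_eq_zero, Int.cast_eq_zero, hn, false_or] at h1
      exact h1.symm
  · rintro ⟨c, rfl⟩
    exact Derivation.map_algebraMap _ c

end Groth.Agent.S19632
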