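import Groth.Statements.S19633
import Groth.Agent.DR29.Laurent

set_option autoImplicit false
universe u
open DeRham

namespace Groth.Agent.S19633

open exteriorPower in
/-- Let k be a field of characteristic zero, G_m = Spec k[t, t⁻¹], and d the de Rham differential of
k[t, t⁻¹] over k. Then: every 1-form is closed; the exact 1-forms and the k-line spanned by t⁻¹ dt
are complementary subspaces of the 1-forms, and t⁻¹ dt is not exact — so H^1_dR(G_m/k) is
one-dimensional, generated by the class of dt/t (the isomorphism with k being the residue); and for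
every i ≥ 2 the closed i-forms are exact, so H^i_dR(G_m/k) = 0 for i > 1. (Characteristic zero is
used in the computation of the exact forms.) -/
theorem result (k : Type u) [Field k] [CharZero k]
    (d : ∀ p : ℕ, ↥(⋀[LaurentPolynomial k]^p (Ω[LaurentPolynomial k⁄k])) →ₗ[k] ↥(⋀[LaurentPolynomial k]^(p + 1) (Ω[LaurentPolynomial k⁄k])))
    (hd : DeRham.IsDiff (KaehlerDifferential.D k (LaurentPolynomial k)) d) :
    DeRham.cocycles d 1 = ⊤ ∧
    IsCompl (DeRham.coboundaries d 1)
      (Submodule.span k {DeRham.gen (KaehlerDifferential.D k (LaurentPolynomial k)) 1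
        (LaurentPolynomial.T (-1)) (fun _ => LaurentPolynomial.T 1)}) ∧
    DeRham.gen (KaehlerDifferential.D k (LaurentPolynomial k)) 1
        (LaurentPolynomial.T (-1)) (fun _ => LaurentPolynomial.T 1) ∉ DeRham.coboundaries d 1 ∧
    ∀ i : ℕ, DeRham.cocycles d (i + 2) ≤ DeRham.coboundaries d (i + 2) := by
  classical
  let D := KaehlerDifferential.D k (LaurentPolynomial k)
  let w : Ω[LaurentPolynomial k⁄k] := (LaurentPolynomial.T (-1) : LaurentPolynomial k) • D (LaurentPolynomial.T 1)
  let A := LaurentPolynomial k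
  have hzero : ∀ (n : ℕ) (x : ↥(⋀[A]^(n + 2) (Ω[A⁄k]))), x = 0 := by
    intro n x
    have hx : x ∈ Submodule.span A (exteriorPower.ιMulti A (n + 2) '' {a | Set.range a ⊆ {w}}) := by
      rw [exteriorPower.ιMulti_span_of_span A (n + 2) _ (eq_top_iff.mpr fun ω _ =>
        Submodule.mem_span_singleton.mpr ⟨_, (Agent.DR29.eq_formVal_smul k ω).symm⟩)]
      trivial
    induction hx using Submodule.span_induction with
    | mem z hz =>
      obtain ⟨a, ha, rfl⟩ := hz
      refine AlternatingMap.map_eq_zero_of_eq _ _ (i := 0) (j := 1) ?_ (by simp [Fin.ext_iff])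
      rw [Set.mem_singleton_iff.mp (ha (Set.mem_range_self (0 : Fin (n + 2)))),
        Set.mem_singleton_iff.mp (ha (Set.mem_range_self (1 : Fin (n + 2))))]
    | zero => rfl
    | add a b _ _ ha hb => rw [ha, hb, add_zero]
    | smul c a _ ha => rw [ha, smul_zero]
  let V : ↥(⋀[A]^1 (Ω[A⁄k])) →ₗ[A] A :=
    (Agent.DR29.formVal k).comp (exteriorPower.oneEquiv A (Ω[A⁄k])).toLinearMap
  have hV : Function.Injective V := by
    intro x y hxy
    apply (exteriorPower.oneEquiv A (Ω[A⁄k])).injective
    rw [Agent.DR29.eq_formVal_smul k (exteriorPower.oneEquiv A (Ω[A⁄k]) x),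
      Agent.DR29.eq_formVal_smul k (exteriorPower.oneEquiv A (Ω[A⁄k]) y)]
    exact congrArg (fun c : A => c • w) hxy
  have hVd : ∀ z, V (d 0 z) = Agent.DR29.eulerDer k (exteriorPower.zeroEquiv A (Ω[A⁄k]) z) := by
    intro z
    induction z using Agent.DR29.induction_gen (Agent.DR29.span_kaehler k A) with
    | h0 => simp
    | hadd x y hx hy => simp [hx, hy]
    | hgen c b =>
      rw [hd.1]
      show Agent.DR29.formVal k (exteriorPower.oneEquiv A _ (exteriorPower.ιMulti A 1 _)) = _
      rw [exteriorPower.oneEquiv_ιMulti, Fin.cons_zero, Agent.DR29.formVal_D, DeRham.gen, map_smul,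
        exteriorPower.zeroEquiv_ιMulti, smul_eq_mul, mul_one]
  have hVg : V (DeRham.gen D 1 (LaurentPolynomial.T (-1)) (fun _ => LaurentPolynomial.T 1)) = 1 := by
    show Agent.DR29.formVal k (exteriorPower.oneEquiv A _ (DeRham.gen D 1 _ _)) = 1
    rw [DeRham.gen, map_smul, exteriorPower.oneEquiv_ιMulti, map_smul, Agent.DR29.formVal_D,
      Agent.DR29.eulerDer_T_one, smul_eq_mul, ← LaurentPolynomial.T_add, neg_add_cancel,
      LaurentPolynomial.T_zero]
  set g := DeRham.gen (KaehlerDifferential.D k (LaurentPolynomial k)) 1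
        (LaurentPolynomial.T (-1)) (fun _ => LaurentPolynomial.T 1) with hg
  have hnot : ∀ c : k, c • g ∈ DeRham.coboundaries d 1 → c = 0 := by
    rintro c ⟨z, hz⟩
    have h1 := congrArg V hz
    rw [hVd, ← algebraMap_smul A c g, map_smul, hVg, smul_eq_mul, mul_one] at h1
    have h2 := congrArg (fun f : A => f.coeff 0) h1
    simp only [Agent.DR29.coeff_eulerDer, Int.cast_zero, zero_mul, ← LaurentPolynomial.C_eq_algebraMap,
      A, LaurentPolynomial.C_apply, if_true] at h2
    exact h2.symm
  refine ⟨eq_top_iff.mpr fun x _ => hzero 0 _, ⟨?_, ?_⟩, fun h => one_ne_zero (hnot 1 (by rwa [one_smul])),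
    fun i x _ => by rw [hzero i x]; exact zero_mem _⟩
  · rw [Submodule.disjoint_def]
    intro x hx hx'
    obtain ⟨c, rfl⟩ := Submodule.mem_span_singleton.mp hx'
    rw [hnot c hx, zero_smul]
  · rw [codisjoint_iff, eq_top_iff]
    intro x _
    let f : A := V x
    let F : A := AddMonoidAlgebra.ofCoeff
      (f.coeff.sum fun n a => Finsupp.single n ((n : k)⁻¹ * a))
    refine Submodule.mem_sup.mpr ⟨d 0 ((exteriorPower.zeroEquiv A (Ω[A⁄k])).symm F), ⟨_, rfl⟩,
      f.coeff 0 • g, Submodule.smul_mem _ _ (Submodule.mem_span_singleton_self _), hV ?_⟩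
    rw [map_add, hVd, LinearEquiv.apply_symm_apply, ← algebraMap_smul A (f.coeff 0) g, map_smul, hVg,
      smul_eq_mul, mul_one]
    refine AddMonoidAlgebra.ext (Finsupp.ext fun n => ?_)
    have hF : F.coeff n = (n : k)⁻¹ * f.coeff n := by
      simp only [F, AddMonoidAlgebra.coeff_ofCoeff, Finsupp.sum_apply, Finsupp.single_apply]
      rw [Finsupp.sum_ite_eq']
      split_ifs with h
      · rfl
      · rw [Finsupp.notMem_support_iff.mp h, mul_zero]
    simp only [AddMonoidAlgebra.coeff_add, Finsupp.add_apply, Agent.DR29.coeff_eulerDer, hF,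
      ← LaurentPolynomial.C_eq_algebraMap, A, LaurentPolynomial.C_apply]
    rcases eq_or_ne n 0 with rfl | hn
    · simp [f, A]
    · rw [if_neg hn, add_zero, ← mul_assoc, mul_inv_cancel₀ (Int.cast_ne_zero.mpr hn), one_mul]

end Groth.Agent.S19633
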