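import Groth.Statements.S19635
import Groth.Agent.DR29.Node

set_option autoImplicit false
universe u
open DeRham

namespace Groth.Agent.S19635

/-- Let k be a field of characteristic zero and A = k[X, Y]/(XY), the coordinate ring of two affine
lines crossing in a point. The differential d : A → Ω¹_{A/k} of the naive de Rham complex is not
surjective, so the naive H^1 of this singular curve does not vanish although one expects trivial
cohomology; this is the example motivating the h-topology definition. -/
theorem result (k : Type u) [Field k] [CharZero k] :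
    ¬ Function.Surjective (KaehlerDifferential.D k (MvPolynomial (Fin 2) k ⧸ Ideal.span {(MvPolynomial.X 0 * MvPolynomial.X 1 : MvPolynomial (Fin 2) k)})) := by
  intro hs
  let A := MvPolynomial (Fin 2) k ⧸ Ideal.span {(MvPolynomial.X 0 * MvPolynomial.X 1 : MvPolynomial (Fin 2) k)}
  obtain ⟨P, hP⟩ := hs ((Ideal.Quotient.mk _ (MvPolynomial.X 0) : A) •
    KaehlerDifferential.D k A (Ideal.Quotient.mk _ (MvPolynomial.X 1)))
  have h : ∀ i, Polynomial.derivative (Agent.DR29.axis k i P) = 0 := by
    intro i
    obtain ⟨L, hLD, hL⟩ := Agent.DR29.exists_axisForm k i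
    rw [← hLD P, hP]
    refine (hL _ _).trans ?_
    fin_cases i <;> simp [Agent.DR29.axis, Agent.DR29.nodeLift_mk]
  obtain ⟨c, rfl⟩ := Agent.DR29.mem_range_of_forall_axis k P h
  rw [Derivation.map_algebraMap] at hP
  exact Agent.DR29.X_smul_D_ne_zero k hP.symm

end Groth.Agent.S19635
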