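import Groth.Statements.S19636
import Groth.Agent.DR29.SNCCech

set_option autoImplicit false
set_option maxHeartbeats 1600000
universe u
open DeRham

namespace Groth.Agent.S19636

open exteriorPower in
/-- In the chart case, let k be a field of characteristic zero, A a smooth k-algebra with functions t_1,
…, t_d whose differentials form a basis of Ω_{A/k}, D_1, …, D_n the coordinate hyperplanes t_{e(1)}
= 0, …, t_{e(n)} = 0 for an injection e (a simple normal crossings divisor D on X = Spec A), A_I =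
A/(t_{e(i)} : i ∈ I) the coordinate ring of D_I = ⋂_{i∈I} D_i, ψ_{I,J} the maps of de Rham complexes
induced by A_I → A_J, and d_I the de Rham differential of A_I over k. Consider the double complex
with component Ω^q(A_I/k) in bidegree (I, q), horizontal Čech differential (alternating sum of the
ψ_{J∖j,J}) and vertical differential (−1)^{|I|} d_I; its total complex computes the relative de Rham
cohomology of (X, D). Then every cochain ω of total degree d agrees, on all components with I
nonempty, with the total differential of some cochain η of degree d − 1; that is, modulo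
coboundaries ω is concentrated on the component Ω^d(A_∅/k) = Ω^d(X), so every class in H^d_dR(X, D)
is represented by a d-form on X. (The source states this for a smooth affine variety of dimension d
with a simple normal crossings divisor; the chart case with global coordinates is the one its proof
treats, and the double-complex description of H^d_dR(X, D) is taken as the setting.) -/
theorem result
    (k : Type u) [Field k] [CharZero k] (A : Type u) [CommRing A] [Algebra k A] [Algebra.Smooth k A]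
    (d n : ℕ) (t : Fin d → A) (e : Fin n ↪ Fin d)
    (b : Module.Basis (Fin d) A (Ω[A⁄k])) (hb : ∀ i, b i = KaehlerDifferential.D k A (t i))
    (ψ : ∀ (I J : Finset (Fin n)) (p : ℕ), ↥(⋀[(A ⧸ (⨆ i ∈ I, Ideal.span {t (e i)} : Ideal A))]^p (Ω[(A ⧸ (⨆ i ∈ I, Ideal.span {t (e i)} : Ideal A))⁄k])) →+ ↥(⋀[(A ⧸ (⨆ i ∈ J, Ideal.span {t (e i)} : Ideal A))]^p (Ω[(A ⧸ (⨆ i ∈ J, Ideal.span {t (e i)} : Ideal A))⁄k])))
    (hψ : ∀ (I J : Finset (Fin n)) (h : I ⊆ J),
      DeRham.IsCxMap (KaehlerDifferential.D k (A ⧸ (⨆ i ∈ I, Ideal.span {t (e i)} : Ideal A))) (KaehlerDifferential.D k (A ⧸ (⨆ i ∈ J, Ideal.span {t (e i)} : Ideal A)))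
        (Ideal.Quotient.factor (biSup_mono h)) (ψ I J))
    (dq : ∀ (I : Finset (Fin n)) (p : ℕ), ↥(⋀[(A ⧸ (⨆ i ∈ I, Ideal.span {t (e i)} : Ideal A))]^p (Ω[(A ⧸ (⨆ i ∈ I, Ideal.span {t (e i)} : Ideal A))⁄k])) →ₗ[k] ↥(⋀[(A ⧸ (⨆ i ∈ I, Ideal.span {t (e i)} : Ideal A))]^(p + 1) (Ω[(A ⧸ (⨆ i ∈ I, Ideal.span {t (e i)} : Ideal A))⁄k])))
    (hdq : ∀ I : Finset (Fin n), DeRham.IsDiff (KaehlerDifferential.D k (A ⧸ (⨆ i ∈ I, Ideal.span {t (e i)} : Ideal A))) (dq I))
    (ω : ∀ (J : Finset (Fin n)) (q : ℕ), ↥(⋀[(A ⧸ (⨆ i ∈ J, Ideal.span {t (e i)} : Ideal A))]^q (Ω[(A ⧸ (⨆ i ∈ J, Ideal.span {t (e i)} : Ideal A))⁄k]))) :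
    ∃ η : ∀ (I : Finset (Fin n)) (q : ℕ), ↥(⋀[(A ⧸ (⨆ i ∈ I, Ideal.span {t (e i)} : Ideal A))]^q (Ω[(A ⧸ (⨆ i ∈ I, Ideal.span {t (e i)} : Ideal A))⁄k])),
      (∀ (J : Finset (Fin n)) (q : ℕ), J.Nonempty → J.card + (q + 1) = d →
        ω J (q + 1) =
          (∑ j ∈ J.attach, ((-1 : ℤ) ^ (J.filter (fun i => i < j.1)).card) • ψ (J.erase j.1) J (q + 1) (η (J.erase j.1) (q + 1))) +
            ((-1 : ℤ) ^ J.card) • dq J q (η J q)) ∧
      (∀ J : Finset (Fin n), J.Nonempty → J.card = d →
        ω J 0 = ∑ j ∈ J.attach, ((-1 : ℤ) ^ (J.filter (fun i => i < j.1)).card) • ψ (J.erase j.1) J 0 (η (J.erase j.1) 0)) := by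
  classical
  suffices H : ∀ s, s ≤ d → ∃ η : ∀ (I : Finset (Fin n)) (q : ℕ), DR29.SNC.Form k t e I q,
      (∀ (J : Finset (Fin n)) (q : ℕ), s < J.card → J.card + (q + 1) = d →
        ω J (q + 1) =
          (∑ j ∈ J.attach, ((-1 : ℤ) ^ (J.filter (fun i => i < j.1)).card) • ψ (J.erase j.1) J (q + 1) (η (J.erase j.1) (q + 1))) +
            ((-1 : ℤ) ^ J.card) • dq J q (η J q)) ∧
      (∀ J : Finset (Fin n), s < J.card → J.card = d →
        ω J 0 = ∑ j ∈ J.attach, ((-1 : ℤ) ^ (J.filter (fun i => i < j.1)).card) • ψ (J.erase j.1) J 0 (η (J.erase j.1) 0)) by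
    obtain ⟨η, h1, h2⟩ := H 0 (Nat.zero_le _)
    exact ⟨η, fun J q hJ => h1 J q (Finset.card_pos.2 hJ), fun J hJ => h2 J (Finset.card_pos.2 hJ)⟩
  intro s hs
  induction hs using Nat.decreasingInduction with
  | self => exact ⟨fun _ _ => 0, fun J q h h' => by omega, fun J h h' => by omega⟩
  | of_succ s hsd ih =>
    obtain ⟨η, h1, h2⟩ := ih
    obtain ⟨m, hm⟩ : ∃ m, s + 1 + m = d := ⟨d - (s + 1), by omega⟩
    cases m with
    | zero =>
      obtain ⟨ζ, hζ⟩ := DR29.SNC.lift k t e b hb ψ hψ s 0 hm fun J => ω J 0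
      refine ⟨fun I => if I.card = s then Function.update (η I) 0 (ζ I) else η I,
        fun J q hJ h => by omega, fun J hJ h => ?_⟩
      rw [← hζ J (by omega)]
      refine Finset.sum_congr rfl fun j _ => ?_
      simp only [if_pos (show (J.erase j.1).card = s by rw [Finset.card_erase_of_mem j.2]; omega),
        Function.update_self]
    | succ m =>
      obtain ⟨ζ, hζ⟩ := DR29.SNC.lift k t e b hb ψ hψ s (m + 1) hm
        fun J => ω J (m + 1) - ((-1 : ℤ) ^ J.card) • dq J m (η J m)
      refine ⟨fun I => if I.card = s then Function.update (η I) (m + 1) (ζ I) else η I,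
        fun J q hJ h => ?_, fun J hJ h => ?_⟩
      · simp only [if_neg (show ¬ J.card = s by omega)]
        by_cases h0 : J.card = s + 1
        · obtain rfl : q = m := by omega
          rw [← sub_eq_iff_eq_add, ← hζ J h0]
          refine Finset.sum_congr rfl fun j _ => ?_
          simp only [if_pos (show (J.erase j.1).card = s by rw [Finset.card_erase_of_mem j.2]; omega),
            Function.update_self]
        · rw [h1 J q (by omega) h]
          congr 1
          refine Finset.sum_congr rfl fun j _ => ?_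
          simp only [if_neg (show ¬ (J.erase j.1).card = s by rw [Finset.card_erase_of_mem j.2]; omega)]
      · rw [h2 J (by omega) h]
        refine Finset.sum_congr rfl fun j _ => ?_
        simp only [if_neg (show ¬ (J.erase j.1).card = s by rw [Finset.card_erase_of_mem j.2]; omega)]

end Groth.Agent.S19636
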