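import Groth.Statements.S1964
import Groth.Agent.WE91.LocalIntegral
import Groth.Agent.Henz21.FiniteLocal
import Mathlib.FieldTheory.PurelyInseparable.Basic

set_option autoImplicit false
universe u
open EtAlg

namespace Groth.Agent.S1964

open IsLocalRing

/-- A domain B integral over a henselian local ring A is itself henselian local, and the structure map A
-> B is local; if the residue field of A is separably closed, so is that of B, and the residue field
extension is purely inseparable. -/
theorem result (A B : Type u) [CommRing A] [HenselianLocalRing A] [CommRing B]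
    [IsDomain B] [Algebra A B] [Algebra.IsIntegral A B] :
    ∃ _ : HenselianLocalRing B, IsLocalHom (algebraMap A B) ∧
      (IsSepClosed (IsLocalRing.ResidueField A) →
        IsSepClosed (IsLocalRing.ResidueField B) ∧
        ∀ _ : IsLocalHom (algebraMap A B),
          letI := (IsLocalRing.ResidueField.map (algebraMap A B)).toAlgebra
          IsPurelyInseparable (IsLocalRing.ResidueField A) (IsLocalRing.ResidueField B)) := by
  haveI : IsLocalRing B := Groth.Agent.WE91.isLocalRing_of_isIntegral_of_isDomain A B
  haveI hB : HenselianLocalRing B := Groth.Agent.Henz21.henselianLocalRing_of_isIntegral (A := A)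
  have hloc : IsLocalHom (algebraMap A B) := by
    refine ((IsLocalRing.local_hom_TFAE (algebraMap A B)).out 0 4).mpr ?_
    exact IsLocalRing.eq_maximalIdeal
      (Ideal.isMaximal_comap_of_isIntegral_of_isMaximal (R := A) (maximalIdeal B))
  refine ⟨hB, hloc, fun hsc => ?_⟩
  letI := (ResidueField.map (algebraMap A B)).toAlgebra
  haveI : Algebra.IsAlgebraic (ResidueField A) (ResidueField B) := ⟨fun y => by
    obtain ⟨b, rfl⟩ := residue_surjective y
    obtain ⟨p, hp, hpb⟩ := Algebra.IsIntegral.isIntegral (R := A) b
    refine IsIntegral.isAlgebraic ⟨p.map (residue A), hp.map _, ?_⟩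
    rw [Polynomial.eval₂_map, show (algebraMap (ResidueField A) (ResidueField B)).comp (residue A) =
      (residue B).comp (algebraMap A B) from rfl, ← Polynomial.hom_eval₂, hpb, map_zero]⟩
  refine ⟨Algebra.IsAlgebraic.isSepClosed (F := ResidueField A), fun _ => ?_⟩
  exact Algebra.IsAlgebraic.isPurelyInseparable_of_isSepClosed

end Groth.Agent.S1964
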