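import Groth.Statements.S1965
import Groth.Agent.Hensel20.Jacobian
import Groth.Agent.EtAlg23.HenselBasic
import Mathlib.RingTheory.KrullDimension.Basic
import Mathlib.RingTheory.Henselian

set_option autoImplicit false
universe u
open Polynomial
open EtAlg

namespace Groth.Agent.S1965

/-- Let A be a complete Noetherian local domain of Krull dimension 1 with maximal ideal m, P a
polynomial over A and α a root of P which is not a root of the derivative P'. Then for every c there
is an n such that for every polynomial Q all of whose coefficients lie in m^n, the polynomial P + Q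
has a root β with β - α in m^c. -/
theorem result (A : Type u) [CommRing A] [IsDomain A] [IsLocalRing A] [IsNoetherianRing A]
    [IsAdicComplete (IsLocalRing.maximalIdeal A) A] (hdim : ringKrullDim A = 1) (P : A[X]) (α : A)
    (hα : P.eval α = 0) (hα' : (derivative P).eval α ≠ 0) (c : ℕ) :
    ∃ n : ℕ, ∀ Q : A[X], (∀ i, Q.coeff i ∈ IsLocalRing.maximalIdeal A ^ n) →
      ∃ β : A, (P + Q).eval β = 0 ∧ β - α ∈ IsLocalRing.maximalIdeal A ^ c := by
  classical
  let m := IsLocalRing.maximalIdeal A
  set e := (derivative P).eval α with he_def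
  obtain ⟨k, hk⟩ : ∃ k, m ^ k ≤ Ideal.span {e} := by
    refine Ideal.exists_pow_le_of_le_radical_of_fg ?_ (IsNoetherian.noetherian m)
    rw [Ideal.radical_eq_sInf]
    refine le_sInf fun p ⟨hep, hp⟩ => ?_
    haveI : Ring.KrullDimLE 1 A := Ring.krullDimLE_iff.2 hdim.le
    rcases Ring.krullDimLE_one_iff.1 inferInstance p hp with h | h
    · rw [IsDomain.minimalPrimes_eq_singleton_bot, Set.mem_singleton_iff] at h
      exact absurd (by simpa [h] using hep (Ideal.mem_span_singleton_self e)) hα'
    · exact (IsLocalRing.eq_maximalIdeal h).ge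
  refine ⟨k + k + (c + 1), fun Q hQ => ?_⟩
  have hev : ∀ R : A[X], (∀ i, R.coeff i ∈ m ^ (k + k + (c + 1))) → R.eval α ∈ m ^ (k + k + (c + 1)) := fun R hR => by
    rw [Polynomial.eval_eq_sum, Polynomial.sum]
    exact sum_mem fun i _ => Ideal.mul_mem_right _ _ (hR i)
  have hle : m ^ (k + k + (c + 1)) ≤ Ideal.span {e * e} * m ^ (c + 1) := by
    rw [pow_add, pow_add, ← Ideal.span_singleton_mul_span_singleton]
    exact Ideal.mul_mono (Ideal.mul_mono hk hk) le_rfl
  obtain ⟨q, hq, hqe⟩ := Ideal.mem_span_singleton_mul.1 (hle (hev Q hQ))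
  have hQ' : (derivative Q).eval α ∈ Ideal.span {e} * m := by
    have h1 := hle (hev (derivative Q) fun i => by
      rw [coeff_derivative]; exact Ideal.mul_mem_right _ _ (hQ _))
    refine Ideal.mul_mono ?_ (Ideal.pow_le_self (Nat.succ_ne_zero c)) h1
    rw [Ideal.span_singleton_le_span_singleton]
    exact dvd_mul_right e e
  obtain ⟨u', hu', hue⟩ := Ideal.mem_span_singleton_mul.1 hQ'
  obtain ⟨K, hK⟩ := Polynomial.binomExpansion ((P + Q).map C) (C α) (C e * X)
  let F : A[X] := C q + C (1 + u') * X + K * X ^ 2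
  have hF : ∀ t, e * e * F.eval t = (P + Q).eval (α + e * t) := fun t => by
    have h := congrArg (Polynomial.eval t) hK
    rw [derivative_map, Polynomial.eval_map_apply, Polynomial.eval_map_apply, Polynomial.eval_map] at h
    simp only [eval_add, eval_mul, eval_pow, eval_C, eval_X, eval₂_at_apply, hα, zero_add, ← hqe, derivative_add] at h
    have hlhs : Polynomial.eval t (Polynomial.eval₂ C (C α + C e * X) (P + Q)) = (P + Q).eval (α + e * t) := by
      rw [show Polynomial.eval₂ C (C α + C e * X) (P + Q) = (P + Q).comp (C α + C e * X) from rfl, eval_comp]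
      simp
    rw [hlhs] at h
    rw [h, ← hue]
    simp only [F, eval_add, eval_mul, eval_pow, eval_C, eval_X, ← he_def]
    ring
  haveI hm : HenselianRing A m := inferInstance
  haveI : HenselianRing A (m ^ (c + 1)) :=
    Groth.Agent.EtAlg23.henselianRing_of_le hm (Ideal.pow_le_self (Nat.succ_ne_zero c))
  let G : Fin 1 → MvPolynomial (Fin 1) A := fun _ => Polynomial.aeval (MvPolynomial.X 0) F
  have hG : ∀ x : Fin 1 → A, ∀ j, MvPolynomial.aeval x (G j) = F.eval (x 0) := fun x j => by
    rw [← Polynomial.aeval_algHom_apply, MvPolynomial.aeval_X]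
    exact congrFun (Polynomial.coe_aeval_eq_eval (x 0)) F
  obtain ⟨x, hx, hx'⟩ := Groth.Agent.Hensel20.exists_root_of_jacobian (I := m ^ (c + 1)) G 0
    (fun j => by rw [hG 0 j]; simpa [F] using hq)
    (by
      rw [Matrix.det_fin_one]
      show IsUnit (Ideal.Quotient.mk _ (MvPolynomial.aeval (0 : Fin 1 → A) (MvPolynomial.pderiv 0 (G 0))))
      rw [Derivation.map_aeval, MvPolynomial.pderiv_X_self, smul_eq_mul, mul_one, ← Polynomial.aeval_algHom_apply,
        MvPolynomial.aeval_X]
      refine (IsUnit.map _ ?_)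
      simp only [F, derivative_add, derivative_mul, derivative_C, derivative_X, derivative_X_pow, zero_mul, mul_one,
        Pi.zero_apply, Polynomial.coe_aeval_eq_eval, eval_add, eval_mul, eval_pow, eval_C, eval_X, Nat.cast_ofNat, eval_zero]
      simp only [zero_add, add_zero, mul_zero, zero_pow, ne_eq, OfNat.ofNat_ne_zero, not_false_eq_true, one_ne_zero, pow_one, Nat.add_one_sub_one]
      exact IsLocalRing.notMem_maximalIdeal.1 fun h => (IsLocalRing.maximalIdeal.isMaximal A).ne_top
        ((Ideal.eq_top_iff_one m).2 (by have := m.sub_mem h hu'; rwa [add_sub_cancel_right] at this)))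
  refine ⟨α + e * x 0, ?_, ?_⟩
  · rw [← hF, ← hG x 0, hx 0, mul_zero]
  · rw [add_sub_cancel_left]
    refine Ideal.mul_mem_left _ _ (Ideal.pow_le_pow_right (Nat.le_succ c) ?_)
    simpa using hx' 0

end Groth.Agent.S1965
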