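import Groth.Statements.S19651

set_option autoImplicit false
universe u v
open AbVar

namespace Groth.Agent.S19651

open Polynomial in
theorem adjoint_reflect {k : Type u} [Field k] {V : Type v} [AddCommGroup V] [Module k V]
    (B : LinearMap.BilinForm k V) (M : Module.End k V)
    (hM : ∀ x y : V, B (M x) (M y) = B x y) (P : k[X]) (N : ℕ) (hN : P.natDegree ≤ N) (x y : V) :
    B (aeval M P x) ((M ^ N) y) = B x (aeval M (P.reflect N) y) := by
  have hpow : ∀ (i : ℕ) (a b : V), B ((M ^ i) a) ((M ^ i) b) = B a b := by
    intro i
    induction i with
    | zero => simp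
    | succ i ih => intro a b; rw [pow_succ', Module.End.mul_apply, Module.End.mul_apply, hM, ih]
  refine Polynomial.induction_with_natDegree_le
    (fun P => B (aeval M P x) ((M ^ N) y) = B x (aeval M (P.reflect N) y)) N ?_ ?_ ?_ P hN
  · simp
  · intro n r _ hn
    rw [reflect_C_mul_X_pow, revAt_le hn]
    obtain ⟨m, rfl⟩ := Nat.exists_eq_add_of_le hn
    simp only [map_mul, aeval_C, map_pow, aeval_X, Module.algebraMap_end_apply, Module.End.mul_apply,
      map_smul, LinearMap.smul_apply, Nat.add_sub_cancel_left]
    rw [pow_add, Module.End.mul_apply, hpow]
  · intro f g _ _ hf hg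
    simp only [reflect_add, map_add, LinearMap.add_apply, hf, hg]

open Polynomial in
/-- Stated for an arbitrary invariant bilinear form, as the argument there allows. Let k be a field, V a
k-vector space with a bilinear form B and M a linear automorphism of V with B(Mx, My) = B(x, y) for
all x, y. If Q₁ and Q₂ are polynomials such that the reciprocal polynomial of Q₁ (its coefficient
list reversed) is coprime to Q₂, then every vector killed by a power of Q₁(M) is B-orthogonal to
every vector killed by a power of Q₂(M). With Q₁ = Q₂ = Q this says that the generalized kernel of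
Q(M) is totally isotropic whenever Q is coprime to its reciprocal polynomial, which for an
irreducible Q means that Q is not self-reciprocal. (The published statement takes M symplectic and
Q₁, Q₂ irreducible factors of the characteristic polynomial, with Q not self-reciprocal in the first
clause; its second clause asks Q₁ and Q₂ to be distinct and not reciprocal, which holds as proved
when this is read as saying that Q₂ is not the reciprocal of Q₁, but fails if it only means that
neither is self-reciprocal, as the diagonal matrix with entries 2 and 1/2 preserving the standard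
alternating form on k² shows; the coprimality of the reciprocal of Q₁ with Q₂, which is what the
published proof uses, is imposed here and covers both clauses.) -/
theorem result
    {k : Type u} [Field k] {V : Type v} [AddCommGroup V] [Module k V]
    (B : LinearMap.BilinForm k V) (M : V ≃ₗ[k] V)
    (hM : ∀ x y : V, B (M x) (M y) = B x y)
    (Q₁ Q₂ : k[X]) (h : IsCoprime Q₁.reverse Q₂)
    (x y : V)
    (hx : ∃ n : ℕ, (Polynomial.aeval (M : V →ₗ[k] V) Q₁ ^ n) x = 0)
    (hy : ∃ n : ℕ, (Polynomial.aeval (M : V →ₗ[k] V) Q₂ ^ n) y = 0) :
    B x y = 0 := by
  obtain ⟨n, hn⟩ := hx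
  obtain ⟨m, hm⟩ := hy
  obtain ⟨a, b, hab⟩ := h.pow (m := n) (n := m)
  have hy' : y = aeval (M : Module.End k V) ((Q₁ ^ n).reverse) (aeval (M : Module.End k V) a y) := by
    have hrev : (Q₁ ^ n).reverse = Q₁.reverse ^ n := by
      clear hn hab hm
      induction n with
      | zero => rw [pow_zero, pow_zero, ← map_one (C : k →+* k[X]), reverse_C]
      | succ n ih => rw [pow_succ, reverse_mul_of_domain, ih, pow_succ]
    rw [hrev, ← Module.End.mul_apply, ← map_mul, mul_comm]
    conv_lhs => rw [← Module.End.one_apply (R := k) y, ← map_one (aeval (R := k) (M : Module.End k V)), ← hab]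
    rw [map_add, LinearMap.add_apply, map_mul _ b, map_pow _ Q₂, Module.End.mul_apply, hm, map_zero,
      add_zero]
  rw [hy', reverse, ← adjoint_reflect B (M : Module.End k V) hM _ _ le_rfl, map_pow, hn, map_zero,
    LinearMap.zero_apply]

end Groth.Agent.S19651
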