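import Groth.Statements.S19652
import Groth.Agent.Form99.Adjoint
import Mathlib.RingTheory.Artinian.Module
import Mathlib.LinearAlgebra.FiniteDimensional.Lemmas

set_option autoImplicit false
universe u v
open AbVar

namespace Groth.Agent.S19652

open Polynomial in
/-- Stated for an arbitrary invariant nondegenerate bilinear form, as the argument there allows. Let k
be a field, V a finite-dimensional k-vector space with a nondegenerate bilinear form B and M a
linear automorphism of V with B(Mx, My) = B(x, y) for all x, y. If Q is a polynomial associated to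
its own reciprocal polynomial (its coefficient list reversed), then B restricted to the generalized
kernel of Q(M), the union of the kernels of the powers Q(M)^n, is nondegenerate. (The published
statement takes M symplectic and Q a self-reciprocal divisor of the characteristic polynomial;
divisibility plays no role and is not assumed.) -/
theorem result
    {k : Type u} [Field k] {V : Type v} [AddCommGroup V] [Module k V] [FiniteDimensional k V]
    (B : LinearMap.BilinForm k V) (hB : B.Nondegenerate) (M : V ≃ₗ[k] V)
    (hM : ∀ x y : V, B (M x) (M y) = B x y)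
    (Q : k[X]) (hQ : Associated Q Q.reverse) :
    (B.restrict (⨆ n : ℕ, LinearMap.ker (Polynomial.aeval (M : V →ₗ[k] V) Q ^ n))).Nondegenerate := by
  classical
  set T : Module.End k V := (M : Module.End k V) with hT
  set A : Module.End k V := Polynomial.aeval T Q with hA
  set W := ⨆ n : ℕ, LinearMap.ker (A ^ n) with hW
  obtain ⟨N, hN⟩ := Filter.eventually_atTop.mp
    (A.eventually_iSup_ker_pow_eq.and A.eventually_isCompl_ker_pow_range_pow)
  obtain ⟨hWN, hcompl⟩ := hN N le_rfl
  replace hWN : W = LinearMap.ker (A ^ N) := hWN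
  obtain ⟨c, hc⟩ := hQ.symm
  obtain ⟨r, hr, hcr⟩ := Polynomial.isUnit_iff.mp c.isUnit
  set d := (Q ^ N).natDegree with hd
  have key : ∀ x y : V, B (((A ^ N)) x) ((T ^ d) y) = r⁻¹ ^ N * B x ((A ^ N) y) := by
    intro x y
    have hrev : (Q ^ N).reverse = Polynomial.C (r⁻¹ ^ N) * Q ^ N := by
      have e1 : Q.reverse * Polynomial.C r = Q := by rw [hcr]; exact hc
      have e2 : Q.reverse = Polynomial.C r⁻¹ * Q := by
        conv_rhs => rw [← e1]
        rw [mul_comm Q.reverse, ← mul_assoc, ← map_mul, inv_mul_cancel₀ hr.ne_zero, map_one, one_mul]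
      clear_value d
      clear hd hWN hcompl hN
      induction N with
      | zero =>
        rw [pow_zero, pow_zero, mul_one]
        exact Polynomial.reverse_C 1
      | succ n ih =>
        rw [pow_succ, Polynomial.reverse_mul_of_domain, ih, e2, pow_succ r⁻¹, map_mul]
        ring
    have h := Groth.Agent.Form99.adjoint_reflect B T hM (Q ^ N) d le_rfl x y
    rw [hd, ← Polynomial.reverse, hrev, map_mul, Polynomial.aeval_C, map_pow (Polynomial.aeval T), ← hA,
      Module.End.mul_apply, Module.algebraMap_end_apply, map_smul, smul_eq_mul, ← hd] at h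
    exact h
  have hsurj : ∀ n : ℕ, Function.Surjective (T ^ n) := fun n => by
    rw [Module.End.coe_pow]; exact Function.Surjective.iterate M.surjective n
  have hr0 : r⁻¹ ^ N ≠ 0 := pow_ne_zero _ (inv_ne_zero hr.ne_zero)
  refine ⟨fun x hx => ?_, fun y hy => ?_⟩
  · apply Subtype.ext
    apply hB.1
    intro z
    obtain ⟨a, ha, b, hb, rfl⟩ := Submodule.mem_sup.mp
      (hcompl.sup_eq_top ▸ Submodule.mem_top : z ∈ LinearMap.ker (A ^ N) ⊔ LinearMap.range (A ^ N))
    obtain ⟨w, rfl⟩ := hb
    have h1 : B (x : V) a = 0 := hx ⟨a, hWN ▸ ha⟩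
    have h2 : B (x : V) ((A ^ N) w) = 0 := by
      have h := key (x : V) w
      have hx0 : (A ^ N) (x : V) = 0 := LinearMap.mem_ker.mp (hWN ▸ x.2)
      rw [hx0, map_zero, LinearMap.zero_apply] at h
      exact (mul_eq_zero.mp h.symm).resolve_left hr0
    rw [map_add, h1, h2, add_zero]
  · apply Subtype.ext
    apply hB.2
    intro z
    obtain ⟨a, ha, b, hb, rfl⟩ := Submodule.mem_sup.mp
      (hcompl.sup_eq_top ▸ Submodule.mem_top : z ∈ LinearMap.ker (A ^ N) ⊔ LinearMap.range (A ^ N))
    obtain ⟨w, rfl⟩ := hb
    obtain ⟨y', hy'⟩ := hsurj d (y : V)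
    have h1 : B a (y : V) = 0 := hy ⟨a, hWN ▸ ha⟩
    have h2 : B ((A ^ N) w) (y : V) = 0 := by
      rw [← hy', key]
      have hy0 : (A ^ N) y' = 0 := by
        have hcm : Commute (A ^ N) (T ^ d) := by
          apply Commute.pow_pow
          have h3 := (Commute.all Q (Polynomial.X : k[X])).map (Polynomial.aeval T)
          rwa [Polynomial.aeval_X] at h3
        have hi : Function.Injective (T ^ d) := by
          rw [Module.End.coe_pow]; exact Function.Injective.iterate M.injective d
        apply hi
        rw [← Module.End.mul_apply, ← hcm.eq, Module.End.mul_apply, hy', map_zero]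
        exact LinearMap.mem_ker.mp (hWN ▸ y.2)
      rw [hy0, map_zero, mul_zero]
    rw [map_add, LinearMap.add_apply, h1, h2, add_zero]

end Groth.Agent.S19652
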