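import Groth.Statements.S19653
import Groth.Agent.FBase64.ProperNhd.Dvr

set_option autoImplicit false
universe u
open AlgebraicGeometry CategoryTheory CategoryTheory.Limits
open EGA43

namespace Groth.Agent.S19653

/-- Let R be a discrete valuation ring and f : X → Spec R a flat, separated morphism of finite type
whose closed fibre is nonempty and proper over the residue field and whose generic fibre is
geometrically connected. Then f is proper, and its closed fibre is geometrically connected too. (The
published statement does not require the closed fibre to be nonempty; the affine line over the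
fraction field, viewed over R, has empty closed fibre and satisfies the other hypotheses without
being proper, and the published proof uses a point of the closed fibre, so nonemptiness is assumed
here.) -/
theorem result
    (R : Type u) [CommRing R] [IsDomain R] [IsDiscreteValuationRing R]
    (X : Scheme.{u}) (f : X ⟶ Spec (CommRingCat.of R))
    [Flat f] [IsSeparated f] [LocallyOfFiniteType f] [QuasiCompact f]
    [IsProper (f.fiberToSpecResidueField (IsLocalRing.closedPoint R))]
    [Nonempty ↥(f.fiber (IsLocalRing.closedPoint R))]
    [GeometricallyConnected (f.fiberToSpecResidueField (genericPoint ↥(Spec (CommRingCat.of R))))] :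
    IsProper f ∧ GeometricallyConnected (f.fiberToSpecResidueField (IsLocalRing.closedPoint R)) := by
  have hgen0 : ∀ η : ↥(Spec (CommRingCat.of R)), (∀ η', η' ⤳ η → η' = η) →
      η = genericPoint ↥(Spec (CommRingCat.of R)) := fun η hη =>
    (hη _ ((genericPoint_spec ↥(Spec (CommRingCat.of R))).specializes trivial)).symm
  obtain ⟨w⟩ := ‹Nonempty ↥(f.fiber (IsLocalRing.closedPoint R))›
  have hx' : ∀ (t : ↥(Spec (CommRingCat.of R))) (v : ↥(f.fiber t)), f (f.fiberι t v) = t := fun t v => by
    have : f.fiberι t v ∈ Set.range (f.fiberι t) := ⟨v, rfl⟩
    rw [Scheme.Hom.range_fiberι] at this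
    exact this
  have hx := hx' _ w
  have hp : IsProper f := by
    refine Groth.Agent.FBase64.ProperNhd.isProper_of_closedFibre_local f ⟨_, hx⟩ ?_ ?_
    · let K := R ⧸ IsLocalRing.maximalIdeal R
      letI : Field K := Ideal.Quotient.field _
      refine Groth.Agent.FBase64.ProperNhd.isProper_snd_of_fibre f K _ (IsLocalRing.closedPoint R) ?_ inferInstance
      exact (Groth.Agent.FBase64.ProperNhd.range_clPt (A := R)).le ⟨IsLocalRing.closedPoint K, rfl⟩
    · intro η hη _
      rw [hgen0 η hη]
      infer_instance
  refine ⟨hp, ?_⟩
  have : Surjective f := Groth.Agent.FBase64.ProperNhd.surjective_of_proper_flat f ⟨_, hx⟩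
  have hS : ∀ s : ↥(Spec (CommRingCat.of R)), CAlg2.IsGeomUnibranch ((Spec (CommRingCat.of R)).presheaf.stalk s) :=
    Groth.Agent.FBase64.ProperNhd.isGeomUnibranch_stalk R
  have := Groth.Agent.FBase64.ProperNhd.geometricallyConnected_of_flat f hS inferInstance
  exact MorphismProperty.of_isPullback (IsPullback.of_hasPullback f _) this

end Groth.Agent.S19653
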