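import Groth.Statements.S19655
import Groth.Agent.NeronHD28.GenExtend
-- import your own Groth.Agent.* helpers here

set_option autoImplicit false
universe u
open CategoryTheory CategoryTheory.Limits MonoidalCategory CartesianMonoidalCategory AlgebraicGeometry
open Neron

namespace Groth.Agent.S19655

/-- Let R be a Dedekind domain with fraction field K, A an abelian variety over K (a proper smooth
geometrically connected K-group scheme) and N a Néron model of A over Spec R. Then for every smooth
R-scheme Y, every K-morphism to A defined on a dense open subscheme of the generic fibre of Y is the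
restriction of exactly one R-morphism Y → N: K-rational maps from smooth R-schemes to A extend
uniquely to the Néron model. (The text works over a connected Dedekind scheme; the affine case is
stated.) -/
theorem result
    (R : Type u) [CommRing R] [IsDedekindDomain R]
    (N : Over (Spec (CommRingCat.of R))) (A : Over (Spec (CommRingCat.of (FractionRing R))))
    (e : (Neron.genericFibre R).obj N ≅ A) (hN : Neron.IsNeronModelOf R N A e)
    [GrpObj A] [IsProper A.hom] [Smooth A.hom] [GeometricallyConnected A.hom]
    (Y : Over (Spec (CommRingCat.of R))) [Smooth Y.hom]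
    (W : ((Neron.genericFibre R).obj Y).left.Opens) (hW : Dense (W : Set ↥((Neron.genericFibre R).obj Y).left))
    (g : (W : Scheme.{u}) ⟶ A.left) (hg : g ≫ A.hom = W.ι ≫ ((Neron.genericFibre R).obj Y).hom) :
    ∃! h : Y ⟶ N, W.ι ≫ ((Neron.genericFibre R).map h ≫ e.hom).left = g := by
  obtain ⟨-, -, -, -, hmap⟩ := hN
  let Yk := (Neron.genericFibre R).obj Y
  have : Smooth Yk.hom := inferInstanceAs (Smooth (Limits.pullback.snd Y.hom (Neron.genPt R)))
  have : GrpObj (Over.mk A.hom) := inferInstanceAs (GrpObj A)
  obtain ⟨gK, ⟨hgK, hgW⟩, huniq⟩ := NeronHD28.existsUnique_extension_proper Yk.hom A.hom W hW g hg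
  obtain ⟨h, hh⟩ := (hmap Y ‹_›).2 (Over.homMk gK hgK)
  refine ⟨h, ?_, fun h' hh' => (hmap Y ‹_›).1 ?_⟩
  · show W.ι ≫ ((Neron.genericFibre R).map h ≫ e.hom).left = g
    rw [show (Neron.genericFibre R).map h ≫ e.hom = Over.homMk gK hgK from hh]
    exact hgW
  · show (Neron.genericFibre R).map h' ≫ e.hom = (Neron.genericFibre R).map h ≫ e.hom
    rw [show (Neron.genericFibre R).map h ≫ e.hom = Over.homMk gK hgK from hh]
    ext : 1
    exact huniq _ ⟨Over.w _, hh'⟩

end Groth.Agent.S19655
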