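import Groth.Statements.S19659
import Groth.Agent.FibCrit57.Isogeny

set_option autoImplicit false
universe u
open CategoryTheory CategoryTheory.Limits MonoidalCategory CartesianMonoidalCategory MonObj GrpObj AlgebraicGeometry
open AbSch

namespace Groth.Agent.S19659

/-- Let S be a scheme, A and B abelian schemes over S (proper smooth S-group schemes with geometrically
connected fibres) and f : A → B a homomorphism. Then f is flat exactly when it is surjective. -/
theorem result
    {S : Scheme.{u}} (A B : Over S) [GrpObj A] [IsProper A.hom] [Smooth A.hom] [GeometricallyConnected A.hom]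
    [GrpObj B] [IsProper B.hom] [Smooth B.hom] [GeometricallyConnected B.hom]
    (f : A ⟶ B) [IsMonHom f] :
    Flat f.left ↔ Surjective f.left := by
  have : LocallyOfFinitePresentation (f.left ≫ B.hom) := by rw [Over.w]; infer_instance
  have : IsProper (f.left ≫ B.hom) := by rw [Over.w]; infer_instance
  have : IsProper f.left := IsProper.of_comp f.left B.hom
  have : LocallyOfFinitePresentation f.left := SpPts86.lfp_of_comp f.left B.hom
  constructor
  · intro hflat
    have hcl : IsClosed (Set.range f.left) := f.left.isClosedMap.isClosed_range
    have hop : IsOpen (Set.range f.left) := f.left.isOpenMap.isOpen_range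
    refine ⟨fun b => ?_⟩
    have hconn := B.hom.isConnected_preimage_singleton (B.hom b)
    have hsub := hconn.isPreconnected.subset_isClopen ⟨hcl, hop⟩
      ⟨η[B].left (B.hom b), by
        show B.hom (η[B].left (B.hom b)) = B.hom b
        rw [← Scheme.Hom.comp_apply, Over.w]; rfl,
      ⟨η[A].left (B.hom b), by
        rw [← Scheme.Hom.comp_apply, ← Over.comp_left, IsMonHom.one_hom (f := f)]⟩⟩
    exact hsub rfl
  · intro hsurj
    refine FibCrit57.flat_of_surjective_fibres f (fun s => ?_) fun s => inferInstance
    have : Smooth (pullback.snd B.hom (S.fromSpecResidueField s)) :=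
      inferInstance
    exact @AlgGrp79.isReduced_of_smooth (S.residueField s) _ _
      (pullback.snd B.hom (S.fromSpecResidueField s)) this

end Groth.Agent.S19659
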