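import Groth.Statements.S1966
import Groth.Agent.EtAlg23.HenselBasic

set_option autoImplicit false
universe u
open EtAlg

namespace Groth.Agent.S1966

open Polynomial

/-- Towers indexed by the natural numbers: let (A_k) be rings with surjective transition maps A_{k+1} ->
A_k whose kernels consist of nilpotent elements, and let A be a ring with compatible projections p_k
: A -> A_k identifying A with the set of compatible sequences (p is jointly injective and every
compatible sequence comes from an element of A). Then for every k the pair (A, ker p_k) is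
henselian. -/
theorem result (A : Type u) [CommRing A] (As : ℕ → Type u) [∀ k, CommRing (As k)]
    (t : ∀ k, As (k + 1) →+* As k) (ht : ∀ k, Function.Surjective (t k))
    (hnil : ∀ k (x : As (k + 1)), t k x = 0 → IsNilpotent x)
    (p : ∀ k, A →+* As k) (hp : ∀ k, (t k).comp (p (k + 1)) = p k)
    (hinj : ∀ a b : A, (∀ k, p k a = p k b) → a = b)
    (hsurj : ∀ x : ∀ k, As k, (∀ k, t k (x (k + 1)) = x k) → ∃ a : A, ∀ k, p k a = x k) (k : ℕ) :
    HenselianRing A (RingHom.ker (p k)) := by
  have hker : ∀ x : A, p k x = 0 → ∀ m, IsNilpotent (p m x) := by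
    intro x hx
    have hdown : ∀ j, j ≤ k → p j x = 0 := fun j hj => by
      obtain ⟨d, rfl⟩ := Nat.exists_eq_add_of_le hj
      induction d with
      | zero => exact hx
      | succ d ih => exact ih (by rw [← hp (j + d)]; change t (j + d) (p (j + (d + 1)) x) = 0; rw [hx, map_zero]) (Nat.le_add_right _ _)
    intro m
    induction m with
    | zero => rw [hdown 0 (Nat.zero_le _)]; exact IsNilpotent.zero
    | succ m ih =>
      obtain ⟨n, hn⟩ := ih
      rw [← hp m, RingHom.comp_apply, ← map_pow] at hn
      exact (hnil m _ hn).of_pow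
  refine ⟨fun x hx => ?_, fun f hf a₀ h₁ h₂ => ?_⟩
  · rw [Ideal.mem_jacobson_bot]
    intro y
    have hu : ∀ m, IsUnit (p m (x * y + 1)) := fun m => by
      rw [map_add, map_one]
      exact (hker _ (by rw [map_mul, RingHom.mem_ker.1 hx, zero_mul]) m).isUnit_add_one
    obtain ⟨z, hz⟩ := hsurj (fun m => ↑(hu m).unit⁻¹) fun m => by
      refine Units.eq_inv_of_mul_eq_one_right ?_
      have : p m (x * y + 1) = t m (p (m + 1) (x * y + 1)) := by rw [← hp m]; rfl
      rw [IsUnit.unit_spec, this, ← map_mul, IsUnit.val_inv_mul, map_one]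
    refine IsUnit.of_mul_eq_one z (hinj _ _ fun m => ?_)
    rw [map_mul, hz, IsUnit.mul_val_inv, map_one]
  · have h0 : ∀ m, IsNilpotent (aeval (p m a₀) (f.map (p m))) := fun m => by
      rw [coe_aeval_eq_eval, eval_map_apply]
      exact hker _ h₁ m
    have hu : ∀ m, IsUnit (aeval (p m a₀) (derivative (f.map (p m)))) := fun m => by
      rw [coe_aeval_eq_eval, derivative_map, eval_map_apply]
      obtain ⟨v, hv⟩ := Ideal.Quotient.mk_surjective (I := RingHom.ker (p k)) ↑h₂.unit⁻¹
      have hmem : f.derivative.eval a₀ * v - 1 ∈ RingHom.ker (p k) := by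
        rw [← Ideal.Quotient.eq_zero_iff_mem, map_sub, map_mul, map_one, hv, IsUnit.mul_val_inv, sub_self]
      have := (hker _ hmem m).isUnit_add_one
      rw [map_sub, map_one, sub_add_cancel, map_mul] at this
      exact isUnit_of_mul_isUnit_left this
    have hN := fun m => existsUnique_nilpotent_sub_and_aeval_eq_zero (h0 m) (hu m)
    choose r hr hru using hN
    have ev : ∀ m (z : As m), aeval z (f.map (p m)) = (f.map (p m)).eval z := fun m z => by rw [coe_aeval_eq_eval]
    obtain ⟨a, ha⟩ := hsurj r fun m => hru m _ ⟨by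
      have := (hr (m + 1)).1.map (t m)
      rwa [map_sub, ← RingHom.comp_apply, hp] at this, by
      have := congrArg (t m) ((ev _ _).symm.trans (hr (m + 1)).2)
      rw [← eval_map_apply, Polynomial.map_map, hp, map_zero] at this
      exact (ev _ _).trans this⟩
    refine ⟨a, hinj _ _ fun m => ?_, ?_⟩
    · have := (ev _ _).symm.trans (hr m).2
      rw [← ha m, eval_map_apply] at this
      rw [this, map_zero]
    · rw [RingHom.mem_ker, map_sub, sub_eq_zero, ha]
      refine (hru k _ ⟨by simp, ?_⟩).symm
      rw [ev, eval_map_apply]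
      exact RingHom.mem_ker.1 h₁

end Groth.Agent.S1966
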