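import Groth.Statements.S19660
import Groth.Agent.Form99.Adjoint
import Mathlib.RingTheory.Artinian.Module
import Mathlib.LinearAlgebra.FiniteDimensional.Lemmas

set_option autoImplicit false
universe u v
open AbVar

namespace Groth.Agent.S19660

/-- The text applies this to the Frobenius acting on the points of prime order of a principally
polarised abelian variety over a finite field with q elements and to their Weil pairing. Let k be a
field, V a finite-dimensional k-vector space with a nondegenerate bilinear form B, q a nonzero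
element of k and M a linear automorphism of V with B(Mx, My) = q·B(x, y) for all x, y. Write V₁ and
V_q for the generalized eigenspaces of M at 1 and at q. Then every vector of V₁ that is B-orthogonal
to all of V_q is zero, every vector of V_q that is B-orthogonal (on the right) to all of V₁ is zero,
and when q ≠ 1 the form B vanishes identically on V₁ × V₁ and on V_q × V_q. (The text asserts this
as the evident adaptation, to a form scaled by q, of the orthogonality and nondegeneracy facts for
generalized kernels of an automorphism preserving a form; the abstract statement is recorded here,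
the application to the Weil pairing needing that pairing's formalism.) -/
theorem result
    {k : Type u} [Field k] {V : Type v} [AddCommGroup V] [Module k V] [FiniteDimensional k V]
    (B : LinearMap.BilinForm k V) (hB : B.Nondegenerate) (q : k) (hq : q ≠ 0)
    (M : V ≃ₗ[k] V) (hM : ∀ x y : V, B (M x) (M y) = q * B x y) :
    (∀ x ∈ Module.End.maxGenEigenspace (M : Module.End k V) 1,
        (∀ y ∈ Module.End.maxGenEigenspace (M : Module.End k V) q, B x y = 0) → x = 0) ∧
      (∀ y ∈ Module.End.maxGenEigenspace (M : Module.End k V) q,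
        (∀ x ∈ Module.End.maxGenEigenspace (M : Module.End k V) 1, B x y = 0) → y = 0) ∧
      (q ≠ 1 → ∀ x ∈ Module.End.maxGenEigenspace (M : Module.End k V) 1,
        ∀ x' ∈ Module.End.maxGenEigenspace (M : Module.End k V) 1, B x x' = 0) ∧
      (q ≠ 1 → ∀ y ∈ Module.End.maxGenEigenspace (M : Module.End k V) q,
        ∀ y' ∈ Module.End.maxGenEigenspace (M : Module.End k V) q, B y y' = 0) := by
  classical
  open Groth.Agent.Form99 in
  set T : Module.End k V := (M : Module.End k V) with hT
  have fit : ∀ a : k, ∀ᶠ N : ℕ in Filter.atTop,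
      Module.End.maxGenEigenspace T a = LinearMap.ker ((T - algebraMap k _ a) ^ N) ∧
      IsCompl (LinearMap.ker ((T - algebraMap k _ a) ^ N)) (LinearMap.range ((T - algebraMap k _ a) ^ N)) := by
    intro a
    filter_upwards [(T - algebraMap k _ a).eventually_iSup_ker_pow_eq,
        (T - algebraMap k _ a).eventually_isCompl_ker_pow_range_pow] with N h1 h2
    refine ⟨?_, h2⟩
    rw [← h1]
    ext x
    have hdir : Directed (· ≤ ·) fun n : ℕ => LinearMap.ker ((T - algebraMap k _ a) ^ n) :=
      Monotone.directed_le fun i j hij z hz => by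
        obtain ⟨l, rfl⟩ := Nat.exists_eq_add_of_le hij
        rw [LinearMap.mem_ker, add_comm, pow_add, Module.End.mul_apply, LinearMap.mem_ker.mp hz, map_zero]
    rw [Module.End.mem_maxGenEigenspace, Submodule.mem_iSup_of_directed _ hdir,
      ← Algebra.algebraMap_eq_smul_one]
    rfl
  have hinj : ∀ n : ℕ, Function.Injective (T ^ n) := fun n => by
    rw [Module.End.coe_pow]; exact Function.Injective.iterate M.injective n
  have hsurj : ∀ n : ℕ, Function.Surjective (T ^ n) := fun n => by
    rw [Module.End.coe_pow]; exact Function.Surjective.iterate M.surjective n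
  obtain ⟨N, hN⟩ := Filter.eventually_atTop.mp ((fit 1).and (fit q))
  obtain ⟨⟨hV₁, hc₁⟩, hV₂, hc₂⟩ := hN N le_rfl
  have base := Groth.Agent.Form99.orth_range_sub_pow B q
  have mk1 : ∀ (n : ℕ) (w : V), ((algebraMap k (Module.End k V) q - (1 : k) • T) ^ n) ((-1 : k) ^ n • w) =
      ((T - algebraMap k _ q) ^ n) w := by
    intro n w
    rw [one_smul, show algebraMap k (Module.End k V) q - T = (-1 : k) • (T - algebraMap k _ q) from by
      rw [neg_one_smul, neg_sub]]
    rw [smul_pow, LinearMap.smul_apply, map_smul, smul_smul, ← mul_pow, neg_one_mul, neg_neg, one_pow, one_smul]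
  have mk2 : ∀ (n : ℕ) (w : V), ((algebraMap k (Module.End k V) q - q • T) ^ n) (((-q)⁻¹) ^ n • w) =
      ((T - algebraMap k _ 1) ^ n) w := by
    intro n w
    rw [show algebraMap k (Module.End k V) q - q • T = (-q) • (T - algebraMap k _ 1) from by
      rw [map_one, smul_sub, neg_smul, neg_smul, Algebra.algebraMap_eq_smul_one]; abel]
    rw [smul_pow, LinearMap.smul_apply, map_smul, smul_smul, ← mul_pow,
      mul_inv_cancel₀ (neg_ne_zero.mpr hq), one_pow, one_smul]
  refine ⟨?_, ?_, ?_, ?_⟩
  · intro x hx h
    apply hB.1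
    intro z
    obtain ⟨a, ha, b, ⟨w, rfl⟩, rfl⟩ := Submodule.mem_sup.mp
      (hc₂.sup_eq_top ▸ Submodule.mem_top :
        z ∈ LinearMap.ker ((T - algebraMap k _ q) ^ N) ⊔ LinearMap.range ((T - algebraMap k _ q) ^ N))
    rw [map_add, h a (hV₂ ▸ ha), zero_add, ← mk1]
    exact base 1 T hM N x _ (LinearMap.mem_ker.mp (hV₁ ▸ hx))
  · intro y hy h
    apply hB.2
    intro z
    obtain ⟨a, ha, b, ⟨w, rfl⟩, rfl⟩ := Submodule.mem_sup.mp
      (hc₁.sup_eq_top ▸ Submodule.mem_top :
        z ∈ LinearMap.ker ((T - algebraMap k _ 1) ^ N) ⊔ LinearMap.range ((T - algebraMap k _ 1) ^ N))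
    obtain ⟨y', rfl⟩ := hsurj N y
    rw [map_add, LinearMap.add_apply, h a (hV₁ ▸ ha), zero_add,
      Groth.Agent.Form99.adjoint_sub_pow B q 1 T hM]
    have hy0 : ((T - algebraMap k _ q) ^ N) y' = 0 := by
      have hc : Commute ((T - algebraMap k _ q) ^ N) (T ^ N) :=
        (((Commute.refl T).sub_left (Algebra.commute_algebraMap_left q T))).pow_pow N N
      apply hinj N
      rw [map_zero, ← Module.End.mul_apply, ← hc.eq, Module.End.mul_apply]
      exact LinearMap.mem_ker.mp (hV₂ ▸ hy)
    rw [one_smul, show algebraMap k (Module.End k V) q - T = (-1 : k) • (T - algebraMap k _ q) from by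
      rw [neg_one_smul, neg_sub], smul_pow, LinearMap.smul_apply, hy0, smul_zero, map_zero]
  · intro hq1 x hx x' hx'
    obtain ⟨w, hw⟩ := Groth.Agent.Form99.maxGenEigenspace_le_range T 1 q (Ne.symm hq1) N hx'
    rw [← hw, ← mk1]
    exact base 1 T hM N x _ (LinearMap.mem_ker.mp (hV₁ ▸ hx))
  · intro hq1 y hy y' hy'
    obtain ⟨w, hw⟩ := Groth.Agent.Form99.maxGenEigenspace_le_range T q 1 hq1 N hy'
    rw [← hw, ← mk2]
    exact base q T hM N y _ (LinearMap.mem_ker.mp (hV₂ ▸ hy))

end Groth.Agent.S19660
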