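import Groth.Statements.S1967
import Groth.Agent.WE91.IntClosed

set_option autoImplicit false
universe u
open TensorProduct
open EtAlg

namespace Groth.Agent.S1967

/-- If A is an integrally closed domain with fraction field K and B is weakly etale over A, then every
element of B ⊗_A K that is integral over B (via b ↦ b ⊗ 1) already comes from B. -/
theorem result (A : Type u) [CommRing A] [IsDomain A] [IsIntegrallyClosed A]
    (K : Type u) [Field K] [Algebra A K] [IsFractionRing A K] (B : Type u) [CommRing B] [Algebra A B]
    [Algebra.WeaklyEtale A B] :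
    IsIntegrallyClosedIn B (B ⊗[A] K) := by
  rw [isIntegrallyClosedIn_iff]
  let c := Algebra.TensorProduct.comm A B K
  have hinj : Function.Injective (Algebra.TensorProduct.includeRight : B →ₐ[A] K ⊗[A] B) :=
    Algebra.TensorProduct.includeRight_injective (IsFractionRing.injective A K)
  have hc : ∀ b, c (algebraMap B (B ⊗[A] K) b) = (1 : K) ⊗ₜ[A] b := fun b => by
    rw [Algebra.TensorProduct.algebraMap_apply, Algebra.algebraMap_self, RingHom.id_apply]
    simp [c]
  refine ⟨fun b b' h => hinj ((hc b).symm.trans ((congrArg c h).trans (hc b'))), fun {x} hx => ?_⟩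
  obtain ⟨p, hp, hpx⟩ := hx
  obtain ⟨b, hb⟩ := Groth.Agent.WE91.mem_range_of_isIntegral (A := A) (K := K) (B := B) (c x)
    ⟨p, hp, by
      have he : (Algebra.TensorProduct.includeRight : B →ₐ[A] K ⊗[A] B).toRingHom =
          c.toAlgHom.toRingHom.comp (algebraMap B (B ⊗[A] K)) := RingHom.ext fun b => (hc b).symm
      rw [he]
      exact (Polynomial.hom_eval₂ p (algebraMap B (B ⊗[A] K)) c.toAlgHom.toRingHom x).symm.trans
        ((congrArg c hpx).trans (map_zero c))⟩
  exact ⟨b, c.injective ((hc b).trans hb)⟩

end Groth.Agent.S1967
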