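import Groth.Statements.S1969
import Mathlib.RingTheory.Flat.TorsionFree
import Mathlib.RingTheory.LocalRing.Module
import Mathlib.RingTheory.Localization.Algebra
import Mathlib.LinearAlgebra.StdBasis

set_option autoImplicit false
universe u
open EtAlg

namespace Groth.Agent.S1969

theorem localRing_of_fg_flat {L : Type*} [CommRing L] [IsLocalRing L]
    (h : ∀ J : Ideal L, J.FG → Module.Flat L J) : ∃ _ : IsDomain L, ValuationRing L := by
  have key : ∀ J : Ideal L, J.FG → J = ⊥ ∨ ∃ g, J = Ideal.span {g} ∧ ∀ x, x * g = 0 → x = 0 := by
    intro J hJ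
    haveI := h J hJ
    haveI : Module.Finite L J := Module.Finite.iff_fg.2 hJ
    haveI : Module.Free L J := Module.free_of_flat_of_isLocalRing
    let b := Module.Free.chooseBasis L J
    have hsub : Subsingleton (Module.Free.ChooseBasisIndex L J) := by
      refine ⟨fun i j => by_contra fun hij => ?_⟩
      have h1 : (b j : L) • b i = (b i : L) • b j := Subtype.ext (mul_comm (b j : L) (b i : L))
      have h2 := congrArg (fun v => b.repr v i) h1
      simp [Module.Basis.repr_self, Finsupp.single_apply, Ne.symm hij] at h2
      exact b.ne_zero j h2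
    rcases isEmpty_or_nonempty (Module.Free.ChooseBasisIndex L J) with hi | ⟨⟨i⟩⟩
    · left
      rw [eq_bot_iff]
      intro x hx
      have : (⟨x, hx⟩ : J) = 0 := b.ext_elem_iff.2 fun i => isEmptyElim i
      exact congrArg Subtype.val this
    · right
      refine ⟨b i, le_antisymm (fun x hx => ?_) ((Ideal.span_singleton_le_iff_mem J).2 (b i).2), fun x hx => ?_⟩
      · have := b.sum_repr ⟨x, hx⟩
        rw [Fintype.sum_subsingleton _ i] at this
        have h1 : b.repr ⟨x, hx⟩ i * (b i : L) = x := congrArg Subtype.val this
        exact Ideal.mem_span_singleton.2 ⟨_, h1.symm.trans (mul_comm _ _)⟩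
      · have : x • b i = 0 := Subtype.ext hx
        have := congrArg (fun v => b.repr v i) this
        simpa using this
  haveI : NoZeroDivisors L := ⟨fun {a c} hac => by
    by_contra hne
    push Not at hne
    obtain ⟨ha, hc⟩ := hne
    rcases key (Ideal.span {a}) (Submodule.fg_span_singleton a) with hb | ⟨g, hg, hreg⟩
    · exact ha (by simpa using hb)
    · obtain ⟨r, hr⟩ := Ideal.mem_span_singleton.1 (hg ▸ Ideal.mem_span_singleton_self g : g ∈ Ideal.span {a})
      exact hc (hreg c (by rw [hr, ← mul_assoc, mul_comm c a, hac, zero_mul]))⟩
  haveI : IsDomain L := NoZeroDivisors.to_isDomain L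
  haveI : IsBezout L := ⟨fun J hJ => by
    rcases key J hJ with rfl | ⟨g, rfl, -⟩
    · exact bot_isPrincipal
    · exact ⟨⟨g, rfl⟩⟩⟩
  exact ⟨inferInstance, inferInstance⟩

theorem flat_submodule {A : Type u} [CommRing A]
    (h : ∀ (p : Ideal A) [p.IsPrime], ∃ _ : IsDomain (Localization.AtPrime p), ValuationRing (Localization.AtPrime p))
    (M : Type u) [AddCommGroup M] [Module A M] (hM : Module.Flat A M) (N : Submodule A M) : Module.Flat A N := by
  refine Module.flat_of_localized_maximal (R := A) N fun P hP => ?_
  obtain ⟨hd, hv⟩ := h P
  haveI : IsDomain (Localization P.primeCompl) := hd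
  haveI : ValuationRing (Localization P.primeCompl) := hv
  rw [← Module.flat_iff_of_isLocalization (Localization P.primeCompl) P.primeCompl,
    Module.Flat.flat_iff_torsion_eq_bot_of_isBezout]
  haveI : Module.Flat (Localization P.primeCompl) (LocalizedModule P.primeCompl M) :=
    Module.Flat.of_isLocalizedModule (Localization P.primeCompl) P.primeCompl (LocalizedModule.mkLinearMap P.primeCompl M)
  have hinj := LocalizedModule.map_injective P.primeCompl N.subtype Subtype.val_injective
  rw [eq_bot_iff]
  rintro x ⟨a, ha⟩
  have h1 : LocalizedModule.map P.primeCompl N.subtype x ∈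
      Submodule.torsion (Localization P.primeCompl) (LocalizedModule P.primeCompl M) :=
    ⟨a, by rw [Submonoid.smul_def] at ha ⊢; rw [← map_smul, ha, map_zero]⟩
  rw [Module.Flat.torsion_eq_bot, Submodule.mem_bot] at h1
  exact hinj (h1.trans (map_zero _).symm)


/-- For a commutative ring A these are equivalent — all ideals are flat A-modules; all finitely
generated ideals are flat; flatness passes to submodules of flat modules; each localization at a
prime is a valuation ring (in particular a domain). Condition (1), weak dimension at most one, is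
not stated. -/
theorem result (A : Type u) [CommRing A] :
    List.TFAE [∀ I : Ideal A, Module.Flat A I,
      ∀ I : Ideal A, I.FG → Module.Flat A I,
      ∀ (M : Type u) [AddCommGroup M] [Module A M], Module.Flat A M → ∀ N : Submodule A M, Module.Flat A N,
      ∀ (p : Ideal A) [p.IsPrime], ∃ _ : IsDomain (Localization.AtPrime p), ValuationRing (Localization.AtPrime p)] := by
  tfae_have 1 → 2 := fun h I _ => h I
  tfae_have 2 → 4 := by
    intro h p hp
    refine localRing_of_fg_flat fun J hJ => ?_
    classical
    obtain ⟨t, rfl⟩ := hJ
    choose q ha using fun x : Localization.AtPrime p => IsLocalization.surj p.primeCompl x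
    let a := fun x => (q x).1
    have hI : Ideal.span (t : Set (Localization.AtPrime p)) =
        (Ideal.span (a '' (t : Set (Localization.AtPrime p)))).map (algebraMap A _) := by
      rw [Ideal.map_span, ← Set.image_comp]
      refine le_antisymm (Ideal.span_le.2 fun x hx => ?_) (Ideal.span_le.2 ?_)
      · have h1 : algebraMap A _ (a x) ∈ Ideal.span ((algebraMap A (Localization.AtPrime p) ∘ a) '' (t : Set (Localization.AtPrime p))) :=
          Ideal.subset_span ⟨x, hx, rfl⟩
        rw [← ha x] at h1
        exact (Ideal.mul_unit_mem_iff_mem _ (IsLocalization.map_units _ (q x).2)).1 h1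
      · rintro _ ⟨x, hx, rfl⟩
        rw [Function.comp_apply, ← ha x]
        exact Ideal.mul_mem_right _ _ (Ideal.subset_span hx)
    haveI := h (Ideal.span (a '' (t : Set (Localization.AtPrime p)))) (Submodule.fg_span (t.finite_toSet.image a))
    show Module.Flat (Localization.AtPrime p) (Ideal.span (t : Set (Localization.AtPrime p)))
    rw [hI]
    exact Module.Flat.of_isLocalizedModule (Localization.AtPrime p) p.primeCompl
      (Algebra.idealMap (Ideal.span (a '' (t : Set (Localization.AtPrime p)))) (S := Localization.AtPrime p))
  tfae_have 4 → 3 := fun h M _ _ hM N => flat_submodule h M hM N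
  tfae_have 3 → 1 := fun h I => h A inferInstance I
  tfae_finish

end Groth.Agent.S1969
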