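import Groth.Statements.S1968
import Groth.Agent.S1969
import Mathlib.RingTheory.Localization.FractionRing
import Mathlib.Algebra.Ring.Pi
import Mathlib.Algebra.Group.Pi.Units

set_option autoImplicit false
universe u
open EtAlg

namespace Groth.Agent.S1968

variable {J : Type u} (A : J → Type u) [∀ j, CommRing (A j)] [∀ j, IsDomain (A j)] [∀ j, ValuationRing (A j)]

theorem isBezout : IsBezout (∀ j, A j) := by
  classical
  refine IsBezout.iff_span_pair_isPrincipal.2 fun a b => ?_
  let e : ∀ j, A j := fun j => if a j ∣ b j then 1 else 0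
  refine ⟨⟨e * a + (1 - e) * b, le_antisymm ?_ ?_⟩⟩
  · rw [Ideal.submodule_span_eq, Ideal.span_le]
    have hd : ∀ x, (x = a ∨ x = b) → ∀ j, (e * a + (1 - e) * b) j ∣ x j := by
      intro x hx j
      by_cases h : a j ∣ b j
      · rcases hx with rfl | rfl <;> simp [e, h]
      · have h' : b j ∣ a j := ((ValuationRing.iff_dvd_total.1 inferInstance).total _ _).resolve_left h
        rcases hx with rfl | rfl <;> simp [e, h, h']
    intro x hx
    choose c hc using hd x (by simpa using hx)
    exact Ideal.mem_span_singleton.2 ⟨c, funext hc⟩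
  · rw [Submodule.span_singleton_le_iff_mem]
    exact add_mem (Ideal.mul_mem_left _ _ (Ideal.subset_span (by simp))) (Ideal.mul_mem_left _ _ (Ideal.subset_span (by simp)))

theorem flat_principal (g : ∀ j, A j) : Module.Flat (∀ j, A j) (Ideal.span {g}) := by
  classical
  have hc : ∀ x : Ideal.span {g}, ∃ c : ∀ j, A j, (x : ∀ j, A j) = c * g ∧ ∀ j, g j = 0 → c j = 0 := fun x => by
    obtain ⟨c, hc⟩ := Ideal.mem_span_singleton'.1 x.2
    refine ⟨fun j => if g j = 0 then 0 else c j, funext fun j => ?_, fun j hj => if_pos hj⟩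
    rw [← hc]
    simp only [Pi.mul_apply]
    split_ifs with h <;> simp [h]
  choose c hc hc0 using hc
  have huniq : ∀ (x : Ideal.span {g}) (d : ∀ j, A j), (x : ∀ j, A j) = d * g → (∀ j, g j = 0 → d j = 0) → d = c x := fun x d h h0 => funext fun j => by
    by_cases hj : g j = 0
    · rw [h0 j hj, hc0 x j hj]
    · exact mul_right_cancel₀ hj ((congrFun h j).symm.trans (congrFun (hc x) j))
  let i : Ideal.span {g} →ₗ[∀ j, A j] (∀ j, A j) :=
    { toFun := c
      map_add' := fun x y => (huniq (x + y) (c x + c y) (by rw [add_mul, ← hc, ← hc]; rfl)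
        fun j hj => by simp [hc0 x j hj, hc0 y j hj]).symm
      map_smul' := fun r x => (huniq (r • x) (r • c x) (by rw [smul_mul_assoc, ← hc]; rfl)
        fun j hj => by simp [hc0 x j hj]).symm }
  let r : (∀ j, A j) →ₗ[∀ j, A j] Ideal.span {g} :=
    LinearMap.toSpanSingleton _ _ ⟨g, Ideal.mem_span_singleton_self g⟩
  exact Module.Flat.of_retract i r (LinearMap.ext fun x => Subtype.ext (hc x).symm)


/-- Let (A_j) be a family of valuation rings with fraction fields K_j. Then every ideal of the product
ring Π A_j is a flat Π A_j-module (that is, Π A_j has weak dimension at most 1), and Π K_j is the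
localization of Π A_j at its non-zero-divisors. -/
theorem result {J : Type u} (A : J → Type u) [∀ j, CommRing (A j)] [∀ j, IsDomain (A j)]
    [∀ j, ValuationRing (A j)] (K : J → Type u) [∀ j, Field (K j)] [∀ j, Algebra (A j) (K j)]
    [∀ j, IsFractionRing (A j) (K j)] :
    (∀ I : Ideal (∀ j, A j), Module.Flat (∀ j, A j) I) ∧
      IsLocalization (nonZeroDivisors (∀ j, A j)) (∀ j, K j) := by
  refine ⟨((Groth.Agent.S1969.result (∀ j, A j)).out 1 0).1 fun I hI => ?_, ?_⟩
  · haveI := isBezout A
    obtain ⟨g, rfl⟩ : ∃ g, I = Ideal.span {g} := (IsBezout.isPrincipal_of_FG I hI).principal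
    exact flat_principal A g
  · classical
    have hne : ∀ s : nonZeroDivisors (∀ j, A j), ∀ j, (s : ∀ j, A j) j ≠ 0 := fun s j h => by
      have := (mem_nonZeroDivisors_iff_right.1 s.2) (Pi.single j 1) (by
        funext k
        by_cases hk : k = j
        · subst hk; simp [h]
        · simp [hk])
      simpa using congrFun this j
    refine ⟨fun s => ?_, fun z => ?_, fun {a b} h => ⟨1, ?_⟩⟩
    · refine Pi.isUnit_iff.2 fun j => isUnit_iff_ne_zero.2 ?_
      exact (map_ne_zero_iff _ (IsFractionRing.injective (A j) (K j))).2 (hne s j)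
    · choose a ha using fun j => IsLocalization.surj (nonZeroDivisors (A j)) (z j)
      exact ⟨(fun j => (a j).1, ⟨fun j => ((a j).2 : A j), mem_nonZeroDivisors_iff_right.2 fun x hx =>
        funext fun j => (mul_eq_zero.1 (congrFun hx j)).resolve_right (nonZeroDivisors.coe_ne_zero (a j).2)⟩),
        funext ha⟩
    · simp only [Submonoid.coe_one, one_mul]
      exact funext fun j => IsFractionRing.injective (A j) (K j) (congrFun h j)

end Groth.Agent.S1968
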