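import Groth.Statements.S19686
import Groth.Agent.AbSch7.Biadd

set_option autoImplicit false
universe u
open CategoryTheory CategoryTheory.Limits MonoidalCategory CartesianMonoidalCategory MonObj AlgebraicGeometry
open AbSch

namespace Groth.Agent.S19686

open Opposite

set_option backward.isDefEq.respectTransparency false

section Defect
variable {C : Type (u + 1)} [Category.{u} C] {J : GrothendieckTopology C} {P Q G : Sheaf J AddCommGrpCat.{u + 1}}
  {B : Biext J P Q G} (f : Biext.Hom J B B)

/-- The translation by which an endomorphism moves a section. -/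
noncomputable def defect {T : C} (x : B.E.obj.obj (op T)) : G.obj.obj (op T) :=
  (B.existsUnique_act T x (f.map T x) (f.πP_map T x).symm (f.πQ_map T x).symm).choose

theorem defect_spec {T : C} (x : B.E.obj.obj (op T)) : B.act T (defect f x) x = f.map T x :=
  (B.existsUnique_act T x (f.map T x) (f.πP_map T x).symm (f.πQ_map T x).symm).choose_spec.1

theorem defect_eq {T : C} (x : B.E.obj.obj (op T)) (g : G.obj.obj (op T)) (h : B.act T g x = f.map T x) :
    defect f x = g :=
  ((B.existsUnique_act T x (f.map T x) (f.πP_map T x).symm (f.πQ_map T x).symm).choose_spec.2 g h).symm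

theorem defect_congr {T : C} (x y : B.E.obj.obj (op T)) (hP : B.πP T x = B.πP T y) (hQ : B.πQ T x = B.πQ T y) :
    defect f x = defect f y := by
  obtain ⟨h, rfl, -⟩ := B.existsUnique_act T x y hP hQ
  refine (defect_eq f _ _ ?_).symm
  rw [f.map_act, ← defect_spec f x, ← B.add_act, ← B.add_act, add_comm]
  rfl

theorem defect_map {T T' : C} (k : T' ⟶ T) (x : B.E.obj.obj (op T)) :
    defect f (B.E.obj.map k.op x) = G.obj.map k.op (defect f x) := by
  refine defect_eq f _ _ ?_
  rw [← B.act_map, defect_spec, f.map_res]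

theorem defect_zero₂ {T : C} (x : B.E.obj.obj (op T)) (h : B.πQ T x = 0) : defect f x = 0 := by
  have hy : B.πP T (B.add₂ T x x rfl) = B.πP T x := B.πP_add₂ T x x rfl
  have hy' : B.πQ T (B.add₂ T x x rfl) = B.πQ T x := by rw [B.πQ_add₂, h, add_zero]
  have e1 := defect_congr f _ _ hy hy'
  have e2 : defect f (B.add₂ T x x rfl) = defect f x + defect f x := by
    refine defect_eq f _ _ ?_
    rw [f.map_add₂, B.add_act]
    simp only [← defect_spec f x]
    rw [B.add₂_act T (defect f x) x (B.act T (defect f x) x) (B.πP_act T _ x).symm,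
      B.add₂_comm T x (B.act T (defect f x) x) (B.πP_act T _ x).symm, B.add₂_act T (defect f x) x x rfl]
  rw [e2] at e1
  simpa using e1

theorem defect_zero₁ {T : C} (x : B.E.obj.obj (op T)) (h : B.πP T x = 0) : defect f x = 0 := by
  have hy : B.πQ T (B.add₁ T x x rfl) = B.πQ T x := B.πQ_add₁ T x x rfl
  have hy' : B.πP T (B.add₁ T x x rfl) = B.πP T x := by rw [B.πP_add₁, h, add_zero]
  have e1 := defect_congr f _ _ hy' hy
  have e2 : defect f (B.add₁ T x x rfl) = defect f x + defect f x := by
    refine defect_eq f _ _ ?_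
    rw [f.map_add₁, B.add_act]
    simp only [← defect_spec f x]
    rw [B.add₁_act T (defect f x) x (B.act T (defect f x) x) (B.πQ_act T _ x).symm,
      B.add₁_comm T x (B.act T (defect f x) x) (B.πQ_act T _ x).symm, B.add₁_act T (defect f x) x x rfl]
  rw [e2] at e1
  simpa using e1

end Defect

/-- Let S be a scheme and A₁, A₂, A₃ abelian S-schemes (smooth, proper, connected fibres). Then the
category of biextensions of (A₁, A₂) by A₃ is rigid: for every biextension B of (A₁, A₂) by A₃,
formed with the sheaves of points on the big fppf site of all S-schemes, the only endomorphism of B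
inducing the identity on A₁, A₂ and A₃ is the identity (equivalently, there is no non-zero
biadditive morphism from A₁ × A₂ to A₃). The source also asserts that every such biextension is
trivial; that assertion is not part of this statement. -/
theorem result {S : Scheme.{u}} (A₁ A₂ A₃ : Over S)
    [GrpObj A₁] [IsCommMonObj A₁] [Smooth A₁.hom] [IsProper A₁.hom]
    (hA₁ : ∀ s : S, ConnectedSpace ↥(A₁.hom.fiber s))
    [GrpObj A₂] [IsCommMonObj A₂] [Smooth A₂.hom] [IsProper A₂.hom]
    (hA₂ : ∀ s : S, ConnectedSpace ↥(A₂.hom.fiber s))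
    [GrpObj A₃] [IsCommMonObj A₃] [Smooth A₃.hom] [IsProper A₃.hom]
    (hA₃ : ∀ s : S, ConnectedSpace ↥(A₃.hom.fiber s))
    (B : Biext (QuotSh.J Scheme.fppfPrecoverage S) (CGrpSh.pts Scheme.fppfPrecoverage A₁) (CGrpSh.pts Scheme.fppfPrecoverage A₂) (CGrpSh.pts Scheme.fppfPrecoverage A₃))
    (f : Biext.Hom (QuotSh.J Scheme.fppfPrecoverage S) B B) : f = Biext.HomOver.id (QuotSh.J Scheme.fppfPrecoverage S) B := by
  let J := QuotSh.J Scheme.fppfPrecoverage S
  let Gs := CGrpSh.pts Scheme.fppfPrecoverage A₃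
  let W : Over S := A₁ ⊗ A₂
  let pp : ∀ {T : Over S} {G : Over S} [GrpObj G] [IsCommMonObj G] (_ : T ⟶ G),
      (CGrpSh.pts Scheme.fppfPrecoverage G).obj.obj (op T) := fun x => ULift.up (Additive.ofMul x)
  obtain ⟨R, hR, hlift⟩ := B.locallySurjective W (pp (fst A₁ A₂)) (pp (snd A₁ A₂))
  choose x hxP hxQ using hlift
  have hsh : Presieve.IsSheaf J (Gs.obj ⋙ forget AddCommGrpCat.{u + 1}) :=
    (isSheaf_iff_isSheaf_of_type J _).1 ((Presheaf.isSheaf_iff_isSheaf_comp J _ (forget AddCommGrpCat.{u + 1})).1 Gs.2)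
  let fam : Presieve.FamilyOfElements (Gs.obj ⋙ forget AddCommGrpCat.{u + 1}) R.arrows :=
    fun T' g hg => defect f (x g hg)
  have hfam : fam.Compatible := by
    intro Y₁ Y₂ Z g₁ g₂ f₁ f₂ h₁ h₂ hcomm
    show Gs.obj.map g₁.op (defect f (x f₁ h₁)) = Gs.obj.map g₂.op (defect f (x f₂ h₂))
    rw [← defect_map, ← defect_map]
    refine defect_congr f _ _ ?_ ?_
    · rw [B.πP_map, B.πP_map, hxP, hxP, ← ConcreteCategory.comp_apply, ← ConcreteCategory.comp_apply,
        ← Functor.map_comp, ← Functor.map_comp, ← op_comp, ← op_comp, hcomm]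
    · rw [B.πQ_map, B.πQ_map, hxQ, hxQ, ← ConcreteCategory.comp_apply, ← ConcreteCategory.comp_apply,
        ← Functor.map_comp, ← Functor.map_comp, ← op_comp, ← op_comp, hcomm]
  let s : Gs.obj.obj (op W) := (hsh R hR).amalgamate fam hfam
  have hs : ∀ {T' : Over S} (g : T' ⟶ W) (hg : R g), Gs.obj.map g.op s = defect f (x g hg) :=
    fun g hg => (hsh R hR).valid_glue hfam g hg
  have hsep : ∀ (T : Over S) (t t' : Gs.obj.obj (op T)) (k : T ⟶ W),
      (∀ {T' : Over S} (g : T' ⟶ T), R (g ≫ k) → Gs.obj.map g.op t = Gs.obj.map g.op t') → t = t' :=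
    fun T t t' k h => (hsh (R.pullback k) (J.pullback_stable k hR)).isSeparatedFor.ext (fun Y g hg => h g hg)
  let β : W ⟶ A₃ := s.down.toMul
  have hres : ∀ {T : Over S} (k : T ⟶ W), Gs.obj.map k.op s = pp (k ≫ β) := fun k => rfl
  have hzero : ∀ (T : Over S), (pp (1 : T ⟶ A₃)) = (0 : Gs.obj.obj (op T)) := fun T => rfl
  have hax : ∀ {T : Over S} (k : T ⟶ W), (k ≫ snd A₁ A₂ = 1 ∨ k ≫ fst A₁ A₂ = 1) → k ≫ β = 1 := by
    intro T k hk
    have h : Gs.obj.map k.op s = 0 := hsep T _ _ k (fun g hg => by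
      rw [map_zero, ← ConcreteCategory.comp_apply, ← Functor.map_comp, ← op_comp, hs _ hg]
      rcases hk with hk | hk
      · refine defect_zero₂ f _ ?_
        rw [hxQ]
        show pp ((g ≫ k) ≫ snd A₁ A₂) = _
        rw [Category.assoc, hk, MonObj.comp_one]
        rfl
      · refine defect_zero₁ f _ ?_
        rw [hxP]
        show pp ((g ≫ k) ≫ fst A₁ A₂) = _
        rw [Category.assoc, hk, MonObj.comp_one]
        rfl)
    rw [hres, ← hzero] at h
    exact congrArg (fun z : Gs.obj.obj (op T) => z.down.toMul) h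
  have hβ : β = 1 := Groth.Agent.AbSch7.eq_one_of_axes A₁ A₂ A₃ hA₁ hA₂ β
    (hax _ (Or.inl (lift_snd _ _))) (hax _ (Or.inr (lift_fst _ _)))
  refine Biext.HomOver.ext' _ fun T y => ?_
  show f.map T y = y
  have hd : defect f y = 0 := by
    refine hsep T _ _ (lift (B.πP T y).down.toMul (B.πQ T y).down.toMul) (fun g hg => ?_)
    rw [map_zero, ← defect_map, defect_congr f (B.E.obj.map g.op y) (x _ hg) ?_ ?_, ← hs _ hg, hres, hβ,
      MonObj.comp_one]
    · exact hzero _
    · rw [B.πP_map, hxP]
      apply ULift.ext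
      show Additive.ofMul (g ≫ (B.πP T y).down.toMul) = Additive.ofMul ((g ≫ lift _ _) ≫ fst A₁ A₂)
      rw [Category.assoc, lift_fst]
    · rw [B.πQ_map, hxQ]
      apply ULift.ext
      show Additive.ofMul (g ≫ (B.πQ T y).down.toMul) = Additive.ofMul ((g ≫ lift _ _) ≫ snd A₁ A₂)
      rw [Category.assoc, lift_snd]
  rw [← defect_spec f y, hd, B.zero_act]

end Groth.Agent.S19686
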