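import Groth.Prelude.Def_FinCov
import Groth.Prelude.Def_Pic
import Groth.Agent.FinCov99.Split
-- import your own Groth.Agent.* helpers here

set_option autoImplicit false
universe u
open CategoryTheory CategoryTheory.Limits AlgebraicGeometry Opposite
open FinCov

namespace Groth.Agent.S19700

/-- Let X be a scheme with 2 invertible in O_X(X), L an invertible O_X-module, m : L ⊗ L → O_X a
homomorphism of O_X-modules, (A, j : L → A) a quasi-coherent O_X-algebra presented as O_X ⊕ L with
product given by m (every section of A is uniquely s·1 + j(l), and j(l)·j(l') = m(l ⊗ l')·1), and τ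
: A → O_X the trace of A (the O_X-linear map which over every affine open where A is finite free is
the trace of the regular representation; A is locally free of rank 2 here). Then for every open
subset U of X and every section a of A over U, τ(a) = 0 if and only if a lies in the image of j over
U: the kernel of the trace is exactly j(L). -/
theorem result {X : Scheme.{u}} (L : X.Modules) (hL : PicF.IsInvertible L)
    (m : CohB1.tensorMod L L ⟶ Coh.structureModule X) (A : RelSpec.QCAlg X) (j : L ⟶ A.toModule)
    (h : FinCov.IsDblAlg L m A j) (h2 : IsUnit (2 : Γ(X, ⊤)))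
    (τ : A.toModule ⟶ Coh.structureModule X) (hτ : FinCov.IsTrace A τ)
    (U : X.Opens) (a : A.toModule.val.obj (op U)) :
    (τ.val.app (op U)).hom a = 0 ↔ a ∈ Set.range (j.val.app (op U)).hom := by
  obtain ⟨⟨c, l⟩, rfl⟩ := (Groth.Agent.FinCov99.dbl_bij h U).2 a
  have ht := Groth.Agent.FinCov99.tval_dbl h hL hτ U c l
  have hu := Groth.Agent.FinCov99.isUnit_cast_res (d := 2) (by rwa [Nat.cast_two]) U
  rw [Nat.cast_two] at hu
  constructor
  · intro h0
    have hc : c = 0 := hu.mul_right_eq_zero.1 (ht.symm.trans h0)
    subst hc
    exact ⟨l, (zero_add (Groth.Agent.FinCov99.jv A j U l)).symm.trans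
      (congrArg (· + Groth.Agent.FinCov99.jv A j U l) (map_zero (Groth.Agent.AlgSub72.bStr A U)).symm)⟩
  · rintro ⟨l', hl'⟩
    have he : (0, l') = (c, l) := (Groth.Agent.FinCov99.dbl_bij h U).1 (by
      simp only [map_zero, zero_add]
      exact hl')
    obtain ⟨rfl, rfl⟩ := Prod.ext_iff.1 he
    exact ht.trans (mul_zero _)

end Groth.Agent.S19700
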