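import Groth.Statements.S19701
import Groth.Agent.TF64.Euler
import Groth.Agent.CvR64.Double
import Groth.Agent.Crv77.H0Count
import Groth.Agent.Crv77.RatPoint
import Groth.Agent.Curves2.SmoothNormal
import Groth.Agent.FinCov99.Cover
import Groth.Agent.Curves2.ProjLineProper
import Groth.Agent.S10829

set_option autoImplicit false
universe u
open CategoryTheory CategoryTheory.Limits AlgebraicGeometry Opposite
open Curves

namespace Groth.Agent.S19701

/-- Let k be an algebraically closed field of characteristic different from 2 and X a hyperelliptic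
curve of genus g over k: X → Spec k is smooth and proper, X is connected of dimension one with g =
dim_k H¹(X, O_X) ≥ 2, and h : X → P¹_k is a k-morphism which is a double cover (finite, flat,
locally of finite presentation, of rank 2 at every point). Let τ : h_*O_X → O_{P¹} be the trace of h
(the O-linear map which over every affine open of P¹_k where h_*O_X is finite free is the trace of
the regular representation). Then the kernel of τ — an invertible sheaf on P¹_k — has degree −g − 1,
the degree of a rank-one sheaf E on P¹_k being χ(E) − χ(O). (On P¹_k this says that ker τ is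
isomorphic to O(−g − 1); only the degree is asserted here.) -/
theorem result (k : Type u) [Field k] [IsAlgClosed k]
    (h2 : (2 : k) ≠ 0) {X : Scheme.{u}} (p : X ⟶ Spec (CommRingCat.of k)) [IsProper p] [Smooth p]
    [ConnectedSpace ↥X] (hX : topologicalKrullDim ↥X = 1) (hg : 2 ≤ @Curv2.genus k _ X ⟨p⟩)
    (h : X ⟶ CohB1.ProjSpace 1 k) (hh : h ≫ CohB1.ProjSpace.toSpec 1 k = p)
    [IsFinite h] [Flat h] [LocallyOfFinitePresentation h]
    (hr : ∀ y : ↥(CohB1.ProjSpace 1 k), h.finrank y = 2)
    (τ : (Scheme.Modules.pushforward h).obj (Coh.structureModule X) ⟶ Coh.structureModule (CohB1.ProjSpace 1 k))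
    (hτ : FinCov.IsTraceHom h τ) :
    @Curv2.deg k _ (CohB1.ProjSpace 1 k) ⟨CohB1.ProjSpace.toSpec 1 k⟩ (kernel τ) 1 =
      -((@Curv2.genus k _ X ⟨p⟩ : ℤ) + 1) := by
  letI : X.Over (Spec (CommRingCat.of k)) := ⟨p⟩
  letI : (CohB1.ProjSpace 1 k).Over (Spec (CommRingCat.of k)) := ⟨CohB1.ProjSpace.toSpec 1 k⟩
  haveI : IsProper (X ↘ Spec (CommRingCat.of k)) := ‹IsProper p›
  haveI hpY : IsProper (CohB1.ProjSpace 1 k ↘ Spec (CommRingCat.of k)) := Curves2.ProjLine.isProper_toSpec k 1
  have hdY : topologicalKrullDim (CohB1.ProjSpace 1 k) = 1 := by exact_mod_cast S10829.result k 1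
  haveI : IsIntegral (CohB1.ProjSpace 1 k) := Curves2.ProjLine.isIntegral k 1
  have hNX := Crv77.isNoetherian_of_proper k X
  have hNY := Crv77.isNoetherian_of_proper k (CohB1.ProjSpace 1 k)
  haveI : IsIntegral X := Crv77.isIntegral_of_connected_normal fun x => Curves2.isIntegrallyClosed_stalk_of_smooth p x
  have hA := FinCov99.isFinLocFreeOfRank_of_isCover h 2 ⟨⟨‹_›, ‹_›, ‹_›⟩, hr⟩
  let A := RelSpec.QCAlg.directImage h
  have hA' : FlatMod.IsFinLocFreeOfRank 2 A.toModule := fun x => by
    obtain ⟨U, hx, ⟨e⟩⟩ := hA x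
    exact ⟨U, hx, ⟨((Scheme.Modules.restrictFunctor U.ι).mapIso (asIso (CvR64.toAlgMod h))).symm ≪≫ e⟩⟩
  let τ' : A.toModule ⟶ Coh.structureModule (CohB1.ProjSpace 1 k) := inv (CvR64.toAlgMod h) ≫ τ
  have hinv : ∀ U (a : A.presheaf.obj (Opposite.op U)), (τ'.val.app (Opposite.op U)).hom a = (τ.val.app (Opposite.op U)).hom a :=
    fun U a => by
      have h1 : CvR64.toAlgMod h ≫ τ' = τ := IsIso.hom_inv_id_assoc _ _
      exact congrArg (fun φ : _ ⟶ Coh.structureModule (CohB1.ProjSpace 1 k) => (φ.val.app (Opposite.op U)).hom a) h1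
  have hτ' : FinCov.IsTrace A τ' := fun U hU hf hfin a => (hinv U a).trans (hτ U hU hf hfin a)
  have h2' : IsUnit (((2 : ℕ) : Γ(CohB1.ProjSpace 1 k, ⊤))) := by
    have := (IsUnit.mk0 ((2 : ℕ) : k) (by exact_mod_cast h2)).map (Coh.toGlobal (CohB1.ProjSpace.toSpec 1 k))
    rwa [map_natCast] at this
  haveI := FinCov99.isSplitEpi_trace hA' hτ' h2'
  haveI : Epi τ := by
    rw [show τ = CvR64.toAlgMod h ≫ τ' from (IsIso.hom_inv_id_assoc _ _).symm]
    exact epi_comp _ _
  have hO : Coh.IsCoh (Coh.structureModule (CohB1.ProjSpace 1 k)) := Crv77.isCoh_structureModule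
  have hP := QC70.isCoh_pushforward_of_isFinite h _ (Crv77.isCoh_structureModule (X := X))
  have hadd := TF64.euler_eq_kernel_add (k := k) (le_of_eq hdY) τ hP hO.1
  rw [CvR64.euler_push_finite (k := k) h hh _ Crv77.isCoh_structureModule,
    (Crv77.curveCoh_of_proper k X (le_of_eq hX)).euler_eq Crv77.isCoh_structureModule,
    (Crv77.curveCoh_of_proper k (CohB1.ProjSpace 1 k) (le_of_eq hdY)).euler_eq hO] at hadd
  haveI := Crv77.subsingleton_h1_of_iso_projLine k (X := CohB1.ProjSpace 1 k) (Iso.refl _)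
  rw [show Crv77.h (k := k) 1 (Coh.structureModule (CohB1.ProjSpace 1 k)) = 0 from
      Nat.cast_eq_zero.2 Module.finrank_zero_of_subsingleton,
    Crv77.h, Crv77.h, Crv77.h, Crv77.finrank_h0_of_reduced_connected k X (le_of_eq hX),
    Crv77.finrank_h0_of_reduced_connected k (CohB1.ProjSpace 1 k) (le_of_eq hdY)] at hadd
  simp only [Curv2.deg, Curv2.genus]
  rw [(Crv77.curveCoh_of_proper k (CohB1.ProjSpace 1 k) (le_of_eq hdY)).euler_eq hO, Crv77.h, Crv77.h,
    Crv77.finrank_h0_of_reduced_connected k (CohB1.ProjSpace 1 k) (le_of_eq hdY),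
    Module.finrank_zero_of_subsingleton (R := k) (M := Coh.HH (CohB1.ProjSpace 1 k) (Coh.structureModule (CohB1.ProjSpace 1 k)) 1)]
  push_cast at hadd ⊢
  linarith

end Groth.Agent.S19701
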