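import Groth.Statements.S19703
import Groth.Agent.S14578
import Groth.Agent.AlgGrp79.Act
import Groth.Agent.AlgGrp79.Pullback
import Groth.Agent.AlgGrp79.Cover
import Groth.Agent.AlgGrp79.SepDense
import Groth.Agent.AlgGrp79.RigidityGlobal
import Groth.Agent.AlgGrp79.Image

set_option autoImplicit false
universe u
open CategoryTheory MonoidalCategory CartesianMonoidalCategory MonObj GrpObj AlgebraicGeometry CategoryTheory.Limits
open AlgGrp

namespace Groth.Agent.S19703
open Groth.Agent.AlgGrp79 CategoryTheory.Limits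
open scoped commutatorElement

/-- Let k be a field, G an anti-affine algebraic group over k (smooth, of finite type, with O(G) = k), H
a connected k-group scheme of finite type and j : M → H its largest anti-affine closed subgroup
scheme H_ant (O(M) = k and every anti-affine closed subgroup scheme of H factors through M). Then
every morphism of k-schemes f : G → H with f(e_G) = e_H factors through H_ant. -/
theorem result (k : Type u) [Field k]
    (G H : Over (Spec (CommRingCat.of k))) [GrpObj G] [Smooth G.hom] [QuasiCompact G.hom]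
    (hG : Function.Bijective ((Scheme.ΓSpecIso (CommRingCat.of k)).inv ≫ G.hom.appTop).hom)
    [GrpObj H] [LocallyOfFiniteType H.hom] [QuasiCompact H.hom] [ConnectedSpace ↥H.left]
    (M : Over (Spec (CommRingCat.of k))) [GrpObj M] [LocallyOfFiniteType M.hom] [QuasiCompact M.hom] (j : M ⟶ H) [IsMonHom j] [IsClosedImmersion j.left]
    (hM : Function.Bijective ((Scheme.ΓSpecIso (CommRingCat.of k)).inv ≫ M.hom.appTop).hom)
    (hMmax : ∀ (M₁ : Over (Spec (CommRingCat.of k))) [GrpObj M₁] [LocallyOfFiniteType M₁.hom] [QuasiCompact M₁.hom] (j₁ : M₁ ⟶ H) [IsMonHom j₁] [IsClosedImmersion j₁.left],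
      Function.Bijective ((Scheme.ΓSpecIso (CommRingCat.of k)).inv ≫ M₁.hom.appTop).hom → ∃ g : M₁ ⟶ M, g ≫ j = j₁)
    (f : G ⟶ H) (hf : η[G] ≫ f = η[H]) :
    ∃ g : G ⟶ M, g ≫ j = f := by
  have : IsMonHom f := Groth.Agent.S14578.result k G H hG f hf
  have := isSeparated_grp H
  have : QuasiCompact (f.left ≫ H.hom) := by rw [Over.w]; infer_instance
  have : QuasiCompact f.left := QuasiCompact.of_comp f.left H.hom
  let M₁ : Over (Spec (CommRingCat.of k)) := Over.mk (f.left.imageι ≫ H.hom)
  let j₁ : M₁ ⟶ H := Over.homMk f.left.imageι rfl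
  let g₁ : G ⟶ M₁ := Over.homMk f.left.toImage (by
    show f.left.toImage ≫ f.left.imageι ≫ H.hom = G.hom
    rw [Scheme.Hom.toImage_imageι_assoc, Over.w])
  have hgj : g₁ ≫ j₁ = f := by ext : 1; exact f.left.toImage_imageι
  have : IsSchemeTheoreticallyDominant g₁.left := schDominant_toImage f.left
  have : QuasiCompact g₁.left := inferInstanceAs (QuasiCompact f.left.toImage)
  have : IsClosedImmersion j₁.left := inferInstanceAs (IsClosedImmersion f.left.imageι)
  have := Over.mono_of_mono_left j₁
  have hK := closed_of_dominant f j₁ g₁ hgj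
  obtain ⟨_, _⟩ := exists_grpObj_closed j₁ hK.1 hK.2
  have : LocallyOfFiniteType M₁.hom := inferInstanceAs (LocallyOfFiniteType (f.left.imageι ≫ H.hom))
  have : QuasiCompact M₁.hom := inferInstanceAs (QuasiCompact (f.left.imageι ≫ H.hom))
  have hM₁ : Function.Bijective ((Scheme.ΓSpecIso (CommRingCat.of k)).inv ≫ M₁.hom.appTop).hom := by
    have hinj : Function.Injective g₁.left.appTop := g₁.left.app_injective ⊤
    have e : ∀ c, g₁.left.appTop (((Scheme.ΓSpecIso (CommRingCat.of k)).inv ≫ M₁.hom.appTop).hom c) =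
        ((Scheme.ΓSpecIso (CommRingCat.of k)).inv ≫ G.hom.appTop).hom c := fun c => by
      rw [← Over.w g₁, Scheme.Hom.comp_appTop]; rfl
    constructor
    · intro a b hab
      exact hG.1 (by rw [← e, ← e, hab])
    · intro x
      obtain ⟨c, hc⟩ := hG.2 (g₁.left.appTop x)
      exact ⟨c, hinj (by rw [e, hc])⟩
  obtain ⟨l, hl⟩ := hMmax M₁ j₁ hM₁
  exact ⟨g₁ ≫ l, by rw [Category.assoc, hl, hgj]⟩
end Groth.Agent.S19703
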