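import Groth.Statements.S1971
import Groth.Agent.EtAlg23.HenselBasic

set_option autoImplicit false
universe u
open EtAlg

namespace Groth.Agent.S1971

/-- Let A be a ring with ideals I and J having the same zero locus in Spec A. Then an A-algebra is a
henselization of the pair (A, I) if and only if it is a henselization of the pair (A, J). -/
theorem result (A : Type u) [CommRing A] (I J : Ideal A)
    (h : PrimeSpectrum.zeroLocus (I : Set A) = PrimeSpectrum.zeroLocus (J : Set A)) (B : Type u) [CommRing B] [Algebra A B] :
    Hens2.IsPairHenselization A I B ↔ Hens2.IsPairHenselization A J B := by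
  have key : ∀ I J : Ideal A, I.radical = J.radical →
      Hens2.IsPairHenselization A I B → Hens2.IsPairHenselization A J B := by
    intro I J hIJ ⟨h1, h2⟩
    refine ⟨Groth.Agent.EtAlg23.henselianRing_of_le_radical h1 ?_, fun C _ K f hC hJK => ?_⟩
    · calc J.map (algebraMap A B) ≤ J.radical.map (algebraMap A B) := Ideal.map_mono Ideal.le_radical
        _ = I.radical.map (algebraMap A B) := by rw [hIJ]
        _ ≤ _ := Ideal.map_radical_le _
    · refine h2 C K.radical f (Groth.Agent.EtAlg23.henselianRing_of_le_radical hC le_rfl) ?_
      calc I.map f ≤ I.radical.map f := Ideal.map_mono Ideal.le_radical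
        _ = J.radical.map f := by rw [hIJ]
        _ ≤ (J.map f).radical := Ideal.map_radical_le _
        _ ≤ K.radical := Ideal.radical_mono hJK
  rw [PrimeSpectrum.zeroLocus_eq_iff] at h
  exact ⟨key I J h, key J I h.symm⟩

end Groth.Agent.S1971
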