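import Groth.Statements.S19711
import Mathlib.Algebra.Module.FinitePresentation
import Mathlib.LinearAlgebra.Basis.VectorSpace
import Mathlib.RingTheory.Localization.FractionRing
import Mathlib.Algebra.Module.LocalizedModule.Exact

set_option autoImplicit false
universe u
open CategoryTheory
open Coh

namespace Groth.Agent.S19711

/-- A map of finite modules over a Noetherian domain which is injective has a retraction up to a
nonzero scalar. -/
theorem exists_retraction_upto {A : Type u} [CommRing A] [IsNoetherianRing A] [IsDomain A]
    {N M : Type u} [AddCommGroup N] [Module A N] [AddCommGroup M] [Module A M] [Module.Finite A M]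
    (g : N →ₗ[A] M) (hg : Function.Injective g) :
    ∃ (f : A) (p : M →ₗ[A] N), f ≠ 0 ∧ ∀ x, p (g x) = f • x := by
  have : Module.Finite A N := Module.Finite.of_injective g hg
  have : Module.FinitePresentation A M := Module.finitePresentation_of_finite A M
  let S := nonZeroDivisors A
  let gS : LocalizedModule S N →ₗ[FractionRing A] LocalizedModule S M := LocalizedModule.map S g
  have hgS : Function.Injective gS :=
    IsLocalizedModule.map_injective S (LocalizedModule.mkLinearMap S N)
      (LocalizedModule.mkLinearMap S M) g hg
  obtain ⟨r, hr⟩ := gS.exists_leftInverse_of_injective (LinearMap.ker_eq_bot.mpr hgS)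
  obtain ⟨h, s, hh⟩ := Module.FinitePresentation.exists_lift_of_isLocalizedModule S
    (LocalizedModule.mkLinearMap S N) ((r.restrictScalars A) ∘ₗ LocalizedModule.mkLinearMap S M)
  have key : (LocalizedModule.mkLinearMap S N).comp (h.comp g) =
      (LocalizedModule.mkLinearMap S N).comp ((s : A) • LinearMap.id) := by
    ext x
    have h1 := LinearMap.congr_fun hh (g x)
    have h2 : r (gS (LocalizedModule.mkLinearMap S N x)) = LocalizedModule.mkLinearMap S N x :=
      LinearMap.congr_fun hr _
    have h3 : gS (LocalizedModule.mkLinearMap S N x) = LocalizedModule.mkLinearMap S M (g x) := by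
      simp [gS]
    rw [h3] at h2
    simp only [LinearMap.comp_apply, LinearMap.smul_apply, LinearMap.id_apply, map_smul] at h1 ⊢
    rw [h1, Submonoid.smul_def]
    congr 1
  obtain ⟨c, hc⟩ := Module.Finite.exists_smul_of_comp_eq_of_isLocalizedModule S
    (LocalizedModule.mkLinearMap S N) _ _ key
  refine ⟨(c : A) * s, (c : A) • h, mul_ne_zero (nonZeroDivisors.coe_ne_zero c)
    (nonZeroDivisors.coe_ne_zero s), fun x => ?_⟩
  have := LinearMap.congr_fun hc x
  simpa [Submonoid.smul_def, mul_smul] using this


/-- Let A be a Noetherian integral domain and F an A-linear additive functor from A-modules to A-modules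
with F(A) a finitely generated A-module. Call such a functor generically injective when there is a
dense open subset U of Spec A such that for every point u of U whose residue field κ(u) is a
finitely generated A-algebra the comparison map F(A) ⊗_A κ(u) → F(κ(u)) is injective; since F is
A-linear this injectivity says: every m in F(A) whose image under F(A → κ(u)) vanishes satisfies s·m
∈ u·F(A) for some s outside u. If F is generically injective then so is every A-linear additive
subfunctor K ⊆ F (a natural transformation K → F with injective components). (The published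
statement is over a reduced Noetherian affine scheme, for additive functors on quasi-coherent
sheaves with values in abelian groups and the induced A-action, assumes F weakly bounded (F(A/p)
finitely generated for every prime ideal p) and also records that K is again weakly bounded; only
the finite generation of F(A), which its argument uses, is assumed here, and the integral case with
A-linear functors stated here is the one its argument by generic flatness treats.) -/
theorem result {A : Type u} [CommRing A] [IsNoetherianRing A] [IsDomain A]
    (F K : ModuleCat.{u} A ⥤ ModuleCat.{u} A) [F.Additive] [F.Linear A] [K.Additive] [K.Linear A]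
    (ι : K ⟶ F) (hι : ∀ X : ModuleCat.{u} A, Function.Injective (ι.app X).hom)
    (hfin : Module.Finite A (F.obj (ModuleCat.of A A)))
    (hGI : ∃ U : Set (PrimeSpectrum A), IsOpen U ∧ Dense U ∧ ∀ u ∈ U, Algebra.FiniteType A u.asIdeal.ResidueField →
        ∀ m : F.obj (ModuleCat.of A A),
          (F.map (ModuleCat.ofHom (Algebra.linearMap A u.asIdeal.ResidueField))).hom m = 0 →
            ∃ s ∉ u.asIdeal, s • m ∈ u.asIdeal • (⊤ : Submodule A (F.obj (ModuleCat.of A A)))) :
    ∃ U : Set (PrimeSpectrum A), IsOpen U ∧ Dense U ∧ ∀ u ∈ U, Algebra.FiniteType A u.asIdeal.ResidueField →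
        ∀ m : K.obj (ModuleCat.of A A),
          (K.map (ModuleCat.ofHom (Algebra.linearMap A u.asIdeal.ResidueField))).hom m = 0 →
            ∃ s ∉ u.asIdeal, s • m ∈ u.asIdeal • (⊤ : Submodule A (K.obj (ModuleCat.of A A))) := by
  obtain ⟨U, hUo, hUd, hU⟩ := hGI
  obtain ⟨f, p, hf, hp⟩ := exists_retraction_upto (ι.app (ModuleCat.of A A)).hom (hι _)
  refine ⟨U ∩ PrimeSpectrum.basicOpen f, hUo.inter (PrimeSpectrum.basicOpen f).isOpen, ?_, ?_⟩
  · refine dense_iff_inter_open.mpr fun V hV ⟨x, hx⟩ => ⟨⟨⊥, Ideal.isPrime_bot⟩, ?_, ?_, hf⟩
    · exact hV.stableUnderGeneralization ((PrimeSpectrum.le_iff_specializes _ x).mp bot_le) hx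
    · obtain ⟨y, hy⟩ := hUd.nonempty
      exact hUo.stableUnderGeneralization ((PrimeSpectrum.le_iff_specializes _ y).mp bot_le) hy
  · rintro u ⟨huU, huf⟩ hft m hm
    let g : ModuleCat.of A A ⟶ ModuleCat.of A u.asIdeal.ResidueField :=
      ModuleCat.ofHom (Algebra.linearMap A u.asIdeal.ResidueField)
    have h0 : (F.map g).hom ((ι.app (ModuleCat.of A A)).hom m) = 0 := by
      have := congrArg (fun k => k.hom m) (ι.naturality g)
      simp only [ModuleCat.hom_comp, LinearMap.comp_apply] at this
      rw [← this, show (K.map g).hom m = 0 from hm, map_zero]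
    obtain ⟨s, hs, hsm⟩ := hU u huU hft _ h0
    refine ⟨f * s, fun h => (u.isPrime.mem_or_mem h).elim huf hs, ?_⟩
    have h1 := Submodule.mem_map_of_mem (f := p) hsm
    rw [Submodule.map_smul''] at h1
    rw [map_smul, hp, smul_smul, mul_comm] at h1
    exact Submodule.smul_mono le_rfl le_top h1

end Groth.Agent.S19711
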