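import Groth.Prelude.Def_TwSh
import Groth.Prelude.Def_StMod6
import Groth.Agent.TwSh99.Gerbe
-- import your own Groth.Agent.* helpers here

set_option autoImplicit false
universe u
open TwSh

namespace Groth.Agent.S19714

open CategoryTheory AlgebraicGeometry in
/-- First assertion: let π : 𝒳 → 𝒴 be an fppf A-gerbe of algebraic stacks, for a presheaf of groups A on
schemes over S acting through the inertia of 𝒳, and let χ be any character of A. Inverse image along
π is an equivalence from quasi-coherent modules on 𝒴 onto the 0-fold twisted quasi-coherent modules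
on 𝒳 (those on which A acts trivially through the inertia): the inverse-image functor is full and
faithful, and every 0-fold twisted quasi-coherent module on 𝒳 is isomorphic to an inverse image.
(The published statement is for all modules on a gerbe over a locally ringed site and names direct
image as the quasi-inverse; this row is its quasi-coherent form over algebraic stacks and asserts
existence of the isomorphism only. That inverse images are 0-fold twisted holds by construction and
is not asserted.) -/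
theorem result (S : Scheme.{u}) (𝒳 𝒴 : AlgSt.Cat S) (h𝒳 : AlgSt.IsAlgStack Scheme.fppfPrecoverage 𝒳) (h𝒴 : AlgSt.IsAlgStack Scheme.fppfPrecoverage 𝒴) (A : (Over S)ᵒᵖ ⥤ GrpCat.{u}) (χ : A ⟶ TwSh.GmPsh S) (π : 𝒳 ⥤ᵇ 𝒴) (ι : TwSh.BandHom 𝒳 A) (hπ : TwSh.IsBandedGerbe (QuotSh.J Scheme.fppfPrecoverage S) π ι) : ((StMod.comapQ π).Full ∧ (StMod.comapQ π).Faithful) ∧ ∀ F : StMod.QCoh 𝒳, TwSh.IsTwisted F.obj ι χ 0 → ∃ G : StMod.QCoh 𝒴, Nonempty (F ≅ (StMod.comapQ π).obj G) := by
  obtain ⟨α, cat, p⟩ := 𝒳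
  obtain ⟨F, w⟩ := π
  change α ⥤ 𝒴.obj at F
  change F ⋙ 𝒴.p = p at w
  subst w
  have hX : FibCat.IsFibGrpd (F ⋙ 𝒴.p) := h𝒳.isStack.1
  have hY : FibCat.IsFibGrpd 𝒴.p := h𝒴.isStack.1
  have hC := TwSh99.cov_obj (F := F) hπ.1.1
  refine ⟨⟨⟨fun {G G'} w => ?_⟩, ⟨fun {G G'} u v h => ?_⟩⟩, fun M hM => ?_⟩
  · obtain ⟨u, hu⟩ := TwSh99.exists_of_comap (F := F) hX hY hπ.1 G'.property w.hom
    exact ⟨ObjectProperty.homMk u, ObjectProperty.hom_ext _ hu⟩
  · refine ObjectProperty.hom_ext _ (TwSh99.hom_ext_rest G'.property hC u.hom v.hom fun a => ?_)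
    exact congrArg (fun t => StMod.Mod.Hom.app t.hom a) h
  · obtain ⟨G, hG, ⟨i⟩⟩ := TwSh99.exists_comap_iso (F := F) hX hY hπ.1 M.property
      (TwSh99.indepMap_of_isTwisted (F := F) hX hY χ ι (fun x => (hπ.2 x).2) hM)
    exact ⟨⟨G, hG⟩, ⟨ObjectProperty.isoMk _ i⟩⟩

end Groth.Agent.S19714
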