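import Groth.Prelude.Def_TwSh
import Groth.Prelude.Def_StMod6
import Groth.Agent.TwSh99.Twist
-- import your own Groth.Agent.* helpers here

set_option autoImplicit false
universe u
open TwSh

namespace Groth.Agent.S19716

open CategoryTheory AlgebraicGeometry in
/-- the equivalence for any target without automorphisms -/
theorem isEquivalence_of_section {S : Scheme.{u}} {𝒳 𝒲 : AlgSt.Cat S}
    (h𝒳 : AlgSt.IsAlgStack Scheme.fppfPrecoverage 𝒳) (hfib : FibCat.IsFibGrpd 𝒲.p)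
    (hset : ∀ ⦃a b : 𝒲.obj⦄ (m m' : a ⟶ b), 𝒲.p.map m = 𝒲.p.map m' → m = m')
    {A : (Over S)ᵒᵖ ⥤ GrpCat.{u}} (χ : A ⟶ TwSh.GmPsh S) (π : 𝒳 ⥤ᵇ 𝒲) (ι : TwSh.BandHom 𝒳 A)
    (hπ : TwSh.IsBandedGerbe (QuotSh.J Scheme.fppfPrecoverage S) π ι) (σ : 𝒲 ⥤ᵇ 𝒳)
    (e : BasedFunctor.comp σ π ≅ BasedFunctor.id 𝒲) :
    ((TwSh.isTwistedQ 𝒳 ι χ 1).ι ⋙ StMod.comapQ σ).IsEquivalence := by
  obtain ⟨α, cat, p⟩ := 𝒲
  obtain ⟨F, w⟩ := σ
  change α ⥤ 𝒳.obj at F
  change F ⋙ 𝒳.p = p at w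
  subst w
  let ea : ∀ a : α, π.obj (F.obj a) ≅ a := fun a =>
    { hom := e.hom.toNatTrans.app a
      inv := e.inv.toNatTrans.app a
      hom_inv_id := congrArg (fun t => t.toNatTrans.app a) e.hom_inv_id
      inv_hom_id := congrArg (fun t => t.toNatTrans.app a) e.inv_hom_id }
  let D : TwSh99.SecData F ι :=
    { π := π
      fib := h𝒳.isStack.1
      fibSrc := hfib
      faithful := hset
      gerbe := hπ
      e := ea
      he := fun a => e.hom.isHomLift' a }
  refine { full := ⟨fun {G G'} w => ?_⟩, faithful := ⟨fun {G G'} u v h => ?_⟩, essSurj := ⟨fun N => ?_⟩ }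
  · refine ObjectProperty.hom_ext _ (ObjectProperty.hom_ext _
      (TwSh99.hom_ext_rest G'.obj.property D.cov u.hom.hom v.hom.hom fun a => ?_))
    exact congrArg (fun t => StMod.Mod.Hom.app t.hom a) h
  · obtain ⟨u, hu⟩ := D.toDec.exists_hom G'.obj.property G.property G'.property w.hom
    exact ⟨ObjectProperty.homMk (ObjectProperty.homMk u), ObjectProperty.hom_ext _ hu⟩
  · obtain ⟨G, hG, hGt, ⟨i⟩⟩ := D.toDec.exists_comap_iso N.property
    exact ⟨⟨⟨G, hG⟩, hGt⟩, ⟨ObjectProperty.isoMk _ i⟩⟩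

open CategoryTheory AlgebraicGeometry in
/-- A section of a trivial gerbe identifies twisted sheaves with sheaves on the base. Let 𝒳 → X be an
fppf A-gerbe over a scheme X, χ a character of A, and σ a section of the gerbe (a functor X → 𝒳 over
(Sch/S) whose composite with the projection is isomorphic to the identity). Then inverse image along
σ, restricted to the full subcategory of χ-twisted quasi-coherent modules on 𝒳, is an equivalence of
categories onto the quasi-coherent modules on X. (The published statement is about the stacks, over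
the base, of twisted sheaves and of sheaves; this row is its quasi-coherent form on the categories
themselves.) -/
theorem result (S : Scheme.{u}) (X : Over S) (𝒳 : AlgSt.Cat S) (h𝒳 : AlgSt.IsAlgStack Scheme.fppfPrecoverage 𝒳) (A : (Over S)ᵒᵖ ⥤ GrpCat.{u}) (χ : A ⟶ TwSh.GmPsh S) (π : 𝒳 ⥤ᵇ AlgSt.ofSch X) (ι : TwSh.BandHom 𝒳 A) (hπ : TwSh.IsBandedGerbe (QuotSh.J Scheme.fppfPrecoverage S) π ι) (σ : AlgSt.ofSch X ⥤ᵇ 𝒳) (e : BasedFunctor.comp σ π ≅ BasedFunctor.id (AlgSt.ofSch X)) : ((TwSh.isTwistedQ 𝒳 ι χ 1).ι ⋙ StMod.comapQ σ).IsEquivalence := by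
  exact isEquivalence_of_section h𝒳 (Stk.isFibGrpd_ofPsh _) (fun a b m m' h => Stk.EltObj.hom_ext h) χ π ι hπ σ e

end Groth.Agent.S19716
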