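import Groth.Statements.S1972
import Groth.Agent.Henz21.Unique
import Groth.Agent.Unr55.EtAscent
import Mathlib.RingTheory.TensorProduct.Quotient

set_option autoImplicit false
universe u
open EtAlg

namespace Groth.Agent.S1972

open Groth.Agent.Henz21

theorem nilradical_map_etale (R T : Type u) [CommRing R] [CommRing T] [Algebra R T] [Algebra.Etale R T] :
    nilradical T ≤ (nilradical R).map (algebraMap R T) := by
  haveI : IsReduced (R ⧸ nilradical R) :=
    Ideal.isRadical_iff_quotient_reduced _ |>.1 (Ideal.radical_isRadical _)
  haveI : Algebra.Etale (R ⧸ nilradical R) (T ⧸ (nilradical R).map (algebraMap R T)) :=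
    Algebra.Etale.of_equiv (Algebra.TensorProduct.quotIdealMapEquivQuotTensor T (nilradical R)).symm
  haveI : IsReduced (T ⧸ (nilradical R).map (algebraMap R T)) := Groth.Agent.Unr55.isReduced_of_etale (A := R ⧸ nilradical R)
  intro t ht
  rw [← Ideal.Quotient.eq_zero_iff_mem]
  exact IsReduced.eq_zero _ ((mem_nilradical.1 ht).map (Ideal.Quotient.mk _))

theorem nilradical_map_H (R K : Type u) [CommRing R] [CommRing K] [Algebra R K] :
    (nilradical R).map (algebraMap R (H R K)) = nilradical (H R K) := by
  refine le_antisymm (Ideal.map_le_iff_le_comap.2 fun x hx => (mem_nilradical.1 hx).map _) fun x hx => ?_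
  obtain ⟨n, hn⟩ := mem_nilradical.1 hx
  obtain ⟨i, s, rfl⟩ := H.exists_rep x
  rw [← map_pow, ← map_zero (H.incl i)] at hn
  obtain ⟨k, f, g, hfg⟩ := (H.incl_eq_iff _ _).1 hn
  have hs : f.φ s ∈ nilradical k.S := mem_nilradical.2 ⟨n, by rw [← map_pow, hfg, map_zero]⟩
  have h1 := Ideal.mem_map_of_mem (H.incl k).toRingHom (nilradical_map_etale R k.S hs)
  rw [Ideal.map_map] at h1
  rw [show (H.incl k).toRingHom.comp (algebraMap R k.S) = algebraMap R (H R K) from (H.incl k).comp_algebraMap] at h1
  rw [← H.incl_φ f s]
  exact h1

theorem nilradical_map_equiv {R S S' : Type u} [CommRing R] [CommRing S] [CommRing S'] [Algebra R S] [Algebra R S']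
    (e : S ≃ₐ[R] S') (h : (nilradical R).map (algebraMap R S) = nilradical S) :
    (nilradical R).map (algebraMap R S') = nilradical S' := by
  rw [← e.toAlgHom.comp_algebraMap, ← Ideal.map_map, h]
  refine le_antisymm (Ideal.map_le_iff_le_comap.2 fun x hx => (mem_nilradical.1 hx).map _) fun x hx => ?_
  rw [← e.apply_symm_apply x]
  exact Ideal.mem_map_of_mem e.toAlgHom.toRingHom (show e.symm x ∈ nilradical S from (mem_nilradical.1 hx).map e.symm)


/-- Let R be a local ring and S a henselization or a strict henselization of R. Then the nilradical of S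
is the extension of the nilradical of R. -/
theorem result (R S : Type u) [CommRing R] [IsLocalRing R] [CommRing S] [IsLocalRing S]
    [Algebra R S] [IsLocalHom (algebraMap R S)]
    (h : Hensel.IsHenselization R S ∨ Hensel.IsStrictHenselization R S) :
    (nilradical R).map (algebraMap R S) = nilradical S := by
  rcases h with h | h
  · exact nilradical_map_equiv (henselizationEquiv (R := R) S) (nilradical_map_H _ _)
  · exact nilradical_map_equiv (strictHenselizationEquiv (R := R) S) (nilradical_map_H _ _)

end Groth.Agent.S1972
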