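import Groth.Statements.S1973
import Groth.Agent.Unr55.EtAscent
import Mathlib.RingTheory.DiscreteValuationRing.TFAE
import Mathlib.RingTheory.Unramified.LocalRing
import Mathlib.RingTheory.Ideal.MinimalPrime.Noetherian
import Mathlib.RingTheory.Ideal.MinimalPrime.Localization
import Mathlib.RingTheory.Flat.TorsionFree
import Mathlib.RingTheory.Ideal.Quotient.Operations

set_option autoImplicit false
universe u
open EtAlg

namespace Groth.Agent.S1973

variable {A B : Type u} [CommRing A] [IsDedekindDomain A] [CommRing B] [Algebra A B] [Algebra.Etale A B]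

variable (A) in
include A in
theorem localization_domain (Q : Ideal B) [Q.IsPrime] :
    IsDomain (Localization.AtPrime Q) ∧ IsIntegrallyClosed (Localization.AtPrime Q) :=
  Groth.Agent.Unr55.isNormalDomain_localization_of_etale (A := A) (T := B) Q

variable (A) in
include A in
/-- The minimal prime below a prime is the kernel of the map to the local ring. -/
theorem mem_iff_exists_mul_eq_zero (Q P : Ideal B) [Q.IsPrime] (hP : P ∈ minimalPrimes B) (hPQ : P ≤ Q) (b : B) :
    b ∈ P ↔ ∃ s ∉ Q, s * b = 0 := by
  haveI := hP.isPrime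
  haveI := (localization_domain A Q).1
  constructor
  · intro hb
    let K := RingHom.ker (algebraMap B (Localization.AtPrime Q))
    haveI : K.IsPrime := RingHom.ker_isPrime _
    have hK : K ≤ P := fun x hx => by
      obtain ⟨⟨s, hs⟩, h⟩ := (IsLocalization.map_eq_zero_iff Q.primeCompl (Localization.AtPrime Q) x).1 hx
      exact ((Ideal.IsPrime.mem_or_mem inferInstance
        (show s * x ∈ P by rw [show s * x = 0 from h]; exact zero_mem _)).resolve_left fun h' => hs (hPQ h'))
    have : b ∈ K := hP.2 ⟨inferInstance, bot_le⟩ hK hb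
    obtain ⟨⟨s, hs⟩, h⟩ := (IsLocalization.map_eq_zero_iff Q.primeCompl (Localization.AtPrime Q) b).1 this
    exact ⟨s, hs, h⟩
  · rintro ⟨s, hs, h⟩
    exact ((Ideal.IsPrime.mem_or_mem inferInstance (show s * b ∈ P by rw [h]; exact zero_mem _)).resolve_left fun h' => hs (hPQ h'))

variable (A) in
include A in
theorem minimal_unique (Q P P' : Ideal B) [Q.IsPrime] (hP : P ∈ minimalPrimes B) (hP' : P' ∈ minimalPrimes B)
    (h : P ≤ Q) (h' : P' ≤ Q) : P = P' := by
  ext b
  rw [mem_iff_exists_mul_eq_zero A Q P hP h, mem_iff_exists_mul_eq_zero A Q P' hP' h']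

variable (A) in
include A in
/-- Primes above a nonminimal prime are equal to it. -/
theorem eq_of_le (Q Q' : Ideal B) [Q.IsPrime] [Q'.IsPrime] (h : Q ≤ Q') (hQ : Q ∉ minimalPrimes B) : Q = Q' := by
  haveI : Module.Flat A B := inferInstance
  have hmap : ∀ (R : Ideal B) [R.IsPrime],
      (R.comap (algebraMap A B)).map (algebraMap A (Localization.AtPrime R)) = IsLocalRing.maximalIdeal _ := fun R _ => by
    haveI : R.LiesOver (R.comap (algebraMap A B)) := ⟨rfl⟩
    letI := Localization.AtPrime.algebraOfLiesOver (R.comap (algebraMap A B)) R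
    exact ((Algebra.isUnramifiedAt_iff_map_eq A (R.comap (algebraMap A B)) R).1 inferInstance).2
  have hne : Q.comap (algebraMap A B) ≠ ⊥ := fun h0 => hQ (by
    refine ⟨⟨inferInstance, bot_le⟩, fun R hR hRQ x hx => ?_⟩
    haveI := hR.1
    have h1 := hmap Q
    rw [h0, Ideal.map_bot] at h1
    have : algebraMap B (Localization.AtPrime Q) x = 0 := by
      rw [← Ideal.mem_bot, h1, IsLocalization.AtPrime.to_map_mem_maximal_iff (Localization.AtPrime Q) Q]
      exact hx
    obtain ⟨⟨s, hs⟩, hsx⟩ := (IsLocalization.map_eq_zero_iff Q.primeCompl _ x).1 this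
    exact (hR.1.mem_or_mem (show s * x ∈ R by rw [show s * x = 0 from hsx]; exact zero_mem _)).resolve_left fun h' => hs (hRQ h'))
  have heq : Q.comap (algebraMap A B) = Q'.comap (algebraMap A B) :=
    (Ideal.IsPrime.isMaximal (inferInstance : (Q.comap (algebraMap A B)).IsPrime) hne).eq_of_le
      (Ideal.IsPrime.ne_top inferInstance) (Ideal.comap_mono h)
  refine le_antisymm h fun x hx => ?_
  have h1 : algebraMap B (Localization.AtPrime Q') x ∈ IsLocalRing.maximalIdeal _ :=
    (IsLocalization.AtPrime.to_map_mem_maximal_iff _ Q' x).2 hx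
  rw [← hmap Q', ← heq, IsScalarTower.algebraMap_eq A B, ← Ideal.map_map] at h1
  have h2 := Ideal.map_mono (f := algebraMap B (Localization.AtPrime Q'))
    (Ideal.map_comap_le (f := algebraMap A B) (K := Q)) h1
  obtain ⟨⟨⟨r, hr⟩, ⟨s, hs⟩⟩, hrs⟩ := (IsLocalization.mem_map_algebraMap_iff Q'.primeCompl _).1 h2
  rw [← map_mul] at hrs
  obtain ⟨⟨u, hu⟩, hu'⟩ := IsLocalization.exists_of_eq (M := Q'.primeCompl) hrs
  have hmem : u * (x * s) ∈ Q := by rw [show u * (x * s) = u * r from hu']; exact Q.mul_mem_left _ hr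
  rcases Ideal.IsPrime.mem_or_mem inferInstance hmem with hh | hh
  · exact absurd (h hh) hu
  · exact (Ideal.IsPrime.mem_or_mem inferInstance hh).resolve_right fun h' => hs (h h')

variable (A) in
include A in
theorem isIntegrallyClosed_quotient (P : Ideal B) [P.IsPrime] (hP : P ∈ minimalPrimes B) :
    IsIntegrallyClosed (B ⧸ P) := by
  let D := B ⧸ P
  let F := FractionRing D
  refine (isIntegrallyClosed_iff F).2 fun {x} hx => ?_
  let I : Ideal D :=
    { carrier := {d | ∃ e : D, algebraMap D F d * x = algebraMap D F e}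
      add_mem' := fun {a b} ⟨e, he⟩ ⟨e', he'⟩ => ⟨e + e', by rw [map_add, map_add, add_mul, he, he']⟩
      zero_mem' := ⟨0, by simp⟩
      smul_mem' := fun c a ⟨e, he⟩ => ⟨c * e, by rw [smul_eq_mul, map_mul, map_mul, mul_assoc, he]⟩ }
  suffices I = ⊤ by
    obtain ⟨e, he⟩ := (Ideal.eq_top_iff_one I).1 this
    exact ⟨e, by rw [← he, map_one, one_mul]⟩
  by_contra hne
  obtain ⟨M, hM, hIM⟩ := Ideal.exists_le_maximal I hne
  let q := M.comap (Ideal.Quotient.mk P)
  have hPq : P ≤ q := fun b hb => by
    show Ideal.Quotient.mk P b ∈ M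
    rw [Ideal.Quotient.eq_zero_iff_mem.2 hb]; exact zero_mem _
  haveI := (localization_domain A q).1
  haveI := (localization_domain A q).2
  have hunit : ∀ s : q.primeCompl, IsUnit ((algebraMap D F).comp (Ideal.Quotient.mk P) (s : B)) := fun s => by
    refine IsUnit.mk0 _ ((map_ne_zero_iff _ (IsFractionRing.injective D F)).2 fun h => s.2 ?_)
    show Ideal.Quotient.mk P (s : B) ∈ M
    exact (congrArg (· ∈ M) h).mpr (zero_mem _)
  let φ : Localization.AtPrime q →+* F := IsLocalization.lift (M := q.primeCompl) hunit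
  have hφ : ∀ b, φ (algebraMap B _ b) = algebraMap D F (Ideal.Quotient.mk P b) := IsLocalization.lift_eq hunit
  have hφi : Function.Injective φ := by
    rw [injective_iff_map_eq_zero]
    intro z hz
    obtain ⟨b, s, rfl⟩ := IsLocalization.exists_mk'_eq q.primeCompl z
    rw [IsLocalization.lift_mk'_spec, mul_zero, RingHom.comp_apply, map_eq_zero_iff _ (IsFractionRing.injective D F),
      Ideal.Quotient.eq_zero_iff_mem, mem_iff_exists_mul_eq_zero A q P hP hPq] at hz
    obtain ⟨t, ht, htb⟩ := hz
    exact (IsLocalization.mk'_eq_zero_iff _ _).2 ⟨⟨t, ht⟩, htb⟩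
  letI : Algebra (Localization.AtPrime q) F := φ.toAlgebra
  haveI : FaithfulSMul (Localization.AtPrime q) F := (faithfulSMul_iff_algebraMap_injective _ _).2 hφi
  haveI : IsFractionRing (Localization.AtPrime q) F := IsFractionRing.of_field _ F fun z => by
    obtain ⟨a, b, -, rfl⟩ := IsFractionRing.div_surjective D z
    obtain ⟨a, rfl⟩ := Ideal.Quotient.mk_surjective a
    obtain ⟨b, rfl⟩ := Ideal.Quotient.mk_surjective b
    exact ⟨algebraMap B _ a, algebraMap B _ b, by show _ = φ _ / φ _; rw [hφ, hφ]⟩
  have hx' : IsIntegral (Localization.AtPrime q) x := by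
    obtain ⟨p, hp, hpx⟩ := hx
    obtain ⟨p', hp', -, hm⟩ := Polynomial.lifts_and_natDegree_eq_and_monic
      (Polynomial.map_surjective (Ideal.Quotient.mk P) Ideal.Quotient.mk_surjective p :
        p ∈ Polynomial.lifts (Ideal.Quotient.mk P)) hp
    refine ⟨p'.map (algebraMap B _), hm.map _, ?_⟩
    rw [Polynomial.eval₂_map, show (algebraMap (Localization.AtPrime q) F).comp (algebraMap B _) =
      (algebraMap D F).comp (Ideal.Quotient.mk P) from RingHom.ext hφ, ← Polynomial.eval₂_map, hp']
    exact hpx
  obtain ⟨z, hz⟩ := IsIntegrallyClosed.isIntegral_iff.1 hx'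
  obtain ⟨⟨b, s⟩, hbs⟩ := IsLocalization.surj q.primeCompl z
  refine s.2 (hIM ⟨Ideal.Quotient.mk P b, ?_⟩)
  rw [← hφ, ← hφ, ← hbs, map_mul, mul_comm, ← hz]
  rfl


/-- Let A be a Dedekind domain and B an etale A-algebra. Then B is isomorphic as a ring to a finite
product of Dedekind domains, and for every maximal ideal q of B whose localization is not a field,
the localization B_q is a discrete valuation ring. (The source states the last claim for all maximal
ideals; it fails for field factors, e.g. A a DVR with uniformizer π and B = A[1/π], so the guard is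
needed.) -/
theorem result (A B : Type u) [CommRing A] [IsDedekindDomain A] [CommRing B] [Algebra A B]
    [Algebra.Etale A B] :
    (∃ (n : ℕ) (D : Fin n → Type u) (_ : ∀ i, CommRing (D i)) (_ : ∀ i, IsDedekindDomain (D i)),
      Nonempty (B ≃+* ∀ i, D i)) ∧
    ∀ (q : Ideal B) [q.IsMaximal], ¬ IsField (Localization.AtPrime q) →
      ∃ _ : IsDomain (Localization.AtPrime q), IsDiscreteValuationRing (Localization.AtPrime q) := by
  classical
  haveI : IsNoetherianRing B := Algebra.FiniteType.isNoetherianRing A B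
  refine ⟨?_, fun q hq hnf => ?_⟩
  · have hfin : (minimalPrimes B).Finite := Ideal.finite_minimalPrimes_of_isNoetherianRing B ⊥
    haveI : Fintype (minimalPrimes B) := hfin.fintype
    let e := Fintype.equivFin (minimalPrimes B)
    let P : Fin (Fintype.card (minimalPrimes B)) → Ideal B := fun i => (e.symm i : Ideal B)
    have hPmin : ∀ i, P i ∈ minimalPrimes B := fun i => (e.symm i).2
    haveI : ∀ i, (P i).IsPrime := fun i => (hPmin i).isPrime
    have hcop : Pairwise (Function.onFun IsCoprime P) := fun i j hij => by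
      rw [Function.onFun, Ideal.isCoprime_iff_sup_eq]
      by_contra hne
      obtain ⟨M, hM, hle⟩ := Ideal.exists_le_maximal _ hne
      haveI := hM
      exact hij (e.symm.injective (Subtype.ext (minimal_unique A M _ _ (hPmin i) (hPmin j)
        (le_sup_left.trans hle) (le_sup_right.trans hle))))
    have hinf : ⨅ i, P i = ⊥ := by
      rw [eq_bot_iff]
      intro b hb
      rw [Submodule.mem_bot]
      by_contra hb0
      obtain ⟨M, hM, hle⟩ := Ideal.exists_le_maximal (LinearMap.ker (LinearMap.toSpanSingleton B B b))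
        (fun h => hb0 (by
          have h1 : (1 : B) ∈ LinearMap.ker (LinearMap.toSpanSingleton B B b) := by rw [h]; trivial
          simpa using h1))
      haveI := hM
      obtain ⟨R, hR, hRM⟩ := Ideal.exists_minimalPrimes_le (show (⊥ : Ideal B) ≤ M from bot_le)
      have hbR : b ∈ R := by
        have := (Submodule.mem_iInf _).1 hb (e ⟨R, hR⟩)
        simpa [P] using this
      obtain ⟨s, hs, hsb⟩ := (mem_iff_exists_mul_eq_zero A M R hR hRM b).1 hbR
      exact hs (hle (by simpa using hsb))
    haveI : ∀ i, IsIntegrallyClosed (B ⧸ P i) := fun i => isIntegrallyClosed_quotient A _ (hPmin i)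
    haveI : ∀ i, Ring.DimensionLEOne (B ⧸ P i) := fun i => ⟨fun {p} hp0 hp => by
      obtain ⟨M, hM, hle⟩ := Ideal.exists_le_maximal p hp.ne_top
      haveI := hp
      haveI := hM
      have hPp : P i ≤ p.comap (Ideal.Quotient.mk (P i)) := fun b hb => by
        show Ideal.Quotient.mk (P i) b ∈ p
        rw [Ideal.Quotient.eq_zero_iff_mem.2 hb]; exact zero_mem _
      have hnot : p.comap (Ideal.Quotient.mk (P i)) ∉ minimalPrimes B := fun hmin => hp0 (by
        have h1 := le_antisymm (hmin.2 ⟨inferInstance, bot_le⟩ hPp) hPp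
        calc p = (p.comap (Ideal.Quotient.mk (P i))).map (Ideal.Quotient.mk (P i)) :=
              (Ideal.map_comap_of_surjective _ Ideal.Quotient.mk_surjective p).symm
          _ = (P i).map (Ideal.Quotient.mk (P i)) := congrArg _ h1
          _ = ⊥ := Ideal.map_quotient_self _)
      have h2 := eq_of_le A _ (M.comap (Ideal.Quotient.mk (P i))) (Ideal.comap_mono hle) hnot
      have h3 := Ideal.comap_injective_of_surjective _ Ideal.Quotient.mk_surjective h2
      exact h3 ▸ hM⟩
    exact ⟨Fintype.card (minimalPrimes B), fun i => B ⧸ P i, fun i => inferInstance,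
      fun i => { }, ⟨((RingEquiv.quotientBot B).symm.trans (Ideal.quotEquivOfEq hinf.symm)).trans
        (Ideal.quotientInfRingEquivPiQuotient P hcop)⟩⟩
  · obtain ⟨hd, hic⟩ := localization_domain A q
    haveI := hd
    haveI : IsNoetherianRing (Localization.AtPrime q) :=
      IsLocalization.isNoetherianRing q.primeCompl _ inferInstance
    suffices h4 : IsIntegrallyClosed (Localization.AtPrime q) ∧
        ∃! P : Ideal (Localization.AtPrime q), P ≠ ⊥ ∧ P.IsPrime from
      ⟨hd, ((IsDiscreteValuationRing.TFAE (Localization.AtPrime q) hnf).out 0 3).2 h4⟩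
    refine ⟨hic, IsLocalRing.maximalIdeal _, ⟨IsLocalRing.isField_iff_maximalIdeal_eq.not.1 hnf, inferInstance⟩, ?_⟩
    rintro R ⟨hR0, hR⟩
    haveI := hR
    let Q := R.comap (algebraMap B (Localization.AtPrime q))
    have hQq : Q ≤ q := fun b hb => (IsLocalization.AtPrime.to_map_mem_maximal_iff (Localization.AtPrime q) q b).1
      (IsLocalRing.le_maximalIdeal hR.ne_top hb)
    have hnot : Q ∉ minimalPrimes B := fun hmin => hR0 (by
      rw [← IsLocalization.map_comap q.primeCompl (Localization.AtPrime q) R, eq_bot_iff, Ideal.map_le_iff_le_comap]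
      intro b hb
      obtain ⟨s, hs, hsb⟩ := (mem_iff_exists_mul_eq_zero A q Q hmin hQq b).1 hb
      rw [Ideal.mem_comap, Submodule.mem_bot]
      exact (IsLocalization.map_eq_zero_iff q.primeCompl _ b).2 ⟨⟨s, hs⟩, hsb⟩)
    rw [← IsLocalization.map_comap q.primeCompl (Localization.AtPrime q) R, show R.under B = q from eq_of_le A Q q hQq hnot]
    exact Localization.AtPrime.map_eq_maximalIdeal

end Groth.Agent.S1973
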