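import Groth.Statements.S1974
import Mathlib
import Groth.Agent.WE24.Field
-- import your own Groth.Agent.* helpers here

set_option autoImplicit false
universe u
open EtAlg

namespace Groth.Agent.S1974

/-- Let A -> B be weakly etale and q a prime of B lying over the prime p of A. Then the residue field of
q is a separable algebraic extension of the residue field of p. -/
theorem result (A B : Type u) [CommRing A] [CommRing B] [Algebra A B]
    [Algebra.WeaklyEtale A B] (p : Ideal A) [p.IsPrime] (q : Ideal B) [q.IsPrime] [q.LiesOver p]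
    [Algebra (Localization.AtPrime p) (Localization.AtPrime q)] [Localization.AtPrime.IsLiesOverAlgebra p q] :
    Algebra.IsSeparable p.ResidueField q.ResidueField := by
  let k := p.ResidueField
  let E := q.ResidueField
  let j : B →ₐ[A] E := IsScalarTower.toAlgHom A B E
  let ψ : TensorProduct A k B →ₐ[k] E :=
    Algebra.TensorProduct.lift (Algebra.ofId k E) j fun _ _ => Commute.all _ _
  have hsep : ∀ b : B, j b ∈ separableClosure k E := by
    intro b
    rw [mem_separableClosure_iff]
    have h1 := Groth.Agent.WE24.isSeparable_of_weaklyEtale (K := k) ((1 : k) ⊗ₜ[A] b)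
    have h2 : j b = ψ ((1 : k) ⊗ₜ[A] b) := by simp [ψ]
    rw [h2]
    exact Polynomial.Separable.of_dvd h1 (minpoly.dvd k _ (by
      rw [Polynomial.aeval_algHom_apply, minpoly.aeval, map_zero]))
  refine ⟨fun z => ?_⟩
  obtain ⟨b, s, -, rfl⟩ := IsFractionRing.div_surjective (A := B ⧸ q) z
  obtain ⟨b, rfl⟩ := Ideal.Quotient.mk_surjective b
  obtain ⟨s, rfl⟩ := Ideal.Quotient.mk_surjective s
  rw [← mem_separableClosure_iff]
  exact div_mem (hsep b) (hsep s)

end Groth.Agent.S1974
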