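import Groth.Statements.S19748
import Groth.Agent.CAlg6.SegCore
-- import your own Groth.Agent.* helpers here

set_option autoImplicit false
universe u
open scoped TensorProduct
open GrSegre

namespace Groth.Agent.S19748

/-- Let R and S be graded rings defined over a field k with Segre product T = R # S, M a graded R-module
and N a graded S-module. Suppose that multiplication by some homogeneous element f ∈ R_d of positive
degree d is bijective on M and multiplication by some homogeneous g ∈ S_e of positive degree e is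
bijective on N. Then multiplication by some homogeneous element of T of positive degree is bijective
on M # N. Here a graded ring defined over k is a commutative k-algebra of finite type, graded in
nonnegative degrees by k-subspaces with degree-zero part k·1; the Segre product T = R # S = ⊕_n R_n
⊗_k S_n is presented abstractly as a graded k-algebra T with an injective k-algebra homomorphism ψ :
T → R ⊗_k S carrying T_n onto the k-span of the elementary tensors a ⊗ b with a ∈ R_n, b ∈ S_n; the
Segre product M # N = ⊕_n M_n ⊗_k N_n of a graded R-module M and a graded S-module N is presented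
abstractly as a graded T-module P with an injective k-linear map φ : P → M ⊗_k N carrying P_n onto
the k-span of the tensors x ⊗ y with x ∈ M_n, y ∈ N_n and turning the action of t ∈ T into that of
ψ(t) (acting factorwise on M ⊗_k N). -/
theorem result (k : Type u) [Field k] (R : Type u) [CommRing R] [Algebra k R] (𝒜 : ℤ → Submodule k R) [GradedAlgebra 𝒜] (hposR : ∀ n : ℤ, n < 0 → 𝒜 n = ⊥) (h0R : 𝒜 0 = Submodule.span k {(1 : R)}) [Algebra.FiniteType k R] (S : Type u) [CommRing S] [Algebra k S] (ℬ : ℤ → Submodule k S) [GradedAlgebra ℬ] (hposS : ∀ n : ℤ, n < 0 → ℬ n = ⊥) (h0S : ℬ 0 = Submodule.span k {(1 : S)}) [Algebra.FiniteType k S] (T : Type u) [CommRing T] [Algebra k T] (𝒯 : ℤ → Submodule k T) [GradedAlgebra 𝒯] (ψ : T →ₐ[k] TensorProduct k R S) (hT : GrSeg.IsSegreRing 𝒜 ℬ 𝒯 ψ) (M : Type u) [AddCommGroup M] [Module R M] [Module k M] [IsScalarTower k R M] (ℳ : ℤ → AddSubgroup M) [DirectSum.Decomposition ℳ] [SetLike.GradedSMul 𝒜 ℳ] (N : Type u) [AddCommGroup N] [Module S N] [Module k N] [IsScalarTower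 k S N] (𝒩 : ℤ → AddSubgroup N) [DirectSum.Decomposition 𝒩] [SetLike.GradedSMul ℬ 𝒩] (P : Type u) [AddCommGroup P] [Module T P] [Module k P] [IsScalarTower k T P] (𝒬 : ℤ → AddSubgroup P) [DirectSum.Decomposition 𝒬] (φ : P →ₗ[k] TensorProduct k M N) (hP : GrSeg.IsSegreMod ψ ℳ 𝒩 𝒬 φ) (d : ℕ) (hd : 0 < d) (f : R) (hf : f ∈ 𝒜 (d : ℤ)) (hfM : Function.Bijective (fun x : M => f • x)) (e : ℕ) (he : 0 < e) (g : S) (hg : g ∈ ℬ (e : ℤ)) (hgN : Function.Bijective (fun y : N => g • y)) : ∃ (c : ℤ) (t : T), 0 < c ∧ t ∈ 𝒯 c ∧ Function.Bijective (fun p : P => t • p) := by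
  open Groth.Agent.CAlg6.Seg in
  obtain ⟨π, hπ⟩ := Groth.Agent.CAlg6.Seg.exists_dg 𝒜 ℬ ℳ 𝒩 (k := k)
  have hdeg : f ^ e ∈ 𝒜 (d * e : ℤ) ∧ g ^ d ∈ ℬ (d * e : ℤ) := by
    refine ⟨?_, ?_⟩
    · have := SetLike.pow_mem_graded e hf
      rwa [nsmul_eq_mul, mul_comm] at this
    · have := SetLike.pow_mem_graded d hg
      rwa [nsmul_eq_mul] at this
  obtain ⟨t, ht, ht'⟩ := Groth.Agent.CAlg6.Seg.exists_psi_eq_tmul hT hdeg.1 hdeg.2
  refine ⟨(d * e : ℤ), t, by positivity, ht, ?_⟩
  have hbf : Function.Bijective (fun x : M => f ^ e • x) := by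
    have h : (fun x : M => f ^ e • x) = (fun x : M => f • x)^[e] := by rw [smul_iterate]
    rw [h]; exact hfM.iterate e
  have hbg : Function.Bijective (fun y : N => g ^ d • y) := by
    have h : (fun y : N => g ^ d • y) = (fun y : N => g • y)^[d] := by rw [smul_iterate]
    rw [h]; exact hgN.iterate d
  let E : TensorProduct k M N ≃ₗ[k] TensorProduct k M N := TensorProduct.congr
    (LinearEquiv.ofBijective (Algebra.lsmul k k M (f ^ e)) hbf)
    (LinearEquiv.ofBijective (Algebra.lsmul k k N (g ^ d)) hbg)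
  have hE : ∀ w, GrSeg.act k R S M N (ψ t) w = E w := by
    intro w
    induction w using TensorProduct.induction_on with
    | zero => simp
    | add a b ha hb => simp [map_add, ha, hb]
    | tmul a b => rw [ht', GrSeg.act_tmul]; rfl
  refine ⟨fun p p' h => hP.injective (E.injective ?_), fun p => ?_⟩
  · rw [← hE, ← hE, ← hP.map_smul, ← hP.map_smul]
    exact congrArg φ h
  · obtain ⟨q, hq⟩ := Groth.Agent.CAlg6.Seg.exists_phi_dg hP hπ (E.symm (φ p))
    refine ⟨q, hP.injective ?_⟩
    show φ (t • q) = φ p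
    rw [hP.map_smul, hq, ← Groth.Agent.CAlg6.Seg.dg_act_psi hT hπ, hE, LinearEquiv.apply_symm_apply,
      Groth.Agent.CAlg6.Seg.dg_phi hP hπ]

end Groth.Agent.S19748
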