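import Groth.Statements.S19749
import Groth.Agent.CAlg6.SegCore
-- import your own Groth.Agent.* helpers here

set_option autoImplicit false
universe u
open scoped TensorProduct
open GrSegre

namespace Groth.Agent.S19749

/-- Let R and S be graded rings defined over a field k, both generated over k by their degree-one parts
and of positive Krull dimension, T = R # S, M a graded R-module and N a graded S-module, n an
integer with N_m ≠ 0 for every m ≥ n, and x ∈ M_n, y ∈ N_n. If x # y generates M # N as a T-module,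
then R_d x = M_{n+d} for every d ≥ 0 (every element of M_{n+d} is r x for some r ∈ R_d). Here a
graded ring defined over k is a commutative k-algebra of finite type, graded in nonnegative degrees
by k-subspaces with degree-zero part k·1; the Segre product T = R # S = ⊕_n R_n ⊗_k S_n is presented
abstractly as a graded k-algebra T with an injective k-algebra homomorphism ψ : T → R ⊗_k S carrying
T_n onto the k-span of the elementary tensors a ⊗ b with a ∈ R_n, b ∈ S_n; the Segre product M # N =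
⊕_n M_n ⊗_k N_n of a graded R-module M and a graded S-module N is presented abstractly as a graded
T-module P with an injective k-linear map φ : P → M ⊗_k N carrying P_n onto the k-span of the
tensors x ⊗ y with x ∈ M_n, y ∈ N_n and turning the action of t ∈ T into that of ψ(t) (acting
factorwise on M ⊗_k N), and x # y is the element of P mapped to x ⊗ y. -/
theorem result (k : Type u) [Field k] (R : Type u) [CommRing R] [Algebra k R] (𝒜 : ℤ → Submodule k R) [GradedAlgebra 𝒜] (hposR : ∀ n : ℤ, n < 0 → 𝒜 n = ⊥) (h0R : 𝒜 0 = Submodule.span k {(1 : R)}) [Algebra.FiniteType k R] (S : Type u) [CommRing S] [Algebra k S] (ℬ : ℤ → Submodule k S) [GradedAlgebra ℬ] (hposS : ∀ n : ℤ, n < 0 → ℬ n = ⊥) (h0S : ℬ 0 = Submodule.span k {(1 : S)}) [Algebra.FiniteType k S] (T : Type u) [CommRing T] [Algebra k T] (𝒯 : ℤ → Submodule k T) [GradedAlgebra 𝒯] (ψ : T →ₐ[k] TensorProduct k R S) (hT : GrSeg.IsSegreRing 𝒜 ℬ 𝒯 ψ) (hstdR : Ideal.span (⋃ n ∈ Set.Ioi (0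 : ℤ), (𝒜 n : Set R)) = Ideal.span ((𝒜 1 : Submodule k R) : Set R)) (hstdS : Ideal.span (⋃ n ∈ Set.Ioi (0 : ℤ), (ℬ n : Set S)) = Ideal.span ((ℬ 1 : Submodule k S) : Set S)) (hr1 : 1 ≤ ringKrullDim R) (hs1 : 1 ≤ ringKrullDim S) (M : Type u) [AddCommGroup M] [Module R M] [Module k M] [IsScalarTower k R M] (ℳ : ℤ → AddSubgroup M) [DirectSum.Decomposition ℳ] [SetLike.GradedSMul 𝒜 ℳ] (N : Type u) [AddCommGroup N] [Module S N] [Module k N] [IsScalarTower k S N] (𝒩 : ℤ → AddSubgroup N) [DirectSum.Decomposition 𝒩] [SetLike.GradedSMul ℬ 𝒩] (P : Type u) [AddCommGroup P] [Module T P] [Module k P] [IsScalarTower k T P] (𝒬 : ℤ → AddSubgroup P) [DirectSum.Decomposition 𝒬] (φ : P →ₗ[k] TensorProduct k M N) (hP : GrSeg.IsSegreMod ψ ℳ 𝒩 𝒬 φ) (n : ℤ) (hNn : ∀ m : ℤ, n ≤ m → 𝒩 m ≠ ⊥) (x : M) (hx : x ∈ ℳ n) (y : N) (hy : y ∈ 𝒩 n) (p : P) (hp : φ p = x ⊗ₜ[k] y) (hgen : Submodule.span T {p} = ⊤) (d : ℤ) (hd : 0 ≤ d) (z : M) (hz : z ∈ ℳ (n + d)) : ∃ r ∈ 𝒜 d, r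 • x = z := by
  open Groth.Agent.CAlg6.Seg in
  obtain ⟨w, hw, hw0⟩ : ∃ w ∈ 𝒩 (n + d), w ≠ 0 := by
    by_contra h
    exact hNn (n + d) (by omega) ((AddSubgroup.eq_bot_iff_forall _).2 fun v hv => by_contra fun hv0 => h ⟨v, hv, hv0⟩)
  obtain ⟨g, hg⟩ := Module.Projective.exists_dual_eq_one k hw0
  -- `L` extracts the `M_{n+d}`-component, evaluating the second factor by `g`
  let L : TensorProduct k M N →ₗ[k] M := TensorProduct.lift
    { toFun := fun m => (LinearMap.toSpanSingleton k M (Groth.Agent.CAlg6.Seg.prj 𝒜 ℳ (n + d) m)).comp g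
      map_add' := fun a b => by ext; simp
      map_smul' := fun c a => by ext; simp [smul_comm (g _) c] }
  have hL : ∀ (a : M) (b : N), L (a ⊗ₜ[k] b) = g b • Groth.Agent.CAlg6.Seg.prj 𝒜 ℳ (n + d) a :=
    fun a b => by simp [L]
  have key : ∀ u : TensorProduct k R S, ∃ r ∈ 𝒜 d, r • x = L (GrSeg.act k R S M N u (x ⊗ₜ[k] y)) := by
    intro u
    induction u using Groth.Agent.CAlg6.Seg.tmul_induction 𝒜 ℬ with
    | h0 => exact ⟨0, zero_mem _, by simp⟩
    | hadd u v hu hv =>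
      obtain ⟨r, hr, hr'⟩ := hu
      obtain ⟨s, hs, hs'⟩ := hv
      exact ⟨r + s, add_mem hr hs, by simp [add_smul, hr', hs', map_add, LinearMap.add_apply]⟩
    | h i j a b ha hb =>
      rw [GrSeg.act_tmul, hL]
      have h1 : a • x ∈ ℳ (i + n) := SetLike.GradedSMul.smul_mem ha hx
      rcases eq_or_ne i d with rfl | hid
      · refine ⟨g (b • y) • a, Submodule.smul_mem _ _ ha, ?_⟩
        rw [Groth.Agent.CAlg6.Seg.prj_of_mem 𝒜 ℳ (by rwa [add_comm] at h1), smul_assoc]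
      · refine ⟨0, zero_mem _, ?_⟩
        rw [Groth.Agent.CAlg6.Seg.prj_of_ne 𝒜 ℳ h1 (by omega), smul_zero, zero_smul]
  obtain ⟨q, -, hq⟩ := Groth.Agent.CAlg6.Seg.exists_phi_eq hP
    (Groth.Agent.CAlg6.Seg.tmul_mem_piece ℳ 𝒩 hz hw)
  obtain ⟨t, ht⟩ := Submodule.mem_span_singleton.1 (show q ∈ Submodule.span T {p} by rw [hgen]; trivial)
  obtain ⟨r, hr, hr'⟩ := key (ψ t)
  refine ⟨r, hr, ?_⟩
  rw [hr', ← hp, ← hP.map_smul, ht, hq, hL, hg, one_smul, Groth.Agent.CAlg6.Seg.prj_of_mem 𝒜 ℳ hz]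

end Groth.Agent.S19749
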