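import Groth.Statements.S1975
import Groth.Agent.EtAlg23.ValuationLocal
import Groth.Agent.Henz21.Unique
import Groth.Agent.Henz21.FaithfullyFlat

set_option autoImplicit false
universe u
open EtAlg

namespace Groth.Agent.S1975

open Groth.Agent.Henz21

theorem eq_unit_mul_H (A K : Type u) [CommRing A] [IsDomain A] [ValuationRing A] [Field K] [Algebra A K]
    [IsLocalHom (algebraMap A K)] (x : H A K) (hx : x ≠ 0) :
    ∃ (a : A) (u : (H A K)ˣ), x = u * algebraMap A (H A K) a := by
  obtain ⟨i, s, rfl⟩ := H.exists_rep x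
  let q := RingHom.ker i.pt
  haveI : q.IsPrime := RingHom.ker_isPrime _
  have hq : q.comap (algebraMap A i.S) = IsLocalRing.maximalIdeal A := by
    ext a
    rw [Ideal.mem_comap, RingHom.mem_ker, AlgHom.commutes, IsLocalRing.mem_maximalIdeal, mem_nonunits_iff]
    refine ⟨fun h hu => (hu.map (algebraMap A K)).ne_zero h, fun h => ?_⟩
    by_contra hne
    exact h (IsLocalHom.map_nonunit _ (IsUnit.mk0 _ hne))
  obtain ⟨-, -, -, h4⟩ := Groth.Agent.EtAlg23.etale_valuation_local (A := A) q hq
  have hu : ∀ t : q.primeCompl, IsUnit (H.incl i (t : i.S)) := fun t => by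
    refine H.isUnit_of_isUnit_proj ?_
    rw [H.proj_incl]
    exact IsUnit.mk0 _ t.2
  let φ : Localization.AtPrime q →+* H A K :=
    IsLocalization.lift (M := q.primeCompl) (g := (H.incl i).toRingHom) hu
  have hφ : ∀ t : i.S, φ (algebraMap i.S _ t) = H.incl i t := IsLocalization.lift_eq hu
  obtain ⟨a, u, hau⟩ := h4 (algebraMap i.S _ s) fun h => hx (by rw [← hφ, h, map_zero])
  refine ⟨a, Units.map φ.toMonoidHom u, ?_⟩
  rw [← hφ, hau, map_mul, IsScalarTower.algebraMap_apply A i.S (Localization.AtPrime q), hφ, AlgHom.commutes]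
  rfl

theorem valuation_of_equiv {A T S : Type u} [CommRing A] [IsDomain A] [ValuationRing A] [CommRing T] [CommRing S]
    [Nontrivial S] [Algebra A T] [Algebra A S] (e : T ≃ₐ[A] S) (hinj : Function.Injective (algebraMap A S))
    (h : ∀ x : T, x ≠ 0 → ∃ (a : A) (u : Tˣ), x = u * algebraMap A T a) :
    IsDomain S ∧ (∀ _ : IsDomain S, ValuationRing S) ∧ Function.Injective (algebraMap A S) ∧
      ∀ s : S, s ≠ 0 → ∃ (a : A) (u : Sˣ), s = u * algebraMap A S a := by
  have h' : ∀ s : S, s ≠ 0 → ∃ (a : A) (u : Sˣ), s = u * algebraMap A S a := fun s hs => by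
    obtain ⟨a, u, hu⟩ := h (e.symm s) fun h0 => hs (by rw [← e.apply_symm_apply s, h0, map_zero])
    refine ⟨a, Units.map e.toRingHom.toMonoidHom u, ?_⟩
    have := congrArg e hu
    rwa [AlgEquiv.apply_symm_apply, map_mul, AlgEquiv.commutes] at this
  haveI : NoZeroDivisors S := ⟨fun {x y} hxy => by
    by_contra hne
    rw [not_or] at hne
    obtain ⟨a, u, rfl⟩ := h' x hne.1
    obtain ⟨c, v, rfl⟩ := h' y hne.2
    rw [mul_mul_mul_comm, ← map_mul, ← Units.val_mul, Units.mul_right_eq_zero] at hxy
    rcases mul_eq_zero.1 (hinj (hxy.trans (map_zero _).symm)) with rfl | rfl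
    · exact hne.1 (by simp)
    · exact hne.2 (by simp)⟩
  haveI hd : IsDomain S := NoZeroDivisors.to_isDomain S
  exact ⟨hd, fun _ => Groth.Agent.EtAlg23.valuationRing_of_eq_unit_mul h', hinj, h'⟩


/-- Let A be a valuation ring and S a henselization or strict henselization of A. Then S is a valuation
ring, A -> S is injective, and every nonzero element of S is a unit multiple of the image of an
element of A (the value groups agree). -/
theorem result (A S : Type u) [CommRing A] [IsDomain A] [ValuationRing A] [CommRing S]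
    [IsLocalRing S] [Algebra A S] [IsLocalHom (algebraMap A S)]
    (h : Hensel.IsHenselization A S ∨ Hensel.IsStrictHenselization A S) :
    IsDomain S ∧ (∀ _ : IsDomain S, ValuationRing S) ∧ Function.Injective (algebraMap A S) ∧
      ∀ s : S, s ≠ 0 → ∃ (a : A) (u : Sˣ), s = u * algebraMap A S a := by
  rcases h with h | h
  · haveI := henselization_faithfullyFlat (R := A) (S := S)
    exact valuation_of_equiv (henselizationEquiv (R := A) S) (FaithfulSMul.algebraMap_injective A S)
      (eq_unit_mul_H A _)
  · haveI := strictHenselization_faithfullyFlat (R := A) (S := S)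
    exact valuation_of_equiv (strictHenselizationEquiv (R := A) S) (FaithfulSMul.algebraMap_injective A S)
      (eq_unit_mul_H A _)

end Groth.Agent.S1975
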