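import Groth.Statements.S19750
import Groth.Agent.CAlg6.SegCore
import Groth.Agent.CAlg6.SegStd
-- import your own Groth.Agent.* helpers here

set_option autoImplicit false
universe u
open scoped TensorProduct
open GrSegre

namespace Groth.Agent.S19750

/-- Let R and S be graded rings defined over a field k, both generated over k by their degree-one parts
and of positive Krull dimension, T = R # S with irrelevant ideal T_+, and let a ≥ b be integers.
Then the number of generators ν_T(R(a) # S(b)) = dim_k (R(a) # S(b)) / T_+ (R(a) # S(b)) equals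
dim_k R_{a−b}. Here a graded ring defined over k is a commutative k-algebra of finite type, graded
in nonnegative degrees by k-subspaces with degree-zero part k·1; the Segre product T = R # S = ⊕_n
R_n ⊗_k S_n is presented abstractly as a graded k-algebra T with an injective k-algebra homomorphism
ψ : T → R ⊗_k S carrying T_n onto the k-span of the elementary tensors a ⊗ b with a ∈ R_n, b ∈ S_n;
the Segre product R(a) # S(b) = ⊕_n R_{n+a} ⊗_k S_{n+b} of the shifted modules is presented
abstractly as a graded T-module P with an injective k-linear map φ : P → R ⊗_k S carrying P_n onto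
the k-span of the tensors x ⊗ y with x ∈ R_{n+a}, y ∈ S_{n+b} and turning the action of t ∈ T into
that of ψ(t); T_+ is the ideal spanned by the T_n with n > 0. -/
theorem result (k : Type u) [Field k] (R : Type u) [CommRing R] [Algebra k R] (𝒜 : ℤ → Submodule k R) [GradedAlgebra 𝒜] (hposR : ∀ n : ℤ, n < 0 → 𝒜 n = ⊥) (h0R : 𝒜 0 = Submodule.span k {(1 : R)}) [Algebra.FiniteType k R] (S : Type u) [CommRing S] [Algebra k S] (ℬ : ℤ → Submodule k S) [GradedAlgebra ℬ] (hposS : ∀ n : ℤ, n < 0 → ℬ n = ⊥) (h0S : ℬ 0 = Submodule.span k {(1 : S)}) [Algebra.FiniteType k S] (T : Type u) [CommRing T] [Algebra k T] (𝒯 : ℤ → Submodule k T) [GradedAlgebra 𝒯] (ψ : T →ₐ[k] TensorProduct k R S) (hT : GrSeg.IsSegreRing 𝒜 ℬ 𝒯 ψ) (hstdR : Ideal.span (⋃ n ∈ Set.Ioi (0 : ℤ), (𝒜 n : Set R)) = Ideal.span ((𝒜 1 : Submodule k R) : Set R)) (hstdS : Ideal.span (⋃ n ∈ Set.Ioi (0 : ℤ), (ℬ n : Set S)) = Ideal.span ((ℬ 1 : Submodule k S) : Set S)) (hr1 : 1 ≤ ringKrullDim R) (hs1 : 1 ≤ ringKrullDim S) (mT : HomogeneousIdeal 𝒯) (hmT : mT.toIdeal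 = Ideal.span (⋃ n ∈ Set.Ioi (0 : ℤ), (𝒯 n : Set T))) (a b : ℤ) (hab : b ≤ a) (P : Type u) [AddCommGroup P] [Module T P] [Module k P] [IsScalarTower k T P] (𝒬 : ℤ → AddSubgroup P) [DirectSum.Decomposition 𝒬] (φ : P →ₗ[k] TensorProduct k R S) (hP : GrSeg.IsSegreMod ψ (fun n : ℤ => 𝒜 (n + a)) (fun n : ℤ => ℬ (n + b)) 𝒬 φ) : Module.finrank k (P ⧸ (mT.toIdeal • (⊤ : Submodule T P))) = Module.finrank k (𝒜 (a - b)) := by
  classical
  open Groth.Agent.CAlg6.Seg in
  have : Nontrivial S := by
    by_contra h
    rw [not_nontrivial_iff_subsingleton] at h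
    rw [ringKrullDim_eq_bot_of_subsingleton] at hs1
    exact absurd hs1 (by simp)
  obtain ⟨g, hg⟩ := Module.Projective.exists_dual_eq_one k (one_ne_zero (α := S))
  let g0 : S →ₗ[k] k := g.comp (Groth.Agent.CAlg6.Seg.prj ℬ ℬ 0)
  let L0 : TensorProduct k R S →ₗ[k] R := (TensorProduct.rid k R).toLinearMap.comp (LinearMap.lTensor R g0)
  have hL0 : ∀ (x : R) (y : S), L0 (x ⊗ₜ[k] y) = g0 y • x := fun x y => by simp [L0]
  let L : P →ₗ[k] R := L0.comp φ
  -- in degree `-b` the pieces are `R_{a-b} ⊗ 1`
  have hlow : ∀ w ∈ GrSeg.segrePiece k (fun n : ℤ => 𝒜 (n + a)) (fun n : ℤ => ℬ (n + b)) (-b),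
      L0 w ∈ 𝒜 (a - b) ∧ w = L0 w ⊗ₜ[k] (1 : S) := by
    intro w hw
    induction hw using Submodule.span_induction with
    | zero => simp
    | add u v _ _ hu hv =>
      exact ⟨by rw [map_add]; exact add_mem hu.1 hv.1, by rw [map_add, TensorProduct.add_tmul, ← hu.2, ← hv.2]⟩
    | smul c u _ hu =>
      exact ⟨by rw [map_smul]; exact Submodule.smul_mem _ _ hu.1,
        by rw [map_smul, ← TensorProduct.smul_tmul', ← hu.2]⟩
    | mem w hw =>
      obtain ⟨x, hx, y, hy, rfl⟩ := hw
      change x ∈ 𝒜 (-b + a) at hx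
      change y ∈ ℬ (-b + b) at hy
      rw [neg_add_cancel, h0S] at hy
      obtain ⟨c, rfl⟩ := Submodule.mem_span_singleton.1 hy
      have h1 : g0 (1 : S) = 1 := by
        simp only [g0, LinearMap.comp_apply, Groth.Agent.CAlg6.Seg.prj_of_mem ℬ ℬ SetLike.GradedOne.one_mem, hg]
      rw [hL0, map_smul, h1, smul_eq_mul, mul_one]
      refine ⟨?_, (TensorProduct.smul_tmul c x (1 : S)).symm⟩
      rw [show a - b = -b + a by ring]
      exact Submodule.smul_mem _ _ hx
  have hne : ∀ n : ℤ, n ≠ -b → ∀ q ∈ 𝒬 n, L q = 0 := by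
    intro n hn q hq
    show L0 (φ q) = 0
    have hw := Groth.Agent.CAlg6.Seg.phi_mem_piece hP hq
    generalize φ q = w at hw ⊢
    induction hw using Submodule.span_induction with
    | zero => simp
    | add u v _ _ hu hv => rw [map_add, hu, hv, add_zero]
    | smul c u _ hu => rw [map_smul, hu, smul_zero]
    | mem w hw =>
      obtain ⟨x, -, y, hy, rfl⟩ := hw
      change y ∈ ℬ (n + b) at hy
      rw [hL0]
      simp only [g0, LinearMap.comp_apply, Groth.Agent.CAlg6.Seg.prj_of_ne ℬ ℬ hy (show n + b ≠ 0 by omega),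
        map_zero, zero_smul]
  -- elements above degree `-b` lie in `T_+ P`
  have hzero : ∀ n : ℤ, n < -b → ∀ q ∈ 𝒬 n, q = 0 := by
    intro n hn q hq
    refine hP.injective ?_
    rw [map_zero, ← Submodule.mem_bot k]
    refine Submodule.span_le.2 ?_ (Groth.Agent.CAlg6.Seg.phi_mem_piece hP hq)
    rintro w ⟨x, -, y, hy, rfl⟩
    change y ∈ ℬ (n + b) at hy
    rw [hposS _ (by omega), Submodule.mem_bot] at hy
    simp [hy]
  have hhigh : ∀ n : ℤ, -b < n → ∀ q ∈ 𝒬 n, q ∈ (mT.toIdeal • (⊤ : Submodule T P)) := by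
    intro n hn q hq
    have hw := Groth.Agent.CAlg6.Seg.phi_mem_piece hP hq
    have : ∀ w ∈ GrSeg.segrePiece k (fun n : ℤ => 𝒜 (n + a)) (fun n : ℤ => ℬ (n + b)) n,
        ∃ q' ∈ (mT.toIdeal • (⊤ : Submodule T P)), φ q' = w := by
      intro w hw
      induction hw using Submodule.span_induction with
      | zero => exact ⟨0, zero_mem _, map_zero _⟩
      | add u v _ _ hu hv =>
        obtain ⟨u', hu', rfl⟩ := hu
        obtain ⟨v', hv', rfl⟩ := hv
        exact ⟨u' + v', add_mem hu' hv', map_add _ _ _⟩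
      | smul c u _ hu =>
        obtain ⟨u', hu', rfl⟩ := hu
        exact ⟨c • u', Submodule.smul_of_tower_mem _ c hu', map_smul _ _ _⟩
      | mem w hw =>
        obtain ⟨x, hx, y, hy, rfl⟩ := hw
        change x ∈ 𝒜 (n + a) at hx
        change y ∈ ℬ (n + b) at hy
        have hx' := Groth.Agent.CAlg6.Seg.std_mem hstdR (n := n - 1 + a) (by omega)
          (x := x) (by rwa [show n - 1 + a + 1 = n + a by ring])
        have hy' := Groth.Agent.CAlg6.Seg.std_mem hstdS (n := n - 1 + b) (by omega)
          (x := y) (by rwa [show n - 1 + b + 1 = n + b by ring])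
        clear hx hy
        induction hx' using Submodule.mul_induction_on' with
        | add u _ v _ hu hv =>
          obtain ⟨u', hu', hu''⟩ := hu
          obtain ⟨v', hv', hv''⟩ := hv
          exact ⟨u' + v', add_mem hu' hv', by rw [map_add, hu'', hv'', TensorProduct.add_tmul]⟩
        | mem_mul_mem r hr x₁ hx₁ =>
          induction hy' using Submodule.mul_induction_on' with
          | add u _ v _ hu hv =>
            obtain ⟨u', hu', hu''⟩ := hu
            obtain ⟨v', hv', hv''⟩ := hv
            exact ⟨u' + v', add_mem hu' hv', by rw [map_add, hu'', hv'', TensorProduct.tmul_add]⟩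
          | mem_mul_mem s hs y₁ hy₁ =>
            obtain ⟨t, ht, ht'⟩ := Groth.Agent.CAlg6.Seg.exists_psi_eq_tmul hT hr hs
            obtain ⟨p, -, hp⟩ := Groth.Agent.CAlg6.Seg.exists_phi_eq hP
              (Groth.Agent.CAlg6.Seg.tmul_mem_piece (k := k) (fun n : ℤ => 𝒜 (n + a)) (fun n : ℤ => ℬ (n + b))
                (n := n - 1) hx₁ hy₁)
            refine ⟨t • p, Submodule.smul_mem_smul ?_ trivial, ?_⟩
            · rw [hmT]
              exact Ideal.subset_span (Set.mem_biUnion (Set.mem_Ioi.2 one_pos) ht)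
            · rw [hP.map_smul, ht', hp, GrSeg.act_tmul, smul_eq_mul, smul_eq_mul]
    obtain ⟨q', hq', hq''⟩ := this _ hw
    rwa [← hP.injective hq'']
  -- `L` vanishes on `T_+ P`
  have hker1 : ∀ t ∈ mT.toIdeal, ∀ q : P, L (t • q) = 0 := by
    intro t ht
    rw [hmT] at ht
    induction ht using Submodule.span_induction with
    | zero => intro q; simp
    | add u v _ _ hu hv => intro q; rw [add_smul, map_add, hu, hv, add_zero]
    | smul c u _ hu => intro q; rw [smul_eq_mul, mul_comm, mul_smul]; exact hu _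
    | mem u hu =>
      obtain ⟨i, hi, hu⟩ := Set.mem_iUnion₂.1 hu
      intro q
      induction q using DirectSum.Decomposition.inductionOn 𝒬 with
      | zero => simp
      | add x y hx hy => rw [smul_add, map_add, hx, hy, add_zero]
      | @homogeneous m q =>
        rcases lt_or_ge m (-b) with hm | hm
        · rw [hzero m hm _ q.2]; simp
        show L0 (φ (u • (q : P))) = 0
        rw [hP.map_smul]
        have hu' := Groth.Agent.CAlg6.Seg.psi_mem_piece hT hu
        have hq' := Groth.Agent.CAlg6.Seg.phi_mem_piece hP q.2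
        generalize ψ u = u', φ (q : P) = q' at hu' hq' ⊢
        clear hu
        induction hu' using Submodule.span_induction with
        | zero => simp
        | add u v _ _ hu hv => simp [map_add, LinearMap.add_apply, hu, hv]
        | smul c u _ hu => simp [map_smul, LinearMap.smul_apply, hu]
        | mem u hu =>
          obtain ⟨r, hr, s, hs, rfl⟩ := hu
          induction hq' using Submodule.span_induction with
          | zero => simp
          | add u v _ _ hu hv => simp [map_add, hu, hv]
          | smul c u _ hu => simp [map_smul, hu]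
          | mem w hw =>
            obtain ⟨x, -, y, hy, rfl⟩ := hw
            change y ∈ ℬ (m + b) at hy
            rw [GrSeg.act_tmul, hL0]
            have hsy : s • y ∈ ℬ (i + (m + b)) := SetLike.GradedMul.mul_mem hs hy
            simp only [g0, LinearMap.comp_apply,
              Groth.Agent.CAlg6.Seg.prj_of_ne ℬ ℬ hsy (show i + (m + b) ≠ 0 by have := Set.mem_Ioi.1 hi; omega),
              map_zero, zero_smul]
  let W : Submodule k P := (mT.toIdeal • (⊤ : Submodule T P)).restrictScalars k
  have hker : LinearMap.ker L = W := by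
    refine le_antisymm (fun q hq => ?_) (fun q hq => ?_)
    · have key : ∀ q : P, ∃ q₀ ∈ 𝒬 (-b), q - q₀ ∈ W := by
        intro q
        induction q using DirectSum.Decomposition.inductionOn 𝒬 with
        | zero => exact ⟨0, zero_mem _, by simp⟩
        | add x y hx hy =>
          obtain ⟨x₀, h1, h2⟩ := hx
          obtain ⟨y₀, h3, h4⟩ := hy
          exact ⟨x₀ + y₀, add_mem h1 h3, by rw [add_sub_add_comm]; exact add_mem h2 h4⟩
        | @homogeneous m q =>
          rcases lt_trichotomy m (-b) with hm | rfl | hm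
          · exact ⟨0, zero_mem _, by rw [hzero m hm _ q.2]; simp⟩
          · exact ⟨q, q.2, by simp⟩
          · exact ⟨0, zero_mem _, by rw [sub_zero]; exact hhigh m hm _ q.2⟩
      obtain ⟨q₀, h1, h2⟩ := key q
      have h3 : L (q - q₀) = 0 := by
        refine Submodule.smul_induction_on h2 (fun t ht x _ => hker1 t ht x) fun x y hx hy => ?_
        rw [map_add, hx, hy, add_zero]
      rw [map_sub, LinearMap.mem_ker.1 hq, zero_sub, neg_eq_zero] at h3
      have h4 : φ q₀ = 0 := by
        have h5 := (hlow _ (Groth.Agent.CAlg6.Seg.phi_mem_piece hP h1)).2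
        rw [show L0 (φ q₀) = 0 from h3, TensorProduct.zero_tmul] at h5
        exact h5
      have h6 : q₀ = 0 := hP.injective (by rw [h4, map_zero])
      rwa [h6, sub_zero] at h2
    · refine Submodule.smul_induction_on (show q ∈ mT.toIdeal • (⊤ : Submodule T P) from hq)
        (fun t ht x _ => LinearMap.mem_ker.2 (hker1 t ht x)) fun x y hx hy => add_mem hx hy
  have hrange : LinearMap.range L = 𝒜 (a - b) := by
    refine le_antisymm ?_ fun z hz => ?_
    · rintro _ ⟨q, rfl⟩
      induction q using DirectSum.Decomposition.inductionOn 𝒬 with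
      | zero => simp
      | add x y hx hy => rw [map_add]; exact add_mem hx hy
      | @homogeneous m q =>
        rcases eq_or_ne m (-b) with rfl | hm
        · exact (hlow _ (Groth.Agent.CAlg6.Seg.phi_mem_piece hP q.2)).1
        · rw [hne m hm _ q.2]; exact zero_mem _
    · obtain ⟨q, -, hq⟩ := Groth.Agent.CAlg6.Seg.exists_phi_eq hP
        (Groth.Agent.CAlg6.Seg.tmul_mem_piece (k := k) (fun n : ℤ => 𝒜 (n + a)) (fun n : ℤ => ℬ (n + b))
          (n := -b) (a := z) (b := (1 : S)) (show z ∈ 𝒜 (-b + a) by rwa [show -b + a = a - b by ring])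
          (show (1 : S) ∈ ℬ (-b + b) by rw [neg_add_cancel]; exact SetLike.GradedOne.one_mem))
      refine ⟨q, ?_⟩
      show L0 (φ q) = z
      rw [hq, hL0]
      simp only [g0, LinearMap.comp_apply, Groth.Agent.CAlg6.Seg.prj_of_mem ℬ ℬ SetLike.GradedOne.one_mem, hg,
        one_smul]
  rw [← ((Submodule.Quotient.restrictScalarsEquiv k (mT.toIdeal • (⊤ : Submodule T P)))).finrank_eq]
  exact ((Submodule.quotEquivOfEq W _ hker.symm).trans (L.quotKerEquivRange.trans
    (LinearEquiv.ofEq _ _ hrange))).finrank_eq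

end Groth.Agent.S19750
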