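import Groth.Statements.S19751
import Groth.Agent.GrDual19.Basic

set_option autoImplicit false
universe u
open GrDual

namespace Groth.Agent.S19751

/-- Let R be a graded ring defined over a field k with m = R_+, let F and M be finitely generated graded
R-modules and f : F → M a surjective homomorphism of graded R-modules, with dual f^* : M^* → F^* on
graded k-duals. Then f is minimal, that is Ker f ⊆ m F, if and only if f^* is essential: an
injective homomorphism of graded modules such that every nonzero graded submodule of F^* meets its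
image. Here a graded ring defined over k is a commutative k-algebra of finite type, graded in
nonnegative degrees by k-subspaces with degree-zero part k·1, and R_+ is the ideal spanned by the
R_n with n > 0; the graded k-dual M^* = ⊕_n Hom_k(M_{−n}, k) of a graded R-module M (with r ∈ R
acting by (r f)(x) = f(r x)) is presented abstractly as a graded R-module D with a k-bilinear
pairing β : D × M → k compatible with the R-actions, under which D_n pairs to zero with M_m for m ≠
−n and is identified with the full dual space of M_{−n}; f^* is presented as the R-linear map g :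
M^* → F^* with β_F(g d, x) = β_M(d, f x). -/
theorem result (k : Type u) [Field k] (R : Type u) [CommRing R] [Algebra k R] (𝒜 : ℤ → Submodule k R) [GradedAlgebra 𝒜] (hposR : ∀ n : ℤ, n < 0 → 𝒜 n = ⊥) (h0R : 𝒜 0 = Submodule.span k {(1 : R)}) [Algebra.FiniteType k R] (mR : HomogeneousIdeal 𝒜) (hmR : mR.toIdeal = Ideal.span (⋃ n ∈ Set.Ioi (0 : ℤ), (𝒜 n : Set R))) (F : Type u) [AddCommGroup F] [Module R F] [Module k F] [IsScalarTower k R F] (ℱ : ℤ → AddSubgroup F) [DirectSum.Decomposition ℱ] [SetLike.GradedSMul 𝒜 ℱ] [Module.Finite R F] (M : Type u) [AddCommGroup M] [Module R M] [Module k M] [IsScalarTower k R M] (ℳ : ℤ → AddSubgroup M) [DirectSum.Decomposition ℳ] [SetLike.GradedSMul 𝒜 ℳ] [Module.Finite R M] (f : F →ₗ[R] M) (hf : Function.Surjective f) (hfgr : GrLC.IsGrHom ℱ ℳ f) (DM : Type u) [AddCommGroup DM] [Module R DM] [Module k DM] [IsScalarTower k R DM] (𝒟M : ℤ → AddSubgroup DM) [DirectSum.Decomposition 𝒟M] [SetLike.GradedSMul 𝒜 𝒟M] (βM : DM →ₗ[k] M →ₗ[k] k) (hDM : GrSeg.IsGDual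 R ℳ 𝒟M βM) (DF : Type u) [AddCommGroup DF] [Module R DF] [Module k DF] [IsScalarTower k R DF] (𝒟F : ℤ → AddSubgroup DF) [DirectSum.Decomposition 𝒟F] [SetLike.GradedSMul 𝒜 𝒟F] (βF : DF →ₗ[k] F →ₗ[k] k) (hDF : GrSeg.IsGDual R ℱ 𝒟F βF) (g : DM →ₗ[R] DF) (hg : GrSeg.IsGDualMap βM βF f g) : LinearMap.ker f ≤ mR.toIdeal • (⊤ : Submodule R F) ↔ GrLC.IsStarEss 𝒟M 𝒟F g := by
  classical
  have hpn := GrDual19.nonnegGr_of_bot hposR
  have hinjF := GrDual19.beta_injective hDF
  have hker : (LinearMap.ker f).IsHomogeneous ℱ := GrMod19.isHomogeneous_ker ℱ ℳ hfgr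
  have hgraded : GrLC.IsGrHom 𝒟M 𝒟F g := fun n d hd => GrDual19.mem_of_vanish hDF fun j hj x hx => by
    rw [hg]
    exact hDM.vanish n d hd j hj _ (hfgr j x hx)
  have hginj : Function.Injective g := fun a b h => GrDual19.beta_injective hDM (LinearMap.ext fun y => by
    obtain ⟨x, rfl⟩ := hf y
    rw [← hg, ← hg, h])
  have hann : ∀ n, ∀ d ∈ 𝒟F n, (∀ x ∈ LinearMap.ker f, βF d x = 0) → d ∈ LinearMap.range g := by
    intro n d hd hd0
    obtain ⟨s, hs⟩ := (f.restrictScalars k).exists_rightInverse_of_surjective (LinearMap.range_eq_top.2 hf)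
    have hsf : ∀ x, βF d (s (f x)) = βF d x := fun x => sub_eq_zero.1 (by
      rw [← map_sub]
      refine hd0 _ (LinearMap.mem_ker.2 ?_)
      rw [map_sub, show f (s (f x)) = f x from LinearMap.congr_fun hs _, sub_self])
    obtain ⟨d', -, hd'⟩ := GrDual19.exists_beta_eq hDM (n := n) (βF d ∘ₗ s) (fun j hj y hy => by
      obtain ⟨x, hx, rfl⟩ := GrMod19.exists_homog_preimage ℱ ℳ hfgr
        (LinearMap.range_eq_top.2 hf ▸ Submodule.mem_top) hy
      show βF d (s (f x)) = 0
      rw [hsf]
      exact hDF.vanish n d hd j hj x hx)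
    exact ⟨d', hinjF (LinearMap.ext fun x => by
      rw [hg, hd']
      exact hsf x)⟩
  constructor
  · intro hle
    refine { injective := hginj, grHom := hgraded, essential := fun P hP hne => ?_ }
    obtain ⟨b, hb⟩ := GrDual19.exists_lower (𝒜 := 𝒜) (ℳ := ℱ) hpn
    obtain ⟨p, hp, hp0⟩ := Submodule.exists_mem_ne_zero_of_ne_bot hne
    obtain ⟨n₀, hn₀⟩ : ∃ n, GrMod19.cmp 𝒟F n p ≠ 0 := by
      by_contra h
      push Not at h
      exact hp0 (GrMod19.eq_zero_of_cmp 𝒟F h)
    obtain ⟨n, ⟨d, hd, hdP, hd0⟩, hmax⟩ := Int.exists_greatest_of_bdd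
      (P := fun n => ∃ d, d ∈ 𝒟F n ∧ d ∈ P ∧ d ≠ 0) ⟨-b, fun n ⟨d, hd, _, hd0⟩ => by
        by_contra h
        exact hd0 (hDF.eq_zero n d hd fun x hx => by rw [hb (-n) (by omega) x hx, map_zero])⟩
      ⟨n₀, _, GrMod19.cmp_mem 𝒟F n₀ p, hP n₀ hp, hn₀⟩
    have hkill : ∀ r ∈ mR.toIdeal, r • d = 0 := fun r hr => by
      rw [hmR] at hr
      induction hr using Submodule.span_induction with
      | mem r hr =>
        obtain ⟨i, hi, hri⟩ := Set.mem_iUnion₂.1 hr
        by_contra h
        have := hmax (i + n) ⟨_, GrMod19.smul_mem_add 𝒜 𝒟F hri hd, P.smul_mem r hdP, h⟩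
        have := Set.mem_Ioi.1 hi
        omega
      | zero => exact zero_smul R d
      | add r r' _ _ h h' => rw [add_smul, h, h', add_zero]
      | smul c r _ h => rw [smul_eq_mul, mul_smul, h, smul_zero]
    have hrange := hann n d hd fun x hx => by
      have hx' := hle hx
      refine Submodule.smul_induction_on hx' (fun r hr y _ => ?_) fun y z hy hz => ?_
      · rw [← hDF.map_smul, hkill r hr, map_zero, LinearMap.zero_apply]
      · rw [map_add, hy, hz, add_zero]
    exact (Submodule.ne_bot_iff _).2 ⟨d, ⟨hdP, hrange⟩, hd0⟩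
  · intro hess x hx
    obtain ⟨s, hs⟩ := GrMod19.exists_sum_cmp ℱ x
    rw [← hs]
    refine Submodule.sum_mem _ fun j _ => ?_
    by_contra hne
    let y := GrMod19.cmp ℱ j x
    have hy : y ∈ ℱ j := GrMod19.cmp_mem ℱ j x
    have hfy : f y = 0 := hker j hx
    obtain ⟨L, hLy, hL⟩ := Submodule.exists_dual_map_eq_bot_of_notMem
      (p := (mR.toIdeal • (⊤ : Submodule R F)).restrictScalars k) (x := y) hne inferInstance
    have hL0 : ∀ z ∈ mR.toIdeal • (⊤ : Submodule R F), L z = 0 := fun z hz =>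
      (Submodule.mem_bot k).1 (hL ▸ Submodule.mem_map_of_mem hz)
    obtain ⟨d, hd, hdL⟩ := GrDual19.exists_beta_eq hDF (n := -j) (L ∘ₗ GrDual19.cmpₗ 𝒜 ℱ j)
      (fun i hi z hz => by
        show L (GrMod19.cmp ℱ j z) = 0
        rw [GrMod19.cmp_of_ne ℱ hz (by omega), map_zero])
    have hdy : βF d y ≠ 0 := by
      rw [hdL]
      show L (GrMod19.cmp ℱ j y) ≠ 0
      rwa [GrMod19.cmp_of_mem ℱ hy]
    have hhom : (mR.toIdeal • (⊤ : Submodule R F)).IsHomogeneous ℱ := by
      intro i z hz
      refine Submodule.smul_induction_on hz (fun r hr v hv' => ?_) fun a b ha hb => ?_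
      · clear hv'
        induction v using GrMod19.piece_induction ℱ with
        | h0 =>
          show GrMod19.cmp ℱ i (r • (0 : F)) ∈ _
          rw [smul_zero, map_zero]
          exact zero_mem _
        | hadd a b ha hb =>
          show GrMod19.cmp ℱ i (r • (a + b)) ∈ _
          rw [smul_add, map_add]
          exact add_mem ha hb
        | hp l v hv =>
          show GrMod19.cmp ℱ i (r • v) ∈ _
          rw [GrMod19.cmp_smul_homog_right 𝒜 ℱ i hv r]
          exact Submodule.smul_mem_smul (mR.isHomogeneous _ hr) trivial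
      · show GrMod19.cmp ℱ i (a + b) ∈ _
        rw [map_add]
        exact add_mem ha hb
    have hkill : ∀ r ∈ mR.toIdeal, r • d = 0 := fun r hr => hinjF (LinearMap.ext fun z => by
      rw [hDF.map_smul, hdL, map_zero, LinearMap.zero_apply]
      exact hL0 _ (hhom j (Submodule.smul_mem_smul hr trivial)))
    let P := Submodule.span R {d}
    have hPh : P.IsHomogeneous 𝒟F := GrMod19.isHomogeneous_span (𝒜 := 𝒜) 𝒟F
      (by rintro z rfl; exact ⟨-j, hd⟩)
    have hPne : P ≠ ⊥ := fun h => hdy (by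
      rw [Submodule.span_singleton_eq_bot.1 h, map_zero, LinearMap.zero_apply])
    obtain ⟨z, ⟨hzP, d', hd'⟩, hz0⟩ := (Submodule.ne_bot_iff _).1 (hess.essential P hPh hPne)
    obtain ⟨r, hr⟩ := Submodule.mem_span_singleton.1 hzP
    obtain ⟨c, hc⟩ := Submodule.mem_span_singleton.1 (h0R ▸ GrMod19.cmp_mem 𝒜 0 r :
      GrMod19.cmp 𝒜 0 r ∈ Submodule.span k {(1 : R)})
    have hzc : z = c • d := by
      have h2 := hkill (r - GrMod19.cmp 𝒜 0 r) ((GrMod19.mem_plus_iff hpn hmR _).2 (by
        rw [map_sub, GrMod19.cmp_of_mem 𝒜 (GrMod19.cmp_mem 𝒜 0 r), sub_self]))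
      rw [sub_smul, sub_eq_zero] at h2
      rw [← hr, h2, ← hc, smul_assoc, one_smul]
    have h1 : βF z y = 0 := by rw [← hd', hg, hfy, map_zero]
    rw [hzc, map_smul, LinearMap.smul_apply, smul_eq_mul, mul_eq_zero] at h1
    exact hz0 (by rw [hzc, h1.resolve_right hdy, zero_smul])

end Groth.Agent.S19751
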