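import Groth.Statements.S19752
import Groth.Agent.GrDual19.Basic

set_option autoImplicit false
universe u
open GrDual

namespace Groth.Agent.S19752

/-- Let R = ⊕_{n ≥ 0} R_n be a Noetherian graded ring with R_0 = k a field, m = R_+ and k = R/m. Then
the graded k-dual R^* = ⊕_n Hom_k(R_{−n}, k) is the injective envelope of R/m in the category of
graded R-modules: for every injective homomorphism of graded R-modules e : R/m → R^*, the module R^*
is an injective object of the graded category and every nonzero graded submodule of R^* meets the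
image of e. Here a graded ring defined over k is a commutative k-algebra of finite type, graded in
nonnegative degrees by k-subspaces with degree-zero part k·1, and R_+ is the ideal spanned by the
R_n with n > 0 (a Noetherian such ring is the same as one of finite type over k); the graded k-dual
M^* = ⊕_n Hom_k(M_{−n}, k) of a graded R-module M (with r ∈ R acting by (r f)(x) = f(r x)) is
presented abstractly as a graded R-module D with a k-bilinear pairing β : D × M → k compatible with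
the R-actions, under which D_n pairs to zero with M_m for m ≠ −n and is identified with the full
dual space of M_{−n}. -/
theorem result (k : Type u) [Field k] (R : Type u) [CommRing R] [Algebra k R] (𝒜 : ℤ → Submodule k R) [GradedAlgebra 𝒜] (hposR : ∀ n : ℤ, n < 0 → 𝒜 n = ⊥) (h0R : 𝒜 0 = Submodule.span k {(1 : R)}) [Algebra.FiniteType k R] (mR : HomogeneousIdeal 𝒜) (hmR : mR.toIdeal = Ideal.span (⋃ n ∈ Set.Ioi (0 : ℤ), (𝒜 n : Set R))) (D : Type u) [AddCommGroup D] [Module R D] [Module k D] [IsScalarTower k R D] (𝒟 : ℤ → AddSubgroup D) [DirectSum.Decomposition 𝒟] [SetLike.GradedSMul 𝒜 𝒟] (β : D →ₗ[k] R →ₗ[k] k) (hD : GrSeg.IsGDual R 𝒜 𝒟 β) (e : (R ⧸ mR.toIdeal) →ₗ[R] D) (he : Function.Injective e) (hegr : GrLC.IsGrHom (GrLC.quotGr 𝒜 mR) 𝒟 e) : GrLC.IsStarInjHull 𝒜 (GrLC.quotGr 𝒜 mR) 𝒟 e := by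
  classical
  have hpn := GrDual19.nonnegGr_of_bot hposR
  have hinj := GrDual19.beta_injective hD
  have h10 : (1 : R) ∈ 𝒜 0 := SetLike.GradedOne.one_mem
  refine { injective := he, grHom := hegr, essential := fun P hP hne => ?_, starInj := ?_ }
  · obtain ⟨p, hp, hp0⟩ := Submodule.exists_mem_ne_zero_of_ne_bot hne
    obtain ⟨n, hn⟩ : ∃ n, GrMod19.cmp 𝒟 n p ≠ 0 := by
      by_contra h
      push Not at h
      exact hp0 (GrMod19.eq_zero_of_cmp 𝒟 h)
    obtain ⟨x, hx, hxn⟩ : ∃ x ∈ 𝒜 (-n), β (GrMod19.cmp 𝒟 n p) x ≠ 0 := by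
      by_contra h
      push Not at h
      exact hn (hD.eq_zero n _ (GrMod19.cmp_mem 𝒟 n p) h)
    have hd0 : x • GrMod19.cmp 𝒟 n p ∈ 𝒟 0 := by
      have h1 := GrMod19.smul_mem_add 𝒜 𝒟 hx (GrMod19.cmp_mem 𝒟 n p)
      rwa [neg_add_cancel] at h1
    have hc : β (x • GrMod19.cmp 𝒟 n p) 1 ≠ 0 := by rwa [hD.map_smul, smul_eq_mul, mul_one]
    let e₁ := e (Ideal.Quotient.mk mR.toIdeal 1)
    have he1 : e₁ ∈ 𝒟 0 := hegr 0 _ ⟨1, h10, rfl⟩
    have he1ne : e₁ ≠ 0 := fun h => by
      have h1 : (1 : R) ∈ mR.toIdeal := Ideal.Quotient.eq_zero_iff_mem.1 (he (h.trans (map_zero e).symm))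
      rw [GrMod19.mem_plus_iff hpn hmR, GrMod19.cmp_of_mem 𝒜 h10] at h1
      exact hc (by rw [h1, map_zero])
    have heq : ∀ d ∈ 𝒟 0, β d 1 = 0 → d = 0 := fun d hd h => hD.eq_zero 0 d hd fun y hy => by
      rw [neg_zero, h0R, Submodule.mem_span_singleton] at hy
      obtain ⟨c, rfl⟩ := hy
      rw [map_smul, h, smul_zero]
    have he1c : β e₁ 1 ≠ 0 := fun h => he1ne (heq _ he1 h)
    have hP0 : x • GrMod19.cmp 𝒟 n p ∈ P := P.smul_mem x (hP n hp)
    generalize x • GrMod19.cmp 𝒟 n p = d₀ at hd0 hc hP0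
    have hprop : d₀ = (β d₀ 1 / β e₁ 1) • e₁ :=
      sub_eq_zero.1 (heq _ (sub_mem hd0 (GrDual19.smul_k_mem (𝒜 := 𝒜) he1 _)) (by
        rw [map_sub, LinearMap.sub_apply, map_smul, LinearMap.smul_apply, smul_eq_mul, div_mul_cancel₀ _ he1c,
          sub_self]))
    refine (Submodule.ne_bot_iff _).2 ⟨d₀, ⟨hP0, ?_⟩, fun h => hc (by rw [h]; simp)⟩
    show d₀ ∈ LinearMap.range e
    rw [hprop, ← algebraMap_smul R]
    exact Submodule.smul_mem _ _ ⟨_, rfl⟩
  · intro A B f hf hfi g hg
    let : Module k A.carrier := Module.compHom _ (algebraMap k R)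
    let : Module k B.carrier := Module.compHom _ (algebraMap k R)
    have : IsScalarTower k R A.carrier := ⟨fun c r x => by
      rw [Algebra.smul_def, mul_smul]; rfl⟩
    have : IsScalarTower k R B.carrier := ⟨fun c r x => by
      rw [Algebra.smul_def, mul_smul]; rfl⟩
    let lam : A.carrier →ₗ[k] k := β.flip 1 ∘ₗ g.restrictScalars k
    have hlam : ∀ i, i ≠ 0 → ∀ a ∈ A.gr i, lam a = 0 := fun i hi a ha =>
      hD.vanish i _ (hg i a ha) 0 (by omega) 1 h10
    obtain ⟨l, hl⟩ := (f.restrictScalars k).exists_leftInverse_of_injective (LinearMap.ker_eq_bot.2 hfi)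
    let L : B.carrier →ₗ[k] k := (lam ∘ₗ l) ∘ₗ GrDual19.cmpₗ 𝒜 B.gr 0
    have hLf : ∀ a, L (f a) = lam a := fun a => by
      show lam (l (GrMod19.cmp B.gr 0 (f a))) = lam a
      rw [← GrMod19.map_cmp A.gr B.gr hf, show l (f (GrMod19.cmp A.gr 0 a)) = GrMod19.cmp A.gr 0 a from
        LinearMap.congr_fun hl _]
      induction a using GrMod19.piece_induction A.gr with
      | h0 => simp
      | hadd a b ha hb => rw [map_add, map_add, map_add, ha, hb]
      | hp i a ha =>
        rcases eq_or_ne i 0 with rfl | hi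
        · rw [GrMod19.cmp_of_mem A.gr ha]
        · rw [GrMod19.cmp_of_ne A.gr ha hi, map_zero, hlam i hi a ha]
    obtain ⟨h, hh, hhd⟩ := GrDual19.exists_lift (ℳ := B.gr) hD L (j := 0) (fun i hi b hb => by
      show lam (l (GrMod19.cmp B.gr 0 b)) = 0
      rw [GrMod19.cmp_of_ne B.gr hb hi, map_zero, map_zero])
    refine ⟨h, fun i b hb => ?_, LinearMap.ext fun a => hinj (LinearMap.ext fun r => ?_)⟩
    · have h1 := hhd i b hb
      rwa [sub_zero] at h1
    · rw [LinearMap.comp_apply, hh, ← map_smul, hLf]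
      show β (g (r • a)) 1 = β (g a) r
      rw [map_smul, hD.map_smul, smul_eq_mul, mul_one]

end Groth.Agent.S19752
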