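import Groth.Statements.S19753
import Groth.Agent.CAlg6.SegDim
import Groth.Agent.CAlg6.SegModule
-- import your own Groth.Agent.* helpers here

set_option autoImplicit false
universe u
open scoped TensorProduct
open GrSegre

namespace Groth.Agent.S19753

/-- Let R and S be graded rings defined over a field k, both generated over k by their degree-one parts
and of positive Krull dimension, T = R # S, and let M and N be finitely generated graded modules
over R and S respectively, neither of them Artinian. Then dim (M # N) = dim M + dim N − 1,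
dimensions being Krull dimensions of supports. Here a graded ring defined over k is a commutative
k-algebra of finite type, graded in nonnegative degrees by k-subspaces with degree-zero part k·1;
the Segre product T = R # S = ⊕_n R_n ⊗_k S_n is presented abstractly as a graded k-algebra T with
an injective k-algebra homomorphism ψ : T → R ⊗_k S carrying T_n onto the k-span of the elementary
tensors a ⊗ b with a ∈ R_n, b ∈ S_n; the Segre product M # N = ⊕_n M_n ⊗_k N_n of a graded R-module
M and a graded S-module N is presented abstractly as a graded T-module P with an injective k-linear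
map φ : P → M ⊗_k N carrying P_n onto the k-span of the tensors x ⊗ y with x ∈ M_n, y ∈ N_n and
turning the action of t ∈ T into that of ψ(t) (acting factorwise on M ⊗_k N). -/
theorem result (k : Type u) [Field k] (R : Type u) [CommRing R] [Algebra k R] (𝒜 : ℤ → Submodule k R) [GradedAlgebra 𝒜] (hposR : ∀ n : ℤ, n < 0 → 𝒜 n = ⊥) (h0R : 𝒜 0 = Submodule.span k {(1 : R)}) [Algebra.FiniteType k R] (S : Type u) [CommRing S] [Algebra k S] (ℬ : ℤ → Submodule k S) [GradedAlgebra ℬ] (hposS : ∀ n : ℤ, n < 0 → ℬ n = ⊥) (h0S : ℬ 0 = Submodule.span k {(1 : S)}) [Algebra.FiniteType k S] (T : Type u) [CommRing T] [Algebra k T] (𝒯 : ℤ → Submodule k T) [GradedAlgebra 𝒯] (ψ : T →ₐ[k] TensorProduct k R S) (hT : GrSeg.IsSegreRing 𝒜 ℬ 𝒯 ψ) (hstdR : Ideal.span (⋃ n ∈ Set.Ioi (0 : ℤ), (𝒜 n : Set R)) = Ideal.span ((𝒜 1 : Submodule k R) : Set R)) (hstdS : Ideal.span (⋃ n ∈ Set.Ioi (0 : ℤ), (ℬ n : Set S)) = Ideal.span ((ℬ 1 : Submodule k S) : Set S)) (hr1 : 1 ≤ ringKrullDim R) (hs1 : 1 ≤ ringKrullDim S)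 (M : Type u) [AddCommGroup M] [Module R M] [Module k M] [IsScalarTower k R M] (ℳ : ℤ → AddSubgroup M) [DirectSum.Decomposition ℳ] [SetLike.GradedSMul 𝒜 ℳ] [Module.Finite R M] (N : Type u) [AddCommGroup N] [Module S N] [Module k N] [IsScalarTower k S N] (𝒩 : ℤ → AddSubgroup N) [DirectSum.Decomposition 𝒩] [SetLike.GradedSMul ℬ 𝒩] [Module.Finite S N] (P : Type u) [AddCommGroup P] [Module T P] [Module k P] [IsScalarTower k T P] (𝒬 : ℤ → AddSubgroup P) [DirectSum.Decomposition 𝒬] (φ : P →ₗ[k] TensorProduct k M N) (hP : GrSeg.IsSegreMod ψ ℳ 𝒩 𝒬 φ) (dM dN : ℕ) (hdM : Module.supportDim R M = dM) (hdN : Module.supportDim S N = dN) (hMA : ¬ IsArtinian R M) (hNA : ¬ IsArtinian S N) : Module.supportDim T P = ((dM + dN - 1 : ℕ) : WithBot ℕ∞) := by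
  haveI := Algebra.FiniteType.isNoetherianRing k R
  haveI := Algebra.FiniteType.isNoetherianRing k S
  have hpos1 : ∀ (A : Type u) (_ : CommRing A) (V : Type u) (_ : AddCommGroup V) (_ : Module A V),
      IsNoetherianRing A → Module.Finite A V → ¬ IsArtinian A V → Module.supportDim A V ≠ ((0 : ℕ) : WithBot ℕ∞) := by
    intro A _ V _ _ hA hV hart h0
    refine hart ?_
    rw [Module.supportDim_eq_ringKrullDim_quotient_annihilator] at h0
    haveI : Ring.KrullDimLE 0 (A ⧸ Module.annihilator A V) := by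
      rw [Ring.KrullDimLE, Order.krullDimLE_iff, ← ringKrullDim, h0]
    haveI : IsArtinianRing (A ⧸ Module.annihilator A V) := isArtinianRing_iff_krullDimLE_zero.2 inferInstance
    letI : Module (A ⧸ Module.annihilator A V) V :=
      (Module.isTorsionBySet_annihilator A V).module
    haveI : IsScalarTower A (A ⧸ Module.annihilator A V) V :=
      (Module.isTorsionBySet_annihilator A V).isScalarTower
    haveI : Module.Finite (A ⧸ Module.annihilator A V) V := Module.Finite.of_restrictScalars_finite A _ V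
    have hV' : IsArtinian (A ⧸ Module.annihilator A V) V := inferInstance
    exact isArtinian_of_surjective_algebraMap (R := A ⧸ Module.annihilator A V) (S := A) Ideal.Quotient.mk_surjective
  obtain ⟨r, rfl⟩ : ∃ r', dM = r' + 1 := ⟨dM - 1, by
    rcases Nat.eq_zero_or_pos dM with h | h
    · exact absurd (h ▸ hdM) (hpos1 R _ M _ _ inferInstance inferInstance hMA)
    · omega⟩
  obtain ⟨s, rfl⟩ : ∃ s', dN = s' + 1 := ⟨dN - 1, by
    rcases Nat.eq_zero_or_pos dN with h | h
    · exact absurd (h ▸ hdN) (hpos1 S _ N _ _ inferInstance inferInstance hNA)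
    · omega⟩
  rw [Module.supportDim_eq_ringKrullDim_quotient_annihilator] at hdM hdN
  obtain ⟨DR, hDR, hR⟩ := Groth.Agent.CAlg6.Seg.exists_normalization hposR h0R _
    (Groth.Agent.CAlg6.Seg.annihilator_homogeneous (ℳ := ℳ)) (r + 1) hdM
  obtain ⟨DS, hDS, hS⟩ := Groth.Agent.CAlg6.Seg.exists_normalization hposS h0S _
    (Groth.Agent.CAlg6.Seg.annihilator_homogeneous (ℳ := 𝒩)) (s + 1) hdN
  obtain ⟨x, hx, hxfin, hxind⟩ := hR (DR * DS) (Nat.mul_pos hDR hDS) (dvd_mul_right _ _)
  obtain ⟨y, hy, hyfin, hyind⟩ := hS (DR * DS) (Nat.mul_pos hDR hDS) (dvd_mul_left _ _)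
  obtain ⟨GM, hGM⟩ := Groth.Agent.CAlg6.Seg.exists_gen (ℳ := ℳ) hposR x (Nat.mul_pos hDR hDS) hx _ hxfin
    (⊥ : Submodule R M) (fun n z hz => by simp [(Submodule.mem_bot R).1 hz])
    (le_bot_iff.2 (Submodule.annihilator_smul (⊤ : Submodule R M) ▸ by rw [Submodule.annihilator_top]))
  obtain ⟨GN, hGN⟩ := Groth.Agent.CAlg6.Seg.exists_gen (ℳ := 𝒩) hposS y (Nat.mul_pos hDR hDS) hy _ hyfin
    (⊥ : Submodule S N) (fun n z hz => by simp [(Submodule.mem_bot S).1 hz])
    (le_bot_iff.2 (Submodule.annihilator_smul (⊤ : Submodule S N) ▸ by rw [Submodule.annihilator_top]))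
  obtain ⟨eM, heM⟩ := Groth.Agent.CAlg6.Seg.exists_torsionfree (ℳ := ℳ) hstdR x (Nat.mul_pos hDR hDS) hx hxind
  obtain ⟨eN, heN⟩ := Groth.Agent.CAlg6.Seg.exists_torsionfree (ℳ := 𝒩) hstdS y (Nat.mul_pos hDR hDS) hy hyind
  obtain ⟨m, hm, hmx⟩ := heM (max eM eN) (le_max_left _ _)
  obtain ⟨m', hm', hmy⟩ := heN (max eM eN) (le_max_right _ _)
  rw [Groth.Agent.CAlg6.Seg.supportDim_segre hT hP x y (Nat.mul_pos hDR hDS) hx hy GM (by simpa using hGM)
    GN (by simpa using hGN) hm hm' hmx hmy]
  congr 2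

end Groth.Agent.S19753
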