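import Groth.Statements.S19759
import Groth.Agent.GrDual19.Flip
import Groth.Agent.GrDual19.TopPresent

set_option autoImplicit false
universe u
open GrDual

namespace Groth.Agent.S19759

/-- Let R be a graded ring defined over a field k with m = R_+ and n = dim R, K_R = (H^n_m(R))^* its
canonical module, and M a finitely generated graded R-module. Then (H^n_m(M))^* ≅ Hom_R(M, K_R) as
graded R-modules. Stated here as the existence of an R-linear isomorphism carrying the degree-d
piece of (H^n_m(M))^* into the maps M → K_R homogeneous of degree d (existence of an isomorphism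
only; the published one is natural in M). Here a graded ring defined over k is a commutative
k-algebra of finite type, graded in nonnegative degrees by k-subspaces with degree-zero part k·1,
and R_+ is the ideal spanned by the R_n with n > 0; the graded k-dual M^* = ⊕_n Hom_k(M_{−n}, k) of
a graded R-module M (with r ∈ R acting by (r f)(x) = f(r x)) is presented abstractly as a graded
R-module D with a k-bilinear pairing β : D × M → k compatible with the R-actions, under which D_n
pairs to zero with M_m for m ≠ −n and is identified with the full dual space of M_{−n}; graded local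
cohomology with its homogeneous pieces is computed from *injective resolutions in the graded
category and carries the k-vector space structures given. -/
theorem result (k : Type u) [Field k] (R : Type u) [CommRing R] [Algebra k R] (𝒜 : ℤ → Submodule k R) [GradedAlgebra 𝒜] (hposR : ∀ n : ℤ, n < 0 → 𝒜 n = ⊥) (h0R : 𝒜 0 = Submodule.span k {(1 : R)}) [Algebra.FiniteType k R] (mR : HomogeneousIdeal 𝒜) (hmR : mR.toIdeal = Ideal.span (⋃ n ∈ Set.Ioi (0 : ℤ), (𝒜 n : Set R))) (n : ℕ) (hn : ringKrullDim R = n) (I : GrLC.StarInjRes 𝒜 𝒜) [Module k (I.H mR n)] [IsScalarTower k R (I.H mR n)] [DirectSum.Decomposition (I.Hgr mR n)] (K : Type u) [AddCommGroup K] [Module R K] [Module k K] [IsScalarTower k R K] (𝒦 : ℤ → AddSubgroup K) [DirectSum.Decomposition 𝒦] [SetLike.GradedSMul 𝒜 𝒦] (βK : K →ₗ[k] I.H mR n →ₗ[k] k) (hK : GrSeg.IsGDual R (I.Hgr mR n) 𝒦 βK) (M : Type u) [AddCommGroup M] [Module R M] [Module k M] [IsScalarTower k R M] (ℳ : ℤ → AddSubgroup M) [DirectSum.Decomposition ℳ] [SetLike.GradedSMul 𝒜 ℳ] [Module.Finite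 R M] (EM : GrLC.StarInjRes 𝒜 ℳ) [Module k (EM.H mR n)] [IsScalarTower k R (EM.H mR n)] [DirectSum.Decomposition (EM.Hgr mR n)] (D : Type u) [AddCommGroup D] [Module R D] [Module k D] [IsScalarTower k R D] (𝒟 : ℤ → AddSubgroup D) [DirectSum.Decomposition 𝒟] [SetLike.GradedSMul 𝒜 𝒟] (βD : D →ₗ[k] EM.H mR n →ₗ[k] k) (hD : GrSeg.IsGDual R (EM.Hgr mR n) 𝒟 βD) : ∃ ε : D ≃ₗ[R] (M →ₗ[R] K), GrLC.IsGrHom 𝒟 (fun d : ℤ => (GrLC.homDeg 𝒜 ℳ 𝒦 d).toAddSubgroup) ε.toLinearMap := by
  classical
  have : IsNoetherianRing R := Algebra.FiniteType.isNoetherianRing k R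
  have hcd : LocCoh.CdLE R mR.toIdeal n := LC15.cdLE_of_ringKrullDim_le mR.toIdeal hn.le
  obtain ⟨p, deg, g, hg, hspan⟩ := GrMod19.exists_homog_generators 𝒜 ℳ (⊤ : Submodule R M) (fun _ _ _ => trivial)
    Module.Finite.fg_top
  let Φ : M →ₗ[R] I.H mR n →ₗ[R] EM.H mR n := GrDual19.act EM mR I n
  have hΦ : ∀ {j : ℤ} {m : M}, m ∈ ℳ j → GrLC.IsGrHomDeg (I.Hgr mR n) (EM.Hgr mR n) (Φ m) j :=
    fun hm => GrDual19.act_deg EM mR I n hm
  have hKinj := GrDual19.beta_injective hK
  have hex : ∀ (d : D) (m : M), ∃ κ, ∀ h, βK κ h = βD d (Φ m h) := by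
    intro d
    induction d using GrMod19.piece_induction 𝒟 with
    | h0 => exact fun m => ⟨0, fun h => by simp⟩
    | hadd a b ha hb =>
      intro m
      obtain ⟨x, hx⟩ := ha m
      obtain ⟨y, hy⟩ := hb m
      exact ⟨x + y, fun h => by rw [map_add, map_add, LinearMap.add_apply, LinearMap.add_apply, hx, hy]⟩
    | hp e d hd =>
      intro m
      induction m using GrMod19.piece_induction ℳ with
      | h0 => exact ⟨0, fun h => by simp⟩
      | hadd a b ha hb =>
        obtain ⟨x, hx⟩ := ha
        obtain ⟨y, hy⟩ := hb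
        exact ⟨x + y, fun h => by
          rw [map_add, LinearMap.add_apply, hx, hy, map_add Φ a b, LinearMap.add_apply, map_add]⟩
      | hp j m hm =>
        obtain ⟨κ, -, hκ⟩ := GrDual19.exists_beta_eq hK (n := j + e) ((βD d) ∘ₗ (Φ m).restrictScalars k)
          (fun i hi h hh => hD.vanish e d hd (i + j) (by omega) _ (hΦ hm i h hh))
        exact ⟨κ, fun h => LinearMap.congr_fun hκ h⟩
  choose ε₀ hε₀ using hex
  let ε₁ : D → (M →ₗ[R] K) := fun d =>
    { toFun := ε₀ d
      map_add' := fun a b => hKinj (LinearMap.ext fun h => by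
        rw [map_add, LinearMap.add_apply, hε₀, hε₀, hε₀, map_add Φ a b, LinearMap.add_apply, map_add])
      map_smul' := fun c a => hKinj (LinearMap.ext fun h => by
        rw [RingHom.id_apply, hK.map_smul, hε₀, hε₀, map_smul Φ c a, LinearMap.smul_apply,
          LinearMap.map_smul (Φ a) c h]) }
  have hε₁ : ∀ d m h, βK (ε₁ d m) h = βD d (Φ m h) := hε₀
  let ε : D →ₗ[R] (M →ₗ[R] K) :=
    { toFun := ε₁
      map_add' := fun a b => LinearMap.ext fun m => hKinj (LinearMap.ext fun h => by
        rw [LinearMap.add_apply, map_add βK, LinearMap.add_apply, hε₁, hε₁, hε₁, map_add, LinearMap.add_apply])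
      map_smul' := fun c d => LinearMap.ext fun m => hKinj (LinearMap.ext fun h => by
        rw [RingHom.id_apply, LinearMap.smul_apply, hK.map_smul, hε₁, hε₁, hD.map_smul,
          LinearMap.map_smul (Φ m) c h]) }
  have hε : ∀ d m h, βK (ε d m) h = βD d (Φ m h) := hε₀
  have hinj : Function.Injective ε := fun a b hab => GrDual19.beta_injective hD (LinearMap.ext fun y => by
    obtain ⟨h, rfl⟩ := GrDual19.exists_top_gen EM mR I n hcd hg hspan y
    rw [map_sum, map_sum]
    refine Finset.sum_congr rfl fun b' _ => ?_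
    show βD a (Φ (g b') (h b')) = βD b (Φ (g b') (h b'))
    rw [← hε, ← hε, hab])
  have hsurj : Function.Surjective ε := by
    intro f
    let P : (Fin p → I.H mR n) →ₗ[k] EM.H mR n := ∑ b, (Φ (g b)).restrictScalars k ∘ₗ LinearMap.proj b
    let L : (Fin p → I.H mR n) →ₗ[k] k := ∑ b, (βK (f (g b))) ∘ₗ LinearMap.proj b
    have hP : ∀ h, P h = ∑ b, Φ (g b) (h b) := fun h => by simp [P]
    have hL : ∀ h, L h = ∑ b, βK (f (g b)) (h b) := fun h => by simp [L]
    have hker : ∀ h, P h = 0 → L h = 0 := by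
      intro h hh
      rw [hP] at hh
      obtain ⟨q, z, h', hz, hh'⟩ := GrDual19.exists_top_rel EM mR I n hcd hg hspan hh
      rw [hL]
      simp_rw [hh', map_sum, ← hK.map_smul, ← map_smul]
      rw [Finset.sum_comm]
      refine Finset.sum_eq_zero fun l _ => ?_
      rw [← LinearMap.sum_apply, ← map_sum, ← map_sum, hz l, map_zero, map_zero, LinearMap.zero_apply]
    obtain ⟨s, hs⟩ := P.exists_rightInverse_of_surjective (LinearMap.range_eq_top.2 fun y => by
      obtain ⟨h, hh⟩ := GrDual19.exists_top_gen EM mR I n hcd hg hspan y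
      exact ⟨h, (hP h).trans hh⟩)
    let L' : EM.H mR n →ₗ[k] k := L ∘ₗ s
    have hL' : ∀ h, L' (P h) = L h := fun h => by
      rw [← sub_eq_zero]
      show L (s (P h)) - L h = 0
      rw [← map_sub]
      refine hker _ ?_
      rw [map_sub, show P (s (P h)) = P h from LinearMap.congr_fun hs _, sub_self]
    have hL'g : ∀ b x, L' (Φ (g b) x) = βK (f (g b)) x := fun b x => by
      have h1 : P (Pi.single b x) = Φ (g b) x := by
        rw [hP, Finset.sum_eq_single b (fun c _ hc => by rw [Pi.single_eq_of_ne hc, map_zero])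
          (fun hb => absurd (Finset.mem_univ b) hb), Pi.single_eq_same]
      have h2 : L (Pi.single b x) = βK (f (g b)) x := by
        rw [hL, Finset.sum_eq_single b (fun c _ hc => by rw [Pi.single_eq_of_ne hc, map_zero])
          (fun hb => absurd (Finset.mem_univ b) hb), Pi.single_eq_same]
      rw [← h1, hL', h2]
    let S : Finset ℤ := Finset.univ.biUnion fun b =>
      ((GrMod19.finite_cmp_ne_zero 𝒦 (f (g b))).toFinset).image (· - deg b)
    have hS : ∀ i, -i ∉ S → ∀ y ∈ EM.Hgr mR n i, L' y = 0 := by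
      intro i hi y hy
      obtain ⟨h, rfl⟩ := GrDual19.exists_top_gen EM mR I n hcd hg hspan y
      rw [← GrMod19.cmp_of_mem (EM.Hgr mR n) hy, map_sum, map_sum]
      refine Finset.sum_eq_zero fun b _ => ?_
      have hc := GrMod19.map_cmp_deg (I.Hgr mR n) (EM.Hgr mR n) (hΦ (hg b)) (i - deg b) (h b)
      rw [sub_add_cancel] at hc
      show L' (GrMod19.cmp (EM.Hgr mR n) i (Φ (g b) (h b))) = 0
      rw [← hc, hL'g, GrDual19.beta_cmp hK (n := -(i - deg b)) (f (g b))
        (by rw [neg_neg]; exact GrMod19.cmp_mem _ _ _)]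
      have hz : GrMod19.cmp 𝒦 (-(i - deg b)) (f (g b)) = 0 := by_contra fun hne => hi
        (Finset.mem_biUnion.2 ⟨b, Finset.mem_univ b, Finset.mem_image.2
          ⟨-(i - deg b), (Set.Finite.mem_toFinset _).2 hne, by ring⟩⟩)
      rw [hz, map_zero, LinearMap.zero_apply]
    choose de hde hde' using fun e => hD.exists_eq e L'
    have hd : βD (∑ e ∈ S, de e) = L' := by
      refine LinearMap.ext fun y => ?_
      induction y using GrMod19.piece_induction (EM.Hgr mR n) with
      | h0 => simp
      | hadd a b ha hb => rw [map_add, map_add, ha, hb]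
      | hp i y hy =>
        rw [map_sum, LinearMap.sum_apply]
        by_cases hi : -i ∈ S
        · rw [Finset.sum_eq_single_of_mem (-i) hi fun e _ he =>
            hD.vanish e _ (hde e) i (by omega) y hy]
          exact hde' (-i) y (by rwa [neg_neg])
        · rw [hS i hi y hy]
          refine Finset.sum_eq_zero fun e he => hD.vanish e _ (hde e) i (fun h => hi ?_) y hy
          rw [h, neg_neg]
          exact he
    refine ⟨∑ e ∈ S, de e, LinearMap.ext_on_range hspan fun b => hKinj (LinearMap.ext fun h => ?_)⟩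
    rw [hε, hd, hL'g]
  refine ⟨LinearEquiv.ofBijective ε ⟨hinj, hsurj⟩, fun e d hd j m hm => ?_⟩
  show ε d m ∈ 𝒦 (j + e)
  exact GrDual19.mem_of_vanish hK fun i hi h hh => by
    show βK (ε d m) h = 0
    rw [hε]
    exact hD.vanish e d hd (i + j) (by omega) _ (hΦ hm i h hh)

end Groth.Agent.S19759
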