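import Groth.Statements.S1976
import Groth.Agent.WE24.Field
import Groth.Agent.Ind91.Etale
-- import your own Groth.Agent.* helpers here

set_option autoImplicit false
universe u
open CategoryTheory
open EtAlg

namespace Groth.Agent.S1976

/-- (2) ⇔ (3): a K-algebra B over a field K is weakly etale exactly when it can be written as a filtered
colimit of etale K-algebras, and in that case its finitely generated K-subalgebras are etale. -/
theorem result (K : Type u) [Field K] (B : Type u) [CommRing B] [Algebra K B] :
    (Algebra.WeaklyEtale K B ↔ EtPBC.IsIndEtale K B) ∧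
    (Algebra.WeaklyEtale K B → ∀ S : Subalgebra K B, S.FG → Algebra.Etale K S) := by
  have het : Algebra.WeaklyEtale K B → ∀ S : Subalgebra K B, S.FG → Algebra.Etale K S := by
    intro _ S hS
    have : Algebra.FiniteType K S := (Subalgebra.fg_iff_finiteType _).mp hS
    exact Groth.Agent.WE24.etale_of_forall_isSeparable fun x =>
      (Groth.Agent.WE24.isSeparable_coe_iff S x).mp (Groth.Agent.WE24.isSeparable_of_weaklyEtale _)
  refine ⟨⟨fun h => ?_, fun h => Groth.Agent.Ind91.weaklyEtale_of_isIndEtale h⟩, het⟩
  rw [Groth.Agent.Ind91.isIndEtale_iff]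
  intro C _ _ _ g
  have hfg : g.range.FG := by
    rw [← Algebra.map_top]
    exact Algebra.FiniteType.out.map g
  exact ⟨g.range, inferInstance, inferInstance, het h g.range hfg, g.rangeRestrict, g.range.val,
    AlgHom.ext fun _ => rfl⟩

end Groth.Agent.S1976
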