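import Groth.Statements.S19760
import Groth.Agent.GrDual19.Flip
import Groth.Agent.GrMod19.StarInj

set_option autoImplicit false
universe u
open GrDual

namespace Groth.Agent.S19760

/-- Let R = ⊕_{n ≥ 0} R_n be a Noetherian graded ring with R_0 = k a field and R^* = ⊕_n Hom_k(R_{−n},
k) its graded k-dual. A graded R-module M is Artinian exactly when, for some t and some integer
shifts n_1, …, n_t, it embeds as a graded module into the direct sum of the shifted duals R^*(n_1),
…, R^*(n_t), that is, when there is an injective R-linear map M → (R^*)^t whose i-th component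
carries M_g into R^*_{g+n_i} for every g. Here a graded ring defined over k is a commutative
k-algebra of finite type, graded in nonnegative degrees by k-subspaces with degree-zero part k·1,
and R_+ is the ideal spanned by the R_n with n > 0 (a Noetherian such ring is the same as one of
finite type over k); the graded k-dual M^* = ⊕_n Hom_k(M_{−n}, k) of a graded R-module M (with r ∈ R
acting by (r f)(x) = f(r x)) is presented abstractly as a graded R-module D with a k-bilinear
pairing β : D × M → k compatible with the R-actions, under which D_n pairs to zero with M_m for m ≠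
−n and is identified with the full dual space of M_{−n}. -/
theorem result (k : Type u) [Field k] (R : Type u) [CommRing R] [Algebra k R] (𝒜 : ℤ → Submodule k R) [GradedAlgebra 𝒜] (hposR : ∀ n : ℤ, n < 0 → 𝒜 n = ⊥) (h0R : 𝒜 0 = Submodule.span k {(1 : R)}) [Algebra.FiniteType k R] (D : Type u) [AddCommGroup D] [Module R D] [Module k D] [IsScalarTower k R D] (𝒟 : ℤ → AddSubgroup D) [DirectSum.Decomposition 𝒟] [SetLike.GradedSMul 𝒜 𝒟] (β : D →ₗ[k] R →ₗ[k] k) (hD : GrSeg.IsGDual R 𝒜 𝒟 β) (M : Type u) [AddCommGroup M] [Module R M] [Module k M] [IsScalarTower k R M] (ℳ : ℤ → AddSubgroup M) [DirectSum.Decomposition ℳ] [SetLike.GradedSMul 𝒜 ℳ] : IsArtinian R M ↔ ∃ (t : ℕ) (sh : Fin t → ℤ) (f : M →ₗ[R] (Fin t → D)), Function.Injective f ∧ ∀ (i : Fin t) (g : ℤ) (x : M), x ∈ ℳ g → f x i ∈ 𝒟 (g + sh i) := by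
  classical
  have hpn := GrDual19.nonnegGr_of_bot hposR
  have hD' : GrSeg.IsGDual R (GrMod19.selfPiece 𝒜) 𝒟 β :=
    ⟨hD.map_smul, hD.vanish, hD.eq_zero, hD.exists_eq⟩
  constructor
  · intro hart
    obtain ⟨_, ⟨t, sh, f, hf, rfl⟩, hmin⟩ := IsArtinian.set_has_minimal
      {A : Submodule R M | ∃ (t : ℕ) (sh : Fin t → ℤ) (f : M →ₗ[R] (Fin t → D)),
        (∀ (i : Fin t) (g : ℤ) (x : M), x ∈ ℳ g → f x i ∈ 𝒟 (g + sh i)) ∧ LinearMap.ker f = A}
      ⟨_, 0, Fin.elim0, 0, fun i => i.elim0, rfl⟩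
    refine ⟨t, sh, f, LinearMap.ker_eq_bot.1 (by_contra fun hne => ?_), hf⟩
    obtain ⟨x, hx, hx0⟩ := Submodule.exists_mem_ne_zero_of_ne_bot hne
    obtain ⟨j, hj⟩ : ∃ j, GrMod19.cmp ℳ j x ≠ 0 := by
      by_contra h
      push Not at h
      exact hx0 (GrMod19.eq_zero_of_cmp ℳ h)
    have hxj : GrMod19.cmp ℳ j x ∈ LinearMap.ker f := by
      rw [LinearMap.mem_ker]
      funext i
      have h1 := GrMod19.map_cmp_deg ℳ 𝒟 (f := (LinearMap.proj i : (Fin t → D) →ₗ[R] D) ∘ₗ f) (e := sh i) (hf i) j x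
      rw [LinearMap.comp_apply, LinearMap.comp_apply, LinearMap.mem_ker.1 hx, map_zero, map_zero] at h1
      exact h1
    obtain ⟨L, hL⟩ : ∃ L : M →ₗ[k] k, L (GrMod19.cmp ℳ j x) ≠ 0 :=
      not_forall.1 fun hall => hj ((Module.forall_dual_apply_eq_zero_iff k _).1 hall)
    obtain ⟨h, hh, hhd⟩ := GrDual19.exists_lift (ℳ := ℳ) hD (L ∘ₗ GrDual19.cmpₗ 𝒜 ℳ j) (j := j)
      (fun i hi z hz => by
        show L (GrMod19.cmp ℳ j z) = 0
        rw [GrMod19.cmp_of_ne ℳ hz hi, map_zero])
    let f' : M →ₗ[R] (Fin (t + 1) → D) :=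
      LinearMap.pi (Fin.cons h fun i => LinearMap.proj i ∘ₗ f)
    have hlt : LinearMap.ker f' < LinearMap.ker f := by
      refine lt_of_le_not_ge (fun z hz => funext fun i => ?_) fun hle => hL ?_
      · exact congrFun (LinearMap.mem_ker.1 hz) i.succ
      · have h1 : h (GrMod19.cmp ℳ j x) = 0 := congrFun (LinearMap.mem_ker.1 (hle hxj)) 0
        have h2 := hh (GrMod19.cmp ℳ j x) 1
        rw [h1, map_zero, LinearMap.zero_apply, one_smul, LinearMap.comp_apply] at h2
        have h3 : L (GrMod19.cmp ℳ j (GrMod19.cmp ℳ j x)) = 0 := h2.symm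
        rwa [GrMod19.cmp_of_mem ℳ (GrMod19.cmp_mem ℳ j x)] at h3
    refine hmin _ ⟨t + 1, Fin.cons (-j) sh, f', fun i g z hz => ?_, rfl⟩ hlt
    induction i using Fin.cases with
    | zero =>
      show h z ∈ 𝒟 (g + -j)
      exact hhd g z hz
    | succ i =>
      show f z i ∈ 𝒟 (g + sh i)
      exact hf i g z hz
  · rintro ⟨t, sh, f, hf, -⟩
    have : IsArtinian R D :=
      GrDual19.isArtinian_dual (𝒜 := 𝒜) (ℳ := GrMod19.selfPiece 𝒜) hpn h0R hD'
    exact isArtinian_of_injective f hf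

end Groth.Agent.S19760
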