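import Groth.Statements.S19762
import Groth.Agent.GrDual19.Flip
import Groth.Agent.GrMod19.StarInj

set_option autoImplicit false
universe u
open GrDual

namespace Groth.Agent.S19762

/-- Let R = ⊕_{n ≥ 0} R_n be a Noetherian graded ring with R_0 = k a field. The graded k-dual is an
equivalence between Noetherian graded R-modules and the opposite category of Artinian graded
R-modules; on morphisms: for finitely generated graded R-modules F and M, every homomorphism of
graded R-modules g : M^* → F^* is f^* for a unique homomorphism of graded R-modules f : F → M. Here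
a graded ring defined over k is a commutative k-algebra of finite type, graded in nonnegative
degrees by k-subspaces with degree-zero part k·1, and R_+ is the ideal spanned by the R_n with n > 0
(a Noetherian such ring is the same as one of finite type over k); the graded k-dual M^* = ⊕_n
Hom_k(M_{−n}, k) of a graded R-module M (with r ∈ R acting by (r f)(x) = f(r x)) is presented
abstractly as a graded R-module D with a k-bilinear pairing β : D × M → k compatible with the
R-actions, under which D_n pairs to zero with M_m for m ≠ −n and is identified with the full dual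
space of M_{−n}; f^* = g means β_F(g d, x) = β_M(d, f x) for all d and x. -/
theorem result (k : Type u) [Field k] (R : Type u) [CommRing R] [Algebra k R] (𝒜 : ℤ → Submodule k R) [GradedAlgebra 𝒜] (hposR : ∀ n : ℤ, n < 0 → 𝒜 n = ⊥) (h0R : 𝒜 0 = Submodule.span k {(1 : R)}) [Algebra.FiniteType k R] (F : Type u) [AddCommGroup F] [Module R F] [Module k F] [IsScalarTower k R F] (ℱ : ℤ → AddSubgroup F) [DirectSum.Decomposition ℱ] [SetLike.GradedSMul 𝒜 ℱ] [Module.Finite R F] (M : Type u) [AddCommGroup M] [Module R M] [Module k M] [IsScalarTower k R M] (ℳ : ℤ → AddSubgroup M) [DirectSum.Decomposition ℳ] [SetLike.GradedSMul 𝒜 ℳ] [Module.Finite R M] (DM : Type u) [AddCommGroup DM] [Module R DM] [Module k DM] [IsScalarTower k R DM] (𝒟M : ℤ → AddSubgroup DM) [DirectSum.Decomposition 𝒟M] [SetLike.GradedSMul 𝒜 𝒟M] (βM : DM →ₗ[k] M →ₗ[k] k) (hDM : GrSeg.IsGDual R ℳ 𝒟M βM) (DF : Type u) [AddCommGroup DF] [Module R DF] [Module k DF] [IsScalarTower k R DF] (𝒟F : ℤ → AddSubgroup DF) [DirectSum.Decomposition 𝒟F] [SetLike.GradedSMul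 𝒜 𝒟F] (βF : DF →ₗ[k] F →ₗ[k] k) (hDF : GrSeg.IsGDual R ℱ 𝒟F βF) (g : DM →ₗ[R] DF) (hg : GrLC.IsGrHom 𝒟M 𝒟F g) : ∃! f : F →ₗ[R] M, GrLC.IsGrHom ℱ ℳ f ∧ GrSeg.IsGDualMap βM βF f g := by
  have hpn := GrDual19.nonnegGr_of_bot hposR
  have hflip := GrDual19.isGDual_flip (fun n => GrDual19.kPiece_finite (𝒜 := 𝒜) (ℳ := ℳ) hpn h0R n) hDM
  have hinj := GrDual19.beta_injective hflip
  have hgv : ∀ i, ∀ x ∈ ℱ i, ∀ n, n ≠ -i → ∀ d ∈ 𝒟M n, βF (g d) x = 0 := fun i x hx n hn d hd =>
    hDF.vanish n _ (hg n d hd) i (by omega) x hx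
  have hex : ∀ x, ∃ y, ∀ d, βM d y = βF (g d) x := by
    intro x
    induction x using GrMod19.piece_induction ℱ with
    | h0 => exact ⟨0, fun d => by simp⟩
    | hadd a b ha hb =>
      obtain ⟨y, hy⟩ := ha
      obtain ⟨z, hz⟩ := hb
      exact ⟨y + z, fun d => by rw [map_add, map_add, hy, hz]⟩
    | hp i x hx =>
      obtain ⟨y, -, hy⟩ := GrDual19.exists_beta_eq hflip (n := i) ((βF.flip x) ∘ₗ g.restrictScalars k)
        (fun n hn d hd => hgv i x hx n hn d hd)
      exact ⟨y, fun d => LinearMap.congr_fun hy d⟩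
  choose f hf using hex
  refine ⟨{ toFun := f
            map_add' := fun a b => hinj (LinearMap.ext fun d => ?_)
            map_smul' := fun r a => hinj (LinearMap.ext fun d => ?_) },
    ⟨fun i x hx => GrDual19.mem_of_vanish hflip fun n hn d hd => ?_, fun d x => (hf x d).symm⟩,
    fun f' hf' => LinearMap.ext fun x => hinj (LinearMap.ext fun d => ?_)⟩
  · show βM d (f (a + b)) = (βM.flip (f a + f b)) d
    rw [hf, map_add βM.flip, LinearMap.add_apply]
    show βF (g d) (a + b) = βM d (f a) + βM d (f b)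
    rw [hf, hf, map_add]
  · show βM d (f (r • a)) = βM d (r • f a)
    rw [hf, ← hDM.map_smul, hf, g.map_smul, hDF.map_smul]
  · show βM d (f x) = 0
    rw [hf]
    exact hgv i x hx n hn d hd
  · show βM d (f' x) = βM d (f x)
    rw [hf, hf'.2]

end Groth.Agent.S19762
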