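import Groth.Statements.S19771
import Groth.Agent.Cube7.PicCalc
import Groth.Agent.AbDeg57.FinPow
import Groth.Agent.Amp73.QA
import Groth.Agent.Amp73.Local
-- import your own Groth.Agent.* helpers here

set_option autoImplicit false
universe u
open CategoryTheory MonoidalCategory CartesianMonoidalCategory MonObj GrpObj AlgebraicGeometry
open AbSch

namespace Groth.Agent.S19771
open Groth.Agent Groth.Agent.Cube7.PicCalc
set_option maxSynthPendingDepth 6
set_option backward.isDefEq.respectTransparency.types false

theorem trivial_of_field {k : Type u} [Field k] (c : PicLoc.PicSet (Spec (CommRingCat.of k))) : c = 1 := by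
  obtain ⟨M, hM, rfl⟩ := PicGrp.exists_eq_cls c
  haveI : Subsingleton ↥(Spec (CommRingCat.of k)) := inferInstanceAs (Subsingleton (PrimeSpectrum k))
  obtain ⟨e⟩ := AbSquare57.nonempty_iso_structureModule_of_subsingleton (IsLocalRing.closedPoint k) hM
  show _ = PicLoc.unitPicSet _
  rw [PicGrp.unitPicSet_eq_cls, PicGrp.cls_eq_cls_iff]
  exact ⟨e⟩

/-- Let S be a scheme, A an abelian scheme over S (an S-group scheme whose structure morphism is proper
and smooth with geometrically connected fibres), L an O_A-module that is ample relative to A → S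
(the structure morphism is quasi-compact and L restricted to the preimage of every affine open of S
is ample; in particular L is invertible), and i : K → A a closed immersion of S-schemes exhibiting K
as K(L): the maximal closed subscheme over which the Mumford bundle m^*L ⊗ p_1^*L⁻¹ ⊗ p_2^*L⁻¹ on A
×_S A, restricted to A ×_S K, is the inverse image of an invertible module on K, with its universal
property for S-morphisms T → A. Then K is finite over S. -/
theorem result {S : Scheme.{u}} (A : Over S)
    [GrpObj A] [IsProper A.hom] [Smooth A.hom] [GeometricallyConnected A.hom] (L : A.left.Modules)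
    (hL : RelAmple.IsRelAmple A.hom L)
    (K : Over S) (i : K ⟶ A) (hK : ThetaGrp.IsKL A L i) :
    IsFinite K.hom := by
  have hL' : PicF.IsInvertible L := Amp73.isInvertible_of_isRelAmple hL
  obtain ⟨M, hM, hh⟩ := (hK.univ K i).2 ⟨𝟙 K, Category.id_comp i⟩
  haveI := hK.closed
  have hKhom : i.left ≫ A.hom = K.hom := Over.w i
  haveI : IsProper K.hom := by rw [← hKhom]; infer_instance
  let c := PicGrp.cls L hL'
  let d := PicGrp.cls M hM
  -- pull the defining isomorphism back along a point of the first factor
  have key : ∀ a : K ⟶ A, d * pb a.left c * pb i.left c = pb (a * i).left c := by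
    intro a
    have h1 : lift a (𝟙 K) ≫ fst A K = a := lift_fst _ _
    have h2 : lift a (𝟙 K) ≫ snd A K = 𝟙 K := lift_snd _ _
    have h3 : lift a (𝟙 K) ≫ snd A K ≫ i = i := by rw [reassoc_of% h2]
    have h4 : lift a (𝟙 K) ≫ (A ◁ i) ≫ μ[A] = a * i := by
      rw [← Category.assoc, lift_whiskerLeft, Category.id_comp, Hom.mul_def]
    obtain ⟨e⟩ := hh
    have hN := Amp73.isInvertible_pullback (f := (snd A K).left) hM
    have hp := Amp73.isInvertible_pullback (f := (fst A K).left) hL'
    have hq := Amp73.isInvertible_pullback (f := (snd A K ≫ i).left) hL'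
    have hm := Amp73.isInvertible_pullback (f := ((A ◁ i) ≫ μ[A]).left) hL'
    have E : pb (snd A K).left d * pb (fst A K).left c * pb (snd A K ≫ i).left c =
        pb ((A ◁ i) ≫ μ[A]).left c := by
      simp only [d, c, pb_cls]
      exact ((congrArg (fun z => z * _) (cls_tensor (PicLoc.isInvertible_pullback (snd A K).left hM)
        (PicLoc.isInvertible_pullback (fst A K).left hL')).symm).trans
          (cls_tensor (EGA73.isInvertible_tensorMod (PicLoc.isInvertible_pullback (snd A K).left hM)
            (PicLoc.isInvertible_pullback (fst A K).left hL'))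
            (PicLoc.isInvertible_pullback (snd A K ≫ i).left hL')).symm).trans ((PicGrp.cls_eq_cls_iff _ _).2 ⟨e⟩)
    have E' := congrArg (pb (lift a (𝟙 K)).left) E
    simp only [map_mul, ← pb_comp, ← Over.comp_left, h1, h2, h3, h4] at E'
    rw [Over.id_left, pb_id] at E'
    exact E'
  have k0 := key 1
  rw [_root_.one_mul] at k0
  have k1 := key i⁻¹
  rw [inv_mul_cancel] at k1
  have hone : (1 : K ⟶ A).left = K.hom ≫ η[A].left := by
    rw [Hom.one_def, Over.comp_left]; rfl
  have hd : d * pb (1 : K ⟶ A).left c = 1 := mul_right_cancel (k0.trans (_root_.one_mul _).symm)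
  haveI : LocallyQuasiFinite K.hom := locallyQuasiFinite_iff_isFinite_fiber.2 fun s => by
    let j := K.hom.fiberι s
    let q := K.hom.fiberToSpecResidueField s
    haveI : IsProper q := MorphismProperty.pullback_snd (P := @IsProper) _ _ inferInstance
    have ho : pb j (pb (1 : K ⟶ A).left c) = 1 := by
      rw [hone, pb_comp, ← pb_comp j K.hom, show j ≫ K.hom = q ≫ S.fromSpecResidueField s from Limits.pullback.condition,
        pb_comp, trivial_of_field (k := S.residueField s) (pb (S.fromSpecResidueField s) _), map_one]
    have hdj : pb j d = 1 := by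
      have := congrArg (pb j) hd
      rwa [map_mul, ho, _root_.mul_one, map_one] at this
    have hab : pb j (pb (i⁻¹).left c) * pb j (pb i.left c) = 1 := by
      have := congrArg (pb j) k1
      rwa [map_mul, map_mul, hdj, _root_.one_mul, ho] at this
    have amp : ∀ b : K ⟶ A, IsClosedImmersion b.left →
        CohB1.IsAmple ((Scheme.Modules.pullback j).obj ((Scheme.Modules.pullback b.left).obj L)) := by
      intro b hb
      haveI := hb
      have hbw : b.left ≫ A.hom = K.hom := Over.w b
      have h1 : RelAmple.IsRelAmple K.hom ((Scheme.Modules.pullback b.left).obj L) := by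
        rw [← hbw]
        exact Amp73.isRelAmple_pullback_comp b.left (Amp73.isQuasiAffine_of_isAffineHom b.left) hL
      exact (Amp73.isRelAmple_iff_isAmple _).1 (Amp73.isRelAmple_baseChange K.hom (S.fromSpecResidueField s) h1)
    have hi : IsClosedImmersion (i⁻¹).left := by
      haveI : IsIso ι[A].left := inferInstanceAs (IsIso ((Over.forget S).map ι[A]))
      rw [Hom.inv_def, Over.comp_left]
      infer_instance
    have hA := Amp73.isAmple_tensor_ample (amp i⁻¹ hi) (amp i hK.closed)
    have hu : (1 : PicLoc.PicSet (K.hom.fiber s)) = PicLoc.unitPicSet _ := rfl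
    simp only [c, pb_cls] at hab
    replace hab := ((cls_tensor
      (PicLoc.isInvertible_pullback j (PicLoc.isInvertible_pullback (i⁻¹).left hL'))
      (PicLoc.isInvertible_pullback j (PicLoc.isInvertible_pullback i.left hL'))).trans hab).trans hu
    rw [PicGrp.unitPicSet_eq_cls, PicGrp.cls_eq_cls_iff] at hab
    obtain ⟨e'⟩ := hab
    haveI := Amp73.isQuasiAffine_of_isAmple (Amp73.isAmple_of_iso e' hA)
    exact AbDeg57.isFinite_of_isProper_of_isQuasiAffine (S.residueField s : Type u) q
  exact IsFinite.of_isProper_of_locallyQuasiFinite K.hom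

end Groth.Agent.S19771
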