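import Groth.Statements.S19778
import Groth.Agent.CAlg9.Approx.Module
import Mathlib.RingTheory.AdicCompletion.Completeness
import Mathlib.RingTheory.AdicCompletion.LocalRing

set_option autoImplicit false
universe u
open TensorProduct
open CAlg

namespace Groth.Agent.S19778

/-- For general linear groups, in the case A[1/t] → Â[1/t], let A be a commutative ring and t ∈ A with
(A, tA) a Henselian pair and the t-power torsion of A bounded, let Â be the t-adic completion and
give Â[1/t] the A[1/t]-algebra structure of the canonical map. Then every finitely generated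
projective Â[1/t]-module is the base change of a finitely generated projective A[1/t]-module. (The
published statement is the bijection H¹(A[1/t], G) ≅ H¹(Â[1/t], G) for every quasi-affine smooth
group G; this row is the case of the general linear groups, stated as essential surjectivity of base
change on finitely generated projective modules of arbitrary rank.) -/
theorem result (A : Type u) [CommRing A]
    (t : A) [HenselianRing A (Ideal.span {t})]
    (hbd : ∃ N : ℕ, ∀ a : A, (∃ m : ℕ, t ^ m * a = 0) → t ^ N * a = 0)
    [Algebra (Localization.Away t) (Localization.Away (algebraMap A (AdicCompletion (Ideal.span {t}) A) t))]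
    (halg : algebraMap (Localization.Away t) (Localization.Away (algebraMap A (AdicCompletion (Ideal.span {t}) A) t)) = Localization.awayMap (algebraMap A (AdicCompletion (Ideal.span {t}) A)) t)
    (M' : Type u) [AddCommGroup M'] [Module (Localization.Away (algebraMap A (AdicCompletion (Ideal.span {t}) A) t)) M']
    [Module.Finite (Localization.Away (algebraMap A (AdicCompletion (Ideal.span {t}) A) t)) M'] [Module.Projective (Localization.Away (algebraMap A (AdicCompletion (Ideal.span {t}) A) t)) M'] :
    ∃ (M : Type u) (_ : AddCommGroup M) (_ : Module (Localization.Away t) M),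
      Module.Finite (Localization.Away t) M ∧ Module.Projective (Localization.Away t) M ∧
      Nonempty ((Localization.Away (algebraMap A (AdicCompletion (Ideal.span {t}) A) t)) ⊗[Localization.Away t] M ≃ₗ[Localization.Away (algebraMap A (AdicCompletion (Ideal.span {t}) A) t)] M') := by
  have hfg : (Ideal.span {t}).FG := Submodule.fg_span_singleton t
  have hker : ∀ (n : ℕ) (x : AdicCompletion (Ideal.span {t}) A), AdicCompletion.evalₐ (Ideal.span {t}) n x = 0 →
      ∃ y, x = algebraMap A (AdicCompletion (Ideal.span {t}) A) t ^ n * y := by
    intro n x hx
    have h1 : x ∈ (AdicCompletion.eval (Ideal.span {t}) A n).ker := by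
      rw [LinearMap.mem_ker, ← AdicCompletion.factor_evalₐ_eq_eval _ x (by simp), hx, map_zero]
    rw [← AdicCompletion.pow_smul_top_eq_ker_eval hfg, Ideal.span_singleton_pow,
      Submodule.ideal_span_singleton_smul] at h1
    obtain ⟨y, -, rfl⟩ := (Submodule.mem_smul_pointwise_iff_exists _ _ _).1 h1
    exact ⟨y, by rw [← map_pow, Algebra.smul_def]⟩
  have happ : CAlg9.Approx.IsApprox t (AdicCompletion (Ideal.span {t}) A) := by
    refine ⟨fun m x => ?_, fun m a y h => ?_, ?_⟩
    · obtain ⟨a, ha⟩ := Ideal.Quotient.mk_surjective (AdicCompletion.evalₐ (Ideal.span {t}) m x)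
      obtain ⟨y, hy⟩ := hker m (x - algebraMap A _ a) (by
        rw [map_sub, AlgHom.commutes, Ideal.Quotient.algebraMap_eq, ha, sub_self])
      exact ⟨a, y, by rw [← hy, add_sub_cancel]⟩
    · have h1 := congrArg (AdicCompletion.evalₐ (Ideal.span {t}) m) h
      rw [map_mul, map_pow, AlgHom.commutes, AlgHom.commutes, Ideal.Quotient.algebraMap_eq, ← map_pow,
        Ideal.Quotient.eq_zero_iff_mem.2 (Ideal.pow_mem_pow (Ideal.mem_span_singleton_self t) m),
        zero_mul, Ideal.Quotient.eq_zero_iff_mem, Ideal.span_singleton_pow, Ideal.mem_span_singleton] at h1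
      exact h1
    · have := AdicCompletion.isAdicComplete_self (Ideal.span {t}) hfg
      exact IsAdicComplete.le_jacobson_bot _ (Ideal.mem_map_of_mem _ (Ideal.mem_span_singleton_self t))
  have : IsScalarTower A (Localization.Away t) (Localization.Away (algebraMap A (AdicCompletion (Ideal.span {t}) A) t)) :=
    IsScalarTower.of_algebraMap_eq fun x => by
      rw [halg, Localization.awayMap, IsLocalization.Away.map, IsLocalization.map_eq,
        ← IsScalarTower.algebraMap_apply]
  exact CAlg9.Approx.exists_baseChange_equiv (t := t) (L := Localization.Away t) happ M'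

end Groth.Agent.S19778
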