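import Groth.Statements.S19779
import Groth.Agent.CAlg9.Approx.Module
import Groth.Agent.Hens22.PairHens
import Mathlib.RingTheory.LaurentSeries
import Mathlib.RingTheory.PowerSeries.Trunc

set_option autoImplicit false
universe u
open Polynomial TensorProduct
open CAlg

namespace Groth.Agent.S19779

/-- For general linear groups, in the case R{t}[1/t] → R((t)), let R be a commutative ring, B = R{t} a
henselization of R[t] along (t), ψ : B → R[[t]] the R[t]-algebra map, L = B[1/t], and L' an
L-algebra identified with R((t)) compatibly with ψ. Then base change along L → L' is a bijection on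
isomorphism classes of finitely generated projective modules: two finitely generated projective
L-modules isomorphic over L' are isomorphic, and every finitely generated projective L'-module is
extended from one over L. (The published statement is the bijection H¹(R{t}[1/t], G) ≅ H¹(R((t)), G)
for every quasi-affine smooth group G; this row is the case of the general linear groups, stated for
finitely generated projective modules of arbitrary rank.) -/
theorem result (R : Type u) [CommRing R]
    (B : Type u) [CommRing B] [Algebra R[X] B] (hB : Hens2.IsPairHenselization R[X] (Ideal.span {(X : R[X])}) B)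
    (ψ : B →ₐ[R[X]] PowerSeries R)
    (L' : Type u) [CommRing L'] [Algebra (Localization.Away (algebraMap R[X] B X)) L'] (e : L' ≃+* LaurentSeries R)
    (he : ∀ b : B, e (algebraMap (Localization.Away (algebraMap R[X] B X)) L' (algebraMap B (Localization.Away (algebraMap R[X] B X)) b)) =
      HahnSeries.ofPowerSeries ℤ R (ψ b)) :
    (∀ (M N : Type u) [AddCommGroup M] [Module (Localization.Away (algebraMap R[X] B X)) M] [Module.Finite (Localization.Away (algebraMap R[X] B X)) M] [Module.Projective (Localization.Away (algebraMap R[X] B X)) M]
        [AddCommGroup N] [Module (Localization.Away (algebraMap R[X] B X)) N] [Module.Finite (Localization.Away (algebraMap R[X] B X)) N] [Module.Projective (Localization.Away (algebraMap R[X] B X)) N],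
        Nonempty (L' ⊗[Localization.Away (algebraMap R[X] B X)] M ≃ₗ[L'] L' ⊗[Localization.Away (algebraMap R[X] B X)] N) → Nonempty (M ≃ₗ[Localization.Away (algebraMap R[X] B X)] N)) ∧
    (∀ (M' : Type u) [AddCommGroup M'] [Module L' M'] [Module.Finite L' M'] [Module.Projective L' M'],
        ∃ (M : Type u) (_ : AddCommGroup M) (_ : Module (Localization.Away (algebraMap R[X] B X)) M),
          Module.Finite (Localization.Away (algebraMap R[X] B X)) M ∧ Module.Projective (Localization.Away (algebraMap R[X] B X)) M ∧
          Nonempty (L' ⊗[Localization.Away (algebraMap R[X] B X)] M ≃ₗ[L'] M')) := by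
  classical
  generalize ht : algebraMap R[X] B X = t at *
  let _ : Algebra B (PowerSeries R) := ψ.toRingHom.toAlgebra
  let f : PowerSeries R →+* L' := e.symm.toRingHom.comp (HahnSeries.ofPowerSeries ℤ R)
  let _ : Algebra (PowerSeries R) L' := f.toAlgebra
  let _ : Algebra B L' := ((algebraMap (Localization.Away t) L').comp (algebraMap B (Localization.Away t))).toAlgebra
  have : IsScalarTower B (Localization.Away t) L' := IsScalarTower.of_algebraMap_eq fun _ => rfl
  have : IsScalarTower B (PowerSeries R) L' := IsScalarTower.of_algebraMap_eq fun b => by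
    show algebraMap (Localization.Away t) L' (algebraMap B (Localization.Away t) b) = e.symm _
    rw [RingEquiv.eq_symm_apply]
    exact he b
  have hψ : ∀ p : R[X], ψ (algebraMap R[X] B p) = (p : PowerSeries R) := fun p => by
    rw [AlgHom.commutes]
    simp [RingHom.algebraMap_toAlgebra]
  have hψt : algebraMap B (PowerSeries R) t = PowerSeries.X := by
    show ψ t = _
    rw [← ht, hψ, Polynomial.coe_X]
  have : IsLocalization.Away (algebraMap B (PowerSeries R) t) L' := by
    rw [hψt]
    exact IsLocalization.isLocalization_of_algEquiv (Submonoid.powers (PowerSeries.X : PowerSeries R))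
      ({ e.symm with commutes' := fun _ => rfl } : LaurentSeries R ≃ₐ[PowerSeries R] L')
  have hI : HenselianRing B (Ideal.span {t}) := by
    have := hB.1
    rwa [Ideal.map_span, Set.image_singleton, ht] at this
  have happ : CAlg9.Approx.IsApprox t (PowerSeries R) := by
    refine ⟨fun m x => ?_, fun m a y h => ?_, ?_⟩
    · obtain ⟨q, hq⟩ : (PowerSeries.X : PowerSeries R) ^ m ∣ x - (x.trunc m : PowerSeries R) := by
        rw [PowerSeries.X_pow_dvd_iff]
        intro d hd
        rw [map_sub, Polynomial.coeff_coe, PowerSeries.coeff_trunc, if_pos hd, sub_self]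
      refine ⟨algebraMap R[X] B (x.trunc m), q, ?_⟩
      rw [hψt, ← hq]
      show x = ψ _ + _
      rw [hψ, add_sub_cancel]
    · obtain ⟨p, hp⟩ := (Hens22.quotientMap_pow_bijective hB m).2 (Ideal.Quotient.mk _ a)
      obtain ⟨p, rfl⟩ := Ideal.Quotient.mk_surjective p
      rw [Ideal.quotientMap_mk, Ideal.Quotient.eq, Ideal.span_singleton_pow, Ideal.map_span, Set.image_singleton,
        map_pow, ht, Ideal.mem_span_singleton] at hp
      obtain ⟨z, hz⟩ := hp
      have hz' := congrArg ψ hz
      rw [map_sub, map_mul, map_pow, hψ, show ψ t = PowerSeries.X from hψt] at hz'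
      have hpd : (Polynomial.X : R[X]) ^ m ∣ p := by
        rw [Polynomial.X_pow_dvd_iff]
        intro d hd
        rw [← Polynomial.coeff_coe, sub_eq_iff_eq_add.1 hz', show ψ a = algebraMap B (PowerSeries R) a from rfl, h,
          hψt, ← mul_add]
        exact (PowerSeries.X_pow_dvd_iff.1 (dvd_mul_right _ _)) d hd
      obtain ⟨p', rfl⟩ := hpd
      rw [map_mul, map_pow, ht] at hz
      exact ⟨algebraMap R[X] B p' - z, by linear_combination -hz⟩
    · rw [hψt, Ideal.mem_jacobson_bot]
      intro y
      rw [PowerSeries.isUnit_iff_constantCoeff]
      simp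
  refine ⟨fun M N _ _ _ _ _ _ _ _ hθ => ?_, fun M' _ _ _ _ => ?_⟩
  · obtain ⟨θ⟩ := hθ
    exact CAlg9.Approx.nonempty_equiv_of_baseChange (hI.jac (Ideal.mem_span_singleton_self t)) happ M N θ
  · exact CAlg9.Approx.exists_baseChange_equiv (L := Localization.Away t) happ M'

end Groth.Agent.S19779
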