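import Groth.Statements.S1978
import Groth.Agent.WE24.Field
import Groth.Agent.CAlg6.GeomTensor

set_option autoImplicit false
universe u
open TensorProduct
open EtAlg

namespace Groth.Agent.S1978

open Groth.Agent.WE24 Polynomial

theorem isSeparable_map {K S T : Type u} [Field K] [CommRing S] [CommRing T] [Algebra K S] [Algebra K T]
    (f : S →ₐ[K] T) {x : S} (hx : IsSeparable K x) : IsSeparable K (f x) :=
  Polynomial.Separable.of_dvd hx (minpoly.dvd K _ (by rw [aeval_algHom_apply, minpoly.aeval, map_zero]))

theorem isSeparable_of_idempotent {K S : Type u} [Field K] [CommRing S] [Algebra K S] {e : S}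
    (he : IsIdempotentElem e) : IsSeparable K e := by
  refine Polynomial.Separable.of_dvd (f := (X ^ 2 - X : K[X])) ?_ (minpoly.dvd K _ ?_)
  · refine ⟨C (-4), C 2 * X - 1, ?_⟩
    simp only [derivative_sub, derivative_X_pow, derivative_X, Nat.cast_ofNat, Nat.reduceSub, pow_one, map_neg, map_ofNat]
    ring
  · rw [map_sub, map_pow, aeval_X, sq, he.eq, sub_self]

variable {K : Type u} [Field K] {A : Type u} [CommRing A] [Algebra K A]

/-- the span of separable elements -/
def W (K : Type u) [Field K] (L : Type u) [Field L] [Algebra K L] (A : Type u) [CommRing A] [Algebra K A] :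
    Submodule L (L ⊗[K] A) :=
  Submodule.span L ((Algebra.TensorProduct.includeRight : A →ₐ[K] L ⊗[K] A) '' (separableElements K A : Set A))

theorem mem_W_of_sep {Ω : Type u} [Field Ω] [IsAlgClosed Ω] [Algebra K Ω] (K' : Type u) [Field K'] [Algebra K K']
    [FiniteDimensional K K'] [Algebra.IsSeparable K K'] (ι : K' →ₐ[K] Ω) (e : K' ⊗[K] A)
    (he : IsSeparable K e) :
    Algebra.TensorProduct.map ι (AlgHom.id K A) e ∈ W K Ω A := by
  classical
  let b := Module.finBasis K K'
  let bd := (Algebra.traceForm K K').dualBasis (traceForm_nondegenerate K K') b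
  obtain ⟨a, rfl⟩ : ∃ a : Fin (Module.finrank K K') → A, e = ∑ j, b j ⊗ₜ a j := by
    clear he
    induction e using TensorProduct.induction_on with
    | zero => exact ⟨0, by simp⟩
    | tmul x y =>
      refine ⟨fun j => b.repr x j • y, ?_⟩
      conv_lhs => rw [← b.sum_repr x, TensorProduct.sum_tmul]
      exact Finset.sum_congr rfl fun j _ => by rw [TensorProduct.smul_tmul]
    | add u v hu hv =>
      obtain ⟨a, rfl⟩ := hu
      obtain ⟨c, rfl⟩ := hv
      exact ⟨a + c, by simp [TensorProduct.tmul_add, Finset.sum_add_distrib]⟩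
  have ha : ∀ j, a j ∈ separableElements K A := fun j => by
    have h1 : ((1 : Ω) ⊗ₜ[K] a j) = ∑ σ : K' →ₐ[K] Ω,
        (σ (bd j) ⊗ₜ[K] (1 : A)) * Algebra.TensorProduct.map σ (AlgHom.id K A) (∑ i, b i ⊗ₜ a i) := by
      symm
      simp only [map_sum, Algebra.TensorProduct.map_tmul, AlgHom.id_apply, Finset.mul_sum,
        Algebra.TensorProduct.tmul_mul_tmul, one_mul, ← map_mul]
      rw [Finset.sum_comm]
      simp only [← TensorProduct.sum_tmul, ← trace_eq_sum_embeddings Ω]
      rw [Finset.sum_eq_single j]
      · have := (Algebra.traceForm K K').apply_dualBasis_left (traceForm_nondegenerate K K') b j j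
        rw [Algebra.traceForm_apply, if_pos rfl] at this
        rw [this, map_one]
      · intro i _ hi
        have := (Algebra.traceForm K K').apply_dualBasis_left (traceForm_nondegenerate K K') b j i
        rw [Algebra.traceForm_apply, if_neg hi] at this
        rw [this, map_zero, TensorProduct.zero_tmul]
      · simp
    have h2 : IsSeparable K ((1 : Ω) ⊗ₜ[K] a j) := by
      rw [← mem_separableElements, h1]
      exact sum_mem fun σ _ => mul_mem
        (isSeparable_map ((Algebra.TensorProduct.includeLeft : Ω →ₐ[K] Ω ⊗[K] A).comp σ) (Algebra.IsSeparable.isSeparable K (bd j)))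
        (isSeparable_map _ he)
    rw [mem_separableElements]
    unfold IsSeparable at h2 ⊢
    rwa [← minpoly.algHom_eq (Algebra.TensorProduct.includeRight : A →ₐ[K] Ω ⊗[K] A)
      (Algebra.TensorProduct.includeRight_injective (algebraMap K Ω).injective) (a j)]
  rw [map_sum]
  refine sum_mem fun j _ => ?_
  rw [Algebra.TensorProduct.map_tmul, AlgHom.id_apply, ← mul_one (ι (b j)), ← smul_eq_mul, ← TensorProduct.smul_tmul']
  exact Submodule.smul_mem _ _ (Submodule.subset_span ⟨a j, ha j, rfl⟩)

theorem idempotent_mem_W_aux (Ks : Type u) [Field Ks] [Algebra K Ks] [IsSepClosed Ks] [Algebra.IsSeparable K Ks]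
    {Ω : Type u} [Field Ω] [IsAlgClosed Ω] [Algebra K Ω] [Algebra Ks Ω] [IsScalarTower K Ks Ω] {e : Ω ⊗[K] A}
    (he : IsIdempotentElem e) : e ∈ W K Ω A := by
  classical
  let i : Ks →ₐ[K] Ω := IsScalarTower.toAlgHom K Ks Ω
  let Φ : (Ks ⊗[K] A) ⊗[Ks] Ω ≃ₐ[Ks] Ω ⊗[K] A :=
    (Algebra.TensorProduct.comm Ks (Ks ⊗[K] A) Ω).trans (Algebra.TensorProduct.cancelBaseChange K Ks Ks Ω A)
  haveI : ConnectedSpace (PrimeSpectrum Ω) := by
    rw [Groth.Agent.CAlg6.connectedSpace_iff_idempotent]
    exact ⟨inferInstance, fun x hx => IsIdempotentElem.iff_eq_zero_or_one.1 hx⟩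
  obtain ⟨e0, ⟨he0, he0e⟩, -⟩ := Groth.Agent.CAlg6.existsUnique_idempotent Ks (Ks ⊗[K] A) Ω
    (fun p => Groth.Agent.CAlg6.connectedSpace_baseChange_of_isSepClosed Ks Ω p.asIdeal.ResidueField)
    (Φ.symm e) (he.map _)
  have heq : e = Algebra.TensorProduct.map i (AlgHom.id K A) e0 := by
    have h := congrArg Φ he0e
    rw [AlgEquiv.apply_symm_apply] at h
    rw [← h]
    clear h he0e he0
    induction e0 using TensorProduct.induction_on with
    | zero => simp
    | tmul x y =>
      simp [Φ, i, Algebra.TensorProduct.algebraMap_apply, Algebra.smul_def]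
    | add u v hu hv => simp only [map_add, hu, hv]
  obtain ⟨s, hs⟩ := TensorProduct.exists_finset e0
  let K' : IntermediateField K Ks := IntermediateField.adjoin K (↑(s.image Prod.fst) : Set Ks)
  haveI : FiniteDimensional K K' :=
    IntermediateField.finiteDimensional_adjoin fun x _ => (Algebra.IsSeparable.isSeparable K x).isIntegral
  let e1 : K' ⊗[K] A := ∑ p ∈ s.attach,
    (⟨p.1.1, IntermediateField.subset_adjoin K _ (Finset.mem_image_of_mem _ p.2)⟩ : K') ⊗ₜ p.1.2
  have hinj : Function.Injective (Algebra.TensorProduct.map K'.val (AlgHom.id K A)) :=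
    Module.Flat.rTensor_preserves_injective_linearMap (M := A) K'.val.toLinearMap Subtype.val_injective
  have he1 : Algebra.TensorProduct.map K'.val (AlgHom.id K A) e1 = e0 := by
    rw [hs, map_sum, ← s.sum_attach]
    rfl
  have hidem : IsIdempotentElem e1 := hinj (by rw [map_mul, he1, he0.eq])
  have := mem_W_of_sep K' (i.comp K'.val) e1 (isSeparable_of_idempotent hidem)
  rw [heq, ← he1]
  have hc : ∀ w, Algebra.TensorProduct.map i (AlgHom.id K A) (Algebra.TensorProduct.map K'.val (AlgHom.id K A) w) =
      Algebra.TensorProduct.map (i.comp K'.val) (AlgHom.id K A) w := fun w => by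
    induction w using TensorProduct.induction_on with
    | zero => simp
    | tmul x y => simp
    | add u v hu hv => simp only [map_add, hu, hv]
  rw [hc]
  exact this

theorem idempotent_mem_W {Ω : Type u} [Field Ω] [IsAlgClosed Ω] [Algebra K Ω] {e : Ω ⊗[K] A}
    (he : IsIdempotentElem e) : e ∈ W K Ω A := by
  let i : SeparableClosure K →ₐ[K] Ω := IsAlgClosed.lift
  letI : Algebra (SeparableClosure K) Ω := i.toRingHom.toAlgebra
  haveI : IsScalarTower K (SeparableClosure K) Ω := IsScalarTower.of_algHom i
  exact idempotent_mem_W_aux (SeparableClosure K) he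

theorem separable_mem_W {L : Type u} [Field L] [Algebra K L] {z : L ⊗[K] A} (hz : IsSeparable L z) :
    z ∈ W K L A := by
  classical
  let Ω := AlgebraicClosure L
  let ψ : L ⊗[K] A →ₐ[L] Ω ⊗[K] A :=
    Algebra.TensorProduct.map (IsScalarTower.toAlgHom L L Ω) (AlgHom.id K A)
  let z' := ψ z
  let f := (minpoly L z).map (algebraMap L Ω)
  have hf : f.Separable := Polynomial.Separable.map hz
  have hfz : aeval z' f = 0 := by
    rw [aeval_map_algebraMap, aeval_algHom_apply, minpoly.aeval, map_zero]
  let r := f.roots.toFinset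
  have hnd : f.roots.Nodup := nodup_roots hf
  have hfprod : f ∣ ∏ α ∈ r, (X - C α) := by
    have hm : f.Monic := (minpoly.monic (hz.isIntegral)).map _
    have := Polynomial.Splits.eq_prod_roots_of_monic (IsAlgClosed.splits f) hm
    nth_rw 1 [this]
    rw [Finset.prod_eq_multiset_prod, Multiset.toFinset_val, hnd.dedup]
  have hvanish : ∀ g : Polynomial Ω, (∀ α ∈ r, g.eval α = 0) → aeval z' g = 0 := fun g hg => by
    have h1 : (∏ α ∈ r, (X - C α)) ∣ g :=
      Finset.prod_dvd_of_coprime
        (fun α _ β _ hne => (Polynomial.pairwise_coprime_X_sub_C (s := id) Function.injective_id hne))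
        fun α hα => dvd_iff_isRoot.2 (hg α hα)
    obtain ⟨q, hq⟩ := hfprod.trans h1
    rw [hq, map_mul, hfz, zero_mul]
  let ℓ : Ω → Polynomial Ω := fun α => Lagrange.basis r id α
  have hev : ∀ α ∈ r, ∀ β ∈ r, (ℓ α).eval β = if α = β then 1 else 0 := fun α hα β hβ => by
    split_ifs with h
    · subst h; exact Lagrange.eval_basis_self (Function.injective_id.injOn) hα
    · exact Lagrange.eval_basis_of_ne (v := id) h hβ
  have hidem : ∀ α ∈ r, IsIdempotentElem (aeval z' (ℓ α)) := fun α hα => by
    rw [IsIdempotentElem, ← sub_eq_zero, ← map_mul, ← map_sub]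
    refine hvanish _ fun β hβ => ?_
    rw [eval_sub, eval_mul, hev α hα β hβ]
    split_ifs <;> simp
  have hz' : z' = ∑ α ∈ r, α • aeval z' (ℓ α) := by
    have h0 := hvanish (X - ∑ α ∈ r, C α * ℓ α) fun β hβ => by
      rw [eval_sub, eval_X, eval_finsetSum, Finset.sum_eq_single β]
      · rw [eval_mul, eval_C, hev β hβ β hβ, if_pos rfl, mul_one, sub_self]
      · intro α hα hne
        rw [eval_mul, hev α hα β hβ, if_neg hne, mul_zero]
      · exact fun h => absurd hβ h
    rw [map_sub, aeval_X, sub_eq_zero, map_sum] at h0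
    conv_lhs => rw [h0]
    exact Finset.sum_congr rfl fun α _ => by rw [map_mul, aeval_C, ← Algebra.smul_def]
  have hW : z' ∈ W K Ω A := by
    rw [hz']
    exact sum_mem fun α hα => Submodule.smul_mem _ _ (idempotent_mem_W (hidem α hα))
  -- descend
  let S : Submodule K A := (separableElements K A).toSubmodule
  have h0 : S.mkQ.lTensor Ω z' = 0 := by
    have hall : ∀ w ∈ W K Ω A, S.mkQ.lTensor Ω w = 0 := fun w hw => by
      induction hw using Submodule.span_induction with
      | mem w hw =>
        obtain ⟨a, ha, rfl⟩ := hw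
        rw [Algebra.TensorProduct.includeRight_apply, LinearMap.lTensor_tmul, Submodule.mkQ_apply,
          (Submodule.Quotient.mk_eq_zero S).2 ha, TensorProduct.tmul_zero]
      | zero => exact map_zero _
      | add u v _ _ hu hv => rw [map_add, hu, hv, add_zero]
      | smul c u _ hu =>
        have hsm : ∀ u, S.mkQ.lTensor Ω (c • u) = c • S.mkQ.lTensor Ω u := fun u => by
          induction u using TensorProduct.induction_on with
          | zero => simp
          | tmul x y => simp [TensorProduct.smul_tmul']
          | add u v hu hv => simp only [smul_add, map_add, hu, hv]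
        rw [hsm, hu, smul_zero]
    exact hall z' hW
  have hnat : ∀ w, (IsScalarTower.toAlgHom K L Ω).toLinearMap.rTensor (A ⧸ S) (S.mkQ.lTensor L w) =
      S.mkQ.lTensor Ω (ψ w) := fun w => by
    induction w using TensorProduct.induction_on with
    | zero => simp
    | tmul x y => simp [ψ]
    | add u v hu hv => simp only [map_add, hu, hv]
  have h1 : S.mkQ.lTensor L z = 0 := by
    apply Module.Flat.rTensor_preserves_injective_linearMap (M := A ⧸ S)
      (IsScalarTower.toAlgHom K L Ω).toLinearMap (algebraMap L Ω).injective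
    rw [map_zero, ← h0]
    exact hnat z
  obtain ⟨w, hw⟩ := (lTensor_exact L (LinearMap.exact_subtype_mkQ S) S.mkQ_surjective z).1 h1
  rw [← hw]
  clear hw h1
  induction w using TensorProduct.induction_on with
  | zero => simp
  | tmul x y =>
    rw [LinearMap.lTensor_tmul, ← mul_one x, ← smul_eq_mul, ← TensorProduct.smul_tmul']
    exact Submodule.smul_mem _ _ (Submodule.subset_span ⟨(y : A), y.2, rfl⟩)
  | add u v hu hv => rw [map_add]; exact add_mem hu hv


/-- Let L/K be a field extension and A a K-algebra. Then the largest weakly etale L-subalgebra of L ⊗_K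
A is the L-subalgebra generated by the image of the largest weakly etale K-subalgebra of A. -/
theorem result (K L : Type u) [Field K] [Field L] [Algebra K L] (A : Type u) [CommRing A] [Algebra K A] :
    EtAlgD.maxWeaklyEtale L (L ⊗[K] A) =
      Algebra.adjoin L ((Algebra.TensorProduct.includeRight : A →ₐ[K] L ⊗[K] A) '' (EtAlgD.maxWeaklyEtale K A : Set A)) := by
  rw [Groth.Agent.WE24.maxWeaklyEtale_eq, Groth.Agent.WE24.maxWeaklyEtale_eq]
  refine le_antisymm (fun z hz => ?_) (Algebra.adjoin_le ?_)
  · exact Algebra.span_le_adjoin L _ (separable_mem_W hz)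
  · rintro _ ⟨a, ha, rfl⟩
    refine Polynomial.Separable.of_dvd (f := (minpoly K a).map (algebraMap K L))
      (Polynomial.Separable.map (show (minpoly K a).Separable from ha)) (minpoly.dvd L _ ?_)
    rw [Polynomial.aeval_map_algebraMap, Polynomial.aeval_algHom_apply, minpoly.aeval, map_zero]

end Groth.Agent.S1978
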