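import Groth.Prelude.Def_HMNum
import Groth.Prelude.Def_GLinSh
import Groth.Prelude.Def_AlgGrp
import Groth.Prelude.Def_Red
import Mathlib.AlgebraicGeometry.Morphisms.Proper
import Mathlib.FieldTheory.IsAlgClosed.Basic
import Groth.Agent.Mu99.Parab

-- import your own Groth.Agent.* helpers here

set_option autoImplicit false
universe u
open CategoryTheory MonoidalCategory CartesianMonoidalCategory MonObj AlgebraicGeometry Opposite
open GIT

namespace Groth.Agent.S19787

/-- Let k be an algebraically closed field, G an algebraic group over k (a smooth group scheme of finite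
type over k) acting by σ on a scheme X proper over k, L a G-linearised line bundle on X in
total-space form, x a k-point of X, λ : 𝔾_m → G a one-parameter subgroup, and y the specialization
of λ(u)·x as u → 0 (the value at the origin of the 𝔾_m-equivariant extension to the affine line of
the orbit map u ↦ λ(u)·x). Then μ^L(x, λ) = μ^L(y, λ): the numerical function (the limit exists and
𝔾_m acts on the fibre of L over it with exponent m) takes the same values at (x, λ) and at the fixed
point (y, λ). -/
theorem result (k : Type u) [Field k] [IsAlgClosed k]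
    (G X : Over (Spec (CommRingCat.of k))) [GrpObj G] [Smooth G.hom] [QuasiCompact G.hom] [IsProper X.hom]
    (a : AlgGrp.Action G X) (B : GLinSh.LinBun G a) (x : 𝟙_ (Over (Spec (CommRingCat.of k))) ⟶ X)
    (l : Red.Gm (Spec (CommRingCat.of k)) ⟶ G) [IsMonHom l] (y : 𝟙_ (Over (Spec (CommRingCat.of k))) ⟶ X) (hy : HMNum.IsLimitPt a l x y)
    (m : ℤ) : HMNum.IsMu B l x m ↔ HMNum.IsMu B l y m := by
  constructor
  · rintro ⟨y₀, hy₀, hw⟩
    obtain rfl := Groth.Agent.Mu99.limit_unique l hy hy₀
    exact ⟨y, Groth.Agent.Mu99.isLimitPt_self l hw.1, hw⟩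
  · rintro ⟨z, hz, hw⟩
    obtain rfl := Groth.Agent.Mu99.limit_unique l
      (Groth.Agent.Mu99.isLimitPt_self l (Groth.Agent.Mu99.isFixedBy_of_isLimitPt l hy)) hz
    exact ⟨y, hy, hw⟩

end Groth.Agent.S19787
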