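import Groth.Statements.S19790
import Groth.Agent.GIT36.OnePS.Conj
import Groth.Agent.GIT36.OnePS.Bound
import Groth.Agent.GIT36.PropAct.StabFinite
import Groth.Agent.S19786

set_option autoImplicit false
universe u
open CategoryTheory MonoidalCategory CartesianMonoidalCategory MonObj AlgebraicGeometry Opposite
open GIT

namespace Groth.Agent.S19790

/-- Let k be an algebraically closed field, G a connected reductive algebraic group over k, i : T → G a
maximal torus, X a scheme proper over k on which G acts by σ, and L an ample G-linearised line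
bundle on X in total-space form. Fix a norm on one-parameter subgroups as for the flag complex: a
symmetric biadditive form b on the one-parameter subgroups of T (a group under pointwise product)
with rational values, positive on every non-trivial one-parameter subgroup, and a real function ‖·‖
on the one-parameter subgroups of G such that for every one-parameter subgroup λ of T and every
k-point γ of G the conjugate u ↦ γ·i(λ(u))·γ⁻¹ has ‖γ·(i∘λ)·γ⁻¹‖ ≥ 0 and ‖γ·(i∘λ)·γ⁻¹‖² = b(λ, λ)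
(every one-parameter subgroup of G is conjugate under G(k) to one of T, so this determines ‖·‖ on
all of them; consistency forces b to be invariant under the Weyl group, and such forms exist). Then
there is a constant K such that |μ^L(x, λ)| ≤ K·‖λ‖ for every k-point x of X and every one-parameter
subgroup λ of G: whenever the numerical function of x at λ (the limit of λ(u)·x as u → 0 exists and
𝔾_m acts on the fibre of L over it with exponent m) takes the value m, |m| ≤ K·‖λ‖. In other words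
the normalised function ν^L(x, λ) = μ^L(x, λ)/‖λ‖ is bounded in absolute value, uniformly in x and
λ. (The published statement is for any reductive G; this row takes G connected.) -/
theorem result (k : Type u) [Field k] [IsAlgClosed k]
    (G X T : Over (Spec (CommRingCat.of k))) [GrpObj G] [GrpObj T] (hG : Red.IsReductive G)
    (i : T ⟶ G) [IsMonHom i] (hi : Red.IsMaximalTorus i) [IsProper X.hom]
    (a : AlgGrp.Action G X) (B : GLinSh.LinBun G a) (hB : HMNum.AmpleCover B)
    (b : (Red.Gm (Spec (CommRingCat.of k)) ⟶ T) → (Red.Gm (Spec (CommRingCat.of k)) ⟶ T) → ℚ)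
    (hb_add : ∀ (l₁ l₂ l₃ : Red.Gm (Spec (CommRingCat.of k)) ⟶ T) [IsMonHom l₁] [IsMonHom l₂] [IsMonHom l₃],
      b (l₁ * l₂) l₃ = b l₁ l₃ + b l₂ l₃)
    (hb_symm : ∀ (l₁ l₂ : Red.Gm (Spec (CommRingCat.of k)) ⟶ T) [IsMonHom l₁] [IsMonHom l₂], b l₁ l₂ = b l₂ l₁)
    (hb_pos : ∀ (l : Red.Gm (Spec (CommRingCat.of k)) ⟶ T) [IsMonHom l], l ≠ 1 → 0 < b l l)
    (nrm : (Red.Gm (Spec (CommRingCat.of k)) ⟶ G) → ℝ)
    (hnrm : ∀ (l : Red.Gm (Spec (CommRingCat.of k)) ⟶ T) [IsMonHom l] (g : 𝟙_ (Over (Spec (CommRingCat.of k))) ⟶ G),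
      0 ≤ nrm ((toUnit _ ≫ g) * (l ≫ i) * (toUnit _ ≫ g)⁻¹) ∧
        nrm ((toUnit _ ≫ g) * (l ≫ i) * (toUnit _ ≫ g)⁻¹) ^ 2 = ((b l l : ℚ) : ℝ)) :
    ∃ K : ℝ, ∀ (x : 𝟙_ (Over (Spec (CommRingCat.of k))) ⟶ X) (l : Red.Gm (Spec (CommRingCat.of k)) ⟶ G) [IsMonHom l] (m : ℤ),
      HMNum.IsMu B l x m → |(m : ℝ)| ≤ K * nrm l := by
  haveI : IsAffineHom G.hom := hG.1
  haveI : Smooth G.hom := hG.2.1
  haveI : IsAffine G.left := isAffine_of_isAffineHom G.hom
  haveI : ConnectedSpace G.left := Groth.Agent.GIT36.PropAct.connectedSpace_of_isReductive G hG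
  obtain ⟨n, ℓ, hadd, hmax⟩ := Groth.Agent.GIT36.Mu.exists_functionals hi.2.2.1 i a B hB
  choose K hK0 hK using fun j => Groth.Agent.GIT36.OnePS.exists_bound hi.2.2.1 b hb_add hb_symm hb_pos (ℓ j)
    (hadd j)
  refine ⟨∑ j, K j, fun x l _ m hm => ?_⟩
  obtain ⟨g, φ, hφ, hconj⟩ := Groth.Agent.GIT36.OnePS.exists_conj_into_maxTorus G
    (Groth.Agent.GIT36.OnePS.isMaxTorus_of_isMaximalTorus hi) (Groth.Agent.GMod80.isTorus_Gm _) l
  have hl : l = (toUnit _ ≫ g⁻¹)⁻¹ * (φ ≫ i) * (toUnit _ ≫ g⁻¹) := by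
    rw [← hconj, GrpObj.comp_inv, _root_.inv_inv]
  have h1 := (Groth.Agent.S19786.result k G X a B x (φ ≫ i) g⁻¹ l hl m).mpr hm
  obtain ⟨I, hI⟩ := hmax (lift g⁻¹ x ≫ a.act)
  obtain ⟨j, -, hj, -⟩ := (hI φ m).mp h1
  obtain ⟨hn0, hn2⟩ := hnrm φ g
  rw [show (toUnit _ ≫ g) * (φ ≫ i) * (toUnit _ ≫ g)⁻¹ = l from hconj] at hn0 hn2
  have hs : Real.sqrt ((b φ φ : ℚ) : ℝ) = nrm l := by rw [← hn2, Real.sqrt_sq hn0]
  have h2 := hK j φ
  rw [hs, ← hj, Rat.cast_intCast] at h2
  exact h2.trans (mul_le_mul_of_nonneg_right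
    (Finset.single_le_sum (f := K) (fun j _ => hK0 j) (Finset.mem_univ j)) hn0)

end Groth.Agent.S19790
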