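import Groth.Prelude.Def_HMNum
import Groth.Prelude.Def_GLinSh
import Groth.Prelude.Def_AlgGrp
import Groth.Prelude.Def_Red
import Mathlib.AlgebraicGeometry.Morphisms.Proper
import Mathlib.FieldTheory.IsAlgClosed.Basic
import Mathlib.Data.Real.Basic
import Mathlib.Algebra.Order.AbsoluteValue.Basic
import Groth.Agent.Mu99.Basic

set_option autoImplicit false
universe u
open CategoryTheory MonoidalCategory CartesianMonoidalCategory MonObj AlgebraicGeometry Opposite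

namespace Groth.Agent.S19791

variable {S : Scheme.{u}} {G : Over S} [GrpObj G]

theorem isMonHom_conj (l : Red.Gm S ⟶ G) [IsMonHom l] (g : 𝟙_ (Over S) ⟶ G) :
    IsMonHom ((toUnit (Red.Gm S) ≫ g) * l * (toUnit (Red.Gm S) ≫ g)⁻¹) := by
  have hc : ∀ {Z : Over S} (f : Z ⟶ Red.Gm S),
      f ≫ ((toUnit (Red.Gm S) ≫ g) * l * (toUnit (Red.Gm S) ≫ g)⁻¹) =
        (toUnit Z ≫ g) * (f ≫ l) * (toUnit Z ≫ g)⁻¹ := fun {Z} f => by
    rw [MonObj.comp_mul, MonObj.comp_mul, GrpObj.comp_inv, ← Category.assoc f,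
      toUnit_unique (f ≫ toUnit _) (toUnit Z)]
  constructor
  · rw [hc, IsMonHom.one_hom l, show η[G] = (1 : 𝟙_ (Over S) ⟶ G) by
      rw [Hom.one_def, toUnit_unique (toUnit _) (𝟙 _), Category.id_comp]]
    group
  · rw [hc, ← lift_fst_comp_snd_comp, ← Hom.mul_def, hc, hc, IsMonHom.mul_hom l,
      ← lift_fst_comp_snd_comp, ← Hom.mul_def]
    group

theorem result (k : Type u) [Field k] [IsAlgClosed k]
    (G X : Over (Spec (CommRingCat.of k))) [GrpObj G] (hG : Red.IsReductive G) [IsProper X.hom]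
    (a : AlgGrp.Action G X) (B : GLinSh.LinBun G a) (hB : HMNum.AmpleCover B)
    (nrm : (Red.Gm (Spec (CommRingCat.of k)) ⟶ G) → ℝ)
    (hnrm : ∀ (l : Red.Gm (Spec (CommRingCat.of k)) ⟶ G) [IsMonHom l] (g : 𝟙_ (Over (Spec (CommRingCat.of k))) ⟶ G),
      nrm ((toUnit _ ≫ g) * l * (toUnit _ ≫ g)⁻¹) = nrm l)
    (x : 𝟙_ (Over (Spec (CommRingCat.of k))) ⟶ X) (g : 𝟙_ (Over (Spec (CommRingCat.of k))) ⟶ G) (q : ℝ) :
    (∃ (l : Red.Gm (Spec (CommRingCat.of k)) ⟶ G) (_ : IsMonHom l) (m : ℤ),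
        l ≠ 1 ∧ HMNum.IsMu B l (lift g x ≫ a.act) m ∧ q = (m : ℝ) / nrm l) ↔
      ∃ (l : Red.Gm (Spec (CommRingCat.of k)) ⟶ G) (_ : IsMonHom l) (m : ℤ),
        l ≠ 1 ∧ HMNum.IsMu B l x m ∧ q = (m : ℝ) / nrm l := by
  haveI : Subsingleton (𝟙_ (Over (Spec (CommRingCat.of k)))).left :=
    inferInstanceAs (Subsingleton (PrimeSpectrum k))
  have ex : lift g x ≫ a.act = x ≫ Mu99.tr a g := by
    rw [Mu99.comp_tr, toUnit_unique (toUnit _) (𝟙 _), Category.id_comp]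
  rw [ex]
  constructor
  · rintro ⟨l, hl, m, hne, hmu, rfl⟩
    set e := toUnit (Red.Gm (Spec (CommRingCat.of k))) ≫ g with he
    have h' := isMonHom_conj l g⁻¹
    rw [GrpObj.comp_inv, inv_inv, ← he] at h'
    refine ⟨e⁻¹ * l * e, h', m, fun h => hne ?_, (Mu99.isMu_tr_iff B (by rw [← he]; group) x m).1 hmu, ?_⟩
    · calc l = e * (e⁻¹ * l * e) * e⁻¹ := by group
        _ = 1 := by rw [h]; group
    · have := hnrm l g⁻¹
      rw [GrpObj.comp_inv, inv_inv, ← he] at this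
      rw [this]
  · rintro ⟨l, hl, m, hne, hmu, rfl⟩
    set e := toUnit (Red.Gm (Spec (CommRingCat.of k))) ≫ g with he
    have h' := isMonHom_conj l g
    rw [← he] at h'
    refine ⟨e * l * e⁻¹, h', m, fun h => hne ?_, (Mu99.isMu_tr_iff B (by rw [← he]; group) x m).2 hmu, by rw [hnrm l g]⟩
    calc l = e⁻¹ * (e * l * e⁻¹) * e := by group
      _ = 1 := by rw [h]; group

end Groth.Agent.S19791
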