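import Groth.Statements.S19799
import Groth.Agent.CAlg9.FinAlg
import Mathlib.RingTheory.TensorProduct.Maps
import Mathlib.RingTheory.TensorProduct.Pi

set_option autoImplicit false
universe u v w
open scoped TensorProduct
open CAlg

namespace Groth.Agent.S19799

/-- Let k be an algebraically closed field and A, B commutative k-algebras, each finite-dimensional as a
k-vector space. Then reduction commutes with tensor products: the kernel of the canonical surjection
A ⊗_k B ⟶ (A/nilradical A) ⊗_k (B/nilradical B) equals the nilradical of A ⊗_k B, so that this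
surjection induces an isomorphism (A ⊗_k B)_red ≅ A_red ⊗_k B_red and in particular A_red ⊗_k B_red
is reduced. -/
theorem result (k : Type u) [Field k]
    [IsAlgClosed k] (A : Type v) [CommRing A] [Algebra k A] [Module.Finite k A]
    (B : Type w) [CommRing B] [Algebra k B] [Module.Finite k B] :
    RingHom.ker (Algebra.TensorProduct.map (Ideal.Quotient.mkₐ k (nilradical A))
      (Ideal.Quotient.mkₐ k (nilradical B))).toRingHom = nilradical (A ⊗[k] B) := by
  classical
  have hAred := Groth.Agent.CAlg9.isReduced_quotient_nilradical (A := A)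
  have hBred := Groth.Agent.CAlg9.isReduced_quotient_nilradical (A := B)
  let eA : (A ⧸ nilradical A) ≃ₐ[k] ((A ⧸ nilradical A →ₐ[k] k) → k) := AlgEquiv.ofBijective _
    ⟨Groth.Agent.CAlg9.evalPi_injective, Groth.Agent.CAlg9.evalPi_surjective⟩
  let eB : (B ⧸ nilradical B) ≃ₐ[k] ((B ⧸ nilradical B →ₐ[k] k) → k) := AlgEquiv.ofBijective _
    ⟨Groth.Agent.CAlg9.evalPi_injective, Groth.Agent.CAlg9.evalPi_surjective⟩
  have := Groth.Agent.CAlg9.finite_algHom (k := k) (A := B ⧸ nilradical B)
  let := Fintype.ofFinite ((B ⧸ nilradical B) →ₐ[k] k)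
  let e := (Algebra.TensorProduct.congr eA eB).trans
    (Algebra.TensorProduct.piScalarRight k k ((A ⧸ nilradical A →ₐ[k] k) → k) _)
  have : IsReduced ((A ⧸ nilradical A) ⊗[k] (B ⧸ nilradical B)) :=
    isReduced_of_injective e.toAlgHom.toRingHom e.injective
  apply le_antisymm
  · show RingHom.ker (Algebra.TensorProduct.map (Ideal.Quotient.mkₐ k (nilradical A))
      (Ideal.Quotient.mkₐ k (nilradical B))) ≤ _
    rw [Algebra.TensorProduct.map_ker _ _ (Ideal.Quotient.mkₐ_surjective k _)
      (Ideal.Quotient.mkₐ_surjective k _),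
      show RingHom.ker (Ideal.Quotient.mkₐ k (nilradical A)) = nilradical A from
        Ideal.Quotient.mkₐ_ker k _,
      show RingHom.ker (Ideal.Quotient.mkₐ k (nilradical B)) = nilradical B from
        Ideal.Quotient.mkₐ_ker k _,
      sup_le_iff, Ideal.map_le_iff_le_comap, Ideal.map_le_iff_le_comap]
    exact ⟨fun x hx => mem_nilradical.mpr ((mem_nilradical.mp hx).map _),
      fun x hx => mem_nilradical.mpr ((mem_nilradical.mp hx).map _)⟩
  · intro x hx
    exact IsNilpotent.eq_zero ((mem_nilradical.mp hx).map _)

end Groth.Agent.S19799
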