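import Groth.Statements.S1980
import Groth.Agent.Sol23.Main

set_option autoImplicit false
universe u
open EtAlg

namespace Groth.Agent.S1980

/-- Suppose A -> B makes the discrete valuation ring B an extension of the discrete valuation ring A,
with B essentially of finite type over A, and write K ⊂ L for their fraction fields. Then there is a
finite extension K₁ of K which is a solution for A -> B: for every compositum M of L and K₁ and
every valuation subring W of M dominating B, the extension W ∩ K₁ -> W is weakly unramified with
separable (geometrically reduced, possibly transcendental) residue field extension (equivalently,
formally smooth for the adic topology). -/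
theorem result (A B K L : Type u) [CommRing A] [IsDomain A] [IsDiscreteValuationRing A]
    [CommRing B] [IsDomain B] [IsDiscreteValuationRing B] [Algebra A B] [IsLocalHom (algebraMap A B)]
    (hinj : Function.Injective (algebraMap A B))
    [Field K] [Field L] [Algebra A K] [IsFractionRing A K] [Algebra B L] [IsFractionRing B L]
    [Algebra K L] [Algebra A L] [IsScalarTower A K L] [IsScalarTower A B L] [Algebra.EssFiniteType A B] :
    ∃ (K₁ : Type u) (_ : Field K₁) (_ : Algebra K K₁) (_ : FiniteDimensional K K₁), EtRam.IsSolution B K L K₁ := by
  exact Groth.Agent.Sol23.solution_essFiniteType A B K L hinj

end Groth.Agent.S1980
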