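import Groth.Statements.S19801
import Groth.Agent.Var76.H0Growth

set_option autoImplicit false
universe u
open CategoryTheory CategoryTheory.Limits AlgebraicGeometry Asymptotics
open Variety

namespace Groth.Agent.S19801

open CategoryTheory

/-- Let X be a projective variety of dimension d over a field k, i.e. a geometrically integral scheme
proper over k admitting an ample invertible module, with dim X = d; let L be an invertible
O_X-module and F a coherent O_X-module. Then dim_k H^0(X, F ⊗ L^m) = O(m^d) as m → ∞. -/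
theorem result (k : Type u) [Field k] (X : Scheme.{u})
    [X.Over (Spec (CommRingCat.of k))] [IsIntegral X] [GeometricallyIntegral (X ↘ Spec (CommRingCat.of k))]
    [IsProper (X ↘ Spec (CommRingCat.of k))] (hproj : ∃ A : X.Modules, CohB1.IsAmple A)
    (d : ℕ) (hd : topologicalKrullDim X = d) (L : X.Modules) (hL : PicF.IsInvertible L)
    (F : X.Modules) (hF : Coh.IsCoh F) :
    (fun m : ℕ => (Module.finrank k (Coh.HH X (CohB1.tensorMod F (CohB1.tensorPow L m)) 0) : ℝ)) =O[Filter.atTop]
      (fun m : ℕ => (m : ℝ) ^ d) := by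
  obtain ⟨C, hC⟩ := Groth.Agent.Var76.Growth.exists_bound k hL F hF hd.le
  refine Asymptotics.IsBigO.of_bound ((C : ℝ) * 2 ^ d) (Filter.eventually_atTop.2 ⟨1, fun m hm => ?_⟩)
  have h1 : (((m + 1) ^ d : ℕ) : ℝ) ≤ 2 ^ d * (m : ℝ) ^ d := by
    push_cast
    rw [← mul_pow]
    have : (1 : ℝ) ≤ m := by exact_mod_cast hm
    exact pow_le_pow_left₀ (by positivity) (by linarith) d
  have h2 : ((Groth.Agent.Var76.Growth.h0 k L F m : ℕ) : ℝ) ≤ (C : ℝ) * (((m + 1) ^ d : ℕ) : ℝ) := by
    exact_mod_cast hC m
  rw [Real.norm_natCast, Real.norm_of_nonneg (by positivity), mul_assoc]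
  exact h2.trans (mul_le_mul_of_nonneg_left h1 (Nat.cast_nonneg C))

end Groth.Agent.S19801
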