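import Groth.Statements.S19804
import Groth.Agent.Azu26.Basic
import Mathlib.RingTheory.Spectrum.Prime.Topology
import Mathlib.RingTheory.Flat.Basic
import Mathlib.RingTheory.Ideal.IdempotentFG
import Mathlib.RingTheory.Nilpotent.Lemmas

set_option autoImplicit false
open scoped TensorProduct
universe u v w
open Brauer

namespace Groth.Agent.S19804

/-- Let R be a commutative ring with Spec R connected, A an Azumaya R-algebra and e an idempotent
element of A. If for some nonzero commutative R-algebra R' the element 1 ⊗ e of R' ⊗_R A is 0, then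
e = 0; and if 1 ⊗ e = 1 in R' ⊗_R A, then e = 1. (The published statement is for an Azumaya algebra
over a connected scheme S and base change to an arbitrary nonempty S-scheme T; this row takes S and
T affine.) -/
theorem result {R : Type u} [CommRing R]
    [ConnectedSpace (PrimeSpectrum R)] {A : Type v} [Ring A] [Algebra R A] [IsAzumaya R A]
    (e : A) (he : IsIdempotentElem e) (R' : Type w) [CommRing R'] [Nontrivial R'] [Algebra R R'] :
    ((1 : R') ⊗ₜ[R] e = (0 : R' ⊗[R] A) → e = 0) ∧ ((1 : R') ⊗ₜ[R] e = (1 : R' ⊗[R] A) → e = 1) := by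
  obtain ⟨φ₁, hφ₁⟩ := Azu26.exists_functional_one R A
  -- the projector onto `A e` is an idempotent endomorphism of `A`
  have key : ∀ f : A, IsIdempotentElem f → (1 : R') ⊗ₜ[R] f = (0 : R' ⊗[R] A) → f = 0 := by
    intro f hf h0
    obtain ⟨n, φ, e', he'⟩ := Azu26.exists_dualBasis R A
    let I : Ideal R := Ideal.span (Set.range fun p : Fin n × Fin n => φ p.1 (f * e' p.2))
    have hmem : ∀ x, ∀ i, φ i (f * x) ∈ I := by
      intro x i
      rw [← he' x, Finset.mul_sum, map_sum]
      refine sum_mem fun j _ => ?_
      rw [mul_smul_comm, map_smul, smul_eq_mul]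
      exact I.mul_mem_left _ (Ideal.subset_span ⟨(i, j), rfl⟩)
    have hII : IsIdempotentElem I := by
      refine le_antisymm Ideal.mul_le_right (Ideal.span_le.2 ?_)
      rintro _ ⟨⟨i, j⟩, rfl⟩
      change φ i (f * e' j) ∈ I * I
      rw [← hf.eq, mul_assoc, ← he' (f * e' j), Finset.mul_sum, map_sum]
      refine sum_mem fun k _ => ?_
      rw [mul_smul_comm, map_smul, smul_eq_mul]
      exact Ideal.mul_mem_mul (hmem _ k) (hmem _ i)
    have hfg : I.FG := Submodule.fg_def.2 ⟨_, Set.finite_range _, rfl⟩
    obtain ⟨c, hc, hIc⟩ := (Ideal.isIdempotentElem_iff_of_fg I hfg).1 hII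
    have hclopen : IsClopen (PrimeSpectrum.zeroLocus {c}) :=
      PrimeSpectrum.isClopen_iff_zeroLocus.2 ⟨c, hc, rfl⟩
    have hc01 : c = 0 ∨ c = 1 := by
      rcases isClopen_iff.1 hclopen with h | h
      · right
        have hu : IsUnit c := by
          by_contra hu
          obtain ⟨m, hm, hcm⟩ := exists_max_ideal_of_mem_nonunits hu
          have : (⟨m, hm.isPrime⟩ : PrimeSpectrum R) ∈ PrimeSpectrum.zeroLocus {c} := by
            simpa using hcm
          rw [h] at this
          exact this
        exact (IsIdempotentElem.iff_eq_one_of_isUnit hu).1 hc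
      · left
        exact hc.eq_zero_of_isNilpotent (nilpotent_iff_mem_prime.2 fun p hp => by
          have : (⟨p, hp⟩ : PrimeSpectrum R) ∈ PrimeSpectrum.zeroLocus {c} := h ▸ trivial
          simpa using this)
    rcases hc01 with rfl | rfl
    · rw [← mul_one f, ← he' (f * 1)]
      refine Finset.sum_eq_zero fun i _ => ?_
      have := hmem 1 i
      rw [hIc, Submodule.span_singleton_eq_bot.2 rfl, Submodule.mem_bot] at this
      rw [this, zero_smul]
    · exfalso
      have h1 : (1 : R) ∈ I := by rw [hIc]; exact Submodule.mem_span_singleton_self _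
      have hker : I ≤ RingHom.ker (algebraMap R R') := by
        refine Ideal.span_le.2 ?_
        rintro _ ⟨⟨i, j⟩, rfl⟩
        have := congrArg (fun z => TensorProduct.rid R R' (LinearMap.lTensor R' (φ i) (z * ((1 : R') ⊗ₜ[R] e' j)))) h0
        simpa [Algebra.TensorProduct.tmul_mul_tmul, Algebra.algebraMap_eq_smul_one] using this
      have := hker h1
      simp [RingHom.mem_ker] at this
  refine ⟨key e he, fun h1 => ?_⟩
  have h := key (1 - e) he.one_sub (by rw [TensorProduct.tmul_sub, h1, Algebra.TensorProduct.one_def, sub_self])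
  exact (sub_eq_zero.1 h).symm

end Groth.Agent.S19804
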