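import Groth.Statements.S19809
import Groth.Agent.Curves2.BinaryForms
import Mathlib.LinearAlgebra.Dual.Lemmas
import Mathlib.Algebra.MvPolynomial.Nilpotent
import Mathlib.Algebra.MvPolynomial.NoZeroDivisors
import Mathlib.FieldTheory.IsAlgClosed.Basic

set_option autoImplicit false
universe u
open RatCurv

namespace Groth.Agent.S19809

/-- A smooth rational quintic curve C ⊂ P^3 has a one-parameter family of 3-secant lines. Stated, as for
the nondegenerate case, through binary forms: C is the image of P^1 under a 4-dimensional linear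
series V of binary quintic forms which separates every length-2 subscheme of P^1 (for every nonzero
quadratic form e, the forms of V together with the multiples of e span all quintic forms), so that
P^1 → P(V^*) = P^3 is a closed embedding; the linear forms on P^3 are the elements of V, a line L ⊂
P^3 is the 2-dimensional space of linear forms vanishing on it, and L ∩ C has length at least 3
exactly when that space is contained in g · K[s,t]_2 for a cubic form g. The conclusion: there are
infinitely many pairwise non-proportional nonzero cubic forms g with dim (V ∩ g · K[s,t]_2) ≥ 2,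
i.e. for every finite set of cubics there is such a g proportional to none of them. (The ground
field is algebraically closed of characteristic zero in place of the complex numbers; the third
printed assertion, on curves all of whose 3-secants are 4-secant, is not stated.) -/
theorem result (K : Type u) [Field K] [IsAlgClosed K]
    [CharZero K] (V : Submodule K (MvPolynomial (Fin 2) K))
    (hV : V ≤ MvPolynomial.homogeneousSubmodule (Fin 2) K 5) (hdim : Module.finrank K ↥V = 4)
    (hsep : ∀ e ∈ MvPolynomial.homogeneousSubmodule (Fin 2) K 2, e ≠ 0 →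
      ∀ F ∈ MvPolynomial.homogeneousSubmodule (Fin 2) K 5, ∃ v ∈ V,
        ∃ h ∈ MvPolynomial.homogeneousSubmodule (Fin 2) K 3, F = v + e * h)
    (F : Finset (MvPolynomial (Fin 2) K)) :
    ∃ g ∈ MvPolynomial.homogeneousSubmodule (Fin 2) K 3, g ≠ 0 ∧
      2 ≤ Module.finrank K ↥(V ⊓ (MvPolynomial.homogeneousSubmodule (Fin 2) K 2).map (LinearMap.mulLeft K g)) ∧
      ∀ g' ∈ F, ∀ c : K, g ≠ c • g' := by
  classical
  let H := fun n => MvPolynomial.homogeneousSubmodule (Fin 2) K n
  let V' : Submodule K ↥(H 5) := V.comap (H 5).subtype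
  have hV' : Module.finrank K ↥V' = 4 := (Submodule.comapSubtypeEquivOfLe hV).finrank_eq.trans hdim
  have hQ : Module.finrank K (↥(H 5) ⧸ V') = 2 := by
    have := Submodule.finrank_quotient_add_finrank V'
    rw [Curves2.finrank_forms, hV'] at this
    omega
  let ε := (Module.finBasisOfFinrankEq K _ hQ).equivFun
  let φ : K → (↥(H 5) →ₗ[K] K) := fun t =>
    (LinearMap.proj (R := K) (φ := fun _ : Fin 2 => K) 0 + t • LinearMap.proj 1) ∘ₗ ε.toLinearMap ∘ₗ V'.mkQ
  let m := Curves2.mulForms (K := K) 3 2 5 rfl
  -- a cubic cannot send all of `K[s,t]_2` into `V`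
  have key : ∀ g : ↥(H 3), g ≠ 0 → ¬ ∀ h, m g h ∈ V' := by
    intro g hg hgV
    have hg0 : g.1 ≠ 0 := fun e => hg (Subtype.ext e)
    have hgu : ¬ IsUnit g.1 := fun hu => by
      obtain ⟨c, -, hc⟩ := MvPolynomial.isUnit_iff_eq_C_of_isReduced.mp hu
      have h3 := g.2
      rw [MvPolynomial.mem_homogeneousSubmodule, hc] at h3
      have := h3.inj_right (MvPolynomial.isHomogeneous_C _ c) (hc ▸ hg0)
      omega
    obtain ⟨a, ha, hag⟩ := Curves2.exists_zero_ne_zero hgu
    let L : MvPolynomial (Fin 2) K := MvPolynomial.C (a 1) * MvPolynomial.X 0 - MvPolynomial.C (a 0) * MvPolynomial.X 1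
    have hLh : L.IsHomogeneous 1 :=
      (MvPolynomial.isHomogeneous_C_mul_X _ _).sub (MvPolynomial.isHomogeneous_C_mul_X _ _)
    have hL0 : L ≠ 0 := by
      intro h0
      apply ha
      funext i
      have h1 := congrArg (MvPolynomial.eval ![(1 : K), 0]) h0
      have h2 := congrArg (MvPolynomial.eval ![(0 : K), 1]) h0
      simp [L] at h1 h2
      fin_cases i <;> simp_all
    have hLirr : Irreducible L := by
      have hcu : ∀ p : MvPolynomial (Fin 2) K, p ≠ 0 → p.totalDegree = 0 → IsUnit p := by
        intro p hp hd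
        rw [MvPolynomial.totalDegree_eq_zero_iff_eq_C.mp hd] at hp ⊢
        exact (IsUnit.mk0 _ fun e => hp (by rw [e, map_zero])).map MvPolynomial.C
      refine ⟨fun hu => ?_, fun p q hpq => ?_⟩
      · have h := (hu.map (MvPolynomial.eval (0 : Fin 2 → K))).ne_zero
        simp [L] at h
      · have hd := hLh.totalDegree hL0
        rw [hpq] at hd hL0
        rw [MvPolynomial.totalDegree_mul_of_isDomain (left_ne_zero_of_mul hL0) (right_ne_zero_of_mul hL0)] at hd
        rcases (show p.totalDegree = 0 ∨ q.totalDegree = 0 by omega) with h | h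
        · exact .inl (hcu p (left_ne_zero_of_mul hL0) h)
        · exact .inr (hcu q (right_ne_zero_of_mul hL0) h)
    obtain ⟨P, hP, hPd⟩ := Curves2.exists_common_factor ![g.1, L] ![3, 1]
      (Fin.forall_fin_two.mpr ⟨g.2, hLh⟩) ha
      (Fin.forall_fin_two.mpr ⟨hag, by simp [L]; ring⟩)
    obtain ⟨w, hw⟩ := hPd 1
    have hLP : Associated L P := by
      rcases hLirr.isUnit_or_isUnit hw with h | h
      · exact absurd h hP
      · exact ⟨h.unit⁻¹, by rw [show L = P * w from hw, mul_assoc, IsUnit.mul_val_inv, mul_one]⟩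
    obtain ⟨q, hq⟩ := hLP.dvd.trans (hPd 0)
    let e := MvPolynomial.homogeneousComponent 2 q
    have hge : g.1 = L * e := by
      rw [← Curves2.homogeneousComponent_mul_left hLh, ← (show g.1 = L * q from hq)]
      rw [MvPolynomial.homogeneousComponent_of_mem g.2, if_pos rfl]
    have he : e ∈ H 2 := MvPolynomial.homogeneousComponent_mem 2 q
    have he0 : e ≠ 0 := fun h => hg0 (by rw [hge, h, mul_zero])
    let f : ↥(H 3) →ₗ[K] (↥(H 5) ⧸ V') := V'.mkQ ∘ₗ Curves2.mulForms (K := K) 2 3 5 rfl ⟨e, he⟩
    have hf : Function.Surjective f := by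
      intro z
      obtain ⟨⟨F5, hF5⟩, rfl⟩ := V'.mkQ_surjective z
      obtain ⟨v, hv, h3, hh3, hFv⟩ := hsep e he he0 F5 hF5
      refine ⟨⟨h3, hh3⟩, (Submodule.Quotient.eq V').mpr ?_⟩
      show e * h3 - F5 ∈ V
      rw [hFv, show e * h3 - (v + e * h3) = -v by ring]
      exact V.neg_mem hv
    have hk : Module.finrank K ↥(LinearMap.ker f) = 2 := by
      have := LinearMap.finrank_range_add_finrank_ker f
      rw [LinearMap.range_eq_top.mpr hf, finrank_top, hQ, Curves2.finrank_forms] at this
      omega
    let M : ↥(H 2) →ₗ[K] ↥(LinearMap.ker f) :=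
      (Curves2.mulForms (K := K) 1 2 3 rfl ⟨L, hLh⟩).codRestrict _ fun h => by
        rw [LinearMap.mem_ker]
        apply (Submodule.Quotient.mk_eq_zero V').mpr
        show e * (L * h.1) ∈ V
        rw [← mul_assoc, mul_comm e L, ← hge]
        exact hgV h
    have hM : Function.Injective M := fun x y h =>
      Subtype.ext (mul_left_cancel₀ hL0 (congrArg (fun z => z.1.1) h))
    have := LinearMap.finrank_le_finrank_of_injective hM
    rw [Curves2.finrank_forms, hk] at this
    omega
  have hex : ∀ t : K, ∃ g : ↥(H 3), g ≠ 0 ∧ ∀ h, φ t (m g h) = 0 := by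
    intro t
    let C : ↥(H 3) →ₗ[K] (↥(H 2) →ₗ[K] K) := (LinearMap.compRight K (φ t)).comp m
    have hC : ¬ Function.Injective C := fun h => by
      have := LinearMap.finrank_le_finrank_of_injective h
      rw [Module.finrank_linearMap_self, Curves2.finrank_forms, Curves2.finrank_forms] at this
      omega
    rw [← LinearMap.ker_eq_bot] at hC
    obtain ⟨g, hg, hg0⟩ := Submodule.exists_mem_ne_zero_of_ne_bot hC
    exact ⟨g, hg0, fun h => LinearMap.congr_fun (LinearMap.mem_ker.mp hg) h⟩
  choose g hg0 hg using hex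
  have hdim2 : ∀ t, 2 ≤ Module.finrank K ↥(V ⊓ (H 2).map (LinearMap.mulLeft K (g t).1)) := by
    intro t
    let ψ : (↥(H 5) ⧸ V') →ₗ[K] K :=
      (LinearMap.proj (R := K) (φ := fun _ : Fin 2 => K) 0 + t • LinearMap.proj 1) ∘ₗ ε.toLinearMap
    have hψ : Module.finrank K ↥(LinearMap.ker ψ) ≤ 1 := by
      have h1 := LinearMap.finrank_range_add_finrank_ker ψ
      have h2 : LinearMap.range ψ ≠ ⊥ := by
        intro h
        have := LinearMap.congr_fun (LinearMap.range_eq_bot.mp h) (ε.symm ![1, 0])
        simp [ψ] at this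
      have h3 : 0 < Module.finrank K ↥(LinearMap.range ψ) := by
        rw [Nat.pos_iff_ne_zero, Ne, Submodule.finrank_eq_zero]
        exact h2
      rw [hQ] at h1
      omega
    let A : ↥(H 2) →ₗ[K] ↥(LinearMap.ker ψ) :=
      (V'.mkQ ∘ₗ m (g t)).codRestrict _ fun h => hg t h
    have hA : 2 ≤ Module.finrank K ↥(LinearMap.ker A) := by
      have h1 := LinearMap.finrank_range_add_finrank_ker A
      have h2 := Submodule.finrank_le (LinearMap.range A)
      rw [Curves2.finrank_forms] at h1
      omega
    let B : ↥(LinearMap.ker A) →ₗ[K] ↥(V ⊓ (H 2).map (LinearMap.mulLeft K (g t).1)) :=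
      ((LinearMap.mulLeft K (g t).1) ∘ₗ (H 2).subtype ∘ₗ (LinearMap.ker A).subtype).codRestrict _ fun h =>
        ⟨(Submodule.Quotient.mk_eq_zero V').mp (congrArg Subtype.val (LinearMap.mem_ker.mp h.2)),
          Submodule.mem_map_of_mem h.1.2⟩
    have : Module.Finite K ↥(V ⊓ (H 2).map (LinearMap.mulLeft K (g t).1)) :=
      Module.Finite.of_injective (Submodule.inclusion (le_trans inf_le_left hV)) (Submodule.inclusion_injective _)
    exact hA.trans (LinearMap.finrank_le_finrank_of_injective (f := B) fun x y h =>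
      Subtype.ext (Subtype.ext (mul_left_cancel₀ (fun e => hg0 t (Subtype.ext e)) (congrArg Subtype.val h))))
  by_contra hcon
  push Not at hcon
  choose g' hg'F c hc using fun t => hcon (g t).1 (g t).2 (fun e => hg0 t (Subtype.ext e)) (hdim2 t)
  have hnfin : ¬ Function.Injective (fun t => (⟨g' t, hg'F t⟩ : ↥F)) := fun h =>
    (Finite.of_injective _ h).not_infinite inferInstance
  obtain ⟨s, t, hst, hne⟩ := Function.not_injective_iff.mp hnfin
  have hs0 : c s ≠ 0 := fun e => hg0 s (Subtype.ext ((hc s).trans (by rw [e, zero_smul]; rfl)))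
  have hst' : g' s = g' t := congrArg Subtype.val hst
  have hgts : g t = (c t / c s) • g s := Subtype.ext (by
    show (g t).1 = (c t / c s) • (g s).1
    rw [hc t, hc s, hst', smul_smul, div_mul_cancel₀ _ hs0])
  have hts : c t / c s ≠ 0 := fun e => hg0 t (by rw [hgts, e, zero_smul])
  refine key (g s) (hg0 s) fun h => ?_
  have e1 := hg s h
  have e2 := hg t h
  rw [hgts, map_smul, LinearMap.smul_apply, map_smul, smul_eq_mul, mul_eq_zero] at e2
  replace e2 := e2.resolve_left hts
  simp only [φ, LinearMap.comp_apply, LinearMap.add_apply, LinearMap.smul_apply, LinearMap.proj_apply,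
    smul_eq_mul] at e1 e2
  have hb : (ε (V'.mkQ (m (g s) h))) 1 = 0 := by
    have : (s - t) * (ε (V'.mkQ (m (g s) h))) 1 = 0 := by linear_combination e1 - e2
    exact (mul_eq_zero.mp this).resolve_left (sub_ne_zero.mpr hne)
  have ha' : (ε (V'.mkQ (m (g s) h))) 0 = 0 := by linear_combination e1 - s * hb
  have : ε (V'.mkQ (m (g s) h)) = 0 := funext (Fin.forall_fin_two.mpr ⟨ha', hb⟩)
  exact (Submodule.Quotient.mk_eq_zero V').mp ((LinearEquiv.map_eq_zero_iff ε).mp this)

end Groth.Agent.S19809
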