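import Groth.Prelude.Def_NoriFGS
import Groth.Prelude.Def_NonAbH2
import Groth.Prelude.Def_Red
import Groth.Prelude.Def_AlgGrp
import Groth.Prelude.Def_ChGrp
import Groth.Prelude.Def_ActBC
import Mathlib.AlgebraicGeometry.Morphisms.Flat
import Mathlib.AlgebraicGeometry.Morphisms.UnderlyingMap
import Mathlib.AlgebraicGeometry.Morphisms.Finite
import Mathlib.AlgebraicGeometry.Morphisms.ClosedImmersion
import Mathlib.CategoryTheory.Monoidal.Cartesian.Over
import Mathlib.CategoryTheory.Monoidal.Grp
import Groth.Agent.Nori99.Induced
-- import your own Groth.Agent.* helpers here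

set_option autoImplicit false
universe u
open CategoryTheory CategoryTheory.Limits MonoidalCategory CartesianMonoidalCategory MonObj GrpObj AlgebraicGeometry
open NoriFGS

namespace Groth.Agent.S19814

/-- Let X and Y be schemes over a field k with rational points x and y, each possessing a fundamental
group scheme with its universal pointed torsor, let f : X → Y be a k-morphism sending x to y, and
let φ be the homomorphism of fundamental group schemes induced by f. Then φ is trivial if and only
if, for every finite group scheme H over k and every H-torsor U over Y (locally trivial for the fpqc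
topology) pointed over y which is Nori-reduced, the pull-back of U to X is a trivial torsor, i.e. U
acquires a section over f. (The published statement quantifies over all Nori-reduced finite torsors
over Y; this row quantifies over those pointed over y, as the printed proof does: for unpointed
torsors the forward implication fails over a field that is not algebraically closed. The source's
standing convention for that chapter assumes the base field has characteristic p > 0; the printed
proof uses no characteristic hypothesis, so the row states it for any field.) -/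
theorem result
    (k : Type u) [Field k] (X Y : Scheme.{u})
    [X.Over (Spec (CommRingCat.of k))] [Y.Over (Spec (CommRingCat.of k))]
    (x : Spec (CommRingCat.of k) ⟶ X) (y : Spec (CommRingCat.of k) ⟶ Y)
    (hx : x ≫ (X ↘ Spec (CommRingCat.of k)) = 𝟙 _) (hy : y ≫ (Y ↘ Spec (CommRingCat.of k)) = 𝟙 _)
    (f : X ⟶ Y) (hf : f ≫ (Y ↘ Spec (CommRingCat.of k)) = X ↘ Spec (CommRingCat.of k)) (hfx : x ≫ f = y)
    (πX πY : Over (Spec (CommRingCat.of k))) [GrpObj πX] [GrpObj πY] (PX : Over X) (PY : Over Y)
    (aX : AlgGrp.Action (Red.bc (X ↘ Spec (CommRingCat.of k)) πX) PX)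
    (aY : AlgGrp.Action (Red.bc (Y ↘ Spec (CommRingCat.of k)) πY) PY)
    (pX : Spec (CommRingCat.of k) ⟶ PX.left) (pY : Spec (CommRingCat.of k) ⟶ PY.left)
    (hX : NoriFGS.IsFGS x πX aX pX) (hY : NoriFGS.IsFGS y πY aY pY)
    (φ : πX ⟶ πY) (hφ : NoriFGS.IsInducedHom f hf aX pX aY pY φ) :
    φ = toUnit πX ≫ η[πY] ↔
      ∀ (H : Over (Spec (CommRingCat.of k))) [GrpObj H] [IsFinite H.hom] (U : Over Y)
        (c : AlgGrp.Action (Red.bc (Y ↘ Spec (CommRingCat.of k)) H) U) (u : Spec (CommRingCat.of k) ⟶ U.left),
        NonAbH1.IsTorsorFor Scheme.fpqcPrecoverage c → u ≫ U.hom = y →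
        NoriFGS.IsNoriReduced Scheme.fpqcPrecoverage c → NonAbH1.HasSectionOver U f := by
  obtain ⟨pres⟩ := hY.1
  letI := pres.cat
  haveI := pres.cofiltered
  letI := pres.grp
  haveI := pres.finite
  have hφ' := hφ
  obtain ⟨_, -⟩ := hφ'
  constructor
  · intro h1 H _ _ U c u hc hu _
    obtain ⟨ψ, _, g, hg, -⟩ := hY.2.2.2 H U c u hc hu
    exact Nori99.hasSection_of_eq_one hφ h1 hX (hu.trans hfx.symm) hg
  · intro hsec
    refine pres.isLimit.hom_ext fun i => ?_
    show φ ≫ pres.π.app i = (toUnit πX ≫ η[πY]) ≫ pres.π.app i
    let πi : πY ⟶ pres.D.obj i := pres.π.app i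
    haveI : IsMonHom πi := pres.isMonHom_π i
    obtain ⟨G, _, _, em, _, _, ψ, _, T, b, t, g, hψ, hem, hT, ht, hg, hred⟩ :=
      Nori99.exists_reduced_image hy hY πi
    have h := Nori99.comp_eq_one hφ hx hX hT (ht.trans hfx.symm) hg (hsec G T b t hT ht hred)
    rw [show pres.π.app i = ψ ≫ em from hem.symm, reassoc_of% h, Category.assoc, ← Category.assoc η[πY],
      IsMonHom.one_hom, IsMonHom.one_hom, IsMonHom.one_hom]

end Groth.Agent.S19814
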