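import Groth.Prelude.Def_NoriFGS
import Groth.Prelude.Def_NonAbH2
import Groth.Prelude.Def_Red
import Groth.Prelude.Def_AlgGrp
import Groth.Prelude.Def_ChGrp
import Groth.Prelude.Def_ActBC
import Mathlib.AlgebraicGeometry.Morphisms.Flat
import Mathlib.AlgebraicGeometry.Morphisms.UnderlyingMap
import Mathlib.AlgebraicGeometry.Morphisms.Finite
import Mathlib.AlgebraicGeometry.Morphisms.ClosedImmersion
import Mathlib.CategoryTheory.Monoidal.Cartesian.Over
import Mathlib.CategoryTheory.Monoidal.Grp
import Groth.Agent.Nori99.Dominant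
import Groth.Agent.Nori99.Induced
-- import your own Groth.Agent.* helpers here

set_option autoImplicit false
universe u
open CategoryTheory CategoryTheory.Limits MonoidalCategory CartesianMonoidalCategory MonObj GrpObj AlgebraicGeometry
open NoriFGS

namespace Groth.Agent.S19815

/-- Let X and Y be schemes over a field k with rational points x and y, each possessing a fundamental
group scheme with its universal pointed torsor, let f : X → Y be a k-morphism sending x to y, and
let φ be the homomorphism of fundamental group schemes induced by f. Then φ is faithfully flat (flat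
and surjective) if and only if, for every finite group scheme H over k and every H-torsor U over Y
(locally trivial for the fpqc topology) pointed over y which is Nori-reduced, the pull-back U ×_Y X,
with the base-changed action read as an action of the base change of H to X, is a Nori-reduced
torsor over X. (The published statement quantifies over all Nori-reduced finite torsors over Y; this
row quantifies over those pointed over y, as the printed proof does. The source's standing
convention for that chapter assumes the base field has characteristic p > 0; the printed proof uses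
no characteristic hypothesis, so the row states it for any field.) -/
theorem result
    (k : Type u) [Field k] (X Y : Scheme.{u})
    [X.Over (Spec (CommRingCat.of k))] [Y.Over (Spec (CommRingCat.of k))]
    (x : Spec (CommRingCat.of k) ⟶ X) (y : Spec (CommRingCat.of k) ⟶ Y)
    (hx : x ≫ (X ↘ Spec (CommRingCat.of k)) = 𝟙 _) (hy : y ≫ (Y ↘ Spec (CommRingCat.of k)) = 𝟙 _)
    (f : X ⟶ Y) (hf : f ≫ (Y ↘ Spec (CommRingCat.of k)) = X ↘ Spec (CommRingCat.of k)) (hfx : x ≫ f = y)
    (πX πY : Over (Spec (CommRingCat.of k))) [GrpObj πX] [GrpObj πY] (PX : Over X) (PY : Over Y)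
    (aX : AlgGrp.Action (Red.bc (X ↘ Spec (CommRingCat.of k)) πX) PX)
    (aY : AlgGrp.Action (Red.bc (Y ↘ Spec (CommRingCat.of k)) πY) PY)
    (pX : Spec (CommRingCat.of k) ⟶ PX.left) (pY : Spec (CommRingCat.of k) ⟶ PY.left)
    (hX : NoriFGS.IsFGS x πX aX pX) (hY : NoriFGS.IsFGS y πY aY pY)
    (φ : πX ⟶ πY) (hφ : NoriFGS.IsInducedHom f hf aX pX aY pY φ) :
    (Flat φ.left ∧ Surjective φ.left) ↔
      ∀ (H : Over (Spec (CommRingCat.of k))) [GrpObj H] [IsFinite H.hom] (U : Over Y)
        (c : AlgGrp.Action (Red.bc (Y ↘ Spec (CommRingCat.of k)) H) U) (u : Spec (CommRingCat.of k) ⟶ U.left),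
        NonAbH1.IsTorsorFor Scheme.fpqcPrecoverage c → u ≫ U.hom = y →
        NoriFGS.IsNoriReduced Scheme.fpqcPrecoverage c →
        NoriFGS.IsNoriReduced Scheme.fpqcPrecoverage
          ((c.bc f).restrict (ActBC.bcCompIso f (Y ↘ Spec (CommRingCat.of k)) H hf).inv) := by
  haveI := Nori99.isAffineHom_of_isProFinite hX.1
  haveI := Nori99.isAffineHom_of_isProFinite hY.1
  haveI : IsAffine πX.left := isAffine_of_isAffineHom πX.hom
  haveI : IsAffine πY.left := isAffine_of_isAffineHom πY.hom
  obtain ⟨pres⟩ := hY.1
  letI := pres.cat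
  letI := pres.grp
  haveI := pres.finite
  have hφ' := hφ
  obtain ⟨_, -⟩ := hφ'
  haveI : IsAffineHom φ.left := isAffineHom_of_isAffine φ.left
  constructor
  · rintro ⟨_, _⟩ H _ _ U c u hc hu hred
    obtain ⟨ψ, _, g, hg, -⟩ := hY.2.2.2 H U c u hc hu
    obtain ⟨_, _⟩ := Nori99.dense_of_isNoriReduced hy hY hc hu hg hred
    haveI := Nori99.isSTD_of_flat_surjective φ.left
    obtain ⟨m, hm⟩ := Nori99.exists_induced_comp hφ hX.2.2.1 hg (hu.trans hfx.symm)
    exact Nori99.isNoriReduced_of_dense hx hX (ψ := φ ≫ ψ)
      ⟨inferInstanceAs (IsSchemeTheoreticallyDominant (φ.left ≫ ψ.left)), inferInstanceAs (QuasiCompact (φ.left ≫ ψ.left))⟩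
      (Nori99.isTorsorFor_pull hc) (pullback.lift_snd _ _ _) hm
  · intro hall
    refine Nori99.flat_surjective_of_injective φ (Nori99.injective_of_dense pres φ fun i => ?_)
    let πi : πY ⟶ pres.D.obj i := pres.π.app i
    haveI : IsMonHom πi := pres.isMonHom_π i
    obtain ⟨G, _, _, em, _, _, ψ, _, T, b, t, g, hψ, hem, hT, ht, hg, hred⟩ :=
      Nori99.exists_reduced_image hy hY πi
    obtain ⟨m, hm⟩ := Nori99.exists_induced_comp hφ hX.2.2.1 hg (ht.trans hfx.symm)
    exact ⟨G, ψ, em, hem, Nori99.dense_of_isNoriReduced hx hX (Nori99.isTorsorFor_pull hT) (pullback.lift_snd _ _ _) hm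
      (hall G T b t hT ht hred)⟩

end Groth.Agent.S19815
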