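import Groth.Prelude.Def_NoriFGS
import Groth.Prelude.Def_NonAbH2
import Groth.Prelude.Def_Red
import Groth.Prelude.Def_AlgGrp
import Groth.Prelude.Def_ChGrp
import Groth.Prelude.Def_ActBC
import Mathlib.AlgebraicGeometry.Morphisms.Flat
import Mathlib.AlgebraicGeometry.Morphisms.UnderlyingMap
import Mathlib.AlgebraicGeometry.Morphisms.Finite
import Mathlib.AlgebraicGeometry.Morphisms.ClosedImmersion
import Mathlib.CategoryTheory.Monoidal.Cartesian.Over
import Mathlib.CategoryTheory.Monoidal.Grp
import Mathlib.AlgebraicGeometry.Morphisms.Proper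
import Mathlib.AlgebraicGeometry.Morphisms.Smooth
import Mathlib.AlgebraicGeometry.Properties
import Mathlib.Topology.KrullDimension
import Mathlib.FieldTheory.IsAlgClosed.Basic
import Groth.Agent.Nori99.EssFinite
-- import your own Groth.Agent.* helpers here

set_option autoImplicit false
universe u
open CategoryTheory CategoryTheory.Limits MonoidalCategory CartesianMonoidalCategory MonObj GrpObj AlgebraicGeometry
open NoriFGS

namespace Groth.Agent.S19818

/-- Let k be an algebraically closed field, X a smooth, proper and integral curve over k (of dimension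
one) with a rational point x, and let π be a fundamental group scheme of (X, x) with its universal
pointed torsor P. Let G be a connected reductive group over k and F a G-torsor over X (for the base
change of G to X, locally trivial for the fppf topology). Then F is essentially finite, meaning that
it admits a reduction of structure group to a finite group scheme: there are a finite group scheme Γ
over k, a homomorphism ι : Γ → G and a Γ-torsor Q over X together with an ι-equivariant X-morphism Q
→ F (so that F is obtained from Q by extension of the structure group along ι), if and only if there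
is a homomorphism ρ : π → G together with a ρ-equivariant X-morphism P → F (F is obtained from the
universal torsor by extension of the structure group along ρ). -/
theorem result
    (k : Type u) [Field k] [IsAlgClosed k] (X : Scheme.{u}) [X.Over (Spec (CommRingCat.of k))]
    [AlgebraicGeometry.IsIntegral X] [IsProper (X ↘ Spec (CommRingCat.of k))] [Smooth (X ↘ Spec (CommRingCat.of k))]
    (hdim : topologicalKrullDim X = 1)
    (x : Spec (CommRingCat.of k) ⟶ X) (hx : x ≫ (X ↘ Spec (CommRingCat.of k)) = 𝟙 _)
    (πN : Over (Spec (CommRingCat.of k))) [GrpObj πN] (P : Over X)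
    (a : AlgGrp.Action (Red.bc (X ↘ Spec (CommRingCat.of k)) πN) P) (p : Spec (CommRingCat.of k) ⟶ P.left)
    (hP : NoriFGS.IsFGS x πN a p)
    (G : Over (Spec (CommRingCat.of k))) [GrpObj G] (hG : Red.IsReductiveOver k G)
    (F : Over X) (aF : AlgGrp.Action (Red.bc (X ↘ Spec (CommRingCat.of k)) G) F)
    (hF : NonAbH1.IsTorsorFor Scheme.fppfPrecoverage aF) :
    (∃ (Gf : Over (Spec (CommRingCat.of k))) (_ : GrpObj Gf) (_ : IsFinite Gf.hom) (i : Gf ⟶ G) (_ : IsMonHom i)
        (Q : Over X) (c : AlgGrp.Action (Red.bc (X ↘ Spec (CommRingCat.of k)) Gf) Q),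
        NonAbH1.IsTorsorFor Scheme.fppfPrecoverage c ∧
          NonAbH1.IsPushforwardAlongSch ((Over.pullback (X ↘ Spec (CommRingCat.of k))).map i) c aF) ↔
      ∃ (ρ : πN ⟶ G) (_ : IsMonHom ρ),
        NonAbH1.IsPushforwardAlongSch ((Over.pullback (X ↘ Spec (CommRingCat.of k))).map ρ) a aF := by
  haveI := hG.1
  haveI := hG.2.1
  have hle : ∀ {H : Over (Spec (CommRingCat.of k))} [GrpObj H] {Q : Over X}
      {c : AlgGrp.Action (Red.bc (X ↘ Spec (CommRingCat.of k)) H) Q},
      NonAbH1.IsTorsorFor Scheme.fppfPrecoverage c → NonAbH1.IsTorsorFor Scheme.fpqcPrecoverage c :=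
    fun h => ⟨h.1, h.2.choose, Scheme.fppfPrecoverage_le_fpqcPrecoverage _ h.2.choose_spec.1, h.2.choose_spec.2⟩
  haveI := Unr55.isFinite.{u}
  haveI := Sga84.flat_descendsAlong.{u}
  have hprops : ∀ {H : Over (Spec (CommRingCat.of k))} [GrpObj H] [IsFinite H.hom] {Q : Over X}
      {c : AlgGrp.Action (Red.bc (X ↘ Spec (CommRingCat.of k)) H) Q},
      NonAbH1.IsTorsorFor Scheme.fpqcPrecoverage c → IsFinite Q.hom ∧ Flat Q.hom ∧ Surjective Q.hom := fun h =>
    ⟨Sga84.hom_of_isTorsorFor @IsFinite (MorphismProperty.pullback_snd (P := @IsFinite) _ _ inferInstance) h,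
      Sga84.hom_of_isTorsorFor @Flat (MorphismProperty.pullback_snd (P := @Flat) _ _ inferInstance) h,
      Sga84.surjective_of_isLocallyTrivialFor h.2⟩
  constructor
  · rintro ⟨Gf, _, _, i, _, Q, c, hc, f0, hf0⟩
    obtain ⟨_, _, _⟩ := hprops (hle hc)
    obtain ⟨t, ht⟩ := Nori99.exists_point_over x (T := Q)
    obtain ⟨ρ, _, g, hg, -⟩ := hP.2.2.2 Gf Q c t (hle hc) ht
    refine ⟨ρ ≫ i, inferInstance, g ≫ f0, ?_⟩
    rw [← Category.assoc, Nori99.pushforward_eq hg.1, Category.assoc, hf0, comp_lift_assoc, lift_fst_assoc,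
      lift_snd_assoc, Category.assoc, Category.assoc, ← Functor.map_comp]
  · rintro ⟨ρ, _, f0, hf0⟩
    obtain ⟨pres⟩ := hP.1
    haveI := Nori99.isAffineHom_of_isProFinite hP.1
    haveI : IsAffineHom G.hom := isAffineHom_of_isAffine G.hom
    haveI : QuasiCompact ρ.left := by
      haveI : QuasiCompact (ρ.left ≫ G.hom) := by rw [Over.w]; infer_instance
      exact QuasiCompact.of_comp ρ.left G.hom
    obtain ⟨H, _, em, _, _, ψ, _, hψ, hem⟩ := Nori99.exists_image ρ
    haveI : IsAffine H.left := isAffine_of_isAffineHom em.left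
    haveI : LocallyOfFiniteType H.hom := by rw [← Over.w em]; infer_instance
    haveI := Nori99.isFinite_of_dense_of_finiteType pres hψ
    obtain ⟨T, b, t, g, hT, -, hg⟩ := Nori99.exists_push hP ψ
    obtain ⟨r, ⟨hr, -⟩, -⟩ := Push96.existsUnique_map ((Over.pullback (X ↘ Spec (CommRingCat.of k))).map ψ)
      ((Over.pullback (X ↘ Spec (CommRingCat.of k))).map em) hP.2.1 hT g (Nori99.pushforward_eq hg.1) f0
      (a'' := aF) (by rw [← Functor.map_comp, hem]; exact hf0)
    obtain ⟨_, _, _⟩ := hprops hT
    haveI : IsLocallyNoetherian X := LocallyOfFiniteType.isLocallyNoetherian (X ↘ Spec (CommRingCat.of k))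
    haveI : LocallyOfFinitePresentation T.hom := inferInstance
    refine ⟨H, inferInstance, inferInstance, em, inferInstance, T, b, ⟨hT.1, Presieve.singleton T.hom,
      (Scheme.singleton_mem_precoverage_iff _ _).2 ⟨T.hom.surjective, inferInstance, inferInstance⟩, ?_⟩, r, hr⟩
    rintro S' f' ⟨⟩
    exact ⟨𝟙 _, Category.id_comp _⟩

end Groth.Agent.S19818
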