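import Groth.Prelude.Def_NoriFGS
import Groth.Prelude.Def_NonAbH2
import Groth.Prelude.Def_Red
import Groth.Prelude.Def_AlgGrp
import Groth.Prelude.Def_ChGrp
import Groth.Prelude.Def_ActBC
import Mathlib.AlgebraicGeometry.Morphisms.Flat
import Mathlib.AlgebraicGeometry.Morphisms.UnderlyingMap
import Mathlib.AlgebraicGeometry.Morphisms.Finite
import Mathlib.AlgebraicGeometry.Morphisms.ClosedImmersion
import Mathlib.CategoryTheory.Monoidal.Cartesian.Over
import Mathlib.CategoryTheory.Monoidal.Grp
import Mathlib.AlgebraicGeometry.Pullbacks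
import Groth.Agent.Nori99.Closed
-- import your own Groth.Agent.* helpers here

set_option autoImplicit false
universe u
open CategoryTheory CategoryTheory.Limits MonoidalCategory CartesianMonoidalCategory MonObj GrpObj AlgebraicGeometry
open NoriFGS

namespace Groth.Agent.S19819

/-- Let X and Y be schemes over a field k with rational points x and y, each possessing a fundamental
group scheme with its universal pointed torsor, let f : X → Y be a k-morphism sending x to y, and
let φ be the homomorphism of fundamental group schemes induced by f. Suppose that for every finite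
group scheme G over k and every G-torsor T over X (locally trivial for the fpqc topology), pointed
over x and Nori-reduced, there are a finite group scheme H over k, an H-torsor U over Y pointed over
y and Nori-reduced, a homomorphism i : G → H which is a closed immersion and a closed immersion j :
T → U ×_Y X over X, equivariant along i for the base-changed action and sending the marked point of
T to the point of U ×_Y X lying over x and over the marked point of U (T is a pointed sub-torsor of
the pull-back of U). Then φ is a closed immersion. (The published statement is an equivalence and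
does not require the sub-torsor to pass through the marked points; the converse implication fails:
for a finite etale Galois situation with groups V ⊂ S, V the Klein four-group normal in the
symmetric group S on four letters, a subgroup of order two of V is not the intersection of V with
any normal subgroup of S, so the corresponding torsor of order two over X is not a sub-torsor of any
pull-back. The source's standing convention for that chapter assumes the base field has
characteristic p > 0; the printed proof uses no characteristic hypothesis, so the row states it for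
any field.) -/
theorem result
    (k : Type u) [Field k] (X Y : Scheme.{u})
    [X.Over (Spec (CommRingCat.of k))] [Y.Over (Spec (CommRingCat.of k))]
    (x : Spec (CommRingCat.of k) ⟶ X) (y : Spec (CommRingCat.of k) ⟶ Y)
    (hx : x ≫ (X ↘ Spec (CommRingCat.of k)) = 𝟙 _) (hy : y ≫ (Y ↘ Spec (CommRingCat.of k)) = 𝟙 _)
    (f : X ⟶ Y) (hf : f ≫ (Y ↘ Spec (CommRingCat.of k)) = X ↘ Spec (CommRingCat.of k)) (hfx : x ≫ f = y)
    (πX πY : Over (Spec (CommRingCat.of k))) [GrpObj πX] [GrpObj πY] (PX : Over X) (PY : Over Y)
    (aX : AlgGrp.Action (Red.bc (X ↘ Spec (CommRingCat.of k)) πX) PX)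
    (aY : AlgGrp.Action (Red.bc (Y ↘ Spec (CommRingCat.of k)) πY) PY)
    (pX : Spec (CommRingCat.of k) ⟶ PX.left) (pY : Spec (CommRingCat.of k) ⟶ PY.left)
    (hX : NoriFGS.IsFGS x πX aX pX) (hY : NoriFGS.IsFGS y πY aY pY)
    (φ : πX ⟶ πY) (hφ : NoriFGS.IsInducedHom f hf aX pX aY pY φ)
    (hsub : ∀ (G : Over (Spec (CommRingCat.of k))) [GrpObj G] [IsFinite G.hom] (T : Over X)
      (b : AlgGrp.Action (Red.bc (X ↘ Spec (CommRingCat.of k)) G) T) (t : Spec (CommRingCat.of k) ⟶ T.left),
      NonAbH1.IsTorsorFor Scheme.fpqcPrecoverage b → t ≫ T.hom = x →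
      NoriFGS.IsNoriReduced Scheme.fpqcPrecoverage b →
      ∃ (H : Over (Spec (CommRingCat.of k))) (_ : GrpObj H) (_ : IsFinite H.hom) (U : Over Y)
        (c : AlgGrp.Action (Red.bc (Y ↘ Spec (CommRingCat.of k)) H) U) (u : Spec (CommRingCat.of k) ⟶ U.left)
        (i : G ⟶ H) (_ : IsMonHom i) (_ : IsClosedImmersion i.left)
        (j : T ⟶ Red.bc f U) (_ : IsClosedImmersion j.left),
        NonAbH1.IsTorsorFor Scheme.fpqcPrecoverage c ∧ u ≫ U.hom = y ∧
        NoriFGS.IsNoriReduced Scheme.fpqcPrecoverage c ∧
        AlgGrp.Action.IsEquivariant b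
          (((c.bc f).restrict (ActBC.bcCompIso f (Y ↘ Spec (CommRingCat.of k)) H hf).inv).restrict
            ((Over.pullback (X ↘ Spec (CommRingCat.of k))).map i)) j ∧
        t ≫ j.left ≫ pullback.fst U.hom f = u) :
    IsClosedImmersion φ.left := by
  obtain ⟨pres⟩ := hX.1
  letI := pres.cat
  letI := pres.grp
  haveI := pres.finite
  have hφ' := hφ
  obtain ⟨_, -⟩ := hφ'
  refine Nori99.isClosedImmersion_of_factor hX.1 hY.1 φ pres fun i => ?_
  let πi : πX ⟶ pres.D.obj i := pres.π.app i
  haveI : IsMonHom πi := pres.isMonHom_π i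
  obtain ⟨G, _, _, em, _, _, ψ, _, T, b, t, g, hψ, hem, hT, ht, hg, hred⟩ :=
    Nori99.exists_reduced_image hx hX πi
  obtain ⟨H, _, _, U, c, u, j, _, _, jT, _, hc, hu, hcred, heq, hpt⟩ := hsub G T b t hT ht hred
  obtain ⟨θ, _, gY, hgY, -⟩ := hY.2.2.2 H U c u hc hu
  have hu' : u ≫ U.hom = x ≫ f := hu.trans hfx.symm
  obtain ⟨m, hm⟩ := Nori99.exists_induced_comp hφ hX.2.2.1 hgY hu'
  obtain ⟨ψ₁, _, f₁, -, huniq⟩ := hX.2.2.2 H (Red.bc f U) (Nori99.pull hf c) (pullback.lift u x hu')
    (Nori99.isTorsorFor_pull hc) (pullback.lift_snd _ _ _)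
  have h2 : NoriFGS.IsPtTorsorHom aX pX (Nori99.pull hf c) (pullback.lift u x hu') (ψ ≫ j) (g ≫ jT) := by
    refine ⟨Nori99.equivariant_comp hg.1 heq ((Over.pullback (X ↘ Spec (CommRingCat.of k))).map_comp ψ j).symm, ?_⟩
    rw [Over.comp_left, ← Category.assoc, hg.2]
    refine pullback.hom_ext ?_ ?_
    · rw [pullback.lift_fst, Category.assoc]; exact hpt
    · rw [pullback.lift_snd, Category.assoc]
      exact (congrArg (t ≫ ·) (Over.w jT)).trans ht
  exact ⟨G, H, inferInstance, ψ, em, j, inferInstance, θ, hem,
    (huniq (ψ ≫ j) _ h2).1.trans (huniq (φ ≫ θ) m hm).1.symm⟩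

end Groth.Agent.S19819
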