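import Groth.Statements.S19832
import Groth.Agent.LC16.FibreEquidim
import Groth.Agent.LC16.FibreGeneric
import Groth.Agent.QC70.UnitSub
import Groth.Agent.E4O.OpenMapDims
import Groth.Agent.Ega11.RegSeqSk

set_option autoImplicit false
universe u
open QGor

namespace Groth.Agent.S19832

open CategoryTheory AlgebraicGeometry in
theorem skAt_structureModule_iff {F : Scheme.{u}} [IsLocallyNoetherian F] (k : ℕ) (x : F) :
    RelCanon.SkAt k (Coh.structureModule F) x ↔ LocCoh.HasSk k (F.presheaf.stalk x) (F.presheaf.stalk x) :=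
  ⟨fun h => Ega11.RegSeqSk.hasSk_congr (QC70.unitStalkEquiv x).symm k h,
    fun h => Ega11.RegSeqSk.hasSk_congr (QC70.unitStalkEquiv x) k h⟩

open CategoryTheory AlgebraicGeometry in
theorem isLocallyNoetherian_fiber {X Y : Scheme.{u}} (f : X ⟶ Y) [LocallyOfFiniteType f] (t : Y) :
    IsLocallyNoetherian (f.fiber t) := by
  have : LocallyOfFiniteType (f.fiberToSpecResidueField t) :=
    MorphismProperty.of_isPullback (P := @LocallyOfFiniteType)
      (IsPullback.of_hasPullback f (Y.fromSpecResidueField t)) inferInstance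
  exact LocallyOfFiniteType.isLocallyNoetherian (f.fiberToSpecResidueField t)

open CategoryTheory AlgebraicGeometry in
/-- Take f : Y → T flat and locally of finite type with Y and T locally Noetherian, an integer k ≥ 2, a
point y of Y at which the fibre through y satisfies Serre's condition S_k, and an open subset Y° of
Y not containing y. Suppose the local codimension at y of Y_{f(y)} ∖ Y° in the fibre is at least c:
at every point z ∉ Y° of the fibre through y which specializes to y, the local ring of the fibre has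
dimension ≥ c. Then y has an open neighbourhood U such that U → T is an S_k-morphism (flat, locally
of finite type, all fibres S_k at all points) of pure relative dimension (every irreducible
component of every fibre of U → T has the same dimension e), and at every point z ∈ U with z ∉ Y°
the local ring at z of the fibre of f through z has dimension ≥ c; that is, codim(U_t ∖ Y°, U_t) ≥ c
for every t. -/
theorem result
    {Y T : Scheme.{u}} (f : Y ⟶ T) [IsLocallyNoetherian Y] [IsLocallyNoetherian T]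
    [Flat f] [LocallyOfFiniteType f] (k : ℕ) (hk : 2 ≤ k) (y : Y)
    (hy : RelCanon.SkAt k (Coh.structureModule (f.fiber (f y))) (f.asFiber y))
    (Yo : Y.Opens) (hyo : y ∉ Yo) (c : WithBot ℕ∞)
    (hc : ∀ z : Y, f z = f y → z ∉ Yo → z ⤳ y →
      c ≤ ringKrullDim ((f.fiber (f z)).presheaf.stalk (f.asFiber z))) :
    ∃ U : Y.Opens, y ∈ U ∧ RelCanon.IsSkMor (U.ι ≫ f) k ∧
      (∃ e : ℕ, Cyc.HasRelDim (U.ι ≫ f) e) ∧
      ∀ z : Y, z ∈ U → z ∉ Yo → c ≤ ringKrullDim ((f.fiber (f z)).presheaf.stalk (f.asFiber z)) := by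
  have hk1 : 1 ≤ k := by omega
  have : LocallyOfFinitePresentation f := E4O.locallyOfFinitePresentation_of_isLocallyNoetherian f
  have := isLocallyNoetherian_fiber f (f y)
  have hS := (skAt_structureModule_iff k (f.asFiber y)).1 hy
  obtain ⟨z₀, -, -, -, hd₀, -⟩ := E4O.exists_isFibreMax_specializes f y
  let e := E4O.fdeg f z₀
  have hmaxdeg : ∀ z, z ⤳ y → f z = f y → E4O.IsFibreMax f z → E4O.fdeg f z = e := fun z hz hfz hm => by
    exact_mod_cast (LC16.FibreEquidim.fdeg_eq_fibreDimAt f y k hk hS hz hfz hm).trans hd₀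
  have hdim : ∀ z, z ⤳ y → f z = f y → ∃ a : ℕ,
      ringKrullDim ((f.fiber (f z)).presheaf.stalk (f.asFiber z)) = (a : ℕ) ∧ a + E4O.fdeg f z = e := by
    intro z hz hfz
    obtain ⟨a, ha, hD⟩ := CM62.exists_fibre_dim f z
    obtain ⟨z', hz', hfz', hm', hd', -⟩ := E4O.exists_isFibreMax_specializes f z
    rw [hd', hmaxdeg z' (hz'.trans hz) (hfz'.trans hfz) hm'] at hD
    exact ⟨a, ha, by exact_mod_cast hD.symm⟩
  obtain ⟨c₀, hc₀, hce⟩ : ∃ c₀ : ℕ, (∀ n : ℕ, c ≤ ((n : ℕ) : WithBot ℕ∞) ↔ c₀ ≤ n) ∧ c₀ ≤ e := by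
    obtain ⟨a, ha, hae⟩ := hdim y specializes_rfl rfl
    have hca := hc y rfl hyo specializes_rfl
    rw [ha] at hca
    induction c using WithBot.recBotCoe with
    | bot => exact ⟨0, fun n => iff_of_true bot_le (Nat.zero_le n), Nat.zero_le e⟩
    | coe c =>
      induction c using ENat.recTopCoe with
      | top => exact absurd hca (by rw [← WithBot.coe_natCast, WithBot.coe_le_coe, top_le_iff]; exact ENat.natCast_ne_top a)
      | coe c =>
        refine ⟨c, fun n => ?_, ?_⟩
        · rw [← WithBot.coe_natCast, WithBot.coe_le_coe, Nat.cast_le]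
        · rw [← WithBot.coe_natCast, WithBot.coe_le_coe, Nat.cast_le] at hca
          omega
  let Bad : Set Y := {x : Y | ∃ z ∈ ((Yo : Set Y)ᶜ), z ⤳ x ∧ f z = f x ∧ e - c₀ + 1 ≤ E4O.fdeg f z}
  let Low : Set Y := closure (⋃ d < e, (FlatMor68.FibreGeneric.piece f d : Set Y))
  let U : Y.Opens := ⟨{x : Y | FlatMor.fibreDimAt f x ≤ (e : ℕ)} ∩
      {x : Y | LocCoh.HasSk k ((f.fiber (f x)).presheaf.stalk (f.asFiber x))
        ((f.fiber (f x)).presheaf.stalk (f.asFiber x))} ∩ Lowᶜ ∩ Badᶜ,
    (((E4O.isOpen_fibreDimAt_le f _).inter (Sk62.isOpen_hasSk f k)).inter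
      isClosed_closure.isOpen_compl).inter
      (Sk62.isClosed_exists_le_fdeg f Yo.2.isClosed_compl _).isOpen_compl⟩
  have hyU : y ∈ U := by
    refine ⟨⟨⟨hd₀.le, hS⟩, LC16.FibreGeneric.not_mem_closure_piece f e k hk1 y hS
      fun z hz hfz hm => (hmaxdeg z hz hfz hm).ge⟩, ?_⟩
    rintro ⟨z, hzo, hzy, hfz, hn⟩
    obtain ⟨a, ha, hae⟩ := hdim z hzy hfz
    have := hc z hfz hzo hzy
    rw [ha, hc₀] at this
    omega
  have hmaxU : ∀ z, z ∈ U → E4O.IsFibreMax f z → E4O.fdeg f z = e := by
    intro z hz hm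
    have hle : E4O.fdeg f z ≤ e := by
      have := (E4O.fdeg_le_fibreDimAt (f := f) (x := z) specializes_rfl rfl).trans hz.1.1.1
      exact_mod_cast this
    by_contra hne
    exact hz.1.2 (subset_closure (Set.mem_iUnion₂.2
      ⟨_, lt_of_le_of_ne hle hne, FlatMor68.FibreGeneric.mem_piece_of_isFibreMax f hm⟩))
  refine ⟨U, hyU, ⟨inferInstance, inferInstance, fun x => ?_⟩, ⟨e, fun t Z hZ => ?_⟩, fun z hz hzo => ?_⟩
  · have := isLocallyNoetherian_fiber (U.ι ≫ f) ((U.ι ≫ f) x)
    exact (skAt_structureModule_iff k _).2 ((Sk62.hasSk_openImmersion_comp_iff U.ι f k x).2 x.2.1.1.2)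
  · obtain ⟨w, -, hw, hd⟩ := E4O.exists_of_mem_irreducibleComponents_fiber _ hZ
    rw [hd, E4O.fdeg_comp_openImmersion]
    let u := (U.ι ≫ f).fiberι t w
    have hm : E4O.IsFibreMax f (U.ι u) := fun a ha hfa => by
      have haU : a ∈ U := ha.mem_open U.isOpen u.2
      have := hw ⟨a, haU⟩ ((subtype_specializes_iff (⟨a, haU⟩ : U) u).2 ha) hfa
      exact congrArg Subtype.val this
    rw [hmaxU (U.ι u) u.2 hm]
  · obtain ⟨a, ha, hD⟩ := CM62.exists_fibre_dim f z
    obtain ⟨z', hz', -, hm', hd', -⟩ := E4O.exists_isFibreMax_specializes f z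
    rw [hd', hmaxU z' (hz'.mem_open U.isOpen hz) hm'] at hD
    have hlt : E4O.fdeg f z < e - c₀ + 1 :=
      not_le.1 fun h => hz.2 ⟨z, hzo, specializes_rfl, rfl, h⟩
    have hae : e = a + E4O.fdeg f z := by exact_mod_cast hD
    rw [ha, hc₀]
    omega

end Groth.Agent.S19832
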