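import Groth.Statements.S1984
import Groth.Agent.Ram24.TotRamStructure
-- import your own Groth.Agent.* helpers here

set_option autoImplicit false
universe u
open EtAlg

namespace Groth.Agent.S1984

open TensorProduct in
/-- Let A -> B be a weakly unramified extension of discrete valuation rings with fraction fields K ⊂ L,
and K₁/K a finite separable extension which is totally ramified with respect to A. Then L ⊗_K K₁ is
a field and K₁ is a weak solution for A -> B (the valuation ring of L ⊗_K K₁ over B is weakly
unramified over that of K₁ over A). -/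
theorem result (A B K L : Type u) [CommRing A] [IsDomain A] [IsDiscreteValuationRing A]
    [CommRing B] [IsDomain B] [IsDiscreteValuationRing B] [Algebra A B] [IsLocalHom (algebraMap A B)]
    (hinj : Function.Injective (algebraMap A B))
    [Field K] [Field L] [Algebra A K] [IsFractionRing A K] [Algebra B L] [IsFractionRing B L]
    [Algebra K L] [Algebra A L] [IsScalarTower A K L] [IsScalarTower A B L]
    (hw : EtRam.IsWeaklyUnramified A B) (K₁ : Type u) [Field K₁] [Algebra K K₁] [FiniteDimensional K K₁]
    [Algebra.IsSeparable K K₁] (ht : EtRam.IsTotallyRamified A ((algebraMap K K₁).comp (algebraMap A K))) :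
    IsField (L ⊗[K] K₁) ∧ EtRam.IsWeakSolution B K L K₁ := by
  let _ : Algebra A K₁ := ((algebraMap K K₁).comp (algebraMap A K)).toAlgebra
  have : IsScalarTower A K K₁ := .of_algebraMap_eq fun _ => rfl
  obtain ⟨f, z, hf, hd, hlow, h0, hz, hgen, hdeg⟩ := Ram24.exists_eisenstein A ht
  refine ⟨?_, Ram24.eis_isWeakSolution hf hd hlow h0 K B L hw K₁ z hz hgen⟩
  have hirr : Irreducible (f.map (algebraMap A K)) :=
    (hf.irreducible_iff_irreducible_map_fraction_map).mp (Ram24.irreducible_of_eisenstein hf hd hlow h0)
  have := Fact.mk hirr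
  let φ : AdjoinRoot (f.map (algebraMap A K)) →ₐ[K] K₁ :=
    AdjoinRoot.liftAlgHom _ (Algebra.ofId K K₁) z hz
  have : Module.Finite K (AdjoinRoot (f.map (algebraMap A K))) :=
    (AdjoinRoot.powerBasis hirr.ne_zero).finite
  have hφ : Function.Bijective φ := ⟨φ.toRingHom.injective,
    (LinearMap.injective_iff_surjective_of_finrank_eq_finrank (f := φ.toLinearMap) (by
      rw [(AdjoinRoot.powerBasis hirr.ne_zero).finrank, AdjoinRoot.powerBasis_dim,
        hf.natDegree_map, hdeg])).mp φ.toRingHom.injective⟩
  exact MulEquiv.isField (Ram24.eis_isField_tensor hf hd hlow h0 K B L hw)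
    (Algebra.TensorProduct.congr (AlgEquiv.refl (R := L)) (AlgEquiv.ofBijective φ hφ).symm).toMulEquiv

end Groth.Agent.S1984
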