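import Groth.Statements.S1985
import Groth.Agent.Ram24.Nagata
import Mathlib

set_option autoImplicit false
universe u
open EtAlg

namespace Groth.Agent.S1985

set_option linter.style.haveILetI false

open TensorProduct

/-- A tensor product of a finite extension with a separable algebraic extension is reduced. -/
theorem isReduced_tensor (K L K' : Type u) [Field K] [Field L] [Field K'] [Algebra K L] [Algebra K K']
    [Algebra.IsSeparable K L] [FiniteDimensional K K'] : IsReduced (L ⊗[K] K') := by
  suffices IsReduced (K' ⊗[K] L) from
    isReduced_of_injective (Algebra.TensorProduct.comm K L K')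
      (Algebra.TensorProduct.comm K L K').injective
  refine IsReduced.tensorProduct_of_flat_of_forall_fg fun D hD => ?_
  obtain ⟨s, rfl⟩ := hD
  rw [← IntermediateField.adjoin_toSubalgebra]
  haveI : FiniteDimensional K (IntermediateField.adjoin K (s : Set L)) :=
    IntermediateField.finiteDimensional_adjoin fun x _ => Algebra.IsIntegral.isIntegral x
  haveI : Algebra.IsSeparable K (IntermediateField.adjoin K (s : Set L)) :=
    Algebra.isSeparable_tower_bot_of_isSeparable K _ L
  show IsReduced (K' ⊗[K] (IntermediateField.adjoin K (s : Set L)))
  haveI : Algebra.FormallyUnramified K (IntermediateField.adjoin K (s : Set L)) :=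
    Algebra.FormallyUnramified.of_isSeparable K _
  exact Algebra.FormallyUnramified.isReduced_of_field K' (K' ⊗[K] (IntermediateField.adjoin K (s : Set L)))

/-- Finiteness of the integral closure descends along a separable extension of DVRs. -/
theorem finite_integralClosure_descends (A B K L K' : Type u) [CommRing A] [IsDomain A]
    [IsDiscreteValuationRing A] [CommRing B] [IsDomain B] [IsDiscreteValuationRing B] [Algebra A B]
    [IsLocalHom (algebraMap A B)] (hinj : Function.Injective (algebraMap A B))
    [Field K] [Field L] [Algebra A K] [IsFractionRing A K] [Algebra B L] [IsFractionRing B L]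
    [Algebra K L] [Algebra A L] [IsScalarTower A K L] [IsScalarTower A B L] [Algebra.IsSeparable K L]
    (hB : CAlg.IsNagata B) [Field K'] [Algebra K K'] [FiniteDimensional K K'] [Algebra A K']
    [IsScalarTower A K K'] : Module.Finite A (integralClosure A K') := by
  haveI : Module.IsTorsionFree A B := Module.isTorsionFree_iff_algebraMap_injective.2 hinj
  haveI : Module.IsTorsionFree A K' := Module.isTorsionFree_iff_algebraMap_injective.2 (by
    rw [IsScalarTower.algebraMap_eq A K K']
    exact (algebraMap K K').injective.comp (IsFractionRing.injective A K))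
  haveI : Module.Flat A B := inferInstance
  haveI : Module.Flat A K' := inferInstance
  haveI : Module.FaithfullyFlat A B := Module.FaithfullyFlat.of_flat_of_isLocalHom
  let A' := integralClosure A K'
  let S := L ⊗[K] K'
  haveI : IsReduced S := isReduced_tensor K L K'
  haveI : IsArtinianRing S := IsArtinianRing.of_finite L S
  haveI := IsLocalization.tensorProduct_compatibleSMul (nonZeroDivisors A) K L K'
  let φ : B ⊗[A] A' →ₐ[B] L ⊗[A] K' := Algebra.TensorProduct.map (Algebra.ofId B L) A'.val
  have hφ : Function.Injective φ := by
    have e : φ.toLinearMap.restrictScalars A =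
        (LinearMap.rTensor K' (IsScalarTower.toAlgHom A B L).toLinearMap) ∘ₗ
          LinearMap.lTensor B A'.val.toLinearMap := by
      refine TensorProduct.ext' fun b a => ?_
      simp [φ, Algebra.TensorProduct.map_tmul, Algebra.ofId_apply]
    have h1 := (Module.Flat.rTensor_preserves_injective_linearMap (M := K')
      (IsScalarTower.toAlgHom A B L).toLinearMap (IsFractionRing.injective B L)).comp
      (Module.Flat.lTensor_preserves_injective_linearMap (M := B) A'.val.toLinearMap
        Subtype.val_injective)
    exact (congrArg DFunLike.coe e).symm ▸ h1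
  let e' : L ⊗[A] K' ≃ₐ[L] S := (Algebra.TensorProduct.equivOfCompatibleSMul A K L L K').symm
  let ψ : B ⊗[A] A' →ₐ[B] S := (e'.toAlgHom.restrictScalars B).comp φ
  have hψ : Function.Injective ψ := e'.injective.comp hφ
  haveI : Algebra.IsIntegral A A' := inferInstance
  haveI : Algebra.IsIntegral B (B ⊗[A] A') := inferInstance
  let f : ∀ I : MaximalSpectrum S, B ⊗[A] A' →ₐ[B] integralClosure B (S ⧸ I.asIdeal) := fun I =>
    ((Ideal.Quotient.mkₐ B I.asIdeal).comp ψ).codRestrict _ fun x =>
      (Algebra.IsIntegral.isIntegral x).map _
  haveI : ∀ I : MaximalSpectrum S, Module.Finite B (integralClosure B (S ⧸ I.asIdeal)) := fun I => by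
    letI := Ideal.Quotient.field I.asIdeal
    exact Ram24.finite_integralClosure_of_isNagata B L _ hB
  haveI : Module.Finite B (B ⊗[A] A') := by
    refine Module.Finite.of_injective (LinearMap.pi fun I => (f I).toLinearMap) fun x y hxy => ?_
    refine hψ ((IsArtinianRing.equivPi S).injective (funext fun I => ?_))
    rw [IsArtinianRing.equivPi_apply, IsArtinianRing.equivPi_apply]
    exact congrArg Subtype.val (congrFun hxy I)
  exact Module.Finite.of_finite_tensorProduct_of_faithfullyFlat B

theorem isN2_of_isField (Q : Type u) [CommRing Q] [IsDomain Q] (hQ : IsField Q) : CAlg.IsN2 Q := by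
  intro M _ _ _ _ hM
  haveI : Module.Finite Q (FractionRing Q) :=
    .of_surjective (Algebra.linearMap Q (FractionRing Q))
      (IsFractionRing.surjective_iff_isField.2 hQ)
  haveI : Module.Finite Q M := Module.Finite.trans (FractionRing Q) M
  haveI : IsNoetherianRing Q := by
    letI := hQ.toField
    infer_instance
  exact Module.Finite.of_injective (integralClosure Q M).val.toLinearMap Subtype.val_injective

/-- Let A -> B be an extension of discrete valuation rings whose extension of fraction fields L/K is
separable. If B is a Nagata ring then so is A. -/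
theorem result (A B K L : Type u) [CommRing A] [IsDomain A] [IsDiscreteValuationRing A]
    [CommRing B] [IsDomain B] [IsDiscreteValuationRing B] [Algebra A B] [IsLocalHom (algebraMap A B)]
    (hinj : Function.Injective (algebraMap A B))
    [Field K] [Field L] [Algebra A K] [IsFractionRing A K] [Algebra B L] [IsFractionRing B L]
    [Algebra K L] [Algebra A L] [IsScalarTower A K L] [IsScalarTower A B L] [Algebra.IsSeparable K L] (hB : CAlg.IsNagata B) :
    CAlg.IsNagata A := by
  refine ⟨inferInstance, fun p hp => ?_⟩
  rcases eq_or_ne p ⊥ with rfl | hne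
  · intro M _ _ _ _ hM
    let e : A ≃+* A ⧸ (⊥ : Ideal A) := (RingEquiv.quotientBot A).symm
    let eF : K ≃+* FractionRing (A ⧸ (⊥ : Ideal A)) := IsFractionRing.ringEquivOfRingEquiv e
    letI : Algebra K M := ((algebraMap _ M).comp eF.toRingHom).toAlgebra
    letI : Algebra A M := ((algebraMap (A ⧸ (⊥ : Ideal A)) M).comp e.toRingHom).toAlgebra
    haveI : IsScalarTower A K M := .of_algebraMap_eq fun x => by
      show algebraMap (A ⧸ (⊥ : Ideal A)) M (e x) = algebraMap _ M (eF (algebraMap A K x))
      rw [IsScalarTower.algebraMap_apply (A ⧸ (⊥ : Ideal A)) (FractionRing (A ⧸ (⊥ : Ideal A))) M]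
      congr 1
      exact (IsFractionRing.ringEquivOfRingEquiv_algebraMap e x).symm
    haveI : FiniteDimensional K M := Module.Finite.of_equiv_equiv eF.symm (RingEquiv.refl M) (by
      ext x
      show algebraMap _ M (eF (eF.symm x)) = algebraMap _ M x
      rw [RingEquiv.apply_symm_apply])
    haveI : IsScalarTower A (A ⧸ (⊥ : Ideal A)) M := .of_algebraMap_eq fun _ => rfl
    haveI := finite_integralClosure_descends A B K L M hinj hB
    haveI : IsNoetherianRing A := inferInstance
    let f : integralClosure (A ⧸ (⊥ : Ideal A)) M →ₗ[A] integralClosure A M :=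
      { toFun := fun x => ⟨x.1, isIntegral_trans (R := A) (A := A ⧸ (⊥ : Ideal A)) x.1 x.2⟩
        map_add' := fun _ _ => rfl
        map_smul' := fun _ _ => rfl }
    haveI : Module.Finite A (integralClosure (A ⧸ (⊥ : Ideal A)) M) :=
      Module.Finite.of_injective f fun x y h => Subtype.ext (congrArg Subtype.val h :)
    exact Module.Finite.of_restrictScalars_finite A _ _
  · haveI : p.IsMaximal := hp.isMaximal hne
    exact isN2_of_isField _ ((Ideal.Quotient.maximal_ideal_iff_isField_quotient p).1 ‹_›)

end Groth.Agent.S1985
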