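import Groth.Statements.S19856
import Groth.Agent.CAlg9.Tame
import Mathlib.GroupTheory.OrderOfElement
import Mathlib.RingTheory.IntegralDomain
import Mathlib.Algebra.Ring.Action.Basic
import Mathlib.RingTheory.LocalRing.ResidueField.Basic

set_option autoImplicit false
universe u v
open CAlg

namespace Groth.Agent.S19856

/-- Ring-level form: let O be a discrete valuation ring and G a finite group acting faithfully on O by
ring automorphisms, such that every element of G acts trivially on the residue field of O (that is,
g • a - a lies in the maximal ideal for all a) and such that the order of G is nonzero in the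
residue field of O. Then G is cyclic. (The source states this for a finite group of order invertible
in an algebraically closed field k acting faithfully on a smooth connected k-variety and the
subgroup of elements fixing pointwise a codimension-one irreducible component of the ramification
locus, applied to the local ring at the generic point of that component; it is stated here for an
arbitrary discrete valuation ring with a faithful action. The source also shows that this subgroup
is nontrivial; that geometric part is not stated.) -/
theorem result
    (O : Type u) [CommRing O] [IsDomain O] [IsDiscreteValuationRing O]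
    (G : Type v) [Group G] [Finite G] [MulSemiringAction G O] [FaithfulSMul G O]
    (htriv : ∀ (g : G) (a : O), g • a - a ∈ IsLocalRing.maximalIdeal O)
    (hcard : ((Nat.card G : ℕ) : IsLocalRing.ResidueField O) ≠ 0) :
    IsCyclic G := by
  set m := IsLocalRing.maximalIdeal O
  obtain ⟨π, hπ⟩ := IsDiscreteValuationRing.exists_irreducible O
  have hm : m = Ideal.span {π} := hπ.maximalIdeal_eq
  have hπm : π ∈ m := hm ▸ Ideal.mem_span_singleton_self π
  have hu : ∀ g : G, ∃ u : O, g • π = u * π := by
    intro g
    have : g • π ∈ m := by simpa using add_mem (htriv g π) hπm
    rw [hm, Ideal.mem_span_singleton'] at this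
    obtain ⟨u, hu⟩ := this
    exact ⟨u, hu.symm⟩
  choose u hu using hu
  have hres : ∀ (g : G) (x : O), IsLocalRing.residue O (g • x) = IsLocalRing.residue O x := fun g x => by
    rw [← sub_eq_zero, ← map_sub, IsLocalRing.residue_eq_zero_iff]
    exact htriv g x
  have hone : u 1 = 1 := mul_right_cancel₀ hπ.ne_zero (by rw [← hu, one_smul, one_mul])
  have hmul : ∀ g h, u (g * h) = g • u h * u g := fun g h => mul_right_cancel₀ hπ.ne_zero (by
    rw [← hu, mul_smul, hu h, smul_mul', hu g, mul_assoc])
  let χ : G →* IsLocalRing.ResidueField O :=
    { toFun := fun g => IsLocalRing.residue O (u g)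
      map_one' := by simp [hone]
      map_mul' := fun g h => by rw [hmul, map_mul, hres, mul_comm] }
  have hker : ∀ g, χ g = 1 → g = 1 := by
    intro g hg
    refine eq_of_smul_eq_smul fun x : O => ?_
    rw [one_smul]
    have hu1 : IsUnit ((Nat.card G : ℕ) : O) := by
      rw [← IsLocalRing.residue_ne_zero_iff_isUnit, map_natCast]
      exact hcard
    have hit : ∀ (j : ℕ) (b : O), (MulSemiringAction.toRingHom G O g : O → O)^[j] b = g ^ j • b := by
      intro j
      induction j with
      | zero => simp
      | succ j ih =>
        intro b
        rw [Function.iterate_succ_apply', ih, pow_succ', mul_smul]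
        rfl
    refine Groth.Agent.CAlg9.apply_eq_self_of_iterate_eq (MulSemiringAction.toRingHom G O g)
      (Nat.card G) hu1 (fun b => by rw [hit, pow_card_eq_one', one_smul]) (htriv g) (fun y hy => ?_) x
    show g • y - y ∈ m ^ 2
    replace hy : y ∈ m := hy
    rw [hm, Ideal.mem_span_singleton'] at hy
    obtain ⟨a, rfl⟩ := hy
    have h1 : u g - 1 ∈ m := by
      rw [← IsLocalRing.residue_eq_zero_iff, map_sub, map_one, sub_eq_zero]
      exact hg
    rw [smul_mul', hu g, show g • a * (u g * π) - a * π =
      (g • a * (u g - 1) + (g • a - a)) * π by ring, pow_two]
    exact Ideal.mul_mem_mul (add_mem (Ideal.mul_mem_left _ _ h1) (htriv g a)) hπm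
  refine isCyclic_of_subgroup_isDomain χ fun g h hgh => inv_mul_eq_one.mp (hker _ ?_) |>.symm
  have h0 : χ h⁻¹ * χ h = 1 := by rw [← map_mul, inv_mul_cancel, map_one]
  rw [map_mul, hgh, h0]

end Groth.Agent.S19856
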