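import Groth.Statements.S19857
import Groth.Agent.Synt18.SmoothFlat


set_option autoImplicit false
universe u
open Synt

namespace Groth.Agent.S19857

open CategoryTheory AlgebraicGeometry in
/-- Let S be a scheme, p : X ⟶ S and q : Y ⟶ S smooth morphisms and f : X ⟶ Y a morphism over S (f ≫ q =
p) which is flat. Then f is syntomic (affine-locally given by flat ring maps of finite presentation
whose fibres are local complete intersections). -/
theorem result {X Y S : Scheme.{u}}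
    (p : X ⟶ S) (q : Y ⟶ S) [Smooth p] [Smooth q] (f : X ⟶ Y) (hf : f ≫ q = p) [Flat f] :
    Synt.IsSyntomicMor f := by
  intro x
  obtain ⟨V, hV, hxV, -⟩ := exists_isAffineOpen_mem_and_subset (U := (⊤ : S.Opens)) (x := q (f x)) trivial
  obtain ⟨W, hW, hxW, hWV⟩ := exists_isAffineOpen_mem_and_subset (U := q ⁻¹ᵁ V) (x := f x) hxV
  obtain ⟨U, hU, hxU, hUW⟩ := exists_isAffineOpen_mem_and_subset (U := f ⁻¹ᵁ W) (x := x) hxW
  refine ⟨⟨U, hU⟩, ⟨W, hW⟩, hUW, hxU, ?_⟩
  have hUV : U ≤ p ⁻¹ᵁ V := fun y hy => by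
    have := hWV (hUW hy)
    rw [← hf]
    exact this
  have hRA : (q.appLE V W hWV).hom.Smooth :=
    HasRingHomProperty.appLE (P := @Smooth) q inferInstance ⟨V, hV⟩ ⟨W, hW⟩ hWV
  have hRB : (p.appLE V U hUV).hom.Smooth :=
    HasRingHomProperty.appLE (P := @Smooth) p inferInstance ⟨V, hV⟩ ⟨U, hU⟩ hUV
  have hAB : (f.appLE W U hUW).hom.Flat :=
    HasRingHomProperty.appLE (P := @Flat) f inferInstance ⟨W, hW⟩ ⟨U, hU⟩ hUW
  algebraize [(q.appLE V W hWV).hom, (p.appLE V U hUV).hom, (f.appLE W U hUW).hom]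
  have : IsScalarTower Γ(S, V) Γ(Y, W) Γ(X, U) := IsScalarTower.of_algebraMap_eq' (by
    change (p.appLE V U hUV).hom = ((q.appLE V W hWV) ≫ (f.appLE W U hUW)).hom
    rw [Scheme.Hom.appLE_comp_appLE]
    subst hf
    rfl)
  have : Algebra.FinitePresentation Γ(Y, W) Γ(X, U) :=
    Algebra.FinitePresentation.of_restrict_scalars_finitePresentation Γ(S, V) Γ(Y, W) Γ(X, U)
  exact Groth.Agent.Synt18.isSyntomic_of_flat_of_smooth (R := Γ(S, V))

end Groth.Agent.S19857
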