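import Groth.Statements.S19863
import Groth.Agent.Cohen12.AdicFibre
import Groth.Agent.EGA4H10.Serre

set_option autoImplicit false
universe u
open EGA4

namespace Groth.Agent.S19863

/-- Let A be a Noetherian ring, J a proper ideal of A, Â the J-adic completion and A_T the localization
of A at T = 1 + J. If the canonical map A → Â is a regular homomorphism (flat, with Noetherian
geometrically regular fibres), then A_T is a regular ring if and only if Â is a regular ring
(Noetherian, with regular local rings at all primes). (The cases of the henselization of the pair
and of the weak completion are not stated here.) -/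
theorem result
    (A : Type u) [CommRing A] [IsNoetherianRing A] (J : Ideal A) (hJ : J ≠ ⊤)
    (hf : CAlg.IsRegularHom A (AdicCompletion J A))
    (T : Submonoid A) (hT : T = MonoidHom.mker (Ideal.Quotient.mk J)) :
    IsRegularRing (Localization T) ↔ IsRegularRing (AdicCompletion J A) := by
  have : IsNoetherianRing (AdicCompletion J A) :=
    Groth.Agent.CAlg1.isNoetherianRing_adicCompletion _ (IsNoetherian.noetherian _)
  have : Module.Flat A (AdicCompletion J A) := hf.1
  subst hT
  have : IsNoetherianRing (Localization (MonoidHom.mker (Ideal.Quotient.mk J))) :=
    IsLocalization.isNoetherianRing (MonoidHom.mker (Ideal.Quotient.mk J)) _ inferInstance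
  constructor
  · intro h
    refine isRegularRing_iff.mpr fun q _ => ?_
    obtain ⟨P, hP, ⟨e⟩⟩ := Cohen12.exists_localization_equiv _ _ (Cohen12.disjoint_comap J q)
    have := isRegularRing_iff.mp h P
    exact Cohen12.regular_localization_of_flat A (AdicCompletion J A) q
      (Cohen12.fibLocRing_regular hf q) (IsRegularLocalRing.of_ringEquiv e)
  · intro h
    refine isRegularRing_iff.mpr fun P _ => ?_
    obtain ⟨hd, ⟨e⟩⟩ := Cohen12.exists_prime_equiv _ P
    obtain ⟨q, hq, hover⟩ := Cohen12.exists_over_of_disjoint J _ hd
    have := isRegularRing_iff.mp h q
    let p := P.comap (algebraMap A (Localization (MonoidHom.mker (Ideal.Quotient.mk J))))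
    have : IsNoetherianRing (Localization.AtPrime p) :=
      IsLocalization.isNoetherianRing p.primeCompl _ inferInstance
    have : q.LiesOver p := ⟨hover.symm⟩
    let := Localization.AtPrime.algebraOfLiesOver p q
    have hfl : Module.Flat A (Localization.AtPrime q) := Module.Flat.trans A (AdicCompletion J A) _
    have : Module.Flat (Localization.AtPrime p) (Localization.AtPrime q) :=
      (Module.flat_iff_of_isLocalization _ p.primeCompl _).mpr hfl
    have : IsRegularLocalRing (Localization.AtPrime p) :=
      EGA4H10.regular_of_flat (Localization.AtPrime p) (Localization.AtPrime q)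
    exact IsRegularLocalRing.of_ringEquiv e.symm

end Groth.Agent.S19863
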