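import Groth.Statements.S19868
import Groth.Agent.PLie29.Three

set_option autoImplicit false
set_option maxHeartbeats 2000000
universe u v
open PLie

namespace Groth.Agent.S19868

open DualNumber in
/-- Let K be a field of prime characteristic p, K[ε] the ring of dual numbers (taken with its
characteristic-p structure) and a, …, i ∈ K. Let L be a Lie algebra over K[ε], free as a module with
basis x = bs 0, y = bs 1, z = bs 2 and brackets [x,y] = aε x + bε y + cε z, [x,z] = dε x + eε y + fε
z, [y,z] = (1 + gε) x + hε y + iε z, a first-order deformation of the Heisenberg algebra (the Jacobi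
identity forces b + f = 0). Then L carries a p-mapping over K[ε] if and only if b = c = e = 0 when p
= 2; for odd p there is no condition. (The published statement is about the singularity of the point
h_3 in the restrictable locus of the rank-one-centre stratum of the moduli scheme of based
three-dimensional Lie algebras over the prime field; this row states the restrictability criterion
for the first-order deformations of h_3 asserted in its proof, over any field of characteristic p in
place of the prime field.) -/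
theorem result (K : Type u) [Field K] (p : ℕ) [Fact p.Prime] [CharP K p]
    [CharP (DualNumber K) p] (a b c d e f g h i : K)
    (L : Type v) [LieRing L] [LieAlgebra (DualNumber K) L] (bs : Module.Basis (Fin 3) (DualNumber K) L)
    (hxy : ⁅bs 0, bs 1⁆ = (a • ε : DualNumber K) • bs 0 + (b • ε : DualNumber K) • bs 1 + (c • ε : DualNumber K) • bs 2)
    (hxz : ⁅bs 0, bs 2⁆ = (d • ε : DualNumber K) • bs 0 + (e • ε : DualNumber K) • bs 1 + (f • ε : DualNumber K) • bs 2)
    (hyz : ⁅bs 1, bs 2⁆ = (1 + g • ε : DualNumber K) • bs 0 + (h • ε : DualNumber K) • bs 1 + (i • ε : DualNumber K) • bs 2) :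
    Nonempty (PLie.PMap (DualNumber K) p L) ↔ (p = 2 → b = 0 ∧ c = 0 ∧ e = 0) := by
  have hp2 : 2 ≤ p := (Fact.out : p.Prime).two_le
  let A : Fin 3 → Matrix (Fin 3) (Fin 3) K := ![0, !![0, 0, 1; 0, 0, 0; 0, 0, 0],
    !![0, -1, 0; 0, 0, 0; 0, 0, 0]]
  let B : Fin 3 → Matrix (Fin 3) (Fin 3) K := ![!![0, a, d; 0, b, e; 0, c, f],
    !![-a, 0, g; -b, 0, h; -c, 0, i], !![-d, -g, 0; -e, -h, 0; -f, -i, 0]]
  have hyx : ⁅bs 1, bs 0⁆ = -((a • DualNumber.eps : DualNumber K) • bs 0 +
      (b • DualNumber.eps : DualNumber K) • bs 1 + (c • DualNumber.eps : DualNumber K) • bs 2) := by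
    rw [← lie_skew, hxy]
  have hzx : ⁅bs 2, bs 0⁆ = -((d • DualNumber.eps : DualNumber K) • bs 0 +
      (e • DualNumber.eps : DualNumber K) • bs 1 + (f • DualNumber.eps : DualNumber K) • bs 2) := by
    rw [← lie_skew, hxz]
  have hzy : ⁅bs 2, bs 1⁆ = -((1 + g • DualNumber.eps : DualNumber K) • bs 0 +
      (h • DualNumber.eps : DualNumber K) • bs 1 + (i • DualNumber.eps : DualNumber K) • bs 2) := by
    rw [← lie_skew, hyz]
  have hb : ∀ k j l, bs.repr ⁅bs k, bs j⁆ l =
      TrivSqZeroExt.inl (A k l j) + TrivSqZeroExt.inr (B k l j) := by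
    intro k j l
    fin_cases k <;> fin_cases j <;>
      simp [A, B, hxy, hxz, hyz, hyx, hzx, hzy] <;>
      fin_cases l <;> refine TrivSqZeroExt.ext ?_ ?_ <;> simp
  have hbf : b + f = 0 := by
    have hj := lie_jacobi (bs 0) (bs 1) (bs 2)
    rw [hyz, hxy, hzx] at hj
    simp only [lie_add, lie_neg, lie_smul, lie_self, hxy, hxz, hyz, hyx, hzx, hzy, smul_zero,
      smul_add, smul_neg, smul_smul] at hj
    have := congrArg (fun v => TrivSqZeroExt.snd (bs.repr v 0)) hj
    simp at this
    linear_combination -this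
  rw [Agent.PLie29.nonempty_pmap_iff_dmat bs A B hb]
  have sx : Agent.PLie29.dmat (A 0) (B 0) ^ 2 = 0 := by
    rw [pow_two, Agent.PLie29.dmat_mul, ← Agent.PLie29.dmat_zero, Agent.PLie29.dmat_inj]
    simp [A]
  have sy : Agent.PLie29.dmat (A 1) (B 1) ^ 2 =
      Agent.PLie29.dmat 0 !![-c, 0, i - a; 0, 0, -b; 0, 0, -c] := by
    rw [pow_two, Agent.PLie29.dmat_mul, Agent.PLie29.dmat_inj]
    constructor <;> ext r s <;> fin_cases r <;> fin_cases s <;> simp [A, B, Matrix.mul_apply, Fin.sum_univ_three] <;> ring
  have sz : Agent.PLie29.dmat (A 2) (B 2) ^ 2 =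
      Agent.PLie29.dmat 0 !![e, d + h, 0; 0, e, 0; 0, f, 0] := by
    rw [pow_two, Agent.PLie29.dmat_mul, Agent.PLie29.dmat_inj]
    constructor <;> ext r s <;> fin_cases r <;> fin_cases s <;> simp [A, B, Matrix.mul_apply, Fin.sum_univ_three] <;> ring
  constructor
  · rintro H rfl
    obtain ⟨α, β, hY⟩ := H 1
    obtain ⟨α', β', hZ⟩ := H 2
    rw [sy, Agent.PLie29.dmat_inj] at hY
    rw [sz, Agent.PLie29.dmat_inj] at hZ
    have y02 := congrFun (congrFun hY.1 0) 2
    have y01 := congrFun (congrFun hY.1 0) 1
    have y00 := congrFun (congrFun hY.2 0) 0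
    have y12 := congrFun (congrFun hY.2 1) 2
    have y22 := congrFun (congrFun hY.2 2) 2
    have z02 := congrFun (congrFun hZ.1 0) 2
    have z01 := congrFun (congrFun hZ.1 0) 1
    have z00 := congrFun (congrFun hZ.2 0) 0
    simp [A, B, Fin.sum_univ_three] at y02 y01 z02 z01
    have a1 : α 1 = 0 := by first | exact y02 | exact y02.symm
    have a2 : α 2 = 0 := by first | exact y01 | exact y01.symm
    have a1' : α' 1 = 0 := by first | exact z02 | exact z02.symm
    have a2' : α' 2 = 0 := by first | exact z01 | exact z01.symm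
    simp [A, B, Fin.sum_univ_three, a1, a2, a1', a2'] at y00 y12 y22 z00
    have hf : f = -b := by linear_combination hbf
    refine ⟨?_, y00, z00⟩
    rw [hf] at y22
    rw [y00] at y22
    rcases mul_eq_zero.mp (show α 0 * b = 0 by linear_combination y22) with h0 | h0
    · rw [h0] at y12; linear_combination -y12
    · exact h0
  · intro H
    by_cases hp : p = 2
    · subst hp
      obtain ⟨rfl, rfl, rfl⟩ := H rfl
      obtain rfl : f = 0 := by linear_combination hbf
      intro k
      fin_cases k
      · exact ⟨0, 0, by simp [sx, Agent.PLie29.dmat_zero]⟩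
      · refine ⟨0, ![0, i - a, 0], ?_⟩
        simp only [Fin.mk_one, sy, Agent.PLie29.dmat_inj]
        constructor <;> ext r s <;> fin_cases r <;> fin_cases s <;>
          simp [A, B, Fin.sum_univ_three]
      · refine ⟨0, ![0, 0, -(d + h)], ?_⟩
        simp only [Fin.reduceFinMk, sz, Agent.PLie29.dmat_inj]
        constructor <;> ext r s <;> fin_cases r <;> fin_cases s <;>
          simp [A, B, Fin.sum_univ_three]
    · have cy : Agent.PLie29.dmat (A 1) (B 1) ^ 3 =
          Agent.PLie29.dmat 0 !![0, 0, -c; 0, 0, 0; 0, 0, 0] := by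
        rw [pow_succ', sy, Agent.PLie29.dmat_mul, Agent.PLie29.dmat_inj]
        constructor <;> ext r s <;> fin_cases r <;> fin_cases s <;> simp [A, B, Matrix.mul_apply, Fin.sum_univ_three]
      have cz : Agent.PLie29.dmat (A 2) (B 2) ^ 3 =
          Agent.PLie29.dmat 0 !![0, -e, 0; 0, 0, 0; 0, 0, 0] := by
        rw [pow_succ', sz, Agent.PLie29.dmat_mul, Agent.PLie29.dmat_inj]
        constructor <;> ext r s <;> fin_cases r <;> fin_cases s <;> simp [A, B, Matrix.mul_apply, Fin.sum_univ_three]
      intro k
      fin_cases k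
      · exact ⟨0, 0, by simp [pow_eq_zero_of_le hp2 sx, Agent.PLie29.dmat_zero]⟩
      · by_cases h3 : p = 3
        · subst h3
          refine ⟨0, ![0, -c, 0], ?_⟩
          simp only [Fin.mk_one, cy, Agent.PLie29.dmat_inj]
          constructor <;> ext r s <;> fin_cases r <;> fin_cases s <;>
            simp [A, B, Fin.sum_univ_three]
        · have h4 : Agent.PLie29.dmat (A 1) (B 1) ^ 4 = 0 := by
            rw [pow_succ', cy, Agent.PLie29.dmat_mul, ← Agent.PLie29.dmat_zero,
              Agent.PLie29.dmat_inj]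
            constructor <;> ext r s <;> fin_cases r <;> fin_cases s <;> simp [A, B, Matrix.mul_apply, Fin.sum_univ_three]
          exact ⟨0, 0, by simp [pow_eq_zero_of_le (by omega : 4 ≤ p) h4, Agent.PLie29.dmat_zero]⟩
      · by_cases h3 : p = 3
        · subst h3
          refine ⟨0, ![0, 0, e], ?_⟩
          simp only [Fin.reduceFinMk, cz, Agent.PLie29.dmat_inj]
          constructor <;> ext r s <;> fin_cases r <;> fin_cases s <;>
            simp [A, B, Fin.sum_univ_three]
        · have h4 : Agent.PLie29.dmat (A 2) (B 2) ^ 4 = 0 := by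
            rw [pow_succ', cz, Agent.PLie29.dmat_mul, ← Agent.PLie29.dmat_zero,
              Agent.PLie29.dmat_inj]
            constructor <;> ext r s <;> fin_cases r <;> fin_cases s <;> simp [A, B, Matrix.mul_apply, Fin.sum_univ_three]
          exact ⟨0, 0, by simp [pow_eq_zero_of_le (by omega : 4 ≤ p) h4, Agent.PLie29.dmat_zero]⟩

end Groth.Agent.S19868
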