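import Groth.Statements.S1987
import Groth.Agent.Ram24.AdjoinDVR
import Groth.Agent.Ram24.Overring

set_option autoImplicit false
universe u
open Polynomial
open EtAlg

namespace Groth.Agent.S1987

open IsLocalRing Polynomial

theorem isTotallyRamified_of_eisenstein {A : Type u} [CommRing A] [IsDomain A] [IsDiscreteValuationRing A]
    {f : A[X]} (hf : f.Monic) (hd : 0 < f.natDegree) (hlow : ∀ i < f.natDegree, f.coeff i ∈ maximalIdeal A)
    (h0 : maximalIdeal A = Ideal.span {f.coeff 0}) [IsDomain (AdjoinRoot f)] [IsDiscreteValuationRing (AdjoinRoot f)]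
    (hmax : maximalIdeal (AdjoinRoot f) = Ideal.span {AdjoinRoot.root f})
    (K₁ : Type u) [Field K₁] [Algebra (AdjoinRoot f) K₁] [IsFractionRing (AdjoinRoot f) K₁] :
    EtRam.IsTotallyRamified A ((algebraMap (AdjoinRoot f) K₁).comp (algebraMap A (AdjoinRoot f))) := by
  set D := AdjoinRoot f
  set g := (algebraMap D K₁).comp (algebraMap A D)
  set ψ : D →+* K₁ := algebraMap D K₁
  have : Module.Finite A D := hf.finite_adjoinRoot
  have hψinj : Function.Injective ψ := IsFractionRing.injective D K₁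
  have hgen : ∀ y : K₁, ∃ a b : D, ψ b ≠ 0 ∧ y * ψ b = ψ a := fun y => by
    obtain ⟨a, b, hb, rfl⟩ := IsFractionRing.div_surjective D y
    have hb' : ψ b ≠ 0 := (map_ne_zero_iff ψ hψinj).2 (nonZeroDivisors.ne_zero hb)
    exact ⟨a, b, hb', div_mul_cancel₀ _ hb'⟩
  have hπ0 : f.coeff 0 ≠ 0 := ((IsDiscreteValuationRing.irreducible_iff_uniformizer _).mpr h0).ne_zero
  have hπD : algebraMap A D (f.coeff 0) ≠ 0 :=
    (map_ne_zero_iff _ (Ram24.algebraMap_adjoinRoot_injective hf hd)).2 hπ0
  have hmap : ∀ a ∈ maximalIdeal A, algebraMap A D a ∈ maximalIdeal D := fun a ha =>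
    Ram24.map_maximalIdeal_le_of_isMaximal hf _ (Ideal.mem_map_of_mem _ ha)
  have hle : ∀ V : ValuationSubring K₁, EtRam.Dominates A g V → ∀ d, ψ d ∈ V :=
    fun V hV => Ram24.mem_of_isIntegral ψ V hV.1
  have hlt : ∀ V : ValuationSubring K₁, EtRam.Dominates A g V → ∀ d ∈ maximalIdeal D,
      V.valuation (ψ d) < 1 := fun V hV =>
    Ram24.valuation_lt_one_of_mem_maximalIdeal ψ V (hle V hV)
      ⟨_, hπD, hV.2 (f.coeff 0) (h0 ▸ Ideal.mem_span_singleton_self _)⟩
  refine ⟨⟨Ram24.rangeVS ψ hgen, fun a => ⟨algebraMap A D a, rfl⟩, fun a ha => ?_⟩, fun V V' hV hV' => ?_,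
    fun V h => ?_⟩
  · have hmem : g a ∈ Ram24.rangeVS ψ hgen := ⟨algebraMap A D a, rfl⟩
    refine (ValuationSubring.valuation_lt_one_iff _ ⟨g a, hmem⟩).mp ?_
    rw [mem_maximalIdeal]
    intro hu
    obtain ⟨⟨w, hw⟩, hwmul⟩ := hu.exists_right_inv
    obtain ⟨d, hd⟩ := hw
    have h1 : g a * w = 1 := congrArg Subtype.val hwmul
    rw [← hd, ← map_one ψ] at h1
    exact (mem_maximalIdeal _).mp (hmap a ha) (IsUnit.of_mul_eq_one d (hψinj ((map_mul ψ _ _).trans h1)))
  · ext y
    rw [Ram24.mem_iff_mem_range ψ hgen V (hle V hV) (hlt V hV),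
      Ram24.mem_iff_mem_range ψ hgen V' (hle V' hV') (hlt V' hV')]
  · intro y
    obtain ⟨y, rfl⟩ := residue_surjective (R := V) y
    obtain ⟨d, hd'⟩ := (Ram24.mem_iff_mem_range ψ hgen V (hle V h) (hlt V h) y).mp y.2
    obtain ⟨a, ha⟩ := Ram24.residue_surjective_of_eisenstein hf hd hlow h0 d
    refine ⟨a, ?_⟩
    rw [← hmax] at ha
    have h1 := hlt V h _ ha
    rw [map_sub, hd'] at h1
    have h2 : (y - RingHom.codRestrict g V h.1 a : V) ∈ maximalIdeal V :=
      (ValuationSubring.valuation_lt_one_iff _ _).mpr h1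
    rw [← residue_eq_zero_iff, map_sub, sub_eq_zero] at h2
    exact h2.symm


/-- Let A be a discrete valuation ring with uniformizer π and n ≥ 2, and let A' = A[x]/(x^n - π). Then
x^n - π is irreducible over A, A' is an integrally closed discrete valuation ring (so it is the
integral closure of A in its fraction field K₁ = K(π^{1/n}), of degree n over K), the maximal ideal
of A generates the n-th power of the maximal ideal of A' (ramification index n), and K₁ is totally
ramified with respect to A. -/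
theorem result (A : Type u) [CommRing A] [IsDomain A] [IsDiscreteValuationRing A] (π : A)
    (hπ : Irreducible π) (n : ℕ) (hn : 2 ≤ n) :
    Irreducible (X ^ n - C π : A[X]) ∧
    ∃ (_ : IsDomain (AdjoinRoot (X ^ n - C π : A[X]))) (_ : IsDiscreteValuationRing (AdjoinRoot (X ^ n - C π : A[X]))),
      IsIntegrallyClosed (AdjoinRoot (X ^ n - C π : A[X])) ∧
      (IsLocalRing.maximalIdeal A).map (algebraMap A (AdjoinRoot (X ^ n - C π : A[X]))) = IsLocalRing.maximalIdeal (AdjoinRoot (X ^ n - C π : A[X])) ^ n ∧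
      ∀ (K₁ : Type u) [Field K₁] [Algebra (AdjoinRoot (X ^ n - C π : A[X])) K₁] [IsFractionRing (AdjoinRoot (X ^ n - C π : A[X])) K₁],
        EtRam.IsTotallyRamified A ((algebraMap (AdjoinRoot (X ^ n - C π : A[X])) K₁).comp (algebraMap A (AdjoinRoot (X ^ n - C π : A[X])))) := by
  have hmA : IsLocalRing.maximalIdeal A = Ideal.span {π} := hπ.maximalIdeal_eq
  let f : A[X] := X ^ n - C π
  have hf : f.Monic := monic_X_pow_sub_C π (by omega)
  have hdeg : f.natDegree = n := natDegree_X_pow_sub_C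
  have hd : 0 < f.natDegree := by omega
  have hc : ∀ i, f.coeff i = (if i = n then 1 else 0) - if i = 0 then π else 0 := fun i => by
    simp [f, coeff_X_pow, coeff_C]
  have hlow : ∀ i < f.natDegree, f.coeff i ∈ IsLocalRing.maximalIdeal A := fun i hi => by
    rw [hdeg] at hi
    rw [hc, if_neg hi.ne, zero_sub, neg_mem_iff, hmA]
    split_ifs
    · exact Ideal.mem_span_singleton_self π
    · exact zero_mem _
  have h0 : IsLocalRing.maximalIdeal A = Ideal.span {f.coeff 0} := by
    rw [hc, if_neg (by omega), if_pos rfl, zero_sub, Ideal.span_singleton_neg, hmA]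
  obtain ⟨hD, hV, hmax⟩ := Ram24.dvr_of_eisenstein hf hd hlow h0
  refine ⟨Ram24.irreducible_of_eisenstein hf hd hlow h0, hD, hV, inferInstance, ?_, fun K₁ _ _ _ => ?_⟩
  · rw [hmax, hmA, Ideal.map_span, Set.image_singleton, Ideal.span_singleton_pow]
    congr 2
    have h := AdjoinRoot.eval₂_root f
    rw [eval₂_sub, eval₂_X_pow, eval₂_C, sub_eq_zero] at h
    exact h.symm
  · exact isTotallyRamified_of_eisenstein hf hd hlow h0 hmax K₁

end Groth.Agent.S1987
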