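import Mathlib.AlgebraicGeometry.IdealSheaf.Functorial
import Mathlib.AlgebraicGeometry.Morphisms.FiniteType
import Mathlib.AlgebraicGeometry.Morphisms.QuasiCompact
import Mathlib.Topology.Connected.Basic
import Mathlib
import Groth.Agent.MP99.Ops
-- import your own Groth.Agent.* helpers here

set_option autoImplicit false
universe u
namespace LVCorr
end LVCorr

open LVCorr

namespace Groth.Agent.S19878

open AlgebraicGeometry CategoryTheory CategoryTheory.Limits in
/-- Let k be a field, C a k-scheme of finite type, X a k-scheme and c = (c₁, c₂) : C → X ×_k X a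
correspondence; let Fix(c) = C ×_{X ×_k X} X be its scheme of fixed points (pullback along the
diagonal), with projections i : Fix(c) → C and δ : Fix(c) → X. Let Z ⊂ X be the closed subscheme of
a quasi-coherent ideal I and suppose c is contracting near Z in a neighbourhood of the fixed points:
there is an open W ⊆ C containing the image of Fix(c) such that on W the inverse image ideal of I
under c₁ is contained in the inverse image ideal of I under c₂ (c stabilizes Z on W) and some power
(I·O_W via c₁)^k₀ is contained in (I·O_W via c₂)^(k₀+1). Then every connected open subset β of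
Fix(c) whose image under δ meets Z is contained, as a set, in δ⁻¹(Z). (The source works with
separated schemes of finite type over an algebraically closed field; this row assumes only that C is
of finite type over a field k.) -/
theorem result {C X Fx : Scheme.{u}} (k : Type u) [Field k]
    (pC : C ⟶ Spec (CommRingCat.of k)) [LocallyOfFiniteType pC] [QuasiCompact pC]
    (pX : X ⟶ Spec (CommRingCat.of k)) (c₁ c₂ : C ⟶ X) (hc : c₁ ≫ pX = c₂ ≫ pX)
    (i : Fx ⟶ C) (δ : Fx ⟶ X) (hF : IsPullback i δ (pullback.lift c₁ c₂ hc) (pullback.diagonal pX))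
    (I : X.IdealSheafData) (W : C.Opens) (hW : Set.range i.base ⊆ (W : Set C))
    (hle : I.comap (W.ι ≫ c₁) ≤ I.comap (W.ι ≫ c₂))
    (k₀ : ℕ) (hpow : I.comap (W.ι ≫ c₁) ^ k₀ ≤ I.comap (W.ι ≫ c₂) ^ (k₀ + 1))
    (β : Fx.Opens) (hβ : _root_.IsConnected (β : Set Fx))
    (hβZ : (δ.base '' (β : Set Fx) ∩ (I.support : Set X)).Nonempty) :
    (β : Set Fx) ⊆ δ.base ⁻¹' (I.support : Set X) := by
  let i' : Fx ⟶ (W : Scheme.{u}) := IsOpenImmersion.lift W.ι i (by simpa using hW)
  have hi' : i' ≫ W.ι = i := IsOpenImmersion.lift_fac _ _ _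
  have h1 : i' ≫ W.ι ≫ c₁ = δ := by
    have := congrArg (· ≫ pullback.fst pX pX) hF.w
    simp only [← hi', Category.assoc, pullback.diagonal_fst, Category.comp_id] at this
    erw [pullback.lift_fst] at this
    exact this
  have h2 : i' ≫ W.ι ≫ c₂ = δ := by
    have := congrArg (· ≫ pullback.snd pX pX) hF.w
    simp only [← hi', Category.assoc, pullback.diagonal_snd, Category.comp_id] at this
    erw [pullback.lift_snd] at this
    exact this
  have comap_pow : ∀ (J : (W : Scheme.{u}).IdealSheafData) (n : ℕ), 1 ≤ n → (J ^ n).comap i' = J.comap i' ^ n := by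
    intro J n hn
    induction n, hn using Nat.le_induction with
    | base => rw [pow_one, pow_one]
    | succ n hn ih => rw [pow_succ, pow_succ, Groth.Agent.MP99.comap_mul, ih]
  have hJ1 : (I.comap (W.ι ≫ c₁)).comap i' = I.comap δ := by
    rw [← Scheme.IdealSheafData.comap_comp, h1]
  have hJ2 : (I.comap (W.ι ≫ c₂)).comap i' = I.comap δ := by
    rw [← Scheme.IdealSheafData.comap_comp, h2]
  let J := I.comap δ
  have hJ : J ^ k₀ ≤ J ^ (k₀ + 1) := by
    have hm := (Scheme.IdealSheafData.map_gc i').monotone_l hpow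
    rcases Nat.eq_zero_or_pos k₀ with rfl | hk
    · simp only [comap_pow _ 1 le_rfl, hJ2, zero_add] at hm
      simpa [J, show (1 : Fx.IdealSheafData) = ⊤ from rfl, show (1 : (W : Scheme.{u}).IdealSheafData) = ⊤ from rfl] using hm
    · simp only [comap_pow _ k₀ hk, comap_pow _ (k₀ + 1) (by omega), hJ1, hJ2] at hm
      exact hm
  have : IsImmersion i := MorphismProperty.of_isPullback hF.flip inferInstance
  have : IsLocallyNoetherian Fx := LocallyOfFiniteType.isLocallyNoetherian (i ≫ pC)
  have hopen : IsOpen (J.support : Set Fx) := by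
    rw [isOpen_iff_forall_mem_open]
    intro x hx
    obtain ⟨_, ⟨V, hV, rfl⟩, hxV, -⟩ := Fx.isBasis_affineOpens.exists_subset_of_mem_open (Set.mem_univ x) isOpen_univ
    have : IsNoetherianRing Γ(Fx, V) := IsLocallyNoetherian.component_noetherian ⟨V, hV⟩
    let a := J.ideal ⟨V, hV⟩
    have ha : a ^ k₀ ≤ a ^ (k₀ + 1) := by simpa [a] using hJ ⟨V, hV⟩
    have hstab : ∀ m, a ^ k₀ ≤ a ^ (k₀ + m) := fun m => by
      induction m with
      | zero => simp
      | succ m ih =>
        calc a ^ k₀ ≤ a ^ (k₀ + 1) := ha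
          _ = a ^ k₀ * a := pow_succ _ _
          _ ≤ a ^ (k₀ + m) * a := Ideal.mul_mono_left ih
          _ = a ^ (k₀ + (m + 1)) := by rw [← pow_succ, add_assoc]
    have hid : IsIdempotentElem (a ^ k₀) :=
      le_antisymm Ideal.mul_le_right ((hstab k₀).trans (pow_add a k₀ k₀).le)
    obtain ⟨e, he, hae⟩ := (Ideal.isIdempotentElem_iff_of_fg _ (IsNoetherian.noetherian _)).mp hid
    have hmem : ∀ y ∈ V, y ∈ J.support ↔ y ∉ Fx.basicOpen e := by
      intro y hy
      rw [J.mem_support_iff_of_mem (U := ⟨V, hV⟩) hy]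
      rcases Nat.eq_zero_or_pos k₀ with hk | hk
      · have haT : a = ⊤ := top_le_iff.mp (by simpa [hk] using ha)
        have : Ideal.span {e} = ⊤ := by rw [← Ideal.one_eq_top, ← pow_zero a, ← hk]; exact hae.symm
        rw [Ideal.span_singleton_eq_top] at this
        simp only [Scheme.basicOpen_of_isUnit _ this]
        refine ⟨fun h => absurd h ?_, fun h => absurd hy h⟩
        change y ∉ Fx.zeroLocus (a : Set Γ(Fx, V))
        rw [haT]
        simp only [Scheme.mem_zeroLocus_iff]
        exact fun h => h 1 Submodule.mem_top (by rw [Scheme.basicOpen_of_isUnit _ isUnit_one]; exact hy)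
      · change y ∈ Fx.zeroLocus (a : Set Γ(Fx, V)) ↔ _
        simp only [Scheme.mem_zeroLocus_iff]
        refine ⟨fun h hye => h e (Ideal.pow_le_self hk.ne' (hae ▸ Ideal.mem_span_singleton_self e)) hye,
          fun h f hf hyf => h ?_⟩
        obtain ⟨g, hg⟩ := Ideal.mem_span_singleton.mp (hae ▸ Ideal.pow_mem_pow hf k₀)
        have : y ∈ Fx.basicOpen (f ^ k₀) := (Scheme.basicOpen_pow Fx f hk) ▸ hyf
        rw [hg, Scheme.basicOpen_mul] at this
        exact this.1
    refine ⟨Fx.basicOpen (1 - e), fun y hy => ?_, (Fx.basicOpen (1 - e)).isOpen, ?_⟩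
    · refine (hmem y (Fx.basicOpen_le _ hy)).mpr fun hye => ?_
      have : y ∈ Fx.basicOpen (e * (1 - e)) := by rw [Scheme.basicOpen_mul]; exact ⟨hye, hy⟩
      have he0 : e * (1 - e) = 0 := by rw [mul_sub, mul_one, he.eq, sub_self]
      rw [he0] at this
      simpa [Scheme.basicOpen_zero] using this
    · have h := (hmem x hxV).mp hx
      rw [SetLike.mem_coe, Scheme.mem_basicOpen _ _ _ hxV]
      rw [Scheme.mem_basicOpen _ _ _ hxV] at h
      rcases IsLocalRing.isUnit_or_isUnit_of_add_one (a := Fx.presheaf.germ V x hxV (1 - e))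
          (b := Fx.presheaf.germ V x hxV e) (by rw [← map_add, sub_add_cancel, map_one]) with h' | h'
      · exact h'
      · exact absurd h' h
  have hsupp : (J.support : Set Fx) = δ.base ⁻¹' (I.support : Set X) := by
    simp [J, Scheme.IdealSheafData.support_comap]
  rw [← hsupp]
  obtain ⟨_, ⟨y, hyβ, rfl⟩, hyI⟩ := hβZ
  exact hβ.isPreconnected.subset_isClopen ⟨J.support.isClosed, hopen⟩ ⟨y, hyβ, hsupp ▸ hyI⟩

end Groth.Agent.S19878
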