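import Groth.Statements.S19881
import Groth.Agent.GrMod19.Gor.LinearReg
import Groth.Agent.GrMod19.PolyIso
import Groth.Agent.EGA4Alg4.QuasiReg
import Groth.Agent.GrInj18.Res

set_option autoImplicit false
universe u
open GrLC

namespace Groth.Agent.S19881

/-- Let R = ⊕_{n ≥ 0} R_n be a (Noetherian) positively ℤ-graded ring which is standard graded
(irrelevant ideal generated by R_1), with R_0 Artinian, *local with unique homogeneous maximal ideal
m, Cohen–Macaulay of Krull dimension d, and with infinite residue field R/m. If the a-invariant of R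
equals −d, i.e. the end (largest nonzero degree) of the graded local cohomology module H^d_m(R),
computed from any *injective resolution of R in the graded category, is −d, then R is a polynomial
ring over R_0 in d variables of degree one: there is an R_0-algebra isomorphism R_0[T_1, …, T_d] ≅ R
mapping every variable into R_1. (The published statement asserts the equivalence of a(R) = −d with
R ≅ R_0[T_1, …, T_d] without the residue-field hypothesis; its argument treats the case of an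
infinite residue field, which is the case stated here, and only the forward implication is stated.) -/
theorem result (R : Type u) [CommRing R]
    [LocCoh.IsCohenMacaulayRing R] (𝒜 : ℤ → AddSubgroup R) [GradedRing 𝒜]
    (hpos : ∀ n : ℤ, n < 0 → 𝒜 n = ⊥)
    (hstd : Ideal.span (⋃ n ∈ Set.Ioi (0 : ℤ), (𝒜 n : Set R)) = Ideal.span ((𝒜 1 : AddSubgroup R) : Set R))
    [IsArtinianRing (GrLC.deg0 𝒜)] (m : HomogeneousIdeal 𝒜) (hm : GrLC.IsStarLocal 𝒜 m)
    (hinf : Infinite (R ⧸ m.toIdeal)) (d : ℕ) (hd : ringKrullDim R = d) (I : GrLC.StarInjRes 𝒜 𝒜)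
    (ha : GrLC.endDeg (I.Hgr m d) = (((-(d : ℤ) : ℤ) : WithTop ℤ) : WithBot (WithTop ℤ))) :
    ∃ e : MvPolynomial (Fin d) (GrLC.deg0 𝒜) ≃ₐ[GrLC.deg0 𝒜] R, ∀ t : Fin d, e (MvPolynomial.X t) ∈ 𝒜 1 := by
  classical
  have hpn : GrMod19.NonnegGr 𝒜 := fun k hk x hx => AddSubgroup.mem_bot.1 (hpos k hk ▸ hx)
  obtain ⟨f, hf, -, hreg, hdim⟩ := GrMod19.Gor.exists_linear_chain hm hpn hstd hd d le_rfl
  obtain ⟨k, hk⟩ := GrMod19.Gor.star_pow_le_chain hm hpn hstd f hf hdim
  obtain ⟨b, hb⟩ : ∃ b : HomogeneousIdeal 𝒜, GrMod19.IsPlus b :=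
    ⟨GrSyz.irrel 𝒜, GrMod19.isPlus_irrel hpn⟩
  have hfm : ∀ i, f i ∈ m.toIdeal := fun i =>
    (GrMod19.plus_le_and_isMaximal hpn hm hb).1 (GrMod19.mem_plus_of_mem hb one_pos (hf i))
  have hJ : GrMod19.preI f d = Ideal.span (Set.range f) := by
    rw [GrMod19.preI]
    congr 1
    rw [show {i : Fin d | (i : ℕ) < d} = Set.univ from Set.eq_univ_of_forall fun i => i.2, Set.image_univ]
  have hP := GrMod19.isHomogeneous_preI (deg := fun _ => (1 : ℤ)) hf d
  let : DirectSum.Decomposition (GrInj18.quotPieces 𝒜 (GrMod19.preI f d : Submodule R R)) :=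
    (GrInj18.quotPieces_isInternal 𝒜 hP).chooseDecomposition
  obtain ⟨-, he⟩ := GrMod19.vEnd_preI m hf (fun _ => zero_le_one) hfm hreg
    (fun i hi n => GrMod19.vanH_below hpn hm hd hi n) d le_rfl le_rfl
  obtain ⟨F⟩ := GrInj18.nonempty_starInjRes 𝒜 (GrInj18.quotPieces 𝒜 (GrMod19.preI f d : Submodule R R))
  rw [← GrMod19.endDeg_eq_vEnd m I, ha, ← GrMod19.endDeg_eq_vEnd m F, Nat.sub_self] at he
  have he0 : GrLC.endDeg (F.Hgr m 0) = (((0 : ℤ) : WithTop ℤ) : WithBot (WithTop ℤ)) := by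
    rw [he, GrMod19.zWB, ← WithBot.coe_add, ← WithTop.coe_add]
    simp
  have hin : ∀ n : ℤ, 0 < n → ∀ v ∈ 𝒜 n, v ∈ Ideal.span (Set.range f) := fun n hn v hv => by
    rw [← hJ]
    have hbot := (GrMod19.endDeg_le_iff _ _).1 he0.le n hn
    refine (Submodule.Quotient.mk_eq_zero (M := R) (GrMod19.preI f d)).1
      (GrMod19.eq_zero_of_vanH_zero m ((GrMod19.vanH_iff m F).2 ((Submodule.eq_bot_iff _).2 fun y hy =>
        (AddSubgroup.eq_bot_iff_forall _).1 hbot y hy)) ⟨k, fun r hr => ?_⟩ ⟨v, hv, rfl⟩)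
    rw [← Submodule.Quotient.mk_smul, Submodule.Quotient.mk_eq_zero, hJ]
    exact Ideal.mul_mem_right _ _ (hk hr)
  have hspan : ∀ v ∈ 𝒜 1, ∃ c : Fin d → GrLC.deg0 𝒜, ∑ i, (c i : R) * f i = v := fun v hv => by
    obtain ⟨c, hc⟩ := Ideal.mem_span_range_iff_exists_fun.1 (hin 1 one_pos v hv)
    refine ⟨fun i => ⟨GrMod19.cmp 𝒜 0 (c i), GrMod19.cmp_mem 𝒜 0 _⟩, ?_⟩
    conv_rhs => rw [← GrMod19.cmp_of_mem 𝒜 hv, ← hc, map_sum]
    refine Finset.sum_congr rfl fun i _ => ?_
    rw [← smul_eq_mul (c i) (f i), GrMod19.cmp_smul_homog_right 𝒜 𝒜 1 (hf i) (c i), sub_self, smul_eq_mul]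
  let ψ : MvPolynomial (Fin d) (GrLC.deg0 𝒜) →+* R := MvPolynomial.eval₂Hom (GrLC.deg0 𝒜).subtype f
  have hsurj : Function.Surjective ψ := GrMod19.polyEval_surjective hpn hstd f hspan
  have hmem : ∀ (n : ℕ) (q : MvPolynomial (Fin d) (GrLC.deg0 𝒜)), q.IsHomogeneous n → ψ q ∈ 𝒜 (n : ℤ) := by
    intro n q hq
    rw [q.as_sum, map_sum]
    refine sum_mem fun e he => ?_
    rw [MvPolynomial.eval₂Hom_monomial]
    have h1 : e.prod (fun i k => f i ^ k) ∈ 𝒜 (∑ i ∈ e.support, (e i) • (1 : ℤ)) :=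
      SetLike.prod_mem_graded _ _ _ fun i _ => SetLike.pow_mem_graded (A := 𝒜) (e i) (hf i)
    have h2 : e.degree = n := by
      rw [Finsupp.degree_eq_weight_one]
      exact hq (MvPolynomial.mem_support_iff.1 he)
    have h4 : (∑ i ∈ e.support, (e i) • (1 : ℤ)) = (n : ℤ) := by
      simp [← h2, Finsupp.degree_apply]
    rw [h4] at h1
    have h3 := SetLike.GradedMul.mul_mem (A := 𝒜) (q.coeff e).2 h1
    rwa [zero_add] at h3
  have hinj : Function.Injective ψ := (injective_iff_map_eq_zero ψ).2 fun p hp => by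
    rw [← MvPolynomial.sum_homogeneousComponent p]
    refine Finset.sum_eq_zero fun n hn => ?_
    have hq : ψ (MvPolynomial.homogeneousComponent n p) = 0 := by
      have h1 := congrArg (GrMod19.cmp 𝒜 (n : ℤ)) hp
      rw [← MvPolynomial.sum_homogeneousComponent p, map_sum, map_sum, map_zero,
        Finset.sum_eq_single n (fun l _ hl => GrMod19.cmp_of_ne 𝒜
          (hmem l _ (MvPolynomial.homogeneousComponent_isHomogeneous l p)) (by exact_mod_cast hl))
          (fun h => absurd hn h),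
        GrMod19.cmp_of_mem 𝒜 (hmem n _ (MvPolynomial.homogeneousComponent_isHomogeneous n p))] at h1
      exact h1
    have hev : MvPolynomial.eval f (MvPolynomial.map (GrLC.deg0 𝒜).subtype (MvPolynomial.homogeneousComponent n p))
        = 0 := (MvPolynomial.eval_map _ _ _).trans hq
    refine MvPolynomial.ext _ _ fun e => ?_
    rw [MvPolynomial.coeff_zero]
    have hc := EGA4Alg4.isQuasiRegular_of_isWeaklyRegular d f hreg n _
      ((MvPolynomial.homogeneousComponent_isHomogeneous n p).map _) (by rw [hev]; exact zero_mem _) e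
    rw [MvPolynomial.coeff_map] at hc
    obtain ⟨c, hcc⟩ := Ideal.mem_span_range_iff_exists_fun.1 hc
    refine Subtype.ext ?_
    show ((MvPolynomial.coeff e (MvPolynomial.homogeneousComponent n p) : GrLC.deg0 𝒜) : R) = 0
    have h5 := congrArg (GrMod19.cmp 𝒜 0) hcc
    rw [GrMod19.cmp_of_mem 𝒜 (show (GrLC.deg0 𝒜).subtype _ ∈ 𝒜 0 from
      (MvPolynomial.coeff e (MvPolynomial.homogeneousComponent n p)).2), map_sum] at h5
    refine h5.symm.trans (Finset.sum_eq_zero fun i _ => ?_)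
    rw [← smul_eq_mul (c i) (f i), GrMod19.cmp_smul_homog_right 𝒜 𝒜 0 (hf i) (c i),
      hpn _ (by norm_num) _ (GrMod19.cmp_mem 𝒜 _ (c i)), zero_smul]
  exact ⟨AlgEquiv.ofBijective (MvPolynomial.aeval f) ⟨hinj, hsurj⟩, fun t => by
    show MvPolynomial.aeval f (MvPolynomial.X t) ∈ 𝒜 1
    rw [MvPolynomial.aeval_X]
    exact hf t⟩

end Groth.Agent.S19881
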