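import Groth.Statements.S19887
import Groth.Agent.LVCorr4.Lift

set_option autoImplicit false
universe u
open LVCorr

namespace Groth.Agent.S19887

open AlgebraicGeometry CategoryTheory CategoryTheory.Limits in
/-- Let k be a field and R a discrete valuation ring with a k-algebra structure, with generic point η
(an open point of Spec R). Let X be a separated k-scheme of finite type, X_R = X ×_k Spec R, and let
(X̃, φ) be a lift of X over R: X̃ is a separated R-scheme of finite type (locally of finite type and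
quasi-compact over R) and φ : X̃ → X_R an R-morphism inducing an isomorphism over η. Then there
exist a scheme Ỹ and a proper morphism ψ : Ỹ → X̃ such that (1) (Ỹ, ψ ∘ φ) is a lift of X, i.e. ψ ∘
φ is an isomorphism over η, (2) Ỹ is proper over X̃, and (3) for every compactification of X, i.e.
every open immersion of X over k into a proper k-scheme X̄ (with X̄_R = X̄ ×_k Spec R and the
induced morphism X_R → X̄_R), Ỹ embeds by an open immersion into a scheme Ỹ(X̄) proper over R and
lifting X̄ (an R-morphism Ỹ(X̄) → X̄_R that is an isomorphism over η) such that Ỹ → Ỹ(X̄) → X̄_R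
equals Ỹ → X̃ → X_R → X̄_R. (The source works over an algebraically closed field k and a discrete
valuation ring over k with residue field k, and its compactifications are dense open immersions;
none of this is used.) -/
theorem result
    (k : Type u) [Field k] (R : Type u) [CommRing R] [IsDomain R] [IsDiscreteValuationRing R] [Algebra k R]
    (η : (Spec (CommRingCat.of R)).Opens) (hη : (η : Set ↥(Spec (CommRingCat.of R))) = {genericPoint ↥(Spec (CommRingCat.of R))})
    (X : Scheme.{u}) (pX : X ⟶ Spec (CommRingCat.of k)) [IsSeparated pX] [LocallyOfFiniteType pX] [QuasiCompact pX]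
    (XR : Scheme.{u}) (a : XR ⟶ X) (b : XR ⟶ Spec (CommRingCat.of R)) (hXR : IsPullback a b pX (Spec.map (CommRingCat.ofHom (algebraMap k R))))
    (Xt : Scheme.{u}) (q : Xt ⟶ Spec (CommRingCat.of R)) [IsSeparated q] [LocallyOfFiniteType q] [QuasiCompact q]
    (φ : Xt ⟶ XR) (hφ : φ ≫ b = q) (hφη : IsIso (φ ∣_ (b ⁻¹ᵁ η))) :
    ∃ (Y : Scheme.{u}) (ψ : Y ⟶ Xt), IsProper ψ ∧ IsIso ((ψ ≫ φ) ∣_ (b ⁻¹ᵁ η)) ∧
      ∀ (Xb : Scheme.{u}) (pXb : Xb ⟶ Spec (CommRingCat.of k)) [IsProper pXb] (jX : X ⟶ Xb) [IsOpenImmersion jX]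
        (hj : jX ≫ pXb = pX)
        (XbR : Scheme.{u}) (ab : XbR ⟶ Xb) (bb : XbR ⟶ Spec (CommRingCat.of R)) (hXbR : IsPullback ab bb pXb (Spec.map (CommRingCat.ofHom (algebraMap k R))))
        (jR : XR ⟶ XbR) (hjR₁ : jR ≫ ab = a ≫ jX) (hjR₂ : jR ≫ bb = b),
        ∃ (Yb : Scheme.{u}) (qb : Yb ⟶ Spec (CommRingCat.of R)) (_ : IsProper qb) (φb : Yb ⟶ XbR) (_ : φb ≫ bb = qb)
          (_ : IsIso (φb ∣_ (bb ⁻¹ᵁ η))) (e : Y ⟶ Yb) (_ : IsOpenImmersion e),
          e ≫ φb = ψ ≫ φ ≫ jR := by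
  haveI : QuasiCompact b := MorphismProperty.of_isPullback hXR ‹QuasiCompact pX›
  haveI : IsSeparated b := MorphismProperty.of_isPullback hXR ‹IsSeparated pX›
  haveI : CompactSpace XR := QuasiCompact.compactSpace_of_compactSpace b
  haveI : QuasiSeparatedSpace XR := quasiSeparatedSpace_of_quasiSeparated b
  haveI : IsSeparated (φ ≫ b) := by rw [hφ]; infer_instance
  haveI : QuasiCompact (φ ≫ b) := by rw [hφ]; infer_instance
  haveI : LocallyOfFiniteType (φ ≫ b) := by rw [hφ]; infer_instance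
  haveI : IsSeparated φ := IsSeparated.of_comp φ b
  haveI : QuasiCompact φ := QuasiCompact.of_comp φ b
  haveI : LocallyOfFiniteType φ := locallyOfFiniteType_of_comp φ b
  haveI := hφη
  let O := b ⁻¹ᵁ η
  have hηc : IsCompact (η : Set ↥(Spec (CommRingCat.of R))) := by rw [hη]; exact isCompact_singleton
  have hO : IsCompact (O : Set XR) := QuasiCompact.isCompact_preimage (f := b) _ η.2 hηc
  let V := φ ⁻¹ᵁ O
  have hV : IsCompact (V : Set Xt) := QuasiCompact.isCompact_preimage (f := φ) _ O.2 hO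
  haveI : CompactSpace V.toScheme := isCompact_iff_compactSpace.1 hV
  let j : (V : Scheme.{u}) ⟶ XR := (φ ∣_ O) ≫ O.ι
  have hjr : j.opensRange = O := by
    rw [Scheme.Hom.opensRange_comp_of_isIso, Scheme.Opens.opensRange_ι]
  haveI : QuasiCompact (O.ι : _ ⟶ XR) := by
    haveI : CompactSpace O.toScheme := isCompact_iff_compactSpace.1 hO
    exact QuasiCompact.of_comp O.ι (CategoryTheory.Limits.terminal.from XR)
  haveI : QuasiCompact j := inferInstance
  obtain ⟨𝓘, Y', bl, hbl, hadm, V', hle, h, hh, hfac, -⟩ :=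
    Groth.Agent.FlatCrit65.Blow.exists_proper_extension_over φ V hV j (𝟙 XR)
      (by rw [Category.comp_id]; exact morphismRestrict_ι φ O)
  rw [Category.comp_id] at hfac
  rw [hjr] at hadm hle
  refine ⟨V', h, hh, ?_, ?_⟩
  · rw [hfac, morphismRestrict_comp]
    haveI : IsIso (V'.ι ∣_ (bl ⁻¹ᵁ O)) := by
      refine isIso_of_isOpenImmersion_of_opensRange_eq_top _ (eq_top_iff.2 fun y _ => ?_)
      refine ⟨⟨⟨y.1, hle y.2⟩, y.2⟩, Subtype.ext ?_⟩
      exact morphismRestrict_base V'.ι (bl ⁻¹ᵁ O) ▸ rfl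
    haveI : IsIso (bl ∣_ O) := by
      haveI := Groth.Agent.Div89.isIso_off_center hbl
      have hle' : O ≤ 𝓘.support.compl := fun x hx hxI => Set.disjoint_left.1 hadm.2 hxI hx
      exact Groth.Agent.MP99.isIso_restrict_of_le bl hle'
    exact IsIso.comp_isIso' ‹IsIso (V'.ι ∣_ (bl ⁻¹ᵁ O))› ‹IsIso (bl ∣_ O)›
  intro Xb pXb _ jX _ hj XbR ab bb hXbR jR hjR₁ hjR₂
  haveI : IsProper bb := MorphismProperty.of_isPullback hXbR ‹IsProper pXb›
  haveI : CompactSpace XbR := QuasiCompact.compactSpace_of_compactSpace bb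
  haveI : QuasiSeparatedSpace XbR := quasiSeparatedSpace_of_quasiSeparated bb
  haveI : IsOpenImmersion jR := by
    have sq : IsPullback a jR jX ab := by
      refine IsPullback.of_bot ?_ hjR₁.symm hXbR
      rw [hjR₂, hj]; exact hXR
    exact MorphismProperty.of_isPullback sq ‹IsOpenImmersion jX›
  have hUb : IsCompact ((bb ⁻¹ᵁ η : XbR.Opens) : Set XbR) := QuasiCompact.isCompact_preimage (f := bb) _ η.2 hηc
  have hOU : jR ⁻¹ᵁ (bb ⁻¹ᵁ η) = O := by
    rw [← Scheme.Hom.comp_preimage, hjR₂]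
  obtain ⟨𝓙, Yb, c, l, -, hc, hciso, hl, hlc⟩ :=
    LVCorr4.exists_extension_blowUp jR (bb ⁻¹ᵁ η) hUb 𝓘 bl hbl (by rw [hOU]; exact hadm)
  haveI := hl
  haveI := hc
  exact ⟨Yb, c ≫ bb, inferInstance, c, rfl, hciso, V'.ι ≫ l, inferInstance,
    by rw [Category.assoc, hlc, reassoc_of% hfac]⟩

end Groth.Agent.S19887
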