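import Groth.Statements.S1989
import Groth.Agent.EtAlg23.RamTower

set_option autoImplicit false
universe u
open EtAlg

namespace Groth.Agent.S1989

/-- Let K be the fraction field of a discrete valuation ring A, and K ⊂ L ⊂ M finite separable
extensions. If M is tamely ramified, respectively unramified, with respect to A, then so is L. -/
theorem result (A K : Type u) [CommRing A] [IsDomain A] [IsDiscreteValuationRing A] [Field K] [Algebra A K] [IsFractionRing A K] (L M : Type u) [Field L] [Field M]
    [Algebra K L] [Algebra K M] [Algebra L M] [IsScalarTower K L M] [FiniteDimensional K M] [Algebra.IsSeparable K M] :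
    (EtRam.IsTamelyRamified A ((algebraMap K M).comp (algebraMap A K)) →
      EtRam.IsTamelyRamified A ((algebraMap K L).comp (algebraMap A K))) ∧
    (EtRam.IsUnramifiedExt A ((algebraMap K M).comp (algebraMap A K)) →
      EtRam.IsUnramifiedExt A ((algebraMap K L).comp (algebraMap A K))) := by
  haveI := FiniteDimensional.left K L M
  haveI : FiniteDimensional L M := Module.Finite.of_restrictScalars_finite K L M
  open Groth.Agent.EtAlg23.RamTower in
  refine ⟨fun hM => isTamelyRamified_iff.2 fun V h p hp hch hdvd => ?_,
    fun hM => isUnramifiedExt_iff.2 fun V h => ?_⟩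
  · obtain ⟨W, hW, rfl⟩ := EtAlg23.RamTower.exists_over (M := M) h
    refine EtAlg23.RamTower.isTamelyRamified_iff.1 hM W hW p hp hch ?_
    rw [EtAlg23.RamTower.ei_tower (L := L) hW]
    exact dvd_mul_of_dvd_left hdvd _
  · obtain ⟨W, hW, rfl⟩ := EtAlg23.RamTower.exists_over (M := M) h
    have h1 := EtAlg23.RamTower.isUnramifiedExt_iff.1 hM W hW
    rw [EtAlg23.RamTower.ei_tower (L := L) hW] at h1
    exact (mul_eq_one.1 h1).1

end Groth.Agent.S1989
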