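import Groth.Statements.S19890
import Groth.Agent.S17722
import Mathlib.RingTheory.Flat.EquationalCriterion
import Mathlib.RingTheory.UniqueFactorizationDomain.Basic
import Mathlib.RingTheory.Ideal.Colon
import Mathlib.RingTheory.Noetherian.UniqueFactorizationDomain

set_option autoImplicit false
universe u
open CAlg

namespace Groth.Agent.S19890

/-- Let R → R' be a faithfully flat ring map between Noetherian integrally closed local domains. Then
unique factorization descends along this map: when R' is a UFD, so is R. (The first assertion of the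
lemma, descent of principality for an ideal whose extension to R' is principal, is a separate
statement.) -/
theorem result
    (R R' : Type u) [CommRing R] [CommRing R'] [IsDomain R] [IsDomain R']
    [IsNoetherianRing R] [IsNoetherianRing R'] [IsLocalRing R] [IsLocalRing R']
    [IsIntegrallyClosed R] [IsIntegrallyClosed R']
    [Algebra R R'] [Module.FaithfullyFlat R R'] [UniqueFactorizationMonoid R'] :
    UniqueFactorizationMonoid R := by
  let φ := algebraMap R R'
  -- colon ideals extend to colon ideals
  let C : ∀ (S : Type u) [CommRing S], S → S → Ideal S := fun S _ a b =>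
    { carrier := {y | a ∣ y * b}
      zero_mem' := by simp
      add_mem' := fun {y z} hy hz => by
        show a ∣ (y + z) * b
        rw [add_mul]; exact dvd_add hy hz
      smul_mem' := fun c y hy => by
        show a ∣ c • y * b
        rw [smul_eq_mul, mul_assoc]; exact hy.mul_left c }
  have hext : ∀ a b : R, C R' (φ a) (φ b) = (C R a b).map φ := by
    intro a b
    refine le_antisymm (fun y hy => ?_) (Ideal.map_le_iff_le_comap.mpr fun y hy => ?_)
    · obtain ⟨z, hz⟩ := (hy : φ a ∣ y * φ b)
      have hrel : ∑ i, ![b, -a] i • ![y, z] i = 0 := by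
        simp only [Fin.sum_univ_two, Matrix.cons_val_zero, Matrix.cons_val_one, Algebra.smul_def]
        rw [map_neg, neg_mul, ← hz, mul_comm y (φ b), add_neg_cancel]
      obtain ⟨k, c, w, hw, hc⟩ := Module.Flat.isTrivialRelation_of_sum_smul_eq_zero hrel
      have hy' : y = ∑ j, c 0 j • w j := hw 0
      rw [hy']
      refine sum_mem fun j _ => ?_
      rw [Algebra.smul_def]
      refine Ideal.mul_mem_right _ _ (Ideal.mem_map_of_mem _ ?_)
      show a ∣ c 0 j * b
      refine ⟨c 1 j, ?_⟩
      have := hc j
      simp only [Fin.sum_univ_two, Matrix.cons_val_zero, Matrix.cons_val_one] at this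
      linear_combination this
    · show φ a ∣ φ y * φ b
      rw [← map_mul]
      exact map_dvd φ hy
  have hprincipal : ∀ a b : R, (C R a b).IsPrincipal := by
    intro a b
    refine Groth.Agent.S17722.result R R' _ ?_
    show ((C R a b).map φ).IsPrincipal
    rw [← hext]
    rcases eq_or_ne (φ a) 0 with ha | ha
    · rcases eq_or_ne (φ b) 0 with hb | hb
      · exact ⟨⟨1, by
          rw [← Ideal.span, Ideal.span_singleton_one, eq_top_iff]
          exact fun y _ => show φ a ∣ y * φ b by simp [hb]⟩⟩
      · exact ⟨⟨0, by
          rw [← Ideal.span, Ideal.span_singleton_eq_bot.mpr rfl, eq_bot_iff]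
          intro y hy
          have hy' : φ a ∣ y * φ b := hy
          simpa [ha, hb] using hy'⟩⟩
    · obtain ⟨a', b', c', hrel, hca, hcb⟩ :=
        UniqueFactorizationMonoid.exists_reduced_factors (φ a) ha (φ b)
      have hc0 : c' ≠ 0 := fun h => ha (by rw [← hca, h, zero_mul])
      refine ⟨⟨a', ?_⟩⟩
      rw [← Ideal.span]
      ext y
      rw [Ideal.mem_span_singleton]
      show φ a ∣ y * φ b ↔ a' ∣ y
      rw [← hca, ← hcb, mul_left_comm, mul_dvd_mul_iff_left hc0]
      exact ⟨fun h => hrel.dvd_of_dvd_mul_right h, fun h => h.mul_right _⟩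
  have hirr : ∀ a : R, Irreducible a → Prime a := by
    intro a ha
    refine ⟨ha.ne_zero, ha.not_isUnit, fun b c hbc => ?_⟩
    obtain ⟨d, hd⟩ := (hprincipal a b).principal
    have had : d ∣ a := by
      rw [← Ideal.mem_span_singleton, Ideal.span, ← hd]
      exact dvd_mul_right a b
    have hcd : d ∣ c := by
      rw [← Ideal.mem_span_singleton, Ideal.span, ← hd]
      show a ∣ c * b
      rwa [mul_comm]
    rcases ha.isUnit_or_isUnit (show a = d * had.choose from had.choose_spec) with hu | hu
    · left
      have h1 : (1 : R) ∈ C R a b := by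
        rw [hd, ← Ideal.span, Ideal.span_singleton_eq_top.mpr hu]; trivial
      have h2 : a ∣ 1 * b := h1
      simpa using h2
    · right
      refine dvd_trans ?_ hcd
      rw [had.choose_spec]
      exact (hu.mul_right_dvd).mpr dvd_rfl
  exact UniqueFactorizationMonoid.of_exists_prime_factors fun a ha => by
    obtain ⟨f, hf, hfa⟩ := WfDvdMonoid.exists_factors a ha
    exact ⟨f, fun b hb => hirr b (hf b hb), hfa⟩

end Groth.Agent.S19890
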