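import Groth.Statements.S19892
import Groth.Agent.SchBasics.ValRefined

set_option autoImplicit false
universe u
open CategoryTheory AlgebraicGeometry
open ValCrit

namespace Groth.Agent.S19892

/-- Let h : Z → Y and f : Y → X be morphisms of quasi-compact quasi-separated schemes, with h dominant
and f locally of finite type. Then f is proper if and only if the following refined valuative
criterion holds: for every point z of Z, every valuation ring R of the residue field κ(z) and every
morphism φ : Spec R → X whose restriction to Spec κ(z) is the canonical morphism Spec κ(z) → Z → Y →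
X, there is exactly one morphism Spec R → Y lying over φ and restricting to Spec κ(z) → Z → Y on the
generic point. (The published statement does not require h to be dominant; its proof uses that every
point of Y generalises to a point of h(Z), and for Z empty the criterion holds whatever f is, so
dominance of h is assumed here.) -/
theorem result {X Y Z : Scheme.{u}} (h : Z ⟶ Y) (f : Y ⟶ X)
    [CompactSpace ↥Z] [QuasiSeparatedSpace ↥Z] [CompactSpace ↥Y] [QuasiSeparatedSpace ↥Y]
    [CompactSpace ↥X] [QuasiSeparatedSpace ↥X] (hd : DenseRange h.base)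
    [LocallyOfFiniteType f] :
    IsProper f ↔
      ∀ (z : ↥Z) (R : ValuationSubring ↑(Z.residueField z)) (φ : Spec (CommRingCat.of ↥R) ⟶ X),
        Spec.map (CommRingCat.ofHom R.subtype) ≫ φ = Z.fromSpecResidueField z ≫ h ≫ f →
        ∃! φ' : Spec (CommRingCat.of ↥R) ⟶ Y,
          Spec.map (CommRingCat.ofHom R.subtype) ≫ φ' = Z.fromSpecResidueField z ≫ h ∧ φ' ≫ f = φ := by
  have : QuasiCompact h := quasiCompact_of_compactSpace h
  have : QuasiCompact f := quasiCompact_of_compactSpace f
  refine ⟨fun _ z R φ w => ?_, fun H => ?_⟩
  · let S : ValuativeCommSq f :=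
      { R := R, K := Z.residueField z, i₁ := Z.fromSpecResidueField z ≫ h, i₂ := φ,
        commSq := ⟨by rw [Category.assoc]; exact w.symm⟩ }
    have hp : (ValuativeCriterion ⊓ @QuasiCompact ⊓ @QuasiSeparated ⊓ @LocallyOfFiniteType) f := by
      rw [← IsProper.eq_valuativeCriterion]; assumption
    obtain ⟨u⟩ := hp.1.1.1 S
    exact ⟨u.default.l, ⟨u.default.fac_left, u.default.fac_right⟩,
      fun φ' hφ' => congrArg CommSq.LiftStruct.l (u.uniq ⟨φ', hφ'.1, hφ'.2⟩)⟩
  · have : IsSeparated f := Groth.Agent.SchBasics.isSeparated_of_refinedUniq h f hd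
      fun z R φ w φ₁ φ₂ h1 e1 h2 e2 => (H z R φ w).unique ⟨h1, e1⟩ ⟨h2, e2⟩
    exact Groth.Agent.SchBasics.isProper_of_refined h f hd fun z R φ w => (H z R φ w).exists

end Groth.Agent.S19892
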