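import Groth.Statements.S19895
import Groth.Agent.VerlindeC52.Schur

set_option autoImplicit false
open Complex
open VerlindeComb

namespace Groth.Agent.S19895

/-- Fix integers r ≥ 2 and k ≥ 1, and two partitions λ, λ' with k ≥ λ_1 ≥ ⋯ ≥ λ_{r-1} ≥ λ_r = 0 and k ≥
λ'_1 ≥ ⋯ ≥ λ'_{r-1} ≥ λ'_r = 0 such that λ is not equivalent to the dual partition λ'* = (k − λ'_r,
…, k − λ'_1), two integer vectors being equivalent when their difference is a constant vector (a, …,
a). For an integer vector v with r + k > v_1 > ⋯ > v_{r-1} > v_r = 0 put z(v)_j = exp(2πi v_j / (r +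
k)), let S_μ(v) = det(z(v)_j^{μ_i + r − i}) / det(z(v)_j^{r − i}) be the Schur value and P(v) =
∏_{i<j} (2 sin(π (v_i − v_j)/(r + k)))². Then the sum over all such v of exp(−2πi (|λ| + |λ'|) (v_1
+ ⋯ + v_r) / (r (r + k))) · S_λ(v) · S_{λ'}(v) · P(v) vanishes; that is, the genus-zero Verlinde
number of rank r, degree 0 and level k with two parabolic points of types λ, λ' is zero. (Only the
vanishing case is stated; the complementary case, where the number equals 1, is not part of this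
statement. The source allows r = 1, where the non-equivalence hypothesis cannot hold.) Indices are
0-based below: lam i stands for λ_{i+1}. -/
theorem result (r k : ℕ) (hr : 2 ≤ r)
    (hk : 1 ≤ k) (lam lam' : Fin r → ℕ) (hlam : Antitone lam) (hlamk : ∀ i, lam i ≤ k)
    (hlam0 : ∀ i : Fin r, (i : ℕ) = r - 1 → lam i = 0)
    (hlam' : Antitone lam') (hlam'k : ∀ i, lam' i ≤ k) (hlam'0 : ∀ i : Fin r, (i : ℕ) = r - 1 → lam' i = 0)
    (hne : ¬ ∃ a : ℤ, ∀ i, (lam i : ℤ) - ((k - lam' (Fin.rev i) : ℕ) : ℤ) = a)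
    (z : (Fin r → ℕ) → Fin r → ℂ)
    (hz : ∀ v j, z v j = Complex.exp (2 * Real.pi * Complex.I * (v j : ℂ) / ((r : ℂ) + k)))
    (S : (Fin r → ℕ) → (Fin r → ℕ) → ℂ)
    (hS : ∀ μ v, S μ v = (Matrix.of fun i j : Fin r => z v j ^ (μ i + (r - 1 - (i : ℕ)))).det /
        (Matrix.of fun i j : Fin r => z v j ^ (r - 1 - (i : ℕ))).det)
    (P : (Fin r → ℕ) → ℝ)
    (hP : ∀ v, P v = ∏ p ∈ (Finset.univ : Finset (Fin r × Fin r)).filter (fun p => p.1 < p.2),
        ((2 : ℝ) * Real.sin (Real.pi * ((v p.1 : ℝ) - (v p.2 : ℝ)) / ((r : ℝ) + k))) ^ 2) :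
    (∑ v ∈ (Finset.univ : Finset (Fin r → Fin (r + k))).filter
        (fun v : Fin r → Fin (r + k) => StrictAnti v ∧ ∀ i : Fin r, (i : ℕ) = r - 1 → (v i : ℕ) = 0),
      Complex.exp (-(2 * Real.pi * Complex.I * (((∑ i, lam i) + (∑ i, lam' i) : ℕ) : ℂ) *
          ((∑ j, (v j : ℕ) : ℕ) : ℂ) / ((r : ℂ) * ((r : ℂ) + k)))) *
        S lam (fun j => (v j : ℕ)) * S lam' (fun j => (v j : ℕ)) * (P (fun j => (v j : ℕ)) : ℂ)) = 0 := by
  haveI : NeZero (r + k) := ⟨by omega⟩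
  let A : Fin r → ℤ := fun i => ((lam i + (r - 1 - (i : ℕ)) : ℕ) : ℤ)
  let B : Fin r → ℤ := fun i => ((lam' i + (r - 1 - (i : ℕ)) : ℕ) : ℤ)
  let sgn : ℂ := ((Equiv.Perm.sign (Fin.revPerm (n := r)) : ℤ) : ℂ)
  have hanti : ∀ (l : Fin r → ℕ), Antitone l → StrictAnti (fun i : Fin r => ((l i + (r - 1 - (i : ℕ)) : ℕ) : ℤ)) := by
    intro l hl i j hij
    have := hl hij.le; have := Fin.lt_def.mp hij; have := j.isLt
    simp only
    omega
  have h0 : ∑ v ∈ Groth.Agent.VerlindeC52.alcove r (r + k),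
      sgn * Groth.Agent.VerlindeC52.twist (N := r + k) A B (fun j => ((v j : ℕ) : ℤ)) = 0 := by
    rw [← Finset.mul_sum, Groth.Agent.VerlindeC52.sum_twist_eq_zero (by omega) A B (hanti _ hlam) (hanti _ hlam'),
      mul_zero]
    · intro i j; have := hlamk i; have := i.isLt; simp only [A]; omega
    · intro i j; have := hlam'k i; have := i.isLt; simp only [B]; omega
    · rintro ⟨c, hc⟩
      apply hne
      refine ⟨c - ((r - 1 : ℕ) : ℤ) - k, fun i => ?_⟩
      have := hc i; have := hlam'k (Fin.rev i); have := i.isLt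
      simp only [A, B, Fin.val_rev] at *
      omega
  refine Eq.trans (Finset.sum_congr (Finset.ext fun v => by
    simp [Groth.Agent.VerlindeC52.mem_alcove]) fun v hv => ?_) h0
  set w : Fin r → ℕ := fun j => (v j : ℕ) with hw
  have hinj : Function.Injective w := fun a b h =>
    ((Groth.Agent.VerlindeC52.mem_alcove.mp hv).1.injective (Fin.ext h))
  have hd := Groth.Agent.VerlindeC52.zalt_stair_ne_zero (N := r + k) _
    (Groth.Agent.VerlindeC52.res_injective w hinj (fun i => (v i).isLt))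
  have hvd := Groth.Agent.VerlindeC52.stair_vdm (N := r + k) w
  rw [hS, hS, Groth.Agent.VerlindeC52.det_stair_eq_zalt w (z w) (hz w),
    Groth.Agent.VerlindeC52.det_pow_eq_zalt _ w (z w) (hz w),
    Groth.Agent.VerlindeC52.det_pow_eq_zalt _ w (z w) (hz w), hP]
  push_cast at hvd ⊢
  rw [hvd]
  have hexp : Complex.exp (-(2 * Real.pi * Complex.I * ((∑ i, (lam i : ℂ)) + ∑ i, (lam' i : ℂ)) * (∑ j, (w j : ℂ)) / ((r : ℂ) * ((r : ℂ) + k)))) *
      Complex.exp (-(2 * Real.pi * Complex.I * ((r - 1 : ℕ) : ℂ) * (∑ j, (w j : ℂ)) / ((r : ℂ) + k))) =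
      Complex.exp (-(2 * Real.pi * Complex.I * ((∑ i, A i + ∑ i, B i : ℤ) : ℂ) * ((∑ j, ((v j : ℕ) : ℤ) : ℤ) : ℂ) / ((r : ℂ) * ((r + k : ℕ) : ℂ)))) := by
    rw [← Complex.exp_add]
    congr 1
    have hg : (∑ i : Fin r, ((r - 1 - (i : ℕ) : ℕ) : ℂ)) * 2 = (r : ℂ) * ((r - 1 : ℕ) : ℂ) := by
      rw [Fin.sum_univ_eq_sum_range (fun i => ((r - 1 - i : ℕ) : ℂ)) r,
        Finset.sum_range_reflect (fun i => (i : ℂ)) r]
      rw [← Nat.cast_sum, ← Nat.cast_mul, ← Finset.sum_range_id_mul_two r]; push_cast; rfl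
    have hs : ((∑ i, A i + ∑ i, B i : ℤ) : ℂ) =
        (∑ i, (lam i : ℂ)) + (∑ i, (lam' i : ℂ)) + (r : ℂ) * ((r - 1 : ℕ) : ℂ) := by
      simp only [A, B, Int.cast_add, Int.cast_sum, Int.cast_natCast, Nat.cast_add, Finset.sum_add_distrib]
      linear_combination hg
    rw [hs]
    simp only [hw, Int.cast_sum, Int.cast_natCast, Nat.cast_add]
    have h1 : (r : ℂ) ≠ 0 := Nat.cast_ne_zero.mpr (by omega)
    have h2 : (r : ℂ) + k ≠ 0 := by exact_mod_cast (show r + k ≠ 0 by omega)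
    field_simp
    ring
  simp only [Groth.Agent.VerlindeC52.twist]
  have hres : (fun j => (((v j : ℕ) : ℤ) : ZMod (r + k))) = Groth.Agent.VerlindeC52.res (r + k) w := by
    funext j; simp [Groth.Agent.VerlindeC52.res, hw]
  have eA : (fun i : Fin r => (lam i : ℤ) + ((r - 1 - (i : ℕ) : ℕ) : ℤ)) = A := by
    funext i; simp [A]
  have eB : (fun i : Fin r => (lam' i : ℤ) + ((r - 1 - (i : ℕ) : ℕ) : ℤ)) = B := by
    funext i; simp [B]
  rw [hres, ← hexp, eA, eB]
  field_simp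
  ring

end Groth.Agent.S19895
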