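import Groth.Statements.S1990
import Groth.Agent.EtAlg23.RamTower

set_option autoImplicit false
universe u
open EtAlg

namespace Groth.Agent.S1990

theorem charP_residue {A F : Type u} [CommRing A] [IsLocalRing A] [Field F] {g : A →+* F}
    {V : ValuationSubring F} (h : EtRam.Dominates A g V) (p : ℕ)
    [CharP (IsLocalRing.ResidueField A) p] : CharP (IsLocalRing.ResidueField V) p :=
  haveI := EtAlg23.RamTower.isLocalHom_dmap h
  charP_of_injective_ringHom
    (IsLocalRing.ResidueField.map (EtAlg23.RamTower.dmap h)).injective p

/-- Let K be the fraction field of a discrete valuation ring A, and K ⊂ L ⊂ M finite separable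
extensions. If L/K is tamely ramified (resp. unramified) with respect to A and M/L is tamely
ramified (resp. unramified) with respect to every valuation subring of L dominating A, then M/K is
tamely ramified (resp. unramified) with respect to A. -/
theorem result (A K : Type u) [CommRing A] [IsDomain A] [IsDiscreteValuationRing A] [Field K] [Algebra A K] [IsFractionRing A K] (L M : Type u) [Field L] [Field M]
    [Algebra K L] [Algebra K M] [Algebra L M] [IsScalarTower K L M] [FiniteDimensional K M] [Algebra.IsSeparable K M] :
    (EtRam.IsTamelyRamified A ((algebraMap K L).comp (algebraMap A K)) →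
      (∀ (V : ValuationSubring L), EtRam.Dominates A ((algebraMap K L).comp (algebraMap A K)) V →
        EtRam.IsTamelyRamified V ((algebraMap L M).comp V.subtype)) →
      EtRam.IsTamelyRamified A ((algebraMap K M).comp (algebraMap A K))) ∧
    (EtRam.IsUnramifiedExt A ((algebraMap K L).comp (algebraMap A K)) →
      (∀ (V : ValuationSubring L), EtRam.Dominates A ((algebraMap K L).comp (algebraMap A K)) V →
        EtRam.IsUnramifiedExt V ((algebraMap L M).comp V.subtype)) →
      EtRam.IsUnramifiedExt A ((algebraMap K M).comp (algebraMap A K))) := by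
  haveI := FiniteDimensional.left K L M
  haveI : FiniteDimensional L M := Module.Finite.of_restrictScalars_finite K L M
  open Groth.Agent.EtAlg23.RamTower in
  refine ⟨fun hL hM => isTamelyRamified_iff.2 fun W h p hp hch hdvd => ?_,
    fun hL hM => isUnramifiedExt_iff.2 fun W h => ?_⟩
  · have hV := EtAlg23.RamTower.dominates_comap (L := L) h
    haveI := Ram24.dvr_of_dominates (B := A) (L := K) _ hV
    rw [EtAlg23.RamTower.ei_tower (L := L) h, hp.dvd_mul] at hdvd
    rcases hdvd with hd | hd
    · exact EtAlg23.RamTower.isTamelyRamified_iff.1 hL _ _ p hp hch hd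
    · exact (EtAlg23.RamTower.isTamelyRamified_iff (A := W.comap (algebraMap L M)) (K := L) (L := M)).1
        (hM _ hV) W _ p hp (charP_residue hV p) hd
  · have hV := EtAlg23.RamTower.dominates_comap (L := L) h
    haveI := Ram24.dvr_of_dominates (B := A) (L := K) _ hV
    rw [EtAlg23.RamTower.ei_tower (L := L) h, EtAlg23.RamTower.isUnramifiedExt_iff.1 hL _ _, one_mul]
    exact (EtAlg23.RamTower.isUnramifiedExt_iff (A := W.comap (algebraMap L M)) (K := L) (L := M)).1
      (hM _ hV) W _

end Groth.Agent.S1990
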