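import Groth.Statements.S19903
import Groth.Agent.AlgSt88.Inertia

set_option autoImplicit false
universe u
open CategoryTheory AlgebraicGeometry
open AlgSt

namespace Groth.Agent.S19903

/-- For a morphism f : 𝒳 → 𝒴 of algebraic stacks, if the relative inertia 𝓘_{𝒳/𝒴} → 𝒳 is locally
separated then the neutral section e : 𝒳 → 𝓘_{𝒳/𝒴} (the second diagonal of f) is an immersion, and
likewise if the diagonal of f is locally separated. The inertia and the diagonal are representable
by algebraic spaces and local separatedness is the property of such morphisms. (The published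
statement asserts the equivalence of the three conditions: inertia locally separated, diagonal
locally separated, neutral section an immersion; only the two implications towards the last
condition are stated here.) -/
theorem result
    (S : Scheme.{u}) (𝒳 : AlgSt.Cat S) (𝒴 : AlgSt.Cat S)
    (h𝒳 : AlgSt.IsAlgStack Scheme.fppfPrecoverage 𝒳)
    (h𝒴 : AlgSt.IsAlgStack Scheme.fppfPrecoverage 𝒴)
    (f : 𝒳 ⥤ᵇ 𝒴) :
    (AlgSt.RepByAlgSpWith AlgSp.IsLocallySeparatedMor (FibCat.inertiaToBase f) →
        AlgSt.IsImm (FibCat.inertiaNeutral f)) ∧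
      (AlgSt.RepByAlgSpWith AlgSp.IsLocallySeparatedMor (FibCat.diag f) →
        AlgSt.IsImm (FibCat.inertiaNeutral f)) := by
  have hX := h𝒳.isStack.1
  have hY := h𝒴.isStack.1
  have key : AlgSt.RepByAlgSpWith AlgSp.IsLocallySeparatedMor (FibCat.inertiaToBase f) →
      AlgSt.IsImm (FibCat.inertiaNeutral f) := fun h => by
    haveI : (AlgSp.RepWith (S := S) @IsImmersion).RespectsIso :=
      (AlgSp.repWith_isStableUnderBaseChange (@IsImmersion : MorphismProperty Scheme.{u})).respectsIso
    exact Groth.Agent.AlgSt88.repByAlgSpWith_neutral_of_diag f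
      (Groth.Agent.AlgSt88.repByAlgSpWith_diag_of_rep (Groth.Agent.AlgSt88.isFibGrpd_inertia hX hY f) hX
        (fun F U a ha => Groth.Agent.AlgSt88.repBySpWith_repWith_of _ ha) h)
  exact ⟨key, fun h => key (Groth.Agent.AlgSt88.repByAlgSpWith_inertiaToBase hX f h)⟩

end Groth.Agent.S19903
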