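import Groth.Statements.S1991
import Groth.Agent.EtAlg23.RamGalois
import Mathlib.FieldTheory.IsSepClosed

set_option autoImplicit false
universe u
open EtAlg

namespace Groth.Agent.S1991

open IntermediateField in
theorem iSup_fieldRange_eq_top {K Ω : Type u} [Field K] [Field Ω] [Algebra K Ω] {ι : Type*}
    {L : ι → Type u} [∀ i, Field (L i)] [∀ i, Algebra K (L i)] (f : ∀ i, L i →ₐ[K] Ω)
    (M : IntermediateField K Ω) (hM : M = ⨆ i, (f i).fieldRange) (j : ∀ i, L i →ₐ[K] M)
    (hj : ∀ i, M.val.comp (j i) = f i) : ⨆ i, (j i).fieldRange = ⊤ := by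
  refine IntermediateField.map_injective M.val ?_
  rw [IntermediateField.map_iSup, ← AlgHom.fieldRange_eq_map, IntermediateField.fieldRange_val]
  conv_rhs => rw [hM]
  exact iSup_congr fun i => by rw [AlgHom.map_fieldRange, hj]

/-- Let A be a discrete valuation ring with fraction field K. A finite separable extension L/K that is
unramified (resp. tamely ramified) with respect to A embeds over K into a finite Galois extension of
K that is unramified (resp. tamely ramified) with respect to A; and two finite separable extensions
of K that are unramified (resp. tamely ramified) with respect to A embed over K into a common finite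
separable extension with the same property. -/
theorem result (A K : Type u) [CommRing A] [IsDomain A] [IsDiscreteValuationRing A] [Field K] [Algebra A K] [IsFractionRing A K] :
    (∀ (L : Type u) [Field L] [Algebra K L] [FiniteDimensional K L] [Algebra.IsSeparable K L],
      (EtRam.IsUnramifiedExt A ((algebraMap K L).comp (algebraMap A K)) →
        ∃ (M : Type u) (_ : Field M) (_ : Algebra K M) (_ : FiniteDimensional K M) (_ : IsGalois K M) (_ : L →ₐ[K] M),
          EtRam.IsUnramifiedExt A ((algebraMap K M).comp (algebraMap A K))) ∧
      (EtRam.IsTamelyRamified A ((algebraMap K L).comp (algebraMap A K)) →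
        ∃ (M : Type u) (_ : Field M) (_ : Algebra K M) (_ : FiniteDimensional K M) (_ : IsGalois K M) (_ : L →ₐ[K] M),
          EtRam.IsTamelyRamified A ((algebraMap K M).comp (algebraMap A K)))) ∧
    (∀ (L₁ L₂ : Type u) [Field L₁] [Field L₂] [Algebra K L₁] [Algebra K L₂] [FiniteDimensional K L₁] [FiniteDimensional K L₂]
      [Algebra.IsSeparable K L₁] [Algebra.IsSeparable K L₂],
      (EtRam.IsUnramifiedExt A ((algebraMap K L₁).comp (algebraMap A K)) →
        EtRam.IsUnramifiedExt A ((algebraMap K L₂).comp (algebraMap A K)) →
        ∃ (M : Type u) (_ : Field M) (_ : Algebra K M) (_ : FiniteDimensional K M) (_ : Algebra.IsSeparable K M)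
          (_ : L₁ →ₐ[K] M) (_ : L₂ →ₐ[K] M), EtRam.IsUnramifiedExt A ((algebraMap K M).comp (algebraMap A K))) ∧
      (EtRam.IsTamelyRamified A ((algebraMap K L₁).comp (algebraMap A K)) →
        EtRam.IsTamelyRamified A ((algebraMap K L₂).comp (algebraMap A K)) →
        ∃ (M : Type u) (_ : Field M) (_ : Algebra K M) (_ : FiniteDimensional K M) (_ : Algebra.IsSeparable K M)
          (_ : L₁ →ₐ[K] M) (_ : L₂ →ₐ[K] M), EtRam.IsTamelyRamified A ((algebraMap K M).comp (algebraMap A K)))) := by
  refine ⟨fun L _ _ _ _ => ?_, fun L₁ L₂ _ _ _ _ _ _ _ _ => ?_⟩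
  · let ι : L →ₐ[K] SeparableClosure K := IsSepClosed.lift
    letI : Algebra L (SeparableClosure K) := ι.toRingHom.toAlgebra
    haveI : IsScalarTower K L (SeparableClosure K) := .of_algebraMap_eq fun k => (ι.commutes k).symm
    let M := IntermediateField.normalClosure K L (SeparableClosure K)
    haveI : IsGalois K M := IsGalois.normalClosure K L (SeparableClosure K)
    let j : (L →ₐ[K] SeparableClosure K) → (L →ₐ[K] M) :=
      fun f => f.codRestrict _ fun x => f.fieldRange_le_normalClosure ⟨x, rfl⟩
    have hj : ⨆ f, (j f).fieldRange = ⊤ :=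
      iSup_fieldRange_eq_top (L := fun _ => L) (fun f => f) M rfl j fun f => rfl
    exact ⟨fun h => ⟨M, inferInstance, inferInstance, inferInstance, inferInstance, j ι,
        EtAlg23.RamGalois.unramified_of_generated M j hj fun _ => h⟩,
      fun h => ⟨M, inferInstance, inferInstance, inferInstance, inferInstance, j ι,
        EtAlg23.RamGalois.tame_of_generated M j hj fun _ => h⟩⟩
  · let L : Bool → Type u := fun b => bif b then L₁ else L₂
    letI : ∀ b, Field (L b) := fun b => match b with | true => ‹Field L₁› | false => ‹Field L₂›
    letI : ∀ b, Algebra K (L b) := fun b => match b with | true => ‹Algebra K L₁› | false => ‹Algebra K L₂›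
    haveI : ∀ b, FiniteDimensional K (L b) := fun b => match b with
      | true => ‹FiniteDimensional K L₁› | false => ‹FiniteDimensional K L₂›
    let f₁ : L₁ →ₐ[K] SeparableClosure K := IsSepClosed.lift
    let f₂ : L₂ →ₐ[K] SeparableClosure K := IsSepClosed.lift
    let f : ∀ b, L b →ₐ[K] SeparableClosure K := fun b => match b with | true => f₁ | false => f₂
    let M : IntermediateField K (SeparableClosure K) := ⨆ b, (f b).fieldRange
    haveI : ∀ b, FiniteDimensional K (f b).fieldRange := fun b =>
      (f b).toLinearMap.finiteDimensional_range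
    haveI : FiniteDimensional K M := IntermediateField.finiteDimensional_iSup_of_finite
    haveI : Algebra.IsSeparable K M := Algebra.isSeparable_tower_bot_of_isSeparable K M (SeparableClosure K)
    let N := IntermediateField.normalClosure K M (SeparableClosure K)
    haveI : IsGalois K N := IsGalois.normalClosure K M (SeparableClosure K)
    let j : ∀ b, L b →ₐ[K] M := fun b =>
      (f b).codRestrict M.toSubalgebra fun x => le_iSup (fun b => (f b).fieldRange) b ⟨x, rfl⟩
    have hj : ⨆ b, (j b).fieldRange = ⊤ := iSup_fieldRange_eq_top f M rfl j fun b => rfl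
    exact ⟨fun h₁ h₂ => ⟨M, inferInstance, inferInstance, inferInstance, inferInstance, j true, j false,
        EtAlg23.RamGalois.unramified_of_generated N j hj fun b =>
          match b with | true => h₁ | false => h₂⟩,
      fun h₁ h₂ => ⟨M, inferInstance, inferInstance, inferInstance, inferInstance, j true, j false,
        EtAlg23.RamGalois.tame_of_generated N j hj fun b =>
          match b with | true => h₁ | false => h₂⟩⟩

end Groth.Agent.S1991
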