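import Groth.Prelude.Def_ModelsG
import Mathlib.RingTheory.RegularLocalRing.Defs
import Mathlib.RingTheory.DiscreteValuationRing.Basic
import Groth.Agent.Ega11.RegLocal
import Mathlib.AlgebraicGeometry.Stalk

set_option autoImplicit false
universe u
open CategoryTheory CategoryTheory.Limits AlgebraicGeometry
namespace Models
end Models

open Models

namespace Groth.Agent.S19912

theorem germ_comp_stalkClosedPointTo {R V : CommRingCat.{u}} [IsLocalRing V] (φ : R ⟶ V) (g : Spec V ⟶ Spec R)
    (hg : g = Spec.map φ) :
    (Scheme.ΓSpecIso R).inv ≫ (Spec R).presheaf.germ ⊤ _ trivial ≫ Scheme.stalkClosedPointTo g = φ := by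
  subst hg
  rw [Scheme.germ_stalkClosedPointTo_Spec, Iso.inv_hom_id_assoc]

/-- Let R be a discrete valuation ring with fraction field K and YR a scheme over Spec R. Let V be a
discrete valuation ring which is an R-algebra in such a way that the maximal ideal of R generates
the maximal ideal of V (ramification index one), and let σ : Spec V -> YR be a morphism over Spec R
sending the closed point of Spec V to y. If the local ring of YR at y is regular, then the local
ring at y of the special fibre of YR, namely O_{YR,y}/𝔪_R O_{YR,y}, is regular. (The published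
statement takes YR a normal projective flat model of a smooth projective geometrically connected
curve Y over K and phrases the hypothesis through a point Q of Y rational over an extension L of K
unramified over K with y in the closure of Q: by the valuative criterion such a point yields a
morphism as above from the spectrum of the localization of the integral closure of R in L at a
maximal ideal over y, which is the form used here.) -/
theorem result
    (R : Type u) [CommRing R] [IsDomain R] [IsDiscreteValuationRing R]
    (YR : Over (Spec (CommRingCat.of R)))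
    (V : Type u) [CommRing V] [IsDomain V] [IsDiscreteValuationRing V] [Algebra R V]
    (hV : Ideal.map (algebraMap R V) (IsLocalRing.maximalIdeal R) = IsLocalRing.maximalIdeal V)
    (σ : Spec (CommRingCat.of V) ⟶ YR.left)
    (hσ : σ ≫ YR.hom = Spec.map (CommRingCat.ofHom (algebraMap R V)))
    (y : YR.left) (hy : σ.base (IsLocalRing.closedPoint V) = y)
    (hreg : IsRegularLocalRing (YR.left.presheaf.stalk y)) :
    IsRegularLocalRing (YR.left.presheaf.stalk y ⧸
      Ideal.map (Models.stalkHom R YR y) (IsLocalRing.maximalIdeal R)) := by
  subst hy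
  obtain ⟨π, hπ⟩ := IsDiscreteValuationRing.exists_irreducible R
  have hπm := (IsDiscreteValuationRing.irreducible_iff_uniformizer π).1 hπ
  let τ := Scheme.stalkClosedPointTo (R := CommRingCat.of V) σ
  let a := Models.stalkHom R YR (σ.base (IsLocalRing.closedPoint V)) π
  have key : τ.hom a = algebraMap R V π := by
    have h := ConcreteCategory.congr_hom (germ_comp_stalkClosedPointTo
      (CommRingCat.ofHom (algebraMap R V)) (σ ≫ YR.hom) hσ) π
    rw [Scheme.stalkClosedPointTo_comp] at h
    have h2 := Scheme.Hom.germ_stalkMap_apply YR.hom ⊤ (σ (IsLocalRing.closedPoint V)) trivial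
      ((Scheme.ΓSpecIso (CommRingCat.of R)).inv π)
    exact (congrArg (fun b => τ.hom b) h2.symm).trans h
  have hV' : IsLocalRing.maximalIdeal V = Ideal.span {τ.hom a} := by
    rw [← hV, hπm, Ideal.map_span, Set.image_singleton, key]
  have ha : a ∈ IsLocalRing.maximalIdeal _ := by
    rw [IsLocalRing.mem_maximalIdeal, mem_nonunits_iff]
    intro h
    exact (IsLocalRing.mem_maximalIdeal _).1 (hV'.symm ▸ Ideal.mem_span_singleton_self (τ.hom a)) (h.map τ.hom)
  have ha2 : a ∉ IsLocalRing.maximalIdeal _ ^ 2 := fun h => by
    have h1 := Ideal.mem_map_of_mem τ.hom h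
    rw [Ideal.map_pow] at h1
    have h2 : (IsLocalRing.maximalIdeal (YR.left.presheaf.stalk (σ.base (IsLocalRing.closedPoint V)))).map τ.hom ≤
        IsLocalRing.maximalIdeal V := Ideal.map_le_iff_le_comap.2 fun x hx =>
      (IsLocalRing.mem_maximalIdeal _).2 fun hu => (IsLocalRing.mem_maximalIdeal _).1 hx (IsUnit.of_map τ.hom x hu)
    have h3 : IsLocalRing.maximalIdeal V ≤ IsLocalRing.maximalIdeal V ^ 2 := by
      conv_lhs => rw [hV']
      rw [Ideal.span_singleton_le_iff_mem]
      exact Ideal.pow_right_mono h2 2 h1
    obtain ⟨ϖ, hϖ⟩ := IsDiscreteValuationRing.exists_irreducible V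
    rw [(IsDiscreteValuationRing.irreducible_iff_uniformizer ϖ).1 hϖ, Ideal.span_singleton_pow,
      Ideal.span_singleton_le_span_singleton] at h3
    obtain ⟨c, hc⟩ := h3
    exact hϖ.not_isUnit (IsUnit.of_mul_eq_one c (mul_left_cancel₀ hϖ.ne_zero (by rw [mul_one]; rw [pow_two] at hc; rw [← mul_assoc, ← hc])))
  have e : Ideal.map (Models.stalkHom R YR (σ.base (IsLocalRing.closedPoint V))) (IsLocalRing.maximalIdeal R) = Ideal.span {a} := by
    rw [hπm, Ideal.map_span, Set.image_singleton]
  rw [e]
  exact (Groth.Agent.Ega11.RegLocal.regular_quotient ha ha2).1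

end Groth.Agent.S19912
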