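import Groth.Prelude.Def_ModelsG
import Groth.Agent.ModPic.Torsion

set_option autoImplicit false
universe u
open CategoryTheory CategoryTheory.Limits AlgebraicGeometry
open Models

namespace Groth.Agent.S19918

/-- Kernel of Pic(X)[n] → Pic(C)[n]: let R be a discrete valuation ring with fraction field K, C a
smooth proper curve over K with H^0(C, O_C) = K, X a regular proper model of C with generic-fibre
inclusion g : C → X, Γ_1, …, Γ_n the irreducible components of the closed fibre with multiplicities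
m_1, …, m_n, d = gcd(m_1, …, m_n), and L_i invertible O_X-modules with L_i ⊗ I(Γ_i) ≅ O_X (that is,
L_i = O_X(Γ_i)). Let h ≥ 1 and put e = gcd(h, d). If M is an invertible O_X-module with M^{⊗h} ≅ O_X
whose pullback to C is trivial, then there is exactly one natural number k < e with M ≅ L_1^{k
m_1/e} ⊗ ⋯ ⊗ L_n^{k m_n/e} = O_X(k·(1/e)·X_s). In other words the kernel of Pic(X)[h] → Pic(C)[h] is
cyclic of order gcd(h, d), generated by the class of O_X((1/e)·X_s). -/
theorem result (R : Type u) [CommRing R] [IsDomain R] [IsDiscreteValuationRing R]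
    (C X : Scheme.{u}) (f : C ⟶ Spec (CommRingCat.of (FractionRing R))) (p : X ⟶ Spec (CommRingCat.of R))
    (hC : Curve.IsSmoothProperCurve (FractionRing R) C f) (hH0 : IsIso f.appTop)
    (hX : Models.IsRegularProperModel R X p C f)
    {n : ℕ} (Γ : Fin n → ArSurf.VertComp R (Over.mk p)) (hΓ : Models.IsComponentList R (Over.mk p) Γ)
    (g : C ⟶ X) (hg : IsPullback g f p (Spec.map (CommRingCat.ofHom (algebraMap R (FractionRing R)))))
    (L : Fin n → X.Modules) (hL : ∀ i, ClSub.IsInverseOf (L i) (ClSub.idealMod (Γ i).ι.ker))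
    (h : ℕ) (hh : 0 < h)
    (M : X.Modules) (hM : PicF.IsInvertible M)
    (htors : Nonempty (CohB1.tensorPow M h ≅ Coh.structureModule X))
    (htriv : Nonempty ((Scheme.Modules.pullback g).obj M ≅ Coh.structureModule C)) :
    ∃! k : ℕ, k < Nat.gcd h (Models.multGcd R (Over.mk p) Γ) ∧
      Nonempty (M ≅ FGA.multiTwist L (fun i => k * (Models.mult R (Over.mk p) (Γ i) / Nat.gcd h (Models.multGcd R (Over.mk p) Γ)))) := by
  obtain ⟨⟨hflat, hft, hqc, g₀, hg₀⟩, hprop, hreg⟩ := hX
  have : IsIntegral C := hC.2.2.1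
  have hn := Groth.Agent.ModPic.pos_of_model (p := p) hΓ hg
  obtain ⟨k, hk, hcl⟩ := Groth.Agent.ModPic.exists_kernel_generator hreg hΓ L hL hg hH0 hM hh htors htriv
  open scoped Groth.Agent.FGA29 in
  refine ⟨k, ⟨hk, Groth.Agent.FGA29.nonempty_iso_of_cl (by rw [Groth.Agent.FGA29.cl_multiTwist]; exact hcl)⟩, fun k' hk' => ?_⟩
  obtain ⟨hk', hi⟩ := hk'
  open scoped Groth.Agent.FGA29 in
  refine Groth.Agent.ModPic.kernel_generator_unique hreg hΓ L hL hg hH0 hn (e := Nat.gcd h (Models.multGcd R (Over.mk p) Γ)) (fun i => (Nat.gcd_dvd_right _ (Finset.univ.gcd fun i => Models.mult R (Over.mk p) (Γ i))).trans (Finset.gcd_dvd (Finset.mem_univ i))) hk' hk ?_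
  rw [← hcl, ← Groth.Agent.FGA29.cl_multiTwist]
  exact (Quot.sound hi : PicF.cl M = _).symm

end Groth.Agent.S19918
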