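import Groth.Statements.S1992
import Mathlib.RingTheory.Polynomial.ScaleRoots
import Mathlib.RingTheory.Localization.Integral

set_option autoImplicit false
universe u
open Polynomial
open EtAlg

namespace Groth.Agent.S1992

open Polynomial

/-- Let A be an absolutely integrally closed ring, i.e. every monic polynomial over A is a product of
linear factors X - a. Then for every prime p of A the localization A_p is a strictly henselian local
ring (henselian with separably closed residue field). -/
theorem result (A : Type u) [CommRing A]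
    (hA : ∀ f : A[X], f.Monic → ∃ s : Multiset A, f = (s.map fun a => X - C a).prod)
    (p : Ideal A) [p.IsPrime] :
    EtCoh.IsStrictlyHenselianLocalRing (Localization.AtPrime p) := by
  let L := Localization.AtPrime p
  have key : ∀ F : L[X], F.Monic → ∃ s : Multiset L, F = (s.map fun a => X - C a).prod := by
    intro F hF
    classical
    obtain ⟨q, hq⟩ : ∃ q : A[X], q.map (algebraMap A L) =
        F.scaleRoots (algebraMap A L (IsLocalization.commonDenom p.primeCompl F.support F.coeff)) := by
      exact IsLocalization.scaleRoots_commonDenom_mem_lifts p.primeCompl F (by rw [hF.leadingCoeff]; exact ⟨1, map_one _⟩)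
    set d := IsLocalization.commonDenom p.primeCompl F.support F.coeff
    obtain ⟨G, hG, -, hGm⟩ := lifts_and_natDegree_eq_and_monic
      (show F.scaleRoots (algebraMap A L d) ∈ lifts (algebraMap A L) from ⟨q, hq⟩)
      ((monic_scaleRoots_iff _).2 hF)
    obtain ⟨s, hs⟩ := hA G hGm
    let u : Lˣ := (IsLocalization.map_units L d).unit
    refine ⟨s.map fun a => ↑u⁻¹ * algebraMap A L a, ?_⟩
    have h1 : F = (F.scaleRoots (algebraMap A L d)).scaleRoots ↑u⁻¹ := by
      rw [← scaleRoots_mul]
      have : algebraMap A L d * ↑u⁻¹ = 1 := u.mul_inv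
      rw [this, scaleRoots_one]
    rw [h1, ← hG, hs, Polynomial.map_multiset_prod, Multiset.map_map, Multiset.map_map]
    clear h1 hs
    induction s using Multiset.induction with
    | empty => simp
    | cons a s ih =>
      simp only [Function.comp_def] at ih ⊢
      simp only [Multiset.map_cons, Multiset.prod_cons]
      rw [mul_scaleRoots', ih]
      · congr 1
        rw [Polynomial.map_sub, Polynomial.map_X, Polynomial.map_C]
        ext (_ | _ | n) <;> simp only [coeff_scaleRoots, coeff_sub, coeff_X, coeff_C, natDegree_X_sub_C] <;> simp <;> ring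
      · have h2 : Monic (X - C (algebraMap A L a)) := monic_X_sub_C _
        have h3 : ((s.map (fun x => ((X - C x : A[X])).map (algebraMap A L)))).prod.Monic :=
          monic_multiset_prod_of_monic _ _ fun i _ => (monic_X_sub_C i).map _
        simp only [Polynomial.map_sub, Polynomial.map_X, Polynomial.map_C] at h3 ⊢
        rw [h2.leadingCoeff, one_mul]
        simpa [Function.comp_def] using h3.ne_zero
  have hlocal : IsLocalRing L := inferInstance
  have hh : HenselianLocalRing L := by
    refine { is_henselian := fun f hf a₀ h₁ _ => ?_ }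
    obtain ⟨s, rfl⟩ := key f hf
    rw [eval_multiset_prod, Multiset.map_map] at h₁
    obtain ⟨x, hx, hxm⟩ : ∃ x ∈ s, a₀ - x ∈ IsLocalRing.maximalIdeal L := by
      obtain ⟨y, hy, hy'⟩ := ((IsLocalRing.maximalIdeal.isMaximal L).isPrime.multiset_prod_mem_iff_exists_mem _).1 h₁
      obtain ⟨x, hx, rfl⟩ := Multiset.mem_map.1 hy
      exact ⟨x, hx, by simpa using hy'⟩
    refine ⟨x, ?_, by rw [← neg_sub]; exact (IsLocalRing.maximalIdeal L).neg_mem hxm⟩
    rw [IsRoot, eval_multiset_prod, Multiset.map_map]
    exact Multiset.prod_eq_zero (Multiset.mem_map.2 ⟨x, hx, by simp⟩)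
  refine ⟨hh, ?_⟩
  haveI : IsAlgClosed (IsLocalRing.ResidueField L) := by
    refine IsAlgClosed.of_exists_root _ fun P hP hirr => ?_
    obtain ⟨Q, hQ, hdeg, hQm⟩ := lifts_and_natDegree_eq_and_monic
      (map_surjective (IsLocalRing.residue L) IsLocalRing.residue_surjective P : P ∈ lifts (IsLocalRing.residue L)) hP
    obtain ⟨s, hs⟩ := key Q hQm
    rcases Multiset.empty_or_exists_mem s with rfl | ⟨x, hx⟩
    · exact absurd (by rw [← hQ, hs]; simp : IsUnit P) hirr.not_isUnit
    · refine ⟨IsLocalRing.residue L x, ?_⟩
      rw [← hQ, eval_map_apply, hs, eval_multiset_prod, Multiset.map_map,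
        Multiset.prod_eq_zero (Multiset.mem_map.2 ⟨x, hx, by simp⟩), map_zero]
  exact IsSepClosed.of_isAlgClosed (IsLocalRing.ResidueField L)

end Groth.Agent.S1992
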