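import Groth.Prelude.Def_ModelsG
import Groth.Agent.ModPic.Torsion

set_option autoImplicit false
universe u
open CategoryTheory CategoryTheory.Limits AlgebraicGeometry
open Models

namespace Groth.Agent.S19924

/-- Let R be a discrete valuation ring with fraction field K, C a smooth proper curve over K with H^0(C,
O_C) = K, X a regular proper model of C with generic-fibre inclusion g : C → X, Γ_1, …, Γ_n the
irreducible components of the closed fibre with multiplicities m_1, …, m_n, and L_i invertible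
O_X-modules with L_i ⊗ I(Γ_i) ≅ O_X. Let h ≥ 1, let N be an invertible O_C-module with N^{⊗h} ≅ O_C,
let M be an invertible O_X-module whose pullback to C is N, and let a, b be exponent vectors with
M^{⊗h} ⊗ L_1^{a_1} ⊗ ⋯ ⊗ L_n^{a_n} ≅ L_1^{b_1} ⊗ ⋯ ⊗ L_n^{b_n}, i.e. M^{⊗h} ≅ O_X(Σ (b_i − a_i)
Γ_i). Then N is the pullback of some invertible O_X-module M' with M'^{⊗h} ≅ O_X if and only if
there are integers c_1, …, c_n and e with b_i − a_i = h c_i + e m_i for all i: the class of Σ (b_i −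
a_i) Γ_i modulo h ℤ^n + ℤ·(m_1, …, m_n) is the obstruction to lifting the h-torsion class N to an
h-torsion class on X. -/
theorem result (R : Type u) [CommRing R] [IsDomain R] [IsDiscreteValuationRing R]
    (C X : Scheme.{u}) (f : C ⟶ Spec (CommRingCat.of (FractionRing R))) (p : X ⟶ Spec (CommRingCat.of R))
    (hC : Curve.IsSmoothProperCurve (FractionRing R) C f) (hH0 : IsIso f.appTop)
    (hX : Models.IsRegularProperModel R X p C f)
    {n : ℕ} (Γ : Fin n → ArSurf.VertComp R (Over.mk p)) (hΓ : Models.IsComponentList R (Over.mk p) Γ)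
    (g : C ⟶ X) (hg : IsPullback g f p (Spec.map (CommRingCat.ofHom (algebraMap R (FractionRing R)))))
    (L : Fin n → X.Modules) (hL : ∀ i, ClSub.IsInverseOf (L i) (ClSub.idealMod (Γ i).ι.ker))
    (h : ℕ) (hh : 0 < h)
    (N : C.Modules) (hN : PicF.IsInvertible N) (hNt : Nonempty (CohB1.tensorPow N h ≅ Coh.structureModule C))
    (M : X.Modules) (hM : PicF.IsInvertible M) (hMN : Nonempty ((Scheme.Modules.pullback g).obj M ≅ N))
    (a b : Fin n → ℕ)
    (hab : Nonempty (CohB1.tensorMod (CohB1.tensorPow M h) (FGA.multiTwist L a) ≅ FGA.multiTwist L b)) :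
    (∃ M' : X.Modules, PicF.IsInvertible M' ∧ Nonempty (CohB1.tensorPow M' h ≅ Coh.structureModule X) ∧
        Nonempty ((Scheme.Modules.pullback g).obj M' ≅ N)) ↔
      ∃ (c : Fin n → ℤ) (e : ℤ), ∀ i, ((b i : ℤ) - (a i : ℤ)) = (h : ℤ) * c i + e * (Models.mult R (Over.mk p) (Γ i) : ℤ) := by
  obtain ⟨⟨hflat, hft, hqc, g₀, hg₀⟩, hprop, hreg⟩ := hX
  open scoped Groth.Agent.FGA29 in
  have hab' : PicF.cl M ^ h * ∏ i, PicF.cl (L i) ^ a i = ∏ i, PicF.cl (L i) ^ b i := by
    rw [← Groth.Agent.FGA29.cl_tensorPow, ← Groth.Agent.FGA29.cl_multiTwist, ← Groth.Agent.FGA29.cl_multiTwist, ← Groth.Agent.FGA29.cl_tensor]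
    exact Quot.sound hab
  constructor
  · rintro ⟨M', hM', ht, hMN'⟩
    obtain ⟨eM⟩ := hMN
    obtain ⟨eM'⟩ := hMN'
    open scoped Groth.Agent.FGA29 in
    obtain ⟨d, hd⟩ := Groth.Agent.ModPic.exists_diff hreg hΓ L hL hg hM hM' ⟨eM ≪≫ eM'.symm⟩
    open scoped Groth.Agent.FGA29 in
    have h1 : ∏ i, PicF.cl (L i) ^ (h * d i + a i) = ∏ i, PicF.cl (L i) ^ b i := by
      rw [← hab', hd, mul_pow, ← Groth.Agent.FGA29.cl_tensorPow M' h,
        show PicF.cl (CohB1.tensorPow M' h) = 1 from Quot.sound ht, one_mul, ← Finset.prod_pow,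
        ← Finset.prod_mul_distrib]
      exact Finset.prod_congr rfl fun i _ => by rw [← pow_mul, ← pow_add, mul_comm (d i)]
    obtain ⟨c, hc⟩ := (Groth.Agent.ModPic.prod_eq_iff hreg hΓ L hL hg hH0 _ _).1 h1
    refine ⟨fun i => d i, -c, fun i => ?_⟩
    have := hc i
    push_cast at this
    linear_combination -this
  · rintro ⟨c, e, hce⟩
    let t : ℕ := ∑ i, (c i).natAbs
    let c' : Fin n → ℕ := fun i => (-c i + (t : ℤ) * (Models.mult R (Over.mk p) (Γ i) : ℤ)).toNat
    have hc' : ∀ i, (c' i : ℤ) = -c i + (t : ℤ) * (Models.mult R (Over.mk p) (Γ i) : ℤ) := fun i => by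
      refine Int.toNat_of_nonneg ?_
      have h1 : (c i).natAbs ≤ t * Models.mult R (Over.mk p) (Γ i) :=
        (Finset.single_le_sum (fun j _ => Nat.zero_le (c j).natAbs) (Finset.mem_univ i)).trans
          (Nat.le_mul_of_pos_right _ (Groth.Agent.ModPic.mult_pos hreg hΓ i))
      have h2 : ((c i).natAbs : ℤ) ≤ ((t * Models.mult R (Over.mk p) (Γ i) : ℕ) : ℤ) := Int.ofNat_le.2 h1
      push_cast at h2
      have := Int.le_natAbs (a := c i)
      omega
    open scoped Groth.Agent.FGA29 in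
    obtain ⟨hpull, hinv⟩ := Groth.Agent.ModPic.cl_pullback_multiTwist hreg hΓ L hL hg c'
    obtain ⟨eM⟩ := hMN
    refine ⟨CohB1.tensorMod M (FGA.multiTwist L c'), Groth.Agent.EGA73.isInvertible_tensorMod hM hinv, ?_, ?_⟩
    · open scoped Groth.Agent.FGA29 in
      refine Groth.Agent.FGA29.nonempty_iso_of_cl ?_
      open scoped Groth.Agent.FGA29 in
      have h0 : ∏ i, PicF.cl (L i) ^ (b i + c' i * h) = ∏ i, PicF.cl (L i) ^ a i :=
        Groth.Agent.ModPic.prod_eq_of_int hreg hΓ L hL _ _ (e + h * t) fun i => by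
          push_cast
          linear_combination hce i + (h : ℤ) * hc' i
      open scoped Groth.Agent.FGA29 in
      have hu : IsUnit (∏ i, PicF.cl (L i) ^ a i) := by
        refine IsUnit.of_mul_eq_one _ (Groth.Agent.ModPic.prod_L_mul (C := Γ) L hL a)
      rw [Groth.Agent.FGA29.cl_tensorPow, Groth.Agent.FGA29.cl_tensor, mul_pow, Groth.Agent.FGA29.cl_multiTwist, Groth.Agent.FGA29.cl_one]
      open scoped Groth.Agent.FGA29 in
      refine hu.mul_left_cancel ?_
      rw [mul_one, ← mul_assoc, mul_comm (∏ i, PicF.cl (L i) ^ a i), hab', ← Finset.prod_pow, ← Finset.prod_mul_distrib]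
      refine (Finset.prod_congr rfl fun i _ => ?_).trans h0
      rw [← pow_mul, ← pow_add]
    · open scoped Groth.Agent.FGA29 in
      refine Groth.Agent.FGA29.nonempty_iso_of_cl ?_
      rw [Groth.Agent.ModPic.cl_pullback_hom g hM hinv, hpull, mul_one]
      exact Quot.sound ⟨eM⟩

end Groth.Agent.S19924
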