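import Groth.Statements.S1995
import Groth.Agent.Hens22.PairHens
import Groth.Agent.Hens22.Idempotents
import Groth.Agent.Hens22.Integral
import Mathlib.RingTheory.Ideal.Quotient.Operations
import Mathlib.Algebra.Group.Pi.Units

set_option autoImplicit false
universe u
open EtAlg

namespace Groth.Agent.S1995

open Groth.Agent.Hens22

theorem henselianRing_pi {ι : Type} [Finite ι] {B : ι → Type u} [∀ i, CommRing (B i)] (J : ∀ i, Ideal (B i))
    [∀ i, HenselianRing (B i) (J i)] (P : Ideal (∀ i, B i)) (hP : ∀ x, x ∈ P ↔ ∀ i, x i ∈ J i) :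
    HenselianRing (∀ i, B i) P := by
  refine ⟨fun x hx => Ideal.mem_jacobson_bot.2 fun z => Pi.isUnit_iff.2 fun i =>
    Ideal.mem_jacobson_bot.1 (HenselianRing.jac (I := J i) ((hP x).1 hx i)) (z i), fun f hf a₀ h1 h2 => ?_⟩
  obtain ⟨b, hb⟩ := isUnit_iff_exists_inv.1 h2
  obtain ⟨b, rfl⟩ := Ideal.Quotient.mk_surjective b
  rw [← map_mul, ← map_one (Ideal.Quotient.mk _), Ideal.Quotient.mk_eq_mk_iff_sub_mem, hP] at hb
  have key : ∀ (p : Polynomial (∀ i, B i)) (a : ∀ i, B i) (i : ι),
      (p.map (Pi.evalRingHom B i)).eval (a i) = p.eval a i := fun p a i =>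
    Polynomial.eval_map_apply (f := Pi.evalRingHom B i) (p := p) a
  have hroot : ∀ i, ∃ r, (f.map (Pi.evalRingHom B i)).IsRoot r ∧ r - a₀ i ∈ J i := fun i => by
    refine HenselianRing.is_henselian _ (hf.map _) (a₀ i) (by rw [key]; exact (hP _).1 h1 i) ?_
    refine isUnit_iff_exists_inv.2 ⟨Ideal.Quotient.mk _ (b i), ?_⟩
    rw [← map_mul, ← map_one (Ideal.Quotient.mk _), Ideal.Quotient.mk_eq_mk_iff_sub_mem, Polynomial.derivative_map, key]
    exact hb i
  choose r hr hr' using hroot
  refine ⟨r, funext fun i => ?_, (hP _).2 hr'⟩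
  rw [← key]
  exact hr i

/-- The product of the henselizations along pairwise comaximal ideals is a henselization. -/
theorem isPairHenselization_pi {A : Type u} [CommRing A] {n : ℕ} (I : Fin n → Ideal A)
    (hI : Pairwise fun i j => I i ⊔ I j = ⊤) (Bi : Fin n → Type u) [∀ i, CommRing (Bi i)] [∀ i, Algebra A (Bi i)]
    (hBi : ∀ i, Hens2.IsPairHenselization A (I i) (Bi i)) :
    Hens2.IsPairHenselization A (⨅ i, I i) (∀ i, Bi i) := by
  classical
  haveI : ∀ i, HenselianRing (Bi i) ((I i).map (algebraMap A (Bi i))) := fun i => (hBi i).1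
  have hu : ∀ i, ∃ u : A, u - 1 ∈ I i ∧ ∀ j, j ≠ i → u ∈ I j := fun i => by
    have htop : I i ⊔ ⨅ j : {j // j ≠ i}, I j = ⊤ := by
      have := Ideal.sup_iInf_eq_top (s := (Finset.univ.erase i)) (I := I i) (J := I)
        (fun j hj => hI (Ne.symm (Finset.ne_of_mem_erase hj)))
      rw [← this]
      congr 1
      simp only [Finset.mem_erase, Finset.mem_univ, and_true]
      exact iInf_subtype
    obtain ⟨a, ha, u, hu, hau⟩ := Submodule.mem_sup.1 ((Ideal.eq_top_iff_one _).1 htop)
    refine ⟨u, ?_, fun j hj => (Submodule.mem_iInf _).1 hu ⟨j, hj⟩⟩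
    rw [← hau, sub_add_cancel_right]
    exact neg_mem ha
  choose u hu1 hu0 using hu
  have hmem : ∀ i, ∀ a ∈ I i, u i * a ∈ ⨅ j, I j := fun i a ha => by
    refine (Submodule.mem_iInf _).2 fun j => ?_
    by_cases hj : j = i
    · subst hj; exact Ideal.mul_mem_left _ _ ha
    · exact Ideal.mul_mem_right _ _ (hu0 i j hj)
  have huu : ∀ i, IsUnit (algebraMap A (Bi i) (u i)) := fun i => by
    have := (Ideal.mem_jacobson_bot.1 (HenselianRing.jac (I := (I i).map (algebraMap A (Bi i)))
      (Ideal.mem_map_of_mem _ (hu1 i)))) 1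
    simpa using this
  have hJ : ∀ x : ∀ i, Bi i, x ∈ (⨅ i, I i).map (algebraMap A (∀ i, Bi i)) ↔
      ∀ i, x i ∈ (I i).map (algebraMap A (Bi i)) := by
    intro x
    constructor
    · intro hx i
      have := Ideal.mem_map_of_mem (Pi.evalRingHom Bi i) hx
      rw [Ideal.map_map, show (Pi.evalRingHom Bi i).comp (algebraMap A (∀ i, Bi i)) = algebraMap A (Bi i) from rfl] at this
      exact Ideal.map_mono (iInf_le _ i) this
    · intro hx
      rw [← Finset.univ_sum_single x]
      refine sum_mem fun i _ => ?_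
      have hle : (I i).map (algebraMap A (Bi i)) ≤ (⨅ j, I j).map (algebraMap A (Bi i)) :=
        Ideal.map_le_iff_le_comap.2 fun a ha => by
          have h1 := Ideal.mem_map_of_mem (algebraMap A (Bi i)) (hmem i a ha)
          rw [map_mul] at h1
          exact (Ideal.unit_mul_mem_iff_mem _ (huu i)).1 h1
      have h1 := hle (hx i)
      generalize x i = z at h1
      induction h1 using Submodule.span_induction with
      | mem z hz =>
        obtain ⟨a, ha, rfl⟩ := hz
        rw [show Pi.single i (algebraMap A (Bi i) a) = Pi.single i 1 * algebraMap A (∀ j, Bi j) a by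
          rw [← Pi.single_mul_left, one_mul]; rfl]
        exact Ideal.mul_mem_left _ _ (Ideal.mem_map_of_mem _ ha)
      | zero => rw [Pi.single_zero]; exact zero_mem _
      | add y z _ _ hy hz => rw [Pi.single_add]; exact add_mem hy hz
      | smul c z _ hz => rw [smul_eq_mul, Pi.single_mul]; exact Ideal.mul_mem_left _ _ hz
  refine ⟨henselianRing_pi (fun i => (I i).map (algebraMap A (Bi i))) _ hJ, fun C _ L f hC hJC => ?_⟩
  have hfI : ∀ a ∈ ⨅ i, I i, f a ∈ L := fun a ha => hJC (Ideal.mem_map_of_mem f ha)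
  have huL : ∀ i, f (u i) * f (u i) - f (u i) ∈ L := fun i => by
    rw [← map_mul, ← map_sub, ← mul_sub_one]
    exact hfI _ (hmem i _ (hu1 i))
  have huLC : ∀ i, f (u i) * f (u i) - f (u i) ∈ L.map (algebraMap C C) := fun i => by
    rw [Algebra.algebraMap_self, Ideal.map_id]; exact huL i
  choose e he he' using fun i => (exists_idempotent_lift L (B := C) (huLC i))
  simp only [Algebra.algebraMap_self, Ideal.map_id] at he'
  have hjac : L ≤ Ideal.jacobson ⊥ := HenselianRing.jac
  have hortho : ∀ i j, i ≠ j → e i * e j = 0 := fun i j hij => by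
    refine eq_of_idempotent_of_sub_mem_jacobson ((he i).mul (he j)) IsIdempotentElem.zero (hjac ?_)
    rw [sub_zero]
    have h1 : f (u i) * f (u j) ∈ L := by
      rw [← map_mul]
      refine hfI _ ((Submodule.mem_iInf _).2 fun k => ?_)
      by_cases hk : k = i
      · exact Ideal.mul_mem_left _ _ (hu0 j k (hk ▸ hij))
      · exact Ideal.mul_mem_right _ _ (hu0 i k hk)
    have h2 := L.add_mem (L.add_mem (L.mul_mem_right (e j) (he' i)) (L.mul_mem_left (f (u i)) (he' j))) h1
    convert h2 using 1; ring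
  have hsum : ∑ i, e i = 1 := by
    refine eq_of_idempotent_of_sub_mem_jacobson ?_ IsIdempotentElem.one (hjac ?_)
    · rw [IsIdempotentElem, Finset.sum_mul_sum]
      refine Finset.sum_congr rfl fun i _ => ?_
      rw [Finset.sum_eq_single i (fun j _ hj => hortho i j (Ne.symm hj)) (by simp), (he i).eq]
    · rw [show (∑ i, e i) - 1 = ∑ i, (e i - f (u i)) + f (∑ i, u i - 1) by
        rw [map_sub, map_sum, map_one, Finset.sum_sub_distrib]; ring]
      refine L.add_mem (L.sum_mem fun i _ => he' i) (hfI _ ((Submodule.mem_iInf _).2 fun j => ?_))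
      rw [← Finset.add_sum_erase _ _ (Finset.mem_univ j), add_sub_right_comm]
      exact add_mem (hu1 j) (sum_mem fun i hi => hu0 i j (Finset.ne_of_mem_erase hi).symm)
  let Q : Fin n → Ideal C := fun i => Ideal.span {1 - e i}
  have hQ0 : ⨅ i, Q i = ⊥ := by
    rw [eq_bot_iff]
    intro x hx
    rw [Submodule.mem_bot, ← one_mul x, ← hsum, Finset.sum_mul]
    refine Finset.sum_eq_zero fun i _ => ?_
    obtain ⟨c, rfl⟩ := Ideal.mem_span_singleton'.1 ((Submodule.mem_iInf _).1 hx i)
    linear_combination (-c) * (he i).eq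
  have hQcop : Pairwise (Function.onFun IsCoprime Q) := fun i j hij => by
    rw [Function.onFun, Ideal.isCoprime_span_singleton_iff]
    exact ⟨1, e i, by linear_combination (-1 : C) * hortho i j hij⟩
  let Ψ : C ≃+* ∀ i, C ⧸ Q i :=
    ((RingEquiv.quotientBot C).symm.trans (Ideal.quotEquivOfEq hQ0.symm)).trans
      (Ideal.quotientInfRingEquivPiQuotient Q hQcop)
  have hΨ : ∀ c i, Ψ c i = Ideal.Quotient.mk (Q i) c := fun c i => rfl
  haveI := fun i => henselianRing_of_surjective L (Ideal.Quotient.mk (Q i)) Ideal.Quotient.mk_surjective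
  have he1 : ∀ i, Ideal.Quotient.mk (Q i) (e i) = 1 := fun i => by
    rw [← map_one (Ideal.Quotient.mk (Q i)), Ideal.Quotient.mk_eq_mk_iff_sub_mem, ← neg_sub]
    exact neg_mem (Ideal.mem_span_singleton_self _)
  have hIi : ∀ i, (I i).map ((Ideal.Quotient.mk (Q i)).comp f) ≤ L.map (Ideal.Quotient.mk (Q i)) := fun i => by
    refine Ideal.map_le_iff_le_comap.2 fun a ha => ?_
    show Ideal.Quotient.mk (Q i) (f a) ∈ L.map (Ideal.Quotient.mk (Q i))
    rw [← one_mul (Ideal.Quotient.mk (Q i) (f a)), ← he1, ← map_mul]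
    refine Ideal.mem_map_of_mem _ ?_
    rw [show e i * f a = (e i - f (u i)) * f a + f (u i * a) by rw [map_mul]; ring]
    exact L.add_mem (L.mul_mem_right _ (he' i)) (hfI _ (hmem i a ha))
  choose g hg hgu using fun i => (hBi i).2 (C ⧸ Q i) (L.map (Ideal.Quotient.mk (Q i)))
    ((Ideal.Quotient.mk (Q i)).comp f) inferInstance (hIi i)
  refine ⟨Ψ.symm.toRingHom.comp (RingHom.pi fun i => (g i).comp (Pi.evalRingHom Bi i)),
    RingHom.ext fun a => ?_, fun g' hg' => ?_⟩
  · show Ψ.symm (fun i => g i (algebraMap A (Bi i) a)) = f a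
    rw [RingEquiv.symm_apply_eq]
    funext i
    rw [hΨ]
    exact RingHom.congr_fun (hg i) a
  · have hid : ∀ i, g' (Pi.single i 1) = e i := fun i => by
      refine eq_of_idempotent_of_sub_mem_jacobson
        ((show IsIdempotentElem (Pi.single i (1 : Bi i) : ∀ j, Bi j) from by
          rw [IsIdempotentElem, ← Pi.single_mul, one_mul]).map g') (he i) (hjac ?_)
      have h1 : (Pi.single i 1 : ∀ j, Bi j) - algebraMap A _ (u i) ∈ (⨅ i, I i).map (algebraMap A (∀ j, Bi j)) := by
        refine (hJ _).2 fun j => ?_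
        rw [Pi.sub_apply, Pi.algebraMap_apply]
        by_cases hj : j = i
        · subst hj
          rw [Pi.single_eq_same, ← map_one (algebraMap A (Bi j)), ← map_sub]
          refine Ideal.mem_map_of_mem _ ?_
          rw [← neg_sub]; exact neg_mem (hu1 j)
        · rw [Pi.single_eq_of_ne hj, zero_sub]
          exact neg_mem (Ideal.mem_map_of_mem _ (hu0 i j hj))
      have h2 := Ideal.mem_map_of_mem g' h1
      rw [Ideal.map_map, hg'] at h2
      have h3 : g' (Pi.single i 1) - f (u i) ∈ L := by
        have h4 := hJC h2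
        rwa [map_sub, ← RingHom.comp_apply g' (algebraMap A (∀ j, Bi j)), hg'] at h4
      convert L.sub_mem h3 (he' i) using 1; ring
    refine RingHom.ext fun x => ?_
    show g' x = Ψ.symm (fun i => g i (x i))
    rw [RingEquiv.eq_symm_apply]
    funext i
    let h : Bi i →+* C ⧸ Q i :=
      { toFun := fun b => Ideal.Quotient.mk (Q i) (g' (Pi.single i b))
        map_one' := by rw [hid, he1]
        map_zero' := by simp
        map_mul' := fun a b => by rw [Pi.single_mul, map_mul, map_mul]
        map_add' := fun a b => by rw [Pi.single_add, map_add, map_add] }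
    have hh : h = g i := hgu i h (RingHom.ext fun a => by
      show Ideal.Quotient.mk (Q i) (g' (Pi.single i (algebraMap A (Bi i) a))) = Ideal.Quotient.mk (Q i) (f a)
      rw [show Pi.single i (algebraMap A (Bi i) a) = Pi.single i 1 * algebraMap A (∀ j, Bi j) a by
          rw [← Pi.single_mul_left, one_mul]; rfl, map_mul, map_mul, hid, he1, one_mul,
        ← RingHom.comp_apply g' (algebraMap A (∀ j, Bi j)), hg'])
    rw [hΨ, ← hh]
    show _ = Ideal.Quotient.mk (Q i) (g' (Pi.single i (x i)))
    rw [← mul_one (Pi.single i (x i)), show (Pi.single i (x i) * 1 : ∀ j, Bi j) = Pi.single i 1 * x by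
      rw [mul_one, ← Pi.single_mul_left, one_mul], map_mul, map_mul, hid, he1, one_mul]


/-- Let I_1, …, I_n be pairwise comaximal ideals of a ring A, B a henselization of the pair (A, I_1 ∩ …
∩ I_n) and B_i a henselization of (A, I_i) for each i. Then B is isomorphic as an A-algebra to the
product of the B_i (any such isomorphism is the natural comparison map, by the universal property). -/
theorem result (A : Type u) [CommRing A] {n : ℕ} (I : Fin n → Ideal A)
    (hI : Pairwise fun i j => I i ⊔ I j = ⊤) (B : Type u) [CommRing B] [Algebra A B]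
    (hB : Hens2.IsPairHenselization A (⨅ i, I i) B) (Bi : Fin n → Type u) [∀ i, CommRing (Bi i)] [∀ i, Algebra A (Bi i)]
    (hBi : ∀ i, Hens2.IsPairHenselization A (I i) (Bi i)) :
    Nonempty (B ≃ₐ[A] ∀ i, Bi i) := by
  exact exists_algEquiv hB (isPairHenselization_pi I hI Bi hBi)

end Groth.Agent.S1995
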