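import Groth.Statements.S19957
import Groth.Agent.Grpd80.SplitNbhd
import Groth.Agent.Grpd80.StabPoints

set_option autoImplicit false
universe u
open CategoryTheory CategoryTheory.Limits AlgebraicGeometry
open Grpd

namespace Groth.Agent.S19957

/-- Let (U, R, s, t, c) be a groupoid scheme over S with U affine and s, t separated, flat and locally
of finite presentation, and let u ∈ U be a point such that the set of points of the stabilizer G → U
(the base change of j = (t, s) : R → U ×_S U along the diagonal of U) lying over u is finite and s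
is quasi-finite at the image in R of each of these points. Then there exist an etale morphism U' → U
with U' affine and a point u' of U' lying over u with trivial residue field extension κ(u) = κ(u'),
such that the restriction R' of R to U' (the groupoid scheme on U' whose arrows form the base change
of j along U' ×_S U' → U ×_S U) is split over u': there is an open subscheme P ⊂ R' which is a
subgroupoid (the identity of U', the inverse of P and the composition of composable pairs of P land
in P), with s'|_P and t'|_P finite, and containing the image in R' of every point of the stabilizer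
G' → U' of R' lying over u'. -/
theorem result (S : Scheme.{u}) (G : Grpd.GroupoidScheme S) [IsAffine G.U]
    [IsSeparated G.s] [IsSeparated G.t] [Flat G.s] [Flat G.t]
    [LocallyOfFinitePresentation G.s] [LocallyOfFinitePresentation G.t]
    (u : ↥G.U) (hfin : Set.Finite {g : ↥G.stabilizer | G.stabilizerToU g = u})
    (hqf : ∀ g : ↥G.stabilizer, G.stabilizerToU g = u →
      Dual3.QuasiFiniteAt G.s ((pullback.fst G.j G.diag : G.stabilizer ⟶ G.R) g)) :
    ∃ (G' : Grpd.GroupoidScheme S) (φ : Grpd.GroupoidScheme.Hom G' G) (u' : ↥G'.U),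
      IsAffine G'.U ∧ Etale φ.fU ∧ φ.fU u' = u ∧ IsIso (φ.fU.residueFieldMap u') ∧
      IsPullback φ.fR G'.j G.j
        (pullback.map G'.pU G'.pU G.pU G.pU φ.fU φ.fU (𝟙 S)
          ((Category.comp_id _).trans φ.fU_over.symm) ((Category.comp_id _).trans φ.fU_over.symm)) ∧
      ∃ (P : Scheme.{u}) (ιP : P ⟶ G'.R), IsOpenImmersion ιP ∧
        (∃ eP : G'.U ⟶ P, eP ≫ ιP = G'.e) ∧ (∃ iP : P ⟶ P, iP ≫ ιP = ιP ≫ G'.i) ∧
        (∃ cP : pullback (ιP ≫ G'.s) (ιP ≫ G'.t) ⟶ P,
          cP ≫ ιP = pullback.map (ιP ≫ G'.s) (ιP ≫ G'.t) G'.s G'.t ιP ιP (𝟙 G'.U)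
            (Category.comp_id _) (Category.comp_id _) ≫ G'.c) ∧
        IsFinite (ιP ≫ G'.s) ∧ IsFinite (ιP ≫ G'.t) ∧
        ∀ g' : ↥G'.stabilizer, G'.stabilizerToU g' = u' →
          ∃ p : ↥P, ιP p = (pullback.fst G'.j G'.diag : G'.stabilizer ⟶ G'.R) g' := by
  obtain ⟨G', φ, u', h1, h2, h3, h4, h5, P, ιP, h6, h7, h8, h9, h10, h11, h12⟩ :=
    Groth.Agent.Grpd80.exists_split_nbhd u (Groth.Agent.Grpd80.stabArrows G u)
      (Groth.Agent.Grpd80.stabArrows_finite hfin)
      (fun r hr => hr.1) (fun r hr => Groth.Agent.Grpd80.t_eq_of_mem_stabArrows hr)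
      (Groth.Agent.Grpd80.e_mem_stabArrows u)
      (fun z hz => Groth.Agent.Grpd80.fst_mem_stabArrows_iff z hz)
      (fun r hr => by
        obtain ⟨g, hg, rfl⟩ := Groth.Agent.Grpd80.exists_stabilizer_of_mem hr
        exact hqf g hg)
  refine ⟨G', φ, u', h1, h2, h3, h4, h5, P, ιP, h6, h7, h8, h9, h10, h11, fun g' hg' => ?_⟩
  have hm := Groth.Agent.Grpd80.mem_stabArrows_of_stabilizer (G := G') g' u' hg'
  refine h12 _ hm.1 (Groth.Agent.Grpd80.t_eq_of_mem_stabArrows hm) ⟨?_, ?_⟩
  · rw [← Scheme.Hom.comp_apply φ.fR, φ.comm_s, Scheme.Hom.comp_apply, hm.1, h3]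
  · generalize hr : (pullback.fst G'.j G'.diag : G'.stabilizer ⟶ G'.R) g' = r at hm
    let a := G'.R.fromSpecResidueField r
    refine (Groth.Agent.Grpd80.inStab_iff (a ≫ φ.fR) ((Scheme.Hom.comp_apply _ _ _).trans
      (congrArg φ.fR (Scheme.fromSpecResidueField_apply r _)))).mpr ?_
    have h := congrArg (· ≫ φ.fU) hm.2
    simp only [Category.assoc, a] at h ⊢
    rw [φ.comm_s, φ.comm_t]
    exact h

end Groth.Agent.S19957
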