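import Groth.Statements.S19962
import Groth.Agent.S18128
import Groth.Agent.Minor14.McCoy
import Groth.Agent.Minor14.Summand

set_option autoImplicit false
universe u
open CAlg

namespace Groth.Agent.S19962


open IsLocalRing RingTheory.Sequence

section local_step

variable {S : Type u} [CommRing S]

/-- A submodule of `S^n` which is a direct summand of rank `r`. -/
def IsSummand {n : ℕ} (N : Submodule S (Fin n → S)) (r : ℕ) : Prop :=
  ∃ N' : Submodule S (Fin n → S), IsCompl N N' ∧ Module.finrank S N = r

theorem ker_le_range_of_summand [IsLocalRing S] {n m l : ℕ} (f : (Fin n → S) →ₗ[S] (Fin m → S))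
    (g : (Fin l → S) →ₗ[S] (Fin n → S)) (hfg : f ∘ₗ g = 0) {a b : ℕ}
    (hf : IsSummand (LinearMap.range f) a) (hg : IsSummand (LinearMap.range g) b) (hab : a + b = n) :
    LinearMap.ker f ≤ LinearMap.range g := by
  obtain ⟨P, hP, ha⟩ := hf
  obtain ⟨N', hN', hb⟩ := hg
  have proj : ∀ {k : ℕ} {X Y : Submodule S (Fin k → S)}, IsCompl X Y →
      Module.Free S X ∧ Module.Finite S X := by
    intro k X Y h
    let p := Submodule.projectionOnto X Y h
    haveI : Module.Projective S X := Module.Projective.of_split X.subtype p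
      (LinearMap.ext fun x => Submodule.projectionOnto_apply_left h x)
    haveI : Module.Finite S X := Module.Finite.of_surjective p fun x =>
      ⟨x, Submodule.projectionOnto_apply_left h x⟩
    exact ⟨Module.free_of_flat_of_isLocalRing, inferInstance⟩
  obtain ⟨_, _⟩ := proj hP
  obtain ⟨_, _⟩ := proj hN'
  obtain ⟨s, hs⟩ := Module.projective_lifting_property f.rangeRestrict LinearMap.id
    f.surjective_rangeRestrict
  have hs' : ∀ y, f (s y) = y := fun y => congrArg Subtype.val (LinearMap.congr_fun hs y)
  let π : (Fin n → S) →ₗ[S] LinearMap.ker f :=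
    (LinearMap.id - s ∘ₗ f.rangeRestrict).codRestrict _ fun x => by
      simp [LinearMap.mem_ker, hs']
  have hπ : ∀ x : LinearMap.ker f, π x = x := fun x => Subtype.ext (by
    show (x : Fin n → S) - s (f.rangeRestrict x) = x
    rw [show f.rangeRestrict x = 0 from Subtype.ext x.2, map_zero, sub_zero])
  haveI : Module.Projective S (LinearMap.ker f) :=
    Module.Projective.of_split (LinearMap.ker f).subtype π (LinearMap.ext hπ)
  haveI : Module.Finite S (LinearMap.ker f) := Module.Finite.of_surjective π fun x => ⟨x, hπ x⟩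
  haveI : Module.Free S (LinearMap.ker f) := Module.free_of_flat_of_isLocalRing
  let e : (Fin n → S) ≃ₗ[S] LinearMap.ker f × LinearMap.range f :=
    LinearEquiv.ofLinearMap (π.prod f.rangeRestrict) ((LinearMap.ker f).subtype.coprod s)
      (by
        refine LinearMap.prod_ext (LinearMap.ext fun x => ?_) (LinearMap.ext fun y => ?_)
        · refine Prod.ext ?_ (Subtype.ext ?_)
          · show π (((LinearMap.ker f).subtype.coprod s) (x, 0)) = x
            simp [hπ]
          · show f (((LinearMap.ker f).subtype.coprod s) (x, 0)) = 0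
            simp
        · refine Prod.ext (Subtype.ext ?_) (Subtype.ext ?_)
          · show (((LinearMap.ker f).subtype.coprod s) (0, y)) - s (f.rangeRestrict (((LinearMap.ker f).subtype.coprod s) (0, y))) = 0
            simp [show f.rangeRestrict (s y) = y from LinearMap.congr_fun hs y]
          · show f (((LinearMap.ker f).subtype.coprod s) (0, y)) = y
            simp [hs'])
      (LinearMap.ext fun x => by
        show (x - s (f.rangeRestrict x)) + s (f.rangeRestrict x) = x
        abel)
  have hk : Module.finrank S (LinearMap.ker f) = b := by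
    have h := e.finrank_eq
    rw [Module.finrank_fin_fun, Module.finrank_prod, ha] at h
    omega
  have hle : LinearMap.range g ≤ LinearMap.ker f := LinearMap.range_le_ker_iff.mpr hfg
  let ρ : LinearMap.ker f →ₗ[S] LinearMap.range g :=
    Submodule.projectionOnto _ N' hN' ∘ₗ (LinearMap.ker f).subtype
  let j : LinearMap.range g →ₗ[S] LinearMap.ker f := Submodule.inclusion hle
  have hρj : ∀ y, ρ (j y) = y := fun y => Submodule.projectionOnto_apply_left hN' y
  obtain ⟨φ⟩ : Nonempty (LinearMap.range g ≃ₗ[S] LinearMap.ker f) := ⟨LinearEquiv.ofFinrankEq _ _ (by rw [hk, hb])⟩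
  have hinj : Function.Injective ρ := by
    have hsurj : Function.Surjective (φ.toLinearMap ∘ₗ ρ) := φ.surjective.comp fun y => ⟨j y, hρj y⟩
    have hinj' := OrzechProperty.injective_of_surjective_endomorphism (φ.toLinearMap ∘ₗ ρ) hsurj
    exact fun x y h => hinj' (congrArg φ h)
  intro v hv
  have : j (ρ ⟨v, hv⟩) = ⟨v, hv⟩ := hinj (hρj _)
  have h2 : (ρ ⟨v, hv⟩ : Fin n → S) = v := congrArg Subtype.val this
  exact h2 ▸ (ρ ⟨v, hv⟩).2

variable [IsLocalRing S]

theorem exact_local (e : ℕ) (n : ℕ → ℕ) (D : ∀ i, (Fin (n (i + 1)) → S) →ₗ[S] (Fin (n i) → S))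
    (hcx : ∀ i, D i ∘ₗ D (i + 1) = 0) (r : ℕ → ℕ) (d : ℕ) (hd : d ≤ e) (rs : List S) (hlen : rs.length = d)
    (hreg : IsWeaklyRegular S rs) (hsum : ∀ i, d ≤ i → i ≤ e → IsSummand (LinearMap.range (D i)) (r i))
    (hr : ∀ i, i < e → r i + r (i + 1) = n (i + 1))
    (htor : ∀ i, i < e → ∀ v, D i v = 0 → ∀ x ∈ rs, ∃ N : ℕ, x ^ N • v ∈ LinearMap.range (D (i + 1))) :
    ∀ i, i < e → LinearMap.ker (D i) ≤ LinearMap.range (D (i + 1)) := by
  intro i hi
  by_cases hid : d ≤ i
  · exact ker_le_range_of_summand (D i) (D (i + 1)) (hcx i) (hsum i hid hi.le) (hsum (i + 1) (by omega) hi)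
      (hr i hi)
  let T : ∀ j, Submodule S (Fin (n j) → S) := fun j => if j = d then LinearMap.range (D j) else ⊥
  have hT : ∀ j, T (j + 1) ≤ (T j).comap (D j) := by
    intro j
    by_cases h : j + 1 = d
    · simp only [T, if_pos h]
      rintro _ ⟨w, rfl⟩
      rw [Submodule.mem_comap, ← LinearMap.comp_apply, hcx j]
      exact zero_mem _
    · simp only [T, if_neg h]
      exact bot_le
  let d' : ∀ j, ((Fin (n (j + 1)) → S) ⧸ T (j + 1)) →ₗ[S] ((Fin (n j) → S) ⧸ T j) :=
    fun j => if j < d then (T (j + 1)).mapQ (T j) (D j) (hT j) else 0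
  have hd' : ∀ j, j < d → ∀ v, d' j (Submodule.Quotient.mk v) = Submodule.Quotient.mk (D j v) :=
    fun j hj v => by simp only [d', if_pos hj]; rfl
  have hT0 : ∀ j, j < d → T j = ⊥ := fun j hj => if_neg (by omega)
  have key := S18128.acyclic d rs (fun j => (Fin (n j) → S) ⧸ T j) d' hlen (if_neg (lt_irrefl d))
    (fun j hj => LinearMap.ext fun q => by
      induction q using Submodule.Quotient.induction_on with | _ v
      by_cases h : j + 1 < d
      · rw [LinearMap.comp_apply, hd' _ h, hd' _ hj, ← LinearMap.comp_apply, hcx j]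
        rfl
      · rw [show d' (j + 1) = 0 from if_neg h, LinearMap.comp_zero])
    (fun j hj => by
      haveI : Module.Flat S ((Fin (n j) → S) ⧸ T j) := by
        by_cases h : j = d
        · subst h
          obtain ⟨N', hN', -⟩ := hsum j le_rfl hd
          have h : T j = LinearMap.range (D j) := if_pos rfl
          let q := (T j).mkQ ∘ₗ N'.subtype
          haveI : Module.Flat S N' := Module.Flat.of_retract N'.subtype
            (Submodule.projectionOnto N' _ hN'.symm)
            (LinearMap.ext fun x => Submodule.projectionOnto_apply_left hN'.symm x)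
          exact Module.Flat.of_linearEquiv
            ((Submodule.quotEquivOfEq _ _ h).trans (Submodule.quotientEquivOfIsCompl _ N' hN'))
        · exact Module.Flat.of_linearEquiv (Submodule.quotEquivOfEqBot (T j) (if_neg h))
      exact (LinearEquiv.isWeaklyRegular_congr (TensorProduct.rid S ((Fin (n j) → S) ⧸ T j)) rs).mp
        hreg.isWeaklyRegular_lTensor)
    (fun j hj q hq x hx => by
      induction q using Submodule.Quotient.induction_on with | _ v
      rw [hd' j hj, Submodule.Quotient.mk_eq_zero, hT0 j hj, Submodule.mem_bot] at hq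
      obtain ⟨N, w, hw⟩ := htor j (by omega) v hq x hx
      refine ⟨N, ?_⟩
      by_cases h : j + 1 < d
      · exact ⟨Submodule.Quotient.mk w, by rw [hd' _ h, hw, Submodule.Quotient.mk_smul]⟩
      · obtain rfl : d = j + 1 := by omega
        refine ⟨0, ?_⟩
        rw [map_zero, ← Submodule.Quotient.mk_smul, eq_comm, Submodule.Quotient.mk_eq_zero]
        simp only [T, if_pos]
        exact ⟨w, hw⟩)
  intro v hv
  rw [LinearMap.mem_ker] at hv
  obtain ⟨q, hq⟩ := key i (by omega) (Submodule.Quotient.mk v) (by rw [hd' i (by omega), hv]; rfl)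
  induction q using Submodule.Quotient.induction_on with | _ w
  by_cases h : i + 1 < d
  · rw [hd' _ h, Submodule.Quotient.eq, hT0 _ h, Submodule.mem_bot, sub_eq_zero] at hq
    exact ⟨w, hq⟩
  · obtain rfl : d = i + 1 := by omega
    rw [show d' (i + 1) = 0 from if_neg h, LinearMap.zero_apply, eq_comm, Submodule.Quotient.mk_eq_zero] at hq
    simpa [T] using hq

end local_step

section matrices

variable {R S : Type u} [CommRing R] [CommRing S] (φ : R →+* S) {a b : ℕ}

theorem minorIdeal_map (A : Matrix (Fin a) (Fin b) R) (k : ℕ) :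
    CAlgX.minorIdeal (A.map φ) k = (CAlgX.minorIdeal A k).map φ := by
  rw [CAlgX.minorIdeal, CAlgX.minorIdeal, Ideal.map_span, ← Set.range_comp]
  congr 1
  refine congrArg Set.range (funext fun fg => ?_)
  rw [Function.comp_apply, RingHom.map_det]
  rfl

theorem minorIdeal_succ_rank (A : Matrix (Fin a) (Fin b) R) :
    CAlgX.minorIdeal A (CAlgX.matrixRank A + 1) = ⊥ := by
  by_contra h
  have := le_csSup (s := {r : ℕ | CAlgX.minorIdeal A r ≠ ⊥}) ⟨b, fun r hr => not_lt.mp fun hlt =>
    hr (Minor14.minorIdeal_eq_bot_of_lt A hlt)⟩ h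
  rw [CAlgX.matrixRank] at this
  omega

theorem minorIdeal_eq_bot_of_lt' (A : Matrix (Fin a) (Fin b) R) {r : ℕ} (h : a < r) :
    CAlgX.minorIdeal A r = ⊥ := by
  rw [CAlgX.minorIdeal, Ideal.span_eq_bot]
  rintro _ ⟨⟨f, g⟩, rfl⟩
  obtain ⟨x, y, hne, hxy⟩ := Fintype.exists_ne_map_eq_of_card_lt f (by simpa using h)
  exact Matrix.det_zero_of_row_eq hne (funext fun i => by simp [hxy])

theorem isSummand_of_minorIdeal [IsLocalRing S] (A : Matrix (Fin a) (Fin b) S) (r : ℕ)
    (h1 : CAlgX.minorIdeal A r = ⊤) (h0 : CAlgX.minorIdeal A (r + 1) = ⊥) :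
    IsSummand (LinearMap.range A.mulVecLin) r := by
  rcases Nat.eq_zero_or_pos r with rfl | hr
  · have hA : A = 0 := by
      ext i j
      have : (A.submatrix (fun _ : Fin 1 => i) (fun _ : Fin 1 => j)).det ∈ CAlgX.minorIdeal A 1 :=
        Ideal.subset_span ⟨(fun _ => i, fun _ => j), rfl⟩
      rw [h0, Ideal.mem_bot, Matrix.det_fin_one] at this
      exact this
    have hb : LinearMap.range A.mulVecLin = ⊥ := by rw [hA, Matrix.mulVecLin_zero, LinearMap.range_zero]
    rw [IsSummand, hb]
    exact ⟨⊤, isCompl_bot_top, finrank_bot _ _⟩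
  · refine (Minor14.range_isCompl_iff hr (not_lt.mp fun hlt => ?_) A).mpr ⟨h0, h1⟩
    rw [minorIdeal_eq_bot_of_lt' A hlt] at h1
    exact bot_ne_top h1

end matrices


/-- Let R be a Noetherian commutative ring, not assumed local, and 0 → R^(n_e) → ⋯ → R^(n_1) → R^(n_0) a
complex of finite free modules with 1 ≤ e, the map R^(n_(i+1)) → R^(n_i) being given by the matrix A
i. Suppose that for every 1 ≤ j ≤ e the matrix of R^(n_j) → R^(n_(j-1)) has rank n_j - n_(j+1) + ⋯ ±
n_e, the rank of a matrix being the largest size of a nonzero minor, and that its ideal of minors of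
that size is either the unit ideal or contains an R-regular sequence of length j. Then the complex
is exact at R^(n_e), …, R^(n_1). -/
theorem result {R : Type u} [CommRing R] [IsNoetherianRing R]
    (e : ℕ) (he : 1 ≤ e) (n : ℕ → ℕ) (A : (i : ℕ) → Matrix (Fin (n i)) (Fin (n (i + 1))) R)
    (hA : ∀ i, i + 2 ≤ e → A i * A (i + 1) = 0)
    (hrank : ∀ j, 1 ≤ j → j ≤ e →
      (CAlgX.matrixRank (A (j - 1)) : ℤ) = ∑ t ∈ Finset.Icc j e, (-1 : ℤ) ^ (t - j) * (n t : ℤ))
    (hdet : ∀ j, 1 ≤ j → j ≤ e →
      CAlgX.detIdeal (A (j - 1)) = ⊤ ∨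
        ∃ rs : List R, rs.length = j ∧ (∀ r ∈ rs, r ∈ CAlgX.detIdeal (A (j - 1))) ∧
          RingTheory.Sequence.IsRegular R rs) :
    LinearMap.ker (A (e - 1)).mulVecLin = ⊥ ∧
      ∀ i, i + 2 ≤ e → LinearMap.ker (A i).mulVecLin = LinearMap.range (A (i + 1)).mulVecLin := by
  classical
  let D : ∀ i, (Fin (n (i + 1)) → R) →ₗ[R] (Fin (n i) → R) := fun i => if i < e then (A i).mulVecLin else 0
  let B : ∀ i, Matrix (Fin (n i)) (Fin (n (i + 1))) R := fun i => if i < e then A i else 0
  have hBA : ∀ i, i < e → B i = A i := fun i hi => if_pos hi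
  have hB : ∀ i, B i * B (i + 1) = 0 := by
    intro i
    by_cases h : i + 2 ≤ e
    · rw [hBA i (by omega), hBA (i + 1) (by omega), hA i h]
    · rw [show B (i + 1) = 0 from if_neg (by omega), Matrix.mul_zero]
  let r : ℕ → ℕ := fun i => if i < e then CAlgX.matrixRank (A i) else 0
  have hr : ∀ i, i < e → r i + r (i + 1) = n (i + 1) := by
    intro i hi
    have h1 := hrank (i + 1) (by omega) hi
    rw [Nat.add_sub_cancel, ← Finset.insert_Icc_add_one_left_eq_Icc (show i + 1 ≤ e by omega),
      Finset.sum_insert (by simp), Nat.sub_self, pow_zero, one_mul] at h1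
    have hsum : ∑ t ∈ Finset.Icc (i + 1 + 1) e, (-1 : ℤ) ^ (t - (i + 1)) * (n t : ℤ) = -(r (i + 1) : ℤ) := by
      by_cases h : i + 1 < e
      · have h2 := hrank (i + 2) (by omega) h
        simp only [r, if_pos h]
        rw [show i + 2 - 1 = i + 1 from rfl] at h2
        rw [h2, ← Finset.sum_neg_distrib]
        refine Finset.sum_congr rfl fun t ht => ?_
        rw [Finset.mem_Icc] at ht
        rw [show t - (i + 1) = (t - (i + 2)) + 1 by omega, pow_succ]
        ring
      · simp only [r, if_neg h]
        rw [Finset.Icc_eq_empty (by omega)]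
        simp
    rw [hsum] at h1
    have : (r i : ℤ) = CAlgX.matrixRank (A i) := by simp only [r, if_pos hi]
    omega
  have hrB0 : ∀ i, CAlgX.minorIdeal (B i) (r i + 1) = ⊥ := by
    intro i
    by_cases hi : i < e
    · simp only [r, if_pos hi, hBA i hi]
      exact minorIdeal_succ_rank (A i)
    · simp only [r, if_neg hi, show B i = 0 from if_neg hi]
      rw [CAlgX.minorIdeal, Ideal.span_eq_bot]
      rintro _ ⟨fg, rfl⟩
      simp
  have hrB1 : ∀ i, ¬ i < e → CAlgX.minorIdeal (B i) (r i) = ⊤ := by
    intro i hi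
    simp only [r, if_neg hi]
    exact Minor14.minorIdeal_zero _
  -- exactness at every prime
  have main : ∀ (p : Ideal R) [p.IsPrime] (i : ℕ), i < e → ∀ v, (B i).mulVecLin v = 0 →
      ∃ s, s ∉ p ∧ s • v ∈ LinearMap.range (B (i + 1)).mulVecLin := by
    suffices ∀ (N : ℕ) (p : Ideal R) [p.IsPrime], p.height ≤ N → ∀ i, i < e → ∀ v, (B i).mulVecLin v = 0 →
        ∃ s, s ∉ p ∧ s • v ∈ LinearMap.range (B (i + 1)).mulVecLin by
      intro p _
      obtain ⟨N, hN⟩ := ENat.ne_top_iff_exists.mp (Ideal.height_ne_top (I := p) (Ideal.IsPrime.ne_top inferInstance))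
      exact this N p hN.ge
    intro N
    induction N using Nat.strong_induction_on with
    | _ N ih =>
      intro p _ hp i hi v hv
      let Rp := Localization.AtPrime p
      let φ := algebraMap R Rp
      haveI : IsNoetherianRing Rp := IsLocalization.isNoetherianRing p.primeCompl _ inferInstance
      -- `d`: the last map whose ideal is contained in `p`
      let good : ℕ → Prop := fun k => CAlgX.minorIdeal (B k) (r k) ≤ p
      have hgood : ∀ k, good k → k < e := fun k hk => by
        by_contra h
        have := hrB1 k h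
        exact Ideal.IsPrime.ne_top inferInstance (top_le_iff.mp (this.ge.trans hk))
      obtain ⟨d, hde, hlast, rs, hlen, hmem, hreg⟩ : ∃ d, d ≤ e ∧ (∀ k, d ≤ k → ¬ good k) ∧
          ∃ rs : List R, rs.length = d ∧ (∀ x ∈ rs, x ∈ p) ∧ IsWeaklyRegular R rs := by
        by_cases hex : ∃ k, k ≤ e ∧ good k
        · obtain ⟨k₀, hk₀⟩ := hex
          let k := Nat.findGreatest good e
          have hk : good k := Nat.findGreatest_spec hk₀.1 hk₀.2
          have hke := hgood k hk
          refine ⟨k + 1, hke, fun j hj hjg => ?_, ?_⟩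
          · exact absurd (Nat.le_findGreatest (hgood j hjg).le hjg) (by omega)
          · simp only [good, hBA k hke, r, if_pos hke] at hk
            rcases hdet (k + 1) (by omega) hke with h | ⟨rs, hlen, hmem, hreg⟩
            · exact absurd (top_le_iff.mp (h.ge.trans hk)) (Ideal.IsPrime.ne_top inferInstance)
            · exact ⟨rs, hlen, fun x hx => hk (hmem x hx), hreg.toIsWeaklyRegular⟩
        · refine ⟨0, Nat.zero_le _, fun k _ hk => hex ⟨k, (hgood k hk).le, hk⟩, [], rfl, by simp, ?_⟩
          exact IsWeaklyRegular.nil R R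
      have hcx : ∀ k, ((B k).map φ).mulVecLin ∘ₗ ((B (k + 1)).map φ).mulVecLin = 0 := fun k => by
        rw [← Matrix.mulVecLin_mul, ← Matrix.map_mul, hB k, Matrix.map_zero _ (map_zero φ), Matrix.mulVecLin_zero]
      have hsum : ∀ k, d ≤ k → k ≤ e → IsSummand (LinearMap.range ((B k).map φ).mulVecLin) (r k) := by
        intro k hk _
        refine isSummand_of_minorIdeal _ _ ?_ (by rw [minorIdeal_map, hrB0 k, Ideal.map_bot])
        rw [minorIdeal_map, Ideal.eq_top_iff_one]
        obtain ⟨c, hc, hcp⟩ := SetLike.not_le_iff_exists.mp (hlast k hk)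
        have hu : IsUnit (φ c) := IsLocalization.map_units Rp (⟨c, hcp⟩ : p.primeCompl)
        exact (Ideal.eq_top_iff_one _).mp (Ideal.eq_top_of_isUnit_mem _ (Ideal.mem_map_of_mem φ hc) hu)
      have htor : ∀ k, k < e → ∀ w, ((B k).map φ).mulVecLin w = 0 → ∀ x ∈ rs.map φ,
          ∃ M : ℕ, x ^ M • w ∈ LinearMap.range ((B (k + 1)).map φ).mulVecLin := by
        intro k hk w hw x hx
        obtain ⟨x, hxrs, rfl⟩ := List.mem_map.mp hx
        obtain ⟨t, ht⟩ := IsLocalization.exist_integer_multiples_of_finite p.primeCompl w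
        choose u hu using ht
        have hu' : φ ∘ u = φ t • w := funext fun j => (hu j).trans (Algebra.smul_def _ _)
        have hz : ∀ j, φ ((B k).mulVec u j) = 0 := fun j => by
          rw [RingHom.map_mulVec, hu', Matrix.mulVec_smul, Pi.smul_apply,
            show ((B k).map φ).mulVec w = 0 from hw, Pi.zero_apply, smul_zero]
        choose c hc using fun j => (IsLocalization.map_eq_zero_iff p.primeCompl Rp _).mp (hz j)
        let C : R := ∏ j, (c j : R)
        have hC : C ∈ p.primeCompl := prod_mem fun j _ => (c j).2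
        have hker : (B k).mulVecLin (C • u) = 0 := by
          rw [map_smul, Matrix.mulVecLin_apply]
          funext j
          rw [Pi.smul_apply, smul_eq_mul, Pi.zero_apply]
          simp only [C]
          rw [← Finset.prod_erase_mul _ _ (Finset.mem_univ j), mul_assoc, hc j, mul_zero]
        let J : Ideal R := (LinearMap.range (B (k + 1)).mulVecLin).comap (LinearMap.toSpanSingleton R _ (C • u))
        -- every prime containing `J` and contained in `p` is `p`
        obtain ⟨M, hM⟩ : φ x ∈ (J.map φ).radical := by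
          rw [Ideal.radical_eq_sInf, Submodule.mem_sInf]
          rintro q ⟨hJq, hq⟩
          haveI := hq
          let q₀ : Ideal R := Ideal.comap φ q
          have hq₀p : q₀ ≤ p := by
            rw [← Localization.AtPrime.comap_maximalIdeal (I := p)]
            exact Ideal.comap_mono (IsLocalRing.le_maximalIdeal hq.ne_top)
          rcases hq₀p.eq_or_lt with heq | hlt
          · show x ∈ q₀
            rw [heq]; exact hmem x hxrs
          · exfalso
            have h1 : q₀.height < p.height := Ideal.height_strict_mono_of_isPrime hlt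
            obtain ⟨M', hM'⟩ := ENat.ne_top_iff_exists.mp (ne_top_of_lt h1)
            have h2 : M' < N := by
              have := h1.trans_le hp
              rw [← hM'] at this
              exact_mod_cast this
            obtain ⟨s, hs, hsv⟩ := ih M' h2 q₀ hM'.ge k hk _ hker
            exact hs (show φ s ∈ q from hJq (Ideal.mem_map_of_mem φ hsv))
        refine ⟨M, ?_⟩
        obtain ⟨⟨⟨y, hy⟩, s⟩, hys⟩ := (IsLocalization.mem_map_algebraMap_iff p.primeCompl Rp).mp hM
        obtain ⟨z, hz'⟩ := hy
        have hunit : IsUnit (φ (C * t) * φ s) :=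
          (IsLocalization.map_units Rp (⟨C * t, mul_mem hC t.2⟩ : p.primeCompl)).mul (IsLocalization.map_units Rp s)
        obtain ⟨U, hU⟩ := hunit
        refine ⟨(↑U⁻¹ : Rp) • (φ ∘ z), ?_⟩
        rw [map_smul]
        have h3 : ((B (k + 1)).map φ).mulVecLin (φ ∘ z) = (φ x ^ M * φ s) • φ (C * t) • w := by
          funext j
          rw [Matrix.mulVecLin_apply, ← RingHom.map_mulVec, Pi.smul_apply, Pi.smul_apply]
          rw [show (B (k + 1)).mulVec z = y • (C • u) from hz']
          simp only [Pi.smul_apply, smul_eq_mul, map_mul]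
          rw [show φ (u j) = φ t * w j from congrFun hu' j, hys]
          ring
        rw [h3, smul_smul, smul_smul]
        congr 1
        rw [show (↑U⁻¹ : Rp) * (φ x ^ M * φ s) * φ (C * t) = φ x ^ M * ((↑U⁻¹ : Rp) * (φ (C * t) * φ s)) by ring,
          ← hU, Units.inv_mul, mul_one]
      have hv' : ((B i).map φ).mulVecLin (φ ∘ v) = 0 := by
        funext j
        rw [Matrix.mulVecLin_apply, ← RingHom.map_mulVec, show (B i).mulVec v = 0 from hv]
        simp
      exact S18128.exists_smul_mem_range (B (i + 1)) p v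
        (exact_local e n (fun k => ((B k).map φ).mulVecLin) hcx r d hde (rs.map φ) (by simp [hlen])
          (IsWeaklyRegular.of_isLocalization Rp p.primeCompl hreg) hsum hr htor i hi hv')
  have glob : ∀ i, i < e → LinearMap.ker (B i).mulVecLin ≤ LinearMap.range (B (i + 1)).mulVecLin := by
    intro i hi v hv
    let J : Ideal R := (LinearMap.range (B (i + 1)).mulVecLin).comap (LinearMap.toSpanSingleton R _ v)
    have hJ : J = ⊤ := by
      by_contra hJ
      obtain ⟨m, hm, hJm⟩ := Ideal.exists_le_maximal J hJ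
      obtain ⟨s, hs, hsv⟩ := main m i hi v hv
      exact hs (hJm hsv)
    have : (1 : R) ∈ J := hJ ▸ Submodule.mem_top
    simpa [J] using this
  refine ⟨?_, fun i hi => le_antisymm ?_ ?_⟩
  · refine eq_bot_iff.mpr fun v hv => ?_
    have h := glob (e - 1) (by omega) (by rw [hBA _ (by omega)]; exact hv)
    rw [show B (e - 1 + 1) = 0 from if_neg (by omega), Matrix.mulVecLin_zero, LinearMap.range_zero] at h
    exact h
  · intro v hv
    have h := glob i (by omega) (show v ∈ LinearMap.ker (B i).mulVecLin by rw [hBA _ (by omega)]; exact hv)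
    rwa [hBA _ (by omega)] at h
  · rw [LinearMap.range_le_ker_iff, ← Matrix.mulVecLin_mul, hA i hi, Matrix.mulVecLin_zero]

end Groth.Agent.S19962
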