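import Groth.Statements.S19963
import Groth.Agent.CAlg9.Horrocks.Quillen
import Groth.Agent.S17853

set_option autoImplicit false
open Polynomial TensorProduct
universe u
open CAlg

namespace Groth.Agent.S19963

open Groth.Agent.CAlg9.Horrocks Matrix

variable {A : Type u} [CommRing A]

theorem matrices_of_iso (M : Submonoid A[X]) (At : Type u) [CommRing At] [Algebra A[X] At]
    [IsLocalization M At] [Algebra A At] [IsScalarTower A A[X] At]
    (P P' : Type u) [AddCommGroup P] [Module A P] [AddCommGroup P'] [Module A P']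
    {r r' : ℕ} (π : (Fin r → A) →ₗ[A] P) (σ : P →ₗ[A] (Fin r → A)) (hπσ : π ∘ₗ σ = LinearMap.id)
    (π' : (Fin r' → A) →ₗ[A] P') (σ' : P' →ₗ[A] (Fin r' → A)) (hπσ' : π' ∘ₗ σ' = LinearMap.id)
    (h : (At ⊗[A] P) ≃ₗ[At] (At ⊗[A] P'))
    (E : Matrix (Fin r) (Fin r) A[X]) (E' : Matrix (Fin r') (Fin r') A[X])
    (hE : E = (LinearMap.toMatrix' (σ ∘ₗ π)).map Polynomial.C)
    (hE' : E' = (LinearMap.toMatrix' (σ' ∘ₗ π')).map Polynomial.C)
    (hEE : E * E = E) (hEE' : E' * E' = E') :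
    ∃ f ∈ M, ∃ (U : Matrix (Fin r) (Fin r') A[X]) (V : Matrix (Fin r') (Fin r) A[X]),
      E * U = U ∧ U * E' = U ∧ E' * V = V ∧ V * E = V ∧ U * V = f • E ∧ V * U = f • E' := by
  classical
  let φ := algebraMap A[X] At
  let I := TensorProduct.piScalarRight A At At (Fin r)
  let I' := TensorProduct.piScalarRight A At At (Fin r')
  let c : At ⊗[A] P →ₗ[At] (Fin r → At) := I.toLinearMap ∘ₗ σ.baseChange At
  let p : (Fin r → At) →ₗ[At] At ⊗[A] P := π.baseChange At ∘ₗ I.symm.toLinearMap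
  let c' : At ⊗[A] P' →ₗ[At] (Fin r' → At) := I'.toLinearMap ∘ₗ σ'.baseChange At
  let p' : (Fin r' → At) →ₗ[At] At ⊗[A] P' := π'.baseChange At ∘ₗ I'.symm.toLinearMap
  have hpc : p ∘ₗ c = LinearMap.id := LinearMap.ext fun z => by
    simp only [p, c, LinearMap.comp_apply, LinearEquiv.coe_coe, LinearEquiv.symm_apply_apply]
    rw [← LinearMap.comp_apply (π.baseChange _), ← LinearMap.baseChange_comp, hπσ,
      LinearMap.baseChange_id]
  have hpc' : p' ∘ₗ c' = LinearMap.id := LinearMap.ext fun z => by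
    simp only [p', c', LinearMap.comp_apply, LinearEquiv.coe_coe, LinearEquiv.symm_apply_apply]
    rw [← LinearMap.comp_apply (π'.baseChange _), ← LinearMap.baseChange_comp, hπσ',
      LinearMap.baseChange_id]
  let U₀ := LinearMap.toMatrix' (c ∘ₗ h.symm.toLinearMap ∘ₗ p')
  let V₀ := LinearMap.toMatrix' (c' ∘ₗ h.toLinearMap ∘ₗ p)
  have hEφ : LinearMap.toMatrix' (c ∘ₗ p) = E.map φ := by
    rw [hE, map_map_hom, show φ.comp Polynomial.C = algebraMap A At from
      (IsScalarTower.algebraMap_eq A A[X] At).symm,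
      ← Groth.Agent.S17853.toMatrix_baseChange (σ ∘ₗ π), LinearMap.baseChange_comp]
    rfl
  have hEφ' : LinearMap.toMatrix' (c' ∘ₗ p') = E'.map φ := by
    rw [hE', map_map_hom, show φ.comp Polynomial.C = algebraMap A At from
      (IsScalarTower.algebraMap_eq A A[X] At).symm,
      ← Groth.Agent.S17853.toMatrix_baseChange (σ' ∘ₗ π'), LinearMap.baseChange_comp]
    rfl
  have hUV : U₀ * V₀ = E.map φ := by
    rw [← hEφ, ← LinearMap.toMatrix'_comp]
    congr 1
    refine LinearMap.ext fun z => ?_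
    simp only [LinearMap.comp_apply, LinearEquiv.coe_coe]
    rw [show p' (c' (h (p z))) = h (p z) from LinearMap.congr_fun hpc' _, LinearEquiv.symm_apply_apply]
  have hVU : V₀ * U₀ = E'.map φ := by
    rw [← hEφ', ← LinearMap.toMatrix'_comp]
    congr 1
    refine LinearMap.ext fun z => ?_
    simp only [LinearMap.comp_apply, LinearEquiv.coe_coe]
    rw [show p (c (h.symm (p' z))) = h.symm (p' z) from LinearMap.congr_fun hpc _,
      LinearEquiv.apply_symm_apply]
  have hden : ∀ {a b : ℕ} (K : Matrix (Fin a) (Fin b) At),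
      ∃ s ∈ M, ∃ K0 : Matrix (Fin a) (Fin b) A[X], K0.map φ = φ s • K := by
    intro a b K
    obtain ⟨⟨s, hs⟩, hb⟩ := IsLocalization.exist_integer_multiples_of_finite
      M fun ij : Fin a × Fin b => K ij.1 ij.2
    choose K0 hK0 using hb
    refine ⟨s, hs, Matrix.of fun i j => K0 (i, j), ?_⟩
    ext1 i j
    show φ (K0 (i, j)) = φ s * K i j
    rw [hK0 (i, j)]
    exact Algebra.smul_def s (K i j)
  have hkill : ∀ {a b : ℕ} (K : Matrix (Fin a) (Fin b) A[X]), K.map φ = 0 →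
      ∃ t ∈ M, t • K = 0 := by
    intro a b K hK
    choose t ht using fun (ij : Fin a × Fin b) => (IsLocalization.map_eq_zero_iff M At (K ij.1 ij.2)).mp
      (congrFun (congrFun hK ij.1) ij.2)
    refine ⟨∏ ij, (t ij : A[X]), prod_mem fun ij _ => (t ij).2, ?_⟩
    ext1 i j
    rw [Matrix.smul_apply, smul_eq_mul, ← Finset.prod_erase_mul _ _ (Finset.mem_univ (i, j)),
      mul_assoc, ht (i, j), mul_zero, Matrix.zero_apply]
  obtain ⟨s, hs, U₁, hU₁⟩ := hden U₀
  obtain ⟨s', hs', V₁, hV₁⟩ := hden V₀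
  let U₂ := E * U₁ * E'
  let V₂ := E' * V₁ * E
  have hU2 : U₂.map φ = φ s • (E.map φ * U₀ * E'.map φ) := by
    rw [Matrix.map_mul, Matrix.map_mul, hU₁, Matrix.mul_smul, Matrix.smul_mul]
  have hV2 : V₂.map φ = φ s' • (E'.map φ * V₀ * E.map φ) := by
    rw [Matrix.map_mul, Matrix.map_mul, hV₁, Matrix.mul_smul, Matrix.smul_mul]
  have hEEφ : E.map φ * E.map φ = E.map φ := by rw [← Matrix.map_mul, hEE]
  have hEEφ' : E'.map φ * E'.map φ = E'.map φ := by rw [← Matrix.map_mul, hEE']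
  have hU0n : E.map φ * U₀ * E'.map φ = U₀ * V₀ * U₀ := by
    rw [hUV, ← hVU,
      show E.map φ * U₀ * (V₀ * U₀) = E.map φ * (U₀ * V₀) * U₀ by simp only [Matrix.mul_assoc],
      hUV, hEEφ]
  have hV0n : E'.map φ * V₀ * E.map φ = V₀ * U₀ * V₀ := by
    rw [hVU, ← hUV,
      show E'.map φ * V₀ * (U₀ * V₀) = E'.map φ * (V₀ * U₀) * V₀ by simp only [Matrix.mul_assoc],
      hVU, hEEφ']
  have hprod : U₂.map φ * V₂.map φ = φ (s * s') • E.map φ := by
    rw [hU2, hV2, hU0n, hV0n, Matrix.smul_mul, Matrix.mul_smul, smul_smul, ← map_mul,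
      show U₀ * V₀ * U₀ * (V₀ * U₀ * V₀) = (U₀ * V₀) * (U₀ * V₀) * (U₀ * V₀) by
        simp only [Matrix.mul_assoc], hUV, hEEφ, hEEφ]
  have hprod' : V₂.map φ * U₂.map φ = φ (s * s') • E'.map φ := by
    rw [hU2, hV2, hU0n, hV0n, Matrix.smul_mul, Matrix.mul_smul, smul_smul, ← map_mul, mul_comm s' s,
      show V₀ * U₀ * V₀ * (U₀ * V₀ * U₀) = (V₀ * U₀) * (V₀ * U₀) * (V₀ * U₀) by
        simp only [Matrix.mul_assoc], hVU, hEEφ', hEEφ']
  obtain ⟨t, ht, ht0⟩ := hkill (U₂ * V₂ - (s * s') • E) (by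
    rw [Matrix.map_sub _ (map_sub φ), Matrix.map_mul, map_smul_hom, hprod, sub_self])
  obtain ⟨t', ht', ht0'⟩ := hkill (V₂ * U₂ - (s * s') • E') (by
    rw [Matrix.map_sub _ (map_sub φ), Matrix.map_mul, map_smul_hom, hprod', sub_self])
  rw [smul_sub, sub_eq_zero] at ht0 ht0'
  refine ⟨t * t' * (s * s'), mul_mem (mul_mem ht ht') (mul_mem hs hs'), (t * t') • U₂, V₂, ?_, ?_, ?_, ?_, ?_, ?_⟩
  · simp only [U₂, Matrix.mul_smul, ← Matrix.mul_assoc, hEE]
  · simp only [U₂, Matrix.smul_mul, Matrix.mul_assoc, hEE']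
  · simp only [V₂, ← Matrix.mul_assoc, hEE']
  · simp only [V₂, Matrix.mul_assoc, hEE]
  · rw [Matrix.smul_mul, mul_comm t t', mul_smul, ht0, smul_smul, smul_smul, mul_assoc]
  · rw [Matrix.mul_smul, mul_smul, ht0', smul_smul, smul_smul, mul_assoc]

set_option maxHeartbeats 1600000 in
/-- The bundle on the projective line glued from `P[t]` and `P'[1/t]`. -/
theorem eqv_of_monic {r r' : ℕ} (E : Matrix (Fin r) (Fin r) A) (E' : Matrix (Fin r') (Fin r') A)
    (hE : E * E = E) (hE' : E' * E' = E') (f : A[X]) (hf : f.Monic)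
    (U : Matrix (Fin r) (Fin r') A[X]) (V : Matrix (Fin r') (Fin r) A[X])
    (hEU : E.map Polynomial.C * U = U) (hUE' : U * E'.map Polynomial.C = U)
    (hE'V : E'.map Polynomial.C * V = V) (hVE : V * E.map Polynomial.C = V)
    (hUV : U * V = f • E.map Polynomial.C) (hVU : V * U = f • E'.map Polynomial.C) :
    ∃ (K : Matrix (Fin r) (Fin r') A) (K' : Matrix (Fin r') (Fin r) A),
      K * K' = E ∧ K' * K = E' := by
  classical
  nontriviality A
  let EC := E.map (Polynomial.C)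
  let EC' := E'.map (Polynomial.C)
  -- pass to the chart at infinity
  have hex : ∀ {a b : ℕ} (K : Matrix (Fin a) (Fin b) A[X]), ∃ D₀ : ℕ, ∀ D ≥ D₀,
      ∃ K1 : Matrix (Fin a) (Fin b) A[X],
        K1.map (σ₂ (A := A)) = (LaurentPolynomial.T (-(D : ℤ)) : LaurentPolynomial A) • K.map (σ₁ (A := A)) := by
    intro a b K
    choose n p hp using fun (ij : Fin a × Fin b) =>
      (LaurentPolynomial.invert (σ₁ (K ij.1 ij.2))).exists_T_pow
    refine ⟨Finset.univ.sup n, fun D hD => ⟨Matrix.of fun i j => X ^ (D - n (i, j)) * p (i, j), ?_⟩⟩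
    ext1 i j
    have hle : n (i, j) ≤ D := le_trans (Finset.le_sup (f := n) (Finset.mem_univ (i, j))) hD
    have hinv : σ₂ (p (i, j)) = σ₁ (K i j) * LaurentPolynomial.T (-(n (i, j) : ℤ)) := by
      show LaurentPolynomial.invert (Polynomial.toLaurent (p (i, j))) = _
      rw [hp (i, j), map_mul, LaurentPolynomial.invert_T, LaurentPolynomial.involutive_invert _]
    rw [Matrix.map_apply, Matrix.of_apply, map_mul, hinv, σ₂_X_pow, Matrix.smul_apply, Matrix.map_apply,
      smul_eq_mul, mul_left_comm, T_mul_T, mul_comm]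
    congr 2
    push_cast [Nat.cast_sub hle]
    ring
  obtain ⟨D₁, hD₁⟩ := hex U
  obtain ⟨D₂, hD₂⟩ := hex V
  let D := D₁ + D₂ + (f.natDegree + 1)
  obtain ⟨U₁, hU₁⟩ := hD₁ D (by omega)
  obtain ⟨V₁, hV₁⟩ := hD₂ D (by omega)
  have hσ₂ : Function.Injective (σ₂ (A := A)) :=
    (LaurentPolynomial.invert (R := A)).injective.comp Polynomial.toLaurent_injective
  have hinjM : ∀ {a b : Type} (K K' : Matrix a b A[X]),
      K.map (σ₂ (A := A)) = K'.map (σ₂ (A := A)) → K = K' := fun K K' h =>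
    Matrix.map_injective hσ₂ h
  have hC : ∀ {a b : ℕ} (K : Matrix (Fin a) (Fin b) A),
      (K.map Polynomial.C).map (σ₂ (A := A)) = (K.map Polynomial.C).map (σ₁ (A := A)) := fun K => by
    ext1 i j
    simp only [Matrix.map_apply, σ₁_C, σ₂_C]
  let a : ℕ := 2 * D - f.natDegree
  let g : A[X] := f.reverse
  have hg0 : g.coeff 0 = 1 := by rw [coeff_zero_reverse]; exact hf
  have hσg : σ₂ g = σ₁ f * LaurentPolynomial.T (-(f.natDegree : ℤ)) := by
    show LaurentPolynomial.invert (Polynomial.toLaurent f.reverse) = _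
    rw [LaurentPolynomial.toLaurent_reverse, map_mul, LaurentPolynomial.invert_T,
      LaurentPolynomial.involutive_invert _]
  have hσfac : LaurentPolynomial.T (-(D : ℤ)) * LaurentPolynomial.T (-(D : ℤ)) * σ₁ f =
      σ₂ ((X : A[X]) ^ a * g) := by
    rw [map_mul, hσg, σ₂_X_pow, mul_left_comm, T_mul_T, T_mul_T, mul_comm]
    congr 2
    have : (a : ℤ) = 2 * D - f.natDegree := by
      simp only [a]; rw [Nat.cast_sub (by omega)]; push_cast; ring
    rw [this]; ring
  have hU₁V₁ : U₁ * V₁ = ((X : A[X]) ^ a * g) • EC := hinjM _ _ (by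
    rw [Matrix.map_mul, hU₁, hV₁, Matrix.smul_mul, Matrix.mul_smul, ← Matrix.map_mul, hUV,
      map_smul_hom, map_smul_hom, hC, smul_smul, smul_smul, hσfac])
  have hV₁U₁ : V₁ * U₁ = ((X : A[X]) ^ a * g) • EC' := hinjM _ _ (by
    rw [Matrix.map_mul, hU₁, hV₁, Matrix.smul_mul, Matrix.mul_smul, ← Matrix.map_mul, hVU,
      map_smul_hom, map_smul_hom, hC, smul_smul, smul_smul, hσfac])
  have hEU₁ : EC * U₁ = U₁ := hinjM _ _ (by
    rw [Matrix.map_mul, hU₁, Matrix.mul_smul, hC, ← Matrix.map_mul, hEU])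
  have hUE₁ : U₁ * EC' = U₁ := hinjM _ _ (by
    rw [Matrix.map_mul, hU₁, Matrix.smul_mul, hC, ← Matrix.map_mul, hUE'])
  have hVE₁ : V₁ * EC = V₁ := hinjM _ _ (by
    rw [Matrix.map_mul, hV₁, Matrix.smul_mul, hC, ← Matrix.map_mul, hVE])
  have hEV₁ : EC' * V₁ = V₁ := hinjM _ _ (by
    rw [Matrix.map_mul, hV₁, Matrix.mul_smul, hC, ← Matrix.map_mul, hE'V])
  have hECC : EC * EC = EC := by rw [← Matrix.map_mul, hE]
  -- partition of unity
  obtain ⟨u, v, huv⟩ : IsCoprime ((X : A[X]) ^ a) g := by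
    refine IsCoprime.pow_left ⟨-g.divX, 1, ?_⟩
    conv_lhs => arg 2; rw [one_mul, ← X_mul_divX_add g, hg0, map_one]
    ring
  have ha : 0 < a := by omega
  have hv0 : v.coeff 0 = 1 := by
    have h := congrArg (fun p => p.coeff 0) huv
    simp only [coeff_add, mul_coeff_zero, coeff_X_pow, hg0, coeff_one_zero, mul_one] at h
    rwa [if_neg (by omega), mul_zero, zero_add] at h
  let e := finSumFinEquiv (m := r) (n := r')
  let F0 : Matrix (Fin r ⊕ Fin r') (Fin r ⊕ Fin r') A[X] :=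
    Matrix.fromBlocks ((u * X ^ a) • EC) (u • U₁) (v • V₁) ((v * g) • EC')
  let G0 : Matrix (Fin r) (Fin r ⊕ Fin r') (LaurentPolynomial A) :=
    Matrix.fromCols ((LaurentPolynomial.T (-(a : ℤ)) : LaurentPolynomial A) • EC.map (σ₂ (A := A))) (U₁.map (σ₂ (A := A)))
  let H0 : Matrix (Fin r ⊕ Fin r') (Fin r) (LaurentPolynomial A) :=
    Matrix.fromRows (σ₂ u • EC.map (σ₂ (A := A)))
      ((σ₂ v * LaurentPolynomial.T (a : ℤ)) • V₁.map (σ₂ (A := A)))
  have hTa : (LaurentPolynomial.T (a : ℤ) : LaurentPolynomial A) * σ₂ ((X : A[X]) ^ a) = 1 := by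
    rw [σ₂_X_pow, T_mul_T]; simp
  have hECσ : EC.map (σ₂ (A := A)) * EC.map (σ₂ (A := A)) = EC.map (σ₂ (A := A)) := by
    rw [← Matrix.map_mul, hECC]
  have hEUσ : EC.map (σ₂ (A := A)) * U₁.map (σ₂ (A := A)) = U₁.map (σ₂ (A := A)) := by
    rw [← Matrix.map_mul, hEU₁]
  have hUVσ : U₁.map (σ₂ (A := A)) * V₁.map (σ₂ (A := A)) =
      σ₂ ((X : A[X]) ^ a * g) • EC.map (σ₂ (A := A)) := by
    rw [← Matrix.map_mul, hU₁V₁, map_smul_hom]
  have hGH0 : G0 * H0 = EC.map (σ₁ (A := A)) := by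
    rw [← hC, Matrix.fromCols_mul_fromRows, Matrix.smul_mul, Matrix.mul_smul, Matrix.mul_smul,
      hECσ, hUVσ, smul_smul, smul_smul, ← add_smul,
      map_mul]
    have h := congrArg (σ₂ (A := A)) huv
    rw [map_add, map_mul, map_mul, map_one] at h
    conv_rhs => rw [← one_smul (LaurentPolynomial A) (EC.map (σ₂ (A := A))), ← h]
    congr 1
    rw [← σ₂_X_pow, show σ₂ v * LaurentPolynomial.T (a : ℤ) * (σ₂ ((X : A[X]) ^ a) * σ₂ g) =
      (LaurentPolynomial.T (a : ℤ) * σ₂ ((X : A[X]) ^ a)) * (σ₂ v * σ₂ g) by ring, hTa]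
    ring
  have hHG0 : H0 * G0 = F0.map (σ₂ (A := A)) := by
    rw [Matrix.fromRows_mul_fromCols, Matrix.fromBlocks_map]
    simp only [map_smul_hom, map_mul, Matrix.smul_mul, Matrix.mul_smul, ← Matrix.map_mul, hECC, hEU₁,
      hVE₁, hV₁U₁, smul_smul, σ₂_X_pow]
    congr 2
    · ring
    · rw [show (LaurentPolynomial.T (-(a : ℤ)) : LaurentPolynomial A) *
        (σ₂ v * LaurentPolynomial.T (a : ℤ)) = σ₂ v *
          (LaurentPolynomial.T (-(a : ℤ)) * LaurentPolynomial.T (a : ℤ)) by ring, T_mul_T]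
      simp
    · rw [show σ₂ v * LaurentPolynomial.T (a : ℤ) * (LaurentPolynomial.T (-(a : ℤ)) * σ₂ g) =
        (LaurentPolynomial.T (a : ℤ) * LaurentPolynomial.T (-(a : ℤ))) * (σ₂ v * σ₂ g) by ring, T_mul_T]
      simp
  have hF0 : F0 * F0 = F0 := hinjM _ _ (by
    rw [Matrix.map_mul, ← hHG0, Matrix.mul_assoc, ← Matrix.mul_assoc G0, hGH0]
    congr 1
    rw [← hC, Matrix.mul_fromCols, Matrix.mul_smul, hECσ, hEUσ])
  let F := F0.submatrix e.symm e.symm
  let G := G0.submatrix id e.symm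
  let H := H0.submatrix e.symm id
  have hF : F * F = F := by rw [Matrix.submatrix_mul_equiv, hF0]
  let invL := (LaurentPolynomial.invert (R := A)).toRingEquiv.toRingHom
  have hσ21 : invL.comp (σ₁ (A := A)) = σ₂ (A := A) := rfl
  have hσ12 : invL.comp (σ₂ (A := A)) = σ₁ (A := A) :=
    RingHom.ext fun p => LaurentPolynomial.involutive_invert _
  obtain ⟨W, W', hW, hW', hWW', hW'W⟩ := extended F hF EC hECC (H.map invL) (G.map invL)
    (by rw [← Matrix.map_mul, ← hσ12, ← map_map_hom]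
        congr 1
        exact (Matrix.submatrix_mul H0 G0 e.symm id e.symm Function.bijective_id).symm.trans
          (by rw [hHG0]; rfl))
    (by rw [← Matrix.map_mul, ← hσ21, ← map_map_hom]
        congr 1
        rw [Matrix.submatrix_mul_equiv, hGH0]
        rfl)
  let ev := evalRingHom (1 : A)
  let F₀ := F.map (evalRingHom (0 : A))
  let F₁ := F.map ev
  have hev : ∀ K : Matrix (Fin (r + r')) (Fin (r + r')) A, (K.map Polynomial.C).map ev = K := fun K => by
    ext1 i j; simp [ev]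
  have hWev : W.map ev * W'.map ev = F₀ ∧ W'.map ev * W.map ev = F₁ ∧
      F₀ * W.map ev = W.map ev ∧ F₁ * W'.map ev = W'.map ev := by
    refine ⟨?_, ?_, ?_, ?_⟩
    · rw [← Matrix.map_mul, hWW', ← map_map_hom, hev]
    · rw [← Matrix.map_mul, hW'W]
    · conv_rhs => rw [← hW, Matrix.map_mul, ← map_map_hom, hev]
    · conv_rhs => rw [← hW', Matrix.map_mul]
  obtain ⟨hW0, hW1, hW0', hW1'⟩ := hWev
  -- the two ends
  let G1 : Matrix (Fin r) (Fin (r + r')) A :=
    (Matrix.fromCols E (U₁.map ev)).submatrix id e.symm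
  let H1 : Matrix (Fin (r + r')) (Fin r) A :=
    (Matrix.fromRows (u.eval 1 • E) (v.eval 1 • V₁.map ev)).submatrix e.symm id
  have hevC : ∀ {a b : ℕ} (K : Matrix (Fin a) (Fin b) A), (K.map Polynomial.C).map ev = K := fun K => by
    ext1 i j; simp [ev]
  have hev1 : ∀ p : A[X], ev p = p.eval 1 := fun p => rfl
  have h1 : u.eval 1 + v.eval 1 * g.eval 1 = 1 := by
    have h := congrArg ev huv
    simp only [ev, map_add, map_mul, map_pow, coe_evalRingHom, eval_X, one_pow, mul_one,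
      map_one] at h
    simpa using h
  have hE1U : E * U₁.map ev = U₁.map ev := by
    conv_rhs => rw [← hEU₁, Matrix.map_mul, hevC]
  have hV1E : V₁.map ev * E = V₁.map ev := by
    conv_rhs => rw [← hVE₁, Matrix.map_mul, hevC]
  have hGH1 : G1 * H1 = E := by
    rw [Matrix.submatrix_mul_equiv, Matrix.fromCols_mul_fromRows, Matrix.mul_smul, Matrix.mul_smul,
      hE, ← Matrix.map_mul, hU₁V₁, map_smul_hom, hevC, smul_smul, ← add_smul]
    simp only [map_mul, map_pow, hev1, eval_mul, eval_pow, eval_X, one_pow, one_mul]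
    rw [h1, one_smul]
    rfl
  have hHG1 : H1 * G1 = F₁ := by
    rw [← Matrix.submatrix_mul _ _ _ _ _ Function.bijective_id, Matrix.fromRows_mul_fromCols]
    simp only [Matrix.smul_mul, hE, hE1U, hV1E, ← Matrix.map_mul, hV₁U₁, map_smul_hom, smul_smul]
    simp only [F₁, F, ← Matrix.submatrix_map, F0, Matrix.fromBlocks_map, map_smul_hom, hevC, EC, EC',
      map_mul, map_pow, hev1, eval_X, one_pow, mul_one, one_mul, eval_mul, eval_pow]
  let A0 : Matrix (Fin (r + r')) (Fin r') A :=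
    (Matrix.fromRows (u.coeff 0 • U₁.map (evalRingHom (0 : A))) E').submatrix e.symm id
  let B0 : Matrix (Fin r') (Fin (r + r')) A :=
    (Matrix.fromCols (V₁.map (evalRingHom (0 : A))) E').submatrix id e.symm
  have he0 : ∀ p : A[X], evalRingHom (0 : A) p = p.coeff 0 := fun p => (coeff_zero_eq_eval_zero p).symm
  have he0C : ∀ {a b : ℕ} (K : Matrix (Fin a) (Fin b) A),
      (K.map Polynomial.C).map (evalRingHom (0 : A)) = K := fun K => by ext1 i j; simp
  have hxa : ((X : A[X]) ^ a).coeff 0 = 0 := by rw [coeff_X_pow, if_neg (by omega)]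
  have hUV0 : U₁.map (evalRingHom (0 : A)) * V₁.map (evalRingHom (0 : A)) = 0 := by
    rw [← Matrix.map_mul, hU₁V₁, map_smul_hom, he0, mul_coeff_zero, hxa, zero_mul, zero_smul]
  have hVU0 : V₁.map (evalRingHom (0 : A)) * U₁.map (evalRingHom (0 : A)) = 0 := by
    rw [← Matrix.map_mul, hV₁U₁, map_smul_hom, he0, mul_coeff_zero, hxa, zero_mul, zero_smul]
  have hU0E : U₁.map (evalRingHom (0 : A)) * E' = U₁.map (evalRingHom (0 : A)) := by
    conv_rhs => rw [← hUE₁, Matrix.map_mul, he0C]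
  have hEV0 : E' * V₁.map (evalRingHom (0 : A)) = V₁.map (evalRingHom (0 : A)) := by
    conv_rhs => rw [← hEV₁, Matrix.map_mul, he0C]
  have hAB : A0 * B0 = F₀ := by
    rw [← Matrix.submatrix_mul _ _ _ _ _ Function.bijective_id, Matrix.fromRows_mul_fromCols]
    simp only [Matrix.smul_mul, hUV0, hU0E, hEV0, hE', smul_zero]
    simp only [F₀, F, ← Matrix.submatrix_map, F0, Matrix.fromBlocks_map, map_smul_hom, he0C, he0, EC,
      EC', mul_coeff_zero, hxa, mul_zero, zero_smul, hv0, hg0, one_mul, one_smul, mul_one]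
  have hBA : B0 * A0 = E' := by
    rw [Matrix.submatrix_mul_equiv, Matrix.fromCols_mul_fromRows, Matrix.mul_smul, hVU0, smul_zero,
      zero_add, hE']
    rfl
  refine ⟨G1 * W'.map ev * A0, B0 * W.map ev * H1, ?_, ?_⟩
  · rw [show G1 * W'.map ev * A0 * (B0 * W.map ev * H1) =
        G1 * (W'.map ev * ((A0 * B0) * W.map ev)) * H1 by simp only [Matrix.mul_assoc],
      hAB, hW0', hW1, ← hHG1,
      show G1 * (H1 * G1) * H1 = (G1 * H1) * (G1 * H1) by simp only [Matrix.mul_assoc], hGH1, hE]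
  · rw [show B0 * W.map ev * H1 * (G1 * W'.map ev * A0) =
        B0 * (W.map ev * ((H1 * G1) * W'.map ev)) * A0 by simp only [Matrix.mul_assoc],
      hHG1, hW1', hW0, ← hAB,
      show B0 * (A0 * B0) * A0 = (B0 * A0) * (B0 * A0) by simp only [Matrix.mul_assoc], hBA, hE']


/-- Let A be a commutative ring and let A(t) denote the localization of the polynomial ring A[t] at the
multiplicative subset of monic polynomials, viewed as an A-algebra. If P and P' are finitely
generated projective A-modules such that A(t) ⊗_A P and A(t) ⊗_A P' are isomorphic A(t)-modules,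
then P and P' are isomorphic A-modules: non-isomorphic finite projective modules stay non-isomorphic
over A(t). (The published statement also covers base change to the ring A((t)) of Laurent power
series, and modules over A(t) itself; only the A(t) assertion for modules over A is stated.) -/
theorem result
    (A : Type u) [CommRing A] (M : Submonoid A[X]) (hM : ∀ f : A[X], f ∈ M ↔ f.Monic)
    (At : Type u) [CommRing At] [Algebra A[X] At] [IsLocalization M At]
    [Algebra A At] [IsScalarTower A A[X] At]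
    (P P' : Type u) [AddCommGroup P] [Module A P] [Module.Finite A P] [Module.Projective A P]
    [AddCommGroup P'] [Module A P'] [Module.Finite A P'] [Module.Projective A P']
    (h : Nonempty ((At ⊗[A] P) ≃ₗ[At] (At ⊗[A] P'))) :
    Nonempty (P ≃ₗ[A] P') := by
  classical
  obtain ⟨h⟩ := h
  obtain ⟨r, π, hπ⟩ := Module.Finite.exists_fin' A P
  obtain ⟨σ, hσ⟩ := Module.projective_lifting_property π LinearMap.id hπ
  obtain ⟨r', π', hπ'⟩ := Module.Finite.exists_fin' A P'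
  obtain ⟨σ', hσ'⟩ := Module.projective_lifting_property π' LinearMap.id hπ'
  generalize hEd : LinearMap.toMatrix' (σ ∘ₗ π) = E
  generalize hEd' : LinearMap.toMatrix' (σ' ∘ₗ π') = E'
  have hE : E * E = E := by
    rw [← hEd, ← LinearMap.toMatrix'_comp, LinearMap.comp_assoc, ← LinearMap.comp_assoc π σ π, hσ,
      LinearMap.id_comp]
  have hE' : E' * E' = E' := by
    rw [← hEd', ← LinearMap.toMatrix'_comp, LinearMap.comp_assoc, ← LinearMap.comp_assoc π' σ' π', hσ',
      LinearMap.id_comp]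
  obtain ⟨f, hfM, U, V, hEU, hUE', hE'V, hVE, hUV, hVU⟩ := matrices_of_iso M At P P' π σ hσ π' σ' hσ' h
    (E.map Polynomial.C) (E'.map Polynomial.C) (by rw [hEd]) (by rw [hEd'])
    (by rw [← Matrix.map_mul, hE]) (by rw [← Matrix.map_mul, hE'])
  obtain ⟨K, K', hK, hK'⟩ := eqv_of_monic E E' hE hE' f ((hM f).mp hfM) U V hEU hUE' hE'V hVE hUV hVU
  have hEσ : E.mulVecLin = σ ∘ₗ π := by rw [← hEd]; exact Matrix.toLin'_toMatrix' _
  have hEσ' : E'.mulVecLin = σ' ∘ₗ π' := by rw [← hEd']; exact Matrix.toLin'_toMatrix' _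
  have aux : ∀ {n m : ℕ} {Q R : Type u} [AddCommGroup Q] [Module A Q] [AddCommGroup R] [Module A R]
      (p : (Fin n → A) →ₗ[A] Q) (s : Q →ₗ[A] (Fin n → A)) (q : (Fin m → A) →ₗ[A] R)
      (t : R →ₗ[A] (Fin m → A)) (E₁ : Matrix (Fin n) (Fin n) A) (E₂ : Matrix (Fin m) (Fin m) A)
      (K₁ : Matrix (Fin n) (Fin m) A) (K₂ : Matrix (Fin m) (Fin n) A),
      p ∘ₗ s = LinearMap.id → E₁.mulVecLin = s ∘ₗ p → E₂.mulVecLin = t ∘ₗ q →
      K₁ * K₂ = E₁ → K₂ * K₁ = E₂ → E₁ * E₁ = E₁ →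
      (p ∘ₗ K₁.mulVecLin ∘ₗ t) ∘ₗ (q ∘ₗ K₂.mulVecLin ∘ₗ s) = LinearMap.id := by
    intro n m Q R _ _ _ _ p s q t E₁ E₂ K₁ K₂ hps h1 h2 h12 h21 hidem
    calc (p ∘ₗ K₁.mulVecLin ∘ₗ t) ∘ₗ (q ∘ₗ K₂.mulVecLin ∘ₗ s)
        = p ∘ₗ (K₁.mulVecLin ∘ₗ (t ∘ₗ q) ∘ₗ K₂.mulVecLin) ∘ₗ s := by simp only [LinearMap.comp_assoc]
      _ = p ∘ₗ ((K₁ * K₂) * (K₁ * K₂)).mulVecLin ∘ₗ s := by
          rw [← h2, ← h21, ← Matrix.mulVecLin_mul, ← Matrix.mulVecLin_mul]
          simp only [Matrix.mul_assoc]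
      _ = (p ∘ₗ s) ∘ₗ (p ∘ₗ s) := by
          rw [h12, hidem, h1]; simp only [LinearMap.comp_assoc]
      _ = LinearMap.id := by rw [hps, LinearMap.id_comp]
  refine ⟨LinearEquiv.ofLinearMap (π' ∘ₗ K'.mulVecLin ∘ₗ σ) (π ∘ₗ K.mulVecLin ∘ₗ σ') ?_ ?_⟩
  · exact aux π' σ' π σ E' E K' K hσ' hEσ' hEσ hK' hK hE'
  · exact aux π σ π' σ' E E' K K' hσ hEσ hEσ' hK hK' hE

end Groth.Agent.S19963
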