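import Groth.Prelude.Def_LinSer
import Groth.Prelude.Def_CohB1
import Mathlib.RingTheory.LocalRing.ResidueField.Ideal
import Groth.Agent.Amp73.Gen
import Mathlib.LinearAlgebra.Dimension.Finrank
import Mathlib.LinearAlgebra.FiniteDimensional.Lemmas
-- import your own Groth.Agent.* helpers here

set_option autoImplicit false
universe u
open CategoryTheory AlgebraicGeometry Opposite
open LinSer
open Groth.Agent.Var76.LineBundle Groth.Agent.Var76.ZeroScheme

namespace Groth.Agent.S19968

variable {k : Type u} [Field k] {X : Scheme.{u}}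

/-- Evaluation of functions at a point over `k`. -/
noncomputable def evAt (p : Spec (CommRingCat.of k) ⟶ X) (U : X.Opens)
    (hU : p (IsLocalRing.closedPoint k) ∈ U) : Γ(X, U) →+* k :=
  (p.appLE U ⊤ (fun y _ => by
      have : y = IsLocalRing.closedPoint k := Subsingleton.elim _ _
      subst this; exact hU) ≫ (Scheme.ΓSpecIso (CommRingCat.of k)).hom).hom

theorem evAt_res (p : Spec (CommRingCat.of k) ⟶ X) {U W : X.Opens} (h : W ≤ U)
    (hW : p (IsLocalRing.closedPoint k) ∈ W) (a : Γ(X, U)) :
    evAt p W hW (X.presheaf.map (homOfLE h).op a) = evAt p U (h hW) a := by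
  unfold evAt
  rw [← ConcreteCategory.comp_apply, ← Category.assoc, Scheme.Hom.map_appLE]

theorem evAt_toGlobal [X.Over (Spec (CommRingCat.of k))] (p : Spec (CommRingCat.of k) ⟶ X)
    (hp : p ≫ (X ↘ Spec (CommRingCat.of k)) = 𝟙 _) (c : k) :
    evAt p ⊤ trivial (Coh.toGlobal (X ↘ Spec (CommRingCat.of k)) c) = c := by
  have key : (X ↘ Spec (CommRingCat.of k)).appTop ≫ p.appLE ⊤ ⊤ (fun y _ => trivial) = 𝟙 _ := by
    rw [show p.appLE ⊤ ⊤ (fun y _ => trivial) = p.appTop from p.appLE_eq_app,
      ← Scheme.Hom.comp_appTop, hp, Scheme.Hom.id_appTop]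
  show ((Scheme.ΓSpecIso (CommRingCat.of k)).inv ≫ ((X ↘ Spec (CommRingCat.of k)).appTop ≫
    p.appLE ⊤ ⊤ (fun y _ => trivial)) ≫ (Scheme.ΓSpecIso (CommRingCat.of k)).hom) c = c
  rw [key, Category.id_comp, Iso.inv_hom_id]
  rfl

/-- Rational points impose at most one condition each on a complete linear system. Let k be a field, X a
scheme over k, L an invertible O_X-module, and p_1, …, p_n morphisms Spec k → X over k (k-rational
points). Suppose there are n + 1 global sections of L, given as morphisms t_0, …, t_n : O_X → L,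
whose values in Γ(X, L) are linearly independent over k. Then there is a nonzero morphism s : O_X →
L such that no p_i lands in the open X_s where s generates L; that is, s vanishes at every p_i and
the p_i lie on a common member of the complete linear system of L. (The source has X an irreducible
projective variety over the complex numbers, L base-point-free and the points closed, and phrases
this as surjectivity of the incidence correspondence onto X^n for n at most the dimension of the
linear system; only rationality of the points and the dimension count are used, and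
base-point-freeness plays no part in this item.) -/
theorem result
    (k : Type u) [Field k] (X : Scheme.{u}) [X.Over (Spec (CommRingCat.of k))]
    (L : X.Modules) (hL : PicF.IsInvertible L)
    (n : ℕ) (p : Fin n → (Spec (CommRingCat.of k) ⟶ X))
    (hp : ∀ i, p i ≫ (X ↘ Spec (CommRingCat.of k)) = 𝟙 _)
    (t : Fin (n + 1) → (Coh.structureModule X ⟶ L))
    (ht : LinSer.LinIndep k X L (fun j => (L.unitHomEquiv (t j)).val (op ⊤))) :
    ∃ s : Coh.structureModule X ⟶ L, s ≠ 0 ∧
      ∀ i, (p i) (IsLocalRing.closedPoint k) ∉ CohB1.genLocus L s := by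
  classical
  have hfr : ∀ i, ∃ (U : X.Opens), p i (IsLocalRing.closedPoint k) ∈ U ∧ ∃ e : Γ(L, U), IsFrame L U e :=
    fun i => Mero90.exists_frame' hL _
  choose U hU e he using hfr
  let tv : Fin (n + 1) → Γ(L, ⊤) := fun j => val L (t j) ⊤
  have ha : ∀ i j, ∃ a : Γ(X, U i), a • e i = res L le_top (tv j) := fun i j => by
    obtain ⟨a, ha⟩ := (he i (U i) le_rfl).2 (res L le_top (tv j))
    exact ⟨a, by simpa [Amp73.res_self] using ha⟩
  choose a ha using ha
  let M : Fin (n + 1) → (Fin n → k) := fun j i => evAt (p i) (U i) (hU i) (a i j)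
  have hdep : ¬ LinearIndependent k M := fun h => by
    have := h.fintype_card_le_finrank
    simp at this
  obtain ⟨c, hc, j₀, hj₀⟩ := Fintype.not_linearIndependent_iff.1 hdep
  let g : k →+* Γ(X, ⊤) := Coh.toGlobal (X ↘ Spec (CommRingCat.of k))
  let σ : Γ(L, ⊤) := ∑ j, g (c j) • tv j
  refine ⟨Var76.Frames.ofSection L σ, fun h0 => ?_, fun i hi => ?_⟩
  · have h1 := Var76.Frames.val_ofSection L σ ⊤
    rw [Amp73.res_self, h0] at h1
    have h2 : val L (0 : Coh.structureModule X ⟶ L) ⊤ = 0 := rfl
    rw [h2] at h1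
    exact hj₀ (congrFun (ht c h1.symm) j₀)
  · obtain ⟨W, hxW, hW⟩ := Amp73.mem_genLocus_iff.1 hi
    have hV1 : W ⊓ U i ≤ W := inf_le_left
    have hV2 : W ⊓ U i ≤ U i := inf_le_right
    have hxV : p i (IsLocalRing.closedPoint k) ∈ W ⊓ U i := ⟨hxW, hU i⟩
    have h3 := hW.res hV1
    rw [Var76.Frames.val_ofSection, res_res] at h3
    let b : Γ(X, W ⊓ U i) := ∑ j, X.presheaf.map (homOfLE (le_top : W ⊓ U i ≤ ⊤)).op (g (c j)) *
      X.presheaf.map (homOfLE hV2).op (a i j)
    have h4 : res L (le_top : W ⊓ U i ≤ ⊤) σ = b • res L hV2 (e i) := by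
      rw [Finset.sum_smul]
      refine (map_sum (L.presheaf.map (homOfLE (le_top : W ⊓ U i ≤ ⊤)).op).hom _ _).trans
        (Finset.sum_congr rfl fun j _ => ?_)
      refine (res_smul L _ _ _).trans ?_
      rw [mul_smul, ← res_smul L hV2, ha, res_res]
    rw [h4] at h3
    have hu := ((Amp73.isFrame_smul_iff ((he i).res hV2) b).1 h3).map (evAt (p i) (W ⊓ U i) hxV)
    refine hu.ne_zero ?_
    show evAt (p i) (W ⊓ U i) hxV b = 0
    rw [map_sum]
    refine Eq.trans (Finset.sum_congr rfl fun j _ => ?_) ((Finset.sum_apply i _ _).symm.trans (congrFun hc i))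
    rw [map_mul, evAt_res, evAt_res]
    exact congrArg (· * evAt (p i) (U i) (hU i) (a i j)) (evAt_toGlobal (p i) (hp i) (c j))


end Groth.Agent.S19968
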