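import Groth.Statements.S1997
import Groth.Agent.S1969
import Mathlib.Algebra.Category.Ring.Epi
import Mathlib.RingTheory.IntegralClosure.IntegrallyClosed
import Mathlib.RingTheory.Adjoin.FG

set_option autoImplicit false
universe u
open CategoryTheory
open EtAlg

namespace Groth.Agent.S1997

/-- Let A be a ring all of whose ideals are flat (weak dimension at most one) and A -> B a flat,
injective ring map which is an epimorphism in the category of commutative rings. Then A is
integrally closed in B. -/
theorem result (A B : Type u) [CommRing A] [CommRing B] [Algebra A B]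
    (hA : ∀ I : Ideal A, Module.Flat A I) [Module.Flat A B] (hinj : Function.Injective (algebraMap A B))
    (hepi : Epi (CommRingCat.ofHom (algebraMap A B))) : IsIntegrallyClosedIn A B := by
  haveI : Algebra.IsEpi A B := CommRingCat.epi_iff_epi.1 hepi
  refine isIntegrallyClosedIn_iff.2 ⟨hinj, fun {b} hb => ?_⟩
  have h3 := ((Groth.Agent.S1969.result A).out 0 2).1 hA
  let S := Algebra.adjoin A ({b} : Set B)
  haveI : Module.Flat A S := h3 B inferInstance S.toSubmodule
  haveI : Module.Finite A S := Module.Finite.iff_fg.2 hb.fg_adjoin_singleton
  have hinjS : Function.Injective (Algebra.TensorProduct.map S.val S.val) := by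
    have h1 := Module.Flat.rTensor_preserves_injective_linearMap (M := S) S.val.toLinearMap Subtype.val_injective
    have h2 := Module.Flat.lTensor_preserves_injective_linearMap (M := B) S.val.toLinearMap Subtype.val_injective
    convert h2.comp h1 using 1
    rw [← LinearMap.coe_comp, LinearMap.lTensor_comp_rTensor]
    rfl
  haveI : Algebra.IsEpi A S := (Algebra.isEpi_iff_forall_one_tmul_eq A S).2 fun s => hinjS (by
    rw [Algebra.TensorProduct.map_tmul, Algebra.TensorProduct.map_tmul, map_one]
    exact (Algebra.isEpi_iff_forall_one_tmul_eq A B).1 inferInstance (S.val s))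
  obtain ⟨a, ha⟩ := ((Algebra.isEpi_iff_surjective_algebraMap_of_finite (R := A) (A := S)).1 inferInstance)
    (⟨b, Algebra.self_mem_adjoin_singleton A b⟩ : S)
  exact ⟨a, congrArg Subtype.val ha⟩

end Groth.Agent.S1997
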