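import Groth.Statements.S19974
import Mathlib

attribute [-simp] DualNumber.inr_eq_smul_eps

set_option autoImplicit false
universe u v w x
open scoped BigOperators
open DefMod

namespace Groth.Agent.S19974

/-- Let K be a field of characteristic 0, O a commutative K-algebra with a K-linear derivation δ, and D
the ring of differential operators O[∂], presented abstractly as a K-algebra D with an algebra map ι
: O → D and an element ∂ of D such that ∂ ι(f) = ι(f) ∂ + ι(δ f) for every f in O and such that
every element of D is in a unique way a finite sum of terms ι(f_i) ∂^i. Let E be a left D-module,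
given as a K-vector space with a K-algebra map ρ : D → End_K(E), which is finite free as an
O-module. A K-derivation of D with values in the D-bimodule End_K(E) is a K-linear map s with s(PQ)
= s(P) ρ(Q) + ρ(P) s(Q); a K-derivation of O with values in End_K(E) is a K-linear map r with r(fg)
= r(f) ρ(ι g) + ρ(ι f) r(g). Then: (a) for every K-derivation s of D into End_K(E), the pair (r, v)
= (s ∘ ι, s(∂)) satisfies the identity [r(f), ρ(∂)] + [ρ(ι f), v] + r(δ f) = 0 for all f in O; (b)
conversely, for every K-derivation r of O into End_K(E) and every v in End_K(E) satisfying that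
identity for all f, there is exactly one K-derivation s of D into End_K(E) with s ∘ ι = r and s(∂) =
v. In other words s ↦ (s ∘ ι, s(∂)) maps the K-derivations of D injectively onto the pairs
satisfying the identity. -/
theorem result
    (K : Type u) [Field K] [CharZero K]
    (O : Type v) [CommRing O] [Algebra K O] (δ : Derivation K O O)
    (D : Type w) [Ring D] [Algebra K D] (ι : O →ₐ[K] D) (d : D)
    (hd : ∀ f : O, d * ι f = ι f * d + ι (δ f))
    (hbasis : Function.Bijective (fun c : ℕ →₀ O => c.sum (fun i f => ι f * d ^ i)))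
    (E : Type x) [AddCommGroup E] [Module K E] (ρ : D →ₐ[K] Module.End K E)
    (hE : ∃ (n : ℕ) (b : Fin n → E), Function.Bijective (fun c : Fin n → O => ∑ i, ρ (ι (c i)) (b i))) :
    (∀ s : D →ₗ[K] Module.End K E, (∀ P Q : D, s (P * Q) = s P * ρ Q + ρ P * s Q) →
      ∀ f : O, (s (ι f) * ρ d - ρ d * s (ι f)) + (ρ (ι f) * s d - s d * ρ (ι f)) + s (ι (δ f)) = 0) ∧
    ∀ (r : O →ₗ[K] Module.End K E) (v : Module.End K E),
      (∀ f g : O, r (f * g) = r f * ρ (ι g) + ρ (ι f) * r g) →
      (∀ f : O, (r f * ρ d - ρ d * r f) + (ρ (ι f) * v - v * ρ (ι f)) + r (δ f) = 0) →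
      ∃! s : D →ₗ[K] Module.End K E,
        (∀ P Q : D, s (P * Q) = s P * ρ Q + ρ P * s Q) ∧ s ∘ₗ ι.toLinearMap = r ∧ s d = v := by
  classical
  refine ⟨fun s hs f => ?_, fun r v hr hrv => ?_⟩
  · have h := congrArg s (hd f)
    rw [map_add, hs, hs] at h
    calc (s (ι f) * ρ d - ρ d * s (ι f)) + (ρ (ι f) * s d - s d * ρ (ι f)) + s (ι (δ f))
        = (s (ι f) * ρ d + ρ (ι f) * s d + s (ι (δ f))) - (s d * ρ (ι f) + ρ d * s (ι f)) := by abel
      _ = 0 := by rw [← h, sub_self]
  · have hr1 : r 1 = 0 := by
      have := hr 1 1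
      rw [mul_one, map_one ι, map_one ρ, mul_one, one_mul] at this
      simpa using this
    let φ : O →ₐ[K] (TrivSqZeroExt (Module.End K E) (Module.End K E)) :=
      AlgHom.ofLinearMap
        { toFun := fun f => TrivSqZeroExt.inl (ρ (ι f)) + TrivSqZeroExt.inr (r f)
          map_add' := fun a b => TrivSqZeroExt.ext (by simp) (by simp)
          map_smul' := fun c a => TrivSqZeroExt.ext (by simp) (by simp) }
        (TrivSqZeroExt.ext (by simp) (by simp [hr1]))
        (fun a b => TrivSqZeroExt.ext (by simp) (by simp [hr a b]; abel))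
    let x : (TrivSqZeroExt (Module.End K E) (Module.End K E)) := TrivSqZeroExt.inl (ρ d) + TrivSqZeroExt.inr v
    have hx : ∀ f, x * φ f = φ f * x + φ (δ f) := fun f => TrivSqZeroExt.ext
      (by
        have := congrArg ρ (hd f)
        simp only [map_mul, map_add] at this
        simpa [φ, x] using this)
      (by
        refine (sub_eq_zero.mp ?_).symm
        rw [← hrv f]
        simp [φ, x]
        abel)
    let Φ : (ℕ →₀ O) →ₗ[K] (TrivSqZeroExt (Module.End K E) (Module.End K E)) :=
      Finsupp.lsum K fun i => (LinearMap.mulRight K (x ^ i)).comp φ.toLinearMap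
    let ev : (ℕ →₀ O) →ₗ[K] D :=
      Finsupp.lsum K fun i => (LinearMap.mulRight K (d ^ i)).comp ι.toLinearMap
    let e : (ℕ →₀ O) ≃ₗ[K] D := LinearEquiv.ofBijective ev hbasis
    let F : D →ₗ[K] (TrivSqZeroExt (Module.End K E) (Module.End K E)) := Φ.comp e.symm.toLinearMap
    have hF : ∀ (f : O) (i : ℕ), F (ι f * d ^ i) = φ f * x ^ i := fun f i => by
      have he : e (Finsupp.single i f) = ι f * d ^ i := by
        rw [show e (Finsupp.single i f) = ev (Finsupp.single i f) from rfl, Finsupp.lsum_single]; rfl
      show Φ (e.symm (ι f * d ^ i)) = _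
      rw [← he, e.symm_apply_apply]
      simp [Φ]
    have hspan : ∀ (P : D → Prop), P 0 → (∀ a b, P a → P b → P (a + b)) → (∀ f i, P (ι f * d ^ i)) → ∀ a, P a := by
      intro P h0 ha hg a
      obtain ⟨c, rfl⟩ := hbasis.2 a
      exact Finset.sum_induction (fun i => ι (c i) * d ^ i) P ha h0 (fun i _ => hg _ _)
    have hι : ∀ (f : O) (Q : D), F (ι f * Q) = φ f * F Q := by
      intro f
      refine hspan _ (by simp) (fun a b ha hb => by rw [mul_add, map_add, map_add, mul_add, ha, hb]) fun g i => ?_
      rw [← mul_assoc, ← map_mul ι, hF, hF, map_mul φ, mul_assoc]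
    have hdQ : ∀ Q : D, F (d * Q) = x * F Q := by
      refine hspan _ (by simp) (fun a b ha hb => by rw [mul_add, map_add, map_add, mul_add, ha, hb]) fun g i => ?_
      rw [← mul_assoc, hd, add_mul, mul_assoc, ← pow_succ', map_add, hF, hF, hF, ← mul_assoc, hx, add_mul,
        mul_assoc, ← pow_succ']
    have hmul : ∀ P Q : D, F (P * Q) = F P * F Q := by
      refine hspan _ (by simp) (fun a b ha hb Q => by rw [add_mul, map_add, map_add, add_mul, ha, hb]) fun g i => ?_
      induction i generalizing g with
      | zero =>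
        intro Q
        rw [hF, pow_zero, mul_one, pow_zero, mul_one, hι]
      | succ i ih =>
        intro Q
        rw [pow_succ, ← mul_assoc, mul_assoc _ d Q, ih g (d * Q), hdQ, ← mul_assoc,
          mul_assoc (ι g), ← pow_succ, hF, hF, mul_assoc (φ g), ← pow_succ]
    have h1 : F 1 = 1 := by
      have := hF 1 0
      rwa [map_one ι, map_one φ, one_mul, one_mul, pow_zero, pow_zero] at this
    have hfst : ∀ P, (F P).fst = ρ P := by
      refine hspan _ (by simp) (fun a b ha hb => by rw [map_add, map_add, TrivSqZeroExt.fst_add, ha, hb]) fun g i => ?_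
      rw [hF, TrivSqZeroExt.fst_mul, TrivSqZeroExt.fst_pow, map_mul, map_pow]
      simp [φ, x]
    let sn : (TrivSqZeroExt (Module.End K E) (Module.End K E)) →ₗ[K] Module.End K E :=
      { toFun := TrivSqZeroExt.snd, map_add' := fun _ _ => rfl, map_smul' := fun _ _ => rfl }
    refine ⟨sn.comp F, ⟨fun P Q => ?_, LinearMap.ext fun f => ?_, ?_⟩, fun s' ⟨hs, hsι, hsd⟩ => ?_⟩
    · show (F (P * Q)).snd = (F P).snd * ρ Q + ρ P * (F Q).snd
      rw [hmul, TrivSqZeroExt.snd_mul, hfst, hfst, smul_eq_mul, MulOpposite.smul_eq_mul_unop,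
        MulOpposite.unop_op, add_comm]
    · show (F (ι f)).snd = r f
      have := hF f 0
      rw [pow_zero, mul_one, pow_zero, mul_one] at this
      rw [this]
      simp [φ]
    · show (F d).snd = v
      have := hF 1 1
      rw [map_one ι, map_one φ, one_mul, one_mul, pow_one, pow_one] at this
      rw [this]
      simp [x]
    · refine LinearMap.ext (hspan _ (by simp) (fun a b ha hb => by rw [map_add, map_add, ha, hb]) fun g i => ?_)
      have hsnd : (F (ι g * d ^ i)).snd = (φ g * x ^ i).snd := congrArg TrivSqZeroExt.snd (hF g i)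
      show s' (ι g * d ^ i) = (F (ι g * d ^ i)).snd
      rw [hsnd]
      induction i with
      | zero =>
        rw [pow_zero, mul_one, pow_zero, mul_one, ← AlgHom.toLinearMap_apply, ← LinearMap.comp_apply, hsι]
        simp [φ]
      | succ i ih =>
        rw [pow_succ, ← mul_assoc, hs, ih (congrArg TrivSqZeroExt.snd (hF g i)), hsd, pow_succ, ← mul_assoc,
          TrivSqZeroExt.snd_mul (φ g * x ^ i) x, ← hfst (ι g * d ^ i), hF,
          show x.fst = ρ d by simp [x], show x.snd = v by simp [x]]
        simp only [smul_eq_mul, MulOpposite.smul_eq_mul_unop, MulOpposite.unop_op]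
        abel

end Groth.Agent.S19974
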