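import Groth.Statements.S19976
import Groth.Agent.NF31.CodimTwo

set_option autoImplicit false
universe u
open NumberField

namespace Groth.Agent.S19976

/-- Strong approximation off a place v₀ for the complement of a closed subset of codimension at least 2
in affine n-space over a number field, here in the following explicit form for a finite place v₀ and
the standard integral model. Let k be a number field with ring of integers O_k, n ≥ 1, and f_1, …,
f_m polynomials in n variables with coefficients in O_k whose common zero locus F in 𝔸ⁿ_k has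
codimension at least 2, i.e. the k-algebra k[x_1, …, x_n]/(f_1, …, f_m) has Krull dimension at most
n − 2 (dimension −∞ when F is empty). Put U = 𝔸ⁿ_k ∖ F and 𝒰 = 𝔸ⁿ_{O_k} ∖ V(f_1, …, f_m), so that
for a finite place v the O_v-points of 𝒰 are the P ∈ O_vⁿ with some f_j(P) a unit. Let S_f be a
finite set of finite places containing v₀ (the set S of the source is S_f together with all infinite
places). Suppose given, for every v ∈ S_f other than v₀, a point P_v ∈ U(k_v) with an open
neighbourhood N_v ⊆ k_vⁿ; for every infinite place w, a point P_w ∈ U(k_w) with an open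
neighbourhood N_w ⊆ k_wⁿ; for every v in a finite set T of finite places disjoint from S_f, a point
Q_v ∈ 𝒰(O_v) with an open neighbourhood W_v ⊆ k_vⁿ; and suppose 𝒰(O_v) is nonempty for every finite
place v ∉ S_f. Then there is a point P ∈ kⁿ whose coordinates are v-integral and some f_j(P) is a
v-unit at every finite place v ∉ S_f (so P ∈ 𝒰(O_S)), and whose image lies in N_v for v ∈ S_f ∖
{v₀}, in N_w for every infinite w, and in W_v for v ∈ T. (The source states strong approximation off
an arbitrary place v₀ and for every model over O_S; this row is the case of a finite v₀ and of the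
standard model, approximation at a basic open set of the restricted product.) -/
theorem result
    (k : Type u) [Field k] [NumberField k] (n : ℕ) (hn : 1 ≤ n) (m : ℕ)
    (f : Fin m → MvPolynomial (Fin n) (NumberField.RingOfIntegers k))
    (hcodim : ringKrullDim (MvPolynomial (Fin n) k ⧸ Ideal.span (Set.range fun j =>
        MvPolynomial.map (algebraMap (NumberField.RingOfIntegers k) k) (f j))) + 2 ≤ (n : WithBot ℕ∞))
    (v₀ : IsDedekindDomain.HeightOneSpectrum (NumberField.RingOfIntegers k)) (Sf : Finset (IsDedekindDomain.HeightOneSpectrum (NumberField.RingOfIntegers k))) (hv₀ : v₀ ∈ Sf)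
    (Pf : (v : IsDedekindDomain.HeightOneSpectrum (NumberField.RingOfIntegers k)) → (Fin n → v.adicCompletion k))
    (hPf : ∀ v ∈ Sf, v ≠ v₀ → ∃ j, MvPolynomial.aeval (Pf v)
      (MvPolynomial.map (algebraMap (NumberField.RingOfIntegers k) k) (f j)) ≠ 0)
    (Nf : (v : IsDedekindDomain.HeightOneSpectrum (NumberField.RingOfIntegers k)) → Set (Fin n → v.adicCompletion k))
    (hNf : ∀ v ∈ Sf, v ≠ v₀ → IsOpen (Nf v) ∧ Pf v ∈ Nf v)
    (Pi : (w : NumberField.InfinitePlace k) → (Fin n → w.Completion))
    (hPi : ∀ w, ∃ j, MvPolynomial.aeval (Pi w)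
      (MvPolynomial.map (algebraMap (NumberField.RingOfIntegers k) k) (f j)) ≠ 0)
    (Ni : (w : NumberField.InfinitePlace k) → Set (Fin n → w.Completion))
    (hNi : ∀ w, IsOpen (Ni w) ∧ Pi w ∈ Ni w)
    (T : Finset (IsDedekindDomain.HeightOneSpectrum (NumberField.RingOfIntegers k))) (hT : Disjoint T Sf)
    (Q : (v : IsDedekindDomain.HeightOneSpectrum (NumberField.RingOfIntegers k)) → (Fin n → v.adicCompletion k))
    (hQ : ∀ v ∈ T, (∀ i, Q v i ∈ v.adicCompletionIntegers k) ∧ ∃ j, Valued.v (MvPolynomial.aeval (Q v)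
      (MvPolynomial.map (algebraMap (NumberField.RingOfIntegers k) k) (f j))) = 1)
    (W : (v : IsDedekindDomain.HeightOneSpectrum (NumberField.RingOfIntegers k)) → Set (Fin n → v.adicCompletion k))
    (hW : ∀ v ∈ T, IsOpen (W v) ∧ Q v ∈ W v)
    (hne : ∀ v : IsDedekindDomain.HeightOneSpectrum (NumberField.RingOfIntegers k), v ∉ Sf → ∃ R : Fin n → v.adicCompletion k,
      (∀ i, R i ∈ v.adicCompletionIntegers k) ∧ ∃ j, Valued.v (MvPolynomial.aeval R
        (MvPolynomial.map (algebraMap (NumberField.RingOfIntegers k) k) (f j))) = 1) :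
    ∃ P : Fin n → k,
      (∀ v : IsDedekindDomain.HeightOneSpectrum (NumberField.RingOfIntegers k), v ∉ Sf → (∀ i, v.valuation k (P i) ≤ 1) ∧
        ∃ j, v.valuation k (MvPolynomial.aeval P
          (MvPolynomial.map (algebraMap (NumberField.RingOfIntegers k) k) (f j))) = 1) ∧
      (∀ v ∈ Sf, v ≠ v₀ → (fun i => algebraMap k (v.adicCompletion k) (P i)) ∈ Nf v) ∧
      (∀ w : NumberField.InfinitePlace k, (fun i => algebraMap k w.Completion (P i)) ∈ Ni w) ∧
      (∀ v ∈ T, (fun i => algebraMap k (v.adicCompletion k) (P i)) ∈ W v) := by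
  classical
  simp only [NF31.ev_eq_aeval] at hPf hPi hQ hne ⊢
  let U : (v : IsDedekindDomain.HeightOneSpectrum (𝓞 k)) → Set (Fin n → v.adicCompletion k) := fun v =>
    W v ∩ ({P | ∀ i, Valued.v (P i) ≤ 1} ∩ ⋃ j, {P | Valued.v (NF31.ev (v.adicCompletion k) P (f j)) = 1})
  have hU : ∀ v ∈ T, IsOpen (U v) := fun v hv => (hW v hv).1.inter ((NF31.isOpen_integral_pi v).inter
    (isOpen_iUnion fun j => (NF31.isOpen_eq_one v).preimage (NF31.continuous_ev _ (f j))))
  obtain ⟨P, hPS, hPw, hPg⟩ := NF31.exists_point v₀ n f hcodim (Sf.erase v₀ ∪ T)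
    (by simp [Finset.disjoint_left.1 hT.symm hv₀])
    (fun v => if v ∈ Sf then Nf v else U v)
    (fun v hv => by
      by_cases hvS : v ∈ Sf
      · have hv0 : v ≠ v₀ := by
          rcases Finset.mem_union.1 hv with h | h
          · exact Finset.ne_of_mem_erase h
          · exact absurd hvS (Finset.disjoint_left.1 hT h)
        rw [if_pos hvS]
        exact ⟨(hNf v hvS hv0).1, Pf v, (hNf v hvS hv0).2, hPf v hvS hv0⟩
      · have hvT : v ∈ T := (Finset.mem_union.1 hv).resolve_left fun h => hvS (Finset.mem_of_mem_erase h)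
        rw [if_neg hvS]
        obtain ⟨hint, j, hj⟩ := hQ v hvT
        exact ⟨hU v hvT, Q v, ⟨(hW v hvT).2, hint, Set.mem_iUnion.2 ⟨j, hj⟩⟩, j,
          fun h => by rw [h, map_zero] at hj; exact zero_ne_one hj⟩)
    Ni (fun w => ⟨(hNi w).1, Pi w, (hNi w).2, hPi w⟩)
    (fun v hv hv0 => hne v fun h => hv (Finset.mem_union_left _ (Finset.mem_erase.2 ⟨hv0, h⟩)))
  have hT' : ∀ v ∈ T, (fun i => algebraMap k (v.adicCompletion k) (P i)) ∈ U v := fun v hv => by
    have h := hPS v (Finset.mem_union_right _ hv)
    rwa [if_neg (Finset.disjoint_left.1 hT hv)] at h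
  refine ⟨P, fun v hv => ?_, fun v hv hv0 => ?_, hPw, fun v hv => (hT' v hv).1⟩
  · by_cases hvT : v ∈ T
    · obtain ⟨-, hint, hu⟩ := hT' v hvT
      refine ⟨fun i => by rw [← NF31.valued_algebraMap v]; exact hint i, ?_⟩
      obtain ⟨j, hj⟩ := Set.mem_iUnion.1 hu
      rw [Set.mem_ofPred_eq, NF31.ev_algebraMap, NF31.valued_algebraMap] at hj
      exact ⟨j, hj⟩
    · exact hPg v (fun h => (Finset.mem_union.1 h).elim (fun h => hv (Finset.mem_of_mem_erase h)) hvT)
        fun h => hv (h ▸ hv₀)
  · have h := hPS v (Finset.mem_union_left _ (Finset.mem_erase.2 ⟨hv0, hv⟩))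
    rwa [if_pos hv] at h

end Groth.Agent.S19976
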