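import Groth.Statements.S19977
import Groth.Agent.Tors37.ActStage
import Groth.Agent.Tors37.LimMor
import Groth.Agent.S0591
import Groth.Agent.Approx60.FlatDesc
import Groth.Agent.Lim60.Props
import Groth.Agent.Sga84.TorsorDesc
import Groth.Agent.Unr55.DescProps
import Mathlib.AlgebraicGeometry.Sites.Fpqc

set_option autoImplicit false
universe u
open CategoryTheory CategoryTheory.Limits MonoidalCategory CartesianMonoidalCategory MonObj AlgebraicGeometry
open NonAbH1

namespace Groth.Agent.S19977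

/-- Pseudo-torsors are preserved by equivariant isomorphisms. -/
theorem pseudo_of_equivIso {S : Scheme.{u}} {G X Y : Over S} [GrpObj G] {a : AlgGrp.Action G X}
    {b : AlgGrp.Action G Y} (e : NonAbH1.EquivIso a b) (hb : NonAbH1.IsPseudoTorsorSch b) :
    NonAbH1.IsPseudoTorsorSch a := by
  have : IsIso (lift b.act (snd G Y)) := hb
  have h : lift a.act (snd G X) ≫ (e.iso.hom ⊗ₘ e.iso.hom) = (G ◁ e.iso.hom) ≫ lift b.act (snd G Y) := by
    rw [lift_map, comp_lift, e.comm, whiskerLeft_snd]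
  have : IsIso (lift a.act (snd G X) ≫ (e.iso.hom ⊗ₘ e.iso.hom)) := by rw [h]; infer_instance
  exact IsIso.of_isIso_comp_right (lift a.act (snd G X)) (e.iso.hom ⊗ₘ e.iso.hom)

theorem bc_key {S S' : Scheme.{u}} (f : S' ⟶ S) {G X : Over S} [GrpObj G] (a : AlgGrp.Action G X) :
    lift (a.bc f).act (snd _ _) ≫ Functor.LaxMonoidal.μ (Over.pullback f) X X =
      Functor.LaxMonoidal.μ (Over.pullback f) G X ≫ (Over.pullback f).map (lift a.act (snd G X)) := by
  rw [← Functor.Monoidal.lift_μ, comp_lift_assoc, Functor.Monoidal.μ_snd, AlgGrp.Action.bc_act]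


/-- The general form: a finite torsor over a limit comes from a stage. -/
theorem exists_torsor_stage {k : Type u} [Field k] {I : Type u} [SmallCategory I] [IsCofiltered I]
    (D : I ⥤ Scheme.{u}) (c : Cone D) (hc : IsLimit c)
    [∀ (i j : I) (f : i ⟶ j), IsAffineHom (D.map f)] [∀ i, CompactSpace (D.obj i)]
    [∀ i, QuasiSeparatedSpace (D.obj i)]
    (q : ∀ i, D.obj i ⟶ Spec (CommRingCat.of k)) (hq : ∀ {i j : I} (φ : j ⟶ i), D.map φ ≫ q i = q j)
    (d : c.pt ⟶ Spec (CommRingCat.of k)) (hd : ∀ i, c.π.app i ≫ q i = d)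
    (G : Over (Spec (CommRingCat.of k))) [GrpObj G] [IsFinite G.hom]
    (V : Over c.pt) [IsFinite V.hom] (a : AlgGrp.Action (Red.bc d G) V)
    (hV : NonAbH1.IsTorsorFor Scheme.fpqcPrecoverage a) :
    ∃ (i : I) (h : c.π.app i ≫ q i = d) (Vi : Over (D.obj i)) (ai : AlgGrp.Action (Red.bc (q i) G) Vi),
      IsFinite Vi.hom ∧ NonAbH1.IsTorsorFor Scheme.fpqcPrecoverage ai ∧
      Nonempty (NonAbH1.EquivIso (ai.bc (c.π.app i))
        (a.restrict (ActBC.bcCompIso (c.π.app i) (q i) G h).hom)) := by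
  have : LocallyOfFinitePresentation G.hom := inferInstance
  have : Flat G.hom := inferInstance
  have := Sga84.flat_descendsAlong.{u}
  have : MorphismProperty.DescendsAlong @LocallyOfFinitePresentation Unr55.fpqc.{u} := by infer_instance
  have hVflat : Flat V.hom := Sga84.hom_of_isTorsorFor @Flat
    (MorphismProperty.pullback_snd (P := @Flat) _ _ ‹_›) hV
  have hVfp : LocallyOfFinitePresentation V.hom := Sga84.hom_of_isTorsorFor @LocallyOfFinitePresentation
    (MorphismProperty.pullback_snd (P := @LocallyOfFinitePresentation) _ _ ‹_›) hV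
  have hVsurj : Surjective V.hom := Sga84.surjective_of_isLocallyTrivialFor hV.2
  let vh : V.left ⟶ c.pt := V.hom
  have : LocallyOfFinitePresentation vh := hVfp
  have : IsFinite vh := ‹IsFinite V.hom›
  obtain ⟨i₀, X₀, f₀, g₀, hf₀, hq₀, hs₀, hsq⟩ := Groth.Agent.S0591.result D c hc V.left vh
  let c₀ : Red.bc (c.π.app i₀) (Over.mk f₀) ≅ V := Over.isoMk hsq.isoPullback.symm (by
    show hsq.isoPullback.inv ≫ vh = pullback.snd f₀ (c.π.app i₀)
    rw [Iso.inv_comp_eq, IsPullback.isoPullback_hom_snd])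
  -- finite
  obtain ⟨i₁, φ₁, h₁⟩ := Lim60.descProp_isFinite.desc D c hc i₀ f₀ inferInstance (by
    rw [← LimDesc62.prop_iff_of_isPullback (P := @IsFinite) hsq]; infer_instance)
  let W₁ := Red.bc (D.map φ₁) (Over.mk f₀)
  let c₁ : Red.bc (c.π.app i₁) W₁ ≅ V := ActBC.bcCompIso _ _ _ (c.w φ₁) ≪≫ c₀
  have : IsFinite W₁.hom := h₁
  have : LocallyOfFinitePresentation W₁.hom :=
    MorphismProperty.pullback_snd (P := @LocallyOfFinitePresentation) _ _ hf₀
  -- flat
  obtain ⟨i₂, φ₂, h₂⟩ := Approx60.descProp_flat.desc D c hc i₁ W₁.hom ‹_› (by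
    show Flat (Red.bc (c.π.app i₁) W₁).hom
    rw [← Over.w c₁.hom]
    exact (MorphismProperty.cancel_left_of_respectsIso @Flat _ _).mpr hVflat)
  let W₂ := Red.bc (D.map φ₂) W₁
  let c₂ : Red.bc (c.π.app i₂) W₂ ≅ V := ActBC.bcCompIso _ _ _ (c.w φ₂) ≪≫ c₁
  have : Flat W₂.hom := h₂
  have : IsFinite W₂.hom := MorphismProperty.pullback_snd (P := @IsFinite) _ _ ‹_›
  have : LocallyOfFinitePresentation W₂.hom :=
    MorphismProperty.pullback_snd (P := @LocallyOfFinitePresentation) _ _ ‹_›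
  -- surjective
  obtain ⟨i₃, φ₃, h₃⟩ := LimDesc62.descProp_surjective.desc D c hc i₂ W₂.hom ‹_› (by
    show Surjective (Red.bc (c.π.app i₂) W₂).hom
    rw [← Over.w c₂.hom]
    exact (MorphismProperty.cancel_left_of_respectsIso @Surjective _ _).mpr hVsurj)
  let W₃ := Red.bc (D.map φ₃) W₂
  let c₃ : Red.bc (c.π.app i₃) W₃ ≅ V := ActBC.bcCompIso _ _ _ (c.w φ₃) ≪≫ c₂
  have : Surjective W₃.hom := h₃
  have : IsFinite W₃.hom := MorphismProperty.pullback_snd (P := @IsFinite) _ _ ‹_›
  have : Flat W₃.hom := MorphismProperty.pullback_snd (P := @Flat) _ _ ‹_›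
  have : LocallyOfFinitePresentation W₃.hom :=
    MorphismProperty.pullback_snd (P := @LocallyOfFinitePresentation) _ _ ‹_›
  have hGi : ∀ i, IsFinite (Red.bc (q i) G).hom := fun i =>
    MorphismProperty.pullback_snd (P := @IsFinite) _ _ ‹_›
  have hGp : ∀ i, LocallyOfFinitePresentation (Red.bc (q i) G).hom := fun i =>
    MorphismProperty.pullback_snd (P := @LocallyOfFinitePresentation) _ _ ‹_›
  have fin : ∀ {i : I} (A B : Over (D.obj i)), IsFinite A.hom → IsFinite B.hom → IsFinite (A ⊗ B).hom :=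
    fun {i} A B hA hB => by
      have := MorphismProperty.pullback_fst (P := @IsFinite) A.hom B.hom hB
      show IsFinite (pullback.fst A.hom B.hom ≫ A.hom)
      infer_instance
  have cpt : ∀ {i : I} (A : Over (D.obj i)), IsFinite A.hom →
      CompactSpace A.left ∧ QuasiSeparatedSpace A.left := fun A hA =>
    ⟨QuasiCompact.compactSpace_of_compactSpace A.hom, quasiSeparatedSpace_of_quasiSeparated A.hom⟩
  have h33 := fin (Red.bc (q i₃) G) W₃ (hGi i₃) ‹_›
  have := (cpt _ h33).1
  have := (cpt _ h33).2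
  obtain ⟨i₄, φ₄, m, hm⟩ := Tors37.exists_stageAct D c hc q hq d hd G a c₃
  let W₄ := Red.bc (D.map φ₄) W₃
  let c₄ : Red.bc (c.π.app i₄) W₄ ≅ V := ActBC.bcCompIso _ _ _ (c.w φ₄) ≪≫ c₃
  have : IsFinite W₄.hom := MorphismProperty.pullback_snd (P := @IsFinite) _ _ ‹_›
  have : Flat W₄.hom := MorphismProperty.pullback_snd (P := @Flat) _ _ ‹_›
  have : Surjective W₄.hom := MorphismProperty.pullback_snd (P := @Surjective) _ _ ‹_›
  have : LocallyOfFinitePresentation W₄.hom :=
    MorphismProperty.pullback_snd (P := @LocallyOfFinitePresentation) _ _ ‹_›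
  have h1 : IsFinite (𝟙_ (Over (D.obj i₄))).hom := inferInstanceAs (IsFinite (𝟙 _))
  have := (cpt _ (fin _ W₄ h1 ‹_›)).1
  have := (cpt _ (fin _ W₄ (fin _ _ (hGi i₄) (hGi i₄)) ‹_›)).1
  obtain ⟨i₅, φ₅, b, hb⟩ := Tors37.exists_action_stage D c hc q hq d hd G a c₄ m hm
  let W₅ := Red.bc (D.map φ₅) W₄
  let c₅ : Red.bc (c.π.app i₅) W₅ ≅ V := ActBC.bcCompIso _ _ _ (c.w φ₅) ≪≫ c₄
  have : IsFinite W₅.hom := MorphismProperty.pullback_snd (P := @IsFinite) _ _ ‹_›
  have : Flat W₅.hom := MorphismProperty.pullback_snd (P := @Flat) _ _ ‹_›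
  have : Surjective W₅.hom := MorphismProperty.pullback_snd (P := @Surjective) _ _ ‹_›
  have : LocallyOfFinitePresentation W₅.hom :=
    MorphismProperty.pullback_snd (P := @LocallyOfFinitePresentation) _ _ ‹_›
  obtain ⟨e⟩ := Tors37.exists_stageIso D c q d hd G a c₅ b hb
  have hps : IsIso ((Over.pullback (c.π.app i₅)).map (lift b.act (snd (Red.bc (q i₅) G) W₅))) := by
    have hp : IsIso (lift (b.bc (c.π.app i₅)).act (snd _ _)) :=
      pseudo_of_equivIso e (Tors37.isTorsorFor_restrict _ hV).1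
    have : IsIso (Functor.LaxMonoidal.μ (Over.pullback (c.π.app i₅)) (Red.bc (q i₅) G) W₅ ≫
        (Over.pullback (c.π.app i₅)).map (lift b.act (snd (Red.bc (q i₅) G) W₅))) := by
      rw [← bc_key]; infer_instance
    exact IsIso.of_isIso_comp_left (Functor.LaxMonoidal.μ (Over.pullback (c.π.app i₅)) (Red.bc (q i₅) G) W₅) _
  let u := lift b.act (snd (Red.bc (q i₅) G) W₅)
  have hA := fin (Red.bc (q i₅) G) W₅ (hGi i₅) ‹_›
  have hB := fin W₅ W₅ ‹_› ‹_›
  have := (cpt _ hB).1
  have := (cpt _ hB).2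
  have hAp : LocallyOfFinitePresentation (Red.bc (q i₅) G ⊗ W₅).hom := by
    have := hGp i₅
    have := MorphismProperty.pullback_fst (P := @LocallyOfFinitePresentation) (Red.bc (q i₅) G).hom W₅.hom ‹_›
    show LocallyOfFinitePresentation (pullback.fst (Red.bc (q i₅) G).hom W₅.hom ≫ (Red.bc (q i₅) G).hom)
    infer_instance
  have : IsFinite (u.left ≫ (W₅ ⊗ W₅).hom) := by rw [Over.w]; exact hA
  have : LocallyOfFinitePresentation (u.left ≫ (W₅ ⊗ W₅).hom) := by rw [Over.w]; exact hAp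
  have : QuasiCompact u.left := QuasiCompact.of_comp u.left (W₅ ⊗ W₅).hom
  have : QuasiSeparated u.left := QuasiSeparated.of_comp u.left (W₅ ⊗ W₅).hom
  have : LocallyOfFinitePresentation u.left := LimTop61.locallyOfFinitePresentation_of_comp u.left (W₅ ⊗ W₅).hom
  obtain ⟨i₆, φ₆, h₆⟩ := Tors37.exists_isIso_map D c hc u hps
  let W₆ := Red.bc (D.map φ₆) W₅
  let b₆ : AlgGrp.Action (Red.bc (q i₆) G) W₆ :=
    (b.bc (D.map φ₆)).restrict (ActBC.bcCompIso (D.map φ₆) (q i₅) G (hq φ₆)).inv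
  have hb₆ : Tors37.IsStageAct D c q d hd G a
      (ActBC.bcCompIso (c.π.app i₆) (D.map φ₆) W₅ (c.w φ₆) ≪≫ c₅) b₆.act :=
    Tors37.isStageAct_step D c q hq d hd G a φ₆ c₅ ((Over.pullback (c.π.app i₅)).map b.act) hb
      ((Over.pullback (D.map φ₆)).map b.act) (ActBC.bcCompIso_hom_naturality _ _ _ _)
  obtain ⟨e₆⟩ := Tors37.exists_stageIso D c q d hd G a _ b₆ hb₆
  have hps₆ : NonAbH1.IsPseudoTorsorSch (b.bc (D.map φ₆)) := by
    have : IsIso (lift (b.bc (D.map φ₆)).act (snd _ _) ≫
        Functor.LaxMonoidal.μ (Over.pullback (D.map φ₆)) W₅ W₅) := by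
      rw [bc_key]; infer_instance
    exact IsIso.of_isIso_comp_right (lift (b.bc (D.map φ₆)).act (snd _ _))
      (Functor.LaxMonoidal.μ (Over.pullback (D.map φ₆)) W₅ W₅)
  have : IsFinite W₆.hom := MorphismProperty.pullback_snd (P := @IsFinite) _ _ ‹_›
  have : Flat W₆.hom := MorphismProperty.pullback_snd (P := @Flat) _ _ ‹_›
  have : Surjective W₆.hom := MorphismProperty.pullback_snd (P := @Surjective) _ _ ‹_›
  have ht : NonAbH1.IsTorsorFor Scheme.fpqcPrecoverage (b.bc (D.map φ₆)) := by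
    refine ⟨hps₆, Presieve.singleton W₆.hom, W₆.hom.singleton_mem_fpqcPrecoverage, ?_⟩
    rintro S' f ⟨⟩
    exact ⟨𝟙 _, Category.id_comp _⟩
  exact ⟨i₆, hd i₆, W₆, b₆, ‹_›, Tors37.isTorsorFor_restrict _ ht, ⟨e₆⟩⟩

/-- Let k be a field and X a quasi-compact and quasi-separated k-scheme. Let (T_i)_{i ∈ I} be a
cofiltered inverse system of X-schemes that are affine over X, with limit T over X (in the source
the T_i are torsors over X under affine k-group schemes of finite type, forming a projective system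
of torsors; only their being affine over the quasi-compact quasi-separated X enters). Let G be a
finite k-group scheme and V → T a finite T-scheme with an action of G ×_k T for which it is a
G-torsor over T for the fpqc topology. Then there exist an index i, a finite T_i-scheme V_i with an
action of G ×_k T_i making it an fpqc G-torsor over T_i, and a G-equivariant isomorphism of
T-schemes between V_i ×_{T_i} T and V; the two base changes of G to T are compared through the
canonical isomorphism (G ×_k T_i) ×_{T_i} T ≅ G ×_k T. (The further assertions — V_i Nori-reduced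
when V is, descent of morphisms of torsors, pointed versions — are not stated.) -/
theorem result (k : Type u) [Field k]
    (X : Scheme.{u}) [X.Over (Spec (CommRingCat.of k))] [CompactSpace X] [QuasiSeparatedSpace X]
    {I : Type u} [SmallCategory I] [IsCofiltered I]
    (DT : I ⥤ Over X) [∀ i, IsAffineHom (DT.obj i).hom]
    (cT : Cone DT) (hcT : IsLimit cT)
    (G : Over (Spec (CommRingCat.of k))) [GrpObj G] [IsFinite G.hom]
    (V : Over cT.pt.left) [IsFinite V.hom]
    (a : AlgGrp.Action (Red.bc (cT.pt.hom ≫ (X ↘ Spec (CommRingCat.of k))) G) V)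
    (hV : NonAbH1.IsTorsorFor Scheme.fpqcPrecoverage a) :
    ∃ (i : I) (h : (cT.π.app i).left ≫ ((DT.obj i).hom ≫ (X ↘ Spec (CommRingCat.of k))) = cT.pt.hom ≫ (X ↘ Spec (CommRingCat.of k)))
      (Vi : Over (DT.obj i).left) (ai : AlgGrp.Action (Red.bc ((DT.obj i).hom ≫ (X ↘ Spec (CommRingCat.of k))) G) Vi),
      IsFinite Vi.hom ∧ NonAbH1.IsTorsorFor Scheme.fpqcPrecoverage ai ∧
      Nonempty (NonAbH1.EquivIso (ai.bc (cT.π.app i).left)
        (a.restrict (ActBC.bcCompIso (cT.π.app i).left ((DT.obj i).hom ≫ (X ↘ Spec (CommRingCat.of k))) G h).hom)) := by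
  classical
  let s : X ⟶ Spec (CommRingCat.of k) := X ↘ Spec (CommRingCat.of k)
  let D : I ⥤ Scheme.{u} := DT ⋙ Over.forget X
  let c : Cone D := (Over.forget X).mapCone cT
  have : IsConnected I := IsCofiltered.isConnected I
  have hc : IsLimit c := isLimitOfPreserves (Over.forget X) hcT
  have : ∀ (i j : I) (f : i ⟶ j), IsAffineHom (D.map f) := fun i j f => Tors37.isAffineHom_map DT f
  have hqc : ∀ i, QuasiCompact (DT.obj i).hom := fun i => inferInstanceAs (QuasiCompact (DT.obj i).hom)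
  have hqs : ∀ i, QuasiSeparated (DT.obj i).hom := fun i => by
    have : IsSeparated (DT.obj i).hom := inferInstanceAs (IsSeparated (DT.obj i).hom)
    infer_instance
  have : ∀ i, CompactSpace (D.obj i) := fun i => @QuasiCompact.compactSpace_of_compactSpace _ _ (DT.obj i).hom (hqc i) _
  have : ∀ i, QuasiSeparatedSpace (D.obj i) := fun i => @quasiSeparatedSpace_of_quasiSeparated _ _ (DT.obj i).hom _ (hqs i)
  let q : ∀ i, D.obj i ⟶ Spec (CommRingCat.of k) := fun i => (DT.obj i).hom ≫ s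
  have hq : ∀ {i j : I} (φ : j ⟶ i), D.map φ ≫ q i = q j := fun {i j} φ => by
    show (DT.map φ).left ≫ (DT.obj i).hom ≫ s = (DT.obj j).hom ≫ s
    rw [← Category.assoc, Over.w]
  let d : c.pt ⟶ Spec (CommRingCat.of k) := cT.pt.hom ≫ s
  have hd : ∀ i, c.π.app i ≫ q i = d := fun i => by
    show (cT.π.app i).left ≫ (DT.obj i).hom ≫ s = cT.pt.hom ≫ s
    rw [← Category.assoc, Over.w]
    rfl
  exact @exists_torsor_stage k _ I _ _ D c hc _ _ _ q hq d hd G _ _ V ‹IsFinite V.hom› a hV

end Groth.Agent.S19977
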