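import Groth.Statements.S1998
import Mathlib.RingTheory.Henselian
import Mathlib.Algebra.Colimit.Ring
import Mathlib.Algebra.Polynomial.Lifts

set_option autoImplicit false
universe u
open EtAlg

namespace Groth.Agent.S1998

/-- Let (A_j, I_j) be a directed system of henselian pairs (ring maps A_j -> A_k for j ≤ k carrying I_j
into I_k). Then the direct limit A of the A_j together with the ideal generated by the images of the
I_j is a henselian pair. -/
theorem result {ι : Type u} [Preorder ι] [IsDirected ι (· ≤ ·)] [Nonempty ι]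
    (G : ι → Type u) [∀ i, CommRing (G i)] (f : ∀ i j, i ≤ j → G i →+* G j)
    [DirectedSystem G fun i j h => f i j h] (I : ∀ i, Ideal (G i))
    (hI : ∀ i j (h : i ≤ j), (I i).map (f i j h) ≤ I j) (hh : ∀ i, HenselianRing (G i) (I i)) :
    HenselianRing (Ring.DirectLimit G fun i j h => f i j h)
      (⨆ i, (I i).map (Ring.DirectLimit.of G (fun i j h => f i j h) i)) := by
  classical
  let L := Ring.DirectLimit G fun i j h => f i j h
  let of : ∀ i, G i →+* L := fun i => Ring.DirectLimit.of G (fun i j h => f i j h) i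
  let J0 : Ideal L := ⨆ i, (I i).map (of i)
  have hof : ∀ i j (h : i ≤ j) (x : G i), of j (f i j h x) = of i x := fun i j h x =>
    Ring.DirectLimit.of_f (G := G) (f := fun i j h => f i j h) h x
  have hImap : ∀ i j (h : i ≤ j), ∀ x ∈ I i, f i j h x ∈ I j := fun i j h x hx =>
    hI i j h (Ideal.mem_map_of_mem _ hx)
  let J : Ideal L :=
    { carrier := {x | ∃ i, ∃ y ∈ I i, of i y = x}
      add_mem' := by
        rintro _ _ ⟨i, y, hy, rfl⟩ ⟨j, z, hz, rfl⟩
        obtain ⟨k, hik, hjk⟩ := exists_ge_ge i j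
        exact ⟨k, f i k hik y + f j k hjk z, add_mem (hImap i k hik y hy) (hImap j k hjk z hz),
          by rw [map_add, hof, hof]⟩
      zero_mem' := ⟨Classical.arbitrary ι, 0, zero_mem _, map_zero _⟩
      smul_mem' := by
        rintro c _ ⟨i, y, hy, rfl⟩
        obtain ⟨j, z, rfl⟩ := Ring.DirectLimit.exists_of c
        obtain ⟨k, hik, hjk⟩ := exists_ge_ge i j
        exact ⟨k, f j k hjk z * f i k hik y, Ideal.mul_mem_left _ _ (hImap i k hik y hy),
          by rw [map_mul, hof, hof]; rfl⟩ }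
  have hJ : ∀ x ∈ J0, ∃ i, ∃ y ∈ I i, of i y = x := fun x hx =>
    (iSup_le fun i => Ideal.map_le_iff_le_comap.2 fun y hy => ⟨i, y, hy, rfl⟩ : J0 ≤ J) hx
  have hJ' : ∀ i, ∀ y ∈ I i, of i y ∈ J0 := fun i y hy =>
    (le_iSup (fun i => (I i).map (of i)) i) (Ideal.mem_map_of_mem _ hy)
  -- membership can be detected at a later stage
  have hdet : ∀ i (z : G i), of i z ∈ J0 → ∃ m, ∃ h : i ≤ m, f i m h z ∈ I m := fun i z hz => by
    obtain ⟨l, y, hy, he⟩ := hJ _ hz
    obtain ⟨k, hik, hlk⟩ := exists_ge_ge i l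
    have h0 : of k (f i k hik z - f l k hlk y) = 0 := by rw [map_sub, hof, hof, he, sub_self]
    obtain ⟨m, hkm, hm⟩ := Ring.DirectLimit.of.zero_exact (f' := f) h0
    refine ⟨m, hik.trans hkm, ?_⟩
    rw [map_sub, sub_eq_zero] at hm
    rw [← DirectedSystem.map_map (f := fun i j h => f i j h) hik hkm z, hm]
    exact hImap _ _ _ _ (hImap _ _ _ _ hy)
  refine ⟨fun x hx => Ideal.mem_jacobson_bot.2 fun z => ?_, fun F hF a₀ h1 h2 => ?_⟩
  · obtain ⟨i, y, hy, rfl⟩ := hJ x hx
    obtain ⟨j, w, rfl⟩ := Ring.DirectLimit.exists_of z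
    obtain ⟨k, hik, hjk⟩ := exists_ge_ge i j
    have := (Ideal.mem_jacobson_bot.1 ((hh k).jac (hImap i k hik y hy)) (f j k hjk w)).map (of k)
    rwa [map_add, map_mul, map_one, hof, hof] at this
  · obtain ⟨i, p₀, hp₀⟩ := Ring.DirectLimit.Polynomial.exists_of (G := G) (f' := f) F
    obtain ⟨p, hp, -, hpm⟩ := Polynomial.lifts_and_natDegree_eq_and_monic
      (⟨p₀, hp₀⟩ : F ∈ Polynomial.lifts (of i)) hF
    obtain ⟨j, a, ha⟩ := Ring.DirectLimit.exists_of a₀
    obtain ⟨b', hb'⟩ := isUnit_iff_exists_inv.1 h2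
    obtain ⟨b', rfl⟩ := Ideal.Quotient.mk_surjective b'
    rw [← map_mul, ← map_one (Ideal.Quotient.mk _), Ideal.Quotient.mk_eq_mk_iff_sub_mem] at hb'
    obtain ⟨l, b, rfl⟩ := Ring.DirectLimit.exists_of b'
    obtain ⟨k₁, hik₁, hjk₁⟩ := exists_ge_ge i j
    obtain ⟨k, hk₁, hlk⟩ := exists_ge_ge k₁ l
    obtain ⟨q, hq, hqm⟩ : ∃ q : Polynomial (G k), q.map (of k) = F ∧ q.Monic := by
      refine ⟨p.map (f i k (hik₁.trans hk₁)), ?_, hpm.map _⟩
      rw [← hp, Polynomial.map_map]
      exact congrArg (fun g => p.map g) (RingHom.ext fun x => hof _ _ _ x)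
    let c := f j k (hjk₁.trans hk₁) a
    have hc : of k c = a₀ := by rw [hof]; exact ha
    have e1 : of k (q.eval c) = F.eval a₀ := by rw [← hq, ← hc, Polynomial.eval_map_apply]
    have e2 : of k (q.derivative.eval c * f l k hlk b - 1) = F.derivative.eval a₀ * of l b - 1 := by
      rw [map_sub, map_mul, map_one, hof, ← hq, ← hc, Polynomial.derivative_map, Polynomial.eval_map_apply]
    obtain ⟨m₁, hm₁, r1⟩ := hdet k (q.eval c) (by rw [e1]; exact h1)
    obtain ⟨m₂, hm₂, r2⟩ := hdet k (q.derivative.eval c * f l k hlk b - 1) (by rw [e2]; exact hb')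
    obtain ⟨m, hm1, hm2⟩ := exists_ge_ge m₁ m₂
    have r1' := hImap _ _ hm1 _ r1
    have r2' := hImap _ _ hm2 _ r2
    rw [DirectedSystem.map_map (f := fun i j h => f i j h) hm₁ hm1] at r1'
    rw [DirectedSystem.map_map (f := fun i j h => f i j h) hm₂ hm2] at r2'
    let g := f k m (hm₁.trans hm1)
    obtain ⟨root, hroot, hrsub⟩ := (hh m).is_henselian (q.map g) (hqm.map _) (g c)
      (by rw [Polynomial.eval_map_apply]; exact r1')
      (by
        refine isUnit_iff_exists_inv.2 ⟨Ideal.Quotient.mk _ (g (f l k hlk b)), ?_⟩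
        rw [← map_mul, ← map_one (Ideal.Quotient.mk _), Ideal.Quotient.mk_eq_mk_iff_sub_mem,
          Polynomial.derivative_map, Polynomial.eval_map_apply, ← map_mul, ← map_one g, ← map_sub]
        exact r2')
    have hg : ∀ y, of m (g y) = of k y := fun y => hof _ _ _ y
    refine ⟨of m root, ?_, ?_⟩
    · rw [Polynomial.IsRoot, ← hq, ← RingHom.ext hg (f := (of m).comp g), ← Polynomial.map_map,
        Polynomial.eval_map_apply, hroot, map_zero]
    · rw [← hc, ← hg c, ← map_sub]
      exact hJ' m _ hrsub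

end Groth.Agent.S1998
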