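import Groth.Statements.S19980
import Groth.Agent.ConstFlat57.Coarse
import Groth.Agent.ConstFlat57.FlatBC
import Groth.Agent.S16960
import Groth.Agent.FinGrp34.FixedFT

set_option autoImplicit false
set_option linter.style.haveILetI false
set_option backward.isDefEq.respectTransparency false
set_option backward.isDefEq.respectTransparency.types false
universe u
open ConstAct

namespace Groth.Agent.S19980

open CategoryTheory AlgebraicGeometry in
/-- Let R be a Noetherian commutative ring, A a commutative R-algebra of finite type, and G a finite
group acting on A by R-algebra automorphisms, with ring of invariants A^G. Let [Spec A/G] be the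
quotient stack of Spec A by the constant group scheme of G over Spec R, the category over (Sch/Spec
R) whose objects are torsors under the constant group scheme, locally trivial for the fppf topology,
with an equivariant morphism to Spec A; and let π : [Spec A/G] → Spec A^G be a functor over
(Sch/Spec R) whose composite with the canonical functor Spec A → [Spec A/G] is the functor of the
morphism Spec A → Spec A^G induced by the inclusion A^G ⊆ A. Then for every affine scheme Y' over
Spec R and every morphism g : Y' → Spec A^G over Spec R which is flat, the first projection of the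
2-fibre product Y' ×_{Spec A^G} [Spec A/G] → Y' (formed over (Sch/Spec R) from the functor of g and
π) is a coarse moduli space: every functor over (Sch/Spec R) from the 2-fibre product to the
category of an algebraic space over Spec R factors through the projection by exactly one morphism of
algebraic spaces up to 2-isomorphism, and for every algebraically closed field Ω over R the
projection induces a bijection from isomorphism classes of objects lying over Spec Ω onto the
Ω-points of Y'. (The published statement allows any flat morphism from an algebraic space to Spec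
A^G and puts no finiteness condition on A; the case stated is the affine one, and the published
proof uses that A is finite over A^G, which holds when A is of finite type over a Noetherian ring.) -/
theorem result (R : Type u) [CommRing R] [IsNoetherianRing R]
    (A : Type u) [CommRing A] [Algebra R A] [Algebra.FiniteType R A]
    (G : Type u) [Group G] [Fintype G] [DecidableEq G] [MulSemiringAction G A] [SMulCommClass G R A]
    (π : ConstAct.quotSt R A G Scheme.fppfPrecoverage ⥤ᵇ AlgSt.ofSch (ConstAct.specInv R A G))
    (hπ : BasedFunctor.comp
        (AlgSt.quotMap Scheme.fppfPrecoverage (ConstAct.GR R G) (ConstAct.gaction R A G)) π =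
      AlgSt.ofSpMap ((AlgSp.yon (Spec (CommRingCat.of R))).map (ConstAct.quot R A G)))
    (Y' : Over (Spec (CommRingCat.of R))) [IsAffine Y'.left]
    (g : Y' ⟶ ConstAct.specInv R A G) [Flat g.left] :
    AlgSt.IsCoarseModuli
      (FibCat.fpFst (AlgSt.ofSpMap ((AlgSp.yon (Spec (CommRingCat.of R))).map g)) π) := by
  obtain ⟨_, _, _⟩ := ConstQuot97.GR_props (R := R) (G := G)
  haveI : Module.Finite (ConstAct.inv R A G) A := FinGrp34.fixed_module_finite R A G
  let P : Over (Spec (CommRingCat.of R)) := Over.mk (Limits.pullback.fst g.left (ConstAct.quot R A G).left ≫ Y'.hom)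
  let p₁ : P ⟶ Y' := Over.homMk (Limits.pullback.fst g.left (ConstAct.quot R A G).left) rfl
  let p₂ : P ⟶ ConstAct.specA R A := Over.homMk (Limits.pullback.snd g.left (ConstAct.quot R A G).left) (by
    show _ = Limits.pullback.fst g.left (ConstAct.quot R A G).left ≫ Y'.hom
    rw [← Over.w (ConstAct.quot R A G), ← Over.w g, ← Category.assoc, ← Category.assoc, Limits.pullback.condition])
  have hP : IsPullback p₁.left p₂.left g.left (ConstAct.quot R A G).left := IsPullback.of_hasPullback _ _
  have hcond : p₁ ≫ g = p₂ ≫ ConstAct.quot R A G := Over.OverMorphism.ext hP.w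
  have hex : ∀ γ : G, ∃ s : P ⟶ P, s ≫ p₁ = p₁ ∧ s ≫ p₂ = p₂ ≫ ConstAct.act R A G γ := fun γ => by
    have h0 : p₁.left ≫ g.left = (p₂.left ≫ (ConstAct.act R A G γ).left) ≫ (ConstAct.quot R A G).left := by
      rw [Category.assoc, show (ConstAct.act R A G γ).left ≫ (ConstAct.quot R A G).left = (ConstAct.quot R A G).left from
        congrArg CommaMorphism.left (ConstAct.act_quot R A G γ)]
      exact hP.w
    exact ⟨Over.homMk (hP.lift _ _ h0) (by rw [← Over.w p₁, ← Category.assoc, hP.lift_fst, Over.w]),
      Over.OverMorphism.ext (hP.lift_fst _ _ _), Over.OverMorphism.ext (hP.lift_snd _ _ _)⟩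
  choose σ hσ₁ hσ₂ using hex
  refine ConstFlat57.isCoarseModuli_fpFst (ConstAct.quot R A G) g p₁ p₂ π hP (S16960.result R A G π hπ).1.2
    (fun Ω _ _ t => (ConstQuot97.geomOrbits Ω t).1) (fun N ψ hinv => ?_) hπ
  refine ConstFlat57.existsUnique_desc_pullback g N.property P p₁ p₂ hP σ hσ₁ hσ₂ ψ fun γ => ?_
  have h1 := hinv P (σ γ) (𝟙 P) (p₂ ≫ CoactBr.pt (R := R) (ConstAct.constPt R G (K := A) γ⁻¹))
    (by rw [hσ₁, Category.id_comp]) (by
      have h2 := ConstAct.gaction_constPt (K := A) (R := R) (A := A) (G := G) γ⁻¹ (AlgHom.id R A)
      rw [CoactBr.pt_id, Category.id_comp, inv_inv] at h2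
      rw [Category.id_comp, hσ₂, ← h2, ← Category.assoc]
      congr 1
      refine (CartesianMonoidalCategory.hom_ext _ _ ?_ ?_).symm
      · rw [Category.assoc]
        erw [CartesianMonoidalCategory.lift_fst, CartesianMonoidalCategory.lift_fst]
      · rw [Category.assoc]
        erw [CartesianMonoidalCategory.lift_snd, CartesianMonoidalCategory.lift_snd]
        exact Category.comp_id _)
  refine AlgSt88.sp_hom_ext fun T x => ?_
  obtain ⟨x⟩ := x
  show AlgSt88.atPt N.obj ψ (x ≫ σ γ) = AlgSt88.atPt N.obj ψ x
  rw [← AlgSt88.map_atPt N.obj ψ x (σ γ), h1, AlgSt88.map_atPt, Category.comp_id]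

end Groth.Agent.S19980
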