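import Groth.Statements.S19981
import Groth.Agent.DerComp18.LpullSite
import Groth.Agent.DerComp18.Exists
-- import your own Groth.Agent.* helpers here

set_option autoImplicit false
universe u
open CategoryTheory CategoryTheory.Limits Opposite
attribute [local instance] HasDerivedCategory.standard
open DerComp

namespace Groth.Agent.S19981

/-- Let f be a morphism of ringed sites from (C, O_C) to (D, O_D), let I ⊆ O_D and I' ⊆ O_C be sheaves
of ideals of finite type such that the ring map of f sends I into I', and suppose (the first
assertion, taken here as a hypothesis) that Rf_* carries objects of D(O_C) derived complete with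
respect to I' to objects of D(O_D) derived complete with respect to I. Then the functor D_comp(O_C,
I') → D_comp(O_D, I) induced by Rf_* between the full subcategories of derived complete objects is a
right adjoint, i.e. it has a left adjoint. (The published statement is for a morphism of ringed
topoi and also identifies the left adjoint with Lf^* followed by derived completion; this row takes
a morphism of ringed sites and asserts only the existence of the left adjoint.) -/
theorem result {C D : Type u} [SmallCategory C] [SmallCategory D]
    {J : GrothendieckTopology C} {K : GrothendieckTopology D}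
    {O_C : Sheaf J CommRingCat.{u}} {O_D : Sheaf K CommRingCat.{u}}
    (f : ModSite.RMor O_C O_D) [SiteCmp.HasRpushD f]
    (I : DerComp.IdealSh O_D) (hI : I.IsFiniteType) (I' : DerComp.IdealSh O_C) (hI' : I'.IsFiniteType)
    (hf : DerComp.RMapsIdealInto f I I')
    (h : ∀ M : DerivedCategory (ModSite.Mod O_C), DerComp.IsDerComp O_C I' M →
      DerComp.IsDerComp O_D I ((SiteCmp.RpushD f).obj M)) :
    ((DerComp.IsDerComp O_D I).lift ((DerComp.IsDerComp O_C I').ι ⋙ SiteCmp.RpushD f)
      (fun M => h M.obj M.property)).IsRightAdjoint := by
  have := Groth.Agent.DerComp18.isRightAdjoint_rpushD f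
  let adj := Adjunction.ofIsRightAdjoint (SiteCmp.RpushD f)
  have hc : DerComp.HasDerCompletion O_C I' := Groth.Agent.DerComp18.hasDerCompletion O_C I'
  let adj' := adj.comp (DerComp.derCompletionAdj O_C I')
  exact ⟨(DerComp.IsDerComp O_D I).ι ⋙ (SiteCmp.RpushD f).leftAdjoint ⋙ DerComp.derCompletion O_C I',
    ⟨Adjunction.restrictFullyFaithful adj' (ObjectProperty.fullyFaithfulι _) (Functor.FullyFaithful.id _)
      (Iso.refl _) (Iso.refl _)⟩⟩

end Groth.Agent.S19981
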