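import Groth.Statements.S19985
import Groth.Agent.EGAProj74.ConeFibreRel

set_option autoImplicit false
universe u
open CategoryTheory CategoryTheory.Limits AlgebraicGeometry Opposite TopologicalSpace
open scoped HomogeneousIdeal
noncomputable section
open EGA2

namespace Groth.Agent.S19985

open Groth.Agent.EGAProj74 Groth.Agent.EGA73

/-- Let 𝒮 be a quasi-coherent positively graded O_Y-algebra with 𝒮_0 = O_Y which is generated by 𝒮_1
(over every affine open U the ring 𝒮(U) is generated by its degree-0 and degree-1 parts), Ŝ = 𝒮[z]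
(graded homomorphism ι : 𝒮 → Ŝ and a degree-one global section z, polynomial over affine opens), C =
Spec(𝒮), X = Proj(𝒮) and Ĉ = Proj(Ŝ) with their charts, E ⊆ C and Ê ⊆ Ĉ the pointed cones, i : C → Ĉ
the canonical open immersion and p : Ê → X the canonical retraction (the morphism which on each
affine piece Spec Ŝ(U)_(ι f), f ∈ 𝒮(U) homogeneous of positive degree, is Spec of 𝒮(U)_(f) → Ŝ(U)_(ι
f) followed by the chart of X). Then p is of finite type (locally of finite type and quasi-compact)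
and for every point x of X the fibre p⁻¹(x) = Ê ×_X Spec k(x) is isomorphic over k(x) to the affine
line Spec k(x)[T]; and for every factorisation i' : E → Ê of i restricted to E, the composite π = p
∘ i' : E → X is of finite type and its fibre at every x is isomorphic over k(x) to Spec k(x)[T,
T⁻¹]. -/
theorem result {Y PC P : Scheme.{u}} (𝒮 𝒮h : RelProj.QCGrAlg Y) (h0 : RelCone.StrZeroBij 𝒮)
    (hgen : 𝒮.IsGenDegOne)
    (ι : 𝒮.toQCAlg ⟶ 𝒮h.toQCAlg) (z : 𝒮h.presheaf.obj (op ⊤)) (hz : RelCone.IsPolyOver 𝒮 𝒮h ι z)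
    (pC : PC ⟶ Y)
    (chartC : ∀ (U : Y.Opens) (hU : IsAffineOpen U), (((pC ⁻¹ᵁ U : PC.Opens) : Scheme.{u}) ≅ Proj (𝒮h.deg U hU)))
    (hPC : RelProj.IsRelProj 𝒮h pC chartC)
    (p : P ⟶ Y)
    (chart : ∀ (U : Y.Opens) (hU : IsAffineOpen U), (((p ⁻¹ᵁ U : P.Opens) : Scheme.{u}) ≅ Proj (𝒮.deg U hU)))
    (hP : RelProj.IsRelProj 𝒮 p chart)
    (i : 𝒮.toQCAlg.spec ⟶ PC) (hi : RelCone.IsConeImm 𝒮 hz pC chartC i)
    (r : ((RelCone.pointedProjCone 𝒮 hz pC chartC : PC.Opens) : Scheme.{u}) ⟶ P)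
    (hr : (∀ (U : Y.Opens) (hU : IsAffineOpen U) (d : ℕ) (hd : 0 < d) (f : 𝒮.presheaf.obj (op U)) (hf : f ∈ 𝒮.deg U hU d)
        (g : Spec (CommRingCat.of (HomogeneousLocalization.Away (𝒮h.deg U hU) ((RelProj.gradedHomAt ι hz.graded U hU) f))) ⟶
          ((RelCone.pointedProjCone 𝒮 hz pC chartC : PC.Opens) : Scheme.{u})),
        g ≫ (RelCone.pointedProjCone 𝒮 hz pC chartC).ι =
            Proj.awayι (𝒮h.deg U hU) ((RelProj.gradedHomAt ι hz.graded U hU) f) ((RelProj.gradedHomAt ι hz.graded U hU).2 hf) hd ≫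
              RelProj.emb pC chartC U hU →
          g ≫ r =
            Spec.map (CommRingCat.ofHom (HomogeneousLocalization.Away.map (RelProj.gradedHomAt ι hz.graded U hU) f)) ≫
              Proj.awayι (𝒮.deg U hU) f hf hd ≫ RelProj.emb p chart U hU)) :
    (LocallyOfFiniteType r ∧ QuasiCompact r ∧
        ∀ x : ↥P, ∃ e : pullback r (P.fromSpecResidueField x) ≅ Spec (CommRingCat.of (Polynomial (P.residueField x))),
          e.hom ≫ Spec.map (CommRingCat.ofHom (algebraMap (P.residueField x) (Polynomial (P.residueField x)))) =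
            pullback.snd r (P.fromSpecResidueField x)) ∧
      ∀ i' : ((RelCone.pointedCone 𝒮 : 𝒮.toQCAlg.spec.Opens) : Scheme.{u}) ⟶
          ((RelCone.pointedProjCone 𝒮 hz pC chartC : PC.Opens) : Scheme.{u}),
        i' ≫ (RelCone.pointedProjCone 𝒮 hz pC chartC).ι = (RelCone.pointedCone 𝒮).ι ≫ i →
          LocallyOfFiniteType (i' ≫ r) ∧ QuasiCompact (i' ≫ r) ∧
        ∀ x : ↥P, ∃ e : pullback (i' ≫ r) (P.fromSpecResidueField x) ≅ Spec (CommRingCat.of (LaurentPolynomial (P.residueField x))),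
          e.hom ≫ Spec.map (CommRingCat.ofHom (algebraMap (P.residueField x) (LaurentPolynomial (P.residueField x)))) =
            pullback.snd (i' ≫ r) (P.fromSpecResidueField x) := by
  rw [Groth.Agent.EGAProj74.retraction_iff hz] at hr
  let κ := Σ' (U : Y.Opens) (hU : IsAffineOpen U) (f : 𝒮.presheaf.obj (op U)), f ∈ 𝒮.deg U hU 1
  let P₀ : κ → CommRingCat.{u} := fun s => CommRingCat.of (HomogeneousLocalization.Away (𝒮.deg s.1 s.2.1) s.2.2.1)
  let j : ∀ s : κ, Spec (P₀ s) ⟶ P := fun s => ConeFib.pChart (chart := chart) s.1 s.2.1 s.2.2.2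
  have hj : ∀ x, ∃ s : κ, x ∈ Set.range (j s) := fun x => by
    obtain ⟨U, hU, f, hf, hx⟩ := ConeFib.exists_mem_range_pChart (chart := chart) hgen x
    exact ⟨⟨U, hU, f, hf⟩, hx⟩
  constructor
  · let θ : ∀ s : κ, Polynomial (P₀ s) ≃+* HomogeneousLocalization.Away (𝒮h.deg s.1 s.2.1)
        (RelProj.gradedHomAt ι hz.graded s.1 s.2.1 s.2.2.1) := fun s =>
      RingEquiv.ofBijective _ (ConeFib.toPCone_bijective s.2.2.2
        (RelProj.gradedHomAt ι hz.graded s.1 s.2.1) (hz.deg_z s.1 s.2.1) (hz.bij s.1 s.2.1))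
    obtain ⟨h1, h2⟩ := ConeFibre.of_isPullback_charts r P₀ (fun s => CommRingCat.of _) j hj _ _
      (fun s : κ => ConeFib.isPullback_projChart hz hPC hP hr s.1 s.2.1 s.2.2.2)
      (fun s => ConeFibre.finiteType_of_poly (θ s) fun a => Polynomial.eval₂_C _ _)
    refine ⟨h1, h2, fun x => ?_⟩
    obtain ⟨s, hs⟩ := hj x
    exact ConeFibre.exists_iso_fibre_poly r
      (ConeFib.isPullback_projChart hz hPC hP hr s.1 s.2.1 s.2.2.2) (θ s) (fun a => Polynomial.eval₂_C _ _) x hs
  · intro i' hi'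
    let θ : ∀ s : κ, LaurentPolynomial (P₀ s) ≃+* Localization.Away s.2.2.1 := fun s =>
      RingEquiv.ofBijective _ (ConeFib.toCone_bijective s.2.2.2)
    obtain ⟨h1, h2⟩ := ConeFibre.of_isPullback_charts (i' ≫ r) P₀ (fun s => CommRingCat.of _) j hj _ _
      (fun s : κ => ConeFib.isPullback_eChart hz hPC hi hP hr hi' s.1 s.2.1 s.2.2.2)
      (fun s => ConeFibre.finiteType_of_laurent (θ s) ConeFib.toCone_C)
    refine ⟨h1, h2, fun x => ?_⟩
    obtain ⟨s, hs⟩ := hj x
    exact ConeFibre.exists_iso_fibre_laurent (i' ≫ r)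
      (ConeFib.isPullback_eChart hz hPC hi hP hr hi' s.1 s.2.1 s.2.2.2) (θ s) ConeFib.toCone_C x hs

end Groth.Agent.S19985
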