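import Groth.Prelude.Def_StCoh
import Groth.Prelude.Def_StGerb
import Groth.Agent.StCohH99.GerbeH1
-- import your own Groth.Agent.* helpers here

set_option autoImplicit false
universe u
open CategoryTheory CategoryTheory.Limits AlgebraicGeometry
open StCoh

namespace Groth.Agent.S19987

/-- Let k be a field and let 𝒢 be an algebraic stack over k which is an fppf gerbe over Spec k and whose
inertia is finite over 𝒢 (as holds for the residual gerbe of a point of an algebraic stack with
finite inertia). Then H¹(𝒢, ℤ) = 0. Here the cohomology is that of the big fppf site of 𝒢 with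
coefficients in the constant sheaf ℤ, the group the argument computes; the displayed étale group
agrees with it because ℤ is a smooth group scheme. -/
theorem result (k : Type u) [Field k]
    (𝒢 : AlgSt.Cat (Spec (CommRingCat.of k))) (h𝒢 : AlgSt.IsAlgStack Scheme.fppfPrecoverage 𝒢)
    (hger : Gerb.IsGerbe (QuotSh.J Scheme.fppfPrecoverage (Spec (CommRingCat.of k))) 𝒢)
    (hI : AlgSt.RepByAlgSpWith AlgSp.IsFiniteMor (FibCat.inertiaToBase (FibCat.toSelf 𝒢)))
    [StCoh.BaseCont Scheme.fppfPrecoverage 𝒢] :
    Subsingleton (StCoh.H Scheme.fppfPrecoverage (StCoh.const Scheme.fppfPrecoverage 𝒢 ℤ) 1) := by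
  exact StCohH99.subsingleton_H1_gerbe hger.1.1 hger hI

end Groth.Agent.S19987
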