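import Groth.Statements.S1999
import Groth.Agent.EtAlg23.Inertia
import Mathlib.Algebra.CharP.Algebra
import Mathlib.Data.Nat.Factorization.Basic

set_option autoImplicit false
universe u
open scoped Pointwise
open EtAlg

namespace Groth.Agent.S1999

open scoped Pointwise


/-- Parts (2)–(5) in the case of part (6): let A be a discrete valuation ring with fraction field K, L/K
a finite Galois extension with group G, B the integral closure of A in L, m a maximal ideal of B
whose residue field is separable over that of A, and e the ramification index of m over A. Let D be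
the decomposition group (stabilizer of m), I the inertia group (elements acting trivially on B/m)
and P the wild inertia group, here the elements of D acting trivially on B/m² (the description valid
in the separable residue field case). Then P ≤ I, P is normal in D, P is a p-group if the residue
characteristic is p > 0 and trivial if it is 0, and I/P is cyclic of order the prime-to-p part of e
and isomorphic to a subgroup of the e-th roots of unity of B/m — more precisely to the full group of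
e-th roots of unity of B/m. -/
theorem result (A K L B : Type u) [CommRing A] [IsDomain A] [IsDiscreteValuationRing A]
    [CommRing B] [IsDomain B] [Field K] [Field L] [Algebra A K] [Algebra B L] [IsFractionRing A K] [IsFractionRing B L]
    [Algebra A B] [Algebra K L] [Algebra A L] [IsScalarTower A K L] [IsScalarTower A B L] [IsIntegralClosure B A L]
    [FiniteDimensional K L] [IsGalois K L] (m : Ideal B) [m.IsMaximal]
    [Algebra.IsSeparable (A ⧸ m.comap (algebraMap A B)) (B ⧸ m)] :
    letI := IsIntegralClosure.MulSemiringAction A K L B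
    let D : Subgroup (L ≃ₐ[K] L) := MulAction.stabilizer (L ≃ₐ[K] L) m
    let I : Subgroup (L ≃ₐ[K] L) := m.inertia (L ≃ₐ[K] L)
    let P : Subgroup (L ≃ₐ[K] L) := D ⊓ (m ^ 2).inertia (L ≃ₐ[K] L)
    let e : ℕ := Ideal.ramificationIdx' (IsLocalRing.maximalIdeal A) m
    P ≤ I ∧ I ≤ D ∧ (P.subgroupOf D).Normal ∧
    (∀ p : ℕ, p.Prime → CharP (A ⧸ m.comap (algebraMap A B)) p → IsPGroup p P) ∧
    (CharZero (A ⧸ m.comap (algebraMap A B)) → P = ⊥) ∧
    (∀ [(P.subgroupOf I).Normal],
      IsCyclic (I ⧸ P.subgroupOf I) ∧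
      (∀ p : ℕ, p.Prime → CharP (A ⧸ m.comap (algebraMap A B)) p → Nat.card (I ⧸ P.subgroupOf I) = e / p ^ e.factorization p) ∧
      (CharZero (A ⧸ m.comap (algebraMap A B)) → Nat.card (I ⧸ P.subgroupOf I) = e) ∧
      Nonempty (I ⧸ P.subgroupOf I ≃* ↥(rootsOfUnity e (B ⧸ m)))) := by
  haveI : Algebra.IsIntegral A B := IsIntegralClosure.isIntegral_algebra A L
  letI := IsIntegralClosure.MulSemiringAction A K L B
  haveI hG : IsGaloisGroup (L ≃ₐ[K] L) A B := IsGaloisGroup.of_isFractionRing _ _ _ K L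
  haveI : IsDedekindDomain B := IsIntegralClosure.isDedekindDomain A K L B
  haveI : Module.Finite A B := IsIntegralClosure.finite A K L B
  have hinj : Function.Injective (algebraMap A B) := fun x y hxy => by
    apply IsFractionRing.injective A K
    apply (algebraMap K L).injective
    rw [← IsScalarTower.algebraMap_apply, ← IsScalarTower.algebraMap_apply,
      IsScalarTower.algebraMap_apply A B L, IsScalarTower.algebraMap_apply A B L, hxy]
  haveI : FaithfulSMul A B := (faithfulSMul_iff_algebraMap_injective A B).2 hinj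
  haveI hpmax : (m.comap (algebraMap A B)).IsMaximal :=
    Ideal.isMaximal_comap_of_isIntegral_of_isMaximal m
  have hp : m.comap (algebraMap A B) = IsLocalRing.maximalIdeal A := IsLocalRing.eq_maximalIdeal hpmax
  have hp0 : IsLocalRing.maximalIdeal A ≠ ⊥ := IsDiscreteValuationRing.not_a_field A
  haveI : m.LiesOver (IsLocalRing.maximalIdeal A) := ⟨hp.symm⟩
  haveI : m.LiesOver (m.comap (algebraMap A B)) := ⟨rfl⟩
  have hm0 : m ≠ ⊥ := fun h => hp0 (by
    rw [← hp, h]; exact Ideal.comap_bot_of_injective _ hinj)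
  have hmap0 : (IsLocalRing.maximalIdeal A).map (algebraMap A B) ≠ ⊥ :=
    fun h => hp0 ((Ideal.map_eq_bot_iff_of_injective hinj).1 h)
  haveI : FaithfulSMul (L ≃ₐ[K] L) B := hG.faithful
  haveI : SMulCommClass (L ≃ₐ[K] L) A B := hG.commutes
  intro D I P e
  have hID : I ≤ D := Ideal.inertia_le_stabilizer (M := L ≃ₐ[K] L) m
  have hPI : P ≤ I := fun σ hσ x => Ideal.pow_le_self two_ne_zero (hσ.2 x)
  have hPmem : ∀ {σ : L ≃ₐ[K] L}, σ ∈ (m ^ 2).inertia (L ≃ₐ[K] L) → σ ∈ P := fun {σ} hσ =>
    ⟨hID fun x => Ideal.pow_le_self two_ne_zero (hσ x), hσ⟩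
  have hnat : ∀ n : ℕ, ((n : B) ∈ m ↔ (n : A ⧸ m.comap (algebraMap A B)) = 0) := fun n => by
    rw [← map_natCast (Ideal.Quotient.mk (m.comap (algebraMap A B))) n, Ideal.Quotient.eq_zero_iff_mem,
      Ideal.mem_comap, map_natCast]
  have hpgroup : ∀ p : ℕ, p.Prime → CharP (A ⧸ m.comap (algebraMap A B)) p → IsPGroup p P := by
    intro p _ hchar σ
    obtain ⟨k, hk⟩ := Groth.Agent.EtAlg23.isPGroup_inertia_sq (m := m) (Ideal.IsMaximal.ne_top ‹_›) p
      ((hnat p).2 (CharP.cast_eq_zero _ p)) σ.2.2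
    exact ⟨k, Subtype.ext hk⟩
  have hzero : CharZero (A ⧸ m.comap (algebraMap A B)) → P = ⊥ := by
    intro _
    rw [Subgroup.eq_bot_iff_forall]
    exact fun σ hσ => Groth.Agent.EtAlg23.eq_one_of_charZero (m := m)
      (fun n hn => Nat.cast_eq_zero.1 ((hnat n).1 hn)) hσ.2
  refine ⟨hPI, hID, Groth.Agent.EtAlg23.inertia_pow_normal 2, hpgroup, hzero, ?_⟩
  intro _
  have hcard : Nat.card I = e := by
    haveI : Module.IsTorsionFree A B := inferInstance
    show Nat.card I = Ideal.ramificationIdx' (IsLocalRing.maximalIdeal A) m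
    rw [Ideal.ramificationIdx'_eq_ramificationIdx (IsLocalRing.maximalIdeal A) m hp0]
    exact Groth.Agent.EtAlg23.card_inertia_eq_ramificationIdx (m.comap (algebraMap A B)) m
  have he0 : 0 < e := hcard ▸ Nat.card_pos
  haveI : NeZero e := ⟨he0.ne'⟩
  obtain ⟨π, hπ, hπ2, hgen⟩ := Groth.Agent.EtAlg23.exists_generator_mod_sq (m := m) hm0
  have hex : ∀ σ : I, ∃ u : B, (σ : L ≃ₐ[K] L) • π - π * u ∈ m ^ 2 := fun σ => by
    refine hgen _ ?_
    have := m.add_mem (σ.2 π) hπ
    rwa [sub_add_cancel] at this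
  choose u hu using hex
  have huniq : ∀ (σ : I) (c : B), (σ : L ≃ₐ[K] L) • π - π * c ∈ m ^ 2 →
      Ideal.Quotient.mk m c = Ideal.Quotient.mk m (u σ) := fun σ c hc => by
    rw [Ideal.Quotient.mk_eq_mk_iff_sub_mem]
    have h : (c - u σ) * π ∈ m ^ 2 := by
      have := (m ^ 2).sub_mem (hu σ) hc
      rwa [sub_sub_sub_cancel_left, ← mul_sub, mul_comm] at this
    exact (Ideal.IsMaximal.mul_mem_pow m h).resolve_right hπ2
  let θ : I →* B ⧸ m :=
    { toFun := fun σ => Ideal.Quotient.mk m (u σ)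
      map_one' := (huniq 1 1 (by rw [Subgroup.coe_one, one_smul, mul_one, sub_self]; exact zero_mem _)).symm
      map_mul' := fun σ τ => by
        rw [← map_mul]
        refine (huniq (σ * τ) _ ?_).symm
        have hσD : (σ : L ≃ₐ[K] L) ∈ MulAction.stabilizer (L ≃ₐ[K] L) m := hID σ.2
        have h1 := Groth.Agent.EtAlg23.smul_mem_pow hσD (hu τ)
        have h2 : π * (u σ * ((σ : L ≃ₐ[K] L) • u τ - u τ)) ∈ m ^ 2 := by
          rw [sq, ← mul_assoc, mul_comm π, mul_assoc]
          exact Ideal.mul_mem_left _ _ (Ideal.mul_mem_mul hπ (σ.2 _))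
        have h3 : ((σ : L ≃ₐ[K] L) • π - π * u σ) * (σ : L ≃ₐ[K] L) • u τ ∈ m ^ 2 :=
          Ideal.mul_mem_right _ _ (hu σ)
        rw [smul_sub, smul_mul'] at h1
        have := add_mem h1 (add_mem h2 h3)
        rw [Subgroup.coe_mul, mul_smul]
        convert this using 1
        ring }
  obtain ⟨t, ht⟩ := (IsPrincipalIdealRing.principal (IsLocalRing.maximalIdeal A)).principal
  rw [Ideal.submodule_span_eq] at ht
  have hte : algebraMap A B t ∈ m ^ e ∧ algebraMap A B t ∉ m ^ (e + 1) := by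
    have hle : (IsLocalRing.maximalIdeal A).map (algebraMap A B) ≤ m ^ e := Ideal.le_pow_ramificationIdx'
    refine ⟨hle (Ideal.mem_map_of_mem _ (ht ▸ Ideal.mem_span_singleton_self t)), fun h => ?_⟩
    have hle' : (IsLocalRing.maximalIdeal A).map (algebraMap A B) ≤ m ^ (e + 1) := by
      rw [ht, Ideal.map_span, Set.image_singleton, Ideal.span_le, Set.singleton_subset_iff]
      exact h
    obtain ⟨N, hN⟩ : ∃ N, ¬ (IsLocalRing.maximalIdeal A).map (algebraMap A B) ≤ m ^ N := by
      by_contra hall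
      simp only [not_exists, not_not] at hall
      exact hmap0 (eq_bot_iff.2 ((le_iInf hall).trans (Ideal.iInf_pow_eq_bot_of_isDomain m (Ideal.IsMaximal.ne_top ‹_›)).le))
    have hb : BddAbove {n | (IsLocalRing.maximalIdeal A).map (algebraMap A B) ≤ m ^ n} :=
      ⟨N, fun n hn => le_of_not_gt fun hlt => hN (le_trans hn (Ideal.pow_le_pow_right hlt.le))⟩
    have : e + 1 ≤ e := le_csSup hb hle'
    omega
  have hroot : ∀ σ : I, θ σ ^ e = 1 := fun σ => by
    obtain ⟨d, hd⟩ := Groth.Agent.EtAlg23.pow_decomp hπ hgen e _ hte.1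
    have hfix : (σ : L ≃ₐ[K] L) • algebraMap A B t = algebraMap A B t := smul_algebraMap _ _
    have hsD : (σ : L ≃ₐ[K] L) ∈ MulAction.stabilizer (L ≃ₐ[K] L) m := hID σ.2
    have hpow : ∀ k : ℕ, ((σ : L ≃ₐ[K] L) • π) ^ k - (π * u σ) ^ k ∈ m ^ (k + 1) := by
      intro k
      induction k with
      | zero => simp
      | succ k ih =>
        have e : ((σ : L ≃ₐ[K] L) • π) ^ (k + 1) - (π * u σ) ^ (k + 1) =
            (((σ : L ≃ₐ[K] L) • π) ^ k - (π * u σ) ^ k) * (σ : L ≃ₐ[K] L) • π +
              (π * u σ) ^ k * ((σ : L ≃ₐ[K] L) • π - π * u σ) := by ring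
        rw [e]
        refine add_mem ?_ ?_
        · rw [pow_succ m (k + 1)]
          refine Ideal.mul_mem_mul ih ?_
          have := m.add_mem (σ.2 π) hπ
          rwa [sub_add_cancel] at this
        · rw [show k + 1 + 1 = k + 2 from rfl, pow_add]
          exact Ideal.mul_mem_mul (Ideal.pow_mem_pow (Ideal.mul_mem_right _ _ hπ) k) (hu σ)
    have h1 := Groth.Agent.EtAlg23.smul_mem_pow hsD hd
    rw [smul_sub, smul_mul', smul_pow', hfix] at h1
    have h2 : ((σ : L ≃ₐ[K] L) • π) ^ e * (σ : L ≃ₐ[K] L) • d - (π * u σ) ^ e * d ∈ m ^ (e + 1) := by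
      have e2 : ((σ : L ≃ₐ[K] L) • π) ^ e * (σ : L ≃ₐ[K] L) • d - (π * u σ) ^ e * d =
          (((σ : L ≃ₐ[K] L) • π) ^ e - (π * u σ) ^ e) * (σ : L ≃ₐ[K] L) • d +
            (π * u σ) ^ e * ((σ : L ≃ₐ[K] L) • d - d) := by ring
      rw [e2]
      refine add_mem (Ideal.mul_mem_right _ _ (hpow e)) ?_
      rw [pow_succ m e]
      exact Ideal.mul_mem_mul (Ideal.pow_mem_pow (Ideal.mul_mem_right _ _ hπ) e) (σ.2 d)
    have h3 : (u σ ^ e - 1) * (π ^ e * d) ∈ m ^ (e + 1) := by
      have := (m ^ (e + 1)).sub_mem hd (add_mem h1 h2)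
      convert this using 1
      ring
    rcases Ideal.IsMaximal.mul_mem_pow m h3 with h | h
    · show Ideal.Quotient.mk m (u σ) ^ e = 1
      rw [← map_pow, ← map_one (Ideal.Quotient.mk m), Ideal.Quotient.mk_eq_mk_iff_sub_mem]
      exact h
    · have := add_mem hd h
      rw [sub_add_cancel] at this
      exact absurd this hte.2
  let Θ : I →* rootsOfUnity e (B ⧸ m) :=
    θ.toHomUnits.codRestrict _ fun σ => (mem_rootsOfUnity e _).2 (Units.ext (hroot σ))
  have hker : P.subgroupOf I = Θ.ker := by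
    ext σ
    rw [MonoidHom.mem_ker, Subgroup.mem_subgroupOf]
    constructor
    · intro hσ
      refine Subtype.ext (Units.ext ?_)
      show Ideal.Quotient.mk m (u σ) = 1
      rw [← map_one (Ideal.Quotient.mk m)]
      exact (huniq σ 1 (by rw [mul_one]; exact hσ.2 π)).symm
    · intro hσ
      have h1 : Ideal.Quotient.mk m (u σ) = Ideal.Quotient.mk m 1 := by
        rw [map_one]
        exact congrArg (fun x : rootsOfUnity e (B ⧸ m) => ((x : (B ⧸ m)ˣ) : B ⧸ m)) hσ
      rw [Ideal.Quotient.mk_eq_mk_iff_sub_mem] at h1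
      have hπσ : (σ : L ≃ₐ[K] L) • π - π ∈ m ^ 2 := by
        have h2 : π * (u σ - 1) ∈ m ^ 2 := by rw [sq]; exact Ideal.mul_mem_mul hπ h1
        have := add_mem (hu σ) h2
        convert this using 1
        ring
      refine hPmem (Groth.Agent.EtAlg23.mem_inertia_sq_of_separable (A := A) σ.2 fun x hx => ?_)
      obtain ⟨d, hd⟩ := hgen x hx
      have h3 := Groth.Agent.EtAlg23.smul_mem_pow (hID σ.2) hd
      rw [smul_sub, smul_mul'] at h3
      have h4 : π * ((σ : L ≃ₐ[K] L) • d - d) ∈ m ^ 2 := by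
        rw [sq]; exact Ideal.mul_mem_mul hπ (σ.2 d)
      have := (m ^ 2).sub_mem (add_mem (add_mem h3 h4) (Ideal.mul_mem_right ((σ : L ≃ₐ[K] L) • d) _ hπσ)) hd
      convert this using 1
      ring
  have hmul : Nat.card (P.subgroupOf I) * Nat.card Θ.range = e := by
    have := Subgroup.card_mul_index Θ.ker
    rw [Subgroup.index_ker] at this
    rw [hker]
    exact this.trans hcard
  have hPcard : Nat.card (P.subgroupOf I) = Nat.card P :=
    Nat.card_congr (Subgroup.subgroupOfEquivOfLe hPI).toEquiv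
  have hrdvd : Nat.card Θ.range ∣ Nat.card (rootsOfUnity e (B ⧸ m)) := Subgroup.card_subgroup_dvd_card _
  have hfin : ∀ r : ℕ, (Nat.card Θ.range = r) → Nat.card (rootsOfUnity e (B ⧸ m)) ≤ r →
      ∀ [(P.subgroupOf I).Normal], IsCyclic (I ⧸ P.subgroupOf I) ∧ Nat.card (I ⧸ P.subgroupOf I) = r ∧
        Nonempty (I ⧸ P.subgroupOf I ≃* ↥(rootsOfUnity e (B ⧸ m))) := by
    intro r hr hle _
    have hsurj : Function.Surjective Θ := MonoidHom.range_eq_top.1
      (Subgroup.eq_top_of_card_eq _ (le_antisymm (Subgroup.card_le_card_group _) (hr ▸ hle)))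
    let eq := QuotientGroup.liftEquiv (N := P.subgroupOf I) hsurj hker
    refine ⟨isCyclic_of_surjective eq.symm eq.symm.surjective, ?_, ⟨eq⟩⟩
    rw [Nat.card_congr eq.toEquiv, ← hr, MonoidHom.range_eq_top.2 hsurj, Subgroup.card_top]
  have hP1 : ∀ p : ℕ, p.Prime → CharP (A ⧸ m.comap (algebraMap A B)) p →
      Nat.card Θ.range = e / p ^ e.factorization p ∧
      Nat.card (rootsOfUnity e (B ⧸ m)) ≤ Nat.card Θ.range := by
    intro p hp' hchar
    haveI := Fact.mk hp'
    haveI : CharP (B ⧸ m) p := charP_of_injective_algebraMap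
      (Ideal.algebraMap_quotient_injective (I := m) (R := A)) p
    haveI : ExpChar (B ⧸ m) p := ExpChar.prime hp'
    obtain ⟨a, ha⟩ := (IsPGroup.iff_card).1 (hpgroup p hp' hchar)
    set m' := e / p ^ e.factorization p with hm'
    have hem' : p ^ e.factorization p * m' = e := Nat.ordProj_mul_ordCompl_eq_self e p
    have hpm' : ¬ p ∣ m' := Nat.not_dvd_ordCompl hp' he0.ne'
    have hμ : Nat.card (rootsOfUnity e (B ⧸ m)) ∣ m' := by
      rw [← IsCyclic.exponent_eq_card]
      refine Monoid.exponent_dvd_of_forall_pow_eq_one fun x => Subtype.ext (Units.ext ?_)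
      have hx : (((x : (B ⧸ m)ˣ) : B ⧸ m) ^ m') ^ p ^ e.factorization p = 1 := by
        rw [← pow_mul, mul_comm m', hem', ← Units.val_pow_eq_pow_val, (mem_rootsOfUnity e _).1 x.2,
          Units.val_one]
      have := iterateFrobenius_inj (B ⧸ m) p (e.factorization p)
        (show iterateFrobenius (B ⧸ m) p (e.factorization p) (((x : (B ⧸ m)ˣ) : B ⧸ m) ^ m') =
          iterateFrobenius (B ⧸ m) p (e.factorization p) 1 by simpa [iterateFrobenius_def] using hx)
      simpa using this
    have hr : ¬ p ∣ Nat.card Θ.range := fun h => hpm' (h.trans (hrdvd.trans hμ))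
    have : Nat.card Θ.range = m' := by
      have h1 : e = p ^ a * Nat.card Θ.range := by rw [← ha, ← hPcard, hmul]
      have h2 : m' = e / p ^ e.factorization p := rfl
      rw [h2]
      conv_rhs => rw [h1]
      rw [Nat.ordCompl_self_pow_mul _ _ hp', (Nat.ordCompl_eq_self_iff_zero_or_not_dvd _ hp').2 (Or.inr hr)]
    exact ⟨this, this ▸ Nat.le_of_dvd (Nat.pos_of_ne_zero fun h => hpm' (h ▸ dvd_zero p)) hμ⟩
  have hP0 : CharZero (A ⧸ m.comap (algebraMap A B)) →
      Nat.card Θ.range = e ∧ Nat.card (rootsOfUnity e (B ⧸ m)) ≤ Nat.card Θ.range := by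
    intro h0
    have : Nat.card Θ.range = e := by
      rwa [hPcard, hzero h0, Subgroup.card_bot, one_mul] at hmul
    exact ⟨this, this.symm ▸ card_rootsOfUnity (B ⧸ m) e⟩
  obtain ⟨q, hq⟩ := CharP.exists (A ⧸ m.comap (algebraMap A B))
  haveI : IsDomain (A ⧸ m.comap (algebraMap A B)) := inferInstance
  rcases CharP.char_is_prime_or_zero (A ⧸ m.comap (algebraMap A B)) q with hq' | rfl
  · obtain ⟨hc, hle⟩ := hP1 q hq' hq
    obtain ⟨h1, h2, h3⟩ := hfin _ rfl hle
    refine ⟨h1, fun p hp hchar => h2.trans (hP1 p hp hchar).1, fun h0 => h2.trans (hP0 h0).1, h3⟩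
  · haveI := CharP.charP_to_charZero (A ⧸ m.comap (algebraMap A B))
    obtain ⟨hc, hle⟩ := hP0 this
    obtain ⟨h1, h2, h3⟩ := hfin _ rfl hle
    refine ⟨h1, fun p hp hchar => h2.trans (hP1 p hp hchar).1, fun h0 => h2.trans (hP0 h0).1, h3⟩

end Groth.Agent.S1999
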