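import Groth.Statements.S2000
import Groth.Agent.EtAlg23.GlueBasic

set_option autoImplicit false
universe u
open TensorProduct
open EtAlg

namespace Groth.Agent.S2000

/-- Beauville–Laszlo, essential surjectivity with glueability: take a glueing pair (R -> R', f). Fix an
R'-module M', an R-module M₁ on which multiplication by f is bijective (i.e. an R_f-module), and α
an R'-linear isomorphism from the localization of M' at f to R' ⊗_R M₁ (an isomorphism of
R'_f-modules). Then there is an R-module M, glueable for (R -> R', f), with an R'-isomorphism R' ⊗_R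
M ≅ M' and an R-isomorphism M_f ≅ M₁ under which α becomes the canonical identification (R' ⊗_R M)_f
= R' ⊗_R M_f. -/
theorem result (R R' : Type u) [CommRing R] [CommRing R'] [Algebra R R'] (f : R)
    (hRR : EtGlue.IsGlueingPair R R' f) (M' : Type u) [AddCommGroup M'] [Module R' M'] (M₁ : Type u) [AddCommGroup M₁]
    [Module R M₁] (hf : Function.Bijective fun x : M₁ => f • x)
    (α : LocalizedModule (Submonoid.powers (algebraMap R R' f)) M' ≃ₗ[R'] R' ⊗[R] M₁) :
    ∃ (M : Type u) (_ : AddCommGroup M) (_ : Module R M) (_ : EtGlue.IsGlueable R R' f M)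
      (e' : R' ⊗[R] M ≃ₗ[R'] M') (e₁ : LocalizedModule (Submonoid.powers f) M ≃ₗ[R] M₁),
      ∀ m : M, α (LocalizedModule.mkLinearMap (Submonoid.powers (algebraMap R R' f)) M' (e' ((1 : R') ⊗ₜ[R] m))) =
        (1 : R') ⊗ₜ[R] e₁ (LocalizedModule.mkLinearMap (Submonoid.powers f) M m) := by
  have hq := hRR.1
  let μ := LocalizedModule.mkLinearMap (Submonoid.powers (algebraMap R R' f)) M'
  letI : Module R M' := Module.compHom M' (algebraMap R R')
  haveI : IsScalarTower R R' M' := ⟨fun r s m => by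
    show (r • s) • m = algebraMap R R' r • s • m
    rw [Algebra.smul_def, mul_smul]⟩
  let a : M' →ₗ[R] R' ⊗[R] M₁ :=
    { toFun := fun x => α (μ x)
      map_add' := fun x y => by simp
      map_smul' := fun r x => by
        show α (μ (algebraMap R R' r • x)) = r • α (μ x)
        rw [map_smul, map_smul, algebraMap_smul] }
  have haR' : ∀ (s : R') (x : M'), a (s • x) = s • a x := fun s x => by
    show α (μ (s • x)) = s • α (μ x)
    rw [map_smul, map_smul]
  have hsm : ∀ (n : ℕ) (x : M'), algebraMap R R' f ^ n • x = f ^ n • x := fun n x => by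
    rw [← map_pow, algebraMap_smul]
  have hker : ∀ x : M', a x = 0 → ∃ n : ℕ, f ^ n • x = 0 := fun x hx => by
    have : μ x = 0 := α.map_eq_zero_iff.1 hx
    obtain ⟨n, hn⟩ := (Groth.Agent.EtAlg23.loc_eq_zero_iff (f := algebraMap R R' f) μ).1 this
    exact ⟨n, by rwa [← hsm]⟩
  have hsurj : ∀ z : R' ⊗[R] M₁, ∃ (n : ℕ) (x : M'), f ^ n • z = a x := fun z => by
    obtain ⟨n, x, hx⟩ := Groth.Agent.EtAlg23.loc_surj (f := algebraMap R R' f) μ (α.symm z)
    refine ⟨n, x, ?_⟩
    show f ^ n • z = α (μ x)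
    rw [← hx, map_smul, α.apply_symm_apply, ← map_pow, algebraMap_smul]
  have hinv : ∀ (n : ℕ), Function.Bijective fun x : M₁ => f ^ n • x := by
    intro n
    induction n with
    | zero => simp only [pow_zero, one_smul]; exact Function.bijective_id
    | succ n ih => simpa [pow_succ, mul_smul, Function.comp_def] using ih.comp hf
  let M : Submodule R (M' × M₁) := LinearMap.eqLocus (a.comp (LinearMap.fst R M' M₁))
    ((TensorProduct.mk R R' M₁ 1).comp (LinearMap.snd R M' M₁))
  let p₁ : M →ₗ[R] M' := (LinearMap.fst R M' M₁).comp M.subtype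
  let p₂ : M →ₗ[R] M₁ := (LinearMap.snd R M' M₁).comp M.subtype
  have hp : ∀ m : M, a (p₁ m) = (1 : R') ⊗ₜ[R] p₂ m := fun m => m.2
  have hp₂ker : ∀ m : M, p₂ m = 0 → ∃ n : ℕ, f ^ n • m = 0 := fun m hm => by
    obtain ⟨n, hn⟩ := hker (p₁ m) (by rw [hp, hm, TensorProduct.tmul_zero])
    refine ⟨n, Subtype.ext (Prod.ext hn ?_)⟩
    show f ^ n • p₂ m = 0
    rw [hm, smul_zero]
  have hp₂surj : ∀ y : M₁, ∃ (n : ℕ) (m : M), p₂ m = f ^ n • y := fun y => by
    obtain ⟨n, x, hx⟩ := hsurj ((1 : R') ⊗ₜ[R] y)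
    refine ⟨n, ⟨(x, f ^ n • y), ?_⟩, rfl⟩
    show a x = (1 : R') ⊗ₜ[R] (f ^ n • y)
    rw [← hx, TensorProduct.tmul_smul]
  haveI hloc : IsLocalizedModule (Submonoid.powers f) p₂ := by
    refine ⟨fun ⟨_, n, rfl⟩ => (Module.End.isUnit_iff _).2 (hinv n), fun y => ?_, fun {m₁ m₂} h => ?_⟩
    · obtain ⟨n, m, hm⟩ := hp₂surj y
      exact ⟨(m, ⟨_, n, rfl⟩), hm.symm⟩
    · obtain ⟨n, hn⟩ := hp₂ker (m₁ - m₂) (by rw [map_sub, h, sub_self])
      exact ⟨⟨_, n, rfl⟩, sub_eq_zero.1 ((smul_sub (f ^ n) m₁ m₂).symm.trans hn)⟩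
  let e₁ := IsLocalizedModule.iso (Submonoid.powers f) p₂
  have he₁ : ∀ m : M, e₁ (LocalizedModule.mkLinearMap (Submonoid.powers f) M m) = p₂ m :=
    fun m => IsLocalizedModule.iso_mk_one _ p₂ m
  let e0 : R' ⊗[R] M →ₗ[R'] M' := LinearMap.liftBaseChange R' p₁
  have hkey : ∀ z : R' ⊗[R] M, a (e0 z) = p₂.baseChange R' z := fun z => by
    induction z using TensorProduct.induction_on with
    | zero => simp
    | tmul s m => rw [LinearMap.liftBaseChange_tmul, haR', hp, LinearMap.baseChange_tmul,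
        TensorProduct.smul_tmul', smul_eq_mul, mul_one]
    | add u v hu hv => simp only [map_add, hu, hv]
  have hlk : ∀ z : R' ⊗[R] M, p₂.baseChange R' z = 0 → ∃ n : ℕ, f ^ n • z = 0 := fun z hz => by
    refine (Groth.Agent.EtAlg23.loc_eq_zero_iff (f := f) (M := R' ⊗[R] M)
      (L := LocalizedModule (Submonoid.powers f) (R' ⊗[R] M)) (EtGlue.locOfTensor R R' f M)).1 ?_
    let T : R' ⊗[R] M₁ →ₗ[R] LocalizedModule (Submonoid.powers f) (R' ⊗[R] M) :=
      TensorProduct.lift ((IsLocalizedModule.map (Submonoid.powers f) p₂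
        (EtGlue.locOfTensor R R' f M)).comp (TensorProduct.mk R R' M))
    have : ∀ z, T (p₂.baseChange R' z) = EtGlue.locOfTensor R R' f M z := fun z => by
      induction z using TensorProduct.induction_on with
      | zero => simp
      | tmul s m =>
        show IsLocalizedModule.map (Submonoid.powers f) p₂ (EtGlue.locOfTensor R R' f M)
          (TensorProduct.mk R R' M s) (p₂ m) = _
        exact IsLocalizedModule.map_apply _ _ _ _ m
      | add u v hu hv => simp only [map_add, hu, hv]
    rw [← this z, hz, map_zero]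
  have hbij : Function.Bijective e0 := by
    refine ⟨(injective_iff_map_eq_zero e0).2 fun z hz => ?_, fun x => ?_⟩
    · obtain ⟨m, hm, rfl⟩ := Groth.Agent.EtAlg23.torsion_surjective hRR M z
        (hlk z (by rw [← hkey, hz, map_zero]))
      rw [LinearMap.liftBaseChange_tmul, one_smul] at hz
      have h2 : p₂ m = 0 := by
        obtain ⟨n, hn⟩ := hm
        refine (hinv n).1 ?_
        show f ^ n • p₂ m = f ^ n • (0 : M₁)
        rw [← map_smul, hn, map_zero, smul_zero]
      have : m = 0 := Subtype.ext (Prod.ext hz h2)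
      rw [this, TensorProduct.tmul_zero]
    · have hdec : ∀ z : R' ⊗[R] M₁, ∃ (y : M₁) (w : R' ⊗[R] M), z = (1 : R') ⊗ₜ[R] y + a (e0 w) := by
        intro z
        induction z using TensorProduct.induction_on with
        | zero => exact ⟨0, 0, by simp⟩
        | tmul s y =>
          obtain ⟨n, m, hm⟩ := hp₂surj y
          obtain ⟨r, s', rfl⟩ := Groth.Agent.EtAlg23.quot_surj hq n s
          refine ⟨r • y, s' ⊗ₜ[R] m, ?_⟩
          rw [hkey, LinearMap.baseChange_tmul, hm, TensorProduct.add_tmul,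
            Algebra.algebraMap_eq_smul_one, TensorProduct.smul_tmul, TensorProduct.smul_tmul]
        | add u v hu hv =>
          obtain ⟨y₁, w₁, rfl⟩ := hu
          obtain ⟨y₂, w₂, rfl⟩ := hv
          exact ⟨y₁ + y₂, w₁ + w₂, by rw [TensorProduct.tmul_add, map_add, map_add]; abel⟩
      obtain ⟨y, w, hw⟩ := hdec (a x)
      have hm : ((x - e0 w, y) : M' × M₁) ∈ M := by
        show a (x - e0 w) = (1 : R') ⊗ₜ[R] y
        rw [map_sub, hw, add_sub_cancel_right]
      refine ⟨(1 : R') ⊗ₜ[R] (⟨_, hm⟩ : M) + w, ?_⟩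
      rw [map_add, LinearMap.liftBaseChange_tmul, one_smul]
      show x - e0 w + e0 w = x
      rw [sub_add_cancel]
  have hglue : EtGlue.IsGlueable R R' f M := by
    refine Groth.Agent.EtAlg23.isGlueable_of_injective hRR M fun m ⟨n, hn⟩ h => ?_
    refine Subtype.ext (Prod.ext ?_ ?_)
    · have := congrArg e0 h
      rw [LinearMap.liftBaseChange_tmul, one_smul, map_zero] at this
      exact this
    · refine (hinv n).1 ?_
      show f ^ n • p₂ m = f ^ n • (0 : M₁)
      rw [← map_smul, hn, map_zero, smul_zero]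
  refine ⟨M, inferInstance, inferInstance, hglue, LinearEquiv.ofBijective e0 hbij, e₁, fun m => ?_⟩
  rw [LinearEquiv.ofBijective_apply, LinearMap.liftBaseChange_tmul, one_smul, he₁]
  exact hp m

end Groth.Agent.S2000
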