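import Groth.Statements.S20007
import Groth.Agent.GL44.Triv
import Groth.Agent.GL44.LineChart
import Groth.Agent.GL44.GLSmooth
import Groth.Agent.GL44.Theta
import Groth.Agent.AlgSt88.QuotStackFib
import Groth.Agent.LimTop61.HasRoots

set_option autoImplicit false
set_option linter.style.haveILetI false
set_option backward.isDefEq.respectTransparency false
set_option backward.isDefEq.respectTransparency.types false
universe u
open CategoryTheory CategoryTheory.Limits MonoidalCategory CartesianMonoidalCategory MonObj AlgebraicGeometry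
open GIT AlgSt

namespace Groth.Agent.S20007

/-- A morphism from the spectrum of a local ring at a point of an affine open to a scheme locally of finite
presentation over it extends to a neighbourhood. -/
theorem exists_spread {P B : Scheme.{u}} (π : P ⟶ B) [IsAffineHom π] [LocallyOfFinitePresentation π]
    {U : B.Opens} (hU : IsAffineOpen U) (y : B) (hy : y ∈ U)
    (s : Spec (CommRingCat.of (Localization.AtPrime (hU.primeIdealOf ⟨y, hy⟩).asIdeal)) ⟶ P)
    (hs : s ≫ π = Spec.map (CommRingCat.ofHom (algebraMap Γ(B, U) _)) ≫ hU.fromSpec) :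
    ∃ (W : Scheme.{u}) (j : W ⟶ B), IsOpenImmersion j ∧ (∃ w, j w = y) ∧ ∃ t : W ⟶ P, t ≫ π = j := by
  let V := π ⁻¹ᵁ U
  have hV : IsAffineOpen V := hU.preimage π
  let a : Γ(B, U) ⟶ Γ(P, V) := π.appLE U V le_rfl
  letI : Algebra Γ(B, U) Γ(P, V) := a.hom.toAlgebra
  haveI : Algebra.FinitePresentation Γ(B, U) Γ(P, V) :=
    LocallyOfFinitePresentation.finitePresentation_appLE π hU hV le_rfl
  have ha : Spec.map a ≫ hU.fromSpec = hV.fromSpec ≫ π := IsAffineOpen.SpecMap_appLE_fromSpec π hU hV le_rfl
  have hr : Set.range s ⊆ Set.range hV.fromSpec := by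
    rintro _ ⟨z, rfl⟩
    rw [hV.range_fromSpec]
    change π (s z) ∈ (U : Set B)
    rw [show π (s z) = (s ≫ π) z from rfl, hs, ← hU.range_fromSpec]
    exact Set.mem_range_self _
  obtain ⟨σ, hσ⟩ := Spec.map_surjective (IsOpenImmersion.lift hV.fromSpec s hr)
  have hσs : Spec.map σ ≫ hV.fromSpec = s := by rw [hσ, IsOpenImmersion.lift_fac]
  have hcomp : a ≫ σ = CommRingCat.ofHom (algebraMap Γ(B, U) _) := by
    apply Spec.map_injective
    rw [← cancel_mono hU.fromSpec, ← hs, ← hσs, Spec.map_comp]
    simp only [Category.assoc, ha]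
  obtain ⟨c, hc, ⟨τ⟩⟩ := LimTop61.exists_algHom_away (A := Γ(B, U)) (hU.primeIdealOf ⟨y, hy⟩).asIdeal
    ({ σ.hom with commutes' := fun r => congr($hcomp r) } : Γ(P, V) →ₐ[Γ(B, U)] _)
  haveI : IsOpenImmersion (Spec.map (CommRingCat.ofHom (algebraMap Γ(B, U) (Localization.Away c)))) :=
    IsOpenImmersion.of_isLocalization c
  refine ⟨_, Spec.map (CommRingCat.ofHom (algebraMap Γ(B, U) (Localization.Away c))) ≫ hU.fromSpec,
    inferInstance, ?_, Spec.map (CommRingCat.ofHom τ.toRingHom) ≫ hV.fromSpec, ?_⟩
  · have hm : hU.primeIdealOf ⟨y, hy⟩ ∈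
        Set.range (PrimeSpectrum.comap (algebraMap Γ(B, U) (Localization.Away c))) := by
      rw [PrimeSpectrum.localization_away_comap_range (Localization.Away c) c]
      exact hc
    obtain ⟨w, hw⟩ := hm
    exact ⟨w, (congrArg hU.fromSpec hw).trans (hU.fromSpec_primeIdealOf ⟨y, hy⟩)⟩
  · rw [Category.assoc, ← ha, ← Spec.map_comp_assoc]
    congr 2
    exact CommRingCat.hom_ext τ.comp_algebraMap

/-- Torsors for the general linear group over any base are Zariski locally trivial. -/
theorem zariski_trivial {S : Scheme.{u}} {n : ℕ} {X Y : Over S} (a : AlgGrp.Action (FrB.GLn n S) X) (φ : X ⟶ Y)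
    (hcart : IsPullback a.act (snd (FrB.GLn n S) X) φ φ)
    (hloc : NonAbH1.IsLocallyTrivialFor Scheme.fpqcPrecoverage (Over.mk φ.left : Over Y.left)) :
    NonAbH1.IsLocallyTrivialFor Scheme.zariskiPrecoverage (Over.mk φ.left : Over Y.left) := by
  have hG : IsAffineHom (FrB.GLn n S).hom := by
    haveI : IsAffine (FrB.GLZ.{u} n).left := inferInstanceAs (IsAffine (Spec _))
    show IsAffineHom (pullback.snd (FrB.GLZ n).hom _)
    exact MorphismProperty.pullback_snd _ _ inferInstance
  obtain ⟨hGf, hGp⟩ := GL44.flat_lfp_GLn n S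
  have key : ∀ (P : MorphismProperty Scheme.{u}) [P.IsStableUnderBaseChange] [IsZariskiLocalAtTarget P]
      [P.DescendsAlong Unr55.fpqc.{u}], P (FrB.GLn n S).hom → P φ.left := by
    intro P _ _ _ h
    refine AlgSt88.of_selfPullback _ P ?_ hloc
    have hc : IsPullback a.act.left (snd (FrB.GLn n S) X).left φ.left φ.left := hcart.map (Over.forget S)
    have h0 : P (snd (FrB.GLn n S) X).left := MorphismProperty.pullback_snd (P := P) _ _ h
    rw [← hc.isoPullback_hom_snd] at h0
    exact (P.cancel_left_of_respectsIso _ _).1 h0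
  haveI : Surjective φ.left := Sga84.surjective_of_isLocallyTrivialFor (X := Over.mk φ.left) hloc
  haveI : Flat φ.left :=
    have := Sga84.flat_descendsAlong.{u}
    key @Flat hGf
  haveI : LocallyOfFinitePresentation φ.left :=
    have : MorphismProperty.DescendsAlong @LocallyOfFinitePresentation Unr55.fpqc.{u} := by infer_instance
    key @LocallyOfFinitePresentation hGp
  haveI : IsAffineHom φ.left :=
    have := Unr55.isAffineHom.{u}
    key @IsAffineHom hG
  let A : QuotObj Scheme.fppfPrecoverage (FrB.GLn n S) a :=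
    { base := Y
      P := X
      act := a
      π := φ
      cart := hcart
      loc := ⟨_, Scheme.Hom.singleton_mem_fppfPrecoverage φ.left, by
        rintro S' f ⟨⟩
        exact ⟨𝟙 _, Category.id_comp _⟩⟩
      φ := 𝟙 X
      eqv := by simp }
  have main : ∀ y : Y.left, ∃ (W : Scheme.{u}) (j : W ⟶ Y.left),
      IsOpenImmersion j ∧ (∃ w, j w = y) ∧ ∃ t : W ⟶ X.left, t ≫ φ.left = j := by
    intro y
    obtain ⟨U, hU, hy, -⟩ := AlgebraicGeometry.exists_isAffineOpen_mem_and_subset (x := y) (U := ⊤) (by trivial)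
    let q : Spec (CommRingCat.of (Localization.AtPrime (hU.primeIdealOf ⟨y, hy⟩).asIdeal)) ⟶ Y.left :=
      Spec.map (CommRingCat.ofHom (algebraMap Γ(Y.left, U) _)) ≫ hU.fromSpec
    obtain ⟨A', m, hb, hm⟩ := AlgSt88.exists_pullObj A (Over.homMk q rfl : Over.mk (q ≫ Y.hom) ⟶ A.base)
    obtain ⟨σ, hσ⟩ := GL44.exists_section hG A'
      (eqToIso (congrArg (fun Z : Over S => Z.left) hb.symm)) (GL44.free_of_local _)
    have hs : (eqToHom hb.symm ≫ σ ≫ m.top) ≫ φ = Over.homMk q rfl := by
      calc (eqToHom hb.symm ≫ σ ≫ m.top) ≫ φ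
          = eqToHom hb.symm ≫ σ ≫ A'.π ≫ m.base := by
            simp only [Category.assoc]
            exact congrArg (fun t => eqToHom hb.symm ≫ σ ≫ t) m.cart.w
        _ = eqToHom hb.symm ≫ m.base := congrArg (eqToHom hb.symm ≫ ·)
            ((Category.assoc _ _ _).symm.trans ((congrArg (· ≫ m.base) hσ).trans (Category.id_comp _)))
        _ = Over.homMk q rfl :=
            (congrArg (eqToHom hb.symm ≫ ·) hm).trans (eqToHom_trans_assoc _ _ _ |>.trans (Category.id_comp _))
    exact exists_spread φ.left hU y hy _ (congrArg CommaMorphism.left hs)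
  choose W j hj hw t ht using main
  refine ⟨Presieve.ofArrows W j, ?_, ?_⟩
  · rw [Scheme.zariskiPrecoverage, Scheme.ofArrows_mem_precoverage_iff]
    exact ⟨fun y => ⟨y, hw y⟩, hj⟩
  · rintro S' f ⟨y⟩
    exact ⟨t y, ht y⟩

/-- The general linear group is special. Over an algebraically closed field k of characteristic zero,
let n be a natural number and let the group scheme GL_{n,k} (the general linear group over Spec k)
act on a k-scheme X; let φ : X → Y be a GL_{n,k}-torsor over the k-scheme Y: the square formed by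
the action, the second projection GL_{n,k} ×_k X → X and φ twice is cartesian, and φ acquires
sections on the members of some fpqc covering family of Y. Then φ is locally trivial: it acquires
sections on the members of some Zariski open covering of Y. (The statement holds over any base; the
ground field is the standing one of the text.) -/
theorem result
    (k : Type u) [Field k] [IsAlgClosed k] [CharZero k] (n : ℕ)
    (X Y : Over (Spec (CommRingCat.of k)))
    (a : AlgGrp.Action (FrB.GLn n (Spec (CommRingCat.of k))) X) (φ : X ⟶ Y)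
    (hcart : IsPullback a.act (snd (FrB.GLn n (Spec (CommRingCat.of k))) X) φ φ)
    (hloc : NonAbH1.IsLocallyTrivialFor Scheme.fpqcPrecoverage (Over.mk φ.left : Over Y.left)) :
    NonAbH1.IsLocallyTrivialFor Scheme.zariskiPrecoverage (Over.mk φ.left : Over Y.left) :=
  zariski_trivial a φ hcart hloc

end Groth.Agent.S20007
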