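import Groth.Statements.S2001
import Groth.Agent.EtAlg23.GlueBasic

set_option autoImplicit false
universe u
open TensorProduct
open EtAlg

namespace Groth.Agent.S2001

/-- Let (R -> R', f) be a glueing pair and M, N R-modules glueable for it. Given an R'-linear map φ' :
R' ⊗_R M -> R' ⊗_R N and an R-linear map φ₁ : M_f -> N_f which induce the same map into (R' ⊗_R N)_f
on elements of M, there is a unique R-linear map ψ : M -> N whose base change to R' is φ' and whose
localization is φ₁. -/
theorem result (R R' : Type u) [CommRing R] [CommRing R'] [Algebra R R'] (f : R)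
    (hRR : EtGlue.IsGlueingPair R R' f) (M N : Type u) [AddCommGroup M] [Module R M] [AddCommGroup N] [Module R N]
    (hM : EtGlue.IsGlueable R R' f M) (hN : EtGlue.IsGlueable R R' f N)
    (φ' : R' ⊗[R] M →ₗ[R'] R' ⊗[R] N)
    (φ₁ : LocalizedModule (Submonoid.powers f) M →ₗ[R] LocalizedModule (Submonoid.powers f) N)
    (hc : ∀ m : M, EtGlue.locOfTensor R R' f N (φ' ((1 : R') ⊗ₜ[R] m)) =
      EtGlue.tensorOfLoc R R' f N (φ₁ (LocalizedModule.mkLinearMap (Submonoid.powers f) M m))) :
    ∃! ψ : M →ₗ[R] N, ψ.baseChange R' = φ' ∧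
      IsLocalizedModule.map (Submonoid.powers f) (LocalizedModule.mkLinearMap (Submonoid.powers f) M)
        (LocalizedModule.mkLinearMap (Submonoid.powers f) N) ψ = φ₁ := by
  have hex : ∀ m : M, ∃ n : N, (1 : R') ⊗ₜ[R] n = φ' ((1 : R') ⊗ₜ[R] m) ∧
      LocalizedModule.mkLinearMap (Submonoid.powers f) N n =
        φ₁ (LocalizedModule.mkLinearMap (Submonoid.powers f) M m) :=
    fun m => hN.2 _ _ (hc m)
  choose σ hσ₁ hσ₂ using hex
  let ψ : M →ₗ[R] N :=
    { toFun := σ
      map_add' := fun a b => hN.1 (Prod.ext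
        (by simp [TensorProduct.tmul_add, map_add, hσ₁]) (by
          show LocalizedModule.mkLinearMap _ N (σ (a + b)) = LocalizedModule.mkLinearMap _ N (σ a + σ b)
          rw [hσ₂, map_add, map_add, map_add, hσ₂, hσ₂]))
      map_smul' := fun c a => hN.1 (Prod.ext
        (by
          show (1 : R') ⊗ₜ[R] σ (c • a) = (1 : R') ⊗ₜ[R] (c • σ a)
          rw [hσ₁, TensorProduct.tmul_smul, LinearMap.map_smul_of_tower, TensorProduct.tmul_smul, hσ₁])
        (by
          show LocalizedModule.mkLinearMap _ N (σ (c • a)) = LocalizedModule.mkLinearMap _ N (c • σ a)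
          rw [hσ₂, map_smul, map_smul, map_smul, hσ₂])) }
  refine ⟨ψ, ⟨?_, ?_⟩, fun χ hχ => LinearMap.ext fun m => hN.1 (Prod.ext ?_ ?_)⟩
  · refine TensorProduct.AlgebraTensorModule.ext fun r m => ?_
    rw [LinearMap.baseChange_tmul,
      show (r ⊗ₜ[R] m : R' ⊗[R] M) = r • ((1 : R') ⊗ₜ[R] m) by simp [TensorProduct.smul_tmul'],
      map_smul, ← hσ₁, TensorProduct.smul_tmul', smul_eq_mul, mul_one]
    rfl
  · refine IsLocalizedModule.ext (Submonoid.powers f) (LocalizedModule.mkLinearMap (Submonoid.powers f) M)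
      (IsLocalizedModule.map_units (LocalizedModule.mkLinearMap (Submonoid.powers f) N)) (LinearMap.ext fun m => ?_)
    rw [LinearMap.comp_apply, LinearMap.comp_apply, IsLocalizedModule.map_apply]
    exact hσ₂ m
  · show (1 : R') ⊗ₜ[R] χ m = (1 : R') ⊗ₜ[R] σ m
    rw [hσ₁, ← hχ.1, LinearMap.baseChange_tmul]
  · show LocalizedModule.mkLinearMap _ N (χ m) = LocalizedModule.mkLinearMap _ N (σ m)
    rw [hσ₂, ← hχ.2, IsLocalizedModule.map_apply]

end Groth.Agent.S2001
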