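import Groth.Statements.S20017
import Groth.Statements.S20017
import Groth.Agent.Tors37.Isom
import Groth.Agent.Tors37.Class
import Groth.Agent.GenSec95.Basic

set_option autoImplicit false
universe u
open CategoryTheory AlgebraicGeometry
open NonAbH1

open MonoidalCategory CartesianMonoidalCategory

namespace Groth.Agent.S20017

/-- Let X be a normal integral scheme (integral, with every local ring integrally closed), G a group
scheme over X whose structure morphism is finite and flat, and U ⊆ X a dense open subscheme. Then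
the restriction map H¹(X, G) → H¹(U, G|_U) on classes of fppf G-torsors — X-schemes with a G-action
which are pseudo-torsors and acquire sections on the members of some fppf covering family, up to
equivariant isomorphism — given by base change along the open immersion U → X, is injective. (G is
not assumed commutative; injectivity is that of a map of pointed sets.) -/
theorem result
    (X : Scheme.{u}) [AlgebraicGeometry.IsIntegral X] (hX : Pi1.IsNormalScheme X)
    (G : Over X) [GrpObj G] [IsFinite G.hom] [Flat G.hom]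
    (U : X.Opens) (hU : Dense (U : Set X)) :
    Function.Injective (NonAbH1.H1Sch.bcMap U.ι G Scheme.fppfPrecoverage) := by
  intro c₁ c₂ hc
  obtain ⟨P, rfl⟩ := Quot.exists_rep c₁
  obtain ⟨Q, rfl⟩ := Quot.exists_rep c₂
  obtain ⟨h⟩ := (Groth.Agent.Tors37.cl_eq_iff (P.bc U.ι) (Q.bc U.ι)).mp hc
  have hP : NonAbH1.IsTorsorFor Scheme.fpqcPrecoverage P.act :=
    let ⟨hps, R, hR, hsec⟩ := P.isTorsor
    ⟨hps, R, Scheme.fppfPrecoverage_le_fpqcPrecoverage _ hR, hsec⟩
  have hQ : NonAbH1.IsTorsorFor Scheme.fpqcPrecoverage Q.act :=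
    let ⟨hps, R, hR, hsec⟩ := Q.isTorsor
    ⟨hps, R, Scheme.fppfPrecoverage_le_fpqcPrecoverage _ hR, hsec⟩
  obtain ⟨E, _, hsec, hpt⟩ := Groth.Agent.Tors37.exists_isom P.act Q.act hP hQ
  refine Quot.sound (hsec ?_)
  let f := U.ι
  let he : ∀ (W' : Over (U : Scheme.{u})) (Y : Over X), ((Over.map f).obj W' ⟶ Y) ≃ (W' ⟶ Red.bc f Y) :=
    fun W' Y => (Over.mapPullbackAdj f).homEquiv W' Y
  have hnat : ∀ {W' V' : Over (U : Scheme.{u})} {Y : Over X} (m : V' ⟶ W') (p : (Over.map f).obj W' ⟶ Y),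
      he V' Y ((Over.map f).map m ≫ p) = m ≫ he W' Y p := fun m p => Adjunction.homEquiv_naturality_left _ _ _
  let ψ : ∀ {W' : Over (U : Scheme.{u})}, ((Over.map f).obj W' ⟶ P.X) → ((Over.map f).obj W' ⟶ Q.X) :=
    fun {W'} p => (he W' Q.X).symm (he W' P.X p ≫ h.iso.hom)
  have hψnat : ∀ {W' V' : Over (U : Scheme.{u})} (m : V' ⟶ W') (p : (Over.map f).obj W' ⟶ P.X),
      ψ ((Over.map f).map m ≫ p) = (Over.map f).map m ≫ ψ p := fun {W' V'} m p => by
    apply (he V' Q.X).injective
    rw [hnat, Equiv.apply_symm_apply, Equiv.apply_symm_apply, hnat, Category.assoc]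
  have hψact : ∀ {W' : Over (U : Scheme.{u})} (g : (Over.map f).obj W' ⟶ G) (p : (Over.map f).obj W' ⟶ P.X),
      ψ (lift g p ≫ P.act.act) = lift g (ψ p) ≫ Q.act.act := fun {W'} g p => by
    apply (he W' Q.X).injective
    rw [Equiv.apply_symm_apply]
    show (Over.mapPullbackAdj f).homEquiv W' P.X (lift g p ≫ P.act.act) ≫ h.iso.hom =
      (Over.mapPullbackAdj f).homEquiv W' Q.X (lift g (ψ p) ≫ Q.act.act)
    rw [← AlgGrp.Action.lift_homEquiv_bc_act, ← AlgGrp.Action.lift_homEquiv_bc_act, Category.assoc]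
    erw [h.comm]
    erw [lift_whiskerLeft_assoc]
    congr 2
    exact ((he W' Q.X).apply_symm_apply _).symm
  let T : Over X := (Over.map f).obj (Over.mk (𝟙 (U : Scheme.{u})))
  have hT : ∀ {Z : Over X} (k : Z ⟶ T), k.left ≫ f = Z.hom := fun k => by
    have := Over.w k
    simpa [T] using this
  let W₀ : Over (U : Scheme.{u}) := Over.mk (snd P.X T).left
  let ρ : (Over.map f).obj W₀ ⟶ P.X ⊗ T := Over.homMk (𝟙 _)
    ((Category.id_comp _).trans (hT (snd P.X T)).symm)
  let ρ' : P.X ⊗ T ⟶ (Over.map f).obj W₀ := Over.homMk (𝟙 _) ((Category.id_comp _).trans (hT (snd P.X T)))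
  let φ : P.X ⊗ T ⟶ Q.X := ρ' ≫ ψ (ρ ≫ fst P.X T)
  have hφpt : ∀ {Z : Over X} (p : Z ⟶ P.X) (k : Z ⟶ T),
      (Over.homMk (𝟙 _) ((Category.id_comp _).trans (hT k).symm) : (Over.map f).obj (Over.mk k.left) ⟶ Z) ≫
          lift p k ≫ φ =
        ψ ((Over.homMk (𝟙 _) ((Category.id_comp _).trans (hT k).symm) :
          (Over.map f).obj (Over.mk k.left) ⟶ Z) ≫ p) := by
    intro Z p k
    let m : Over.mk k.left ⟶ W₀ := Over.homMk (lift p k).left
      (congrArg (fun t => t.left) (lift_snd p k))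
    let ρk : (Over.map f).obj (Over.mk k.left) ⟶ Z := Over.homMk (𝟙 _) ((Category.id_comp _).trans (hT k).symm)
    have e1 : ρk ≫ lift p k ≫ ρ' = (Over.map f).map m := by
      apply Over.OverMorphism.ext
      simp [ρk, ρ', m]
    have e2 : (Over.map f).map m ≫ ρ = ρk ≫ lift p k := by
      apply Over.OverMorphism.ext
      simp [ρk, ρ, m]
    show ρk ≫ lift p k ≫ ρ' ≫ ψ (ρ ≫ fst P.X T) = ψ (ρk ≫ p)
    rw [reassoc_of% e1, ← hψnat, ← Category.assoc, e2, Category.assoc, lift_fst]
  obtain ⟨τ⟩ := hpt T φ (fun Z g p k => by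
    let ρk : (Over.map f).obj (Over.mk k.left) ⟶ Z := Over.homMk (𝟙 _) ((Category.id_comp _).trans (hT k).symm)
    have : Epi ρk := by
      have : IsIso ρk.left := inferInstanceAs (IsIso (𝟙 Z.left))
      exact Over.epi_of_epi_left ρk
    rw [← cancel_epi ρk]
    refine (hφpt (lift g p ≫ P.act.act) k).trans ?_
    show ψ (ρk ≫ lift g p ≫ P.act.act) = _
    rw [comp_lift_assoc, hψact, comp_lift_assoc, hφpt p k])
  let ξ := genericPoint X
  have hξ : Set.range (X.fromSpecStalk ξ) ⊆ Set.range U.ι := by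
    rw [Scheme.range_fromSpecStalk, Scheme.Opens.range_ι]
    intro y hy
    obtain ⟨z, hz⟩ : (U : Set X).Nonempty := hU.nonempty
    exact hy.mem_open U.2 ((genericPoint_spec X).mem_open_set_iff U.2 |>.mpr ⟨z, trivial, hz⟩)
  refine Groth.Agent.GenSec95.exists_section (fun x => (hX x).2) E.hom
    ⟨IsOpenImmersion.lift U.ι (X.fromSpecStalk ξ) hξ ≫ τ.left, ?_⟩
  rw [Category.assoc, Over.w τ]
  simp [T, f, IsOpenImmersion.lift_fac]
  rfl

end Groth.Agent.S20017
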