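import Groth.Statements.S20018
import Mathlib.RingTheory.PowerSeries.Trunc

set_option autoImplicit false
open CAlg

namespace Groth.Agent.S20018

open PowerSeries in
/-- Product expansion of big Witt vectors: let R be a commutative ring and x ∈ 1 + tR[[t]] a formal
power series with constant term 1. Then x can be written uniquely as an infinite product ∏_{i ≥ 1}
(1 - α_i t^i) with α_i ∈ R. The infinite product is expressed through its truncations: there is a
unique sequence α : ℕ → R (α i standing for the coefficient attached to t^{i+1}) such that for every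
N the series x and the finite product ∏_{i=0}^{N} (1 - α_i t^{i+1}) agree modulo t^{N+2}. -/
theorem result
    (R : Type*) [CommRing R] (x : PowerSeries R) (hx : PowerSeries.constantCoeff x = 1) :
    ∃! α : ℕ → R, ∀ N : ℕ,
      PowerSeries.trunc (N + 2) x =
        PowerSeries.trunc (N + 2) (∏ i ∈ Finset.range (N + 1),
          (1 - PowerSeries.C (α i) * PowerSeries.X ^ (i + 1) : PowerSeries R)) := by
  classical
  let P : (ℕ → R) → ℕ → PowerSeries R := fun α N =>
    ∏ i ∈ Finset.range N, (1 - PowerSeries.C (α i) * PowerSeries.X ^ (i + 1))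
  have hlow : ∀ α N j, j ≤ N → PowerSeries.coeff j (P α (N + 1)) = PowerSeries.coeff j (P α N) := by
    intro α N j hj
    show PowerSeries.coeff j (∏ i ∈ Finset.range (N + 1), _) = _
    rw [Finset.prod_range_succ, mul_sub, mul_one, map_sub, ← mul_assoc,
      PowerSeries.coeff_mul_X_pow', if_neg (by omega), sub_zero]
  have hlow' : ∀ α j M N, j ≤ M → M ≤ N →
      PowerSeries.coeff j (P α N) = PowerSeries.coeff j (P α M) := by
    intro α j M N hjM hMN
    induction N, hMN using Nat.le_induction with
    | base => rfl
    | succ N hMN ih => rw [hlow α N j (hjM.trans hMN), ih]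
  have hconst : ∀ α N, PowerSeries.constantCoeff (P α N) = 1 := fun α N => by
    simp [P, map_prod]
  have htop : ∀ α N, PowerSeries.coeff (N + 1) (P α (N + 1)) =
      PowerSeries.coeff (N + 1) (P α N) - α N := by
    intro α N
    show PowerSeries.coeff (N + 1) (∏ i ∈ Finset.range (N + 1), _) = _
    rw [Finset.prod_range_succ, mul_sub, mul_one, map_sub, ← mul_assoc,
      PowerSeries.coeff_mul_X_pow', if_pos le_rfl, Nat.sub_self, PowerSeries.coeff_zero_eq_constantCoeff_apply]
    rw [map_mul, PowerSeries.constantCoeff_C, show PowerSeries.constantCoeff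
      (∏ i ∈ Finset.range N, (1 - PowerSeries.C (α i) * PowerSeries.X ^ (i + 1))) = 1 from hconst α N,
      one_mul]
  have hiff : ∀ α : ℕ → R, (∀ N, PowerSeries.trunc (N + 2) x = PowerSeries.trunc (N + 2) (P α (N + 1))) ↔
      ∀ N, α N = PowerSeries.coeff (N + 1) (P α N) - PowerSeries.coeff (N + 1) x := by
    intro α
    constructor
    · intro h N
      have := congrArg (fun p => Polynomial.coeff p (N + 1)) (h N)
      simp only [PowerSeries.coeff_trunc, if_pos (Nat.lt_succ_self (N + 1)), htop] at this
      rw [this]; abel
    · intro h N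
      ext j
      simp only [PowerSeries.coeff_trunc]
      split_ifs with hj
      · rcases j with _ | j
        · rw [PowerSeries.coeff_zero_eq_constantCoeff_apply,
            PowerSeries.coeff_zero_eq_constantCoeff_apply, hx, hconst]
        · rw [hlow' α (j + 1) (j + 1) (N + 1) le_rfl (by omega), htop, h j]
          abel
      · rfl
  let step : ℕ → (ℕ → R) → (ℕ → R) := fun N f =>
    Function.update f N (PowerSeries.coeff (N + 1) (P f N) - PowerSeries.coeff (N + 1) x)
  let G : ℕ → ℕ → R := fun N => Nat.rec (fun _ => 0) step N
  let α : ℕ → R := fun i => G (i + 1) i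
  have hG : ∀ N i, i < N → G N i = α i := by
    intro N i hi
    induction N, (hi : i + 1 ≤ N) using Nat.le_induction with
    | base => rfl
    | succ N hN ih =>
      show Function.update (G N) N _ i = _
      rw [Function.update_of_ne (by omega)]
      exact ih
  have hPcongr : ∀ (α β : ℕ → R) N, (∀ i, i < N → α i = β i) → P α N = P β N := fun α β N h =>
    Finset.prod_congr rfl fun i hi => by rw [h i (Finset.mem_range.mp hi)]
  have hα : ∀ N, α N = PowerSeries.coeff (N + 1) (P α N) - PowerSeries.coeff (N + 1) x := by
    intro N
    show Function.update (G N) N _ N = _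
    rw [Function.update_self, hPcongr (G N) α N (hG N)]
  refine ⟨α, (hiff α).mpr hα, fun β hβ => ?_⟩
  have hb := (hiff β).mp hβ
  funext N
  induction N using Nat.strong_induction_on with
  | _ N ih => rw [hb N, hα N, hPcongr β α N ih]

end Groth.Agent.S20018
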