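import Groth.Statements.S20022
import Groth.Agent.GrMod19.Basic
import Mathlib.LinearAlgebra.Basis.Basic

set_option autoImplicit false
universe u
open GrLC

namespace Groth.Agent.S20022

/-- Let R be a commutative ℤ-graded ring whose degree-zero subring R_0 is a field k and which is the
Laurent polynomial ring k[T, T⁻¹] on a homogeneous invertible element T of positive degree d, in the
following intrinsic sense: T is a unit lying in R_d, and every nonzero homogeneous element of degree
n equals a·T^j for some a ∈ R_0 and some integer j with j·d = n (so R_n = 0 unless d divides n, and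
R_{jd} = k·T^j). Then every graded R-module M is free in the graded sense: M has an R-basis
consisting of homogeneous elements. (The other case of condition (2), R = k concentrated in degree
zero, is not included.) -/
theorem result (R : Type u) [CommRing R]
    (𝒜 : ℤ → AddSubgroup R) [GradedRing 𝒜] (h0 : IsField (GrLC.deg0 𝒜))
    (d : ℤ) (hd : 0 < d) (T : Rˣ) (hT : (T : R) ∈ 𝒜 d)
    (hA : ∀ (n : ℤ) (x : R), x ∈ 𝒜 n → x ≠ 0 →
      ∃ j : ℤ, ∃ a ∈ 𝒜 0, j * d = n ∧ x = a * ((T ^ j : Rˣ) : R))
    (M : Type u) [AddCommGroup M] [Module R M] (ℳ : ℤ → AddSubgroup M)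
    [DirectSum.Decomposition ℳ] [SetLike.GradedSMul 𝒜 ℳ] :
    ∃ (κ : Type u) (b : Module.Basis κ R M), ∀ i : κ, SetLike.IsHomogeneousElem ℳ (b i) := by
  classical
  let v : {m : M // SetLike.IsHomogeneousElem ℳ m} → M := Subtype.val
  obtain ⟨s, hs, hmax⟩ := exists_maximal_linearIndepOn R v
  have hunit : ∀ (n : ℤ) (c : R), c ∈ 𝒜 n → c ≠ 0 → IsUnit c := by
    intro n c hc hc0
    obtain ⟨j, a, ha, -, rfl⟩ := hA n c hc hc0
    have ha0 : (⟨a, ha⟩ : GrLC.deg0 𝒜) ≠ 0 := fun h => hc0 (by rw [show a = 0 from congrArg Subtype.val h, zero_mul])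
    obtain ⟨b, hb⟩ := h0.mul_inv_cancel ha0
    exact (IsUnit.of_mul_eq_one _ (congrArg Subtype.val hb)).mul (T ^ j).isUnit
  have hspan : ⊤ ≤ Submodule.span R (Set.range fun i : s => v i) := by
    intro m hm0
    clear hm0
    induction m using Groth.Agent.GrMod19.piece_induction ℳ with
    | h0 => exact zero_mem _
    | hadd y z hy hz => exact add_mem hy hz
    | hp g x hx =>
      by_cases hxs : (⟨x, g, hx⟩ : {m : M // SetLike.IsHomogeneousElem ℳ m}) ∈ s
      · exact Submodule.subset_span ⟨⟨_, hxs⟩, rfl⟩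
      obtain ⟨c, hc0, hc⟩ := hmax _ hxs
      obtain ⟨i, hi⟩ : ∃ i, Groth.Agent.GrMod19.cmp 𝒜 i c ≠ 0 := by
        by_contra h
        exact hc0 (Groth.Agent.GrMod19.eq_zero_of_cmp 𝒜 fun i => by_contra fun h' => h ⟨i, h'⟩)
      rw [Set.range_comp' v, Subtype.range_coe]
      have := Groth.Agent.GrMod19.isHomogeneous_span 𝒜 ℳ (s := v '' s) (by
        rintro _ ⟨w, -, rfl⟩
        exact w.2) (i + g) hc
      change Groth.Agent.GrMod19.cmp ℳ (i + g) (c • x) ∈ _ at this
      rw [Groth.Agent.GrMod19.cmp_smul_homog_right 𝒜 ℳ _ hx, add_sub_cancel_right] at this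
      exact (Submodule.smul_mem_iff_of_isUnit _ (hunit i _ (Groth.Agent.GrMod19.cmp_mem 𝒜 i c) hi)).1 this
  exact ⟨s, Module.Basis.mk hs hspan, fun i => by rw [Module.Basis.mk_apply]; exact i.1.2⟩

end Groth.Agent.S20022
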