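import Groth.Statements.S20026
import Groth.Agent.Ega11.NodeLengths
-- import your own Groth.Agent.* helpers here

set_option autoImplicit false
universe u
open CategoryTheory CategoryTheory.Limits AlgebraicGeometry
open TFNodal

namespace Groth.Agent.S20026

/-- Let k be algebraically closed of characteristic zero, X a connected proper curve over k (dimension
one) whose closed points are smooth points or nodes, and π : Y → X its normalization, given as a
finite morphism from a smooth k-scheme that is an isomorphism over the complement U of the nodes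
with dense preimage of U; let F be a coherent O_X-module, torsion free of rank r with type a(x) at
each node x (stalk free of rank r off the nodes, isomorphic to O_x^{a(x)} ⊕ m_x^{r − a(x)} at a node
x). Let p : π^*F → E₀ be an epimorphism onto a locally free O_Y-module of rank r, β : F → π_*E₀ the
composite of the unit with π_*p, and let i : F → π_*E be a monomorphism into the direct image of a
locally free O_Y-module E of rank r, factored as i = β ≫ π_*λ with λ : E₀ → E. Then at every node x
the stalk of coker(i) has length a(x) plus the length of the stalk of coker(π_*λ), and at every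
other point the two stalks have the same length (lengths over the local ring O_{X,x}, valued in ℕ∞).
The published statement compares only the total lengths (that of coker(i) exceeds that of
coker(π_*λ) by the sum of the types a(x) over the nodes); the statement here gives the comparison at
each point. -/
theorem result (k : Type u) [Field k] [IsAlgClosed k] [CharZero k]
    (X : Scheme.{u}) [X.Over (Spec (CommRingCat.of k))] [IsProper (X ↘ Spec (CommRingCat.of k))]
    [ConnectedSpace X] (hdim : topologicalKrullDim X = 1) (hnod : Curv2.AtWorstNodal k X)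
    (Y : Scheme.{u}) (π : Y ⟶ X) [IsFinite π] [Smooth (π ≫ (X ↘ Spec (CommRingCat.of k)))]
    (U : X.Opens) (hU : ∀ x : X, x ∈ U ↔ ¬ Curv2.IsNode k X x) (hUiso : IsIso (π ∣_ U))
    (hUd : Dense ((π ⁻¹ᵁ U : Y.Opens) : Set Y))
    (r : ℕ) (F : X.Modules) (hF : Coh.IsCoh F) (a : X → ℕ)
    (hfree : ∀ x : X, ¬ Curv2.IsNode k X x →
      Nonempty (F.presheaf.stalk x ≃ₗ[X.presheaf.stalk x] (Fin r → X.presheaf.stalk x)))
    (htype : ∀ x : X, Curv2.IsNode k X x → a x ≤ r ∧
      Nonempty (F.presheaf.stalk x ≃ₗ[X.presheaf.stalk x]
        ((Fin (a x) → X.presheaf.stalk x) × (Fin (r - a x) → IsLocalRing.maximalIdeal (X.presheaf.stalk x)))))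
    (E₀ : Y.Modules) (hE₀ : FlatMod.IsFinLocFreeOfRank r E₀)
    (p : (Scheme.Modules.pullback π).obj F ⟶ E₀) [Epi p]
    (E : Y.Modules) (hE : FlatMod.IsFinLocFreeOfRank r E)
    (i : F ⟶ (Scheme.Modules.pushforward π).obj E) [Mono i]
    (lam : E₀ ⟶ E) (hlam : (Scheme.Modules.pullbackPushforwardAdjunction π).unit.app F ≫
      (Scheme.Modules.pushforward π).map p ≫ (Scheme.Modules.pushforward π).map lam = i) :
    (∀ x : X, Curv2.IsNode k X x →
      Module.length (X.presheaf.stalk x) ((cokernel i).presheaf.stalk x) =
        (a x : ℕ∞) + Module.length (X.presheaf.stalk x)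
          ((cokernel ((Scheme.Modules.pushforward π).map lam)).presheaf.stalk x)) ∧
    (∀ x : X, ¬ Curv2.IsNode k X x →
      Module.length (X.presheaf.stalk x) ((cokernel i).presheaf.stalk x) =
        Module.length (X.presheaf.stalk x)
          ((cokernel ((Scheme.Modules.pushforward π).map lam)).presheaf.stalk x)) := by
  have : F.IsQuasicoherent := hF.1
  have hS : Ega11.NodeModules.Setting k X Y π U := ⟨hnod, hU, hUiso, hUd⟩
  have hi : Ega11.NodeLengths.β π E₀ p ≫ (Scheme.Modules.pushforward π).map lam = i :=
    (Category.assoc _ _ _).trans hlam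
  have hmono : Mono (Ega11.NodeLengths.β π E₀ p ≫ (Scheme.Modules.pushforward π).map lam) :=
    hi.symm ▸ inferInstanceAs (Mono i)
  subst hi
  refine ⟨fun x hx => ?_, fun x hx => ?_⟩
  · rw [Ega11.NodeLengths.length_comp π hS r a hfree htype E₀ hE₀ p lam hmono x,
      (Ega11.NodeLengths.exists_beta_data π hS r a hfree htype E₀ hE₀ p hx).1]
  · have hs := (Ega11.NodeLengths.bijective_beta π hS r hfree E₀ hE₀ p ((hU x).2 hx)).2
    have : LinearMap.range (QC70.stalkLinear (Ega11.NodeLengths.β π E₀ p) x) = ⊤ := LinearMap.range_eq_top.2 hs
    rw [Ega11.NodeLengths.length_comp π hS r a hfree htype E₀ hE₀ p lam hmono x, this]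
    have h0 : Subsingleton (((Scheme.Modules.pushforward π).obj E₀).presheaf.stalk x ⧸
        (⊤ : Submodule (X.presheaf.stalk x) (((Scheme.Modules.pushforward π).obj E₀).presheaf.stalk x))) :=
      Submodule.Quotient.subsingleton_iff.2 rfl
    rw [Module.length_eq_zero, zero_add]

end Groth.Agent.S20026
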