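import Groth.Statements.S20027
import Groth.Agent.GrMod19.PolyGrade
import Groth.Agent.GrMod19.Gor.CanonShift
import Groth.Agent.GrCI54.Sop
import Groth.Agent.Gor18.Poly
import Groth.Agent.S18655

set_option autoImplicit false
universe u
open GrLC

namespace Groth.Agent.S20027

/-- Let k be a field, s ≥ 1, d ≥ 1, and R = k[X_1, …, X_s] graded with every variable in degree 1.
Present the Veronese subring R^(d) = ⊕_j R_{jd} as a commutative ring R' with an injective ring
homomorphism φ : R' → R whose image is the set of polynomials whose homogeneous components in all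
degrees not divisible by d are zero, and let m' be the maximal ideal of R' that is the preimage of
the ideal of polynomials with zero constant term (the irrelevant ideal of R^(d)). Let n be the least
integer such that n ≥ s and d divides n. Then the type of R^(d), namely the Bass number μ_s(m', R')
= dim over the residue field of Ext^s over the local ring R'_{m'} from its residue field to R'_{m'}
(here s = dim R'), equals the binomial coefficient (n − 1 choose s − 1). -/
theorem result (k : Type u) [Field k] (s d : ℕ) (hs : 1 ≤ s)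
    (hd : 1 ≤ d) (R' : Type u) [CommRing R'] (φ : R' →+* MvPolynomial (Fin s) k)
    (hφ : Function.Injective φ)
    (hrange : ∀ p : MvPolynomial (Fin s) k, p ∈ φ.range ↔
      ∀ j : ℕ, ¬ d ∣ j → MvPolynomial.homogeneousComponent j p = 0)
    (m' : Ideal R') [m'.IsMaximal]
    (hm' : m' = Ideal.comap φ (RingHom.ker (MvPolynomial.constantCoeff : MvPolynomial (Fin s) k →+* k)))
    (n : ℕ) (hsn : s ≤ n) (hdn : d ∣ n) (hmin : ∀ n' : ℕ, s ≤ n' → d ∣ n' → n ≤ n') :
    GrLC.bassNum m' R' s = (Nat.choose (n - 1) (s - 1) : ℕ∞) := by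
  classical
  let W := GrMod19.polyPiece k s
  have hcmp : ∀ (n : ℕ) (p : MvPolynomial (Fin s) k), GrMod19.cmp W (n : ℤ) p = MvPolynomial.homogeneousComponent n p :=
    GrMod19.cmp_polyPiece
  have hpos : ∀ j : ℤ, j < 0 → W j = ⊥ := fun j hj => GrMod19.polyPiece_eq_bot hj
  have hpn : GrMod19.NonnegGr W := fun j hj x hx => AddSubgroup.mem_bot.1 (hpos j hj ▸ hx)
  have hC : ∀ x ∈ W 0, x = MvPolynomial.C (MvPolynomial.coeff 0 x) := fun x hx => by
    conv_lhs => rw [← GrMod19.cmp_of_mem W hx, show (0 : ℤ) = ((0 : ℕ) : ℤ) from rfl, hcmp,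
      MvPolynomial.homogeneousComponent_zero]
  have hC' : ∀ c : k, MvPolynomial.C c ∈ W 0 := fun c =>
    (GrMod19.mem_polyPiece_nat (n := 0)).2 (MvPolynomial.isHomogeneous_C _ c)
  have hcc : ∀ x : MvPolynomial (Fin s) k, MvPolynomial.constantCoeff x = 0 ↔ GrMod19.cmp W 0 x = 0 := fun x => by
    rw [show (0 : ℤ) = ((0 : ℕ) : ℤ) from rfl, hcmp, MvPolynomial.homogeneousComponent_zero,
      MvPolynomial.constantCoeff_eq, MvPolynomial.C_eq_zero]
  have h0 : IsField (GrLC.deg0 W) := by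
    refine ⟨⟨0, 1, fun h => ?_⟩, mul_comm, fun {a} ha => ?_⟩
    · have := congrArg Subtype.val h
      exact zero_ne_one (α := MvPolynomial (Fin s) k) this
    · refine ⟨⟨MvPolynomial.C (MvPolynomial.coeff 0 (a : MvPolynomial (Fin s) k))⁻¹, hC' _⟩, Subtype.ext ?_⟩
      show (a : MvPolynomial (Fin s) k) * _ = 1
      conv_lhs => arg 1; rw [hC _ a.2]
      rw [← map_mul, mul_inv_cancel₀ (fun h => ha (Subtype.ext ((hC _ a.2).trans (by rw [h, map_zero]; rfl)))),
        map_one]
  have hX : ∀ i, (MvPolynomial.X i : MvPolynomial (Fin s) k) ∈ W 1 := fun i =>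
    (GrMod19.mem_polyPiece_nat (n := 1)).2 (MvPolynomial.isHomogeneous_X k i)
  let 𝔪 : Ideal (MvPolynomial (Fin s) k) := RingHom.ker MvPolynomial.constantCoeff
  have hplus : ∀ j : ℤ, 0 < j → ∀ x ∈ W j, x ∈ 𝔪 := fun j hj x hx =>
    RingHom.mem_ker.2 ((hcc x).2 (GrMod19.cmp_of_ne W hx hj.ne'))
  have hmspan : 𝔪 = Ideal.span (Set.range (MvPolynomial.X : Fin s → MvPolynomial (Fin s) k)) := by
    refine le_antisymm (fun x hx => ?_) (Ideal.span_le.2 ?_)
    · rw [← Set.image_univ, MvPolynomial.mem_ideal_span_X_image]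
      intro m hm
      obtain ⟨i, hi⟩ : ∃ i, m i ≠ 0 := by
        by_contra h
        push Not at h
        refine (MvPolynomial.mem_support_iff.1 hm) ?_
        rw [show m = 0 from Finsupp.ext h, ← MvPolynomial.constantCoeff_eq]
        exact RingHom.mem_ker.1 hx
      exact ⟨i, Set.mem_univ i, hi⟩
    · rintro _ ⟨i, rfl⟩
      exact hplus 1 one_pos _ (hX i)
  have hsp : 𝔪 = Ideal.span (⋃ j ∈ Set.Ioi (0 : ℤ), (W j : Set (MvPolynomial (Fin s) k))) := by
    refine le_antisymm ?_ (Ideal.span_le.2 fun x hx => ?_)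
    · rw [hmspan, Ideal.span_le]
      rintro _ ⟨i, rfl⟩
      exact Ideal.subset_span (Set.mem_biUnion (show (1 : ℤ) ∈ Set.Ioi 0 from Set.mem_Ioi.2 one_pos) (hX i))
    · obtain ⟨j, hj, hxj⟩ := Set.mem_iUnion₂.1 hx
      exact hplus j hj x hxj
  let m : HomogeneousIdeal W := ⟨𝔪, fun i x hx => RingHom.mem_ker.2 ((hcc _).2 (by
    show GrMod19.cmp W 0 (GrMod19.cmp W i x) = 0
    rcases eq_or_ne i 0 with rfl | h
    · rw [GrMod19.cmp_of_mem W (GrMod19.cmp_mem W 0 x)]; exact (hcc x).1 (RingHom.mem_ker.1 hx)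
    · exact GrMod19.cmp_of_ne W (GrMod19.cmp_mem W i x) h))⟩
  have hle : ∀ J : HomogeneousIdeal W, J ≠ ⊤ → J ≤ m := fun J hJ x hx => by
    by_contra hne
    have hne' : GrMod19.cmp W 0 x ≠ 0 := fun h => hne (RingHom.mem_ker.2 ((hcc x).2 h))
    obtain ⟨b, hb⟩ := h0.mul_inv_cancel (a := ⟨_, GrMod19.cmp_mem W 0 x⟩) (fun h => hne' (congrArg Subtype.val h))
    refine hJ (HomogeneousIdeal.toIdeal_injective ?_)
    rw [HomogeneousIdeal.toIdeal_top]
    exact Ideal.eq_top_of_isUnit_mem _ (J.isHomogeneous 0 hx) (IsUnit.of_mul_eq_one _ (congrArg Subtype.val hb))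
  have hne : m ≠ ⊤ := fun h => by
    have h1 : (1 : MvPolynomial (Fin s) k) ∈ 𝔪 := by
      show (1 : MvPolynomial (Fin s) k) ∈ m.toIdeal
      rw [h, HomogeneousIdeal.toIdeal_top]
      exact Submodule.mem_top
    exact one_ne_zero ((map_one MvPolynomial.constantCoeff).symm.trans (RingHom.mem_ker.1 h1))
  have hm : GrLC.IsStarLocal W m :=
    ⟨⟨hne, fun J hJ => by_contra fun h => (lt_of_lt_of_le hJ (hle J h)).false⟩,
      fun J hJ => by_contra fun h => hne (hJ.2 m (lt_of_le_of_ne (hle J hJ.1) h))⟩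
  have hstd : Ideal.span (⋃ j ∈ Set.Ioi (0 : ℤ), (W j : Set (MvPolynomial (Fin s) k))) =
      Ideal.span ((W 1 : AddSubgroup _) : Set (MvPolynomial (Fin s) k)) := by
    refine le_antisymm (hsp ▸ ?_) (Ideal.span_mono fun x hx => Set.mem_biUnion (show (1 : ℤ) ∈ Set.Ioi 0 from Set.mem_Ioi.2 one_pos) hx)
    rw [hmspan, Ideal.span_le]
    rintro _ ⟨i, rfl⟩
    exact Ideal.subset_span (hX i)
  have := Gor18.gorRing_of_pid k
  have := Gor18.gorRing_mvPolynomial k s
  have := GrMod19.cm_of_gorenstein (MvPolynomial (Fin s) k)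
  have hdim : ringKrullDim (MvPolynomial (Fin s) k) = s := by simp
  obtain ⟨I⟩ := GrInj18.nonempty_starInjRes W W
  have ha := GrMod19.Gor.endDeg_of_regular hpos h0 hm hsp hdim I MvPolynomial.X (fun _ => 1) hX hmspan.symm
    GrCI54.isWeaklyRegular_X
  -- the grading of the subring
  have hmem : ∀ (j : ℤ), ∀ x ∈ W (j * (d : ℤ)), x ∈ φ.range := fun j x hx => (hrange x).2 fun i hi => by
    rw [← hcmp]
    refine GrMod19.cmp_of_ne W hx fun h => hi ?_
    exact Int.natCast_dvd_natCast.1 (h ▸ dvd_mul_left (d : ℤ) j)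
  let V : ℤ → AddSubgroup R' := fun j => (W (j * (d : ℤ))).comap φ.toAddMonoidHom
  have hV : ∀ {j : ℤ} {x : R'}, x ∈ V j ↔ φ x ∈ W (j * (d : ℤ)) := Iff.rfl
  have hdeg : ∀ j : ℤ, (V j).map (φ : R' →+ MvPolynomial (Fin s) k) = W (j * (d : ℤ)) := fun j => by
    refine le_antisymm (AddSubgroup.map_le_iff_le_comap.2 le_rfl) fun x hx => ?_
    obtain ⟨y, rfl⟩ := hmem j x hx
    exact ⟨y, hV.2 hx, rfl⟩
  have hpex : ∀ (j : ℤ) (x : R'), ∃ y, φ y = GrMod19.cmp W (j * (d : ℤ)) (φ x) := fun j x =>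
    hmem j _ (GrMod19.cmp_mem W _ _)
  choose pr hpr using hpex
  let π : ℤ → R' →+ R' := fun j => AddMonoidHom.mk' (pr j) fun x y => hφ (by rw [map_add, hpr, hpr, hpr, map_add, map_add])
  have hπ : ∀ j x, φ (π j x) = GrMod19.cmp W (j * (d : ℤ)) (φ x) := hpr
  have hd0 : (d : ℤ) ≠ 0 := by omega
  have hnd : ∀ (x : R') (e : ℤ), ¬ (d : ℤ) ∣ e → GrMod19.cmp W e (φ x) = 0 := fun x e he => by
    rcases lt_or_ge e 0 with h | h
    · exact hpn e h _ (GrMod19.cmp_mem W e _)
    · lift e to ℕ using h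
      rw [hcmp]
      exact (hrange (φ x)).1 ⟨x, rfl⟩ e fun h => he (Int.natCast_dvd_natCast.2 h)
  have hint : DirectSum.IsInternal V := GrMod19.isInternal_of_proj π V
    (fun j x => hV.2 (by rw [hπ]; exact GrMod19.cmp_mem W _ _))
    (fun j x hx => hφ (by rw [hπ, GrMod19.cmp_of_mem W (hV.1 hx)]))
    (fun j e x hx hne => hφ (by rw [hπ, map_zero, GrMod19.cmp_of_ne W (hV.1 hx) fun h => hne (mul_right_cancel₀ hd0 h)]))
    (fun x => by
      refine ⟨((GrMod19.finite_cmp_ne_zero W (φ x)).toFinset).image (· / (d : ℤ)), hφ ?_⟩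
      rw [map_sum]
      simp_rw [hπ]
      refine GrMod19.eq_of_cmp W fun e => ?_
      rw [map_sum]
      by_cases he : GrMod19.cmp W e (φ x) = 0
      · rw [he]
        refine Finset.sum_eq_zero fun j _ => ?_
        rcases eq_or_ne (j * (d : ℤ)) e with h | h
        · rw [h, GrMod19.cmp_of_mem W (GrMod19.cmp_mem W _ _), he]
        · exact GrMod19.cmp_of_ne W (GrMod19.cmp_mem W _ _) h
      · obtain ⟨j, rfl⟩ : (d : ℤ) ∣ e := by_contra fun h => he (hnd x e h)
        rw [Finset.sum_eq_single j, mul_comm, GrMod19.cmp_of_mem W (GrMod19.cmp_mem W _ _)]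
        · exact fun i _ hi => GrMod19.cmp_of_ne W (GrMod19.cmp_mem W _ _) fun h => hi (by
            rw [mul_comm (d : ℤ)] at h; exact mul_right_cancel₀ hd0 h)
        · exact fun h => (h (Finset.mem_image.2 ⟨(d : ℤ) * j, (Set.Finite.mem_toFinset _).2
            (show (d : ℤ) * j ∈ {e | GrMod19.cmp W e (φ x) ≠ 0} from he), Int.mul_ediv_cancel_left j hd0⟩)).elim)
  have hmon : SetLike.GradedMonoid V :=
    { one_mem := hV.2 (by rw [map_one, zero_mul]; exact SetLike.GradedOne.one_mem)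
      mul_mem := fun i j x y hx hy => hV.2 (by
        rw [map_mul, add_mul]; exact SetLike.GradedMul.mul_mem (A := W) (hV.1 hx) (hV.1 hy)) }
  let : GradedRing V := { hmon, hint.chooseDecomposition with }
  have hm'V : ∀ x, x ∈ m' ↔ GrMod19.cmp W 0 (φ x) = 0 := fun x => by
    rw [hm', Ideal.mem_comap, RingHom.mem_ker, hcc]
  have hm'sp : m' = Ideal.span (⋃ j ∈ Set.Ioi (0 : ℤ), (V j : Set R')) := by
    refine le_antisymm (fun x hx => ?_) (Ideal.span_le.2 fun x hx => ?_)
    · obtain ⟨t, ht⟩ := GrMod19.exists_sum_cmp V x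
      rw [← ht]
      refine sum_mem fun j _ => ?_
      rcases lt_trichotomy j 0 with h | rfl | h
      · have : φ (GrMod19.cmp V j x) = 0 := hpn _ (mul_neg_of_neg_of_pos h (by omega)) _
          (hV.1 (GrMod19.cmp_mem V j x))
        rw [hφ (this.trans (map_zero φ).symm)]
        exact zero_mem _
      · have h1 : φ (GrMod19.cmp V 0 x) = GrMod19.cmp W 0 (φ x) := by
          obtain ⟨t', ht'⟩ := GrMod19.exists_sum_cmp V x
          conv_rhs => rw [← ht', map_sum, map_sum]
          rw [Finset.sum_eq_single 0]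
          · rw [GrMod19.cmp_of_mem W (by simpa using hV.1 (GrMod19.cmp_mem V 0 x))]
          · exact fun i _ hi => GrMod19.cmp_of_ne W (hV.1 (GrMod19.cmp_mem V i x)) (mul_ne_zero hi hd0)
          · intro h
            have h2 : GrMod19.cmp V 0 x = 0 := by
              rw [← ht', map_sum]
              exact Finset.sum_eq_zero fun i hi => GrMod19.cmp_of_ne V (GrMod19.cmp_mem V i x) (fun e => h (e ▸ hi))
            rw [h2, map_zero, map_zero]
        rw [hφ (h1.trans (((hm'V x).1 hx).trans (map_zero φ).symm))]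
        exact zero_mem _
      · exact Ideal.subset_span (Set.mem_biUnion (show j ∈ Set.Ioi 0 from h) (GrMod19.cmp_mem V j x))
    · obtain ⟨j, hj, hxj⟩ := Set.mem_iUnion₂.1 hx
      exact (hm'V x).2 (GrMod19.cmp_of_ne W (hV.1 hxj) (mul_pos hj (by omega)).ne')
  have hhom : m'.IsHomogeneous V := hm'sp ▸ Ideal.homogeneous_span _ _ fun x hx => by
    obtain ⟨j, -, hxj⟩ := Set.mem_iUnion₂.1 hx
    exact ⟨j, hxj⟩
  let M' : HomogeneousIdeal V := ⟨m', hhom⟩
  have : M'.toIdeal.IsMaximal := ‹m'.IsMaximal›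
  have hnd' : n < s + d := by
    by_contra h
    obtain ⟨c, rfl⟩ := hdn
    have h1 := hmin (d * c - d) (by omega) ⟨c - 1, by rw [Nat.mul_sub, mul_one]⟩
    omega
  have key := S18655.result (MvPolynomial (Fin s) k) W hpos h0 m hm hsp hstd s hdim I _ ha d (by omega) R' V φ hφ
    hdeg M' hm'sp ((n - s : ℕ) : ℤ) (Int.natCast_nonneg _) (by exact_mod_cast (by omega : n - s < d)) (by
      simp only [Finset.sum_const, Finset.card_univ, Fintype.card_fin, nsmul_eq_mul, mul_one]
      rw [Nat.cast_sub hsn]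
      refine ⟨-((n / d : ℕ) : ℤ), ?_⟩
      have : ((d : ℤ) * ((n / d : ℕ) : ℤ)) = n := by exact_mod_cast Nat.mul_div_cancel' hdn
      linarith)
  refine key.trans (congrArg _ ?_)
  let i : k → GrLC.deg0 W := fun c => ⟨MvPolynomial.C c, hC' c⟩
  have hi : Function.Bijective i := ⟨fun a b h => MvPolynomial.C_injective _ _ (congrArg Subtype.val h),
    fun x => ⟨MvPolynomial.coeff 0 (x : MvPolynomial (Fin s) k), Subtype.ext (hC _ x.2).symm⟩⟩
  let jj : MvPolynomial.homogeneousSubmodule (Fin s) k (n - s) ≃+ GrLC.comp W W ((n - s : ℕ) : ℤ) :=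
    { toFun := fun x => ⟨x.1, GrMod19.mem_polyPiece_nat.2 x.2⟩
      invFun := fun x => ⟨x.1, GrMod19.mem_polyPiece_nat.1 x.2⟩
      left_inv := fun _ => rfl
      right_inv := fun _ => rfl
      map_add' := fun _ _ => rfl }
  have hrank := rank_eq_of_equiv_equiv i jj hi fun c x =>
    Subtype.ext (MvPolynomial.smul_eq_C_mul (x : MvPolynomial (Fin s) k) c)
  rw [Module.finrank, ← hrank, ← Module.finrank, GrMod19.finrank_forms, show s + (n - s) - 1 = n - 1 by omega,
    ← Nat.choose_symm (show n - s ≤ n - 1 by omega), show n - 1 - (n - s) = s - 1 by omega]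

end Groth.Agent.S20027
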