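import Groth.Statements.S2006
import Groth.Agent.EtAlg23.GlueBasic
import Mathlib.RingTheory.Finiteness.Basic
import Mathlib.RingTheory.Localization.Finiteness
import Mathlib.RingTheory.TensorProduct.Finite

set_option autoImplicit false
universe u
open TensorProduct
open EtAlg

namespace Groth.Agent.S2006

/-- Let R -> R' induce bijections R/f^n R -> R'/f^n R' for all n > 0 and let M be an R-module. Then M is
finitely generated if and only if R' ⊗_R M is finitely generated over R' and M_f is finitely
generated over R_f. -/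
theorem result (R R' : Type u) [CommRing R] [CommRing R'] [Algebra R R'] (f : R)
    (hq : EtGlue.QuotPowBijective R R' f) (M : Type u) [AddCommGroup M] [Module R M] :
    Module.Finite R M ↔ Module.Finite R' (R' ⊗[R] M) ∧
      Module.Finite (Localization.Away f) (LocalizedModule (Submonoid.powers f) M) := by
  refine ⟨fun h => ⟨inferInstance,
    Module.Finite.of_isLocalizedModule (Submonoid.powers f) (LocalizedModule.mkLinearMap (Submonoid.powers f) M)⟩, ?_⟩
  rintro ⟨⟨⟨s, hs⟩⟩, ⟨⟨t, ht⟩⟩⟩
  classical
  have hgen : ∀ x : R' ⊗[R] M, ∃ N : Submodule R M, N.FG ∧ x ∈ LinearMap.range (N.subtype.baseChange R') := by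
    intro x
    induction x using TensorProduct.induction_on with
    | zero => exact ⟨⊥, Submodule.fg_bot, zero_mem _⟩
    | tmul r m => exact ⟨Submodule.span R {m}, Submodule.fg_span_singleton m,
        r ⊗ₜ ⟨m, Submodule.mem_span_singleton_self m⟩, rfl⟩
    | add a b ha hb =>
      obtain ⟨N₁, h₁, y₁, rfl⟩ := ha
      obtain ⟨N₂, h₂, y₂, rfl⟩ := hb
      refine ⟨N₁ ⊔ N₂, h₁.sup h₂, (Submodule.inclusion le_sup_left).baseChange R' y₁ +
        (Submodule.inclusion le_sup_right).baseChange R' y₂, ?_⟩
      rw [map_add, ← LinearMap.comp_apply, ← LinearMap.comp_apply, ← LinearMap.baseChange_comp,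
        ← LinearMap.baseChange_comp, Submodule.subtype_comp_inclusion, Submodule.subtype_comp_inclusion]
  choose Ns hfg hNs using hgen
  choose k n hn using fun y : LocalizedModule (Submonoid.powers f) M =>
    Groth.Agent.EtAlg23.loc_surj (f := f) (LocalizedModule.mkLinearMap (Submonoid.powers f) M) y
  let N : Submodule R M := s.sup Ns ⊔ Submodule.span R (t.image n : Set M)
  have hN : N.FG := (Submodule.fg_finset_sup s Ns fun i _ => hfg i).sup ⟨_, rfl⟩
  suffices N = ⊤ from ⟨this ▸ hN⟩
  have hQ1 : ∀ x : R' ⊗[R] M, N.mkQ.lTensor R' x = 0 := by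
    intro x
    have hx : x ∈ Submodule.span R' (s : Set (R' ⊗[R] M)) := hs ▸ Submodule.mem_top
    have : Submodule.span R' (s : Set (R' ⊗[R] M)) ≤ LinearMap.ker (N.mkQ.baseChange R') := by
      refine Submodule.span_le.2 fun y hy => ?_
      obtain ⟨z, hz⟩ := hNs y
      rw [SetLike.mem_coe, LinearMap.mem_ker, ← hz, ← LinearMap.comp_apply, ← LinearMap.baseChange_comp]
      have : N.mkQ.comp (Ns y).subtype = 0 := LinearMap.ext fun v =>
        (Submodule.Quotient.mk_eq_zero N).2 ((le_sup_left : _ ≤ N) (Finset.le_sup (f := Ns) hy v.2))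
      rw [this, LinearMap.baseChange_zero, LinearMap.zero_apply]
    exact this hx
  have hQ2 : ∀ q : M ⧸ N, ∃ l : ℕ, f ^ l • q = 0 := by
    let j := LocalizedModule.mkLinearMap (Submonoid.powers f) (M ⧸ N)
    intro q
    obtain ⟨m, rfl⟩ := N.mkQ_surjective q
    refine (Groth.Agent.EtAlg23.loc_eq_zero_iff (f := f) j).1 ?_
    let φ := (IsLocalizedModule.map (Submonoid.powers f) (LocalizedModule.mkLinearMap (Submonoid.powers f) M) j N.mkQ).extendScalarsOfIsLocalization
      (Submonoid.powers f) (Localization.Away f)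
    have hφ : Submodule.span (Localization.Away f) (t : Set (LocalizedModule (Submonoid.powers f) M)) ≤ LinearMap.ker φ := by
      refine Submodule.span_le.2 fun y hy => ?_
      rw [SetLike.mem_coe, LinearMap.mem_ker]
      refine Groth.Agent.EtAlg23.loc_pow_inj (f := f) j (k y) ?_
      rw [smul_zero]
      show f ^ k y • IsLocalizedModule.map (Submonoid.powers f) _ j N.mkQ y = 0
      rw [← map_smul, hn, IsLocalizedModule.map_apply, Submodule.mkQ_apply,
        (Submodule.Quotient.mk_eq_zero N).2 ((le_sup_right : _ ≤ N) (Submodule.subset_span (Finset.mem_image_of_mem n hy))), map_zero]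
    have := hφ (show LocalizedModule.mkLinearMap (Submonoid.powers f) M m ∈ Submodule.span (Localization.Away f) (t : Set (LocalizedModule (Submonoid.powers f) M)) from ht ▸ Submodule.mem_top)
    rw [LinearMap.mem_ker] at this
    exact (IsLocalizedModule.map_apply _ _ _ _ m).symm.trans this
  rw [eq_top_iff]
  intro m _
  rw [← Submodule.Quotient.mk_eq_zero N]
  refine (Groth.Agent.EtAlg23.mk_bijective_of_torsion hq hQ2).1 ?_
  rw [map_zero]
  exact hQ1 ((1 : R') ⊗ₜ[R] m)

end Groth.Agent.S2006
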