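import Groth.Statements.S2003
import Groth.Agent.EtAlg23.GlueFlat
import Groth.Agent.S2006
import Mathlib.RingTheory.Flat.EquationalCriterion
import Mathlib.Algebra.Module.LocalizedModule.Exact

set_option autoImplicit false
universe u
open TensorProduct
open EtAlg

namespace Groth.Agent.S2003

/-- Let (R -> R', f) be a glueing pair and M any R-module. Then M is finite projective over R exactly
when both of its base changes are: R' ⊗_R M over R', and M_f over R_f. -/
theorem result (R R' : Type u) [CommRing R] [CommRing R'] [Algebra R R'] (f : R)
    (hRR : EtGlue.IsGlueingPair R R' f) (M : Type u) [AddCommGroup M] [Module R M] :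
    (Module.Finite R M ∧ Module.Projective R M) ↔
      (Module.Finite R' (R' ⊗[R] M) ∧ Module.Projective R' (R' ⊗[R] M)) ∧
      (Module.Finite (Localization.Away f) (LocalizedModule (Submonoid.powers f) M) ∧
        Module.Projective (Localization.Away f) (LocalizedModule (Submonoid.powers f) M)) := by
  have hbc := IsLocalizedModule.isBaseChange (Submonoid.powers f) (Localization.Away f)
    (LocalizedModule.mkLinearMap (Submonoid.powers f) M)
  refine ⟨fun ⟨hfin, hproj⟩ => ⟨⟨inferInstance, inferInstance⟩,
    Module.Finite.of_isLocalizedModule (Submonoid.powers f) (LocalizedModule.mkLinearMap (Submonoid.powers f) M),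
    Module.Projective.of_equiv hbc.equiv⟩, ?_⟩
  rintro ⟨⟨hfin', hproj'⟩, hfin₁, hproj₁⟩
  haveI hfin : Module.Finite R M := (Groth.Agent.S2006.result R R' f hRR.1 M).2 ⟨hfin', hfin₁⟩
  haveI : Module.Flat R (LocalizedModule (Submonoid.powers f) M) :=
    (Module.flat_iff_of_isLocalization (Localization.Away f) (Submonoid.powers f) _).1 inferInstance
  haveI : Module.Flat R M := Groth.Agent.EtAlg23.flat_of_glueingPair hRR M
  refine ⟨hfin, ?_⟩
  obtain ⟨n, π, hπ⟩ := Module.Finite.exists_fin' R M
  haveI : Module.Finite R' (R' ⊗[R] LinearMap.ker π) := by
    have hinj : Function.Injective ((LinearMap.ker π).subtype.baseChange R') :=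
      Groth.Agent.EtAlg23.baseChange_ker_injective hRR M (LinearMap.exact_subtype_ker_map π) hπ Subtype.val_injective
    have hex : Function.Exact ((LinearMap.ker π).subtype.baseChange R') (π.baseChange R') :=
      lTensor_exact R' (LinearMap.exact_subtype_ker_map π) hπ
    haveI : Module.FinitePresentation R' (R' ⊗[R] M) := Module.finitePresentation_of_projective R' _
    have hfg := Module.FinitePresentation.fg_ker (π.baseChange R') (LinearMap.lTensor_surjective R' hπ)
    rw [hex.linearMap_ker_eq] at hfg
    haveI := Module.Finite.iff_fg.2 hfg
    exact Module.Finite.equiv (LinearEquiv.ofInjective _ hinj).symm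
  haveI : Module.Finite (Localization.Away f) (LocalizedModule (Submonoid.powers f) (LinearMap.ker π)) := by
    let S := Submonoid.powers f
    let a := (IsLocalizedModule.map S (LocalizedModule.mkLinearMap S (LinearMap.ker π))
      (LocalizedModule.mkLinearMap S (Fin n → R)) (LinearMap.ker π).subtype).extendScalarsOfIsLocalization S (Localization.Away f)
    let b := (IsLocalizedModule.map S (LocalizedModule.mkLinearMap S (Fin n → R))
      (LocalizedModule.mkLinearMap S M) π).extendScalarsOfIsLocalization S (Localization.Away f)
    have ha : Function.Injective a := IsLocalizedModule.map_injective S _ _ _ Subtype.val_injective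
    have hb : Function.Surjective b := IsLocalizedModule.map_surjective S _ _ _ hπ
    have hex : Function.Exact a b :=
      IsLocalizedModule.map_exact S (LocalizedModule.mkLinearMap S (LinearMap.ker π))
        (LocalizedModule.mkLinearMap S (Fin n → R)) (LocalizedModule.mkLinearMap S M) _ _ (LinearMap.exact_subtype_ker_map π)
    haveI : Module.FinitePresentation (Localization.Away f) (LocalizedModule S M) := Module.finitePresentation_of_projective _ _
    haveI : Module.Finite (Localization.Away f) (LocalizedModule S (Fin n → R)) :=
      Module.Finite.of_isLocalizedModule S (LocalizedModule.mkLinearMap S (Fin n → R))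
    have hfg := Module.FinitePresentation.fg_ker b hb
    rw [hex.linearMap_ker_eq] at hfg
    haveI := Module.Finite.iff_fg.2 hfg
    exact Module.Finite.equiv (LinearEquiv.ofInjective a ha).symm
  haveI : Module.Finite R (LinearMap.ker π) :=
    (Groth.Agent.S2006.result R R' f hRR.1 _).2 ⟨inferInstance, inferInstance⟩
  haveI : Module.FinitePresentation R M :=
    Module.finitePresentation_of_surjective π hπ (Module.Finite.iff_fg.1 inferInstance)
  exact Module.Flat.projective_of_finitePresentation

end Groth.Agent.S2003
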