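import Groth.Statements.S2007
import Groth.Agent.EtAlg23.TorsionBC

set_option autoImplicit false
universe u
open TensorProduct
open EtAlg

namespace Groth.Agent.S2007

/-- Let R -> S be a flat ring map and I a finitely generated ideal of R such that R/I -> S/IS is
bijective. Let N be an R-module, M' an S-module and φ : M' -> S ⊗_R N an S-linear map whose kernel
and cokernel are I-power torsion (every element of the kernel, resp. of the target modulo the image,
is killed by some power of I). Then there are an R-module M, an R-linear map ψ : M -> N and an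
S-isomorphism S ⊗_R M ≅ M' identifying φ with the base change of ψ. -/
theorem result (R S : Type u) [CommRing R] [CommRing S] [Algebra R S] [Module.Flat R S] (I : Ideal R)
    (hI : I.FG) (hq : Function.Bijective (Ideal.quotientMap (I.map (algebraMap R S)) (algebraMap R S) Ideal.le_comap_map))
    (N : Type u) [AddCommGroup N] [Module R N] (M' : Type u) [AddCommGroup M'] [Module S M'] (φ : M' →ₗ[S] S ⊗[R] N)
    (hker : ∀ x : M', φ x = 0 → ∃ n : ℕ, ∀ a ∈ I ^ n, algebraMap R S a • x = 0)
    (hcoker : ∀ y : S ⊗[R] N, ∃ n : ℕ, ∀ a ∈ I ^ n, algebraMap R S a • y ∈ LinearMap.range φ) :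
    ∃ (M : Type u) (_ : AddCommGroup M) (_ : Module R M) (ψ : M →ₗ[R] N) (e : S ⊗[R] M ≃ₗ[S] M'),
      φ ∘ₗ e.toLinearMap = ψ.baseChange S := by
  letI : Module R M' := Module.compHom M' (algebraMap R S)
  haveI : IsScalarTower R S M' := ⟨fun r s m => by
    show (r • s) • m = algebraMap R S r • s • m
    rw [Algebra.smul_def, mul_smul]⟩
  let φR : M' →ₗ[R] S ⊗[R] N := φ.restrictScalars R
  let M : Submodule R (N × M') :=
    LinearMap.eqLocus ((TensorProduct.mk R S N 1).comp (LinearMap.fst R N M')) (φR.comp (LinearMap.snd R N M'))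
  let ψ : M →ₗ[R] N := (LinearMap.fst R N M').comp M.subtype
  let e0 : S ⊗[R] M →ₗ[S] M' := LinearMap.liftBaseChange S ((LinearMap.snd R N M').comp M.subtype)
  have hcomm : φ ∘ₗ e0 = ψ.baseChange S := by
    refine TensorProduct.AlgebraTensorModule.ext fun s m => ?_
    rw [LinearMap.comp_apply, LinearMap.liftBaseChange_tmul, map_smul, LinearMap.baseChange_tmul,
      show (s ⊗ₜ[R] ψ m : S ⊗[R] N) = s • ((1 : S) ⊗ₜ[R] ψ m) by
        rw [TensorProduct.smul_tmul', smul_eq_mul, mul_one]]
    exact congrArg (s • ·) m.2.symm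
  let K := LinearMap.ker φR
  let ι : K →ₗ[R] M := LinearMap.codRestrict M ((LinearMap.inr R N M').comp K.subtype) fun k => by
    show (1 : S) ⊗ₜ[R] (0 : N) = φR (k : M')
    rw [TensorProduct.tmul_zero, k.2]
  have hK : ∀ x : K, Groth.Agent.EtAlg23.IsIPowTorsion I x := fun x => by
    obtain ⟨n, hn⟩ := hker x x.2
    exact ⟨n, fun a ha => Subtype.ext ((algebraMap_smul S a (x : M')).symm.trans (hn a ha))⟩
  have hKmk := Groth.Agent.EtAlg23.mk_bijective_of_torsion' (S := S) hq hK
  have hι : Function.Exact ι ψ := fun m => by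
    refine ⟨fun hm => ⟨⟨m.1.2, ?_⟩, Subtype.ext (Prod.ext hm.symm rfl)⟩, ?_⟩
    · show φR m.1.2 = 0
      rw [← show (1 : S) ⊗ₜ[R] m.1.1 = φR m.1.2 from m.2, show m.1.1 = 0 from hm, TensorProduct.tmul_zero]
    · rintro ⟨k, rfl⟩; rfl
  let C := (S ⊗[R] N) ⧸ LinearMap.range φR
  let π : N →ₗ[R] C := (LinearMap.range φR).mkQ.comp (TensorProduct.mk R S N 1)
  have hC : ∀ x : C, Groth.Agent.EtAlg23.IsIPowTorsion I x := fun x => by
    obtain ⟨y, rfl⟩ := Submodule.Quotient.mk_surjective _ x
    obtain ⟨n, hn⟩ := hcoker y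
    refine ⟨n, fun a ha => (Submodule.Quotient.mk_eq_zero _).2 ?_⟩
    obtain ⟨w, hw⟩ := hn a ha
    exact ⟨w, hw.trans (algebraMap_smul S a y)⟩
  have hψπ : Function.Exact ψ π := fun n => by
    refine ⟨fun hn => ?_, ?_⟩
    · obtain ⟨w, hw⟩ := (Submodule.Quotient.mk_eq_zero _).1 hn
      exact ⟨⟨(n, w), hw.symm⟩, rfl⟩
    · rintro ⟨m, rfl⟩
      exact (Submodule.Quotient.mk_eq_zero _).2 ⟨m.1.2, m.2.symm⟩
  let eC := LinearEquiv.ofBijective _ (Groth.Agent.EtAlg23.mk_bijective_of_torsion' (S := S) hq hC)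
  have hsurj : ∀ y : S ⊗[R] N, eC.symm (π.lTensor S y) = (LinearMap.range φR).mkQ y := by
    let Cs := (S ⊗[R] N) ⧸ (LinearMap.range φ).restrictScalars R
    let T : S ⊗[R] C →ₗ[R] Cs := TensorProduct.lift
      (LinearMap.mk₂ R (fun (s : S) (c : C) => (Submodule.liftQ (LinearMap.range φR)
          (((LinearMap.range φ).restrictScalars R).mkQ.comp ((LinearMap.lsmul S (S ⊗[R] N) s).restrictScalars R))
          (fun x ⟨w, hw⟩ => (Submodule.Quotient.mk_eq_zero _).2 ⟨s • w, by rw [map_smul]; exact congrArg (s • ·) hw⟩)) c)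
        (fun a b c => by
          obtain ⟨y, rfl⟩ := Submodule.Quotient.mk_surjective _ c
          simp [add_smul])
        (fun r a c => by
          obtain ⟨y, rfl⟩ := Submodule.Quotient.mk_surjective _ c
          simp [smul_assoc])
        (fun a b c => map_add _ _ _) (fun r a c => map_smul _ _ _))
    intro y
    let e2 : C ≃ₗ[R] Cs := Submodule.quotEquivOfEq _ _ (by ext; rfl)
    apply e2.injective
    have h1 : ∀ c : C, T (eC c) = e2 c := fun c => by
      obtain ⟨y, rfl⟩ := Submodule.Quotient.mk_surjective _ c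
      simp [T, eC, e2]
      rfl
    rw [← h1, eC.apply_symm_apply]
    induction y using TensorProduct.induction_on with
    | zero => simp
    | tmul s n =>
      simp [T, π, e2, TensorProduct.smul_tmul']
      rfl
    | add a b ha hb => simp only [map_add, ha, hb]
  have hbij : Function.Bijective e0 := by
    refine ⟨(injective_iff_map_eq_zero _).2 fun z hz => ?_, fun m' => ?_⟩
    · have h0 : ψ.lTensor S z = 0 := by
        have := LinearMap.congr_fun hcomm z
        rw [LinearMap.comp_apply, hz, map_zero] at this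
        exact this.symm
      obtain ⟨w, rfl⟩ := ((Module.Flat.lTensor_exact (M := S) hι) z).1 h0
      obtain ⟨k, rfl⟩ := hKmk.2 w
      rw [TensorProduct.mk_apply, LinearMap.lTensor_tmul, LinearMap.liftBaseChange_tmul, one_smul] at hz
      have : k = 0 := Subtype.ext hz
      rw [this, map_zero, map_zero]
    · have h0 : π.lTensor S (φ m') = 0 := by
        apply eC.symm.injective
        rw [hsurj, map_zero]
        exact (Submodule.Quotient.mk_eq_zero _).2 ⟨m', rfl⟩
      obtain ⟨z, hz⟩ := ((Module.Flat.lTensor_exact (M := S) hψπ) _).1 h0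
      have hd : φR (m' - e0 z) = 0 := by
        show φ (m' - e0 z) = 0
        rw [map_sub, sub_eq_zero, ← LinearMap.comp_apply, hcomm]
        exact hz.symm
      refine ⟨z + (1 : S) ⊗ₜ ι ⟨_, hd⟩, ?_⟩
      rw [map_add, LinearMap.liftBaseChange_tmul, one_smul]
      show e0 z + (m' - e0 z) = m'
      rw [add_sub_cancel]
  exact ⟨M, inferInstance, inferInstance, ψ, LinearEquiv.ofBijective e0 hbij, hcomm⟩

end Groth.Agent.S2007
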