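import Groth.Statements.S2008
import Mathlib.RingTheory.TensorProduct.Quotient
import Mathlib.RingTheory.Spectrum.Prime.RingHom
import Mathlib.RingTheory.Flat.FaithfullyFlat.Algebra
import Mathlib.RingTheory.LocalRing.ResidueField.Ideal
import Mathlib.RingTheory.Flat.Stability
import Mathlib.Algebra.Module.Torsion.Basic

set_option autoImplicit false
universe u
open TensorProduct
open EtAlg

namespace Groth.Agent.S2008

theorem nontrivial_of_torsion (R S : Type u) [CommRing R] [CommRing S] [Algebra R S] (I : Ideal R)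
    [Module.Flat R S] (h : ∀ (M : Type u) [AddCommGroup M] [Module R M],
      (∀ (a : R) (m : M), a ∈ I → a • m = 0) → Nontrivial M → Nontrivial (TensorProduct R S M))
    (M : Type u) [AddCommGroup M] [Module R M] (hM : ∀ m : M, ∃ n : ℕ, ∀ a ∈ I ^ n, a • m = 0)
    [Nontrivial M] : Nontrivial (TensorProduct R S M) := by
  obtain ⟨x, hx⟩ := exists_ne (0 : M)
  obtain ⟨n, hn⟩ := hM x
  suffices ∃ y : M, y ≠ 0 ∧ ∀ a ∈ I, a • y = 0 by
    obtain ⟨y, hy, hy'⟩ := this
    let N := Submodule.torsionBySet R M (I : Set R)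
    have hyN : y ∈ N := (Submodule.mem_torsionBySet_iff _ _).2 fun a => hy' _ a.2
    have : Nontrivial N := ⟨⟨⟨y, hyN⟩, 0, fun h => hy (congrArg Subtype.val h)⟩⟩
    have := h N (fun a m ha => Subtype.ext ((Submodule.mem_torsionBySet_iff _ _).1 m.2 ⟨a, ha⟩)) this
    exact (Module.Flat.lTensor_preserves_injective_linearMap N.subtype Subtype.val_injective
      : Function.Injective (N.subtype.lTensor S)).nontrivial
  induction n generalizing x with
  | zero => exact absurd (by simpa using hn 1 (by simp)) hx
  | succ n ih =>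
    by_cases hI : ∀ a ∈ I, a • x = 0
    · exact ⟨x, hx, hI⟩
    · simp only [not_forall] at hI
      obtain ⟨a, ha, hax⟩ := hI
      refine ih (a • x) hax fun b hb => ?_
      rw [← mul_smul]
      exact hn _ (by rw [pow_succ]; exact Ideal.mul_mem_mul hb ha)


/-- For a ring map R -> S and an ideal I of R the following are equivalent: (1) S is flat over R and
S/IS is faithfully flat over R/I; (2) S is flat over R and Spec(S/IS) -> Spec(R/I) is surjective;
(3) S is flat over R and S ⊗_R M is nonzero for every nonzero R-module M killed by I; (4) S is flat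
over R and S ⊗_R M is nonzero for every nonzero I-power torsion R-module M. (Faithfulness of base
change on these subcategories is stated as detection of nonzero objects, which is equivalent for an
exact functor.) -/
theorem result (R S : Type u) [CommRing R] [CommRing S] [Algebra R S] (I : Ideal R) :
    List.TFAE [
      Module.Flat R S ∧ Module.FaithfullyFlat (R ⧸ I) (S ⧸ I.map (algebraMap R S)),
      Module.Flat R S ∧ Function.Surjective (PrimeSpectrum.comap (Ideal.quotientMap (I.map (algebraMap R S)) (algebraMap R S) Ideal.le_comap_map)),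
      Module.Flat R S ∧ ∀ (M : Type u) [AddCommGroup M] [Module R M], (∀ (a : R) (m : M), a ∈ I → a • m = 0) →
        Nontrivial M → Nontrivial (S ⊗[R] M),
      Module.Flat R S ∧ ∀ (M : Type u) [AddCommGroup M] [Module R M], (∀ m : M, ∃ n : ℕ, ∀ a ∈ I ^ n, a • m = 0) →
        Nontrivial M → Nontrivial (S ⊗[R] M)] := by
  tfae_have 1 → 3 := by
    rintro ⟨h1, h2⟩
    refine ⟨h1, fun M _ _ hM hnt => ?_⟩
    have hM' : Module.IsTorsionBySet R M (I : Set R) := fun m a => hM a m a.2
    letI : Module (R ⧸ I) M := hM'.module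
    haveI : IsScalarTower R (R ⧸ I) M := hM'.isScalarTower
    letI := hnt
    obtain ⟨z, hz⟩ := exists_ne (0 : TensorProduct (R ⧸ I) (S ⧸ I.map (algebraMap R S)) M)
    have hmap : Function.Surjective (TensorProduct.mapOfCompatibleSMul (R ⧸ I) R R (S ⧸ I.map (algebraMap R S)) M) :=
      TensorProduct.mapOfCompatibleSMul_surjective _ _ _ _ _
    obtain ⟨w, rfl⟩ := hmap z
    obtain ⟨v, rfl⟩ := LinearMap.rTensor_surjective M
      (Ideal.Quotient.mkₐ_surjective R (I.map (algebraMap R S))) (g := (Ideal.Quotient.mkₐ R _).toLinearMap) w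
    exact ⟨v, 0, fun h => hz (by rw [h, map_zero, map_zero])⟩
  tfae_have 3 → 4 := by
    rintro ⟨h1, h2⟩
    exact ⟨h1, fun M _ _ hM _ => nontrivial_of_torsion R S I h2 M hM⟩
  tfae_have 4 → 2 := by
    rintro ⟨h1, h2⟩
    refine ⟨h1, fun q => ?_⟩
    let p := PrimeSpectrum.comap (Ideal.Quotient.mk I) q
    have hp : I ≤ p.asIdeal := fun a ha => by
      show Ideal.Quotient.mk I a ∈ q.asIdeal
      rw [Ideal.Quotient.eq_zero_iff_mem.2 ha]; exact zero_mem _
    have := h2 p.asIdeal.ResidueField (fun m => ⟨1, fun a ha => by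
      rw [pow_one] at ha
      rw [Algebra.smul_def, Ideal.algebraMap_residueField_eq_zero.2 (hp ha), zero_mul]⟩) inferInstance
    obtain ⟨P, hP⟩ := (PrimeSpectrum.nontrivial_iff_mem_rangeComap p).1
      ((TensorProduct.comm R S p.asIdeal.ResidueField).injective.nontrivial)
    have hP' : I.map (algebraMap R S) ≤ P.asIdeal := Ideal.map_le_iff_le_comap.2 (by
      rw [← PrimeSpectrum.comap_asIdeal, hP]; exact hp)
    refine ⟨⟨P.asIdeal.map (Ideal.Quotient.mk _), Ideal.map_isPrime_of_surjective Ideal.Quotient.mk_surjective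
      (by rwa [Ideal.mk_ker])⟩, ?_⟩
    apply PrimeSpectrum.comap_injective_of_surjective _ Ideal.Quotient.mk_surjective
    rw [← PrimeSpectrum.comap_comp_apply, Ideal.quotientMap_comp_mk, PrimeSpectrum.comap_comp_apply]
    refine Eq.trans ?_ hP
    congr 1
    exact PrimeSpectrum.ext (by
      rw [PrimeSpectrum.comap_asIdeal, Ideal.comap_map_of_surjective _ Ideal.Quotient.mk_surjective,
        ← RingHom.ker_eq_comap_bot, Ideal.mk_ker, sup_eq_left.2 hP'])
  tfae_have 2 → 1 := by
    rintro ⟨h1, h2⟩
    haveI : Module.Flat (R ⧸ I) (S ⧸ I.map (algebraMap R S)) :=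
      Module.Flat.of_linearEquiv (Algebra.TensorProduct.quotIdealMapEquivQuotTensor S I).toLinearEquiv
    exact ⟨h1, Module.FaithfullyFlat.of_comap_surjective h2⟩
  tfae_finish

end Groth.Agent.S2008
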