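import Groth.Statements.S2009
import Groth.Agent.EtAlg23.TorsionBC
import Mathlib.RingTheory.TensorProduct.Quotient

set_option autoImplicit false
universe u
open TensorProduct
open EtAlg

namespace Groth.Agent.S2009

/-- Let R -> S be flat with S/IS faithfully flat over R/I. Then the natural map M -> S ⊗_R M is
bijective for every I-power torsion R-module M if and only if R/I -> S/IS is bijective. -/
theorem result (R S : Type u) [CommRing R] [CommRing S] [Algebra R S] (I : Ideal R)
    [Module.Flat R S] [Module.FaithfullyFlat (R ⧸ I) (S ⧸ I.map (algebraMap R S))] :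
    (∀ (M : Type u) [AddCommGroup M] [Module R M], (∀ m : M, ∃ n : ℕ, ∀ a ∈ I ^ n, a • m = 0) →
      Function.Bijective (TensorProduct.mk R S M 1)) ↔
    Function.Bijective (Ideal.quotientMap (I.map (algebraMap R S)) (algebraMap R S) Ideal.le_comap_map) := by
  refine ⟨fun h => ?_, fun hq M _ _ hM => Groth.Agent.EtAlg23.mk_bijective_of_torsion' hq hM⟩
  have h1 := h (R ⧸ I) (fun m => ⟨1, fun a ha => by
    obtain ⟨r, rfl⟩ := Ideal.Quotient.mk_surjective m
    rw [pow_one] at ha
    exact Ideal.Quotient.eq_zero_iff_mem.2 (I.mul_mem_right r ha)⟩)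
  let e := Algebra.TensorProduct.quotIdealMapEquivTensorQuot S I
  have : (fun q => e.symm (TensorProduct.mk R S (R ⧸ I) 1 q)) =
      Ideal.quotientMap (I.map (algebraMap R S)) (algebraMap R S) Ideal.le_comap_map := by
    funext q
    obtain ⟨r, rfl⟩ := Ideal.Quotient.mk_surjective q
    rw [Ideal.quotientMap_mk]
    have : TensorProduct.mk R S (R ⧸ I) 1 (Ideal.Quotient.mk I r) = algebraMap R S r ⊗ₜ[R] (1 : R ⧸ I) := by
      rw [TensorProduct.mk_apply, Algebra.algebraMap_eq_smul_one, TensorProduct.smul_tmul]
      congr 1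
      rw [← Ideal.Quotient.algebraMap_eq, Algebra.algebraMap_eq_smul_one]
    rw [this]
    exact e.symm_apply_eq.2 (Algebra.TensorProduct.quotIdealMapEquivTensorQuot_mk _ _ _).symm
  rw [← this]
  exact e.symm.bijective.comp h1

end Groth.Agent.S2009
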