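import Groth.Statements.S2010
import Groth.Agent.EtAlg23.TorsionBC

set_option autoImplicit false
universe u
open TensorProduct
open EtAlg

namespace Groth.Agent.S2010

/-- Let R -> S be flat and I a finitely generated ideal with R/I -> S/IS bijective; let N be an R-module
and M an I-power torsion R-module. For every short exact sequence 0 -> S ⊗_R N -> E' -> S ⊗_R M -> 0
of S-modules there are a short exact sequence 0 -> N -> E -> M -> 0 of R-modules and an R-linear map
E -> E' making the two squares with the maps n ↦ 1 ⊗ n and m ↦ 1 ⊗ m commute. -/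
theorem result (R S : Type u) [CommRing R] [CommRing S] [Algebra R S] [Module.Flat R S] (I : Ideal R)
    (hI : I.FG) (hq : Function.Bijective (Ideal.quotientMap (I.map (algebraMap R S)) (algebraMap R S) Ideal.le_comap_map))
    (N M : Type u) [AddCommGroup N] [Module R N] [AddCommGroup M] [Module R M]
    (hM : ∀ m : M, ∃ n : ℕ, ∀ a ∈ I ^ n, a • m = 0)
    (E' : Type u) [AddCommGroup E'] [Module S E'] [Module R E'] [IsScalarTower R S E'] (i' : S ⊗[R] N →ₗ[S] E') (p' : E' →ₗ[S] S ⊗[R] M)
    (hi' : Function.Injective i') (hp' : Function.Surjective p') (hex' : LinearMap.range i' = LinearMap.ker p') :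
    ∃ (E : Type u) (_ : AddCommGroup E) (_ : Module R E) (i : N →ₗ[R] E) (p : E →ₗ[R] M) (g : E →ₗ[R] E'),
      Function.Injective i ∧ Function.Surjective p ∧ LinearMap.range i = LinearMap.ker p ∧
      (∀ n : N, g (i n) = i' ((1 : S) ⊗ₜ[R] n)) ∧ (∀ e : E, p' (g e) = (1 : S) ⊗ₜ[R] p e) := by
  obtain ⟨t, g, hg⟩ := Submodule.fg_iff_exists_fin_generating_family.1 hI
  replace hg : I = Ideal.span (Set.range g) := hg.symm
  let v : N →ₗ[R] E' := (i'.restrictScalars R).comp (TensorProduct.mk R S N 1)
  let j : ∀ a, N →ₗ[R] LocalizedModule (Submonoid.powers (g a)) N := fun a =>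
    LocalizedModule.mkLinearMap _ N
  have hcancel : ∀ (a : Fin t) (k : ℕ) (x y : LocalizedModule (Submonoid.powers (g a)) N),
      g a ^ k • x = g a ^ k • y → x = y := fun a k x y h =>
    ((Module.End.isUnit_iff _).1 (IsLocalizedModule.map_units (j a) (⟨g a ^ k, k, rfl⟩ : Submonoid.powers (g a)))).1 h
  let P : E' × (∀ a, LocalizedModule (Submonoid.powers (g a)) N) × M → ℕ → (Fin t → N) → Prop :=
    fun ω k n => (∀ a, g a ^ k • ω.2.1 a = j a (n a)) ∧ (∀ a, g a ^ k • ω.1 = v (n a)) ∧
      ∀ a b, g b ^ k • n a = g a ^ k • n b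
  have hmono : ∀ ω k n d, P ω k n → P ω (k + d) (fun a => g a ^ d • n a) := by
    rintro ω k n d ⟨h1, h2, h3⟩
    refine ⟨fun a => ?_, fun a => ?_, fun a b => ?_⟩
    · rw [map_smul, ← h1, smul_smul, ← pow_add, add_comm]
    · rw [map_smul, ← h2, smul_smul, ← pow_add, add_comm]
    · calc g b ^ (k + d) • g a ^ d • n a = (g b ^ d * g a ^ d) • (g b ^ k • n a) := by
            rw [smul_smul, smul_smul]; congr 1; rw [pow_add]; ring
        _ = (g b ^ d * g a ^ d) • (g a ^ k • n b) := by rw [h3]
        _ = g a ^ (k + d) • g b ^ d • n b := by rw [smul_smul, smul_smul]; congr 1; rw [pow_add]; ring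
  let E : Submodule R (E' × (∀ a, LocalizedModule (Submonoid.powers (g a)) N) × M) :=
    { carrier := {ω | p' ω.1 = (1 : S) ⊗ₜ[R] ω.2.2 ∧ ∃ k n, P ω k n}
      zero_mem' := ⟨by simp, 0, 0, by simp [P]⟩
      add_mem' := by
        rintro ω ω' ⟨hp, k, n, h⟩ ⟨hq', k', n', h'⟩
        refine ⟨by rw [Prod.fst_add, map_add, hp, hq', Prod.snd_add, Prod.snd_add, TensorProduct.tmul_add],
          k + k', (fun a => g a ^ k' • n a) + fun a => g a ^ k • n' a, ?_⟩
        have A := hmono ω k n k' h
        have B := hmono ω' k' n' k h'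
        rw [add_comm k' k] at B
        exact ⟨fun a => by rw [Prod.snd_add, Prod.fst_add, Pi.add_apply, smul_add, A.1, B.1, Pi.add_apply, map_add],
          fun a => by rw [Prod.fst_add, smul_add, A.2.1, B.2.1, Pi.add_apply, map_add],
          fun a b => by rw [Pi.add_apply, Pi.add_apply, smul_add, smul_add, A.2.2, B.2.2]⟩
      smul_mem' := by
        rintro c ω ⟨hp, k, n, h1, h2, h3⟩
        refine ⟨?_, k, c • n, fun a => ?_, fun a => ?_, fun a b => ?_⟩
        · rw [Prod.smul_fst, LinearMap.map_smul_of_tower, hp, Prod.smul_snd, Prod.smul_snd, TensorProduct.tmul_smul]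
        · rw [Prod.smul_snd, Prod.smul_fst, Pi.smul_apply, smul_comm, h1, Pi.smul_apply, map_smul]
        · rw [Prod.smul_fst, smul_comm, h2, Pi.smul_apply, map_smul]
        · rw [Pi.smul_apply, Pi.smul_apply, smul_comm, h3, smul_comm] }
  have hi0 : ∀ x : N, (v x, ((fun a => j a x), (0 : M))) ∈ E := fun x => by
    refine ⟨?_, 0, fun _ => x, fun a => by simp, fun a => by simp, fun a b => by simp⟩
    have : i' ((1 : S) ⊗ₜ[R] x) ∈ LinearMap.ker p' := hex' ▸ ⟨_, rfl⟩
    rw [TensorProduct.tmul_zero]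
    exact LinearMap.mem_ker.1 this
  let ι : N →ₗ[R] E := (v.prod ((LinearMap.pi j).prod 0)).codRestrict E hi0
  let π : E →ₗ[R] M := (LinearMap.snd R _ M).comp ((LinearMap.snd R E' _).comp E.subtype)
  refine ⟨E, inferInstance, inferInstance, ι, π, (LinearMap.fst R E' _).comp E.subtype, ?_, ?_, ?_,
    fun n => rfl, fun e => e.2.1⟩
  · refine (injective_iff_map_eq_zero _).2 fun x hx => ?_
    have h1 : v x = 0 := congrArg (fun ω : E => ω.1.1) hx
    have h2 : ∀ a, j a x = 0 := fun a => congrArg (fun ω : E => ω.1.2.1 a) hx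
    choose s hs using fun a => (IsLocalizedModule.eq_zero_iff (Submonoid.powers (g a)) (j a)).1 (h2 a)
    choose k hk using fun a => (s a).2
    refine Groth.Agent.EtAlg23.eq_zero_of_torsion hq
      (Groth.Agent.EtAlg23.isIPowTorsion_of_generators hg (∑ a, k a) fun a => ?_) (hi' (h1.trans (map_zero i').symm))
    obtain ⟨d, hd⟩ := Nat.exists_eq_add_of_le (Finset.single_le_sum (fun b _ => Nat.zero_le (k b)) (Finset.mem_univ a))
    rw [hd, pow_add, mul_comm, mul_smul]
    have : g a ^ k a • x = 0 := by rw [show g a ^ k a = (s a : R) from hk a]; exact hs a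
    rw [this, smul_zero]
  · intro m
    obtain ⟨e₀, he₀⟩ := hp' ((1 : S) ⊗ₜ[R] m)
    obtain ⟨k, hk⟩ := Groth.Agent.EtAlg23.exists_gen_pow_smul_eq_zero hg (hM m)
    have hz : ∀ a, ∃ z, i' z = g a ^ k • e₀ := fun a => by
      have : g a ^ k • e₀ ∈ LinearMap.ker p' := by
        rw [LinearMap.mem_ker, LinearMap.map_smul_of_tower, he₀, ← TensorProduct.tmul_smul, hk, TensorProduct.tmul_zero]
      rw [← hex'] at this
      exact this
    choose z hz using hz
    have hcoc : ∀ a b, g b ^ k • z a = g a ^ k • z b := fun a b => hi' (by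
      rw [LinearMap.map_smul_of_tower, LinearMap.map_smul_of_tower, hz, hz, smul_comm])
    let u : N →ₗ[R] (Fin t → N) := LinearMap.pi fun a => g a ^ k • LinearMap.id
    let e := TensorProduct.piRight R R S (fun _ : Fin t => N)
    have hu : ∀ (w : S ⊗[R] N) a, e (u.lTensor S w) a = g a ^ k • w := fun w a => by
      induction w using TensorProduct.induction_on with
      | zero => simp
      | tmul s x => simp [e, u, TensorProduct.tmul_smul]
      | add a b ha hb => simp only [map_add, Pi.add_apply, ha, hb, smul_add]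
    have htor : Groth.Agent.EtAlg23.IsIPowTorsion I ((LinearMap.range u).mkQ.lTensor S (e.symm z)) := by
      refine Groth.Agent.EtAlg23.isIPowTorsion_of_generators hg k fun b => ?_
      have : g b ^ k • e.symm z = u.lTensor S (z b) := e.injective (funext fun a => by
        rw [map_smul, e.apply_symm_apply, Pi.smul_apply, hu, hcoc])
      rw [← map_smul, this, ← LinearMap.lTensor_comp_apply]
      have : (LinearMap.range u).mkQ.comp u = 0 :=
        LinearMap.ext fun x => (Submodule.Quotient.mk_eq_zero _).2 ⟨x, rfl⟩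
      rw [this, LinearMap.lTensor_zero, LinearMap.zero_apply]
    obtain ⟨q, hqt, hq1⟩ := Groth.Agent.EtAlg23.exists_torsion_preimage hq hI htor
    obtain ⟨n, rfl⟩ := Submodule.Quotient.mk_surjective _ q
    obtain ⟨w, hw⟩ := ((lTensor_exact S (LinearMap.exact_map_mkQ_range u) (Submodule.mkQ_surjective _))
      (e.symm z - (1 : S) ⊗ₜ[R] n)).1 (by
        rw [map_sub, LinearMap.lTensor_tmul, ← hq1]; exact sub_self _)
    obtain ⟨K, hK⟩ := Groth.Agent.EtAlg23.exists_gen_pow_smul_eq_zero hg hqt
    have hK' : ∀ b, ∃ y, u y = g b ^ K • n := fun b =>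
      (Submodule.Quotient.mk_eq_zero (LinearMap.range u)).1 ((Submodule.Quotient.mk_smul (LinearMap.range u) (g b ^ K) n).trans (hK b))
    choose y hy using hK'
    have hcomp : ∀ a b, g a ^ k • y b = g b ^ K • n a := fun a b => congrFun (hy b) a
    let n' : Fin t → N := fun a => g a ^ K • n a
    have h2 : ∀ a, g a ^ (k + K) • (e₀ - i' w) = v (n' a) := fun a => by
      have := congrFun (congrArg e hw) a
      rw [map_sub, e.apply_symm_apply, Pi.sub_apply, hu] at this
      rw [show e ((1 : S) ⊗ₜ[R] n) a = (1 : S) ⊗ₜ[R] n a by simp [e], eq_sub_iff_add_eq] at this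
      have h0 : g a ^ k • (e₀ - i' w) = v (n a) := by
        show _ = i' ((1 : S) ⊗ₜ[R] n a)
        rw [smul_sub, ← hz, ← this, map_add, LinearMap.map_smul_of_tower, add_sub_cancel_left]
      rw [map_smul, ← h0, smul_smul, ← pow_add, add_comm]
    let x : ∀ a, LocalizedModule (Submonoid.powers (g a)) N := fun a =>
      LocalizedModule.mk (n' a) (⟨g a ^ (k + K), k + K, rfl⟩ : Submonoid.powers (g a))
    have h1 : ∀ a, g a ^ (k + K) • x a = j a (n' a) := fun a => by
      rw [LocalizedModule.smul'_mk]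
      exact LocalizedModule.mk_cancel (⟨g a ^ (k + K), k + K, rfl⟩ : Submonoid.powers (g a)) (n' a)
    have hpe : p' (e₀ - i' w) = (1 : S) ⊗ₜ[R] m := by
      have : i' w ∈ LinearMap.ker p' := hex' ▸ ⟨w, rfl⟩
      rw [map_sub, he₀, LinearMap.mem_ker.1 this, sub_zero]
    refine ⟨⟨(e₀ - i' w, x, m), hpe, k + K, n', h1, h2, fun a b => ?_⟩, rfl⟩
    calc g b ^ (k + K) • n' a = (g a ^ K * g b ^ k) • (g b ^ K • n a) := by
          show _ • g a ^ K • n a = _
          rw [smul_smul, smul_smul]; congr 1; rw [pow_add]; ring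
      _ = (g a ^ K * g b ^ k) • (g a ^ k • y b) := by rw [hcomp]
      _ = g a ^ (k + K) • (g b ^ k • y b) := by rw [smul_smul, smul_smul]; congr 1; rw [pow_add]; ring
      _ = g a ^ (k + K) • n' b := by rw [hcomp]
  · apply le_antisymm
    · rintro _ ⟨x, rfl⟩; rfl
    · intro ω hω
      obtain ⟨hp, k, n, h1, h2, h3⟩ := ω.2
      have hm0 : ω.1.2.2 = 0 := hω
      have hker : ω.1.1 ∈ LinearMap.ker p' := by
        rw [LinearMap.mem_ker, hp, hm0, TensorProduct.tmul_zero]
      rw [← hex'] at hker
      obtain ⟨y, hy⟩ := hker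
      have hyn : ∀ a, g a ^ k • y = (1 : S) ⊗ₜ[R] n a := fun a => hi' (by
        rw [LinearMap.map_smul_of_tower, hy]; exact h2 a)
      let u : N →ₗ[R] (Fin t → N) := LinearMap.pi fun a => g a ^ k • LinearMap.id
      let e := TensorProduct.piRight R R S (fun _ : Fin t => N)
      have hu : ∀ (w : S ⊗[R] N) a, e (u.lTensor S w) a = g a ^ k • w := fun w a => by
        induction w using TensorProduct.induction_on with
        | zero => simp
        | tmul s x => simp [e, u, TensorProduct.tmul_smul]
        | add a b ha hb => simp only [map_add, Pi.add_apply, ha, hb, smul_add]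
      have hc : Submodule.Quotient.mk (p := LinearMap.range u) n = 0 := by
        refine Groth.Agent.EtAlg23.eq_zero_of_torsion hq
          (Groth.Agent.EtAlg23.isIPowTorsion_of_generators hg k fun b => ?_) ?_
        · rw [← Submodule.Quotient.mk_smul]
          exact (Submodule.Quotient.mk_eq_zero _).2 ⟨n b, funext fun a => (h3 a b).symm⟩
        · have : (1 : S) ⊗ₜ[R] n = u.lTensor S y := e.injective (funext fun a => by
            rw [hu, hyn]; simp [e])
          have hz : (1 : S) ⊗ₜ[R] Submodule.Quotient.mk (p := LinearMap.range u) n =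
              (LinearMap.range u).mkQ.lTensor S (u.lTensor S y) := by
            rw [← this, LinearMap.lTensor_tmul]; rfl
          have h0 : (LinearMap.range u).mkQ.comp u = 0 :=
            LinearMap.ext fun x => (Submodule.Quotient.mk_eq_zero _).2 ⟨x, rfl⟩
          rw [hz, ← LinearMap.lTensor_comp_apply, h0, LinearMap.lTensor_zero, LinearMap.zero_apply]
      obtain ⟨x, hx⟩ := (Submodule.Quotient.mk_eq_zero _).1 hc
      have hxn : ∀ a, g a ^ k • x = n a := fun a => congrFun hx a
      obtain ⟨τ, hτ, hτ'⟩ := Groth.Agent.EtAlg23.exists_torsion_preimage hq hI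
        (Groth.Agent.EtAlg23.isIPowTorsion_of_generators hg k (x := (1 : S) ⊗ₜ[R] x - y) fun a => by
          rw [smul_sub, hyn, ← TensorProduct.tmul_smul, hxn, sub_self])
      obtain ⟨K, hK⟩ := Groth.Agent.EtAlg23.exists_gen_pow_smul_eq_zero hg hτ
      refine ⟨x - τ, Subtype.ext (Prod.ext ?_ (Prod.ext (funext fun a => ?_) hm0.symm))⟩
      · show i' ((1 : S) ⊗ₜ[R] (x - τ)) = ω.1.1
        rw [TensorProduct.tmul_sub, hτ', sub_sub_cancel, hy]
      · refine hcancel a (k + K) _ _ ?_
        show g a ^ (k + K) • j a (x - τ) = g a ^ (k + K) • ω.1.2.1 a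
        rw [← map_smul, smul_sub, pow_add (g a) k K, mul_smul _ _ τ, hK, smul_zero, sub_zero,
          mul_comm, mul_smul, hxn, map_smul, mul_smul, ← h1]

end Groth.Agent.S2010
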