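import Groth.Statements.S2011
import Mathlib.RingTheory.Ideal.KrullsHeightTheorem
import Mathlib.RingTheory.Jacobson.Ring
import Mathlib.RingTheory.Ideal.MinimalPrime.Noetherian

set_option autoImplicit false
universe u
open EtAlg

namespace Groth.Agent.S2011

theorem prime_maximal_avoiding {A : Type*} [CommRing A] [IsNoetherianRing A] (f g : A)
    (hf : f ∈ (⊥ : Ideal A).jacobson) (q q' : Ideal A) [q.IsPrime] [q'.IsPrime] (hlt : q < q')
    (hfq' : f ∉ q') (hqg : g ∉ q) (hmax : ∀ r : Ideal A, r.IsPrime → q < r → f * g ∈ r) : False := by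
  obtain ⟨m, hm, hq'm⟩ := Ideal.exists_le_maximal q' (Ideal.IsPrime.ne_top ‹_›)
  haveI := hm
  have hfm : f ∈ m := (sInf_le ⟨bot_le, hm⟩ : (⊥ : Ideal A).jacobson ≤ m) hf
  classical
  let S := (q ⊔ Ideal.span {f * g}).minimalPrimes
  have hfin : S.Finite := Ideal.finite_minimalPrimes_of_isNoetherianRing A _
  have hfg : f * g ∈ q' := hmax q' inferInstance hlt
  have hcover : ∀ x ∈ m, ∃ s ∈ S, x ∈ s ∧ s ≤ m := by
    intro x hx
    by_cases hxq : x ∈ q
    · have hq'le : q ⊔ Ideal.span {f * g} ≤ q' := sup_le hlt.le (by simpa [Ideal.span_le] using hfg)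
      obtain ⟨s, hs, hsq'⟩ := Ideal.exists_minimalPrimes_le hq'le
      exact ⟨s, hs, (le_sup_left.trans hs.le) hxq, hsq'.trans hq'm⟩
    obtain ⟨Q, hQ, hQm⟩ := Ideal.exists_minimalPrimes_le
      (show q ⊔ Ideal.span {x} ≤ m from sup_le (hlt.le.trans hq'm) (by simpa [Ideal.span_le] using hx))
    haveI := hQ.isPrime
    have hqQ : q < Q := lt_of_le_of_ne (le_sup_left.trans hQ.le) fun h =>
      hxq (h ▸ (le_sup_right.trans hQ.le) (Ideal.mem_span_singleton_self x))
    obtain ⟨s, hs, hsQ⟩ := Ideal.exists_minimalPrimes_le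
      (show q ⊔ Ideal.span {f * g} ≤ Q from sup_le hqQ.le (by simpa [Ideal.span_le] using hmax Q inferInstance hqQ))
    haveI := hs.isPrime
    refine ⟨s, hs, ?_, hsQ.trans hQm⟩
    suffices s = Q by rw [this]; exact (le_sup_right.trans hQ.le) (Ideal.mem_span_singleton_self x)
    by_contra hne
    have hsQ' : s < Q := lt_of_le_of_ne hsQ hne
    have hqs : q < s := lt_of_le_of_ne (le_sup_left.trans hs.le) fun h => by
      have hfgq : f * g ∈ q := h ▸ (le_sup_right.trans hs.le) (Ideal.mem_span_singleton_self _)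
      rcases Ideal.IsPrime.mem_or_mem ‹q.IsPrime› hfgq with h' | h'
      · exact hfq' (hlt.le h')
      · exact hqg h'
    have h1 := Ideal.map_height_le_one_of_mem_minimalPrimes hQ
    let π := Ideal.Quotient.mk q
    haveI : (s.map π).IsPrime := Ideal.map_isPrime_of_surjective Ideal.Quotient.mk_surjective (by rw [Ideal.mk_ker]; exact hqs.le)
    haveI : (Q.map π).IsPrime := Ideal.map_isPrime_of_surjective Ideal.Quotient.mk_surjective (by rw [Ideal.mk_ker]; exact hqQ.le)
    have hmono : ∀ r r' : Ideal A, q ≤ r → r < r' → r.map π < r'.map π := fun r r' hr hrr' =>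
      lt_of_le_of_ne (Ideal.map_mono hrr'.le) fun he => hrr'.ne (by
        have := congrArg (Ideal.comap π) he
        rwa [Ideal.comap_map_of_surjective _ Ideal.Quotient.mk_surjective,
          Ideal.comap_map_of_surjective _ Ideal.Quotient.mk_surjective, ← RingHom.ker_eq_comap_bot,
          Ideal.mk_ker, sup_eq_left.2 hr, sup_eq_left.2 (hr.trans hrr'.le)] at this)
    have h2 := Ideal.height_strict_mono_of_isPrime (hmono s Q hqs.le hsQ')
    have h3 : (q.map π).height < (s.map π).height := by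
      haveI : (q.map π).IsPrime := Ideal.map_isPrime_of_surjective Ideal.Quotient.mk_surjective (by rw [Ideal.mk_ker])
      exact Ideal.height_strict_mono_of_isPrime (hmono q s le_rfl hqs)
    have h4 : 1 ≤ (s.map π).height := by
      exact ENat.one_le_iff_ne_zero.2 (ne_bot_of_gt h3)
    exact absurd (h4.trans_lt (h2.trans_le h1)) (lt_irrefl _)
  obtain ⟨s, hs, hms⟩ : ∃ s ∈ S, m ≤ s ∧ s ≤ m := by
    let T := hfin.toFinset.filter fun s => s ≤ m
    have hsub : (m : Set A) ⊆ ⋃ s ∈ (↑T : Set (Ideal A)), ((id s : Ideal A) : Set A) := fun x hx => by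
      obtain ⟨s, hs, hxs, hsm⟩ := hcover x hx
      exact Set.mem_biUnion (x := s) (by simp [T, hs, hsm]) hxs
    obtain ⟨s, hs, hms⟩ := (Ideal.subset_union_prime ⊥ ⊥ fun s hs _ _ => by
      simp only [Finset.mem_coe, T, Finset.mem_filter, Set.Finite.mem_toFinset] at hs
      exact hs.1.isPrime).1 hsub
    simp only [T, Finset.mem_filter, Set.Finite.mem_toFinset] at hs
    exact ⟨s, hs.1, hms, hs.2⟩
  haveI := hs.isPrime
  have hsm : s = m := le_antisymm hms.2 hms.1
  have : m ≤ q' := hsm ▸ hs.2 ⟨inferInstance, sup_le hlt.le (by simpa [Ideal.span_le] using hfg)⟩ (hsm ▸ hq'm)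
  exact hfq' (this hfm)


/-- Let A be a Noetherian ring and I an ideal contained in the Jacobson radical of A (a Zariski pair).
Then for every f in I the localization A_f is a Jacobson ring. -/
theorem result (A : Type u) [CommRing A] [IsNoetherianRing A] (I : Ideal A)
    (hI : I ≤ (⊥ : Ideal A).jacobson) (f : A) (hf : f ∈ I) : IsJacobsonRing (Localization.Away f) := by
  rw [isJacobsonRing_iff_prime_eq]
  intro P hP
  refine le_antisymm (fun z hz => ?_) Ideal.le_jacobson
  by_contra hzP
  obtain ⟨⟨g, s⟩, hgs⟩ := IsLocalization.surj (Submonoid.powers f) z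
  let p := P.comap (algebraMap A (Localization.Away f))
  have hfu : IsUnit (algebraMap A (Localization.Away f) f) := IsLocalization.Away.algebraMap_isUnit f
  have hfp : f ∉ p := fun h => hP.ne_top (P.eq_top_of_isUnit_mem h hfu)
  have hgp : g ∉ p := fun h => hzP (by
    have h' : z * algebraMap A _ (s : A) ∈ P := by rw [hgs]; exact h
    exact (P.mul_unit_mem_iff_mem (IsLocalization.map_units _ s)).1 h')
  let W : Set (Ideal A) := {r | r.IsPrime ∧ p ≤ r ∧ f * g ∉ r}
  obtain ⟨q, hqW, hqmax⟩ : ∃ q : Ideal A, q ∈ W ∧ ∀ r ∈ W, ¬ q < r := set_has_maximal_iff_noetherian.2 (inferInstance : IsNoetherian A A) W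
    ⟨p, inferInstance, le_rfl, fun h => ((Ideal.IsPrime.mem_or_mem inferInstance h).elim hfp hgp)⟩
  haveI := hqW.1
  have hfq : f ∉ q := fun h => hqW.2.2 (q.mul_mem_right g h)
  have hdisj : Disjoint (Submonoid.powers f : Set A) q := Set.disjoint_left.2 fun x ⟨n, hn⟩ hx => by
    subst hn
    exact hfq (Ideal.IsPrime.mem_of_pow_mem inferInstance n hx)
  have hQp : (q.map (algebraMap A (Localization.Away f))).IsPrime :=
    IsLocalization.isPrime_of_isPrime_disjoint (Submonoid.powers f) _ q inferInstance hdisj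
  have hcq : (q.map (algebraMap A (Localization.Away f))).comap (algebraMap A _) = q :=
    IsLocalization.under_map_of_isPrime_disjoint (Submonoid.powers f) _ inferInstance hdisj
  obtain ⟨M, hM, hqM⟩ := Ideal.exists_le_maximal _ hQp.ne_top
  haveI := hM
  have hPM : P ≤ M := by
    rw [← IsLocalization.map_comap (Submonoid.powers f) (Localization.Away f) P]
    exact (Ideal.map_mono hqW.2.1).trans hqM
  have hzM : z ∈ M := (sInf_le ⟨hPM, hM⟩ : P.jacobson ≤ M) hz
  let q' := M.comap (algebraMap A (Localization.Away f))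
  have hqq' : q ≤ q' := hcq ▸ Ideal.comap_mono hqM
  have hfq' : f ∉ q' := fun h => hM.ne_top (M.eq_top_of_isUnit_mem h hfu)
  have hgq' : g ∈ q' := by
    show algebraMap A _ g ∈ M
    rw [← hgs]; exact M.mul_mem_right _ hzM
  have hgq : g ∉ q := fun h => hqW.2.2 (q.mul_mem_left f h)
  refine prime_maximal_avoiding f g (hI hf) q q' (lt_of_le_of_ne hqq' fun h => hgq (h ▸ hgq')) hfq' hgq
    fun r hr hqr => by_contra fun hr' => hqmax r ⟨hr, hqW.2.1.trans hqr.le, hr'⟩ hqr

end Groth.Agent.S2011
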