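import Groth.Statements.S2012
import Mathlib.Algebra.Module.FinitePresentation
import Mathlib.RingTheory.Nakayama
import Mathlib.RingTheory.Finiteness.ModuleFinitePresentation
import Mathlib.RingTheory.Flat.EquationalCriterion
import Mathlib.RingTheory.IntegralClosure.IsIntegralClosure.Basic

set_option autoImplicit false
universe u
open EtAlg

namespace Groth.Agent.S2012

/-- Let A be a ring and I an ideal contained in its Jacobson radical. Let B be an A-algebra which is
flat, integral and of finite presentation over A and such that A/I -> B/IB is bijective. Then A -> B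
is bijective. -/
theorem result (A B : Type u) [CommRing A] [CommRing B] [Algebra A B]
    (I : Ideal A) (hI : I ≤ (⊥ : Ideal A).jacobson) [Module.Flat A B] [Algebra.IsIntegral A B] [Algebra.FinitePresentation A B]
    (hq : Function.Bijective (Ideal.quotientMap (I.map (algebraMap A B)) (algebraMap A B) Ideal.le_comap_map)) :
    Function.Bijective (algebraMap A B) := by
  haveI : Module.Finite A B := Algebra.IsIntegral.finite
  haveI : Module.FinitePresentation A B := Module.FinitePresentation.of_finite_of_finitePresentation A B
  haveI : Module.Projective A B := Module.Flat.projective_of_finitePresentation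
  let φ := Algebra.linearMap A B
  have hsurj : Function.Surjective φ := by
    have : (⊤ : Submodule A B) ≤ LinearMap.range φ := by
      refine Submodule.le_of_le_smul_of_le_jacobson_bot Module.Finite.fg_top hI fun x _ => ?_
      obtain ⟨q, hq'⟩ := hq.2 (Ideal.Quotient.mk _ x)
      obtain ⟨r, rfl⟩ := Ideal.Quotient.mk_surjective q
      rw [Ideal.quotientMap_mk, Ideal.Quotient.mk_eq_mk_iff_sub_mem] at hq'
      refine Submodule.mem_sup.2 ⟨φ r, ⟨r, rfl⟩, x - φ r, ?_, add_sub_cancel _ _⟩
      rw [Ideal.smul_top_eq_map, ← neg_sub]
      exact neg_mem hq'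
    exact LinearMap.range_eq_top.1 (top_le_iff.1 this)
  refine ⟨?_, hsurj⟩
  obtain ⟨s, hs⟩ := Module.projective_lifting_property φ LinearMap.id hsurj
  have hs' : ∀ x, φ (s x) = x := LinearMap.congr_fun hs
  have hker : (LinearMap.ker φ).FG := Module.FinitePresentation.fg_ker φ hsurj
  have hbot : LinearMap.ker φ = ⊥ := by
    refine Submodule.eq_bot_of_le_smul_of_le_jacobson_bot I _ hker (fun x hx => ?_) hI
    have hxI : x ∈ I := by
      rw [← Ideal.Quotient.eq_zero_iff_mem]
      refine hq.1 ?_
      rw [map_zero, Ideal.quotientMap_mk, Ideal.Quotient.eq_zero_iff_mem, show algebraMap A B x = φ x from rfl, LinearMap.mem_ker.1 hx]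
      exact zero_mem _
    let e : A →ₗ[A] A := LinearMap.id - s.comp φ
    have he : ∀ y, e y ∈ LinearMap.ker φ := fun y => by
      rw [LinearMap.mem_ker, LinearMap.sub_apply, map_sub, LinearMap.comp_apply, hs', LinearMap.id_apply, sub_self]
    have : e x = x := by
      rw [LinearMap.sub_apply, LinearMap.comp_apply, LinearMap.mem_ker.1 hx, map_zero, LinearMap.id_apply, sub_zero]
    rw [← this, show e x = x • e 1 by rw [← map_smul, smul_eq_mul, mul_one]]
    exact Submodule.smul_mem_smul hxI (he 1)
  exact LinearMap.ker_eq_bot.1 hbot

end Groth.Agent.S2012
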