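import Groth.Statements.S2014
import Mathlib.RingTheory.Length
import Mathlib.RingTheory.HopkinsLevitzki
import Mathlib.RingTheory.Ideal.MinimalPrime.Noetherian
import Mathlib.RingTheory.KrullDimension.Basic
import Mathlib.RingTheory.Noetherian.Basic
import Mathlib.RingTheory.Ideal.Quotient.Noetherian

set_option autoImplicit false
universe u
open EtAlg

namespace Groth.Agent.S2014

theorem length_quotient_chain {R M : Type*} [CommRing R] [AddCommGroup M] [Module R M]
    {P Q : Submodule R M} (h : P ≤ Q) :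
    Module.length R (M ⧸ P) = Module.length R (Q ⧸ P.comap Q.subtype) + Module.length R (M ⧸ Q) := by
  refine Module.length_eq_add_of_exact ((P.comap Q.subtype).mapQ P Q.subtype le_rfl)
    (P.mapQ Q LinearMap.id h) ?_ ?_ ?_
  · rw [← LinearMap.ker_eq_bot, eq_bot_iff]
    intro z hz
    obtain ⟨q, rfl⟩ := Submodule.mkQ_surjective _ z
    rw [LinearMap.mem_ker, Submodule.mkQ_apply, Submodule.mapQ_apply, Submodule.Quotient.mk_eq_zero] at hz
    rw [Submodule.mem_bot, Submodule.mkQ_apply, Submodule.Quotient.mk_eq_zero]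
    exact hz
  · intro y
    obtain ⟨m, rfl⟩ := Submodule.mkQ_surjective _ y
    exact ⟨Submodule.Quotient.mk m, rfl⟩
  · intro y
    obtain ⟨m, rfl⟩ := Submodule.mkQ_surjective _ y
    constructor
    · intro hm
      rw [Submodule.mkQ_apply, Submodule.mapQ_apply, LinearMap.id_apply, Submodule.Quotient.mk_eq_zero] at hm
      exact ⟨Submodule.Quotient.mk ⟨m, hm⟩, rfl⟩
    · rintro ⟨z, hz⟩
      obtain ⟨q, rfl⟩ := Submodule.mkQ_surjective _ z
      rw [← hz]
      simp [Submodule.Quotient.mk_eq_zero]

theorem isArtinian_quotient_span {R : Type*} [CommRing R] [IsNoetherianRing R] (hd : Ring.KrullDimLE 1 R)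
    (y : R) (hy : ∀ p ∈ minimalPrimes R, y ∉ p) : IsArtinian R (R ⧸ Ideal.span {y}) := by
  haveI : Ring.KrullDimLE 0 (R ⧸ Ideal.span {y}) := Ring.krullDimLE_zero_iff.2 fun P hP => by
    haveI := hP
    have hyP : y ∈ P.comap (Ideal.Quotient.mk (Ideal.span {y})) := by
      rw [Ideal.mem_comap, Ideal.Quotient.eq_zero_iff_mem.2 (Ideal.mem_span_singleton_self y)]
      exact zero_mem _
    rcases Ring.krullDimLE_one_iff.1 hd (P.comap (Ideal.Quotient.mk (Ideal.span {y}))) inferInstance with h | h
    · exact absurd hyP (hy _ h)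
    · haveI := h
      have := Ideal.map_eq_top_or_isMaximal_of_surjective (Ideal.Quotient.mk (Ideal.span {y}))
        Ideal.Quotient.mk_surjective h
      rw [Ideal.map_comap_of_surjective _ Ideal.Quotient.mk_surjective] at this
      exact this.resolve_left hP.ne_top
  haveI : IsArtinianRing (R ⧸ Ideal.span {y}) := isArtinianRing_iff_krullDimLE_zero.2 inferInstance
  exact isArtinian_of_surjective_algebraMap (M := R ⧸ Ideal.span {y}) (R := R ⧸ Ideal.span {y})
    (S := R) Ideal.Quotient.mk_surjective


/-- Let R be a Noetherian local ring of Krull dimension 1 and x an element of the maximal ideal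
contained in no minimal prime of R. Then the number of minimal prime ideals of R is at most the
length of R/xR as an R-module. -/
theorem result (R : Type u) [CommRing R] [IsNoetherianRing R] [IsLocalRing R]
    (hdim : ringKrullDim R = 1) (x : R) (hx : x ∈ IsLocalRing.maximalIdeal R) (hmin : ∀ p ∈ minimalPrimes R, x ∉ p) :
    (Set.ncard (minimalPrimes R) : ℕ∞) ≤ Module.length R (R ⧸ Ideal.span {x}) := by
  classical
  have hfin : (minimalPrimes R).Finite := Ideal.finite_minimalPrimes_of_isNoetherianRing R ⊥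
  haveI : Fintype (minimalPrimes R) := hfin.fintype
  haveI hprime : ∀ p : minimalPrimes R, p.1.IsPrime := fun p => p.2.isPrime
  let C := ∀ p : minimalPrimes R, R ⧸ p.1
  let φ : R →ₗ[R] C := LinearMap.pi fun p => Submodule.mkQ p.1
  let R' : Submodule R C := LinearMap.range φ
  let m : C →ₗ[R] C := x • LinearMap.id
  let xR' : Submodule R C := R'.map m
  let xC : Submodule R C := LinearMap.range m
  have hminj : Function.Injective m := by
    intro a b hab
    funext p
    have h : x • a p = x • b p := congrFun hab p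
    rw [Algebra.smul_def, Algebra.smul_def] at h
    refine mul_left_cancel₀ ?_ h
    rw [Ideal.Quotient.algebraMap_eq, Ne, Ideal.Quotient.eq_zero_iff_mem]
    exact hmin p.1 p.2
  have h1 : xR' ≤ R' := by
    rintro _ ⟨c, hc, rfl⟩
    exact R'.smul_mem x hc
  have h2 : xR' ≤ xC := LinearMap.map_le_range
  -- the annihilator of the cokernel
  obtain ⟨y, hyQ, hy⟩ : ∃ y ∈ (Submodule.annihilator (⊤ : Submodule R (C ⧸ R'))), ∀ p ∈ minimalPrimes R, y ∉ p := by
    by_contra hcon
    push Not at hcon
    have hsub : ((Submodule.annihilator (⊤ : Submodule R (C ⧸ R')) : Ideal R) : Set R) ⊆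
        ⋃ p ∈ (↑hfin.toFinset : Set (Ideal R)), ((id p : Ideal R) : Set R) := fun r hr => by
      obtain ⟨p, hp, hrp⟩ := hcon r hr
      exact Set.mem_biUnion (x := p) (by simpa using hp) hrp
    obtain ⟨p, hp, hle⟩ := (Ideal.subset_union_prime ⊥ ⊥ fun p hp _ _ => by
      rw [Set.Finite.mem_toFinset] at hp
      exact hp.isPrime).1 hsub
    rw [Set.Finite.mem_toFinset] at hp
    haveI := hp.isPrime
    -- an element in all other minimal primes
    obtain ⟨e, he, hep⟩ : ∃ e ∈ ((hfin.toFinset.erase p).inf id : Ideal R), e ∉ p := by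
      by_contra hc
      push Not at hc
      obtain ⟨q, hq, hqp⟩ := (Ideal.IsPrime.inf_le' inferInstance).1 (hc : ((hfin.toFinset.erase p).inf id : Ideal R) ≤ p)
      rw [Finset.mem_erase, Set.Finite.mem_toFinset] at hq
      exact hq.1 (le_antisymm hqp (hp.2 ⟨hq.2.isPrime, bot_le⟩ hqp))
    refine hep (hle (Submodule.mem_annihilator.2 fun c _ => ?_))
    obtain ⟨c, rfl⟩ := Submodule.mkQ_surjective _ c
    rw [← map_smul, Submodule.mkQ_apply, Submodule.Quotient.mk_eq_zero]
    obtain ⟨r, hr⟩ := Submodule.mkQ_surjective _ (c ⟨p, hp⟩)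
    refine ⟨e * r, funext fun q => ?_⟩
    show Submodule.mkQ q.1 (e * r) = e • c q
    by_cases hqp : q = ⟨p, hp⟩
    · subst hqp
      rw [← smul_eq_mul, map_smul, hr]
    · have heq : e ∈ q.1 := (Finset.inf_le (f := id) (Finset.mem_erase.2
        ⟨fun h => hqp (Subtype.ext h), hfin.mem_toFinset.2 q.2⟩)) he
      obtain ⟨s, hs⟩ := Submodule.mkQ_surjective _ (c q)
      rw [← hs, ← map_smul, Submodule.mkQ_apply, Submodule.mkQ_apply]
      exact ((Submodule.Quotient.mk_eq_zero _).2 (q.1.mul_mem_right r heq)).trans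
        ((Submodule.Quotient.mk_eq_zero _).2 (q.1.mul_mem_right s heq : e • s ∈ q.1)).symm
  haveI := isArtinian_quotient_span (Ring.krullDimLE_iff.2 hdim.le) y hy
  haveI : IsArtinian R (C ⧸ R') := by
    obtain ⟨n, g, hg⟩ := Module.Finite.exists_fin' R (C ⧸ R')
    let e : Fin n → C ⧸ R' := fun i => g (Pi.single i 1)
    let G : (Fin n → R ⧸ Ideal.span {y}) →ₗ[R] C ⧸ R' :=
      ∑ i, (Submodule.liftQ (Ideal.span {y}) (LinearMap.toSpanSingleton R _ (e i)) (by
        rw [Ideal.span, Submodule.span_singleton_le_iff_mem, LinearMap.mem_ker, LinearMap.toSpanSingleton_apply]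
        exact Submodule.mem_annihilator.1 hyQ _ trivial)).comp (LinearMap.proj i)
    refine isArtinian_of_surjective _ G fun q => ?_
    obtain ⟨a, rfl⟩ := hg q
    refine ⟨fun i => Submodule.Quotient.mk (a i), ?_⟩
    have : a = ∑ i, a i • Pi.single i (1 : R) := by
      funext j; simp [Finset.sum_apply, Pi.single_apply]
    conv_rhs => rw [this, map_sum]
    simp [G, e]
    exact Finset.sum_congr rfl fun i _ => rfl
  have hQ : Module.length R (C ⧸ R') ≠ ⊤ := Module.length_ne_top
  -- compare
  have e1 := length_quotient_chain h1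
  have e2 := length_quotient_chain h2
  have e3 : Module.length R (xC ⧸ xR'.comap xC.subtype) = Module.length R (C ⧸ R') := by
    let f : C →ₗ[R] xC ⧸ xR'.comap xC.subtype := (Submodule.mkQ _).comp m.rangeRestrict
    have hker : LinearMap.ker f = R' := by
      ext c
      rw [LinearMap.mem_ker, LinearMap.comp_apply, Submodule.mkQ_apply, Submodule.Quotient.mk_eq_zero]
      show m c ∈ R'.map m ↔ _
      exact ⟨fun ⟨d, hd, hde⟩ => hminj hde ▸ hd, fun h => ⟨c, h, rfl⟩⟩
    have hf : Function.Surjective f := (Submodule.mkQ_surjective _).comp m.surjective_rangeRestrict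
    exact (((Submodule.quotEquivOfEq _ _ hker.symm).trans (f.quotKerEquivOfSurjective hf))).length_eq.symm
  rw [e3, add_comm] at e2
  rw [e1] at e2
  have e4 : Module.length R (R' ⧸ xR'.comap R'.subtype) = Module.length R (C ⧸ xC) :=
    WithTop.add_right_cancel hQ e2
  have e5 : Module.length R (R' ⧸ xR'.comap R'.subtype) ≤ Module.length R (R ⧸ Ideal.span {x}) := by
    refine Module.length_le_of_surjective (Submodule.liftQ (Ideal.span {x}) ((Submodule.mkQ _).comp φ.rangeRestrict) ?_) ?_
    · rw [Ideal.span, Submodule.span_singleton_le_iff_mem, LinearMap.mem_ker, LinearMap.comp_apply,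
        Submodule.mkQ_apply, Submodule.Quotient.mk_eq_zero]
      refine ⟨φ 1, ⟨1, rfl⟩, ?_⟩
      show x • φ 1 = φ x
      rw [← map_smul, smul_eq_mul, mul_one]
    · intro z
      obtain ⟨a, ha⟩ := ((Submodule.mkQ_surjective _).comp φ.surjective_rangeRestrict) z
      exact ⟨Submodule.Quotient.mk a, ha⟩
  refine le_trans ?_ (e4 ▸ e5)
  let D := ∀ p : minimalPrimes R, R ⧸ (p.1 ⊔ Ideal.span {x})
  let g : C ⧸ xC →ₗ[R] D := Submodule.liftQ xC
    (LinearMap.pi fun p => ((p.1 : Submodule R R).mapQ (p.1 ⊔ Ideal.span {x}) LinearMap.id le_sup_left).comp (LinearMap.proj p)) (by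
      rintro _ ⟨c, rfl⟩
      rw [LinearMap.mem_ker]
      refine funext fun p => ?_
      obtain ⟨r, hr⟩ := Submodule.mkQ_surjective _ (c p)
      show (p.1 : Submodule R R).mapQ (p.1 ⊔ Ideal.span {x}) LinearMap.id le_sup_left (x • c p) = 0
      rw [← hr, ← map_smul, Submodule.mkQ_apply, Submodule.mapQ_apply, LinearMap.id_apply,
        Submodule.Quotient.mk_eq_zero]
      exact Submodule.mem_sup_right (Ideal.mem_span_singleton.2 (dvd_mul_right x r)))
  have hg : Function.Surjective g := fun d => by
    choose r hr using fun p => Submodule.mkQ_surjective _ (d p)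
    exact ⟨Submodule.Quotient.mk fun p => Submodule.Quotient.mk (r p), funext fun p => hr p⟩
  refine le_trans ?_ (Module.length_le_of_surjective g hg)
  rw [Module.length_pi_of_fintype]
  calc (Set.ncard (minimalPrimes R) : ℕ∞) = ∑ _p : minimalPrimes R, (1 : ℕ∞) := by
        rw [← Nat.card_coe_set_eq]; simp
    _ ≤ _ := Finset.sum_le_sum fun p _ => by
        have : Nontrivial (R ⧸ (p.1 ⊔ Ideal.span {x})) := by
          refine Ideal.Quotient.nontrivial_iff.2 fun h => ?_
          have : p.1 ⊔ Ideal.span {x} ≤ IsLocalRing.maximalIdeal R :=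
            sup_le (IsLocalRing.le_maximalIdeal (hprime p).ne_top) (by simpa [Ideal.span_le] using hx)
          rw [h, top_le_iff] at this
          exact (IsLocalRing.maximalIdeal.isMaximal R).ne_top this
        exact Order.one_le_iff_pos.2 Module.length_pos

end Groth.Agent.S2014
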