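import Groth.Statements.S2015
import Mathlib.Algebra.Module.FinitePresentation
import Mathlib.LinearAlgebra.Pi
import Mathlib.Tactic.LinearCombination

set_option autoImplicit false
universe u
open EtAlg

namespace Groth.Agent.S2015

theorem exists_min_dvd {R : Type*} [CommRing R] (h : ∀ a b : R, a ∣ b ∨ b ∣ a) {α : Type*}
    (s : Finset α) (c : α → R) (hs : s.Nonempty) : ∃ a ∈ s, ∀ b ∈ s, c a ∣ c b := by
  classical
  induction hs using Finset.Nonempty.cons_induction with
  | singleton a => exact ⟨a, Finset.mem_singleton_self a, fun b hb => by rw [Finset.mem_singleton.1 hb]⟩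
  | cons x t _ _ ih =>
    obtain ⟨a, ha, ha'⟩ := ih
    rcases h (c x) (c a) with hx | hx
    · refine ⟨x, Finset.mem_cons_self _ _, fun b hb => ?_⟩
      rcases Finset.mem_cons.1 hb with rfl | hb
      · exact dvd_rfl
      · exact hx.trans (ha' b hb)
    · refine ⟨a, Finset.mem_cons_of_mem ha, fun b hb => ?_⟩
      rcases Finset.mem_cons.1 hb with rfl | hb
      · exact hx
      · exact ha' b hb

theorem exists_smith {R : Type*} [CommRing R] (h : ∀ a b : R, a ∣ b ∨ b ∣ a) :
    ∀ (n : ℕ) (G : Finset (Fin n → R)), ∃ (e : (Fin n → R) ≃ₗ[R] (Fin n → R)) (f : Fin n → R),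
      ∀ k, k ∈ Submodule.span R (G : Set (Fin n → R)) ↔ ∀ i, f i ∣ e k i := by
  classical
  intro n
  induction n with
  | zero => exact fun G => ⟨LinearEquiv.refl R _, 0, fun k => ⟨fun _ i => i.elim0, fun _ => by
      rw [Subsingleton.elim k 0]; exact zero_mem _⟩⟩
  | succ n ih =>
    intro G
    by_cases hG : G = ∅
    · subst hG
      refine ⟨LinearEquiv.refl R _, 0, fun k => ?_⟩
      simp [funext_iff]
    obtain ⟨⟨k₀, i₀⟩, hmem, hmin⟩ := exists_min_dvd h (G ×ˢ (Finset.univ : Finset (Fin (n + 1))))
      (fun p => p.1 p.2) ((Finset.nonempty_iff_ne_empty.2 hG).product ⟨0, Finset.mem_univ _⟩)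
    rw [Finset.mem_product] at hmem
    set a := k₀ i₀
    have hdvd : ∀ k ∈ G, ∀ i, a ∣ k i := fun k hk i => hmin (k, i) (Finset.mem_product.2 ⟨hk, Finset.mem_univ _⟩)
    choose w hw using hdvd k₀ hmem.1
    let v : Fin (n + 1) → R := fun i => if i = i₀ then 1 else w i
    have hv : a • v = k₀ := funext fun i => by
      simp only [Pi.smul_apply, smul_eq_mul, v]
      split_ifs with hi
      · rw [mul_one, hi]
      · exact (hw i).symm
    have hv1 : v i₀ = 1 := if_pos rfl
    let Φ : (Fin (n + 1) → R) →ₗ[R] (Fin n → R) :=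
      LinearMap.pi fun j => LinearMap.proj (i₀.succAbove j) - (v (i₀.succAbove j)) • LinearMap.proj i₀
    obtain ⟨e', f', hf'⟩ := ih (G.image Φ)
    let T : (Fin (n + 1) → R) →ₗ[R] (Fin (n + 1) → R) :=
      LinearMap.pi (Fin.cons (LinearMap.proj i₀) fun j => (LinearMap.proj j).comp (e'.toLinearMap.comp Φ))
    have hT0 : ∀ k, T k 0 = k i₀ := fun k => rfl
    have hTs : ∀ k j, T k (Fin.succ j) = e' (Φ k) j := fun k j => by simp [T]
    have hrec : ∀ k i, k i = Fin.insertNth (α := fun _ => R) i₀ (k i₀)
        (fun j => Φ k j + k i₀ * v (i₀.succAbove j)) i := fun k i => by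
      induction i using Fin.succAboveCases i₀ with
      | x => simp
      | p j => simp [Φ]; ring
    have hTbij : Function.Bijective T := by
      refine ⟨fun k k' he => funext fun i => ?_, fun y => ?_⟩
      · have h0 : k i₀ = k' i₀ := by rw [← hT0 k, ← hT0 k', he]
        have hs : Φ k = Φ k' := e'.injective (funext fun j => by rw [← hTs k j, ← hTs k' j, he])
        rw [hrec k i, hrec k' i, h0, hs]
      · let c := y 0
        let z := e'.symm fun j => y (Fin.succ j)
        refine ⟨Fin.insertNth i₀ c (fun j => z j + c * v (i₀.succAbove j)), funext fun i => ?_⟩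
        induction i using Fin.cases with
        | zero => rw [hT0, Fin.insertNth_apply_same]
        | succ j =>
          rw [hTs]
          have : Φ (Fin.insertNth i₀ c (fun j => z j + c * v (i₀.succAbove j))) = z := funext fun l => by
            simp [Φ, mul_comm]
          rw [this, LinearEquiv.apply_symm_apply]
    refine ⟨LinearEquiv.ofBijective T hTbij, Fin.cons a f', fun k => ?_⟩
    have hΦk₀ : Φ k₀ = 0 := by
      rw [← hv, map_smul]
      have : Φ v = 0 := funext fun j => by simp [Φ, hv1]
      rw [this, smul_zero]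
    have hall : ∀ x ∈ Submodule.span R (G : Set (Fin (n + 1) → R)), a ∣ x i₀ := fun x hx => by
      induction hx using Submodule.span_induction with
      | mem x hx => exact hdvd x hx i₀
      | zero => exact dvd_zero _
      | add x y _ _ hx hy => exact dvd_add hx hy
      | smul c x _ hx => exact hx.mul_left c
    have hspan : ∀ k, k ∈ Submodule.span R (G : Set (Fin (n + 1) → R)) ↔
        a ∣ k i₀ ∧ Φ k ∈ Submodule.span R (↑(G.image Φ) : Set (Fin n → R)) := by
      intro k
      rw [Finset.coe_image, ← Submodule.map_span]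
      refine ⟨fun hk => ⟨hall k hk, Submodule.mem_map_of_mem hk⟩, ?_⟩
      rintro ⟨hd, k', hk', hke⟩
      have hd' : a ∣ k' i₀ := hall k' hk'
      obtain ⟨c, hc⟩ := dvd_sub hd hd'
      have : k = k' + c • k₀ := funext fun i => by
        rw [hrec k i, hrec (k' + c • k₀) i, map_add, map_smul, hΦk₀, smul_zero, add_zero, hke]
        have : (k' + c • k₀) i₀ = k i₀ := by
          simp only [Pi.add_apply, Pi.smul_apply, smul_eq_mul]
          linear_combination -hc
        rw [this]
      rw [this]
      exact add_mem hk' (Submodule.smul_mem _ c (Submodule.subset_span hmem.1))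
    rw [hspan, hf']
    rw [Fin.forall_fin_succ]
    simp only [LinearEquiv.ofBijective_apply, Fin.cons_zero, Fin.cons_succ, hT0, hTs]


/-- Let R be a nonzero ring such that for all a, b in R either a divides b or b divides a. Then each
finitely presented R-module decomposes as a direct sum of finitely many cyclic modules R/fR. -/
theorem result (R : Type u) [CommRing R] [Nontrivial R] (h : ∀ a b : R, a ∣ b ∨ b ∣ a)
    (M : Type u) [AddCommGroup M] [Module R M] [Module.FinitePresentation R M] :
    ∃ (n : ℕ) (f : Fin n → R), Nonempty (M ≃ₗ[R] ((i : Fin n) → R ⧸ Ideal.span {f i})) := by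
  obtain ⟨n, π, hπ⟩ := Module.Finite.exists_fin' R M
  obtain ⟨G, hG⟩ := Module.FinitePresentation.fg_ker π hπ
  obtain ⟨e, f, hf⟩ := exists_smith h n G
  let Ψ : (Fin n → R) →ₗ[R] ((i : Fin n) → R ⧸ Ideal.span {f i}) :=
    (LinearMap.pi fun i => (Submodule.mkQ (Ideal.span {f i} : Ideal R)).comp (LinearMap.proj i)).comp e.toLinearMap
  have hΨ : Function.Surjective Ψ := fun y => by
    choose r hr using fun i => Submodule.mkQ_surjective _ (y i)
    exact ⟨e.symm r, funext fun i => by simp [Ψ, ← hr i]⟩
  have hker : LinearMap.ker π = LinearMap.ker Ψ := by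
    ext k
    rw [← hG, hf, LinearMap.mem_ker, funext_iff]
    refine forall_congr' fun i => ?_
    simp [Ψ, Ideal.Quotient.eq_zero_iff_mem, Ideal.mem_span_singleton]
  exact ⟨n, f, ⟨((LinearMap.quotKerEquivOfSurjective π hπ).symm.trans
    (Submodule.quotEquivOfEq _ _ hker)).trans (LinearMap.quotKerEquivOfSurjective Ψ hΨ)⟩⟩

end Groth.Agent.S2015
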