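import Groth.Statements.S2016
import Groth.Agent.S2015
import Mathlib.Algebra.Module.FinitePresentation
import Mathlib.RingTheory.Localization.AtPrime.Basic

set_option autoImplicit false
universe u
open EtAlg

namespace Groth.Agent.S2016

open Submodule

theorem isLocalizedModule_quot {R : Type u} [CommRing R] (S : Submonoid R) (L : Type u) [CommRing L] [Algebra R L]
    [IsLocalization S L] (a : R) :
    IsLocalizedModule S ((Submodule.mapQ (Ideal.span {a}) ((Ideal.span {algebraMap R L a}).restrictScalars R)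
      (Algebra.linearMap R L) (by
        rw [Ideal.span, Submodule.span_singleton_le_iff_mem]
        exact Ideal.mem_span_singleton_self (algebraMap R L a))) :
      (R ⧸ Ideal.span {a}) →ₗ[R] L ⧸ (Ideal.span {algebraMap R L a}).restrictScalars R) where
  map_units x := by
    refine (Module.End.isUnit_iff _).2 ⟨fun y z hyz => ?_, fun y => ?_⟩
    · obtain ⟨y, rfl⟩ := Submodule.mkQ_surjective _ y
      obtain ⟨z, rfl⟩ := Submodule.mkQ_surjective _ z
      simp only [Module.algebraMap_end_apply, Submodule.mkQ_apply, ← Submodule.Quotient.mk_smul] at hyz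
      rw [Submodule.Quotient.eq] at hyz
      rw [Submodule.mkQ_apply, Submodule.mkQ_apply, Submodule.Quotient.eq]
      rw [← smul_sub, Submodule.restrictScalars_mem, Algebra.smul_def] at hyz
      exact (Ideal.unit_mul_mem_iff_mem _ (IsLocalization.map_units L x)).1 hyz
    · obtain ⟨y, rfl⟩ := Submodule.mkQ_surjective _ y
      obtain ⟨u, hu⟩ := IsLocalization.map_units L x
      refine ⟨Submodule.Quotient.mk (↑u⁻¹ * y), ?_⟩
      rw [Module.algebraMap_end_apply, ← Submodule.Quotient.mk_smul, Algebra.smul_def, ← mul_assoc, ← hu,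
        Units.mul_inv, one_mul, Submodule.mkQ_apply]
  surj y := by
    obtain ⟨y, rfl⟩ := Submodule.mkQ_surjective _ y
    obtain ⟨⟨r, s⟩, h⟩ := IsLocalization.surj S y
    refine ⟨⟨Submodule.Quotient.mk r, s⟩, ?_⟩
    rw [Submonoid.smul_def, Submodule.mkQ_apply, ← Submodule.Quotient.mk_smul, Algebra.smul_def, mul_comm]
    exact congrArg _ h
  exists_of_eq {y z} h := by
    obtain ⟨y, rfl⟩ := Submodule.mkQ_surjective _ y
    obtain ⟨z, rfl⟩ := Submodule.mkQ_surjective _ z
    rw [Submodule.mkQ_apply, Submodule.mkQ_apply, Submodule.mapQ_apply, Submodule.mapQ_apply, Submodule.Quotient.eq,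
      Submodule.restrictScalars_mem, Algebra.linearMap_apply, Algebra.linearMap_apply, ← map_sub,
      Ideal.mem_span_singleton'] at h
    obtain ⟨c, hc⟩ := h
    obtain ⟨⟨r, s⟩, hr⟩ := IsLocalization.surj S c
    have : algebraMap R L ((s : R) * (y - z)) = algebraMap R L (r * a) := by
      rw [map_mul, map_mul, ← hr, ← hc]; ring
    obtain ⟨w, hw⟩ := IsLocalization.exists_of_eq (M := S) this
    refine ⟨w * s, ?_⟩
    rw [Submodule.mkQ_apply, Submodule.mkQ_apply, Submonoid.smul_def, Submonoid.smul_def, Submonoid.coe_mul,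
      ← Submodule.Quotient.mk_smul, ← Submodule.Quotient.mk_smul, Submodule.Quotient.eq, ← smul_sub, smul_eq_mul,
      Ideal.mem_span_singleton']
    exact ⟨(w : R) * r, by linear_combination (-1 : R) * hw⟩

/-- Near each maximal ideal the module is, up to a multiplier, a summand of cyclic ones. -/
theorem exists_local_split {R : Type u} [CommRing R] (m : Ideal R) [m.IsMaximal]
    (h : ∀ a b : Localization.AtPrime m, a ∣ b ∨ b ∣ a)
    (M : Type u) [AddCommGroup M] [Module R M] [Module.FinitePresentation R M] :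
    ∃ (n : ℕ) (f : Fin n → R) (π : ((i : Fin n) → R ⧸ Ideal.span {f i}) →ₗ[R] M)
      (σ : M →ₗ[R] ((i : Fin n) → R ⧸ Ideal.span {f i})) (s : R), s ∉ m ∧ π.comp σ = s • LinearMap.id := by
  classical
  let L := Localization.AtPrime m
  let S := m.primeCompl
  let Mm := LocalizedModule S M
  let mk : M →ₗ[R] Mm := LocalizedModule.mkLinearMap S M
  obtain ⟨n, g, ⟨e⟩⟩ := Groth.Agent.S2015.result L h Mm
  choose q hq using fun i => IsLocalization.surj S (g i)
  let a : Fin n → R := fun i => (q i).1
  have hspan : ∀ i, Ideal.span {g i} = Ideal.span {algebraMap R L (a i)} := fun i => by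
    rw [← hq i, Ideal.span_singleton_mul_right_unit (IsLocalization.map_units L (q i).2)]
  let e₂ : Mm ≃ₗ[L] ((i : Fin n) → L ⧸ Ideal.span {algebraMap R L (a i)}) :=
    e.trans (LinearEquiv.piCongrRight fun i => Submodule.quotEquivOfEq _ _ (hspan i))
  let v : Fin n → Mm := fun i => e₂.symm (Pi.single i (Submodule.Quotient.mk 1))
  choose p hp using fun i => IsLocalizedModule.surj S mk (v i)
  have hann : ∀ i, ∃ u : S, u • (a i • (p i).1) = u • (0 : M) := fun i => by
    refine IsLocalizedModule.exists_of_eq (f := mk) ?_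
    rw [map_zero, map_smul, ← hp i, smul_comm]
    have : a i • v i = 0 := by
      rw [← algebraMap_smul L, ← map_smul e₂.symm]
      have : algebraMap R L (a i) • (Pi.single i (Submodule.Quotient.mk 1) : (j : Fin n) → L ⧸ Ideal.span {algebraMap R L (a j)}) = 0 := by
        rw [← Pi.single_smul, ← Submodule.Quotient.mk_smul, smul_eq_mul, mul_one,
          (Submodule.Quotient.mk_eq_zero _).2 (Ideal.mem_span_singleton_self _), Pi.single_zero]
      rw [this, map_zero]
    rw [this, smul_zero]
  choose u hu using hann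
  let y : Fin n → M := fun i => (u i : R) • (p i).1
  let t : Fin n → R := fun i => (u i : R) * ((p i).2 : R)
  have hy : ∀ i, mk (y i) = t i • v i := fun i => by
    rw [map_smul, ← hp i, Submonoid.smul_def, smul_smul]
  have hy0 : ∀ i, a i • y i = 0 := fun i => by
    have := hu i
    rw [smul_zero] at this
    rw [smul_comm]
    exact this
  let π : ((i : Fin n) → R ⧸ Ideal.span {a i}) →ₗ[R] M :=
    ∑ i, (Submodule.liftQ (Ideal.span {a i}) (LinearMap.toSpanSingleton R M (y i)) (by
      rw [Ideal.span, Submodule.span_singleton_le_iff_mem, LinearMap.mem_ker, LinearMap.toSpanSingleton_apply]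
      exact hy0 i)).comp (LinearMap.proj i)
  let fq : ∀ i, (R ⧸ Ideal.span {a i}) →ₗ[R] L ⧸ (Ideal.span {algebraMap R L (a i)}).restrictScalars R :=
    fun i => Submodule.mapQ _ _ (Algebra.linearMap R L) (by
      rw [Ideal.span, Submodule.span_singleton_le_iff_mem]
      exact Ideal.mem_span_singleton_self (algebraMap R L (a i)))
  haveI : ∀ i, IsLocalizedModule S (fq i) := fun i => isLocalizedModule_quot S L (a i)
  let ψ : ∀ i, M →ₗ[R] L ⧸ (Ideal.span {algebraMap R L (a i)}).restrictScalars R := fun i =>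
    ((Submodule.Quotient.restrictScalarsEquiv R (Ideal.span {algebraMap R L (a i)})).symm.toLinearMap.comp
      (((LinearMap.proj i).comp e₂.toLinearMap).restrictScalars R)).comp mk
  choose σ₀ s₀ hσ₀ using fun i => Module.FinitePresentation.exists_lift_of_isLocalizedModule S (fq i) (ψ i)
  let c : Fin n → R := fun i => (∏ j ∈ Finset.univ.erase i, t j) * ∏ j ∈ Finset.univ.erase i, (s₀ j : R)
  let T : R := (∏ j, t j) * ∏ j, (s₀ j : R)
  have hc : ∀ i, t i * (s₀ i : R) * c i = T := fun i => by
    show t i * (s₀ i : R) * (_ * _) = _ * _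
    rw [← Finset.mul_prod_erase _ t (Finset.mem_univ i),
      ← Finset.mul_prod_erase _ (fun j => (s₀ j : R)) (Finset.mem_univ i)]
    ring
  let σ : M →ₗ[R] ((i : Fin n) → R ⧸ Ideal.span {a i}) := LinearMap.pi fun i => c i • σ₀ i
  have key : mk.comp (π.comp σ) = mk.comp (T • LinearMap.id) := by
    refine LinearMap.ext fun x => e₂.injective (funext fun i => ?_)
    show e₂ (mk (π (σ x))) i = e₂ (mk (T • x)) i
    choose r hr using fun j => Submodule.mkQ_surjective _ (σ₀ j x)
    have h1 : π (σ x) = ∑ j, (c j * r j) • y j := by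
      simp only [π, σ, LinearMap.coe_sum, Finset.sum_apply, LinearMap.comp_apply, LinearMap.proj_apply,
        LinearMap.pi_apply, LinearMap.smul_apply]
      refine Finset.sum_congr rfl fun j _ => ?_
      rw [← hr j, map_smul, Submodule.mkQ_apply, Submodule.liftQ_apply, LinearMap.toSpanSingleton_apply, smul_smul]
    have h2 : ∀ j, e₂ (v j) = Pi.single j (Submodule.Quotient.mk 1) := fun j => e₂.apply_symm_apply _
    have hψ : ∀ j, (Submodule.Quotient.mk (algebraMap R L (r j)) : L ⧸ Ideal.span {algebraMap R L (a j)}) =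
        (s₀ j : R) • e₂ (mk x) j := fun j => by
      have h3 := LinearMap.congr_fun (hσ₀ j) x
      rw [LinearMap.comp_apply, ← hr j] at h3
      have h4 := congrArg (Submodule.Quotient.restrictScalarsEquiv R (Ideal.span {algebraMap R L (a j)})) h3
      rw [LinearMap.smul_apply, Submonoid.smul_def, map_smul] at h4
      rw [show (ψ j) x = (Submodule.Quotient.restrictScalarsEquiv R (Ideal.span {algebraMap R L (a j)})).symm (e₂ (mk x) j) from rfl,
        LinearEquiv.apply_symm_apply] at h4
      exact h4
    rw [h1, map_sum, map_smul]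
    simp only [map_smul, hy, smul_smul]
    rw [map_sum, Finset.sum_apply, ← LinearEquiv.restrictScalars_apply R e₂ , map_smul, LinearEquiv.restrictScalars_apply,
      Pi.smul_apply, Finset.sum_eq_single i]
    · rw [← LinearEquiv.restrictScalars_apply R e₂, map_smul, LinearEquiv.restrictScalars_apply, h2, Pi.smul_apply,
        Pi.single_eq_same, ← hc i, mul_assoc, mul_comm (r i), ← mul_assoc, mul_smul, ← algebraMap_smul L (r i),
        ← Submodule.Quotient.mk_smul, smul_eq_mul, mul_one, hψ, smul_smul]
      congr 1; ring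
    · intro j _ hj
      rw [← LinearEquiv.restrictScalars_apply R e₂, map_smul, LinearEquiv.restrictScalars_apply, h2, Pi.smul_apply,
        Pi.single_eq_of_ne (Ne.symm hj), smul_zero]
    · simp
  obtain ⟨w, hw⟩ := Module.Finite.exists_smul_of_comp_eq_of_isLocalizedModule (S := S) (f := mk) _ _ key
  refine ⟨n, a, π, (w : R) • σ, (w : R) * T, ?_, ?_⟩
  · refine S.mul_mem w.2 (S.mul_mem (prod_mem fun j _ => ?_) (prod_mem fun j _ => (s₀ j).2))
    exact S.mul_mem (u j).2 (p j).2.2
  · rw [LinearMap.comp_smul, mul_smul]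
    exact hw


/-- Let R be a ring such that for every maximal ideal m and all a, b in R_m, either a divides b or b
divides a in R_m. Then each finitely presented R-module is a direct summand of a direct sum of
finitely many cyclic modules R/fR. -/
theorem result (R : Type u) [CommRing R]
    (h : ∀ (m : Ideal R) [m.IsMaximal], ∀ a b : Localization.AtPrime m, a ∣ b ∨ b ∣ a)
    (M : Type u) [AddCommGroup M] [Module R M] [Module.FinitePresentation R M] :
    ∃ (n : ℕ) (f : Fin n → R) (N : Type u) (_ : AddCommGroup N) (_ : Module R N),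
      Nonempty ((M × N) ≃ₗ[R] ((i : Fin n) → R ⧸ Ideal.span {f i})) := by
  classical
  choose n f π σ s hs hπ using fun m : {m : Ideal R // m.IsMaximal} =>
    haveI := m.2; exists_local_split m.1 (h m.1) M
  have htop : Ideal.span (Set.range s) = ⊤ := by
    by_contra hne
    obtain ⟨m, hm, hle⟩ := Ideal.exists_le_maximal _ hne
    exact hs ⟨m, hm⟩ (hle (Ideal.subset_span ⟨⟨m, hm⟩, rfl⟩))
  obtain ⟨l, hl⟩ := Finsupp.mem_ideal_span_range_iff_exists_finsupp.1 ((Ideal.eq_top_iff_one _).1 htop)
  let J := Σ m : l.support, Fin (n m.1)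
  let ej : Fin (Fintype.card J) ≃ J := (Fintype.equivFin J).symm
  let F : J → R := fun j => f j.1.1 j.2
  let Pmap : ((i : Fin (Fintype.card J)) → R ⧸ Ideal.span {F (ej i)}) →ₗ[R] ((j : J) → R ⧸ Ideal.span {F j}) :=
    (LinearEquiv.piCongrLeft R (fun j => R ⧸ Ideal.span {F j}) ej).toLinearMap
  let p' : ((j : J) → R ⧸ Ideal.span {F j}) →ₗ[R] M :=
    ∑ m : l.support, (π m.1).comp (LinearMap.pi fun k => LinearMap.proj (⟨m, k⟩ : J))
  let s' : M →ₗ[R] ((j : J) → R ⧸ Ideal.span {F j}) :=
    LinearMap.pi fun j => l j.1.1 • (LinearMap.proj j.2).comp (σ j.1.1)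
  have hps : ∀ x, p' (s' x) = x := fun x => by
    simp only [p', LinearMap.coe_sum, Finset.sum_apply, LinearMap.comp_apply]
    have : ∀ m : l.support, (LinearMap.pi fun k => LinearMap.proj (R := R) (φ := fun j : J => R ⧸ Ideal.span {F j}) (⟨m, k⟩ : J)) (s' x) =
        l m.1 • σ m.1 x := fun m => rfl
    simp only [this, map_smul]
    have h5 : ∀ m : l.support, π m.1 (σ m.1 x) = s m.1 • x := fun m => LinearMap.congr_fun (hπ m.1) x
    simp only [h5, smul_smul]
    rw [← Finset.sum_smul, Finset.sum_coe_sort l.support (fun m => l m * s m)]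
    rw [show ∑ m ∈ l.support, l m * s m = 1 from hl, one_smul]
  let P' := p'.comp Pmap
  let E := LinearEquiv.piCongrLeft R (fun j => R ⧸ Ideal.span {F j}) ej
  let S' : M →ₗ[R] ((i : Fin (Fintype.card J)) → R ⧸ Ideal.span {F (ej i)}) := E.symm.toLinearMap.comp s'
  have hPS : ∀ x, P' (S' x) = x := fun x => by
    show p' (E (E.symm (s' x))) = x
    rw [LinearEquiv.apply_symm_apply, hps]
  let q : ((i : Fin (Fintype.card J)) → R ⧸ Ideal.span {F (ej i)}) →ₗ[R] LinearMap.ker P' :=
    LinearMap.codRestrict _ (LinearMap.id - S'.comp P') fun z => by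
      simp [LinearMap.mem_ker, map_sub, hPS]
  refine ⟨Fintype.card J, fun i => F (ej i), LinearMap.ker P', inferInstance, inferInstance,
    ⟨(LinearEquiv.ofLinearMap (LinearMap.prod P' q) (S'.coprod (LinearMap.ker P').subtype) ?_ ?_).symm⟩⟩
  · refine LinearMap.ext fun ⟨x, k⟩ => Prod.ext ?_ (Subtype.ext ?_)
    · simp [hPS, LinearMap.mem_ker.1 k.2]
    · simp [q, hPS, LinearMap.mem_ker.1 k.2]
  · refine LinearMap.ext fun z => ?_
    simp [q]

end Groth.Agent.S2016
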