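import Groth.Statements.S2017
import Mathlib.RingTheory.Adjoin.Tower
import Mathlib.RingTheory.FiniteType

set_option autoImplicit false
universe u
open EtAlg

namespace Groth.Agent.S2017

/-- Let R be a Noetherian ring, A, B, C R-algebras of finite type, f : A -> B a surjective R-algebra map
and g : C -> B an R-algebra map making B a finite C-module. Then the fibre product A ×_B C (the
equalizer of f ∘ pr₁ and g ∘ pr₂ in A × C) is an R-algebra of finite type. -/
theorem result (R A B C : Type u) [CommRing R] [IsNoetherianRing R] [CommRing A] [CommRing B]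
    [CommRing C] [Algebra R A] [Algebra R B] [Algebra R C] [Algebra.FiniteType R A] [Algebra.FiniteType R B]
    [Algebra.FiniteType R C] (f : A →ₐ[R] B) (hf : Function.Surjective f) (g : C →ₐ[R] B)
    (hg : (g.toRingHom).Finite) :
    Algebra.FiniteType R ↥(AlgHom.equalizer (f.comp (AlgHom.fst R A C)) (g.comp (AlgHom.snd R A C))) := by
  set P := AlgHom.equalizer (f.comp (AlgHom.fst R A C)) (g.comp (AlgHom.snd R A C)) with hP
  letI : Algebra C B := g.toAlgebra
  haveI : Module.Finite C B := hg
  obtain ⟨s, hs⟩ := Module.Finite.fg_top (R := C) (M := B)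
  choose σ hσ using hf
  have hFT : Algebra.FiniteType R (A × C) := inferInstance
  have hfin : Module.Finite P (A × C) := by
    classical
    refine ⟨⟨insert (1, 0) (insert (0, 1) (s.image fun b => (σ b, (0 : C)))), ?_⟩⟩
    rw [eq_top_iff]
    rintro ⟨a, c⟩ -
    set N := Submodule.span P (↑(insert ((1 : A), (0 : C)) (insert (0, 1) (s.image fun b => (σ b, (0 : C))))) : Set (A × C))
    have hmem : ∀ x : A × C, x ∈ insert ((1 : A), (0 : C)) (insert (0, 1) (s.image fun b => (σ b, (0 : C)))) → x ∈ N :=
      fun x hx => Submodule.subset_span hx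
    have hC : ∀ c : C, ((0 : A), c) ∈ N := fun c => by
      let q : P := ⟨(σ (g c), c), hσ _⟩
      have := N.smul_mem q (hmem (0, 1) (by simp))
      convert this using 1
      change _ = ((σ (g c), c) : A × C) * (0, 1)
      simp
    have hker : ∀ k : A, f k = 0 → ((k, (0 : C)) : A × C) ∈ N := fun k hk => by
      let q : P := ⟨(k, 0), by simp [hP, AlgHom.mem_equalizer, hk]⟩
      have := N.smul_mem q (hmem (1, 0) (by simp))
      convert this using 1
      change _ = ((k, 0) : A × C) * (1, 0)
      simp
    have hB : ∀ b : B, ∃ a, f a = b ∧ ((a, (0 : C)) : A × C) ∈ N := fun b => by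
      have hb : b ∈ Submodule.span C (s : Set B) := hs ▸ Submodule.mem_top
      induction hb using Submodule.span_induction with
      | mem x hx => exact ⟨σ x, hσ x, hmem _ (Finset.mem_insert_of_mem (Finset.mem_insert_of_mem (Finset.mem_image_of_mem _ hx)))⟩
      | zero => exact ⟨0, map_zero f, N.zero_mem⟩
      | add x y _ _ hx hy =>
        obtain ⟨u, hu, hu'⟩ := hx
        obtain ⟨v, hv, hv'⟩ := hy
        exact ⟨u + v, by rw [map_add, hu, hv], by simpa using N.add_mem hu' hv'⟩
      | smul c x _ hx =>
        obtain ⟨u, hu, hu'⟩ := hx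
        let q : P := ⟨(σ (g c), c), hσ _⟩
        refine ⟨σ (g c) * u, by rw [map_mul, hu, hσ]; rfl, ?_⟩
        have := N.smul_mem q hu'
        convert this using 1
        change _ = ((σ (g c), c) : A × C) * (u, 0)
        simp
    obtain ⟨a', ha', hN⟩ := hB (f a)
    have hk := hker (a - a') (by rw [map_sub, ha', sub_self])
    simpa using N.add_mem (N.add_mem hk hN) (hC c)
  refine ⟨fg_of_fg_of_fg R P (A × C) ((Algebra.FiniteType.out)) hfin.fg_top ?_⟩
  exact Subtype.val_injective

end Groth.Agent.S2017
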