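import Groth.Statements.S2018
import Mathlib.RingTheory.IntegralClosure.IsIntegralClosure.Basic

set_option autoImplicit false
universe u
open EtAlg

namespace Groth.Agent.S2018

open Polynomial

/-- Let g : A' -> A be a surjective ring map and f : B -> A an integral ring map. Then the projection
from the fibre product B ×_A A' (the equalizer of f ∘ pr₁ and g ∘ pr₂ in B × A') to A' is integral. -/
theorem result (A A' B : Type u) [CommRing A] [CommRing A'] [CommRing B] (g : A' →+* A)
    (hg : Function.Surjective g) (f : B →+* A) (hf : f.IsIntegral) :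
    ((RingHom.snd B A').comp ((f.comp (RingHom.fst B A')).eqLocus (g.comp (RingHom.snd B A'))).subtype).IsIntegral := by
  set P := (f.comp (RingHom.fst B A')).eqLocus (g.comp (RingHom.snd B A'))
  intro a'
  obtain ⟨F, hFm, hF⟩ := hf (g a')
  choose σ hσ using hg
  let φ : P →+* A' := (RingHom.snd B A').comp P.subtype
  let ψ : P →+* B := (RingHom.fst B A').comp P.subtype
  have hψ : Function.Surjective ψ := fun b => ⟨⟨(b, σ (f b)), (hσ (f b)).symm⟩, rfl⟩
  obtain ⟨G, hG, -, hGm⟩ := lifts_and_natDegree_eq_and_monic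
    (map_surjective ψ hψ F : F ∈ lifts ψ) hFm
  have hsq : g.comp φ = f.comp ψ := RingHom.ext fun x => x.2.symm
  have hk : g (eval₂ φ a' G) = 0 := by
    rw [hom_eval₂, hsq, ← eval₂_map, hG]; exact hF
  let q : P := ⟨(0, eval₂ φ a' G), by simp [P, hk]⟩
  by_cases hdeg : G.natDegree = 0
  · have h1 : G = 1 := hGm.natDegree_eq_zero.1 hdeg
    have : F = 1 := by rw [← hG, h1, Polynomial.map_one]
    rw [this, eval₂_one] at hF
    refine ⟨X - C (⟨(0, a'), ?_⟩ : P), monic_X_sub_C _, by simp⟩
    change f 0 = g a'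
    rw [map_zero]
    calc (0 : A) = 0 * g a' := (zero_mul _).symm
      _ = g a' := by rw [← hF, one_mul]
  · refine ⟨G - C q, hGm.sub_of_left ?_, ?_⟩
    · exact (degree_C_le).trans_lt (natDegree_pos_iff_degree_pos.1 (Nat.pos_of_ne_zero hdeg))
    · rw [eval₂_sub, eval₂_C]
      exact sub_self _

end Groth.Agent.S2018
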