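import Groth.Statements.S2026
import Groth.Agent.Smooth28.Singular
-- import your own Groth.Agent.* helpers here

set_option autoImplicit false
universe u
open Smoothing

namespace Groth.Agent.S2026

/-- For a finitely presented `R`-algebra `A`, the singular ideal (functions vanishing on the non-smooth
locus) coincides with the radical of the ideal spanned by all strictly standard elements, and
equally with the radical of the ideal spanned by all elementary standard elements. -/
theorem result {R A : Type u} [CommRing R] [CommRing A]
    [Algebra R A] [Algebra.FinitePresentation R A] :
    Smoothing.singularIdeal R A = (Ideal.span {a : A | Smoothing.IsStrictlyStandard R A a}).radical ∧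
      Smoothing.singularIdeal R A =
        (Ideal.span {a : A | Smoothing.IsElementaryStandard R A a}).radical := by
  have hE : Ideal.span {a : A | Smoothing.IsElementaryStandard R A a} ≤
      Ideal.span {a : A | Smoothing.IsStrictlyStandard R A a} :=
    Ideal.span_mono fun a ha => Smooth28.isStrictlyStandard_of_isElementaryStandard ha
  have hS : (Ideal.span {a : A | Smoothing.IsStrictlyStandard R A a}).radical ≤
      Smoothing.singularIdeal R A := by
    refine (PrimeSpectrum.isRadical_vanishingIdeal (Algebra.smoothLocus R A)ᶜ).radical_le_iff.2 ?_
    exact Ideal.span_le.2 fun a ha => Smooth28.mem_singularIdeal_of_isStrictlyStandard ha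
  have hle := Smooth28.singularIdeal_le_radical_elementary (R := R) (A := A)
  exact ⟨le_antisymm (hle.trans (Ideal.radical_mono hE)) hS,
    le_antisymm hle ((Ideal.radical_mono hE).trans hS)⟩

end Groth.Agent.S2026
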