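import Groth.Statements.S2050
import Groth.Agent.FlatCrit65.Point.Global
-- import your own Groth.Agent.* helpers here

set_option autoImplicit false
universe u
open CAlg

namespace Groth.Agent.S2050

/-- Let `S = R[x_1, …, x_n]` and `M` a finite `S`-module, flat over `R`, such that for every prime `𝔭`
of `R` the localization `M_𝔭` is finitely presented over `S_𝔭`. If `R` embeds into the product of
finitely many of its local rings, then `M` is finitely presented over `S`. -/
theorem result {R : Type u} [CommRing R] (n : ℕ)
    {M : Type u} [AddCommGroup M] [Module (MvPolynomial (Fin n) R) M] [Module R M]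
    [IsScalarTower R (MvPolynomial (Fin n) R) M] [Module.Finite (MvPolynomial (Fin n) R) M] [Module.Flat R M]
    (s : Finset (PrimeSpectrum R))
    (hs : Function.Injective fun r : R => fun p : s => algebraMap R (Localization.AtPrime p.1.asIdeal) r)
    (hloc : ∀ (p : Ideal R) [p.IsPrime],
      Module.FinitePresentation
        (Localization (Algebra.algebraMapSubmonoid (MvPolynomial (Fin n) R) p.primeCompl))
        (LocalizedModule (Algebra.algebraMapSubmonoid (MvPolynomial (Fin n) R) p.primeCompl) M)) :
    Module.FinitePresentation (MvPolynomial (Fin n) R) M := by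
  obtain ⟨k, π, hπ⟩ := Module.Finite.exists_fin' (MvPolynomial (Fin n) R) M
  refine Groth.Agent.FlatCrit65.finitePresentation_small
    (fun i : Fin s.card => (s.equivFin.symm i).1.asIdeal.primeCompl) ?_ π hπ ?_
  · intro c hc
    apply hs
    funext p
    obtain ⟨r, hr, hrc⟩ := hc (s.equivFin p)
    simp only [Equiv.symm_apply_apply] at hr
    show algebraMap R (Localization.AtPrime p.1.asIdeal) c = algebraMap R _ 0
    rw [map_zero]
    exact (IsLocalization.map_eq_zero_iff p.1.asIdeal.primeCompl _ c).mpr ⟨⟨r, hr⟩, hrc⟩
  · intro i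
    have := hloc (s.equivFin.symm i).1.asIdeal
    obtain ⟨K, hK, hle, h⟩ := Groth.Agent.FlatCrit65.exists_fg_le_ker_at π hπ
      (Algebra.algebraMapSubmonoid (MvPolynomial (Fin n) R) (s.equivFin.symm i).1.asIdeal.primeCompl)
    refine ⟨K, hK, hle, fun x hx => ?_⟩
    obtain ⟨_, ⟨r, hr, rfl⟩, hm⟩ := h x hx
    exact ⟨r, hr, hm⟩

end Groth.Agent.S2050
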