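import Groth.Statements.S2052
import Mathlib
import Groth.Agent.Brnch26.Emb
import Groth.Agent.Brnch26.Local

set_option autoImplicit false
universe u
open CAlg

namespace Groth.Agent.S2052

/-- A local ring `A` is unibranch (its reduction is a domain with local integral closure) if and only if
the henselization of `A` has a unique minimal prime ideal. -/
theorem result {A Ah : Type u} [CommRing A] [IsLocalRing A]
    [CommRing Ah] [IsLocalRing Ah] [Algebra A Ah] [IsLocalHom (algebraMap A Ah)]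
    [Hensel.IsHenselization A Ah] :
    CAlg2.IsUnibranch A ↔ CAlgX.HasUniqueMinimalPrime Ah := by
  rw [← Groth.Agent.Brnch26.isUnibranch_iff, ← Groth.Agent.Brnch26.card_minimalPrimes_of_isHenselization (A := A) Ah, Groth.Agent.Brnch26.card_eq_one_iff]
  constructor
  · rintro ⟨h1, ⟨⟨P, hP⟩⟩⟩
    exact ⟨P, hP, fun Q hQ => congrArg Subtype.val (h1.elim ⟨Q, hQ⟩ ⟨P, hP⟩)⟩
  · rintro ⟨P, hP, huniq⟩
    exact ⟨⟨fun a b => Subtype.ext ((huniq a.1 a.2).trans (huniq b.1 b.2).symm)⟩, ⟨⟨P, hP⟩⟩⟩

end Groth.Agent.S2052
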