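import Groth.Statements.S2054
import Mathlib
import Groth.Agent.CAlg1.SerreNormal
import Groth.Agent.CAlg1.Chain
import Groth.Agent.TF3.Depth
import Groth.Agent.TF3.Bidual
import Groth.Agent.TF3.DualLoc
import Groth.Agent.EGA4H10.NormalFlat

set_option autoImplicit false
universe u
open CAlg Groth.Agent

namespace Groth.Agent.S2054

/-- Let `R` be a Noetherian normal domain and `M` a finite `R`-module. Then `M` is reflexive (the map to
its double dual is bijective) if and only if `M` is torsion free and satisfies Serre's condition
`(S_2)`. -/
theorem result {R M : Type u} [CommRing R] [IsDomain R] [IsNoetherianRing R]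
    [IsIntegrallyClosed R] [AddCommGroup M] [Module R M] [Module.Finite R M] :
    Module.IsReflexive R M ↔ NoZeroSMulDivisors R M ∧ LocCoh.HasSk 2 R M := by
  classical
  have hnormal : LocCoh.HasRk 1 R ∧ LocCoh.HasSk 2 R R := CAlg1.serre_normal.mp fun p _ =>
    ⟨IsLocalization.isDomain_localization p.primeCompl_le_nonZeroDivisors,
      isIntegrallyClosed_of_isLocalization (Localization.AtPrime p) p.primeCompl p.primeCompl_le_nonZeroDivisors⟩
  have hfd : Module.Finite R (Module.Dual R M) := TF3.finite_dual
  have hfdd : Module.Finite R (Module.Dual R (Module.Dual R M)) := TF3.finite_dual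
  constructor
  · intro h
    have e : M ≃ₗ[R] Module.Dual R (Module.Dual R M) :=
      LinearEquiv.ofBijective (Module.Dual.eval R M) (Module.bijective_dual_eval R M)
    refine ⟨⟨fun {r x} hrx => ?_⟩, EGA4H10.hasSk_congr e.symm 2 (TF3.hasSk_hom le_rfl hnormal.2)⟩
    by_contra hc
    push Not at hc
    apply hc.2
    apply e.injective
    rw [map_zero]
    refine LinearMap.ext fun φ => ?_
    have h0 : r * e x φ = 0 := by
      have := congrArg (fun y => e y φ) hrx
      simpa using this
    exact (mul_eq_zero.mp h0).resolve_left hc.1
  · rintro ⟨htf, hS⟩
    have : Module.IsTorsionFree R M := inferInstance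
    refine ⟨CAlg1.bijective_of_depth_two (Module.Dual.eval R M) fun p _ => ?_⟩
    by_cases hp : p.height ≤ 1
    · left
      rw [TF3.localized_eval_bijective_iff]
      have hreg := hnormal.1 p (by exact_mod_cast hp)
      have : IsDomain (Localization.AtPrime p) :=
        IsLocalization.isDomain_localization p.primeCompl_le_nonZeroDivisors
      have : IsNoetherianRing (Localization.AtPrime p) :=
        IsLocalization.isNoetherianRing p.primeCompl _ inferInstance
      have : Module.Finite (Localization.AtPrime p) (LocalizedModule p.primeCompl M) :=
        Module.Finite.of_isLocalizedModule p.primeCompl (LocalizedModule.mkLinearMap p.primeCompl M)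
      have hpid : IsPrincipalIdealRing (Localization.AtPrime p) := by
        by_cases hf : IsField (Localization.AtPrime p)
        · let := hf.toField
          infer_instance
        have : IsIntegrallyClosed (Localization.AtPrime p) :=
          isIntegrallyClosed_of_isLocalization (Localization.AtPrime p) p.primeCompl p.primeCompl_le_nonZeroDivisors
        have hd : Ring.KrullDimLE 1 (Localization.AtPrime p) := Ring.krullDimLE_iff.mpr (by
          rw [IsLocalization.AtPrime.ringKrullDim_eq_height p]; exact_mod_cast hp)
        have hex : ∃! P : Ideal (Localization.AtPrime p), P ≠ ⊥ ∧ P.IsPrime :=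
          ⟨IsLocalRing.maximalIdeal _, ⟨fun hb => hf (IsLocalRing.isField_iff_maximalIdeal_eq.mpr hb),
            (IsLocalRing.maximalIdeal.isMaximal _).isPrime⟩, fun P ⟨hP, hPp⟩ =>
            IsLocalRing.eq_maximalIdeal (Ring.krullDimLE_one_iff_of_noZeroDivisors.mp hd P hP hPp)⟩
        have h3 : IsIntegrallyClosed (Localization.AtPrime p) ∧
            ∃! P : Ideal (Localization.AtPrime p), P ≠ ⊥ ∧ P.IsPrime := ⟨inferInstance, hex⟩
        have : IsDiscreteValuationRing (Localization.AtPrime p) :=
          ((IsDiscreteValuationRing.TFAE _ hf).out 0 3).mpr h3
        infer_instance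
      have : Module.IsTorsionFree (Localization.AtPrime p) (LocalizedModule p.primeCompl M) :=
        Module.isTorsionFree_iff_smul_eq_zero.mpr fun a z haz => by
          induction z using LocalizedModule.induction_on with
          | h m s =>
            obtain ⟨b, t, rfl⟩ := IsLocalization.exists_mk'_eq p.primeCompl a
            rw [← Localization.mk_eq_mk', LocalizedModule.mk_smul_mk, ← LocalizedModule.zero_mk (t * s),
              LocalizedModule.mk_eq] at haz
            obtain ⟨c, hc⟩ := haz
            simp only [Submonoid.smul_def, smul_zero, smul_smul] at hc
            rcases (smul_eq_zero.mp hc) with h | h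
            · left
              rw [mul_eq_zero, mul_eq_zero] at h
              have hne : ∀ w : p.primeCompl, (w : R) ≠ 0 := fun w hw => w.2 (hw ▸ p.zero_mem)
              rcases h with h | h | h
              · exact absurd h (hne c)
              · exact absurd h (hne _)
              · rw [h]; exact IsLocalization.mk'_zero t
            · right
              rw [h]; exact LocalizedModule.zero_mk s
      infer_instance
    · right
      rw [not_le] at hp
      refine ⟨?_, fun hass => ?_⟩
      · rcases subsingleton_or_nontrivial M with hM | hM
        · have : Subsingleton (LocalizedModule p.primeCompl M) :=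
            ⟨fun a b => by
              induction a using LocalizedModule.induction_on with
              | h a s => induction b using LocalizedModule.induction_on with
                | h b t => exact LocalizedModule.mk_eq.mpr ⟨1, Subsingleton.elim _ _⟩⟩
          rw [EGA4Alg4.depth_of_subsingleton]; exact le_top
        have hsupp : Module.support R M = Set.univ := Module.support_of_noZeroSMulDivisors
        have := hS p
        rw [CAlg1.supportDim_loc_of_univ hsupp ⟨p, inferInstance⟩, ← WithBot.coe_natCast, ← WithBot.coe_min,
          WithBot.coe_le_coe, min_eq_left] at this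
        · exact this
        · exact Order.add_one_le_of_lt hp
      · obtain ⟨hpp, φ, hφ⟩ := (isAssociatedPrime_iff (M := Module.Dual R (Module.Dual R M))).mp hass
        have hpb : p = ⊥ := by
          rw [eq_bot_iff, hφ]
          intro a ha
          rw [Submodule.mem_colon_singleton, Submodule.mem_bot] at ha
          rw [Submodule.mem_bot]
          by_contra ha0
          refine hpp.ne_top ?_
          rw [hφ, eq_top_iff]
          intro b _
          rw [Submodule.mem_colon_singleton, Submodule.mem_bot]
          refine LinearMap.ext fun ψ => ?_
          have := LinearMap.congr_fun ha ψ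
          simp only [LinearMap.smul_apply, smul_eq_mul, LinearMap.zero_apply, mul_eq_zero] at this ⊢
          exact Or.inr (this.resolve_left ha0)
        rw [hpb, Ideal.height_bot] at hp
        exact absurd hp (by simp)

end Groth.Agent.S2054
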