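import Groth.Statements.S2059
import Mathlib
import Groth.Agent.CAlg1.CardNull

set_option autoImplicit false
universe u
open CAlg

namespace Groth.Agent.S2059

/-- Let `k` be a field and `S` a `k`-algebra generated by a set of cardinality smaller than that of `k`.
Then for every maximal ideal `𝔪` of `S` the residue field `S/𝔪` is algebraic over `k`, and `S` is a
Jacobson ring. -/
theorem result {k S : Type u} [Field k] [CommRing S] [Algebra k S]
    (s : Set S) (hs : Algebra.adjoin k s = ⊤) (hcard : Cardinal.mk s < Cardinal.mk k) :
    (∀ (m : Ideal S) [m.IsMaximal], Algebra.IsAlgebraic k (S ⧸ m)) ∧ IsJacobsonRing S := by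
  exact ⟨fun m _ => Groth.Agent.CAlg1.isAlgebraic_quotient s hs hcard m, Groth.Agent.CAlg1.isJacobsonRing_of_generators s hs hcard⟩

end Groth.Agent.S2059
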