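import Groth.Statements.S2081
import Groth.Agent.Fin57.GenericFinite

set_option autoImplicit false
set_option backward.isDefEq.respectTransparency.types false
universe u
open CategoryTheory AlgebraicGeometry
open Mor

namespace Groth.Agent.S2081

/-- Let `f : X → Y` be locally of finite type and quasi-compact. Suppose `X` and `Y` have finitely many
irreducible components and that a point of `X` is a generic point of an irreducible component
exactly when its image is one in `Y`. Then `f⁻¹(V) → V` is finite for some dense open `V ⊆ Y`. -/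
theorem result {X Y : Scheme.{u}} (f : X ⟶ Y) [LocallyOfFiniteType f]
    [QuasiCompact f] (hX : (irreducibleComponents (X : Type u)).Finite) (hY : (irreducibleComponents (Y : Type u)).Finite)
    (hgen : ∀ x : X, closure {x} ∈ irreducibleComponents (X : Type u) ↔
      closure {f.base x} ∈ irreducibleComponents (Y : Type u)) :
    ∃ V : Y.Opens, Dense (V : Set Y) ∧ IsFinite (f ∣_ V) := by
  classical
  have hmax : ∀ x : X, Norm57.IsMax' x ↔ Norm57.IsMax' (f x) := fun x => by
    rw [Norm57.isMax'_iff, Norm57.isMax'_iff]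
    exact hgen x
  obtain ⟨O, hO, hOd⟩ := Fin57.exists_disjoint_opens hX
  obtain ⟨N, hN, hNd⟩ := Fin57.exists_disjoint_opens hY
  have key : ∀ η : {y : Y // Norm57.IsMax' y},
      ∃ D : Y.Opens, η.1 ∈ D ∧ IsFinite (f ∣_ D) := by
    rintro ⟨η, hη⟩
    have hsub : f.base ⁻¹' {η} ⊆ {x : X | Norm57.IsMax' x} := fun x hx =>
      (hmax x).mpr ((show f x = η from hx).symm ▸ hη)
    have hfin : (f.base ⁻¹' {η}).Finite := (Fin57.finite_setOf_isMax' hX).subset hsub
    obtain ⟨_, ⟨V, hV, rfl⟩, hηV, -⟩ :=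
      Y.isBasis_affineOpens.exists_subset_of_mem_open (Set.mem_univ η) isOpen_univ
    replace hV : IsAffineOpen V := hV
    haveI : Finite (f.base ⁻¹' {η} : Set X) := hfin.to_subtype
    have hc : ∀ x : (f.base ⁻¹' {η} : Set X), ∃ U : X.Opens, IsAffineOpen U ∧ x.1 ∈ U ∧
        U ≤ O ⟨x, hsub x.2⟩ ⊓ f ⁻¹ᵁ V := fun x => by
      have hxV : x.1 ∈ f ⁻¹ᵁ V := show f x.1 ∈ V from (show f x.1 = η from x.2).symm ▸ hηV
      obtain ⟨_, ⟨U, hU, rfl⟩, hxU, hle⟩ := X.isBasis_affineOpens.exists_subset_of_mem_open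
        (show x.1 ∈ ((O ⟨x, hsub x.2⟩ ⊓ f ⁻¹ᵁ V : X.Opens) : Set X) from ⟨hO ⟨x, hsub x.2⟩, hxV⟩)
        (O ⟨x, hsub x.2⟩ ⊓ f ⁻¹ᵁ V).2
      exact ⟨U, hU, hxU, hle⟩
    choose U hU hxU hUle using hc
    have hd : Pairwise fun a b => Disjoint (U a) (U b) := fun a b hab =>
      (hOd (fun e => hab (Subtype.ext (congrArg Subtype.val e :)))).mono ((hUle a).trans inf_le_left)
        ((hUle b).trans inf_le_left)
    obtain ⟨D, -, hηD, -, -, hfD⟩ := Fin57.exists_isFinite_restrict f hη hfin hV hηV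
      (W := ⨆ x, U x) (IsAffineOpen.iSup_of_disjoint hU hd)
      (iSup_le fun x => (hUle x).trans inf_le_right)
      fun x hx => TopologicalSpace.Opens.mem_iSup.mpr ⟨⟨x, hx⟩, hxU ⟨x, hx⟩⟩
    exact ⟨D, hηD, hfD⟩
  choose D hηD hfD using key
  refine ⟨⨆ η, D η, fun y => ?_, Fin57.isFinite_restrict_iSup f D hfD⟩
  obtain ⟨w, hw, hwy⟩ := Norm57.exists_isMax'_specializes y
  exact closure_mono (Set.singleton_subset_iff.mpr
    (TopologicalSpace.Opens.mem_iSup.mpr ⟨⟨w, hw⟩, hηD ⟨w, hw⟩⟩)) hwy.mem_closure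

end Groth.Agent.S2081
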