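import Groth.Statements.S2083
import Mathlib
import Groth.Agent.EGA4Alg4.CMMod

set_option autoImplicit false
universe u
open CAlg

namespace Groth.Agent.S2083

/-- Let `R` be a Noetherian local ring, `M` a finite Cohen–Macaulay `R`-module and `g` a member of the
maximal ideal for which the support of `M/gM` has dimension exactly one less than that of `M`. Then
`g` is a nonzerodivisor on `M`, and the quotient `M/gM` is again Cohen–Macaulay, with depth one
smaller than that of `M`. -/
theorem result {R M : Type u} [CommRing R] [IsLocalRing R] [IsNoetherianRing R]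
    [AddCommGroup M] [Module R M] [Module.Finite R M] (hM : LocCoh.IsCohenMacaulayModule R M) (g : R)
    (hg : g ∈ IsLocalRing.maximalIdeal R)
    (hdim : Module.supportDim R (M ⧸ Ideal.span {g} • (⊤ : Submodule R M)) + 1 = Module.supportDim R M) :
    IsSMulRegular M g ∧ LocCoh.IsCohenMacaulayModule R (M ⧸ Ideal.span {g} • (⊤ : Submodule R M)) ∧
      LocCoh.depth R (M ⧸ Ideal.span {g} • (⊤ : Submodule R M)) + 1 = LocCoh.depth R M := by
  have hxs : ∀ x ∈ [g], x ∈ IsLocalRing.maximalIdeal R := by simpa using hg
  have hid : Ideal.ofList [g] = Ideal.span {g} := Ideal.ofList_singleton g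
  have hdim' : Module.supportDim R (M ⧸ (Ideal.ofList [g] • (⊤ : Submodule R M))) + (([g].length : ℕ) : WithBot ℕ∞) =
      Module.supportDim R M := by rw [hid]; simpa using hdim
  have hreg := Groth.Agent.EGA4Alg4.isWeaklyRegular_of_supportDim hM hxs hdim'
  refine ⟨(RingTheory.Sequence.isWeaklyRegular_singleton_iff M g).mp hreg, ?_, ?_⟩
  · rw [← hid]; exact Groth.Agent.EGA4Alg4.isCohenMacaulayModule_quotient hM hreg hxs
  · rw [← hid]; simpa using Groth.Agent.EGA4Alg4.depth_quotient_add_length hreg hxs

end Groth.Agent.S2083
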