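import Groth.Statements.S2086
import Mathlib
import Groth.Agent.CAlg1.SkFlat

set_option autoImplicit false
universe u
open CAlg

namespace Groth.Agent.S2086

/-- Let `R → S` be a flat map of Noetherian rings such that `R` and all fibre rings `S ⊗ κ(𝔭)` satisfy
Serre's condition `(S_k)`. Then `S` satisfies `(S_k)`. -/
theorem result {R S : Type u} [CommRing R] [CommRing S] [IsNoetherianRing R] [IsNoetherianRing S]
    [Algebra R S] [Module.Flat R S] (k : ℕ) (hR : LocCoh.HasSk k R R)
    (hfib : ∀ (p : Ideal R) [p.IsPrime], LocCoh.HasSk k (p.Fiber S) (p.Fiber S)) :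
    LocCoh.HasSk k S S := by
  exact Groth.Agent.CAlg1.hasSk_of_flat_of_fibres k hR hfib

end Groth.Agent.S2086
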