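import Groth.Statements.S2097
import Mathlib

set_option autoImplicit false
universe u
open CAlg

namespace Groth.Agent.S2097

/-- Let `R → S` be smooth, `A` an `R`-algebra and `I ⊆ A` an ideal all of whose elements are nilpotent.
Every `R`-algebra map `S → A/I` lifts to an `R`-algebra map `S → A`. -/
theorem result {R S A : Type u} [CommRing R] [CommRing S] [Algebra R S] [Algebra.Smooth R S]
    [CommRing A] [Algebra R A] (I : Ideal A) (hI : ∀ x ∈ I, IsNilpotent x) (g : S →ₐ[R] A ⧸ I) :
    ∃ f : S →ₐ[R] A, (Ideal.Quotient.mkₐ R I).comp f = g := by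
  classical
  obtain ⟨n, π, hπ, hker⟩ := (inferInstance : Algebra.FinitePresentation R S).out
  obtain ⟨t, ht⟩ := hker
  choose a ha using fun i : Fin n => Ideal.Quotient.mk_surjective (I := I) (g (π (MvPolynomial.X i)))
  let φ : MvPolynomial (Fin n) R →ₐ[R] A := MvPolynomial.aeval a
  have hφ : (Ideal.Quotient.mkₐ R I).comp φ = g.comp π := by
    refine MvPolynomial.algHom_ext fun i => ?_
    show Ideal.Quotient.mk I (MvPolynomial.aeval a (MvPolynomial.X i)) = g (π (MvPolynomial.X i))
    rw [MvPolynomial.aeval_X]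
    exact ha i
  let J : Ideal A := Ideal.span (t.image φ : Set A)
  have hJI : J ≤ I := by
    rw [Ideal.span_le]
    intro x hx
    obtain ⟨p, hp, rfl⟩ := Finset.mem_image.mp (Finset.mem_coe.mp hx)
    have hp0 : π p = 0 := RingHom.mem_ker.mp (ht ▸ Ideal.subset_span hp)
    have := AlgHom.congr_fun hφ p
    rw [AlgHom.comp_apply, AlgHom.comp_apply, hp0, map_zero] at this
    exact Ideal.Quotient.eq_zero_iff_mem.mp this
  have hnil : IsNilpotent J := by
    have hle : J ≤ nilradical A := fun x hx => mem_nilradical.mpr (hI x (hJI hx))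
    obtain ⟨k, hk⟩ := Ideal.exists_pow_le_of_le_radical_of_fg (I := J) (J := ⊥) hle
      (Submodule.fg_span (Finset.finite_toSet _))
    exact ⟨k, le_bot_iff.mp hk⟩
  have hle : RingHom.ker π.toRingHom ≤ RingHom.ker ((Ideal.Quotient.mkₐ R J).comp φ).toRingHom := by
    refine le_trans ht.ge (Ideal.span_le.mpr fun p hp => ?_)
    exact Ideal.Quotient.eq_zero_iff_mem.mpr (Ideal.subset_span (Finset.mem_coe.mpr (Finset.mem_image_of_mem _ hp)))
  let f₁ : S →ₐ[R] A ⧸ J := AlgHom.liftOfSurjective π hπ ((Ideal.Quotient.mkₐ R J).comp φ) hle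
  refine ⟨Algebra.FormallySmooth.lift J hnil f₁, ?_⟩
  refine AlgHom.ext fun x => ?_
  obtain ⟨p, rfl⟩ := hπ x
  have h1 : Ideal.Quotient.mk J (Algebra.FormallySmooth.lift J hnil f₁ (π p)) = Ideal.Quotient.mk J (φ p) := by
    rw [Algebra.FormallySmooth.mk_lift]
    exact AlgHom.liftOfSurjective_apply π hπ _ hle p
  rw [← AlgHom.comp_apply g π, ← hφ]
  exact Ideal.Quotient.eq.mpr (hJI (Ideal.Quotient.eq.mp h1))

end Groth.Agent.S2097
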