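import Groth.Statements.S2098
import Mathlib
import Groth.Agent.CAlg4.ArtinRees

set_option autoImplicit false
universe u
open CAlg

namespace Groth.Agent.S2098

/-- Let `R` be Noetherian, `I` an ideal inside the Jacobson radical and `u : N → M` a map of finite
`R`-modules. If for arbitrarily large `n` the induced map `N/IⁿN → M/IⁿM` has a left inverse, then
`u` has a left inverse. -/
theorem result {R M N : Type u} [CommRing R] [IsNoetherianRing R] (I : Ideal R)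
    (hI : I ≤ (⊥ : Ideal R).jacobson) [AddCommGroup M] [Module R M] [Module.Finite R M] [AddCommGroup N] [Module R N]
    [Module.Finite R N] (u : N →ₗ[R] M)
    (h : ∀ n₀ : ℕ, ∃ n, n₀ ≤ n ∧ ∃ s : (M ⧸ (I ^ n) • (⊤ : Submodule R M)) →ₗ[R] (N ⧸ (I ^ n) • (⊤ : Submodule R N)),
      ∀ x : N, s (Submodule.Quotient.mk (u x)) = Submodule.Quotient.mk x) :
    ∃ s : M →ₗ[R] N, s.comp u = LinearMap.id := by
  obtain ⟨c₁, hc₁⟩ := Groth.Agent.CAlg4.AR.exists_lift_hom I M N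
  obtain ⟨c₂, hc₂⟩ := Groth.Agent.CAlg4.AR.exists_hom_mem_smul I N N
  let Ψ : (M →ₗ[R] N) →ₗ[R] (N →ₗ[R] N) := LinearMap.lcomp R N u
  let T := (N →ₗ[R] N) ⧸ LinearMap.range Ψ
  suffices hid : ((LinearMap.range Ψ).mkQ (LinearMap.id : N →ₗ[R] N) : T) = 0 by
    obtain ⟨s, hs⟩ := (Submodule.Quotient.mk_eq_zero _).mp hid
    exact ⟨s, hs⟩
  have : Module.Finite R (N →ₗ[R] N) := inferInstance
  have hbot := Ideal.iInf_pow_smul_eq_bot_of_le_jacobson (M := T) I hI
  rw [← Submodule.mem_bot R, ← hbot, Submodule.mem_iInf]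
  intro k
  obtain ⟨n, hn, s, hs⟩ := h (k + c₂ + c₁)
  obtain ⟨d, rfl⟩ : ∃ d, n = d + c₁ := ⟨n - c₁, by omega⟩
  obtain ⟨φ, hφ⟩ := hc₁ d (s.comp (Submodule.mkQ _))
  have hmem : φ.comp u - LinearMap.id ∈ (I ^ k • ⊤ : Submodule R (N →ₗ[R] N)) := by
    refine hc₂ k _ fun x => ?_
    refine Submodule.smul_mono_left (Ideal.pow_le_pow_right (show k + c₂ ≤ d by omega)) ?_
    exact hφ (u x) x (hs x).symm
  have h2 := Submodule.mem_map_of_mem (f := (LinearMap.range Ψ).mkQ) hmem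
  rw [Submodule.map_smul'', map_sub,
    show (LinearMap.range Ψ).mkQ (φ.comp u) = 0 from (Submodule.Quotient.mk_eq_zero _).mpr ⟨φ, rfl⟩,
    zero_sub, Submodule.neg_mem_iff] at h2
  exact Submodule.smul_mono le_rfl le_top h2

end Groth.Agent.S2098
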