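import Groth.Statements.S2100
import Groth.Agent.CAlg7.ValNorm
import Groth.Agent.CAlgH2.LocalDimField
import Groth.Agent.E4O.DimField
-- import your own Groth.Agent.* helpers here

set_option autoImplicit false
universe u
open CAlg

namespace Groth.Agent.S2100

/-- Let `k` be a field, `𝔮` a prime of `k[x_1, …, x_n]` and `r` the transcendence degree of `κ(𝔮)` over
`k`. Then there is a finite `k`-algebra map `φ : k[y_1, …, y_n] → k[x_1, …, x_n]` with `φ⁻¹(𝔮) =
(y_{r+1}, …, y_n)`. -/
theorem result {k : Type u} [Field k] (n r : ℕ) (q : Ideal (MvPolynomial (Fin n) k))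
    [q.IsPrime] (hr : Algebra.trdeg k q.ResidueField = r) :
    ∃ φ : MvPolynomial (Fin n) k →ₐ[k] MvPolynomial (Fin n) k, φ.toRingHom.Finite ∧
      q.comap φ = Ideal.span (Set.range fun i : {i : Fin n // r ≤ (i : ℕ)} => MvPolynomial.X (i : Fin n)) := by
  classical
  let B := MvPolynomial (Fin n) k
  have hdimB : ringKrullDim B = (n : WithBot ℕ∞) := by
    rw [MvPolynomial.ringKrullDim_of_isNoetherianRing, ringKrullDim_eq_zero_of_field, zero_add, Nat.card_fin]
  have hdimq : ringKrullDim (B ⧸ q) = (r : WithBot ℕ∞) := by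
    rw [Groth.Agent.E4O.ringKrullDim_eq_trdeg k (B ⧸ q)]
    have h := Groth.Agent.CAlgH2.trdeg_residueField k q
    rw [hr] at h
    rw [← h, Cardinal.toNat_natCast]
  -- normalization of the quotient
  obtain ⟨s, g, hg, hgfin⟩ := exists_finite_inj_algHom_of_fg k (B ⧸ q)
  have hs : s = r := by
    letI := g.toRingHom.toAlgebra
    have : Algebra.IsIntegral (MvPolynomial (Fin s) k) (B ⧸ q) := ⟨RingHom.Finite.to_isIntegral hgfin⟩
    have h := Groth.Agent.EGA4Alg4.ringKrullDim_eq_of_integral (MvPolynomial (Fin s) k) (B ⧸ q) hg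
    rw [hdimq, MvPolynomial.ringKrullDim_of_isNoetherianRing, ringKrullDim_eq_zero_of_field, zero_add,
      Nat.card_fin] at h
    exact_mod_cast h.symm
  subst hs
  choose z hz using fun j => Ideal.Quotient.mk_surjective (g (MvPolynomial.X j))
  have hgz : g = (Ideal.Quotient.mkₐ k q).comp (MvPolynomial.aeval z) :=
    MvPolynomial.algHom_ext fun j => by simp [hz]
  choose F hFm hF using fun i => RingHom.Finite.to_isIntegral hgfin (Ideal.Quotient.mk q (MvPolynomial.X i))
  let G : Fin n → Polynomial B := fun i => (F i).map (MvPolynomial.aeval z).toRingHom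
  let f : Fin n → B := fun i => (G i).eval (MvPolynomial.X i)
  have hf : ∀ i, f i ∈ q := by
    intro i
    rw [← Ideal.Quotient.eq_zero_iff_mem, ← Polynomial.eval_map_apply, Polynomial.map_map]
    rw [Polynomial.eval_map, show (Ideal.Quotient.mk q).comp (MvPolynomial.aeval z).toRingHom = g.toRingHom from
      by rw [hgz]; rfl]
    exact hF i
  have hgen : Groth.Agent.CAlg7.ValNorm.Gen (F := k) (Fin.append z f) := by
    have key : ∀ i, (MvPolynomial.aeval (Fin.append z f) : MvPolynomial (Fin (s + n)) k →ₐ[k] B).toRingHom.IsIntegralElem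
        (MvPolynomial.X i) := by
      intro i
      refine ⟨(F i).map (MvPolynomial.rename (Fin.castAdd n)).toRingHom - Polynomial.C (MvPolynomial.X (Fin.natAdd s i)),
        ((hFm i).map _).sub_of_left ?_, ?_⟩
      · rw [(hFm i).degree_map]
        refine lt_of_le_of_lt Polynomial.degree_C_le ?_
        rw [Polynomial.degree_eq_natDegree (hFm i).ne_zero, Nat.cast_pos]
        by_contra h0
        have := hF i
        rw [Polynomial.eq_one_of_monic_natDegree_zero (hFm i) (by omega), Polynomial.eval₂_one] at this
        exact one_ne_zero this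
      · rw [Polynomial.eval₂_sub, Polynomial.eval₂_C, Polynomial.eval₂_map, sub_eq_zero]
        show _ = MvPolynomial.aeval (Fin.append z f) (MvPolynomial.X (Fin.natAdd s i))
        rw [MvPolynomial.aeval_X, Fin.append_right]
        show _ = ((F i).map (MvPolynomial.aeval z).toRingHom).eval (MvPolynomial.X i)
        rw [Polynomial.eval_map]
        congr 1
        ext p <;> simp
    intro b
    induction b using MvPolynomial.induction_on with
    | C c =>
      rw [show (MvPolynomial.C c : B) = (MvPolynomial.aeval (Fin.append z f) : MvPolynomial (Fin (s + n)) k →ₐ[k] B).toRingHom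
        (MvPolynomial.C c) from ((MvPolynomial.aeval (Fin.append z f) : MvPolynomial (Fin (s + n)) k →ₐ[k] B).commutes c).symm]
      exact RingHom.isIntegralElem_map _
    | add p q hp hq => exact RingHom.IsIntegralElem.add _ hp hq
    | mul_X p i hp => exact RingHom.IsIntegralElem.mul _ hp (key i)
  -- eliminate parameters inside `q`
  have main : ∀ (m : ℕ) (z' : Fin s → B) (f' : Fin m → B), (∀ j, z' j - z j ∈ q) → (∀ i, f' i ∈ q) →
      Groth.Agent.CAlg7.ValNorm.Gen (F := k) (Fin.append z' f') →
      ∃ w : Fin n → B, Groth.Agent.CAlg7.ValNorm.Gen (F := k) w ∧ (∀ i : Fin n, s ≤ (i : ℕ) → w i ∈ q) ∧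
        ∃ hsn : s ≤ n, ∀ j : Fin s, w (Fin.castLE hsn j) - z j ∈ q := by
    intro m
    induction m with
    | zero =>
      intro z' f' hz' _ hG
      have hsn : s ≤ n := by exact_mod_cast hdimq ▸ hdimB ▸ ringKrullDim_quotient_le q
      have hle : ringKrullDim B ≤ (s : WithBot ℕ∞) := by
        letI := (MvPolynomial.aeval (Fin.append z' f') : MvPolynomial (Fin (s + 0)) k →ₐ[k] B).toRingHom.toAlgebra
        have : Algebra.IsIntegral (MvPolynomial (Fin (s + 0)) k) B := ⟨hG⟩
        refine (Groth.Agent.EGA4Alg4.ringKrullDim_le_of_integral (MvPolynomial (Fin (s + 0)) k) B).trans ?_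
        simp [ringKrullDim_eq_zero_of_field]
      rw [hdimB] at hle
      obtain rfl : n = s := le_antisymm (by exact_mod_cast hle) hsn
      refine ⟨z', ?_, fun i hi => absurd i.2 (not_lt.2 hi), le_rfl, fun j => hz' j⟩
      refine Groth.Agent.CAlg7.ValNorm.gen_of_val _ _ hG fun L _ φ O _ hw j => ?_
      obtain ⟨j', rfl⟩ : ∃ j' : Fin n, j = Fin.castAdd 0 j' := ⟨⟨j, j.2⟩, rfl⟩
      rw [Fin.append_left]; exact hw j'
    | succ m ih =>
      intro z' f' hz' hf' hG
      by_cases hsm : s + (m + 1) ≤ n
      · have hsn : s ≤ n := by omega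
        refine ⟨fun i => if h : (i : ℕ) < s + (m + 1) then Fin.append z' f' ⟨i, h⟩ else 0, ?_, fun i hi => ?_, hsn,
          fun j => ?_⟩
        · refine Groth.Agent.CAlg7.ValNorm.gen_of_val _ _ hG fun L _ φ O _ hw j => ?_
          have := hw ⟨j, by omega⟩
          simpa using this
        · dsimp only
          split_ifs with h
          · rw [show (⟨i, h⟩ : Fin (s + (m + 1))) = Fin.natAdd s ⟨i - s, by omega⟩ from Fin.ext (by simp; omega),
              Fin.append_right]
            exact hf' _
          · exact zero_mem q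
        · dsimp only
          rw [dif_pos (by simp; omega), show (⟨(Fin.castLE hsn j : ℕ), by simp; omega⟩ : Fin (s + (m + 1))) =
            Fin.castAdd (m + 1) j from rfl, Fin.append_left]
          exact hz' j
      · -- pivot
        let v : Fin (s + m + 1) → B := Fin.cons (f' 0) (Fin.append z' fun i => f' i.succ)
        have hv : Groth.Agent.CAlg7.ValNorm.Gen (F := k) v := by
          refine Groth.Agent.CAlg7.ValNorm.gen_of_val _ _ hG fun L _ φ O _ hw j => ?_
          refine Fin.addCases (fun j' => ?_) (fun i => ?_) j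
          · have := hw (Fin.succ (Fin.castAdd m j'))
            simpa [v] using this
          · rw [Fin.append_right]
            cases i using Fin.cases with
            | zero => simpa [v] using hw 0
            | succ i =>
              have := hw (Fin.succ (Fin.natAdd s i))
              simpa [v] using this
        obtain ⟨e, he⟩ := Groth.Agent.CAlg7.ValNorm.nagata v hv (by rw [hdimB]; exact_mod_cast Nat.lt_of_not_le (by omega))
        have h1 := he (e + 1) (by omega)
        refine ih (fun j => z' j - v 0 ^ (e + 1) ^ ((Fin.castAdd m j).succ : ℕ))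
          (fun i => f' i.succ - v 0 ^ (e + 1) ^ ((Fin.natAdd s i).succ : ℕ)) (fun j => ?_) (fun i => ?_) ?_
        · rw [sub_right_comm]
          exact q.sub_mem (hz' j) (Ideal.pow_mem_of_mem q (by simpa [v] using hf' 0) _ (Nat.pow_pos (by omega)))
        · exact q.sub_mem (hf' _) (Ideal.pow_mem_of_mem q (by simpa [v] using hf' 0) _ (Nat.pow_pos (by omega)))
        · convert h1 using 1
          funext j
          refine Fin.addCases (fun j' => ?_) (fun i => ?_) j
          · simp [v]
          · simp [v]
  obtain ⟨w, hw, hwq, hsn, hwz⟩ := main n z f (fun j => by simp) hf hgen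
  refine ⟨MvPolynomial.aeval w, ?_, ?_⟩
  · refine RingHom.IsIntegral.to_finite hw ?_
    refine RingHom.FiniteType.of_comp_finiteType (f := algebraMap k (MvPolynomial (Fin n) k)) ?_
    rw [show (MvPolynomial.aeval w).toRingHom.comp (algebraMap k (MvPolynomial (Fin n) k)) =
      algebraMap k (MvPolynomial (Fin n) k) from (MvPolynomial.aeval w).comp_algebraMap]
    exact RingHom.finiteType_algebraMap.2 inferInstance
  · refine le_antisymm (fun p hp => ?_) (Ideal.span_le.2 ?_)
    · let π : MvPolynomial (Fin n) k →ₐ[k] MvPolynomial (Fin s) k :=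
        MvPolynomial.aeval fun i => if h : (i : ℕ) < s then MvPolynomial.X ⟨i, h⟩ else 0
      let J := Ideal.span (Set.range fun i : {i : Fin n // s ≤ (i : ℕ)} =>
        (MvPolynomial.X (i : Fin n) : MvPolynomial (Fin n) k))
      have hπ : ∀ p, p - MvPolynomial.rename (Fin.castLE hsn) (π p) ∈ J := by
        intro p
        rw [← Ideal.Quotient.eq]
        suffices Ideal.Quotient.mkₐ k J = (Ideal.Quotient.mkₐ k J).comp ((MvPolynomial.rename (Fin.castLE hsn)).comp π)
          from DFunLike.congr_fun this p
        refine MvPolynomial.algHom_ext fun i => ?_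
        by_cases h : (i : ℕ) < s
        · simp [π, h]
        · simp only [π, AlgHom.comp_apply, MvPolynomial.aeval_X, dif_neg h, map_zero]
          exact Ideal.Quotient.eq_zero_iff_mem.2 (Ideal.subset_span ⟨⟨i, not_lt.1 h⟩, rfl⟩)
      have hJ : ∀ x ∈ J, MvPolynomial.aeval w x ∈ q := by
        intro x hx
        refine (Ideal.span_le.2 ?_ : J ≤ q.comap (MvPolynomial.aeval w)) hx
        rintro _ ⟨i, rfl⟩
        simpa using hwq i i.2
      have hp' : MvPolynomial.aeval w (MvPolynomial.rename (Fin.castLE hsn) (π p)) ∈ q := by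
        have := q.sub_mem (show MvPolynomial.aeval w p ∈ q from hp) (hJ _ (hπ p))
        simpa using this
      have h0 : g (π p) = 0 := by
        have e : g = (Ideal.Quotient.mkₐ k q).comp ((MvPolynomial.aeval w).comp (MvPolynomial.rename (Fin.castLE hsn))) :=
          MvPolynomial.algHom_ext fun j => by
            simp only [AlgHom.comp_apply, MvPolynomial.rename_X, MvPolynomial.aeval_X, Ideal.Quotient.mkₐ_eq_mk]
            rw [← hz j, eq_comm, Ideal.Quotient.eq]
            exact hwz j
        rw [e]
        exact Ideal.Quotient.eq_zero_iff_mem.2 hp'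
      have := hπ p
      rwa [(map_eq_zero_iff g hg).1 h0, map_zero, sub_zero] at this
    · rintro _ ⟨i, rfl⟩
      simpa using hwq i i.2

end Groth.Agent.S2100
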