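import Groth.Statements.S2101
import Mathlib
import Groth.Agent.CAlg1.RegPerm

set_option autoImplicit false
universe u
open CAlg

namespace Groth.Agent.S2101

/-- For elements `f_1, …, f_r` generating a proper ideal, all reorderings are regular sequences in `R`
if and only if the products `f_i x_i` form a regular sequence in `R[x_1, …, x_r]`. -/
theorem result {R : Type u} [CommRing R] {r : ℕ} (f : Fin r → R)
    (hf : Ideal.span (Set.range f) ≠ ⊤) :
    (∀ σ : Equiv.Perm (Fin r), RingTheory.Sequence.IsRegular R (List.ofFn (f ∘ σ))) ↔
      RingTheory.Sequence.IsRegular (MvPolynomial (Fin r) R)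
        (List.ofFn fun i => MvPolynomial.C (f i) * MvPolynomial.X i) := by
  exact CAlg1.RegPerm.perm_iff_polynomial f hf

end Groth.Agent.S2101
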