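import Groth.Statements.S2104
import Mathlib
import Groth.Agent.CAlg1.H1QReg

set_option autoImplicit false
set_option linter.style.haveILetI false
set_option linter.style.longLine false
universe u
open CAlg

namespace Groth.Agent.S2104


open MvPolynomial

variable {A : Type u} [CommRing A] {n m : ℕ}

/-- Bihomogeneous of total degree `d` with `X`-degree at least `e`. -/
def W (e d : ℕ) (P : MvPolynomial (Fin n) (MvPolynomial (Fin m) A)) : Prop :=
  ∀ α : Fin n →₀ ℕ, (α.degree < e ∨ d < α.degree → P.coeff α = 0) ∧ (P.coeff α).IsHomogeneous (d - α.degree)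

theorem W.zero (e d : ℕ) : W e d (0 : MvPolynomial (Fin n) (MvPolynomial (Fin m) A)) :=
  fun α => ⟨fun _ => coeff_zero α, by rw [coeff_zero]; exact isHomogeneous_zero _ _ _⟩

theorem W.add {e d : ℕ} {P Q : MvPolynomial (Fin n) (MvPolynomial (Fin m) A)} (hP : W e d P) (hQ : W e d Q) :
    W e d (P + Q) := fun α =>
  ⟨fun h => by rw [coeff_add, (hP α).1 h, (hQ α).1 h, add_zero], by rw [coeff_add]; exact (hP α).2.add (hQ α).2⟩

theorem W.sum {e d : ℕ} {ι : Type*} (s : Finset ι) (F : ι → MvPolynomial (Fin n) (MvPolynomial (Fin m) A))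
    (h : ∀ i ∈ s, W e d (F i)) : W e d (∑ i ∈ s, F i) := by
  classical
  induction s using Finset.induction with
  | empty => simpa using W.zero e d
  | insert a s ha ih =>
    rw [Finset.sum_insert ha]
    exact (h a (Finset.mem_insert_self a s)).add (ih fun i hi => h i (Finset.mem_insert_of_mem hi))

theorem W.monomial {e d : ℕ} (β : Fin n →₀ ℕ) (q : MvPolynomial (Fin m) A) (he : e ≤ β.degree) (hd : β.degree ≤ d)
    (hq : q.IsHomogeneous (d - β.degree)) : W e d (MvPolynomial.monomial β q) := by
  classical
  intro α
  rw [coeff_monomial]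
  by_cases h : β = α
  · subst h
    rw [if_pos rfl]
    exact ⟨fun h' => absurd h' (by omega), hq⟩
  · rw [if_neg h]
    exact ⟨fun _ => rfl, isHomogeneous_zero _ _ _⟩

variable (f : Fin n → A) (g : Fin m → A)

/-- Evaluation at `(f, g)`. -/
noncomputable def ev : MvPolynomial (Fin n) (MvPolynomial (Fin m) A) →+* A :=
  eval₂Hom (eval g) f

theorem ev_eq_eval_map (P : MvPolynomial (Fin n) (MvPolynomial (Fin m) A)) :
    ev f g P = eval f (map (eval g) P) := by
  rw [eval_map]; rfl

theorem ev_monomial (β : Fin n →₀ ℕ) (q : MvPolynomial (Fin m) A) :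
    ev f g (MvPolynomial.monomial β q) = eval g q * ∏ i, f i ^ β i := by
  rw [ev, eval₂Hom_monomial, Finsupp.prod_fintype]
  intro i; exact pow_zero _

theorem key (hf : CAlgX.IsQuasiRegular f)
    (hg : CAlgX.IsH1Regular (fun j => Ideal.Quotient.mk (Ideal.span (Set.range f)) (g j))) :
    ∀ (r e : ℕ) (P : MvPolynomial (Fin n) (MvPolynomial (Fin m) A)), W e (e + r) P → ev f g P = 0 →
      ∀ α β, (P.coeff α).coeff β ∈ Ideal.span (Set.range f) ⊔ Ideal.span (Set.range g) := by
  classical
  set J := Ideal.span (Set.range f)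
  set G := Ideal.span (Set.range g)
  intro r
  induction r with
  | zero =>
    intro e P hP hev α β
    by_cases hα : α.degree = e
    swap
    · rw [(hP α).1 (by omega), coeff_zero]; exact zero_mem _
    have hhom : (map (eval g) P).IsHomogeneous e := by
      intro a ha
      rw [coeff_map] at ha
      show Finsupp.weight (fun _ : Fin n => 1) a = e
      rw [← Finsupp.degree_eq_weight_one]
      by_contra hne
      exact ha (by rw [(hP a).1 (by omega), map_zero])
    have h1 : eval g (P.coeff α) ∈ J := by
      rw [← coeff_map]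
      exact hf e _ hhom (by rw [← ev_eq_eval_map, hev]; exact zero_mem _) α
    have h0 := (hP α).2
    rw [hα, add_zero, Nat.sub_self] at h0
    obtain ⟨a, ha⟩ : ∃ a, C a = P.coeff α :=
      ⟨_, (totalDegree_eq_zero_iff_eq_C.mp (Nat.le_zero.mp h0.totalDegree_le)).symm⟩
    rw [← ha, eval_C] at h1
    rw [← ha, coeff_C]
    split_ifs
    · exact Ideal.mem_sup_left h1
    · exact zero_mem _
  | succ r ih =>
    intro e P hP hev
    let L := homogeneousComponent e P
    have hrest : W (e + 1) (e + (r + 1)) (P - L) := by
      intro α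
      rw [coeff_sub, coeff_homogeneousComponent]
      by_cases hα : α.degree = e
      · rw [if_pos hα, sub_self]
        exact ⟨fun _ => rfl, isHomogeneous_zero _ _ _⟩
      · rw [if_neg hα, sub_zero]
        exact ⟨fun h => (hP α).1 (by omega), (hP α).2⟩
    have hJ : ∀ α : Fin n →₀ ℕ, α.degree = e → eval g (P.coeff α) ∈ J := by
      intro α hα
      have h1 : ev f g (P - L) ∈ J ^ (e + 1) := by
        rw [(P - L).as_sum, map_sum]
        refine Ideal.sum_mem _ fun a ha => ?_
        rw [ev_monomial]
        refine Ideal.mul_mem_left _ _ ?_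
        have hdeg : e + 1 ≤ a.degree := by
          by_contra hlt
          exact mem_support_iff.1 ha ((hrest a).1 (by omega))
        refine Ideal.pow_le_pow_right hdeg ((Ideal.mem_span_pow_iff_exists_isHomogeneous _ _).mpr
          ⟨MvPolynomial.monomial a 1, isHomogeneous_monomial _ rfl, ?_⟩)
        rw [eval_monomial, one_mul, Finsupp.prod_fintype]
        intro i; exact pow_zero _
      have h2 : eval f (map (eval g) L) ∈ J ^ (e + 1) := by
        rw [← ev_eq_eval_map, show L = P - (P - L) by abel, map_sub, hev, zero_sub]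
        exact neg_mem h1
      have hhom : (map (eval g) L).IsHomogeneous e := by
        intro a ha
        rw [coeff_map, coeff_homogeneousComponent] at ha
        show Finsupp.weight (fun _ : Fin n => 1) a = e
        rw [← Finsupp.degree_eq_weight_one]
        by_contra hne
        exact ha (by rw [if_neg hne, map_zero])
      have h3 := hf e _ hhom h2 α
      rwa [coeff_map, coeff_homogeneousComponent, if_pos hα] at h3
    have hstep : ∀ α : Fin n →₀ ℕ, α.degree = e → ∃ (z : MvPolynomial (Fin m) A) (b : Fin n → Fin m → MvPolynomial (Fin m) A),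
        eval g z = 0 ∧ (∀ β, z.coeff β ∈ G) ∧ (∀ k l, (b k l).IsHomogeneous r) ∧
        P.coeff α = z + ∑ k, C (f k) * ∑ l, X l * b k l := by
      intro α hα
      have hq : (P.coeff α).IsHomogeneous (r + 1) := by
        have := (hP α).2
        rwa [hα, Nat.add_sub_cancel_left] at this
      have hmem : map (Ideal.Quotient.mk J) (P.coeff α) ∈
          CAlg1.binomIdeal (fun j => Ideal.Quotient.mk J (g j)) := by
        refine CAlg1.mem_binomIdeal_of_eval_eq_zero _ hg (r + 1) _ (hq.map _) ?_
        rw [eval_map, show (fun j => Ideal.Quotient.mk J (g j)) = Ideal.Quotient.mk J ∘ g from rfl, ← eval₂_comp,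
          Ideal.Quotient.eq_zero_iff_mem]
        exact hJ α hα
      have hmapeq : CAlg1.binomIdeal (fun j => Ideal.Quotient.mk J (g j)) =
          (CAlg1.binomIdeal g).map (map (Ideal.Quotient.mk J)) := by
        rw [CAlg1.binomIdeal, CAlg1.binomIdeal, Ideal.map_span, ← Set.range_comp]
        congr 2
        funext p
        simp
      rw [hmapeq, Ideal.mem_map_iff_of_surjective _ (map_surjective _ Ideal.Quotient.mk_surjective)] at hmem
      obtain ⟨z₀, hz₀, hzq⟩ := hmem
      let z := homogeneousComponent (r + 1) z₀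
      have hzero : ∀ (w : MvPolynomial (Fin m) A), w ∈ CAlg1.binomIdeal g → eval g w = 0 := by
        intro w hw
        refine Submodule.span_induction ?_ (map_zero _) (fun a b _ _ ha hb => by rw [map_add, ha, hb, add_zero])
          (fun c a _ ha => by rw [smul_eq_mul, map_mul, ha, mul_zero]) hw
        rintro _ ⟨p, rfl⟩
        simp [mul_comm]
      have hzmem : z ∈ CAlg1.binomIdeal g := by
        have key : ∀ w ∈ CAlg1.binomIdeal g, ∀ j, homogeneousComponent j w ∈ CAlg1.binomIdeal g := by
          intro w hw
          obtain ⟨a, rfl⟩ := Ideal.mem_span_range_iff_exists_fun.mp hw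
          intro j
          rw [map_sum]
          refine sum_mem fun p _ => ?_
          have hgen : (C (g p.2) * X p.1 - C (g p.1) * X p.2 : MvPolynomial (Fin m) A).IsHomogeneous 1 :=
            ((isHomogeneous_X A p.1).C_mul _).sub ((isHomogeneous_X A p.2).C_mul _)
          rw [← sum_homogeneousComponent (a p), Finset.sum_mul, map_sum]
          refine sum_mem fun i _ => ?_
          rw [homogeneousComponent_of_mem ((homogeneousComponent_isHomogeneous i (a p)).mul hgen)]
          split_ifs
          · exact Ideal.mul_mem_left _ _ (Ideal.subset_span ⟨p, rfl⟩)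
          · exact zero_mem _
        exact key z₀ hz₀ (r + 1)
      have hdiff : ∀ β, (P.coeff α - z).coeff β ∈ J := by
        intro β
        rw [coeff_sub, coeff_homogeneousComponent]
        split_ifs with hβ
        · rw [← Ideal.Quotient.eq_zero_iff_mem, map_sub, sub_eq_zero]
          have := congrArg (MvPolynomial.coeff β) hzq
          rw [coeff_map, coeff_map] at this
          exact this.symm
        · rw [hq.coeff_eq_zero hβ, sub_zero]
          exact zero_mem _
      have hw : P.coeff α - z ∈ J.map (C : A →+* MvPolynomial (Fin m) A) := mem_map_C_iff.mpr hdiff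
      rw [Ideal.map_span, ← Set.range_comp] at hw
      obtain ⟨b, hb⟩ := Ideal.mem_span_range_iff_exists_fun.mp hw
      have hb' : P.coeff α - z = ∑ k, C (f k) * homogeneousComponent (r + 1) (b k) := by
        rw [← homogeneousComponent_eq_self (hq.sub (homogeneousComponent_isHomogeneous (r + 1) z₀)), ← hb, map_sum]
        refine Finset.sum_congr rfl fun k _ => ?_
        rw [Function.comp_apply, mul_comm, homogeneousComponent_C_mul]
      choose Q hQh hQs using fun k => CAlg1.exists_split_homogeneous (homogeneousComponent_isHomogeneous (r + 1) (b k))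
      refine ⟨z, Q, hzero z hzmem, fun β => ?_, hQh, ?_⟩
      · have h1 : CAlg1.binomIdeal g ≤ G.map C := by
          rw [CAlg1.binomIdeal, Ideal.span_le]
          rintro _ ⟨p, rfl⟩
          refine Ideal.sub_mem _ ?_ ?_ <;>
            exact Ideal.mul_mem_right _ _ (Ideal.mem_map_of_mem _ (Ideal.subset_span ⟨_, rfl⟩))
        exact mem_map_C_iff.mp (h1 hzmem) β
      · rw [Finset.sum_congr rfl fun k _ => by rw [hQs k], ← hb']
        abel
    choose! z b hz0 hzG hbh hPz using hstep
    let T := L.support
    have hT : ∀ α ∈ T, α.degree = e := by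
      intro α hα
      by_contra hne
      exact mem_support_iff.1 hα (by rw [coeff_homogeneousComponent, if_neg hne])
    let E : MvPolynomial (Fin n) (MvPolynomial (Fin m) A) :=
      ∑ α ∈ T, ∑ k, ∑ l, MvPolynomial.monomial (Finsupp.single k 1 + α) (C (g l) * b α k l)
    have hE : W (e + 1) (e + (r + 1)) E := by
      refine W.sum _ _ fun α hα => W.sum _ _ fun k _ => W.sum _ _ fun l _ => ?_
      have hdeg : (Finsupp.single k 1 + α).degree = e + 1 := by
        rw [map_add, Finsupp.degree_single, hT α hα, add_comm]
      refine W.monomial _ _ hdeg.ge (by omega) ?_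
      rw [hdeg, show e + (r + 1) - (e + 1) = r by omega]
      exact (hbh α (hT α hα) k l).C_mul _
    have hLsum : L = ∑ α ∈ T, MvPolynomial.monomial α (P.coeff α) := by
      refine L.as_sum.trans (Finset.sum_congr rfl fun α hα => ?_)
      rw [coeff_homogeneousComponent, if_pos (hT α hα)]
    have hevE : ev f g E = ev f g L := by
      rw [hLsum, map_sum, map_sum]
      refine Finset.sum_congr rfl fun α hα => ?_
      rw [map_sum, ev_monomial, hPz α (hT α hα), map_add, hz0 α (hT α hα), zero_add, map_sum, Finset.sum_mul]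
      refine Finset.sum_congr rfl fun k _ => ?_
      rw [map_sum, map_mul, map_sum, Finset.mul_sum, Finset.sum_mul]
      refine Finset.sum_congr rfl fun l _ => ?_
      rw [ev_monomial, map_mul, map_mul, eval_C, eval_C, eval_X,
        show ∏ i, f i ^ ((Finsupp.single k 1 + α : Fin n →₀ ℕ) i) = f k * ∏ i, f i ^ α i by
          simp only [Finsupp.add_apply, pow_add, Finset.prod_mul_distrib]
          congr 1
          rw [Finset.prod_eq_single k (fun i _ hi => by rw [Finsupp.single_eq_of_ne hi, pow_zero])
            (fun h => absurd (Finset.mem_univ k) h), Finsupp.single_eq_same, pow_one]]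
      ring
    have hI := ih (e + 1) (P - L + E)
      (by rw [show e + 1 + r = e + (r + 1) by omega]; exact hrest.add hE)
      (by rw [map_add, hevE, ← map_add, sub_add_cancel, hev])
    intro α β
    rcases lt_trichotomy α.degree e with hlt | heq | hgt
    · rw [(hP α).1 (Or.inl hlt), coeff_zero]; exact zero_mem _
    · rw [hPz α heq, coeff_add, coeff_sum]
      refine add_mem (Ideal.mem_sup_right (hzG α heq β)) (sum_mem fun k _ => ?_)
      rw [coeff_C_mul]
      exact Ideal.mul_mem_right _ _ (Ideal.mem_sup_left (Ideal.subset_span ⟨k, rfl⟩))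
    · have h1 := hI α β
      rw [coeff_add, coeff_sub, coeff_homogeneousComponent, if_neg (by omega), sub_zero, coeff_add] at h1
      refine (Submodule.add_mem_iff_left _ ?_).1 h1
      rw [coeff_sum, coeff_sum]
      refine sum_mem fun a _ => ?_
      rw [coeff_sum, coeff_sum]
      refine sum_mem fun k _ => ?_
      rw [coeff_sum, coeff_sum]
      refine sum_mem fun l _ => ?_
      rw [coeff_monomial]
      split_ifs
      · rw [coeff_C_mul]
        exact Ideal.mul_mem_right _ _ (Ideal.mem_sup_right (Ideal.subset_span ⟨l, rfl⟩))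
      · rw [coeff_zero]; exact zero_mem _

/-- Separate the two groups of variables. -/
noncomputable def Φ : MvPolynomial (Fin (n + m)) A →ₐ[A] MvPolynomial (Fin n) (MvPolynomial (Fin m) A) :=
  aeval (Fin.append (fun i => X i) (fun j => C (X j)))

/-- The inverse of `Φ`. -/
noncomputable def Ψ : MvPolynomial (Fin n) (MvPolynomial (Fin m) A) →+* MvPolynomial (Fin (n + m)) A :=
  eval₂Hom (rename (Fin.natAdd n)).toRingHom (fun i => X (Fin.castAdd m i))

theorem Ψ_Φ (P : MvPolynomial (Fin (n + m)) A) : Ψ (n := n) (m := m) (Φ P) = P := by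
  induction P using MvPolynomial.induction_on with
  | C a => simp [Φ, Ψ, MvPolynomial.algebraMap_apply]
  | add p q hp hq => simp only [map_add, hp, hq]
  | mul_X p i hp =>
    rw [map_mul, map_mul, hp]
    congr 1
    induction i using Fin.addCases <;> simp [Φ, Ψ]

theorem W_Φ : ∀ (d : ℕ) (P : MvPolynomial (Fin (n + m)) A), P.IsHomogeneous d → W 0 d (Φ (n := n) (m := m) P) := by
  classical
  intro d
  induction d with
  | zero =>
    intro P hP
    rw [(totalDegree_eq_zero_iff_eq_C.mp (Nat.le_zero.mp hP.totalDegree_le))]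
    rw [Φ, aeval_C, MvPolynomial.algebraMap_apply]
    exact W.monomial 0 _ (le_refl _) (by simp) (by simpa using isHomogeneous_C _ _)
  | succ d ih =>
    intro P hP
    obtain ⟨Q, hQh, rfl⟩ := CAlg1.exists_split_homogeneous hP
    rw [map_sum]
    refine W.sum _ _ fun i _ => ?_
    have hQ := ih _ (hQh i)
    rw [map_mul, Φ, aeval_X]
    intro α
    induction i using Fin.addCases with
    | left i =>
      rw [Fin.append_left, coeff_X_mul']
      split_ifs with hi
      · have h1 : α.degree = (α - Finsupp.single i 1).degree + 1 := by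
          conv_lhs => rw [← tsub_add_cancel_of_le (Finsupp.single_le_iff.2 (Nat.one_le_iff_ne_zero.2 (Finsupp.mem_support_iff.1 hi)))]
          rw [map_add, Finsupp.degree_single]
        refine ⟨fun h => (hQ _).1 (by omega), ?_⟩
        rw [show d + 1 - α.degree = d - (α - Finsupp.single i 1).degree by omega]
        exact (hQ _).2
      · exact ⟨fun _ => rfl, isHomogeneous_zero _ _ _⟩
    | right j =>
      rw [Fin.append_right, coeff_C_mul]
      refine ⟨fun h => ?_, ?_⟩
      · have h0 := (hQ α).1 (by omega)
        rw [Φ] at h0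
        rw [h0, mul_zero]
      · by_cases hd : d < α.degree
        · have h0 := (hQ α).1 (Or.inr hd)
          rw [Φ] at h0
          rw [h0, mul_zero]
          exact isHomogeneous_zero _ _ _
        · rw [show d + 1 - α.degree = 1 + (d - α.degree) by omega]
          exact (isHomogeneous_X A j).mul (hQ α).2

theorem ev_Φ (P : MvPolynomial (Fin (n + m)) A) : ev f g (Φ P) = eval (Fin.append f g) P := by
  induction P using MvPolynomial.induction_on with
  | C a => simp [Φ, ev, MvPolynomial.algebraMap_apply]
  | add p q hp hq => simp only [map_add, hp, hq]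
  | mul_X p i hp =>
    rw [map_mul, map_mul, map_mul, hp]
    congr 1
    induction i using Fin.addCases <;> simp [Φ, ev]

theorem coeff_Ψ_mem (I : Ideal A) (Q : MvPolynomial (Fin n) (MvPolynomial (Fin m) A)) (h : ∀ α β, (Q.coeff α).coeff β ∈ I)
    (D : Fin (n + m) →₀ ℕ) : (Ψ Q).coeff D ∈ I := by
  refine mem_map_C_iff.mp ?_ D
  rw [Q.as_sum, map_sum]
  refine sum_mem fun α _ => ?_
  rw [Ψ, eval₂Hom_monomial]
  refine Ideal.mul_mem_right _ _ ?_
  have h1 := Ideal.mem_map_of_mem (rename (R := A) (Fin.natAdd n)).toRingHom (mem_map_C_iff.mpr (h α) : Q.coeff α ∈ I.map C)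
  rw [Ideal.map_map] at h1
  convert h1 using 2
  exact RingHom.ext fun a => (rename_C _ a).symm

/-- Appending to a quasi-regular sequence `f` a sequence `g` whose image modulo the ideal `(f)` is
`H_1`-regular yields a quasi-regular sequence. -/
theorem result {A : Type u} [CommRing A] {n m : ℕ} (f : Fin n → A)
    (g : Fin m → A) (hf : CAlgX.IsQuasiRegular f)
    (hg : CAlgX.IsH1Regular (fun j => Ideal.Quotient.mk (Ideal.span (Set.range f)) (g j))) :
    CAlgX.IsQuasiRegular (Fin.append f g) := by
  classical
  intro d P hP hev D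
  refine EGA4Alg4.coeff_mem_of_eval_eq_zero_imp (Fin.append f g) (fun P hP he D => ?_) P hP hev D
  have hI : Ideal.span (Set.range f) ⊔ Ideal.span (Set.range g) ≤ Ideal.span (Set.range (Fin.append f g)) :=
    sup_le (Ideal.span_le.2 fun x ⟨i, hi⟩ => Ideal.subset_span ⟨Fin.castAdd m i, by rw [Fin.append_left, hi]⟩)
      (Ideal.span_le.2 fun x ⟨i, hi⟩ => Ideal.subset_span ⟨Fin.natAdd n i, by rw [Fin.append_right, hi]⟩)
  rw [← Ψ_Φ P]
  refine coeff_Ψ_mem _ _ (fun α β => hI (key f g hf hg d 0 _ ?_ ?_ α β)) D
  · rw [zero_add]; exact W_Φ d P hP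
  · rw [ev_Φ, he]

end Groth.Agent.S2104
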