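import Groth.Statements.S2105
import Mathlib

set_option autoImplicit false
set_option linter.style.haveILetI false
set_option linter.style.longLine false
universe u
open CAlg

namespace Groth.Agent.S2105

open Submodule
theorem dot_eq_zero {A : Type u} [CommRing A] {c : ℕ} (h : Fin c → A) {v : Fin c → A}
    (hv : v ∈ span A {v : Fin c → A | ∃ i j : Fin c, v = Pi.single i (h j) - Pi.single j (h i)}) :
    ∑ i, v i * h i = 0 := by
  induction hv using Submodule.span_induction with
  | mem v hv =>
    obtain ⟨i, j, rfl⟩ := hv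
    simp only [Pi.sub_apply, sub_mul, Finset.sum_sub_distrib, Pi.single_apply, ite_mul, zero_mul, Finset.sum_ite_eq',
      Finset.mem_univ, if_true]
    ring
  | zero => simp
  | add x y _ _ hx hy => simp [add_mul, Finset.sum_add_distrib, hx, hy]
  | smul r x _ hx => simp [mul_assoc, ← Finset.mul_sum, hx]

/-- Appending to an `H_1`-regular sequence `f` a sequence `g` whose image modulo the ideal `(f)` is
`H_1`-regular yields an `H_1`-regular sequence. -/
theorem result {A : Type u} [CommRing A] {n m : ℕ} (f : Fin n → A)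
    (g : Fin m → A) (hf : CAlgX.IsH1Regular f)
    (hg : CAlgX.IsH1Regular (fun j => Ideal.Quotient.mk (Ideal.span (Set.range f)) (g j))) :
    CAlgX.IsH1Regular (Fin.append f g) := by
  classical
  intro x hx
  set I := Ideal.span (Set.range f)
  set h := Fin.append f g
  set K := span A {v : Fin (n + m) → A | ∃ i j, v = Pi.single i (h j) - Pi.single j (h i)}
  let φ : (Fin n → A) →ₗ[A] (Fin (n + m) → A) := Fintype.linearCombination A (fun i => Pi.single (Fin.castAdd m i) (1 : A))
  let ψ : (Fin m → A) →ₗ[A] (Fin (n + m) → A) := Fintype.linearCombination A (fun j => Pi.single (Fin.natAdd n j) (1 : A))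
  have hφs : ∀ i r, φ (Pi.single i r) = Pi.single (Fin.castAdd m i) r := fun i r => by
    simp [φ, Fintype.linearCombination_apply_single, ← Pi.single_smul]
  have hψs : ∀ i r, ψ (Pi.single i r) = Pi.single (Fin.natAdd n i) r := fun i r => by
    simp [ψ, Fintype.linearCombination_apply_single, ← Pi.single_smul]
  have hh1 : ∀ i, h (Fin.castAdd m i) = f i := fun i => Fin.append_left f g i
  have hh2 : ∀ j, h (Fin.natAdd n j) = g j := fun j => Fin.append_right f g j
  have hφK : (span A {v : Fin n → A | ∃ i j, v = Pi.single i (f j) - Pi.single j (f i)}).map φ ≤ K := by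
    rw [map_span, span_le]
    rintro _ ⟨_, ⟨i, j, rfl⟩, rfl⟩
    exact subset_span ⟨Fin.castAdd m i, Fin.castAdd m j, by rw [map_sub, hφs, hφs, hh1, hh1]⟩
  have hψK : (span A {v : Fin m → A | ∃ i j, v = Pi.single i (g j) - Pi.single j (g i)}).map ψ ≤ K := by
    rw [map_span, span_le]
    rintro _ ⟨_, ⟨i, j, rfl⟩, rfl⟩
    exact subset_span ⟨Fin.natAdd n i, Fin.natAdd n j, by rw [map_sub, hψs, hψs, hh2, hh2]⟩
  let a : Fin n → A := fun i => x (Fin.castAdd m i)
  let b : Fin m → A := fun j => x (Fin.natAdd n j)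
  have hxab : x = φ a + ψ b := by
    funext k
    induction k using Fin.addCases with
    | left i =>
      have e1 : ∀ j : Fin m, Fin.castAdd m i ≠ Fin.natAdd n j := fun j h => by
        have := congrArg Fin.val h
        simp at this
        omega
      simp [φ, ψ, a, b, Fintype.linearCombination_apply, Finset.sum_apply, Pi.single_apply, e1, Fin.castAdd_inj]
    | right j =>
      have e2 : ∀ i : Fin n, Fin.natAdd n j ≠ Fin.castAdd m i := fun i h => by
        have := congrArg Fin.val h
        simp at this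
        omega
      simp [φ, ψ, a, b, Fintype.linearCombination_apply, Finset.sum_apply, Pi.single_apply, e2]
  rw [Fin.sum_univ_add] at hx
  simp only [hh1, hh2] at hx
  have hbq : (fun j => Ideal.Quotient.mk I (b j)) ∈ span (A ⧸ I)
      {v : Fin m → A ⧸ I | ∃ i j, v = Pi.single i (Ideal.Quotient.mk I (g j)) - Pi.single j (Ideal.Quotient.mk I (g i))} := by
    refine hg _ ?_
    have h0 : Ideal.Quotient.mk I (∑ i, a i * f i) = 0 :=
      Ideal.Quotient.eq_zero_iff_mem.2 (sum_mem fun i _ => I.mul_mem_left _ (subset_span ⟨i, rfl⟩))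
    have := congrArg (Ideal.Quotient.mk I) hx
    rw [map_add, h0, zero_add, map_zero, map_sum] at this
    simpa only [map_mul] using this
  have hlift : ∀ v ∈ span (A ⧸ I) {v : Fin m → A ⧸ I | ∃ i j, v = Pi.single i (Ideal.Quotient.mk I (g j)) - Pi.single j (Ideal.Quotient.mk I (g i))},
      ∃ w ∈ span A {v : Fin m → A | ∃ i j, v = Pi.single i (g j) - Pi.single j (g i)}, ∀ j, Ideal.Quotient.mk I (w j) = v j := by
    intro v hv
    induction hv using Submodule.span_induction with
    | mem v hv =>
      obtain ⟨i, j, rfl⟩ := hv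
      refine ⟨_, subset_span ⟨i, j, rfl⟩, fun k => ?_⟩
      simp [Pi.single_apply, apply_ite (Ideal.Quotient.mk I)]
    | zero => exact ⟨0, zero_mem _, fun j => by simp⟩
    | add u v _ _ hu hv =>
      obtain ⟨w, hw, hw'⟩ := hu
      obtain ⟨z, hz, hz'⟩ := hv
      exact ⟨w + z, add_mem hw hz, fun j => by simp [hw', hz']⟩
    | smul r v _ hv =>
      obtain ⟨w, hw, hw'⟩ := hv
      obtain ⟨r, rfl⟩ := Ideal.Quotient.mk_surjective r
      exact ⟨r • w, smul_mem _ r hw, fun j => by simp [hw']⟩
  obtain ⟨w, hw, hwb⟩ := hlift _ hbq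
  have hd : ψ (b - w) ∈ K ⊔ LinearMap.range φ := by
    have hb : ∀ j, (b - w) j ∈ I := fun j => Ideal.Quotient.eq.1 (hwb j).symm
    rw [← Finset.univ_sum_single (b - w), map_sum]
    refine sum_mem fun j _ => ?_
    have hmap : (I : Submodule A A) ≤ (K ⊔ LinearMap.range φ).comap (ψ ∘ₗ LinearMap.single A (fun _ => A) j) := by
      refine span_le.2 ?_
      rintro _ ⟨i, rfl⟩
      show ψ (Pi.single j (f i)) ∈ K ⊔ LinearMap.range φ
      have hk : Pi.single (Fin.natAdd n j) (h (Fin.castAdd m i)) - Pi.single (Fin.castAdd m i) (h (Fin.natAdd n j)) ∈ K :=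
        subset_span ⟨_, _, rfl⟩
      rw [hh1, hh2] at hk
      have := add_mem (mem_sup_left (T := LinearMap.range φ) hk) (mem_sup_right (S := K) (LinearMap.mem_range_self φ (Pi.single i (g j))))
      rwa [hφs, sub_add_cancel, ← hψs] at this
    exact hmap (hb j)
  obtain ⟨k, hk, _, ⟨c, rfl⟩, hkc⟩ := mem_sup.1 hd
  have hxK : x = (k + ψ w) + φ (a + c) := by
    rw [hxab, map_add, show ψ b = ψ (b - w) + ψ w by rw [← map_add, sub_add_cancel], ← hkc]
    abel
  have hac : a + c ∈ span A {v : Fin n → A | ∃ i j, v = Pi.single i (f j) - Pi.single j (f i)} := by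
    refine hf _ ?_
    have hdot : ∀ u, ∑ l, φ u l * h l = ∑ i, u i * f i := by
      intro u
      simp only [φ, Fintype.linearCombination_apply, Finset.sum_apply, Pi.smul_apply, smul_eq_mul, Finset.sum_mul]
      rw [Finset.sum_comm]
      refine Finset.sum_congr rfl fun i _ => ?_
      simp [Pi.single_apply, hh1]
    have hk0 := dot_eq_zero h (add_mem hk (hψK (mem_map_of_mem hw)))
    have hx0 : ∑ l, x l * h l = 0 := by
      rw [Fin.sum_univ_add]
      simpa only [hh1, hh2] using hx
    rw [hxK] at hx0
    simp only [Pi.add_apply, add_mul, Finset.sum_add_distrib] at hx0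
    simp only [Pi.add_apply, add_mul, Finset.sum_add_distrib] at hk0
    have := hdot (a + c)
    simp only [Pi.add_apply, add_mul, Finset.sum_add_distrib] at this ⊢
    linear_combination hx0 - hk0 - this
  rw [hxK]
  exact add_mem (add_mem hk (hψK (mem_map_of_mem hw))) (hφK (mem_map_of_mem hac))

end Groth.Agent.S2105
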