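import Groth.Statements.S2108
import Groth.Agent.Smooth28.AtSmooth
-- import your own Groth.Agent.* helpers here

set_option autoImplicit false
universe u
open Smoothing

namespace Groth.Agent.S2108

/-- Let `A = R[x_1, …, x_n]/(f_1, …, f_m)` and `𝔮` a prime of `A` at which `R → A` is smooth. Then there
are `a ∈ A ∖ 𝔮`, an integer `c` and injections picking `c` relations and `c` variables such that `a`
is a multiple of the image of the corresponding Jacobian minor and `a f_ℓ` lies in the ideal
generated by the chosen relations plus the square of the relation ideal, for every `ℓ`. -/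
theorem result {R A : Type u} [CommRing R] [CommRing A] [Algebra R A] {n m : ℕ}
    (f : Fin m → MvPolynomial (Fin n) R) (φ : MvPolynomial (Fin n) R →ₐ[R] A) (hφ : Function.Surjective φ)
    (hker : RingHom.ker φ.toRingHom = Ideal.span (Set.range f)) (q : Ideal A) [q.IsPrime] [Algebra.IsSmoothAt R q] :
    ∃ a : A, a ∉ q ∧ ∃ (c : ℕ) (rows : Fin c ↪ Fin m) (cols : Fin c ↪ Fin n) (a' : A),
      a = a' * φ (Smoothing.jacobianMinor f rows cols) ∧
      ∀ a₁ : MvPolynomial (Fin n) R, φ a₁ = a → ∀ ℓ : Fin m,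
        a₁ * f ℓ ∈ Ideal.span (Set.range (f ∘ rows)) ⊔ Ideal.span (Set.range f) ^ 2 := by
  obtain ⟨g, c, rows, cols, hnot, hg⟩ := Smooth28.exists_standard_data f φ hφ hker q
  refine ⟨_, hnot, c, rows, cols, φ g, rfl, fun a₁ ha₁ ℓ => ?_⟩
  have hfl : φ (f ℓ) = 0 :=
    show f ℓ ∈ RingHom.ker φ.toRingHom from hker ▸ Ideal.subset_span ⟨ℓ, rfl⟩
  have h1 : (a₁ - g * Smoothing.jacobianMinor f rows cols) * f ℓ ∈ Ideal.span (Set.range f) ^ 2 := by
    rw [← hker, pow_two]
    refine Ideal.mul_mem_mul ?_ hfl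
    show φ _ = 0
    rw [map_sub, map_mul φ, ha₁, sub_self]
  have h2 := Ideal.mul_mem_left _ (Smoothing.jacobianMinor f rows cols) (hg _ hfl)
  have := add_mem (Ideal.mem_sup_right (S := Ideal.span (Set.range (f ∘ rows))) h1)
    (Ideal.mem_sup_left (T := Ideal.span (Set.range f) ^ 2) h2)
  rwa [← mul_assoc, mul_comm (Smoothing.jacobianMinor f rows cols) g, ← add_mul,
    sub_add_cancel] at this

end Groth.Agent.S2108
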