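import Groth.Statements.S2112
import Mathlib
import Groth.Agent.CAlg6.GeomTensor

set_option autoImplicit false
set_option linter.style.haveILetI false
set_option linter.style.longLine false
universe u
open CAlg

namespace Groth.Agent.S2112

open scoped TensorProduct
theorem iff_irreducibleSpace (A : Type u) [CommRing A] :
    CAlgX.HasUniqueMinimalPrime A ↔ IrreducibleSpace (PrimeSpectrum A) := by
  rw [PrimeSpectrum.irreducibleSpace_iff_isPrime_nilradical]
  constructor
  · rintro ⟨P, hP, huniq⟩
    have : nilradical A = P := by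
      rw [nilradical, ← Ideal.sInf_minimalPrimes]
      exact le_antisymm (sInf_le hP) (le_sInf fun Q hQ => (huniq Q hQ).ge)
    exact this ▸ hP.1.1
  · intro h
    refine ⟨nilradical A, ⟨⟨h, bot_le⟩, fun Q hQ _ => haveI := hQ.1; nilradical_le_prime Q⟩, fun Q hQ => ?_⟩
    haveI := hQ.1.1
    exact le_antisymm (hQ.2 ⟨h, bot_le⟩ (nilradical_le_prime Q)) (nilradical_le_prime Q)

open TensorProduct in
/-- Let `k` be a separably closed field and `R`, `S` two `k`-algebras each having exactly one minimal
prime ideal. Then `R ⊗_k S` has exactly one minimal prime ideal. -/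
theorem result {k R S : Type u} [Field k] [IsSepClosed k] [CommRing R] [CommRing S]
    [Algebra k R] [Algebra k S] (hR : CAlgX.HasUniqueMinimalPrime R) (hS : CAlgX.HasUniqueMinimalPrime S) :
    CAlgX.HasUniqueMinimalPrime (R ⊗[k] S) := by
  rw [iff_irreducibleSpace] at hR hS ⊢
  haveI := hR
  haveI := hS
  haveI : Nontrivial S := PrimeSpectrum.nonempty_iff_nontrivial.1 inferInstance
  refine CAlg6.irreducibleSpace_tensor k R S fun p => ?_
  haveI : IrreducibleSpace (PrimeSpectrum (S ⊗[k] p.asIdeal.ResidueField)) :=
    CAlg6.irreducibleSpace_tensor k S p.asIdeal.ResidueField fun q =>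
      FBase64.irreducibleSpace_tensor (L := p.asIdeal.ResidueField)
        FBase64.separableClosure_eq_bot_of_isSepClosed q.asIdeal.ResidueField
  exact (PrimeSpectrum.homeomorphOfRingEquiv
    (Algebra.TensorProduct.comm k S p.asIdeal.ResidueField).toRingEquiv).irreducibleSpace_iff.1 this

end Groth.Agent.S2112
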