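import Groth.Statements.S2113
import Mathlib
import Groth.Agent.CAlgH2.PrincipalOpen

set_option autoImplicit false
set_option linter.style.haveILetI false
set_option linter.style.longLine false
universe u
open CAlg

namespace Groth.Agent.S2113

/-- A Noetherian ring in which each prime is maximal or else lies below infinitely many primes is a
Jacobson ring. -/
theorem result {R : Type u} [CommRing R] [IsNoetherianRing R]
    (h : ∀ (p : Ideal R) [p.IsPrime], p.IsMaximal ∨ {q : PrimeSpectrum R | p ≤ q.asIdeal}.Infinite) :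
    IsJacobsonRing R := by
  rw [isJacobsonRing_iff_prime_eq]
  by_contra hc
  push Not at hc
  obtain ⟨p, ⟨hp, hne⟩, hmax⟩ := exists_maximalFor_of_wellFoundedGT
    (fun I : Ideal R => I.IsPrime ∧ I.jacobson ≠ I) id (let ⟨I, h1, h2⟩ := hc; ⟨I, h1, h2⟩)
  haveI := hp
  rcases h p with hm | hinf
  · exact hne Ideal.jacobson_eq_self_of_isMaximal
  obtain ⟨f, hf, hfp⟩ := SetLike.exists_of_lt (lt_of_le_of_ne Ideal.le_jacobson (Ne.symm hne))
  have key : ∀ q : Ideal R, q.IsPrime → p < q → f ∈ q := fun q hq hpq => by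
    have hj : q.jacobson = q := by
      by_contra hj
      exact hpq.not_ge (hmax ⟨hq, hj⟩ hpq.le)
    exact hj ▸ Ideal.jacobson_mono hpq.le hf
  refine hinf (Set.Finite.subset (s := {q : PrimeSpectrum R | q.asIdeal ∈ insert p (p ⊔ Ideal.span {f}).minimalPrimes}) ?_ ?_)
  · exact ((Ideal.finite_minimalPrimes_of_isNoetherianRing R _).insert p).preimage
      fun _ _ _ _ h => PrimeSpectrum.ext h
  · intro q hq
    rcases eq_or_lt_of_le (show p ≤ q.asIdeal from hq) with he | hlt
    · exact Or.inl he.symm
    · exact Or.inr (CAlgH2.finite_of_forall_gt_mem p f hfp key _ q.2 hlt)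

end Groth.Agent.S2113
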