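import Groth.Statements.S2118
import Mathlib

set_option autoImplicit false
set_option linter.style.haveILetI false
set_option linter.style.longLine false
universe u
open CategoryTheory
open CAlg

namespace Groth.Agent.S2118

open CategoryTheory CategoryTheory.Limits
variable (R : Type u) [CommRing R] (M : Type u) [AddCommGroup M] [Module R M]
structure Pt : Type u where
  n : ℕ
  v : (Fin n → R) →ₗ[R] M
variable {R M}
instance : Category.{u} (Pt R M) where
  Hom p q := {f : (Fin p.n → R) →ₗ[R] (Fin q.n → R) // q.v ∘ₗ f = p.v}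
  id p := ⟨LinearMap.id, LinearMap.comp_id _⟩
  comp f g := ⟨g.1 ∘ₗ f.1, by rw [← LinearMap.comp_assoc, g.2, f.2]⟩
def mkHom {p q : Pt R M} (f : (Fin p.n → R) →ₗ[R] (Fin q.n → R)) (h : q.v ∘ₗ f = p.v) : p ⟶ q := ⟨f, h⟩
theorem isFiltered [Module.Flat R M] : IsFiltered (Pt R M) := by
  haveI : Nonempty (Pt R M) := ⟨⟨0, 0⟩⟩
  refine { toIsFilteredOrEmpty := ⟨fun p q => ?_, fun {p q} f g => ?_⟩ }
  · let e : (Fin (p.n + q.n) → R) ≃ₗ[R] (Fin p.n → R) × (Fin q.n → R) :=
      (LinearEquiv.funCongrLeft R R finSumFinEquiv).trans (LinearEquiv.sumArrowLequivProdArrow _ _ R R)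
    refine ⟨⟨p.n + q.n, (p.v.coprod q.v) ∘ₗ e.toLinearMap⟩,
      mkHom (e.symm.toLinearMap ∘ₗ LinearMap.inl R _ _) (LinearMap.ext fun x => by simp),
      mkHom (e.symm.toLinearMap ∘ₗ LinearMap.inr R _ _) (LinearMap.ext fun x => by simp), trivial⟩
  · have h : q.v ∘ₗ (f.1 - g.1) = 0 := by rw [LinearMap.comp_sub, f.2, g.2, sub_self]
    obtain ⟨k, a, y, hy, ha⟩ := Module.Flat.exists_factorization_of_comp_eq_zero_of_free h
    let e : (Fin k →₀ R) ≃ₗ[R] (Fin k → R) := Finsupp.linearEquivFunOnFinite R R (Fin k)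
    refine ⟨⟨k, y ∘ₗ e.symm.toLinearMap⟩, mkHom (e.toLinearMap ∘ₗ a) (LinearMap.ext fun x => ?_), Subtype.ext ?_⟩
    · rw [hy]; simp
    · replace ha : a ∘ₗ f.1 = a ∘ₗ g.1 := LinearMap.ext fun x => by
        have := LinearMap.congr_fun ha x
        simpa [sub_eq_zero] using this
      show (e.toLinearMap ∘ₗ a) ∘ₗ f.1 = (e.toLinearMap ∘ₗ a) ∘ₗ g.1
      rw [LinearMap.comp_assoc, ha, LinearMap.comp_assoc]
def diag : Pt R M ⥤ ModuleCat.{u} R where
  obj p := ModuleCat.of R (Fin p.n → R)
  map f := ModuleCat.ofHom f.1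
def cocone : Cocone (diag : Pt R M ⥤ ModuleCat.{u} R) where
  pt := ModuleCat.of R M
  ι :=
    { app := fun p => ModuleCat.ofHom p.v
      naturality := fun p q f => by
        ext1
        exact f.2 }
theorem flat_of_isColimit {J : Type u} [SmallCategory J] [IsFiltered J] (F : J ⥤ ModuleCat.{u} R)
    (hF : ∀ j, Module.Flat R (F.obj j)) (c : Cocone F) (hc : IsColimit c) : Module.Flat R c.pt := by
  classical
  refine Module.Flat.of_forall_isTrivialRelation fun {l f x} hx => ?_
  choose j y hy using fun i => Concrete.isColimit_exists_rep F hc (x i)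
  obtain ⟨k, hk⟩ := IsFiltered.sup_objs_exists (Finset.univ.image j)
  let a' : ∀ i, j i ⟶ k := fun i => (hk (Finset.mem_image_of_mem j (Finset.mem_univ i))).some
  let z : Fin l → F.obj k := fun i => F.map (a' i) (y i)
  have hz : ∀ i, c.ι.app k (z i) = x i := fun i => by
    rw [← hy i, ← c.w (a' i)]; rfl
  have h0 : c.ι.app k (∑ i, f i • z i) = c.ι.app k 0 := by
    rw [map_sum, map_zero]
    simp only [map_smul, hz]
    exact hx
  obtain ⟨m, s, t, hst⟩ := Concrete.isColimit_exists_of_rep_eq F hc _ _ h0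
  rw [map_zero, map_sum] at hst
  simp only [map_smul] at hst
  haveI := hF m
  obtain ⟨n, A, w, hw, hA⟩ := Module.Flat.isTrivialRelation_of_sum_smul_eq_zero hst
  refine ⟨n, A, fun i => c.ι.app m (w i), fun i => ?_, hA⟩
  rw [← hz i, show c.ι.app k (z i) = c.ι.app m (F.map s (z i)) by rw [← c.w s]; rfl, show F.map s (z i) = _ from hw i, map_sum]
  simp only [map_smul]

/-- An `R`-module `M` is flat if and only if it is isomorphic to the colimit of a diagram of finite free
`R`-modules indexed by a nonempty directed preorder (in the same universe). -/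
theorem result {R : Type u} [CommRing R] (M : Type u) [AddCommGroup M] [Module R M] :
    Module.Flat R M ↔
      ∃ (J : Type u) (_ : Preorder J) (_ : IsDirected J (fun a b => a ≤ b)) (_ : Nonempty J)
        (F : J ⥤ ModuleCat.{u} R), (∀ j, Module.Finite R (F.obj j) ∧ Module.Free R (F.obj j)) ∧
        Nonempty (Limits.colimit F ≅ ModuleCat.of R M) := by
  constructor
  · intro h
    haveI := isFiltered (R := R) (M := M)
    have hc : IsColimit (cocone (R := R) (M := M)) := by
      refine isColimitOfReflects (forget (ModuleCat.{u} R)) (Types.FilteredColimit.isColimitOf _ _ ?_ ?_)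
      · intro (x : M)
        refine ⟨⟨1, LinearMap.toSpanSingleton R M x ∘ₗ LinearMap.proj 0⟩, fun _ => (1 : R), ?_⟩
        show x = (1 : R) • x
        rw [one_smul]
      · intro p q (x : Fin p.n → R) (y : Fin q.n → R) (hxy : p.v x = q.v y)
        let P : Pt R M := ⟨p.n, p.v⟩
        let o : Pt R M := ⟨1, LinearMap.toSpanSingleton R M (p.v x) ∘ₗ LinearMap.proj 0⟩
        let fx : o ⟶ p := mkHom (LinearMap.toSpanSingleton R _ x ∘ₗ LinearMap.proj 0)
          (LinearMap.ext fun z => by simp [o])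
        let fy : o ⟶ q := mkHom (LinearMap.toSpanSingleton R _ y ∘ₗ LinearMap.proj 0)
          (LinearMap.ext fun z => by simp [o, hxy])
        obtain ⟨r, a, b, hab⟩ := IsFiltered.span fx fy
        refine ⟨r, a, b, ?_⟩
        have := LinearMap.congr_fun (congrArg Subtype.val hab) (fun _ => (1 : R))
        simp [fx, fy, mkHom, CategoryStruct.comp] at this
        exact this
    obtain ⟨α, _, _, _, F, _⟩ := IsFiltered.exists_directed (Pt R M)
    refine ⟨α, inferInstance, inferInstance, inferInstance, F ⋙ diag (R := R) (M := M), fun j => ⟨?_, ?_⟩, ⟨?_⟩⟩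
    · exact inferInstanceAs (Module.Finite R (Fin (F.obj j).n → R))
    · exact inferInstanceAs (Module.Free R (Fin (F.obj j).n → R))
    · exact Functor.Final.colimitIso F (diag (R := R) (M := M)) ≪≫
        (colimit.isColimit (diag (R := R) (M := M))).coconePointUniqueUpToIso hc
  · rintro ⟨J, _, _, _, F, hF, ⟨e⟩⟩
    haveI hfl : Module.Flat R ↥(colimit F) :=
      flat_of_isColimit F (fun j => haveI := (hF j).2; inferInstance) _ (colimit.isColimit F)
    exact @Module.Flat.of_linearEquiv _ _ _ _ _ _ _ _ hfl e.toLinearEquiv.symm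

end Groth.Agent.S2118
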