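import Groth.Statements.S2119
import Mathlib

set_option autoImplicit false
set_option linter.style.haveILetI false
set_option linter.style.longLine false
universe u
open CAlg

namespace Groth.Agent.S2119

variable {A : Type u} [CommRing A] [IsDomain A] {P : Set A}
theorem dvd_of_dvd_mul (hP : ∀ p ∈ P, Prime p) (a : A) (ha : ∀ p ∈ P, ¬ p ∣ a) {s : A}
    (hs : s ∈ Submonoid.closure P) : ∀ x, s ∣ a * x → s ∣ x := by
  induction hs using Submonoid.closure_induction with
  | mem p hp => exact fun x h => ((hP p hp).dvd_mul.1 h).resolve_left (ha p hp)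
  | one => exact fun x _ => one_dvd x
  | mul s t _ _ h1 h2 =>
    intro x h
    obtain ⟨z, rfl⟩ := h1 x (dvd_trans (dvd_mul_right s t) h)
    rcases eq_or_ne s 0 with rfl | hs0
    · simp
    refine mul_dvd_mul_left s (h2 z ?_)
    rw [mul_left_comm] at h
    exact (mul_dvd_mul_iff_left hs0).1 h
theorem exists_factor (hP : ∀ p ∈ P, Prime p) {s : A}
    (hs : s ∈ Submonoid.closure P) : ∀ a x y, s * a = x * y →
      ∃ x' y', x' * y' = a ∧ x ∣ s * x' ∧ y ∣ s * y' := by
  induction hs using Submonoid.closure_induction with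
  | mem p hp =>
    intro a x y h
    have hp0 := (hP p hp).ne_zero
    rcases (hP p hp).dvd_mul.1 (Dvd.intro a h) with ⟨z, rfl⟩ | ⟨z, rfl⟩
    · exact ⟨z, y, mul_left_cancel₀ hp0 (by linear_combination -h), dvd_rfl, dvd_mul_left y p⟩
    · exact ⟨x, z, mul_left_cancel₀ hp0 (by linear_combination -h), dvd_mul_left x p, dvd_rfl⟩
  | one => exact fun a x y h => ⟨x, y, by simpa using h.symm, by simp, by simp⟩
  | mul s t _ _ h1 h2 =>
    intro a x y h
    obtain ⟨x1, y1, e1, hx1, hy1⟩ := h1 (t * a) x y (by rw [← mul_assoc, h])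
    obtain ⟨x2, y2, e2, hx2, hy2⟩ := h2 a x1 y1 e1.symm
    refine ⟨x2, y2, e2, ?_, ?_⟩
    · rw [mul_assoc]; exact hx1.trans (mul_dvd_mul_left s hx2)
    · rw [mul_assoc]; exact hy1.trans (mul_dvd_mul_left s hy2)
theorem prime_of_irreducible (hP : ∀ p ∈ P, Prime p) [IsDomain (Localization (Submonoid.closure P))]
    (hS : UniqueFactorizationMonoid (Localization (Submonoid.closure P))) {a : A} (hirr : Irreducible a) :
    Prime a := by
  by_cases hex : ∃ p ∈ P, p ∣ a
  · obtain ⟨p, hp, hpa⟩ := hex
    exact ((hP p hp).irreducible.associated_of_dvd hirr hpa).prime (hP p hp)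
  push Not at hex
  set S := Submonoid.closure P
  have hS0 : S ≤ nonZeroDivisors A := Submonoid.closure_le.2 fun p hp =>
    mem_nonZeroDivisors_of_ne_zero (hP p hp).ne_zero
  set φ := algebraMap A (Localization S)
  have hinj : Function.Injective φ := IsLocalization.injective _ hS0
  have hun : ∀ s ∈ S, IsUnit (φ s) := fun s hs => IsLocalization.map_units _ (⟨s, hs⟩ : S)
  have hnu : ¬ IsUnit (φ a) := by
    intro h
    obtain ⟨z, hz⟩ := isUnit_iff_exists_inv.1 h
    obtain ⟨⟨y, s⟩, hys⟩ := IsLocalization.surj S z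
    have e : a * y = s := hinj (by rw [map_mul, ← hys, ← mul_assoc, hz, one_mul])
    obtain ⟨w, rfl⟩ := dvd_of_dvd_mul hP a hex s.2 y (e ▸ dvd_rfl)
    refine hirr.not_isUnit (IsUnit.of_mul_eq_one w (mul_left_cancel₀ (nonZeroDivisors.ne_zero (hS0 s.2)) ?_))
    rw [mul_one]; linear_combination e
  have hirr' : Irreducible (φ a) := by
    refine ⟨hnu, fun u v huv => ?_⟩
    obtain ⟨⟨x, s⟩, hx⟩ := IsLocalization.surj S u
    obtain ⟨⟨y, t⟩, hy⟩ := IsLocalization.surj S v
    have e : ((s : A) * t) * a = x * y := hinj (by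
      simp only at hx hy
      rw [map_mul, map_mul, map_mul, huv, ← hx, ← hy]
      ring)
    obtain ⟨x', y', exy, hx', hy'⟩ := exists_factor hP (mul_mem s.2 t.2) a x y e
    rcases hirr.isUnit_or_isUnit exy.symm with h | h
    · left
      have := isUnit_of_dvd_unit (map_dvd φ hx') (by rw [map_mul]; exact (hun _ (mul_mem s.2 t.2)).mul (h.map φ))
      rw [← hx] at this
      exact isUnit_of_mul_isUnit_left this
    · right
      have := isUnit_of_dvd_unit (map_dvd φ hy') (by rw [map_mul]; exact (hun _ (mul_mem s.2 t.2)).mul (h.map φ))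
      rw [← hy] at this
      exact isUnit_of_mul_isUnit_left this
  have hp : Prime (φ a) := UniqueFactorizationMonoid.irreducible_iff_prime.1 hirr'
  have back : ∀ x, φ a ∣ φ x → a ∣ x := by
    rintro x ⟨z, hz⟩
    obtain ⟨⟨w, s⟩, hw⟩ := IsLocalization.surj S z
    have e : (s : A) * x = a * w := hinj (by rw [map_mul, map_mul, hz, ← hw]; ring)
    obtain ⟨c, rfl⟩ := dvd_of_dvd_mul hP a hex s.2 w (e ▸ dvd_mul_right _ _)
    exact ⟨c, mul_left_cancel₀ (nonZeroDivisors.ne_zero (hS0 s.2)) (by linear_combination e)⟩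
  refine ⟨hirr.ne_zero, hirr.not_isUnit, fun x y h => ?_⟩
  have := map_dvd φ h
  rw [map_mul] at this
  exact (hp.dvd_or_dvd this).imp (back x) (back y)

/-- Nagata's criterion for factoriality, final assertion: let `A` be a domain in which every nonzero
nonunit factors into irreducibles, and `S` the multiplicative subset generated by a set of prime
elements. If the localization `S⁻¹A` is a unique factorization domain, then so is `A`. -/
theorem result {A : Type u} [CommRing A] [IsDomain A]
    (hfac : ∀ a : A, a ≠ 0 → ¬ IsUnit a → ∃ f : Multiset A, (∀ b ∈ f, Irreducible b) ∧ Associated f.prod a) (P : Set A)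
    (hP : ∀ p ∈ P, Prime p) [IsDomain (Localization (Submonoid.closure P))]
    (hS : UniqueFactorizationMonoid (Localization (Submonoid.closure P))) : UniqueFactorizationMonoid A := by
  refine UniqueFactorizationMonoid.of_exists_prime_factors fun a ha => ?_
  by_cases hu : IsUnit a
  · exact ⟨0, by simp, by simpa using (associated_one_iff_isUnit.2 hu).symm⟩
  obtain ⟨f, hf, hfa⟩ := hfac a ha hu
  exact ⟨f, fun b hb => prime_of_irreducible hP hS (hf b hb), hfa⟩

end Groth.Agent.S2119
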