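import Groth.Statements.S2123


set_option autoImplicit false
universe u
open CategoryTheory AlgebraicGeometry
open Mor

namespace Groth.Agent.S2123

open CategoryTheory.Limits

/-- Let `X` be an integral separated scheme and `x, y` points such that the closure of `x` is not
contained in the closure of `y`. Then, inside the function field of `X`, the local ring at `x` is
not contained in the local ring at `y`. -/
theorem result (X : Scheme.{u}) [IsIntegral X] [X.IsSeparated] (x y : X)
    (h : ¬ closure ({x} : Set X) ⊆ closure {y}) :
    ¬ Set.range (X.presheaf.stalkSpecializes (genericPoint_specializes x)) ⊆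
        Set.range (X.presheaf.stalkSpecializes (genericPoint_specializes y)) := by
  intro hsub
  apply h
  let ex := (X.presheaf.stalkSpecializes (genericPoint_specializes x)).hom
  let ey := (X.presheaf.stalkSpecializes (genericPoint_specializes y)).hom
  have hey : Function.Injective ey := IsFractionRing.injective (X.presheaf.stalk y) X.functionField
  let e := RingEquiv.ofBijective ey.rangeRestrict
    ⟨fun a b hab => hey (congrArg Subtype.val hab), ey.rangeRestrict_surjective⟩
  let φ : X.presheaf.stalk x ⟶ X.presheaf.stalk y := CommRingCat.ofHom
    (e.symm.toRingHom.comp ((Subring.inclusion (fun _ ha => hsub ha : ex.range ≤ ey.range)).comp ex.rangeRestrict))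
  have hφ : φ ≫ X.presheaf.stalkSpecializes (genericPoint_specializes y) =
      X.presheaf.stalkSpecializes (genericPoint_specializes x) := by
    ext a
    exact congrArg Subtype.val (e.apply_symm_apply ((Subring.inclusion (fun _ ha => hsub ha : ex.range ≤ ey.range)) (ex.rangeRestrict a)))
  let ι := Spec.map (X.presheaf.stalkSpecializes (genericPoint_specializes y))
  haveI : IsDominant ι := ⟨(PrimeSpectrum.denseRange_comap_iff_ker_le_nilRadical ey).2
    (by rw [(RingHom.injective_iff_ker_eq_bot ey).1 hey]; exact bot_le)⟩
  haveI : IsSeparated (terminal.from X) := Scheme.IsSeparated.isSeparated_terminal_from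
  have hpq : Spec.map φ ≫ X.fromSpecStalk x = X.fromSpecStalk y := by
    refine ext_of_isDominant_of_isSeparated (terminal.from X) (terminal.hom_ext _ _) ι ?_
    rw [← Category.assoc, ← Spec.map_comp, hφ, Scheme.SpecMap_stalkSpecializes_fromSpecStalk,
      Scheme.SpecMap_stalkSpecializes_fromSpecStalk]
  have hyx : y ⤳ x := by
    let o : Spec (X.presheaf.stalk y) := IsLocalRing.closedPoint _
    have hmem : X.fromSpecStalk y o ∈ Set.range (X.fromSpecStalk x) := ⟨Spec.map φ o, congr(($hpq) o)⟩
    rw [Scheme.range_fromSpecStalk, Scheme.fromSpecStalk_closedPoint] at hmem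
    exact hmem
  exact closure_minimal (Set.singleton_subset_iff.2 hyx.mem_closure) isClosed_closure

end Groth.Agent.S2123
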