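import Groth.Statements.S6267
import Mathlib
import Groth.Agent.CAlgH2.UnivInj

set_option autoImplicit false
universe u
open scoped TensorProduct
open CAlg

namespace Groth.Agent.S6267

/-- Let R be a ring and f : M → M' a map of R-modules with M' flat. Then f is universally injective
exactly when, for each finitely generated ideal I of R, the induced map M ⊗ R/I → M' ⊗ R/I (that is,
M/IM → M'/IM') is injective. -/
theorem result {R : Type u} [CommRing R] {M M' : Type u} [AddCommGroup M] [Module R M] [AddCommGroup M'] [Module R M'] [Module.Flat R M'] (f : M →ₗ[R] M') : CAlgX.UniversallyInjective R f ↔ ∀ I : Ideal R, I.FG → Function.Injective (f.rTensor (R ⧸ I)) := by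
  refine ⟨fun hf I _ => hf _, fun h => ?_⟩
  have hinj : Function.Injective f := by
    have h0 := h ⊥ Submodule.fg_bot
    let e := TensorProduct.rid R M
    intro x y hxy
    have h1 : x ⊗ₜ[R] (Submodule.Quotient.mk 1 : R ⧸ (⊥ : Ideal R)) = y ⊗ₜ[R] (Submodule.Quotient.mk 1 : R ⧸ (⊥ : Ideal R)) := by
      apply h0; simp [hxy]
    have h2 := congrArg (TensorProduct.rid R M)
      (congrArg ((Submodule.quotEquivOfEqBot (⊥ : Ideal R) rfl).toLinearMap.lTensor M) h1)
    simp only [LinearMap.lTensor_tmul, LinearEquiv.coe_coe, Submodule.quotEquivOfEqBot_apply_mk,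
      TensorProduct.rid_tmul, one_smul] at h2
    exact h2
  have := CAlgH2.flat_of_flat_of_rTensor_quotient_injective (LinearMap.exact_map_mkQ_range f)
    (Submodule.mkQ_surjective _) h
  exact CAlgH2.universallyInjective_of_flat_coker (LinearMap.exact_map_mkQ_range f)
    (Submodule.mkQ_surjective _) hinj

end Groth.Agent.S6267
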