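import Groth.Statements.S2124
import Mathlib
import Groth.Agent.S6267
import Groth.Agent.CAlg9.Decaying
import Groth.Agent.ML3.Flat

set_option autoImplicit false
set_option linter.style.haveILetI false
set_option linter.style.longLine false
universe u
open CAlg

namespace Groth.Agent.S2124


open W4c5adicflatcompl
open scoped TensorProduct

theorem rTensor_quotient_injective {R : Type u} [CommRing R] {M M' : Type u} [AddCommGroup M] [Module R M]
    [AddCommGroup M'] [Module R M'] (f : M →ₗ[R] M') (J : Ideal R)
    (h : ∀ x, f x ∈ (J • ⊤ : Submodule R M') → x ∈ (J • ⊤ : Submodule R M)) :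
    Function.Injective (f.rTensor (R ⧸ J)) := by
  rw [injective_iff_map_eq_zero]
  intro z hz
  obtain ⟨x, hx⟩ := Submodule.Quotient.mk_surjective _ (TensorProduct.tensorQuotEquivQuotSMul M J z)
  have hz' : z = x ⊗ₜ (1 : R ⧸ J) := by
    rw [← TensorProduct.tensorQuotEquivQuotSMul_symm_mk, hx, LinearEquiv.symm_apply_apply]
  rw [hz', LinearMap.rTensor_tmul] at hz
  have h1 := congrArg (TensorProduct.tensorQuotEquivQuotSMul M' J) hz
  rw [map_zero, show (1 : R ⧸ J) = Ideal.Quotient.mk J 1 from rfl, TensorProduct.tensorQuotEquivQuotSMul_tmul_mk,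
    one_smul, Submodule.Quotient.mk_eq_zero] at h1
  have h2 : TensorProduct.tensorQuotEquivQuotSMul M J z = 0 := by
    rw [← hx, Submodule.Quotient.mk_eq_zero]; exact h x h1
  exact (TensorProduct.tensorQuotEquivQuotSMul M J).map_eq_zero_iff.1 h2

variable {R : Type u} [CommRing R] [IsNoetherianRing R] (I : Ideal R) [IsAdicComplete I R] (α : Type u)

/-- the map into the product -/
noncomputable def toPi : AdicCompletion I (α →₀ R) →ₗ[R] (α → AdicCompletion I R) :=
  LinearMap.pi fun a : α => AdicCompletion.map I (Finsupp.lapply a : (α →₀ R) →ₗ[R] R)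

theorem toPi_apply (x : AdicCompletion I (α →₀ R)) (a : α) :
    toPi I α x a = AdicCompletion.map I (Finsupp.lapply a) x := rfl

theorem toPi_inj : Function.Injective (toPi I α) := by
  rw [injective_iff_map_eq_zero]
  intro x hx
  ext n
  obtain ⟨y, hy⟩ := Submodule.Quotient.mk_surjective _ (x.val n)
  rw [← hy, AdicCompletion.val_zero, Pi.zero_apply, Submodule.Quotient.mk_eq_zero, CAlg9.finsupp_mem_smul_top_iff]
  intro a
  have := congrArg (fun w : AdicCompletion I R => w.val n) (congrFun hx a)
  rw [toPi_apply, AdicCompletion.map_val_apply, ← hy] at this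
  exact (Submodule.Quotient.mk_eq_zero _).1 this

theorem main (J : Ideal R) (hJ : J.FG) (x : AdicCompletion I (α →₀ R))
    (hx : toPi I α x ∈ (J • ⊤ : Submodule R (α → AdicCompletion I R))) :
    x ∈ (J • ⊤ : Submodule R (AdicCompletion I (α →₀ R))) := by
  classical
  let e := AdicCompletion.ofLinearEquiv I R
  let c : α → R := fun a => e.symm (toPi I α x a)
  have hc : ∀ a, e (c a) = toPi I α x a := fun a => e.apply_symm_apply _
  have hcJ : ∀ a, c a ∈ J := by
    intro a
    have h := Submodule.mem_map_of_mem (f := (LinearMap.proj a : (α → AdicCompletion I R) →ₗ[R] _)) hx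
    rw [Submodule.map_smul''] at h
    have h' := Submodule.mem_map_of_mem (f := e.symm.toLinearMap) ((smul_mono_right _ le_top :
      J • _ ≤ (J • ⊤ : Submodule R (AdicCompletion I R))) h)
    rw [Submodule.map_smul''] at h'
    have h'' := (smul_mono_right _ le_top : J • _ ≤ (J • ⊤ : Submodule R R)) h'
    rwa [smul_eq_mul, Ideal.mul_top] at h''
  have hcd : c ∈ decaying I α R := by
    intro n
    obtain ⟨y, hy⟩ := Submodule.Quotient.mk_surjective _ (x.val n)
    refine y.support.finite_toSet.subset fun a ha => ?_
    by_contra hsupp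
    apply ha
    have h1 := congrArg (fun w : AdicCompletion I R => w.val n) (hc a)
    rw [toPi_apply, AdicCompletion.map_val_apply, ← hy] at h1
    rw [← Submodule.Quotient.mk_eq_zero]
    refine Eq.trans ?_ (h1.trans ?_)
    · rfl
    · show Submodule.Quotient.mk (y a) = 0
      rw [Finsupp.notMem_support_iff.1 hsupp]
      rfl
  obtain ⟨m, g, hg⟩ := Submodule.fg_iff_exists_fin_generating_family.1 hJ
  let φ : (Fin m → R) →ₗ[R] J :=
    (Fintype.linearCombination R g).codRestrict J fun v => by
      rw [← hg, ← Fintype.range_linearCombination]; exact LinearMap.mem_range_self _ v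
  have hφ : Function.Surjective φ := fun z => by
    have : (z : R) ∈ Submodule.span R (Set.range g) := hg.symm ▸ z.2
    rw [← Fintype.range_linearCombination] at this
    obtain ⟨v, hv⟩ := this
    exact ⟨v, Subtype.ext hv⟩
  haveI : IsHausdorff I J := CAlg9.isHausdorff_of_finite I
  obtain ⟨d, hd, hdφ⟩ := CAlg9.exists_decaying_lift φ hφ (fun a => (⟨c a, hcJ a⟩ : J))
    ((CAlg9.mem_decaying_submodule_iff J _).2 hcd)
  haveI := AdicCompletion.isAdicComplete (I := I) (M := α →₀ R) I.fg_of_isNoetherianRing
  obtain ⟨Φ, hΦ⟩ := CAlg9.exists_sumMap (I := I) (M := R) (N := AdicCompletion I (α →₀ R))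
    (fun a : α => (AdicCompletion.of I (α →₀ R)).comp (Finsupp.lsingle a))
  have hΦc : ∀ (w : decaying I α R) (a : α), toPi I α (Φ w) a = AdicCompletion.of I R ((w : α → R) a) := by
    intro w a
    ext n
    let S := insert a (CAlg9.badSet w n)
    have h := hΦ w n S fun z hz => CAlg9.mem_of_notMem_badSet fun h => hz (Finset.mem_insert_of_mem h)
    have h2 := CAlg9.val_eq_zero_of_mem I (CAlg9.map_pow_smul_top_le I ((LinearMap.proj a).comp (toPi I α)) n h)
    rw [LinearMap.comp_apply, map_sub, map_sum] at h2
    simp only [LinearMap.comp_apply, map_sub, AdicCompletion.val_sub_apply, sub_eq_zero] at h2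
    refine h2.trans (congrArg (fun v : AdicCompletion I R => v.val n) ?_)
    rw [map_sum, Finset.sum_eq_single a]
    · simp [toPi_apply, AdicCompletion.map_of]
    · intro b _ hb
      simp [toPi_apply, AdicCompletion.map_of, hb]
    · exact fun h => absurd (Finset.mem_insert_self a _) h
  let dd : Fin m → decaying I α R := fun i => CAlg9.decayingMap I α (LinearMap.proj i) ⟨d, hd⟩
  have hx' : x = ∑ i, g i • Φ (dd i) := by
    refine toPi_inj I α (funext fun a => ?_)
    rw [map_sum, Finset.sum_apply, ← hc a]
    show e (c a) = _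
    have h3 : c a = ∑ i, g i * d a i := by
      have h4 : ((φ (d a)) : R) = c a := congrArg Subtype.val (hdφ a)
      rw [← h4]
      simp [φ, Fintype.linearCombination_apply, mul_comm]
    rw [h3, map_sum]
    refine Finset.sum_congr rfl fun i _ => ?_
    rw [map_smul, Pi.smul_apply, hΦc, ← map_smul]
    rfl
  rw [hx']
  exact sum_mem fun i _ => Submodule.smul_mem_smul (hg ▸ Submodule.subset_span ⟨i, rfl⟩) trivial

/-- Let `R` be Noetherian and `I`-adically complete and `α` any index set. The map from the `I`-adic
completion of the direct sum `⊕_α R` to the product `∏_α R^∧ = ∏_α R`, induced by the coordinate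
projections, is universally injective. -/
theorem result {R : Type u} [CommRing R] [IsNoetherianRing R] (I : Ideal R)
    [IsAdicComplete I R] (α : Type u) :
    CAlgX.UniversallyInjective R
      (LinearMap.pi fun a : α => AdicCompletion.map I (Finsupp.lapply a : (α →₀ R) →ₗ[R] R) :
        AdicCompletion I (α →₀ R) →ₗ[R] (α → AdicCompletion I R)) := by
  haveI := ML3.flat_pi (R := R) α
  haveI : Module.Flat R (α → AdicCompletion I R) :=
    Module.Flat.of_linearEquiv (LinearEquiv.piCongrRight fun _ : α => AdicCompletion.ofLinearEquiv I R).symm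
  exact (Groth.Agent.S6267.result _).2 fun J hJ => rTensor_quotient_injective _ J (main I α J hJ)

end Groth.Agent.S2124
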