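import Groth.Statements.S2131
import Mathlib

set_option autoImplicit false
set_option linter.style.haveILetI false
set_option linter.style.longLine false
universe u
open CAlg

namespace Groth.Agent.S2131

/-- For an `R`-linear map from a finite module to a finitely presented module, the primes at which its
localization is bijective form an open subset of `Spec R`. -/
theorem result {R M N : Type u} [CommRing R] [AddCommGroup M] [Module R M] [Module.Finite R M]
    [AddCommGroup N] [Module R N] [Module.FinitePresentation R N] (φ : M →ₗ[R] N) :
    IsOpen {p : PrimeSpectrum R | Function.Bijective (LocalizedModule.map p.asIdeal.primeCompl φ)} := by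
  rw [isOpen_iff_forall_mem_open]
  intro p hp
  obtain ⟨r, hr, H⟩ := exists_bijective_map_powers p.asIdeal.primeCompl
    (LocalizedModule.mkLinearMap p.asIdeal.primeCompl M) (LocalizedModule.mkLinearMap p.asIdeal.primeCompl N) φ
    ((IsLocalizedModule.map_bijective_iff_localizedModuleMap_bijective _ _).2 hp)
  refine ⟨PrimeSpectrum.basicOpen r, fun q hq => ?_, (PrimeSpectrum.basicOpen r).2, hr⟩
  have hb := H r dvd_rfl
  obtain ⟨hi, hs⟩ := hb
  constructor
  · rw [injective_iff_map_eq_zero]
    intro z hz
    induction z using LocalizedModule.induction_on with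
    | h m s =>
      rw [LocalizedModule.map_mk, ← LocalizedModule.zero_mk (1 : q.asIdeal.primeCompl), LocalizedModule.mk_eq] at hz
      obtain ⟨t, ht⟩ := hz
      simp at ht
      have h1 : LocalizedModule.map (Submonoid.powers r) φ (LocalizedModule.mk ((t : R) • m) 1) = LocalizedModule.map (Submonoid.powers r) φ 0 := by
        rw [map_zero, LocalizedModule.map_mk, map_smul]
        simp [← Submonoid.smul_def, ht]
      have h2 := hi h1
      rw [← LocalizedModule.zero_mk (1 : Submonoid.powers r), LocalizedModule.mk_eq] at h2
      obtain ⟨⟨_, n, rfl⟩, hc⟩ := h2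
      rw [← LocalizedModule.zero_mk (1 : q.asIdeal.primeCompl), LocalizedModule.mk_eq]
      refine ⟨⟨r ^ n * (t : R), q.asIdeal.primeCompl.mul_mem (pow_mem (show r ∈ q.asIdeal.primeCompl from hq) n) t.2⟩, ?_⟩
      simp [Submonoid.smul_def, mul_smul] at hc ⊢
      exact hc
  · intro z
    induction z using LocalizedModule.induction_on with
    | h y s =>
      obtain ⟨w, hw⟩ := hs (LocalizedModule.mk y 1)
      induction w using LocalizedModule.induction_on with
      | h m u =>
        rw [LocalizedModule.map_mk, LocalizedModule.mk_eq] at hw
        obtain ⟨⟨_, n, rfl⟩, hc⟩ := hw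
        have hu : (u : R) ∈ q.asIdeal.primeCompl := by
          obtain ⟨k, hk⟩ := u.2
          rw [← hk]; exact pow_mem (show r ∈ q.asIdeal.primeCompl from hq) k
        refine ⟨LocalizedModule.mk m (⟨u, hu⟩ * s), ?_⟩
        rw [LocalizedModule.map_mk, LocalizedModule.mk_eq]
        refine ⟨⟨r ^ n, pow_mem (show r ∈ q.asIdeal.primeCompl from hq) n⟩, ?_⟩
        simp [Submonoid.smul_def, mul_smul] at hc ⊢
        linear_combination (norm := module) (s : R) • hc

end Groth.Agent.S2131
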