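import Groth.Statements.S2132
import Mathlib

set_option autoImplicit false
set_option linter.style.haveILetI false
set_option linter.style.longLine false
universe u
open CategoryTheory
open CAlg

namespace Groth.Agent.S2132

open CategoryTheory CategoryTheory.Limits Polynomial

/-- Let `F : J ⥤ CommRingCat` be a filtered diagram of henselian local rings with local transition maps
and `c` a colimit cocone. Then the colimit is a henselian local ring. -/
theorem result {J : Type u} [SmallCategory J] [IsFiltered J] (F : J ⥤ CommRingCat.{u})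
    (hF : ∀ j, HenselianLocalRing (F.obj j)) (hloc : ∀ (i j : J) (a : i ⟶ j), IsLocalHom (F.map a).hom)
    (c : Limits.Cocone F) (hc : Limits.IsColimit c) : HenselianLocalRing c.pt := by
  let ι : ∀ j, F.obj j →+* c.pt := fun j => (c.ι.app j).hom
  have hw : ∀ {i j} (a : i ⟶ j) (x : F.obj i), ι j ((F.map a).hom x) = ι i x := fun {i j} a x => by
    show ((F.map a ≫ c.ι.app j).hom) x = _
    rw [c.w a]
  have hrep : ∀ y : c.pt, ∃ j, ∃ x : F.obj j, ι j x = y := fun y =>
    Concrete.isColimit_exists_rep F hc y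
  have heq : ∀ {i} (x y : F.obj i), ι i x = ι i y → ∃ (k : J) (a b : i ⟶ k), (F.map a).hom x = (F.map b).hom y :=
    fun {i} x y h => Concrete.isColimit_exists_of_rep_eq F hc x y h
  have hloc' : ∀ j (x : F.obj j), IsUnit (ι j x) → IsUnit x := by
    intro j x hx
    obtain ⟨v, hv⟩ := hx.exists_right_inv
    obtain ⟨k, y, rfl⟩ := hrep v
    let a := IsFiltered.leftToMax j k
    let b := IsFiltered.rightToMax j k
    have h1 : ι (IsFiltered.max j k) ((F.map a).hom x * (F.map b).hom y) = ι (IsFiltered.max j k) 1 := by rw [map_mul, hw, hw, hv, map_one]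
    obtain ⟨l, s, t, hst⟩ := heq _ _ h1
    rw [map_mul, map_one] at hst
    haveI := hloc _ _ s
    haveI := hloc _ _ a
    exact isUnit_of_map_unit (F.map a).hom x (isUnit_of_map_unit (F.map s).hom _ (IsUnit.of_mul_eq_one _ hst))
  haveI : Nontrivial c.pt := by
    refine ⟨⟨0, 1, fun h => ?_⟩⟩
    obtain ⟨j⟩ := IsFiltered.nonempty (C := J)
    haveI := (hF j).toIsLocalRing
    exact not_isUnit_zero (hloc' j 0 (by rw [map_zero, h]; exact isUnit_one))
  haveI : IsLocalRing c.pt := by
    refine IsLocalRing.of_isUnit_or_isUnit_one_sub_self fun a => ?_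
    obtain ⟨j, x, rfl⟩ := hrep a
    haveI := (hF j).toIsLocalRing
    rcases IsLocalRing.isUnit_or_isUnit_one_sub_self x with h | h
    · exact Or.inl (h.map _)
    · exact Or.inr (by simpa using h.map (ι j))
  have mono : ∀ {i j} (a : i ⟶ j) q, q ∈ lifts (ι i) → q ∈ lifts (ι j) := by
    intro i j a q hq
    obtain ⟨r, rfl⟩ := (mem_lifts q).1 hq
    refine (mem_lifts _).2 ⟨r.map (F.map a).hom, ?_⟩
    rw [Polynomial.map_map]
    congr 1
    exact RingHom.ext (hw a)
  have hlift : ∀ f : Polynomial c.pt, ∃ j, f ∈ lifts (ι j) := by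
    intro f
    induction f using Polynomial.induction_on' with
    | add p q hp hq =>
      obtain ⟨i, hi⟩ := hp
      obtain ⟨j, hj⟩ := hq
      exact ⟨_, Subsemiring.add_mem _ (mono (IsFiltered.leftToMax i j) _ hi) (mono (IsFiltered.rightToMax i j) _ hj)⟩
    | monomial n a =>
      obtain ⟨i, x, rfl⟩ := hrep a
      exact ⟨i, (mem_lifts _).2 ⟨monomial n x, Polynomial.map_monomial _⟩⟩
  constructor
  intro f hf a₀ h1 h2
  obtain ⟨i, hi⟩ := hlift f
  obtain ⟨j, x, hx⟩ := hrep a₀
  let a := IsFiltered.leftToMax i j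
  let b := IsFiltered.rightToMax i j
  obtain ⟨g, hg, -, hgm⟩ := lifts_and_degree_eq_and_monic (mono a _ hi) hf
  have hx' : ι _ ((F.map b).hom x) = a₀ := by rw [hw, hx]
  haveI := hF (IsFiltered.max i j)
  obtain ⟨r, hr, hra⟩ := HenselianLocalRing.is_henselian g hgm ((F.map b).hom x)
    (fun hu => h1 (by rw [← hx', ← hg, eval_map_apply]; exact hu.map _))
    (hloc' _ _ (by rw [← eval_map_apply, ← derivative_map, hg, hx']; exact h2))
  refine ⟨ι _ r, ?_, ?_⟩
  · show f.eval _ = 0
    rw [← hg, eval_map_apply, show g.eval r = 0 from hr, map_zero]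
  · intro hu
    refine hra (hloc' _ _ ?_)
    rw [map_sub, hx']
    exact hu

end Groth.Agent.S2132
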