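import Groth.Statements.S2133
import Mathlib

set_option autoImplicit false
set_option linter.style.haveILetI false
set_option linter.style.longLine false
universe u
open CAlg

namespace Groth.Agent.S2133

variable {R R' : Type u} [CommRing R] [CommRing R'] [Algebra R R'] (g : R) (D : Derivation ℤ R R) (N : ℕ)
def Rel (x y : R') : Prop :=
  ∃ (n : ℕ) (r : R), algebraMap R R' g ^ n * x = algebraMap R R' r ∧
    algebraMap R R' g ^ (n + 1) * y = algebraMap R R' (g ^ (N + 1) * D r - n * g ^ N * D g * r)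
variable {g D N}
theorem lift_rep {x y : R'} {n : ℕ} {r : R} (k : ℕ) (h1 : algebraMap R R' g ^ n * x = algebraMap R R' r)
    (h2 : algebraMap R R' g ^ (n + 1) * y = algebraMap R R' (g ^ (N + 1) * D r - n * g ^ N * D g * r)) :
    algebraMap R R' g ^ (n + k) * x = algebraMap R R' (g ^ k * r) ∧
    algebraMap R R' g ^ (n + k + 1) * y =
      algebraMap R R' (g ^ (N + 1) * D (g ^ k * r) - (n + k : ℕ) * g ^ N * D g * (g ^ k * r)) := by
  refine ⟨by rw [map_mul, map_pow, ← h1]; ring, ?_⟩
  have : g ^ (N + 1) * D (g ^ k * r) - (n + k : ℕ) * g ^ N * D g * (g ^ k * r)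
      = g ^ k * (g ^ (N + 1) * D r - n * g ^ N * D g * r) := by
    rw [Derivation.leibniz, Derivation.leibniz_pow, smul_eq_mul, smul_eq_mul, smul_eq_mul, nsmul_eq_mul]
    cases k with
    | zero => simp
    | succ k => push_cast; ring
  rw [this, map_mul, map_pow, ← h2]; ring
theorem rel_add {x y x' y' : R'} (h : Rel g D N x y) (h' : Rel g D N x' y') : Rel g D N (x + x') (y + y') := by
  obtain ⟨n, r, h1, h2⟩ := h
  obtain ⟨m, s, h1', h2'⟩ := h'
  obtain ⟨a1, a2⟩ := lift_rep m h1 h2
  obtain ⟨b1, b2⟩ := lift_rep n h1' h2'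
  rw [add_comm m n] at b1 b2
  refine ⟨n + m, g ^ m * r + g ^ n * s, by rw [mul_add, map_add, a1, b1], ?_⟩
  rw [mul_add, a2, b2, ← map_add, map_add (D)]
  congr 1; ring
theorem rel_mul (hg : IsSMulRegular R' (algebraMap R R' g)) {x y x' y' : R'} (h : Rel g D N x y)
    (h' : Rel g D N x' y') : Rel g D N (x * x') (x * y' + x' * y) := by
  obtain ⟨n, r, h1, h2⟩ := h
  obtain ⟨m, s, h1', h2'⟩ := h'
  refine ⟨n + m, r * s, by rw [map_mul, ← h1, ← h1']; ring, hg ?_⟩
  show algebraMap R R' g * _ = algebraMap R R' g * _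
  have e : algebraMap R R' g * (algebraMap R R' g ^ (n + m + 1) * (x * y' + x' * y)) =
      algebraMap R R' g * (algebraMap R R' g ^ n * x * (algebraMap R R' g ^ (m + 1) * y') +
        algebraMap R R' g ^ m * x' * (algebraMap R R' g ^ (n + 1) * y)) := by ring
  rw [e, h1, h1', h2, h2', Derivation.leibniz, smul_eq_mul, smul_eq_mul]
  simp only [← map_mul, ← map_add]
  congr 1
  push_cast; ring
theorem rel_algebraMap (r : R) : Rel g D N (algebraMap R R' r) (algebraMap R R' (g ^ N * D r)) :=
  ⟨0, r, by simp, by rw [← map_pow, ← map_mul]; congr 1; push_cast; ring⟩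
theorem rel_unique (hinj : Function.Injective (algebraMap R R')) (hg : IsSMulRegular R' (algebraMap R R' g))
    {x y y' : R'} (h : Rel g D N x y) (h' : Rel g D N x y') : y = y' := by
  obtain ⟨n, r, h1, h2⟩ := h
  obtain ⟨m, s, h1', h2'⟩ := h'
  obtain ⟨a1, a2⟩ := lift_rep m h1 h2
  obtain ⟨b1, b2⟩ := lift_rep n h1' h2'
  rw [add_comm m n] at b1 b2
  have : g ^ m * r = g ^ n * s := hinj (a1.symm.trans b1)
  rw [this] at a2
  exact (hg.pow (n + m + 1)) (by simpa only [smul_eq_mul] using a2.trans b2.symm)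

/-- Let `R → R'` be an injective ring map of finite type and `g ∈ R` a nonzerodivisor on `R'` such that
every element of `R'` lands in `R` after multiplication by a power of `g` (so `R_g = R'_g`). Then
for every derivation `D` of `R` there is `N` such that `g^N D` extends to a derivation of `R'`. -/
theorem result {R R' : Type u} [CommRing R] [CommRing R'] [Algebra R R'] [Algebra.FiniteType R R']
    (hinj : Function.Injective (algebraMap R R')) (g : R) (hg : IsSMulRegular R' (algebraMap R R' g))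
    (hloc : ∀ x : R', ∃ n : ℕ, (algebraMap R R' g) ^ n * x ∈ Set.range (algebraMap R R')) (D : Derivation ℤ R R) :
    ∃ (N : ℕ) (D' : Derivation ℤ R' R'), ∀ r : R, D' (algebraMap R R' r) = algebraMap R R' (g ^ N * D r) := by
  classical
  obtain ⟨S, hS⟩ := Algebra.FiniteType.out (R := R) (A := R')
  choose n r hr using fun x : R' => (by
    obtain ⟨n, r, h⟩ := hloc x
    exact ⟨n, r, h.symm⟩ : ∃ n r, algebraMap R R' g ^ n * x = algebraMap R R' r)
  set N := S.sup n + 1
  have hex : ∀ x : R', ∃ y, Rel g D N x y := by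
    intro x
    have hx : x ∈ Algebra.adjoin R (S : Set R') := hS ▸ Algebra.mem_top
    induction hx using Algebra.adjoin_induction with
    | mem x hx =>
      refine ⟨algebraMap R R' (g ^ (N - n x - 1) * (g * D (r x) - n x * D g * r x)), n x, r x, hr x, ?_⟩
      have hN : n x + 1 ≤ N := Nat.succ_le_succ (Finset.le_sup hx)
      rw [← map_pow, ← map_mul]
      congr 1
      rw [← mul_assoc, ← pow_add, show n x + 1 + (N - n x - 1) = N by omega]; ring
    | algebraMap a => exact ⟨_, rel_algebraMap a⟩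
    | add a b _ _ ha hb => obtain ⟨y, hy⟩ := ha; obtain ⟨z, hz⟩ := hb; exact ⟨_, rel_add hy hz⟩
    | mul a b _ _ ha hb => obtain ⟨y, hy⟩ := ha; obtain ⟨z, hz⟩ := hb; exact ⟨_, rel_mul hg hy hz⟩
  choose F hF using hex
  let L : R' →+ R' := AddMonoidHom.mk' F fun a b => rel_unique hinj hg (hF _) (rel_add (hF a) (hF b))
  refine ⟨N, Derivation.mk' L.toIntLinearMap fun a b => ?_, fun a => rel_unique hinj hg (hF _) (rel_algebraMap a)⟩
  exact rel_unique hinj hg (hF _) (rel_mul hg (hF a) (hF b))

end Groth.Agent.S2133
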