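import Groth.Statements.S2134
import Mathlib

set_option autoImplicit false
set_option linter.style.haveILetI false
set_option linter.style.longLine false
universe u
open CAlg

namespace Groth.Agent.S2134

theorem proj_mem {k K : Type u} [Field k] [Field K] [Algebra k K] (F : IntermediateField k K) {n : ℕ}
    (V : Submodule K (Fin n → K)) (φ : K →ₗ[F] F) {w : Fin n → K}
    (hw : w ∈ Submodule.span K {v | v ∈ V ∧ ∀ i, v i ∈ F}) :
    (fun i => ((φ (w i) : F) : K)) ∈ Submodule.span K {v | v ∈ V ∧ ∀ i, v i ∈ F} := by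
  suffices ∀ c : K, (fun i => ((φ (c * w i) : F) : K)) ∈ Submodule.span K {v | v ∈ V ∧ ∀ i, v i ∈ F} by
    simpa using this 1
  induction hw using Submodule.span_induction with
  | mem u hu =>
    intro c
    have : (fun i => ((φ (c * u i) : F) : K)) = ((φ c : F) : K) • u := by
      funext i
      have e : c * u i = (⟨u i, hu.2 i⟩ : F) • c := mul_comm _ _
      rw [e, map_smul]
      simp [mul_comm]
    rw [this]
    exact Submodule.smul_mem _ _ (Submodule.subset_span hu)
  | zero =>
    intro c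
    convert Submodule.zero_mem _ using 1
    funext i; simp
  | add a b _ _ ha hb =>
    intro c
    convert Submodule.add_mem _ (ha c) (hb c) using 1
    funext i; simp [mul_add]
  | smul d a _ ha =>
    intro c
    convert ha (c * d) using 1
    funext i; simp [mul_assoc]

/-- Let `K/k` be a field extension and `(K_α)` a nonempty family of intermediate fields, directed
downwards, with intersection `k`. For a `K`-subspace `V` of `K^n` (`n ≥ 1`), `V` contains a nonzero
vector with all coordinates in `k` if and only if for every `α` it contains a nonzero vector with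
all coordinates in `K_α`. -/
theorem result {k K : Type u} [Field k] [Field K] [Algebra k K] {ι : Type u} [Nonempty ι]
    (F : ι → IntermediateField k K) (hdir : ∀ a b : ι, ∃ c, F c ≤ F a ⊓ F b) (hinf : ⨅ a, F a = ⊥) (n : ℕ) (hn : 1 ≤ n)
    (V : Submodule K (Fin n → K)) :
    (∃ v ∈ V, v ≠ 0 ∧ ∀ i, v i ∈ Set.range (algebraMap k K)) ↔
      ∀ a, ∃ v ∈ V, v ≠ 0 ∧ ∀ i, v i ∈ F a := by
  classical
  constructor
  · rintro ⟨v, hv, hv0, hr⟩ a
    exact ⟨v, hv, hv0, fun i => by obtain ⟨c, hc⟩ := hr i; rw [← hc]; exact (F a).algebraMap_mem c⟩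
  intro h
  let S : ι → Submodule K (Fin n → K) := fun a => Submodule.span K {v | v ∈ V ∧ ∀ i, v i ∈ F a}
  have hmono : ∀ a b, F a ≤ F b → S a ≤ S b := fun a b hab =>
    Submodule.span_mono fun v hv => ⟨hv.1, fun i => hab (hv.2 i)⟩
  obtain ⟨a0, ha0⟩ : ∃ a0, ∀ b, Module.finrank K (S a0) ≤ Module.finrank K (S b) :=
    ⟨_, fun b => Function.argmin_le (fun a => Module.finrank K (S a)) b⟩
  have hstab : ∀ c, F c ≤ F a0 → S c = S a0 := fun c hc =>
    Submodule.eq_of_le_of_finrank_le (hmono c a0 hc) (ha0 c)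
  let supp : (Fin n → K) → Finset (Fin n) := fun v => Finset.univ.filter fun i => v i ≠ 0
  obtain ⟨v0, hv0V, hv00, hv0F⟩ := h a0
  have hne : ({v | v ∈ S a0 ∧ v ≠ 0} : Set (Fin n → K)).Nonempty :=
    ⟨v0, (Submodule.subset_span (show v0 ∈ {v | v ∈ V ∧ ∀ i, v i ∈ F a0} from ⟨hv0V, hv0F⟩) : v0 ∈ S a0), hv00⟩
  let w0 := Function.argminOn (fun v => (supp v).card) _ hne
  obtain ⟨hw0S, hw00⟩ := Function.argminOn_mem (fun v => (supp v).card) _ hne
  have hw0min : ∀ v ∈ S a0, v ≠ 0 → (supp w0).card ≤ (supp v).card := fun v hv hv' =>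
    Function.argminOn_le (fun v => (supp v).card) {v | v ∈ S a0 ∧ v ≠ 0} (a := v) (show v ∈ {v | v ∈ S a0 ∧ v ≠ 0} from ⟨hv, hv'⟩)
  obtain ⟨j, hj⟩ : ∃ j, w0 j ≠ 0 := Function.ne_iff.1 hw00
  let w := (w0 j)⁻¹ • w0
  have hwS : w ∈ S a0 := Submodule.smul_mem _ _ hw0S
  have hwV : w ∈ V := Submodule.span_le.2 (fun v hv => hv.1) hwS
  have hwj : w j = 1 := inv_mul_cancel₀ hj
  have key : ∀ c, F c ≤ F a0 → ∀ i, w i ∈ F c := by
    intro c hc
    obtain ⟨φ, hφ⟩ := LinearMap.exists_leftInverse_of_injective (Algebra.linearMap (F c) K)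
      (LinearMap.ker_eq_bot.2 (algebraMap (F c) K).injective)
    have hφ1 : φ 1 = 1 := by simpa using LinearMap.congr_fun hφ 1
    let w' : Fin n → K := fun i => ((φ (w i) : F c) : K)
    have hw' : w' ∈ S a0 := hmono c a0 hc (proj_mem (F c) V φ (by rw [← hstab c hc] at hwS; exact hwS))
    have hz : w - w' = 0 := by
      by_contra hz
      have hsub : supp (w - w') ⊂ supp w0 := by
        rw [Finset.ssubset_iff_of_subset]
        · exact ⟨j, by simp [supp, hj], by simp [supp, w', hwj, hφ1]⟩
        · intro i hi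
          simp only [supp, Finset.mem_filter, Finset.mem_univ, true_and] at hi ⊢
          intro h0
          apply hi
          simp [w', w, h0]
      exact (Finset.card_lt_card hsub).not_ge (hw0min _ (Submodule.sub_mem _ hwS hw') hz)
    intro i
    rw [sub_eq_zero.1 hz]
    exact (φ (w i)).2
  refine ⟨w, hwV, fun h0 => one_ne_zero (hwj.symm.trans (congrFun h0 j)), fun i => ?_⟩
  rw [← IntermediateField.mem_bot, ← hinf]
  suffices ∀ a, w i ∈ F a by
    simpa [← SetLike.mem_coe, IntermediateField.coe_iInf] using this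
  intro a
  obtain ⟨c, hc⟩ := hdir a a0
  exact (hc.trans inf_le_left) (key c (hc.trans inf_le_right) i)

end Groth.Agent.S2134
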