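import Groth.Statements.S2136
import Groth.Agent.FlatMor66.UnibranchEtale
import Groth.Agent.Ega11.UnibranchPoints
open CategoryTheory AlgebraicGeometry

set_option autoImplicit false
universe u
open CAlg

namespace Groth.Agent.S2136

/-- Let `A` be a domain, `A → B` a ring map of finite type, and `𝔮` a prime of `B` lying over `𝔭 ⊆ A`,
with `A_𝔭` geometrically unibranch, `A → B` unramified at `𝔮` and `A_𝔭 → B_𝔮` injective. Then `B_g`
is étale over `A` for some `g ∉ 𝔮`. (`B` is assumed of finite type over `A` throughout; the
published statement needs this only after inverting an element outside `𝔮`.) -/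
theorem result {A B : Type u} [CommRing A] [IsDomain A] [CommRing B]
    [Algebra A B] (q : Ideal B) [q.IsPrime] (p : Ideal A) [p.IsPrime] [q.LiesOver p]
    (hA : CAlg2.IsGeomUnibranch (Localization.AtPrime p)) [Algebra.FiniteType A B] [Algebra.IsUnramifiedAt A q]
    (hinj : Function.Injective (Localization.localRingHom p q (algebraMap A B) (q.over_def p))) :
    ∃ g : B, g ∉ q ∧ Algebra.Etale A (Localization.Away g) := by
  let φ : CommRingCat.of A ⟶ CommRingCat.of B := CommRingCat.ofHom (algebraMap A B)
  let f := Spec.map φ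
  let x : Spec (CommRingCat.of B) := ⟨q, inferInstance⟩
  have : LocallyOfFiniteType f := by
    rw [HasRingHomProperty.Spec_iff (P := @LocallyOfFiniteType)]
    exact RingHom.finiteType_algebraMap.mpr inferInstance
  let y : Spec (CommRingCat.of A) := ⟨p, inferInstance⟩
  have hfx : f x = y := PrimeSpectrum.ext (q.over_def p).symm
  have hY : CAlg2.IsGeomUnibranch ((Spec (CommRingCat.of A)).presheaf.stalk (f x)) := by
    rw [hfx]
    exact Ega11.UnibranchPoints.isGeomUnibranch_of_ringEquiv (R' := (Spec (CommRingCat.of A)).presheaf.stalk y)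
      (Spec.stalkIso (CommRingCat.of A) y).symm.commRingCatIsoToRingEquiv hA
  have hinj' : Function.Injective (algebraMap A (Localization.AtPrime q)) := by
    have h := hinj.comp (IsLocalization.injective (Localization.AtPrime p) p.primeCompl_le_nonZeroDivisors)
    convert h using 1
    funext a
    simp [Localization.localRingHom_to_map, ← IsScalarTower.algebraMap_apply]
  obtain ⟨P, hP, hPA⟩ := Ideal.exists_minimalPrimes_comap_eq (I := (⊥ : Ideal (Localization.AtPrime q)))
    (algebraMap A (Localization.AtPrime q)) ⊥ (by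
      rw [← RingHom.ker_eq_comap_bot, (RingHom.injective_iff_ker_eq_bot _).mp hinj']
      exact ⟨⟨Ideal.isPrime_bot, le_rfl⟩, fun _ h _ => bot_le⟩)
  have := hP.1.1
  have hsp : ∃ x' : Spec (CommRingCat.of B), x' ⤳ x ∧ f x' = genericPoint ↑(Spec (CommRingCat.of A)) := by
    refine ⟨⟨P.comap (algebraMap B (Localization.AtPrime q)), inferInstance⟩, ?_, ?_⟩
    · refine (PrimeSpectrum.le_iff_specializes _ _).mp ?_
      exact ((IsLocalization.AtPrime.orderIsoOfPrime (Localization.AtPrime q) q) ⟨P, inferInstance⟩).2.2
    · rw [genericPoint_eq_bot_of_affine]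
      refine PrimeSpectrum.ext ?_
      change (P.comap (algebraMap B (Localization.AtPrime q))).comap (algebraMap A B) = ⊥
      rw [Ideal.comap_comap, ← IsScalarTower.algebraMap_eq, hPA]
  obtain ⟨_, ⟨g, rfl⟩, hqg, hg⟩ := PrimeSpectrum.isTopologicalBasis_basic_opens.exists_subset_of_mem_open
    (show (⟨q, inferInstance⟩ : PrimeSpectrum B) ∈ Algebra.unramifiedLocus A B from ‹Algebra.IsUnramifiedAt A q›)
    Algebra.isOpen_unramifiedLocus
  rw [Algebra.basicOpen_subset_unramifiedLocus_iff] at hg
  have key : ∀ h : B, Spec.map (CommRingCat.ofHom (algebraMap A (Localization.Away h))) =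
      Spec.map (CommRingCat.ofHom (algebraMap B (Localization.Away h))) ≫ f := fun h => by
    rw [← Spec.map_comp, ← CommRingCat.ofHom_comp, ← IsScalarTower.algebraMap_eq]
  have hrange : ∀ h : B, Set.range (Spec.map (CommRingCat.ofHom (algebraMap B (Localization.Away h)))) =
      (PrimeSpectrum.basicOpen h : Set (PrimeSpectrum B)) :=
    fun h => PrimeSpectrum.localization_away_comap_range _ h
  have hunr : ∃ U : (Spec (CommRingCat.of B)).Opens, x ∈ U ∧ FormallyUnramified (U.ι ≫ f) := by
    let j := Spec.map (CommRingCat.ofHom (algebraMap B (Localization.Away g)))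
    refine ⟨j.opensRange, ?_, ?_⟩
    · show x ∈ Set.range j
      rw [hrange]; exact hqg
    · have hj : FormallyUnramified (j ≫ f) := by
        rw [← key, HasRingHomProperty.Spec_iff (P := @FormallyUnramified)]
        exact RingHom.formallyUnramified_algebraMap.mpr hg
      have e : j.opensRange.ι ≫ f = j.isoOpensRange.inv ≫ j ≫ f := by
        rw [← Scheme.Hom.isoOpensRange_inv_comp j, Category.assoc]
      rw [e]
      exact MorphismProperty.comp_mem _ _ _ inferInstance hj
  obtain ⟨U, hxU, hU⟩ := FlatMor66.exists_etale_of_unramified f x hY hsp hunr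
  obtain ⟨_, ⟨h, rfl⟩, hqh, hh⟩ := PrimeSpectrum.isTopologicalBasis_basic_opens.exists_subset_of_mem_open
    (show (⟨q, inferInstance⟩ : PrimeSpectrum B) ∈ (U.1 : Set (PrimeSpectrum B)) from hxU) U.2
  refine ⟨h, hqh, ?_⟩
  have : IsOpenImmersion (Spec.map (CommRingCat.ofHom (algebraMap B (Localization.Away h)))) := inferInstance
  let l := IsOpenImmersion.lift U.ι (Spec.map (CommRingCat.ofHom (algebraMap B (Localization.Away h))))
    (by rw [hrange, Scheme.Opens.range_ι]; exact hh)
  have he : AlgebraicGeometry.Etale (Spec.map (CommRingCat.ofHom (algebraMap A (Localization.Away h)))) := by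
    rw [key, ← IsOpenImmersion.lift_fac U.ι (Spec.map (CommRingCat.ofHom (algebraMap B (Localization.Away h)))) (by rw [hrange, Scheme.Opens.range_ι]; exact hh), Category.assoc]
    have : IsOpenImmersion (l ≫ U.ι) := by rw [IsOpenImmersion.lift_fac]; infer_instance
    have : IsOpenImmersion l := IsOpenImmersion.of_comp l U.ι
    exact MorphismProperty.comp_mem _ l (U.ι ≫ f) inferInstance hU
  rw [HasRingHomProperty.Spec_iff (P := @AlgebraicGeometry.Etale)] at he
  exact RingHom.etale_algebraMap.mp he

end Groth.Agent.S2136
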