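import Groth.Statements.S2137
import Mathlib
import Groth.Agent.DR39.PC2
import Groth.Agent.DR39.TA
import Groth.Agent.DR39.Resolution
import Groth.Agent.DR39.Derived
import Groth.Agent.DR39.ExactFun

set_option autoImplicit false
set_option linter.style.haveILetI false
set_option linter.style.longLine false
universe u
open CategoryTheory
attribute [local instance] HasDerivedCategory.standard
open CAlg

namespace Groth.Agent.S2137


open CategoryTheory CategoryTheory.Limits CategoryTheory.Pretriangulated
attribute [local instance] HasDerivedCategory.standard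
open Groth.Agent.DR39

/-- Let `A → B` be a ring map and `K` an `m`-pseudo-coherent object of `D(A)`. Then `K ⊗^L_A B` is
`m`-pseudo-coherent in `D(B)`. (Stated assuming the total left derived functor of base change exists
on `D(A)`, a fact not available as a library result here.) -/
theorem result {A B : Type u} [CommRing A] [CommRing B] (φ : A →+* B) [DRing.HasLBaseChange φ]
    (K : Dual.D A) (m : ℤ) (hK : DRing.IsPseudoCoherent A m K) :
    DRing.IsPseudoCoherent B m ((DRing.LBaseChange φ).obj K) := by
  obtain ⟨b₀, hb₀⟩ := acyc_of_pc hK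
  obtain ⟨P, hPv, hP, ⟨eP⟩⟩ := rep_free_of_acyc (b := b₀) (hb₀.mono (by omega))
  obtain ⟨E, a, b, α, hEv, hEff, hα1, hα2⟩ := hK
  have hEv' := fun i hi => hEv i (Or.inr hi)
  haveI := isKProjective_of_bddAbove E b hEv' fun i => proj_of_FF (hEff i)
  obtain ⟨f, hf⟩ := Q_map_surjective E P (α ≫ eP.inv)
  have hf' : Approx m ((QA A).map f) := by
    have h0 : Approx m α := ⟨hα1, hα2⟩
    rw [show (QA A).map f = α ≫ eP.inv from hf]
    exact h0.comp (Approx.of_isIso m _)
  let C := CochainComplex.mappingCone f
  have hC : Acyc m ((QA A).obj C) :=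
    (approx_iff_acyc _ (DerivedCategory.mappingCone_triangle_distinguished f) m).1 hf'
  obtain ⟨G, hGv, hG, ⟨eG⟩⟩ := rep_free_of_acyc (b := m - 1) (hC.mono (by omega))
  have hGk : DRing.IsKFlat A G := isKFlat_of_rep (fun _ => flat_of_FR) hGv hG
  have hCk : DRing.IsKFlat A C := by
    refine isKFlat_of_flat (max b b₀) (fun i hi => ?_) (fun i => ?_)
    · refine IsZero.of_iso ?_ (HomologicalComplex.homotopyCofiber.XIsoBiprod f i (i + 1) rfl)
      exact (biprod_isZero_iff _ _).2 ⟨hEv' _ (by omega),
        hPv _ fun h => absurd (Set.mem_Iic.1 h) (by omega)⟩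
    · exact isModClass_FL.of_iso ((ModuleCat.biprodIsoProd _ _).symm ≪≫
        (HomologicalComplex.homotopyCofiber.XIsoBiprod f i (i + 1) rfl).symm)
        (isModClass_FL.prod _ _ (haveI := (hEff (i+1)).2; Module.Flat.of_free) (flat_of_FR (hP i)))
  let F := ModuleCat.extendScalars.{u, u, u} φ
  let fB := (F.mapHomologicalComplex (ComplexShape.up ℤ)).map f
  have hCB : Acyc m ((QA B).obj (CochainComplex.mappingCone fB)) := by
    intro i hi
    have hG0 : IsZero ((HF B i).obj ((QA B).obj ((F.mapHomologicalComplex (ComplexShape.up ℤ)).obj G))) := by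
      refine (isZero_HF_Q_iff _ i).2 ?_
      exact (HomologicalComplex.ExactAt.isZero_homology (ShortComplex.exact_of_isZero_X₂ _
        (F.map_isZero (hGv i fun h => absurd (Set.mem_Iic.1 h) (by omega)))))
    refine hG0.of_iso ((HF B i).mapIso ?_)
    exact (QA B).mapIso (CochainComplex.mappingCone.mapHomologicalComplexIso f F).symm ≪≫
      (LBaseChangeIso φ C hCk).symm ≪≫ (DRing.LBaseChange φ).mapIso eG.symm ≪≫ LBaseChangeIso φ G hGk
  have hfB : Approx m ((QA B).map fB) :=
    (approx_iff_acyc _ (DerivedCategory.mappingCone_triangle_distinguished fB) m).2 hCB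
  have hPk : DRing.IsKFlat A P := isKFlat_of_rep (fun _ => flat_of_FR) hPv hP
  let eB := (LBaseChangeIso φ P hPk).symm ≪≫ (DRing.LBaseChange φ).mapIso eP
  refine (pc_iff m _).2 ⟨_, (QA B).map fB ≫ eB.hom,
    ⟨a, b, _, fun i hi => F.map_isZero ((vanishesOutside_iff E a b).1 hEv i hi), fun i => ?_, ⟨Iso.refl _⟩⟩,
    hfB.comp (Approx.of_isIso m _)⟩
  letI := φ.toAlgebra
  haveI := (hEff i).1
  haveI := (hEff i).2
  exact ⟨(inferInstance : Module.Finite B (TensorProduct A B (E.X i))),
    (inferInstance : Module.Free B (TensorProduct A B (E.X i)))⟩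

end Groth.Agent.S2137
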