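import Groth.Statements.S2138
import Mathlib

set_option autoImplicit false
set_option linter.style.haveILetI false
set_option linter.style.longLine false
universe u
open CAlg

namespace Groth.Agent.S2138

open scoped TensorProduct nonZeroDivisors

theorem inj_lTensor_of_torsionFree {R : Type u} [CommRing R] {S : Type u} [CommRing S] [Algebra R S] [Module.Flat R S]
    (p : Ideal R) [p.IsPrime] [(p.map (algebraMap R S)).IsPrime] (t : S) (ht : t ∉ p.map (algebraMap R S))
    (M : Type u) [AddCommGroup M] [Module R M] [Module (R ⧸ p) M] [IsScalarTower R (R ⧸ p) M]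
    (htf : ∀ (d : R ⧸ p) (m : M), d ≠ 0 → d • m = 0 → m = 0) :
    Function.Injective (LinearMap.lTensor M (LinearMap.mulLeft R t)) := by
  let K := FractionRing (R ⧸ p)
  letI V := K ⊗[R ⧸ p] M
  let i : M →ₗ[R ⧸ p] V := TensorProduct.mk (R ⧸ p) K M 1
  haveI : IsLocalizedModule (R ⧸ p)⁰ i :=
    (isLocalizedModule_iff_isBaseChange (R ⧸ p)⁰ K i).2 (TensorProduct.isBaseChange _ _ _)
  have hi : Function.Injective i := by
    rw [injective_iff_map_eq_zero]
    intro m hm
    obtain ⟨⟨c, hc⟩, h⟩ := (IsLocalizedModule.eq_zero_iff (R ⧸ p)⁰ i).1 hm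
    exact htf c m (nonZeroDivisors.ne_zero hc) h
  haveI : Module.Flat (R ⧸ p) V := Module.Flat.trans (R ⧸ p) K V
  -- multiplication by `t` on `(R/p) ⊗ S`
  let τ : (R ⧸ p) ⊗[R] S →ₗ[R ⧸ p] (R ⧸ p) ⊗[R] S := LinearMap.baseChange (R ⧸ p) (LinearMap.mulLeft R t)
  have hτ : Function.Injective τ := by
    let e := TensorProduct.quotTensorEquivQuotSMul S p
    have hnat : ∀ z, e (τ z) = (Submodule.mapQ _ _ (LinearMap.mulLeft R t) (fun x hx => by
        rw [Submodule.mem_comap]
        rw [Ideal.smul_top_eq_map] at hx ⊢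
        exact Ideal.mul_mem_left _ _ hx)) (e z) := by
      intro z
      induction z with
      | zero => simp
      | tmul c s =>
        obtain ⟨c, rfl⟩ := Ideal.Quotient.mk_surjective c
        simp [τ, e, TensorProduct.quotTensorEquivQuotSMul_mk_tmul, mul_smul_comm]
      | add a b ha hb => simp [ha, hb]
    rw [injective_iff_map_eq_zero]
    intro z hz
    have h := hnat z
    rw [hz, map_zero] at h
    obtain ⟨s, hs⟩ := Submodule.Quotient.mk_surjective _ (e z)
    rw [← hs, Submodule.mapQ_apply, eq_comm, Submodule.Quotient.mk_eq_zero, Ideal.smul_top_eq_map] at h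
    refine e.injective ?_
    rw [map_zero, ← hs, Submodule.Quotient.mk_eq_zero, Ideal.smul_top_eq_map]
    exact (Ideal.IsPrime.mem_or_mem inferInstance (show t * s ∈ p.map (algebraMap R S) from h)).resolve_left ht
  -- transfer to `V ⊗ S`
  have hV : Function.Injective (LinearMap.lTensor V (LinearMap.mulLeft R t)) := by
    let c := TensorProduct.AlgebraTensorModule.cancelBaseChange R (R ⧸ p) (R ⧸ p) V S
    have : ∀ z, c (LinearMap.lTensor V τ z) = LinearMap.lTensor V (LinearMap.mulLeft R t) (c z) := by
      intro z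
      induction z with
      | zero => simp
      | tmul v w =>
        induction w with
        | zero => simp
        | tmul d s => simp [c, τ]
        | add a b ha hb => simp only [TensorProduct.tmul_add, map_add, ha, hb]
      | add a b ha hb => simp [ha, hb]
    intro a b hab
    obtain ⟨a, rfl⟩ := c.surjective a
    obtain ⟨b, rfl⟩ := c.surjective b
    rw [← this, ← this] at hab
    rw [Module.Flat.lTensor_preserves_injective_linearMap τ hτ (c.injective hab)]
  have hiS : Function.Injective (LinearMap.rTensor S (i.restrictScalars R)) :=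
    Module.Flat.rTensor_preserves_injective_linearMap _ hi
  intro a b hab
  refine hiS (hV ?_)
  rw [← LinearMap.comp_apply, ← LinearMap.comp_apply, LinearMap.lTensor_comp_rTensor,
    ← LinearMap.rTensor_comp_lTensor, LinearMap.comp_apply, LinearMap.comp_apply, hab]

variable {R : Type u} [CommRing R] {S : Type u} [CommRing S] [Algebra R S]

noncomputable def mu (I : Ideal R) : I ⊗[R] S →ₗ[R] S :=
  TensorProduct.lift ((LinearMap.lsmul R S).comp I.subtype)

theorem mu_tmul (I : Ideal R) (a : I) (s : S) : mu I (a ⊗ₜ s) = (a : R) • s := rfl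

theorem mu_injective [Module.Flat R S] (I : Ideal R) : Function.Injective (mu (S := S) I) := by
  have : mu (S := S) I = (TensorProduct.lid R S).toLinearMap ∘ₗ LinearMap.rTensor S I.subtype :=
    TensorProduct.ext' fun a s => by simp [mu_tmul]
  rw [this, LinearMap.coe_comp]
  exact (TensorProduct.lid R S).injective.comp
    (Module.Flat.rTensor_preserves_injective_linearMap _ I.injective_subtype)

theorem range_mu (I : Ideal R) : LinearMap.range (mu (S := S) I) = (I.map (algebraMap R S)).restrictScalars R := by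
  refine le_antisymm ?_ ?_
  · rintro _ ⟨z, rfl⟩
    induction z with
    | zero => simp
    | tmul a s =>
      rw [mu_tmul, Algebra.smul_def]
      exact Ideal.mul_mem_right _ _ (Ideal.mem_map_of_mem _ a.2)
    | add a b ha hb => rw [map_add]; exact add_mem ha hb
  · rw [← Ideal.smul_top_eq_map, Submodule.smul_le]
    exact fun a ha s _ => ⟨⟨a, ha⟩ ⊗ₜ s, rfl⟩

/-- the symbolic power -/
noncomputable def sym (p : Ideal R) [p.IsPrime] (n : ℕ) : Ideal R :=
  ((p ^ n).map (algebraMap R (Localization.AtPrime p))).comap (algebraMap R (Localization.AtPrime p))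

theorem mem_sym {p : Ideal R} [p.IsPrime] {n : ℕ} {x : R} : x ∈ sym p n ↔ ∃ s, s ∉ p ∧ s * x ∈ p ^ n := by
  rw [sym, Ideal.mem_comap, IsLocalization.algebraMap_mem_map_algebraMap_iff p.primeCompl]
  simp [Ideal.mem_primeCompl_iff]

theorem pow_le_sym (p : Ideal R) [p.IsPrime] (n : ℕ) : p ^ n ≤ sym p n := Ideal.le_comap_map

theorem sym_succ_le (p : Ideal R) [p.IsPrime] (k : ℕ) : sym p (k + 1) ≤ sym p k := fun x hx => by
  obtain ⟨s, hs, h⟩ := mem_sym.1 hx
  exact mem_sym.2 ⟨s, hs, Ideal.pow_le_pow_right (Nat.le_succ k) h⟩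

theorem smul_mem_sym (p : Ideal R) [p.IsPrime] (k : ℕ) {a x : R} (ha : a ∈ p) (hx : x ∈ sym p k) :
    a * x ∈ sym p (k + 1) := by
  obtain ⟨s, hs, h⟩ := mem_sym.1 hx
  exact mem_sym.2 ⟨s, hs, by rw [mul_left_comm, pow_succ']; exact Ideal.mul_mem_mul ha h⟩

theorem sat [Module.Flat R S] (p : Ideal R) [p.IsPrime] [(p.map (algebraMap R S)).IsPrime] (t : S)
    (ht : t ∉ p.map (algebraMap R S)) :
    ∀ (k : ℕ) (x : S), t * x ∈ (sym p k).map (algebraMap R S) → x ∈ (sym p k).map (algebraMap R S) := by
  intro k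
  induction k with
  | zero =>
    intro x _
    rw [show sym p 0 = ⊤ from top_unique (by simpa using pow_le_sym p 0), Ideal.map_top]
    trivial
  | succ k ih =>
    intro x hx
    have hxk : x ∈ (sym p k).map (algebraMap R S) := ih x (Ideal.map_mono (sym_succ_le p k) hx)
    let I := sym p k
    let ι : sym p (k + 1) →ₗ[R] I := Submodule.inclusion (sym_succ_le p k)
    let M := I ⧸ LinearMap.range ι
    have htors : Module.IsTorsionBySet R M (p : Set R) := by
      rintro m ⟨a, ha⟩
      obtain ⟨y, rfl⟩ := Submodule.Quotient.mk_surjective _ m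
      show Submodule.Quotient.mk (a • y) = 0
      rw [Submodule.Quotient.mk_eq_zero]
      exact ⟨⟨a * y, smul_mem_sym p k ha y.2⟩, rfl⟩
    letI : Module (R ⧸ p) M := htors.module
    haveI : IsScalarTower R (R ⧸ p) M := htors.isScalarTower
    have hinj := inj_lTensor_of_torsionFree p t ht M (by
      intro d m hd hdm
      obtain ⟨d, rfl⟩ := Ideal.Quotient.mk_surjective d
      obtain ⟨y, rfl⟩ := Submodule.Quotient.mk_surjective _ m
      rw [htors.mk_smul, ← Submodule.Quotient.mk_smul, Submodule.Quotient.mk_eq_zero] at hdm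
      obtain ⟨⟨z, hz⟩, hzy⟩ := hdm
      obtain ⟨s, hs, h⟩ := mem_sym.1 hz
      rw [Submodule.Quotient.mk_eq_zero]
      refine ⟨⟨y, mem_sym.2 ⟨s * d, fun h' => hd (Ideal.Quotient.eq_zero_iff_mem.2 ((Ideal.IsPrime.mem_or_mem inferInstance h').resolve_left hs)), ?_⟩⟩, rfl⟩
      have : z = d * y := congrArg Subtype.val hzy
      rwa [mul_assoc, ← this])
    obtain ⟨y, hy⟩ := (range_mu (S := S) I).ge hxk
    obtain ⟨z, hz⟩ := (range_mu (S := S) (sym p (k + 1))).ge hx
    have hnat : ∀ z, mu (S := S) I (LinearMap.rTensor S ι z) = mu (sym p (k + 1)) z :=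
      fun z => by induction z with
        | zero => simp
        | tmul a s => rfl
        | add a b ha hb => simp [ha, hb]
    have hty : LinearMap.lTensor I (LinearMap.mulLeft R t) y = LinearMap.rTensor S ι z := by
      refine mu_injective I ?_
      rw [hnat, hz, ← hy]
      clear hy
      induction y with
      | zero => simp
      | tmul a s => simp [mu_tmul, mul_smul_comm]
      | add a b ha hb => simp only [map_add, ha, hb, mul_add]
    have hex := rTensor_exact S (LinearMap.exact_map_mkQ_range ι) (Submodule.mkQ_surjective _)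
    have h0 : LinearMap.rTensor S (LinearMap.range ι).mkQ y = 0 := by
      refine hinj ?_
      rw [map_zero, ← LinearMap.comp_apply, LinearMap.lTensor_comp_rTensor, ← LinearMap.rTensor_comp_lTensor,
        LinearMap.comp_apply, hty]
      exact (hex _).2 ⟨z, rfl⟩
    obtain ⟨w, hw⟩ := (hex y).1 h0
    exact (range_mu (S := S) (sym p (k + 1))).le ⟨w, by rw [← hnat, hw, hy]⟩

/-- Let `R → S` be flat and `𝔭` a prime of `R` whose extension `𝔮 = 𝔭S` is prime. Then for every `n` the
extension to `S` of the symbolic power `𝔭^{(n)}` (the contraction of `𝔭ⁿR_𝔭`) equals the symbolic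
power `𝔮^{(n)}`. -/
theorem result {R S : Type u} [CommRing R] [CommRing S] [Algebra R S] [Module.Flat R S]
    (p : Ideal R) [p.IsPrime] [(p.map (algebraMap R S)).IsPrime] (n : ℕ) :
    (((p ^ n).map (algebraMap R (Localization.AtPrime p))).comap (algebraMap R (Localization.AtPrime p))).map
        (algebraMap R S) =
      (((p.map (algebraMap R S)) ^ n).map (algebraMap S (Localization.AtPrime (p.map (algebraMap R S))))).comap
        (algebraMap S (Localization.AtPrime (p.map (algebraMap R S)))) := by
  show (sym p n).map (algebraMap R S) = sym (p.map (algebraMap R S)) n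
  apply le_antisymm
  · rw [Ideal.map_le_iff_le_comap]
    intro x hx
    obtain ⟨s, hs, h⟩ := mem_sym.1 hx
    refine Ideal.mem_comap.2 (mem_sym.2 ⟨algebraMap R S s, ?_, by rw [← map_mul, ← Ideal.map_pow]; exact Ideal.mem_map_of_mem _ h⟩)
    intro hs'
    let q := p.map (algebraMap R S)
    have hflat : Function.Injective (mu (S := S) (⊤ : Ideal R)) := mu_injective _
    haveI : Module.Flat (R ⧸ p) (TensorProduct R (R ⧸ p) S) := inferInstance
    let m : (R ⧸ p) →ₗ[R ⧸ p] (R ⧸ p) := LinearMap.mulLeft (R ⧸ p) (Ideal.Quotient.mk p s)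
    have hm : Function.Injective m :=
      mul_right_injective₀ (fun h => hs (Ideal.Quotient.eq_zero_iff_mem.1 h))
    let e := TensorProduct.quotTensorEquivQuotSMul S p
    have h1 : e ((1 : R ⧸ p) ⊗ₜ algebraMap R S s) = 0 := by
      rw [show (1 : R ⧸ p) = Ideal.Quotient.mk p 1 from rfl, TensorProduct.quotTensorEquivQuotSMul_mk_tmul, one_smul,
        Submodule.Quotient.mk_eq_zero, Ideal.smul_top_eq_map]
      exact hs'
    have h2 : ((1 : R ⧸ p) ⊗ₜ algebraMap R S s : TensorProduct R (R ⧸ p) S) =
        (Ideal.Quotient.mk p s) • ((1 : R ⧸ p) ⊗ₜ (1 : S)) := by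
      rw [Algebra.algebraMap_eq_smul_one, TensorProduct.tmul_smul, TensorProduct.smul_tmul',
        TensorProduct.smul_tmul', smul_eq_mul, mul_one, Algebra.smul_def, mul_one]
      rfl
    rw [h2] at h1
    let T := TensorProduct R (R ⧸ p) S
    have h3 : Function.Injective (LinearMap.lTensor T m) := Module.Flat.lTensor_preserves_injective_linearMap m hm
    have h3' : ((1 : R ⧸ p) ⊗ₜ (1 : S) : T) ⊗ₜ[R ⧸ p] (1 : R ⧸ p) = 0 := h3 (by
      rw [LinearMap.lTensor_tmul, map_zero]
      refine (TensorProduct.rid (R ⧸ p) T).injective ?_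
      rw [map_zero, TensorProduct.rid_tmul]
      simp only [m, LinearMap.mulLeft_apply, mul_one]
      exact e.injective (h1.trans (map_zero e).symm))
    have h4 : ((1 : R ⧸ p) ⊗ₜ (1 : S) : T) = 0 := by
      have := congrArg (TensorProduct.rid (R ⧸ p) T) h3'
      rwa [TensorProduct.rid_tmul, one_smul, map_zero] at this
    have h5 := congrArg e h4
    rw [show (1 : R ⧸ p) = Ideal.Quotient.mk p 1 from rfl, TensorProduct.quotTensorEquivQuotSMul_mk_tmul, one_smul,
      map_zero, Submodule.Quotient.mk_eq_zero, Ideal.smul_top_eq_map] at h5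
    exact Ideal.IsPrime.ne_top inferInstance ((Ideal.eq_top_iff_one _).2 h5)
  · intro x hx
    obtain ⟨t, ht, h⟩ := mem_sym.1 hx
    refine sat p t ht n x ?_
    rw [← Ideal.map_pow] at h
    exact Ideal.map_mono (pow_le_sym p n) h

end Groth.Agent.S2138
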