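import Groth.Statements.S2140
import Mathlib

set_option autoImplicit false
set_option linter.style.haveILetI false
set_option linter.style.longLine false
universe u
open CAlg

namespace Groth.Agent.S2140

open Polynomial

theorem step {R L B : Type u} [CommRing R] [Field L] [Algebra R L] [CommRing B] [Algebra R B]
    [Algebra.FinitePresentation R B] (i : B →ₐ[R] L) (hi : Function.Injective i) (x : L) :
    ∃ (B' : Type u) (_ : CommRing B') (_ : Algebra R B') (_ : Algebra.FinitePresentation R B') (i' : B' →ₐ[R] L),
      Function.Injective i' ∧ x ∈ Set.range i' ∧ Set.range i ⊆ Set.range i' := by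
  classical
  letI := i.toRingHom.toAlgebra
  haveI : IsScalarTower R B L := IsScalarTower.of_algebraMap_eq fun a => (i.commutes a).symm
  haveI : IsDomain B := hi.isDomain i
  haveI : Algebra.FinitePresentation R B[X] := Algebra.FinitePresentation.trans R B B[X]
  by_cases htr : ∀ p : B[X], aeval x p = 0 → p = 0
  · refine ⟨B[X], inferInstance, inferInstance, inferInstance, (aeval x).restrictScalars R,
      (injective_iff_map_eq_zero _).2 htr, ⟨X, aeval_X x⟩, ?_⟩
    rintro _ ⟨b, rfl⟩
    exact ⟨C b, aeval_C x b⟩
  · push Not at htr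
    have hex : ∃ n, ∃ p : B[X], p.natDegree = n ∧ aeval x p = 0 ∧ p ≠ 0 := by
      obtain ⟨p, hp, hp0⟩ := htr; exact ⟨_, p, rfl, hp, hp0⟩
    obtain ⟨p, hpn, hpx, hp0⟩ := Nat.find_spec hex
    set c := p.leadingCoeff
    have hc : c ≠ 0 := leadingCoeff_ne_zero.2 hp0
    let Bc := Localization.Away c
    haveI : IsDomain Bc := IsLocalization.isDomain_localization (powers_le_nonZeroDivisors_of_noZeroDivisors hc)
    haveI : Algebra.FinitePresentation B Bc := IsLocalization.Away.finitePresentation c
    haveI : Algebra.FinitePresentation R Bc := Algebra.FinitePresentation.trans R B Bc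
    let j : Bc →ₐ[R] L := IsLocalization.liftAlgHom (M := Submonoid.powers c) (f := i) (fun y => by
      obtain ⟨_, n, rfl⟩ := y
      exact (pow_ne_zero n (fun h => hc (hi (h.trans (map_zero i).symm))) : i c ^ n ≠ 0).isUnit |> (by simpa using ·))
    have hj : ∀ b, j (algebraMap B Bc b) = i b := fun b => IsLocalization.lift_eq _ b
    have hjinj : Function.Injective j := by
      rw [injective_iff_map_eq_zero]
      intro z hz
      obtain ⟨n, b, hb⟩ := IsLocalization.Away.surj c z
      have : i b = 0 := by rw [← hj, ← hb, map_mul, hz, zero_mul]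
      rw [(injective_iff_map_eq_zero i).1 hi b this, map_zero] at hb
      exact ((IsLocalization.Away.algebraMap_isUnit c).pow n).mul_left_eq_zero.1 hb
    let u := (IsLocalization.Away.algebraMap_isUnit (S := Bc) c).unit
    let q : Bc[X] := C (↑u⁻¹ : Bc) * p.map (algebraMap B Bc)
    have hmapc : (p.map (algebraMap B Bc)).leadingCoeff = algebraMap B Bc c :=
      leadingCoeff_map_of_injective (IsLocalization.injective Bc (powers_le_nonZeroDivisors_of_noZeroDivisors hc)) _
    have hq : q.Monic := by
      rw [Monic, leadingCoeff_mul, leadingCoeff_C, hmapc]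
      exact IsUnit.val_inv_mul _
    have hqd : q.natDegree = p.natDegree := by
      rw [natDegree_C_mul (Units.ne_zero _), natDegree_map_eq_of_injective
        (IsLocalization.injective Bc (powers_le_nonZeroDivisors_of_noZeroDivisors hc))]
    letI := j.toRingHom.toAlgebra
    haveI : IsScalarTower R Bc L := IsScalarTower.of_algebraMap_eq fun a => (j.commutes a).symm
    haveI : IsScalarTower B Bc L := IsScalarTower.of_algebraMap_eq fun a => (hj a).symm
    have hqx : aeval x q = 0 := by rw [map_mul, aeval_map_algebraMap, hpx, mul_zero]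
    have hker : RingHom.ker (aeval x : Bc[X] →ₐ[Bc] L) = Ideal.span {q} := by
      refine le_antisymm (fun g hg => ?_) ((Ideal.span_singleton_le_iff_mem _).2 hqx)
      rw [Ideal.mem_span_singleton, ← modByMonic_eq_zero_iff_dvd hq]
      have hr : aeval x (g %ₘ q) = 0 := by
        rw [modByMonic_eq_sub_mul_div g q, map_sub, map_mul, hqx, zero_mul, sub_zero]; exact hg
      by_contra hr0
      obtain ⟨b, hb⟩ := IsLocalization.integerNormalization_map_to_map (Submonoid.powers c) (g %ₘ q)
      set r := IsLocalization.integerNormalization (Submonoid.powers c) (g %ₘ q)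
      have hrx : aeval x r = 0 :=
        IsLocalization.integerNormalization_aeval_eq_zero (Submonoid.powers c) (g %ₘ q) hr
      have hu : IsUnit (algebraMap B Bc (b : B)) := IsLocalization.map_units Bc b
      have hr_ne : r ≠ 0 := fun h => by
        rw [h, Polynomial.map_zero, Algebra.smul_def, eq_comm, mul_eq_zero, or_iff_left hr0] at hb
        exact hu.ne_zero (C_eq_zero.1 hb)
      have hdeg : r.natDegree = (g %ₘ q).natDegree := by
        rw [← natDegree_map_eq_of_injective (IsLocalization.injective Bc (powers_le_nonZeroDivisors_of_noZeroDivisors hc)) r, hb,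
          Algebra.smul_def]
        exact natDegree_C_mul hu.ne_zero
      have hlt : r.natDegree < p.natDegree := by
        rw [hdeg, ← hqd]
        refine natDegree_modByMonic_lt g hq fun h1 => ?_
        rw [h1, map_one] at hqx
        exact one_ne_zero hqx
      exact Nat.find_min hex (hpn ▸ hlt) ⟨r, rfl, hrx, hr_ne⟩
    haveI : Algebra.FinitePresentation R Bc[X] := Algebra.FinitePresentation.trans R Bc Bc[X]
    haveI : Algebra.FinitePresentation R (Bc[X] ⧸ Ideal.span {q}) :=
      Algebra.FinitePresentation.quotient ⟨{q}, by simp⟩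
    refine ⟨Bc[X] ⧸ Ideal.span {q}, inferInstance, inferInstance, inferInstance,
      (Ideal.Quotient.liftₐ (Ideal.span {q}) (aeval x : Bc[X] →ₐ[Bc] L) (fun a ha => hker.ge ha)).restrictScalars R,
      ?_, ⟨Ideal.Quotient.mk _ X, aeval_X x⟩, ?_⟩
    · rw [injective_iff_map_eq_zero]
      intro a ha
      obtain ⟨a, rfl⟩ := Ideal.Quotient.mk_surjective a
      exact Ideal.Quotient.eq_zero_iff_mem.2 (hker.le ha)
    · rintro _ ⟨b, rfl⟩
      exact ⟨Ideal.Quotient.mk _ (C (algebraMap B Bc b)), (aeval_C x _).trans (hj b)⟩

theorem main {R S : Type u} [CommRing R] [IsDomain R] [CommRing S] [IsDomain S]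
    [Algebra R S] [Algebra.FiniteType R S] (hinj : Function.Injective (algebraMap R S)) :
    ∃ g : S, g ≠ 0 ∧ Algebra.FinitePresentation R (Localization.Away g) := by
  classical
  let L := FractionRing S
  have hSL : Function.Injective (algebraMap S L) := IsFractionRing.injective S L
  obtain ⟨s, hs⟩ := Algebra.FiniteType.out (R := R) (A := S)
  have key : ∀ T : Finset S, ∃ (B : Type u) (_ : CommRing B) (_ : Algebra R B) (_ : Algebra.FinitePresentation R B)
      (i : B →ₐ[R] L), Function.Injective i ∧ ∀ t ∈ T, algebraMap S L t ∈ Set.range i := by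
    intro T
    induction T using Finset.induction with
    | empty =>
      refine ⟨R, inferInstance, inferInstance, inferInstance, Algebra.ofId R L, ?_, by simp⟩
      show Function.Injective (algebraMap R L)
      rw [IsScalarTower.algebraMap_eq R S L]
      exact hSL.comp hinj
    | insert a T _ ih =>
      obtain ⟨B, _, _, _, i, hi, hiT⟩ := ih
      obtain ⟨B', h1, h2, h3, i', hi', hx, hsub⟩ := step i hi (algebraMap S L a)
      refine ⟨B', h1, h2, h3, i', hi', fun t ht => ?_⟩
      rcases Finset.mem_insert.1 ht with rfl | ht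
      · exact hx
      · exact hsub (hiT t ht)
  obtain ⟨B, _, _, _, i, hi, hiT⟩ := key s
  haveI : IsDomain B := hi.isDomain i
  have hle : ∀ t : S, algebraMap S L t ∈ i.range := by
    intro t
    have : (Algebra.adjoin R (s : Set S)).map (IsScalarTower.toAlgHom R S L) ≤ i.range := by
      rw [AlgHom.map_adjoin, Algebra.adjoin_le_iff]
      rintro _ ⟨t, ht, rfl⟩
      exact hiT t ht
    exact this ⟨t, hs ▸ trivial, rfl⟩
  let j : S →ₐ[R] B := (AlgEquiv.ofInjective i hi).symm.toAlgHom.comp
    ((IsScalarTower.toAlgHom R S L).codRestrict i.range hle)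
  have hj : ∀ t, i (j t) = algebraMap S L t := fun t =>
    congrArg Subtype.val ((AlgEquiv.ofInjective i hi).apply_symm_apply ⟨algebraMap S L t, hle t⟩)
  have hjinj : Function.Injective j := fun a b h => hSL (by rw [← hj, ← hj, h])
  obtain ⟨sB, hsB⟩ := Algebra.FiniteType.out (R := R) (A := B)
  choose num den hden hfr using fun b : B => IsFractionRing.div_surjective S (i b)
  let g : S := ∏ b ∈ sB, den b
  have hg : g ≠ 0 := Finset.prod_ne_zero_iff.2 fun b _ => nonZeroDivisors.ne_zero (hden b)
  have hjg : j g ≠ 0 := fun h => hg (hjinj (h.trans (map_zero j).symm))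
  let Bg := Localization.Away (j g)
  haveI : Algebra.FinitePresentation B Bg := IsLocalization.Away.finitePresentation (j g)
  haveI : Algebra.FinitePresentation R Bg := Algebra.FinitePresentation.trans R B Bg
  have hBinj : Function.Injective (algebraMap B Bg) :=
    IsLocalization.injective Bg (powers_le_nonZeroDivisors_of_noZeroDivisors hjg)
  let θ : Localization.Away g →ₐ[R] Bg := IsLocalization.liftAlgHom (M := Submonoid.powers g)
    (f := (IsScalarTower.toAlgHom R B Bg).comp j) (fun y => by
      obtain ⟨_, n, rfl⟩ := y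
      simpa using (IsLocalization.Away.algebraMap_isUnit (S := Bg) (j g)).pow n)
  have hθ : ∀ t, θ (algebraMap S (Localization.Away g) t) = algebraMap B Bg (j t) := fun t => IsLocalization.lift_eq _ t
  have hθinj : Function.Injective θ := by
    rw [injective_iff_map_eq_zero]
    intro z hz
    obtain ⟨n, t, ht⟩ := IsLocalization.Away.surj g z
    have h0 : algebraMap B Bg (j t) = 0 := by rw [← hθ, ← ht, map_mul, hz, zero_mul]
    rw [hjinj (((injective_iff_map_eq_zero _).1 hBinj _ h0).trans (map_zero j).symm), map_zero] at ht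
    exact ((IsLocalization.Away.algebraMap_isUnit g).pow n).mul_left_eq_zero.1 ht
  have hunit : ∀ b ∈ sB, IsUnit (algebraMap S (Localization.Away g) (den b)) := fun b hb =>
    isUnit_of_dvd_unit (map_dvd _ (Finset.dvd_prod_of_mem den hb)) (IsLocalization.Away.algebraMap_isUnit g)
  have hθsurj : Function.Surjective θ := by
    have hB : ∀ b : B, algebraMap B Bg b ∈ θ.range := by
      intro b
      have : Algebra.adjoin R (sB : Set B) ≤ θ.range.comap (IsScalarTower.toAlgHom R B Bg) := by
        rw [Algebra.adjoin_le_iff]
        intro b hb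
        refine ⟨algebraMap S _ (num b) * ↑(hunit b hb).unit⁻¹, ?_⟩
        show θ _ = algebraMap B Bg b
        rw [← ((hunit b hb).map θ).mul_left_inj, ← map_mul, mul_assoc, IsUnit.val_inv_mul, mul_one, hθ, hθ, ← map_mul]
        congr 1
        refine hi ?_
        rw [map_mul, hj, hj, ← hfr b, div_mul_cancel₀]
        exact IsFractionRing.to_map_ne_zero_of_mem_nonZeroDivisors (hden b)
      exact this (hsB ▸ trivial)
    intro z
    obtain ⟨n, b, hb⟩ := IsLocalization.Away.surj (j g) z
    obtain ⟨w, hw⟩ := hB b
    refine ⟨w * ↑((IsLocalization.Away.algebraMap_isUnit (S := Localization.Away g) g).pow n).unit⁻¹, ?_⟩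
    rw [← ((IsLocalization.Away.algebraMap_isUnit (S := Bg) (j g)).pow n).mul_left_inj, hb, ← hθ, ← map_pow θ, ← map_mul θ,
      mul_assoc, IsUnit.val_inv_mul, mul_one]
    exact hw
  exact ⟨g, hg, Algebra.FinitePresentation.equiv (AlgEquiv.ofBijective θ ⟨hθinj, hθsurj⟩).symm⟩

/-- Let `R → S` be an injective ring map of finite type between domains. Then there are nonzero `f ∈ R`
and `g ∈ S` such that `S_{fg}` is a finitely presented `R_f`-algebra. -/
theorem result {R S : Type u} [CommRing R] [IsDomain R] [CommRing S] [IsDomain S]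
    [Algebra R S] [Algebra.FiniteType R S] (hinj : Function.Injective (algebraMap R S)) :
    ∃ (f : R) (g : S), f ≠ 0 ∧ g ≠ 0 ∧
      ∀ (Rf Sfg : Type u) [CommRing Rf] [CommRing Sfg] [Algebra R Rf] [IsLocalization.Away f Rf]
        [Algebra S Sfg] [IsLocalization.Away (algebraMap R S f * g) Sfg] [Algebra Rf Sfg] [Algebra R Sfg]
        [IsScalarTower R S Sfg] [IsScalarTower R Rf Sfg], Algebra.FinitePresentation Rf Sfg := by
  obtain ⟨g, hg, hfp⟩ := main hinj
  refine ⟨1, g, one_ne_zero, hg, ?_⟩
  intro Rf Sfg _ _ _ _ _ hloc _ _ _ _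
  rw [map_one, one_mul] at hloc
  haveI : Algebra.FinitePresentation R Sfg := Algebra.FinitePresentation.equiv
    ((IsLocalization.algEquiv (Submonoid.powers g) (Localization.Away g) Sfg).restrictScalars R)
  haveI : Algebra.FinitePresentation R Rf := IsLocalization.Away.finitePresentation (1 : R)
  exact Algebra.FinitePresentation.of_restrict_scalars_finitePresentation R Rf Sfg

end Groth.Agent.S2140
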