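import Groth.Statements.S2141
import Groth.Agent.E4O.FibreDim

set_option autoImplicit false
universe u
open CAlg

namespace Groth.Agent.S2141

theorem map_prime {S : Type u} [CommRing S] (z P : Ideal S) [P.IsPrime] (h : z ≤ P) :
    (P.map (Ideal.Quotient.mk z)).IsPrime :=
  Ideal.map_isPrime_of_surjective Ideal.Quotient.mk_surjective (by rw [Ideal.mk_ker]; exact h)

theorem trdeg_bot {k S : Type u} [Field k] [CommRing S] [Algebra k S] (z : Ideal S) [z.IsPrime] :
    Algebra.trdeg (k ⧸ z.under k) (S ⧸ z) = Algebra.trdeg k (S ⧸ z) := by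
  have e : z.under k = ⊥ :=
    (Ideal.eq_bot_or_top _).resolve_right (Ideal.IsPrime.ne_top inferInstance)
  let eR : (k ⧸ z.under k) ≃+* k := (Ideal.quotEquivOfEq e).trans (RingEquiv.quotientBot k)
  refine le_antisymm ?_ ?_
  · refine ciSup_le' fun ⟨t, ht⟩ => ?_
    refine AlgebraicIndependent.cardinalMk_le_trdeg
      (AlgebraicIndependent.of_ringHom_of_comp_eq (Ideal.Quotient.mk (z.under k)) (RingHom.id (S ⧸ z))
        ht ?_ rfl)
    exact (RingHom.injective _)
  · refine ciSup_le' fun ⟨t, ht⟩ => ?_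
    refine AlgebraicIndependent.cardinalMk_le_trdeg
      (AlgebraicIndependent.ringHom_of_comp_eq (Ideal.Quotient.mk (z.under k)) (RingHom.id (S ⧸ z))
        ht Ideal.Quotient.mk_surjective Function.injective_id rfl)

/-- Let `S` be of finite type over a field `k` and `𝔭` a prime of `S` whose residue field has
transcendence degree `r` over `k`. Then the local dimension of `Spec S` at `𝔭` equals `dim S_𝔭 + r`. -/
theorem result {k S : Type u} [Field k] [CommRing S] [Algebra k S] [Algebra.FiniteType k S]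
    (p : Ideal S) [p.IsPrime] (r : ℕ) (hr : Algebra.trdeg k p.ResidueField = r) :
    FlatMor.localDim (PrimeSpectrum S) ⟨p, inferInstance⟩ = ringKrullDim (Localization.AtPrime p) + (r : WithBot ℕ∞) := by
  classical
  let f : AlgebraicGeometry.Spec (CommRingCat.of S) ⟶ AlgebraicGeometry.Spec (CommRingCat.of k) :=
    AlgebraicGeometry.Spec.map (CommRingCat.ofHom (algebraMap k S))
  have : AlgebraicGeometry.LocallyOfFiniteType f :=
    (AlgebraicGeometry.HasRingHomProperty.Spec_iff (P := @AlgebraicGeometry.LocallyOfFiniteType)).2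
      (RingHom.finiteType_algebraMap.2 ‹_›)
  let x : PrimeSpectrum S := ⟨p, inferInstance⟩
  let C : Groth.Agent.E4O.Chart f :=
    ⟨k, S, CategoryTheory.CategoryStruct.id _, CategoryTheory.CategoryStruct.id _, by simp [f]⟩
  have hsub : ∀ a b : PrimeSpectrum k, a = b := fun a b => Subsingleton.elim a b
  have hdeg : ∀ z : PrimeSpectrum S, Algebra.trdeg k (S ⧸ z.asIdeal) =
      (Groth.Agent.E4O.fdeg f (C.pt z) : Cardinal.{u}) := fun z => by
    rw [← C.trdeg_eq_fdeg z]
    exact (trdeg_bot z.asIdeal).symm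
  have hloc : FlatMor.localDim (PrimeSpectrum S) x = FlatMor.fibreDimAt f (C.pt x) := by
    rw [Groth.Agent.E4O.fibreDimAt_eq_localDim]
    let e : PrimeSpectrum S ≃ₜ ↥(f ⁻¹' {f (C.pt x)}) :=
      { toFun := fun z => ⟨C.pt z, hsub _ _⟩
        invFun := fun z => z.1
        left_inv := fun z => rfl
        right_inv := fun z => rfl
        continuous_toFun := Continuous.subtype_mk C.isOpenEmbedding_pt.continuous _
        continuous_invFun := continuous_subtype_val }
    exact Groth.Agent.E4O.localDim_eq_of_homeomorph e x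
  rw [hloc]
  obtain ⟨w, hw, -, hd, hmax, -⟩ := Groth.Agent.E4O.exists_fibreDimAt_eq f (C.pt x)
  rw [hd]
  have hres : Algebra.trdeg k (S ⧸ p) = (r : Cardinal.{u}) := by
    rw [← hr]
    have : Algebra.IsAlgebraic (S ⧸ p) p.ResidueField :=
      IsLocalization.isAlgebraic p.ResidueField (nonZeroDivisors (S ⧸ p))
    have : FaithfulSMul (S ⧸ p) p.ResidueField :=
      (faithfulSMul_iff_algebraMap_injective _ _).2 (IsFractionRing.injective _ _)
    rw [← trdeg_add_eq k (S ⧸ p) (A := p.ResidueField),
      trdeg_eq_zero (R := S ⧸ p) (A := p.ResidueField), add_zero]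
  have : IsNoetherianRing S := Algebra.FiniteType.isNoetherianRing k S
  rw [IsLocalization.AtPrime.ringKrullDim_eq_height p (Localization.AtPrime p)]
  -- every generization `z` of `x`
  have hform : ∀ (z : PrimeSpectrum S) (hz : z ≤ x),
      (Order.height (⟨p.map (Ideal.Quotient.mk z.asIdeal), map_prime z.asIdeal p hz⟩ :
        PrimeSpectrum (S ⧸ z.asIdeal)) : Cardinal.{u}) + r =
      (Groth.Agent.E4O.fdeg f (C.pt z) : Cardinal.{u}) := by
    intro z hz
    have hP := map_prime z.asIdeal p hz
    have h1 := Groth.Agent.E4O.height_add_trdeg_eq k (S ⧸ z.asIdeal) (p.map (Ideal.Quotient.mk z.asIdeal))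
    let e : ((S ⧸ z.asIdeal) ⧸ p.map (Ideal.Quotient.mk z.asIdeal)) ≃ₐ[k] S ⧸ p :=
      DoubleQuot.quotQuotEquivQuotOfLEₐ k hz
    rw [e.trdeg_eq, hres, hdeg, PrimeSpectrum.height_eq_orderHeight
      ⟨p.map (Ideal.Quotient.mk z.asIdeal), hP⟩] at h1
    exact h1
  have hfin : p.height ≠ ⊤ := Ideal.height_ne_top_of_isPrime
  obtain ⟨n, hn⟩ := ENat.ne_top_iff_exists.1 hfin
  rw [← hn]
  suffices hmain : Groth.Agent.E4O.fdeg f w = n + r by
    rw [hmain]; push_cast; rfl
  refine le_antisymm ?_ ?_
  · obtain ⟨z, rfl⟩ : ∃ z, C.pt z = w := ⟨w, rfl⟩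
    have hz : z ≤ x := (PrimeSpectrum.le_iff_specializes z x).2
      (C.isOpenEmbedding_pt.isInducing.specializes_iff.1 hw)
    have h := hform z hz
    have hmono : Order.height (⟨p.map (Ideal.Quotient.mk z.asIdeal), map_prime z.asIdeal p hz⟩ :
        PrimeSpectrum (S ⧸ z.asIdeal)) ≤ p.height := by
      rw [show p.height = Order.height x from PrimeSpectrum.height_eq_orderHeight x]
      refine le_trans (Order.height_le_height_apply_of_strictMono
        (PrimeSpectrum.comap (Ideal.Quotient.mk z.asIdeal)) ?_ _) (le_of_eq ?_)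
      · intro a b hab
        exact lt_of_le_of_ne (Ideal.comap_mono hab.le) fun e => hab.ne
          (PrimeSpectrum.comap_injective_of_surjective _ Ideal.Quotient.mk_surjective e)
      · congr 1
        refine PrimeSpectrum.ext ?_
        show (p.map _).comap _ = p
        rw [Ideal.comap_map_of_surjective _ Ideal.Quotient.mk_surjective, ← RingHom.ker_eq_comap_bot,
          Ideal.mk_ker]
        exact sup_eq_left.2 hz
    have : (Groth.Agent.E4O.fdeg f (C.pt z) : Cardinal.{u}) ≤ ((n + r : ℕ) : Cardinal.{u}) := by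
      rw [← h, Nat.cast_add]
      gcongr
      rw [← Cardinal.ofENat_nat]
      exact Cardinal.ofENat_le_ofENat.2 (hmono.trans hn.ge)
    exact_mod_cast this
  · have hn' : Order.height x = n := by
      rw [hn]; exact (PrimeSpectrum.height_eq_orderHeight x).symm
    obtain ⟨l, hl, hlen⟩ := Order.exists_series_of_height_eq_coe x hn'
    let z := l.head
    have hz : z ≤ x := hl ▸ l.monotone (Fin.zero_le _)
    have h := hform z hz
    let π := Ideal.Quotient.mk z.asIdeal
    let l' : LTSeries (PrimeSpectrum (S ⧸ z.asIdeal)) := LTSeries.mk l.length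
      (fun i => ⟨(l i).asIdeal.map π, map_prime z.asIdeal _ (l.monotone (Fin.zero_le i))⟩)
      fun i j hij => by
        have hlt := l.strictMono hij
        refine lt_of_le_of_ne (Ideal.map_mono hlt.le) fun e => hlt.ne (PrimeSpectrum.ext ?_)
        have e' := congrArg (fun P : PrimeSpectrum (S ⧸ z.asIdeal) => P.asIdeal.comap π) e
        simp only [Ideal.comap_map_of_surjective π Ideal.Quotient.mk_surjective,
          ← RingHom.ker_eq_comap_bot, π, Ideal.mk_ker] at e'
        rwa [sup_eq_left.2 (l.monotone (Fin.zero_le i) : z.asIdeal ≤ (l i).asIdeal),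
          sup_eq_left.2 (l.monotone (Fin.zero_le j) : z.asIdeal ≤ (l j).asIdeal)] at e'
    have hlast : l'.last = ⟨p.map π, map_prime z.asIdeal p hz⟩ := by
      refine PrimeSpectrum.ext ?_
      show (l (Fin.last _)).asIdeal.map π = p.map π
      rw [show l (Fin.last _) = x from hl]
    have hge := Order.length_le_height (p := l') hlast.le
    have h2 : ((n + r : ℕ) : Cardinal.{u}) ≤ (Groth.Agent.E4O.fdeg f (C.pt z) : Cardinal.{u}) := by
      rw [← h, Nat.cast_add]
      gcongr
      rw [← Cardinal.ofENat_nat]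
      exact Cardinal.ofENat_le_ofENat.2 (hlen ▸ hge)
    have h3 : n + r ≤ Groth.Agent.E4O.fdeg f (C.pt z) := by exact_mod_cast h2
    exact h3.trans (hmax _ (C.isOpenEmbedding_pt.isInducing.specializes_iff.2
      ((PrimeSpectrum.le_iff_specializes z x).1 hz)) (hsub _ _))

end Groth.Agent.S2141
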