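import Groth.Statements.S2143
import Mathlib
import Groth.Agent.CAlgH2.LocalDimField

set_option autoImplicit false
set_option linter.style.haveILetI false
set_option linter.style.longLine false
universe u
open CAlg

namespace Groth.Agent.S2143

/-- (1) = (3): let `S` be of finite type over a field `k` and `𝔭` a prime of `S`. The local dimension of
`Spec S` at `𝔭` is the infimum of `dim S_𝔪` over the maximal ideals `𝔪 ⊇ 𝔭`. -/
theorem result {k S : Type u} [Field k] [CommRing S] [Algebra k S] [Algebra.FiniteType k S]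
    (p : Ideal S) [p.IsPrime] :
    FlatMor.localDim (PrimeSpectrum S) ⟨p, inferInstance⟩ =
      ⨅ m : {m : Ideal S // m.IsMaximal ∧ p ≤ m}, ringKrullDim (Localization.AtPrime (hp := m.2.1.isPrime') m.1) := by
  rw [CAlgH2.localDim_eq_dimAt k p]
  refine le_antisymm (le_iInf fun m => ?_) ?_
  · haveI := m.2.1
    rw [IsLocalization.AtPrime.ringKrullDim_eq_height m.1, CAlgH2.height_maximal_eq_dimAt k m.1]
    exact_mod_cast CAlgH2.dimAt_mono k m.2.2
  · obtain ⟨g, hgp, hg⟩ := CAlgH2.exists_notMem_forall k p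
    obtain ⟨m, hm, hpm, hgm⟩ := CAlgH2.exists_maximal_notMem k p hgp
    refine (iInf_le _ ⟨m, hm, hpm⟩).trans ?_
    rw [IsLocalization.AtPrime.ringKrullDim_eq_height m, CAlgH2.height_maximal_eq_dimAt k m]
    have : CAlgH2.dimAt k m ≤ CAlgH2.dimAt k p := CAlgH2.dimAt_le k fun P hP hPm =>
      CAlgH2.trdegQuot_le_dimAt k hP (hg P hP fun h => hgm (hPm h))
    exact_mod_cast this

end Groth.Agent.S2143
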