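import Groth.Statements.S2144
import Mathlib
import Groth.Agent.Unr55.FppfDesc

set_option autoImplicit false
set_option linter.style.haveILetI false
set_option linter.style.longLine false
universe u
open CAlg

namespace Groth.Agent.S2144


open TensorProduct

theorem surj_of_top {A₁ A₀ B₁ : Type u} [CommRing A₁] [CommRing A₀] [CommRing B₁] [Algebra A₁ A₀] [Algebra A₁ B₁]
    [Module.Flat A₁ B₁] (K : Ideal A₁) (hK : (Set.range (PrimeSpectrum.comap (algebraMap A₁ B₁)))ᶜ = PrimeSpectrum.zeroLocus (K : Set A₁))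
    (h : K.map (algebraMap A₁ A₀) = ⊤) : Module.FaithfullyFlat A₀ (A₀ ⊗[A₁] B₁) := by
  refine Module.FaithfullyFlat.of_comap_surjective fun q => ?_
  let p := PrimeSpectrum.comap (algebraMap A₁ A₀) q
  have hp : p ∈ Set.range (PrimeSpectrum.comap (algebraMap A₁ B₁)) := by
    by_contra hcon
    rw [← Set.mem_compl_iff, hK, PrimeSpectrum.mem_zeroLocus, SetLike.coe_subset_coe] at hcon
    exact q.isPrime.ne_top (top_le_iff.1 (h ▸ Ideal.map_le_iff_le_comap.2 hcon))
  haveI := (PrimeSpectrum.nontrivial_iff_mem_rangeComap (S := B₁) p).2 hp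
  let ι : p.asIdeal.ResidueField →+* q.asIdeal.ResidueField :=
    Ideal.ResidueField.map p.asIdeal q.asIdeal (algebraMap A₁ A₀) rfl
  let ιl : p.asIdeal.ResidueField →ₗ[A₁] q.asIdeal.ResidueField :=
    (Ideal.ResidueField.mapₐ (R := A₁) p.asIdeal q.asIdeal (Algebra.ofId A₁ A₀) rfl).toLinearMap
  have hinj : Function.Injective (ιl.rTensor B₁) :=
    Module.Flat.rTensor_preserves_injective_linearMap _ (RingHom.injective
      (Ideal.ResidueField.mapₐ (R := A₁) p.asIdeal q.asIdeal (Algebra.ofId A₁ A₀) rfl).toRingHom)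
  haveI : Nontrivial (q.asIdeal.ResidueField ⊗[A₁] B₁) := hinj.nontrivial
  haveI : Nontrivial (q.asIdeal.ResidueField ⊗[A₀] (A₀ ⊗[A₁] B₁)) :=
    (TensorProduct.AlgebraTensorModule.cancelBaseChange A₁ A₀ A₀ q.asIdeal.ResidueField B₁).toEquiv.nontrivial
  exact (PrimeSpectrum.nontrivial_iff_mem_rangeComap (S := A₀ ⊗[A₁] B₁) q).1 inferInstance

theorem core (R : Type u) {A₁ A B₁ : Type u} [CommRing R] [CommRing A₁] [CommRing A] [CommRing B₁] [Algebra R A₁]
    [Algebra.FinitePresentation R A₁] [Algebra R A] [Algebra A₁ A] [IsScalarTower R A₁ A] [Algebra A₁ B₁]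
    [Algebra.FinitePresentation A₁ B₁] [Module.Flat A₁ B₁]
    (hs : Function.Surjective (PrimeSpectrum.comap (algebraMap A (A ⊗[A₁] B₁)))) :
    ∃ (A₀ B₀ : Type u) (_ : CommRing A₀) (_ : CommRing B₀) (_ : Algebra R A₀) (_ : Algebra A₀ A) (_ : IsScalarTower R A₀ A)
      (_ : Algebra A₀ B₀), Algebra.FinitePresentation R A₀ ∧ Algebra.FinitePresentation A₀ B₀ ∧ Module.FaithfullyFlat A₀ B₀ ∧
      Nonempty ((A ⊗[A₁] B₁) ≃ₐ[A] A ⊗[A₀] B₀) := by
  classical
  obtain ⟨K, hK⟩ := (PrimeSpectrum.isClosed_iff_zeroLocus_ideal _).1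
    (SpFP87.isOpen_range_comap (A := A₁) (B := B₁)).isClosed_compl
  have hKA : K.map (algebraMap A₁ A) = ⊤ := by
    by_contra hne
    obtain ⟨q, hq, hqK⟩ := Ideal.exists_le_maximal _ hne
    obtain ⟨Q, hQ⟩ := hs ⟨q, hq.isPrime⟩
    have : PrimeSpectrum.comap (algebraMap A₁ A) ⟨q, hq.isPrime⟩ ∈ (Set.range (PrimeSpectrum.comap (algebraMap A₁ B₁)))ᶜ := by
      rw [hK, PrimeSpectrum.mem_zeroLocus, SetLike.coe_subset_coe, PrimeSpectrum.comap_asIdeal]
      exact Ideal.map_le_iff_le_comap.1 hqK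
    apply this
    refine ⟨PrimeSpectrum.comap (Algebra.TensorProduct.includeRight : B₁ →ₐ[A₁] A ⊗[A₁] B₁).toRingHom Q, ?_⟩
    rw [← PrimeSpectrum.comap_comp_apply, ← hQ, ← PrimeSpectrum.comap_comp_apply]
    refine congrArg (fun φ : A₁ →+* A ⊗[A₁] B₁ => PrimeSpectrum.comap φ Q) ?_
    exact ((Algebra.TensorProduct.includeRight : B₁ →ₐ[A₁] A ⊗[A₁] B₁).comp_algebraMap).trans (IsScalarTower.algebraMap_eq A₁ A (A ⊗[A₁] B₁))
  have h1 : (1 : A) ∈ Submodule.span A (algebraMap A₁ A '' (K : Set A₁)) := by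
    have : (1 : A) ∈ K.map (algebraMap A₁ A) := hKA ▸ trivial
    exact this
  obtain ⟨n, a, g, hsum⟩ := Submodule.mem_span_set'.1 h1
  choose k hk hkg using fun i => (g i).2
  let rel : MvPolynomial (Fin n) A₁ := ∑ i, MvPolynomial.X i * MvPolynomial.C (k i) - 1
  let ev : MvPolynomial (Fin n) A₁ →ₐ[A₁] A := MvPolynomial.aeval a
  have hev : ev rel = 0 := by
    simp [rel, ev, hkg, ← hsum]
  let A₀ := MvPolynomial (Fin n) A₁ ⧸ Ideal.span {rel}
  haveI : Algebra.FinitePresentation A₁ A₀ := Algebra.FinitePresentation.quotient ⟨{rel}, by simp⟩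
  haveI : Algebra.FinitePresentation R A₀ := Algebra.FinitePresentation.trans R A₁ A₀
  let φ : A₀ →ₐ[A₁] A := Ideal.Quotient.liftₐ (Ideal.span {rel}) ev (fun x hx => by
    obtain ⟨c, rfl⟩ := Ideal.mem_span_singleton.1 hx
    rw [map_mul, hev, zero_mul])
  letI : Algebra A₀ A := φ.toRingHom.toAlgebra
  haveI : IsScalarTower A₁ A₀ A := IsScalarTower.of_algebraMap_eq fun x => (φ.commutes x).symm
  haveI : IsScalarTower R A₀ A := IsScalarTower.of_algebraMap_eq fun x =>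
    (IsScalarTower.algebraMap_apply R A₁ A x).trans ((IsScalarTower.algebraMap_apply A₁ A₀ A _).trans
      (congrArg _ (IsScalarTower.algebraMap_apply R A₁ A₀ x).symm))
  have hK0 : K.map (algebraMap A₁ A₀) = ⊤ := by
    rw [Ideal.eq_top_iff_one]
    have : (1 : A₀) = ∑ i, Ideal.Quotient.mk (Ideal.span {rel}) (MvPolynomial.X i) * algebraMap A₁ A₀ (k i) := by
      have h2 : Ideal.Quotient.mk (Ideal.span {rel}) rel = 0 :=
        Ideal.Quotient.eq_zero_iff_mem.2 (Ideal.mem_span_singleton_self _)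
      simp only [rel, map_sub, map_sum, map_mul, map_one, sub_eq_zero] at h2
      exact h2.symm
    rw [this]
    exact sum_mem fun i _ => Ideal.mul_mem_left _ _ (Ideal.mem_map_of_mem _ (hk i))
  exact ⟨A₀, A₀ ⊗[A₁] B₁, inferInstance, inferInstance, inferInstance, inferInstance, inferInstance, inferInstance,
    inferInstance, inferInstance, surj_of_top K hK hK0,
    ⟨(Algebra.TensorProduct.cancelBaseChange A₁ A₀ A A B₁).symm⟩⟩

theorem core' (R : Type u) {A B C B₀ A₁ : Type u} [CommRing R] [CommRing A] [CommRing B] [CommRing C] [CommRing B₀]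
    [CommRing A₁] [Algebra R A] [Algebra A B] [Module.FaithfullyFlat A B] [Algebra C A] [Algebra C B₀]
    [Algebra.FinitePresentation C B₀] [Module.Flat C B₀] [Algebra R A₁] [Algebra.FinitePresentation R A₁] [Algebra C A₁]
    [Algebra A₁ A] [IsScalarTower R A₁ A] [IsScalarTower C A₁ A] (e : B ≃ₐ[A] A ⊗[C] B₀) :
    ∃ (A₀ B₂ : Type u) (_ : CommRing A₀) (_ : CommRing B₂) (_ : Algebra R A₀) (_ : Algebra A₀ A) (_ : IsScalarTower R A₀ A)
      (_ : Algebra A₀ B₂), Algebra.FinitePresentation R A₀ ∧ Algebra.FinitePresentation A₀ B₂ ∧ Module.FaithfullyFlat A₀ B₂ ∧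
      Nonempty (B ≃ₐ[A] A ⊗[A₀] B₂) := by
  let e' : B ≃ₐ[A] A ⊗[A₁] (A₁ ⊗[C] B₀) := e.trans (Algebra.TensorProduct.cancelBaseChange C A₁ A A B₀).symm
  have hs : Function.Surjective (PrimeSpectrum.comap (algebraMap A (A ⊗[A₁] (A₁ ⊗[C] B₀)))) := by
    haveI : Module.FaithfullyFlat A (A ⊗[A₁] (A₁ ⊗[C] B₀)) := Module.FaithfullyFlat.of_linearEquiv _ _ e'.symm.toLinearEquiv
    exact PrimeSpectrum.comap_surjective_of_faithfullyFlat
  obtain ⟨A₀, B₂, i1, i2, i3, i4, i5, i6, h1, h2, h3, ⟨e₂⟩⟩ := core R (A₁ := A₁) (A := A) (B₁ := A₁ ⊗[C] B₀) hs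
  exact ⟨A₀, B₂, i1, i2, i3, i4, i5, i6, h1, h2, h3, ⟨e'.trans e₂⟩⟩

open TensorProduct in
/-- Let `R → A → B` be ring maps with `A → B` faithfully flat and of finite presentation. Then there are
an `R`-algebra `A₀` of finite presentation mapping to `A` and a faithfully flat finitely presented
`A₀`-algebra `B₀` with `B ≅ A ⊗_{A₀} B₀` as `A`-algebras. -/
theorem result {R A B : Type u} [CommRing R] [CommRing A] [CommRing B] [Algebra R A]
    [Algebra A B] [Algebra.FinitePresentation A B] [Module.FaithfullyFlat A B] :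
    ∃ (A₀ B₀ : Type u) (_ : CommRing A₀) (_ : CommRing B₀) (_ : Algebra R A₀) (_ : Algebra A₀ A) (_ : IsScalarTower R A₀ A)
      (_ : Algebra A₀ B₀), Algebra.FinitePresentation R A₀ ∧ Algebra.FinitePresentation A₀ B₀ ∧ Module.FaithfullyFlat A₀ B₀ ∧
      Nonempty (B ≃ₐ[A] A ⊗[A₀] B₀) := by
  obtain ⟨C, B₀, _, _, _, _, hC, _, _, ⟨e⟩⟩ := Unr55.exists_flat_model A B
  haveI : IsNoetherianRing ℤ := inferInstance
  haveI : Algebra.FinitePresentation ℤ C := Algebra.FinitePresentation.of_finiteType.mp hC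
  let A₁ := R ⊗[ℤ] C
  letI : Algebra C A₁ := Algebra.TensorProduct.rightAlgebra
  let χ : A₁ →ₐ[R] A := Algebra.TensorProduct.lift (Algebra.ofId R A) (algebraMap C A).toIntAlgHom (fun _ _ => Commute.all _ _)
  letI : Algebra A₁ A := χ.toRingHom.toAlgebra
  haveI : IsScalarTower R A₁ A := IsScalarTower.of_algebraMap_eq fun x => (χ.commutes x).symm
  haveI : IsScalarTower C A₁ A := IsScalarTower.of_algebraMap_eq fun c => by
    show algebraMap C A c = χ ((1 : R) ⊗ₜ[ℤ] c)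
    rw [Algebra.TensorProduct.lift_tmul, map_one, one_mul]
    rfl
  exact core' R (A₁ := A₁) (A := A) (B₀ := B₀) (C := C) e

end Groth.Agent.S2144
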