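import Groth.Statements.S2146
import Mathlib
import Groth.Agent.CAlgH2.SpreadOut

set_option autoImplicit false
set_option linter.style.haveILetI false
set_option linter.style.longLine false
universe u
open CAlg

namespace Groth.Agent.S2146


theorem main {R S : Type u} [CommRing R] [CommRing S] [Algebra R S] [Algebra.FinitePresentation R S]
    (r : R) (g : S) (Rf Sf : Type u) [CommRing Rf] [CommRing Sf] [Algebra R Rf] [IsLocalization.Away r Rf]
    [Algebra S Sf] [IsLocalization.Away (algebraMap R S r) Sf] [Algebra Rf Sf] [Algebra R Sf] [IsScalarTower R S Sf]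
    [IsScalarTower R Rf Sf] (e : Localization.Away g ≃ₐ[R] Rf) :
    ∃ (C : Type u) (_ : CommRing C) (_ : Algebra Rf C), Nonempty (Sf ≃ₐ[Rf] (Rf × C)) := by
  classical
  let π₀ : S →ₐ[R] Rf := e.toAlgHom.comp (IsScalarTower.toAlgHom R S (Localization.Away g))
  let π₁ : Sf →ₐ[R] Rf := IsLocalization.liftAlgHom (M := Submonoid.powers (algebraMap R S r)) (f := π₀) (fun y => by
    obtain ⟨_, n, rfl⟩ := y
    simpa using (IsLocalization.Away.algebraMap_isUnit (S := Rf) r).pow n)
  have hπ₁ : ∀ s, π₁ (algebraMap S Sf s) = π₀ s := fun s => IsLocalization.lift_eq _ s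
  have hbase : π₁.comp (IsScalarTower.toAlgHom R Rf Sf) = AlgHom.id R Rf :=
    IsLocalization.algHom_ext (Submonoid.powers r) (Subsingleton.elim _ _)
  let π : Sf →ₐ[Rf] Rf := { π₁ with commutes' := fun a => DFunLike.congr_fun hbase a }
  have hπ : ∀ s, π (algebraMap S Sf s) = π₀ s := hπ₁
  have hsurj : Function.Surjective π := fun a => ⟨algebraMap Rf Sf a, π.commutes a⟩
  haveI : Algebra.FinitePresentation S Sf := IsLocalization.Away.finitePresentation (algebraMap R S r)
  haveI : Algebra.FinitePresentation R Sf := Algebra.FinitePresentation.trans R S Sf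
  haveI : Algebra.FinitePresentation R Rf := IsLocalization.Away.finitePresentation r
  have hfg : (RingHom.ker π).FG :=
    Algebra.FinitePresentation.ker_fG_of_surjective π₁ hsurj
  have hgu : IsUnit (π (algebraMap S Sf g)) := by
    rw [hπ]
    exact (IsLocalization.Away.algebraMap_isUnit (S := Localization.Away g) g).map e
  have hkill : ∀ x ∈ RingHom.ker π, ∃ n, (algebraMap S Sf g) ^ n * x = 0 := by
    intro x hx
    obtain ⟨k, s, hs⟩ := IsLocalization.Away.surj (algebraMap R S r) x
    have h0 : π₀ s = 0 := by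
      rw [← hπ, ← hs, map_mul, RingHom.mem_ker.1 hx, zero_mul]
    obtain ⟨⟨_, n, rfl⟩, hn⟩ := (IsLocalization.map_eq_zero_iff (Submonoid.powers g) (Localization.Away g) s).1
      (e.injective (h0.trans (map_zero e).symm))
    refine ⟨n, ?_⟩
    have h2 := congrArg (algebraMap S Sf) hn
    rw [map_mul, map_pow, map_zero, ← hs, ← mul_assoc] at h2
    exact ((IsLocalization.Away.algebraMap_isUnit (S := Sf) (algebraMap R S r)).pow k).mul_left_eq_zero.1 h2
  have hidem : IsIdempotentElem (RingHom.ker π) := by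
    refine le_antisymm Ideal.mul_le_right fun x hx => ?_
    obtain ⟨n, hn⟩ := hkill x hx
    obtain ⟨u, hu⟩ := hgu.pow n
    have hj : (algebraMap S Sf g) ^ n - algebraMap Rf Sf u ∈ RingHom.ker π := by
      rw [RingHom.mem_ker, map_sub, map_pow, AlgHom.commutes, hu, Algebra.algebraMap_self, RingHom.id_apply, sub_self]
    have : x = -(algebraMap Rf Sf ↑u⁻¹) * (((algebraMap S Sf g) ^ n - algebraMap Rf Sf u) * x) := by
      rw [sub_mul, hn, zero_sub, neg_mul, mul_neg, neg_neg, ← mul_assoc, ← map_mul, Units.inv_mul, map_one, one_mul]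
    rw [this]
    exact Ideal.mul_mem_left _ _ (Ideal.mul_mem_mul hj hx)
  obtain ⟨ε, hε, hker⟩ := (Ideal.isIdempotentElem_iff_of_fg _ hfg).1 hidem
  have hπε : π ε = 0 := by
    have : ε ∈ RingHom.ker π := hker ▸ Submodule.mem_span_singleton_self ε
    exact this
  refine ⟨Sf ⧸ Ideal.span {1 - ε}, inferInstance, inferInstance,
    ⟨AlgEquiv.ofBijective (π.prod (Ideal.Quotient.mkₐ Rf (Ideal.span {1 - ε}))) ⟨?_, ?_⟩⟩⟩
  · rw [injective_iff_map_eq_zero]
    intro x hx
    obtain ⟨h1, h2⟩ := Prod.mk.inj (show ((π x, Ideal.Quotient.mk (Ideal.span {1 - ε}) x) : Rf × _) = (0, 0) from hx)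
    have h3 : x ∈ RingHom.ker π := h1
    rw [hker, Submodule.mem_span_singleton] at h3
    obtain ⟨a, rfl⟩ := h3
    rw [Ideal.Quotient.eq_zero_iff_mem, Ideal.mem_span_singleton] at h2
    obtain ⟨b, hb⟩ := h2
    simp only [smul_eq_mul] at hb ⊢
    calc a * ε = (a * ε) * ε := by rw [mul_assoc, hε.eq]
      _ = (ε - ε * ε) * b := by rw [hb]; ring
      _ = 0 := by rw [hε.eq, sub_self, zero_mul]
  · rintro ⟨a, c⟩
    obtain ⟨c, rfl⟩ := Ideal.Quotient.mk_surjective c
    refine ⟨algebraMap Rf Sf a * (1 - ε) + c * ε, Prod.ext ?_ ?_⟩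
    · show π _ = a
      rw [map_add, map_mul, map_mul, map_sub, map_one, hπε, AlgHom.commutes]
      simp
    · show Ideal.Quotient.mk _ _ = _
      rw [Ideal.Quotient.eq, Ideal.mem_span_singleton]
      exact ⟨algebraMap Rf Sf a - c, by ring⟩

/-- Let `S` be a finitely presented `R`-algebra and `𝔮` a prime of `S` over `𝔭` such that the induced
map `R_𝔭 → S_𝔮` is bijective. Then for some `f ∉ 𝔭` there is an `R_f`-algebra `C` with `S_f ≅ R_f ×
C` as `R_f`-algebras. -/
theorem result {R S : Type u} [CommRing R] [CommRing S] [Algebra R S]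
    [Algebra.FinitePresentation R S] (q : Ideal S) [q.IsPrime] (p : Ideal R) [p.IsPrime] [q.LiesOver p]
    (h : Function.Bijective (Localization.localRingHom p q (algebraMap R S) (q.over_def p))) :
    ∃ f : R, f ∉ p ∧ ∀ (Rf Sf : Type u) [CommRing Rf] [CommRing Sf] [Algebra R Rf] [IsLocalization.Away f Rf]
      [Algebra S Sf] [IsLocalization.Away (algebraMap R S f) Sf] [Algebra Rf Sf] [Algebra R Sf] [IsScalarTower R S Sf]
      [IsScalarTower R Rf Sf],
      ∃ (C : Type u) (_ : CommRing C) (_ : Algebra Rf C), Nonempty (Sf ≃ₐ[Rf] (Rf × C)) := by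
  have hloc : ∀ x, Localization.localRingHom p q (algebraMap R S) (q.over_def p)
      (algebraMap R (Localization.AtPrime p) x) = algebraMap R (Localization.AtPrime q) x := fun x => by
    rw [Localization.localRingHom_to_map, ← IsScalarTower.algebraMap_apply]
  let φ : Localization.AtPrime p →ₐ[R] Localization.AtPrime q :=
    { Localization.localRingHom p q (algebraMap R S) (q.over_def p) with commutes' := hloc }
  obtain ⟨g, r, -, hr, ⟨e⟩⟩ := CAlgH2.SpreadOut.exists_iso (R := R) q p (AlgEquiv.ofBijective φ h).symm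
  refine ⟨r, hr, fun Rf Sf => ?_⟩
  intros
  exact main r g Rf Sf (e.trans (IsLocalization.algEquiv (Submonoid.powers r) (Localization.Away r) Rf))

end Groth.Agent.S2146
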