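import Groth.Statements.S2150
import Mathlib
import Groth.Agent.FBase64.Primary

set_option autoImplicit false
set_option linter.style.haveILetI false
set_option linter.style.longLine false
universe u
open CAlg

namespace Groth.Agent.S2150

open scoped TensorProduct
theorem finrank_eq_one {k : Type u} [Field k] (E : Type u) [Field E] [Algebra k E] [FiniteDimensional k E]
    [Algebra.IsSeparable k E] (K : Type u) [Field K] [Algebra k K] (j : E →ₐ[k] K)
    (hp : (nilradical (E ⊗[k] K)).IsPrime) : Module.finrank k E = 1 := by
  let ι : E ⊗[k] E →ₐ[k] E ⊗[k] K := Algebra.TensorProduct.map (AlgHom.id k E) j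
  have hι : Function.Injective ι := fun x y hxy =>
    Module.Flat.lTensor_preserves_injective_linearMap (M := E) j.toLinearMap j.toRingHom.injective hxy
  haveI : IsReduced (E ⊗[k] E) := by
    haveI : Algebra.FormallyUnramified k E := Algebra.FormallyUnramified.of_isSeparable k E
    haveI : Algebra.FormallyUnramified k (E ⊗[k] E) := Algebra.FormallyUnramified.comp k E _
    exact Algebra.FormallyUnramified.isReduced_of_field k (E ⊗[k] E)
  haveI : IsDomain (E ⊗[k] E) := by
    have hbot : (nilradical (E ⊗[k] K)).comap ι = ⊥ :=
      eq_bot_iff.2 fun x hx => IsNilpotent.eq_zero ((IsNilpotent.map_iff hι).1 hx)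
    haveI : (⊥ : Ideal (E ⊗[k] E)).IsPrime := hbot ▸ hp.comap ι
    exact IsDomain.of_bot_isPrime _
  haveI : IsArtinianRing (E ⊗[k] E) := IsArtinianRing.of_finite k _
  have hfld : IsField (E ⊗[k] E) := IsArtinianRing.isField_of_isDomain _
  let μ : E ⊗[k] E →ₐ[k] E :=
    Algebra.TensorProduct.lift (AlgHom.id k E) (AlgHom.id k E) fun _ _ => Commute.all _ _
  have hμ : Function.Injective μ := by
    letI := hfld.toField
    exact μ.toRingHom.injective
  have hd := LinearMap.finrank_le_finrank_of_injective (f := μ.toLinearMap) hμ
  rw [Module.finrank_tensorProduct] at hd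
  have hpos : 0 < Module.finrank k E := Module.finrank_pos
  by_contra hne
  have : Module.finrank k E * 2 ≤ Module.finrank k E * Module.finrank k E :=
    Nat.mul_le_mul le_rfl (by omega)
  omega

open TensorProduct in
/-- For a field extension `K/k`, the spectrum of `k' ⊗_k K` is irreducible for every field extension
`k'/k` (geometric irreducibility, extensions in the same universe) if and only if every element of
`K` which is separable algebraic over `k` lies in `k`. -/
theorem result {k K : Type u} [Field k] [Field K] [Algebra k K] :
    (∀ (k' : Type u) [Field k'] [Algebra k k'], IrreducibleSpace (PrimeSpectrum (k' ⊗[k] K))) ↔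
      ∀ α : K, IsSeparable k α → α ∈ Set.range (algebraMap k K) := by
  constructor
  · intro h α hα
    let E := IntermediateField.adjoin k {α}
    haveI : FiniteDimensional k E := IntermediateField.adjoin.finiteDimensional hα.isIntegral
    haveI : Algebra.IsSeparable k E := (IntermediateField.isSeparable_adjoin_simple_iff_isSeparable k K).2 hα
    have h1 : Module.finrank k E = 1 :=
      finrank_eq_one E K E.val (PrimeSpectrum.irreducibleSpace_iff_isPrime_nilradical.1 (h E))
    have h2 : α ∈ (⊥ : IntermediateField k K) :=
      (IntermediateField.finrank_eq_one_iff.1 h1) ▸ IntermediateField.mem_adjoin_simple_self k α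
    exact IntermediateField.mem_bot.1 h2
  · intro h k' _ _
    refine FBase64.irreducibleSpace_tensor ?_ k'
    refine bot_unique fun x hx => ?_
    exact IntermediateField.mem_bot.2 (h x hx)

end Groth.Agent.S2150
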