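import Groth.Statements.S2159
import Mathlib

set_option autoImplicit false
universe u
open CAlg

namespace Groth.Agent.S2159

/-- Given surjections `p₁ : P₁ → M` and `p₂ : P₂ → M` from projective modules, with kernels `K` and `L`,
there is an isomorphism `K ⊕ P₂ ≅ L ⊕ P₁`. -/
theorem result {R M P₁ P₂ : Type u} [CommRing R] [AddCommGroup M] [Module R M] [AddCommGroup P₁] [Module R P₁]
    [Module.Projective R P₁] [AddCommGroup P₂] [Module R P₂] [Module.Projective R P₂] (p₁ : P₁ →ₗ[R] M) (p₂ : P₂ →ₗ[R] M)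
    (h₁ : Function.Surjective p₁) (h₂ : Function.Surjective p₂) :
    Nonempty ((LinearMap.ker p₁ × P₂) ≃ₗ[R] (LinearMap.ker p₂ × P₁)) := by
  obtain ⟨s₁, hs₁⟩ := Module.projective_lifting_property p₂ p₁ h₂
  obtain ⟨s₂, hs₂⟩ := Module.projective_lifting_property p₁ p₂ h₁
  have e₁ : ∀ x, p₂ (s₁ x) = p₁ x := fun x => LinearMap.congr_fun hs₁ x
  have e₂ : ∀ x, p₁ (s₂ x) = p₂ x := fun x => LinearMap.congr_fun hs₂ x
  refine ⟨
    { toFun := fun z => (⟨z.2 - s₁ (z.1 + s₂ z.2), by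
          simp [e₁, e₂, LinearMap.mem_ker.1 z.1.2]⟩, z.1 + s₂ z.2)
      invFun := fun z => (⟨z.2 - s₂ (z.1 + s₁ z.2), by
          simp [e₁, e₂, LinearMap.mem_ker.1 z.1.2]⟩, z.1 + s₁ z.2)
      map_add' := ?_, map_smul' := ?_, left_inv := ?_, right_inv := ?_ }⟩
  · intro a b
    ext <;> simp <;> abel
  · intro r a
    ext <;> simp [smul_sub]
  · intro a
    ext <;> simp
  · intro a
    ext <;> simp

end Groth.Agent.S2159
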