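import Groth.Statements.S2160
import Mathlib
import Groth.Agent.CAlgH2.PrincipalOpen

set_option autoImplicit false
set_option linter.style.haveILetI false
set_option linter.style.longLine false
universe u
open CAlg

namespace Groth.Agent.S2160

/-- Let `R` be a Noetherian local domain of Krull dimension at least `2`. Then every nonempty open
subset of `Spec R` is infinite. -/
theorem result {R : Type u} [CommRing R] [IsDomain R] [IsLocalRing R] [IsNoetherianRing R]
    (hdim : 2 ≤ ringKrullDim R) (U : Set (PrimeSpectrum R)) (hU : IsOpen U) (hne : U.Nonempty) : U.Infinite := by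
  intro hfin
  obtain ⟨f, hfU⟩ : ∃ f : R, (PrimeSpectrum.basicOpen f : Set (PrimeSpectrum R)) ⊆ U ∧ f ≠ 0 := by
    obtain ⟨x, hx⟩ := hne
    obtain ⟨_, ⟨f, rfl⟩, hxf, hsub⟩ := PrimeSpectrum.isTopologicalBasis_basic_opens.exists_subset_of_mem_open hx hU
    exact ⟨f, hsub, fun h0 => hxf (h0 ▸ zero_mem _)⟩
  classical
  let T : Finset (PrimeSpectrum R) := (hfin.subset hfU.1).toFinset.filter fun q => q.asIdeal ≠ ⊥
  have hg : ∀ q : PrimeSpectrum R, ∃ g : R, q ∈ T → g ∈ q.asIdeal ∧ g ≠ 0 := fun q => by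
    by_cases hq : q ∈ T
    · obtain ⟨g, h1, h2⟩ := Submodule.exists_mem_ne_zero_of_ne_bot (Finset.mem_filter.1 hq).2
      exact ⟨g, fun _ => ⟨h1, h2⟩⟩
    · exact ⟨0, fun h => absurd h hq⟩
  choose g hg using hg
  have hf' : f * ∏ q ∈ T, g q ≠ 0 := mul_ne_zero hfU.2 (Finset.prod_ne_zero_iff.2 fun q hq => (hg q hq).2)
  have key : ∀ q : Ideal R, q.IsPrime → ⊥ < q → f * ∏ q ∈ T, g q ∈ q := by
    intro q hq hpos
    by_cases hfq : f ∈ q
    · exact q.mul_mem_right _ hfq
    · have : (⟨q, hq⟩ : PrimeSpectrum R) ∈ T := Finset.mem_filter.2 ⟨Set.Finite.mem_toFinset _ |>.2 hfq, hpos.ne'⟩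
      exact q.mul_mem_left _ (Ideal.mem_of_dvd _ (Finset.dvd_prod_of_mem g this) (hg _ this).1)
  have H := CAlgH2.finite_of_forall_gt_mem ⊥ _ hf' key
  have hle : ringKrullDim R ≤ 1 := by
    rw [ringKrullDim, show (1 : WithBot ℕ∞) = ((1 : ℕ) : WithBot ℕ∞) from rfl]
    refine iSup_le fun l => ?_
    by_contra hl
    have hl2 : 2 ≤ l.length := by
      have : ¬ l.length ≤ 1 := fun h => hl (by exact_mod_cast h)
      omega
    have h1 : (l ⟨0, by omega⟩).asIdeal < (l ⟨1, by omega⟩).asIdeal := l.strictMono (by simp [Fin.lt_def])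
    have h2 : (l ⟨1, by omega⟩).asIdeal < (l ⟨2, by omega⟩).asIdeal := l.strictMono (by simp [Fin.lt_def])
    have m1 := H _ (l ⟨1, by omega⟩).2 (bot_le.trans_lt h1)
    have m2 := H _ (l ⟨2, by omega⟩).2 (bot_le.trans_lt (h1.trans h2))
    exact h2.not_ge (m2.2 m1.1 h2.le)
  exact absurd (hdim.trans hle) (by decide)

end Groth.Agent.S2160
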