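import Groth.Statements.S2161
import Mathlib

set_option autoImplicit false
set_option linter.style.haveILetI false
set_option linter.style.longLine false
universe u
open CAlg

namespace Groth.Agent.S2161

/-- Let R → S be a ring map whose kernel consists of nilpotent elements, and suppose S is generated as
an R-algebra by elements x for which some power (T − x)ⁿ, n > 0, is the image of a polynomial over
R. Then Spec S → Spec R is a homeomorphism, and for every prime 𝔮 of S over 𝔭 the extension
κ(𝔮)/κ(𝔭) is purely inseparable. -/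
theorem result {R S : Type u} [CommRing R] [CommRing S] [Algebra R S]
    (hker : ∀ r : R, algebraMap R S r = 0 → IsNilpotent r) (G : Set S) (hG : Algebra.adjoin R G = ⊤)
    (hpow : ∀ x ∈ G, ∃ (n : ℕ) (P : Polynomial R), 0 < n ∧
      Polynomial.map (algebraMap R S) P = (Polynomial.X - Polynomial.C x) ^ n) :
    IsHomeomorph (PrimeSpectrum.comap (algebraMap R S)) ∧
      ∀ (q : Ideal S) [q.IsPrime] (p : Ideal R) [p.IsPrime] [q.LiesOver p],
        @IsPurelyInseparable p.ResidueField q.ResidueField _ _
          (Ideal.ResidueField.mapₐ p q (Algebra.ofId R S) (q.over_def p)).toRingHom.toAlgebra := by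
--- body
  classical
  letI hint : Algebra.IsIntegral R S := by
    refine ⟨fun x => ?_⟩
    have hx : x ∈ Algebra.adjoin R G := hG ▸ Algebra.mem_top
    induction hx using Algebra.adjoin_induction with
    | mem x hx =>
      rcases subsingleton_or_nontrivial S with _ | _
      · exact ⟨1, Polynomial.monic_one, Subsingleton.elim _ _⟩
      obtain ⟨n, P, hn, hP⟩ := hpow x hx
      obtain ⟨Q, hQ, -, hQm⟩ := Polynomial.lifts_and_natDegree_eq_and_monic
        ((Polynomial.mem_lifts _).2 ⟨P, hP⟩) ((Polynomial.monic_X_sub_C x).pow n)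
      refine ⟨Q, hQm, ?_⟩
      rw [← Polynomial.eval_map, hQ]
      simp [hn.ne']
    | algebraMap r => exact isIntegral_algebraMap
    | add a b _ _ ha hb => exact ha.add hb
    | mul a b _ _ ha hb => exact ha.mul hb
  have key : ∀ (Ω : Type u) [Field Ω] (f₁ f₂ : S →+* Ω),
      f₁.comp (algebraMap R S) = f₂.comp (algebraMap R S) → f₁ = f₂ := by
    intro Ω _ f₁ f₂ h
    refine RingHom.ext fun x => ?_
    have hx : x ∈ Algebra.adjoin R G := hG ▸ Algebra.mem_top
    induction hx using Algebra.adjoin_induction with
    | mem x hx =>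
      obtain ⟨n, P, hn, hP⟩ := hpow x hx
      have h1 : P.map (f₁.comp (algebraMap R S)) = (Polynomial.X - Polynomial.C (f₁ x)) ^ n := by
        rw [← Polynomial.map_map, hP]; simp
      have h2 : P.map (f₂.comp (algebraMap R S)) = (Polynomial.X - Polynomial.C (f₂ x)) ^ n := by
        rw [← Polynomial.map_map, hP]; simp
      rw [h, h2] at h1
      have := congrArg (Polynomial.eval (f₁ x)) h1
      simp [hn.ne', sub_eq_zero] at this
      exact this
    | algebraMap r => exact RingHom.congr_fun h r
    | add a b _ _ ha hb => rw [map_add, map_add, ha, hb]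
    | mul a b _ _ ha hb => rw [map_mul, map_mul, ha, hb]
  refine ⟨isHomeomorph_iff_continuous_isClosedMap_bijective.2
    ⟨PrimeSpectrum.continuous_comap _, PrimeSpectrum.isClosedMap_comap_of_isIntegral _ hint.isIntegral, ?_, ?_⟩, ?_⟩
  · intro q₁ q₂ h
    let p := q₂.asIdeal.under R
    haveI : q₁.asIdeal.LiesOver p := ⟨(congrArg PrimeSpectrum.asIdeal h).symm⟩
    haveI : q₂.asIdeal.LiesOver p := ⟨rfl⟩
    let m₁ : p.ResidueField →ₐ[R] q₁.asIdeal.ResidueField := Ideal.ResidueField.mapₐ p q₁.asIdeal (Algebra.ofId R S) (q₁.asIdeal.over_def p)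
    let m₂ : p.ResidueField →ₐ[R] q₂.asIdeal.ResidueField := Ideal.ResidueField.mapₐ p q₂.asIdeal (Algebra.ofId R S) (q₂.asIdeal.over_def p)
    letI := m₁.toRingHom.toAlgebra
    letI := m₂.toRingHom.toAlgebra
    let Ω := AlgebraicClosure q₂.asIdeal.ResidueField
    haveI : IsScalarTower R p.ResidueField q₁.asIdeal.ResidueField := IsScalarTower.of_algebraMap_eq fun r => (m₁.commutes r).symm
    haveI : Algebra.IsAlgebraic p.ResidueField q₁.asIdeal.ResidueField := by
      haveI : Algebra.IsIntegral R (S ⧸ q₁.asIdeal) := Algebra.IsIntegral.of_surjective (Ideal.Quotient.mkₐ R q₁.asIdeal) Ideal.Quotient.mk_surjective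
      refine ⟨fun x => ?_⟩
      obtain ⟨a, b, hb, rfl⟩ := IsFractionRing.div_surjective (A := S ⧸ q₁.asIdeal) x
      exact (((Algebra.IsIntegral.isIntegral (R := R) a).map (IsScalarTower.toAlgHom R _ q₁.asIdeal.ResidueField)).tower_top.mul
        ((((Algebra.IsIntegral.isIntegral (R := R) b).map (IsScalarTower.toAlgHom R _ q₁.asIdeal.ResidueField)).tower_top (A := p.ResidueField)).inv)).isAlgebraic
    let φ : q₁.asIdeal.ResidueField →ₐ[p.ResidueField] Ω := IsAlgClosed.lift
    let f₁ : S →+* Ω := φ.toRingHom.comp (algebraMap S q₁.asIdeal.ResidueField)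
    let f₂ : S →+* Ω := (algebraMap q₂.asIdeal.ResidueField Ω).comp (algebraMap S q₂.asIdeal.ResidueField)
    have hf : f₁ = f₂ := key Ω f₁ f₂ (RingHom.ext fun r => by
      show φ (algebraMap S q₁.asIdeal.ResidueField (algebraMap R S r)) = algebraMap q₂.asIdeal.ResidueField Ω (algebraMap S q₂.asIdeal.ResidueField (algebraMap R S r))
      rw [← IsScalarTower.algebraMap_apply R S q₁.asIdeal.ResidueField, ← IsScalarTower.algebraMap_apply R S q₂.asIdeal.ResidueField, ← m₁.commutes, ← m₂.commutes]
      exact φ.commutes _)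
    refine PrimeSpectrum.ext (Ideal.ext fun x => ?_)
    rw [← Ideal.algebraMap_residueField_eq_zero (I := q₁.asIdeal), ← Ideal.algebraMap_residueField_eq_zero (I := q₂.asIdeal),
      ← map_eq_zero φ, ← map_eq_zero (algebraMap q₂.asIdeal.ResidueField Ω)]
    exact Iff.of_eq (congrArg (· = 0) (RingHom.congr_fun hf x))
  · intro p
    obtain ⟨Q, -, hQ, hQp⟩ := Ideal.exists_ideal_over_prime_of_isIntegral p.asIdeal (⊥ : Ideal S) (by
      intro r hr
      obtain ⟨n, hn⟩ := hker r (by simpa using hr)
      exact p.isPrime.mem_of_pow_mem n (hn ▸ p.asIdeal.zero_mem))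
    exact ⟨⟨Q, hQ⟩, PrimeSpectrum.ext hQp⟩
  · intro q _ p _ _
    letI := (Ideal.ResidueField.mapₐ p q (Algebra.ofId R S) (q.over_def p)).toRingHom.toAlgebra
    haveI : IsScalarTower R p.ResidueField q.ResidueField :=
      IsScalarTower.of_algebraMap_eq fun r => ((Ideal.ResidueField.mapₐ p q (Algebra.ofId R S) (q.over_def p)).commutes r).symm
    rw [isPurelyInseparable_iff_perfectClosure_eq_top, eq_top_iff]
    intro z _
    have hmem : ∀ x : S, algebraMap S q.ResidueField x ∈ perfectClosure p.ResidueField q.ResidueField := by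
      intro x
      have hx : x ∈ Algebra.adjoin R G := hG ▸ Algebra.mem_top
      induction hx using Algebra.adjoin_induction with
      | mem x hx =>
        obtain ⟨n, P, hn, hP⟩ := hpow x hx
        rw [mem_perfectClosure_iff_natSepDegree_eq_one]
        set y := algebraMap S q.ResidueField x
        have hP' : (P.map (algebraMap R p.ResidueField)).map (algebraMap p.ResidueField q.ResidueField) =
            (Polynomial.X - Polynomial.C y) ^ n := by
          rw [Polynomial.map_map, ← IsScalarTower.algebraMap_eq, IsScalarTower.algebraMap_eq R S q.ResidueField,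
            ← Polynomial.map_map, hP]
          simp [y]
        have hy : Polynomial.aeval y (P.map (algebraMap R p.ResidueField)) = 0 := by
          rw [← Polynomial.eval_map_algebraMap, hP']; simp [hn.ne']
        have hdvd := Polynomial.map_dvd (algebraMap p.ResidueField q.ResidueField) (minpoly.dvd _ y hy)
        rw [hP'] at hdvd
        have hne : ((Polynomial.X - Polynomial.C y) ^ n) ≠ 0 := pow_ne_zero _ (Polynomial.X_sub_C_ne_zero y)
        have hm0 : minpoly p.ResidueField y ≠ 0 := by
          intro h0
          rw [h0, Polynomial.map_zero, zero_dvd_iff] at hdvd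
          exact hne hdvd
        rw [Polynomial.natSepDegree_eq_of_splits _ (((Polynomial.Splits.X_sub_C y).pow n).of_dvd hne hdvd), Finset.card_eq_one]
        refine ⟨y, Finset.eq_singleton_iff_unique_mem.2 ⟨?_, fun w hw => ?_⟩⟩
        · rw [Multiset.mem_toFinset, Polynomial.mem_aroots]
          exact ⟨hm0, minpoly.aeval _ _⟩
        · rw [Multiset.mem_toFinset, Polynomial.mem_aroots] at hw
          obtain ⟨c, hc⟩ := hdvd
          have := congrArg (Polynomial.eval w) hc
          rw [Polynomial.eval_mul, Polynomial.eval_map_algebraMap, hw.2, zero_mul] at this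
          simp [hn.ne', sub_eq_zero] at this
          exact this
      | algebraMap r =>
        rw [← IsScalarTower.algebraMap_apply, IsScalarTower.algebraMap_apply R p.ResidueField q.ResidueField]
        exact IntermediateField.algebraMap_mem _ _
      | add a b _ _ ha hb => rw [map_add]; exact add_mem ha hb
      | mul a b _ _ ha hb => rw [map_mul]; exact mul_mem ha hb
    obtain ⟨a, b, -, rfl⟩ := IsFractionRing.div_surjective (A := S ⧸ q) z
    obtain ⟨a, rfl⟩ := Ideal.Quotient.mk_surjective a
    obtain ⟨b, rfl⟩ := Ideal.Quotient.mk_surjective b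
    exact div_mem (hmem a) (hmem b)

end Groth.Agent.S2161
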