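import Groth.Statements.S2163
import Mathlib

set_option autoImplicit false
set_option linter.style.haveILetI false
set_option linter.style.longLine false
universe u
open CAlg

namespace Groth.Agent.S2163

/-- A ring `R` is coherent — every finitely generated ideal is a finitely presented module — if and only
if for every index set `A` (in the same universe) the product module `R^A` is flat. -/
theorem result {R : Type u} [CommRing R] :
    (∀ I : Ideal R, I.FG → Module.FinitePresentation R I) ↔ ∀ (A : Type u), Module.Flat R (A → R) := by
--- body
  classical
  constructor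
  · intro h A
    refine Module.Flat.of_forall_isTrivialRelation fun {l f x} hx => ?_
    let I : Ideal R := Submodule.span R (Set.range f)
    haveI hFP : Module.FinitePresentation R I := h I (Submodule.fg_span (Set.finite_range f))
    let L : (Fin l → R) →ₗ[R] I := (Fintype.linearCombination R f).codRestrict I fun a => by
      rw [Fintype.linearCombination_apply]
      exact Submodule.sum_mem _ fun i _ => Submodule.smul_mem _ _ (Submodule.subset_span ⟨i, rfl⟩)
    have hL : Function.Surjective L := by
      rintro ⟨y, hy⟩
      obtain ⟨a, ha⟩ := Submodule.mem_span_range_iff_exists_fun R |>.1 hy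
      exact ⟨a, Subtype.ext (by simpa [L, Fintype.linearCombination_apply] using ha)⟩
    obtain ⟨k, g, hg⟩ := Submodule.fg_iff_exists_fin_generating_family.1 (Module.FinitePresentation.fg_ker L hL)
    have hmem : ∀ a : A, (fun i => x i a) ∈ Submodule.span R (Set.range g) := fun a => by
      rw [hg, LinearMap.mem_ker]
      refine Subtype.ext ?_
      have := congrFun hx a
      simpa [L, Fintype.linearCombination_apply, mul_comm] using this
    choose c hc using fun a => Submodule.mem_span_range_iff_exists_fun R |>.1 (hmem a)
    refine ⟨k, fun i j => g j i, fun j a => c a j, fun i => ?_, fun j => ?_⟩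
    · funext a
      have := congrFun (hc a) i
      simp only [Finset.sum_apply, Pi.smul_apply, smul_eq_mul] at this ⊢
      rw [← this]
      exact Finset.sum_congr rfl fun j _ => mul_comm _ _
    · have hj : g j ∈ LinearMap.ker L := hg ▸ Submodule.subset_span ⟨j, rfl⟩
      have := congrArg Subtype.val (LinearMap.mem_ker.1 hj)
      simpa [L, Fintype.linearCombination_apply, mul_comm] using this
  · intro h I hI
    obtain ⟨l, f, hf⟩ := Submodule.fg_iff_exists_fin_generating_family.1 hI
    let L : (Fin l → R) →ₗ[R] I := (Fintype.linearCombination R f).codRestrict I fun a => by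
      rw [Fintype.linearCombination_apply]
      exact Submodule.sum_mem _ fun i _ => Submodule.smul_mem _ _ (hf ▸ Submodule.subset_span ⟨i, rfl⟩)
    have hL : Function.Surjective L := by
      rintro ⟨y, hy⟩
      obtain ⟨a, ha⟩ := Submodule.mem_span_range_iff_exists_fun R |>.1 (hf.symm ▸ hy : y ∈ Submodule.span R (Set.range f))
      exact ⟨a, Subtype.ext (by simpa [L, Fintype.linearCombination_apply] using ha)⟩
    refine Module.finitePresentation_of_surjective L hL ?_
    let K := LinearMap.ker L
    let x : Fin l → (K → R) := fun i a => a.1 i
    have hx : ∑ i, f i • x i = 0 := by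
      funext a
      have h0 : ∑ i, a.1 i • f i = 0 := by
        rw [← Fintype.linearCombination_apply]
        exact congrArg Subtype.val (LinearMap.mem_ker.1 a.2)
      rw [Finset.sum_apply]
      show ∑ i, f i * a.1 i = 0
      simpa [mul_comm] using h0
    haveI := h K
    obtain ⟨k, c, y, hxy, hc⟩ := Module.Flat.isTrivialRelation_of_sum_smul_eq_zero hx
    let v : Fin k → (Fin l → R) := fun j i => c i j
    have hv : ∀ j, v j ∈ K := fun j => by
      refine LinearMap.mem_ker.2 (Subtype.ext ?_)
      simpa [L, v, Fintype.linearCombination_apply, mul_comm] using hc j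
    have hK : K = Submodule.span R (Set.range v) := by
      refine le_antisymm (fun a ha => ?_) (Submodule.span_le.2 (Set.range_subset_iff.2 hv))
      refine Submodule.mem_span_range_iff_exists_fun R |>.2 ⟨fun j => y j ⟨a, ha⟩, ?_⟩
      funext i
      have := congrFun (hxy i) ⟨a, ha⟩
      simpa [x, v, mul_comm] using this.symm
    show K.FG
    rw [hK]
    exact Submodule.fg_span (Set.finite_range v)

end Groth.Agent.S2163
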