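import Groth.Statements.S2165
import Groth.Agent.CAlg9.CIT.Completion
import Groth.Agent.CAlg9.CIT.Regular

set_option autoImplicit false
universe u
open LCI

namespace Groth.Agent.S2165

/-- Let R be a regular ring, p a prime ideal of R and f_1, ..., f_r a regular sequence of R contained in
p. Then the local ring R_p/(f_1, ..., f_r) is a complete intersection: its completion is a regular
local ring modulo a regular sequence. The instance hypothesis that the quotient is local always
holds. -/
theorem result {R : Type u} [CommRing R] [IsRegularRing R]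
    (p : Ideal R) [p.IsPrime] (rs : List R) (hmem : ∀ r ∈ rs, r ∈ p)
    (hreg : RingTheory.Sequence.IsRegular R rs)
    [IsLocalRing (Localization.AtPrime p ⧸
      Ideal.map (algebraMap R (Localization.AtPrime p)) (Ideal.ofList rs))] :
    Pi1.IsCompleteIntersection (Localization.AtPrime p ⧸
      Ideal.map (algebraMap R (Localization.AtPrime p)) (Ideal.ofList rs)) := by
  let J := Ideal.map (algebraMap R (Localization.AtPrime p)) (Ideal.ofList rs)
  rw [CAlg9.CIT.isCompleteIntersection_iff_isRegularIdeal (Ideal.Quotient.mk J) Ideal.Quotient.mk_surjective,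
    Ideal.mk_ker]
  refine ⟨rs.map (algebraMap R (Localization.AtPrime p)), ⟨hreg.toIsWeaklyRegular.of_flat, ?_⟩,
    (Ideal.map_ofList (algebraMap R (Localization.AtPrime p)) rs).symm⟩
  rw [Ideal.smul_eq_mul, Ideal.mul_top]
  refine (ne_top_of_le_ne_top (IsLocalRing.maximalIdeal.isMaximal (Localization.AtPrime p)).ne_top ?_).symm
  rw [← Ideal.map_ofList, ← Localization.AtPrime.map_eq_maximalIdeal]
  exact Ideal.map_mono (Ideal.span_le.2 fun r hr => hmem r hr)

end Groth.Agent.S2165
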