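import Groth.Statements.S2167
import Groth.Agent.CAlg9.CIT.Completion
import Groth.Agent.CAlg9.CIT.Regular

set_option autoImplicit false
universe u
open LCI

namespace Groth.Agent.S2167

/-- Equivalence of (2) and (3), special case with R already a regular local ring: for a regular local
ring R and a proper ideal I, the ideal I is generated by a regular sequence if and only if the
conormal module I/I^2 can be generated by (dim R - dim R/I) elements, the inequality below being the
additive form of that count. -/
theorem result {R : Type u} [CommRing R] [IsRegularLocalRing R]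
    (I : Ideal R) (hI : I ≠ ⊤) :
    (∃ rs : List R, Ideal.ofList rs = I ∧ RingTheory.Sequence.IsRegular R rs) ↔
      (((⊤ : Submodule (R ⧸ I) I.Cotangent).spanFinrank : WithBot ℕ∞) + ringKrullDim (R ⧸ I)
        ≤ ringKrullDim R) := by
  classical
  have hle : I ≤ IsLocalRing.maximalIdeal R := IsLocalRing.le_maximalIdeal hI
  have hμ : (⊤ : Submodule (R ⧸ I) I.Cotangent).spanFinrank = I.spanFinrank := by
    have hres : ∀ s : Set I.Cotangent,
        (Submodule.span (R ⧸ I) s = ⊤ ↔ Submodule.span R s = ⊤) := fun s => by
      have h1 : (Submodule.span (R ⧸ I) s).restrictScalars R = Submodule.span R s :=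
        Submodule.restrictScalars_span R (R ⧸ I) Ideal.Quotient.mk_surjective s
      rw [← h1, Submodule.restrictScalars_eq_top_iff]
    refine le_antisymm ?_ ?_
    · obtain ⟨s, hs, hspan⟩ := (IsNoetherian.noetherian I).exists_span_finset_card_eq_spanFinrank
      have hsI : ∀ x ∈ s, x ∈ I := fun x hx => hspan ▸ Submodule.subset_span hx
      let t := s.attach.image fun x => I.toCotangent ⟨x.1, hsI x.1 x.2⟩
      have ht : Submodule.span (R ⧸ I) (t : Set I.Cotangent) = ⊤ := by
        rw [hres, eq_top_iff]
        rintro y -
        obtain ⟨z, rfl⟩ := I.toCotangent_surjective y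
        have h3 : (t : Set I.Cotangent) = I.toCotangent '' Subtype.val ⁻¹' (s : Set R) := by
          ext w
          simp only [t, Finset.coe_image, Finset.coe_attach, Set.image_univ, Set.mem_range, Set.mem_image,
            Set.mem_preimage, Finset.mem_coe]
          exact ⟨fun ⟨x, hx⟩ => ⟨⟨x.1, hsI x.1 x.2⟩, x.2, hx⟩, fun ⟨x, hx, e⟩ => ⟨⟨x.1, hx⟩, e⟩⟩
        rw [h3, Submodule.span_image]
        refine ⟨z, ?_, rfl⟩
        have h7 : (z : R) ∈ (Submodule.span R ((Subtype.val : I → R) ⁻¹' (s : Set R))).map I.subtype := by
          rw [Submodule.map_span]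
          have h8 : (s : Set R) ⊆ I.subtype '' ((Subtype.val : I → R) ⁻¹' (s : Set R)) :=
            fun x hx => ⟨⟨x, hsI x hx⟩, hx, rfl⟩
          have h9 : (z : R) ∈ Submodule.span R (s : Set R) := by rw [hspan]; exact z.2
          exact Submodule.span_mono h8 h9
        obtain ⟨z', hz', e⟩ := h7
        rw [show z = z' from Subtype.ext e.symm]
        exact hz'
      calc _ = (Submodule.span (R ⧸ I) (t : Set I.Cotangent)).spanFinrank := by rw [ht]
        _ ≤ (t : Set I.Cotangent).ncard := Submodule.spanFinrank_span_le_ncard_of_finite t.finite_toSet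
        _ ≤ I.spanFinrank := by
          rw [Set.ncard_coe_finset, ← hs]
          exact Finset.card_image_le.trans (Finset.card_attach).le
    · have hfin : Module.Finite R I.Cotangent := Module.Finite.of_surjective _ I.toCotangent_surjective
      have hfg : (⊤ : Submodule (R ⧸ I) I.Cotangent).FG :=
        (Module.Finite.of_restrictScalars_finite R (R ⧸ I) I.Cotangent).fg_top
      obtain ⟨t, ht, hspan⟩ := hfg.exists_span_finset_card_eq_spanFinrank
      choose l hl using I.toCotangent_surjective
      let J := Submodule.span R ((fun y => (l y : R)) '' (t : Set I.Cotangent))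
      have hJ : J ≤ I := Submodule.span_le.2 (by rintro _ ⟨y, -, rfl⟩; exact (l y).2)
      have h2 : I ≤ J ⊔ I • I := fun x hx => by
        have h4 : I.toCotangent ⟨x, hx⟩ ∈ Submodule.span R (t : Set I.Cotangent) := by
          rw [(hres _).1 hspan]; trivial
        have h5 : (t : Set I.Cotangent) = I.toCotangent '' (l '' (t : Set I.Cotangent)) := by
          rw [Set.image_image]; simp [hl]
        rw [h5, Submodule.span_image] at h4
        obtain ⟨z, hz, he⟩ := h4
        rw [Ideal.toCotangent_eq] at he
        have hzJ : (z : R) ∈ J := by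
          have := Submodule.mem_map_of_mem (f := I.subtype) hz
          rw [Submodule.map_span, Set.image_image] at this
          exact this
        rw [Submodule.mem_sup]
        exact ⟨z, hzJ, x - z, by
          rw [Ideal.smul_eq_mul, ← pow_two]
          simpa using neg_mem he, by ring⟩
      have h6 : I ≤ J := Submodule.le_of_le_smul_of_le_jacobson_bot (IsNoetherian.noetherian I)
        (hle.trans (IsLocalRing.maximalIdeal_le_jacobson ⊥)) h2
      calc I.spanFinrank = J.spanFinrank := by rw [le_antisymm hJ h6]
        _ ≤ ((fun y => (l y : R)) '' (t : Set I.Cotangent)).ncard :=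
          Submodule.spanFinrank_span_le_ncard_of_finite (t.finite_toSet.image _)
        _ ≤ _ := (Set.ncard_image_le t.finite_toSet).trans (by rw [Set.ncard_coe_finset, ht])
  have : Nontrivial (R ⧸ I) := Ideal.Quotient.nontrivial_iff.2 hI
  have : IsLocalRing (R ⧸ I) := IsLocalRing.of_surjective' _ Ideal.Quotient.mk_surjective
  obtain ⟨d, hd⟩ := CAlg9.CIT.exists_dim_eq (R ⧸ I)
  obtain ⟨e, he⟩ := CAlg9.CIT.exists_dim_eq R
  have h := CAlg9.CIT.isRegularIdeal_iff_dim I hle d e hd he
  have h' := CAlg9.CIT.dim_le_add I hle d e hd he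
  rw [hμ, hd, he]
  constructor
  · rintro ⟨rs, h1, h2⟩
    have := h.1 ⟨rs, h2, h1⟩
    exact_mod_cast (by omega : I.spanFinrank + d ≤ e)
  · intro hle'
    have h2 : I.spanFinrank + d ≤ e := by exact_mod_cast hle'
    obtain ⟨rs, h3, h4⟩ := h.2 (by omega)
    exact ⟨rs, h4, h3⟩

end Groth.Agent.S2167
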