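import Groth.Statements.S2168
import Groth.Agent.TorDimLCI19.LocalizeCI

set_option autoImplicit false
universe u
open LCI

namespace Groth.Agent.S2168

/-- Let A be a Noetherian local ring which is a complete intersection (its completion is a regular local
ring modulo a regular sequence) and let p be a prime ideal of A. Then the localization A_p is a
complete intersection as well. -/
theorem result {A : Type u} [CommRing A] [IsNoetherianRing A]
    [IsLocalRing A] (hA : Pi1.IsCompleteIntersection A) (p : Ideal A) [p.IsPrime] :
    Pi1.IsCompleteIntersection (Localization.AtPrime p) := by
  exact TorDimLCI19.allCI_of_ci hA p

end Groth.Agent.S2168
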