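import Groth.Statements.S2170
import Groth.Agent.Num91.Quad

set_option autoImplicit false
open Finset
open Models

namespace Groth.Agent.S2170

/-- Let A be a symmetric real n × n matrix with non-negative off-diagonal entries and m a vector with
positive entries such that for every i, ∑_{j ≠ i} A_{ij} m_j ≤ −A_{ii} m_i. Then the kernel of A is
the span of the vectors equal to m on an index set I and zero off I, for those I such that A_{ij} =
0 whenever i ∈ I and j ∉ I and such that equality holds in the above inequality for every i ∈ I. The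
published statement omits the symmetry of A (without which it fails) and applies it only to
symmetric matrices; stated here with A symmetric. -/
theorem result {n : ℕ} (A : Matrix (Fin n) (Fin n) ℝ) (m : Fin n → ℝ)
    (hsymm : A.IsSymm) (hA : ∀ i j, i ≠ j → 0 ≤ A i j) (hm : ∀ i, 0 < m i)
    (hle : ∀ i, ∑ j ∈ univ.erase i, A i j * m j ≤ -(A i i * m i)) :
    LinearMap.ker (Matrix.mulVecLin A) = Submodule.span ℝ
      {x : Fin n → ℝ | ∃ I : Finset (Fin n), (∀ i ∈ I, ∀ j ∉ I, A i j = 0) ∧
        (∀ i ∈ I, ∑ j ∈ univ.erase i, A i j * m j = -(A i i * m i)) ∧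
        x = fun i => if i ∈ I then m i else 0} := by
  have heq : ∀ i, A.mulVec m i = 0 ↔ ∑ j ∈ univ.erase i, A i j * m j = -(A i i * m i) := fun i => by
    rw [Groth.Agent.Num91.mulVec_eq_diag_add]
    exact ⟨fun h => by linarith, fun h => by linarith⟩
  have hle' : ∀ i, A.mulVec m i ≤ 0 := fun i => by
    rw [Groth.Agent.Num91.mulVec_eq_diag_add]; linarith [hle i]
  apply le_antisymm
  · intro x hx
    have hx0 : A.mulVec x = 0 := by simpa using hx
    set y : Fin n → ℝ := fun i => x i / m i with hy
    have hxy : (fun i => m i * y i) = x := funext fun i => by simp only [hy]; exact mul_div_cancel₀ _ (hm i).ne'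
    obtain ⟨h1, h2⟩ := (Groth.Agent.Num91.quad_zero_iff_aux A hsymm hA m hm hle' y).2
      (by rw [hxy, hx0]; simp)
    have hsum : x = ∑ c ∈ (univ.image y).erase 0, c • fun i => if y i = c then m i else 0 := by
      funext i
      rw [Finset.sum_apply]
      simp only [Pi.smul_apply, smul_eq_mul, mul_ite, mul_zero]
      rw [Finset.sum_ite_eq]
      by_cases h : y i = 0
      · simp [h, ← congrFun hxy i]
      · simp [h, ← congrFun hxy i, mul_comm]
    rw [hsum]
    refine Submodule.sum_mem _ fun c hc => Submodule.smul_mem _ c (Submodule.subset_span ?_)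
    refine ⟨univ.filter fun i => y i = c, ?_, ?_, ?_⟩
    · intro i hi j hj
      by_contra hne
      simp only [mem_filter, mem_univ, true_and] at hi hj
      exact hj ((h2 i j hne).symm.trans hi)
    · intro i hi
      simp only [mem_filter, mem_univ, true_and] at hi
      exact (heq i).1 (h1 i (hi ▸ (Finset.mem_erase.1 hc).1))
    · funext i; simp
  · rw [Submodule.span_le]
    rintro _ ⟨I, hI, hI2, rfl⟩
    simp only [SetLike.mem_coe, LinearMap.mem_ker, Matrix.mulVecLin_apply]
    funext k
    by_cases hk : k ∈ I
    · refine Eq.trans ?_ ((heq k).2 (hI2 k hk))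
      simp only [Matrix.mulVec, dotProduct]
      refine Finset.sum_congr rfl fun j _ => ?_
      by_cases hj : j ∈ I
      · simp [hj]
      · simp [hj, hI k hk j hj]
    · simp only [Matrix.mulVec, dotProduct, Pi.zero_apply]
      refine Finset.sum_eq_zero fun j _ => ?_
      by_cases hj : j ∈ I
      · simp [hj, ← hsymm.apply k j, hI j hj k hk]
      · simp [hj]

end Groth.Agent.S2170
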