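import Groth.Statements.S2187
import Groth.Agent.LCI19.FVasc2

set_option autoImplicit false
universe u
open CategoryTheory
open LCI

namespace Groth.Agent.S2187

/-- Let R be a Noetherian local ring and I an ideal of finite projective dimension as an R-module. If F
is a direct summand of the conormal module I/I^2 which is isomorphic to R/I, then there is a
nonzerodivisor x in I whose class in I/I^2 generates F. -/
theorem result {R : Type u} [CommRing R]
    [IsNoetherianRing R] [IsLocalRing R] (I : Ideal R) (n : ℕ)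
    (hpd : HasProjectiveDimensionLT (ModuleCat.of R I) n)
    (F G : Submodule (R ⧸ I) I.Cotangent) (hFG : IsCompl F G) (e : F ≃ₗ[R ⧸ I] (R ⧸ I)) :
    ∃ (x : R) (hx : x ∈ I), x ∈ nonZeroDivisors R ∧
      Submodule.span (R ⧸ I) {I.toCotangent ⟨x, hx⟩} = F := by
  by_cases hI : I = ⊤
  · have : Subsingleton (R ⧸ I) := Ideal.Quotient.subsingleton_iff.2 hI
    have : Subsingleton I.Cotangent := Module.subsingleton (R ⧸ I) _
    exact ⟨1, hI ▸ Submodule.mem_top, one_mem _, Subsingleton.elim _ _⟩
  obtain ⟨x, hx, hreg, hspan⟩ := LCI19.exists_regularSeq_of_summand I hI n hpd F G hFG 1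
    (e.trans (LinearEquiv.funUnique (Fin 1) (R ⧸ I) (R ⧸ I)).symm)
  refine ⟨x 0, hx 0, ?_, ?_⟩
  · have h := hreg.toIsWeaklyRegular
    rw [List.ofFn_succ, RingTheory.Sequence.isWeaklyRegular_cons_iff] at h
    exact mem_nonZeroDivisors_iff_right.2 fun y hy => h.1 (by simpa [mul_comm] using hy)
  · rw [← hspan]
    congr 1
    ext y
    simp [Fin.exists_fin_one, eq_comm]

end Groth.Agent.S2187
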