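import Groth.Statements.S2198
import Groth.Agent.QCAffine72.Sections
import Groth.Agent.QCAffine72.Flat
import Groth.Agent.QCAffine72.Affine
import Groth.Agent.S2214
import Mathlib.CategoryTheory.Presentable.Basic
import Mathlib.RingTheory.Flat.EquationalCriterion
import Mathlib.Algebra.Category.ModuleCat.Projective

set_option autoImplicit false
universe u
open CategoryTheory AlgebraicGeometry
open QCohCat

namespace Groth.Agent.S2198

open CategoryTheory.Limits AlgebraicGeometry Groth.Agent.QC70 in
set_option backward.isDefEq.respectTransparency.types false in
theorem projective_unit (X : Scheme.{u}) [CompactSpace X] [QuasiSeparatedSpace X] (R : Type u) [CommRing R]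
    (e : QCohCat.QCoh X ≌ ModuleCat.{u} R) : Projective (QCAffine72.unitQC X) := by
  let M := e.functor.obj (QCAffine72.unitQC X)
  have hproj : ∀ U : X.affineOpens,
      Module.Projective Γ(X, U.1) ((e.inverse ⋙ QCAffine72.sect U.2).obj M) := by
    intro U
    have : Module.Projective Γ(X, U.1) ((QCAffine72.sect U.2).obj (QCAffine72.unitQC X)) := by
      have : Module.Projective Γ(X, U.1) Γ(unitMod X, U.1) :=
        (inferInstance : Module.Projective Γ(X, U.1) Γ(X, U.1))
      exact Module.Projective.of_equiv (Props58.LocFree.specTopEquiv (unitMod X) U.2).symm
    exact Module.Projective.of_equiv (M := (QCAffine72.sect U.2).obj (QCAffine72.unitQC X))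
      ((QCAffine72.sect U.2).mapIso (e.unitIso.app (QCAffine72.unitQC X))).toLinearEquiv
  have hflat : Module.Flat R M := by
    have : e.inverse.Additive := by
      have := preservesBinaryBiproducts_of_preservesBinaryProducts e.inverse
      exact Functor.additive_of_preservesBinaryBiproducts _
    have : ∀ U : X.affineOpens, (e.inverse ⋙ QCAffine72.sect U.2).Additive := fun U => inferInstance
    have : ∀ U : X.affineOpens, PreservesFiniteLimits (e.inverse ⋙ QCAffine72.sect U.2) := fun U =>
      haveI := QCAffine72.preservesFiniteLimits_sect U.2
      inferInstance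
    refine QCAffine72.flat_of_jointly_faithful (fun U : X.affineOpens => (Γ(X, U.1) : Type u))
      (fun U => e.inverse ⋙ QCAffine72.sect U.2) (fun U => QCAffine72.ext U.2 ⋙ e.functor)
      (fun U => e.symm.toAdjunction.comp (QCAffine72.sectAdj U.2)) (fun N N' f hf => ?_) M
    exact e.inverse.map_injective (by
      rw [Functor.map_zero]
      exact QCAffine72.eq_zero_of_sect_map _ (fun U : X.affineOpens => U.2)
        (iSup_affineOpens_eq_top X) _ hf)
  have : IsFinitelyPresentable.{u} (QCAffine72.unitQC X) :=
    (Groth.Agent.S2214.result X _).mpr (Props58.LocFree.isFP_of_sections (unitMod X)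
      (fun W : X.affineOpens => W.1) (iSup_affineOpens_eq_top X) (fun W => W.2)
      fun W => (inferInstance : Module.FinitePresentation Γ(X, W.1) Γ(X, W.1)))
  have : IsFinitelyPresentable.{u} M := inferInstance
  have hfp : Module.FinitePresentation R M :=
    QCFilt72.finitePresentation_of_factor (R := CommRingCat.of R) M fun J _ _ D c hc φ =>
      IsFinitelyPresentable.exists_hom_of_isColimit hc φ
  have : Module.Projective R M := Module.Flat.projective_of_finitePresentation
  have : Projective M := M.projective_of_categoryTheory_projective
  exact Projective.of_iso (e.unitIso.app _).symm (e.symm.map_projective_iff M |>.mpr ‹_›)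


/-- For a qcqs scheme X: if quasi-coherent O_X-modules form a category equivalent to that of modules
over some commutative ring R, then X is affine. -/
theorem result (X : Scheme.{u}) [CompactSpace X]
    [QuasiSeparatedSpace X] (R : Type u) [CommRing R]
    (e : QCohCat.QCoh X ≌ ModuleCat.{u} R) : IsAffine X := by
  have := projective_unit X R e
  exact QCAffine72.isAffine_of_projective_unit

end Groth.Agent.S2198
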