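import Groth.Statements.S2201
import Groth.Agent.TorDimLCI19.Main

set_option autoImplicit false
universe u
open LCI

namespace Groth.Agent.S2201

/-- Let R -> S be a flat local homomorphism of Noetherian local rings with S/m_R S regular, and let I in
R and J in S be proper ideals with I S inside J; give S/J its canonical R/I-algebra structure.
Equivalent: (1) J is cut out by a regular sequence while S/J, as an R/I-module, has finite
Tor-dimension; (2) the same with only finitely many nonzero Tor_p^{R/I}(S/J, k), k the residue field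
of R/I; (3) I and J/IS are each cut out by regular sequences (in R, resp. S/IS). Stated as (1) iff
(3) and (2) iff (3). -/
theorem result {R S : Type u} [CommRing R] [CommRing S] [IsNoetherianRing R]
    [IsNoetherianRing S] [IsLocalRing R] [IsLocalRing S] [Algebra R S] [IsLocalHom (algebraMap R S)]
    [Module.Flat R S]
    [IsRegularLocalRing (S ⧸ Ideal.map (algebraMap R S) (IsLocalRing.maximalIdeal R))]
    (I : Ideal R) (J : Ideal S) (hI : I ≠ ⊤) (hJ : J ≠ ⊤) (hIJ : I.map (algebraMap R S) ≤ J)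
    [Algebra (R ⧸ I) (S ⧸ J)] [IsScalarTower R (R ⧸ I) (S ⧸ J)] :
    let P3 := (∃ rs : List R, Ideal.ofList rs = I ∧ RingTheory.Sequence.IsRegular R rs) ∧
      ∃ rs' : List (S ⧸ I.map (algebraMap R S)),
        Ideal.ofList rs' = J.map (Ideal.Quotient.mk (I.map (algebraMap R S))) ∧
          RingTheory.Sequence.IsRegular (S ⧸ I.map (algebraMap R S)) rs'
    let Jreg := ∃ rs : List S, Ideal.ofList rs = J ∧ RingTheory.Sequence.IsRegular S rs
    ((Jreg ∧ DRing.HasFiniteTorDim (R ⧸ I) (S ⧸ J)) ↔ P3) ∧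
      ((Jreg ∧ Set.Finite {p : ℕ | ¬Subsingleton (DRing.Tor (R ⧸ I) p (S ⧸ J)
        ((R ⧸ I) ⧸ (IsLocalRing.maximalIdeal R).map (Ideal.Quotient.mk I)))}) ↔ P3) := by
  intro P3 Jreg
  have h31 : P3 → Jreg ∧ DRing.HasFiniteTorDim (R ⧸ I) (S ⧸ J) := by
    rintro ⟨⟨a, ha, ha'⟩, ⟨b, hb, hb'⟩⟩
    obtain ⟨⟨c, hc, hc'⟩, hfd⟩ :=
      TorDimLCI19.regular_and_finiteTorDim I J hI hJ hIJ ⟨a, ha', ha⟩ ⟨b, hb', hb⟩
    exact ⟨⟨c, hc', hc⟩, hfd⟩
  have h23 : Jreg → Set.Finite {p : ℕ | ¬Subsingleton (DRing.Tor (R ⧸ I) p (S ⧸ J)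
      ((R ⧸ I) ⧸ (IsLocalRing.maximalIdeal R).map (Ideal.Quotient.mk I)))} → P3 := by
    rintro ⟨c, hc, hc'⟩ hfin
    obtain ⟨⟨a, ha, ha'⟩, ⟨b, hb, hb'⟩⟩ :=
      TorDimLCI19.regular_of_finite_tor I J hI hJ hIJ ⟨c, hc', hc⟩ hfin
    exact ⟨⟨a, ha', ha⟩, ⟨b, hb', hb⟩⟩
  exact ⟨⟨fun h => h23 h.1 (TorDimLCI19.finite_tor_of_finiteTorDim _ _ h.2), h31⟩,
    ⟨fun h => h23 h.1 h.2, fun h => ⟨(h31 h).1, TorDimLCI19.finite_tor_of_finiteTorDim _ _ (h31 h).2⟩⟩⟩

end Groth.Agent.S2201
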