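import Groth.Statements.S2202
import Groth.Agent.S2053
import Groth.Agent.TorDimLCI19.Avramov

set_option autoImplicit false
universe u
open LCI

namespace Groth.Agent.S2202

/-- Special case: A and B complete. For a local homomorphism A -> B of complete Noetherian local rings,
the following are equivalent: B is a complete intersection with only finitely many nonzero
Tor^A_p(B, k_A); A is a complete intersection and A -> B factors as A -> S -> B with S Noetherian
local, A -> S flat with regular closed fibre S/m_A S, and S -> B surjective with kernel cut out by a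
regular sequence (a complete intersection homomorphism). -/
theorem result {A B : Type u} [CommRing A] [CommRing B] [IsNoetherianRing A]
    [IsNoetherianRing B] [IsLocalRing A] [IsLocalRing B]
    [IsAdicComplete (IsLocalRing.maximalIdeal A) A] [IsAdicComplete (IsLocalRing.maximalIdeal B) B]
    [Algebra A B] [IsLocalHom (algebraMap A B)] :
    (Pi1.IsCompleteIntersection B ∧
        Set.Finite {p : ℕ | ¬Subsingleton (DRing.Tor A p B (IsLocalRing.ResidueField A))}) ↔
      (Pi1.IsCompleteIntersection A ∧
        ∃ (S : Type u) (_ : CommRing S) (_ : IsNoetherianRing S) (_ : IsLocalRing S) (_ : Algebra A S)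
          (_ : Module.Flat A S)
          (_ : IsRegularLocalRing (S ⧸ Ideal.map (algebraMap A S) (IsLocalRing.maximalIdeal A)))
          (g : S →ₐ[A] B), Function.Surjective g ∧
            ∃ rs : List S, Ideal.ofList rs = RingHom.ker g ∧ RingTheory.Sequence.IsRegular S rs) := by
  constructor
  · rintro ⟨hB, hfin⟩
    obtain ⟨Λ, Λ', _, _, _, n, m, ρ, σ, τ, hΛ, hρ, hσ, hcomm, hflat, hF⟩ :=
      S2053.result (A := A) (B := B)
    have hloc' : IsLocalRing Λ' := by
      rcases hΛ with ⟨-, -, h⟩ | ⟨-, -, ⟨_, _, -⟩⟩
      · let := h.toField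
        infer_instance
      · infer_instance
    have hEGA : EGA41.IsCohenRingEGA Λ ∧ EGA41.IsCohenRingEGA Λ' := by
      rcases hΛ with ⟨hz, h1, h2⟩ | ⟨-, h1, h2⟩
      · refine ⟨Or.inl ⟨h1, ?_⟩, Or.inl ⟨h2, ?_⟩⟩
        · exact (((IsLocalRing.residue A).comp ρ).comp MvPowerSeries.C).charZero
        · have : CharZero (IsLocalRing.ResidueField B) :=
            charZero_of_injective_ringHom (IsLocalRing.ResidueField.map (algebraMap A B)).injective
          exact (((IsLocalRing.residue B).comp σ).comp MvPowerSeries.C).charZero
      · exact ⟨Or.inr h1, Or.inr h2⟩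
    have := (Cohen12.regular_powerSeries_cohen n hEGA.1).1
    have := (Cohen12.regular_powerSeries_cohen m hEGA.2).1
    exact TorDimLCI19.factorization_of_presentation ρ σ τ hρ hσ hcomm hflat hF hB hfin
  · rintro ⟨hA, S, _, _, _, _, _, _, g, hg, rs, hrs, hreg⟩
    exact TorDimLCI19.ci_and_finite_tor_of_factorization hA g hg rs hrs hreg

end Groth.Agent.S2202
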