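import Groth.Statements.S2203
import Mathlib.Algebra.Category.ModuleCat.Abelian
import Mathlib.Algebra.Category.ModuleCat.Limits
import Mathlib.LinearAlgebra.Span.Basic
import Mathlib.CategoryTheory.Adjunction.Limits

set_option autoImplicit false
universe u
open CategoryTheory
open QCohCat

namespace Groth.Agent.S2203

theorem center_eq {A : Type u} [CommRing A] (z : 𝟭 (ModuleCat.{u} A) ⟶ 𝟭 (ModuleCat.{u} A)) :
    ∃ a : A, ∀ M : ModuleCat.{u} A, z.app M = a • 𝟙 M := by
  refine ⟨((z.app (ModuleCat.of A A)).hom (1 : A) : A), fun M => ?_⟩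
  ext x
  have h := congrArg (fun k : ModuleCat.of A A ⟶ M => k.hom (1 : A))
    (z.naturality (ModuleCat.ofHom (LinearMap.toSpanSingleton A M x)))
  change (z.app M).hom ((1 : A) • x) = ((z.app (ModuleCat.of A A)).hom (1 : A) : A) • x at h
  rwa [one_smul] at h

theorem smul_id_inj {A : Type u} [CommRing A] {a a' : A}
    (h : a • 𝟙 (ModuleCat.of A A) = a' • 𝟙 (ModuleCat.of A A)) : a = a' := by
  have h1 : a • (1 : A) = a' • (1 : A) := congrArg (fun k : ModuleCat.of A A ⟶ _ => k.hom (1 : A)) h
  simpa using h1


/-- Ring-isomorphism part of the statement: let A and B be commutative rings whose categories of modules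
are equivalent. Then A and B are isomorphic as rings. (The source moreover describes the equivalence
as base change followed by tensoring with an invertible module.) -/
theorem result (A B : Type u) [CommRing A] [CommRing B]
    (F : ModuleCat.{u} A ≌ ModuleCat.{u} B) : Nonempty (A ≃+* B) := by
  have : F.functor.Additive := F.functor.additive_of_preserves_binary_products
  have key : ∀ b : B, ∃! a : A, ∀ M, F.functor.map (a • 𝟙 M) = b • 𝟙 (F.functor.obj M) := by
    intro b
    let z : 𝟭 (ModuleCat.{u} A) ⟶ 𝟭 (ModuleCat.{u} A) :=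
      { app := fun M => F.functor.preimage (b • 𝟙 (F.functor.obj M))
        naturality := fun M N f => F.functor.map_injective (by simp) }
    obtain ⟨a, ha⟩ := center_eq z
    have h1 : ∀ M, F.functor.map (a • 𝟙 M) = b • 𝟙 (F.functor.obj M) := fun M => by
      rw [← ha M]; exact F.functor.map_preimage _
    exact ⟨a, h1, fun a' ha' => smul_id_inj (F.functor.map_injective (by rw [ha', h1]))⟩
  choose T hT hTu using key
  have onB : ∀ {b b' : B}, (∀ M, b • 𝟙 (F.functor.obj M) = b' • 𝟙 (F.functor.obj M)) → b = b' := by
    intro b b' h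
    let e := F.counitIso.app (ModuleCat.of B B)
    have h2 := congrArg (fun k => e.inv ≫ k ≫ e.hom) (h (F.inverse.obj (ModuleCat.of B B)))
    simp [e] at h2
    exact smul_id_inj h2
  have Tadd : ∀ b b', T (b + b') = T b + T b' := fun b b' => (hTu _ _ fun M => by
    rw [add_smul, F.functor.map_add, hT, hT, ← add_smul]).symm
  have Tone : T 1 = 1 := (hTu _ _ fun M => by
    rw [one_smul, one_smul, F.functor.map_id]).symm
  have Tmul : ∀ b b', T (b * b') = T b * T b' := fun b b' => (hTu _ _ fun M => by
    rw [show (T b * T b') • 𝟙 M = (T b' • 𝟙 M) ≫ (T b • 𝟙 M) by simp [smul_smul],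
      F.functor.map_comp, hT, hT]
    simp [smul_smul]).symm
  let φ : B →+* A := RingHom.mk' ⟨⟨T, Tone⟩, Tmul⟩ Tadd
  refine ⟨(RingEquiv.ofBijective φ ⟨fun b b' h => ?_, fun a => ?_⟩).symm⟩
  · refine onB fun M => ?_
    change T b = T b' at h
    rw [← hT b M, ← hT b' M, h]
  · -- transport `a` to a natural endomorphism of the identity of `ModuleCat B`
    let z : 𝟭 (ModuleCat.{u} B) ⟶ 𝟭 (ModuleCat.{u} B) :=
      { app := fun N => F.counitIso.inv.app N ≫ F.functor.map (a • 𝟙 (F.inverse.obj N)) ≫
          F.counitIso.hom.app N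
        naturality := fun N N' f => by
          have hn : f ≫ F.counitIso.inv.app N' =
              F.counitIso.inv.app N ≫ F.functor.map (F.inverse.map f) :=
            F.counitIso.inv.naturality f
          have hn' : F.functor.map (F.inverse.map f) ≫ F.counitIso.hom.app N' =
              F.counitIso.hom.app N ≫ f := F.counitIso.hom.naturality f
          simp only [Functor.id_obj, Functor.id_map, Category.assoc]
          rw [reassoc_of% hn, ← hn', ← F.functor.map_comp_assoc, ← F.functor.map_comp_assoc]
          simp }
    obtain ⟨b, hb⟩ := center_eq z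
    refine ⟨b, ?_⟩
    change T b = a
    refine (hTu b a fun M => ?_).symm
    rw [← hb]
    have hc : F.counitIso.inv.app (F.functor.obj M) = F.functor.map (F.unitIso.hom.app M) :=
      F.counitInv_app_functor M
    have hc' : F.counitIso.hom.app (F.functor.obj M) = F.functor.map (F.unitIso.inv.app M) :=
      F.counit_app_functor M
    simp only [z, hc, hc', ← Functor.map_comp]
    congr 1
    simp

end Groth.Agent.S2203
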