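import Groth.Statements.S2219
import Groth.Agent.CAlg6.TraceLength

set_option autoImplicit false
universe u
open Disc

namespace Groth.Agent.S2219

/-- Equivalence of (1) and (3): let k be a field and A a finite-dimensional local k-algebra with residue
field k'. Then the trace map Tr_{A/k} is not identically zero if and only if k' is separable over k
and the length of A as a module over itself is not divisible by the characteristic of k (no
condition in characteristic zero). -/
theorem result (k A : Type u) [Field k] [CommRing A]
    [Algebra k A] [FiniteDimensional k A] [IsLocalRing A] :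
    Algebra.trace k A ≠ 0 ↔
      (Algebra.IsSeparable k (IsLocalRing.ResidueField A) ∧
        ∀ p : ℕ, p.Prime → CharP k p → ¬ p ∣ (Module.length A A).toNat) := by
  have key := Groth.Agent.CAlg6.trace_surjective_iff k A
  have hsurj : Algebra.trace k A ≠ 0 ↔ Function.Surjective (Algebra.trace k A) := by
    constructor
    · exact LinearMap.surjective
    · intro h h0
      obtain ⟨x, hx⟩ := h 1
      rw [h0, LinearMap.zero_apply] at hx
      exact zero_ne_one hx
  have hpos : (Module.length A A).toNat ≠ 0 := by
    have : IsArtinianRing A := IsArtinianRing.of_finite k A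
    have h1 : Module.length A A ≠ 0 := (Module.length_pos (R := A) (M := A)).ne'
    have h2 : Module.length A A ≠ ⊤ := Module.length_ne_top
    intro h
    rcases ENat.toNat_eq_zero.1 h with h | h
    · exact h1 h
    · exact h2 h
  rw [hsurj, key]
  refine and_congr_right fun _ => ⟨fun h p _ _ hd => h ((CharP.cast_eq_zero_iff k p _).2 hd), fun h h0 => ?_⟩
  obtain ⟨p, hp⟩ := CharP.exists k
  rcases CharP.char_is_prime_or_zero k p with hp' | rfl
  · exact h p hp' hp ((CharP.cast_eq_zero_iff k p _).1 h0)
  · exact hpos (zero_dvd_iff.1 ((CharP.cast_eq_zero_iff k 0 _).1 h0))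

end Groth.Agent.S2219
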