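import Groth.Prelude.Def_Models
import Groth.Prelude.Def_Curve
import Groth.Prelude.Def_CAlg
import Groth.Agent.ModPic.FibreGor

set_option autoImplicit false
universe u
open CategoryTheory AlgebraicGeometry
open Models

namespace Groth.Agent.S2225

/-- Part (1), for the closed fibre: let R be a discrete valuation ring with fraction field K, C a smooth
proper curve over K and X a regular model of C over R (flat, of finite type, all local rings
regular). Then every local ring of the special fibre X_k is a Gorenstein local ring; together with
flatness and regularity of the generic fibre this says X -> Spec R is a Gorenstein morphism. -/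
theorem result (R : Type u) [CommRing R] [IsDomain R]
    [IsDiscreteValuationRing R] (C X : Scheme.{u})
    (f : C ⟶ Spec (CommRingCat.of (FractionRing R))) (p : X ⟶ Spec (CommRingCat.of R))
    (hC : Curve.IsSmoothProperCurve (FractionRing R) C f) (hX : Models.IsModel R X p C f)
    (hreg : Models.IsRegularScheme X) (x : ↥(Models.specialFibre R X p)) :
    LocCoh.IsGorensteinLocalRing ((Models.specialFibre R X p).presheaf.stalk x) := by
  obtain ⟨hflat, -, -, -⟩ := hX
  exact Groth.Agent.ModPic.gor_stalk_specialFibre hreg x

end Groth.Agent.S2225
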