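import Groth.Statements.S2227
import Groth.Agent.Node12.Loc.Dvr

set_option autoImplicit false
set_option backward.isDefEq.respectTransparency.types false
set_option synthInstance.maxHeartbeats 100000
set_option maxHeartbeats 1600000
universe u
open CategoryTheory AlgebraicGeometry
open Models

namespace Groth.Agent.S2227

open Node12.Loc CategoryTheory.Limits

/-- Changing the parameter of the standard family by a unit. -/
theorem exists_rescale {R : Type u} [CommRing R] {P : Scheme.{u}} {r : R}
    (g₀ : P ⟶ Spec (CommRingCat.of (NodeRing r))) [Etale g₀] (a : Rˣ) (r'' : R) (h : r = (a : R) * r'') :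
    ∃ g : P ⟶ Spec (CommRingCat.of (NodeRing r'')), Etale g ∧ g ≫ nodeStruct r'' = g₀ ≫ nodeStruct r := by
  subst h
  let E := nodeUnitEquiv a r''
  have : Etale (Spec.map (CommRingCat.ofHom E.symm.toAlgHom.toRingHom)) :=
    (HasRingHomProperty.Spec_iff (P := @Etale)).2 (RingHom.Etale.of_bijective E.symm.bijective)
  refine ⟨g₀ ≫ Spec.map (CommRingCat.ofHom E.symm.toAlgHom.toRingHom), inferInstance, ?_⟩
  rw [Category.assoc, ← Spec.map_comp, ← CommRingCat.ofHom_comp]
  congr 3
  exact E.symm.toAlgHom.comp_algebraMap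

/-- The structure map of the standard family over a ground ring. -/
theorem specMap_struct {R R' : Type u} [CommRing R] [CommRing R'] [Algebra R R'] (r : R') :
    Spec.map (CommRingCat.ofHom ((Ideal.Quotient.mk (nodeEq r)).comp (MvPolynomial.C.comp (algebraMap R R')))) =
      nodeStruct r ≫ Spec.map (CommRingCat.ofHom (algebraMap R R')) := by
  rw [← Spec.map_comp, ← CommRingCat.ofHom_comp]
  rfl


/-- Let R be a discrete valuation ring with uniformizer ϖ and X → Spec R an at-worst-nodal family of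
relative dimension one. For every point x of X lying over the closed point of Spec R there are: a
discrete valuation ring R' with an étale ring map R → R' sending ϖ to a uniformizer of R', an
element h of R'[u, v] which is either 0 or the constant ϖⁿ for some n (via R → R'), a scheme U with
an étale morphism e : U → X whose image contains x, and an étale morphism g : U → Spec(R'[u, v]/(uv
− h)), such that the two composites U → Spec R (through g and through e) agree. (The étaleness of g
is part of the statement here; the published display leaves it implicit.) -/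
theorem result (R : Type u) [CommRing R] [IsDomain R]
    [IsDiscreteValuationRing R] (ϖ : R) (hϖ : Irreducible ϖ) (X : Scheme.{u})
    (p : X ⟶ Spec (CommRingCat.of R)) (hp : Curv2.IsNodalFamily p) (x : X)
    (hx : p.base x = IsLocalRing.closedPoint R) :
    ∃ (R' : Type u) (_ : CommRing R') (_ : IsDomain R') (_ : IsDiscreteValuationRing R')
      (_ : Algebra R R') (_ : Algebra.Etale R R') (_ : Irreducible (algebraMap R R' ϖ))
      (h : MvPolynomial (Fin 2) R') (_ : h = 0 ∨ ∃ n : ℕ, h = MvPolynomial.C (algebraMap R R' ϖ ^ n))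
      (U : Scheme.{u}) (e : U ⟶ X) (_ : Etale e) (x' : U) (_ : e.base x' = x)
      (g : U ⟶ Spec (CommRingCat.of (MvPolynomial (Fin 2) R' ⧸
        Ideal.span {MvPolynomial.X 0 * MvPolynomial.X 1 - h}))) (_ : Etale g),
      g ≫ Spec.map (CommRingCat.ofHom ((Ideal.Quotient.mk _).comp
          (MvPolynomial.C.comp (algebraMap R R')))) = e ≫ p := by
  obtain ⟨hflat, hlfp, -⟩ := id hp
  rcases good_of_nodalFamily p hp x with hsm | hn
  · have hxs : x ∈ p.smoothLocus := (Scheme.Hom.mem_smoothLocus).2 ((Unr55.exists_smooth_iff p x).1 hsm)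
    obtain ⟨n, U₀, hxU₀, hsm₀, -⟩ := exists_smoothRelDim_nhd p x hxs
    obtain rfl : n = 1 := relDim_eq_one (U₀.ι ≫ p) n (S1592.result p hp U₀.ι) ⟨x, hxU₀⟩
    obtain ⟨V₀, hV₀, W, hW, hxW, eW, hst⟩ :=
      SmoothOfRelativeDimension.exists_isStandardSmoothOfRelativeDimension (n := 1) (f := U₀.ι ≫ p) ⟨x, hxU₀⟩
    obtain rfl : V₀ = ⊤ := top_le_iff.1 fun y _ => Specializes.mem_open
      (IsLocalRing.specializes_closedPoint y) V₀.isOpen (hx ▸ eW hxW)
    let B : Type u := Γ((U₀ : Scheme.{u}), W)
    let φB : R →+* B := ((Scheme.ΓSpecIso (CommRingCat.of R)).inv ≫ (U₀.ι ≫ p).appLE ⊤ W eW).hom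
    have hφB : φB.IsStandardSmoothOfRelativeDimension 1 :=
      (RingHom.isStandardSmoothOfRelativeDimension_respectsIso (n := 1)).2 _
        (Scheme.ΓSpecIso (CommRingCat.of R)).commRingCatIsoToRingEquiv.symm hst
    letI : Algebra R B := φB.toAlgebra
    have hsq : Spec.map (CommRingCat.ofHom φB) = hW.fromSpec ≫ U₀.ι ≫ p := by
      rw [← IsAffineOpen.SpecMap_appLE_fromSpec (U₀.ι ≫ p) (isAffineOpen_top _) hW eW, IsAffineOpen.fromSpec_top,
        Scheme.isoSpec_Spec_inv, ← Spec.map_comp]
      rfl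
    obtain ⟨g₀, hg₀⟩ : ∃ g : MvPolynomial (Fin 1) R →ₐ[R] B, g.toRingHom.Etale := by
      haveI : Algebra.IsStandardSmoothOfRelativeDimension 1 R B := hφB
      exact Algebra.IsStandardSmoothOfRelativeDimension.exists_etale_mvPolynomial 1 R B
    let q := (hW.primeIdealOf ⟨⟨x, hxU₀⟩, hxW⟩).asIdeal
    obtain ⟨g₁, hg₁, hq₁⟩ : ∃ g : MvPolynomial (Fin 1) R →ₐ[R] B, g.toRingHom.Etale ∧ g (MvPolynomial.X 0) ∉ q := by
      by_cases hq : g₀ (MvPolynomial.X 0) ∈ q
      · let σ : MvPolynomial (Fin 1) R ≃ₐ[R] MvPolynomial (Fin 1) R :=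
          AlgEquiv.ofAlgHom (MvPolynomial.aeval fun i => MvPolynomial.X i + 1)
            (MvPolynomial.aeval fun i => MvPolynomial.X i - 1)
            (MvPolynomial.algHom_ext fun i => by simp) (MvPolynomial.algHom_ext fun i => by simp)
        refine ⟨g₀.comp σ.toAlgHom, RingHom.Etale.stableUnderComposition _ _
          (RingHom.Etale.of_bijective σ.bijective) hg₀, fun h => ?_⟩
        have e : g₀.comp σ.toAlgHom (MvPolynomial.X 0) = g₀ (MvPolynomial.X 0) + 1 := by simp [σ]
        rw [e] at h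
        exact (inferInstance : q.IsPrime).ne_top ((Ideal.eq_top_iff_one q).2 (by simpa using sub_mem h hq))
      · exact ⟨g₀, hg₀, hq⟩
    let B' := Localization.Away (g₁ (MvPolynomial.X 0))
    let g₂ : MvPolynomial (Fin 1) R →ₐ[R] B' := (IsScalarTower.toAlgHom R B B').comp g₁
    have hBB' : (algebraMap B B').Etale :=
      RingHom.etale_algebraMap.2 (Algebra.Etale.of_isLocalizationAway (g₁ (MvPolynomial.X 0)))
    have hg₂ : g₂.toRingHom.Etale := RingHom.Etale.stableUnderComposition _ _ hg₁ hBB'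
    obtain ⟨φ, hφ⟩ := etale_to_nodeRing_one g₂ hg₂ _
      (IsLocalization.Away.mul_invSelf (g₁ (MvPolynomial.X 0)))
    have : Etale (Spec.map (CommRingCat.ofHom (algebraMap B B'))) := (HasRingHomProperty.Spec_iff (P := @Etale)).2 hBB'
    have : Etale (Spec.map (CommRingCat.ofHom φ.toRingHom)) := (HasRingHomProperty.Spec_iff (P := @Etale)).2 hφ
    let e : Spec (CommRingCat.of B') ⟶ X :=
      Spec.map (CommRingCat.ofHom (algebraMap B B')) ≫ hW.fromSpec ≫ U₀.ι
    obtain ⟨x', hx'⟩ : hW.primeIdealOf ⟨⟨x, hxU₀⟩, hxW⟩ ∈ Set.range (Spec.map (CommRingCat.ofHom (algebraMap B B'))) := by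
      show _ ∈ Set.range (PrimeSpectrum.comap (algebraMap B B'))
      rw [PrimeSpectrum.localization_away_comap_range B' (g₁ (MvPolynomial.X 0))]
      exact hq₁
    refine ⟨R, inferInstance, inferInstance, inferInstance, Algebra.id R, inferInstance, by simpa using hϖ,
      MvPolynomial.C 1, Or.inr ⟨0, by simp⟩, Spec (CommRingCat.of B'), e, inferInstance, x', ?_,
      Spec.map (CommRingCat.ofHom φ.toRingHom), inferInstance, ?_⟩
    · show U₀.ι (hW.fromSpec (Spec.map (CommRingCat.ofHom (algebraMap B B')) x')) = x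
      rw [hx', hW.fromSpec_primeIdealOf]
      rfl
    · rw [Category.assoc, Category.assoc, ← hsq, ← Spec.map_comp, ← Spec.map_comp, ← CommRingCat.ofHom_comp,
        ← CommRingCat.ofHom_comp]
      congr 2
      exact RingHom.ext fun t => (φ.commutes t).trans (IsScalarTower.algebraMap_apply R B B' t)
  · obtain ⟨R₁, _, U, _, gU, gV, r, eU, hgU, hgV, he, w, hxU⟩ := exists_scheme_model p (p x) (p.asFiber x) hn
    rw [Scheme.Hom.fiberι_asFiber] at hxU
    obtain ⟨u, rfl⟩ := hxU
    letI : Algebra R R₁ := (Spec.preimage gV).hom.toAlgebra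
    have hgV' : Spec.map (CommRingCat.ofHom (algebraMap R R₁)) = gV := Spec.map_preimage gV
    haveI : Algebra.Etale R R₁ := RingHom.etale_algebraMap.1
      ((HasRingHomProperty.Spec_iff (P := @Etale)).1 (hgV'.symm ▸ hgV))
    let v : PrimeSpectrum R₁ := (Spec.map (CommRingCat.ofHom eU) ≫ nodeStruct r) u
    have hv : v.asIdeal.comap (algebraMap R R₁) = IsLocalRing.maximalIdeal R := by
      have h1 : gV v = IsLocalRing.closedPoint R := by
        rw [← hx]
        show gV ((Spec.map (CommRingCat.ofHom eU) ≫ nodeStruct r) u) = p (gU u)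
        rw [← Scheme.Hom.comp_apply, ← Scheme.Hom.comp_apply, w, Category.assoc]
      rw [← hgV'] at h1
      exact congrArg PrimeSpectrum.asIdeal h1
    obtain ⟨s, hs, hdom, hdvr, hirr⟩ := exists_dvr_away ϖ hϖ v.asIdeal hv
    let R' := Localization.Away s
    obtain ⟨ρ, hpo⟩ := isPushout_nodeRing r (algebraMap R₁ R')
    have hpb : IsPullback (Spec.map ρ) (nodeStruct (algebraMap R₁ R' r)) (nodeStruct r)
        (Spec.map (CommRingCat.ofHom (algebraMap R₁ R'))) := isPullback_SpecMap_of_isPushout _ _ _ _ hpo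
    have hR' : Etale (Spec.map (CommRingCat.ofHom (algebraMap R₁ R'))) :=
      (HasRingHomProperty.Spec_iff (P := @Etale)).2 (RingHom.etale_algebraMap.2 (Algebra.Etale.of_isLocalizationAway s))
    have hρ : Etale (Spec.map ρ) := MorphismProperty.of_isPullback (P := @Etale) hpb.flip hR'
    have heU : Etale (Spec.map (CommRingCat.ofHom eU)) := (HasRingHomProperty.Spec_iff (P := @Etale)).2 he
    obtain ⟨v', hv'⟩ : v ∈ Set.range (Spec.map (CommRingCat.ofHom (algebraMap R₁ R'))) := by
      show v ∈ Set.range (PrimeSpectrum.comap (algebraMap R₁ R'))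
      rw [PrimeSpectrum.localization_away_comap_range R' s]
      exact hs
    obtain ⟨w', hw'1, -⟩ := Scheme.exists_preimage_of_isPullback hpb (Spec.map (CommRingCat.ofHom eU) u) v'
      ((Scheme.Hom.comp_apply _ _ u).symm.trans hv'.symm)
    obtain ⟨x', hx'1, -⟩ := Scheme.Pullback.exists_preimage_pullback (f := Spec.map (CommRingCat.ofHom eU))
      (g := Spec.map ρ) u w' hw'1.symm
    let e : pullback (Spec.map (CommRingCat.ofHom eU)) (Spec.map ρ) ⟶ X := pullback.fst _ _ ≫ gU
    obtain ⟨r'', hr'', g, hg, hgs⟩ : ∃ r'' : R', (r'' = 0 ∨ ∃ n : ℕ, r'' = algebraMap R R' ϖ ^ n) ∧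
        ∃ g : pullback (Spec.map (CommRingCat.ofHom eU)) (Spec.map ρ) ⟶ Spec (CommRingCat.of (NodeRing r'')),
          Etale g ∧ g ≫ nodeStruct r'' = pullback.snd _ _ ≫ nodeStruct (algebraMap R₁ R' r) := by
      by_cases h0 : algebraMap R₁ R' r = 0
      · exact ⟨_, Or.inl h0, pullback.snd _ _, inferInstance, rfl⟩
      · obtain ⟨n, a, ha⟩ := IsDiscreteValuationRing.eq_unit_mul_pow_irreducible h0 hirr
        exact ⟨_, Or.inr ⟨n, rfl⟩, exists_rescale (pullback.snd _ _) a _ ha⟩
    refine ⟨R', inferInstance, hdom, hdvr, inferInstance, Algebra.Etale.comp R R₁ R', hirr, MvPolynomial.C r'', ?_,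
      pullback (Spec.map (CommRingCat.ofHom eU)) (Spec.map ρ), e, inferInstance, x', congrArg gU hx'1, g, hg, ?_⟩
    · rcases hr'' with h | ⟨n, h⟩
      · exact Or.inl (by rw [h, map_zero])
      · exact Or.inr ⟨n, by rw [h]⟩
    · refine (congrArg (fun m => g ≫ m) (specMap_struct r'')).trans ?_
      rw [IsScalarTower.algebraMap_eq R R₁ R', CommRingCat.ofHom_comp, Spec.map_comp, hgV', ← Category.assoc, hgs,
        Category.assoc, reassoc_of% hpb.w.symm, ← pullback.condition_assoc]
      show _ = (pullback.fst _ _ ≫ gU) ≫ p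
      rw [Category.assoc, w]

end Groth.Agent.S2227
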