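import Groth.Statements.S2232
import Groth.Agent.PropPush72.Complex

set_option autoImplicit false
universe u
open CategoryTheory AlgebraicGeometry
attribute [local instance] HasDerivedCategory.standard
open QCohCat

namespace Groth.Agent.S2232

/-- Case (3): let S be Noetherian, X -> S and Y -> S of finite type with all local rings of X regular,
and K a bounded complex of modules on X x_S Y with coherent cohomology sheaves whose supports are
proper over Y. Assuming the derived functors L pr_1^*, - tensor^L K and R pr_2,* exist (unproved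
hypotheses carried as binders), the Fourier-Mukai transform of a bounded object of D(O_X) with
coherent cohomology sheaves is a bounded object of D(O_Y) with coherent cohomology sheaves. -/
theorem result {S X Y : Scheme.{u}} [IsNoetherian S]
    (a : X ⟶ S) (b : Y ⟶ S) [LocallyOfFiniteType a] [QuasiCompact a] [LocallyOfFiniteType b]
    [QuasiCompact b] (hreg : Models.IsRegularScheme X)
    (K : CochainComplex (Limits.pullback a b).Modules ℤ)
    (hKcoh : DCoh.IsCohD (DCoh.toD (Limits.pullback a b) K)) (kₗ kᵤ : ℤ)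
    (hKge : DerivedCategory.IsGE (DCoh.toD (Limits.pullback a b) K) kₗ)
    (hKle : DerivedCategory.IsLE (DCoh.toD (Limits.pullback a b) K) kᵤ)
    (hsupp : ∀ i : ℤ, ClSub.IsProperOver (Limits.pullback.snd a b)
      (CohB1.support (DCoh.HD (DCoh.toD (Limits.pullback a b) K) i)))
    [DCoh.HasLpull (Limits.pullback.fst a b)] [DCoh.HasLTensorCx K]
    [DCoh.HasRpush (Limits.pullback.snd a b)]
    (M : DCoh.D X) (hM : DCoh.IsCohD M) (m n : ℤ) (hMge : DerivedCategory.IsGE M m)
    (hMle : DerivedCategory.IsLE M n) :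
    DCoh.IsCohD ((DCoh.Rpush (Limits.pullback.snd a b)).obj
        ((DCoh.LTensorCx K).obj ((DCoh.Lpull (Limits.pullback.fst a b)).obj M))) ∧
      ∃ m' n' : ℤ, DerivedCategory.IsGE ((DCoh.Rpush (Limits.pullback.snd a b)).obj
        ((DCoh.LTensorCx K).obj ((DCoh.Lpull (Limits.pullback.fst a b)).obj M))) m' ∧
        DerivedCategory.IsLE ((DCoh.Rpush (Limits.pullback.snd a b)).obj
        ((DCoh.LTensorCx K).obj ((DCoh.Lpull (Limits.pullback.fst a b)).obj M))) n' := by
  haveI : IsLocallyNoetherian X := LocallyOfFiniteType.isLocallyNoetherian a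
  haveI : IsLocallyNoetherian Y := LocallyOfFiniteType.isLocallyNoetherian b
  haveI : IsLocallyNoetherian (Limits.pullback a b) :=
    LocallyOfFiniteType.isLocallyNoetherian (Limits.pullback.fst a b)
  haveI : CompactSpace X := QuasiCompact.compactSpace_of_compactSpace a
  haveI : CompactSpace Y := QuasiCompact.compactSpace_of_compactSpace b
  haveI := hMge
  haveI := hMle
  have hperf : DCoh.IsPerfect M := S1005.result X hreg M m n hM
  obtain ⟨p, q, hamp⟩ := PropPush72.exists_flatAmp_of_isPerfect hperf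
  have hL := DCK91.flatAmp_Lpull (Limits.pullback.fst a b) hamp
  have hLperf := DCX42.isPerfect_Lpull (Limits.pullback.fst a b) hperf
  have hKg : CochainComplex.IsGE K kₗ := (DerivedCategory.isGE_Q_obj_iff K kₗ).1 hKge
  have hKl : CochainComplex.IsLE K kᵤ := (DerivedCategory.isLE_Q_obj_iff K kᵤ).1 hKle
  obtain ⟨hge, hle, hs⟩ := PropPush72.bounds_ltensor K kₗ kᵤ hKg hKl _ hL
  have hcoh := (IntMult12.isCohD_lTensor K ((DCoh.Lpull (Limits.pullback.fst a b)).obj M)
    (DCX42.isCohD_of_isPerfect hLperf)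
    ⟨q, fun i hi => DCK91.isZero_HD_of_torAmp (DCK91.torAmp_of_flatAmp hL) i (Or.inr hi)⟩ hKcoh
    ⟨kᵤ, fun i hi => haveI := hKle; DerivedCategory.isZero_of_isLE _ kᵤ i hi⟩).1
  have hsupp' : ∀ i, ClSub.IsProperOver (Limits.pullback.snd a b) (CohB1.support (DCoh.HD
      ((DCoh.LTensorCx K).obj ((DCoh.Lpull (Limits.pullback.fst a b)).obj M)) i)) := fun i =>
    haveI := (hcoh i).2
    Coh69.PO.mono (Coh69.PO.union (ι := ↥(Finset.Icc kₗ kᵤ)) (fun j => hsupp j.1))
      (QC70.isClosed_support _) (hs i)
  obtain ⟨h1, h2⟩ := PropPush72.isCohD_Rpush_bounded (Limits.pullback.snd a b) _ _ _ hge hle hcoh hsupp'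
  obtain ⟨y', hy'⟩ := h2 inferInstance
  exact ⟨h1, _, y', PropPush72.isGE_Rpush (Limits.pullback.snd a b) _ (p + kₗ), hy'⟩

end Groth.Agent.S2232
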