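import Groth.Statements.S2237
import Groth.Agent.LCI19.FlatLCI
import Groth.Agent.LCI19.NLPerfect
import Groth.Agent.RelGCI94.Pointwise
import Groth.Agent.LC16.SopRegular

set_option autoImplicit false
universe u
attribute [local instance] HasDerivedCategory.standard
open LCI

namespace Groth.Agent.S2237

/-- Implication (2) to (5), affine form: let A -> B be flat, quasi-finite and a local complete
intersection homomorphism (finite type with a Koszul-regular presentation). Then for every prime q
of B there are g in B outside q, a natural number n and polynomials f_1, ..., f_n in A[x_1, ...,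
x_n] such that B_g is isomorphic as an A-algebra to A[x_1, ..., x_n]/(f_1, ..., f_n). -/
theorem result {A B : Type u} [CommRing A]
    [CommRing B] [Algebra A B] [Module.Flat A B] [Algebra.QuasiFinite A B] (hlci : LCI.IsLCI A B)
    (q : Ideal B) [q.IsPrime] :
    ∃ g : B, g ∉ q ∧ ∃ (n : ℕ) (f : Fin n → MvPolynomial (Fin n) A),
      Nonempty (Localization.Away g ≃ₐ[A]
        (MvPolynomial (Fin n) A ⧸ Ideal.span (Set.range f))) := by
  classical
  obtain ⟨-, n, f, hf, hker⟩ := hlci
  let P := Algebra.Generators.ofAlgHom f hf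
  have hval : MvPolynomial.aeval P.val = f := MvPolynomial.algHom_ext fun i => by
    simp [P, Algebra.Generators.ofAlgHom]
  have hk : P.toExtension.ker = RingHom.ker f.toRingHom := by
    ext x
    simp only [Algebra.Extension.ker, RingHom.mem_ker]
    rw [← hval]
    rfl
  obtain ⟨_, _⟩ := LCI19.projective_extension_cotangent P.toExtension (hk ▸ hker)
  have hfg : (RingHom.ker f.toRingHom).FG := LCI19.isKoszulRegularIdeal_fg hker
  let toK : RingHom.ker f.toRingHom →+ P.toExtension.ker :=
    { toFun := fun y => ⟨y.1, hk.symm ▸ y.2⟩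
      map_zero' := rfl
      map_add' := fun _ _ => rfl }
  let cls : RingHom.ker f.toRingHom →+ P.toExtension.Cotangent :=
    (Algebra.Extension.Cotangent.mk (P := P.toExtension)).toAddMonoidHom.comp toK
  let Q : Ideal (MvPolynomial (Fin n) A) := q.comap f.toRingHom
  have hQ : RingHom.ker f.toRingHom ≤ Q := Ideal.ker_le_comap _
  obtain ⟨k, y, hy, hreg, g', hg', hgen⟩ := LCI19.exists_fib_regular_generators Q f hf hfg hQ
    P.toExtension.Cotangent cls
    (fun m => by
      obtain ⟨z, rfl⟩ := Algebra.Extension.Cotangent.mk_surjective m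
      exact ⟨⟨z.1, hk ▸ z.2⟩, rfl⟩)
    (fun r z => by
      have hfr : f r = algebraMap P.toExtension.Ring B r := by rw [← hval]; rfl
      rw [hfr, algebraMap_smul]
      exact (Algebra.Extension.Cotangent.mk (P := P.toExtension)).map_smul r (toK z))
    (fun z hz => by
      have := (Algebra.Extension.Cotangent.mk_eq_zero_iff (toK z)).1 hz
      rw [pow_two] at this
      exact SetLike.le_def.1 (congrArg (fun I => I * I) hk).le this)
  let K := LCI19.fibBase Q
  -- points of the fibre inside the algebra are isolated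
  have hCb : ∀ (P' : Ideal (LCI19.FibPoly Q)), P'.IsPrime → ∀ b : A,
      LCI19.fibMap Q (MvPolynomial.C b) ∈ P' ↔ b ∈ K := fun P' hP' b => by
    rw [MvPolynomial.map_C]
    refine ⟨fun h => by_contra fun hb => ?_, fun h => ?_⟩
    · refine hP'.ne_top (Ideal.eq_top_of_isUnit_mem _ h (IsUnit.map MvPolynomial.C ?_))
      exact isUnit_iff_ne_zero.2 fun h0 => hb ((Ideal.algebraMap_residueField_eq_zero).1 h0)
    · rw [(Ideal.algebraMap_residueField_eq_zero).2 h, map_zero]
      exact zero_mem _
  have key : ∀ (P' : Ideal (LCI19.FibPoly Q)) [P'.IsPrime],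
      RingHom.ker f.toRingHom ≤ P'.comap (LCI19.fibMap Q) → P' ≤ LCI19.fibPrime Q ∨ LCI19.fibPrime Q ≤ P' →
      P' = LCI19.fibPrime Q := by
    intro P' _ hk' hcomp
    let Q' := P'.comap (LCI19.fibMap Q)
    have hq' : (Q'.map f.toRingHom).IsPrime := Ideal.map_isPrime_of_surjective hf hk'
    have hQf : Q.map f.toRingHom = q := Ideal.map_comap_of_surjective _ hf q
    have hback : (Q'.map f.toRingHom).comap f.toRingHom = Q' := by
      rw [Ideal.comap_map_of_surjective' f.toRingHom hf, sup_eq_left.2 hk']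
    have hunder : (Q'.map f.toRingHom).under A = q.under A := by
      ext b
      rw [Ideal.mem_comap, Ideal.mem_comap,
        show algebraMap A B b = f.toRingHom (MvPolynomial.C b) from (f.commutes b).symm,
        ← Ideal.mem_comap, hback]
      exact hCb P' inferInstance b
    have hqq : Q'.map f.toRingHom = q := by
      rcases hcomp with h | h
      · refine Algebra.QuasiFinite.eq_of_le_of_under_eq (R := A) _ _ ?_ hunder
        rw [← hQf]
        exact Ideal.map_mono fun x hx => (LCI19.fibMap_mem_iff Q x).1 (h hx)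
      · refine (Algebra.QuasiFinite.eq_of_le_of_under_eq (R := A) _ _ ?_ hunder.symm).symm
        rw [← hQf]
        exact Ideal.map_mono fun x hx => h ((LCI19.fibMap_mem_iff Q x).2 hx)
    have hQQ : Q' = Q := by rw [← hback, hqq]
    ext v
    obtain ⟨b, z, hb, hbz⟩ := LCI19.exists_denom Q v
    have h1 : ∀ R' : Ideal (LCI19.FibPoly Q), R'.IsPrime → (v ∈ R' ↔ LCI19.fibMap Q z ∈ R') := fun R' hR' =>
      ⟨fun h => hbz ▸ R'.mul_mem_left _ h,
        fun h => (hR'.mem_or_mem (hbz.symm ▸ h)).resolve_left fun h' => hb ((hCb R' hR' b).1 h')⟩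
    rw [h1 P' inferInstance, h1 _ inferInstance, LCI19.fibMap_mem_iff]
    exact iff_of_eq (congrArg (fun R => z ∈ R) hQQ)
  -- the number of equations
  have hkn : k = n := by
    let φ := LCI19.toFib Q
    have hgu : IsUnit (φ g') := (LCI19.isUnit_toFib_iff Q g').2 hg'
    have hmem : ∀ x ∈ List.ofFn (φ ∘ y), x ∈ IsLocalRing.maximalIdeal (LCI19.Fib Q) := fun x hx => by
      obtain ⟨i, rfl⟩ := List.mem_ofFn.1 hx
      exact (IsLocalRing.mem_maximalIdeal _).2 fun hu => (LCI19.isUnit_toFib_iff Q (y i)).1 hu (hQ (hy i))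
    have hr := LC16.isRegular_of_weakly hreg hmem
    have h := ringKrullDim_add_length_eq_ringKrullDim_of_isRegular _ hr
    have hmax : (LCI19.fibPrime Q).IsMaximal := by
      obtain ⟨P', hP', hle⟩ := Ideal.exists_le_maximal (LCI19.fibPrime Q) (Ideal.IsPrime.ne_top inferInstance)
      have := hP'.isPrime
      rwa [← key P' (fun c hc => hle ((LCI19.fibMap_mem_iff Q c).2 (hQ hc))) (Or.inr hle)]
    obtain ⟨d, e, hd, he, hde⟩ := RelGCI94.ringKrullDim_mvPolynomial_quotient_add_height (LCI19.fibPrime Q)
    let : Field (LCI19.FibPoly Q ⧸ LCI19.fibPrime Q) := Ideal.Quotient.field _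
    have hd0 : d = 0 := by
      rw [ringKrullDim_eq_zero_of_field] at hd
      exact_mod_cast hd.symm
    have hdimFib : ringKrullDim (LCI19.Fib Q) = n := by
      rw [IsLocalization.AtPrime.ringKrullDim_eq_height (LCI19.fibPrime Q) (LCI19.Fib Q), he,
        show e = n by omega]
      rfl
    let J : Ideal (LCI19.Fib Q) := Ideal.ofList (List.ofFn (φ ∘ y))
    have hJ : J ≤ IsLocalRing.maximalIdeal _ := Ideal.span_le.2 hmem
    have hdim0 : ringKrullDim (LCI19.Fib Q ⧸ J) = 0 := by
      have : Nontrivial (LCI19.Fib Q ⧸ J) :=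
        Ideal.Quotient.nontrivial_iff.2 (ne_top_of_le_ne_top (IsLocalRing.maximalIdeal.isMaximal _).ne_top hJ)
      have : Ring.KrullDimLE 0 (LCI19.Fib Q ⧸ J) := Ring.KrullDimLE.mk₀ fun p hp => by
        let p' := p.comap (Ideal.Quotient.mk J)
        have hJp : J ≤ p' := fun x hx => by
          show Ideal.Quotient.mk J x ∈ p
          rw [Ideal.Quotient.eq_zero_iff_mem.2 hx]
          exact zero_mem p
        let P' : Ideal (LCI19.FibPoly Q) := p'.comap (algebraMap (LCI19.FibPoly Q) (LCI19.Fib Q))
        have hP' : P' = LCI19.fibPrime Q := by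
          refine key P' (fun c hc => ?_) (Or.inl fun v hv => ?_)
          · have h1 : φ (g' * c) ∈ J := by
              have h2 := Ideal.mem_map_of_mem φ (hgen c hc)
              rw [Ideal.map_span, ← Set.range_comp] at h2
              show φ (g' * c) ∈ Ideal.span {x | x ∈ List.ofFn (φ ∘ y)}
              simp only [List.mem_ofFn]
              exact h2
            rw [map_mul] at h1
            exact hJp ((Ideal.unit_mul_mem_iff_mem _ hgu).1 h1)
          · by_contra hv'
            exact (Ideal.IsPrime.ne_top (inferInstance : p'.IsPrime))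
              (Ideal.eq_top_of_isUnit_mem _ hv (IsLocalization.map_units _ (⟨v, hv'⟩ : (LCI19.fibPrime Q).primeCompl)))
        have hp' : p' = IsLocalRing.maximalIdeal _ := by
          rw [← IsLocalization.map_under (M := (LCI19.fibPrime Q).primeCompl) (S := LCI19.Fib Q) p',
            show p'.under (LCI19.FibPoly Q) = LCI19.fibPrime Q from hP', Localization.AtPrime.map_eq_maximalIdeal]
        refine ⟨⟨hp.ne_top, fun R hR => by_contra fun hne => not_le_of_gt hR ?_⟩⟩
        have h2 : R.comap (Ideal.Quotient.mk J) ≤ p.comap (Ideal.Quotient.mk J) :=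
          (IsLocalRing.le_maximalIdeal (Ideal.comap_ne_top _ hne)).trans_eq hp'.symm
        rw [← Ideal.map_comap_of_surjective _ Ideal.Quotient.mk_surjective R,
          ← Ideal.map_comap_of_surjective _ Ideal.Quotient.mk_surjective p]
        exact Ideal.map_mono h2
      exact ringKrullDimZero_iff_ringKrullDim_eq_zero.1 this
    rw [hdim0, hdimFib, List.length_ofFn, zero_add] at h
    exact_mod_cast h
  subst hkn
  -- the presentation
  let g := f g'
  refine ⟨g, hg', k + 1, ?_⟩
  let T := MvPolynomial (Fin (k + 1)) A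
  let inc : MvPolynomial (Fin k) A →ₐ[A] T := MvPolynomial.rename Fin.castSucc
  let t : T := MvPolynomial.X (Fin.last k)
  let F : Fin (k + 1) → T := Fin.snoc (fun i => inc (y i)) (t * inc g' - 1)
  let I : Ideal T := Ideal.span (Set.range F)
  refine ⟨F, ⟨?_⟩⟩
  let L := Localization.Away g
  let iv : L := IsLocalization.Away.invSelf g
  let α : T →ₐ[A] L := MvPolynomial.aeval (Fin.snoc (fun i => algebraMap B L (f (MvPolynomial.X i))) iv)
  have hαt : α t = iv := by
    show MvPolynomial.aeval _ (MvPolynomial.X _) = iv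
    rw [MvPolynomial.aeval_X, Fin.snoc_last]
  have hαinc : ∀ p, α (inc p) = algebraMap B L (f p) := fun p => by
    have h : α.comp inc = (IsScalarTower.toAlgHom A B L).comp f :=
      MvPolynomial.algHom_ext fun i => by
        show MvPolynomial.aeval _ (MvPolynomial.rename _ (MvPolynomial.X i)) = _
        rw [MvPolynomial.rename_X, MvPolynomial.aeval_X, Fin.snoc_castSucc]
        rfl
    exact AlgHom.congr_fun h p
  have hαF : ∀ x ∈ I, α x = 0 := fun x hx => by
    refine (Ideal.span_le (I := RingHom.ker α.toRingHom)).2 ?_ hx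
    rintro _ ⟨i, rfl⟩
    induction i using Fin.lastCases with
    | last =>
      show α (F _) = 0
      simp only [F, Fin.snoc_last]
      rw [map_sub, map_mul, hαt, hαinc, map_one, mul_comm, IsLocalization.Away.mul_invSelf, sub_self]
    | cast i =>
      show α (F _) = 0
      simp only [F, Fin.snoc_castSucc]
      rw [hαinc, show f (y i) = 0 from hy i, map_zero]
  let fwd : (T ⧸ I) →ₐ[A] L := Ideal.Quotient.liftₐ I α hαF
  let β₀ : MvPolynomial (Fin k) A →ₐ[A] T ⧸ I := (Ideal.Quotient.mkₐ A I).comp inc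
  have ht1 : Ideal.Quotient.mkₐ A I t * β₀ g' = 1 := by
    have h : F (Fin.last k) ∈ I := Ideal.subset_span ⟨_, rfl⟩
    simp only [F, Fin.snoc_last] at h
    rw [← sub_eq_zero]
    show Ideal.Quotient.mkₐ A I t * Ideal.Quotient.mkₐ A I (inc g') - 1 = 0
    rw [← map_mul, ← map_one (Ideal.Quotient.mkₐ A I), ← map_sub]
    exact Ideal.Quotient.eq_zero_iff_mem.2 h
  have hβ₀ : ∀ c ∈ RingHom.ker f.toRingHom, β₀ c = 0 := fun c hc => by
    have h : β₀ (g' * c) = 0 := by
      refine (Ideal.span_le (I := RingHom.ker β₀.toRingHom)).2 ?_ (hgen c hc)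
      rintro _ ⟨i, rfl⟩
      show Ideal.Quotient.mkₐ A I (inc (y i)) = 0
      refine Ideal.Quotient.eq_zero_iff_mem.2 (Ideal.subset_span ⟨Fin.castSucc i, ?_⟩)
      simp [F]
    calc β₀ c = Ideal.Quotient.mkₐ A I t * β₀ g' * β₀ c := by rw [ht1, one_mul]
      _ = 0 := by rw [mul_assoc, ← map_mul, h, mul_zero]
  let βB : B →ₐ[A] T ⧸ I :=
    (Ideal.Quotient.liftₐ (RingHom.ker f.toRingHom) β₀ hβ₀).comp
      (Ideal.quotientKerAlgEquivOfSurjective hf).symm.toAlgHom
  have hβf : ∀ p, βB (f p) = β₀ p := fun p => by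
    have e : (Ideal.quotientKerAlgEquivOfSurjective hf).symm (f p) = Ideal.Quotient.mk _ p :=
      (AlgEquiv.symm_apply_eq _).2 rfl
    show Ideal.Quotient.liftₐ (RingHom.ker f.toRingHom) β₀ hβ₀
      ((Ideal.quotientKerAlgEquivOfSurjective hf).symm (f p)) = _
    rw [e]
    rfl
  have hu : ∀ z : Submonoid.powers g, IsUnit (βB z) := by
    rintro ⟨_, j, rfl⟩
    rw [map_pow, hβf]
    exact (IsUnit.of_mul_eq_one _ ((mul_comm _ _).trans ht1)).pow j
  let bwd : L →ₐ[A] T ⧸ I := IsLocalization.liftAlgHom hu
  have hbwd : ∀ b, bwd (algebraMap B L b) = βB b := fun b => IsLocalization.lift_eq hu b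
  have hfwd : ∀ p, fwd (β₀ p) = algebraMap B L (f p) := hαinc
  refine AlgEquiv.ofAlgHom bwd fwd (Ideal.Quotient.algHom_ext _ (MvPolynomial.algHom_ext fun i => ?_))
    (IsLocalization.algHom_ext (Submonoid.powers g) (AlgHom.ext fun b => ?_))
  · show bwd (α (MvPolynomial.X i)) = Ideal.Quotient.mkₐ A I (MvPolynomial.X i)
    induction i using Fin.lastCases with
    | last =>
      rw [show α (MvPolynomial.X (Fin.last k)) = iv from hαt]
      have h1 : bwd iv * β₀ g' = 1 := by
        rw [← hβf, ← hbwd, ← map_mul, mul_comm, IsLocalization.Away.mul_invSelf, map_one]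
      calc bwd iv = bwd iv * (Ideal.Quotient.mkₐ A I t * β₀ g') := by rw [ht1, mul_one]
        _ = (bwd iv * β₀ g') * Ideal.Quotient.mkₐ A I t := by ring
        _ = _ := by rw [h1, one_mul]
    | cast i =>
      have e : MvPolynomial.X (Fin.castSucc i) = inc (MvPolynomial.X i) := (MvPolynomial.rename_X _ _).symm
      rw [e, hαinc, hbwd, hβf]
      rfl
  · obtain ⟨p, rfl⟩ := hf b
    show fwd (bwd (algebraMap B L (f p))) = algebraMap B L (f p)
    rw [hbwd, hβf, hfwd]

end Groth.Agent.S2237
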