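import Groth.Statements.S2329
import Groth.Agent.Amp73.GlobGen

set_option autoImplicit false
universe u
open CategoryTheory CategoryTheory.Limits AlgebraicGeometry
open EGA2

namespace Groth.Agent.S2329

/-- Let X be a quasi-compact separated scheme, L an ample invertible module and L' an invertible module.
Then there is n₀ > 0 such that L^{⊗n} ⊗ L' is ample and globally generated for every n ≥ n₀. -/
theorem result (X : Scheme.{u}) [CompactSpace X] [X.IsSeparated] (L L' : X.Modules) (hL : CohB1.IsAmple L) (hL' : PicF.IsInvertible L') :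
    ∃ n₀ : ℕ, 0 < n₀ ∧ ∀ n, n₀ ≤ n →
      CohB1.IsAmple (CohB1.tensorMod (CohB1.tensorPow L n) L') ∧ Curv2.IsGloballyGenerated (CohB1.tensorMod (CohB1.tensorPow L n) L') := by
  obtain ⟨n₁, h⟩ := Amp73.eventually_spanAt_twist hL (Amp73.isCoh_of_isInvertible hL')
  refine ⟨n₁ + 1, Nat.succ_pos _, fun n hn => ⟨?_, ?_⟩⟩
  · obtain ⟨m, rfl⟩ : ∃ m, n = 1 + m := ⟨n - 1, by omega⟩
    have hM := EGA73.isInvertible_tensorMod hL' (EGA73.isInvertible_tensorPow hL.1 m)
    refine Amp73.isAmple_of_iso ?_ (Amp73.isAmple_tensor hL hM fun x => ?_)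
    · exact EGA73.tensIso (Amp73.powOne L).symm (EGA73.tensComm _ _) ≪≫ (EGA73.tensAssoc' _ _ _).symm ≪≫
        EGA73.tensIso (Amp73.powAdd L 1 m) (Iso.refl _)
    · obtain ⟨U, hx, hU, hsp⟩ := h m (by omega) x
      obtain ⟨t, ht⟩ := Amp73.exists_genLocus_of_spanAt hM hU hsp hx
      exact ⟨_, Amp73.mem_genSet_one _, ht⟩
  · refine Amp73.isGloballyGenerated_of_spanAt (Amp73.isQCoh_tensorMod
      (Mero90.isQCoh_of_isInvertible (EGA73.isInvertible_tensorPow hL.1 n)) (Mero90.isQCoh_of_isInvertible hL'))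
      fun x => ?_
    obtain ⟨U, hx, hU, hsp⟩ := h n (by omega) x
    exact ⟨U, hx, hU, Amp73.spanAt_of_iso (EGA73.tensComm _ _).hom hsp⟩


end Groth.Agent.S2329
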