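import Groth.Statements.S2334
import Groth.Agent.EGA73.DvrPoints

set_option autoImplicit false
universe u
open CategoryTheory CategoryTheory.Limits AlgebraicGeometry
open EGA2

namespace Groth.Agent.S2334

/-- Locally Noetherian case of the valuative criterion of separatedness: let Y be a locally Noetherian
scheme and f : X → Y locally of finite type. Then f is separated if and only if for every discrete
valuation ring A with fraction field K, any two morphisms Spec A → X with the same composite to Y
which agree on Spec K are equal. (In the general criterion the diagonal must be assumed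
quasi-compact; that is automatic here.) -/
theorem result {X Y : Scheme.{u}} [IsLocallyNoetherian Y] (f : X ⟶ Y) [LocallyOfFiniteType f] :
    IsSeparated f ↔ ∀ (A : Type u) [CommRing A] [IsDomain A] [IsDiscreteValuationRing A] (g₁ g₂ : (Spec (CommRingCat.of A)) ⟶ X),
      g₁ ≫ f = g₂ ≫ f → (Spec.map (CommRingCat.ofHom (algebraMap A (FractionRing A)))) ≫ g₁ = (Spec.map (CommRingCat.ofHom (algebraMap A (FractionRing A)))) ≫ g₂ → g₁ = g₂ := by
  constructor
  · intro _ A _ _ _ g₁ g₂ h h'
    have hu := IsSeparated.valuativeCriterion f
      { R := A, K := FractionRing A, i₁ := Spec.map (CommRingCat.ofHom (algebraMap A (FractionRing A))) ≫ g₁,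
        i₂ := g₁ ≫ f, commSq := ⟨Category.assoc _ _ _⟩ }
    exact congrArg CommSq.LiftStruct.l (hu.elim ⟨g₁, rfl, rfl⟩ ⟨g₂, h'.symm, h.symm⟩)
  · intro H
    have : IsLocallyNoetherian X := LocallyOfFiniteType.isLocallyNoetherian f
    have : IsLocallyNoetherian (pullback f f) := LocallyOfFiniteType.isLocallyNoetherian (pullback.fst f f ≫ f)
    refine ⟨IsClosedImmersion.of_isPreimmersion _ ?_⟩
    suffices hs : SpecializingMap (pullback.diagonal f).base from
      ((isClosedMap_iff_specializingMap (pullback.diagonal f)).mpr hs).isClosed_range
    intro x w hw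
    by_cases he : w = (pullback.diagonal f).base x
    · exact ⟨x, specializes_rfl, he.symm⟩
    obtain ⟨A, h, hA, hcl, hh⟩ := EGA73.exists_dvr_hom (pullback.diagonal f) x w hw he
    have hfac : Spec.map (CommRingCat.ofHom A.subtype) ≫ h ≫ pullback.fst f f =
        Spec.map (CommRingCat.ofHom A.subtype) ≫ h ≫ pullback.snd f f := by
      rw [← Category.assoc, ← Category.assoc, hh, Category.assoc, Category.assoc, pullback.diagonal_fst,
        pullback.diagonal_snd]
    let e := IsLocalization.algEquiv (nonZeroDivisors A) (FractionRing A) (X.residueField x)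
    have he' : Spec.map (CommRingCat.ofHom (algebraMap A (FractionRing A))) =
        Spec.map (CommRingCat.ofHom e.symm.toRingEquiv.toRingHom) ≫ Spec.map (CommRingCat.ofHom A.subtype) := by
      rw [← Spec.map_comp, ← CommRingCat.ofHom_comp]
      exact congrArg (fun k => Spec.map (CommRingCat.ofHom k)) (RingHom.ext fun a => (e.symm.commutes a).symm)
    have h12 := H A (h ≫ pullback.fst f f) (h ≫ pullback.snd f f)
      (by rw [Category.assoc, Category.assoc, pullback.condition])
      (by rw [he', Category.assoc, Category.assoc, hfac])
    have hd : h = (h ≫ pullback.fst f f) ≫ pullback.diagonal f := by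
      apply pullback.hom_ext
      · rw [Category.assoc, pullback.diagonal_fst, Category.comp_id]
      · rw [Category.assoc, pullback.diagonal_snd, Category.comp_id, h12]
    have hw' : (pullback.diagonal f).base ((h ≫ pullback.fst f f).base (IsLocalRing.closedPoint A)) = w := by
      rw [← hcl]
      exact (congrArg (fun k : Spec (CommRingCat.of A) ⟶ pullback f f => k.base (IsLocalRing.closedPoint A)) hd).symm
    refine ⟨_, (pullback.diagonal f).isEmbedding.toIsInducing.specializes_iff.mp ?_, hw'⟩
    exact hw' ▸ hw

end Groth.Agent.S2334
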