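import Groth.Statements.S2335
import Groth.Agent.S2334
import Groth.Agent.EGA73.ProperCrit
import Mathlib.AlgebraicGeometry.ValuativeCriterion

set_option autoImplicit false
universe u
open CategoryTheory CategoryTheory.Limits AlgebraicGeometry
open EGA2

namespace Groth.Agent.S2335

/-- Let Y be locally Noetherian and f : X → Y of finite type. Then f is proper if and only if for every
discrete valuation ring A with fraction field K and every commutative square Spec K → X, Spec A → Y,
there is exactly one morphism Spec A → X making both triangles commute. -/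
theorem result {X Y : Scheme.{u}} [IsLocallyNoetherian Y] (f : X ⟶ Y) [LocallyOfFiniteType f] [QuasiCompact f] :
    IsProper f ↔ ∀ (A : Type u) [CommRing A] [IsDomain A] [IsDiscreteValuationRing A] (x : (Spec (CommRingCat.of (FractionRing A))) ⟶ X) (y : (Spec (CommRingCat.of A)) ⟶ Y),
      x ≫ f = (Spec.map (CommRingCat.ofHom (algebraMap A (FractionRing A)))) ≫ y → ∃! l : (Spec (CommRingCat.of A)) ⟶ X, l ≫ f = y ∧ (Spec.map (CommRingCat.ofHom (algebraMap A (FractionRing A)))) ≫ l = x := by
  constructor
  · intro hf A _ _ _ x y h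
    have hv : ValuativeCriterion f := ((IsProper.eq_valuativeCriterion ▸ hf :
      (ValuativeCriterion ⊓ @QuasiCompact ⊓ @QuasiSeparated ⊓ @LocallyOfFiniteType) f)).1.1.1
    obtain ⟨hu⟩ := hv { R := A, K := FractionRing A, i₁ := x, i₂ := y, commSq := ⟨h⟩ }
    exact ⟨hu.default.l, ⟨hu.default.fac_right, hu.default.fac_left⟩,
      fun l hl => congrArg CommSq.LiftStruct.l (hu.uniq ⟨l, hl.2, hl.1⟩)⟩
  · intro H
    have : IsLocallyNoetherian X := LocallyOfFiniteType.isLocallyNoetherian f
    have : IsLocallyNoetherian (pullback f f) := LocallyOfFiniteType.isLocallyNoetherian (pullback.fst f f ≫ f)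
    have : IsSeparated f := (S2334.result f).mpr fun A _ _ _ g₁ g₂ h h' => by
      obtain ⟨l, -, hl⟩ := H A (Spec.map (CommRingCat.ofHom (algebraMap A (FractionRing A))) ≫ g₁) (g₁ ≫ f)
        (Category.assoc _ _ _)
      exact (hl g₁ ⟨rfl, rfl⟩).trans (hl g₂ ⟨h.symm, h'.symm⟩).symm
    have : UniversallyClosed f := EGA73.universallyClosed_of_dvr f fun A _ _ _ x y h => (H A x y h).exists
    exact { }

end Groth.Agent.S2335
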