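import Groth.Statements.S2342
import Groth.Agent.EGA73.ValuationSection
import Mathlib.AlgebraicGeometry.Morphisms.ClosedImmersion

set_option autoImplicit false
universe u
open CategoryTheory CategoryTheory.Limits AlgebraicGeometry
open EGA2

namespace Groth.Agent.S2342

/-- Let A be a valuation ring with Y = Spec A, X an integral separated scheme and f : X → Y a morphism
which is closed as a map of topological spaces, such that the fibre over the generic point of Y
consists of exactly one point x and the induced map from the residue field of the generic point of Y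
to that of x is bijective. Then f is an isomorphism. -/
theorem result (A : Type u) [CommRing A] [IsDomain A] [ValuationRing A]
    (X : Scheme.{u}) [IsIntegral X] [X.IsSeparated] (f : X ⟶ Spec (CommRingCat.of A)) (hf : IsClosedMap f.base)
    (x : X) (hx : f.base ⁻¹' {genericPoint (Spec (CommRingCat.of A))} = {x})
    (hres : Function.Bijective (f.residueFieldMap x).hom) : IsIso f := by
  let K := FractionRing A
  let Y := Spec (CommRingCat.of A)
  let q : Spec (CommRingCat.of K) ⟶ Y := Spec.map (CommRingCat.ofHom (algebraMap A K))
  have : IsSeparated f := inferInstance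
  have hq : q.base (IsLocalRing.closedPoint K) = genericPoint Y := by
    rw [genericPoint_eq_bot_of_affine]
    refine PrimeSpectrum.ext ?_
    show Ideal.comap (algebraMap A K) (IsLocalRing.maximalIdeal K) = ⊥
    rw [IsLocalRing.maximalIdeal_eq_bot, ← RingHom.ker_eq_comap_bot,
      RingHom.injective_iff_ker_eq_bot _ |>.1 (IsFractionRing.injective A K)]
  have hfx : f.base x = genericPoint Y := by
    have := (hx ▸ Set.mem_singleton x : x ∈ f.base ⁻¹' {genericPoint Y})
    exact this
  have hxξ : x = genericPoint X := by
    have h1 : f.base (genericPoint X) ⤳ genericPoint Y := hfx ▸ (genericPoint_specializes x).map f.continuous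
    have h2 : genericPoint X ∈ f.base ⁻¹' {genericPoint Y} :=
      (h1.antisymm (genericPoint_specializes _)).eq
    rw [hx] at h2
    exact h2.symm
  have he : q.base (IsLocalRing.closedPoint K) = f.base x := hq.trans hfx.symm
  have : IsIso (f.residueFieldMap x) := (ConcreteCategory.isIso_iff_bijective _).2 hres
  let lft : Spec (CommRingCat.of K) ⟶ X :=
    Spec.map (Y.descResidueField (Scheme.stalkClosedPointTo q)) ≫
      Spec.map (Y.residueFieldCongr he.symm).hom ≫
        Spec.map (inv (f.residueFieldMap x)) ≫ X.fromSpecResidueField x
  have hl : lft ≫ f = q := by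
    simp only [lft, Category.assoc]
    rw [← Scheme.Hom.SpecMap_residueFieldMap_fromSpecResidueField, ← Spec.map_comp_assoc (f.residueFieldMap x),
      IsIso.hom_inv_id, Spec.map_id, Category.id_comp, Scheme.residueFieldCongr_fromSpecResidueField]
    exact Scheme.descResidueField_stalkClosedPointTo_fromSpecResidueField K Y q
  have hlx : lft.base (IsLocalRing.closedPoint K) = x := by
    simp [lft]
  obtain ⟨z, hz, hz'⟩ : IsLocalRing.closedPoint A ∈ f.base '' closure {lft.base (IsLocalRing.closedPoint K)} := by
    refine (IsLocalRing.specializes_closedPoint (R := A) _).mem_closed (hf _ isClosed_closure)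
      ⟨lft.base (IsLocalRing.closedPoint K), subset_closure rfl, rfl⟩
  obtain ⟨s, hs, hs'⟩ := EGA73.exists_section_of_specializes f lft hl z (specializes_iff_mem_closure.mpr hz) hz'
  have : IsClosedImmersion s := by
    have : IsClosedImmersion (s ≫ f) := by rw [hs]; infer_instance
    exact IsClosedImmersion.of_comp s f
  have : Surjective s := by
    refine ⟨fun y => ?_⟩
    have hξ : genericPoint X ∈ Set.range s.base := by
      refine ⟨q.base (IsLocalRing.closedPoint K), ?_⟩
      rw [← hxξ, ← hlx, ← hs']
      simp [q]
    exact (genericPoint_specializes y).mem_closed s.isClosedEmbedding.isClosed_range hξ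
  have : IsIso s := isIso_of_isClosedImmersion_of_surjective s
  exact isIso_of_hom_comp_eq_id s hs

end Groth.Agent.S2342
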