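import Groth.Statements.S2343
import Groth.Agent.Desc59.HensSplit
import Groth.Agent.Hensel20.LocalFinite
import Mathlib.RingTheory.Henselian

set_option autoImplicit false
set_option linter.style.haveILetI false
universe u
open CategoryTheory CategoryTheory.Limits AlgebraicGeometry
open EGA2

namespace Groth.Agent.S2343

/-- Let A be a complete Noetherian local ring, X a separated scheme locally of finite type over Spec A,
and x a point of X over the closed point which is isolated in its fibre. Then the local ring of X at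
x is a finite A-module and the canonical morphism Spec O_{X,x} → X is both an open and a closed
immersion (X is the disjoint sum of Spec O_{X,x} and another open subscheme). -/
theorem result (A : Type u) [CommRing A] [IsLocalRing A] [IsNoetherianRing A]
    [IsAdicComplete (IsLocalRing.maximalIdeal A) A] (X : Scheme.{u}) (f : X ⟶ Spec (CommRingCat.of A)) [LocallyOfFiniteType f] [IsSeparated f]
    (x : X) (hx : f.base x = IsLocalRing.closedPoint A)
    (hisol : IsOpen ((Subtype.val : (f.base ⁻¹' {IsLocalRing.closedPoint A}) → X) ⁻¹' {x})) :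
    ((Scheme.ΓSpecIso (CommRingCat.of A)).inv ≫ f.appTop ≫ X.presheaf.germ ⊤ x trivial).hom.Finite ∧ IsOpenImmersion (X.fromSpecStalk x) ∧ IsClosedImmersion (X.fromSpecStalk x) := by
  classical
  let m := IsLocalRing.maximalIdeal A
  haveI : HenselianRing A m := IsAdicComplete.henselianRing A m
  haveI : IsArtinianRing (A ⧸ m) := by
    letI := Ideal.Quotient.field m
    infer_instance
  haveI : IsLocallyArtinian (Spec (CommRingCat.of (A ⧸ m))) := inferInstance
  -- x is quasi-finite
  have hq : f.QuasiFiniteAt x := by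
    rw [Scheme.Hom.quasiFiniteAt_iff_isOpen_singleton_asFiber, ← (f.fiberHomeo _).isOpen_image]
    simp only [Set.image_singleton, Scheme.Hom.asFiber, Homeomorph.apply_symm_apply]
    have key : ∀ y, f.base x = y → IsOpen ((Subtype.val : (f.base ⁻¹' {y}) → X) ⁻¹' {x}) →
        IsOpen ({⟨x, rfl⟩} : Set (f.base ⁻¹' {f.base x})) := by
      rintro y rfl h
      convert h using 1
      ext z
      simp [Subtype.ext_iff]
    exact key _ hx hisol
  obtain ⟨V, hV, hxV, hVq⟩ := exists_isAffineOpen_mem_and_subset (U := f.quasiFiniteLocus) hq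
  haveI : IsAffine V.toScheme := hV
  let g := V.ι ≫ f
  haveI : LocallyQuasiFinite g := by
    change LocallyQuasiFinite (V.ι ≫ f)
    rw [← X.homOfLE_ι hVq, Category.assoc]
    infer_instance
  haveI : IsAffineHom g := isAffineHom_of_isAffine g
  obtain ⟨W₀, -, hfin₀, hout⟩ := Desc59.HensSplit.exists_split m g (IsFinite.of_locallyQuasiFinite _)
  have hxW₀ : (⟨x, hxV⟩ : V) ∈ W₀ := by
    by_contra h
    exact hout _ h (by change m ≤ _; erw [hx]; exact le_rfl)
  let W : X.Opens := V.ι ''ᵁ W₀
  have hxW : x ∈ W := ⟨_, hxW₀, rfl⟩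
  haveI : IsFinite (W.ι ≫ f) := by
    have e : (V.ι.isoImage W₀).inv ≫ (W₀.ι ≫ g) = W.ι ≫ f := by
      simp only [g, W, Scheme.Hom.isoImage_inv_ι_assoc]
    rw [← e]
    infer_instance
  haveI : IsFinite W.ι := IsFinite.of_comp W.ι f
  haveI : IsClosedImmersion W.ι :=
    (IsClosedImmersion.iff_isFinite_and_mono _).mpr ⟨inferInstance, inferInstance⟩
  have hW : IsAffineOpen W := isAffine_of_isAffineHom (W.ι ≫ f)
  -- the ring of W
  let ψ : CommRingCat.of A ⟶ Γ(X, W) :=
    (Scheme.ΓSpecIso (CommRingCat.of A)).inv ≫ f.appTop ≫ X.presheaf.map (homOfLE le_top).op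
  have hψ : ψ.hom.Finite := by
    have h1 : (W.ι ≫ f).appTop.hom.Finite :=
      IsFinite.finite_app (W.ι ≫ f) ⊤ (isAffineOpen_top _)
    have h2 : ψ = (Scheme.ΓSpecIso (CommRingCat.of A)).inv ≫ (W.ι ≫ f).appTop ≫ W.topIso.hom := by
      simp only [ψ]
      congr 1
      rw [Scheme.Hom.comp_appTop, Category.assoc]
      congr 1
      simp only [Scheme.Opens.ι_appTop, Scheme.Opens.topIso_hom]
      erw [← Functor.map_comp]
      rfl
    rw [h2]
    exact ((RingHom.Finite.of_surjective _
      (W.topIso.commRingCatIsoToRingEquiv.surjective)).comp h1).comp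
      (RingHom.Finite.of_surjective _
        (Scheme.ΓSpecIso (CommRingCat.of A)).symm.commRingCatIsoToRingEquiv.surjective)
  let B : Type u := Γ(X, W)
  letI : Algebra A B := ψ.hom.toAlgebra
  haveI : Module.Finite A B := hψ
  let q : Ideal B := (hW.primeIdealOf ⟨x, hxW⟩).asIdeal
  haveI : q.IsPrime := (hW.primeIdealOf ⟨x, hxW⟩).isPrime
  let L : Type u := X.presheaf.stalk x
  letI : Algebra B L := (X.presheaf.germ W x hxW).hom.toAlgebra
  haveI hL : IsLocalization.AtPrime L q := hW.isLocalization_stalk ⟨x, hxW⟩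
  -- q is maximal
  have hψf : hW.fromSpec ≫ f = Spec.map ψ := by
    rw [← (isAffineOpen_top (Spec (CommRingCat.of A))).SpecMap_appLE_fromSpec f hW le_top,
      IsAffineOpen.fromSpec_top, Scheme.isoSpec_Spec_inv, ← Spec.map_comp]
    rfl
  have hqA : q.comap (algebraMap A B) = m := by
    have := congrArg (fun k => k.base (hW.primeIdealOf ⟨x, hxW⟩)) hψf
    change f.base (hW.fromSpec (hW.primeIdealOf ⟨x, hxW⟩)) = _ at this
    rw [hW.fromSpec_primeIdealOf] at this
    erw [hx] at this
    exact (congrArg PrimeSpectrum.asIdeal this).symm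
  have hqmax : q.IsMaximal :=
    Ideal.isMaximal_of_isIntegral_of_isMaximal_comap q (by rw [hqA]; exact IsLocalRing.maximalIdeal.isMaximal A)
  haveI hqo : q.LiesOver m := ⟨hqA.symm⟩
  obtain ⟨e, he, -, hmem⟩ := Hensel20.exists_split_points (R := A) (S := B) {q} (by
    intro p hp
    rw [Finset.mem_singleton] at hp
    subst hp
    exact ⟨inferInstance, hqo, inferInstance⟩)
  have heq : e ∉ q := (hmem q inferInstance hqo).mpr (Finset.mem_singleton_self _)
  have h1eq : (1 - e) ∈ q := by
    refine ((inferInstance : q.IsPrime).mem_or_mem (?_ : e * (1 - e) ∈ q)).resolve_left heq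
    rw [mul_sub, mul_one, he.eq, sub_self]
    exact zero_mem _
  -- the factor through q is the local ring at q
  let C : Type u := B ⧸ Ideal.span {1 - e}
  let π : B →+* C := Ideal.Quotient.mk _
  have hunit : ∀ s ∉ q, IsUnit (π s) := by
    intro s hs
    by_contra hn
    obtain ⟨N, hN, hsN⟩ := exists_max_ideal_of_mem_nonunits hn
    have hN' : (N.comap π).IsMaximal :=
      Ideal.comap_isMaximal_of_surjective π Ideal.Quotient.mk_surjective
    have hover : (N.comap π).LiesOver m :=
      ⟨((IsLocalRing.eq_maximalIdeal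
        (Ideal.isMaximal_comap_of_isIntegral_of_isMaximal (R := A) (N.comap π)))).symm⟩
    have h1 : 1 - e ∈ N.comap π := by
      rw [Ideal.mem_comap, Ideal.Quotient.eq_zero_iff_mem.mpr (Ideal.mem_span_singleton_self _)]
      exact zero_mem _
    have h2 := Finset.mem_singleton.mp ((hmem _ hN'.isPrime hover).mp fun h =>
      hN'.isPrime.one_notMem (by simpa using add_mem h1 h))
    exact hs (h2 ▸ hsN)
  haveI hCe : IsLocalization.Away e C := IsLocalization.Away.quotient_of_isIdempotentElem he
  haveI hCq : IsLocalization.AtPrime C q := by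
    refine ⟨fun s => hunit s.1 s.2, fun z => ?_, fun {a b} h => ?_⟩
    · obtain ⟨z, rfl⟩ := Ideal.Quotient.mk_surjective z
      exact ⟨⟨z, 1⟩, by simp; rfl⟩
    · refine ⟨⟨e, heq⟩, ?_⟩
      obtain ⟨c, hc⟩ := Ideal.mem_span_singleton'.mp (Ideal.Quotient.eq.mp h)
      change e * a = e * b
      have : e * (1 - e) = 0 := by rw [mul_sub, mul_one, he.eq, sub_self]
      linear_combination (-e) * hc + c * this
  let ε : C ≃ₐ[B] L := IsLocalization.algEquiv q.primeCompl C L
  have hsurj : Function.Surjective (algebraMap B L) := fun z => by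
    obtain ⟨b, hb⟩ := Ideal.Quotient.mk_surjective (ε.symm z)
    exact ⟨b, by rw [← ε.apply_symm_apply z, ← hb]; exact (ε.commutes b).symm⟩
  haveI : IsLocalization.Away e L :=
    IsLocalization.isLocalization_of_algEquiv (Submonoid.powers e) ε
  have heq2 : X.fromSpecStalk x = Spec.map (X.presheaf.germ W x hxW) ≫ hW.fromSpec :=
    (hW.fromSpecStalk_eq_fromSpecStalk hxW).symm
  haveI : IsOpenImmersion (Spec.map (X.presheaf.germ W x hxW)) :=
    IsOpenImmersion.of_isLocalization (R := CommRingCat.of B) (S := L) e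
  haveI : IsClosedImmersion (Spec.map (X.presheaf.germ W x hxW)) :=
    IsClosedImmersion.spec_of_surjective _ hsurj
  haveI : IsClosedImmersion hW.fromSpec := by
    rw [show hW.fromSpec = hW.isoSpec.inv ≫ W.ι from rfl]
    infer_instance
  refine ⟨?_, heq2 ▸ inferInstance, heq2 ▸ inferInstance⟩
  have hg : (Scheme.ΓSpecIso (CommRingCat.of A)).inv ≫ f.appTop ≫ X.presheaf.germ ⊤ x trivial =
      ψ ≫ X.presheaf.germ W x hxW := by
    simp only [ψ, Category.assoc]
    congr 2
    exact (X.presheaf.germ_res (homOfLE le_top) x hxW).symm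
  rw [hg]
  exact (RingHom.Finite.of_surjective _ hsurj).comp hψ

end Groth.Agent.S2343
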