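import Groth.Statements.S2344
import Groth.Agent.EGA73.ExtendCodimOne
import Mathlib.AlgebraicGeometry.Properties

set_option autoImplicit false
universe u
open CategoryTheory CategoryTheory.Limits AlgebraicGeometry
open EGA2

namespace Groth.Agent.S2344

/-- Let X be a normal algebraic curve over k (separated, of finite type, nonempty, local rings at closed
points of dimension one, all local rings integrally closed domains), Y proper over k, U a dense open
of X and g : U → Y a k-morphism. Then g extends uniquely to a k-morphism X → Y. -/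
theorem result (k : Type u) [Field k] (X Y : Scheme.{u}) [X.Over (Spec (CommRingCat.of k))] [Y.Over (Spec (CommRingCat.of k))]
    [LocallyOfFiniteType (X ↘ (Spec (CommRingCat.of k)))] [QuasiCompact (X ↘ (Spec (CommRingCat.of k)))] [IsSeparated (X ↘ (Spec (CommRingCat.of k)))] [Nonempty X] (hcurve : (∀ x : X, IsClosed ({x} : Set X) → ringKrullDim (X.presheaf.stalk x) = 1)) (hnorm : Pi1.IsNormalScheme X)
    [IsProper (Y ↘ (Spec (CommRingCat.of k)))] (U : X.Opens) (hU : Dense (U : Set X)) (g : (U : Scheme.{u}) ⟶ Y)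
    (hg : g ≫ (Y ↘ (Spec (CommRingCat.of k))) = U.ι ≫ (X ↘ (Spec (CommRingCat.of k)))) :
    ∃! g' : X ⟶ Y, U.ι ≫ g' = g ∧ g' ≫ (Y ↘ (Spec (CommRingCat.of k))) = X ↘ (Spec (CommRingCat.of k)) := by
  let sX := X ↘ Spec (CommRingCat.of k)
  let sY := Y ↘ Spec (CommRingCat.of k)
  have : IsLocallyNoetherian X := LocallyOfFiniteType.isLocallyNoetherian sX
  have : CompactSpace X := QuasiCompact.compactSpace_of_compactSpace sX
  have (x : X) : IsDomain (X.presheaf.stalk x) := (hnorm x).1
  have : AlgebraicGeometry.IsReduced X := isReduced_of_isReduced_stalk X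
  have hP : ∀ x ∈ (Set.univ : Set X), ∃ _ : IsDomain (X.presheaf.stalk x), ValuationRing (X.presheaf.stalk x) := by
    intro x _
    refine ⟨(hnorm x).1, ?_⟩
    obtain ⟨c, hc, hcl⟩ := (isClosed_closure (s := ({x} : Set X))).exists_closed_singleton (Set.singleton_nonempty x).closure
    have hdim : ringKrullDim (X.presheaf.stalk x) ≤ 1 := by
      rw [← hcurve c hcl, ringKrullDim_stalk_eq_coheight, ringKrullDim_stalk_eq_coheight]
      exact_mod_cast Order.coheight_anti (show c ≤ x from specializes_iff_mem_closure.mpr hc)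
    have : Ring.KrullDimLE 1 (X.presheaf.stalk x) := Ring.krullDimLE_iff.mpr hdim
    exact ((tfae_of_isNoetherianRing_of_isLocalRing_of_isDomain (X.presheaf.stalk x)).out 3 1
      (a := IsIntegrallyClosed (X.presheaf.stalk x) ∧
        ∀ P : Ideal (X.presheaf.stalk x), P ≠ ⊥ → P.IsPrime → P = IsLocalRing.maximalIdeal _)
      (b := ValuationRing (X.presheaf.stalk x))).mp
      ⟨(hnorm x).2, fun P hP0 hP => IsLocalRing.eq_maximalIdeal
        (hP.isMaximal_of_ne_bot hP0)⟩
  obtain ⟨W, hUW, g', hg', hres, hW⟩ := EGA73.extend_proper_codim_one sY sX _ hP U hU g hg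
  have hWtop : W = ⊤ := eq_top_iff.mpr fun x _ => hW x trivial
  subst hWtop
  have hι : U.ι ≫ (Scheme.topIso X).inv = X.homOfLE hUW := by
    rw [← cancel_mono (⊤ : X.Opens).ι, Category.assoc]
    simp
  refine ⟨(Scheme.topIso X).inv ≫ g', ⟨?_, ?_⟩, fun h hh => ?_⟩
  · rw [← Category.assoc, hι, hres]
  · rw [Category.assoc, hg', ← Category.assoc]
    simp [sX]
  · have : IsDominant U.ι := ⟨by rw [DenseRange, Scheme.Opens.range_ι]; exact hU⟩
    refine ext_of_isDominant_of_isSeparated sY ?_ U.ι ?_
    · rw [hh.2, Category.assoc, hg', ← Category.assoc]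
      simp [sX]
    · rw [hh.1, ← Category.assoc, hι, hres]

end Groth.Agent.S2344
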