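import Groth.Statements.S2345
import Groth.Agent.EGA73.CurveModels
import Groth.Agent.VarGal.GeomRed

set_option autoImplicit false
universe u
open CategoryTheory CategoryTheory.Limits AlgebraicGeometry
attribute [local instance] Curv2.stalkAlgebra
open EGA2

namespace Groth.Agent.S2345

/-- Let K be a finitely generated field extension of k of transcendence degree one. Then there is an
integral normal algebraic curve X, proper over k, whose function field is isomorphic to K compatibly
with the maps from k. -/
theorem result (k : Type u) [Field k] (K : Type u) [Field K] [Algebra k K]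
    (hfg : (⊤ : IntermediateField k K).FG) (htr : Algebra.trdeg k K = 1) :
    ∃ (X : Scheme.{u}) (_ : X.Over (Spec (CommRingCat.of k))) (_ : IsIntegral X), IsProper (X ↘ (Spec (CommRingCat.of k))) ∧ Pi1.IsNormalScheme X ∧
      (∀ x : X, IsClosed ({x} : Set X) → ringKrullDim (X.presheaf.stalk x) = 1) ∧
      ∃ e : X.presheaf.stalk (genericPoint X) ≃+* K, ∀ c : k, e (algebraMap k (X.presheaf.stalk (genericPoint X)) c) = algebraMap k K c := by
  obtain ⟨t, ht⟩ := EGA73.exists_finite_adjoin_of_trdeg_one k K hfg htr
  obtain ⟨Y, hint, sY, hproj, hv, hd, σ, hσ⟩ := Curves2.ProjModel.exists_model k K t htr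
  let _ : Y.Over (Spec (CommRingCat.of k)) := ⟨sY⟩
  have hp : IsProper sY := EGA73.isProper_of_closedImmersion_projSpace hproj
  obtain ⟨_, _, _, _⟩ := EGA73.fieldFT_instances k sY
  refine ⟨Y, ⟨sY⟩, hint, hp, EGA73.isNormalScheme_of_valuationRing hv,
    fun x hx => EGA73.ringKrullDim_stalk_eq_one hd x hx, σ.commRingCatIsoToRingEquiv, fun c => ?_⟩
  have h2 : CommRingCat.ofHom (Curv2.stalkMap k Y (genericPoint Y)) ≫ σ.hom =
      CommRingCat.ofHom (algebraMap k K) := by
    apply Spec.map_injective
    rw [Spec.map_comp, VarGal.SpecMap_curvStalkMap]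
    exact hσ
  exact congr($h2 c)

end Groth.Agent.S2345
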