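import Groth.Statements.S2346
import Groth.Agent.EGA73.CurveBasics

set_option autoImplicit false
universe u
open CategoryTheory CategoryTheory.Limits AlgebraicGeometry
open EGA2

namespace Groth.Agent.S2346

/-- Let X and Y be irreducible algebraic curves over k (separated, of finite type, local rings at closed
points one-dimensional) and f : X → Y a k-morphism. Then f is dominant if and only if every fibre
f⁻¹(y) is a finite set. -/
theorem result (k : Type u) [Field k] (X Y : Scheme.{u}) [X.Over (Spec (CommRingCat.of k))] [Y.Over (Spec (CommRingCat.of k))]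
    [LocallyOfFiniteType (X ↘ (Spec (CommRingCat.of k)))] [QuasiCompact (X ↘ (Spec (CommRingCat.of k)))] [IsSeparated (X ↘ (Spec (CommRingCat.of k)))] [LocallyOfFiniteType (Y ↘ (Spec (CommRingCat.of k)))] [QuasiCompact (Y ↘ (Spec (CommRingCat.of k)))] [IsSeparated (Y ↘ (Spec (CommRingCat.of k)))] [IrreducibleSpace X] [IrreducibleSpace Y]
    (hX : (∀ x : X, IsClosed ({x} : Set X) → ringKrullDim (X.presheaf.stalk x) = 1)) (hY : (∀ x : Y, IsClosed ({x} : Set Y) → ringKrullDim (Y.presheaf.stalk x) = 1))
    (f : X ⟶ Y) (hf : f ≫ (Y ↘ (Spec (CommRingCat.of k))) = X ↘ (Spec (CommRingCat.of k))) :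
    IsDominant f ↔ ∀ y : Y, (f.base ⁻¹' {y}).Finite := by
  obtain ⟨_, _, _, _⟩ := EGA73.fieldFT_instances k (X ↘ (Spec (CommRingCat.of k)))
  obtain ⟨_, _, _, _⟩ := EGA73.fieldFT_instances k (Y ↘ (Spec (CommRingCat.of k)))
  have : LocallyOfFiniteType (f ≫ (Y ↘ (Spec (CommRingCat.of k)))) := by rw [hf]; infer_instance
  have hft : LocallyOfFiniteType f := locallyOfFiniteType_of_comp f (Y ↘ (Spec (CommRingCat.of k)))
  have hcl : ∀ x : X, IsClosed ({x} : Set X) → IsClosed ({f.base x} : Set Y) := fun x hx =>
    f.closePoints_subset_preimage_closedPoints hx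
  constructor
  · intro hd y
    have hξ : f.base (genericPoint X) = genericPoint Y := by
      refine ((genericPoint_spec Y).eq (?_ : IsGenericPoint _ Set.univ)).symm
      have := (genericPoint_spec X).image f.continuous
      rwa [Set.image_univ, f.denseRange.closure_range] at this
    by_cases hy : IsClosed ({y} : Set Y)
    · refine (EGA73.finite_of_closed_ne_univ hX (hy.preimage f.continuous) fun h => ?_).1
      have hm : genericPoint X ∈ f.base ⁻¹' {y} := h ▸ Set.mem_univ _
      rw [Set.mem_preimage, hξ, Set.mem_singleton_iff] at hm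
      exact EGA73.genericPoint_not_isClosed hY (hm ▸ hy)
    · refine (Set.finite_singleton (genericPoint X)).subset fun x hx => ?_
      refine EGA73.eq_genericPoint_of_not_isClosed hX x fun h => hy ?_
      have := hcl x h
      rwa [(hx : f.base x = y)] at this
  · intro hfin
    refine ⟨?_⟩
    by_contra hnd
    have hy : IsClosed ({f.base (genericPoint X)} : Set Y) := by
      by_contra h
      have he := EGA73.eq_genericPoint_of_not_isClosed hY _ h
      refine hnd (dense_iff_closure_eq.2 (Set.eq_univ_of_univ_subset ?_))
      rw [← (genericPoint_spec Y).def, ← he]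
      exact closure_mono (Set.singleton_subset_iff.2 ⟨_, rfl⟩)
    have huniv : f.base ⁻¹' {f.base (genericPoint X)} = Set.univ :=
      Set.eq_univ_of_forall fun x =>
        (genericPoint_specializes x).mem_closed (hy.preimage f.continuous) rfl
    exact EGA73.genericPoint_not_isClosed hX
      (EGA73.isClosed_singleton_of_finite_jacobson (huniv ▸ hfin _) _)

end Groth.Agent.S2346
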