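import Groth.Statements.S2347
import Groth.Agent.EGA73.IntegralNormal

set_option autoImplicit false
universe u
open CategoryTheory CategoryTheory.Limits AlgebraicGeometry
open EGA2

namespace Groth.Agent.S2347

/-- Let X be an integral normal scheme, X' an integral scheme and g : X' → X an integral morphism. If g
has a rational section (a morphism s from a dense open U of X to X' with g ∘ s the inclusion of U),
then g is an isomorphism. -/
theorem result {X X' : Scheme.{u}} [IsIntegral X] [IsIntegral X'] (hX : Pi1.IsNormalScheme X)
    (g : X' ⟶ X) [IsIntegralHom g] (U : X.Opens) (hU : Dense (U : Set X)) (s : (U : Scheme.{u}) ⟶ X') (hs : s ≫ g = U.ι) :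
    IsIso g := by
  let ξ := genericPoint X
  have hξU : ξ ∈ U := by
    obtain ⟨x, hx⟩ := hU.nonempty
    exact ((genericPoint_spec X).specializes trivial).mem_open U.2 hx
  have hr : Set.range (X.fromSpecStalk ξ) ⊆ Set.range U.ι := by
    rw [Scheme.range_fromSpecStalk, Scheme.Opens.range_ι]
    intro z hz
    exact Specializes.mem_open hz U.2 hξU
  exact EGA73.isIso_of_integral_of_lift hX g fun V hV _ => EGA73.exists_injective_lift g
    (IsOpenImmersion.lift U.ι (X.fromSpecStalk ξ) hr ≫ s)
    (by rw [Category.assoc, hs, IsOpenImmersion.lift_fac]) V hV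

end Groth.Agent.S2347
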