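import Groth.Statements.S2348
import Groth.Agent.Div89.BlowUp
import Groth.Agent.FlatMor68.Basic
import Mathlib.AlgebraicGeometry.FunctionField

set_option autoImplicit false
universe u
open CategoryTheory CategoryTheory.Limits AlgebraicGeometry TopologicalSpace
open EGA2

namespace Groth.Agent.S2348

/-- For an ideal of O_Y: let Y be an integral scheme, I a nonzero quasi-coherent ideal sheaf and b : X →
Y a blowing up of Y in I (characterised by its universal property). Then X is integral, b sends the
generic point of X to that of Y and induces a bijection on their residue fields (b is birational).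
The printed statement also asserts that b is surjective; the proof does not show this and it fails
when I is not of finite type, so it is left out. -/
theorem result {X Y : Scheme.{u}} [IsIntegral Y] (I : Y.IdealSheafData) (hI : I ≠ ⊥)
    (b : X ⟶ Y) (hb : BlowUp.IsBlowUp b I) :
    ∃ (_ : IsIntegral X), ∃ hgen : b.base (genericPoint X) = genericPoint Y,
      Function.Bijective (b.residueFieldMap (genericPoint X)).hom := by
  classical
  let η : Y := genericPoint Y
  have hηI : η ∉ I.support := by
    intro h
    apply hI
    have htop : (I.support : Set Y) = Set.univ := by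
      refine Set.eq_univ_of_univ_subset fun y _ => ?_
      exact ((genericPoint_spec Y).specializes trivial).mem_closed I.support.isClosed h
    rw [eq_bot_iff]
    intro U s hs
    rw [Scheme.IdealSheafData.ideal_bot, Pi.bot_apply, Ideal.mem_bot]
    apply eq_zero_of_basicOpen_eq_bot
    refine Opens.ext (Set.eq_empty_iff_forall_notMem.mpr fun y hy => ?_)
    have hyU : y ∈ U.1 := Y.basicOpen_le s hy
    have h1 : y ∈ I.support := by change y ∈ (I.support : Set Y); rw [htop]; trivial
    rw [Scheme.IdealSheafData.mem_support_iff] at h1
    exact (Scheme.mem_zeroLocus_iff _ _ _).1 (h1 U) s hs hy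
  have hred : IsReduced X := Groth.Agent.Div89.isReduced_blowUp hb
  have hbij := Groth.Agent.Div89.bijOn_maximalPoints hb
  have hηmax : ∀ y : Y, y ⤳ η → y = η := fun y hy =>
    (hy.antisymm ((genericPoint_spec Y).specializes trivial)).eq
  obtain ⟨ξ, hξ, hξη⟩ := hbij.2.2 ⟨hηmax, hηI⟩
  change b ξ = η at hξη
  have huniq : ∀ ξ' : X, (∀ y : X, y ⤳ ξ' → y = ξ') → ξ' = ξ := by
    intro ξ' h'
    refine hbij.2.1 h' hξ ?_
    change b ξ' = b ξ
    rw [hξη]
    exact ((hbij.1 h').1 η ((genericPoint_spec Y).specializes trivial)).symm
  have hgp : IsGenericPoint ξ (Set.univ : Set X) := by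
    refine Set.eq_univ_of_univ_subset fun x _ => ?_
    obtain ⟨ξ', h1, h2⟩ := Groth.Agent.FlatMor68.Basic.exists_maximal_generization x
    rw [huniq ξ' h2] at h1
    exact h1.mem_closure
  have : Nonempty X := ⟨ξ⟩
  have : IrreducibleSpace X := { isPreirreducible_univ := hgp.isIrreducible.isPreirreducible, toNonempty := ⟨ξ⟩ }
  have hint : IsIntegral X := isIntegral_of_irreducibleSpace_of_isReduced X
  have hgen : genericPoint X = ξ := (genericPoint_spec X).eq hgp
  refine ⟨hint, by rw [hgen]; exact hξη, ?_⟩
  have hiso : IsIso (b.stalkMap (genericPoint X)) := by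
    refine Groth.Agent.Div89.isIso_stalkMap_off_center hb _ ?_
    rw [Scheme.IdealSheafData.support_comap, hgen]
    intro h
    change b ξ ∈ (I.support : Set Y) at h
    rw [hξη] at h
    exact hηI h
  refine ⟨RingHom.injective _, fun z => ?_⟩
  obtain ⟨w, rfl⟩ := IsLocalRing.residue_surjective z
  obtain ⟨v, rfl⟩ := (asIso (b.stalkMap (genericPoint X))).commRingCatIsoToRingEquiv.surjective w
  exact ⟨IsLocalRing.residue _ v, rfl⟩

end Groth.Agent.S2348
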