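import Groth.Statements.S2357
import Groth.Agent.EGA73.GradedFinite
import Mathlib.AlgebraicGeometry.ProjectiveSpectrum.Proper
import Mathlib.AlgebraicGeometry.Noetherian

set_option autoImplicit false
universe u
open CategoryTheory CategoryTheory.Limits AlgebraicGeometry
open EGA2

namespace Groth.Agent.S2357

/-- If A is a graded ring which is Noetherian, then Proj A is a Noetherian scheme. -/
theorem result {R A : Type u} [CommRing R] [CommRing A] [Algebra R A] (𝒜 : ℕ → Submodule R A) [GradedAlgebra 𝒜] [IsNoetherianRing A] :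
    IsNoetherian (Proj 𝒜) := by
  have := EGA73.finiteType_of_isNoetherianRing (𝒜 := 𝒜)
  obtain ⟨E, hE, hspan⟩ := EGA73.exists_generators_of_fg (𝒜 := 𝒜) (IsNoetherian.noetherian _)
  choose d hd hdE using hE
  let C := Proj.affineOpenCoverOfIrrelevantLESpan 𝒜 (fun e : E => (e : A)) (fun e => hdE e.1 e.2)
    (fun e => hd e.1 e.2) (hspan.le.trans_eq (congrArg Ideal.span Subtype.range_coe.symm))
  have : Finite C.openCover.I₀ := inferInstanceAs (Finite E)
  refine (isNoetherian_iff_of_finite_affine_openCover (𝒰 := C.openCover)).mpr fun e => ?_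
  have := HomogeneousLocalization.Away.finiteType _ _ (hdE e.1 e.2)
  have := Algebra.FiniteType.isNoetherianRing (𝒜 0) (HomogeneousLocalization.Away 𝒜 (e.1 : A))
  exact isNoetherianRing_of_ringEquiv _
    (Scheme.ΓSpecIso (CommRingCat.of (HomogeneousLocalization.Away 𝒜 (e.1 : A)))).symm.commRingCatIsoToRingEquiv

end Groth.Agent.S2357
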