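import Groth.Statements.S2464
import Groth.Agent.PBasis12.Field
import Groth.Agent.FSAdic12.Basic
import Mathlib.RingTheory.Unramified.Finite
import Mathlib.Algebra.Algebra.Epi
import Mathlib.RingTheory.Ideal.IdempotentFG
import Mathlib.RingTheory.IntegralClosure.IsIntegralClosure.Basic
import Mathlib.RingTheory.Smooth.Basic
import Mathlib.FieldTheory.Perfect
import Groth.Prelude.Def_FSRel

set_option autoImplicit false
set_option linter.all false
universe u
open EGA41 TensorProduct Groth.Agent.PBasis12

namespace Groth.Agent.S2464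

/-- Let p be a prime, B a ring of characteristic p and A → B an injective ring map whose image contains
every p-th power, and (x_α) a p-basis of B over A. Let E be an A-algebra and q : E → B a surjective
A-algebra homomorphism whose kernel K has K^p = 0. (i) q admits an A-algebra right inverse if and
only if, for all z ∈ E and a ∈ A with a ↦ q(z)^p in B, the image of a in E is z^p. (ii) When this
holds, for every family (z_α) in E with q(z_α) = x_α there is a unique A-algebra homomorphism v : B
→ E with v(x_α) = z_α for all α, and q ∘ v is the identity. -/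
theorem result (p : ℕ) [Fact p.Prime] {A B : Type u} [CommRing A] [CommRing B] [Algebra A B] [CharP B p]
    (hinj : Function.Injective (algebraMap A B)) (hpow : ∀ b : B, b ^ p ∈ Set.range (algebraMap A B))
    {ι : Type u} (x : ι → B) (hx : EGA41.IsPBasis p A x)
    {E : Type u} [CommRing E] [Algebra A E] (q : E →ₐ[A] B) (hq : Function.Surjective q) (hK : RingHom.ker q.toRingHom ^ p = ⊥) :
    ((∃ v : B →ₐ[A] E, q.comp v = AlgHom.id A B) ↔ ∀ (z : E) (a : A), algebraMap A B a = q z ^ p → algebraMap A E a = z ^ p) ∧
    ((∀ (z : E) (a : A), algebraMap A B a = q z ^ p → algebraMap A E a = z ^ p) →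
      ∀ z : ι → E, (∀ i, q (z i) = x i) →
        (∃! v : B →ₐ[A] E, ∀ i, v (x i) = z i) ∧ ∀ v : B →ₐ[A] E, (∀ i, v (x i) = z i) → q.comp v = AlgHom.id A B) := by
  have hli := (isPIndependent_iff_li hinj hpow x).mp hx.1
  have hsp := (isPGenerating_iff_span hpow x).mp hx.2
  choose a ha using fun i => hpow (x i)
  have main : (∀ (z : E) (a : A), algebraMap A B a = q z ^ p → algebraMap A E a = z ^ p) →
      ∀ z : ι → E, (∀ i, q (z i) = x i) →
        (∃! v : B →ₐ[A] E, ∀ i, v (x i) = z i) ∧
          ∀ v : B →ₐ[A] E, (∀ i, v (x i) = z i) → q.comp v = AlgHom.id A B := by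
    intro h z hz
    refine ⟨existsUnique_algHom hli hsp ha z fun i => (h (z i) (a i) (by rw [hz, ha])).symm, fun v hv => ?_⟩
    refine AlgHom.ext_of_adjoin_eq_top (adjoin_eq_top hsp) ?_
    rintro _ ⟨i, rfl⟩
    simp [hv, hz]
  refine ⟨⟨fun ⟨v, hv⟩ z a' ha' => ?_, fun h => ?_⟩, main⟩
  · have h1 : algebraMap A E a' = v (q z) ^ p := by
      rw [← map_pow, ← ha', v.commutes]
    have hk : z - v (q z) ∈ RingHom.ker q.toRingHom := by
      show q (z - v (q z)) = 0
      rw [map_sub, ← AlgHom.comp_apply q v, hv, AlgHom.id_apply, sub_self]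
    have h2 := Ideal.pow_mem_pow hk p
    rw [hK, Ideal.mem_bot] at h2
    have hp : (p : E) = 0 := by rw [← map_natCast v, CharP.cast_eq_zero, map_zero]
    rcases subsingleton_or_nontrivial E with hE | hE
    · exact Subsingleton.elim _ _
    haveI : CharP E p := (CharP.charP_iff_prime_eq_zero Fact.out).mpr hp
    rw [sub_pow_char, sub_eq_zero] at h2
    rw [h1, h2]
  · choose z hz using fun i => hq (x i)
    obtain ⟨⟨v, hv, -⟩, h2⟩ := main h z hz
    exact ⟨v, h2 v hv⟩

end Groth.Agent.S2464
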