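import Groth.Statements.S2465
import Groth.Agent.PBasis12.Field
import Groth.Agent.FSAdic12.Basic
import Mathlib.RingTheory.Unramified.Finite
import Mathlib.Algebra.Algebra.Epi
import Mathlib.RingTheory.Ideal.IdempotentFG
import Mathlib.RingTheory.IntegralClosure.IsIntegralClosure.Basic
import Mathlib.RingTheory.Smooth.Basic
import Mathlib.FieldTheory.Perfect
import Groth.Prelude.Def_FSRel

set_option autoImplicit false
set_option linter.all false
universe u
open EGA41 TensorProduct Groth.Agent.PBasis12

namespace Groth.Agent.S2465

/-- Let p be a prime, B a ring of characteristic p, A → B injective with image containing all p-th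
powers, (x_α) a p-basis of B over A, and L a B-module. (i) An additive derivation D : A → L extends
to a derivation of B if and only if D vanishes on the elements of A mapping to p-th powers. (ii) In
that case, for every family (y_α) in L there is a unique derivation D' of B into L extending D with
D'(x_α) = y_α for all α. -/
theorem result (p : ℕ) [Fact p.Prime] {A B : Type u} [CommRing A] [CommRing B] [Algebra A B] [CharP B p]
    (hinj : Function.Injective (algebraMap A B)) (hpow : ∀ b : B, b ^ p ∈ Set.range (algebraMap A B))
    {ι : Type u} (x : ι → B) (hx : EGA41.IsPBasis p A x)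
    (L : Type u) [AddCommGroup L] [Module B L] [Module A L] [IsScalarTower A B L] (D : Derivation ℤ A L) :
    ((∃ D' : Derivation ℤ B L, ∀ a : A, D' (algebraMap A B a) = D a) ↔ ∀ (a : A) (b : B), algebraMap A B a = b ^ p → D a = 0) ∧
    ((∀ (a : A) (b : B), algebraMap A B a = b ^ p → D a = 0) →
      ∀ y : ι → L, ∃! D' : Derivation ℤ B L, (∀ a : A, D' (algebraMap A B a) = D a) ∧ ∀ i, D' (x i) = y i) := by
  have hli := (isPIndependent_iff_li hinj hpow x).mp hx.1
  have hsp := (isPGenerating_iff_span hpow x).mp hx.2
  choose a ha using fun i => hpow (x i)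
  have main : (∀ (a : A) (b : B), algebraMap A B a = b ^ p → D a = 0) →
      ∀ y : ι → L, ∃! D' : Derivation ℤ B L, (∀ a : A, D' (algebraMap A B a) = D a) ∧ ∀ i, D' (x i) = y i := by
    intro h y
    letI : Module Bᵐᵒᵖ L := Module.compHom L ((RingHom.id B).fromOpposite fun _ _ => Commute.all _ _)
    haveI : IsCentralScalar B L := ⟨fun _ _ => rfl⟩
    let φ : A →+* TrivSqZeroExt B L :=
      { toFun := fun a => TrivSqZeroExt.inl (algebraMap A B a) + TrivSqZeroExt.inr (D a)
        map_one' := by apply TrivSqZeroExt.ext <;> simp
        map_mul' := fun a b => by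
          apply TrivSqZeroExt.ext <;>
            simp [TrivSqZeroExt.snd_mul, TrivSqZeroExt.fst_mul, op_smul_eq_smul, algebraMap_smul]
        map_zero' := by simp
        map_add' := fun a b => by simp; abel }
    letI algE : Algebra A (TrivSqZeroExt B L) := φ.toAlgebra
    obtain ⟨v, hv, -⟩ := existsUnique_algHom hli hsp ha (E := TrivSqZeroExt B L)
      (fun i => TrivSqZeroExt.inl (x i) + TrivSqZeroExt.inr (y i)) fun i => by
        show _ = φ (a i)
        apply TrivSqZeroExt.ext
        · simp [φ, ha]
        · rw [TrivSqZeroExt.snd_pow, ← Nat.cast_smul_eq_nsmul B, CharP.cast_eq_zero, zero_smul]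
          simp [φ, h (a i) (x i) (ha i)]
    have hvA : ∀ a, v (algebraMap A B a) = φ a := v.commutes
    have hfst : ∀ b, (v b).fst = b := by
      intro b
      have hb : b ∈ Algebra.adjoin A (Set.range x) := by rw [adjoin_eq_top hsp]; trivial
      induction hb using Algebra.adjoin_induction with
      | mem b hb => obtain ⟨i, rfl⟩ := hb; simp [hv]
      | algebraMap r => simp [hvA, φ]
      | add a b _ _ ha hb => simp [ha, hb]
      | mul a b _ _ ha hb => simp [ha, hb]
    let D' : Derivation ℤ B L := Derivation.mk'
      (AddMonoidHom.toIntLinearMap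
        { toFun := fun b => (v b).snd
          map_zero' := by simp
          map_add' := fun a b => by simp })
      (fun a b => by
        show (v (a * b)).snd = a • (v b).snd + b • (v a).snd
        rw [map_mul, TrivSqZeroExt.snd_mul, hfst, hfst, op_smul_eq_smul])
    refine ⟨D', ⟨fun a => ?_, fun i => ?_⟩, fun D'' hD'' => ?_⟩
    · show (v (algebraMap A B a)).snd = D a
      simp [hvA, φ]
    · show (v (x i)).snd = y i
      simp [hv]
    · ext b
      have hb : b ∈ Algebra.adjoin A (Set.range x) := by rw [adjoin_eq_top hsp]; trivial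
      show D'' b = (v b).snd
      induction hb using Algebra.adjoin_induction with
      | mem b hb => obtain ⟨i, rfl⟩ := hb; simp [hD''.2, hv]
      | algebraMap r => simp [hvA, φ, hD''.1]
      | add a b _ _ ha hb => simp [ha, hb]
      | mul a b _ _ ha hb => rw [Derivation.leibniz, ha, hb, map_mul, TrivSqZeroExt.snd_mul, hfst, hfst, op_smul_eq_smul]
  refine ⟨⟨fun ⟨D', hD'⟩ a b hab => ?_, fun h => ?_⟩, main⟩
  · rw [← hD', hab, Derivation.leibniz_pow, ← Nat.cast_smul_eq_nsmul B, CharP.cast_eq_zero, zero_smul]
  · obtain ⟨D', ⟨hD', -⟩, -⟩ := main h 0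
    exact ⟨D', hD'⟩

end Groth.Agent.S2465
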