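import Groth.Statements.S2468
import Groth.Agent.PBasis12.Field
import Groth.Agent.FSAdic12.Basic
import Mathlib.RingTheory.Unramified.Finite
import Mathlib.Algebra.Algebra.Epi
import Mathlib.RingTheory.Ideal.IdempotentFG
import Mathlib.RingTheory.IntegralClosure.IsIntegralClosure.Basic
import Mathlib.RingTheory.Smooth.Basic
import Mathlib.FieldTheory.Perfect
import Groth.Prelude.Def_FSRel

set_option autoImplicit false
set_option linter.all false
universe u
open EGA41 TensorProduct Groth.Agent.PBasis12

namespace Groth.Agent.S2468

/-- Let k ⊆ K be fields of characteristic p > 0 and (x_α) a family of elements of K. Then (x_α) is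
p-free over k if and only if the d_{K/k} x_α are linearly independent over K; it is a system of
p-generators of K over k if and only if the d x_α span Ω_{K/k}; and it is a p-basis if and only if
the d x_α form a basis of Ω_{K/k} (stated as the existence of a K-basis of Ω_{K/k} indexed by the
same index set whose members are the d x_α). (With the empty family the second equivalence
specializes to: Ω_{K/k} = 0 iff K = k(K^p).) -/
theorem result (p : ℕ) [Fact p.Prime] {k K : Type u} [Field k] [Field K] [Algebra k K] [CharP K p]
    {ι : Type u} (x : ι → K) :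
    (EGA41.IsPIndependent p k x ↔ LinearIndependent K (fun i => KaehlerDifferential.D k K (x i))) ∧
    (EGA41.IsPGenerating p k x ↔ Submodule.span K (Set.range fun i => KaehlerDifferential.D k K (x i)) = ⊤) ∧
    (EGA41.IsPBasis p k x ↔ ∃ b : Module.Basis ι K (Ω[K⁄k]), ∀ i, b i = KaehlerDifferential.D k K (x i)) := by
  refine ⟨isPIndependent_iff_D x, isPGenerating_iff_D x,
    fun h => ⟨kaehlerBasis h, kaehlerBasis_apply h⟩, fun ⟨b, hb⟩ => ?_⟩
  have hfun : ⇑b = fun i => KaehlerDifferential.D k K (x i) := funext hb
  exact ⟨(isPIndependent_iff_D x).mpr (hfun ▸ b.linearIndependent),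
    (isPGenerating_iff_D x).mpr (hfun ▸ b.span_eq)⟩

end Groth.Agent.S2468
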