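import Groth.Statements.S2473
import Groth.Agent.Cohen12.RadicialQuotient

set_option autoImplicit false
universe u
open EGA41

namespace Groth.Agent.S2473

open IsLocalRing TensorProduct in
/-- Let A be a regular local ring whose residue field K has characteristic p > 0; for 1 ≤ i ≤ r let F_i
= T_i^p + p Σ_{j=1}^{p-1} c_{ij} T_i^{p-j} − f_i with c_{ij}, f_i ∈ A, and let B be the quotient of
A[T_1, …, T_r] by the ideal generated by the F_i. Then B is a local ring, and B is regular if and
only if the elements d f_i ⊗ 1 of Ω_{A/ℤ} ⊗_A K are linearly independent over K. Assumed in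
addition: p lies in the square of the maximal ideal of A (which covers the case where A has
characteristic p); the printed statement omits this, and the equivalence can fail for A absolutely
unramified, e.g. A = ℤ_(p), r = 1, f_1 = p. (Condition (c) of the source, on the characteristic
homomorphism Ξ, is not stated.) -/
theorem result {A : Type u} [CommRing A] [IsRegularLocalRing A] (p : ℕ) [Fact p.Prime] [CharP (ResidueField A) p]
    {r : ℕ} (c : Fin r → Fin p → A) (f : Fin r → A)
    (hp : (p : A) ∈ maximalIdeal A ^ 2) :
    let F : Fin r → MvPolynomial (Fin r) A := fun i =>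
      MvPolynomial.X i ^ p + (p : MvPolynomial (Fin r) A) * (Finset.univ.sum fun j : Fin p =>
        if (j : ℕ) = 0 then 0 else MvPolynomial.C (c i j) * MvPolynomial.X i ^ (p - (j : ℕ))) - MvPolynomial.C (f i)
    IsLocalRing (MvPolynomial (Fin r) A ⧸ Ideal.span (Set.range F)) ∧
      (IsRegularRing (MvPolynomial (Fin r) A ⧸ Ideal.span (Set.range F)) ↔
        LinearIndependent (ResidueField A) (fun i => (1 : ResidueField A) ⊗ₜ[A] KaehlerDifferential.D ℤ A (f i))) := by
  intro F
  let g : Fin r → MvPolynomial (Fin r) A := fun i => Finset.univ.sum fun j : Fin p =>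
    if (j : ℕ) = 0 then 0 else MvPolynomial.C (c i j) * MvPolynomial.X i ^ (p - (j : ℕ))
  have hF : F = Cohen12.radEq p g f := rfl
  rw [hF]
  have hint : Algebra.IsIntegral A (MvPolynomial (Fin r) A ⧸ Ideal.span (Set.range (Cohen12.radEq p g f))) := by
    let J := Ideal.span (Set.range (Cohen12.radEq p g f))
    have hgen : ∀ i, IsIntegral A (Ideal.Quotient.mk J (MvPolynomial.X i)) := fun i => by
      let q : Polynomial A := Polynomial.C (p : A) * (Finset.univ.sum fun j : Fin p =>
        if (j : ℕ) = 0 then 0 else Polynomial.C (c i j) * Polynomial.X ^ (p - (j : ℕ))) - Polynomial.C (f i)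
      have hq : q.degree < p := by
        refine lt_of_le_of_lt (Polynomial.degree_sub_le _ _) (max_lt ?_ ?_)
        · rw [Finset.mul_sum]
          refine lt_of_le_of_lt (Polynomial.degree_sum_le _ _) ((Finset.sup_lt_iff (WithBot.bot_lt_coe p)).mpr fun j _ => ?_)
          split_ifs with h
          · simp
          · rw [← mul_assoc, ← Polynomial.C_mul]
            refine lt_of_le_of_lt (Polynomial.degree_C_mul_X_pow_le _ _) ?_
            exact Nat.cast_lt.mpr (by have := j.2; omega)
        · exact lt_of_le_of_lt Polynomial.degree_C_le (by exact_mod_cast (Fact.out : p.Prime).pos)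
      refine ⟨Polynomial.X ^ p + q, Polynomial.monic_X_pow_add hq, ?_⟩
      have h0 : Ideal.Quotient.mk J (Cohen12.radEq p g f i) = 0 :=
        Ideal.Quotient.eq_zero_iff_mem.mpr (Ideal.subset_span ⟨i, rfl⟩)
      simp only [Cohen12.radEq, g, map_sub, map_add, map_mul, map_pow, map_natCast, map_sum] at h0
      simp only [q, Polynomial.eval₂_add, Polynomial.eval₂_sub, Polynomial.eval₂_mul, Polynomial.eval₂_X_pow,
        Polynomial.eval₂_C, Polynomial.eval₂_finsetSum, map_natCast]
      rw [← add_sub_assoc]
      refine Eq.trans ?_ h0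
      congr 1
      refine congrArg₂ (· + ·) rfl (congrArg₂ (· * ·) (Polynomial.eval₂_natCast _ _ p) (Finset.sum_congr rfl fun j _ => ?_))
      split_ifs
      · simp
      · simp only [Polynomial.eval₂_mul, Polynomial.eval₂_C, Polynomial.eval₂_X_pow, map_mul, map_pow]
        rfl
    refine ⟨fun x => ?_⟩
    obtain ⟨x, rfl⟩ := Ideal.Quotient.mk_surjective x
    induction x using MvPolynomial.induction_on with
    | C a => exact isIntegral_algebraMap
    | add x y hx hy => rw [map_add]; exact hx.add hy
    | mul_X x i hx => rw [map_mul]; exact hx.mul (hgen i)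
  exact ⟨Cohen12.radQuotient_local g f, Cohen12.radQuotient_regular_iff g f hp⟩

end Groth.Agent.S2473
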