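import Groth.Statements.S2474
import Groth.Agent.KrullAkizuki12.Bound
import Groth.Agent.Cohen12.Completion

set_option autoImplicit false
universe u
open EGA41

namespace Groth.Agent.S2474

open IsLocalRing in
/-- A quotient over the maximal ideal is finite if residually independent families are bounded. -/
theorem finite_quotient_of_bounded {A S : Type u} [CommRing A] [IsLocalRing A] [CommRing S] [Algebra A S]
    (m : Ideal S) [m.LiesOver (maximalIdeal A)] (M : ℕ)
    (hM : ∀ v : Fin (M + 1) → S, ¬ ∀ c : Fin (M + 1) → A, ∑ i, c i • v i ∈ m → ∀ i, c i ∈ maximalIdeal A) :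
    Module.Finite A (S ⧸ m) := by
  let k := A ⧸ maximalIdeal A
  let : Field k := Ideal.Quotient.field _
  have : Module.Finite k (S ⧸ m) := by
    by_contra hk
    let β := Module.Free.chooseBasis k (S ⧸ m)
    have : Infinite (Module.Free.ChooseBasisIndex k (S ⧸ m)) := by
      by_contra hfi
      rw [not_infinite_iff_finite] at hfi
      exact hk (Module.Finite.of_basis β)
    let em := Infinite.natEmbedding (Module.Free.ChooseBasisIndex k (S ⧸ m))
    choose v hv using fun i : Fin (M + 1) => Ideal.Quotient.mk_surjective (β (em i))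
    refine hM v fun c hc i => ?_
    rw [← Ideal.Quotient.eq_zero_iff_mem]
    have hli : LinearIndependent k fun i : Fin (M + 1) => β (em i) :=
      β.linearIndependent.comp _ (em.injective.comp Fin.val_injective)
    refine Fintype.linearIndependent_iff.mp hli (fun j => Ideal.Quotient.mk (maximalIdeal A) (c j)) ?_ i
    have h0 : Ideal.Quotient.mk m (∑ j, c j • v j) = 0 := Ideal.Quotient.eq_zero_iff_mem.mpr hc
    rw [map_sum] at h0
    rw [← h0]
    refine Finset.sum_congr rfl fun j _ => ?_
    rw [← hv j]
    exact (algebraMap_smul k (c j) (Ideal.Quotient.mk m (v j))).trans (by rfl)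
  exact Module.Finite.trans k (S ⧸ m)

open IsLocalRing in
/-- Let A be a Noetherian local domain with fraction field K, K' a finite extension of K and A' the
integral closure of A in K'. Then A' has only finitely many maximal ideals, and for every maximal
ideal 𝔪' of A' the field A'/𝔪' is a finite extension of the residue field of A (equivalently a
finite A-module). -/
theorem result {A K' : Type u} [CommRing A] [IsDomain A] [IsLocalRing A] [IsNoetherianRing A]
    [Field K'] [Algebra A K'] [Algebra (FractionRing A) K'] [IsScalarTower A (FractionRing A) K'] [FiniteDimensional (FractionRing A) K'] :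
    {m : Ideal (integralClosure A K') | m.IsMaximal}.Finite ∧
      ∀ (m : Ideal (integralClosure A K')), m.IsMaximal → Module.Finite A (integralClosure A K' ⧸ m) := by
  classical
  let K := FractionRing A
  have hinjA : Function.Injective (algebraMap A K') := by
    rw [IsScalarTower.algebraMap_eq A K K']
    exact (algebraMap K K').injective.comp (IsFractionRing.injective A K)
  have : FaithfulSMul A K' := (faithfulSMul_iff_algebraMap_injective A K').2 hinjA
  have hne : ∀ {a : A}, a ≠ 0 → algebraMap A K' a ≠ 0 := fun ha h =>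
    ha (hinjA (h.trans (map_zero _).symm))
  have : Algebra.IsAlgebraic A K' := (IsFractionRing.comap_isAlgebraic_iff (A := A) (K := K) (C := K')).mpr inferInstance
  -- a finite subalgebra generating `K'`
  let b := Module.finBasis K K'
  choose a ha hai using fun i => (Algebra.IsAlgebraic.isAlgebraic (R := A) (b i)).exists_integral_multiple
  let gens : Finset K' := Finset.univ.image fun i => a i • b i
  have hgens : ∀ z ∈ gens, IsIntegral A z := fun z hz => by
    obtain ⟨i, -, rfl⟩ := Finset.mem_image.mp hz
    exact hai i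
  let B₀ : Subalgebra A K' := Algebra.adjoin A (gens : Set K')
  have hfin : ∀ s : Finset K', (∀ z ∈ s, IsIntegral A z) → Module.Finite A (Algebra.adjoin A (s : Set K')) :=
    fun s hs => Module.Finite.iff_fg.mpr (fg_adjoin_of_finite s.finite_toSet fun z hz => hs z hz)
  have : Module.Finite A B₀ := hfin gens hgens
  have hB₀ : ∀ z : K', ∃ c : A, c ≠ 0 ∧ algebraMap A K' c * z ∈ B₀ := by
    intro z
    have hb : ∀ i, ∃ c : A, c ≠ 0 ∧ algebraMap A K' c * (b.repr z i • b i) ∈ B₀ := fun i => by
      obtain ⟨u, s, hs, hus⟩ := IsFractionRing.div_surjective A (b.repr z i)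
      refine ⟨s * a i, mul_ne_zero (nonZeroDivisors.ne_zero hs) (ha i), ?_⟩
      have heq : algebraMap A K' (s * a i) * (b.repr z i • b i) = algebraMap A K' u * (a i • b i) := by
        rw [← hus, Algebra.smul_def, Algebra.smul_def, map_div₀, ← IsScalarTower.algebraMap_apply,
          ← IsScalarTower.algebraMap_apply, map_mul]
        field_simp [hne (nonZeroDivisors.ne_zero hs)]
      rw [heq]
      exact mul_mem (B₀.algebraMap_mem u) (Algebra.subset_adjoin (Finset.mem_image_of_mem _ (Finset.mem_univ i)))
    choose c hc hcz using hb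
    refine ⟨∏ i, c i, Finset.prod_ne_zero_iff.mpr fun i _ => hc i, ?_⟩
    rw [← b.sum_repr z, Finset.mul_sum]
    refine sum_mem fun i _ => ?_
    rw [← Finset.mul_prod_erase Finset.univ c (Finset.mem_univ i), map_mul, mul_comm (algebraMap A K' (c i)),
      mul_assoc]
    exact mul_mem (B₀.algebraMap_mem _) (hcz i)
  -- the completion
  let C := AdicCompletion (maximalIdeal A) A
  have := Cohen12.isNoetherianRing_completion A
  have := Cohen12.isAdicComplete_completion A
  have : Module.Flat A C := AdicCompletion.flat_of_isNoetherian _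
  have : IsLocalHom (algebraMap A C) := ⟨fun z hz => by
    by_contra hz'
    have h := (Cohen12.algebraMap_mem_pow_iff A 1 z).mpr (by rw [pow_one]; exact (mem_maximalIdeal _).mpr hz')
    rw [pow_one] at h
    exact h hz⟩
  have hres : ∀ c : C, ∃ x : A, c - algebraMap A C x ∈ maximalIdeal C := fun c => by
    simpa only [pow_one] using Cohen12.exists_sub_mem_pow A 1 c
  obtain ⟨N, M, hNM⟩ := KrullAkizuki12.exists_bound hres B₀ hB₀
  -- finite subalgebras of the integral closure
  let A' := integralClosure A K'
  have hsub : ∀ t : Finset A', ∃ B : Subalgebra A K', B₀ ≤ B ∧ Module.Finite A B ∧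
      ∃ ι : B →ₐ[A] A', ∀ x ∈ t, ∃ y : B, ι y = x := by
    intro t
    let s : Finset K' := gens ∪ t.image Subtype.val
    have hs : ∀ z ∈ s, IsIntegral A z := fun z hz => by
      rcases Finset.mem_union.mp hz with h | h
      · exact hgens z h
      · obtain ⟨y, -, rfl⟩ := Finset.mem_image.mp h
        exact y.2
    refine ⟨Algebra.adjoin A (s : Set K'), Algebra.adjoin_mono (fun z hz => Finset.mem_union_left _ hz), hfin s hs,
      Subalgebra.inclusion (Algebra.adjoin_le fun z hz => hs z hz), fun x hx =>
      ⟨⟨x.1, Algebra.subset_adjoin (Finset.mem_union_right _ (Finset.mem_image_of_mem _ hx))⟩, rfl⟩⟩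
  have hcomap : ∀ (B : Subalgebra A K') [Module.Finite A B] (ι : B →ₐ[A] A') (m : Ideal A'),
      m.IsMaximal → (m.comap ι).IsMaximal := by
    intro B _ ι m hm
    have : Algebra.IsIntegral A B := Algebra.IsIntegral.of_finite A B
    have : (m.comap ι).IsPrime := Ideal.comap_isPrime _ _
    refine Ideal.isMaximal_of_isIntegral_of_isMaximal_comap (R := A) _ ?_
    rw [show (m.comap ι).comap (algebraMap A B) = m.comap (algebraMap A A') by
      ext x; simp only [Ideal.mem_comap, AlgHom.commutes]]
    exact Ideal.isMaximal_comap_of_isIntegral_of_isMaximal m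
  refine ⟨?_, fun m hm => ?_⟩
  · by_contra hinf
    obtain ⟨s, hs, hscard⟩ := Set.Infinite.exists_subset_card_eq hinf (N + 1)
    have hsep : ∀ p : {q : Ideal A' × Ideal A' // q ∈ s.offDiag}, ∃ x : A', x ∈ p.1.1 ∧ x ∉ p.1.2 := fun p => by
      obtain ⟨h1, h2, h3⟩ := Finset.mem_offDiag.mp p.2
      by_contra hle
      push Not at hle
      exact h3 ((hs h1 : p.1.1.IsMaximal).eq_of_le (hs h2 : p.1.2.IsMaximal).ne_top hle)
    choose x hx using hsep
    obtain ⟨B, hB, hBfin, ι, hι⟩ := hsub (Finset.univ.image x)
    let Φ : s → MaximalSpectrum B := fun m => ⟨(m : Ideal A').comap ι, hcomap B ι _ (hs m.2)⟩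
    have hΦ : Function.Injective Φ := fun p q h => by
      by_contra hne'
      let pq : {q : Ideal A' × Ideal A' // q ∈ s.offDiag} :=
        ⟨(p, q), Finset.mem_offDiag.mpr ⟨p.2, q.2, fun e => hne' (Subtype.ext e)⟩⟩
      obtain ⟨y, hy⟩ := hι (x pq) (Finset.mem_image_of_mem x (Finset.mem_univ pq))
      have h1 : y ∈ (Φ p).asIdeal := by show ι y ∈ (p : Ideal A'); rw [hy]; exact (hx pq).1
      rw [h] at h1
      exact (hx pq).2 (hy ▸ h1)
    have := (hNM B hB hBfin).1 (Finset.univ.map ⟨Φ, hΦ⟩)
    simp [hscard] at this
  · have hover : m.LiesOver (maximalIdeal A) :=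
      ⟨(IsLocalRing.eq_maximalIdeal (Ideal.isMaximal_comap_of_isIntegral_of_isMaximal m)).symm⟩
    refine finite_quotient_of_bounded (A := A) m M fun v hv => ?_
    obtain ⟨B, hB, hBfin, ι, hι⟩ := hsub (Finset.univ.image v)
    choose y hy using fun i => hι (v i) (Finset.mem_image_of_mem v (Finset.mem_univ i))
    refine Nat.not_succ_le_self M ((hNM B hB hBfin).2 _ (hcomap B ι m hm) (M + 1) y fun c hc => hv c ?_)
    rw [Ideal.mem_comap, map_sum] at hc
    simpa only [map_smul, hy] using hc

end Groth.Agent.S2474
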