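import Groth.Statements.S2475
import Groth.Agent.Sep12.Admissible

set_option autoImplicit false
universe u
open EGA41 TensorProduct KaehlerDifferential

namespace Groth.Agent.S2475

/-- Let K be a field of characteristic p > 0, k₀ ⊆ K a subfield and (k_α) a decreasing filtered family
of subfields of K containing k₀. Then ⋂_α k_α(K^p) = k₀(K^p) if and only if the canonical map
Ω_{K/k₀} → lim_α Ω_{K/k_α} is injective (an element of Ω_{K/k₀} whose image in every Ω_{K/k_α}
vanishes is zero). (Conditions (b), (b') of the source, on admissible subfields, are not stated.) -/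
theorem result (p : ℕ) [Fact p.Prime] {k₀ K : Type u} [Field k₀] [Field K] [Algebra k₀ K] [CharP K p]
    {ι : Type u} [Preorder ι] [IsDirected ι (· ≤ ·)] [Nonempty ι] (k : ι → IntermediateField k₀ K) (hk : Antitone k) :
    (⨅ i, k i ⊔ IntermediateField.adjoin k₀ (Set.range fun y : K => y ^ p)) = IntermediateField.adjoin k₀ (Set.range fun y : K => y ^ p) ↔
      ∀ ω : Ω[K⁄k₀], (∀ i, KaehlerDifferential.map k₀ (k i) K K ω = 0) → ω = 0 := by
  constructor
  · intro h ω hω
    obtain ⟨i, hi⟩ := Groth.Agent.Sep12.exists_forall_eq_zero k hk h (L := K)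
      (Submodule.span K {(1 : K) ⊗ₜ[K] ω})
    have := hi _ (Submodule.mem_span_singleton_self _) (by simp [hω i])
    simpa using congrArg (TensorProduct.lid K _) this
  · intro h
    refine le_antisymm (fun x hx => ?_) (le_iInf fun i => le_sup_right)
    by_contra hx'
    refine (Groth.Agent.Sep12.notMem_powField_iff x).mp hx' (h _ fun i => ?_)
    rw [KaehlerDifferential.map_D]
    refine Groth.Agent.PBasis12.D_pPower_eq_zero (p := p) ?_
    rw [Groth.Agent.Sep12.mem_pPower_iff]
    rw [← SetLike.mem_coe, IntermediateField.coe_iInf, Set.mem_iInter] at hx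
    exact hx i

end Groth.Agent.S2475
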