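import Groth.Statements.S2477
import Groth.Agent.Cohen12.OmegaFree
import Groth.Agent.Cohen12.RegularFS

set_option autoImplicit false
universe u
open EGA41

namespace Groth.Agent.S2477

open IsLocalRing in
/-- Let k be a field and A = k[[T_1, …, T_r]] with its usual k-algebra structure. Then the adic
completion Ω̂_{A/k} of Ω_{A/k} is a free A-module of rank r. -/
theorem result (k : Type u) [Field k] (r : ℕ) :
    Module.Finite (MvPowerSeries (Fin r) k) (AdicCompletion (maximalIdeal (MvPowerSeries (Fin r) k)) (Ω[MvPowerSeries (Fin r) k⁄k])) ∧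
    Module.Free (MvPowerSeries (Fin r) k) (AdicCompletion (maximalIdeal (MvPowerSeries (Fin r) k)) (Ω[MvPowerSeries (Fin r) k⁄k])) ∧
      Module.finrank (MvPowerSeries (Fin r) k) (AdicCompletion (maximalIdeal (MvPowerSeries (Fin r) k)) (Ω[MvPowerSeries (Fin r) k⁄k])) = r := by
  have := CAlg6.isAdicComplete_maximalIdeal (k := k) (d := r)
  have : IsRegularLocalRing (MvPowerSeries (Fin r) k) := CAlg6.isRegularLocalRing_mvPowerSeries
  have hsurj : Function.Surjective (algebraMap k (ResidueField (MvPowerSeries (Fin r) k))) := fun x => by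
    obtain ⟨f, rfl⟩ := residue_surjective x
    refine ⟨MvPowerSeries.constantCoeff f, ?_⟩
    show residue _ (algebraMap k (MvPowerSeries (Fin r) k) _) = residue _ f
    rw [← sub_eq_zero, ← map_sub, residue_eq_zero_iff, CAlg6.mem_maximalIdeal_iff]
    simp [MvPowerSeries.algebraMap_apply]
  have : Module.Finite k (ResidueField (MvPowerSeries (Fin r) k)) :=
    Module.Finite.of_surjective (Algebra.linearMap k _) hsurj
  have htr : Algebra.trdeg k (ResidueField (MvPowerSeries (Fin r) k)) = 0 := by
    have : Algebra.IsAlgebraic k (ResidueField (MvPowerSeries (Fin r) k)) := Algebra.IsAlgebraic.of_finite k _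
    exact trdeg_eq_zero
  obtain ⟨h1, h2, h3⟩ := Cohen12.omegaHat_free (k := k) (A := MvPowerSeries (Fin r) k)
    (Cohen12.isAdicFormallySmooth_powerSeries r)
  refine ⟨h1, h2, ?_⟩
  rw [htr, CAlg6.ringKrullDim_mvPowerSeries, map_zero, Nat.cast_zero, add_zero] at h3
  exact_mod_cast h3

end Groth.Agent.S2477
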