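import Groth.Statements.S2478
import Groth.Agent.ConsPts12.Range
import Groth.Agent.E4O.GenOpen
import Groth.Prelude.Def_EGA43

set_option autoImplicit false
set_option linter.all false
universe u
open EGA41 CategoryTheory AlgebraicGeometry Topology Groth.Agent.ConsPts12

namespace Groth.Agent.S2478

open Topology in
/-- Equivalence of (a'') and (b) for X = Spec A affine: a subset E of Spec A is the image of the map
Spec B → Spec A induced by some ring homomorphism A → B if and only if E is an intersection of a
family of constructible subsets of Spec A. -/
theorem result {A : Type u} [CommRing A] (E : Set (PrimeSpectrum A)) :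
    (∃ (B : Type u) (_ : CommRing B) (f : A →+* B), Set.range (PrimeSpectrum.comap f) = E) ↔
      ∃ S : Set (Set (PrimeSpectrum A)), (∀ s ∈ S, IsConstructible s) ∧ E = ⋂₀ S := by
  refine ⟨?_, fun ⟨S, hS, hE⟩ => ⟨_, inferInstance, _, range_comap_pi_residueField hS hE⟩⟩
  rintro ⟨B, _, f, rfl⟩
  refine exists_sInter_constructible (Groth.Agent.SpecSp50.isClosed_range_cons ?_)
  exact (Spec.map (CommRingCat.ofHom f)).isSpectralMap

end Groth.Agent.S2478
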