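import Groth.Statements.S2479
import Groth.Agent.ConsPts12.Range
import Groth.Agent.E4O.GenOpen
import Groth.Prelude.Def_EGA43

set_option autoImplicit false
set_option linter.all false
universe u
open EGA41 CategoryTheory AlgebraicGeometry Topology Groth.Agent.ConsPts12

namespace Groth.Agent.S2479

open AlgebraicGeometry CategoryTheory Topology in
/-- Let X be a quasi-compact and quasi-separated scheme and E ⊆ X. Then E = f(X') for some quasi-compact
morphism f : X' → X if and only if E is an intersection of a family of constructible subsets of X. -/
theorem result {X : Scheme.{u}} [CompactSpace X] [QuasiSeparatedSpace X] (E : Set X) :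
    (∃ (X' : Scheme.{u}) (f : X' ⟶ X), QuasiCompact f ∧ Set.range f.base = E) ↔
      ∃ S : Set (Set X), (∀ s ∈ S, IsConstructible s) ∧ E = ⋂₀ S := by
  rw [← isProConstructible_iff_sInter]
  refine ⟨?_, fun h => ?_⟩
  · rintro ⟨X', f, hf, rfl⟩
    rw [← Set.image_univ]
    exact isProConstructible_image f (isProConstructible_univ X')
  · obtain ⟨X', f, hX', hf⟩ := exists_affine_range h
    exact ⟨X', f, inferInstance, hf⟩

end Groth.Agent.S2479
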