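import Groth.Statements.S2483
import Groth.Agent.Cohen12.Section
import Groth.Agent.CAlg1.Complete
import Mathlib.RingTheory.Unramified.Basic
import Mathlib.RingTheory.Kaehler.Basic

set_option autoImplicit false
universe u
open EGA41

namespace Groth.Agent.S2483

/-- The statement with an arbitrary `ℤ`-algebra structure on the residue field replaced by the canonical one. -/
theorem aux {C : Type u} [CommRing C] [IsLocalRing C] [IsNoetherianRing C] [IsAdicComplete (IsLocalRing.maximalIdeal C) C]
    (hm : IsLocalRing.maximalIdeal C ≠ ⊥) (K : Type u) [Field K] (r : C →+* K) (_hr : Function.Surjective r)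
    (hker : RingHom.ker r = IsLocalRing.maximalIdeal C) (u : K →+* C) (hu : ∀ x, r (u x) = x) :
    (∀ v : K →+* C, (∀ x, r (v x) = x) → v = u) ↔ Subsingleton (Ω[K⁄ℤ]) := by
  have hr0 : ∀ a : C, r a = 0 ↔ a ∈ IsLocalRing.maximalIdeal C := fun a => by rw [← hker, RingHom.mem_ker]
  constructor
  · intro huniq
    by_contra hne
    let m := IsLocalRing.maximalIdeal C
    obtain ⟨x, hx, hx2⟩ : ∃ x ∈ m, x ∉ m ^ 2 := by
      by_contra hc
      push Not at hc
      exact hm (Submodule.eq_bot_of_le_smul_of_le_jacobson_bot m m (IsNoetherian.noetherian _)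
        (by rw [smul_eq_mul, ← pow_two]; exact hc) (IsLocalRing.maximalIdeal_le_jacobson _))
    -- a non-zero derivation `K → K`
    obtain ⟨φ, w, hw⟩ : ∃ (φ : Ω[K⁄ℤ] →ₗ[K] K) (w : Ω[K⁄ℤ]), φ w ≠ 0 := by
      have : Nontrivial (Ω[K⁄ℤ]) := not_subsingleton_iff_nontrivial.mp hne
      obtain ⟨w, hw⟩ := exists_ne (0 : Ω[K⁄ℤ])
      obtain ⟨φ, hφ⟩ := not_forall.mp (mt (Module.forall_dual_apply_eq_zero_iff K w).mp hw)
      exact ⟨φ, w, hφ⟩
    have : IsScalarTower ℤ K K := IsScalarTower.right
    let D : Derivation ℤ K K := φ.compDer (KaehlerDifferential.D ℤ K)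
    let P := Groth.Agent.Sep12.prime K
    let : Algebra P C := (u.comp (algebraMap P K)).toAlgebra
    have : Algebra.FormallySmooth P K := Groth.Agent.Sep12.formallySmooth_of_perfectField P K
    have : IsAdicComplete (m ^ 2) C :=
      Groth.Agent.CAlg1.isAdicComplete_of_le (Ideal.pow_le_self two_ne_zero) (IsNoetherian.noetherian _)
    let q := Ideal.Quotient.mk (m ^ 2)
    have hx0 : ∀ a b : C, r a = r b → q a * q x = q b * q x := fun a b hab => by
      rw [← map_mul, ← map_mul, Ideal.Quotient.eq, ← sub_mul, pow_two]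
      exact Ideal.mul_mem_mul (by rw [← hr0, map_sub, hab, sub_self]) hx
    have hxx : q x * q x = 0 := by
      rw [← map_mul, Ideal.Quotient.eq_zero_iff_mem, pow_two]; exact Ideal.mul_mem_mul hx hx
    let v₁ : K →ₐ[P] C ⧸ m ^ 2 :=
      { toFun := fun a => q (u a) + q (u (D a)) * q x
        map_one' := by rw [D.map_one_eq_zero]; simp
        map_zero' := by simp
        map_add' := fun a b => by simp only [map_add]; ring
        map_mul' := fun a b => by
          simp only [Derivation.leibniz, smul_eq_mul, map_add, map_mul]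
          linear_combination (-(q (u (D a)) * q (u (D b)))) * hxx
        commutes' := fun c => by
          show q (u (algebraMap P K c)) + q (u (D (algebraMap P K c))) * q x = q (u (algebraMap P K c))
          rw [show D (algebraMap P K c) = 0 from Groth.Agent.Sep12.derivation_prime_eq_zero D c]
          simp }
    obtain ⟨g, hg⟩ := Groth.Agent.Cohen12.exists_lift_complete (m ^ 2) v₁
    have hgres : ∀ a, r (g a) = a := fun a => by
      have h1 : g a - (u a + u (D a) * x) ∈ m ^ 2 := by
        rw [← Ideal.Quotient.eq, hg, map_add, map_mul]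
        rfl
      have h2 := (hr0 _).mpr (Ideal.pow_le_self two_ne_zero h1)
      rw [map_sub, map_add, map_mul, (hr0 x).mpr hx, mul_zero, add_zero, hu, sub_eq_zero] at h2
      exact h2
    have hgu : g.toRingHom = u := huniq g.toRingHom hgres
    apply hw
    have hD : ∀ a, D a = 0 := fun a => by
      have h1 : q (u a) + q (u (D a)) * q x = q (u a) := by
        refine (hg a).symm.trans ?_
        exact congrArg q (RingHom.congr_fun hgu a)
      rw [add_eq_left, ← map_mul, Ideal.Quotient.eq_zero_iff_mem] at h1
      by_contra hDa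
      exact hx2 ((Ideal.unit_mul_mem_iff_mem _ (((isUnit_iff_ne_zero.mpr hDa)).map u)).mp h1)
    have hw' : w ∈ Submodule.span K (Set.range (KaehlerDifferential.D ℤ K)) := by
      rw [KaehlerDifferential.span_range_derivation]; trivial
    refine (LinearMap.eqOn_span (f := φ) (g := 0) ?_) hw'
    rintro _ ⟨a, rfl⟩
    exact (hD a).trans (LinearMap.zero_apply _).symm
  · intro hΩ v hv
    have : Algebra.FormallyUnramified ℤ K := ⟨hΩ⟩
    refine RingHom.ext fun a => ?_
    refine IsHausdorff.eq_iff_smodEq (I := IsLocalRing.maximalIdeal C).mpr fun n => ?_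
    rw [smul_eq_mul, Ideal.mul_top, SModEq.sub_mem, ← Ideal.Quotient.eq]
    let q := Ideal.Quotient.mk (IsLocalRing.maximalIdeal C ^ n)
    have hnil : IsNilpotent ((IsLocalRing.maximalIdeal C).map q) :=
      ⟨n, by rw [← Ideal.map_pow]; exact Ideal.map_quotient_self _⟩
    have key := Algebra.FormallyUnramified.ext (I := (IsLocalRing.maximalIdeal C).map q) hnil
      (g₁ := (q.comp v).toIntAlgHom) (g₂ := (q.comp u).toIntAlgHom) fun b => by
        refine Ideal.Quotient.eq.mpr ?_
        show q (v b) - q (u b) ∈ _
        rw [← map_sub]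
        refine Ideal.mem_map_of_mem q ?_
        rw [← hr0, map_sub, hv, hu, sub_self]
    exact AlgHom.congr_fun key a


open IsLocalRing in
/-- Let C be a complete Noetherian local ring with maximal ideal 𝔍 ≠ 0 and residue field K, and u : K →
C a ring homomorphism which is a section of the residue map. Then u is the only such section if and
only if Ω_{K/ℤ} = 0. -/
theorem result {C : Type u} [CommRing C] [IsLocalRing C] [IsNoetherianRing C] [IsAdicComplete (maximalIdeal C) C]
    (hm : maximalIdeal C ≠ ⊥) (u : ResidueField C →+* C) (hu : ∀ x, residue C (u x) = x) :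
    (∀ v : ResidueField C →+* C, (∀ x, residue C (v x) = x) → v = u) ↔ Subsingleton (Ω[ResidueField C⁄ℤ]) := by
  have h := aux hm (ResidueField C) (residue C) residue_surjective (ker_residue) u hu
  convert h using 2
  congr 1

end Groth.Agent.S2483
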