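import Groth.Statements.S2485
import Groth.Agent.PBasis12.Field
import Groth.Agent.FSAdic12.Basic
import Mathlib.RingTheory.Unramified.Finite
import Mathlib.Algebra.Algebra.Epi
import Mathlib.RingTheory.Ideal.IdempotentFG
import Mathlib.RingTheory.IntegralClosure.IsIntegralClosure.Basic
import Mathlib.RingTheory.Smooth.Basic
import Mathlib.FieldTheory.Perfect
import Groth.Prelude.Def_FSRel

set_option autoImplicit false
set_option linter.all false
universe u
open EGA41 TensorProduct Groth.Agent.PBasis12

namespace Groth.Agent.S2485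

/-- Let p be a prime and A → B a ring homomorphism making B an A-algebra of finite type, with B of
characteristic p, such that for some s ≥ 0 every p^s-th power of an element of B lies in the image
of A. If Ω_{B/A} = 0 then A → B is surjective. -/
theorem result (p : ℕ) [Fact p.Prime] {A B : Type u} [CommRing A] [CommRing B] [Algebra A B] [CharP B p]
    [Algebra.FiniteType A B] (s : ℕ) (hpow : ∀ b : B, b ^ p ^ s ∈ Set.range (algebraMap A B)) [Subsingleton (Ω[B⁄A])] :
    Function.Surjective (algebraMap A B) := by
  have hint : Algebra.IsIntegral A B := ⟨fun b => by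
    obtain ⟨a, ha⟩ := hpow b
    exact IsIntegral.of_pow (pow_pos (Fact.out : p.Prime).pos s) (ha ▸ isIntegral_algebraMap)⟩
  haveI : Module.Finite A B := Algebra.IsIntegral.finite
  have hu : Algebra.FormallyUnramified A B := ⟨inferInstance⟩
  have hidem : IsIdempotentElem (KaehlerDifferential.ideal A B) := by
    rw [← Ideal.cotangent_subsingleton_iff]
    exact (inferInstanceAs (Subsingleton (Ω[B⁄A])))
  obtain ⟨e, he, hI⟩ := (Ideal.isIdempotentElem_iff_of_fg _ (KaehlerDifferential.ideal_fg A B)).mp hidem
  have hp : (p : B ⊗[A] B) = 0 := by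
    rw [← map_natCast (algebraMap B (B ⊗[A] B)), CharP.cast_eq_zero, map_zero]
  have hnil : KaehlerDifferential.ideal A B ≤ nilradical (B ⊗[A] B) := by
    rw [← KaehlerDifferential.span_range_eq_ideal, Ideal.span_le]
    rintro _ ⟨b, rfl⟩
    refine mem_nilradical.mpr ⟨p ^ s, ?_⟩
    rcases subsingleton_or_nontrivial (B ⊗[A] B) with h | h
    · exact Subsingleton.elim _ _
    haveI : CharP (B ⊗[A] B) p := (CharP.charP_iff_prime_eq_zero Fact.out).mpr hp
    rw [sub_pow_char_pow]
    obtain ⟨a, ha⟩ := hpow b
    rw [Algebra.TensorProduct.tmul_pow, Algebra.TensorProduct.tmul_pow, one_pow, ← ha, sub_eq_zero,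
      Algebra.algebraMap_eq_smul_one, TensorProduct.tmul_smul, TensorProduct.smul_tmul']
  have hbot : KaehlerDifferential.ideal A B = ⊥ := by
    obtain ⟨n, hn⟩ := mem_nilradical.mp (hnil (by rw [hI]; exact Ideal.mem_span_singleton_self e))
    rcases eq_or_ne n 0 with rfl | hn0
    · have : Subsingleton (B ⊗[A] B) := subsingleton_of_zero_eq_one (by simpa using hn.symm)
      exact Subsingleton.elim _ _
    have he0 : e = 0 := by
      rw [← he.pow_eq (n := n) hn0] ; exact hn
    rw [hI, he0]; simp
  refine (Algebra.isEpi_iff_surjective_algebraMap_of_finite (R := A) (A := B)).mp ((Algebra.isEpi_iff_forall_one_tmul_eq A B).mpr fun b => ?_)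
  rw [← sub_eq_zero, ← Ideal.mem_bot, ← hbot]
  exact KaehlerDifferential.one_smul_sub_smul_one_mem_ideal A b

end Groth.Agent.S2485
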