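import Groth.Statements.S2486
import Groth.Agent.PBasis12.Basic
import Groth.Agent.S2485

set_option autoImplicit false
universe u
open EGA41

namespace Groth.Agent.S2486

/-- Let p be a prime, B an A-algebra of characteristic p and (x_α) a family of elements of B. Then (a) B
is generated as an A[B^p]-algebra by the x_α if and only if (b) (x_α) is a system of p-generators of
B over A; these imply (c) Ω_{B/A} is generated by the d x_α; and if B is an A[B^p]-algebra of finite
type, (c) implies (a). -/
theorem result (p : ℕ) [Fact p.Prime] {A B : Type u} [CommRing A] [CommRing B] [Algebra A B] [CharP B p]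
    {ι : Type u} (x : ι → B) :
    (Algebra.adjoin (EGA41.pPowerSubalgebra p A B) (Set.range x) = ⊤ ↔ EGA41.IsPGenerating p A x) ∧
    (EGA41.IsPGenerating p A x → Submodule.span B (Set.range fun i => KaehlerDifferential.D A B (x i)) = ⊤) ∧
    (Algebra.FiniteType (EGA41.pPowerSubalgebra p A B) B →
      Submodule.span B (Set.range fun i => KaehlerDifferential.D A B (x i)) = ⊤ → EGA41.IsPGenerating p A x) := by
  have hsp : IsPGenerating p A x → Submodule.span B (Set.range fun i => KaehlerDifferential.D A B (x i)) = ⊤ :=
    Groth.Agent.PBasis12.span_D_eq_top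
  refine ⟨Groth.Agent.PBasis12.aeval_surjective_iff x, hsp, fun hft hspan => ?_⟩
  refine (Groth.Agent.PBasis12.aeval_surjective_iff x).mp ?_
  set S := EGA41.pPowerSubalgebra p A B
  set C := Algebra.adjoin S (Set.range x)
  haveI : Algebra.FiniteType C B := Algebra.FiniteType.of_restrictScalars_finiteType S C B
  haveI : Subsingleton (Ω[B⁄C]) := by
    have hzero : (KaehlerDifferential.map A C B B) = 0 := by
      rw [← LinearMap.ker_eq_top, eq_top_iff, ← hspan, Submodule.span_le]
      rintro _ ⟨i, rfl⟩
      rw [SetLike.mem_coe, LinearMap.mem_ker, KaehlerDifferential.map_D, Algebra.algebraMap_self, RingHom.id_apply]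
      exact (KaehlerDifferential.D C B).map_algebraMap ⟨x i, Algebra.subset_adjoin (Set.mem_range_self i)⟩
    refine subsingleton_of_forall_eq 0 fun ω => ?_
    obtain ⟨η, rfl⟩ := KaehlerDifferential.map_surjective_of_surjective A C B B Function.surjective_id ω
    rw [hzero, LinearMap.zero_apply]
  have hsurj := Groth.Agent.S2485.result p (A := C) (B := B) 1 (fun b => by
    rw [pow_one]
    exact ⟨⟨b ^ p, C.algebraMap_mem ⟨b ^ p, Groth.Agent.PBasis12.pow_mem_pPower b⟩⟩, rfl⟩)
  rw [← top_le_iff]
  intro b _
  obtain ⟨c, rfl⟩ := hsurj b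
  exact c.2

end Groth.Agent.S2486
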