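import Groth.Statements.S2549
import Groth.Agent.Sk62.GeomRedFibre

set_option autoImplicit false
open CategoryTheory AlgebraicGeometry
universe u
open EGA43

open Groth.Agent

namespace Groth.Agent.S2549

/-- Let f : X ⟶ Y be flat and locally of finite presentation. The set of points x of X such that the
fibre of f through x, as a scheme over the residue field of f x, is geometrically reduced at x is
open in X. -/
theorem result {X Y : Scheme.{u}} (f : X ⟶ Y) [Flat f]
    [LocallyOfFinitePresentation f] :
    IsOpen {x : X | FBase.IsGeomReducedAt (f.fiberToSpecResidueField (f.base x)) (f.asFiber x)} := by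
  exact Sk62.isOpen_isGeomReducedAt_fibre f

end Groth.Agent.S2549
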