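import Groth.Statements.S2551
import Groth.Agent.Sk62.Open

set_option autoImplicit false
open CategoryTheory AlgebraicGeometry
universe u
open EGA43

open Groth.Agent

namespace Groth.Agent.S2551

/-- Let f : X ⟶ Y be flat and locally of finite presentation and k a natural number. The set of points x
of X such that the local ring at x of the fibre of f through x satisfies Serre's condition (S_k) is
open in X. -/
theorem result {X Y : Scheme.{u}} (f : X ⟶ Y) [Flat f] [LocallyOfFinitePresentation f]
    (k : ℕ) :
    IsOpen {x : X | LocCoh.HasSk k ((f.fiber (f.base x)).presheaf.stalk (f.asFiber x))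
      ((f.fiber (f.base x)).presheaf.stalk (f.asFiber x))} := by
  exact Sk62.isOpen_hasSk f k

end Groth.Agent.S2551
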