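import Groth.Statements.S2553
import Groth.Agent.Sk62.GeomIntegralFibre

set_option autoImplicit false
open CategoryTheory AlgebraicGeometry
universe u
open EGA43

open Groth.Agent

namespace Groth.Agent.S2553

/-- Let f : X ⟶ Y be proper, flat and locally of finite presentation. The set of points y of Y whose
fibre is geometrically integral over the residue field of y is open in Y. -/
theorem result {X Y : Scheme.{u}} (f : X ⟶ Y) [IsProper f]
    [Flat f] [LocallyOfFinitePresentation f] :
    IsOpen {y : Y | GeometricallyIntegral (f.fiberToSpecResidueField y)} := by
  exact Sk62.isOpen_geometricallyIntegral f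

end Groth.Agent.S2553
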