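import Groth.Statements.S2554
import Groth.Agent.Sk62.PtIntegralOpen

set_option autoImplicit false
open CategoryTheory AlgebraicGeometry
universe u
open EGA43

open Groth.Agent

namespace Groth.Agent.S2554

/-- Let f : X ⟶ Y be proper, flat and locally of finite presentation. The set of points y of Y whose
fibre is geometrically pointwise integral (all local rings of all base field extensions of the fibre
are domains) is open in Y. -/
theorem result {X Y : Scheme.{u}} (f : X ⟶ Y) [IsProper f]
    [Flat f] [LocallyOfFinitePresentation f] :
    IsOpen {y : Y | ∀ x : ↥(f.fiber y), FBase.IsGeomPtIntegralAt (f.fiberToSpecResidueField y) x} := by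
  rw [← isClosed_compl_iff]
  convert f.isClosedMap _ (Sk62.isOpen_giLocus f).isClosed_compl using 1
  ext y
  constructor
  · intro h
    obtain ⟨z, hz⟩ := not_forall.1 h
    refine ⟨f.fiberι y z, fun hmem => hz ((Sk62.giLocus_fibre_point f z rfl).2 hmem), ?_⟩
    exact E4O.apply_fiberι f y z
  · rintro ⟨x, hx, rfl⟩ h
    exact hx (h (f.asFiber x))

end Groth.Agent.S2554
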