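import Groth.Statements.S2555
import Groth.Agent.Sk62.Open

set_option autoImplicit false
open CategoryTheory AlgebraicGeometry
universe u
open EGA43

open Groth.Agent

namespace Groth.Agent.S2555

/-- Let f : X ⟶ Y be proper, flat and locally of finite presentation and k ≥ 1. The set of points y of Y
such that every local ring of the fibre X_y satisfies Serre's condition (S_k) is open in Y. -/
theorem result {X Y : Scheme.{u}} (f : X ⟶ Y) [IsProper f]
    [Flat f] [LocallyOfFinitePresentation f] (k : ℕ) (hk : 1 ≤ k) :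
    IsOpen {y : Y | ∀ x : ↥(f.fiber y), LocCoh.HasSk k ((f.fiber y).presheaf.stalk x) ((f.fiber y).presheaf.stalk x)} := by
  have heq : {y : Y | ∀ x : ↥(f.fiber y),
      LocCoh.HasSk k ((f.fiber y).presheaf.stalk x) ((f.fiber y).presheaf.stalk x)} =
      (f '' {x : X | LocCoh.HasSk k ((f.fiber (f x)).presheaf.stalk (f.asFiber x))
        ((f.fiber (f x)).presheaf.stalk (f.asFiber x))}ᶜ)ᶜ := by
    ext y
    constructor
    · rintro h ⟨x, hx, rfl⟩
      exact hx (h (f.asFiber x))
    · intro h x
      rw [Sk62.hasSk_fiber_iff]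
      by_contra hx
      exact h ⟨f.fiberι y x, hx, E4O.apply_fiberι f y x⟩
  rw [heq]
  exact (f.isClosedMap _ (Sk62.isOpen_hasSk f k).isClosed_compl).isOpen_compl

end Groth.Agent.S2555
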