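import Groth.Statements.S4934
import Groth.Agent.E4O.ChevalleyOpen
import Groth.Agent.E4O.FibreSets

set_option autoImplicit false
open CategoryTheory AlgebraicGeometry
universe u v w
open EGA43

namespace Groth.Agent.S4934

/-- Let Y be a locally Noetherian scheme, f : X ⟶ Y a morphism locally of finite type, x a maximal point
of its fibre X_y, and suppose y = f x is a geometrically unibranch point of Y (so that y lies on
exactly one irreducible component Y₀ of Y, with generic point η). The following are equivalent: a) f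
is universally open at x; b) there is an irreducible component Z of X containing x and dominating Y₀
with dim_x(Z ∩ X_y) = dim(Z ∩ X_η); b') for every open neighbourhood U of x and every generization
y' of y, dim(U ∩ X_{y'}) ≥ dim_x(X_y); c) f is open at x. (The published statement asserts a) ⇔ b) ⇔
b') over an arbitrary base and adds c) for a locally Noetherian one; over the spectrum Y of an
infinite product of copies of a field, the inclusion of a non-open closed point satisfies b) and not
a), and the published proof of b) ⇒ a) uses the openness criterion by lifting of generizations and a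
finiteness of irreducible components, both available over a locally Noetherian base, which is
assumed here throughout.) -/
theorem result {X Y : Scheme.{u}} [IsLocallyNoetherian Y] (f : X ⟶ Y)
    [LocallyOfFiniteType f] (x : X) (hmax : ∀ x' : X, f.base x' = f.base x → x ∈ closure {x'} → x' = x)
    (hy : CAlg2.IsGeomUnibranch (Y.presheaf.stalk (f.base x))) :
    List.TFAE [EGA43.IsUnivOpenAt f x,
      (∀ Y₀ ∈ irreducibleComponents (Y : Type u), f.base x ∈ Y₀ →
        ∃ Z ∈ irreducibleComponents (X : Type u), ∃ hx : x ∈ Z, closure (f.base '' Z) = Y₀ ∧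
          ∀ η : Y, closure ({η} : Set Y) = Y₀ →
            FlatMor.localDim ↥(Z ∩ f.base ⁻¹' {f.base x}) ⟨x, ⟨hx, rfl⟩⟩ =
              topologicalKrullDim ↥(Z ∩ f.base ⁻¹' {η})),
      (∀ U : X.Opens, x ∈ U → ∀ y' : Y, y' ⤳ f.base x →
        FlatMor.fibreDimAt f x ≤ topologicalKrullDim ↥((U : Set X) ∩ f.base ⁻¹' {y'})),
      EGA43.IsOpenAt f.base x] := by
  have hmax' : Groth.Agent.E4O.IsFibreMax f x := fun x' h1 h2 =>
    hmax x' h2 (specializes_iff_mem_closure.1 h1)
  have hd : FlatMor.fibreDimAt f x = (Groth.Agent.E4O.fdeg f x : ℕ) :=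
    Groth.Agent.E4O.fibreDimAt_eq_fdeg hmax'
  obtain ⟨η, hηy, hmin, hηc, hyη⟩ := Groth.Agent.E4O.exists_component_generic hy.1
  tfae_have 1 → 4 := Groth.Agent.E4O.isOpenAt_of_isUnivOpenAt
  tfae_have 4 → 2 := by
    intro h Y₀ hY₀ hyY₀
    obtain ⟨θ, rfl, hθ⟩ := Groth.Agent.E4O.exists_eq_closure_of_mem_irreducibleComponents hY₀
    obtain ⟨ξ, hξ, hξx, hle⟩ := Groth.Agent.E4O.exists_fdeg_ge_of_isOpenAt h
      (specializes_iff_mem_closure.2 hyY₀)
    obtain ⟨Z, hZ, hx, h1, h2, h3⟩ := Groth.Agent.E4O.exists_component_of_fdeg_ge f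
      specializes_rfl rfl hd hξx (by rw [hξ]; exact hY₀) hle
    refine ⟨Z, hZ, hx, by rw [h1, hξ], fun η' hη' => ?_⟩
    obtain rfl : η' = f ξ := by rw [hξ]; exact (inseparable_iff_closure_eq.2 hη').eq
    exact h2.trans h3.symm
  tfae_have 2 → 1 := by
    intro h
    obtain ⟨Z, hZ, hx, h1, h2⟩ := h _ hηc hyη
    obtain ⟨ξ, hξZ, hξη, -, hdim⟩ :=
      Groth.Agent.E4O.exists_generic_of_component_dominating f hZ h1
    have hξx : ξ ⤳ x := specializes_iff_mem_closure.2 (hξZ ▸ hx)
    refine Groth.Agent.E4O.isUnivOpenAt_of_geomUnibranch f hmax' hξx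
      (fun y' hy' => hξη.symm ▸ hmin y' hy') ?_ hy
    have := Groth.Agent.E4O.le_localDim_inter_fibre f
      (isClosed_of_mem_irreducibleComponents Z hZ) (x := x) specializes_rfl rfl hx rfl hx
    rw [h2 η rfl, hdim] at this
    exact_mod_cast this
  tfae_have 4 → 3 := by
    intro h U hxU y' hy'
    obtain ⟨ξ, hξ, hξx, hle⟩ := Groth.Agent.E4O.exists_fdeg_ge_of_isOpenAt h hy'
    rw [hd]
    refine le_trans ?_ (Groth.Agent.E4O.le_dim_inter_fibre f U (hξx.mem_open U.isOpen hxU) hξ)
    exact_mod_cast hle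
  tfae_have 3 → 2 := by
    intro h Y₀ hY₀ hyY₀
    obtain ⟨θ, rfl, hθ⟩ := Groth.Agent.E4O.exists_eq_closure_of_mem_irreducibleComponents hY₀
    suffices hex : ∃ ξ : X, f ξ = θ ∧ ξ ⤳ x ∧
        Groth.Agent.E4O.fdeg f x ≤ Groth.Agent.E4O.fdeg f ξ by
      obtain ⟨ξ, hξ, hξx, hle⟩ := hex
      obtain ⟨Z, hZ, hx, h1, h2, h3⟩ := Groth.Agent.E4O.exists_component_of_fdeg_ge f
        specializes_rfl rfl hd hξx (by rw [hξ]; exact hY₀) hle
      refine ⟨Z, hZ, hx, by rw [h1, hξ], fun η' hη' => ?_⟩
      obtain rfl : η' = f ξ := by rw [hξ]; exact (inseparable_iff_closure_eq.2 hη').eq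
      exact h2.trans h3.symm
    exact Groth.Agent.E4O.exists_fdeg_ge_of_forall_opens f hY₀ fun U hxU =>
      hd ▸ h U hxU θ (specializes_iff_mem_closure.2 hyY₀)
  tfae_finish

end Groth.Agent.S4934
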