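import Groth.Statements.S2556
import Groth.Agent.E4O.UnivOpenMap
import Groth.Agent.S4934

set_option autoImplicit false
open CategoryTheory AlgebraicGeometry
universe u
open EGA43

namespace Groth.Agent.S2556

/-- Suppose Y is a locally Noetherian scheme whose local rings are all geometrically unibranch, and f :
X ⟶ Y is locally of finite type. Then f is universally open exactly when its underlying map of
spaces is open. -/
theorem result {X Y : Scheme.{u}} [IsLocallyNoetherian Y]
    (hY : ∀ y : Y, CAlg2.IsGeomUnibranch (Y.presheaf.stalk y)) (f : X ⟶ Y) [LocallyOfFiniteType f] :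
    UniversallyOpen f ↔ IsOpenMap f.base := by
  refine ⟨fun _ => f.isOpenMap, fun h => Groth.Agent.E4O.universallyOpen_of_forall_isUnivOpenAt f fun x => ?_⟩
  obtain ⟨z, hzx, hfz, hzmax, -, -⟩ := Groth.Agent.E4O.exists_isFibreMax_specializes f x
  refine Groth.Agent.E4O.isUnivOpenAt_of_specializes_fibre hzx hfz ?_
  exact ((Groth.Agent.S4934.result f z (fun x' h1 h2 => hzmax x' (specializes_iff_mem_closure.2 h2) h1)
    (hY _)).out 0 3).2 (Groth.Agent.E4O.isOpenAt_of_isOpenMap h z)

end Groth.Agent.S2556
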