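import Groth.Statements.S2558
import Groth.Agent.LimTop61.UnivOpen
import Groth.Agent.E4O.FibreSets
import Groth.Agent.E4O.Subscheme

set_option autoImplicit false
open CategoryTheory AlgebraicGeometry
universe u
open EGA43

open Groth.Agent CategoryTheory.Limits

namespace Groth.Agent.S2558

open CategoryTheory.Limits in
/-- Let f : X ⟶ Y be locally of finite presentation. Suppose that for every irreducible scheme Y' and
every morphism of finite type g : Y' ⟶ Y, each irreducible component of X ×_Y Y' has dense image in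
Y'. Then f is universally open. -/
theorem result {X Y : Scheme.{u}} (f : X ⟶ Y) [LocallyOfFinitePresentation f]
    (h : ∀ (Y' : Scheme.{u}) (g : Y' ⟶ Y) [IrreducibleSpace Y'] [LocallyOfFiniteType g] [QuasiCompact g],
      ∀ Z ∈ irreducibleComponents (↥(pullback f g) : Type u), Dense ((pullback.snd f g).base '' Z)) :
    UniversallyOpen f := by
  refine Groth.Agent.LimTop61.OpenOnAffineSpaces.universallyOpen fun n P p q hP => ?_
  have : LocallyOfFinitePresentation q :=
    MorphismProperty.of_isPullback (P := @LocallyOfFinitePresentation) hP inferInstance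
  intro U hU
  rw [isOpen_iff_mem_nhds]
  rintro _ ⟨a, ha, rfl⟩
  refine (E4O.isOpenAt_iff_forall_exists_specializes (f := q) (x := a)).2 (fun y' hy' => ?_) U (hU.mem_nhds ha)
  let ι := (Scheme.IdealSheafData.vanishingIdeal
    (⟨closure {y'}, isClosed_closure⟩ : TopologicalSpace.Closeds _)).subschemeι
  have hrange : Set.range ι = closure {y'} := SchBasics.range_vanishingIdeal_subschemeι _
  have : IrreducibleSpace (Scheme.IdealSheafData.vanishingIdeal
      (⟨closure {y'}, isClosed_closure⟩ : TopologicalSpace.Closeds _)).subscheme := by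
    have : IrreducibleSpace ↥(Set.range ι) := by
      rw [hrange]
      exact isIrreducible_iff_irreducibleSpace.1 isIrreducible_singleton.closure
    rw [irreducibleSpace_def]
    have h0 := (IrreducibleSpace.isIrreducible_univ ↥(Set.range ι)).image
      ι.isClosedEmbedding.isEmbedding.toHomeomorph.symm
      ι.isClosedEmbedding.isEmbedding.toHomeomorph.symm.continuous.continuousOn
    rwa [Set.image_univ, Homeomorph.range_coe] at h0
  obtain ⟨z₁, hz₁⟩ : q a ∈ Set.range ι := hrange.ge (specializes_iff_mem_closure.1 hy')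
  obtain ⟨v, hv1, hv2⟩ := Scheme.Pullback.exists_preimage_pullback (f := q) (g := ι) a z₁ hz₁.symm
  have hsq : IsPullback (pullback.fst q ι ≫ p) (pullback.snd q ι) f
      (ι ≫ (𝔸(ULift.{u} (Fin (n + 1)); Y) ↘ Y)) :=
    (IsPullback.of_hasPullback q ι).paste_horiz hP
  let e := hsq.isoPullback
  obtain ⟨T, hT, hvT⟩ := exists_mem_irreducibleComponents_subset_of_isIrreducible {e.hom v}
    isIrreducible_singleton
  obtain ⟨ξ, rfl, hξ⟩ := E4O.exists_eq_closure_of_mem_irreducibleComponents hT
  have hd := h _ (ι ≫ (𝔸(ULift.{u} (Fin (n + 1)); Y) ↘ Y)) _ hT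
  rw [dense_iff_closure_eq] at hd
  erw [E4O.closure_image_closure_singleton] at hd
  obtain ⟨z₀, hz₀⟩ : y' ∈ Set.range ι := hrange.ge (subset_closure rfl)
  have hsp : ι ((pullback.snd f _) ξ) ⤳ y' := by
    exact ((specializes_iff_mem_closure.2 (hd.ge (Set.mem_univ z₀))).map ι.continuous).trans
      (specializes_of_eq hz₀)
  have hge : y' ⤳ ι ((pullback.snd f _) ξ) := specializes_iff_mem_closure.2 (hrange.le ⟨_, rfl⟩)
  have hcomp : pullback.snd q ι (e.inv ξ) = pullback.snd f _ ξ := by
    rw [← Scheme.Hom.comp_apply, IsPullback.isoPullback_inv_snd]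
  refine ⟨pullback.fst q ι (e.inv ξ), ?_, ?_⟩
  · rw [← Scheme.Hom.comp_apply, pullback.condition, Scheme.Hom.comp_apply, hcomp]
    exact (hsp.antisymm hge).eq
  · have h1 := ((specializes_iff_mem_closure.2 (hvT rfl) : ξ ⤳ e.hom v).map e.inv.continuous)
    have h2 : e.inv (e.hom v) = v := by rw [← Scheme.Hom.comp_apply, Iso.hom_inv_id]; rfl
    rw [h2] at h1
    exact hv1 ▸ h1.map (pullback.fst q ι).continuous

end Groth.Agent.S2558
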