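import Groth.Statements.S2560
import Groth.Agent.Sk62.FlatGeomRed

set_option autoImplicit false
open CategoryTheory AlgebraicGeometry
universe u
open EGA43

namespace Groth.Agent.S2560

/-- Let Y be a reduced locally Noetherian scheme and f : X ⟶ Y a universally open morphism locally of
finite type such that every fibre of f is geometrically reduced at each of its points. Then f is
flat. -/
theorem result {X Y : Scheme.{u}} [IsLocallyNoetherian Y] [IsReduced Y]
    (f : X ⟶ Y) [LocallyOfFiniteType f] [UniversallyOpen f]
    (hfib : ∀ x : X, FBase.IsGeomReducedAt (f.fiberToSpecResidueField (f.base x)) (f.asFiber x)) :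
    Flat f := by
  rw [Flat.iff_flat_stalkMap]
  intro x
  refine Sk62.flat_stalkMap_of_isUnivOpenAt f x (fun z _ _ Y' g x' _ U hU => ?_) (hfib x) inferInstance
  exact (Limits.pullback.snd f g).isOpenMap.image_mem_nhds hU

end Groth.Agent.S2560
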