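import Groth.Statements.S6884
import Groth.Agent.FiniteDescent3.Integral
import Groth.Agent.Stage62.ModuleModel

set_option autoImplicit false
universe u
open TensorProduct
open CAlg

namespace Groth.Agent.S6884

/-- For an injective integral ring map `R → S` and `n ≥ 0`, let `M` be a module of finite presentation
over the polynomial ring `R[x_1, …, x_n]`. Then flatness of `S ⊗_R M` over `S` forces flatness of
`M` over `R`. -/
theorem result (R S : Type u) [CommRing R]
    [CommRing S] [Algebra R S] [Algebra.IsIntegral R S] (hinj : Function.Injective (algebraMap R S)) (n : ℕ)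
    (M : Type u) [AddCommGroup M] [Module (MvPolynomial (Fin n) R) M] [Module R M]
    [IsScalarTower R (MvPolynomial (Fin n) R) M] [Module.FinitePresentation (MvPolynomial (Fin n) R) M]
    [Module.Flat S (S ⊗[R] M)] : Module.Flat R M := by
  obtain ⟨A₀, B₀, _, _, M₀, _, _, _, _, e, _, _, _⟩ :=
    Groth.Agent.Stage62.exists_module_model (A := R) (B := MvPolynomial (Fin n) R) (M := M)
  have hS : Module.Flat S (S ⊗[A₀] M₀) := Module.Flat.of_linearEquiv
    ((AlgebraTensorModule.cancelBaseChange A₀ R S S M₀).symm.trans
      (e.baseChange R S))
  have := Groth.Agent.FiniteDescent3.flat_of_integral (B₀ := B₀) hinj hS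
  exact Module.Flat.of_linearEquiv e.symm

end Groth.Agent.S6884
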