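import Groth.Statements.S2564
import Groth.Agent.S0386
import Groth.Agent.S6884

set_option autoImplicit false
open CategoryTheory AlgebraicGeometry
universe u
open EGA43

open Groth.Agent
open scoped TensorProduct

namespace Groth.Agent.S2564

open CategoryTheory.Limits in
/-- Let A ⟶ A' be an injective ring homomorphism making A' integral over A, f : X ⟶ Spec A locally of
finite presentation, x a point of X, and X' = X ×_{Spec A} Spec A'. If X' ⟶ Spec A' is flat at every
point of X' lying over x, then f is flat at x. -/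
theorem result {A A' : Type u} [CommRing A] [CommRing A']
    [Algebra A A'] [Algebra.IsIntegral A A'] (hinj : Function.Injective (algebraMap A A'))
    {X : Scheme.{u}} (f : X ⟶ Spec (CommRingCat.of A)) [LocallyOfFinitePresentation f] (x : X)
    (h : ∀ x' : ↥(pullback f (Spec.map (CommRingCat.ofHom (algebraMap A A')))),
      (pullback.fst f _).base x' = x →
      ((pullback.snd f (Spec.map (CommRingCat.ofHom (algebraMap A A')))).stalkMap x').hom.Flat) :
    (f.stalkMap x).hom.Flat := by
  let g := Spec.map (CommRingCat.ofHom (algebraMap A A'))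
  have : IsIntegralHom g := (IsIntegralHom.SpecMap_iff).2 (Algebra.IsIntegral.isIntegral (R := A) (A := A') |> fun h => h)
  let p := pullback.fst f g
  let q := pullback.snd f g
  let U' : Set ↥(pullback f g) := {z | (q.stalkMap z).hom.Flat}
  have hU' : IsOpen U' := S0386.result q
  have hC : IsClosed (p '' U'ᶜ) := p.isClosedMap _ hU'.isClosed_compl
  obtain ⟨W, hW, hxW, hWsub⟩ := exists_isAffineOpen_mem_and_subset (X := X) (x := x) (U := ⟨(p '' U'ᶜ)ᶜ, hC.isOpen_compl⟩)
    (fun ⟨z, hz, hzx⟩ => hz (h z hzx))
  obtain ⟨φ, hφ⟩ := Spec.map_surjective (hW.fromSpec ≫ f)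
  have hφ' : φ.hom.FinitePresentation :=
    (HasRingHomProperty.Spec_iff (P := @LocallyOfFinitePresentation)).1 (by rw [hφ]; infer_instance)
  algebraize [φ.hom]
  let B' := A' ⊗[A] Γ(X, W)
  have hpo := isPullback_SpecMap_of_isPushout _ _ _ _ (CommRingCat.isPushout_tensorProduct A A' Γ(X, W))
  let m : Spec (CommRingCat.of B') ⟶ pullback f g := pullback.lift
    (Spec.map (CommRingCat.ofHom (Algebra.TensorProduct.includeRight (R := A) (A := A') (B := Γ(X, W))).toRingHom) ≫ hW.fromSpec)
    (Spec.map (CommRingCat.ofHom (algebraMap A' B')))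
    (by rw [Category.assoc, ← hφ]; exact hpo.w.symm)
  have := hW.isOpenImmersion_fromSpec

  have hm : IsPullback (Spec.map (CommRingCat.ofHom (Algebra.TensorProduct.includeRight (R := A) (A := A') (B := Γ(X, W))).toRingHom)) m hW.fromSpec p := by
    refine IsPullback.of_bot ?_ (pullback.lift_fst _ _ _).symm (IsPullback.of_hasPullback f g)
    rw [pullback.lift_snd, ← hφ]
    exact hpo.flip
  have : IsOpenImmersion m := MorphismProperty.of_isPullback (P := @IsOpenImmersion) hm inferInstance
  have hflat : Flat (m ≫ q) := Flat.of_stalkMap _ fun z => by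
    have hz : m z ∈ U' := by
      by_contra hz
      refine hWsub (show p (m z) ∈ W from ?_) ⟨_, hz, rfl⟩
      rw [← Scheme.Hom.comp_apply, pullback.lift_fst, Scheme.Hom.comp_apply, ← SetLike.mem_coe, ← hW.range_fromSpec]
      exact ⟨_, rfl⟩
    rw [Scheme.Hom.stalkMap_comp]
    exact (RingHom.Flat.respectsIso.cancel_right_isIso _ _).2 hz
  rw [pullback.lift_snd] at hflat
  have hB' : Module.Flat A' B' := (HasRingHomProperty.Spec_iff (P := @Flat)).1 hflat |> RingHom.flat_algebraMap_iff.1
  obtain ⟨n, π, hπ, hker⟩ := Algebra.FinitePresentation.out (R := A) (A := Γ(X, W))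
  let _ : Algebra (MvPolynomial (Fin n) A) Γ(X, W) := π.toRingHom.toAlgebra
  have : IsScalarTower A (MvPolynomial (Fin n) A) Γ(X, W) := IsScalarTower.of_algebraMap_eq fun a => (π.commutes a).symm
  have : Module.FinitePresentation (MvPolynomial (Fin n) A) Γ(X, W) :=
    Module.finitePresentation_of_surjective (Algebra.linearMap (MvPolynomial (Fin n) A) Γ(X, W)) hπ hker
  have hBflat : Module.Flat A Γ(X, W) := S6884.result A A' hinj n Γ(X, W)
  have hfl : Flat (hW.fromSpec ≫ f) := by
    rw [← hφ]
    exact (HasRingHomProperty.Spec_iff (P := @Flat)).2 (RingHom.flat_algebraMap_iff.2 hBflat)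
  obtain ⟨w, rfl⟩ : x ∈ Set.range hW.fromSpec := by rw [hW.range_fromSpec]; exact hxW
  have := Flat.stalkMap (hW.fromSpec ≫ f) w
  rw [Scheme.Hom.stalkMap_comp] at this
  exact (RingHom.Flat.respectsIso.cancel_right_isIso _ _).1 this

end Groth.Agent.S2564
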