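import Groth.Statements.S2566
import Groth.Agent.Unib62.Chart

set_option autoImplicit false
open CategoryTheory AlgebraicGeometry
universe u
open EGA43

open Groth.Agent

namespace Groth.Agent.S2566

open CategoryTheory.Limits in
/-- Let A be a local domain which is unibranch, A' a local ring and A ⟶ A' an injective local
homomorphism. Let f : X ⟶ Spec A be locally of finite presentation, x a point of X over the closed
point, and X' = X ×_{Spec A} Spec A'. If X' ⟶ Spec A' is flat at every point of X' lying over x and
over the closed point of Spec A', then f is flat at x. -/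
theorem result {A A' : Type u} [CommRing A] [IsDomain A] [IsLocalRing A]
    (hA : CAlg2.IsUnibranch A) [CommRing A'] [IsLocalRing A'] [Algebra A A'] [IsLocalHom (algebraMap A A')]
    (hinj : Function.Injective (algebraMap A A'))
    {X : Scheme.{u}} (f : X ⟶ Spec (CommRingCat.of A)) [LocallyOfFinitePresentation f] (x : X)
    (hx : f.base x = IsLocalRing.closedPoint A)
    (h : ∀ x' : ↥(pullback f (Spec.map (CommRingCat.ofHom (algebraMap A A')))),
      (pullback.fst f _).base x' = x →
      (pullback.snd f (Spec.map (CommRingCat.ofHom (algebraMap A A')))).base x' = IsLocalRing.closedPoint A' →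
      ((pullback.snd f (Spec.map (CommRingCat.ofHom (algebraMap A A')))).stalkMap x').hom.Flat) :
    (f.stalkMap x).hom.Flat := by
  obtain ⟨B, _, _, q, _, _, hq, hconcl, hch⟩ := Unib62.exists_chart_data f x hx
  obtain ⟨x₀⟩ : Nonempty ↥(pullback f (Spec.map (CommRingCat.ofHom (algebraMap A A')))) := by
    obtain ⟨z, -⟩ := Scheme.exists_preimage_of_isPullback (IsPullback.of_hasPullback f
      (Spec.map (CommRingCat.ofHom (algebraMap A A')))) x (IsLocalRing.closedPoint A')
      (hx.trans (IsLocalRing.comap_closedPoint (algebraMap A A')).symm)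
    exact ⟨z⟩
  refine hconcl (Unib62.flat_atPrime_of_forall q hA hq A' hinj fun Q _ h1 h2 => ?_)
  obtain ⟨z, hz1, hz2, hz⟩ := (hch A' x₀).1 Q h1 h2
  exact hz (h z hz1 hz2)

end Groth.Agent.S2566
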