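import Groth.Statements.S2568
import Groth.Agent.Fam20.ChevalleyOpenMap

set_option autoImplicit false
open CategoryTheory AlgebraicGeometry
universe u
open EGA43

namespace Groth.Agent.S2568

/-- Chevalley's criterion in the case of irreducible source and base: let X and Y be irreducible
schemes, all local rings of Y geometrically unibranch, and f : X ⟶ Y a dominant morphism locally of
finite type such that for every point x the local dimension at x of the fibre through x equals the
dimension of the generic fibre (the fibre over the image of the generic point of X). Then f is
universally open. -/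
theorem result {X Y : Scheme.{u}} [IrreducibleSpace X] [IrreducibleSpace Y]
    (hY : ∀ y : Y, CAlg2.IsGeomUnibranch (Y.presheaf.stalk y)) (f : X ⟶ Y) [LocallyOfFiniteType f] [IsDominant f]
    (h : ∀ x : X, FlatMor.fibreDimAt f x = topologicalKrullDim ↥(f.fiber (f.base (genericPoint X)))) :
    UniversallyOpen f := by
  have hfin : (irreducibleComponents (Y : Type u)).Finite := by
    rw [irreducibleComponents_eq_singleton]
    exact Set.finite_singleton _
  have hηY : f (genericPoint X) = genericPoint Y := by
    have hd : DenseRange f := f.denseRange
    have h1 := (genericPoint_spec X).image f.continuous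
    rw [Set.image_univ, hd.closure_range] at h1
    exact h1.eq (genericPoint_spec Y)
  refine Groth.Agent.Fam20.universallyOpen_of_geomUnibranch f hY hfin fun x =>
    ⟨genericPoint X, (genericPoint_spec X).specializes (Set.mem_univ _), ?_, fun z _ hzx hfz => ?_⟩
  · rw [irreducibleComponents_eq_singleton, hηY, genericPoint_closure]
    rfl
  · have h2 := Groth.Agent.E4O.fdeg_le_fibreDimAt (f := f) hzx hfz
    have h3 : topologicalKrullDim ↥(f.fiber (f (genericPoint X))) =
        (Groth.Agent.E4O.fdeg f (genericPoint X) : ℕ) := by
      rw [(f.fiberHomeo _).isHomeomorph.topologicalKrullDim_eq,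
        ← Groth.Agent.E4O.dim_fibreClosure (f := f) (genericPoint X)]
      refine Groth.Agent.E4O.dim_set_congr ?_
      rw [genericPoint_closure, Set.univ_inter]
    rw [h x] at h2
    exact_mod_cast h2.trans h3.le

end Groth.Agent.S2568
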