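import Groth.Statements.S2572
import Groth.Agent.Open62.DedekindOpen

set_option autoImplicit false
open CategoryTheory AlgebraicGeometry
universe u
open EGA43

open Groth.Agent Groth.Agent.Open62.FiniteTest

namespace Groth.Agent.S2572

/-- Let Y be an irreducible locally Noetherian scheme whose local rings are regular of dimension at most
one, f : X ⟶ Y locally of finite type, and y a point of Y. If every irreducible component of X
meeting the fibre over y has dense image in Y, then there is an open subset U of X containing that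
fibre such that the restriction of f to U is universally open. -/
theorem result {X Y : Scheme.{u}} [IsLocallyNoetherian Y]
    [IrreducibleSpace Y]
    (hY : ∀ y : Y, IsRegularLocalRing (Y.presheaf.stalk y) ∧ ringKrullDim (Y.presheaf.stalk y) ≤ 1)
    (f : X ⟶ Y) [LocallyOfFiniteType f] (y : Y)
    (h : ∀ Z ∈ irreducibleComponents (X : Type u), (Z ∩ f.base ⁻¹' {y}).Nonempty → Dense (f.base '' Z)) :
    ∃ U : X.Opens, f.base ⁻¹' {y} ⊆ (U : Set X) ∧ UniversallyOpen (U.ι ≫ f) := by
  let S : Set X := {w | ∀ ξ : X, ξ ⤳ w → (∀ v, v ⤳ ξ → v = ξ) → Dense (f '' closure {ξ})}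
  let U : X.Opens := ⟨interior S, isOpen_interior⟩
  refine ⟨U, fun x hx => mem_interior_setOf_dense f fun ξ hξ hmax => ?_, ?_⟩
  · exact h _ (E4O.closure_mem_irreducibleComponents hmax)
      ⟨x, specializes_iff_mem_closure.1 hξ, hx⟩
  · refine universallyOpen_of_dense_components hY _ fun ξ hmax => ?_
    have hmaxX : ∀ v : X, v ⤳ U.ι ξ → v = U.ι ξ := fun v hv => by
      obtain ⟨v', rfl⟩ := hv.mem_open U.ι.isOpenEmbedding.isOpen_range ⟨ξ, rfl⟩
      rw [hmax v' (U.ι.isOpenEmbedding.isInducing.specializes_iff.1 hv)]
    have hd := (interior_subset ξ.2 : U.ι ξ ∈ S) (U.ι ξ) specializes_rfl hmaxX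
    rw [dense_iff_closure_eq, E4O.closure_image_closure_singleton] at hd ⊢
    exact hd

end Groth.Agent.S2572
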