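import Groth.Statements.S2587
import Groth.Agent.E4O.DvrCrit
import Groth.Agent.Sga84.Top

set_option autoImplicit false
open CategoryTheory AlgebraicGeometry
universe u
open EGA43

open CategoryTheory.Limits

namespace Groth.Agent.S2587

open CategoryTheory.Limits in
/-- Let Y be locally Noetherian, f : X ⟶ Y a morphism locally of finite type, and x ∈ X. The morphism f
is universally open at x exactly when: for every discrete valuation ring A and every morphism g :
Spec A ⟶ Y sending the closed point to f x, every point x' of X ×_Y Spec A lying over x and over the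
closed point of Spec A is a specialization of some point of X ×_Y Spec A lying over the generic
point of Spec A. -/
theorem result {X Y : Scheme.{u}} [IsLocallyNoetherian Y] (f : X ⟶ Y)
    [LocallyOfFiniteType f] (x : X) :
    EGA43.IsUnivOpenAt f x ↔
      ∀ (A : Type u) [CommRing A] [IsDomain A] [IsDiscreteValuationRing A]
        (g : Spec (CommRingCat.of A) ⟶ Y), g.base (IsLocalRing.closedPoint A) = f.base x →
        ∀ x' : ↥(pullback f g), (pullback.fst f g).base x' = x →
          (pullback.snd f g).base x' = IsLocalRing.closedPoint A →
          ∃ z' : ↥(pullback f g), z' ⤳ x' ∧ (pullback.snd f g).base z' ≠ IsLocalRing.closedPoint A := by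
  constructor
  · intro h A _ _ _ g _ z hzx hzc
    let η := genericPoint (Spec (CommRingCat.of A))
    let O : (pullback f g).Opens := ⟨(pullback.snd f g) ⁻¹' {IsLocalRing.closedPoint A}ᶜ,
      (IsLocalRing.isClosed_singleton_closedPoint A).isOpen_compl.preimage (pullback.snd f g).continuous⟩
    have hz : z ∈ closure (O : Set ↥(pullback f g)) := by
      rw [mem_closure_iff_nhds]
      intro U hU
      obtain ⟨w, hw, hwη⟩ : η ∈ (pullback.snd f g).base '' U :=
        (genericPoint_specializes ((pullback.snd f g) z)).mem_open isOpen_interior
          (mem_interior_iff_mem_nhds.mpr (h _ g z hzx U hU)) |> interior_subset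
      refine ⟨w, hw, ?_⟩
      show (pullback.snd f g) w ∈ ({IsLocalRing.closedPoint A}ᶜ : Set (Spec (CommRingCat.of A)))
      rw [hwη]
      exact Groth.Agent.E4O.genericPoint_ne_closedPoint
    haveI : IsLocallyNoetherian (pullback f g) := LocallyOfFiniteType.isLocallyNoetherian (pullback.snd f g)
    obtain ⟨p, -, hp⟩ := Sga84.exists_specializes_of_mem_closure O.ι isClosed_univ
      (Z := Set.univ) (y := z) (by rw [Set.image_univ, Scheme.Opens.range_ι]; exact hz)
    exact ⟨O.ι p, hp, p.2⟩
  · intro h
    refine Groth.Agent.E4O.isUnivOpenAt_of_dvr f x fun A _ _ _ g hg z hzx hzc => ?_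
    obtain ⟨z', hz', hne⟩ := h A g hg z hzx hzc
    have hη := (Groth.Agent.E4O.eq_closedPoint_or_eq_genericPoint _).resolve_left hne
    exact closure_mono (show {z'} ⊆ (pullback.snd f g) ⁻¹' {genericPoint (Spec (CommRingCat.of A))} from
      Set.singleton_subset_iff.mpr hη) (specializes_iff_mem_closure.mp hz')

end Groth.Agent.S2587
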