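import Groth.Statements.S3386
import Groth.Agent.E4O.ChartDim
import Groth.Agent.AffNorm62.FibreGeneric
import Groth.Agent.AffNorm62.OpenTarget
import Groth.Agent.S3394
import Groth.Agent.S3395

set_option autoImplicit false
open CategoryTheory AlgebraicGeometry
universe u
open EGA43

open Groth.Agent Groth.Agent.E4O TopologicalSpace Topology

namespace Groth.Agent.S3386

open CategoryTheory.Limits in
/-- Conditions a) and b): let f : X ⟶ Y be locally of finite type and fix a point x of X. Condition a)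
is equidimensionality of f at x (the definition used here); condition b): there are a natural number
e, an open neighbourhood U of x and a Y-morphism g from U to the affine space of dimension e over Y
which is locally quasi-finite and sends the generic point of every irreducible component of U to the
generic point of an irreducible component of the affine space. Then a) implies b); and b) implies a)
when Y is locally Noetherian. (The source states the equivalence over an arbitrary base; the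
implication b) ⟹ a) uses that irreducible components are locally finite and fails without some such
hypothesis.) -/
theorem result {X Y : Scheme.{u}}
    (f : X ⟶ Y) [LocallyOfFiniteType f] (x : X) :
    (EGA43.IsEquidimAt f x → (∃ (e : ℕ) (U : X.Opens) (g : (U : Scheme.{u}) ⟶ 𝔸(ULift.{u} (Fin e); Y)),
        x ∈ U ∧ g ≫ (𝔸(ULift.{u} (Fin e); Y) ↘ Y) = U.ι ≫ f ∧ LocallyQuasiFinite g ∧
        ∀ Z ∈ irreducibleComponents (↥U : Type u),
          closure (g.base '' Z) ∈ irreducibleComponents (↥𝔸(ULift.{u} (Fin e); Y) : Type u))) ∧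
    (IsLocallyNoetherian Y → (∃ (e : ℕ) (U : X.Opens) (g : (U : Scheme.{u}) ⟶ 𝔸(ULift.{u} (Fin e); Y)),
        x ∈ U ∧ g ≫ (𝔸(ULift.{u} (Fin e); Y) ↘ Y) = U.ι ≫ f ∧ LocallyQuasiFinite g ∧
        ∀ Z ∈ irreducibleComponents (↥U : Type u),
          closure (g.base '' Z) ∈ irreducibleComponents (↥𝔸(ULift.{u} (Fin e); Y) : Type u)) → EGA43.IsEquidimAt f x) := by
  have hι : ∀ (U : X.Opens) (z : ↥U), fdeg (U.ι ≫ f) z = fdeg f z.1 :=
    fun U z => fdeg_comp_openImmersion U.ι f z
  refine ⟨fun h => ?_, fun hY => ?_⟩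
  · obtain ⟨e, U, hxU, hcomp, hdim⟩ := h
    have hmax : ∀ z ∈ U, IsFibreMax f z → fdeg f z = e := by
      intro z hzU hzmax
      let z' : ↥U := ⟨z, hzU⟩
      have hmax' : IsFibreMax (U.ι ≫ f) z' := fun a ha hfa =>
        Subtype.ext (hzmax a.1 ((subtype_specializes_iff a z').1 ha) hfa)
      obtain ⟨Z, hZ, hd⟩ := exists_component_of_isFibreMax (U.ι ≫ f)
        (rfl : (U.ι ≫ f) z' = (U.ι ≫ f) z') hmax'
      have h1 := hdim z' Z hZ
      rw [hd, hι] at h1
      exact_mod_cast h1
    have hle : ∀ z ∈ U, ∃ a, a ∈ U ∧ a ⤳ z ∧ f a = f z ∧ fdeg f a = e ∧ fdeg f z ≤ e := by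
      intro z hz
      obtain ⟨a, ha, hfa, hamax, -, hd⟩ :=
        exists_isFibreMax_specializes (U.ι ≫ f) (⟨z, hz⟩ : ↥U)
      have hamax' : IsFibreMax f a.1 := fun w hw hfw => congrArg Subtype.val
        (hamax ⟨w, hw.mem_open U.isOpen a.2⟩ ((subtype_specializes_iff _ _).2 hw) hfw)
      replace hd : fdeg f z ≤ fdeg f a.1 :=
        (hι U ⟨z, hz⟩).symm.le.trans (hd.trans (hι U a).le)
      have he : fdeg f a.1 = e := hmax a.1 a.2 hamax'
      exact ⟨a.1, a.2, (subtype_specializes_iff _ _).1 ha, hfa, he, hd.trans he.le⟩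
    obtain ⟨V, hV, hyV, -⟩ :=
      exists_isAffineOpen_mem_and_subset (x := f x) (U := (⊤ : Y.Opens)) trivial
    obtain ⟨W, hW, hxW, hWsub⟩ :=
      exists_isAffineOpen_mem_and_subset (x := x) (U := U ⊓ f ⁻¹ᵁ V) ⟨hxU, hyV⟩
    have : IsAffine W := hW
    have : IsAffine V := hV
    have hWV : W ≤ f ⁻¹ᵁ V := fun a ha => (hWsub ha).2
    let fW : (W : Scheme.{u}) ⟶ V := f.resLE V W hWV
    have hfW : fW ≫ V.ι = W.ι ≫ f := Scheme.Hom.resLE_comp_ι _ _
    have : LocallyOfFiniteType (fW ≫ V.ι) := by rw [hfW]; infer_instance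
    have : LocallyOfFiniteType fW := locallyOfFiniteType_of_comp fW V.ι
    have hfd : ∀ w, fdeg fW w = fdeg f (W.ι w) := fun w => by
      have h1 := congrArg (fun k => fdeg k w) hfW
      simp only [fdeg_comp_openImmersion] at h1
      rw [← h1]
      exact (AffNorm62.fdeg_comp_right_openImmersion fW V.ι w).symm
    let x0 : (W : Scheme.{u}) := ⟨x, hxW⟩
    have he : topologicalKrullDim ↥(fW.fiber (fW x0)) = e := by
      refine le_antisymm ((dim_fiber_le_iff _ _ _).2 fun w _ => ?_) ?_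
      · rw [hfd]
        obtain ⟨a, -, -, -, -, h2⟩ := hle (W.ι w) (hWsub w.2).1
        exact_mod_cast h2
      · obtain ⟨a, haU, hax, hfa, had, -⟩ := hle x hxU
        let a0 : (W : Scheme.{u}) := ⟨a, hax.mem_open W.isOpen hxW⟩
        have h1 := le_dim_fiber fW a0
        have h2 : fW a0 = fW x0 := V.ι.isOpenEmbedding.injective (by
          erw [← Scheme.Hom.comp_apply, ← Scheme.Hom.comp_apply, hfW]
          exact hfa)
        rw [hfd, h2] at h1
        rw [← had]
        exact h1
    obtain ⟨g0, hg0, hfin⟩ := S3394.result fW (fW x0) ⟨x0, rfl⟩ e he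
    obtain ⟨-, U', hU', hqf⟩ := S3395.result fW (fW x0) ⟨x0, rfl⟩ e he g0 hg0 hfin
    let n := ULift.{u} (Fin e)
    have : IsOpenImmersion (AffineSpace.map n V.ι) :=
      MorphismProperty.of_isPullback (P := @IsOpenImmersion)
        (AffineSpace.isPullback_map (n := n) V.ι).flip inferInstance
    let g : ((W.ι ''ᵁ U' : X.Opens) : Scheme.{u}) ⟶ 𝔸(n; Y) :=
      (W.ι.isoImage U').inv ≫ (U'.ι ≫ g0) ≫ AffineSpace.map n V.ι
    have hg : g ≫ (𝔸(n; Y) ↘ Y) = (W.ι ''ᵁ U').ι ≫ f := by
      simp only [g, Category.assoc, AffineSpace.map_over]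
      erw [reassoc_of% hg0, hfW, Scheme.Hom.isoImage_inv_ι_assoc]
    have hgqf : LocallyQuasiFinite g := inferInstance
    have : LocallyOfFiniteType (g ≫ (𝔸(n; Y) ↘ Y)) := by rw [hg]; infer_instance
    have : LocallyOfFiniteType g := locallyOfFiniteType_of_comp g (𝔸(n; Y) ↘ Y)
    refine ⟨e, W.ι ''ᵁ U', g, ⟨x0, hU' rfl, rfl⟩, hg, hgqf, fun Z hZ => ?_⟩
    have : QuasiSober ↥(W.ι ''ᵁ U') :=
      (W.ι ''ᵁ U').isOpen.isOpenEmbedding_subtypeVal.quasiSober
    obtain ⟨w, rfl, hw⟩ := exists_eq_closure_of_mem_irreducibleComponents hZ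
    erw [closure_image_closure_singleton g w]
    have hwU : w.1 ∈ U := by
      obtain ⟨a, -, ha⟩ := w.2
      rw [← ha]
      exact (hWsub a.2).1
    have hξ : ∀ a, a ⤳ w.1 → a = w.1 := fun a ha => congrArg Subtype.val
      (hw ⟨a, ha.mem_open (W.ι ''ᵁ U').isOpen w.2⟩ ((subtype_specializes_iff _ _).2 ha))
    have hd : fdeg (𝔸(n; Y) ↘ Y) (g w) = e := by
      rw [← AffNorm62.fdeg_comp_eq_of_quasiFiniteAt g _ w (g.quasiFiniteAt w), hg,
        hι]
      exact hmax _ hwU fun a ha _ => hξ a ha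
    have : QuasiSober ↥U := U.isOpen.isOpenEmbedding_subtypeVal.quasiSober
    obtain ⟨W', hW', -, hWeq⟩ := hcomp _ (closure_mem_irreducibleComponents
      (z := (⟨w.1, hwU⟩ : ↥U))
      (fun a ha => Subtype.ext (hξ a.1 ((subtype_specializes_iff _ _).1 ha))))
    erw [closure_image_closure_singleton] at hWeq
    have hπ : (𝔸(n; Y) ↘ Y) (g w) = f w.1 := by
      erw [← Scheme.Hom.comp_apply, hg]; rfl
    obtain ⟨z, hz, hzmax⟩ := exists_eq_closure_of_mem_irreducibleComponents hW'
    have hzeq : z = f w.1 := AffNorm62.eq_of_closure_eq (hz.symm.trans hWeq.symm)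
    refine closure_mem_irreducibleComponents (AffNorm62.isMax_of_fdeg_eq e hd fun y' hy' => ?_)
    rw [hπ] at hy' ⊢
    exact hzeq ▸ hzmax y' (hzeq ▸ hy')
  · rintro ⟨e, U, g, hxU, hg, hqf, hZ⟩
    have : LocallyOfFiniteType (g ≫ (𝔸(ULift.{u} (Fin e); Y) ↘ Y)) := by rw [hg]; infer_instance
    have : LocallyOfFiniteType g :=
      locallyOfFiniteType_of_comp g (𝔸(ULift.{u} (Fin e); Y) ↘ Y)
    have key : ∀ z : ↥U, fdeg f z.1 = fdeg (𝔸(ULift.{u} (Fin e); Y) ↘ Y) (g z) := fun z => by
      rw [← AffNorm62.fdeg_comp_eq_of_quasiFiniteAt g _ z (g.quasiFiniteAt z), hg,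
        hι]
    refine isEquidimAt_of_forall_generic f x e ?_ fun ξ hξ hξmax => ?_
    · obtain ⟨z, hz, -, -, hd, -⟩ := exists_isFibreMax_specializes f x
      rw [hd]
      have := key ⟨z, hz.mem_open U.isOpen hxU⟩
      simp only at this
      rw [this]
      exact_mod_cast AffNorm62.fdeg_over_le e _
    · let ξ' : ↥U := ⟨ξ, hξ.mem_open U.isOpen hxU⟩
      have : QuasiSober ↥U := U.isOpen.isOpenEmbedding_subtypeVal.quasiSober
      have h1 := hZ (closure {ξ'}) (closure_mem_irreducibleComponents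
        fun a ha => Subtype.ext (hξmax a.1 ((subtype_specializes_iff _ _).1 ha)))
      erw [closure_image_closure_singleton] at h1
      obtain ⟨b, hb, hbmax⟩ := exists_eq_closure_of_mem_irreducibleComponents h1
      obtain rfl : b = g ξ' := (AffNorm62.eq_of_closure_eq hb).symm
      obtain ⟨hd, hy⟩ := AffNorm62.of_isMax e hbmax
      have hπ : (𝔸(ULift.{u} (Fin e); Y) ↘ Y) (g ξ') = f ξ := by
        erw [← Scheme.Hom.comp_apply, hg]; rfl
      rw [hπ] at hy
      exact ⟨(key ξ').trans hd, closure_mem_irreducibleComponents hy⟩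

end Groth.Agent.S3386
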