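import Groth.Statements.S2594
import Groth.Agent.E4O.ChartDim
import Groth.Agent.S3386
import Groth.Agent.AffNorm62.MaxBaseChange
import Mathlib.AlgebraicGeometry.Morphisms.UniversallyOpen

set_option autoImplicit false
open CategoryTheory AlgebraicGeometry
universe u
open EGA43

open Groth.Agent Groth.Agent.E4O TopologicalSpace Topology CategoryTheory.Limits

namespace Groth.Agent.S2594

open CategoryTheory.Limits in
/-- Let f : X ⟶ Y be locally of finite type and equidimensional at a point x, and g : Y' ⟶ Y a flat
morphism with Y' locally Noetherian (the source states this for arbitrary Y', but its proof reduces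
to the case where every irreducible component passes through the point, which needs the irreducible
components to be locally finite). Then the base change X ×_Y Y' ⟶ Y' is equidimensional at every
point lying over x. -/
theorem result {X Y Y' : Scheme.{u}} (f : X ⟶ Y) [LocallyOfFiniteType f] (g : Y' ⟶ Y) [Flat g] [IsLocallyNoetherian Y']
    (x : X) (h : EGA43.IsEquidimAt f x) (x' : ↥(pullback f g)) (hx' : (pullback.fst f g).base x' = x) :
    EGA43.IsEquidimAt (pullback.snd f g) x' := by
  obtain ⟨e, U, gU, hxU, hgU, hqf, hZ⟩ := (S3386.result f x).1 h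
  let U' : (pullback f g).Opens := (pullback.fst f g) ⁻¹ᵁ U
  let p : (U' : Scheme.{u}) ⟶ U := (pullback.fst f g) ∣_ U
  let g' : (U' : Scheme.{u}) ⟶ 𝔸(ULift.{u} (Fin e); Y') := AffineSpace.homOfVector (U'.ι ≫ pullback.snd f g)
    fun i => p.appTop (gU.appTop (AffineSpace.coord Y i))
  have hg' : g' ≫ (𝔸(ULift.{u} (Fin e); Y') ↘ Y') = U'.ι ≫ pullback.snd f g := AffineSpace.homOfVector_over _ _
  have hwhole : IsPullback p (U'.ι ≫ pullback.snd f g) (U.ι ≫ f) g :=
    (isPullback_morphismRestrict (pullback.fst f g) U).paste_vert (IsPullback.of_hasPullback f g)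
  have hsq : IsPullback p g' gU (AffineSpace.map (ULift.{u} (Fin e)) g) := by
    refine IsPullback.of_bot ?_ ?_ (AffineSpace.isPullback_map g)
    · rw [hg', hgU]; exact hwhole
    · apply AffineSpace.hom_ext
      · rw [Category.assoc, Category.assoc, AffineSpace.map_over, hgU, reassoc_of% hg']
        rw [← Category.assoc U'.ι]
        exact hwhole.w
      · intro i
        rw [Scheme.Hom.comp_appTop, Scheme.Hom.comp_appTop, CommRingCat.comp_apply,
          CommRingCat.comp_apply]
        exact ((congrArg _ (AffineSpace.map_appTop_coord g i)).trans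
          (AffineSpace.homOfVector_appTop_coord (U'.ι ≫ pullback.snd f g)
            (fun i => p.appTop (gU.appTop (AffineSpace.coord Y i))) i)).symm
  have hqf' : LocallyQuasiFinite g' := MorphismProperty.of_isPullback hsq hqf
  have hpflat : Flat p := MorphismProperty.of_isPullback (P := @Flat) hwhole.flip inferInstance
  refine (S3386.result (pullback.snd f g) x').2 inferInstance
    ⟨e, U', g', show pullback.fst f g x' ∈ U from hx' ▸ hxU, hg', hqf', fun Z hZ' => ?_⟩
  have : QuasiSober ↥U' := U'.isOpen.isOpenEmbedding_subtypeVal.quasiSober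
  have : QuasiSober ↥U := U.isOpen.isOpenEmbedding_subtypeVal.quasiSober
  obtain ⟨w, rfl, hw⟩ := exists_eq_closure_of_mem_irreducibleComponents hZ'
  erw [closure_image_closure_singleton g' w]
  have hpw : ∀ a, a ⤳ p w → a = p w := fun a ha => by
    obtain ⟨c, hc, hca⟩ := Flat.generalizingMap p (a := w) (b := a) ha
    exact hca ▸ congrArg p (hw c hc)
  have h1 := hZ _ (closure_mem_irreducibleComponents hpw)
  erw [closure_image_closure_singleton gU (p w)] at h1
  obtain ⟨b, hb, hbmax⟩ := exists_eq_closure_of_mem_irreducibleComponents h1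
  obtain rfl := AffNorm62.eq_of_closure_eq hb
  exact closure_mem_irreducibleComponents
    (AffNorm62.isMax_image_of_isPullback hsq w hw hbmax)

end Groth.Agent.S2594
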