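import Groth.Statements.S2595
import Groth.Agent.CM62.Criterion
import Groth.Agent.S3386
import Groth.Agent.E4O.DvrCrit
import Mathlib.AlgebraicGeometry.Morphisms.UniversallyOpen

set_option autoImplicit false
open CategoryTheory AlgebraicGeometry
universe u
open EGA43

open Groth.Agent TopologicalSpace

namespace Groth.Agent.S2595

/-- Let Y be locally Noetherian, f : X ⟶ Y locally of finite type and x a point of X. If O_{Y,f x} ⟶
O_{X,x} is flat and the local ring at x of the fibre through x is Cohen–Macaulay, then f is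
equidimensional at x. -/
theorem result {X Y : Scheme.{u}} [IsLocallyNoetherian Y] (f : X ⟶ Y)
    [LocallyOfFiniteType f] (x : X) (hflat : (f.stalkMap x).hom.Flat)
    (hCM : LocCoh.IsCohenMacaulayLocalRing ((f.fiber (f.base x)).presheaf.stalk (f.asFiber x))) :
    EGA43.IsEquidimAt f x := by
  have : LocallyOfFinitePresentation f := E4O.locallyOfFinitePresentation_of_isLocallyNoetherian f
  obtain ⟨z, -, -, hd, -, -⟩ := E4O.exists_fibreDimAt_eq f x
  obtain ⟨U, g, hxU, hg, hqf, hfl⟩ :=
    CM62.exists_flat_qf_toAffineSpace f x _ hd ⟨hflat, hCM⟩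
  refine (S3386.result f x).2 inferInstance ⟨_, U, g, hxU, hg, hqf, fun Z hZ => ?_⟩
  have : QuasiSober ↥U := U.isOpen.isOpenEmbedding_subtypeVal.quasiSober
  obtain ⟨w, rfl, hw⟩ := E4O.exists_eq_closure_of_mem_irreducibleComponents hZ
  erw [E4O.closure_image_closure_singleton g w]
  refine E4O.closure_mem_irreducibleComponents fun a ha => ?_
  obtain ⟨c, hc, hca⟩ := Flat.generalizingMap g (a := w) (b := a) ha
  exact hca ▸ congrArg g (hw c hc)

end Groth.Agent.S2595
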