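import Groth.Statements.S2596
import Groth.Agent.E4O.ProperAtDvr
-- import your own Groth.Agent.* helpers here

set_option autoImplicit false
open CategoryTheory AlgebraicGeometry
universe u
open EGA43

namespace Groth.Agent.S2596

open CategoryTheory.Limits in
/-- Let Y be locally Noetherian, f : X ⟶ Y separated and of finite type, and y a point of Y. Suppose
that for every discrete valuation ring A with fraction field K and every morphism g : Spec A ⟶ Y
sending the closed point to y, every K-point σ of X ×_Y Spec A lying over the generic point Spec K ⟶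
Spec A extends to a section of X ×_Y Spec A ⟶ Spec A. Then f is proper over some open neighbourhood
of y. -/
theorem result {X Y : Scheme.{u}} [IsLocallyNoetherian Y]
    (f : X ⟶ Y) [IsSeparated f] [LocallyOfFiniteType f] [QuasiCompact f] (y : Y)
    (h : ∀ (A : Type u) [CommRing A] [IsDomain A] [IsDiscreteValuationRing A]
      (g : Spec (CommRingCat.of A) ⟶ Y), g.base (IsLocalRing.closedPoint A) = y →
      ∀ σ : Spec (CommRingCat.of (FractionRing A)) ⟶ pullback f g,
        σ ≫ pullback.snd f g = Spec.map (CommRingCat.ofHom (algebraMap A (FractionRing A))) →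
        ∃ s : Spec (CommRingCat.of A) ⟶ pullback f g, s ≫ pullback.snd f g = 𝟙 _ ∧
          Spec.map (CommRingCat.ofHom (algebraMap A (FractionRing A))) ≫ s = σ) :
    ∃ U : Y.Opens, y ∈ U ∧ IsProper (f ∣_ U) := by
  refine Groth.Agent.E4O.ProperAt.exists_nhd f y fun η _ L _ A hA g k hg _ hkg => ?_
  haveI := hA
  let e : FractionRing A ≃ₐ[A] L := IsLocalization.algEquiv (nonZeroDivisors A) (FractionRing A) L
  let k' : Spec (CommRingCat.of (FractionRing A)) ⟶ Spec (CommRingCat.of L) :=
    Spec.map (CommRingCat.ofHom e.symm.toRingEquiv.toRingHom)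
  haveI : IsIso k' := by
    have : IsIso (CommRingCat.ofHom e.symm.toRingEquiv.toRingHom) :=
      (RingEquiv.toCommRingCatIso e.symm.toRingEquiv).isIso_hom
    infer_instance
  have he : k' ≫ Spec.map (CommRingCat.ofHom (algebraMap A L)) =
      Spec.map (CommRingCat.ofHom (algebraMap A (FractionRing A))) := by
    rw [← Spec.map_comp, ← CommRingCat.ofHom_comp]
    exact congrArg (fun t => Spec.map (CommRingCat.ofHom t)) (RingHom.ext fun a => e.symm.commutes a)
  obtain ⟨s, hs, hs'⟩ := h A g hg (Limits.pullback.lift (k' ≫ k)
    (Spec.map (CommRingCat.ofHom (algebraMap A (FractionRing A))))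
    (by rw [Category.assoc, hkg, reassoc_of% he])) (Limits.pullback.lift_snd _ _ _)
  refine ⟨s ≫ Limits.pullback.fst f g, by rw [Category.assoc, Limits.pullback.condition, reassoc_of% hs], ?_⟩
  rw [← cancel_epi k', reassoc_of% he, reassoc_of% hs', Limits.pullback.lift_fst]


end Groth.Agent.S2596
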