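import Groth.Statements.S6827
import Groth.Agent.Smooth28.Lift
-- import your own Groth.Agent.* helpers here

set_option autoImplicit false
universe u
open Smoothing

namespace Groth.Agent.S6827

/-- Let R → R₀ be a surjective ring map with kernel I (so R₀ = R/I) and A₀ a smooth R₀-algebra. Then
there is a smooth R-algebra A with A/IA isomorphic to A₀ as an R/I-algebra. -/
theorem result {R A₀ : Type u} [CommRing R] (I : Ideal R) [CommRing A₀]
    [Algebra (R ⧸ I) A₀] [Algebra.Smooth (R ⧸ I) A₀] :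
    ∃ (A : Type u) (_ : CommRing A) (_ : Algebra R A), Algebra.Smooth R A ∧
      Nonempty ((A ⧸ I.map (algebraMap R A)) ≃ₐ[R ⧸ I] A₀) := by
  letI : Algebra R A₀ := ((algebraMap (R ⧸ I) A₀).comp (Ideal.Quotient.mk I)).toAlgebra
  haveI : IsScalarTower R (R ⧸ I) A₀ := IsScalarTower.of_algebraMap_eq' rfl
  obtain ⟨A, _, _, hA, π, hπ, hker⟩ :=
    Groth.Agent.Smooth28.exists_smooth_lift (R := R) (R₀ := R ⧸ I) (A₀ := A₀) Ideal.Quotient.mk_surjective
  rw [show RingHom.ker (algebraMap R (R ⧸ I)) = I from Ideal.mk_ker] at hker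
  refine ⟨A, _, _, hA, ⟨AlgEquiv.ofBijective
    { toRingHom := Ideal.Quotient.lift (I.map (algebraMap R A)) π.toRingHom
        (fun x hx => show x ∈ RingHom.ker π.toRingHom from hker ▸ hx)
      commutes' := fun r => ?_ } ⟨?_, ?_⟩⟩⟩
  · obtain ⟨r, rfl⟩ := Ideal.Quotient.mk_surjective r
    exact π.commutes r
  · intro x y hxy
    obtain ⟨x, rfl⟩ := Ideal.Quotient.mk_surjective x
    obtain ⟨y, rfl⟩ := Ideal.Quotient.mk_surjective y
    rw [Ideal.Quotient.eq, ← hker]
    show π (x - y) = 0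
    rw [map_sub, sub_eq_zero]
    exact hxy
  · intro a
    obtain ⟨x, rfl⟩ := hπ a
    exact ⟨Ideal.Quotient.mk _ x, rfl⟩

end Groth.Agent.S6827
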