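import Groth.Statements.S2903
import Groth.Agent.Subtr56.ProperEff.Global
import Groth.Agent.S14797

set_option autoImplicit false
open CategoryTheory CategoryTheory.Limits AlgebraicGeometry Opposite
universe u
open SGA1

namespace Groth.Agent.S2903

/-- Let g : S' ⟶ S be proper, surjective and locally of finite presentation. Then every descent datum
relative to g whose underlying scheme is a finite etale cover of S' is isomorphic to the canonical
descent datum of a finite etale cover of S. (Descent data relative to g are taken in
functor-of-points form.) -/
theorem result {S' S : Scheme.{u}} (g : S' ⟶ S) [IsProper g] [Surjective g]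
    [LocallyOfFinitePresentation g] (D : Desc.SchDD g) [IsFinite D.obj.hom] [Etale D.obj.hom] :
    ∃ U : Over S, IsFinite U.hom ∧ Etale U.hom ∧ Nonempty ((Desc.toDD g).obj U ≅ D) := by
  obtain ⟨U, hqc, hsep, het, hiso⟩ := Subtr56.ProperEff.effective_of_proper D
  obtain ⟨U', π, hπ, rfl⟩ := Eff84.exists_isQuot_of_iso hiso
  have : IsFinite (pullback.snd U'.hom g) := by
    rw [← hπ.isPullback.isoPullback_inv_snd, MorphismProperty.cancel_left_of_respectsIso (P := @IsFinite)]
    infer_instance
  exact ⟨U', S14797.result g (Subtr56.ProperEff.univSubmersive_of_universallyClosed g) U'.hom, het, hiso⟩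

end Groth.Agent.S2903
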