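import Groth.Statements.S2904
import Groth.Agent.Subtr56.EffFp
import Groth.Agent.S14770

set_option autoImplicit false
open CategoryTheory CategoryTheory.Limits AlgebraicGeometry Opposite
universe u
open SGA1

namespace Groth.Agent.S2904

/-- Let S be locally Noetherian and g : S' ⟶ S of finite type, surjective and universally open. Then
every descent datum relative to g whose underlying scheme is etale, separated and quasi-compact over
S' is isomorphic to the canonical descent datum of a scheme etale, separated and quasi-compact over
S. (Descent data relative to g are taken in functor-of-points form.) -/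
theorem result {S' S : Scheme.{u}} [IsLocallyNoetherian S] (g : S' ⟶ S)
    [LocallyOfFiniteType g] [QuasiCompact g] [Surjective g] [UniversallyOpen g]
    (D : Desc.SchDD g) [QuasiCompact D.obj.hom] [IsSeparated D.obj.hom] [Etale D.obj.hom] :
    ∃ U : Over S, QuasiCompact U.hom ∧ IsSeparated U.hom ∧ Etale U.hom ∧ Nonempty ((Desc.toDD g).obj U ≅ D) := by
  have : LocallyOfFinitePresentation g := LocallyOfFinitePresentation.iff_locallyOfFiniteType.mpr inferInstance
  have : IsLocallyNoetherian S' := LocallyOfFiniteType.isLocallyNoetherian g
  have hg : SGA1.UnivSubmersive g := fun _ _ _ _ q hq => by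
    have : UniversallyOpen q := MorphismProperty.of_isPullback hq.flip ‹_›
    have : Surjective q := MorphismProperty.of_isPullback hq.flip ‹_›
    exact q.isOpenMap.isQuotientMap q.continuous q.surjective
  exact Subtr56.effEt_of_univSSubtrusive_fp ((S14770.result g).mp hg) D

end Groth.Agent.S2904
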