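import Groth.Statements.S2909
import Groth.Agent.Quot84.Finiteness

set_option autoImplicit false
open CategoryTheory CategoryTheory.Limits AlgebraicGeometry
universe u
open SGA1

namespace Groth.Agent.S2909

theorem result {X Y Z : Scheme.{u}} {G : Type u} [Group G] [Finite G] (ρ : G →* Aut X)
    (p : X ⟶ Y) (hp : SGA1.IsQuot ρ p) (f : X ⟶ Z) (q : Y ⟶ Z) (hq : p ≫ q = f) (hρ : ∀ g : G, (ρ g).hom ≫ f = f) :
    (IsAffineHom f ↔ IsAffineHom q) ∧ (IsSeparated f ↔ IsSeparated q) ∧
    (LocallyOfFiniteType f → IsFinite p) ∧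
    (IsLocallyNoetherian Z → LocallyOfFiniteType f → QuasiCompact f → LocallyOfFiniteType q ∧ QuasiCompact q) := by
  subst hq
  exact ⟨Quot84.isAffineHom_iff hp q, Quot84.isSeparated_iff hp q,
    fun _ => Quot84.isFinite_of_locallyOfFiniteType hp q,
    fun _ _ _ => ⟨Quot84.locallyOfFiniteType_desc hp q, Quot84.quasiCompact_desc hp q⟩⟩

end Groth.Agent.S2909
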