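import Groth.Statements.S2910
import Groth.Agent.Quot84.Connected

set_option autoImplicit false
open CategoryTheory CategoryTheory.Limits AlgebraicGeometry
universe u
open SGA1

namespace Groth.Agent.S2910

theorem result {X Y : Scheme.{u}} {G : Type u} [Group G] [Finite G] (ρ : G →* Aut X)
    (p : X ⟶ Y) (hp : SGA1.IsQuot ρ p) [IsLocallyNoetherian Y] [IsFinite p] [ConnectedSpace X]
    (hfaith : Function.Injective ρ) [Etale p] :
    (∀ (K : Type u) [Field K] [IsAlgClosed K] (ξ : Spec (CommRingCat.of K) ⟶ X) (g : G), ξ ≫ (ρ g).hom = ξ → g = 1) ∧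
    ∀ u : Aut X, u.hom ≫ p = p → ∃! g : G, ρ g = u := by
  exact ⟨Quot84.isFree_of_connected hp hfaith, fun u hu => Quot84.existsUnique_eq_of_connected hp hfaith u hu⟩

end Groth.Agent.S2910
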