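import Groth.Statements.S2913
import Groth.Agent.Sga84.Epi

set_option autoImplicit false
open CategoryTheory CategoryTheory.Limits AlgebraicGeometry Opposite
universe u
open SGA1

namespace Groth.Agent.S2913

theorem result {S' S : Scheme.{u}} (g : S' ⟶ S) [Surjective g]
    (hinj : ∀ U : S.Opens, Function.Injective (g.app U).hom) : Epi g := by
  exact ⟨fun a b h => Sga84.eq_of_comp_eq g g.surjective hinj h⟩

end Groth.Agent.S2913
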