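import Groth.Statements.S2921
import Groth.Agent.Sga84.KummerAlg
-- import your own Groth.Agent.* helpers here

set_option autoImplicit false
universe u
open IsLocalRing
open SGA1

namespace Groth.Agent.S2921

/-- Regularity and etaleness; the tameness assertion is not stated: Let A be a regular local ring, f_1,
…, f_r elements of the maximal ideal whose images in the cotangent space are linearly independent
(part of a regular system of parameters), and n_1, …, n_r ≥ 1. Then A' = A[T_1, …, T_r]/(T_i^{n_i} −
f_i) is a regular local ring; and if each n_i is invertible in the residue field of A, then A'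
becomes etale over A after inverting f_1 ⋯ f_r. -/
theorem result (A : Type u) [CommRing A] [IsRegularLocalRing A] (r : ℕ) (f : Fin r → A)
    (hm : ∀ i, f i ∈ maximalIdeal A)
    (hf : LinearIndependent (ResidueField A) (fun i => (maximalIdeal A).toCotangent ⟨f i, hm i⟩))
    (n : Fin r → ℕ) (hn : ∀ i, 1 ≤ n i) :
    IsRegularLocalRing (SGA1.kummerAlg A f n) ∧
    ((∀ i, IsUnit ((n i : ℕ) : ResidueField A)) →
      letI := (Localization.awayMap (algebraMap A (SGA1.kummerAlg A f n)) (∏ i, f i)).toAlgebra
      Algebra.Etale (Localization.Away (∏ i, f i)) (Localization.Away (algebraMap A (SGA1.kummerAlg A f n) (∏ i, f i)))) := by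
  refine ⟨Groth.Agent.KummerAlg84.isRegularLocalRing f hm hf hn, fun hu => ?_⟩
  let φ := Localization.awayMap (algebraMap A (SGA1.kummerAlg A f n)) (∏ i, f i)
  let := φ.toAlgebra
  have hu' : ∀ i, IsUnit ((n i : ℕ) : A) := fun i => by
    rw [← notMem_maximalIdeal, ← residue_eq_zero_iff, map_natCast]
    exact (hu i).ne_zero
  have hF : ∀ i, f i ∣ ∏ i, f i := fun i => Finset.dvd_prod_of_mem f (Finset.mem_univ i)
  have := Groth.Agent.KummerAlg84.etale_away (a := f) (n := n) hn hu' (∏ i, f i) hF
  have : IsScalarTower A (Localization.Away (∏ i, f i))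
      (Localization.Away (algebraMap A (SGA1.kummerAlg A f n) (∏ i, f i))) := .of_algebraMap_eq fun c => by
    show algebraMap A _ c = φ (algebraMap A _ c)
    simp only [φ, IsLocalization.Away.map, IsLocalization.map_eq]
    exact IsScalarTower.algebraMap_apply A (SGA1.kummerAlg A f n) _ c
  have : Algebra.Etale A (Localization.Away (∏ i, f i)) := Algebra.Etale.of_isLocalizationAway (∏ i, f i)
  exact Algebra.Etale.of_restrictScalars A _ _

end Groth.Agent.S2921
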