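import Groth.Statements.S2923
import Groth.Agent.Abh84.Dominated

set_option autoImplicit false
universe u
open IsLocalRing
open SGA1

namespace Groth.Agent.S2923

open AlgebraicGeometry CategoryTheory CategoryTheory.Limits in
/-- The Kummer coverings are cofinal among tame covers: let A be a strictly henselian regular local ring
(henselian with separably closed residue field), f_1, …, f_r part of a regular system of parameters
with each (f_i) a prime ideal, U ⊆ X = Spec A the open where f_1 ⋯ f_r is invertible, and V a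
connected finite etale cover of U tamely ramified along each f_i. Then for some exponents n_i ≥ 1
invertible in the residue field there is a surjective U-morphism from the restriction to U of the
Kummer covering Spec A[T_1, …, T_r]/(T_i^{n_i} − f_i) onto V. -/
theorem result (A : Type u) [CommRing A] [IsRegularLocalRing A] [IsDomain A] (r : ℕ) (f : Fin r → A)
    (hm : ∀ i, f i ∈ maximalIdeal A)
    (hf : LinearIndependent (ResidueField A) (fun i => (maximalIdeal A).toCotangent ⟨f i, hm i⟩))
    [∀ i, (Ideal.span {f i}).IsPrime]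
    [HenselianLocalRing A] [IsSepClosed (ResidueField A)]
    (V : FEt.Cat ((SGA1.specBasicOpen A (∏ i, f i)) : Scheme.{u})) [ConnectedSpace V.left] (htame : SGA1.IsTameAlong f (((V.hom ≫ ((SGA1.specBasicOpen A (∏ i, f i))).ι).appTop).hom.comp (Scheme.ΓSpecIso (CommRingCat.of A)).inv.hom)) :
    ∃ n : Fin r → ℕ, (∀ i, 1 ≤ n i) ∧ (∀ i, IsUnit ((n i : ℕ) : ResidueField A)) ∧
      ∃ φ : (↑((Spec.map (CommRingCat.ofHom (algebraMap A (SGA1.kummerAlg A f n)))) ⁻¹ᵁ (SGA1.specBasicOpen A (∏ i, f i))) : Scheme.{u}) ⟶ V.left, φ ≫ V.hom = (Spec.map (CommRingCat.ofHom (algebraMap A (SGA1.kummerAlg A f n)))) ∣_ (SGA1.specBasicOpen A (∏ i, f i)) ∧ Surjective φ := by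
  have hp : Groth.Agent.Abh84.IsParams f := ⟨hm, hf⟩
  obtain ⟨n, hn, hu, h⟩ := Groth.Agent.Abh84.exists_surjective_abstract hp V htame
  refine ⟨n, hn, fun i => by simpa using (hu i).map (residue A), ?_⟩
  obtain ⟨hK, -⟩ := Groth.Agent.Abh84.isParams_T hp hn
  obtain ⟨hH, hS⟩ := Groth.Agent.Abh84.strictlyHenselian_kummer hp hn
  have := Groth.Agent.CAlg1.isDomain_regular (SGA1.kummerAlg A f n)
  have := Groth.Agent.KummerAlg84.finite (a := f) hn
  exact h (SGA1.kummerAlg A f n) (Groth.Agent.KummerAlg84.injective_algebraMap hn)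
    (Groth.Agent.KummerAlg84.T f n) (Groth.Agent.KummerAlg84.T_pow f n)

end Groth.Agent.S2923
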