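import Groth.Statements.S2924
import Groth.Agent.Sga84.KummerAlg
import Groth.Agent.EtRam26.AbhIff
import Groth.Agent.EtRam26.Unr
-- import your own Groth.Agent.* helpers here

set_option autoImplicit false
universe u
open IsLocalRing
open SGA1

namespace Groth.Agent.S2924

/-- Let A be a regular local ring, f_1, …, f_r part of a regular system of parameters and n_i ≥ 1
invertible in the residue field. Then the Kummer algebra A[T_1, …, T_r]/(T_i^{n_i} − f_i) is tamely
ramified along each f_i (at every point of its generic fibre, with respect to the discrete valuation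
rings A_{(f_i)}). -/
theorem result (A : Type u) [CommRing A] [IsRegularLocalRing A] [IsDomain A] (r : ℕ) (f : Fin r → A)
    (hm : ∀ i, f i ∈ maximalIdeal A)
    (hf : LinearIndependent (ResidueField A) (fun i => (maximalIdeal A).toCotangent ⟨f i, hm i⟩))
    [∀ i, (Ideal.span {f i}).IsPrime] (n : Fin r → ℕ) (hn : ∀ i, 1 ≤ n i) (hu : ∀ i, IsUnit ((n i : ℕ) : ResidueField A)) :
    SGA1.IsTameAlong f (algebraMap A (SGA1.kummerAlg A f n)) := by
  open Groth.Agent.EtRam26 Polynomial in
  classical
  intro i q hqp hq
  have := hqp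
  let P := Ideal.span {f i}
  let A' := Localization.AtPrime P
  let Kf := FractionRing A
  let Kum := SGA1.kummerAlg A f n
  let φK : A →+* q.ResidueField := (algebraMap Kum q.ResidueField).comp (algebraMap A Kum)
  have hinjA : Function.Injective φK := by
    rw [RingHom.injective_iff_ker_eq_bot, eq_bot_iff, ← hq]
    intro a ha
    show algebraMap A Kum a ∈ q
    rw [← Ideal.algebraMap_residueField_eq_zero]
    exact ha
  have hf0 : ∀ j, f j ≠ 0 := fun j h0 => hf.ne_zero j (by
    rw [show (⟨f j, hm j⟩ : maximalIdeal A) = 0 from Subtype.ext h0, map_zero])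
  have hnA : ∀ j, IsUnit ((n j : ℕ) : A) := fun j => by
    rw [← notMem_maximalIdeal, ← residue_eq_zero_iff, map_natCast]
    exact (hu j).ne_zero
  let g : A' →+* q.ResidueField := SGA1.genericResidueMap (algebraMap A Kum) P q hq
  have hg : ∀ a, g (algebraMap A A' a) = φK a := fun a =>
    IsLocalization.lift_eq (SGA1.isUnit_genericResidue (algebraMap A Kum) P q hq) a
  have hle : P.primeCompl ≤ nonZeroDivisors A := fun a ha =>
    mem_nonZeroDivisors_of_ne_zero fun h0 => ha (h0 ▸ P.zero_mem)
  let : Algebra A' Kf := IsLocalization.localizationAlgebraOfSubmonoidLe A' Kf P.primeCompl (nonZeroDivisors A) hle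
  have : IsScalarTower A A' Kf :=
    IsLocalization.localization_isScalarTower_of_submonoid_le A' Kf P.primeCompl (nonZeroDivisors A) hle
  have : IsFractionRing A' Kf := IsFractionRing.isFractionRing_of_isDomain_of_isLocalization P.primeCompl A' Kf
  let : Algebra Kf q.ResidueField := (IsFractionRing.lift hinjA).toAlgebra
  have hKf : ∀ a, algebraMap Kf q.ResidueField (algebraMap A Kf a) = φK a := fun a =>
    IsFractionRing.lift_algebraMap hinjA a
  let : Algebra A' q.ResidueField := g.toAlgebra
  have hT : IsScalarTower A' Kf q.ResidueField := .of_algebraMap_eq' (IsLocalization.ringHom_ext P.primeCompl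
    (RingHom.ext fun a => by
      show g (algebraMap A A' a) = algebraMap Kf q.ResidueField (algebraMap A' Kf (algebraMap A A' a))
      rw [hg, ← IsScalarTower.algebraMap_apply A A' Kf, hKf]))
  let z : Fin r → q.ResidueField := fun j => algebraMap Kum q.ResidueField (Groth.Agent.KummerAlg84.T f n j)
  have hz : ∀ j, z j ^ n j = φK (f j) := fun j => by
    show algebraMap Kum q.ResidueField _ ^ n j = _
    rw [← map_pow, Groth.Agent.KummerAlg84.T_pow]
    rfl
  have hclosure : Subfield.closure (Set.range z ∪ Set.range (algebraMap Kf q.ResidueField)) = ⊤ := by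
    set F := Subfield.closure (Set.range z ∪ Set.range (algebraMap Kf q.ResidueField))
    have hKum : ∀ x : Kum, algebraMap Kum q.ResidueField x ∈ F := fun x => by
      obtain ⟨x, rfl⟩ := Ideal.Quotient.mk_surjective x
      induction x using MvPolynomial.induction_on with
      | C c => exact Subfield.subset_closure (Or.inr ⟨algebraMap A Kf c, hKf c⟩)
      | add x y hx hy => rw [map_add, map_add]; exact add_mem hx hy
      | mul_X x j hx =>
        rw [map_mul, map_mul]
        exact mul_mem hx (Subfield.subset_closure (Or.inl ⟨j, rfl⟩))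
    rw [eq_top_iff]
    intro x _
    obtain ⟨u, v, hv, rfl⟩ := IsFractionRing.div_surjective (A := Kum ⧸ q) x
    obtain ⟨u, rfl⟩ := Ideal.Quotient.mk_surjective u
    obtain ⟨v, rfl⟩ := Ideal.Quotient.mk_surjective v
    rw [show algebraMap (Kum ⧸ q) q.ResidueField (Ideal.Quotient.mk q u) = algebraMap Kum q.ResidueField u from
        (IsScalarTower.algebraMap_apply Kum (Kum ⧸ q) q.ResidueField u).symm,
      show algebraMap (Kum ⧸ q) q.ResidueField (Ideal.Quotient.mk q v) = algebraMap Kum q.ResidueField v from
        (IsScalarTower.algebraMap_apply Kum (Kum ⧸ q) q.ResidueField v).symm]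
    exact div_mem (hKum u) (hKum v)
  have hint : ∀ j, IsSeparable Kf (z j) := fun j => by
    have hne : (n j : Kf) ≠ 0 := by
      rw [← map_natCast (algebraMap A Kf)]
      exact (map_ne_zero_iff _ (IsFractionRing.injective A Kf)).mpr (hnA j).ne_zero
    refine (Polynomial.separable_X_pow_sub_C (algebraMap A Kf (f j)) hne
      ((map_ne_zero_iff _ (IsFractionRing.injective A Kf)).mpr (hf0 j))).of_dvd (minpoly.dvd _ _ ?_)
    simp [hz, hKf]
  have hadj : IntermediateField.adjoin Kf (Set.range z) = ⊤ := by
    apply IntermediateField.toSubfield_injective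
    rw [IntermediateField.adjoin_toSubfield, Set.union_comm, hclosure]
    rfl
  have hfd : FiniteDimensional Kf q.ResidueField := by
    have := IntermediateField.finiteDimensional_adjoin (K := Kf) (S := Set.range z)
      (by rintro _ ⟨j, rfl⟩; exact (hint j).isIntegral)
    rw [hadj] at this
    exact Module.Finite.equiv (IntermediateField.topEquiv (F := Kf) (E := q.ResidueField)).toLinearEquiv
  have hsep : Algebra.IsSeparable Kf q.ResidueField := by
    have := (IntermediateField.isSeparable_adjoin_iff_isSeparable Kf q.ResidueField).mpr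
      (by rintro _ ⟨j, rfl⟩; exact hint j : ∀ x ∈ Set.range z, IsSeparable Kf x)
    rw [hadj] at this
    exact AlgEquiv.Algebra.isSeparable (IntermediateField.topEquiv (F := Kf) (E := q.ResidueField))
  -- the discrete valuation ring
  let π : A' := algebraMap A A' (f i)
  have hπ : maximalIdeal A' = Ideal.span {π} := by
    rw [← Localization.AtPrime.map_eq_maximalIdeal, Ideal.map_span, Set.image_singleton]
  have hπ0 : π ≠ 0 := (map_ne_zero_iff _ (IsLocalization.injective A' hle)).mpr (hf0 i)
  have : IsDomain A' := IsLocalization.isDomain_of_le_nonZeroDivisors A' hle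
  have : IsNoetherianRing A' := IsLocalization.isNoetherianRing P.primeCompl A' inferInstance
  have hnf : ¬ IsField A' := fun h => hπ0 (by
    have := IsLocalRing.isField_iff_maximalIdeal_eq.mp h
    rw [hπ] at this
    exact Ideal.span_singleton_eq_bot.mp this)
  have : IsDiscreteValuationRing A' :=
    ((IsDiscreteValuationRing.TFAE A' hnf).out 0 4).mpr (show (maximalIdeal A').IsPrincipal from ⟨⟨π, hπ⟩⟩)
  let ψ : AdjoinRoot (X ^ n i - C π : A'[X]) →+* q.ResidueField :=
    AdjoinRoot.lift g (z i) (by simp [π, hg, hz])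
  show EtRam.IsTamelyRamified A' (algebraMap A' q.ResidueField)
  refine isTamelyRamified_of_unramified_root (K := Kf) hπ (hn i) ?_ (L' := q.ResidueField) (AlgHom.id Kf _) ψ ?_ ?_
  · rw [← map_natCast ((residue A').comp (algebraMap A A'))]
    exact ((hnA i).map _).ne_zero
  · rw [← IsScalarTower.algebraMap_eq]
    refine RingHom.ext fun a => ?_
    show ψ (AdjoinRoot.of _ a) = g a
    simp [ψ]
  intro hloc
  obtain ⟨hdom, hdvr, hmax, hof⟩ := eisenstein_root hπ (hn i)
  rw [isUnramifiedExt_iff]
  intro V hV
  let J := {j : Fin r // f j ∉ P}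
  let aJ : J → A' := fun j => algebraMap A A' (f j.1)
  let D := MvPolynomial J A' ⧸ Groth.Agent.KummerAlg84.ker aJ (fun j => n j.1)
  have hnJ : ∀ j : J, 1 ≤ n j.1 := fun j => hn _
  have : Module.Finite A' D := Groth.Agent.KummerAlg84.finite hnJ
  have : Algebra.FormallyUnramified A' D := by
    have hF : ∀ j : J, aJ j ∣ (1 : A') := fun j =>
      isUnit_iff_dvd_one.mp (IsLocalization.map_units A' (⟨f j.1, j.2⟩ : P.primeCompl))
    have he := Groth.Agent.KummerAlg84.etale_away (a := aJ) hnJ (fun j => by
      rw [← map_natCast (algebraMap A A')]; exact (hnA j.1).map _) 1 hF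
    have hu1 : IsUnit (algebraMap A' D (1 : A')) := by rw [map_one]; exact isUnit_one
    have e : D ≃ₐ[D] Localization.Away (algebraMap A' D (1 : A')) := IsLocalization.atUnit D _ _ hu1
    exact Algebra.FormallyUnramified.of_equiv (e.restrictScalars A').symm
  let kD : D →+* q.ResidueField := Ideal.Quotient.lift _ (MvPolynomial.eval₂Hom g (fun j : J => z j.1)) (fun x hx => by
    refine RingHom.mem_ker.mp (Ideal.span_le.mpr ?_ hx)
    rintro _ ⟨j, rfl⟩
    simp [aJ, hg, hz])
  refine (ramHom_one_of_baseChange (A := A') (AdjoinRoot.of _) ψ kD ?_ ?_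
    ({z i} ∪ Set.range (algebraMap Kf q.ResidueField) ∪ {x | ∃ j, f j ∈ P ∧ j ≠ i ∧ x = z j}) ?_ ?_ V hV).2
  · refine RingHom.ext fun a => ?_
    show kD (Ideal.Quotient.mk _ (MvPolynomial.C a)) = ψ (AdjoinRoot.of _ a)
    show MvPolynomial.eval₂Hom g (fun j : J => z j.1) (MvPolynomial.C a) = _
    simp only [ψ, MvPolynomial.eval₂Hom_C, AdjoinRoot.lift_of]
  · rw [RingHom.injective_iff_ker_eq_bot]
    by_contra hne
    have hp : (RingHom.ker ψ).IsPrime := RingHom.ker_isPrime ψ
    have hroot : AdjoinRoot.root _ ∈ RingHom.ker ψ :=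
      (IsLocalRing.eq_maximalIdeal (hp.isMaximal hne)).ge (hmax.ge (Ideal.mem_span_singleton_self _))
    have hzi : z i = 0 := by simpa [ψ] using hroot
    have := hz i
    rw [hzi, zero_pow (Nat.one_le_iff_ne_zero.mp (hn i))] at this
    exact hf0 i (hinjA (this.symm.trans (map_zero φK).symm))
  · rintro y ((rfl | ⟨c, rfl⟩) | ⟨j, hjP, hji, rfl⟩)
    · exact ⟨AdjoinRoot.root _, 1, by simp, by simp [ψ]⟩
    · obtain ⟨a, s, rfl⟩ := IsLocalization.exists_mk'_eq (nonZeroDivisors A) c
      refine ⟨AdjoinRoot.of _ (algebraMap A A' a), AdjoinRoot.of _ (algebraMap A A' s.1), ?_, ?_⟩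
      · simp only [ψ, AdjoinRoot.lift_of, hg]
        exact (map_ne_zero_iff _ hinjA).mpr (nonZeroDivisors.coe_ne_zero s)
      · simp only [ψ, AdjoinRoot.lift_of, hg, ← hKf, ← map_mul, IsLocalization.mk'_spec]
    · exfalso
      -- the other parameters are units at `P`
      obtain ⟨c, hc⟩ := Ideal.mem_span_singleton'.mp hjP
      have h0 := congrArg ((maximalIdeal A).toCotangent) (Subtype.ext hc.symm : (⟨f j, hm j⟩ : maximalIdeal A) = c • ⟨f i, hm i⟩)
      rw [map_smul, ← IsScalarTower.algebraMap_smul (ResidueField A) c] at h0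
      have h1 := hf (a₁ := Finsupp.single j 1) (a₂ := Finsupp.single i (algebraMap A (ResidueField A) c))
        (by simpa [Finsupp.linearCombination_single] using h0)
      have h2 := congrArg (fun v : Fin r →₀ ResidueField A => v j) h1
      simp [Finsupp.single_eq_of_ne hji] at h2
  · rw [eq_top_iff, ← hclosure, Subfield.closure_le]
    rintro x (⟨j, rfl⟩ | hx)
    · by_cases hj : f j ∈ P
      · refine Subfield.subset_closure (Or.inl ?_)
        rcases eq_or_ne j i with rfl | hji
        · exact Or.inl (Or.inl rfl)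
        · exact Or.inr ⟨j, hj, hji, rfl⟩
      · refine Subfield.subset_closure (Or.inr ⟨Ideal.Quotient.mk _ (MvPolynomial.X ⟨j, hj⟩), ?_⟩)
        exact MvPolynomial.eval₂Hom_X' g (fun j : J => z j.1) ⟨j, hj⟩
    · exact Subfield.subset_closure (Or.inl (Or.inl (Or.inr hx)))

end Groth.Agent.S2924
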