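import Groth.Statements.S2925
import Groth.Agent.Quot84.Desc

set_option autoImplicit false
open CategoryTheory CategoryTheory.Limits AlgebraicGeometry
universe u
open SGA1

namespace Groth.Agent.S2925

theorem result {X Y : Scheme.{u}} {G : Type u} [Group G] [Finite G] (ρ : G →* Aut X)
    (p : X ⟶ Y) (hp : SGA1.IsQuot ρ p) (Z : Scheme.{u}) (h : X ⟶ Z) (hh : ∀ g : G, (ρ g).hom ≫ h = h) :
    ∃! h' : Y ⟶ Z, p ≫ h' = h := by
  exact Quot84.existsUnique_desc hp h hh

end Groth.Agent.S2925
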