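import Groth.Statements.S2928
import Groth.Agent.PDual19.Vanish

set_option autoImplicit false
universe u
open CategoryTheory AlgebraicGeometry
open ProjDual

namespace Groth.Agent.S2928

/-- (i)⇔(ii): Let k be a field, X = P^r_k, F a coherent O_X-module and n ≥ 0. Then H^i(X, F(−m)) = 0 for
all i ≤ n and all sufficiently large m if and only if at every closed point x of X the stalk F_x has
depth greater than n over O_{X,x}. -/
theorem result (k : Type u) [Field k] (r : ℕ) (F : (CohB1.ProjSpace r k).Modules) (hF : Coh.IsCoh F) (n : ℕ) : (∃ m₀ : ℤ, ∀ m : ℤ, m₀ ≤ m → ∀ i : ℕ, i ≤ n → Subsingleton (Coh.HH (CohB1.ProjSpace r k) (Twist.twistBy _ F (-m)) i)) ↔ ∀ x : (CohB1.ProjSpace r k), IsClosed ({x} : Set (CohB1.ProjSpace r k)) → (n : ℕ∞) < LocCoh.depth ((CohB1.ProjSpace r k).presheaf.stalk x) (F.presheaf.stalk x) := by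
  haveI := hF.1
  haveI := hF.2
  have hd : ∀ x : CohB1.ProjSpace r k, (n : ℕ∞) < LocCoh.depth ((CohB1.ProjSpace r k).presheaf.stalk x)
      (F.presheaf.stalk x) ↔ ∀ i, i < n + 1 →
        Subsingleton (LocCoh.H (IsLocalRing.maximalIdeal ((CohB1.ProjSpace r k).presheaf.stalk x)) i
          (F.presheaf.stalk x)) := fun x => by
    haveI := Groth.Agent.LC16.ExtCodim.regular_projSpace k r x
    haveI : Module.Finite ((CohB1.ProjSpace r k).presheaf.stalk x) (F.presheaf.stalk x) :=
      Groth.Agent.QC70.finite_stalk F x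
    rw [← Order.add_one_le_iff_of_not_isMax (not_isMax_iff_ne_top.2 (ENat.coe_ne_top n))]
    exact Groth.Agent.LC17.natCast_le_idealDepth_iff _ _ (n + 1)
  constructor
  · rintro ⟨m₀, hm₀⟩ x hx
    exact (hd x).2 fun i hi =>
      (PDual19.exists_vanish_iff_H r k hF i).1 ⟨m₀, fun m hm => hm₀ m hm i (by omega)⟩ x hx
  · intro h
    choose b hb using fun i : Fin (n + 1) =>
      (PDual19.exists_vanish_iff_H r k hF i.1).2 fun x hx => (hd x).1 (h x hx) i.1 i.2
    exact ⟨Finset.univ.sup' Finset.univ_nonempty b, fun m hm i hi =>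
      hb ⟨i, by omega⟩ m ((Finset.le_sup' b (Finset.mem_univ _)).trans hm)⟩

end Groth.Agent.S2928
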