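import Groth.Statements.S2929
import Groth.Agent.LC15.FiniteSingle

set_option autoImplicit false
universe u
open LocCoh

namespace Groth.Agent.S2929

/-- Let A be a Noetherian ring which is a quotient of a regular ring, I an ideal, M a finite A-module
and i ≥ 0. For a prime p write c(p) for the codimension of V(p) ∩ V(I) in V(p). Suppose that for
every prime p not containing I with c(p) finite, the local cohomology H^{i−c(p)} of M_p with support
in the maximal ideal of A_p vanishes (no condition when c(p) > i). Then the local cohomology module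
H^i_I(M) is a finite A-module. -/
theorem result (R : Type u) [CommRing R] [IsRegularRing R] (A : Type u) [CommRing A] [IsNoetherianRing A] (π : R →+* A) (hπ : Function.Surjective π) (I : Ideal A) (M : Type u) [AddCommGroup M] [Module A M] [Module.Finite A M] (i : ℕ) (h : ∀ p : PrimeSpectrum A, ¬ I ≤ p.asIdeal → ∀ (c j : ℕ), SGA2.relCodim I p = c → j + c = i → Subsingleton (LocCoh.H (IsLocalRing.maximalIdeal (Localization.AtPrime p.asIdeal)) j (LocalizedModule p.asIdeal.primeCompl M))) : Module.Finite A (LocCoh.H I i M) := by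
  letI := π.toAlgebra
  letI : Module R M := Module.compHom M π
  haveI : IsScalarTower R A M := IsScalarTower.of_algebraMap_smul fun _ _ => rfl
  have hf : Function.Surjective (algebraMap R A) := hπ
  haveI : Module.Finite R A := Module.Finite.of_surjective (Algebra.linearMap R A) hf
  haveI : Module.Finite R M := Module.Finite.trans A M
  have hcomap : ∀ s : PrimeSpectrum R, RingHom.ker (algebraMap R A) ≤ s.asIdeal →
      ∃ s₀ : PrimeSpectrum A, PrimeSpectrum.comap (algebraMap R A) s₀ = s := fun s hk => by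
    haveI := Ideal.map_isPrime_of_surjective hf hk
    refine ⟨⟨s.asIdeal.map (algebraMap R A), inferInstance⟩, PrimeSpectrum.ext ?_⟩
    rw [PrimeSpectrum.comap_asIdeal, Ideal.comap_map_of_surjective _ hf, ← RingHom.ker_eq_comap_bot,
      sup_eq_left.mpr hk]
  have hle : ∀ s s' : PrimeSpectrum A,
      PrimeSpectrum.comap (algebraMap R A) s ≤ PrimeSpectrum.comap (algebraMap R A) s' ↔ s ≤ s' :=
    fun s s' => Ideal.comap_le_comap_iff_of_surjective _ hf _ _
  have hcond : Groth.Agent.LC15.FiniteSingle.Cond (I.comap (algebraMap R A)) M i := by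
    intro p q hpq hIq hIp j hj
    by_cases hker : RingHom.ker (algebraMap R A) ≤ p.asIdeal
    swap
    · obtain ⟨r, hr, hrp⟩ := SetLike.not_le_iff_exists.mp hker
      refine Groth.Agent.LC17.nul_H_of_nul p.asIdeal j fun m => ⟨r, hrp, ?_⟩
      rw [← algebraMap_smul A r m, RingHom.mem_ker.mp hr, zero_smul]
    obtain ⟨p₀, rfl⟩ := hcomap p hker
    obtain ⟨q₀, rfl⟩ := hcomap q (hker.trans hpq.le)
    have hI0 : ¬ I ≤ p₀.asIdeal := fun h => hIp (Ideal.comap_mono h)
    have hcov : p₀ ⋖ q₀ := by
      refine ⟨lt_of_le_not_ge ((hle _ _).1 hpq.le) fun h => hpq.lt.not_ge ((hle _ _).2 h),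
        fun t h1 h2 => hpq.2 (c := PrimeSpectrum.comap (algebraMap R A) t) ?_ ?_⟩
      · exact lt_of_le_not_ge ((hle _ _).2 h1.le) fun h => h1.not_ge ((hle _ _).1 h)
      · exact lt_of_le_not_ge ((hle _ _).2 h2.le) fun h => h2.not_ge ((hle _ _).1 h)
    have hc1 : SGA2.relCodim I p₀ = 1 :=
      (Groth.Agent.LC15.CritDepth.relCodim_eq_one_iff I p₀ hI0).2
        ⟨q₀, (Ideal.comap_le_comap_iff_of_surjective _ hf _ _).1 hIq, hcov⟩
    exact (Groth.Agent.LC15.RegDual.stk_comap hf p₀.asIdeal M j).2
      ((Groth.Agent.LC15.RegDual.stk_iff_loc p₀.asIdeal M j).2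
        (h p₀ hI0 1 j (by rw [hc1, Nat.cast_one]) hj))
  haveI := Groth.Agent.LC15.FiniteSingle.finite_H (I.comap (algebraMap R A)) i M hcond
  obtain ⟨φ, hφ⟩ := Groth.Agent.LC16.ChangeRings.exists_equiv (R' := A) (I.comap (algebraMap R A)) i M
  rw [← Ideal.map_comap_of_surjective _ hf I]
  letI : Module R (LocCoh.H ((I.comap (algebraMap R A)).map (algebraMap R A)) i M) :=
    Module.compHom _ (algebraMap R A)
  haveI : IsScalarTower R A (LocCoh.H ((I.comap (algebraMap R A)).map (algebraMap R A)) i M) :=
    IsScalarTower.of_algebraMap_smul fun _ _ => rfl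
  let ψ : LocCoh.H ((I.comap (algebraMap R A)).map (algebraMap R A)) i M ≃ₗ[R]
      LocCoh.H (I.comap (algebraMap R A)) i M := { φ with map_smul' := fun r x => hφ r x }
  haveI : Module.Finite R (LocCoh.H ((I.comap (algebraMap R A)).map (algebraMap R A)) i M) :=
    Module.Finite.equiv ψ.symm
  exact Module.Finite.of_restrictScalars_finite R A _

end Groth.Agent.S2929
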