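import Groth.Statements.S2931
import Groth.Agent.LC15.CritDepth
import Groth.Agent.LC17.Faltings

set_option autoImplicit false
universe u
open LocCoh

namespace Groth.Agent.S2931

/-- Affine form (coherence of R^p i_*(F) for p < n being finiteness of H^i_I for i ≤ n). Let A be a
Noetherian ring which is a quotient of a regular ring, I an ideal and M a finite A-module such that
M_p is zero or Cohen–Macaulay for every prime p not containing I. Then H^i_I(M) is a finite A-module
for every i ≤ n if and only if for every prime p not containing I which is minimal in the support of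
M, the codimension of V(p) ∩ V(I) in V(p) is greater than n. -/
theorem result (R : Type u) [CommRing R] [IsRegularRing R] (A : Type u) [CommRing A] [IsNoetherianRing A] (π : R →+* A) (hπ : Function.Surjective π) (I : Ideal A) (M : Type u) [AddCommGroup M] [Module A M] [Module.Finite A M] (hCM : ∀ p : PrimeSpectrum A, ¬ I ≤ p.asIdeal → Subsingleton (LocalizedModule p.asIdeal.primeCompl M) ∨ LocCoh.IsCohenMacaulayModule (Localization.AtPrime p.asIdeal) (LocalizedModule p.asIdeal.primeCompl M)) (n : ℕ) : (∀ i : ℕ, i ≤ n → Module.Finite A (LocCoh.H I i M)) ↔ ∀ p : PrimeSpectrum A, ¬ I ≤ p.asIdeal → p.asIdeal ∈ (Module.annihilator A M).minimalPrimes → (n : ℕ∞) < SGA2.relCodim I p := by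
  haveI := Groth.Agent.LC17.isCohenMacaulayRing_of_isRegularRing (R := R)
  constructor
  · intro h p hp hmin
    have h1 := (Groth.Agent.LC15.CritDepth.finite_iff π hπ I M n).1 h p hp
    rwa [Groth.Agent.LC15.CritDepth.depth_eq_zero_of_minimal p hmin, zero_add] at h1
  · intro h
    refine (Groth.Agent.LC15.CritDepth.finite_iff_codim_one π hπ I M n).2 fun p hp hc => ?_
    rcases hCM p hp with hz | hcm
    · rw [Groth.Agent.LC15.CritDepth.depth_eq_top_of_subsingleton]
      exact le_top
    · obtain ⟨q, hIq, hpq⟩ := (Groth.Agent.LC15.CritDepth.relCodim_eq_one_iff I p hp).1 hc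
      by_cases hs : p ∈ Module.support A M
      swap
      · haveI := Module.notMem_support_iff.mp hs
        rw [Groth.Agent.LC15.CritDepth.depth_eq_top_of_subsingleton]
        exact le_top
      obtain ⟨p₀, hp₀, hle⟩ := Ideal.exists_minimalPrimes_le (Module.mem_support_iff_of_finite.mp hs)
      let P₀ : PrimeSpectrum A := ⟨p₀, hp₀.1.1⟩
      have hP₀ : P₀ ∈ Module.support A M := Module.mem_support_iff_of_finite.mpr hp₀.1.2
      obtain ⟨k, hk⟩ := Groth.Agent.LC17.exists_htq_eq (q := p.asIdeal) hle
      have h1 : (n : ℕ∞) < (k : ℕ∞) + 1 := by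
        refine (h P₀ (fun hI => hp (hI.trans hle)) hp₀).trans_le
          ((Groth.Agent.LC16.RelCodim.relCodim_le P₀ q (le_trans (show P₀ ≤ p from hle) hpq.le)
            hIq).trans ?_)
        rw [Groth.Agent.LC15.CritDepth.htq_covBy π hπ (p₀ := P₀) hle hpq, hk]
      have h2 := Groth.Agent.LC15.CritDepth.htq_le_supportDim (M := M) P₀ p hle hP₀ hk
      have h3 : Module.supportDim (Localization.AtPrime p.asIdeal)
          (LocalizedModule p.asIdeal.primeCompl M) =
          LocCoh.depth (Localization.AtPrime p.asIdeal) (LocalizedModule p.asIdeal.primeCompl M) :=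
        hcm
      rw [h3] at h2
      exact le_trans (Order.le_of_lt_add_one h1) (WithBot.coe_le_coe.mp h2)

end Groth.Agent.S2931
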