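import Groth.Statements.S2932
import Groth.Agent.ParaF26.CompleteIntersection
import Groth.Agent.ParaF26.FactorRows

set_option autoImplicit false
universe u
open ParaF

namespace Groth.Agent.S2932

/-- Let A be a Noetherian local ring which is a complete intersection (a quotient of a regular local
ring by a regular sequence) and which is factorial in codimension ≤ 3: for every prime p with dim
A_p ≤ 3 the local ring A_p is a factorial domain. Then A is a factorial domain. -/
theorem result (A : Type u) [CommRing A] [IsLocalRing A] [IsNoetherianRing A] (hA : SGA2.IsAbsCompleteIntersection A) (h : ∀ p : PrimeSpectrum A, ringKrullDim (Localization.AtPrime p.asIdeal) ≤ 3 → IsDomain (Localization.AtPrime p.asIdeal) ∧ UniqueFactorizationMonoid (Localization.AtPrime p.asIdeal)) : IsDomain A ∧ UniqueFactorizationMonoid A := by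
  obtain ⟨B, _, _, rs, hm, hreg, ⟨φ⟩⟩ := hA
  let f : B →+* A := φ.symm.toRingHom.comp (Ideal.Quotient.mk _)
  have hf : Function.Surjective f := φ.symm.surjective.comp Ideal.Quotient.mk_surjective
  have hker : RingHom.ker f = Ideal.ofList rs := by
    rw [RingHom.ker_comp_of_injective _ φ.symm.injective, Ideal.mk_ker]
  suffices key : ∀ (n : ℕ∞) (p : Ideal A) [p.IsPrime], p.height = n →
      IsDomain (Localization.AtPrime p) ∧ UniqueFactorizationMonoid (Localization.AtPrime p) by
    refine ParaF26.ufd_congr (IsLocalization.atUnits A (IsLocalRing.maximalIdeal A).primeCompl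
      (S := Localization.AtPrime (IsLocalRing.maximalIdeal A)) fun x hx => ?_).toRingEquiv.symm
      (key _ (IsLocalRing.maximalIdeal A) rfl)
    by_contra hnu
    exact hx ((IsLocalRing.mem_maximalIdeal x).2 hnu)
  intro n
  induction n using WellFoundedLT.induction with
  | ind n ih =>
    intro p _ hn
    by_cases h3 : ringKrullDim (Localization.AtPrime p) ≤ 3
    · exact h ⟨p, inferInstance⟩ h3
    haveI : IsNoetherianRing (Localization.AtPrime p) :=
      IsLocalization.isNoetherianRing p.primeCompl (Localization.AtPrime p) inferInstance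
    obtain ⟨φ', hφ', hφker, hrs, hreg'⟩ :=
      ParaF26.exists_localized_presentation f hf rs hreg.toIsWeaklyRegular hker p
    have hci : Pi1.IsCompleteIntersection (Localization.AtPrime p) := by
      rw [CAlg9.CIT.isCompleteIntersection_iff_isRegularIdeal φ' hφ', hφker]
      exact ⟨_, hreg', rfl⟩
    obtain ⟨d, hd⟩ := CAlg9.CIT.exists_dim_eq (Localization.AtPrime p)
    have hdim : (4 : WithBot ℕ∞) ≤ ringKrullDim (Localization.AtPrime p) := by
      rw [hd] at h3 ⊢
      have : ¬ d ≤ 3 := fun hle => h3 (by exact_mod_cast hle)
      exact_mod_cast (show 4 ≤ d by omega)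
    obtain ⟨h2, hpic⟩ := ParaF26.parafactorial_iff.1 (ParaF26.parafactorial_of_completeIntersection hci hdim)
    refine ParaF26.ufd_of_punctured h2 hpic fun q hq => ?_
    let q' : Ideal A := q.asIdeal.comap (algebraMap A (Localization.AtPrime p))
    have hlt : q'.height < n := by
      have h1 : q'.height = q.asIdeal.height := IsLocalization.height_under p.primeCompl q.asIdeal
      have h2 : (p.height : WithBot ℕ∞) = ((IsLocalRing.maximalIdeal (Localization.AtPrime p)).height : WithBot ℕ∞) := by
        rw [IsLocalRing.maximalIdeal_height_eq_ringKrullDim, IsLocalization.AtPrime.ringKrullDim_eq_height p]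
      rw [h1, ← hn, WithBot.coe_eq_coe.1 h2]
      exact Ideal.height_strict_mono_of_isPrime (lt_of_le_of_ne (IsLocalRing.le_maximalIdeal q.2.ne_top) hq)
    exact ParaF26.ufd_congr
      (IsLocalization.localizationLocalizationAtPrimeIsoLocalization p.primeCompl q.asIdeal).toRingEquiv
      (ih q'.height hlt q' rfl)

end Groth.Agent.S2932
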