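import Groth.Statements.S2933
import Groth.Agent.Ega11.ConnCodim
-- import your own Groth.Agent.* helpers here

set_option autoImplicit false
universe u
open LocCoh

namespace Groth.Agent.S2933

/-- Let A be a Noetherian ring with connected spectrum and d ≥ 1 an integer such that every prime p with
dim A_p ≥ d has depth A_p ≥ 2. Then for any two minimal primes p', p'' of A there is a finite
sequence of minimal primes starting at p' and ending at p'' such that any two consecutive members
are both contained in some prime of height at most d − 1 (Spec A is connected in codimension d − 1). -/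
theorem result (A : Type u) [CommRing A] [IsNoetherianRing A] [ConnectedSpace (PrimeSpectrum A)] (d : ℕ) (hd : 1 ≤ d) (h : ∀ p : PrimeSpectrum A, (d : ℕ∞) ≤ p.asIdeal.height → (2 : ℕ∞) ≤ LocCoh.depth (Localization.AtPrime p.asIdeal) (Localization.AtPrime p.asIdeal)) (p' p'' : PrimeSpectrum A) (hp' : p'.asIdeal ∈ minimalPrimes A) (hp'' : p''.asIdeal ∈ minimalPrimes A) : ∃ l : List (PrimeSpectrum A), l.head? = some p' ∧ l.getLast? = some p'' ∧ (∀ p ∈ l, p.asIdeal ∈ minimalPrimes A) ∧ List.IsChain (fun p q => ∃ r : PrimeSpectrum A, p ≤ r ∧ q ≤ r ∧ r.asIdeal.height ≤ (d - 1 : ℕ)) l := by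
  have key := Groth.Agent.Ega11.ConnCodim.reflTransGen d h p' p'' hp' hp''
  suffices ∀ R, Relation.ReflTransGen
      (fun a b => b.asIdeal ∈ minimalPrimes A ∧ Groth.Agent.Ega11.ConnCodim.Link d a b) p' R →
      ∃ l : List (PrimeSpectrum A), l.head? = some p' ∧ l.getLast? = some R ∧ (∀ p ∈ l, p.asIdeal ∈ minimalPrimes A) ∧
        List.IsChain (fun p q => ∃ r : PrimeSpectrum A, p ≤ r ∧ q ≤ r ∧ r.asIdeal.height ≤ (d - 1 : ℕ)) l from
    this p'' key
  intro R hR
  induction hR with
  | refl => exact ⟨[p'], rfl, rfl, by simpa using hp', List.IsChain.singleton _⟩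
  | @tail R S _ hRS ih =>
    obtain ⟨l, h0, hn, hm, hc⟩ := ih
    obtain ⟨hS, r, hr₁, hr₂, hr⟩ := hRS
    refine ⟨l ++ [S], ?_, List.getLast?_append_cons l S [], ?_, ?_⟩
    · rw [List.head?_append, h0]; rfl
    · intro p hp
      rcases List.mem_append.mp hp with hp | hp
      · exact hm p hp
      · rw [List.mem_singleton.mp hp]; exact hS
    · refine List.IsChain.append hc (List.IsChain.singleton _) ?_
      intro a ha b hb
      rw [hn, Option.mem_some_iff] at ha
      rw [List.head?_cons, Option.mem_some_iff] at hb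
      subst ha hb
      refine ⟨r, hr₁, hr₂, ?_⟩
      have hne : r.asIdeal.height ≠ ⊤ := fun h => by rw [h, top_add] at hr; simp at hr
      obtain ⟨m, hm'⟩ := ENat.ne_top_iff_exists.mp hne
      rw [← hm'] at hr ⊢
      have : m + 1 ≤ d := by exact_mod_cast hr
      exact_mod_cast (by omega : m ≤ d - 1)

end Groth.Agent.S2933
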