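import Groth.Statements.S6292
import Mathlib

set_option autoImplicit false
set_option linter.style.haveILetI false
set_option linter.style.longLine false
universe u
open CAlg

namespace Groth.Agent.S6292

open scoped TensorProduct
theorem aux {R : Type u} [CommRing R] (m : Ideal R) [m.IsMaximal] (M : Type u) [AddCommGroup M]
    [Module R M] [Module.Finite R M] : IsFiniteLength R (M ⧸ (m • ⊤ : Submodule R M)) := by
  obtain ⟨k, π, hπ⟩ := Module.Finite.exists_fin' R M
  haveI : IsSimpleModule R (R ⧸ m) := isSimpleModule_iff_isCoatom.2 (Ideal.isMaximal_def.1 inferInstance)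
  have h1 : IsFiniteLength R (R ⧸ m) :=
    haveI : IsSimpleModule R ((R ⧸ m) ⧸ (⊥ : Submodule R (R ⧸ m))) :=
      IsSimpleModule.congr (Submodule.quotEquivOfEqBot _ rfl)
    IsFiniteLength.of_simple_quotient (N := ⊥) IsFiniteLength.of_subsingleton
  obtain ⟨hn, ha⟩ := isFiniteLength_iff_isNoetherian_isArtinian.1 h1
  haveI : IsFiniteLength R (Fin k → R ⧸ m) := isFiniteLength_iff_isNoetherian_isArtinian.2 ⟨inferInstance, inferInstance⟩
  let g : (Fin k → R ⧸ m) →ₗ[R] M ⧸ (m • ⊤ : Submodule R M) :=
    (TensorProduct.quotTensorEquivQuotSMul M m).toLinearMap ∘ₗ (π.lTensor (R ⧸ m)) ∘ₗ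
      (TensorProduct.piScalarRight R R (R ⧸ m) (Fin k)).symm.toLinearMap
  refine IsFiniteLength.of_surjective (f := g) this ?_
  exact (TensorProduct.quotTensorEquivQuotSMul M m).surjective.comp
    ((LinearMap.lTensor_surjective (R ⧸ m) hπ).comp (TensorProduct.piScalarRight R R (R ⧸ m) (Fin k)).symm.surjective)

/-- Let R be a ring and m ⊆ R a finitely generated maximal ideal (for instance R Noetherian). If M is a
finite R-module with mⁿM = 0 for some n, then M has finite length. -/
theorem result {R : Type u} [CommRing R] (m : Ideal R) [m.IsMaximal] (hm : m.FG) (M : Type u) [AddCommGroup M] [Module R M] [Module.Finite R M] (n : ℕ) (hn : m ^ n • (⊤ : Submodule R M) = ⊥) : IsFiniteLength R M := by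
  induction n generalizing M with
  | zero =>
    rw [pow_zero, one_smul] at hn
    haveI : Subsingleton M := Submodule.subsingleton_iff R |>.1 (subsingleton_of_bot_eq_top hn.symm)
    exact IsFiniteLength.of_subsingleton
  | succ n ih =>
    let N : Submodule R M := m • ⊤
    haveI : Module.Finite R N := Module.Finite.iff_fg.2 (Submodule.FG.smul hm Module.Finite.fg_top)
    have hN : m ^ n • (⊤ : Submodule R N) = ⊥ := by
      apply Submodule.map_injective_of_injective N.injective_subtype
      rw [Submodule.map_smul'', Submodule.map_subtype_top, Submodule.map_bot, ← Submodule.mul_smul, ← pow_succ]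
      exact hn
    obtain ⟨h1, h2⟩ := isFiniteLength_iff_isNoetherian_isArtinian.1 (ih N hN)
    obtain ⟨h3, h4⟩ := isFiniteLength_iff_isNoetherian_isArtinian.1 (aux m M)
    refine isFiniteLength_iff_isNoetherian_isArtinian.2 ⟨?_, ?_⟩
    · exact isNoetherian_of_range_eq_ker N.subtype N.mkQ (by rw [Submodule.range_subtype, Submodule.ker_mkQ])
    · exact isArtinian_of_range_eq_ker N.subtype N.mkQ (by rw [Submodule.range_subtype, Submodule.ker_mkQ])

end Groth.Agent.S6292
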