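import Groth.Statements.S2934
import Groth.Agent.LC15.Crit1
import Groth.Agent.LC15.Finiteness
import Groth.Agent.CAlg1.CohenHom
import Groth.Agent.S5170
import Groth.Agent.S6292

set_option autoImplicit false
universe u
open LocCoh

namespace Groth.Agent.S2934

open IsLocalRing CategoryTheory Groth.Agent.LC15 Groth.Agent.LC15.RegDual Groth.Agent.LC17 in
theorem aux (R : Type u) [CommRing R] [IsRegularLocalRing R] (A : Type u) [CommRing A] [IsLocalRing A]
    [IsNoetherianRing A] (π : R →+* A) (hπ : Function.Surjective π) (M : Type u) [AddCommGroup M]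
    [Module A M] [Module.Finite A M] (i : ℕ) :
    IsFiniteLength A (LocCoh.H (maximalIdeal A) i M) ↔
    ∀ p : PrimeSpectrum A, p.asIdeal ≠ maximalIdeal A → ∀ (e j : ℕ),
      ringKrullDim (A ⧸ p.asIdeal) = e → j + e = i →
      Subsingleton (LocCoh.H (maximalIdeal (Localization.AtPrime p.asIdeal)) j
        (LocalizedModule p.asIdeal.primeCompl M)) := by
  haveI : IsRegularRing R := Groth.Agent.CAlg1.isRegularRing_of_isRegularLocalRing R
  haveI : LocCoh.IsCohenMacaulayRing R := Groth.Agent.LC17.isCohenMacaulayRing_of_isRegularRing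
  letI := π.toAlgebra
  letI : Module R M := Module.compHom M π
  haveI : IsScalarTower R A M := IsScalarTower.of_algebraMap_smul fun _ _ => rfl
  have hf : Function.Surjective (algebraMap R A) := hπ
  haveI : Module.Finite R A := Module.Finite.of_surjective (Algebra.linearMap R A) hf
  haveI : Module.Finite R M := Module.Finite.trans A M
  obtain ⟨d, hd⟩ : ∃ d : ℕ, ringKrullDim R = d := by
    have := Gor18.regular_gor R
    have := Gor18.gor_cm R
    exact Gor18.gor_cm.exists_ringKrullDim_eq_nat R
  have hmR : (maximalIdeal A).comap (algebraMap R A) = maximalIdeal R :=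
    haveI := Ideal.comap_isMaximal_of_surjective _ hf (K := maximalIdeal A)
    IsLocalRing.eq_maximalIdeal inferInstance
  have hmap : (maximalIdeal R).map (algebraMap R A) = maximalIdeal A := by
    rw [← hmR, Ideal.map_comap_of_surjective _ hf]
  -- the two modules
  obtain ⟨φ, hφ⟩ := LC16.ChangeRings.exists_equiv (R' := A) (maximalIdeal R) i M
  have hiff : IsFiniteLength A (LocCoh.H (maximalIdeal A) i M) ↔
      IsFiniteLength R (LocCoh.H (maximalIdeal R) i M) := by
    rw [← hmap]
    letI : Module R (LocCoh.H ((maximalIdeal R).map (algebraMap R A)) i M) :=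
      Module.compHom _ (algebraMap R A)
    haveI : IsScalarTower R A (LocCoh.H ((maximalIdeal R).map (algebraMap R A)) i M) :=
      IsScalarTower.of_algebraMap_smul fun _ _ => rfl
    let ψ : LocCoh.H ((maximalIdeal R).map (algebraMap R A)) i M ≃ₗ[R]
        LocCoh.H (maximalIdeal R) i M := { φ with map_smul' := fun r x => hφ r x }
    constructor
    · intro h
      haveI := (isFiniteLength_iff_isNoetherian_isArtinian.1 h).1
      haveI : Module.Finite R (LocCoh.H ((maximalIdeal R).map (algebraMap R A)) i M) :=
        Module.Finite.trans A _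
      haveI := Module.Finite.equiv ψ
      obtain ⟨k, hk⟩ := exists_pow_smul_H_eq_zero (maximalIdeal R) (i := i) (M := M)
      exact Groth.Agent.S6292.result _ (IsNoetherian.noetherian _) _ k
        (le_bot_iff.mp (Submodule.smul_le.mpr fun a ha y _ => (Submodule.mem_bot R).mpr (hk a ha y)))
    · intro h
      haveI := (isFiniteLength_iff_isNoetherian_isArtinian.1 h).1
      haveI : Module.Finite R (LocCoh.H ((maximalIdeal R).map (algebraMap R A)) i M) :=
        Module.Finite.equiv ψ.symm
      haveI : Module.Finite A (LocCoh.H ((maximalIdeal R).map (algebraMap R A)) i M) :=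
        Module.Finite.of_restrictScalars_finite R A _
      obtain ⟨k, hk⟩ := exists_pow_smul_H_eq_zero ((maximalIdeal R).map (algebraMap R A))
        (i := i) (M := M)
      haveI : ((maximalIdeal R).map (algebraMap R A)).IsMaximal := by rw [hmap]; infer_instance
      exact Groth.Agent.S6292.result _ (IsNoetherian.noetherian _) _ k
        (le_bot_iff.mp (Submodule.smul_le.mpr fun a ha y _ => (Submodule.mem_bot A).mpr (hk a ha y)))
  rw [hiff]
  -- heights
  have key : ∀ (p : PrimeSpectrum A) (hP : ℕ),
      (p.asIdeal.comap (algebraMap R A)).height = hP →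
      ∀ e : ℕ, ringKrullDim (A ⧸ p.asIdeal) = e → hP + e = d := by
    intro p hP hh e he
    haveI : IsLocalRing (A ⧸ p.asIdeal) :=
      IsLocalRing.of_surjective' _ Ideal.Quotient.mk_surjective
    let Mx : PrimeSpectrum A := ⟨maximalIdeal A, inferInstance⟩
    have hpm : p ≤ Mx := IsLocalRing.le_maximalIdeal p.isPrime.ne_top
    have h1 := CritDepth.height_eq_add_htq
      (show PrimeSpectrum.comap (algebraMap R A) p ≤ PrimeSpectrum.comap (algebraMap R A) Mx from
        Ideal.comap_mono hpm)
    simp only [PrimeSpectrum.comap_asIdeal, CritDepth.htq_comap _ hf] at h1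
    have h2 : htq p.asIdeal (maximalIdeal A) = e := by
      rw [← IsLocalRing.maximalIdeal_height_eq_ringKrullDim] at he
      rcases Ideal.map_eq_top_or_isMaximal_of_surjective (Ideal.Quotient.mk p.asIdeal)
        Ideal.Quotient.mk_surjective (maximalIdeal.isMaximal A) with h | h
      · have h1 := congrArg (Ideal.comap (Ideal.Quotient.mk p.asIdeal)) h
        rw [Ideal.comap_map_of_surjective _ Ideal.Quotient.mk_surjective, ← RingHom.ker_eq_comap_bot,
          Ideal.mk_ker, sup_eq_left.mpr (IsLocalRing.le_maximalIdeal p.isPrime.ne_top),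
          Ideal.comap_top] at h1
        exact absurd h1 (maximalIdeal.isMaximal A).ne_top
      · rw [htq, IsLocalRing.eq_maximalIdeal h]
        exact WithBot.coe_inj.mp he
    simp only [Mx, hmR] at h1
    rw [h2, hh] at h1
    rw [← IsLocalRing.maximalIdeal_height_eq_ringKrullDim, h1] at hd
    have h3 : (hP : ℕ∞) + e = d := WithBot.coe_inj.mp hd
    exact_mod_cast h3
  constructor
  · intro hfl p hp e j he hje
    rw [← stk_iff_loc, ← stk_comap hf]
    obtain ⟨hP, hhP⟩ := ENat.ne_top_iff_exists.mp
      ((p.asIdeal.comap (algebraMap R A)).height_ne_top Ideal.IsPrime.ne_top')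
    have hde := key p hP hhP.symm e he
    by_cases hlt : hP < j
    · exact stk_of_height_lt _ M (by rw [← hhP]; exact_mod_cast hlt)
    rw [stk_iff_ext (i := hP - j) _ M (by rw [← hhP, Nat.sub_add_cancel (not_lt.mp hlt)])]
    obtain ⟨E, _, _, f, hfE, hdual⟩ := exists_duality hd
    obtain ⟨eq⟩ := hdual (hP - j) i (by omega) M
    haveI := (isFiniteLength_iff_isNoetherian_isArtinian.1 hfl).1
    obtain ⟨k, hk⟩ := exists_pow_smul_H_eq_zero (maximalIdeal R) (i := i) (M := M)
    obtain ⟨a, ham, hap⟩ := SetLike.not_le_iff_exists.mp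
      (show ¬ maximalIdeal R ≤ p.asIdeal.comap (algebraMap R A) from fun hle => hp (le_antisymm
        (IsLocalRing.le_maximalIdeal p.isPrime.ne_top)
        (hmap ▸ Ideal.map_le_iff_le_comap.mpr hle)))
    intro y
    refine ⟨a ^ k, fun hmem => hap (Ideal.IsPrime.mem_of_pow_mem inferInstance k hmem), ?_⟩
    by_contra hne
    haveI := hfE.isInjective
    have hsub : Subsingleton (LinearMap.range (LinearMap.toSpanSingleton R _ (a ^ k • y)) →ₗ[R] E) := by
      refine subsingleton_of_forall_eq 0 fun g => ?_
      obtain ⟨g', hg'⟩ := Module.Injective.out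
        (LinearMap.range (LinearMap.toSpanSingleton R _ (a ^ k • y))).subtype
        (Submodule.injective_subtype _) g
      obtain ⟨z, rfl⟩ := eq.surjective g'
      refine LinearMap.ext fun w => ?_
      obtain ⟨r, hr⟩ := w.2
      have h0 : a ^ k • eq z = 0 := by rw [← map_smul, hk _ (Ideal.pow_mem_pow ham k), map_zero]
      rw [← hg', LinearMap.zero_apply, Submodule.subtype_apply, ← hr,
        LinearMap.toSpanSingleton_apply, map_smul, map_smul]
      have h1 : a ^ k • (eq z) y = 0 := LinearMap.congr_fun h0 y
      rw [h1, smul_zero]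
    haveI := LC16.MatlisBasic.subsingleton_of_dual (X :=
      LinearMap.range (LinearMap.toSpanSingleton R _ (a ^ k • y))) hfE
    exact hne (congrArg Subtype.val (Subsingleton.elim
      (⟨a ^ k • y, 1, by rw [LinearMap.toSpanSingleton_apply, one_smul]⟩ :
        LinearMap.range (LinearMap.toSpanSingleton R _ (a ^ k • y))) 0))
  · intro hst
    by_cases hid : d < i
    · haveI : Subsingleton (LocCoh.H (maximalIdeal R) i M) :=
        cdLE_of_ringKrullDim_le _ hd.le M i hid
      exact IsFiniteLength.of_subsingleton
    obtain ⟨E, _, _, f, hfE, hdual⟩ := exists_duality hd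
    obtain ⟨eq⟩ := hdual (d - i) i (Nat.sub_add_cancel (not_lt.mp hid)) M
    haveI := finite_EK (R := R) (d - i) M
    have hnul : ∀ P : Ideal R, [P.IsPrime] → P ≠ maximalIdeal R →
        Nul P.primeCompl (LC16.CanonDual.EK (R := R) R M (d - i)) := by
      intro P _ hPm
      by_cases hker : RingHom.ker (algebraMap R A) ≤ P
      swap
      · obtain ⟨r, hr, hrP⟩ := SetLike.not_le_iff_exists.mp hker
        intro y
        refine ⟨r, hrP, ?_⟩
        have h0 : (r • 𝟙 (ModuleCat.of R M) : ModuleCat.of R M ⟶ ModuleCat.of R M) = 0 :=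
          ModuleCat.hom_ext (LinearMap.ext fun x => by
            show r • x = 0
            rw [← algebraMap_smul A r x, RingHom.mem_ker.mp hr, zero_smul])
        calc r • y = r • (Abelian.Ext.mk₀ (𝟙 (ModuleCat.of R M))).comp y (zero_add _) := by
              rw [Abelian.Ext.mk₀_id_comp]
          _ = 0 := by
              rw [← Abelian.Ext.smul_comp, ← Abelian.Ext.mk₀_smul, h0, Abelian.Ext.mk₀_zero,
                Abelian.Ext.zero_comp]
      haveI := Ideal.map_isPrime_of_surjective hf hker
      let p : PrimeSpectrum A := ⟨P.map (algebraMap R A), inferInstance⟩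
      have hcomap : p.asIdeal.comap (algebraMap R A) = P := by
        rw [Ideal.comap_map_of_surjective _ hf, ← RingHom.ker_eq_comap_bot, sup_eq_left.mpr hker]
      have hpm : p.asIdeal ≠ maximalIdeal A := fun e => hPm (by rw [← hcomap, e, hmR])
      obtain ⟨hP, hhP⟩ := ENat.ne_top_iff_exists.mp (P.height_ne_top Ideal.IsPrime.ne_top')
      obtain ⟨e, he⟩ : ∃ e : ℕ, ringKrullDim (A ⧸ p.asIdeal) = e := by
        haveI : IsLocalRing (A ⧸ p.asIdeal) :=
          IsLocalRing.of_surjective' _ Ideal.Quotient.mk_surjective
        obtain ⟨e, he⟩ := ENat.ne_top_iff_exists.mp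
          ((maximalIdeal (A ⧸ p.asIdeal)).height_ne_top Ideal.IsPrime.ne_top')
        exact ⟨e, by rw [← IsLocalRing.maximalIdeal_height_eq_ringKrullDim, ← he]; rfl⟩
      have hde := key p hP (by rw [hcomap]; exact hhP.symm) e he
      by_cases hei : e ≤ i
      · have h1 := hst p hpm e (i - e) he (by omega)
        rw [← stk_iff_loc, ← stk_comap hf] at h1
        have h2 : Stk P (i - e) M := by
          have aux : ∀ (Q : Ideal R) [Q.IsPrime], Q = P → Stk Q (i - e) M → Stk P (i - e) M := by
            rintro Q _ rfl h
            exact h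
          exact aux _ hcomap h1
        exact (stk_iff_ext P M (by rw [← hhP]; congr 1; omega)).1 h2
      · exact nul_EK_of_height_lt P M (by rw [← hhP]; exact_mod_cast (show hP < d - i by omega))
    have hrad : maximalIdeal R ≤ (Module.annihilator R (LC16.CanonDual.EK (R := R) R M (d - i))).radical := by
      rw [Ideal.radical_eq_sInf]
      refine le_sInf ?_
      rintro P ⟨hle, hP⟩
      haveI : P.IsPrime := hP
      by_contra hm
      have h1 := hnul P fun e => hm e.ge
      have hsupp : (⟨P, hP⟩ : PrimeSpectrum R) ∈
          Module.support R (LC16.CanonDual.EK (R := R) R M (d - i)) :=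
        Module.mem_support_iff_of_finite.mpr hle
      exact absurd (LocalizedModule.subsingleton_iff.mpr h1)
        (not_subsingleton_iff_nontrivial.mpr (Module.mem_support_iff.mp hsupp))
    obtain ⟨k, hk⟩ := Ideal.exists_pow_le_of_le_radical_of_fg hrad (IsNoetherian.noetherian _)
    have hfl : IsFiniteLength R (LC16.CanonDual.EK (R := R) R M (d - i)) :=
      Groth.Agent.S6292.result _ (IsNoetherian.noetherian _) _ k
        (le_bot_iff.mp (Submodule.smul_le.mpr fun a ha y _ =>
          (Submodule.mem_bot R).mpr (Module.mem_annihilator.mp (hk ha) y)))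
    rw [← Module.length_ne_top_iff, LinearEquiv.length_eq eq, Groth.Agent.S5170.result R E f hfE _ hfl,
      Module.length_ne_top_iff]
    exact hfl


/-- Let A be a Noetherian local ring which is a quotient of a regular local ring, m its maximal ideal, M
a finite A-module and i ≥ 0. Then H^i_m(M) is an A-module of finite length if and only if for every
prime p ≠ m, writing e = dim A/p, the local cohomology H^{i−e} of M_p with support in the maximal
ideal of A_p vanishes (no condition when e > i). -/
theorem result (R : Type u) [CommRing R] [IsRegularLocalRing R] (A : Type u) [CommRing A] [IsLocalRing A] [IsNoetherianRing A] (π : R →+* A) (hπ : Function.Surjective π) (M : Type u) [AddCommGroup M] [Module A M] [Module.Finite A M] (i : ℕ) : IsFiniteLength A (LocCoh.H (IsLocalRing.maximalIdeal A) i M) ↔ ∀ p : PrimeSpectrum A, p.asIdeal ≠ IsLocalRing.maximalIdeal A → ∀ (e j : ℕ), ringKrullDim (A ⧸ p.asIdeal) = e → j + e = i → Subsingleton (LocCoh.H (IsLocalRing.maximalIdeal (Localization.AtPrime p.asIdeal)) j (LocalizedModule p.asIdeal.primeCompl M))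 := by
  exact Groth.Agent.S2934.aux R A π hπ M i

end Groth.Agent.S2934
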