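import Groth.Statements.S2943
import Groth.Agent.Gor18.Regular
import Groth.Agent.LC17.GorExt

set_option autoImplicit false
universe u
open CategoryTheory Opposite
open Dual

namespace Groth.Agent.S2943

/-- Local duality for a regular local ring: let A be a regular local ring of dimension r with maximal
ideal m, κ → E an injective hull of the residue field (a dualizing module for A), and M a finite
A-module. For every i ≤ r the local cohomology module H^i_m(M) is isomorphic to Hom_A(Ext^{r−i}_A(M,
A), E). (The published statement gives the isomorphism as the map induced by the Yoneda pairing;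
here only the existence of an A-linear isomorphism is asserted.) -/
theorem result (A : Type u) [CommRing A] [IsRegularLocalRing A] (r : ℕ) (hr : ringKrullDim A = r) (E : Type u) [AddCommGroup E] [Module A E] (f : IsLocalRing.ResidueField A →ₗ[A] E) (hf : InjHull.IsInjectiveHull f) (M : Type u) [AddCommGroup M] [Module A M] [Module.Finite A M] (i : ℕ) (hi : i ≤ r) : Nonempty (LocCoh.H (IsLocalRing.maximalIdeal A) i M ≃ₗ[A] ((((Ext A (ModuleCat.{u} A) (r - i)).obj (op (ModuleCat.of A M))).obj (ModuleCat.of A A)) →ₗ[A] E)) := by
  haveI := Groth.Agent.Gor18.regular_gor A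
  haveI := Groth.Agent.Gor18.gor_cm A
  obtain ⟨f₀, hf₀⟩ := Groth.Agent.Gor18.exists_hull_H A r hr
  obtain ⟨eE, -⟩ := Groth.Agent.InjHull18.hull_unique hf hf₀
  haveI := hf₀.isInjective
  obtain ⟨e⟩ := Groth.Agent.LC16.CanonDual.duality (R := A) (K := A) hr
    (LinearMap.ringLmapEquivSelf A A (LocCoh.H (IsLocalRing.maximalIdeal A) r A)) (r - i) i (by omega) M
  exact ⟨e ≪≫ₗ (LinearEquiv.arrowCongr (Groth.Agent.LC15.extEquiv (ModuleCat.of A M) (ModuleCat.of A A) (r - i)) eE).symm⟩

end Groth.Agent.S2943
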