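import Groth.Statements.S2954
import Groth.Agent.Roots36.PosSys

set_option autoImplicit false
open RootPairing
open scoped Pointwise
universe u
open RootD

namespace Groth.Agent.S2954

/-- For a finite crystallographic reduced root pairing (over a domain of characteristic zero), the Weyl
group acts freely and transitively on bases: for two bases b, b' there is exactly one element of the
Weyl group carrying the set of simple roots of b onto that of b'. -/
theorem result {ι R M N : Type*} [CommRing R] [CharZero R] [IsDomain R] [AddCommGroup M] [Module R M]
    [AddCommGroup N] [Module R N] (P : RootPairing ι R M N) [Finite ι] [P.IsCrystallographic] [P.IsReduced]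
    (b b' : P.Base) :
    ∃! g : P.weylGroup, (fun i : ι => (g : P.Aut) • i) '' (b.support : Set ι) = (b'.support : Set ι) := by
  have := Fintype.ofFinite ι
  have hΔ := Roots36.base_isSimpleSys b
  obtain ⟨g, hg, he⟩ := Roots36.exists_smul_simple_eq hΔ (Roots36.base_isSimpleSys b')
  refine ⟨⟨g, hg⟩, he, ?_⟩
  rintro ⟨v, hv⟩ hve
  apply Subtype.ext
  have : g⁻¹ * v = 1 := by
    refine Roots36.eq_one_of_image_simple hΔ (mul_mem (inv_mem hg) hv) ?_
    have hc : (fun i : ι => (g⁻¹ * v) • i) = (g⁻¹ • ·) ∘ (v • ·) := by
      funext i; exact mul_smul _ _ i
    rw [hc, Set.image_comp]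
    simp only at hve
    rw [hve, ← he, Set.image_image]
    simp
  exact (inv_mul_eq_one.mp this).symm

end Groth.Agent.S2954
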