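import Groth.Statements.S2955
import Groth.Agent.Roots36.Combi
import Groth.Agent.Roots36.Exists

set_option autoImplicit false
open RootPairing
open scoped Pointwise Classical
universe u
open RootD

namespace Groth.Agent.S2955

/-- Let P be a finite crystallographic reduced root pairing over a domain of characteristic zero, with a
base b, and write 2ρ for the sum of the positive roots with respect to b. Then for every simple root
β (an index in the support of b) the reflection in β sends 2ρ to 2ρ − 2β (equivalently, the coroot
of β pairs to 1 with ρ; only the reflection identity is asserted). -/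
theorem result {ι R M N : Type*} [CommRing R] [CharZero R] [IsDomain R] [AddCommGroup M] [Module R M]
    [AddCommGroup N] [Module R N] (P : RootPairing ι R M N) [Finite ι] [P.IsCrystallographic] [P.IsReduced]
    [Fintype ι] (b : P.Base) (j : ι) (hj : j ∈ b.support) :
    P.reflection j (∑ i, if b.IsPos i then P.root i else 0) =
      (∑ i, if b.IsPos i then P.root i else 0) - (2 : R) • P.root j := by
  classical
  have hΔ := Roots36.base_isSimpleSys b
  have h2 := (Roots36.sum_pairingIn_indiv_posOf hΔ (i := j) hj).1
  have he : (∑ i, if b.IsPos i then P.root i else 0) =
      ∑ i ∈ Finset.univ.filter (fun k => k ∈ RootD.posOf P (b.support : Set ι) ∧ RootD.IsIndiv P k),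
        P.root i := by
    rw [Finset.sum_filter]
    refine Finset.sum_congr rfl fun i _ => ?_
    have hind : RootD.IsIndiv P i := fun k hk => by
      have := Roots36.isAddTorsionFree_M P
      refine RootPairing.nsmul_notMem_range_root (n := 2) (P := P) (i := k) ⟨i, ?_⟩
      rw [← hk, ← Nat.cast_smul_eq_nsmul R]; norm_num
    simp [Roots36.isPos_iff_posOf, hind]
  rw [he, P.reflection_apply, map_sum]
  congr 2
  simp only [P.root_coroot'_eq_pairing, Roots36.pairing_eq_cast, ← Int.cast_sum, h2]
  norm_num

end Groth.Agent.S2955
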