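import Groth.Statements.S2956
import Groth.Agent.Roots36.Coxeter
import Mathlib.GroupTheory.Coxeter.Basic

set_option autoImplicit false
open RootPairing
open scoped Pointwise
universe u
open RootD

namespace Groth.Agent.S2956

/-- For a finite crystallographic reduced root pairing with a base b: the Weyl group is presented by the
simple reflections s_i (i in the base) subject to the relations (s_i s_j)^{n_{ij}} = 1, where n_{ij}
is the order of s_i s_j; i.e. it carries a Coxeter system whose simple reflections are the s_i and
whose Coxeter matrix is (n_{ij}). -/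
theorem result {ι R M N : Type*} [CommRing R] [CharZero R] [IsDomain R] [AddCommGroup M] [Module R M]
    [AddCommGroup N] [Module R N] (P : RootPairing ι R M N) [Finite ι] [P.IsCrystallographic] [P.IsReduced]
    (b : P.Base) :
    ∃ (C : CoxeterMatrix ↥b.support) (cs : CoxeterSystem C P.weylGroup),
      (∀ j : ↥b.support, ((cs.simple j : P.weylGroup) : P.Aut) = Equiv.reflection P (j : ι)) ∧
      ∀ j k : ↥b.support, C.M j k = orderOf (Equiv.reflection P (j : ι) * Equiv.reflection P (k : ι)) := by
  have := Fintype.ofFinite ι
  classical
  have hΔ := Roots36.base_isSimpleSys b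
  let s : ↥b.support → P.weylGroup := fun j => ⟨_, P.reflection_mem_weylGroup (j : ι)⟩
  let o : ↥b.support → ↥b.support → ℕ := fun j k =>
    orderOf (Equiv.reflection P (j : ι) * Equiv.reflection P (k : ι))
  have hinv : ∀ j : ι, (Equiv.reflection P j)⁻¹ = Equiv.reflection P j := fun j =>
    inv_eq_of_mul_eq_one_right (Roots36.reflection_sq j)
  let C : CoxeterMatrix ↥b.support :=
    { M := Matrix.of o
      isSymm := by
        ext j k
        change o k j = o j k
        simp only [o]
        rw [← orderOf_inv, mul_inv_rev, hinv, hinv]
      diagonal := fun j => by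
        change o j j = 1
        simp only [o, Roots36.reflection_sq, orderOf_one]
      off_diagonal := fun j k hjk h => by
        change o j k = 1 at h
        simp only [o, orderOf_eq_one_iff] at h
        exact hjk (Subtype.ext (Roots36.reflection_simple_inj hΔ j.2 k.2
          ((eq_inv_of_mul_eq_one_left h).trans (hinv _)))) }
  have hlift : C.IsLiftable s := fun j k => Subtype.ext (by
    rw [SubmonoidClass.coe_pow]
    exact pow_orderOf_eq_one _)
  let cs0 := C.toCoxeterSystem
  let φ : C.Group →* P.weylGroup := cs0.lift ⟨s, hlift⟩
  have hφ : ∀ j, φ (cs0.simple j) = s j := fun j => cs0.lift_apply_simple hlift j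
  let π : ι → C.Group := fun i => if h : i ∈ b.support then cs0.simple ⟨i, h⟩ else 1
  have hbij : Function.Bijective φ := by
    constructor
    · refine (injective_iff_map_eq_one φ).mpr fun g hg => ?_
      obtain ⟨w, rfl⟩ := cs0.wordProd_surjective g
      have hmap : (w.map Subtype.val).map π = w.map cs0.simple := by
        rw [List.map_map]
        exact List.map_congr_left fun j _ => by simp [π]
      have hl : ∀ a ∈ w.map Subtype.val, a ∈ (b.support : Set ι) := fun a ha => by
        obtain ⟨j, -, rfl⟩ := List.mem_map.mp ha
        exact j.2
      have := Roots36.prod_eq_one_of_wprod_eq_one hΔ π (P.weylGroup.subtype.comp φ)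
        (fun i hi => by simp [π, show i ∈ b.support from hi, hφ]; rfl)
        (fun i hi => by simp [π, show i ∈ b.support from hi])
        (fun i hi j hj => by
          simp only [π, dif_pos (show i ∈ b.support from hi), dif_pos (show j ∈ b.support from hj)]
          exact cs0.simple_mul_simple_pow ⟨i, hi⟩ ⟨j, hj⟩)
        hl (by
          rw [← Roots36.map_prod_eq π (P.weylGroup.subtype.comp φ)
            (fun i hi => by simp [π, show i ∈ b.support from hi, hφ]; rfl) hl, hmap]
          change ((φ (cs0.wordProd w) : P.weylGroup) : P.Aut) = 1
          rw [hg]; rfl)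
      rw [hmap] at this
      exact this
    · rintro ⟨g, hg⟩
      obtain ⟨l, hl, rfl⟩ := Roots36.exists_word hΔ hg
      refine ⟨(l.map π).prod, Subtype.ext ?_⟩
      exact Roots36.map_prod_eq π (P.weylGroup.subtype.comp φ)
        (fun i hi => by simp [π, show i ∈ b.support from hi, hφ]; rfl) hl
  refine ⟨C, ⟨(MulEquiv.ofBijective φ hbij).symm⟩, fun j => ?_, fun j k => rfl⟩
  change ((φ (cs0.simple j) : P.weylGroup) : P.Aut) = _
  rw [hφ]

end Groth.Agent.S2956
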