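import Groth.Statements.S2957
import Groth.Agent.Roots36.Coxeter
import Groth.Agent.Roots36.Dominant

set_option autoImplicit false
open RootPairing
open scoped Pointwise
universe u
open RootD

namespace Groth.Agent.S2957

/-- For a finite crystallographic reduced root pairing with a base b: let α, β be simple roots and w an
element of the Weyl group with w(α) = β. Then there are simple roots α = α_0, ..., α_m = β and Weyl
group elements w_0, ..., w_{m-1} with w = w_{m-1} ... w_0, w_i(α_i) = α_{i+1}, and each w_i lying in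
the subgroup generated by the reflections in α_i and in a simple root γ_i, where γ_i = α_{i+1}
whenever α_i ≠ α_{i+1}. -/
theorem result {ι R M N : Type*} [CommRing R] [CharZero R] [IsDomain R] [AddCommGroup M] [Module R M]
    [AddCommGroup N] [Module R N] (P : RootPairing ι R M N) [Finite ι] [P.IsCrystallographic] [P.IsReduced]
    (b : P.Base) (α β : ι) (hα : α ∈ b.support) (hβ : β ∈ b.support) (w : P.Aut) (hw : w ∈ P.weylGroup)
    (hwα : w • α = β) :
    ∃ (m : ℕ) (a : Fin (m + 1) → ι) (ws : Fin m → P.Aut),
      (∀ i, a i ∈ b.support) ∧ a 0 = α ∧ a (Fin.last m) = β ∧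
      (∀ i, ws i ∈ P.weylGroup) ∧
      w = (List.ofFn fun i : Fin m => ws (Fin.rev i)).prod ∧
      (∀ i : Fin m, ws i • a (Fin.castSucc i) = a (Fin.succ i)) ∧
      ∀ i : Fin m, ∃ γ ∈ b.support,
        ws i ∈ Subgroup.closure {Equiv.reflection P (a (Fin.castSucc i)), Equiv.reflection P γ} ∧
        (a (Fin.castSucc i) ≠ a (Fin.succ i) → γ = a (Fin.succ i)) := by
  have := Fintype.ofFinite ι
  classical
  have hΔ := Roots36.base_isSimpleSys b
  obtain ⟨l, hl, hlw⟩ := Roots36.exists_word hΔ hw
  generalize hn : l.length = n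
  induction n using Nat.strongRecOn generalizing α w l with
  | ind n ih =>
    by_cases h1 : w = 1
    · subst h1
      rw [one_smul] at hwα
      subst hwα
      exact ⟨0, fun _ => α, Fin.elim0, fun _ => hα, rfl, rfl, fun i => i.elim0, by simp,
        fun i => i.elim0, fun i => i.elim0⟩
    obtain ⟨γ, hγ, hγn⟩ : ∃ γ ∈ (b.support : Set ι), w • γ ∉ RootD.posOf P b.support := by
      by_contra hc
      push Not at hc
      exact h1 (Roots36.eq_one_of_smul_simple_posOf hΔ hw hc)
    let D : Set ι := {α, γ}
    have hD : D ⊆ (b.support : Set ι) := by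
      rintro x (rfl | rfl)
      exacts [hα, hγ]
    let good : ℕ → Prop := fun k => ∃ r : List ι, (∀ a ∈ r, a ∈ (b.support : Set ι)) ∧
      r.length = k ∧ (Roots36.wprod P r)⁻¹ * w ∈ Roots36.subW P D
    obtain ⟨m, hm, hm'⟩ := Roots36.exchange hΔ hl hγ (show Roots36.wprod P l • γ ∉ _ by
      rw [hlw]; exact hγn)
    have hex : good (n - 1) := by
      refine ⟨l.eraseIdx m, fun a ha => hl a (List.mem_of_mem_eraseIdx ha),
        by rw [List.length_eraseIdx, if_pos hm, hn], ?_⟩
      rw [← hm', hlw, mul_inv_rev, mul_assoc, inv_mul_cancel, mul_one]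
      exact inv_mem (Roots36.reflection_mem_subW (Set.mem_insert_of_mem _ rfl))
    have hex' : ∃ k, good k := ⟨_, hex⟩
    obtain ⟨r, hr, hrlen, hrv⟩ := Nat.find_spec hex'
    have hrn : r.length < n := by
      have := Nat.find_min' hex' hex
      have : 0 < n := by lia
      lia
    set w₁ := Roots36.wprod P r with hw₁
    have hw₁W : w₁ ∈ P.weylGroup := Roots36.subW_le_weylGroup _ (Roots36.wprod_mem_subW hr)
    have hposD : ∀ x ∈ D, w₁ • x ∈ RootD.posOf P b.support := by
      intro x hx
      by_contra hneg
      obtain ⟨k, hk, hk'⟩ := Roots36.exchange hΔ hr (hD hx) hneg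
      have hgood : good (r.length - 1) := by
        refine ⟨r.eraseIdx k, fun a ha => hr a (List.mem_of_mem_eraseIdx ha),
          by rw [List.length_eraseIdx, if_pos hk], ?_⟩
        rw [← hk', mul_inv_rev, mul_assoc]
        exact mul_mem (inv_mem (Roots36.reflection_mem_subW hx)) hrv
      have := Nat.find_min' hex' hgood
      lia
    set v := w₁⁻¹ * w with hv
    have hβv : w₁ • (v • α) = β := by rw [← mul_smul, hv, mul_inv_cancel_left, hwα]
    have hsupp : ∀ j ∉ D, Roots36.coef hΔ (v • α) j = 0 := fun j hj => by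
      rw [Roots36.coef_smul_of_mem_subW hΔ hD hrv α j hj, Roots36.coef_simple hΔ hα]
      exact Pi.single_eq_of_ne (fun e => hj (by rw [e]; exact Set.mem_insert _ _)) 1
    have hαγ : α ≠ γ := fun e => hγn (e ▸ hwα.symm ▸ Roots36.simple_mem_posOf hΔ hβ)
    have hroot : P.root β = Roots36.coef hΔ (v • α) α • P.root (w₁ • α) +
        Roots36.coef hΔ (v • α) γ • P.root (w₁ • γ) := by
      rw [← hβv, Roots36.root_smul]
      conv_lhs => rw [Roots36.root_eq_comb hΔ (v • α)]
      rw [Roots36.comb, Finset.sum_eq_add α γ hαγ, smul_add, smul_comm, ← Roots36.root_smul,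
        smul_comm, ← Roots36.root_smul]
      · intro c _ hc
        rw [hsupp c (by simp [D, hc.1, hc.2]), zero_smul]
      · simp
      · simp
    have hc0 : ∀ j, 0 ≤ Roots36.coef hΔ (v • α) j := by
      refine (Roots36.coef_sign hΔ (v • α)).resolve_right fun hneg => ?_
      have hc : Roots36.coef hΔ β = Roots36.coef hΔ (v • α) α • Roots36.coef hΔ (w₁ • α) +
          Roots36.coef hΔ (v • α) γ • Roots36.coef hΔ (w₁ • γ) := by
        refine Roots36.coef_eq hΔ (fun j hj => by simp [Roots36.coef_eq_zero hΔ hj]) ?_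
        rw [Roots36.comb_add, Roots36.comb_smul, Roots36.comb_smul, ← Roots36.root_eq_comb hΔ,
          ← Roots36.root_eq_comb hΔ, hroot]
      have := congrFun hc β
      rw [Roots36.coef_simple hΔ hβ, Pi.single_eq_same, Pi.add_apply, Pi.smul_apply, Pi.smul_apply,
        smul_eq_mul, smul_eq_mul] at this
      have h2 := (Roots36.posOf_iff hΔ).mp (hposD α (Set.mem_insert _ _)) β
      have h3 := (Roots36.posOf_iff hΔ).mp (hposD γ (Set.mem_insert_of_mem _ rfl)) β
      nlinarith [hneg α, hneg γ]
    have hht : 1 = Roots36.coef hΔ (v • α) α * Roots36.ht hΔ (w₁ • α) +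
        Roots36.coef hΔ (v • α) γ * Roots36.ht hΔ (w₁ • γ) := by
      rw [← Roots36.ht_simple hΔ hβ, Roots36.ht]
      rw [Roots36.coef_eq hΔ (c := Roots36.coef hΔ (v • α) α • Roots36.coef hΔ (w₁ • α) +
          Roots36.coef hΔ (v • α) γ • Roots36.coef hΔ (w₁ • γ))
        (fun j hj => by simp [Roots36.coef_eq_zero hΔ hj])
        (by rw [Roots36.comb_add, Roots36.comb_smul, Roots36.comb_smul, ← Roots36.root_eq_comb hΔ,
          ← Roots36.root_eq_comb hΔ, hroot])]
      simp [Roots36.ht, Finset.sum_add_distrib, Finset.mul_sum]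
    have hα' : v • α = α ∨ v • α = γ := by
      have a1 := Roots36.ht_pos hΔ (hposD α (Set.mem_insert _ _))
      have a2 := Roots36.ht_pos hΔ (hposD γ (Set.mem_insert_of_mem _ rfl))
      have key : ∀ x y, x ∈ D → (∀ j, j ≠ x → j ∈ D → j = y) → Roots36.coef hΔ (v • α) y = 0 →
          Roots36.coef hΔ (v • α) x = 1 → v • α = x := fun x y hx hxy hy hx1 => by
        refine P.root.injective ?_
        rw [Roots36.root_eq_comb hΔ (v • α), Roots36.comb, Finset.sum_eq_single x, hx1, one_smul]
        · intro j _ hj
          by_cases hjD : j ∈ D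
          · rw [hxy j hj hjD, hy, zero_smul]
          · rw [hsupp j hjD, zero_smul]
        · simp
      rcases (hc0 α).eq_or_lt with h | h
      · rw [← h, zero_mul, zero_add] at hht
        right
        refine key γ α (Set.mem_insert_of_mem _ rfl) (fun j hj hjD => hjD.resolve_right hj) h.symm ?_
        exact Int.eq_one_of_mul_eq_one_right (hc0 γ) hht.symm
      · left
        have hg : Roots36.coef hΔ (v • α) γ = 0 := by nlinarith [hc0 γ]
        rw [hg, zero_mul, add_zero] at hht
        exact key α γ (Set.mem_insert _ _) (fun j hj hjD => hjD.resolve_left hj) hg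
          (Int.eq_one_of_mul_eq_one_right (hc0 α) hht.symm)
    have hα'mem : v • α ∈ b.support := by
      rcases hα' with h | h <;> rw [h]
      exacts [hα, hγ]
    obtain ⟨m', a, ws, ha, ha0, hal, hws, hprod, hstep, hcl⟩ :=
      ih r.length hrn (v • α) hα'mem w₁ hw₁W hβv r hr rfl rfl
    refine ⟨m' + 1, Fin.cons α a, Fin.cons v ws, Fin.cases (by simpa using hα) (by simpa using ha),
      by simp, ?last, ?mem, ?prod, ?step, ?clo⟩
    case last => rw [← Fin.succ_last, Fin.cons_succ, hal]
    case mem =>
      refine Fin.cases ?_ ?_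
      · rw [Fin.cons_zero]; exact mul_mem (inv_mem hw₁W) hw
      · intro i; rw [Fin.cons_succ]; exact hws i
    case prod =>
      rw [List.ofFn_succ_last, List.prod_append]
      simp only [Fin.rev_castSucc, Fin.cons_succ, Fin.rev_last, Fin.cons_zero, List.prod_singleton]
      rw [← hprod, hv, mul_inv_cancel_left]
    case step =>
      refine Fin.cases ?_ ?_
      · simp [ha0]
      · intro i
        rw [Fin.cons_succ, ← Fin.succ_castSucc, Fin.cons_succ, Fin.cons_succ]
        exact hstep i
    case clo =>
      refine Fin.cases ?_ ?_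
      · refine ⟨γ, hγ, ?_, fun hne => ?_⟩
        · simp only [Fin.cons_zero, Fin.castSucc_zero]
          simpa [Roots36.subW, D, Set.image_pair] using hrv
        · simp only [Fin.cons_zero, Fin.castSucc_zero, Fin.cons_succ, ha0] at hne ⊢
          exact (hα'.resolve_left (Ne.symm hne)).symm
      · intro i
        rw [Fin.cons_succ, ← Fin.succ_castSucc, Fin.cons_succ, Fin.cons_succ]
        exact hcl i

end Groth.Agent.S2957
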