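import Groth.Statements.S2961
import Groth.Agent.AlgGrp79.BorelParabolic
import Groth.Agent.CAlg6.NormOpen
import Groth.Agent.RedPts82.MonoMultClosed

set_option autoImplicit false
open CategoryTheory MonoidalCategory CartesianMonoidalCategory MonObj GrpObj AlgebraicGeometry
universe u
open RedX

namespace Groth.Agent.S2961

open CategoryTheory.Limits Groth.Agent.RedPts82

variable {S : Scheme.{u}} {G P : Over S} [GrpObj G] [GrpObj P]

/-- The map from the geometric point to the residue field. -/
noncomputable abbrev toResidue (s : S) :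
    Spec (CommRingCat.of (AlgebraicClosure (S.residueField s))) ⟶ Spec (CommRingCat.of (S.residueField s)) :=
  Spec.map (CommRingCat.ofHom (algebraMap (S.residueField s) (AlgebraicClosure (S.residueField s))))

theorem fpqc_toResidue (s : S) : Flat (toResidue s) ∧ Surjective (toResidue s) := by
  refine ⟨?_, ⟨fun y => ⟨IsLocalRing.closedPoint _, ?_⟩⟩⟩
  · rw [toResidue, HasRingHomProperty.Spec_iff (P := @Flat)]
    exact RingHom.flat_algebraMap_iff.2 inferInstance
  · exact Subsingleton.elim (α := PrimeSpectrum (S.residueField s)) _ _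

theorem isIso_of_fpqc {A B C D : Scheme.{u}} {a : A ⟶ B} {b : A ⟶ C} {c : B ⟶ D} {d : C ⟶ D}
    (sq : IsPullback a b c d) [Flat c] [Surjective c] [QuasiCompact c] (ha : IsIso a) : IsIso d := by
  haveI : MorphismProperty.DescendsAlong (MorphismProperty.isomorphisms Scheme.{u}) Unr55.fpqc.{u} := by
    unfold Unr55.fpqc; infer_instance
  exact MorphismProperty.of_isPullback_of_descendsAlong (P := MorphismProperty.isomorphisms Scheme.{u})
    (Q := Unr55.fpqc.{u}) sq ⟨⟨inferInstance, inferInstance⟩, inferInstance⟩ ha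

theorem mem_range_geomPt (s : S) : s ∈ Set.range (Red.geomPt s) :=
  ⟨(⊥ : PrimeSpectrum (AlgebraicClosure (S.residueField s))),
    (Scheme.Hom.comp_apply (toResidue s) (S.fromSpecResidueField s) _).trans (Scheme.fromSpecResidueField_apply _ _)⟩

theorem mem_range_fst {X T : Scheme.{u}} (h : X ⟶ S) (g : T ⟶ S) (y : X) (hy : h y ∈ Set.range g) :
    y ∈ Set.range (pullback.fst h g) := by
  rw [Scheme.Pullback.range_fst]; exact hy

/-- A map which is surjective on all geometric fibres is surjective. -/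
theorem surjective_of_geomFibres {X Y : Over S} (j : X ⟶ Y)
    (h : ∀ s : S, Surjective ((Over.pullback (Red.geomPt s)).map j).left) : Surjective j.left := by
  refine ⟨fun y => ?_⟩
  obtain ⟨w, hw⟩ := mem_range_fst Y.hom (Red.geomPt (Y.hom y)) y (mem_range_geomPt _)
  haveI := h (Y.hom y)
  obtain ⟨v, hv⟩ := (((Over.pullback (Red.geomPt (Y.hom y))).map j).left).surjective w
  refine ⟨pullback.fst X.hom (Red.geomPt (Y.hom y)) v, ?_⟩
  rw [← Scheme.Hom.comp_apply, (isPullback_bc_map j (Red.geomPt (Y.hom y))).w]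
  exact (congrArg (pullback.fst Y.hom (Red.geomPt (Y.hom y))) hv).trans hw

theorem connected_fibre (hG : Red.IsReductive G) (i : P ⟶ G) (hP : Red.IsParabolic i) (s : S) :
    ConnectedSpace ↥(pullback P.hom (S.fromSpecResidueField s)) := by
  obtain ⟨_, _, hconn, -⟩ := hG.2.2 s
  haveI : ConnectedSpace ↥(pullback P.hom (Red.geomPt s)) :=
    Groth.Agent.AlgGrp79.BorelParabolic.connectedSpace_of_isParabolicOver
      (G := Red.geomFibre s G) (iP := (Over.pullback (Red.geomPt s)).map i) (hP.2.2.2 s)
  haveI : Surjective (bcTrans P (S.fromSpecResidueField s) (toResidue s) (Red.geomPt s) rfl) :=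
    MorphismProperty.of_isPullback (P := @Surjective)
      (isPullback_bcTrans P (S.fromSpecResidueField s) (toResidue s) (Red.geomPt s) rfl).flip (fpqc_toResidue s).2
  exact (bcTrans P (S.fromSpecResidueField s) (toResidue s) (Red.geomPt s) rfl).surjective.connectedSpace
    (bcTrans P (S.fromSpecResidueField s) (toResidue s) (Red.geomPt s) rfl).continuous

/-- On a geometric fibre the map into the normalizer is an isomorphism. -/
theorem isIso_geomFibre (hG : Red.IsReductive G) (i : P ⟶ G) (hP : Red.IsParabolic i) {N : Over S} (n : N ⟶ G)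
    [Mono i] [Mono n] (hn : ∀ (X : Over S) (x : X ⟶ N) (h : X ⟶ P),
      (∃ h' : X ⟶ P, (x ≫ n) * (h ≫ i) * (x ≫ n)⁻¹ = h' ≫ i) ∧
      (∃ h' : X ⟶ P, (x ≫ n)⁻¹ * (h ≫ i) * (x ≫ n) = h' ≫ i))
    (j : P ⟶ N) (hj : j ≫ n = i) (s : S) : IsIso ((Over.pullback (Red.geomPt s)).map j) := by
  obtain ⟨haff, hsm, hconn, -⟩ := hG.2.2 s
  obtain ⟨b, hb⟩ := Groth.Agent.AlgGrp79.BorelParabolic.exists_factor
    (G := Red.geomFibre s G) ((Over.pullback (Red.geomPt s)).map i) (hP.2.2.2 s)
    (Red.geomFibre s N) ((Over.pullback (Red.geomPt s)).map n) fun X' x h => by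
      obtain ⟨⟨h₁, e₁⟩, ⟨h₂, e₂⟩⟩ := hn _ (toBase (Red.geomPt s) x) (toBase (Red.geomPt s) h)
      refine ⟨⟨ofBase (Red.geomPt s) h₁, toBase_injective (Red.geomPt s) ?_⟩,
        ⟨ofBase (Red.geomPt s) h₂, toBase_injective (Red.geomPt s) ?_⟩⟩
      · simp only [toBase_mul, toBase_inv, toBase_comp_map, toBase_ofBase]
        exact e₁
      · simp only [toBase_mul, toBase_inv, toBase_comp_map, toBase_ofBase]
        exact e₂
  haveI : Mono ((Over.pullback (Red.geomPt s)).map i) := inferInstance
  haveI : Mono ((Over.pullback (Red.geomPt s)).map n) := inferInstance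
  refine ⟨b, ?_, ?_⟩
  · rw [← cancel_mono ((Over.pullback (Red.geomPt s)).map i), Category.assoc, hb, ← Functor.map_comp, hj,
      Category.id_comp]
  · rw [← cancel_mono ((Over.pullback (Red.geomPt s)).map n), Category.assoc, ← Functor.map_comp, hj, hb,
      Category.id_comp]

theorem normalizer_eq (hG : Red.IsReductive G) (i : P ⟶ G) (hP : Red.IsParabolic i) :
    Red.IsNormalizerOf i i := by
  obtain ⟨hi, hicl, hPs, -⟩ := id hP
  obtain ⟨hGa, hGs, -⟩ := id hG
  haveI := hi
  haveI := hicl
  haveI := hPs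
  haveI := hGa
  haveI := hGs
  haveI : Mono i := Over.mono_of_mono_left i
  haveI : IsAffineHom P.hom := by rw [← Over.w i]; infer_instance
  obtain ⟨N, _, n, ⟨hnh, hnm, key⟩, hncl, hnfp⟩ :=
    Groth.Agent.S5260.result G P (fun s => connected_fibre hG i hP s) i
  haveI := hnh
  haveI := hnm
  haveI := hncl
  haveI := hnfp
  haveI : LocallyOfFinitePresentation N.hom := by rw [← Over.w n]; infer_instance
  have self : ∀ (X : Over S) (z : X ⟶ P) (X' : Over S) (x : X' ⟶ X) (h : X' ⟶ P),
      (∃ h' : X' ⟶ P, (x ≫ z ≫ i) * (h ≫ i) * (x ≫ z ≫ i)⁻¹ = h' ≫ i) ∧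
      (∃ h' : X' ⟶ P, (x ≫ z ≫ i)⁻¹ * (h ≫ i) * (x ≫ z ≫ i) = h' ≫ i) := fun X z X' x h =>
    ⟨⟨(x ≫ z) * h * (x ≫ z)⁻¹, by simp only [MonObj.mul_comp, GrpObj.inv_comp, Category.assoc]⟩,
      ⟨(x ≫ z)⁻¹ * h * (x ≫ z), by simp only [MonObj.mul_comp, GrpObj.inv_comp, Category.assoc]⟩⟩
  obtain ⟨j, hj⟩ := (key P i).2 fun X' x h => by
    simpa using self P (𝟙 P) X' x h
  haveI : IsMonHom j :=
    { one_hom := by rw [← cancel_mono n, Category.assoc, hj, IsMonHom.one_hom, IsMonHom.one_hom]
      mul_hom := by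
        rw [← cancel_mono n, Category.assoc, Category.assoc, hj, IsMonHom.mul_hom, IsMonHom.mul_hom,
          ← Category.assoc, MonoidalCategory.tensorHom_comp_tensorHom, hj] }
  have hn : ∀ (X : Over S) (x : X ⟶ N) (h : X ⟶ P),
      (∃ h' : X ⟶ P, (x ≫ n) * (h ≫ i) * (x ≫ n)⁻¹ = h' ≫ i) ∧
      (∃ h' : X ⟶ P, (x ≫ n)⁻¹ * (h ≫ i) * (x ≫ n) = h' ≫ i) := fun X x h =>
    (key N n).1 ⟨𝟙 N, Category.id_comp n⟩ X x h
  have hiso : ∀ s : S, IsIso ((Over.pullback (Red.geomPt s)).map j).left := fun s => by
    haveI := isIso_geomFibre hG i hP n hn j hj s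
    exact inferInstanceAs (IsIso ((Over.forget _).map ((Over.pullback (Red.geomPt s)).map j)))
  haveI : IsOpenImmersion j.left := Groth.Agent.CAlg6.NormOpen.isOpenImmersion_of_fibres j fun s => by
    have sq := isPullback_bcTrans_map j (S.fromSpecResidueField s) (toResidue s) (Red.geomPt s) rfl
    haveI := (fpqc_toResidue s).1
    haveI := (fpqc_toResidue s).2
    haveI : QuasiCompact (toResidue s) := inferInstance
    have hbc := (isPullback_bcTrans N (S.fromSpecResidueField s) (toResidue s) (Red.geomPt s) rfl).flip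
    haveI : Flat (bcTrans N (S.fromSpecResidueField s) (toResidue s) (Red.geomPt s) rfl) :=
      MorphismProperty.of_isPullback (P := @Flat) hbc inferInstance
    haveI : Surjective (bcTrans N (S.fromSpecResidueField s) (toResidue s) (Red.geomPt s) rfl) :=
      MorphismProperty.of_isPullback (P := @Surjective) hbc inferInstance
    haveI : QuasiCompact (bcTrans N (S.fromSpecResidueField s) (toResidue s) (Red.geomPt s) rfl) :=
      MorphismProperty.of_isPullback (P := @QuasiCompact) hbc inferInstance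
    haveI : IsIso ((Over.pullback (S.fromSpecResidueField s)).map j).left := isIso_of_fpqc sq.flip (hiso s)
    infer_instance
  haveI : Surjective j.left := surjective_of_geomFibres j fun s => by
    haveI := hiso s
    infer_instance
  haveI : IsIso j.left := (isIso_iff_isOpenImmersion_and_surjective j.left).2 ⟨inferInstance, inferInstance⟩
  haveI : IsIso j := by
    haveI : IsIso ((Over.forget S).map j) := inferInstanceAs (IsIso j.left)
    exact isIso_of_reflects_iso j (Over.forget S)
  refine ⟨hi, inferInstance, fun X g => ⟨?_, fun hg => ?_⟩⟩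
  · rintro ⟨z, rfl⟩ X' x h
    exact self X z X' x h
  · obtain ⟨z, hz⟩ := (key X g).2 hg
    exact ⟨z ≫ inv j, by rw [← hj, Category.assoc, IsIso.inv_hom_id_assoc, hz]⟩

/-- Let G be a reductive group scheme over an arbitrary base scheme S and i : P → G a parabolic subgroup
(a smooth closed subgroup scheme whose geometric fibres contain a Borel subgroup). Then P is its own
normalizer in G: a point of G normalises P (after every base change) if and only if it lies in P.
The algebraically-closed-field case is carried as the hypothesis hNormAlgClosed: over an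
algebraically closed field K, a K-point of a reductive group which normalises a parabolic subgroup
scheme lies in it. -/
theorem result
    (hNormAlgClosed : ∀ (K : Type u) [Field K] [IsAlgClosed K] (H Q : Over (Spec (CommRingCat.of K))) [GrpObj H] [GrpObj Q]
      (j : Q ⟶ H), Red.IsReductive H → Red.IsParabolic j → ∀ g : 𝟙_ (Over (Spec (CommRingCat.of K))) ⟶ H,
        (∀ (Y : Over (Spec (CommRingCat.of K))) (q : Y ⟶ Q), ∃ q' : Y ⟶ Q,
          (toUnit Y ≫ g) * (q ≫ j) * (toUnit Y ≫ g)⁻¹ = q' ≫ j) →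
        ∃ q : 𝟙_ (Over (Spec (CommRingCat.of K))) ⟶ Q, q ≫ j = g)
    {S : Scheme.{u}} {G P : Over S} [GrpObj G] [GrpObj P] (hG : Red.IsReductive G)
    (i : P ⟶ G) (hP : Red.IsParabolic i) : Red.IsNormalizerOf i i := by
  exact normalizer_eq hG i hP

end Groth.Agent.S2961
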