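import Groth.Statements.S2962
import Groth.Agent.RedPts82.CentTorus

set_option autoImplicit false
open CategoryTheory MonoidalCategory CartesianMonoidalCategory MonObj GrpObj AlgebraicGeometry
universe u
open RedX

namespace Groth.Agent.S2962

/-- Let G be a split reductive group scheme over S with splitting D (maximal torus T = D(M), roots in
M). A point g of G with values in X is central (commutes with every point of G after every base
change X' -> X) if and only if it factors through T and every root, viewed as a character T -> G_m,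
is trivial on it; i.e. the centre of G is the intersection of the kernels of the roots. -/
theorem result {S : Scheme.{u}} {G : Over S} [GrpObj G] (D : Red.SplitRed G)
    (X : Over S) (g : X ⟶ G) :
    (∀ (X' : Over S) (x : X' ⟶ X) (h : X' ⟶ G), (x ≫ g) * h = h * (x ≫ g)) ↔
      ∃ t : X ⟶ D.T, t ≫ D.i = g ∧ ∀ a : D.idx, t ≫ D.split.hom.hom.hom ≫ Red.chi S (D.P.root a) = 1 := by
  classical
  have hti : IsMonHom D.i := D.maximalTorus.1
  have he : ∀ {Z : Over S} (t : Z ⟶ D.T) {P : Over S} (k : Red.DS S D.M ⟶ P),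
      (t ≫ D.split.hom.hom.hom) ≫ k = t ≫ D.split.hom.hom.hom ≫ k := fun t P k => Category.assoc _ _ _
  have hid : D.split.hom.hom.hom ≫ D.split.inv.hom.hom = 𝟙 D.T :=
    congrArg (fun f => f.hom.hom) D.split.hom_inv_id
  have hconj : ∀ {Z : Over S} (t : Z ⟶ D.T) (a : D.idx) (x : Z ⟶ Red.Ga S),
      (t ≫ D.i) * (x ≫ D.u a) * (t ≫ D.i)⁻¹ = Groth.Agent.RedPts82.gaPt
        (Red.gmFn (t ≫ D.split.hom.hom.hom ≫ Red.chi S (D.P.root a)) * Red.gaFn x) ≫ D.u a := by
    intro Z t a x
    obtain ⟨y, hy, hy'⟩ := (D.rootHom a).2.2 Z t x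
    rw [← hy, ← Groth.Agent.RedPts82.gaPt_gaFn y, hy']
  constructor
  · intro hg
    obtain ⟨t, ht⟩ := Groth.Agent.RedPts82.centralizer_torus D g fun Z k s => hg Z k (s ≫ D.i)
    refine ⟨t, ht, fun a => Groth.Agent.RedPts82.gmFn_injective ?_⟩
    have := hg X (𝟙 X) (Groth.Agent.RedPts82.gaPt 1 ≫ D.u a)
    rw [Category.id_comp, ← ht] at this
    have h1 : (t ≫ D.i) * (Groth.Agent.RedPts82.gaPt 1 ≫ D.u a) * (t ≫ D.i)⁻¹ =
        Groth.Agent.RedPts82.gaPt 1 ≫ D.u a := by rw [this, mul_inv_cancel_right]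
    rw [hconj] at h1
    have hcl := (D.rootHom a).2.1
    have : Mono (D.u a) := Over.mono_of_mono_left _
    have h2 := congrArg Red.gaFn ((cancel_mono _).mp h1)
    rw [Groth.Agent.RedPts82.gaFn_gaPt, Groth.Agent.RedPts82.gaFn_gaPt, _root_.mul_one] at h2
    rw [h2, Groth.Agent.RedPts82.gmFn_one]
  · rintro ⟨t, rfl, hroot⟩ X' k h
    refine Groth.Agent.RedPts82.comm_all_of_comm_cell D (t ≫ D.i) (fun Z k s => ?_) (fun Z k a x => ?_) k h
    · rw [← Category.assoc, ← MonObj.mul_comp, ← MonObj.mul_comp,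
        Groth.Agent.RedPts82.splitRed_torus_comm]
    · have h1 := hconj (k ≫ t) a x
      rw [Category.assoc k t (D.split.hom.hom.hom ≫ _), hroot a, MonObj.comp_one,
        Groth.Agent.RedPts82.gmFn_one, _root_.one_mul, Groth.Agent.RedPts82.gaPt_gaFn] at h1
      rw [← Category.assoc]
      exact mul_inv_eq_iff_eq_mul.mp h1

end Groth.Agent.S2962
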