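import Groth.Statements.S2965

set_option autoImplicit false
universe u
open SGA3t2b

namespace Groth.Agent.S2965

open Polynomial in
/-- Implication (iv) ⇒ (i) (global form, finite free module): let u be an endomorphism of a finite free
module M over a commutative ring A whose characteristic polynomial is X^r · Q with Q(0) invertible.
Then M is the direct sum of two u-stable submodules M', M'' such that u is nilpotent on M' and
bijective on M''. -/
theorem result {A : Type u} [CommRing A] {M : Type u} [AddCommGroup M] [Module A M]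
    [Module.Free A M] [Module.Finite A M] (u : M →ₗ[A] M) (r : ℕ) (Q : A[X]) (hQ : IsUnit (Q.coeff 0))
    (h : u.charpoly = X ^ r * Q) :
    ∃ M' M'' : Submodule A M, IsCompl M' M'' ∧ (∀ x ∈ M', u x ∈ M') ∧ (∀ x ∈ M'', u x ∈ M'') ∧
      (∃ n : ℕ, ∀ x ∈ M', (u ^ n) x = 0) ∧ Set.BijOn u M'' M'' := by
  classical
  obtain ⟨c, hc⟩ := hQ
  have hdec : Q = C (Q.coeff 0) + X * Q.divX := by
    rw [add_comm, Polynomial.X_mul_divX_add]
  have hQX : IsCoprime X Q := by
    refine ⟨-C (↑c⁻¹ : A) * Q.divX, C (↑c⁻¹ : A), ?_⟩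
    have : C (↑c⁻¹ : A) * C (Q.coeff 0) = 1 := by rw [← hc, ← map_mul, Units.inv_mul, map_one]
    linear_combination C (↑c⁻¹ : A) * hdec + this
  have hcop : IsCoprime (X ^ r) Q := hQX.pow_left
  have hsup := Polynomial.sup_ker_aeval_eq_ker_aeval_mul_of_coprime u hcop
  rw [← h, LinearMap.aeval_self_charpoly, LinearMap.ker_zero] at hsup
  have hcomm : ∀ (P : A[X]) (x : M), aeval u P x = 0 → aeval u P (u x) = 0 := fun P x hx => by
    have e : aeval u P * u = u * aeval u P := by
      simpa using congrArg (aeval u) (mul_comm P X)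
    have := LinearMap.congr_fun e x
    simp only [Module.End.mul_apply] at this
    rw [this, hx, map_zero]
  refine ⟨LinearMap.ker (aeval u (X ^ r : A[X])), LinearMap.ker (aeval u Q),
    ⟨Polynomial.disjoint_ker_aeval_of_isCoprime u hcop, codisjoint_iff.mpr hsup⟩,
    fun x hx => hcomm _ x hx, fun x hx => hcomm _ x hx, ⟨r, fun x hx => by simpa using hx⟩, ?_⟩
  have hinv : ∀ x : M, (↑c⁻¹ : A) • aeval u Q x = x + (↑c⁻¹ : A) • u (aeval u Q.divX x) := fun x => by
    conv_lhs => rw [hdec]
    rw [map_add, map_mul, aeval_C, aeval_X, LinearMap.add_apply, Module.algebraMap_end_apply, ← hc,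
      Module.End.mul_apply, smul_add, smul_smul, Units.inv_mul, one_smul]
  refine ⟨fun x hx => hcomm _ x hx, fun x hx y hy hxy => ?_, fun y hy => ?_⟩
  · have h0 : aeval u Q (x - y) = 0 := by
      rw [map_sub, LinearMap.mem_ker.mp hx, LinearMap.mem_ker.mp hy, sub_zero]
    have h1 := hinv (x - y)
    have e : u (aeval u Q.divX (x - y)) = aeval u Q.divX (u (x - y)) := by
      have e' : aeval u Q.divX * u = u * aeval u Q.divX := by
        simpa using congrArg (aeval u) (mul_comm Q.divX X)
      exact (LinearMap.congr_fun e' (x - y)).symm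
    rw [h0, smul_zero, e, map_sub u x y, hxy, sub_self, map_zero, smul_zero, add_zero] at h1
    exact sub_eq_zero.mp h1.symm
  · refine ⟨-((↑c⁻¹ : A) • aeval u Q.divX y), ?_, ?_⟩
    · have e : aeval u Q * aeval u Q.divX = aeval u Q.divX * aeval u Q := by
        rw [← map_mul, ← map_mul, mul_comm]
      have := LinearMap.congr_fun e y
      simp only [Module.End.mul_apply] at this
      simp [this, LinearMap.mem_ker.mp hy]
    · have h1 := hinv y
      rw [LinearMap.mem_ker.mp hy, smul_zero] at h1
      rw [map_neg, map_smul]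
      exact neg_eq_of_add_eq_zero_left h1.symm

end Groth.Agent.S2965
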