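import Groth.Statements.S2967

set_option autoImplicit false
universe u
open SGA3t2b

namespace Groth.Agent.S2967

/-- A commutative p-Lie algebra over a field k of characteristic p is recorded as a k-vector space g
together with its p-th power map φ, which is additive and Frobenius-semilinear. Let g be
finite-dimensional and non-zero, and assume every element of g is killed by some iterate of φ (g is
unipotent). Then the k-subspace of g spanned by the image φ(g) is a proper subspace. -/
theorem result {k : Type u} [Field k] (p : ℕ) [Fact p.Prime] [CharP k p]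
    {V : Type u} [AddCommGroup V] [Module k V] [FiniteDimensional k V] [Nontrivial V]
    (φ : V →ₛₗ[frobenius k p] V) (hφ : ∀ x : V, ∃ n : ℕ, φ^[n] x = 0) :
    Submodule.span k (Set.range φ) ≠ ⊤ := by
  intro htop
  obtain ⟨s, hs⟩ : (⊤ : Submodule k V).FG := Module.Finite.fg_top
  choose n hn using hφ
  let N := s.sup n
  have hz : ∀ m, φ^[m] (0 : V) = 0 := fun m => Function.iterate_fixed (map_zero φ) m
  have hkill : ∀ m, ∀ x : V, φ^[m] x = 0 → ∀ m', m ≤ m' → φ^[m'] x = 0 := fun m x hx m' hm => by
    obtain ⟨d, rfl⟩ := Nat.exists_eq_add_of_le hm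
    rw [add_comm, Function.iterate_add_apply, hx, hz]
  have hall : ∀ x : V, φ^[N] x = 0 := by
    intro x
    have hx : x ∈ Submodule.span k (s : Set V) := hs ▸ Submodule.mem_top
    induction hx using Submodule.span_induction with
    | mem y hy => exact hkill _ y (hn y) N (Finset.le_sup hy)
    | zero => exact hz N
    | add y z _ _ hy hz' => rw [iterate_map_add, hy, hz', add_zero]
    | smul c y _ hy =>
      have e : ∀ m, φ^[m] (c • y) = ((frobenius k p)^[m] c) • φ^[m] y := fun m => by
        induction m with
        | zero => rfl
        | succ m ih => simp only [Function.iterate_succ_apply', ih, map_smulₛₗ]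
      rw [e, hy, smul_zero]
  have hspan : ∀ m, Submodule.span k (Set.range (φ^[m])) = ⊤ := by
    intro m
    induction m with
    | zero => simp
    | succ m ih =>
      refine eq_top_iff.mpr (htop ▸ Submodule.span_le.mpr ?_)
      rintro _ ⟨x, rfl⟩
      have hx : x ∈ Submodule.span k (Set.range (φ^[m])) := ih ▸ Submodule.mem_top
      have h1 := Submodule.image_span_subset_span φ _ ⟨x, hx, rfl⟩
      refine Submodule.span_mono ?_ h1
      rintro _ ⟨_, ⟨z, rfl⟩, rfl⟩
      exact ⟨z, Function.iterate_succ_apply' _ _ _⟩
  have h0 := hspan N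
  rw [show Set.range (φ^[N]) = {0} from by
    ext y; simp only [Set.mem_range, hall, Set.mem_singleton_iff]; exact ⟨fun ⟨_, e⟩ => e.symm, fun e => ⟨0, e.symm⟩⟩,
    Submodule.span_zero_singleton] at h0
  exact bot_ne_top h0

end Groth.Agent.S2967
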