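import Groth.Statements.S2978
import Mathlib

set_option autoImplicit false
set_option linter.unusedVariables false
universe u
open SGA3b

namespace Groth.Agent.S2978

/-- Let A be a Noetherian ring, M a set and a : M × M → A a family vanishing off the diagonal which is a
finite sum of decomposable families: a(m, m') = Σ_i b_i(m) c_i(m') for finitely many b_i, c_i : M →
A. Then a has finite support. -/
theorem result (A : Type u) [CommRing A] [IsNoetherianRing A] (M : Type u)
    (a : M × M → A) (hdiag : ∀ m m', m ≠ m' → a (m, m') = 0)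
    (ι : Type u) [Fintype ι] (b c : ι → M → A) (hdec : ∀ m m', a (m, m') = ∑ i, b i m * c i m') :
    Set.Finite {p : M × M | a p ≠ 0} := by
  classical
  let v : M → ι → A := fun m i => b i m
  obtain ⟨T, hTsub, hTfin⟩ := Submodule.fg_span_iff_fg_span_finset_subset (Set.range v) |>.1 (IsNoetherian.noetherian (Submodule.span A (Set.range v)))
  choose g hg using fun x : T => hTsub x.2
  refine ((Finset.univ.image g).finite_toSet.image (fun m => (m, m))).subset ?_
  rintro ⟨m, m'⟩ hne
  by_cases hmm : m = m'
  swap
  · exact absurd (hdiag m m' hmm) hne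
  subst hmm
  by_contra hm
  apply hne
  let L : (ι → A) →ₗ[A] A := ∑ i, (c i m) • LinearMap.proj i
  have hL : ∀ k, L (v k) = a (k, m) := fun k => by
    simp [L, v, hdec, mul_comm]
  have h1 : v m ∈ Submodule.span A (T : Set (ι → A)) := hTfin ▸ Submodule.subset_span ⟨m, rfl⟩
  change a (m, m) = 0
  rw [← hL]
  have h2 : Submodule.span A (T : Set (ι → A)) ≤ LinearMap.ker L := by
    rw [Submodule.span_le]
    intro x hx
    rw [SetLike.mem_coe, LinearMap.mem_ker]
    have e : v (g ⟨x, hx⟩) = x := hg ⟨x, hx⟩
    rw [← e, hL]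
    refine hdiag _ _ fun h => hm ?_
    exact ⟨g ⟨x, hx⟩, by simp, by rw [h]⟩
  exact h2 h1
end Groth.Agent.S2978
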