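import Groth.Statements.S2986
import Groth.Agent.SGA3b53.InfNbhdModel

set_option autoImplicit false
set_option linter.unusedVariables false
universe u
open TensorProduct
open SGA3b

namespace Groth.Agent.S2986

/-- Let R be a ring, B a smooth R-algebra whose geometric fibres are connected (for every algebraically
closed field K under R, Spec (K ⊗_R B) is connected), e : B → R an R-algebra section with kernel 𝔪,
and J a finitely generated ideal of B (a finitely presented closed subscheme Y of X = Spec B). Then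
there is n ≥ 0 such that for every R-algebra R': the base change of X to R' lies in Y (every element
of J becomes zero in R' ⊗_R B) if and only if the base change of the n-th infinitesimal
neighbourhood Spec (B/𝔪^(n+1)) of the section lies in Y. (The published statement is for a general
base and X; this is the affine case.) -/
theorem result (R B : Type u) [CommRing R] [CommRing B] [Algebra R B]
    [Algebra.Smooth R B]
    (hconn : ∀ (K : Type u) [Field K] [IsAlgClosed K] [Algebra R K], ConnectedSpace (PrimeSpectrum (K ⊗[R] B)))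
    (e : B →ₐ[R] R) (J : Ideal B) (hJ : J.FG) :
    ∃ n : ℕ, ∀ (R' : Type u) [CommRing R'] [Algebra R R'],
      (∀ x ∈ J, (1 : R') ⊗ₜ[R] x = (0 : R' ⊗[R] B)) ↔
        (∀ x ∈ J, (1 : R') ⊗ₜ[R] (Ideal.Quotient.mk (RingHom.ker e ^ (n + 1)) x) = (0 : R' ⊗[R] (B ⧸ RingHom.ker e ^ (n + 1)))) := by
  classical
  obtain ⟨G, hG⟩ := hJ
  obtain ⟨R1, _, _, _, B1, _, _, _, Φ, e1, he, hJ1⟩ := SGA3b53.InfNbhd.exists_model e G
  have hconn' : ∀ (L : Type u) [Field L] [IsAlgClosed L] [Algebra R L] [Algebra R1 L]
      [IsScalarTower R1 R L], ConnectedSpace (PrimeSpectrum (L ⊗[R1] B1)) := by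
    intro L _ _ _ _ _
    have := hconn L
    let Ψ : L ⊗[R] B ≃+* L ⊗[R1] B1 :=
      ((Algebra.TensorProduct.congr AlgEquiv.refl Φ.symm).trans
        (Algebra.TensorProduct.cancelBaseChange R1 R L L B1)).toRingEquiv
    exact (PrimeSpectrum.homeomorphOfRingEquiv Ψ).surjective.connectedSpace
      (PrimeSpectrum.homeomorphOfRingEquiv Ψ).continuous
  obtain ⟨n, hn⟩ := SGA3b53.InfNbhd.exists_bound (R := R) e1
    {b | Φ (1 ⊗ₜ[R1] b) ∈ G} hconn'
  refine ⟨n, fun R' _ _ => ⟨fun h x hx => ?_, fun h x hx => ?_⟩⟩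
  · have := congrArg (Algebra.TensorProduct.map (AlgHom.id R R')
      (Ideal.Quotient.mkₐ R (RingHom.ker e ^ (n + 1)))) (h x hx)
    simpa using this
  let _ : Algebra R1 R' := ((algebraMap R R').comp (algebraMap R1 R)).toAlgebra
  have : IsScalarTower R1 R R' := IsScalarTower.of_algebraMap_eq fun _ => rfl
  let back : R' ⊗[R1] B1 →ₐ[R'] R' ⊗[R] B :=
    Algebra.TensorProduct.lift (Algebra.ofId R' _)
      (((Algebra.TensorProduct.includeRight : B →ₐ[R] R' ⊗[R] B).comp Φ.toAlgHom).restrictScalars R1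
        |>.comp Algebra.TensorProduct.includeRight) fun _ _ => .all _ _
  have key : ∀ b, Φ (1 ⊗ₜ[R1] b) ∈ G → (1 : R') ⊗ₜ[R1] b = 0 := hn R' fun b hb =>
    SGA3b53.InfNbhd.vanish_model Φ e e1 he n R' b (h _ (hG ▸ Ideal.subset_span hb))
  rw [← hG] at hx
  induction hx using Submodule.span_induction with
  | mem j hj =>
    obtain ⟨b, rfl⟩ := hJ1 j hj
    simpa [back] using congrArg back (key b hj)
  | zero => exact tmul_zero _ _
  | add _ _ _ _ h₁ h₂ => rw [tmul_add, h₁, h₂, add_zero]
  | smul r b _ hb =>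
    rw [smul_eq_mul, ← one_mul (1 : R'), ← Algebra.TensorProduct.tmul_mul_tmul, hb, mul_zero]
end Groth.Agent.S2986
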