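import Groth.Statements.S2989
import Groth.Agent.AGF80.Luna.CentreQuot
import Groth.Agent.AGF80.Luna.RadImage
import Groth.Agent.AGF80.Luna.Perfect
import Groth.Agent.RedPts82.GaNoTorus
import Groth.Agent.AlgGrp79.Batch

set_option autoImplicit false
open CategoryTheory MonoidalCategory CartesianMonoidalCategory MonObj GrpObj AlgebraicGeometry
universe u
open Red

namespace Groth.Agent.S2989


/-- A homomorphism from a reductive group to an affine group without subtori is trivial. -/
theorem eq_one_of_hasNoSubtorus {K : Type u} [Field K] [IsAlgClosed K]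
    {H W : Over (Spec (CommRingCat.of K))} [GrpObj H] [GrpObj W] (hH : Red.IsReductiveOver K H)
    [IsAffine W.left] [LocallyOfFiniteType W.hom] (hW : Red.HasNoSubtorus K W)
    (φ : H ⟶ W) [IsMonHom φ] : φ = 1 := by
  obtain ⟨hHa, hHs, hHc, -⟩ := id hH
  haveI := hHa
  haveI := hHs
  haveI := hHc
  obtain ⟨D, _, i, q, hi, hci, hDs, hDc, hq, hpts⟩ := AGF80.Luna.exists_image φ
  haveI := hi
  haveI := hci
  haveI := hDs
  haveI := hDc
  haveI : IsAffine D.left := isAffine_of_isAffineHom i.left
  haveI : Mono i := Over.mono_of_mono_left i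
  haveI : IsMonHom q :=
    { one_hom := by rw [← cancel_mono i, Category.assoc, hq, IsMonHom.one_hom, IsMonHom.one_hom]
      mul_hom := by
        rw [← cancel_mono i, Category.assoc, Category.assoc, hq, IsMonHom.mul_hom, IsMonHom.mul_hom,
          ← Category.assoc, MonoidalCategory.tensorHom_comp_tensorHom, hq] }
  let e : Over.mk (Spec.map (CommRingCat.ofHom (algebraMap K K))) ≅ 𝟙_ (Over (Spec (CommRingCat.of K))) :=
    Over.isoMk (Iso.refl _) (by simp)
  haveI : Surjective q.left := AlgGrp79.surjective_of_pts q fun y => by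
    obtain ⟨x, hx⟩ := hpts (e.inv ≫ y)
    exact ⟨e.hom ≫ x, by rw [Category.assoc, hx, e.hom_inv_id_assoc]⟩
  obtain ⟨-, -, -, hU⟩ := AGF80.Luna.isReductiveOver_image hH q
  have hD : IsIso D.hom := hU D (𝟙 D) (inferInstanceAs (IsClosedImmersion (𝟙 D.left))) hDs hDc
    (fun T g n => ⟨g * n * g⁻¹, by simp only [Category.comp_id]⟩)
    (fun T _ j _ _ hT => hW T (j ≫ i) hT)
  haveI := hD
  have hq1 : q = 1 := Over.OverMorphism.ext ((cancel_mono D.hom).1 (by rw [Over.w, Over.w]))
  rw [← hq, hq1, MonObj.one_comp]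

/-- First assertion (H¹(G, k) = 0 for k with trivial action). Let k be a field and G a reductive
k-group. Then every homomorphism of k-groups from G to the additive group is trivial. -/
theorem result (k : Type u) [Field k] (G : Over (Spec (CommRingCat.of k))) [GrpObj G]
    (hG : Red.IsReductive G) (φ : G ⟶ Red.Ga (Spec (CommRingCat.of k))) [IsMonHom φ] :
    φ = toUnit G ≫ η[Red.Ga (Spec (CommRingCat.of k))] := by
  let s : Spec (CommRingCat.of k) := IsLocalRing.closedPoint k
  haveI : IsAffineHom (Red.GaZ.{u}).hom :=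
    @isAffineHom_of_isAffine _ _ _ (inferInstanceAs (IsAffine (Spec _))) (inferInstanceAs (IsAffine (Spec _)))
  haveI hga : IsAffineHom (Red.Ga (Spec (CommRingCat.of k))).hom :=
    inferInstanceAs (IsAffineHom (Limits.pullback.snd (Red.GaZ.{u}).hom _))
  haveI hlft : LocallyOfFiniteType (Red.Ga (Spec (CommRingCat.of k))).hom := by
    haveI := (RedPts82.polyGa_base_facts k _ (Iso.refl _)).1
    infer_instance
  haveI : LocallyOfFiniteType (Red.geomFibre s (Red.Ga (Spec (CommRingCat.of k)))).hom :=
    inferInstanceAs (LocallyOfFiniteType (Limits.pullback.snd (Red.Ga (Spec (CommRingCat.of k))).hom (Red.geomPt s)))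
  haveI : IsAffineHom (Red.geomFibre s (Red.Ga (Spec (CommRingCat.of k)))).hom :=
    inferInstanceAs (IsAffineHom (Limits.pullback.snd (Red.Ga (Spec (CommRingCat.of k))).hom (Red.geomPt s)))
  haveI : IsAffine (Red.geomFibre s (Red.Ga (Spec (CommRingCat.of k)))).left :=
    isAffine_of_isAffineHom (Red.geomFibre s (Red.Ga (Spec (CommRingCat.of k)))).hom
  have hW := RedPts82.hasNoSubtorus_bc_Ga (S := Spec (CommRingCat.of k)) (Red.geomPt s)
  refine AGF80.Luna.hom_ext_of_bc (Red.geomPt s) _ _ ?_
  rw [eq_one_of_hasNoSubtorus (hG.2.2 s) hW ((Over.pullback (Red.geomPt s)).map φ)]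
  refine RedPts82.toBase_injective (Red.geomPt s) ?_
  have h1 : RedPts82.toBase (Red.geomPt s)
      (1 : Red.geomFibre s G ⟶ Red.bc (Red.geomPt s) (Red.Ga (Spec (CommRingCat.of k)))) = 1 := by
    have h := RedPts82.toBase_mul (Red.geomPt s)
      (1 : Red.geomFibre s G ⟶ Red.bc (Red.geomPt s) (Red.Ga (Spec (CommRingCat.of k)))) 1
    rw [_root_.mul_one] at h
    have h' := congrArg (fun z => (RedPts82.toBase (Red.geomPt s)
      (1 : Red.geomFibre s G ⟶ Red.bc (Red.geomPt s) (Red.Ga (Spec (CommRingCat.of k)))))⁻¹ * z) h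
    simp only [inv_mul_cancel_left, inv_mul_cancel] at h'
    exact h'.symm
  erw [h1]
  rw [← Category.id_comp ((Over.pullback (Red.geomPt s)).map (toUnit G ≫ η[Red.Ga (Spec (CommRingCat.of k))])),
    RedPts82.toBase_comp_map, ← Category.assoc, toUnit_unique (_ ≫ toUnit G) (toUnit _), Hom.one_def]

end Groth.Agent.S2989
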