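import Groth.Statements.S2990
import Groth.Agent.RedPts82.BruhatCover
import Groth.Agent.RedPts82.CentTorus

set_option autoImplicit false
open CategoryTheory MonoidalCategory CartesianMonoidalCategory MonObj GrpObj AlgebraicGeometry
universe u
open Red

namespace Groth.Agent.S2990

open Groth.Agent.RedPts82

/-- Let G be a reductive S-group scheme with a pinning (a split maximal torus T, a root datum with a
chosen base, and root homomorphisms u_a), and let g be an S-point of G such that the inner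
automorphism int(g) normalises T and commutes with the root homomorphism u_a of every simple root a.
Then int(g) is the identity: g centralises every point of G with values in any S-scheme. (This is
the case of an inner automorphism respecting the pinning without permuting the simple roots.) -/
theorem result {S : Scheme.{u}} {G : Over S} [GrpObj G] (D : Red.Pinning G)
    (g : 𝟙_ (Over S) ⟶ G)
    (hT : ∀ (X : Over S) (t : X ⟶ D.T), ∃ t' : X ⟶ D.T, (toUnit X ≫ g) * (t ≫ D.i) * (toUnit X ≫ g)⁻¹ = t' ≫ D.i)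
    (hu : ∀ a ∈ D.base.support, ∀ (X : Over S) (x : X ⟶ Red.Ga S),
      (toUnit X ≫ g) * (x ≫ D.u a) * (toUnit X ≫ g)⁻¹ = x ≫ D.u a) :
    ∀ (X : Over S) (y : X ⟶ G), (toUnit X ≫ g) * y * (toUnit X ≫ g)⁻¹ = y := by
  obtain ⟨l, hl⟩ := exists_baseChamber (D := D.toSplitRed) D.base
  choose nr hnr using D.refl
  have hA : ∀ a ∈ D.base.support, Acts D.toSplitRed (nr a) (RootPairing.Equiv.reflection D.P a) :=
    fun a _ => acts_of_refl (hnr a)
  have hT' : ∀ (X : Over S) (s : X ⟶ Red.DS S D.M), ∃ σ, np g X * tpt D.toSplitRed s * (np g X)⁻¹ = tpt D.toSplitRed σ := by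
    intro X s
    obtain ⟨t', ht'⟩ := hT X (s ≫ D.split.inv.hom.hom)
    refine ⟨t' ≫ D.split.hom.hom.hom, ?_⟩
    rw [← i_eq_tpt, ← ht']
    simp only [tpt, Category.assoc]
  have hroot : ∀ (X : Over S) (s σ : X ⟶ Red.DS S D.M),
      np g X * tpt D.toSplitRed s * (np g X)⁻¹ = tpt D.toSplitRed σ →
      ∀ a ∈ D.base.support, dsFn σ (D.P.root a) = dsFn s (D.P.root a) := by
    intro X s σ h a ha
    have h1 : np g X * rp D.toSplitRed a 1 * (np g X)⁻¹ = rp D.toSplitRed a 1 := hu a ha X (gaPt 1)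
    have h2 : np g X * rp D.toSplitRed a (dsFn s (D.P.root a)) * (np g X)⁻¹ =
        rp D.toSplitRed a (dsFn s (D.P.root a)) := hu a ha X (gaPt _)
    have h3 := tpt_conj_rp (D := D.toSplitRed) σ a 1
    rw [← h] at h3
    rw [show np g X * tpt D.toSplitRed s * (np g X)⁻¹ * rp D.toSplitRed a 1 *
        (np g X * tpt D.toSplitRed s * (np g X)⁻¹)⁻¹ =
      np g X * (tpt D.toSplitRed s * ((np g X)⁻¹ * rp D.toSplitRed a 1 * np g X) * (tpt D.toSplitRed s)⁻¹) *
        (np g X)⁻¹ by group,
      show (np g X)⁻¹ * rp D.toSplitRed a 1 * np g X = rp D.toSplitRed a 1 by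
        conv_lhs => rw [← h1]
        group, tpt_conj_rp, _root_.mul_one, _root_.mul_one, h2] at h3
    exact (rootHom_gaPt_injective a h3).symm
  have key : ∀ {X : Over S} {u v : X ⟶ G} {t s σ : X ⟶ Red.DS S D.M} (N : 𝟙_ (Over S) ⟶ G) (G₀ : D.P.Aut),
      Acts D.toSplitRed N G₀ → u ∈ Up D.toSplitRed (-l) X → v ∈ Up D.toSplitRed l X →
      np g X = np N X * u * tpt D.toSplitRed t * v →
      np g X * tpt D.toSplitRed s * (np g X)⁻¹ = tpt D.toSplitRed σ → σ = tw G₀ s := by
    intro X u v t s σ N G₀ hN hu' hv hg h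
    have hswap := hN.swap' (X := X) σ
    have e : u * tpt D.toSplitRed (t * s) * ((tpt D.toSplitRed s)⁻¹ * v * tpt D.toSplitRed s) =
        (tpt D.toSplitRed (tw G₀⁻¹ σ) * u * (tpt D.toSplitRed (tw G₀⁻¹ σ))⁻¹) *
          tpt D.toSplitRed (tw G₀⁻¹ σ * t) * v := by
      rw [← mul_right_inj (np N X), tpt_mul, tpt_mul]
      calc np N X * (u * (tpt D.toSplitRed t * tpt D.toSplitRed s) *
            ((tpt D.toSplitRed s)⁻¹ * v * tpt D.toSplitRed s))
          = (np N X * u * tpt D.toSplitRed t * v) * tpt D.toSplitRed s := by group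
        _ = tpt D.toSplitRed σ * np N X * u * tpt D.toSplitRed t * v := by
          rw [← hg, ← h, show np g X * tpt D.toSplitRed s * (np g X)⁻¹ * np N X * u * tpt D.toSplitRed t * v =
            np g X * tpt D.toSplitRed s * (np g X)⁻¹ * (np N X * u * tpt D.toSplitRed t * v) by group, ← hg]
          group
        _ = _ := by rw [hswap]; group
    have h3 := (split_unique hu' (fixed_conj_up (tpt_mem_fixed _) hu') (tpt_mem_fixed _) (tpt_mem_fixed _)
      (by
        have := fixed_conj_up (l := l) (tpt_mem_fixed (D := D.toSplitRed) s⁻¹) hv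
        rwa [tpt_inv, _root_.inv_inv] at this) hv e).2.1
    have h4 := tpt_injective h3
    rw [ds_comm (tw G₀⁻¹ σ) t] at h4
    have h5 : tw G₀⁻¹ σ = s := dsFn_injective fun m => by
      have h6 := congrArg (dsFn · m) h4
      simp only [dsFn_mul] at h6
      exact ((dsFn_isUnit t m).mul_left_cancel h6).symm
    rw [← h5, ← tw_mul, mul_inv_cancel, tw_one]
  have hfield : ∀ (K : Type u) [Field K] [IsAlgClosed K] (W : Over S) [IsAffine W.left]
      (_ : K ≃+* Γ(W.left, ⊤)), InBig D.toSplitRed l (np g W) := by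
    intro K _ _ W _ eK
    obtain ⟨w, hw, u₀, hu₀, t, v, hv, hg⟩ := exists_decomp hA hl eK (np g W)
    have hN := acts_word hA hw
    obtain ⟨k, e, he⟩ := exists_enumerates (D := D.toSplitRed)
      (RedSub.negMeetNeg D.P D.base (RedSub.wordPerm D.P w))
    obtain ⟨y, v', hv', huv⟩ := hl.exists_reduced w hN he hu₀
    have hU := hl.conj_reduced w hN he y
    set t' := tw (Roots36.wprod D.P w)⁻¹ t with ht'
    have hg' : np g W = np (w.map nr).prod W *
        ((nword nr w W)⁻¹ * (List.ofFn fun j => rp D.toSplitRed (e j) (y j)).prod * nword nr w W) *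
        tpt D.toSplitRed t' * ((tpt D.toSplitRed t')⁻¹ * v' * tpt D.toSplitRed t' * v) := by
      rw [hg, show u₀ * tpt D.toSplitRed t * np (w.map nr).prod W * v =
        u₀ * (tpt D.toSplitRed t * np (w.map nr).prod W) * v by group, hN.swap',
        show u₀ * (np (w.map nr).prod W * tpt D.toSplitRed t') * v =
          u₀ * nword nr w W * tpt D.toSplitRed t' * v by group, huv]
      group
    have hv'' : (tpt D.toSplitRed t')⁻¹ * v' * tpt D.toSplitRed t' * v ∈ Up D.toSplitRed l W := by
      refine mul_mem ?_ hv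
      have := fixed_conj_up (l := l) (tpt_mem_fixed (D := D.toSplitRed) t'⁻¹) hv'
      rwa [tpt_inv, _root_.inv_inv] at this
    have hfix : ∀ a ∈ D.base.support, (Roots36.wprod D.P w)⁻¹ • D.P.root a = D.P.root a := by
      intro a ha
      by_contra hne
      let B := Module.Free.chooseBasis ℤ D.M
      obtain ⟨j, hj⟩ := Finsupp.ne_iff.mp (fun h0 => sub_ne_zero.mpr hne (B.repr.injective (by rw [h0, map_zero])) :
        B.repr ((Roots36.wprod D.P w)⁻¹ • D.P.root a - D.P.root a) ≠ 0)
      let f : D.M →+ ℤ := ((Finsupp.lapply j).comp B.repr.toLinearMap).toAddMonoidHom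
      obtain ⟨z, hz⟩ := exists_unit_pow_ne_one eK (show f ((Roots36.wprod D.P w)⁻¹ • D.P.root a - D.P.root a) ≠ 0 from hj)
      obtain ⟨σ, hσ⟩ := hT' W (gmPt z ≫ Red.DSmap S f)
      have e' := hroot W _ σ hσ a ha
      rw [key _ _ hN hU hv'' hg' hσ] at e'
      simp only [dsFn_tw, dsFn_DSmap, dsFn_int, show gmU (gmPt z) = z from Units.ext (gmFn_gmPt z)] at e'
      refine hz ?_
      rw [map_sub, zpow_sub, Units.ext e', mul_inv_cancel]
    have := isReduced_of_base D.base
    have hG : Roots36.wprod D.P w = 1 := by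
      refine inv_eq_one.mp (Roots36.eq_one_of_smul_simple_posOf (Roots36.base_isSimpleSys D.base)
        (inv_mem (Roots36.subW_le_weylGroup _ (Roots36.wprod_mem_subW hw))) fun i hi => ?_)
      rw [show (Roots36.wprod D.P w)⁻¹ • i = i from D.P.root.injective (by
        rw [Roots36.root_smul]; exact hfix i hi)]
      exact Roots36.simple_mem_posOf (Roots36.base_isSimpleSys D.base) hi
    rw [hG] at hN
    obtain ⟨τ, hτ⟩ := hN.exists_torus (n' := 1) acts_one W
    refine ⟨u₀, hu₀, t * τ, v, hv, ?_⟩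
    rw [hg, hτ, show np (1 : 𝟙_ (Over S) ⟶ G) W = 1 from MonObj.comp_one _, _root_.one_mul, tpt_mul]
    group
  have hbig : ∀ X : Over S, InBig D.toSplitRed l (np g X) := fun X => by
    refine hl.toChamber.inBig_of_range ?_
    rintro _ ⟨p, rfl⟩
    obtain ⟨K, _, _, W, _, eK, z, q, rfl⟩ := exists_field_point p
    refine hl.toChamber.range_of_inBig (g := z ≫ np g X) ?_ ⟨q, rfl⟩
    rw [comp_np]
    exact hfield K W eK
  have hcent : ∀ X : Over S, ∀ t : X ⟶ D.T, np g X * (t ≫ D.i) = (t ≫ D.i) * np g X := by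
    intro X t
    obtain ⟨u, hu', t₀, v, hv, hg⟩ := hbig X
    obtain ⟨σ, hσ⟩ := hT' X (t ≫ D.split.hom.hom.hom)
    have e := key 1 1 acts_one hu' hv (by rw [hg, show np (1 : 𝟙_ (Over S) ⟶ G) X = 1 from MonObj.comp_one _,
      _root_.one_mul]) hσ
    rw [tw_one] at e
    rw [e, mul_inv_eq_iff_eq_mul] at hσ
    rw [i_eq_tpt (D := D.toSplitRed)]
    exact hσ
  intro X y
  have hu' : ∀ (Z : Over S) (c : D.idx) (x : Z ⟶ Red.Ga S),
      np g Z * (x ≫ D.u c) = (x ≫ D.u c) * np g Z := by
    intro Z c x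
    obtain ⟨τ, hτ⟩ := centralizer_torus D.toSplitRed (np g Z) fun Z' k t => by
      rw [comp_np]; exact hcent Z' t
    rw [i_eq_tpt] at hτ
    let ψ := τ ≫ D.split.hom.hom.hom
    have hs : ∀ a ∈ D.base.support, dsFn ψ (D.P.root a) = 1 := by
      intro a ha
      have h : np g Z * rp D.toSplitRed a 1 * (np g Z)⁻¹ = rp D.toSplitRed a 1 := hu a ha Z (gaPt 1)
      rw [← hτ, tpt_conj_rp, _root_.mul_one] at h
      exact rootHom_gaPt_injective a h
    have hall : ∀ m ∈ AddSubmonoid.closure (D.P.root '' (D.base.support : Set D.idx)), dsFn ψ m = 1 := by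
      intro m hm
      induction hm using AddSubmonoid.closure_induction with
      | mem m hm => obtain ⟨a, ha, rfl⟩ := hm; exact hs a ha
      | zero => exact dsFn_zero _
      | add m m' _ _ h1 h2 => rw [dsFn_add, h1, h2, _root_.mul_one]
    have hc : dsFn ψ (D.P.root c) = 1 := by
      rcases D.base.root_mem_or_neg_mem c with h | h
      · exact hall _ h
      · have := dsFn_add ψ (D.P.root c) (-D.P.root c)
        rw [add_neg_cancel, dsFn_zero, hall _ h, _root_.mul_one] at this
        exact this.symm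
    have e := tpt_conj_rp (D := D.toSplitRed) ψ c (Red.gaFn x)
    rw [hτ, hc, _root_.one_mul, mul_inv_eq_iff_eq_mul, rp, gaPt_gaFn] at e
    exact e
  rw [mul_inv_eq_iff_eq_mul, ← Category.id_comp (toUnit X ≫ g)]
  exact comm_all_of_comm_cell D.toSplitRed (np g X)
    (fun Z k t => by rw [comp_np]; exact hcent Z t)
    (fun Z k c x => by rw [comp_np]; exact hu' Z c x) (𝟙 X) y

end Groth.Agent.S2990
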