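import Groth.Statements.S3014
import Groth.Agent.RedPts82.AlgClosedDescent
import Groth.Agent.AlgGrp33.TorusBridge

set_option autoImplicit false
universe u
open CategoryTheory MonoidalCategory CartesianMonoidalCategory MonObj GrpObj AlgebraicGeometry
open Red

namespace Groth.Agent.S3014

/-- (i)⇒(ii): Let G and G' be reductive S-groups and f : S' → S a surjective morphism such that the base
changes of G and G' to S' are isomorphic as group schemes. Then for every s ∈ S the geometric fibres
G_{s̄} and G'_{s̄} are isomorphic. -/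
theorem result (S : Scheme.{u}) (G G' : Over S) [GrpObj G] [GrpObj G'] (hG : Red.IsReductive G) (hG' : Red.IsReductive G') (S' : Scheme.{u}) (f : S' ⟶ S) [Surjective f] (hiso : Nonempty (Grp.mk (Red.bc f G) ≅ Grp.mk (Red.bc f G'))) (s : S) : Nonempty (Grp.mk (Red.geomFibre s G) ≅ Grp.mk (Red.geomFibre s G')) := by
  obtain ⟨e⟩ := hiso
  obtain ⟨s', rfl⟩ := f.surjective s
  let K := AlgebraicClosure (S.residueField (f s'))
  let L := AlgebraicClosure (S'.residueField s')
  let σ : S.residueField (f s') →+* L :=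
    (algebraMap (S'.residueField s') L).comp (f.residueFieldMap s').hom
  letI : Algebra (S.residueField (f s')) L := σ.toAlgebra
  let τ : K →ₐ[S.residueField (f s')] L := IsAlgClosed.lift
  letI : Algebra K L := τ.toRingHom.toAlgebra
  let j := Spec.map (CommRingCat.ofHom (algebraMap K L))
  have hj : j ≫ Red.geomPt (f s') = Red.geomPt s' ≫ f := by
    simp only [Red.geomPt, j, ← Category.assoc, ← Spec.map_comp]
    rw [← CommRingCat.ofHom_comp, show (algebraMap K L).comp (algebraMap (S.residueField (f s')) K) = σ from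
      RingHom.ext τ.commutes]
    rw [Category.assoc, show σ = (algebraMap (S'.residueField s') L).comp (f.residueFieldMap s').hom from rfl,
      CommRingCat.ofHom_comp, Spec.map_comp, CommRingCat.ofHom_hom, Category.assoc,
      Scheme.Hom.SpecMap_residueFieldMap_fromSpecResidueField]
  haveI : IsAffineHom G.hom := hG.1
  haveI : IsAffineHom G'.hom := hG'.1
  haveI : Smooth G.hom := hG.2.1
  haveI : Smooth G'.hom := hG'.2.1
  haveI : IsAffine (Red.geomFibre (f s') G).left := (hG.2.2 (f s')).1
  haveI : IsAffine (Red.geomFibre (f s') G').left := (hG'.2.2 (f s')).1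
  haveI : LocallyOfFiniteType (Red.geomFibre (f s') G).hom :=
    inferInstanceAs (LocallyOfFiniteType (Limits.pullback.snd G.hom (Red.geomPt (f s'))))
  haveI : LocallyOfFiniteType (Red.geomFibre (f s') G').hom :=
    inferInstanceAs (LocallyOfFiniteType (Limits.pullback.snd G'.hom (Red.geomPt (f s'))))
  obtain ⟨a₁⟩ := AlgGrp33.nonempty_bc_comp j (Red.geomPt (f s')) G
  obtain ⟨a₂⟩ := AlgGrp33.nonempty_bc_comp j (Red.geomPt (f s')) G'
  obtain ⟨b₁⟩ := AlgGrp33.nonempty_bc_comp (Red.geomPt s') f G
  obtain ⟨b₂⟩ := AlgGrp33.nonempty_bc_comp (Red.geomPt s') f G'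
  have c : Nonempty (Grp.mk (Red.bc (j ≫ Red.geomPt (f s')) G) ≅ Grp.mk (Red.bc (j ≫ Red.geomPt (f s')) G')) := by
    rw [hj]
    exact ⟨b₁.symm ≪≫ (Over.pullback (Red.geomPt s')).mapGrp.mapIso e ≪≫ b₂⟩
  obtain ⟨c⟩ := c
  exact RedPts82.Hopf.nonempty_grpIso_of_extension L ⟨a₁ ≪≫ c ≪≫ a₂.symm⟩

end Groth.Agent.S3014
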