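import Groth.Statements.S3015
import Groth.Agent.SGA3a.GrpBC
import Groth.Agent.SGA3a.GrpComp
import Groth.Agent.Grp57.Morph

set_option autoImplicit false
universe u
open CategoryTheory MonoidalCategory CartesianMonoidalCategory MonObj GrpObj AlgebraicGeometry TensorProduct
open SGA3

namespace Groth.Agent.S3015

/-- Let A be a local artinian ring, G a group scheme over A, and U, V dense open subsets of G. Then U ·
V, the image of U ×_A V under the multiplication, is the whole underlying space of G: every point of
G is the product of a point of G ×_A G whose two projections lie in U and V. -/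
theorem result (A : Type u) [CommRing A] [IsArtinianRing A] [IsLocalRing A]
    (G : Over (Spec (CommRingCat.of A))) [GrpObj G] (U V : G.left.Opens)
    (hU : Dense (U : Set G.left)) (hV : Dense (V : Set G.left)) (g : G.left) :
    ∃ z : ↥(G ⊗ G).left, (fst G G).left.base z ∈ U ∧ (snd G G).left.base z ∈ V ∧ μ[G].left.base z = g := by
  open Groth.Agent.SGA3a in
  let f := resPt A
  letI : GrpObj (bcO f G) := Functor.grpObjObj
  have hh := isHomeomorph_prO f G
  let U' : (bcO f G).left.Opens := prO f G ⁻¹ᵁ U
  let V' : (bcO f G).left.Opens := prO f G ⁻¹ᵁ V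
  have hU' : Dense (U' : Set (bcO f G).left) := hU.preimage hh.isOpenMap
  have hV' : (V' : Set (bcO f G).left).Nonempty := by
    obtain ⟨v, hv⟩ := hV.inter_open_nonempty Set.univ isOpen_univ ⟨g, trivial⟩
    obtain ⟨v', rfl⟩ := hh.surjective v
    exact ⟨v', hv.2⟩
  obtain ⟨g', rfl⟩ := hh.surjective g
  obtain ⟨w, ⟨hw1, hw2⟩, hw⟩ := (Groth.Agent.Grp57.mul_image_dense U' V' hU' hV').ge (Set.mem_univ g')
  refine ⟨pairO f G w, ?_, ?_, ?_⟩
  · rw [pairO_fst_apply]; exact hw1
  · rw [pairO_snd_apply]; exact hw2
  · rw [pairO_mul_apply]; exact congrArg _ hw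

end Groth.Agent.S3015
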