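import Groth.Statements.S3020
import Groth.Agent.AlgGrp79.AffineCriterion
import Groth.Agent.SGA3a.HomogFibre
import Mathlib.AlgebraicGeometry.QuasiAffine

set_option autoImplicit false
universe u
open CategoryTheory MonoidalCategory CartesianMonoidalCategory MonObj GrpObj AlgebraicGeometry TensorProduct
open SGA3

namespace Groth.Agent.S3020

/-- Let G be a group scheme of finite type over a field k whose underlying scheme is quasi-affine (a
quasi-compact open subscheme of an affine scheme). Then G is affine. -/
theorem result (k : Type u) [Field k] (G : Over (Spec (CommRingCat.of k))) [GrpObj G]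
    [LocallyOfFiniteType G.hom] [QuasiCompact G.hom] [G.left.IsQuasiAffine] : IsAffine G.left := by
  have : QuasiSeparated G.hom := by
    have := AlgGrp79.isSeparated_grp G
    infer_instance
  let a := SGA3a.mulAction G
  obtain ⟨n, ρ, hρ, hker, -⟩ := AlgGrp79.ActRep.exists_rep_kernel a
  refine AlgGrp79.isAffine_of_rep ρ fun T g hg => ?_
  have h := hker T g hg T (𝟙 T) (1 : T ⟶ G)
  have e : lift (𝟙 T ≫ g) (1 : T ⟶ G) ≫ a.act = g := by
    show lift (𝟙 T ≫ g) (1 : T ⟶ G) ≫ μ[G] = g
    rw [Category.id_comp, ← Hom.mul_def, _root_.mul_one]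
  rw [e] at h
  ext : 1
  rw [← cancel_mono G.left.toSpecΓ, Scheme.toSpecΓ_naturality, Scheme.toSpecΓ_naturality]
  congr 2
  exact CommRingCat.hom_ext (RingHom.ext fun f => h f)

end Groth.Agent.S3020
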