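import Groth.Statements.S3027
import Groth.Agent.SGA3a.Transporter
import Groth.Agent.SGA3a.QuotCover
import Groth.Agent.AlgGrp79.CentreAffine
import Groth.Agent.AlgGrp79.StabQuot
import Groth.Agent.AlgGrp79.KernelPts

set_option autoImplicit false
universe u
open CategoryTheory MonoidalCategory CartesianMonoidalCategory MonObj GrpObj AlgebraicGeometry TensorProduct
open SGA3

namespace Groth.Agent.S3027

/-- Let G be a connected group scheme of finite type over a field k. Then the centre of G (the
subfunctor of points g such that g commutes with every point of G after every base change) is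
represented by a closed subgroup scheme Z of G, and the quotient G/Z is an affine k-group: there are
an affine group scheme Q and a faithfully flat homomorphism q : G → Q with kernel Z. -/
theorem result (k : Type u) [Field k] (G : Over (Spec (CommRingCat.of k))) [GrpObj G]
    [LocallyOfFiniteType G.hom] [QuasiCompact G.hom] [ConnectedSpace G.left] :
    ∃ (Z : Over (Spec (CommRingCat.of k))) (_ : GrpObj Z) (i : Z ⟶ G), IsMonHom i ∧ IsClosedImmersion i.left ∧
      (∀ (T : Over (Spec (CommRingCat.of k))) (g : T ⟶ G),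
        (∃ z : T ⟶ Z, z ≫ i = g) ↔ ∀ (T' : Over (Spec (CommRingCat.of k))) (t : T' ⟶ T) (h : T' ⟶ G), (t ≫ g) * h = h * (t ≫ g)) ∧
      ∃ (Q : Over (Spec (CommRingCat.of k))) (_ : GrpObj Q) (q : G ⟶ Q), IsMonHom q ∧ IsAffine Q.left ∧ LocallyOfFiniteType Q.hom ∧
        Flat q.left ∧ Surjective q.left ∧ AlgGrp.IsKernel i q := by
  haveI : IsSeparated G.hom := SGA3a.isSeparated_of_subsingleton G
  obtain ⟨Z, z, hz, hZ⟩ := SGA3a.transporter_morphisms G G (𝟙 G) (𝟙 G)
  have hmono : Mono z := by
    have : Mono ((Over.forget _).map z) := inferInstanceAs (Mono z.left)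
    exact (Over.forget _).mono_of_mono_map this
  have key : ∀ (X : Over (Spec (CommRingCat.of k))) (g : X ⟶ G), (∃ a, a ≫ z = g) ↔
      ∀ (X' : Over (Spec (CommRingCat.of k))) (x : X' ⟶ X) (h : X' ⟶ G), (x ≫ g) * h = h * (x ≫ g) := fun X g => by
    rw [hZ]
    refine forall_congr' fun X' => forall_congr' fun x => forall_congr' fun h => ?_
    simp only [Category.comp_id]
    exact mul_inv_eq_iff_eq_mul
  have h1 : ∃ a, a ≫ z = (1 : 𝟙_ _ ⟶ G) := (key _ _).2 fun X' x a => by simp
  have hinv : ∃ a, a ≫ z = z⁻¹ := (key _ _).2 fun X' x a => by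
    have := (key _ z).1 ⟨𝟙 _, Category.id_comp _⟩ X' x a
    rw [GrpObj.comp_inv]
    exact Commute.inv_left this
  have hmul : ∃ a, a ≫ z = (fst Z Z ≫ z) * (snd Z Z ≫ z) := (key _ _).2 fun X' x a => by
    have hk := (key _ z).1 ⟨𝟙 _, Category.id_comp _⟩ X'
    simp only [MonObj.comp_mul, ← Category.assoc]
    exact Commute.mul_left (hk (x ≫ fst Z Z) a) (hk (x ≫ snd Z Z) a)
  letI : GrpObj Z := SGA3a.grpObjOfMono z h1 hmul hinv
  haveI : IsMonHom z := SGA3a.isMonHom_grpObjOfMono z h1 hmul hinv
  haveI := hz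
  haveI : QuasiCompact Z.hom := by rw [← Over.w z]; infer_instance
  haveI : QuasiSeparated Z.hom := by rw [← Over.w z]; infer_instance
  have hC : Red.IsCentre z := ⟨inferInstance, hmono, fun X g => by
    rw [key]; simp only [Category.comp_id]⟩
  obtain ⟨n, ρ, hρ, h0, hb⟩ := AlgGrp79.exists_rep_centre z hC
  have hK : AlgGrp.IsKernel z ρ := AlgGrp79.isKernel_of_pts z ρ h0 hb
  haveI : Flat Z.hom := inferInstance
  haveI : LocallyOfFinitePresentation G.hom := LocallyOfFinitePresentation.iff_locallyOfFiniteType.2 ‹_›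
  obtain ⟨Q, hQ, q, hq, ⟨hsurj, hflat, hlfp, hsq⟩, hQlfp, m, hm, hmono', hqm⟩ :=
    AlgGrp79.StabQuot.exists_quotient_kernel G _ (Or.inr inferInstance) ρ Z z hK
  haveI : LocallyOfFiniteType Q.hom := inferInstance
  haveI : QuasiCompact Q.hom := by
    have : QuasiCompact (q.left ≫ Q.hom) := by rw [Over.w]; infer_instance
    exact SGA3a.QuotCover.quasiCompact_of_comp q.left Q.hom
  have hKq : AlgGrp.IsKernel z q := by
    refine AlgGrp79.isKernel_of_pts z q ?_ fun T g hg => hb T g ?_
    · rw [← cancel_mono m, Category.assoc, hqm, h0, MonObj.one_comp]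
    · rw [← hqm, ← Category.assoc, hg, MonObj.one_comp]
  exact ⟨Z, inferInstance, z, inferInstance, hz, key, Q, hQ, q, hq,
    AlgGrp79.isAffine_quotient_centre z hC q hKq, inferInstance, hflat, hsurj, hKq⟩

end Groth.Agent.S3027
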