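import Groth.Statements.S3043
import Mathlib.AlgebraicGeometry.Morphisms.Integral
import Mathlib.AlgebraicGeometry.Morphisms.Affine

set_option autoImplicit false
universe u
open CategoryTheory MonoidalCategory CartesianMonoidalCategory MonObj GrpObj AlgebraicGeometry TensorProduct
open SGA3

namespace Groth.Agent.S3043

theorem result (X S : Scheme.{u}) (π : X ⟶ S) (ε : S ⟶ X) (hε : ε ≫ π = 𝟙 S)
    (hinj : Function.Injective π.base) : IsIntegralHom π := by
  have h1 : ∀ s : S, π.base (ε.base s) = s := fun s => by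
    rw [← Scheme.Hom.comp_apply, hε]; rfl
  have h2 : ∀ x : X, ε.base (π.base x) = x := fun x => hinj (h1 _)
  let e : X ≃ₜ S :=
    { toFun := π.base, invFun := ε.base, left_inv := h2, right_inv := h1
      continuous_toFun := π.continuous, continuous_invFun := ε.continuous }
  have hA : IsAffineHom π := isAffineHom_of_isInducing π e.isInducing (by
    rw [show Set.range π.base = Set.univ from e.surjective.range_eq]; exact isClosed_univ)
  refine { isIntegral_app := fun U hU b => ?_ }
  have hV : IsAffineOpen (π ⁻¹ᵁ U) := hU.preimage π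
  have hle : U ≤ ε ⁻¹ᵁ (π ⁻¹ᵁ U) := fun s hs => by
    show π.base (ε.base s) ∈ U
    rw [h1]; exact hs
  let r := ε.appLE (π ⁻¹ᵁ U) U hle
  have hr : ∀ a, r (π.app U a) = a := by
    intro a
    have h3 : π.app U ≫ r = (ε ≫ π).appLE U U hle := by
      simp only [r, Scheme.Hom.app_eq_appLE, Scheme.Hom.appLE_comp_appLE]
    rw [← CommRingCat.comp_apply, h3]
    have key : ∀ (f : S ⟶ S), f = 𝟙 S → ∀ h, f.appLE U U h = 𝟙 _ := by
      rintro f rfl h; simp [Scheme.Hom.appLE]; exact S.presheaf.map_id _
    have h4 : (ε ≫ π).appLE U U hle = 𝟙 _ := key _ hε _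
    rw [h4]; rfl
  let b' := b - π.app U (r b)
  have hb' : r b' = 0 := by simp only [b', map_sub, hr, sub_self]
  have hbo : X.basicOpen b' = ⊥ := by
    apply TopologicalSpace.Opens.ext
    ext x
    simp only [TopologicalSpace.Opens.coe_bot, Set.mem_empty_iff_false, iff_false, SetLike.mem_coe]
    intro hx
    have h5 : π.base x ∈ U := X.basicOpen_le b' hx
    have h6 : π.base x ∈ S.basicOpen (r b') := by
      rw [Scheme.basicOpen_appLE]
      exact ⟨h5, show ε.base (π.base x) ∈ X.basicOpen b' by rw [h2]; exact hx⟩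
    rw [hb', Scheme.basicOpen_zero] at h6
    exact h6
  have hnil : IsNilpotent b' := by
    rw [← PrimeSpectrum.basicOpen_eq_bot_iff, ← hV.fromSpec_preimage_basicOpen, hbo]
    rfl
  obtain ⟨n, hn⟩ := hnil
  refine ⟨(Polynomial.X - Polynomial.C (r b)) ^ (n + 1), (Polynomial.monic_X_sub_C _).pow _, ?_⟩
  simp [Polynomial.eval₂_pow, pow_succ, b'] at hn ⊢
  simp [hn]

end Groth.Agent.S3043
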