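import Groth.Statements.S3050
import Groth.Agent.Unr55.ShDesc.Eff
import Groth.Agent.EtBC48.Sets
import Groth.Agent.EtBC48.IntegralBC

set_option autoImplicit false
open CategoryTheory CategoryTheory.Limits AlgebraicGeometry Opposite
universe u
open EtDesc

namespace Groth.Agent.S3050

/-- Let f : X' -> X be a surjective morphism of schemes which is integral. Then f is a morphism of
effective descent for etale sheaves of sets: every sheaf F' on X'_et equipped with an isomorphism
pr_1^* F' = pr_2^* F' on X' x_X X' satisfying the cocycle condition on the triple fibre product is,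
compatibly with that datum, the inverse image of a sheaf on X_et. -/
theorem result {X' X : Scheme.{u}} (f : X' ⟶ X) [Surjective f] [IsIntegralHom f]
    (F' : EtDesc.Sh X')
    (φ : (EtDesc.pullSh (pullback.fst f f)).obj F' ≅ (EtDesc.pullSh (pullback.snd f f)).obj F')
    (hφ : EtDesc.IsCocycle F' φ) : EtDesc.IsEffective f F' φ := by
  have : IsIntegralHom (pullback.snd f f) := MorphismProperty.pullback_snd _ _ inferInstance
  have : IsIntegralHom (pullback.snd f f ≫ f) := MorphismProperty.comp_mem _ _ _ inferInstance inferInstance
  have h1 := Groth.Agent.EtBC48.baseChange0Sh_isIso_of_ab f f (pullback.snd f f) (pullback.fst f f) pullback.condition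
    (fun A => Groth.Agent.EtBC48.isIso_baseChange0_integral f f _ _ (IsPullback.of_hasPullback f f) A) F'
  have h2 := Groth.Agent.EtBC48.baseChange0Sh_isIso_of_ab (pullback.snd f f ≫ f) f (EtDesc.q3 (f := f)) (EtDesc.p12 f)
    (Groth.Agent.Unr55.ShDesc.Eff.isPullback_triple f).w
    (fun A => Groth.Agent.EtBC48.isIso_baseChange0_integral _ f _ _ (Groth.Agent.Unr55.ShDesc.Eff.isPullback_triple f) A)
    ((EtDesc.pullSh (pullback.snd f f)).obj F')
  exact Groth.Agent.Unr55.ShDesc.Eff.isEffective_of_baseChange φ hφ h1 inferInstance

end Groth.Agent.S3050
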