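import Groth.Statements.S3058
import Groth.Agent.Topos46.Coprod
-- import your own Groth.Agent.* helpers here

set_option autoImplicit false
open CategoryTheory CategoryTheory.Limits Opposite
universe u
open ToposFin

namespace Groth.Agent.S3058

open Groth.Agent.Topos46

/-- For a topos of sheaves of sets on a small site: the coproduct of a small family of objects is
quasi-compact if and only if every member is quasi-compact and all but finitely many members are
initial (empty) objects. -/
theorem result {C : Type u} [SmallCategory C] {J : GrothendieckTopology C} {ι : Type u}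
    (F : ι → ToposFin.Sh J) :
    ToposFin.IsQC (∐ F) ↔ (∀ i, ToposFin.IsQC (F i)) ∧ {i | IsEmpty (F i ≅ ⊥_ (ToposFin.Sh J))}.Finite := by
  have hc := coproductIsCoproduct F
  constructor
  · intro h
    refine ⟨fun i => isQC_source_of_isQCHom (isQCHom_cofan_inj hc i) h, ?_⟩
    obtain ⟨n, σ, hσ⟩ := exists_finite_subfamily h (isEpiFam_inj hc)
    refine (Set.finite_range σ).subset fun i hi => ?_
    by_contra hr
    refine (hi : IsEmpty _).false (Classical.choice (isVoid_iff_iso_initial.1 ?_))
    have hp := hσ.pullback_fst ((Cofan.mk _ (Sigma.ι F)).inj i)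
    intro Z a b
    exact hp a b fun k => isVoid_of_comm_inj hc (fun e => hr ⟨k, e.symm⟩) _ _ pullback.condition _ _
  · rintro ⟨h, hfin⟩
    have : Finite {i | IsEmpty (F i ≅ ⊥_ (ToposFin.Sh J))} := hfin
    refine isQC_of_finite_epiFam (ρ := fun i : {i | IsEmpty (F i ≅ ⊥_ (ToposFin.Sh J))} => Sigma.ι F i.1)
      (fun Z a b hab => Sigma.hom_ext _ _ fun i => ?_) (fun i => h i.1)
    by_cases hi : IsEmpty (F i ≅ ⊥_ (ToposFin.Sh J))
    · exact hab ⟨i, hi⟩
    · exact (isVoid_iff_iso_initial.2 (not_isEmpty_iff.1 hi)) _ _

end Groth.Agent.S3058
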