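import Groth.Statements.S3059
import Groth.Agent.Topos46.Colim
-- import your own Groth.Agent.* helpers here

set_option autoImplicit false
open CategoryTheory CategoryTheory.Limits Opposite
universe u
open ToposFin

namespace Groth.Agent.S3059

open Groth.Agent.Topos46

/-- For a topos of sheaves of sets on a small site: an object X is quasi-compact if and only if, for
every small filtered diagram (Y_i), the natural map colim Hom(X, Y_i) -> Hom(X, colim Y_i) is
injective. -/
theorem result {C : Type u} [SmallCategory C] {J : GrothendieckTopology C}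
    (X : ToposFin.Sh J) :
    ToposFin.IsQC X ↔ ∀ (I : Type u) [SmallCategory I] [IsFiltered I] (D : I ⥤ ToposFin.Sh J),
      Function.Injective (colimit.post D (coyoneda.obj (op X))) := by
  classical
  refine ⟨fun hX I _ _ D => (post_injective_iff D X).2 fun _ _ _ => exists_eq_of_isQC D hX, fun h => ?_⟩
  rw [isQC_iff]
  intro ι F π hπ
  let d : ∀ s : Finset ι, (∐ fun i : s => F i.1) ⟶ X := fun s => Sigma.desc fun i : s => π i.1
  have hd : ∀ {s t : Finset ι} (hst : s ≤ t) (i : s),
      Sigma.ι (fun i : t => F i.1) ⟨i.1, hst i.2⟩ ≫ d t = Sigma.ι (fun i : s => F i.1) i ≫ d s :=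
    fun hst i => by simp [d]
  have hw : ∀ {s t : Finset ι}, s ≤ t → d s ≫ pushout.inl (d t) (d t) = d s ≫ pushout.inr (d t) (d t) := by
    intro s t hst
    refine Sigma.hom_ext _ _ fun i => ?_
    simp only [← reassoc_of% hd hst i, pushout.condition]
  let D : Finset ι ⥤ ToposFin.Sh J :=
    { obj := fun s => pushout (d s) (d s)
      map := fun {s t} f => pushout.desc (pushout.inl _ _) (pushout.inr _ _) (hw f.le)
      map_id := fun s => by apply pushout.hom_ext <;> simp [pushout.inl_desc, pushout.inr_desc]
      map_comp := fun f g => by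
        apply pushout.hom_ext <;>
          simp [pushout.inl_desc, pushout.inr_desc, pushout.inl_desc_assoc, pushout.inr_desc_assoc] }
  have hab : pushout.inl (d ∅) (d ∅) ≫ colimit.ι D ∅ = pushout.inr (d ∅) (d ∅) ≫ colimit.ι D ∅ := by
    refine hπ _ _ fun i => ?_
    let e : (∅ : Finset ι) ⟶ {i} := homOfLE (Finset.empty_subset _)
    have hi : π i ≫ pushout.inl (d {i}) (d {i}) = π i ≫ pushout.inr (d {i}) (d {i}) := by
      have := Sigma.ι (fun j : ({i} : Finset ι) => F j.1) ⟨i, Finset.mem_singleton_self i⟩ ≫=
        hw (le_refl ({i} : Finset ι))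
      simpa [d] using this
    rw [← colimit.w D e]
    simpa [D, pushout.inl_desc_assoc, pushout.inr_desc_assoc] using
      congrArg (· ≫ colimit.ι D {i}) hi
  obtain ⟨s, f, hf⟩ := (post_injective_iff D X).1 (h (Finset ι) D) ∅ _ _ hab
  refine ⟨s, fun Z a b hZ => ?_⟩
  have hf' : pushout.inl (d s) (d s) = pushout.inr (d s) (d s) := by
    simpa [D, pushout.inl_desc, pushout.inr_desc] using hf
  have hdz : d s ≫ a = d s ≫ b := Sigma.hom_ext _ _ fun i => by simpa [d] using hZ i
  have := hf' =≫ pushout.desc a b hdz
  simpa [pushout.inl_desc, pushout.inr_desc] using this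

end Groth.Agent.S3059
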