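import Groth.Statements.S3062
import Groth.Agent.Topos46.Local
-- import your own Groth.Agent.* helpers here

set_option autoImplicit false
open CategoryTheory CategoryTheory.Limits Opposite
universe u
open ToposFin

namespace Groth.Agent.S3062

open Groth.Agent.Topos46
attribute [local simp] prod.lift_fst prod.lift_snd pullback.lift_fst pullback.lift_snd pullback.lift_fst_assoc
  pullback.lift_snd_assoc

/-- For a topos of sheaves of sets on a small site: if g : Y -> Z is quasi-separated and g o f is
quasi-compact, then f : X -> Y is quasi-compact; likewise with coherent in place of quasi-compact. -/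
theorem result {C : Type u} [SmallCategory C] {J : GrothendieckTopology C} {X Y Z : ToposFin.Sh J}
    (f : X ⟶ Y) (g : Y ⟶ Z) (hg : ToposFin.IsQSHom g) :
    (ToposFin.IsQCHom (f ≫ g) → ToposFin.IsQCHom f) ∧ (ToposFin.IsCohHom (f ≫ g) → ToposFin.IsCohHom f) := by
  have key : ToposFin.IsQCHom (f ≫ g) → ToposFin.IsQCHom f := by
    intro hfg W s hW
    have hQ : ToposFin.IsQC (pullback (f ≫ g) (s ≫ g)) := hfg W _ hW
    have hE := isQSHom_iff_equalizer.1 hg _ (pullback.fst (f ≫ g) (s ≫ g) ≫ f)
      (pullback.snd (f ≫ g) (s ≫ g) ≫ s) hQ (by simpa using pullback.condition)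
    refine isQC_of_iso ?_ hE
    exact
      { hom := pullback.lift (equalizer.ι _ _ ≫ pullback.fst _ _) (equalizer.ι _ _ ≫ pullback.snd _ _)
          (by simpa using equalizer.condition (pullback.fst (f ≫ g) (s ≫ g) ≫ f) (pullback.snd (f ≫ g) (s ≫ g) ≫ s))
        inv := equalizer.lift (pullback.lift (pullback.fst f s) (pullback.snd f s)
          (by simp [reassoc_of% pullback.condition (f := f) (g := s)]))
          (by simp [pullback.condition])
        hom_inv_id := by
          apply equalizer.hom_ext
          apply pullback.hom_ext <;> simp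
        inv_hom_id := by apply pullback.hom_ext <;> simp }
  exact ⟨key, fun h => ⟨key h.1, isQSHom_of_comp' f g h.2⟩⟩

end Groth.Agent.S3062
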