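import Groth.Statements.S3067
import Groth.Agent.Topos46.Local
-- import your own Groth.Agent.* helpers here

set_option autoImplicit false
open CategoryTheory CategoryTheory.Limits Opposite
universe u
open ToposFin

namespace Groth.Agent.S3067

open Groth.Agent.Topos46

/-- In the topos of sheaves of sets on a small site that admits a generating family of quasi-compact
objects, let (g_i : Y_i → Y) be a jointly epimorphic family of morphisms with every Y_i coherent.
Then Y is quasi-separated if and only if every g_i is quasi-compact, and Y is quasi-separated if and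
only if every fibre product Y_i ×_Y Y_j is quasi-compact. -/
theorem result {C : Type u} [SmallCategory C] {J : GrothendieckTopology C} (hE : ToposFin.HasQCGenerators J) {Y : ToposFin.Sh J} {ι : Type u}
    (Yi : ι → ToposFin.Sh J) (g : ∀ i, Yi i ⟶ Y) (hg : Epi (Sigma.desc g)) (hY : ∀ i, ToposFin.IsCoherent (Yi i)) :
    (ToposFin.IsQS Y ↔ ∀ i, ToposFin.IsQCHom (g i)) ∧
    (ToposFin.IsQS Y ↔ ∀ i j, ToposFin.IsQC (pullback (g i) (g j))) := by
  have hg' := isEpiFam_iff_epi_desc.2 hg
  have h12 : ToposFin.IsQS Y → ∀ i, ToposFin.IsQCHom (g i) := fun h i =>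
    isQS_iff.1 h _ _ (hY i).1
  have h31 : (∀ i j, ToposFin.IsQC (pullback (g i) (g j))) → ToposFin.IsQS Y := by
    intro h A B a b hA hB
    obtain ⟨n, V, c, σ, l, hV, hc, hl⟩ :=
      (genBy_of_hasQCGenerators hE).exists_finite_refinement hA (hg'.pullback_fst a)
    obtain ⟨m, W, d, τ, r, hW, hd, hr⟩ :=
      (genBy_of_hasQCGenerators hE).exists_finite_refinement hB (hg'.pullback_fst b)
    refine isQC_pullback_of_cover_left a b hc fun k => ?_
    refine isQC_pullback_of_cover_right _ b hd fun q => ?_
    refine isQC_pullback_congr (a' := (l k ≫ pullback.snd a (g (σ k))) ≫ g (σ k))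
      (b' := (r q ≫ pullback.snd b (g (τ q))) ≫ g (τ q)) ?_ ?_ ?_
    · rw [← hl k]; simp [pullback.condition]
    · rw [← hr q]; simp [pullback.condition]
    exact isQC_pullback_of_triple (IsPullback.of_hasPullback (g (σ k)) (g (τ q)))
      (h _ _) (hY _).2 (hY _).2 _ _ (hV k) (hW q)
  have h23 : (∀ i, ToposFin.IsQCHom (g i)) → ∀ i j, ToposFin.IsQC (pullback (g i) (g j)) :=
    fun h i j => h i _ _ (hY j).1
  exact ⟨⟨h12, fun h => h31 (h23 h)⟩, ⟨fun h => h23 (h12 h), h31⟩⟩

end Groth.Agent.S3067
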