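import Groth.Statements.S3068
import Groth.Agent.Topos46.Local
-- import your own Groth.Agent.* helpers here

set_option autoImplicit false
open CategoryTheory CategoryTheory.Limits Opposite
universe u
open ToposFin

namespace Groth.Agent.S3068

open Groth.Agent.Topos46

/-- For a topos of sheaves of sets on a small site: given a generating family of quasi-compact objects
G_a, an object Y is quasi-separated if and only if every morphism G_a -> Y is quasi-compact. -/
theorem result {C : Type u} [SmallCategory C] {J : GrothendieckTopology C} {α : Type u} (G : α → ToposFin.Sh J) (hG : ∀ a, ToposFin.IsQC (G a))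
    (hgen : ∀ X : ToposFin.Sh J, ∃ (ι : Type u) (a : ι → α) (π : ∀ i, G (a i) ⟶ X), Epi (Sigma.desc π))
    (Y : ToposFin.Sh J) :
    ToposFin.IsQS Y ↔ ∀ (a : α) (s : G a ⟶ Y), ToposFin.IsQCHom s := by
  refine ⟨fun h a s => isQS_iff.1 h _ s (hG a), fun h A B a b hA hB => ?_⟩
  obtain ⟨n, V, c, hV, hc⟩ := (genBy_of_family G hgen).exists_finite_cover hA
  refine isQC_pullback_of_cover_left a b hc fun k => ?_
  have key : ∀ (V : ToposFin.Sh J) (s : V ⟶ Y), (∃ a, V = G a) → ToposFin.IsQCHom s := by
    rintro V s ⟨i, rfl⟩
    exact h i s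
  exact key _ _ (hV k) B b hB

end Groth.Agent.S3068
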