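import Groth.Statements.S3070
import Groth.Agent.Topos46.Local
-- import your own Groth.Agent.* helpers here

set_option autoImplicit false
open CategoryTheory CategoryTheory.Limits Opposite
universe u
open ToposFin

namespace Groth.Agent.S3070

open Groth.Agent.Topos46
attribute [local simp] prod.lift_fst prod.lift_snd pullback.lift_fst pullback.lift_snd pullback.lift_fst_assoc
  pullback.lift_snd_assoc

/-- For a topos of sheaves of sets on a small site admitting a generating family of quasi-compact
objects: let f : X -> Y and let (g_i : X_i -> X) be a jointly epimorphic family with every X_i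
quasi-compact and every X_i x_Y X_j quasi-separated. If X is quasi-separated then f is a
quasi-separated morphism. -/
theorem result {C : Type u} [SmallCategory C] {J : GrothendieckTopology C} (hE : ToposFin.HasQCGenerators J)
    {X Y : ToposFin.Sh J} (f : X ⟶ Y) {ι : Type u} (Xi : ι → ToposFin.Sh J) (g : ∀ i, Xi i ⟶ X)
    (hg : Epi (Sigma.desc g)) (hqc : ∀ i, ToposFin.IsQC (Xi i))
    (hqs : ∀ i j, ToposFin.IsQS (pullback (g i ≫ f) (g j ≫ f))) (hX : ToposFin.IsQS X) :
    ToposFin.IsQSHom f := by
  have hg' := isEpiFam_iff_epi_desc.2 hg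
  refine isQSHom_iff_equalizer.2 fun W a b hW hab => ?_
  obtain ⟨n, V, c, σ, τ, l, m, hV, hc, hl, hm⟩ :=
    (genBy_of_hasQCGenerators hE).exists_finite_refinement₂ hW a b hg' hg'
  refine isQC_equalizer_of_cover a b hc fun k => ?_
  let t := pullback.lift (f := g (σ k) ≫ f) (g := g (τ k) ≫ f) (l k) (m k)
    (by simp [reassoc_of% hl k, reassoc_of% hm k, hab])
  let u := pullback.lift (f := g (σ k) ≫ f) (g := g (τ k) ≫ f)
    (pullback.fst (g (σ k)) (g (τ k))) (pullback.snd (g (σ k)) (g (τ k)))
    (by simp [pullback.condition_assoc])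
  have hQ : ToposFin.IsQC (pullback t u) :=
    hqs (σ k) (τ k) _ _ t u (hV k) (hX _ _ (g (σ k)) (g (τ k)) (hqc _) (hqc _))
  have h₁ : pullback.fst t u ≫ l k = pullback.snd t u ≫ pullback.fst _ _ := by
    simpa [t, u] using (pullback.condition (f := t) (g := u)) =≫ pullback.fst _ _
  have h₂ : pullback.fst t u ≫ m k = pullback.snd t u ≫ pullback.snd _ _ := by
    simpa [t, u] using (pullback.condition (f := t) (g := u)) =≫ pullback.snd _ _
  refine isQC_of_iso ?_ hQ
  exact
    { hom := equalizer.lift (pullback.fst t u) (by
        rw [← hl k, ← hm k, reassoc_of% h₁, reassoc_of% h₂, pullback.condition])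
      inv := pullback.lift (equalizer.ι _ _)
        (pullback.lift (equalizer.ι _ _ ≫ l k) (equalizer.ι _ _ ≫ m k)
          (by simpa [hl k, hm k] using equalizer.condition (c k ≫ a) (c k ≫ b)))
        (by apply pullback.hom_ext <;> simp [t, u])
      hom_inv_id := by
        apply pullback.hom_ext
        · simp
        · apply pullback.hom_ext <;> simp [h₁, h₂]
      inv_hom_id := by apply equalizer.hom_ext; simp }

end Groth.Agent.S3070
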