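import Groth.Statements.S3071
import Groth.Agent.Topos46.Local
-- import your own Groth.Agent.* helpers here

set_option autoImplicit false
open CategoryTheory CategoryTheory.Limits Opposite
universe u
open ToposFin

namespace Groth.Agent.S3071

open Groth.Agent.Topos46
attribute [local simp] prod.lift_fst prod.lift_snd pullback.lift_fst pullback.lift_snd pullback.lift_fst_assoc
  pullback.lift_snd_assoc

/-- Implication (ii bis) => (i bis), for a topos of sheaves of sets on a small site: suppose given a
generating family of coherent objects G_a such that every product G_a x G_b is quasi-separated. Then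
for every morphism f : X -> Y with X quasi-separated, f is quasi-separated. -/
theorem result {C : Type u} [SmallCategory C] {J : GrothendieckTopology C} {α : Type u} (G : α → ToposFin.Sh J)
    (hG : ∀ a, ToposFin.IsCoherent (G a))
    (hgen : ∀ X : ToposFin.Sh J, ∃ (ι : Type u) (a : ι → α) (π : ∀ i, G (a i) ⟶ X), Epi (Sigma.desc π))
    (hprod : ∀ a b, ToposFin.IsQS (G a ⨯ G b)) {X Y : ToposFin.Sh J} (f : X ⟶ Y) (hX : ToposFin.IsQS X) :
    ToposFin.IsQSHom f := by
  have hgen' := genBy_of_family G hgen
  refine isQSHom_iff_equalizer.2 fun W a b hW hab => ?_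
  obtain ⟨ι, F, π, hF, hπ⟩ := hgen' X
  obtain ⟨n, V, c, σ, τ, l, m, hV, hc, hl, hm⟩ :=
    hgen'.exists_finite_refinement₂ hW a b hπ hπ
  refine isQC_equalizer_of_cover a b hc fun k => ?_
  obtain ⟨i, hi⟩ := hV k
  have hq : ToposFin.IsQC (V k) := hi ▸ (hG i).1
  obtain ⟨p, hp⟩ := hF (σ k)
  obtain ⟨q, hq'⟩ := hF (τ k)
  have hP : ToposFin.IsQS (F (σ k) ⨯ F (τ k)) := by
    rw [hp, hq']
    exact hprod p q
  have hR : ToposFin.IsQC (pullback (π (σ k)) (π (τ k))) :=
    hX _ _ _ _ (hp ▸ (hG p).1) (hq' ▸ (hG q).1)
  let t := prod.lift (l k) (m k)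
  let u := prod.lift (pullback.fst (π (σ k)) (π (τ k))) (pullback.snd (π (σ k)) (π (τ k)))
  have hQ : ToposFin.IsQC (pullback t u) := hP _ _ t u hq hR
  have h₁ : pullback.fst t u ≫ l k = pullback.snd t u ≫ pullback.fst _ _ := by
    simpa [t, u] using (pullback.condition (f := t) (g := u)) =≫ prod.fst
  have h₂ : pullback.fst t u ≫ m k = pullback.snd t u ≫ pullback.snd _ _ := by
    simpa [t, u] using (pullback.condition (f := t) (g := u)) =≫ prod.snd
  refine isQC_of_iso ?_ hQ
  exact
    { hom := equalizer.lift (pullback.fst t u) (by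
        rw [← hl k, ← hm k, reassoc_of% h₁, reassoc_of% h₂, pullback.condition])
      inv := pullback.lift (equalizer.ι _ _)
        (pullback.lift (equalizer.ι _ _ ≫ l k) (equalizer.ι _ _ ≫ m k)
          (by simpa [hl k, hm k] using equalizer.condition (c k ≫ a) (c k ≫ b)))
        (by ext <;> simp [t, u])
      hom_inv_id := by
        apply pullback.hom_ext
        · simp
        · apply pullback.hom_ext <;> simp [h₁, h₂]
      inv_hom_id := by apply equalizer.hom_ext; simp }

end Groth.Agent.S3071
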