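import Groth.Statements.S3074
import Groth.Agent.Topos46.Coprod
-- import your own Groth.Agent.* helpers here

set_option autoImplicit false
open CategoryTheory CategoryTheory.Limits Opposite
universe u
open ToposFin

namespace Groth.Agent.S3074

open Groth.Agent.Topos46

/-- For a topos of sheaves of sets on a small site: (1) a subobject of a quasi-separated object is
quasi-separated; (2) the coproduct of a small family (X_i) is quasi-separated if and only if every
X_i is. -/
theorem result {C : Type u} [SmallCategory C] {J : GrothendieckTopology C} :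
    (∀ {X Y : ToposFin.Sh J} (i : X ⟶ Y) [Mono i], ToposFin.IsQS Y → ToposFin.IsQS X) ∧
    ∀ {ι : Type u} (F : ι → ToposFin.Sh J), ToposFin.IsQS (∐ F) ↔ ∀ i, ToposFin.IsQS (F i) := by
  have hmono : ∀ {X Y : ToposFin.Sh J} (i : X ⟶ Y) [Mono i], ToposFin.IsQS Y → ToposFin.IsQS X :=
    fun i _ h => isQS_of_isQSHom (isQSHom_of_mono' i) h
  refine ⟨hmono, fun F => ⟨fun h i => ?_, fun h => isQS_cofan (coproductIsCoproduct F) h⟩⟩
  have := mono_cofan_inj (coproductIsCoproduct F) i
  exact hmono ((Cofan.mk _ (Sigma.ι F)).inj i) h

end Groth.Agent.S3074
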