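import Groth.Statements.S3075
import Groth.Agent.Topos46.Local
-- import your own Groth.Agent.* helpers here

set_option autoImplicit false
open CategoryTheory CategoryTheory.Limits Opposite
universe u
open ToposFin

namespace Groth.Agent.S3075

open Groth.Agent.Topos46

/-- For a topos of sheaves of sets on a small site admitting a generating family of quasi-compact
objects: if (g_i : Y_i -> Y) is a jointly epimorphic family with every Y_i quasi-separated and every
g_i quasi-compact, then Y is quasi-separated. -/
theorem result {C : Type u} [SmallCategory C] {J : GrothendieckTopology C} (hE : ToposFin.HasQCGenerators J) {Y : ToposFin.Sh J}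
    {ι : Type u} (Yi : ι → ToposFin.Sh J) (g : ∀ i, Yi i ⟶ Y) (hg : Epi (Sigma.desc g))
    (hqs : ∀ i, ToposFin.IsQS (Yi i)) (hqc : ∀ i, ToposFin.IsQCHom (g i)) : ToposFin.IsQS Y := by
  have hg' := isEpiFam_iff_epi_desc.2 hg
  intro A B a b hA hB
  obtain ⟨n, V, c, σ, l, hV, hc, hl⟩ :=
    (genBy_of_hasQCGenerators hE).exists_finite_refinement hA (hg'.pullback_fst a)
  refine isQC_pullback_of_cover_left a b hc fun k => ?_
  refine isQC_pullback_congr (a' := (l k ≫ pullback.snd a (g (σ k))) ≫ g (σ k)) ?_ rfl ?_
  · rw [← hl k]; simp [pullback.condition]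
  have hR : ToposFin.IsQC (pullback (g (σ k)) b) := hqc (σ k) B b hB
  exact isQC_of_iso (pullbackRightPullbackFstIso (g (σ k)) b (l k ≫ pullback.snd a (g (σ k))))
    (hqs (σ k) _ _ _ _ (hV k) hR)

end Groth.Agent.S3075
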