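import Groth.Statements.S3076
import Groth.Agent.Topos46.Local
-- import your own Groth.Agent.* helpers here

set_option autoImplicit false
open CategoryTheory CategoryTheory.Limits Opposite
universe u
open ToposFin

namespace Groth.Agent.S3076

open Groth.Agent.Topos46

/-- For a topos of sheaves of sets on a small site admitting a generating family of quasi-compact
objects: let g : Y -> Z and let (f_i : X_i -> Y) be a jointly epimorphic family of quasi-compact
morphisms. If every g o f_i is quasi-separated then g is quasi-separated; if moreover the family is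
finite and every g o f_i is coherent, then g is coherent. -/
theorem result {C : Type u} [SmallCategory C] {J : GrothendieckTopology C} (hE : ToposFin.HasQCGenerators J) {Y Z : ToposFin.Sh J}
    (g : Y ⟶ Z) :
    (∀ {ι : Type u} (X : ι → ToposFin.Sh J) (f : ∀ i, X i ⟶ Y), Epi (Sigma.desc f) →
      (∀ i, ToposFin.IsQCHom (f i)) → (∀ i, ToposFin.IsQSHom (f i ≫ g)) → ToposFin.IsQSHom g) ∧
    (∀ {n : ℕ} (X : Fin n → ToposFin.Sh J) (f : ∀ k, X k ⟶ Y), Epi (Sigma.desc f) →
      (∀ k, ToposFin.IsQCHom (f k)) → (∀ k, ToposFin.IsCohHom (f k ≫ g)) → ToposFin.IsCohHom g) := by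
  have hE' := genBy_of_hasQCGenerators hE
  constructor
  · intro ι X f hf hqc hqs
    exact isQSHom_of_source hE' (isEpiFam_iff_epi_desc.2 hf) hqc hqs
  · intro n X f hf hqc hcoh
    have hf' := isEpiFam_iff_epi_desc.2 hf
    refine ⟨isQCHom_of_finite_source hf' fun k => (hcoh k).1, ?_⟩
    refine isQSHom_of_source hE' (ι := ULift.{u} (Fin n)) (f := fun k => f k.down)
      (fun Z a b h => hf' a b fun k => h ⟨k⟩) (fun k => hqc k.down) fun k => (hcoh k.down).2

end Groth.Agent.S3076
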