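import Groth.Statements.S3088
import Groth.Agent.Fib44.EdgeProps

set_option autoImplicit false
universe u
open CategoryTheory
open CohSite

namespace Groth.Agent.S3088

open CategoryTheory.Limits Opposite
open Groth.Agent.Fib44

variable {C : Type u} [SmallCategory C] [HasPullbacks C] {U : C} {ι κ : Type u} {Y : ι → Over U}
  {Y' : κ → Over U}

set_option backward.isDefEq.respectTransparency false in
set_option backward.isDefEq.respectTransparency.types false in
lemma cocycle_res (P : Cᵒᵖ ⥤ AddCommGrpCat.{u}) (c : SiteCech.Co Y' P 0) (hc : SiteCech.dC Y' P 0 c = 0)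
    {T : Over U} (a₀ a₁ : Fin 1 → κ) (α : T ⟶ ∏ᶜ (Y' ∘ a₀)) (β : T ⟶ ∏ᶜ (Y' ∘ a₁)) :
    P.map α.left.op (c a₀) = P.map β.left.op (c a₁) := by
  obtain ⟨a, rfl, rfl⟩ : ∃ a : Fin 2 → κ, a ∘ Fin.succAbove 1 = a₀ ∧ a ∘ Fin.succAbove 0 = a₁ :=
    ⟨![a₀ 0, a₁ 0], funext fun k => by fin_cases k; rfl, funext fun k => by fin_cases k; rfl⟩
  have h := congrFun hc a
  rw [SiteCech.dC_apply, Fin.sum_univ_two] at h
  simp only [Fin.val_zero, pow_zero, one_smul, Fin.val_one, pow_one, neg_smul, Pi.zero_apply] at h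
  rw [← sub_eq_add_neg, sub_eq_zero] at h
  let l : T ⟶ ∏ᶜ (Y' ∘ a) :=
    Limits.Pi.lift fun k => Fin.cases (α ≫ Limits.Pi.π _ 0)
      (fun k => Fin.cases (β ≫ Limits.Pi.π _ 0) (fun k => k.elim0) k) k
  have hl0 : l ≫ Cech.face Y' a (Fin.succAbove 1) = α := by
    refine Limits.Pi.hom_ext _ _ fun k => ?_
    obtain rfl : k = 0 := Fin.ext (Nat.lt_one_iff.1 k.isLt)
    rw [Category.assoc, Limits.Pi.lift_π]
    exact Limits.Pi.lift_π _ _
  have hl1 : l ≫ Cech.face Y' a (Fin.succAbove 0) = β := by
    refine Limits.Pi.hom_ext _ _ fun k => ?_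
    obtain rfl : k = 0 := Fin.ext (Nat.lt_one_iff.1 k.isLt)
    rw [Category.assoc, Limits.Pi.lift_π]
    exact Limits.Pi.lift_π _ _
  have h' := congrArg (P.map l.left.op) h
  simp only [Functor.comp_map, Functor.op_map, Quiver.Hom.unop_op, Over.forget_map] at h'
  refine Eq.trans ?_ (Eq.trans h'.symm ?_)
  · refine Eq.trans ?_ (ConcreteCategory.congr_hom (P.map_comp _ _) _)
    exact congrArg (fun m => P.map (Quiver.Hom.op m) _)
      ((congrArg CommaMorphism.left hl0).symm.trans (Over.comp_left _ _ _ _ _))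
  · refine Eq.trans (ConcreteCategory.congr_hom (P.map_comp _ _) _).symm ?_
    exact congrArg (fun m => P.map (Quiver.Hom.op m) _)
      ((Over.comp_left _ _ _ _ _).symm.trans (congrArg CommaMorphism.left hl1))

set_option backward.isDefEq.respectTransparency false in
set_option backward.isDefEq.respectTransparency.types false in
lemma refine_proj (P : Cᵒᵖ ⥤ AddCommGrpCat.{u})
    (f : FormalCoproduct.mk ι Y ⟶ FormalCoproduct.mk κ Y') (a : Fin 1 → ι) :
    (CohCx.cechRefine P f).f 0 ≫ Cech.proj Y ((Over.forget U).op ⋙ P) 0 a =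
      Cech.proj Y' ((Over.forget U).op ⋙ P) 0
          (((FormalCoproduct.cechFunctor.map f).app (op (SimplexCategory.mk 0))).f a) ≫
        P.map (((FormalCoproduct.cechFunctor.map f).app (op (SimplexCategory.mk 0))).φ a).left.op := by
  change Limits.Pi.lift _ ≫ _ = _
  erw [Limits.Pi.lift_π]
  rfl

set_option backward.isDefEq.respectTransparency false in
set_option backward.isDefEq.respectTransparency.types false in
lemma zero_agree (P : Cᵒᵖ ⥤ AddCommGrpCat.{u}) (f g : FormalCoproduct.mk ι Y ⟶ FormalCoproduct.mk κ Y') :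
    HomologicalComplex.homologyMap (CohCx.cechRefine P f) 0 =
      HomologicalComplex.homologyMap (CohCx.cechRefine P g) 0 := by
  let K := SiteCech.cxC Y' P
  rw [← cancel_epi (HomologicalComplex.homologyπ _ 0), HomologicalComplex.homologyπ_naturality,
    HomologicalComplex.homologyπ_naturality]
  congr 1
  rw [← cancel_mono (HomologicalComplex.iCycles _ 0), HomologicalComplex.cyclesMap_i,
    HomologicalComplex.cyclesMap_i]
  refine AddCommGrpCat.hom_ext (AddMonoidHom.ext fun z => ?_)
  apply (Cech.equiv Y ((Over.forget U).op ⋙ P) 0).injective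
  funext a
  have hc : SiteCech.dC Y' P 0 (Cech.equiv Y' _ 0 (K.iCycles 0 z)) = 0 := by
    rw [← SiteCech.equiv_dC, ← ConcreteCategory.comp_apply, HomologicalComplex.iCycles_d]
    exact map_zero _
  refine (Cech.equiv_apply Y _ 0 _ a).trans (Eq.trans ?_ (Cech.equiv_apply Y _ 0 _ a).symm)
  refine (ConcreteCategory.congr_hom (refine_proj P f a) (K.iCycles 0 z)).trans ?_
  refine Eq.trans ?_ (ConcreteCategory.congr_hom (refine_proj P g a) (K.iCycles 0 z)).symm
  simp only [ConcreteCategory.comp_apply]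
  refine Eq.trans (congrArg _ (Cech.equiv_apply Y' _ 0 _ _).symm) ?_
  refine Eq.trans ?_ (congrArg _ (Cech.equiv_apply Y' _ 0 _ _))
  exact cocycle_res P _ hc (T := ∏ᶜ (Y ∘ a)) _ _
    (((FormalCoproduct.cechFunctor.map f).app (op (SimplexCategory.mk 0))).φ a)
    (((FormalCoproduct.cechFunctor.map g).app (op (SimplexCategory.mk 0))).φ a)

open scoped Groth.Agent.Fib44.Edge in
lemma agree (f g : FormalCoproduct.mk ι Y ⟶ FormalCoproduct.mk κ Y') (q : ℕ) :
    ∀ P : Cᵒᵖ ⥤ AddCommGrpCat.{u}, HomologicalComplex.homologyMap (CohCx.cechRefine P f) q =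
      HomologicalComplex.homologyMap (CohCx.cechRefine P g) q := by
  induction q with
  | zero => exact fun P => zero_agree P f g
  | succ q ih =>
    intro P
    have hS := Edge.preSES_shortExact P
    ext x
    obtain ⟨w, rfl⟩ := Edge.preSES_δ_surjective Y' P q x
    have nat : ∀ h : FormalCoproduct.mk ι Y ⟶ FormalCoproduct.mk κ Y', _ := fun h =>
      ConcreteCategory.congr_hom (HomologicalComplex.HomologySequence.δ_naturality
        (ShortComplex.homMk (S₁ := (Edge.preSES P).map (CechEdge.cxFunctor Y'))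
          (S₂ := (Edge.preSES P).map (CechEdge.cxFunctor Y))
          (CohCx.cechRefine (Edge.preSES P).X₁ h) (CohCx.cechRefine (Edge.preSES P).X₂ h)
          (CohCx.cechRefine (Edge.preSES P).X₃ h)
          (Edge.cechRefine_natural Y h (Edge.preSES P).f).symm
          (Edge.cechRefine_natural Y h (Edge.preSES P).g).symm)
        (Edge.cxFunctor_shortExact Y' hS) (Edge.cxFunctor_shortExact Y hS) q (q + 1) rfl) w
    refine (nat f).trans (Eq.trans ?_ (nat g).symm)
    exact congrArg ((Edge.cxFunctor_shortExact Y hS).δ q (q + 1) rfl).hom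
      (ConcreteCategory.congr_hom (ih (Edge.preSES P).X₃) w)

open CategoryTheory.Limits in
/-- With A = Z: let C be a u-small category with fibre products, 𝒰 and 𝒰' two families of objects over U
(formal coproducts in the over category) and f, g : 𝒰 -> 𝒰' two refinement morphisms. Then for every
presheaf of abelian groups M and every q, the maps induced by f and g on the q-th Cech cohomology
groups (from that of 𝒰' to that of 𝒰) coincide. -/
theorem result {C : Type u} [SmallCategory C] [HasPullbacks C] (M : Cᵒᵖ ⥤ AddCommGrpCat.{u})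
    {U : C} {𝒰 𝒰' : FormalCoproduct.{u} (Over U)} (f g : 𝒰 ⟶ 𝒰') (q : ℕ) :
    HomologicalComplex.homologyMap (CohCx.cechRefine M f) q = HomologicalComplex.homologyMap (CohCx.cechRefine M g) q := by
  obtain ⟨ι, Y⟩ := 𝒰
  obtain ⟨κ, Y'⟩ := 𝒰'
  exact agree f g q M

end Groth.Agent.S3088
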