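import Groth.Statements.S3089
import Groth.Agent.SiteCoh.FreeSet
import Mathlib.CategoryTheory.Sites.Limits
import Mathlib.CategoryTheory.Abelian.GrothendieckCategory.EnoughInjectives

set_option autoImplicit false
universe u
open CategoryTheory
open CohSite

namespace Groth.Agent.S3089

set_option backward.isDefEq.respectTransparency false in
set_option backward.isDefEq.respectTransparency.types false in
open Opposite in
/-- For abelian sheaves on the topos of sheaves of sets on a small site: let F be an abelian sheaf which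
is totally acyclic, i.e. H^q(X, F) = 0 for every sheaf of sets X and every q > 0, and let Y -> X be
a monomorphism of sheaves of sets. Then the restriction map H^0(X, F) -> H^0(Y, F) is surjective. -/
theorem result {C : Type u} [SmallCategory C] {J : GrothendieckTopology C}
    (F : Sheaf J AddCommGrpCat.{u}) (hF : CohCx.IsTotallyAcyclic F) {Y X : Sheaf J (Type u)} (ι : Y ⟶ X) [Mono ι] :
    Function.Surjective ((CohCx.HK0Functor J F).map ι.op) := by
  change Function.Surjective fun y : (Groth.Agent.SiteCoh.freeAb J).obj X ⟶ F =>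
    (Groth.Agent.SiteCoh.freeAb J).map ι ≫ y
  intro s
  have hS := Groth.Agent.SiteCoh.injSES_shortExact F
  let S := Groth.Agent.SiteCoh.injSES F
  let L := Groth.Agent.SiteCoh.freeAb J
  let adj := Groth.Agent.SiteCoh.freeAbAdj J
  have : Mono S.f := hS.mono_f
  have : Epi S.g := hS.epi_g
  have : Injective S.X₂ := inferInstanceAs (Injective (Injective.under F))
  have : Mono ι.hom := (sheafToPresheaf J (Type u)).map_mono ι
  have : Mono (L.map ι) := by
    have : Mono (Functor.whiskerRight ι.hom AddCommGrpCat.free.{u}) := by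
      have : ∀ U, Mono ((Functor.whiskerRight ι.hom AddCommGrpCat.free.{u}).app U) := fun U =>
        inferInstanceAs (Mono (AddCommGrpCat.free.{u}.map (ι.hom.app U)))
      exact NatTrans.mono_of_mono_app _
    exact (presheafToSheaf J AddCommGrpCat.{u}).map_mono _
  let b : L.obj X ⟶ S.X₂ := Injective.factorThru (s ≫ S.f) (L.map ι)
  have hb : L.map ι ≫ b = s ≫ S.f := Injective.comp_factorThru _ _
  have hc : L.map ι ≫ (b ≫ S.g) = L.map ι ≫ (0 : L.obj X ⟶ S.X₃) := by
    rw [← Category.assoc, hb, Category.assoc, S.zero, Limits.comp_zero, Limits.comp_zero]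
  have hc' : ι ≫ adj.homEquiv X S.X₃ (b ≫ S.g) = ι ≫ adj.homEquiv X S.X₃ 0 := by
    rw [← Adjunction.homEquiv_naturality_left, ← Adjunction.homEquiv_naturality_left]
    exact congrArg _ hc
  let W := Limits.pushout ι ι
  let wbar : L.obj W ⟶ S.X₃ := (adj.homEquiv W S.X₃).symm (Limits.pushout.desc _ _ hc')
  have hl : L.map (Limits.pushout.inl ι ι) ≫ wbar = b ≫ S.g := by
    apply (adj.homEquiv _ _).injective
    rw [Adjunction.homEquiv_naturality_left, Equiv.apply_symm_apply, Limits.pushout.inl_desc]
  have hr : L.map (Limits.pushout.inr ι ι) ≫ wbar = 0 := by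
    apply (adj.homEquiv _ _).injective
    rw [Adjunction.homEquiv_naturality_left, Equiv.apply_symm_apply, Limits.pushout.inr_desc]
  obtain ⟨w', hw'⟩ := Abelian.Ext.covariant_sequence_exact₃ _ hS (Abelian.Ext.mk₀ wbar) rfl
    (@Subsingleton.elim _ (hF W 0) _ _)
  obtain ⟨w, rfl⟩ := (Abelian.Ext.mk₀_bijective _ _).2 w'
  rw [Abelian.Ext.mk₀_comp_mk₀] at hw'
  have hw : w ≫ S.g = wbar := (Abelian.Ext.mk₀_bijective _ _).1 hw'
  let c : L.obj X ⟶ S.X₂ :=
    L.map (Limits.pushout.inl ι ι) ≫ w - L.map (Limits.pushout.inr ι ι) ≫ w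
  have hcg : (b - c) ≫ S.g = 0 := by
    simp only [c, Preadditive.sub_comp, Category.assoc, hw, hl, hr, sub_zero, sub_self]
  refine ⟨hS.exact.lift (b - c) hcg, ?_⟩
  refine (cancel_mono S.f).1 ?_
  refine (Category.assoc _ _ _).trans ?_
  rw [hS.exact.lift_f]
  change L.map ι ≫ (b - c) = s ≫ S.f
  rw [Preadditive.comp_sub, hb]
  simp only [c, Preadditive.comp_sub]
  rw [← Category.assoc, ← Category.assoc, ← L.map_comp, ← L.map_comp, Limits.pushout.condition,
    sub_self, sub_zero]

end Groth.Agent.S3089
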