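import Groth.Statements.S3092
import Groth.Agent.Hyper50.TrivFib

set_option autoImplicit false
universe u
open CategoryTheory
open Hyper

namespace Groth.Agent.S3092

open Opposite CategoryTheory.Limits in
/-- In the topos of sheaves of sets on a small site; coskeleta assumed to exist: let v : K -> L be a
morphism of simplicial sheaves of sets and n ≥ 0 such that v_p is an isomorphism for p < n, v_n is
an epimorphism, and K, L are n-coskeletal (the units K -> cosk_n K, L -> cosk_n L are isomorphisms).
Then every v_p is an epimorphism and v induces a quasi-isomorphism between the chain complexes of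
free abelian sheaves Z[K] -> Z[L]. -/
theorem result {C : Type u} [SmallCategory C] (J : GrothendieckTopology C)
    [∀ (n : ℕ) (F : (SimplexCategory.Truncated n)ᵒᵖ ⥤ Sheaf J (Type u)),
      (SimplexCategory.Truncated.inclusion n).op.HasRightKanExtension F]
    {K L : SimplicialObject (Sheaf J (Type u))} (v : K ⟶ L) (n : ℕ)
    (h1 : ∀ p : ℕ, p < n → IsIso (v.app (op (SimplexCategory.mk p))))
    (h2 : Epi (v.app (op (SimplexCategory.mk n))))
    (h3 : IsIso ((SimplicialObject.coskAdj n).unit.app K) ∧ IsIso ((SimplicialObject.coskAdj n).unit.app L)) :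
    (∀ p : ℕ, Epi (v.app (op (SimplexCategory.mk p)))) ∧
    QuasiIso ((AlgebraicTopology.alternatingFaceMapComplex _).map
      (Functor.whiskerRight v (Sheaf.composeAndSheafify J AddCommGrpCat.free.{u}))) := by
  have := (SimplicialObject.isCoskeletal_iff_isIso K n).2 h3.1
  have := (SimplicialObject.isCoskeletal_iff_isIso L n).2 h3.2
  have := preservesLimitsOfSize_shrink.{0, u, 0, u} (sheafToPresheaf J (Type u))
  let f : (K ⋙ sheafToPresheaf J (Type u) : SimplicialObject (Cᵒᵖ ⥤ Type u)) ⟶ L ⋙ sheafToPresheaf J (Type u) :=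
    Functor.whiskerRight v (sheafToPresheaf J (Type u))
  have : SimplicialObject.IsCoskeletal (K ⋙ sheafToPresheaf J (Type u) : SimplicialObject (Cᵒᵖ ⥤ Type u)) n :=
    Groth.Agent.Hyper50.isCoskeletal_comp n (sheafToPresheaf J (Type u)) K
  have : SimplicialObject.IsCoskeletal (L ⋙ sheafToPresheaf J (Type u) : SimplicialObject (Cᵒᵖ ⥤ Type u)) n :=
    Groth.Agent.Hyper50.isCoskeletal_comp n (sheafToPresheaf J (Type u)) L
  have hn : Presheaf.IsLocallySurjective J (f.app (op (SimplexCategory.mk n))) :=
    (Sheaf.isLocallySurjective_iff_epi (J := J) (v.app (op (SimplexCategory.mk n)))).2 h2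
  have hb : ∀ p : ℕ, p < n → ∀ U, Function.Bijective ((f.app (op (SimplexCategory.mk p))).app U) := by
    intro p hp U
    have := h1 p hp
    exact ConcreteCategory.bijective_of_isIso
      (((sheafToPresheaf J (Type u)).map (v.app (op (SimplexCategory.mk p)))).app U)
  refine ⟨fun p => (Sheaf.isLocallySurjective_iff_epi (J := J) _).1
    (Groth.Agent.Hyper50.TrivFib.locallySurjective (n := n) hb J hn (op (SimplexCategory.mk p))), ?_⟩
  exact Groth.Agent.Hyper50.TrivFib.quasiIso_free (f := f) (n := n) hb J hn

end Groth.Agent.S3092
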