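import Groth.Statements.S3093

set_option autoImplicit false
universe u
open CohTop

namespace Groth.Agent.S3093

/-- Let X be a topological space and K ⊆ X a compact subset such that any two distinct points of K have
disjoint open neighbourhoods in X. If A and B are subsets of K that are closed in K and W is an open
subset of X containing A ∩ B, then there are open subsets U ⊇ A and V ⊇ B of X with U ∩ V ⊆ W. -/
theorem result {X : Type u} [TopologicalSpace X] {K : Set X} (hK : IsCompact K)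
    (hsep : ∀ x ∈ K, ∀ y ∈ K, x ≠ y → ∃ U V : Set X, IsOpen U ∧ IsOpen V ∧ x ∈ U ∧ y ∈ V ∧ Disjoint U V)
    {A B W : Set X} (hA : A ⊆ K) (hB : B ⊆ K) (hAc : IsClosed (Subtype.val ⁻¹' A : Set K))
    (hBc : IsClosed (Subtype.val ⁻¹' B : Set K)) (hW : IsOpen W) (hABW : A ∩ B ⊆ W) :
    ∃ U V : Set X, IsOpen U ∧ IsOpen V ∧ A ⊆ U ∧ B ⊆ V ∧ U ∩ V ⊆ W := by
  set N : Set (X × X) := {p | ∃ U V : Set X, IsOpen U ∧ IsOpen V ∧ p.1 ∈ U ∧ p.2 ∈ V ∧ Disjoint U V}
  have hN : IsOpen N := by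
    refine isOpen_iff_forall_mem_open.2 fun p hp => ?_
    obtain ⟨U, V, hU, hV, hpU, hpV, hd⟩ := hp
    exact ⟨U ×ˢ V, fun q hq => ⟨U, V, hU, hV, hq.1, hq.2, hd⟩, hU.prod hV, hpU, hpV⟩
  have hcpt : ∀ C : Set X, C ⊆ K → IsClosed (Subtype.val ⁻¹' C : Set K) → IsCompact (C \ W) := by
    intro C hC hCc
    have : CompactSpace K := isCompact_iff_compactSpace.1 hK
    have h : IsCompact (C ∩ K) := by
      rw [Set.inter_comm, ← Subtype.image_preimage_coe]
      exact hCc.isCompact.image continuous_subtype_val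
    rw [Set.inter_eq_left.2 hC] at h
    exact h.diff hW
  obtain ⟨U₀, V₀, hU₀, hV₀, hAU, hBV, hUV⟩ := generalized_tube_lemma (hcpt A hA hAc) (hcpt B hB hBc) hN
    (fun p hp => hsep p.1 (hA hp.1.1) p.2 (hB hp.2.1) fun e => hp.1.2 (hABW ⟨hp.1.1, e.symm ▸ hp.2.1⟩))
  refine ⟨U₀ ∪ W, V₀ ∪ W, hU₀.union hW, hV₀.union hW, fun x hx => ?_, fun x hx => ?_, ?_⟩
  · exact or_iff_not_imp_right.2 fun h => hAU ⟨hx, h⟩
  · exact or_iff_not_imp_right.2 fun h => hBV ⟨hx, h⟩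
  · rintro x ⟨hx | hx, hx' | hx'⟩
    · obtain ⟨U, V, -, -, hxU, hxV, hd⟩ := hUV (show (x, x) ∈ U₀ ×ˢ V₀ from ⟨hx, hx'⟩)
      exact (Set.disjoint_left.1 hd hxU hxV).elim
    all_goals assumption

end Groth.Agent.S3093
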