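import Groth.Statements.S3096
-- import your own Groth.Agent.* helpers here
import Groth.Agent.PBC51.PTorsion

set_option autoImplicit false
universe u
open CategoryTheory CategoryTheory.Limits AlgebraicGeometry Opposite
open EtPBC

namespace Groth.Agent.S3096

/-- Let f : X ⟶ S be a proper morphism every fibre of which has (topological Krull) dimension at most n,
let p be a prime number with p = 0 in the ring of global functions of S, and let F be an abelian
sheaf on the small étale site of X every section of which, over every object of the site, is killed
by a power of p. Then R^q f_* F = 0 for every q > n. (The published statement allows any p-torsion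
sheaf, i.e. one whose sections have p-power order étale-locally; the hypothesis here is slightly
stronger, so the statement is slightly weaker.) -/
theorem result {X S : Scheme.{u}} (f : X ⟶ S) [IsProper f] [EtCoh.BCCont f]
    (p : ℕ) (hp : p.Prime) (hS : (p : Γ(S, ⊤)) = 0) (n : ℕ)
    (hdim : ∀ s : S, topologicalKrullDim (f.fiber s) ≤ n)
    (F : EtCoh.Ab X) (hF : ∀ (U : X.Etale) (s : EtCoh.sect F U), ∃ k : ℕ, p ^ k • s = 0)
    (q : ℕ) (hq : n < q) :
    IsZero ((EtCoh.Rpush f q).obj F) :=
  haveI : Fact p.Prime := ⟨hp⟩
  Groth.Agent.PBC51.isZero_Rpush_pTorsion f hS n hdim F hF q hq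

end Groth.Agent.S3096
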