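import Groth.Statements.S3103
import Groth.Agent.EtPic91.Kummer
import Groth.Agent.EtPic91.AwayUnits

set_option autoImplicit false
universe u
open CategoryTheory CategoryTheory.Limits AlgebraicGeometry Opposite
open EtDual

namespace Groth.Agent.S3103

/-- Let A be a regular local ring which is strictly henselian, x an element of the maximal ideal not in
its square, n an integer invertible in A, and U = Spec A[1/x]. Then H^1(U, mu_n) is isomorphic to
Z/n. (The source also computes H^0(U, mu_n) = mu_n(A) and gives a canonical isomorphism; only the
existence of an isomorphism is stated here.) -/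
theorem result (A : Type u) [CommRing A] [IsRegularLocalRing A]
    (hA : EtCoh.IsStrictlyHenselianLocalRing A) (x : A) (hx : x ∈ IsLocalRing.maximalIdeal A)
    (hx2 : x ∉ (IsLocalRing.maximalIdeal A) ^ 2) (n : ℕ) (hn : IsUnit (n : A)) :
    Nonempty (EtCoh.H (Spec (CommRingCat.of (Localization.Away x)))
      (EtCoh.mu (Spec (CommRingCat.of (Localization.Away x))) n) 1 ≃+ ZMod n) := by
  obtain ⟨hhens, hsc⟩ := hA
  have := Groth.Agent.CAlg1.isDomain_regular A
  have hp := Groth.Agent.EtPic91.prime_of_regular_parameter hx hx2
  have := Groth.Agent.CAlg4.PicRegular.subsingleton_pic (Submonoid.powers x)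
  obtain ⟨π, hπ, hker⟩ := Groth.Agent.EtPic91.exists_units_mod A hp hn
  exact Groth.Agent.EtPic91.nonempty_H1_mu_equiv (Localization.Away x) n
    (by simpa using hn.map (algebraMap A (Localization.Away x))) π hπ hker

end Groth.Agent.S3103
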