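import Groth.Statements.S3107
import Groth.Agent.Pure83.RelPurityFinal

set_option autoImplicit false
universe u
open CategoryTheory CategoryTheory.Limits AlgebraicGeometry
open Pi1

namespace Groth.Agent.S3107

/-- Let f : X -> S be smooth and j : U -> X an open immersion such that for every point s of S, every
point of the fibre X_s not lying over the image of j has local ring in X_s of Krull dimension at
least 2 (the complement of U has codimension at least 2 in every fibre). Then restriction of finite
etale covers from X to U is an equivalence of categories. -/
theorem result {X U S : Scheme.{u}} (f : X ⟶ S) [Smooth f]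
    (j : U ⟶ X) [IsOpenImmersion j]
    (hcodim : ∀ (s : S) (z : f.fiber s), (f.fiberι s).base z ∉ Set.range j →
      (2 : WithBot ℕ∞) ≤ ringKrullDim ((f.fiber s).presheaf.stalk z)) :
    (FEt.restrict j).IsEquivalence := by
  have hU : Pure83.FibCodimTwo f j.opensRange := fun x hx =>
    hcodim (f x) (f.asFiber x) fun h => hx ((f.fiberι_asFiber x) ▸ h)
  have := Pure83.isEquivalence_restrict_of_fibCodimTwo f hU
  have := FEt83.isEquivalence_restrict_of_iso j.isoOpensRange
  exact Functor.isEquivalence_of_iso ((FEt83.restrictCompIso j.isoOpensRange.hom j.opensRange.ι).symm ≪≫
    eqToIso (by rw [j.isoOpensRange_hom_ι]))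

end Groth.Agent.S3107
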