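import Groth.Statements.S3129
import Mathlib.NumberTheory.GaussSum
import Mathlib.NumberTheory.JacobiSum.Basic

set_option autoImplicit false
open BigOperators
open SGA4h

namespace Groth.Agent.S3129

/-- Let F be a finite field with q elements, N ≥ 1, χ₀, …, χ_N multiplicative characters of F with
values in a domain, not all trivial and with product 1, and Ψ a nontrivial additive character of F.
Put τ(χ, Ψ) = −Σ_{x ∈ F} Ψ(x) χ⁻¹(x) and J(χ) = (−1)^{N−1} Σ χ₁⁻¹(x₁) ⋯ χ_N⁻¹(x_N), the sum over x₁,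
…, x_N ∈ F^* with x₁ + ⋯ + x_N = −1. Then q · J(χ) = τ(χ₀, Ψ) ⋯ τ(χ_N, Ψ). -/
theorem result (F : Type) [Field F] [Fintype F] [DecidableEq F] (R : Type) [CommRing R] [IsDomain R]
    (N : ℕ) (hN : 1 ≤ N) (χ : Fin (N + 1) → MulChar F R) (hprod : ∏ i, χ i = 1) (hnt : ∃ i, χ i ≠ 1)
    (Ψ : AddChar F R) (hΨ : Ψ ≠ 1) :
    (Fintype.card F : R) * ((-1) ^ (N - 1) *
        ∑ x ∈ (Finset.univ : Finset (Fin N → Fˣ)).filter (fun x => ∑ i, ((x i : Fˣ) : F) = -1),
          ∏ i : Fin N, (χ i.succ)⁻¹ ((x i : Fˣ) : F)) =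
      ∏ i : Fin (N + 1), (-(∑ y : F, Ψ y * (χ i)⁻¹ y)) := by
  classical
  let c : Fin N → MulChar F R := fun i => (χ i.succ)⁻¹
  have hmul : ∀ (y : F), y ≠ 0 → ∀ (f : Fin N → MulChar F R), (∏ i, f i) y = ∏ i, f i y := by
    intro y hy f
    let ev : MulChar F R →* R :=
      { toFun := fun g => g y, map_one' := MulChar.one_apply (IsUnit.mk0 y hy), map_mul' := fun g g' => MulChar.mul_apply g g' y }
    exact map_prod ev f _
  have hadd : ∀ (v : Fin N → F), Ψ (∑ i, v i) = ∏ i, Ψ (v i) := fun v =>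
    map_prod Ψ.toMonoidHom (fun i => Multiplicative.ofAdd (v i)) Finset.univ
  have hφ : AddChar.IsPrimitive Ψ := AddChar.IsPrimitive.of_ne_one hΨ
  obtain ⟨i₀, hi₀⟩ : ∃ i : Fin N, c i ≠ 1 := by
    by_contra h
    push Not at h
    have h1 : ∀ i : Fin N, χ i.succ = 1 := fun i => inv_eq_one.mp (h i)
    obtain ⟨i, hi⟩ := hnt
    induction i using Fin.cases with
    | zero => exact hi (by simpa [Fin.prod_univ_succ, h1] using hprod)
    | succ i => exact hi (h1 i)
  have hzero : ∑ w : Fin N → F, ∏ i, c i (w i) = 0 := by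
    rw [← Fintype.prod_sum]
    exact Finset.prod_eq_zero (Finset.mem_univ i₀) (MulChar.sum_eq_zero_of_ne_one hi₀)
  have hJ : ∑ x ∈ (Finset.univ : Finset (Fin N → Fˣ)).filter (fun x => ∑ i, ((x i : Fˣ) : F) = -1),
        ∏ i : Fin N, c i ((x i : Fˣ) : F) =
      ∑ w : Fin N → F, if ∑ i, w i = -1 then ∏ i, c i (w i) else 0 := by
    rw [Finset.sum_filter]
    refine Fintype.sum_of_injective (fun x i => ((x i : Fˣ) : F)) ?_ _ _ ?_ (fun _ => rfl)
    · exact fun x y h => funext fun i => Units.ext (congrFun h i)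
    · intro w hw
      have : ∃ i, w i = 0 := by
        by_contra h
        push Not at h
        exact hw ⟨fun i => Units.mk0 (w i) (h i), rfl⟩
      obtain ⟨i, hi⟩ := this
      rw [Finset.prod_eq_zero (Finset.mem_univ i) (by rw [hi]; exact MulChar.map_zero _), ite_self]
  have hτ : ∏ i : Fin (N + 1), ∑ y : F, Ψ y * (χ i)⁻¹ y =
      (Fintype.card F : R) * ∑ w : Fin N → F, if ∑ i, w i = -1 then ∏ i, c i (w i) else 0 := by
    rw [Fintype.prod_sum, ← (Fin.consEquiv fun _ => F).sum_comp, Fintype.sum_prod_type]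
    have key : ∀ y : F, ∑ z : Fin N → F, ∏ i : Fin (N + 1), Ψ ((Fin.consEquiv fun _ => F) (y, z) i) *
        (χ i)⁻¹ ((Fin.consEquiv fun _ => F) (y, z) i) =
        ∑ w : Fin N → F, (∏ i, c i (w i)) * (Ψ (y * (1 + ∑ i, w i)) - if y = 0 then 1 else 0) := by
      intro y
      simp only [Fin.consEquiv_apply, Fin.prod_univ_succ, Fin.cons_zero, Fin.cons_succ, Finset.prod_mul_distrib]
      rcases eq_or_ne y 0 with rfl | hy
      · simp [MulChar.map_zero]
      · rw [← (Equiv.piCongrRight fun _ : Fin N => Equiv.mulLeft₀ y hy).sum_comp]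
        refine Finset.sum_congr rfl fun w _ => ?_
        have h1 : (χ 0)⁻¹ y * ∏ i, c i y = 1 := by
          have h2 := congrArg (fun f : MulChar F R => f⁻¹ y) hprod
          simp only [inv_one, MulChar.one_apply (IsUnit.mk0 y hy)] at h2
          rw [← h2, Fin.prod_univ_succ, mul_inv, MulChar.mul_apply, ← Finset.prod_inv_distrib]
          rw [hmul y hy]
        have h3 : Ψ y * ∏ i, Ψ (y * w i) = Ψ (y * (1 + ∑ i, w i)) := by
          rw [← hadd, ← AddChar.map_add_eq_mul, mul_add, mul_one, Finset.mul_sum]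
        simp only [Equiv.piCongrRight_apply, Pi.map_apply, Equiv.mulLeft₀_apply, c, map_mul, Finset.prod_mul_distrib,
          if_neg hy, sub_zero, ← h3]
        linear_combination (Ψ y * (∏ i, Ψ (y * w i)) * (∏ i, (χ i.succ)⁻¹ (w i))) * h1
    rw [Finset.sum_congr rfl fun y _ => key y, Finset.sum_comm]
    simp only [← Finset.mul_sum, Finset.sum_sub_distrib, AddChar.sum_mulShift _ hφ, Finset.sum_ite_eq',
      Finset.mem_univ, if_true, mul_sub, mul_one, hzero, sub_zero]
    rw [Finset.mul_sum]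
    refine Finset.sum_congr rfl fun w _ => ?_
    by_cases h : ∑ i, w i = -1
    · simp [h, mul_comm]
    · rw [if_neg h, if_neg fun h' => h (by linear_combination h'), Nat.cast_zero, mul_zero, mul_zero]
  rw [Finset.prod_neg, Finset.card_univ, Fintype.card_fin, hτ, ← hJ]
  obtain ⟨M, rfl⟩ := Nat.exists_eq_add_of_le' hN
  simp only [c, Nat.add_sub_cancel]
  ring

end Groth.Agent.S3129
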