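import Groth.Statements.S3133
import Mathlib.LinearAlgebra.Matrix.SchurComplement
import Mathlib.LinearAlgebra.Matrix.Block

set_option autoImplicit false
open Polynomial
open SGA4h

namespace Groth.Agent.S3133

/-- Let A be a square matrix over a commutative ring and n ≥ 1, and let B be the matrix on n blocks of
the endomorphism (x_1, …, x_n) ↦ (A x_n, x_1, …, x_{n-1}). Then det(1 − B·T) = det(1 − A·Tⁿ), i.e.
the reverse characteristic polynomial of B is that of A expanded by n. -/
theorem result (R : Type) [CommRing R] (m : Type) [Fintype m] [DecidableEq m]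
    (A : Matrix m m R) (n : ℕ) (hn : 1 ≤ n) :
    (Matrix.of fun (p q : Fin n × m) =>
        if p.1.val = 0 then (if q.1.val = n - 1 then A p.2 q.2 else 0)
        else (if q.1.val + 1 = p.1.val ∧ p.2 = q.2 then 1 else 0)).charpolyRev =
      Polynomial.expand R n A.charpolyRev := by
  classical
  let C' := (Polynomial.C : R →+* R[X])
  let S : Matrix (Fin n × m) (Fin n × m) R[X] :=
    Matrix.of fun p q => if q.1.val + 1 = p.1.val ∧ p.2 = q.2 then 1 else 0
  let L : Matrix (Fin n × m) (Fin n × m) R[X] := 1 - (Polynomial.X : R[X]) • S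
  let W : Matrix (Fin n × m) m R[X] := Matrix.of fun p j => Polynomial.X ^ (p.1.val + 1) * C' (A p.2 j)
  let V : Matrix m (Fin n × m) R[X] := Matrix.of fun j q => if q.1.val = n - 1 ∧ j = q.2 then 1 else 0
  have hL : L.det = 1 := by
    have ht : Matrix.BlockTriangular L (fun p => OrderDual.toDual p.1) := by
      intro p q hpq
      have h : p.1.val < q.1.val := hpq
      have h1 : p ≠ q := fun e => by subst e; omega
      simp [L, S, h1]
      omega
    rw [ht.det_fintype]
    refine Finset.prod_eq_one fun k _ => ?_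
    have : L.toSquareBlock (fun p => OrderDual.toDual p.1) k = 1 := by
      ext ⟨p, hp⟩ ⟨q, hq⟩ : 2
      have h : p.1 = q.1 := OrderDual.toDual_inj.mp (hp.trans hq.symm)
      simp [L, S, Matrix.toSquareBlock_def, Matrix.one_apply, h]
    rw [this, Matrix.det_one]
  have hLW : ∀ p j, (L * W) p j = if p.1.val = 0 then Polynomial.X * C' (A p.2 j) else 0 := by
    intro p j
    rw [show L * W = W - (Polynomial.X : R[X]) • (S * W) by simp only [L]; rw [Matrix.sub_mul, Matrix.one_mul, Matrix.smul_mul]]
    simp only [Matrix.sub_apply, Matrix.smul_apply, smul_eq_mul, Matrix.mul_apply]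
    obtain ⟨⟨p, hp⟩, i⟩ := p
    rcases p with _ | p
    · simp [W, S]
    · rw [Finset.sum_eq_single (⟨p, by omega⟩, i)]
      · simp [W, S]; ring
      · rintro ⟨⟨r, hr⟩, l⟩ _ hne
        simp only [S, Matrix.of_apply]
        rw [if_neg fun h => hne ?_, zero_mul]
        replace h : r + 1 = p + 1 ∧ i = l := h
        simp [show r = p by omega, h.2]
      · simp
  have hM : (1 : Matrix (Fin n × m) (Fin n × m) R[X]) - (Polynomial.X : R[X]) • (Matrix.of fun (p q : Fin n × m) =>
        if p.1.val = 0 then (if q.1.val = n - 1 then A p.2 q.2 else 0)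
        else (if q.1.val + 1 = p.1.val ∧ p.2 = q.2 then 1 else 0)).map C' = L * (1 - W * V) := by
    rw [mul_sub, mul_one, ← Matrix.mul_assoc]
    ext p q : 2
    rw [Matrix.sub_apply, Matrix.sub_apply, Matrix.mul_apply]
    simp only [hLW, L, S, V, Matrix.sub_apply, Matrix.smul_apply, Matrix.map_apply, Matrix.of_apply, smul_eq_mul]
    by_cases hp : p.1.val = 0
    · by_cases hq : q.1.val = n - 1 <;> simp [hp, hq, C']
    · simp [hp, C', apply_ite (Polynomial.C (R := R))]
  have hVW : V * W = (Polynomial.X : R[X]) ^ n • A.map C' := by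
    ext j k : 2
    rw [Matrix.mul_apply, Finset.sum_eq_single (⟨n - 1, by omega⟩, j)]
    · simp [V, W, Nat.sub_add_cancel hn]
    · rintro ⟨⟨r, hr⟩, l⟩ _ hne
      simp only [V, Matrix.of_apply]
      rw [if_neg fun h => hne ?_, zero_mul]
      replace h : r = n - 1 ∧ j = l := h
      simp [h.1, h.2]
    · simp
  rw [Matrix.charpolyRev, hM, Matrix.det_mul, hL, one_mul, Matrix.det_one_sub_mul_comm, hVW, Matrix.charpolyRev,
    AlgHom.map_det]
  congr 1
  ext j k : 2
  simp [C', Matrix.one_apply, apply_ite (Polynomial.expand R n)]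

end Groth.Agent.S3133
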