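import Groth.Statements.S3140
import Mathlib.RingTheory.Regular.RegularSequence
import Mathlib.Tactic.LinearCombination
import Mathlib.RingTheory.LocalRing.RingHom.Basic

set_option autoImplicit false
universe u
open RingTheory.Sequence
open SGA4h

namespace Groth.Agent.S3140

/-- Let A be a Noetherian local ring and u, v two regular sequences of elements of A generating the same
ideal. Then there is a finite chain of regular sequences generating that same ideal, starting at u
and ending at v, in which each sequence is obtained from the previous one either by a permutation or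
by changing only its last element. -/
theorem result (A : Type u) [CommRing A] [IsLocalRing A] [IsNoetherianRing A]
    (u v : List A) (hu : IsRegular A u) (hv : IsRegular A v) (huv : Ideal.span {x | x ∈ u} = Ideal.span {x | x ∈ v}) :
    ∃ ws : List (List A), ws.head? = some u ∧ ws.getLast? = some v ∧
      (∀ w ∈ ws, IsRegular A w ∧ Ideal.span {x | x ∈ w} = Ideal.span {x | x ∈ u}) ∧
      List.IsChain (fun w w' : List A => w.Perm w' ∨ (w.length = w'.length ∧ w.dropLast = w'.dropLast)) ws := by
  classical
  let sp : List A → Ideal A := Ideal.ofList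
  let Good : List A → Prop := fun w => IsRegular A w ∧ sp w = sp u
  let E : List A → List A → Prop := fun w w' =>
    (w.Perm w' ∨ (w.length = w'.length ∧ w.dropLast = w'.dropLast)) ∧ Good w'
  have hperm : ∀ {l l' : List A}, l.Perm l' → sp l = sp l' := fun h =>
    congrArg Ideal.span (Set.ext fun _ => h.mem_iff)
  have happ : ∀ l l' : List A, sp (l ++ l') = sp l ⊔ sp l' := Ideal.ofList_append
  have hsing : ∀ r : A, sp [r] = Ideal.span {r} := Ideal.ofList_singleton
  have hlast : ∀ (l : List A) (r : A), IsRegular A (l ++ [r]) → r ∉ sp l := by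
    intro l r h hr
    have h1 := ((isWeaklyRegular_append_iff A l [r]).mp h.toIsWeaklyRegular).2
    rw [isWeaklyRegular_singleton_iff] at h1
    apply h.top_ne_smul
    refine (top_le_iff.mp fun z _ => ?_).symm
    have h2 : (Submodule.Quotient.mk z : A ⧸ (sp l • ⊤ : Submodule A A)) = 0 := by
      refine h1 ?_
      simp only [smul_zero]
      rw [← Submodule.Quotient.mk_smul, Submodule.Quotient.mk_eq_zero]
      exact Submodule.smul_mem_smul hr trivial
    exact Submodule.smul_mono_left (le_sup_left.trans (happ l [r]).ge) ((Submodule.Quotient.mk_eq_zero _).mp h2)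
  have hsel : ∀ (l : List A) (x : A), x ∈ sp l → x ∈ IsLocalRing.maximalIdeal A * sp l ∨
      ∃ l₁ r l₂ c, l = l₁ ++ r :: l₂ ∧ IsUnit c ∧ x - c * r ∈ sp (l₁ ++ l₂) := by
    intro l
    induction l with
    | nil => exact fun x hx => Or.inl (by simp [sp] at hx ⊢; exact hx)
    | cons h t ih =>
      intro x hx
      simp only [sp, Ideal.ofList_cons, Submodule.mem_sup] at hx
      obtain ⟨a, ha, y, hy, rfl⟩ := hx
      obtain ⟨a, rfl⟩ := Ideal.mem_span_singleton'.mp ha
      by_cases hu : IsUnit a
      · exact Or.inr ⟨[], h, t, a, rfl, hu, by simpa using hy⟩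
      rcases ih y hy with hy' | ⟨l₁, r, l₂, c, rfl, hc, hy'⟩
      · refine Or.inl ?_
        simp only [sp, Ideal.ofList_cons, Ideal.mul_sup]
        exact add_mem (Submodule.mem_sup_left (Ideal.mul_mem_mul ((IsLocalRing.mem_maximalIdeal a).mpr hu)
          (Ideal.mem_span_singleton_self h))) (Submodule.mem_sup_right hy')
      · refine Or.inr ⟨h :: l₁, r, l₂, c, rfl, hc, ?_⟩
        simp only [sp, List.cons_append, Ideal.ofList_cons] at hy' ⊢
        rw [add_sub_assoc]
        exact add_mem (Submodule.mem_sup_left (Ideal.mul_mem_left _ a (Ideal.mem_span_singleton_self h)))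
          (Submodule.mem_sup_right hy')
  have key : ∀ j, j ≤ v.length → ∃ rest, Relation.ReflTransGen E u (v.take j ++ rest) ∧ Good (v.take j ++ rest) := by
    intro j
    induction j with
    | zero => exact fun _ => ⟨u, by simpa using Relation.ReflTransGen.refl, by simpa [Good] using hu⟩
    | succ j ih =>
      intro hj
      obtain ⟨rest, hR, hG⟩ := ih (by omega)
      let x := v[j]
      have htake : v.take (j + 1) = v.take j ++ [x] := (List.take_append_getElem (by omega)).symm
      have hv' : v.Perm ((v.take j ++ v.drop (j + 1)) ++ [x]) := by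
        conv_lhs => rw [← List.take_append_drop j v, List.drop_eq_getElem_cons (show j < v.length by omega)]
        rw [List.append_assoc]
        exact List.Perm.append_left _ (List.perm_append_singleton _ _).symm
      have hxJ : x ∉ sp (v.take j ++ v.drop (j + 1)) := hlast _ _ (IsLocalRing.isRegular_of_perm hv hv')
      have hspv : sp u = sp (v.take j ++ v.drop (j + 1)) ⊔ Ideal.span {x} := by
        rw [← hsing, ← happ, ← hperm hv']
        exact huv
      have hxw : x ∈ sp (v.take j) ⊔ sp rest := by
        rw [← happ, hG.2, hspv]
        exact Submodule.mem_sup_right (Ideal.mem_span_singleton_self x)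
      obtain ⟨p, hp, y, hy, hpy⟩ := Submodule.mem_sup.mp hxw
      rcases hsel rest y hy with hy' | ⟨l₁, r, l₂, c, rfl, hc, hy'⟩
      · exfalso
        have h1 : y ∈ IsLocalRing.maximalIdeal A * sp (v.take j ++ v.drop (j + 1)) ⊔
            IsLocalRing.maximalIdeal A * Ideal.span {x} := by
          rw [← Ideal.mul_sup, ← hspv, ← hG.2, happ]
          exact Ideal.mul_mono_right le_sup_right hy'
        obtain ⟨a, ha, b, hb, hab⟩ := Submodule.mem_sup.mp h1
        obtain ⟨e, he, rfl⟩ := Ideal.mem_mul_span_singleton.mp hb
        refine hxJ ((Ideal.unit_mul_mem_iff_mem _ (IsLocalRing.isUnit_one_sub_self_of_mem_nonunits e he)).mp ?_)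
        have h2 : (1 - e) * x = p + a := by linear_combination (-1 : A) * hpy - hab
        rw [h2]
        refine add_mem ?_ (Ideal.mul_le_right ha)
        rw [happ]
        exact Submodule.mem_sup_left hp
      · let L := v.take j ++ (l₁ ++ l₂)
        have hp1 : (v.take j ++ (l₁ ++ r :: l₂)).Perm (L ++ [r]) := by
          simp only [L, List.append_assoc]
          refine List.Perm.append_left _ (List.Perm.append_left _ ?_)
          exact (List.perm_append_singleton _ _).symm
        have hG1 : Good (L ++ [r]) := ⟨IsLocalRing.isRegular_of_perm hG.1 hp1, (hperm hp1).symm.trans hG.2⟩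
        have hd : x - c * r ∈ sp L := by
          rw [show x - c * r = p + (y - c * r) by rw [← hpy]; ring, happ]
          exact add_mem (Submodule.mem_sup_left hp) (Submodule.mem_sup_right hy')
        have hspan : sp (L ++ [x]) = sp (L ++ [r]) := by
          simp only [happ L, hsing]
          refine le_antisymm (sup_le le_sup_left ?_) (sup_le le_sup_left ?_) <;> rw [Ideal.span_singleton_le_iff_mem]
          · rw [show x = (x - c * r) + c * r by ring]
            exact add_mem (Submodule.mem_sup_left hd) (Submodule.mem_sup_right (Ideal.mul_mem_left _ c (Ideal.mem_span_singleton_self r)))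
          · rw [← Ideal.unit_mul_mem_iff_mem _ hc, show c * r = x - (x - c * r) by ring]
            exact sub_mem (Submodule.mem_sup_right (Ideal.mem_span_singleton_self x)) (Submodule.mem_sup_left hd)
        have hG2 : Good (L ++ [x]) := by
          refine ⟨⟨?_, ?_⟩, hspan.trans hG1.2⟩
          · have h1 := (isWeaklyRegular_append_iff A L [r]).mp hG1.1.toIsWeaklyRegular
            rw [isWeaklyRegular_singleton_iff] at h1
            refine (isWeaklyRegular_append_iff A L [x]).mpr ⟨h1.1, ?_⟩
            rw [isWeaklyRegular_singleton_iff]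
            intro a b hab
            refine h1.2 (hc.smul_left_cancel.mp ?_)
            have e : ∀ z : A ⧸ (sp L • ⊤ : Submodule A A), x • z = c • r • z := by
              intro z
              obtain ⟨z, rfl⟩ := Submodule.Quotient.mk_surjective _ z
              rw [← Submodule.Quotient.mk_smul, ← Submodule.Quotient.mk_smul, ← Submodule.Quotient.mk_smul,
                Submodule.Quotient.eq, smul_smul, ← sub_smul]
              exact Submodule.smul_mem_smul hd trivial
            exact (e a).symm.trans (hab.trans (e b))
          · exact ne_of_ne_of_eq hG1.1.top_ne_smul (congrArg (· • ⊤) hspan.symm)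
        have hp2 : (L ++ [x]).Perm (v.take (j + 1) ++ (l₁ ++ l₂)) := by
          simp only [L, htake, List.append_assoc]
          refine List.Perm.append_left _ ?_
          rw [← List.append_assoc]
          exact List.perm_append_singleton _ _
        have hG3 : Good (v.take (j + 1) ++ (l₁ ++ l₂)) :=
          ⟨IsLocalRing.isRegular_of_perm hG2.1 hp2, (hperm hp2).symm.trans hG2.2⟩
        exact ⟨l₁ ++ l₂, ((hR.tail ⟨Or.inl hp1, hG1⟩).tail ⟨Or.inr ⟨by simp, by simp⟩, hG2⟩).tail ⟨Or.inl hp2, hG3⟩, hG3⟩
  obtain ⟨rest, hR, hG⟩ := key v.length le_rfl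
  rw [List.take_length] at hR hG
  have hrest : rest = [] := by
    rcases List.eq_nil_or_concat rest with h | ⟨l, r, rfl⟩
    · exact h
    exfalso
    rw [List.concat_eq_append, ← List.append_assoc] at hG
    refine hlast _ _ hG.1 ?_
    have : r ∈ sp v := by
      rw [show sp v = sp u from huv.symm, ← hG.2]
      exact Ideal.subset_span (show r ∈ v ++ l ++ [r] by simp)
    rw [happ]
    exact Submodule.mem_sup_left this
  subst hrest
  rw [List.append_nil] at hR
  suffices ∀ w, Relation.ReflTransGen E u w → ∃ ws : List (List A), ws.head? = some u ∧ ws.getLast? = some w ∧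
      (∀ z ∈ ws, Good z) ∧
      List.IsChain (fun w w' : List A => w.Perm w' ∨ (w.length = w'.length ∧ w.dropLast = w'.dropLast)) ws by
    exact this v hR
  intro w hw
  induction hw with
  | refl => exact ⟨[u], rfl, rfl, by simpa [Good] using hu, by simp⟩
  | tail _ hstep ih =>
    obtain ⟨ws, h1, h2, h3, h4⟩ := ih
    refine ⟨ws ++ [_], by rw [List.head?_append, h1]; rfl, List.getLast?_concat, ?_, ?_⟩
    · intro z hz
      rcases List.mem_append.mp hz with hz | hz
      · exact h3 z hz
      · rw [List.mem_singleton.mp hz]; exact hstep.2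
    · refine List.isChain_append.mpr ⟨h4, by simp, ?_⟩
      intro a ha b hb
      rw [h2, Option.mem_some_iff] at ha
      simp at hb
      subst ha hb
      exact hstep.1

end Groth.Agent.S3140
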