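import Groth.Statements.S3196
import Groth.Agent.KosPow31.Basic

set_option autoImplicit false
universe u
open CategoryTheory CategoryTheory.Limits
open SGA6

namespace Groth.Agent.S3196

/-- Let A be a commutative ring, fs a Koszul-regular sequence in A generating the ideal J, and A' a
commutative A-algebra in which the image of fs is again Koszul-regular. Then for every n ≥ 0 and i ≥
1, Tor_i^A(Jⁿ, A') = 0 and Tor_i^A(Jⁿ/Jⁿ⁺¹, A') = 0 (Mathlib's Tor on A-modules). (The source also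
derives Jⁿ ⊗_A A' ≅ J'ⁿ and Jⁿ/Jⁿ⁺¹ ⊗_A A' ≅ J'ⁿ/J'ⁿ⁺¹ for J' = JA', and works with a regular
homomorphism from any finite projective module.) -/
theorem result (A : Type u) [CommRing A] (A' : Type u) [CommRing A'] [Algebra A A']
    (fs : List A) (hfs : LCI.IsKoszulRegularSeq A fs) (hfs' : LCI.IsKoszulRegularSeq A' (fs.map (algebraMap A A')))
    (n : ℕ) (i : ℕ) (hi : 1 ≤ i) :
    IsZero (((Tor (ModuleCat.{u} A) i).obj (ModuleCat.of A ↥(Ideal.span {x | x ∈ fs} ^ n))).obj (ModuleCat.of A A')) ∧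
    IsZero (((Tor (ModuleCat.{u} A) i).obj (ModuleCat.of A
      (↥(Ideal.span {x | x ∈ fs} ^ n) ⧸ Submodule.comap (Ideal.span {x | x ∈ fs} ^ n).subtype (Ideal.span {x | x ∈ fs} ^ (n + 1))))).obj (ModuleCat.of A A')) := by
  obtain ⟨q, rfl⟩ : ∃ q, i = q + 1 := ⟨i - 1, by omega⟩
  have hJ : Ideal.span (Set.range fs.get) = Ideal.span {x | x ∈ fs} := by
    congr 1
    ext x
    simp [List.mem_iff_get]
  have hf : CAlgX.IsQuasiRegular fs.get :=
    CAlg1.isQuasiRegular_of_isH1Regular fs.get (Div89.isH1Regular_of_koszul fs hfs)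
  have h0 : ∀ q, KosPow31.TorZero (A ⧸ Ideal.span (Set.range fs.get)) (ModuleCat.of A A') (q + 1) := by
    intro q
    rw [hJ]
    exact KosPow31.tor_quotient fs ((Koszul19.kR_iff fs).2 hfs) A' ((Koszul19.kR_iff _).2 hfs') q
  rw [← hJ]
  exact ⟨KosPow31.tor_pow fs.get hf _ h0 n q, KosPow31.tor_piece fs.get hf _ h0 n q⟩

end Groth.Agent.S3196
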