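import Groth.Statements.S3205
import Groth.Agent.Kvb46.ExtFilt

set_option autoImplicit false
universe u
open CategoryTheory CategoryTheory.Limits AlgebraicGeometry
attribute [local instance] HasDerivedCategory.standard
open SGA6

namespace Groth.Agent.S3205

/-- Let X be a scheme and 0 → E' → E → E'' → 0 a short exact sequence of finite locally free
O_X-modules. Let L'_i, L_n, L''_j be finite locally free exterior powers of E', E, E'' (in the sense
of the affine-local predicate ExtPow.IsExtPow). Then in K₀ of finite locally free modules, [L_n] =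
Σ_{i=0}^{n} [L'_i ⊗ L''_{n-i}] for every n. (The source constructs a filtration of Λⁿ E with
successive quotients Λ^i E' ⊗ Λ^{n-i} E''; the equality of classes is its consequence in K₀.) -/
theorem result (X : Scheme.{u}) (S : ShortComplex X.Modules) (hS : S.ShortExact)
    (h₁ : FlatMod.IsFinLocFree S.X₁) (h₂ : FlatMod.IsFinLocFree S.X₂) (h₃ : FlatMod.IsFinLocFree S.X₃)
    (L' L L'' : ℕ → X.Modules)
    (hL' : ∀ i, FlatMod.IsFinLocFree (L' i) ∧ ExtPow.IsExtPow i S.X₁ (L' i))
    (hL : ∀ i, FlatMod.IsFinLocFree (L i) ∧ ExtPow.IsExtPow i S.X₂ (L i))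
    (hL'' : ∀ i, FlatMod.IsFinLocFree (L'' i) ∧ ExtPow.IsExtPow i S.X₃ (L'' i)) (n : ℕ) :
    KZero.clSub (fun M : X.Modules => FlatMod.IsFinLocFree M) (L n) =
      ∑ i ∈ Finset.range (n + 1), KZero.clSub (fun M : X.Modules => FlatMod.IsFinLocFree M) (((DCoh.tensorBi (X := X)).obj (L' i)).obj (L'' (n - i))) := by
  haveI := Groth.Agent.Props58.LocFree.isQuasicoherent_of_isFinLocFree h₁
  haveI := Groth.Agent.Props58.LocFree.isQuasicoherent_of_isFinLocFree h₂
  haveI := Groth.Agent.Props58.LocFree.isQuasicoherent_of_isFinLocFree h₃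
  haveI : Fact S.ShortExact := ⟨hS⟩
  obtain ⟨A, rfl⟩ := Groth.Agent.Kvb46.exists_pow L' fun i => (hL' i).2
  obtain ⟨B, rfl⟩ := Groth.Agent.Kvb46.exists_pow L fun i => (hL i).2
  obtain ⟨D, rfl⟩ := Groth.Agent.Kvb46.exists_pow L'' fun i => (hL'' i).2
  exact Groth.Agent.Kvb46.cl_pow S A B D (Groth.Agent.Kvb46.fine_chart S h₁ h₃)
    (fun i j => Groth.Agent.Kvb46.isFinLocFree_tensor (hL' i).1 (hL'' j).1) n

end Groth.Agent.S3205
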