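import Mathlib.RingTheory.MvPowerSeries.Substitution
import Mathlib.RingTheory.MvPowerSeries.Derivative
import Mathlib.RingTheory.MvPowerSeries.Inverse
import Mathlib.RingTheory.MvPolynomial.Homogeneous
import Mathlib.RingTheory.LocalRing.MaximalIdeal.Basic
import Groth.Agent.An92.MorsePS

set_option autoImplicit false
namespace SGA7
end SGA7
open SGA7
open Groth.Agent.An92

namespace Groth.Agent.S3206

/-- Let k be a field and f a formal power series in n variables over k without constant term whose
partial derivatives ∂f/∂x_1, …, ∂f/∂x_n generate the maximal ideal of k[[x_1, …, x_n]]. Then there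
are power series ε_1, …, ε_n with no terms of degree < 2 and a quadratic form q such that f = q(x_1
+ ε_1, …, x_n + ε_n). -/
theorem result (k : Type) [Field k] (n : ℕ) (f : MvPowerSeries (Fin n) k)
    (hf0 : MvPowerSeries.constantCoeff f = 0)
    (hJ : Ideal.span (Set.range fun i : Fin n => MvPowerSeries.pderiv k i f) = IsLocalRing.maximalIdeal (MvPowerSeries (Fin n) k)) :
    ∃ (ε : Fin n → MvPowerSeries (Fin n) k) (_ : ∀ i (m : Fin n →₀ ℕ), m.degree < 2 → MvPowerSeries.coeff m (ε i) = 0)
      (q : MvPolynomial (Fin n) k) (_ : q.IsHomogeneous 2)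
      (_ : MvPowerSeries.HasSubst (fun i : Fin n => MvPowerSeries.X i + ε i)),
      f = MvPowerSeries.subst (fun i : Fin n => MvPowerSeries.X i + ε i) (q : MvPowerSeries (Fin n) k) := by
  classical
  have hpd : ∀ (l : Fin n) (v : MvPowerSeries (Fin n) k), v ∈ MvInv51.J 3 →
      MvPowerSeries.pderiv k l v ∈ MvInv51.J 2 := by
    intro l v hv
    rw [MvInv51.mem_J] at hv ⊢
    intro e he
    rw [MvPowerSeries.coeff_pderiv, hv _ (by rw [map_add, Finsupp.degree_single]; omega), zero_mul]
  have hmax : ∀ g : MvPowerSeries (Fin n) k,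
      g ∈ IsLocalRing.maximalIdeal (MvPowerSeries (Fin n) k) ↔ MvPowerSeries.constantCoeff g = 0 := by
    intro g
    rw [IsLocalRing.mem_maximalIdeal, mem_nonunits_iff, MvPowerSeries.isUnit_iff_constantCoeff,
      isUnit_iff_ne_zero, not_not]
  have hd0 : ∀ i, MvPowerSeries.constantCoeff (MvPowerSeries.pderiv k i f) = 0 := fun i =>
    (hmax _).1 (hJ ▸ Ideal.subset_span ⟨i, rfl⟩)
  have hf2 : CAlg6.OrdGE (1 + 1) f := by
    intro d hd
    by_cases h : d = 0
    · subst h; exact hf0
    · obtain ⟨j, hj⟩ : ∃ j, d j ≠ 0 := Finsupp.ne_iff.1 h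
      obtain ⟨c, rfl⟩ := exists_add_of_le
        (Finsupp.single_le_iff.2 (Nat.one_le_iff_ne_zero.2 hj) : Finsupp.single j 1 ≤ d)
      rw [map_add, Finsupp.degree_single] at hd
      obtain rfl : c = 0 := (Finsupp.degree_eq_zero_iff c).1 (by omega)
      have := hd0 j
      rw [← MvPowerSeries.coeff_zero_eq_constantCoeff_apply, MvPowerSeries.coeff_pderiv] at this
      simpa using this
  obtain ⟨g, hg, hfg⟩ := CAlg6.exists_decomp hf2
  choose g2 _ hgg using fun i => CAlg6.exists_decomp (N := 0) (hg i)
  let c : Fin n → Fin n → k := fun i j => MvPowerSeries.constantCoeff (g2 i j)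
  obtain ⟨H, hH, hfH⟩ : ∃ H ∈ MvInv51.J (R := k) (τ := Fin n) (2 + 1),
      f = MorsePS.qf c MvPowerSeries.X + H := by
    refine ⟨f - MorsePS.qf c MvPowerSeries.X, ?_, by ring⟩
    have : f - MorsePS.qf c MvPowerSeries.X =
        ∑ i, ∑ j, MvPowerSeries.X i * MvPowerSeries.X j * (g2 i j - MvPowerSeries.C (c i j)) := by
      rw [hfg, MorsePS.qf, ← Finset.sum_sub_distrib]
      refine Finset.sum_congr rfl fun i _ => ?_
      rw [hgg i, Finset.mul_sum, ← Finset.sum_sub_distrib]
      exact Finset.sum_congr rfl fun j _ => by ring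
    rw [this]
    refine sum_mem fun i _ => sum_mem fun j _ =>
      MvInv51.mul_mem_J (MvInv51.mul_mem_J (MvInv51.X_mem_J_one i) (MvInv51.X_mem_J_one j))
        (MvInv51.mem_J_one.2 (by simp [c]))
  have hdX : ∀ l i : Fin n, MvPowerSeries.pderiv k l (MvPowerSeries.X i) =
      if l = i then (1 : MvPowerSeries (Fin n) k) else 0 := by
    intro l i
    ext e
    rw [MvPowerSeries.coeff_pderiv, MvPowerSeries.coeff_X]
    by_cases h : l = i
    · subst h
      by_cases he : e = 0
      · subst he; simp
      · rw [if_pos rfl, MvPowerSeries.coeff_one, if_neg he, if_neg, zero_mul]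
        intro h'
        exact he (by simpa using h')
    · rw [if_neg h, map_zero, if_neg, zero_mul]
      intro h'
      have := DFunLike.congr_fun h' l
      simp [Ne.symm h] at this
  have hlin : ∀ l, MvPowerSeries.pderiv k l f - MorsePS.lf c l ∈ MvInv51.J 2 := by
    intro l
    have hq : MvPowerSeries.pderiv k l (MorsePS.qf c MvPowerSeries.X) = MorsePS.lf c l := by
      simp only [MorsePS.qf, map_sum, Derivation.leibniz, smul_eq_mul, hdX,
        show ∀ a : k, MvPowerSeries.pderiv k l (MvPowerSeries.C a) = 0 from fun a => by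
          rw [MvPowerSeries.c_eq_algebraMap]; exact Derivation.map_algebraMap _ _]
      simp only [mul_ite, mul_one, mul_zero, Finset.sum_add_distrib,
        Finset.sum_ite_eq, Finset.mem_univ, if_true, add_zero, Finset.sum_ite_irrel,
        Finset.sum_const_zero, MorsePS.lf, map_add, add_mul, mul_add]
      exact add_comm _ _
    rw [hfH, map_add, hq, add_sub_cancel_left]
    exact hpd l H hH
  have hX : ∀ j, ∃ B : Fin n → k,
      MvPowerSeries.X j = ∑ i, MvPowerSeries.C (B i) * MorsePS.lf c i := by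
    intro j
    have hj : MvPowerSeries.X j ∈
        Ideal.span (Set.range fun i : Fin n => MvPowerSeries.pderiv k i f) := by
      rw [hJ, hmax]; exact MvPowerSeries.constantCoeff_X j
    obtain ⟨a, ha⟩ := Ideal.mem_span_range_iff_exists_fun.1 hj
    refine ⟨fun i => MvPowerSeries.constantCoeff (a i), ?_⟩
    set T := MvPowerSeries.X j - ∑ i, MvPowerSeries.C (MvPowerSeries.constantCoeff (a i)) *
      MorsePS.lf c i with hT
    have h2 : T ∈ MvInv51.J 2 := by
      rw [hT, ← ha, ← Finset.sum_sub_distrib]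
      refine sum_mem fun i _ => ?_
      rw [show a i * MvPowerSeries.pderiv k i f -
          MvPowerSeries.C (MvPowerSeries.constantCoeff (a i)) * MorsePS.lf c i =
          (a i - MvPowerSeries.C (MvPowerSeries.constantCoeff (a i))) * MvPowerSeries.pderiv k i f +
          MvPowerSeries.C (MvPowerSeries.constantCoeff (a i)) *
            (MvPowerSeries.pderiv k i f - MorsePS.lf c i) by ring]
      exact add_mem (MvInv51.mul_mem_J (m := 1) (n := 1) (MvInv51.mem_J_one.2 (by simp))
        (MvInv51.mem_J_one.2 (hd0 i))) (Ideal.mul_mem_left _ _ (hlin i))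
    rw [← sub_eq_zero, ← hT]
    ext e
    rw [map_zero]
    rcases lt_or_ge e.degree 2 with he | he
    · exact MvInv51.mem_J.1 h2 e he
    · have h1 : ∀ i, e ≠ Finsupp.single i 1 := fun i h => by simp [h] at he
      simp [hT, MorsePS.lf, MvPowerSeries.coeff_X, h1, add_mul]
  choose B hB using hX
  obtain ⟨ε, hε, hεq⟩ := MorsePS.exists_subst c B hB le_rfl H hH
  let q : MvPolynomial (Fin n) k :=
    ∑ i, ∑ j, MvPolynomial.C (c i j) * (MvPolynomial.X i * MvPolynomial.X j)
  have hq : q.IsHomogeneous 2 := MvPolynomial.IsHomogeneous.sum _ _ _ fun i _ =>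
    MvPolynomial.IsHomogeneous.sum _ _ _ fun j _ =>
      ((MvPolynomial.isHomogeneous_X k i).mul (MvPolynomial.isHomogeneous_X k j)).C_mul _
  have hsub : MvPowerSeries.HasSubst (fun i : Fin n => MvPowerSeries.X i + ε i) :=
    MvPowerSeries.hasSubst_of_constantCoeff_zero fun i => by
      simp [MvInv51.mem_J_one.1 (MvInv51.J_antitone one_le_two (hε i))]
  refine ⟨ε, fun i m hm => MvInv51.mem_J.1 (hε i) m hm, q, hq, hsub, ?_⟩
  rw [MvPowerSeries.subst_coe, hfH, ← hεq]
  simp [q, MorsePS.qf, MvPowerSeries.c_eq_algebraMap]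

end Groth.Agent.S3206
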