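import Mathlib
import Mathlib.AlgebraicGeometry.Morphisms.QuasiFinite
import Mathlib.AlgebraicGeometry.Morphisms.Flat
import Mathlib.AlgebraicGeometry.Morphisms.Separated
import Mathlib.AlgebraicGeometry.Morphisms.FinitePresentation
import Mathlib.AlgebraicGeometry.Morphisms.OpenImmersion
import Mathlib.AlgebraicGeometry.ResidueField
import Groth.Agent.SchBasics.Closure

set_option autoImplicit false
universe u
open CategoryTheory CategoryTheory.Limits AlgebraicGeometry
namespace SGA7
end SGA7
open SGA7
open Groth.Agent

namespace Groth.Agent.S3207

lemma isClosedMap_of_homeo {X Y : Scheme.{u}} (g : X ⟶ Y) [UniversallyInjective g]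
    [UniversallyOpen g] [Surjective g] : UniversallyClosed g := by
  constructor
  intro X' Y' i₁ i₂ f' H
  have : UniversallyInjective f' := MorphismProperty.of_isPullback H.flip inferInstance
  have : UniversallyOpen f' := MorphismProperty.of_isPullback H.flip inferInstance
  have : Surjective f' := MorphismProperty.of_isPullback H.flip inferInstance
  exact (IsHomeomorph.mk f'.continuous f'.isOpenMap ⟨f'.injective, f'.surjective⟩).isClosedMap


/-- Let g : T -> S be locally quasi-finite, of finite presentation, separated and flat. If for every
maximal point s of S (a point with no proper generization) the fibre of g over s is either empty or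
mapped isomorphically onto Spec κ(s) (rank at most 1), then g is an open immersion. -/
theorem result {T S : Scheme.{u}} (g : T ⟶ S) [LocallyQuasiFinite g]
    [LocallyOfFinitePresentation g] [QuasiCompact g] [IsSeparated g] [Flat g]
    (h : ∀ s : S, (∀ t : S, t ⤳ s → t = s) →
      IsEmpty ↑(pullback g (S.fromSpecResidueField s)) ∨ IsIso (pullback.snd g (S.fromSpecResidueField s))) :
    IsOpenImmersion g := by
  classical
  have hmax : ∀ s : S, ∃ z : S, z ⤳ s ∧ ∀ t : S, t ⤳ z → t = z := fun s => by
    obtain ⟨z, hz, hzs⟩ := SchBasics.exists_maximal_specializes s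
    exact ⟨z, hzs, (SchBasics.closure_singleton_mem_irreducibleComponents_iff z).1 hz⟩
  -- universal injectivity
  have hui : UniversallyInjective g := by
    rw [UniversallyInjective.iff_diagonal, surjective_iff]
    intro w
    by_contra hw
    let p : pullback g g ⟶ S := pullback.fst g g ≫ g
    have hflat : Flat p := inferInstance
    have hlfp : LocallyOfFinitePresentation p := inferInstance
    have hclosed : IsClosed (Set.range (pullback.diagonal g).base) :=
      (pullback.diagonal g).isClosedEmbedding.isClosed_range
    have hopen : IsOpen (p.base '' (Set.range (pullback.diagonal g).base)ᶜ) :=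
      p.isOpenMap _ hclosed.isOpen_compl
    obtain ⟨z, hz, hzmax⟩ := hmax (p.base w)
    obtain ⟨w', hw', hw'z⟩ : z ∈ p.base '' (Set.range (pullback.diagonal g).base)ᶜ :=
      hz.mem_open hopen ⟨w, fun hw' => hw hw', rfl⟩
    apply hw'
    subst hw'z
    let φ := (pullback g g).fromSpecResidueField w'
    let ψ : Spec ((pullback g g).residueField w') ⟶ Spec (S.residueField (p.base w')) :=
      Spec.map (p.residueFieldMap w')
    have hψ : ψ ≫ S.fromSpecResidueField (p.base w') = φ ≫ p :=
      p.SpecMap_residueFieldMap_fromSpecResidueField w'
    let l₁ := pullback.lift (f := g) (g := S.fromSpecResidueField (p.base w'))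
      (φ ≫ pullback.fst g g) ψ (by rw [hψ, Category.assoc])
    let l₂ := pullback.lift (f := g) (g := S.fromSpecResidueField (p.base w'))
      (φ ≫ pullback.snd g g) ψ (by rw [hψ, Category.assoc, ← pullback.condition])
    have hl : l₁ = l₂ := by
      rcases h _ hzmax with he | hi
      · exact (he.false (l₁.base (IsLocalRing.closedPoint _))).elim
      · rw [← cancel_mono (pullback.snd g (S.fromSpecResidueField (p.base w')))]
        exact (pullback.lift_snd _ _ _).trans (pullback.lift_snd _ _ _).symm
    have heq : φ ≫ pullback.fst g g = φ ≫ pullback.snd g g := by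
      exact ((pullback.lift_fst _ _ _).symm.trans (congrArg (· ≫ pullback.fst _ _) hl)).trans
        (pullback.lift_fst _ _ _)
    have hφ : φ = (φ ≫ pullback.fst g g) ≫ pullback.diagonal g := by
      apply pullback.hom_ext <;> simp [heq]
    refine ⟨(φ ≫ pullback.fst g g).base (IsLocalRing.closedPoint _), ?_⟩
    exact (congrArg (fun m : Spec ((pullback g g).residueField w') ⟶ pullback g g => m.base (IsLocalRing.closedPoint _)) hφ).symm.trans
      (Scheme.fromSpecResidueField_apply _ _)
  -- factor through the open image
  let U : S.Opens := ⟨Set.range g.base, g.isOpenMap.isOpen_range⟩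
  let g' : T ⟶ U := IsOpenImmersion.lift U.ι g (by simp [U])
  have heq : g = g' ≫ U.ι := by simp [g']
  have hU : IsOpenImmersion U.ι := U.instIsOpenImmersionι
  have hpb : IsPullback (𝟙 T) g' g U.ι := by
    refine ⟨⟨by simp [← heq]⟩, ⟨PullbackCone.IsLimit.mk _ (fun c => c.fst) (fun c => by simp)
      (fun c => ?_) (fun c m h₁ _ => ?_)⟩⟩
    · rw [← cancel_mono U.ι, Category.assoc, ← heq]
      exact c.condition
    · simpa using h₁
  have : Flat g' := MorphismProperty.of_isPullback hpb inferInstance
  have : LocallyOfFinitePresentation g' := MorphismProperty.of_isPullback hpb inferInstance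
  have : IsSeparated g' := MorphismProperty.of_isPullback hpb inferInstance
  have : QuasiCompact g' := MorphismProperty.of_isPullback hpb inferInstance
  have : LocallyQuasiFinite g' := MorphismProperty.of_isPullback hpb inferInstance
  have : UniversallyInjective g' := MorphismProperty.of_isPullback hpb hui
  have : Surjective g' := by
    constructor
    rintro ⟨y, hy⟩
    obtain ⟨x, hx⟩ := hy
    refine ⟨x, U.ι.injective ?_⟩
    rw [← Scheme.Hom.comp_apply, ← heq]
    exact hx
  have : UniversallyClosed g' := isClosedMap_of_homeo g'
  have : IsProper g' := {}
  have : IsFinite g' := IsFinite.of_isProper_of_locallyQuasiFinite g'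
  have hrank : g'.finrank = 1 := by
    funext u
    obtain ⟨z, hz, hzmax⟩ := hmax (U.ι.base u)
    have hzU : z ∈ U := hz.mem_open U.isOpen u.2
    let u' : U := ⟨z, hzU⟩
    have hu : u' ⤳ u := by
      exact U.ι.isOpenEmbedding.isEmbedding.isInducing.specializes_iff.1 hz
    have hone : g'.finrank u' = 1 := by
      have hκ : IsOpenImmersion U.ι := hU
      let φ : Spec (S.residueField z) ⟶ U :=
        IsOpenImmersion.lift U.ι (S.fromSpecResidueField z) (by
          rw [Scheme.range_fromSpecResidueField]
          simp [hzU])
      have hφ : φ ≫ U.ι = S.fromSpecResidueField z := IsOpenImmersion.lift_fac _ _ _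
      have hφu : φ.base (IsLocalRing.closedPoint (S.residueField z)) = u' := by
        apply U.ι.injective
        exact (congrArg (fun m : Spec (S.residueField z) ⟶ S => m.base (IsLocalRing.closedPoint _)) hφ).trans
          (Scheme.fromSpecResidueField_apply _ _)
      have : IsIso (pullback.snd g' φ) := by
        let m : pullback g' φ ⟶ pullback g (S.fromSpecResidueField z) :=
          pullback.lift (pullback.fst g' φ) (pullback.snd g' φ) (by
            conv_lhs => rw [heq]
            rw [pullback.condition_assoc, hφ])
        rcases h z hzmax with he | hi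
        · exfalso
          obtain ⟨x, hx⟩ := g'.surjective u'
          have hgx : g x = z := by
            conv_lhs => rw [heq]
            rw [Scheme.Hom.comp_apply, hx]
            rfl
          obtain ⟨q, -, -⟩ := Scheme.Pullback.exists_preimage_pullback (f := g)
            (g := S.fromSpecResidueField z) x (IsLocalRing.closedPoint (S.residueField z))
            (hgx.trans (Scheme.fromSpecResidueField_apply _ _).symm)
          exact he.false q
        · let n : Spec (S.residueField z) ⟶ pullback g' φ := pullback.lift
            (inv (pullback.snd g (S.fromSpecResidueField z)) ≫ pullback.fst g (S.fromSpecResidueField z))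
            (𝟙 _) (by
              rw [← cancel_mono U.ι, Category.assoc, Category.assoc, ← heq, pullback.condition,
                IsIso.inv_hom_id_assoc, Category.id_comp, hφ])
          refine ⟨n, ?_, pullback.lift_snd _ _ _⟩
          have hm : pullback.snd g' φ ≫ inv (pullback.snd g (S.fromSpecResidueField z)) = m := by
            rw [IsIso.comp_inv_eq]; exact (pullback.lift_snd _ _ _).symm
          apply pullback.hom_ext
          · rw [Category.assoc, Category.id_comp, show n ≫ pullback.fst g' φ =
              inv (pullback.snd g (S.fromSpecResidueField z)) ≫ pullback.fst g (S.fromSpecResidueField z) from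
                pullback.lift_fst _ _ _, ← Category.assoc, hm]
            exact pullback.lift_fst _ _ _
          · rw [Category.assoc, Category.id_comp,
              show n ≫ pullback.snd g' φ = 𝟙 _ from pullback.lift_snd _ _ _]
            exact Category.comp_id _
      have h1 := congrFun ((Scheme.Hom.isIso_iff_finrank_eq (pullback.snd g' φ)).1 this)
        (IsLocalRing.closedPoint (S.residueField z))
      exact ((congrArg g'.finrank hφu).symm.trans
        (Scheme.Hom.finrank_pullback_snd g' φ _).symm).trans h1
    have hop := (Scheme.Hom.isLocallyConstant_finrank g').isOpen_fiber (g'.finrank u)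
    exact ((hu.mem_open hop rfl).symm.trans hone)
  have : IsIso g' := (Scheme.Hom.isIso_iff_finrank_eq g').2 hrank
  rw [heq]
  infer_instance

end Groth.Agent.S3207
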