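import Groth.Statements.S3208
import Mathlib


set_option autoImplicit false
open SGA7

namespace Groth.Agent.S3208

variable {E : Type} [CommRing E] [NoZeroSMulDivisors ℤ E] [Module.Finite ℤ E]

theorem eq_zero_of_forall_pow_dvd {l : ℕ} (hl : 2 ≤ l) (w : E)
    (h : ∀ k : ℕ, ((l ^ k : ℕ) : E) ∣ w) : w = 0 := by
  have : Module.Free ℤ E := Module.free_of_finite_type_torsion_free'
  let b := Module.Free.chooseBasis ℤ E
  refine b.ext_elem fun i => ?_
  simp only [map_zero, Finsupp.coe_zero, Pi.zero_apply]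
  by_contra hne
  obtain ⟨t, ht⟩ := h ((b.repr w i).natAbs + 1)
  have hdvd : ((l ^ ((b.repr w i).natAbs + 1) : ℕ) : ℤ) ∣ b.repr w i := by
    refine ⟨b.repr t i, ?_⟩
    have := congrArg (fun z => b.repr z i) ht
    simp only [← nsmul_eq_mul, map_nsmul, Finsupp.smul_apply] at this
    exact this.trans (nsmul_eq_mul _ _)
  have h1 := Nat.le_of_dvd (Int.natAbs_pos.2 hne) (Int.natCast_dvd.1 hdvd)
  have h2 := Nat.lt_pow_self (n := (b.repr w i).natAbs + 1) (by omega : 1 < l)
  omega

theorem pow_expand (p N : ℕ) (hp : 2 ≤ p) (w : E) :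
    ∃ s : E, (1 + (N : E) * w) ^ p = 1 + (p : E) * ((N : E) * w)
      + ((N : E) * w) ^ 2 * s := by
  obtain ⟨k, rfl⟩ := Nat.exists_eq_add_of_le hp
  induction k with
  | zero => exact ⟨1, by push_cast; ring⟩
  | succ k ih =>
    obtain ⟨s, hs⟩ := ih (Nat.le_add_right _ _)
    exact ⟨s * (1 + (N : E) * w) + ((2 + k : ℕ) : E),
      by rw [← add_assoc, pow_succ, hs]; push_cast; ring⟩

theorem pow_expand_prime (p N : ℕ) (hp : p.Prime) (hodd : 3 ≤ p) (w : E) :
    ∃ s : E, (1 + (N : E) * w) ^ p = 1 + (p : E) * ((N : E) * w)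
      + (p : E) * ((N : E) * w) ^ 2 * s + ((N : E) * w) ^ p := by
  refine ⟨∑ j ∈ Finset.Ico 2 p, ((N : E) * w) ^ (j - 2) * ((p.choose j / p : ℕ) : E), ?_⟩
  rw [add_comm (1 : E), add_pow]
  simp only [one_pow, mul_one]
  rw [Finset.range_eq_Ico, Finset.sum_Ico_succ_top (Nat.zero_le _),
    Finset.sum_eq_sum_Ico_succ_bot (by omega : 0 < p),
    Finset.sum_eq_sum_Ico_succ_bot (by omega : 1 < p), Finset.mul_sum]
  have : ∀ j ∈ Finset.Ico 2 p, ((N : E) * w) ^ j * (p.choose j : E) =
      (p : E) * ((N : E) * w) ^ 2 * (((N : E) * w) ^ (j - 2) * ((p.choose j / p : ℕ) : E)) := by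
    intro j hj
    simp only [Finset.mem_Ico] at hj
    have hd : p ∣ p.choose j := hp.dvd_choose_self (by omega) hj.2
    conv_lhs => rw [← Nat.mul_div_cancel' hd, show j = 2 + (j - 2) by omega, pow_add]
    rw [show 2 + (j - 2) = j by omega]
    push_cast
    ring
  rw [Finset.sum_congr rfl this]
  simp
  ring

theorem key (hsep : ∀ (l : ℕ), 2 ≤ l → ∀ w t : E, w = (l : E) * t * w → w = 0)
    (p : ℕ) (hp : p.Prime) (N : ℕ) (hN : 3 ≤ N) (w : E) (hxp : (1 + (N : E) * w) ^ p = 1) :
    w = 0 := by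
  have cancel : ∀ y : E, (N : E) * y = 0 → y = 0 := fun y hy => by
    have h : (N : ℤ) • y = 0 := by simpa [zsmul_eq_mul] using hy
    rcases smul_eq_zero.1 h with h | h
    · omega
    · exact h
  obtain ⟨s, hs⟩ := pow_expand p N hp.two_le w
  have h1 : (p : E) * w + (N : E) * w ^ 2 * s = 0 := cancel _ (by
    linear_combination hxp - hs)
  by_cases hpd : ∃ l, l.Prime ∧ l ∣ N ∧ l ≠ p
  · obtain ⟨l, hl, ⟨c, hc⟩, hne⟩ := hpd
    have hcop : IsCoprime (p : ℤ) (l : ℤ) :=
      Nat.isCoprime_iff_coprime.2 ((Nat.coprime_primes hp hl).2 (Ne.symm hne))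
    obtain ⟨α, β, hab⟩ := hcop
    have hab' : (α : E) * p + (β : E) * l = 1 := by
      simpa using congrArg (Int.cast : ℤ → E) hab
    refine hsep l hl.two_le w ((β : E) - α * c * w * s) ?_
    rw [hc] at h1
    push_cast at h1
    linear_combination (α : E) * h1 - w * hab'
  · push Not at hpd
    have hpN : p ∣ N := by
      obtain ⟨l, hl, hlN⟩ := Nat.exists_prime_and_dvd (show N ≠ 1 by omega)
      exact hpd l hl hlN ▸ hlN
    obtain ⟨c, hc⟩ := hpN
    have cancelp : ∀ y : E, (p : E) * y = 0 → y = 0 := fun y hy => by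
      have h : (p : ℤ) • y = 0 := by simpa [zsmul_eq_mul] using hy
      rcases smul_eq_zero.1 h with h | h
      · exact absurd (by omega : p = 0) hp.ne_zero
      · exact h
    rcases Nat.lt_or_ge p 3 with h2 | h3
    · obtain rfl : p = 2 := by have := hp.two_le; omega
      have hc2 : 2 ∣ c := by
        by_contra hodd
        obtain ⟨l, hl, hlc⟩ := Nat.exists_prime_and_dvd (show c ≠ 1 by omega)
        have := hpd l hl (hc ▸ Dvd.dvd.mul_left hlc 2)
        exact hodd (this ▸ hlc)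
      obtain ⟨d, rfl⟩ := hc2
      refine hsep 2 (by norm_num) w (-(d : E) * w * s) ?_
      rw [hc] at h1
      push_cast at h1 ⊢
      have := cancelp (w + 2 * (d : E) * w ^ 2 * s) (by push_cast; linear_combination h1)
      linear_combination this
    · obtain ⟨s, hs⟩ := pow_expand_prime p N hp h3 w
      obtain ⟨r, rfl⟩ := Nat.exists_eq_add_of_le h3
      have h3' : ((3 + r : ℕ) : E) * w + ((3 + r : ℕ) : E) * (N : E) * w ^ 2 * s
          + (N : E) ^ (2 + r) * w ^ (3 + r) = 0 := cancel _ (by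
        linear_combination hxp - hs)
      rw [hc] at h3'
      refine hsep (3 + r) hp.two_le w (-((c : E) * w * s)
        - (c : E) ^ (2 + r) * ((3 + r : ℕ) : E) ^ r * w ^ (2 + r)) ?_
      have := cancelp _ (show ((3 + r : ℕ) : E) * (w + ((3 + r : ℕ) : E) * (c : E) * w ^ 2 * s
          + ((3 + r : ℕ) : E) ^ (1 + r) * (c : E) ^ (2 + r) * w ^ (3 + r)) = 0 by
        push_cast at h3' ⊢
        rw [mul_pow, add_comm 2 r, pow_add (3 + (r : E))] at h3'
        linear_combination h3')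
      linear_combination this


/-- Let E be a commutative ring which is finitely generated and torsion-free as an additive group, u an
element of E of finite multiplicative order (u^m = 1 for some m > 0), and n ≥ 2 an integer with u ≡
1 modulo nE (i.e. 1 - u = n·v for some v ∈ E). Then u² = 1, and if n ≥ 3 then u = 1. -/
theorem result (E : Type) [CommRing E] [NoZeroSMulDivisors ℤ E] [Module.Finite ℤ E] (u : E) (m : ℕ) (hm : 0 < m)
    (hu : u ^ m = 1) (n : ℕ) (hn : 2 ≤ n) (hcong : ∃ v : E, 1 - u = (n : E) * v) :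
    u ^ 2 = 1 ∧ (3 ≤ n → u = 1) := by
  have hsep : ∀ (l : ℕ), 2 ≤ l → ∀ w t : E, w = (l : E) * t * w → w = 0 := by
    intro l hl w t h
    refine eq_zero_of_forall_pow_dvd hl w (fun k => ⟨t ^ k * w, ?_⟩)
    induction k with
    | zero => simp
    | succ k ih =>
      conv_lhs => rw [h, ih]
      push_cast
      ring
  have hprime : ∀ (x : E) (p : ℕ), p.Prime → ∀ N : ℕ, 3 ≤ N → ∀ w : E,
      x = 1 + (N : E) * w → x ^ p = 1 → x = 1 := by
    intro x p hp N hN w hx hxp
    suffices hw : w = 0 by simp [hx, hw]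
    exact key hsep p hp N hN w (hx ▸ hxp)
  have hall : ∀ m : ℕ, 0 < m → ∀ (x : E) (N : ℕ), 3 ≤ N → (∃ w : E, x = 1 + (N : E) * w) →
      x ^ m = 1 → x = 1 := by
    intro m
    induction m using Nat.strong_induction_on with
    | _ m ih =>
      intro hm x N hN hx hxm
      rcases eq_or_ne m 1 with rfl | hm1
      · simpa using hxm
      obtain ⟨p, hp, k, rfl⟩ : ∃ p, p.Prime ∧ p ∣ m :=
        Nat.exists_prime_and_dvd hm1
      have hk : 0 < k := Nat.pos_of_mul_pos_left hm
      obtain ⟨w, hw⟩ := hx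
      have hd : (N : E) ∣ x ^ k - 1 := by
        have h1 : (N : E) ∣ x - 1 := ⟨w, by rw [hw]; ring⟩
        simpa using h1.trans (sub_dvd_pow_sub_pow x 1 k)
      obtain ⟨w', hw'⟩ := hd
      have hxk : x ^ k = 1 := by
        refine hprime _ p hp N hN w' (by linear_combination hw') ?_
        rw [← pow_mul, mul_comm, hxm]
      exact ih k (by nlinarith [hp.two_le]) hk x N hN ⟨w, hw⟩ hxk
  obtain ⟨v, hv⟩ := hcong
  have hu' : u = 1 - (n : E) * v := by linear_combination -hv
  refine ⟨?_, fun h3 => hall m hm u n h3 ⟨-v, by rw [hu']; ring⟩ hu⟩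
  rcases Nat.lt_or_ge n 3 with h3 | h3
  · obtain rfl : n = 2 := by omega
    refine hall m hm (u ^ 2) 4 (by norm_num) ⟨v ^ 2 - v, by rw [hu']; push_cast; ring⟩ ?_
    rw [← pow_mul, mul_comm, pow_mul, hu, one_pow]
  · rw [hall m hm u n h3 ⟨-v, by rw [hu']; ring⟩ hu, one_pow]

end Groth.Agent.S3208
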