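import Groth.Statements.S3209
import Mathlib

set_option autoImplicit false
universe u
open TensorProduct
open SGA7

namespace Groth.Agent.S3209

/-- Let f : B' → B be a surjective map of R-algebras with kernel J, g : C → B a map of R-algebras, P =
B' ×_B C their fibre product (the equalizer of f ∘ pr₁ and g ∘ pr₂ in B' × C) and S an R-algebra
such that S ⊗_R J → S ⊗_R B' is injective (this holds when Tor_1^R(B, S) = 0, the published
hypothesis, and in particular when S is flat). Then the canonical map S ⊗_R P → (S ⊗_R B') ×_{S ⊗_R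
B} (S ⊗_R C) is bijective: it is injective, and every pair with the same image in S ⊗_R B comes from
S ⊗_R P. -/
theorem result (R B' B C S : Type u) [CommRing R] [CommRing B'] [CommRing B] [CommRing C]
    [CommRing S] [Algebra R B'] [Algebra R B] [Algebra R C] [Algebra R S]
    (f : B' →ₐ[R] B) (hf : Function.Surjective f) (g : C →ₐ[R] B)
    (hJ : Function.Injective (LinearMap.lTensor S (LinearMap.ker f.toLinearMap).subtype)) :
    letI P := AlgHom.equalizer (f.comp (AlgHom.fst R B' C)) (g.comp (AlgHom.snd R B' C))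
    letI φ₁ := Algebra.TensorProduct.map (AlgHom.id R S) ((AlgHom.fst R B' C).comp P.val)
    letI φ₂ := Algebra.TensorProduct.map (AlgHom.id R S) ((AlgHom.snd R B' C).comp P.val)
    Function.Injective (fun z : S ⊗[R] ↥P => (φ₁ z, φ₂ z)) ∧
    ∀ (x : S ⊗[R] B') (y : S ⊗[R] C),
      Algebra.TensorProduct.map (AlgHom.id R S) f x = Algebra.TensorProduct.map (AlgHom.id R S) g y →
        ∃ z : S ⊗[R] ↥P, φ₁ z = x ∧ φ₂ z = y := by
  let P := AlgHom.equalizer (f.comp (AlgHom.fst R B' C)) (g.comp (AlgHom.snd R B' C))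
  let π₁ : ↥P →ₗ[R] B' := ((AlgHom.fst R B' C).comp P.val).toLinearMap
  let π₂ : ↥P →ₗ[R] C := ((AlgHom.snd R B' C).comp P.val).toLinearMap
  let J := LinearMap.ker f.toLinearMap
  let ι : J →ₗ[R] ↥P :=
    { toFun := fun j => ⟨((j : B'), (0 : C)), by
        have hj : f (j : B') = 0 := j.2
        simp [P, AlgHom.mem_equalizer, hj]⟩
      map_add' := fun a b => by ext <;> simp
      map_smul' := fun r a => by ext <;> simp }
  have hπ₂ : Function.Surjective π₂ := fun c => by
    obtain ⟨b, hb⟩ := hf (g c)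
    exact ⟨⟨(b, c), by simp [P, AlgHom.mem_equalizer, hb]⟩, rfl⟩
  have hex : Function.Exact ι π₂ := by
    intro z
    constructor
    · intro hz
      have hz2 : z.1.2 = 0 := hz
      have hmem : f z.1.1 = g z.1.2 := z.2
      refine ⟨⟨z.1.1, by simp [J, hmem, hz2]⟩, ?_⟩
      apply Subtype.ext
      exact Prod.ext rfl hz2.symm
    · rintro ⟨j, rfl⟩
      rfl
  have hexS := lTensor_exact S hex hπ₂
  have e₁ : (π₁.lTensor S) ∘ₗ (ι.lTensor S) = J.subtype.lTensor S := by
    rw [← LinearMap.lTensor_comp]; rfl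
  have hexf := lTensor_exact S (LinearMap.exact_subtype_ker_map f.toLinearMap) hf
  have k₁ : ∀ z, Algebra.TensorProduct.map (AlgHom.id R S) ((AlgHom.fst R B' C).comp P.val) z
      = π₁.lTensor S z := fun z => by
    induction z using TensorProduct.induction_on <;> simp_all [π₁]
  have k₂ : ∀ z, Algebra.TensorProduct.map (AlgHom.id R S) ((AlgHom.snd R B' C).comp P.val) z
      = π₂.lTensor S z := fun z => by
    induction z using TensorProduct.induction_on <;> simp_all [π₂]
  have kf : ∀ x, Algebra.TensorProduct.map (AlgHom.id R S) f x = f.toLinearMap.lTensor S x := fun z => by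
    induction z using TensorProduct.induction_on <;> simp_all
  have kg : ∀ x, Algebra.TensorProduct.map (AlgHom.id R S) g x = g.toLinearMap.lTensor S x := fun z => by
    induction z using TensorProduct.induction_on <;> simp_all
  refine ⟨fun z z' h => ?_, fun x y h => ?_⟩
  · have h1 : π₁.lTensor S (z - z') = 0 := by
      rw [map_sub, sub_eq_zero, ← k₁, ← k₁]; exact congrArg Prod.fst h
    have h2 : π₂.lTensor S (z - z') = 0 := by
      rw [map_sub, sub_eq_zero, ← k₂, ← k₂]; exact congrArg Prod.snd h
    obtain ⟨j, hj⟩ := (hexS _).1 h2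
    rw [← hj, ← LinearMap.comp_apply, e₁] at h1
    have : j = 0 := hJ (by rw [h1, map_zero])
    rw [this, map_zero] at hj
    exact sub_eq_zero.1 hj.symm
  · rw [kf, kg] at h
    obtain ⟨z₀, rfl⟩ := LinearMap.lTensor_surjective S hπ₂ y
    have hcomm : f.toLinearMap ∘ₗ π₁ = g.toLinearMap ∘ₗ π₂ := LinearMap.ext fun z => z.2
    have h0 : f.toLinearMap.lTensor S (x - π₁.lTensor S z₀) = 0 := by
      rw [map_sub, h, sub_eq_zero, ← LinearMap.lTensor_comp_apply, ← LinearMap.lTensor_comp_apply,
        hcomm]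
    obtain ⟨j, hj⟩ := (hexf _).1 h0
    refine ⟨z₀ + ι.lTensor S j, ?_, ?_⟩
    · rw [k₁, map_add, ← LinearMap.comp_apply, e₁, hj]; abel
    · rw [k₂, map_add, hexS.apply_apply_eq_zero]; simp

end Groth.Agent.S3209
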