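import Groth.Statements.S3210
import Groth.Agent.Good38.Inertia

set_option autoImplicit false
universe u
open CategoryTheory CategoryTheory.Limits AlgebraicGeometry MonObj
open SGA7

namespace Groth.Agent.S3210

/-- Direction (i) ⇒ (v bis) of the Néron–Ogg–Chafarévitch criterion (only this direction of the
criterion is stated): let R be a discrete valuation ring with fraction field K and residue
characteristic different from the prime ℓ, Ω a separable closure of K, W a valuation subring of Ω
lying over R, and A an abelian variety over K (a proper, geometrically integral group scheme). If A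
extends to an abelian scheme over R (a proper smooth group scheme over Spec R with connected
geometric fibres whose generic fibre is K-isomorphic to A), then for every ν every element of the
inertia group at W fixes all the ℓ^ν-torsion Ω-points of A. -/
theorem result (R K Ω : Type u) [CommRing R] [IsDomain R] [IsDiscreteValuationRing R] [Field K]
    [Algebra R K] [IsFractionRing R K] [Field Ω] [Algebra K Ω] [IsSepClosure K Ω]
    (W : ValuationSubring Ω) (hW : SGA7.LiesOver K R W) (ℓ : ℕ) (hℓ : ℓ.Prime) (hℓp : (ℓ : IsLocalRing.ResidueField R) ≠ 0)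
    (A : Over (Spec (CommRingCat.of K))) [GrpObj A] [IsProper A.hom] [GeometricallyIntegral A.hom]
    (hgood : (∃ (B : Over (Spec (CommRingCat.of R))) (_ : GrpObj B), IsProper B.hom ∧ Smooth B.hom ∧
        (∀ (k' : Type u) [Field k'] (t : Spec (CommRingCat.of k') ⟶ Spec (CommRingCat.of R)), ConnectedSpace ↑(pullback B.hom t)) ∧
        Nonempty ((Over.pullback (Spec.map (CommRingCat.ofHom (algebraMap R K)))).obj B ≅ A))) :
    ∀ (ν : ℕ) (σ : Ω ≃ₐ[K] Ω), SGA7.IsInertia W σ → ∀ x : SGA7.Pts Ω A, x ^ (ℓ ^ ν) = 1 → SGA7.galAct σ x = x := by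
  obtain ⟨B, _, hBp, hBs, -, ⟨e⟩⟩ := hgood
  intro ν σ hσ x hx
  let BK : Over (Spec (CommRingCat.of K)) := (SGA7.genFib R K).obj B
  haveI : IsProper BK.hom := inferInstanceAs (IsProper (pullback.snd B.hom _))
  haveI : GeometricallyIntegral BK.hom := by
    rw [show BK.hom = e.hom.left ≫ A.hom from (Over.w e.hom).symm]
    exact (MorphismProperty.cancel_left_of_respectsIso @GeometricallyIntegral _ _).2 inferInstance
  haveI : IsCommMonObj BK := AlgebraicGeometry.isCommMonObj_of_isProper_of_geometricallyIntegral BK
  haveI : IsCommMonObj B := Good38.isCommMonObj_of_generic R K B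
  let f : A ⟶ BK := e.inv * (CartesianMonoidalCategory.toUnit A ≫ (η[A] ≫ e.inv))⁻¹
  have hf : η[A] ≫ f = η[BK] := by
    simp only [f, MonObj.comp_mul, GrpObj.comp_inv, ← Category.assoc]
    rw [show η[A] ≫ CartesianMonoidalCategory.toUnit A = 𝟙 _ from Subsingleton.elim _ _, Category.id_comp,
      mul_inv_cancel, MonObj.one_eq_one]
  haveI : IsMonHom f := Good38.isMonHom_of_one A BK f hf
  have hinj : ∀ a b : SGA7.Pts Ω A, a ≫ f = b ≫ f → a = b := by
    intro a b h
    simp only [f, MonObj.comp_mul, GrpObj.comp_inv, ← Category.assoc] at h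
    rw [Subsingleton.elim (a ≫ CartesianMonoidalCategory.toUnit A) (b ≫ CartesianMonoidalCategory.toUnit A)] at h
    exact (cancel_mono e.inv).1 (mul_right_cancel h)
  apply hinj
  have hy : (x ≫ f) ^ (ℓ ^ ν) = 1 := by
    rw [← MonObj.pow_comp, hx, MonObj.one_comp]
  have hN : IsUnit ((ℓ ^ ν : ℕ) : R) := by
    have h1 : IsUnit (ℓ : R) := by
      rw [← IsLocalRing.residue_ne_zero_iff_isUnit, map_natCast]
      exact hℓp
    rw [Nat.cast_pow]
    exact h1.pow ν
  have hy2 := Good38.galAct_torsion_eq W hW B (ℓ ^ ν) hN σ hσ (x ≫ f) hy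
  simp only [SGA7.galAct, Category.assoc] at hy2 ⊢
  exact hy2

end Groth.Agent.S3210
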