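import Groth.Statements.S3211
import Groth.Agent.Good38.NeronGrp
import Groth.Agent.Good38.Sections
import Groth.Agent.NeronHD28.GenExtend
import Groth.Agent.S11098
import Groth.Agent.SGA3a.SmoothWeil
import Groth.Agent.Stein58.Connectedness

set_option autoImplicit false
universe u
open CategoryTheory CategoryTheory.Limits AlgebraicGeometry MonObj
open SGA7

namespace Groth.Agent.S3211

/-- (i) ⟺ (iv): let R be a discrete valuation ring with fraction field K, A an abelian variety over K (a
proper, geometrically integral group scheme) and N a Néron model of A over Spec R. Then A extends to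
an abelian scheme over R (a proper smooth group scheme with connected geometric fibres and generic
fibre K-isomorphic to A) if and only if N is proper over Spec R. -/
theorem result (R : Type u) [CommRing R] [IsDomain R] [IsDiscreteValuationRing R]
    (A : Over (Spec (CommRingCat.of (FractionRing R)))) [GrpObj A] [IsProper A.hom] [GeometricallyIntegral A.hom]
    (N : Over (Spec (CommRingCat.of R))) (e : (Neron.genericFibre R).obj N ≅ A) (hN : Neron.IsNeronModelOf R N A e) :
    (∃ (B : Over (Spec (CommRingCat.of R))) (_ : GrpObj B), IsProper B.hom ∧ Smooth B.hom ∧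
        (∀ (k' : Type u) [Field k'] (t : Spec (CommRingCat.of k') ⟶ Spec (CommRingCat.of R)), ConnectedSpace ↑(pullback B.hom t)) ∧
        Nonempty ((Over.pullback (Spec.map (CommRingCat.ofHom (algebraMap R (FractionRing R))))).obj B ≅ A)) ↔ IsProper N.hom := by
  let b := Spec.map (CommRingCat.ofHom (algebraMap R (FractionRing R)))
  constructor
  · rintro ⟨B, _, hBp, hBs, hBc, ⟨eB⟩⟩
    haveI : GrpObj (Over.mk B.hom) := ‹GrpObj B›
    haveI : GeometricallyIrreducible B.hom :=
      SGA3a.geometricallyIrreducible_of_geomFibres B.hom fun s => hBc _ _
    have hB : Neron.IsNeronModelOf R B A eB := by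
      refine ⟨hBs, inferInstance, inferInstance, inferInstance, fun Y hY => ⟨fun g g' hgg => ?_, fun v => ?_⟩⟩
      · let uK := ((Over.pullback b).map g).left
        obtain ⟨u, -, huniq⟩ := NeronHD28.existsUnique_extension_generic Y.hom B.hom
          (uK ≫ pullback.fst B.hom b) (by
            rw [Category.assoc, pullback.condition, ← Category.assoc]
            erw [Over.w ((Over.pullback b).map g)]
            exact pullback.condition.symm)
        have hgg' : (Over.pullback b).map g = (Over.pullback b).map g' := (cancel_mono eB.hom).1 hgg
        refine Over.OverMorphism.ext ((huniq g.left ⟨Over.w g, (pullback.lift_fst _ _ _).symm⟩).trans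
          (huniq g'.left ⟨Over.w g', ?_⟩).symm)
        show _ = ((Over.pullback b).map g).left ≫ _
        rw [hgg']
        exact (pullback.lift_fst _ _ _).symm
      · let w := v ≫ eB.inv
        obtain ⟨u, ⟨hu, hu'⟩, -⟩ := NeronHD28.existsUnique_extension_generic Y.hom B.hom
          (w.left ≫ pullback.fst B.hom b) (by
            rw [Category.assoc, pullback.condition, ← Category.assoc]
            erw [Over.w w]
            exact pullback.condition.symm)
        refine ⟨Over.homMk u hu, ?_⟩
        show (Over.pullback b).map (Over.homMk u hu) ≫ eB.hom = v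
        rw [← Iso.eq_comp_inv]
        refine Over.OverMorphism.ext (pullback.hom_ext ((pullback.lift_fst _ _ _).trans hu') ?_)
        exact (pullback.lift_snd _ _ _).trans (Over.w w).symm
    obtain ⟨⟨ψ, hψ, -⟩, hiso⟩ := S11098.result R A N B e eB hN hB
    haveI := hiso ψ hψ
    haveI : IsIso ψ.left := inferInstanceAs (IsIso ((Over.forget _).map ψ))
    rw [← Over.w ψ]
    exact (MorphismProperty.cancel_left_of_respectsIso @IsProper _ _).2 hBp
  · intro hp
    haveI : Smooth N.hom := hN.1
    obtain ⟨g⟩ := Good38.exists_grpObj_of_neron R A N e hN
    refine ⟨N, g, hp, hN.1, ?_, ⟨e⟩⟩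
    haveI := Good38.isIso_appTop_of_generic R A N e
    haveI := Stein58.geometricallyConnected_of_isIso_appTop N.hom
    intro k' _ t
    exact GeometricallyConnected.geometrically_connectedSpace _ _ _ (.of_hasPullback N.hom t)

end Groth.Agent.S3211
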