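import Groth.Statements.S3214
import Mathlib.RingTheory.Polynomial.Vieta
import Mathlib.Algebra.Polynomial.RingDivision
import Mathlib.Algebra.Polynomial.BigOperators

set_option autoImplicit false
open Polynomial
universe u
open SGA7II

namespace Groth.Agent.S3214

/-- In the recursive form established in its proof: let A = Z[X_1, ..., X_a] (a >= 1), P = prod_i (T -
X_i) in A[T] and S_i the i-th elementary symmetric function. Writing a_j for the coefficient of
T^{a-1} in the remainder of T^{a-1+j} modulo P, one has a_0 = 1 and sum_{i=0}^{a} (-1)^i S_i a_{j-i}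
= 0 for every j > 0 (with a_m = 0 for m < 0); equivalently sum_j (-1)^j a_j is the inverse of sum_i
S_i. (The source works in formal power series; the identity involves only polynomials.) -/
theorem result (a : ℕ) (ha : 0 < a) :
    let P : (MvPolynomial (Fin a) ℤ)[X] := ∏ i : Fin a, (X - C (MvPolynomial.X i))
    let coef : ℤ → MvPolynomial (Fin a) ℤ := fun j =>
      if j < 0 then 0 else ((X : (MvPolynomial (Fin a) ℤ)[X]) ^ (a - 1 + j.toNat) %ₘ P).coeff (a - 1)
    coef 0 = 1 ∧ ∀ j : ℕ, 0 < j →
      (∑ i ∈ Finset.range (a + 1), (-1 : MvPolynomial (Fin a) ℤ) ^ i * MvPolynomial.esymm (Fin a) ℤ i *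
        coef ((j : ℤ) - i)) = 0 := by
  intro P coef
  classical
  have hmon : P.Monic := monic_prod_of_monic _ _ fun i _ => monic_X_sub_C _
  have hdeg : P.natDegree = a := by
    rw [natDegree_prod_of_monic _ _ fun i _ => monic_X_sub_C _]
    simp
  have hdeg' : P.degree = (a : WithBot ℕ) := by
    rw [degree_eq_natDegree hmon.ne_zero, hdeg]
  let c : ℕ → MvPolynomial (Fin a) ℤ := fun n => ((X ^ n : (MvPolynomial (Fin a) ℤ)[X]) %ₘ P).coeff (a - 1)
  have hsmall : ∀ n, n < a → c n = if a - 1 = n then 1 else 0 := by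
    intro n hn
    show ((X ^ n : (MvPolynomial (Fin a) ℤ)[X]) %ₘ P).coeff (a - 1) = _
    rw [(modByMonic_eq_self_iff hmon).2, coeff_X_pow]
    rw [degree_X_pow, hdeg']
    exact_mod_cast hn
  refine ⟨?_, fun j hj => ?_⟩
  · show (if (0 : ℤ) < 0 then (0 : MvPolynomial (Fin a) ℤ) else c (a - 1 + (0 : ℤ).toNat)) = 1
    rw [if_neg (lt_irrefl 0)]
    simpa using hsmall (a - 1) (by omega)
  · have hcoef : ∀ i ∈ Finset.range (a + 1), coef ((j : ℤ) - i) = c (a - 1 + j - i) := by
      intro i hi
      rw [Finset.mem_range] at hi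
      show (if ((j : ℤ) - i) < 0 then (0 : MvPolynomial (Fin a) ℤ) else
        c (a - 1 + ((j : ℤ) - i).toNat)) = _
      split_ifs with h
      · rw [hsmall _ (by omega), if_neg (by omega)]
      · congr 1
        omega
    rw [Finset.sum_congr rfl fun i hi => by rw [hcoef i hi]]
    have hP : P = ∑ i ∈ Finset.range (a + 1),
        C ((-1 : MvPolynomial (Fin a) ℤ) ^ i * MvPolynomial.esymm (Fin a) ℤ i) * X ^ (a - i) := by
      have h := Multiset.prod_X_sub_X_eq_sum_esymm
        ((Finset.univ : Finset (Fin a)).val.map (MvPolynomial.X (R := ℤ)))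
      simp only [Multiset.map_map, Multiset.card_map, Finset.card_val, Finset.card_univ,
        Fintype.card_fin] at h
      refine h.trans (Finset.sum_congr rfl fun i _ => ?_)
      rw [MvPolynomial.esymm_eq_multiset_esymm]
      simp [mul_assoc]
    have hz : ((modByMonicHom P) (X ^ (j - 1) * P)).coeff (a - 1) = 0 := by
      have : (X ^ (j - 1) * P) %ₘ P = 0 := (modByMonic_eq_zero_iff_dvd hmon).2 ⟨_, mul_comm _ _⟩
      show ((X ^ (j - 1) * P) %ₘ P).coeff (a - 1) = 0
      rw [this, coeff_zero]
    rw [show X ^ (j - 1) * P = X ^ (j - 1) * (∑ i ∈ Finset.range (a + 1),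
        C ((-1 : MvPolynomial (Fin a) ℤ) ^ i * MvPolynomial.esymm (Fin a) ℤ i) * X ^ (a - i)) from
      congrArg _ hP] at hz
    rw [Finset.mul_sum, map_sum, finsetSum_coeff] at hz
    refine Eq.trans (Finset.sum_congr rfl fun i hi => ?_) hz
    rw [Finset.mem_range] at hi
    rw [mul_left_comm (X ^ (j - 1)), ← pow_add, ← smul_eq_C_mul, map_smul, coeff_smul, smul_eq_mul,
      show j - 1 + (a - i) = a - 1 + j - i by omega]
    rfl

end Groth.Agent.S3214
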