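import Groth.Statements.S3215
import Groth.Agent.QuadEven52.EtaleSplit

set_option autoImplicit false
universe u
open SGA7II

namespace Groth.Agent.S3215

open Groth.Agent.Quad37 in
theorem qf_eq {R : Type u} [CommRing R] {n : ℕ} (F : Fin n → Fin n → R) (x : Fin n → R) :
    qf (fun s => F s.inf s.sup) x = ∑ i, ∑ j, if i ≤ j then F i j * x i * x j else 0 := by
  classical
  rw [qf_apply, ← Fintype.sum_prod_type' (fun i j => if i ≤ j then F i j * x i * x j else 0), ← Finset.sum_filter,
    Finset.sum_subtype (Finset.univ.filter fun p : Fin n × Fin n => p.1 ≤ p.2) (p := fun p => p.1 ≤ p.2) (by simp)]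
  exact Fintype.sum_equiv Sym2.sortEquiv _ _ fun s => (mul_assoc _ _ _).symm
theorem hyp {B : Type u} [CommRing B] {n m : ℕ} {q : QuadraticForm B (Fin n → B)} (P : QuadEven52.Pairs q m)
    (c d : Fin m → B) : q ((∑ i, c i • P.e i) + ∑ i, d i • P.f i) = ∑ i, c i * d i := by
  classical
  have hz : ∀ (f : Fin m → Fin n → B) (c : Fin m → B), (∀ i, q (f i) = 0) →
      (∀ i j, QuadraticMap.polar q (f i) (f j) = 0) → q (∑ i, c i • f i) = 0 := fun f c hq hp => by
    rw [QuadraticMap.map_sum]
    have h1 : ∀ i, q (c i • f i) = 0 := fun i => by rw [QuadraticMap.map_smul, hq, smul_zero]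
    rw [Finset.sum_eq_zero fun i _ => h1 i, zero_add]
    refine Finset.sum_eq_zero fun s _ => ?_
    induction s using Sym2.ind with
    | h i j => simp [QuadraticMap.polar_smul_left, QuadraticMap.polar_smul_right, hp]
  rw [QuadraticMap.map_add q, hz _ _ P.qe P.ee, hz _ _ P.qf' P.ff, zero_add, zero_add,
    ← QuadraticMap.polarBilin_apply_apply, map_sum]
  refine Finset.sum_congr rfl fun i _ => ?_
  simp [map_sum, P.ef, mul_comm, LinearMap.sum_apply]

/-- Let A be a commutative ring and Q(x) = sum over pairs i <= j of a_{ij} x_i x_j a quadratic form in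
2m variables on the free module A^{2m} (the source allows a locally free module, which is free
Zariski-locally; the variables indexed by two copies of Fin m, ordered first copy then second),
whose polar bilinear form (matrix entries 2a_{ii} on the diagonal, a_{ij} for i < j) has invertible
determinant (Q is ordinary). Then there are finitely many etale A-algebras B_t whose spectra jointly
cover Spec A and, over each B_t, an invertible matrix g with Q(g x) = sum_j x_j x_{m+j}, the split
form. -/
theorem result (A : Type u) [CommRing A] (m : ℕ)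
    (a : (Fin m ⊕ Fin m) → (Fin m ⊕ Fin m) → A) :
    let rk : Fin m ⊕ Fin m → ℕ := Sum.elim Fin.val (fun k => m + k.val)
    let QB : ∀ (B : Type u) [CommRing B] [Algebra A B], ((Fin m ⊕ Fin m) → B) → B :=
      fun B _ _ x => ∑ i, ∑ j, if rk i ≤ rk j then algebraMap A B (a i j) * x i * x j else 0
    IsUnit (Matrix.det (Matrix.of fun i j : Fin m ⊕ Fin m =>
      if i = j then a i i + a i i else if rk i ≤ rk j then a i j else a j i)) →
    ∃ (n : ℕ) (B : Fin n → Type u) (_ : ∀ t, CommRing (B t)) (_ : ∀ t, Algebra A (B t)),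
      (∀ t, Algebra.Etale A (B t)) ∧
      (∀ p : PrimeSpectrum A, ∃ (t : Fin n) (q : PrimeSpectrum (B t)),
        q.asIdeal.comap (algebraMap A (B t)) = p.asIdeal) ∧
      ∀ t, ∃ g : Matrix (Fin m ⊕ Fin m) (Fin m ⊕ Fin m) (B t), IsUnit g.det ∧
        ∀ x : Fin m ⊕ Fin m → B t, QB (B t) (g.mulVec x) = ∑ j : Fin m, x (Sum.inl j) * x (Sum.inr j) := by
  classical
  intro rk QB hdet
  let σ : Fin m ⊕ Fin m ≃ Fin (2 * m) := finSumFinEquiv.trans (finCongr (two_mul m).symm)
  have hσ : ∀ i, ((σ i : Fin (2 * m)) : ℕ) = rk i := by rintro (i | i) <;> simp [σ, rk, add_comm]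
  have hle : ∀ i j, rk i ≤ rk j ↔ σ i ≤ σ j := fun i j => by rw [Fin.le_def, hσ, hσ]
  let F : Fin (2 * m) → Fin (2 * m) → A := fun i j => a (σ.symm i) (σ.symm j)
  let a' : Sym2 (Fin (2 * m)) → A := fun s => F s.inf s.sup
  have hreg : QuadGrp.IsRegular (Groth.Agent.Quad37.qf a') := by
    rw [Groth.Agent.Quad37.isRegular_iff_det (Pi.basisFun A (Fin (2 * m)))]
    convert hdet using 1
    rw [← Matrix.det_submatrix_equiv_self σ]
    congr 1
    ext i j
    simp only [Matrix.submatrix_apply, LinearMap.toMatrix₂_apply, QuadraticMap.polarBilin_apply_apply,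
      Pi.basisFun_apply, Matrix.of_apply]
    by_cases hij : i = j
    · subst hij
      rw [if_pos rfl, QuadraticMap.polar_self, Groth.Agent.Quad37.qf_single]
      simp [a', F, two_mul]
    · rw [if_neg hij, Groth.Agent.Quad37.qf_polar_single _ (σ.injective.ne hij)]
      by_cases h : rk i ≤ rk j
      · rw [if_pos h]; simp [a', F, inf_of_le_left ((hle i j).1 h), sup_of_le_right ((hle i j).1 h)]
      · rw [if_neg h]
        have h' : σ j ≤ σ i := le_of_not_ge fun h' => h ((hle i j).2 h')
        simp [a', F, inf_of_le_right h', sup_of_le_left h']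
  obtain ⟨B, _, _, hff, het, ⟨P⟩⟩ := QuadEven52.exists_pairs_etale a' hreg m le_rfl
  haveI := hff
  refine ⟨1, fun _ => B, fun _ => inferInstance, fun _ => inferInstance, fun _ => het, fun p => ?_, fun _ => ?_⟩
  · obtain ⟨q, hq⟩ := PrimeSpectrum.comap_surjective_of_faithfullyFlat (B := B) p
    exact ⟨0, q, congrArg PrimeSpectrum.asIdeal hq⟩
  let g : Matrix (Fin m ⊕ Fin m) (Fin m ⊕ Fin m) B := Matrix.of fun i s => Sum.elim P.e P.f s (σ i)
  have hmv : ∀ x, g.mulVec x = fun i => (∑ s, x s • Sum.elim P.e P.f s) (σ i) := fun x => by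
    funext i; simp [g, Matrix.mulVec, dotProduct, Finset.sum_apply, mul_comm]
  refine ⟨g, ?_, fun x => ?_⟩
  · rw [← Matrix.isUnit_iff_isUnit_det, ← Matrix.mulVec_surjective_iff_isUnit]
    intro v
    have hv : (fun l => v (σ.symm l)) ∈ Submodule.span B (Set.range (Sum.elim P.e P.f)) := by
      rw [Set.Sum.elim_range, P.span_eq_top]; trivial
    obtain ⟨x, hx⟩ := (Submodule.mem_span_range_iff_exists_fun B).1 hv
    exact ⟨x, by rw [hmv, hx]; simp⟩
  · show QB B (g.mulVec x) = _
    rw [hmv]
    set V := ∑ s, x s • Sum.elim P.e P.f s with hV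
    have hQB : QB B (fun i => V (σ i)) = Groth.Agent.Quad37.qf (fun s => algebraMap A B (a' s)) V := by
      refine Eq.trans ?_ (qf_eq (fun i j => algebraMap A B (F i j)) V).symm
      simp only [QB, hle]
      refine Fintype.sum_equiv σ _ _ fun i => Fintype.sum_equiv σ _ _ fun j => ?_
      simp [F]
    rw [hQB, hV, Fintype.sum_sum_type]
    simp only [Sum.elim_inl, Sum.elim_inr]
    exact hyp P _ _

end Groth.Agent.S3215
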