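import Groth.Statements.S3245
import Mathlib
import Groth.Agent.Azu26.Basic
import Groth.Agent.Csa25.AzuDescent
import Groth.Agent.Csa25.Basic

set_option autoImplicit false
set_option linter.style.haveILetI false
set_option linter.style.longLine false
universe u
open TensorProduct
open Dix

namespace Groth.Agent.S3245


open TensorProduct

/-- (i) ⇔ (ii) over a local base: let R be a local ring with residue field k and A an R-algebra which is
finite and free as an R-module and nonzero. Then A is an Azumaya R-algebra (A ⊗_R A° → End_R(A)
bijective) if and only if k ⊗_R A is a central simple k-algebra. -/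
theorem result (R : Type u) [CommRing R] [IsLocalRing R] (A : Type u) [Ring A] [Algebra R A] [Module.Finite R A] [Module.Free R A] [Nontrivial A] : IsAzumaya R A ↔ (Algebra.IsCentral (IsLocalRing.ResidueField R) ((IsLocalRing.ResidueField R) ⊗[R] A) ∧ IsSimpleRing ((IsLocalRing.ResidueField R) ⊗[R] A)) := by
  constructor
  · intro h
    haveI := h
    haveI := Groth.Agent.Azu26.isAzumaya_baseChange R (IsLocalRing.ResidueField R) A
    exact ⟨Groth.Agent.Azu26.isCentral_of_field (IsLocalRing.ResidueField R) _,
      Groth.Agent.Azu26.isSimpleRing_of_field (IsLocalRing.ResidueField R) _⟩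
  · rintro ⟨hc, hs⟩
    haveI := hc
    haveI := hs
    refine Groth.Agent.Csa25.isAzumaya_of_residual R A fun m hm => ?_
    obtain rfl := IsLocalRing.eq_maximalIdeal hm
    exact Groth.Agent.Csa25.isAzumaya_of_centralSimple (IsLocalRing.ResidueField R) ((IsLocalRing.ResidueField R) ⊗[R] A)

end Groth.Agent.S3245
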