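import Groth.Statements.S3248
import Mathlib
import Groth.Agent.Csa25.Basic

set_option autoImplicit false
set_option linter.style.haveILetI false
set_option linter.style.longLine false
universe u
open TensorProduct
open Dix

namespace Groth.Agent.S3248


open TensorProduct MulOpposite

/-- Stated for a commutative subalgebra: let A be a central simple algebra of dimension r² over a field
k and L a commutative k-algebra embedded in A by an injective k-algebra homomorphism ι, such that A
is free of rank r for the right L-module structure a · l = a ι(l) (given here as a module structure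
together with that compatibility). Then L ⊗_k A is isomorphic as an L-algebra to the matrix algebra
M_r(L). (Only the existence of an isomorphism is stated; the text names the map a ⊗ l ↦ (y ↦ a y
l).) -/
theorem result (k : Type u) [Field k] (A : Type u) [Ring A] [Algebra k A] [Algebra.IsCentral k A] [IsSimpleRing A] [FiniteDimensional k A] (L : Type u) [CommRing L] [Algebra k L] (ι : L →ₐ[k] A) (hι : Function.Injective ι) [Module L A] (hmod : ∀ (l : L) (a : A), l • a = a * ι l) [Module.Free L A] (r : ℕ) (hr : 0 < r) (hA : Module.finrank k A = r ^ 2) (hrank : Module.finrank L A = r) : Nonempty ((L ⊗[k] A) ≃ₐ[L] Matrix (Fin r) (Fin r) L) := by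
  classical
  haveI := Groth.Agent.Csa25.isAzumaya_of_centralSimple k A
  haveI : IsScalarTower k L A := ⟨fun c l a => by rw [hmod, hmod, map_smul, mul_smul_comm]⟩
  haveI : SMulCommClass L k A := ⟨fun l c a => by rw [hmod, hmod, smul_mul_assoc]⟩
  haveI : Nontrivial L := ι.toRingHom.domain_nontrivial
  let g : A →ₐ[k] Module.End L A :=
    { toFun := fun a =>
        { toFun := fun y => a * y
          map_add' := mul_add a
          map_smul' := fun l y => by simp only [RingHom.id_apply, hmod, mul_assoc] }
      map_one' := LinearMap.ext fun y => one_mul y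
      map_mul' := fun a b => LinearMap.ext fun y => mul_assoc a b y
      map_zero' := LinearMap.ext fun y => zero_mul y
      map_add' := fun a b => LinearMap.ext fun y => add_mul a b y
      commutes' := fun c => LinearMap.ext fun y => (Algebra.smul_def c y).symm }
  let φ : L ⊗[k] A →ₐ[L] Module.End L A :=
    Algebra.TensorProduct.lift (Algebra.ofId L (Module.End L A)) g fun l a => Algebra.commutes l (g a)
  let ψ : L ⊗[k] A →ₗ[k] A ⊗[k] Aᵐᵒᵖ :=
    ((opLinearEquiv k : A ≃ₗ[k] Aᵐᵒᵖ).toLinearMap ∘ₗ ι.toLinearMap).lTensor A ∘ₗ
      (TensorProduct.comm k L A).toLinearMap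
  let v : L →ₗ[k] Aᵐᵒᵖ := (opLinearEquiv k : A ≃ₗ[k] Aᵐᵒᵖ).toLinearMap ∘ₗ ι.toLinearMap
  have hv : Function.Injective v := fun x y h => hι ((opLinearEquiv k : A ≃ₗ[k] Aᵐᵒᵖ).injective h)
  have hψ : Function.Injective ψ :=
    (Module.Flat.lTensor_preserves_injective_linearMap (M := A) v hv).comp (TensorProduct.comm k L A).injective
  have key : ∀ z x, AlgHom.mulLeftRight k A (ψ z) x = φ z x := fun z x => by
    induction z using TensorProduct.induction_on with
    | zero => simp
    | add a b ha hb => simp only [map_add, LinearMap.add_apply, ha, hb]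
    | tmul l a =>
      show AlgHom.mulLeftRight k A (a ⊗ₜ op (ι l)) x = _
      rw [AlgHom.mulLeftRight_apply]
      simp only [φ, Algebra.TensorProduct.lift_tmul, Module.End.mul_apply]
      show a * x * ι l = l • (a * x)
      rw [hmod]
  have hinj : Function.Injective φ := fun z w h => hψ ((IsAzumaya.bij (R := k) (A := A)).1
    (LinearMap.ext fun x => by rw [key, key, h]))
  haveI : Module.Finite k L := Module.Finite.of_injective ι.toLinearMap hι
  haveI : Module.Finite L A := Module.Finite.of_restrictScalars_finite k L A
  have hd : Module.finrank k L * r = r ^ 2 := by rw [← hA, ← hrank, Module.finrank_mul_finrank]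
  have hdL : Module.finrank k L = r := by nlinarith
  let b := Module.finBasisOfFinrankEq L A hrank
  let e : Module.End L A ≃ₐ[L] Matrix (Fin r) (Fin r) L := algEquivMatrix b
  let φ' : L ⊗[k] A →ₐ[L] Matrix (Fin r) (Fin r) L := e.toAlgHom.comp φ
  have hbij : Function.Bijective φ' := by
    have h1 : Function.Injective φ' := e.injective.comp hinj
    refine ⟨h1, ?_⟩
    refine (LinearMap.injective_iff_surjective_of_finrank_eq_finrank
      (f := φ'.toLinearMap.restrictScalars k) ?_).1 h1
    rw [Module.finrank_tensorProduct, Module.finrank_matrix, hdL, hA, Fintype.card_fin]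
    ring
  exact ⟨AlgEquiv.ofBijective φ' hbij⟩

end Groth.Agent.S3248
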