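import Groth.Statements.S3257
import Groth.Agent.ArS10.IsBlowUpPoint

set_option autoImplicit false
universe u
open AlgebraicGeometry CategoryTheory CategoryTheory.Limits
open ArSurf

namespace Groth.Agent.S3257

/-- Let R be a Dedekind domain, X and Y arithmetic surfaces over Spec R, f : X -> Y an R-morphism and y
a closed point of Y such that f restricts to an isomorphism over Y minus y while the fibre of f over
y is irreducible and has more than one point (so the exceptional locus of the birational morphism f
is irreducible). Then f is the blowing-up of Y at y: it has the universal property of the blow-up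
along the ideal of the reduced closed point y (BlowUp.IsBlowUp). (The factorization result of the
source says more generally that every birational morphism of regular fibered surfaces is a finite
sequence of blow-ups of closed points.) -/
theorem result {R : Type u} [CommRing R] [IsDedekindDomain R]
    (X Y : Over (Spec (CommRingCat.of R))) (hX : ArSurf.IsArithSurface R X) (hY : ArSurf.IsArithSurface R Y)
    (f : X ⟶ Y) (y : Y.left) (hy : IsClosed ({y} : Set Y.left))
    (hiso : IsIso (f.left ∣_ (⟨{y}ᶜ, hy.isOpen_compl⟩ : Y.left.Opens)))
    (hirr : IsPreirreducible (f.left.base ⁻¹' {y}))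
    (hbig : ∃ x x' : X.left, x ≠ x' ∧ f.left.base x = y ∧ f.left.base x' = y) :
    BlowUp.IsBlowUp f.left (Scheme.IdealSheafData.vanishingIdeal ⟨{y}, hy⟩) := by
  obtain ⟨hXreg, hXint, hXdim, -, -⟩ := id hX
  obtain ⟨hYreg, hYint, hYdim, -, -⟩ := id hY
  haveI := hXint
  haveI := hYint
  haveI := Groth.Agent.ArS10.isProper_hom hX
  haveI := Groth.Agent.ArS10.isProper_hom hY
  haveI : IsProper f.left := by
    haveI : IsProper (f.left ≫ Y.hom) := by rw [Over.w f]; infer_instance
    exact IsProper.of_comp f.left Y.hom
  haveI : IsLocallyNoetherian X.left := LocallyOfFiniteType.isLocallyNoetherian X.hom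
  haveI : IsLocallyNoetherian Y.left := LocallyOfFiniteType.isLocallyNoetherian Y.hom
  haveI : CompactSpace X.left := QuasiCompact.compactSpace_of_compactSpace X.hom
  haveI : IsNoetherian X.left := ⟨⟩
  refine Groth.Agent.ArS10.isBlowUp_of_irreducible_fibre f.left hXreg hYreg hXdim.le hYdim.le y hy ?_
    hiso hirr hbig
  by_contra h
  simp only [not_exists, not_not] at h
  haveI : Subsingleton Y.left := ⟨fun a b => (h a).trans (h b).symm⟩
  haveI : Subsingleton (TopologicalSpace.IrreducibleCloseds Y.left) := ⟨fun a b => TopologicalSpace.IrreducibleCloseds.ext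
    (a.isIrreducible.1.eq_univ.trans b.isIrreducible.1.eq_univ.symm)⟩
  have h2 : topologicalKrullDim Y.left ≤ 0 := Order.krullDim_nonpos_of_subsingleton
  rw [hYdim] at h2
  exact absurd h2 (by decide)

end Groth.Agent.S3257
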