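import Groth.Statements.S3258
import Groth.Agent.An92.ArMin.Main
import Groth.Agent.Approx60.Segre

set_option autoImplicit false
universe u
open AlgebraicGeometry CategoryTheory CategoryTheory.Limits
open ArSurf

namespace Groth.Agent.S3258

/-- Let R be a Dedekind domain and X an arithmetic surface over Spec R (a regular, integral scheme of
dimension 2, flat and projective over Spec R) which is smooth over Spec R. Then X is relatively
minimal: every R-morphism from X to a regular, projective, flat R-scheme that is an isomorphism on
generic fibres is an isomorphism. -/
theorem result {R : Type u} [CommRing R] [IsDedekindDomain R]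
    (X : Over (Spec (CommRingCat.of R))) (hX : ArSurf.IsArithSurface R X) [Smooth X.hom] :
    Neron.IsRelMinimalRegularModel R X := by
  obtain ⟨hreg, hint, hdim, hflat, hproj⟩ := hX
  have hprop : ∀ Z : Over (Spec (CommRingCat.of R)), Neron.IsProjectiveOver R Z → IsProper Z.hom := fun Z h => by
    obtain ⟨n, i, hi, he⟩ := h
    haveI := Groth.Agent.Approx60.Segre.isProper_toBase n (Spec (CommRingCat.of R))
    rw [← he]
    infer_instance
  refine ⟨hreg, hproj, hflat, fun Y hY hYp hYf g hg => ?_⟩
  haveI := hprop X hproj
  haveI := hprop Y hYp
  exact Groth.Agent.An92.ArMin.isIso_of_genericFibre X Y hdim.le hY g hg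

end Groth.Agent.S3258
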