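import Groth.Statements.S3259
import Groth.Agent.CAlg6.GenClosure
import Groth.Agent.CAlg6.GenSpread
import Groth.Agent.Approx60.Segre
-- import your own Groth.Agent.* helpers here

set_option autoImplicit false
universe u
open AlgebraicGeometry CategoryTheory CategoryTheory.Limits
open ArSurf

namespace Groth.Agent.S3259


open Groth.Agent.CAlg6

/-- The base change square of projective spaces over schemes. -/
theorem exists_isPullback_projSpaceOver (n : ℕ) {T S : Scheme.{u}} (g : T ⟶ S) :
    ∃ φ : CohB1.ProjSpaceOver n T ⟶ CohB1.ProjSpaceOver n S,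
      IsPullback φ (CohB1.ProjSpaceOver.toBase n T) (CohB1.ProjSpaceOver.toBase n S) g := by
  let φ : CohB1.ProjSpaceOver n T ⟶ CohB1.ProjSpaceOver n S :=
    pullback.lift (pullback.fst _ _) (pullback.snd _ _ ≫ g)
      (pullback.condition.trans (((congrArg (_ ≫ ·) (specULiftZIsTerminal.hom_ext _ _))).trans (Category.assoc _ _ _).symm))
  refine ⟨φ, IsPullback.of_right (h₁₂ := pullback.fst (CohB1.ProjSpace.toSpec n (ULift.{u} ℤ)) (specULiftZIsTerminal.from S))
    (h₂₂ := specULiftZIsTerminal.from S) (v₁₃ := CohB1.ProjSpace.toSpec n (ULift.{u} ℤ)) ?_ (pullback.lift_snd _ _ _) ?_⟩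
  · refine (IsPullback.of_hasPullback (CohB1.ProjSpace.toSpec n (ULift.{u} ℤ)) (specULiftZIsTerminal.from T)).of_iso
      (Iso.refl _) (Iso.refl _) (Iso.refl _) (Iso.refl _) ?_ ?_ ?_ ?_
    · exact (Category.comp_id _).trans ((pullback.lift_fst _ _ _).symm.trans (Category.id_comp _).symm)
    · exact (Category.comp_id _).trans (Category.id_comp _).symm
    · exact (Category.comp_id _).trans (Category.id_comp _).symm
    · exact specULiftZIsTerminal.hom_ext _ _
  · exact IsPullback.of_hasPullback _ _

/-- The generic point of a Dedekind scheme as a field point. -/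
theorem exists_iso_generic (R : Type u) [CommRing R] [IsDomain R] :
    ∃ a : Spec (CommRingCat.of (FractionRing R)) ⟶
        Spec ((Spec (CommRingCat.of R)).residueField (genericPoint (Spec (CommRingCat.of R)))),
      IsIso a ∧ a ≫ GenClosure.gσ (Spec (CommRingCat.of R)) = Neron.genPt R := by
  let S := Spec (CommRingCat.of R)
  have hpt : Neron.genPt R (IsLocalRing.closedPoint (FractionRing R)) = genericPoint S := by
    rw [genericPoint_eq_bot_of_affine]
    refine PrimeSpectrum.ext ?_
    show Ideal.comap (algebraMap R (FractionRing R)) (IsLocalRing.maximalIdeal _) = ⊥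
    rw [IsLocalRing.maximalIdeal_eq_bot, ← RingHom.ker_eq_comap_bot,
      (RingHom.injective_iff_ker_eq_bot _).1 (IsFractionRing.injective R (FractionRing R))]
  have hfac : Set.range (Neron.genPt R) ⊆ Set.range (GenClosure.gσ S) := by
    rintro _ ⟨x, rfl⟩
    have : Subsingleton (PrimeSpectrum (FractionRing R)) := inferInstance
    rw [show x = IsLocalRing.closedPoint (FractionRing R) from Subsingleton.elim (α := PrimeSpectrum _) _ _, hpt,
      GenClosure.gσ, Scheme.range_fromSpecResidueField]
    rfl
  obtain ⟨a, ha⟩ : ∃ a : Spec (CommRingCat.of (FractionRing R)) ⟶ Spec (S.residueField (genericPoint S)),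
      a ≫ GenClosure.gσ S = Neron.genPt R := by
    let t := Neron.genPt R
    have h := Scheme.descResidueField_stalkClosedPointTo_fromSpecResidueField (FractionRing R) S t
    have e : Spec (S.residueField (t (IsLocalRing.closedPoint (FractionRing R)))) ⟶
        Spec (S.residueField (genericPoint S)) := Spec.map (S.residueFieldCongr hpt.symm).hom
    refine ⟨Spec.map (S.descResidueField (Scheme.stalkClosedPointTo t)) ≫
      Spec.map (S.residueFieldCongr hpt.symm).hom, ?_⟩
    rw [Category.assoc]
    refine Eq.trans ?_ h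
    congr 1
    exact Scheme.residueFieldCongr_fromSpecResidueField _
  refine ⟨a, ?_, ha⟩
  obtain ⟨φ, rfl⟩ := Spec.map_surjective a
  obtain ⟨ψ, hψ⟩ := Spec.map_surjective (GenClosure.gσ S)
  have hc : ψ ≫ φ = CommRingCat.ofHom (algebraMap R (FractionRing R)) := Spec.map_injective (by
    rw [Spec.map_comp, hψ]; exact ha)
  have : IsIso φ := by
    rw [ConcreteCategory.isIso_iff_bijective]
    refine ⟨RingHom.injective φ.hom, fun x => ?_⟩
    obtain ⟨r, s, -, rfl⟩ := IsFractionRing.div_surjective R x
    refine ⟨ψ.hom r / ψ.hom s, ?_⟩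
    rw [map_div₀]
    exact congrArg₂ (· / ·) congr($(hc).hom r) congr($(hc).hom s)
  infer_instance

/-- Let R be a Dedekind domain with fraction field K and C a smooth projective curve over K (smooth,
proper, of dimension 1, admitting a closed immersion into some P^n_K). Then there are a non-empty
open subscheme U of Spec R containing the generic point and a smooth proper morphism 𝒞 -> U whose
fibre over the generic point is K-isomorphic to C. In particular C has good reduction at every
closed point of U, that is, at all but finitely many closed points. (Stated in the form the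
published proof gives.) -/
theorem result {R : Type u} [CommRing R] [IsDedekindDomain R]
    (C : Over (Spec (CommRingCat.of (FractionRing R)))) [Smooth C.hom] [IsProper C.hom]
    (hdim : topologicalKrullDim C.left = 1) (hproj : Neron.IsProjectiveOver (FractionRing R) C) :
    ∃ (U : (Spec (CommRingCat.of R)).Opens) (ξ : Spec (CommRingCat.of (FractionRing R)) ⟶ (U : Scheme.{u}))
      (𝒞 : Scheme.{u}) (π : 𝒞 ⟶ (U : Scheme.{u})),
      ξ ≫ U.ι = Neron.genPt R ∧ Smooth π ∧ IsProper π ∧
      Nonempty (Over.mk (pullback.snd π ξ) ≅ C) := by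
  let S := Spec (CommRingCat.of R)
  obtain ⟨n, i, hi, hiC⟩ := hproj
  obtain ⟨a, ha, haσ⟩ := exists_iso_generic R
  obtain ⟨φ, hφ⟩ := exists_isPullback_projSpaceOver n (Neron.genPt R)
  let G : Over S := Over.mk (CohB1.ProjSpaceOver.toBase n S)
  have hφ' : IsPullback φ (CohB1.ProjSpaceOver.toBase n _ ≫ a) G.hom (GenClosure.gσ S) :=
    hφ.of_iso (Iso.refl _) (Iso.refl _) (asIso a) (Iso.refl _) (by simp) (by simp) (by simp [G]; rfl) (by simp [haσ, S])
  let K' : Over (Spec (S.residueField (genericPoint S))) := Over.mk (C.hom ≫ a)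
  let j : K' ⟶ (Over.pullback (GenClosure.gσ S)).obj G :=
    Over.homMk (i ≫ hφ'.isoPullback.hom) (by
      show (i ≫ hφ'.isoPullback.hom) ≫ pullback.snd _ _ = C.hom ≫ a
      rw [Category.assoc, IsPullback.isoPullback_hom_snd, reassoc_of% hiC])
  have : IsClosedImmersion j.left := inferInstanceAs (IsClosedImmersion (i ≫ hφ'.isoPullback.hom))
  obtain ⟨D, d, θ, hd, -⟩ := GenClosure.exists_closure G K' j
  have : IsProper G.hom := by
    have := Approx60.Segre.isProper_toSpec (ULift.{u} ℤ) n
    exact MorphismProperty.of_isPullback (P := @IsProper) (IsPullback.of_hasPullback _ _) this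
  have : IsProper D.hom := by rw [← Over.w d]; infer_instance
  obtain ⟨U₁, hU₁, hfl⟩ := GenClosure.exists_open_flat_lfp D.hom
  have := (hfl U₁ le_rfl).2
  have hθ : θ.hom.left ≫ K'.hom = pullback.snd D.hom (GenClosure.gσ S) := Over.w θ.hom
  have hsm : Smooth (pullback.snd D.hom (S.fromSpecResidueField (genericPoint S))) := by
    show Smooth (pullback.snd D.hom (GenClosure.gσ S))
    rw [← hθ]
    have : IsIso θ.hom.left := ((Over.forget _).mapIso θ).isIso_hom
    show Smooth (θ.hom.left ≫ C.hom ≫ a)
    infer_instance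
  obtain ⟨V, hV, hVU, hVs⟩ := GenSpread.exists_open_smooth_fibres' D.hom U₁ hU₁ hsm
  let π := pullback.snd D.hom V.ι
  obtain ⟨hflat, hlfp⟩ := hfl V hVU
  have hπs : Smooth π := Smooth.of_smooth_fiberToSpecResidueField π fun u =>
    (GenSpread.smooth_fibre_open_iff D.hom V u).2 (hVs _ u.2)
  have hπp : IsProper π := MorphismProperty.of_isPullback (P := @IsProper) (IsPullback.of_hasPullback _ _) ‹IsProper D.hom›
  refine ⟨V, a ≫ GenClosure.gU V hV, pullback D.hom V.ι, π, ?_, hπs, hπp, ⟨?_⟩⟩
  · rw [Category.assoc, GenClosure.gU_ι, haσ]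
  have h1 : IsPullback (pullback.fst π (a ≫ GenClosure.gU V hV) ≫ pullback.fst D.hom V.ι)
      (pullback.snd π (a ≫ GenClosure.gU V hV)) D.hom (Neron.genPt R) := by
    have := (IsPullback.of_hasPullback π (a ≫ GenClosure.gU V hV)).paste_horiz (IsPullback.of_hasPullback D.hom V.ι)
    rwa [Category.assoc, GenClosure.gU_ι, haσ] at this
  have h2 : IsPullback (θ.inv.left ≫ pullback.fst D.hom (GenClosure.gσ S)) C.hom D.hom (Neron.genPt R) := by
    refine (IsPullback.of_hasPullback D.hom (GenClosure.gσ S)).of_iso ((Over.forget _).mapIso θ) (Iso.refl _)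
      (asIso a).symm (Iso.refl _) ?_ ?_ ?_ ?_
    · show pullback.fst _ _ ≫ 𝟙 _ = θ.hom.left ≫ θ.inv.left ≫ pullback.fst _ _
      rw [← Category.assoc θ.hom.left, ← Over.comp_left, θ.hom_inv_id, Over.id_left, Category.comp_id]
      exact (Category.id_comp _).symm
    · show pullback.snd _ _ ≫ inv a = θ.hom.left ≫ C.hom
      rw [← hθ]
      simp [K']
    · simp
    · show _ ≫ _ = inv a ≫ _
      simp [← haσ]; rfl
  exact Over.isoMk (h1.isoIsPullback _ _ h2) (IsPullback.isoIsPullback_hom_snd _ _ _ _)

end Groth.Agent.S3259
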