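import Groth.Statements.S3290
import Groth.Agent.Lambda37.Filt

set_option autoImplicit false
universe u
open Finset
open LambdaRing

namespace Groth.Agent.S3290

open Groth.Agent.Lambda37

/-- For a positive element e of augmentation m in a λ-ring with positive structure, the polynomials
Σ_{i=0}^{m} γ^i(e − m) t^(m−i) and Σ_{i=0}^{m} λ^i(e) (t − 1)^(m−i) are equal. -/
theorem result (K : Type u) [CommRing K] [LambdaRing.LambdaOps K] (P : LambdaRing.PosStructure K) (e : K) (he : e ∈ P.pos) :
    (∑ i ∈ range ((P.aug e).toNat + 1),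
        Polynomial.C (LambdaRing.gamma i (e - ((P.aug e).toNat : K))) * Polynomial.X ^ ((P.aug e).toNat - i)) =
      ∑ i ∈ range ((P.aug e).toNat + 1),
        Polynomial.C (LambdaRing.LambdaOps.lam i e) * (Polynomial.X - 1) ^ ((P.aug e).toNat - i) := by
  set m := (P.aug e).toNat
  have hlam : ∀ j, m < j → LambdaOps.lam j e = 0 := fun j hj => by
    refine P.lam_eq_zero e he j ?_
    rw [← Int.toNat_of_nonneg (P.aug_pos e he).le]
    exact Int.ofNat_lt.mpr hj
  have hone : gammaSeries (1 : K) = PowerSeries.mk 1 := by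
    rw [gammaSeries_eq_subst, lamSeries_eq_linear (lam_one_eq_zero P), PowerSeries.subst_add hasSubst_gT, map_one, one_mul,
      PowerSeries.subst_X hasSubst_gT, ← PowerSeries.coe_substAlgHom hasSubst_gT, map_one, one_add_gT]
  have hm : gammaSeries (m : K) = (PowerSeries.mk 1) ^ m := by
    rw [show (m : K) = ∑ _i ∈ range m, (1 : K) by simp, gammaSeries_sum, Finset.prod_const, Finset.card_range, hone]
  have hkey : (PowerSeries.mk 1 : PowerSeries K) * (1 - PowerSeries.X) = 1 := PowerSeries.mk_one_mul_one_sub_eq_one K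
  have hlamS : LambdaRing.lamSeries e = ∑ j ∈ range (m + 1), PowerSeries.C (LambdaOps.lam j e) * PowerSeries.X ^ j := by
    ext n
    rw [coeff_lamSeries, map_sum]
    simp only [PowerSeries.coeff_C_mul, PowerSeries.coeff_X_pow, mul_ite, mul_one, mul_zero, Finset.sum_ite_eq, Finset.mem_range]
    split_ifs with h
    · rfl
    · exact hlam n (by omega)
  have hgT : ∀ j ≤ m, gT K ^ j * (1 - PowerSeries.X) ^ m = PowerSeries.X ^ j * (1 - PowerSeries.X) ^ (m - j) := by
    intro j hj
    calc gT K ^ j * (1 - PowerSeries.X) ^ m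
        = gT K ^ j * ((1 - PowerSeries.X) ^ j * (1 - PowerSeries.X) ^ (m - j)) := by rw [← pow_add, Nat.add_sub_cancel' hj]
      _ = PowerSeries.X ^ j * ((PowerSeries.mk 1 : PowerSeries K) * (1 - PowerSeries.X)) ^ j * (1 - PowerSeries.X) ^ (m - j) := by
          rw [gT, mul_pow, mul_pow]; ring
      _ = _ := by rw [hkey, one_pow, mul_one]
  have hG : gammaSeries (e - (m : K)) =
      ∑ j ∈ range (m + 1), PowerSeries.C (LambdaOps.lam j e) * (PowerSeries.X ^ j * (1 - PowerSeries.X) ^ (m - j)) := by
    have h := gammaSeries_add (e - (m : K)) (m : K)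
    rw [sub_add_cancel, hm] at h
    calc gammaSeries (e - (m : K)) = gammaSeries (e - (m : K)) * ((PowerSeries.mk 1 : PowerSeries K) * (1 - PowerSeries.X)) ^ m := by
          rw [hkey, one_pow, mul_one]
      _ = gammaSeries e * (1 - PowerSeries.X) ^ m := by rw [h, mul_pow]; ring
      _ = _ := by
          rw [gammaSeries_eq_subst, hlamS, ← PowerSeries.coe_substAlgHom hasSubst_gT, map_sum, Finset.sum_mul]
          refine Finset.sum_congr rfl fun j hj => ?_
          rw [Finset.mem_range] at hj
          rw [map_mul, map_pow, PowerSeries.substAlgHom_X, mul_assoc, hgT j (by omega)]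
          congr 1
          rw [PowerSeries.coe_substAlgHom hasSubst_gT]
          exact PowerSeries.subst_C (a := gT K) _
  ext k
  rw [Polynomial.finsetSum_coeff, Polynomial.finsetSum_coeff]
  simp only [Polynomial.coeff_C_mul, Polynomial.coeff_X_pow, mul_ite, mul_one, mul_zero]
  have hR : ∀ j, ((Polynomial.X - 1 : Polynomial K) ^ (m - j)).coeff k = (-1) ^ (m - j - k) * ((m - j).choose k : K) := by
    intro j
    rw [show (Polynomial.X - 1 : Polynomial K) = Polynomial.X + Polynomial.C (-1 : K) by simp [sub_eq_add_neg],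
      Polynomial.coeff_X_add_C_pow]
  simp only [hR]
  rcases le_or_gt k m with hk | hk
  · rw [Finset.sum_eq_single (m - k) (fun i hi hne => by rw [Finset.mem_range] at hi; rw [if_neg (by omega)])
      (fun h => absurd (Finset.mem_range.mpr (by omega)) h), if_pos (by omega), ← coeff_gammaSeries, hG, map_sum]
    refine Finset.sum_congr rfl fun j hj => ?_
    rw [Finset.mem_range] at hj
    rw [PowerSeries.coeff_C_mul, PowerSeries.coeff_X_pow_mul']
    congr 1
    have hc : ∀ a b : ℕ, PowerSeries.coeff b ((1 - PowerSeries.X : PowerSeries K) ^ a) = (-1) ^ b * (a.choose b : K) := by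
      intro a b
      rw [show (1 - PowerSeries.X : PowerSeries K) = PowerSeries.rescale (-1 : K) (1 + PowerSeries.X) by
        rw [map_add, map_one, PowerSeries.rescale_neg_one_X]; ring, ← map_pow, PowerSeries.coeff_rescale, coeff_one_add_X_pow]
    split_ifs with h
    · rw [hc, show m - k - j = m - j - k by omega, ← Nat.choose_symm (show m - j - k ≤ m - j by omega),
        show m - j - (m - j - k) = k by omega]
    · rw [Nat.choose_eq_zero_of_lt (show m - j < k by omega)]; simp
  · rw [Finset.sum_eq_zero (fun i _ => if_neg (by omega)), eq_comm]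
    refine Finset.sum_eq_zero fun j _ => ?_
    rw [Nat.choose_eq_zero_of_lt (show m - j < k by omega)]; simp

end Groth.Agent.S3290
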