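import Groth.Statements.S3291
import Groth.Agent.Lambda37.Filt

set_option autoImplicit false
universe u
open Finset
open LambdaRing

namespace Groth.Agent.S3291

open Groth.Agent.Lambda37

/-- The γ-filtration F^n K of a λ-ring with positive structure (F^0 = K, F^n for n ≥ 1 generated
additively by products γ^(r₁)(x₁)⋯γ^(r_k)(x_k) with ε(x_i) = 0 and Σ r_i ≥ n) consists of ideals,
and F^m · F^n ⊆ F^(m+n). -/
theorem result (K : Type u) [CommRing K] [LambdaRing.LambdaOps K] (P : LambdaRing.PosStructure K) :
    (∀ (n : ℕ) (a x : K), x ∈ LambdaRing.gammaFiltration P n → a * x ∈ LambdaRing.gammaFiltration P n) ∧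
    ∀ (m n : ℕ) (x y : K), x ∈ LambdaRing.gammaFiltration P m → y ∈ LambdaRing.gammaFiltration P n →
      x * y ∈ LambdaRing.gammaFiltration P (m + n) := by
  exact ⟨fun n a x hx => filt_ideal P a hx, fun m n x y hx hy => filt_mul P hx hy⟩

end Groth.Agent.S3291
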