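import Groth.Prelude.Def_ModelsG
import Groth.Agent.ModPic.Torsion

set_option autoImplicit false
universe u
open CategoryTheory CategoryTheory.Limits AlgebraicGeometry
open Models

namespace Groth.Agent.S3341

/-- In the following situation (R a discrete valuation ring, C a smooth proper curve over its fraction
field K with H^0(C, O_C) = K, X a regular proper model with generic-fibre inclusion g, Γ_1, …, Γ_n
the irreducible components of the closed fibre with multiplicities m_i) let d = gcd(m_1, …, m_n) and
let h ≥ 1 be prime to d. If M is an invertible O_X-module with M^{⊗h} ≅ O_X whose pullback to C is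
trivial, then M ≅ O_X: the map Pic(X)[h] → Pic(C)[h] is injective. -/
theorem result (R : Type u) [CommRing R] [IsDomain R] [IsDiscreteValuationRing R]
    (C X : Scheme.{u}) (f : C ⟶ Spec (CommRingCat.of (FractionRing R))) (p : X ⟶ Spec (CommRingCat.of R))
    (hC : Curve.IsSmoothProperCurve (FractionRing R) C f) (hH0 : IsIso f.appTop)
    (hX : Models.IsRegularProperModel R X p C f)
    {n : ℕ} (Γ : Fin n → ArSurf.VertComp R (Over.mk p)) (hΓ : Models.IsComponentList R (Over.mk p) Γ)
    (g : C ⟶ X) (hg : IsPullback g f p (Spec.map (CommRingCat.ofHom (algebraMap R (FractionRing R))))) (h : ℕ) (hh : 0 < h) (hcop : Nat.Coprime h (Models.multGcd R (Over.mk p) Γ))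
    (M : X.Modules) (hM : PicF.IsInvertible M)
    (htors : Nonempty (CohB1.tensorPow M h ≅ Coh.structureModule X))
    (htriv : Nonempty ((Scheme.Modules.pullback g).obj M ≅ Coh.structureModule C)) :
    Nonempty (M ≅ Coh.structureModule X) := by
  obtain ⟨⟨hflat, hft, hqc, g₀, hg₀⟩, hprop, hreg⟩ := hX
  obtain ⟨L, hL⟩ : ∃ L : Fin n → X.Modules, ∀ i, ClSub.IsInverseOf (L i) (ClSub.idealMod (Groth.Agent.ModPic.cI (Γ i))) := by
    choose L _ e using fun i => Groth.Agent.An92.InvMod.exists_inverse
      ((Groth.Agent.Curves2.isInvertible_idealMod_iff _).2 (Groth.Agent.ModPic.isEffCartier_cI hΓ hreg i))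
    exact ⟨L, fun i => e i⟩
  obtain ⟨k, hk, hcl⟩ := Groth.Agent.ModPic.exists_kernel_generator hreg hΓ L hL hg hH0 hM hh htors htriv
  rw [hcop.gcd_eq_one, Nat.lt_one_iff] at hk
  subst hk
  open scoped Groth.Agent.FGA29 in
  refine Groth.Agent.FGA29.nonempty_iso_of_cl ?_
  rw [Groth.Agent.FGA29.cl_one, hcl]
  simp

end Groth.Agent.S3341
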