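import Groth.Statements.S3350


set_option autoImplicit false
open Finset
open Models Models.NumericalType

namespace Groth.Agent.S3350

/-- Classification of proper subgraphs with two vertices: Let T be a numerical type on n > 2 indices and
i ≠ j two (-2)-indices (g = 0 and a_ii = -2 w_i, a_jj = -2 w_j) with a_ij > 0. Then, after possibly
exchanging i and j, one of the following holds with w = w_i: (A2) w_j = w, a_ij = w, 2 m_i ≥ m_j and
2 m_j ≥ m_i; (B2) w_j = 2w, a_ij = 2w, m_i ≥ m_j and 2 m_j ≥ m_i; (G2) w_j = 3w, a_ij = 3w, 2 m_i ≥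
3 m_j and 2 m_j ≥ m_i. -/
theorem result {n : ℕ} (T : Models.NumericalType n) (hn : 2 < n) (i j : Fin n)
    (hij : i ≠ j) (hi : T.IsMinusTwo i) (hj : T.IsMinusTwo j) (hpos : 0 < T.a i j) :
    ∃ i' j' : Fin n, ((i' = i ∧ j' = j) ∨ (i' = j ∧ j' = i)) ∧
      ((T.w j' = T.w i' ∧ T.a i' j' = T.w i' ∧ T.m j' ≤ 2 * T.m i' ∧ T.m i' ≤ 2 * T.m j') ∨
        (T.w j' = 2 * T.w i' ∧ T.a i' j' = 2 * T.w i' ∧ T.m j' ≤ T.m i' ∧ T.m i' ≤ 2 * T.m j') ∨
        (T.w j' = 3 * T.w i' ∧ T.a i' j' = 3 * T.w i' ∧ 3 * T.m j' ≤ 2 * T.m i' ∧ T.m i' ≤ 2 * T.m j')) := by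
  obtain ⟨_, hii⟩ := hi
  obtain ⟨_, hjj⟩ := hj
  have hsym : T.a j i = T.a i j := T.symm.apply i j
  have hrow : ∀ k, ∑ l, T.a k l * T.m l = 0 := fun k => by
    simpa [Matrix.mulVec, dotProduct] using congrFun T.mulVec_m k
  let s : Finset (Fin n) := (univ.erase i).erase j
  have hsplit : ∀ f : Fin n → ℤ, ∑ l, f l = f i + f j + ∑ l ∈ s, f l := fun f => by
    have hj' : j ∈ univ.erase i := by simp [hij.symm]
    rw [← add_sum_erase _ f (mem_univ i), ← add_sum_erase _ f hj', add_assoc]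
  have hnn : ∀ k, k = i ∨ k = j → ∀ l ∈ s, 0 ≤ T.a k l * T.m l := by
    intro k hk l hl
    refine mul_nonneg (T.offDiag_nonneg k l ?_) (T.m_pos l).le
    simp only [s, mem_erase] at hl
    rcases hk with rfl | rfl
    · exact Ne.symm hl.2.1
    · exact Ne.symm hl.1
  have ei := hrow i
  have ej := hrow j
  rw [hsplit, hii] at ei
  rw [hsplit, hjj, hsym] at ej
  have hRi := sum_nonneg (hnn i (.inl rfl))
  have hRj := sum_nonneg (hnn j (.inr rfl))
  have hstrict : 0 < ∑ l ∈ s, T.a i l * T.m l + ∑ l ∈ s, T.a j l * T.m l := by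
    have hne : ({i, j} : Finset (Fin n)) ≠ univ := by
      intro h
      have := congrArg Finset.card h
      rw [card_pair hij, card_univ, Fintype.card_fin] at this
      omega
    obtain ⟨k, hk, l, hl, hkl⟩ := T.connected {i, j} (by simp) hne
    simp only [mem_insert, mem_singleton] at hk hl
    push Not at hl
    have hls : l ∈ s := by simp [s, hl.1, hl.2]
    have hk' : k ≠ l := by rcases hk with rfl | rfl <;> tauto
    have hp : 0 < T.a k l * T.m l :=
      mul_pos (lt_of_le_of_ne (T.offDiag_nonneg k l hk') (Ne.symm hkl)) (T.m_pos l)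
    rcases hk with rfl | rfl
    · have := single_le_sum (hnn k (.inl rfl)) hls
      linarith
    · have := single_le_sum (hnn k (.inr rfl)) hls
      linarith
  obtain ⟨p, hp⟩ := T.w_dvd i j
  obtain ⟨q, hq⟩ := T.w_dvd j i
  rw [hsym] at hq
  have hwi := T.w_pos i
  have hwj := T.w_pos j
  have hmi := T.m_pos i
  have hmj := T.m_pos j
  have hp0 : 0 < p := by nlinarith
  have hq0 : 0 < q := by nlinarith
  have h1 : p * T.m j ≤ 2 * T.m i := by
    have : T.w i * (p * T.m j) ≤ T.w i * (2 * T.m i) := by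
      rw [← mul_assoc, ← hp]; linarith
    exact le_of_mul_le_mul_left this hwi
  have h2 : q * T.m i ≤ 2 * T.m j := by
    have : T.w j * (q * T.m i) ≤ T.w j * (2 * T.m j) := by
      rw [← mul_assoc, ← hq]; linarith
    exact le_of_mul_le_mul_left this hwj
  have hpq : p * q < 4 := by
    have hs : p * T.m j < 2 * T.m i ∨ q * T.m i < 2 * T.m j := by
      by_contra hc
      push Not at hc
      have e1 : p * T.m j = 2 * T.m i := le_antisymm h1 hc.1
      have e2 : q * T.m i = 2 * T.m j := le_antisymm h2 hc.2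
      have f1 : T.a i j * T.m j = T.w i * (2 * T.m i) := by rw [hp, mul_assoc, e1]
      have f2 : T.a i j * T.m i = T.w j * (2 * T.m j) := by rw [hq, mul_assoc, e2]
      linarith
    have : p * q * (T.m i * T.m j) < 4 * (T.m i * T.m j) := by
      rcases hs with hs | hs
      · calc p * q * (T.m i * T.m j) = (p * T.m j) * (q * T.m i) := by ring
          _ < (2 * T.m i) * (q * T.m i) := mul_lt_mul_of_pos_right hs (mul_pos hq0 hmi)
          _ ≤ (2 * T.m i) * (2 * T.m j) := mul_le_mul_of_nonneg_left h2 (by linarith)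
          _ = _ := by ring
      · calc p * q * (T.m i * T.m j) = (p * T.m j) * (q * T.m i) := by ring
          _ < (p * T.m j) * (2 * T.m j) := mul_lt_mul_of_pos_left hs (mul_pos hp0 hmj)
          _ ≤ (2 * T.m i) * (2 * T.m j) := mul_le_mul_of_nonneg_right h1 (by linarith)
          _ = _ := by ring
    exact lt_of_mul_lt_mul_right this (mul_pos hmi hmj).le
  have hp3 : p ≤ 3 := by nlinarith
  have hq3 : q ≤ 3 := by nlinarith
  interval_cases p <;> interval_cases q <;> simp at hpq
  all_goals first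
    | exact ⟨i, j, .inl ⟨rfl, rfl⟩, by omega⟩
    | exact ⟨j, i, .inr ⟨rfl, rfl⟩, by omega⟩

end Groth.Agent.S3350
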