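import Groth.Statements.S3351
import Mathlib

set_option autoImplicit false
open Models

namespace Groth.Agent.S3351

theorem form_coker_torsion {M : Type} [AddCommGroup M] [Module.Finite ℤ M] [Module.Free ℤ M]
    (β : M →ₗ[ℤ] Module.Dual ℤ M) (hβ : Function.Injective β) (ψ : Module.Dual ℤ M) :
    ∃ c : ℤ, c ≠ 0 ∧ ∃ m, β m = c • ψ := by
  classical
  let b := Module.Free.chooseBasis ℤ M
  let e : Module.Dual ℤ M ≃ₗ[ℤ] M := b.toDualEquiv.symm
  let T : M →ₗ[ℤ] M := e.toLinearMap ∘ₗ β
  have hT : Function.Injective T := e.injective.comp hβ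
  let A := LinearMap.toMatrix b b T
  have hA : A.det ≠ 0 := by
    rw [LinearMap.det_toMatrix]
    exact fun h => by
      have := LinearMap.det_eq_zero_iff_ker_ne_bot.1 h
      exact this (LinearMap.ker_eq_bot.2 hT)
  refine ⟨A.det, hA, Matrix.toLin b b A.adjugate (e ψ), e.injective ?_⟩
  have : T ∘ₗ Matrix.toLin b b A.adjugate = A.det • LinearMap.id := by
    conv_lhs => rw [← Matrix.toLin_toMatrix b b T]
    rw [← Matrix.toLin_mul b b b, Matrix.mul_adjugate, map_smul, Matrix.toLin_one]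
  simpa [T] using LinearMap.congr_fun this (e ψ)


/-- Let L be a finite free Z-module with a positive definite symmetric integral bilinear form, A ⊆ L a
submodule with L/A torsion free and B the orthogonal complement of A. Write M^# for the dual lattice
of a sublattice M, identified here with the Z-dual Hom(M, Z) through the form. Then the natural maps
L/(A ⊕ B) → B^#/B and L/(A ⊕ B) → A^#/A are injective: an element x of L whose functional ⟨x, -⟩ on
B (resp. on A) is represented by an element of B (resp. of A) lies in A ⊕ B. Moreover the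
restriction maps L^# → B^# and L^# → A^# are surjective, so that the cokernels of the two injections
are quotients of L^#/L. -/
theorem result {L : Type} [AddCommGroup L] [Module.Finite ℤ L] [Module.Free ℤ L]
    (B : LinearMap.BilinForm ℤ L) (hsymm : B.IsSymm) (hpos : ∀ x, x ≠ 0 → 0 < B x x)
    (A : Submodule ℤ L) (htf : ∀ (c : ℤ) (x : L), c ≠ 0 → c • x ∈ A → x ∈ A) :
    (∀ x : L, (∃ b ∈ B.orthogonal A, ∀ b' ∈ B.orthogonal A, B x b' = B b b') → x ∈ A ⊔ B.orthogonal A) ∧
      (∀ x : L, (∃ a ∈ A, ∀ a' ∈ A, B x a' = B a a') → x ∈ A ⊔ B.orthogonal A) ∧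
      (∀ ψ : Module.Dual ℤ ↥(B.orthogonal A), ∃ φ : Module.Dual ℤ L, φ ∘ₗ (B.orthogonal A).subtype = ψ) ∧
      (∀ ψ : Module.Dual ℤ ↥A, ∃ φ : Module.Dual ℤ L, φ ∘ₗ A.subtype = ψ) := by
  have hsy : ∀ x y, B x y = B y x := fun x y => hsymm.eq x y
  have hzero : ∀ x, B x x = 0 → x = 0 := fun x hx => by
    by_contra hne
    exact (hpos x hne).ne' hx
  have hO : ∀ x, x ∈ B.orthogonal A ↔ ∀ a ∈ A, B a x = 0 := fun x => Iff.rfl
  let β : A →ₗ[ℤ] Module.Dual ℤ A := B.compl₁₂ A.subtype A.subtype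
  have hβ : Function.Injective β := by
    refine (injective_iff_map_eq_zero β).2 fun a ha => ?_
    exact Subtype.ext (hzero _ (LinearMap.congr_fun ha a))
  have hdec : ∀ x, ∃ c : ℤ, c ≠ 0 ∧ ∃ a ∈ A, c • x - a ∈ B.orthogonal A := by
    intro x
    obtain ⟨c, hc, a, ha⟩ := form_coker_torsion β hβ ((B x) ∘ₗ A.subtype)
    refine ⟨c, hc, a, a.2, (hO _).2 fun a' ha' => ?_⟩
    have h := LinearMap.congr_fun ha ⟨a', ha'⟩
    simp only [β, LinearMap.compl₁₂_apply, Submodule.subtype_apply, LinearMap.smul_apply,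
      LinearMap.comp_apply] at h
    rw [map_sub, map_smul, hsy a' x, hsy a' a, ← h, sub_self]
  have hperp : ∀ y, (∀ b ∈ B.orthogonal A, B y b = 0) → y ∈ A := by
    intro y hy
    obtain ⟨c, hc, a, ha, hb⟩ := hdec y
    refine htf c y hc ?_
    have : B (c • y - a) (c • y - a) = 0 := by
      conv_lhs => rw [LinearMap.map_sub₂, LinearMap.map_smul₂]
      rw [hy _ hb, (hO _).1 hb a ha]
      simp
    rw [sub_eq_zero.1 (hzero _ this)]
    exact ha
  have ext : ∀ S : Submodule ℤ L, (∀ (c : ℤ) (x : L), c ≠ 0 → c • x ∈ S → x ∈ S) →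
      ∀ ψ : Module.Dual ℤ S, ∃ φ : Module.Dual ℤ L, φ ∘ₗ S.subtype = ψ := by
    intro S hS ψ
    have : Module.IsTorsionFree ℤ (L ⧸ S) := by
      refine Module.isTorsionFree_iff_smul_eq_zero.2 ?_
      intro c q hq
      obtain ⟨x, rfl⟩ := Submodule.Quotient.mk_surjective S q
      by_contra hcon
      push Not at hcon
      rw [← Submodule.Quotient.mk_smul, Submodule.Quotient.mk_eq_zero] at hq
      exact hcon.2 ((Submodule.Quotient.mk_eq_zero S).2 (hS c x hcon.1 hq))
    have : Module.Free ℤ (L ⧸ S) := Module.free_of_finite_type_torsion_free'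
    obtain ⟨s, hs⟩ := Module.projective_lifting_property S.mkQ LinearMap.id S.mkQ_surjective
    let r : L →ₗ[ℤ] S := (LinearMap.id - s ∘ₗ S.mkQ).codRestrict S fun x => by
      rw [← Submodule.Quotient.mk_eq_zero]
      have := LinearMap.congr_fun hs (S.mkQ x)
      simp only [LinearMap.comp_apply, LinearMap.id_apply, Submodule.mkQ_apply] at this
      simp [this]
    refine ⟨ψ ∘ₗ r, LinearMap.ext fun x => ?_⟩
    have : r (x : L) = x := by
      apply Subtype.ext
      simp [r, (Submodule.Quotient.mk_eq_zero S).2 x.2]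
    simp [this]
  refine ⟨?_, ?_, ext _ fun c x hc hx => (hO _).2 fun a ha => ?_, ext A htf⟩
  · rintro x ⟨b, hb, h⟩
    refine Submodule.mem_sup.2 ⟨x - b, hperp _ fun b' hb' => ?_, b, hb, sub_add_cancel x b⟩
    rw [LinearMap.map_sub₂, h b' hb', sub_self]
  · rintro x ⟨a, ha, h⟩
    refine Submodule.mem_sup.2 ⟨a, ha, x - a, (hO _).2 fun a' ha' => ?_, add_sub_cancel a x⟩
    rw [map_sub, hsy a' x, hsy a' a, h a' ha', sub_self]
  · have := (hO _).1 hx a ha
    rw [map_smul, smul_eq_mul] at this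
    exact (mul_eq_zero.1 this).resolve_left hc

end Groth.Agent.S3351
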