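import Groth.Statements.S3352
import Mathlib

set_option autoImplicit false
open Models

namespace Groth.Agent.S3352

theorem form_coker_torsion {M : Type} [AddCommGroup M] [Module.Finite ℤ M] [Module.Free ℤ M]
    (β : M →ₗ[ℤ] Module.Dual ℤ M) (hβ : Function.Injective β) (ψ : Module.Dual ℤ M) :
    ∃ c : ℤ, c ≠ 0 ∧ ∃ m, β m = c • ψ := by
  classical
  let b := Module.Free.chooseBasis ℤ M
  let e : Module.Dual ℤ M ≃ₗ[ℤ] M := b.toDualEquiv.symm
  let T : M →ₗ[ℤ] M := e.toLinearMap ∘ₗ β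
  have hT : Function.Injective T := e.injective.comp hβ
  let A := LinearMap.toMatrix b b T
  have hA : A.det ≠ 0 := by
    rw [LinearMap.det_toMatrix]
    exact fun h => by
      have := LinearMap.det_eq_zero_iff_ker_ne_bot.1 h
      exact this (LinearMap.ker_eq_bot.2 hT)
  refine ⟨A.det, hA, Matrix.toLin b b A.adjugate (e ψ), e.injective ?_⟩
  have : T ∘ₗ Matrix.toLin b b A.adjugate = A.det • LinearMap.id := by
    conv_lhs => rw [← Matrix.toLin_toMatrix b b T]
    rw [← Matrix.toLin_mul b b b, Matrix.mul_adjugate, map_smul, Matrix.toLin_one]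
  simpa [T] using LinearMap.congr_fun this (e ψ)


/-- Let L₀, L₁ be finite free ℤ-modules with positive definite symmetric integral bilinear forms, the
form on L₀ unimodular (x ↦ ⟨x, −⟩ is a bijection L₀ → Hom(L₀, ℤ)), and let d : L₀ → L₁ and d* : L₁ →
L₀ be adjoint. Identify Im(d)^# (the dual lattice of Im(d)) with Hom(Im(d), ℤ) through the form on
L₁. Then there is an isomorphism Φ from the torsion subgroup of Coker(d* d) onto Im(d)^#/Im(d),
determined by: for x ∈ L₀ whose class is torsion, Φ[x] is the class of the functional d(y') ↦ ⟨x,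
y'⟩ (equivalently the class of (1/a)·d(y) when a·x = d* d(y)). -/
theorem result {L₀ L₁ : Type} [AddCommGroup L₀] [AddCommGroup L₁]
    [Module.Finite ℤ L₀] [Module.Free ℤ L₀] [Module.Finite ℤ L₁] [Module.Free ℤ L₁]
    (B₀ : LinearMap.BilinForm ℤ L₀) (B₁ : LinearMap.BilinForm ℤ L₁) (h₀s : B₀.IsSymm) (h₁s : B₁.IsSymm)
    (h₀p : ∀ x, x ≠ 0 → 0 < B₀ x x) (h₁p : ∀ x, x ≠ 0 → 0 < B₁ x x) (huni : Function.Bijective B₀)
    (d : L₀ →ₗ[ℤ] L₁) (ds : L₁ →ₗ[ℤ] L₀) (hadj : ∀ x y, B₁ (d x) y = B₀ x (ds y)) :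
    ∃ Φ : ↥(Submodule.torsion ℤ (L₀ ⧸ LinearMap.range (ds ∘ₗ d))) ≃ₗ[ℤ]
        (Module.Dual ℤ ↥(LinearMap.range d) ⧸
          LinearMap.range ((B₁.compl₂ (LinearMap.range d).subtype) ∘ₗ (LinearMap.range d).subtype)),
      ∀ (x : L₀) (hx : Submodule.Quotient.mk x ∈ Submodule.torsion ℤ (L₀ ⧸ LinearMap.range (ds ∘ₗ d)))
        (ψ : Module.Dual ℤ ↥(LinearMap.range d)),
        (∀ y' : L₀, ψ ⟨d y', LinearMap.mem_range_self d y'⟩ = B₀ x y') →
          Φ ⟨Submodule.Quotient.mk x, hx⟩ = Submodule.Quotient.mk ψ := by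
  classical
  set K := LinearMap.range (ds ∘ₗ d) with hK
  set M := LinearMap.range d with hM
  set γ : M →ₗ[ℤ] Module.Dual ℤ M := (B₁.compl₂ M.subtype) ∘ₗ M.subtype with hγ
  set R := LinearMap.range γ with hR
  set T : Submodule ℤ L₀ := (Submodule.torsion ℤ (L₀ ⧸ K)).comap K.mkQ with hT
  have key : ∀ y y', B₀ (ds (d y)) y' = B₁ (d y) (d y') := fun y y' => by
    rw [h₁s.eq (d y) (d y'), hadj, h₀s.eq]
  have hmem : ∀ x, x ∈ T ↔ ∃ a : ℤ, a ≠ 0 ∧ ∃ y, ds (d y) = a • x := by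
    intro x
    rw [hT, Submodule.mem_comap, Submodule.mem_torsion_iff]
    constructor
    · rintro ⟨⟨a, ha⟩, h⟩
      refine ⟨a, mem_nonZeroDivisors_iff_ne_zero.1 ha, ?_⟩
      simp only [Submodule.mkQ_apply, Submonoid.mk_smul, ← Submodule.Quotient.mk_smul,
        Submodule.Quotient.mk_eq_zero] at h
      exact h
    · rintro ⟨a, ha, h⟩
      refine ⟨⟨a, mem_nonZeroDivisors_iff_ne_zero.2 ha⟩, ?_⟩
      simp only [Submodule.mkQ_apply, Submonoid.mk_smul, ← Submodule.Quotient.mk_smul,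
        Submodule.Quotient.mk_eq_zero]
      exact h
  have hker : ∀ x ∈ T, LinearMap.ker d ≤ LinearMap.ker (B₀ x) := by
    intro x hx y hy
    obtain ⟨a, ha, y₀, h⟩ := (hmem x).1 hx
    have : a * B₀ x y = 0 := by
      rw [← smul_eq_mul, ← LinearMap.smul_apply, ← map_smul, ← h, key, LinearMap.mem_ker.1 hy, map_zero]
    exact (mul_eq_zero.1 this).resolve_left ha
  let ψ : T →ₗ[ℤ] Module.Dual ℤ M :=
    { toFun := fun x => (LinearMap.ker d).liftQ (B₀ x) (hker x x.2) ∘ₗ d.quotKerEquivRange.symm.toLinearMap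
      map_add' := fun x y => by
        refine LinearMap.ext fun m => ?_
        obtain ⟨q, hq⟩ := Submodule.Quotient.mk_surjective _ (d.quotKerEquivRange.symm m)
        simp [← hq]
      map_smul' := fun r x => by
        refine LinearMap.ext fun m => ?_
        obtain ⟨q, hq⟩ := Submodule.Quotient.mk_surjective _ (d.quotKerEquivRange.symm m)
        simp [← hq] }
  have hψ : ∀ (x : T) (y : L₀), ψ x ⟨d y, LinearMap.mem_range_self d y⟩ = B₀ x y := by
    intro x y
    have : d.quotKerEquivRange.symm ⟨d y, LinearMap.mem_range_self d y⟩ = Submodule.Quotient.mk y := by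
      rw [LinearEquiv.symm_apply_eq]; ext; simp
    simp [ψ, this]
  have hext : ∀ f g : Module.Dual ℤ M, (∀ y : L₀, f ⟨d y, LinearMap.mem_range_self d y⟩
      = g ⟨d y, LinearMap.mem_range_self d y⟩) → f = g := by
    intro f g h
    refine LinearMap.ext fun m => ?_
    obtain ⟨_, y, rfl⟩ := m
    exact h y
  let θ : T →ₗ[ℤ] Module.Dual ℤ M ⧸ R := R.mkQ ∘ₗ ψ
  have hkerθ : ∀ x : T, θ x = 0 ↔ (x : L₀) ∈ K := by
    intro x
    simp only [θ, LinearMap.comp_apply, Submodule.mkQ_apply, Submodule.Quotient.mk_eq_zero, hR]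
    constructor
    · rintro ⟨⟨_, y, rfl⟩, h⟩
      refine ⟨y, huni.1 (LinearMap.ext fun y' => ?_)⟩
      have := LinearMap.congr_fun h ⟨d y', LinearMap.mem_range_self d y'⟩
      rw [hψ] at this
      rw [LinearMap.comp_apply, key, ← this]
      simp [hγ]
    · rintro ⟨y, hy⟩
      refine ⟨⟨d y, LinearMap.mem_range_self d y⟩, hext _ _ fun y' => ?_⟩
      rw [hψ, ← hy]
      exact (key y y').symm
  have hθsurj : Function.Surjective θ := by
    intro q
    obtain ⟨f, rfl⟩ := Submodule.Quotient.mk_surjective R q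
    obtain ⟨x, hx⟩ := huni.2 (f ∘ₗ d.rangeRestrict)
    have hγi : Function.Injective γ := by
      refine (injective_iff_map_eq_zero γ).2 fun m hm => Subtype.ext ?_
      by_contra hne
      exact (h₁p _ hne).ne' (by simpa [hγ] using LinearMap.congr_fun hm m)
    obtain ⟨a, ha, ⟨_, y, rfl⟩, hm⟩ := form_coker_torsion γ hγi f
    have hxT : x ∈ T := (hmem x).2 ⟨a, ha, y, huni.1 (LinearMap.ext fun y' => by
      rw [key, map_smul, hx]
      have := LinearMap.congr_fun hm ⟨d y', LinearMap.mem_range_self d y'⟩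
      simp only [hγ] at this
      exact this)⟩
    refine ⟨⟨x, hxT⟩, congrArg R.mkQ (hext _ _ fun y' => ?_)⟩
    rw [hψ, hx]
    rfl
  let π : T →ₗ[ℤ] ↥(Submodule.torsion ℤ (L₀ ⧸ K)) := (K.mkQ ∘ₗ T.subtype).codRestrict _ fun x => x.2
  have hπs : Function.Surjective π := by
    rintro ⟨q, hq⟩
    obtain ⟨x, rfl⟩ := Submodule.Quotient.mk_surjective K q
    exact ⟨⟨x, hq⟩, rfl⟩
  have hkereq : LinearMap.ker π = LinearMap.ker θ := by
    ext x
    rw [LinearMap.mem_ker, LinearMap.mem_ker, hkerθ, Subtype.ext_iff]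
    exact Submodule.Quotient.mk_eq_zero K
  refine ⟨(π.quotKerEquivOfSurjective hπs).symm ≪≫ₗ Submodule.quotEquivOfEq _ _ hkereq ≪≫ₗ
    θ.quotKerEquivOfSurjective hθsurj, fun x hx f hf => ?_⟩
  have hxT : x ∈ T := hx
  have h1 : (π.quotKerEquivOfSurjective hπs).symm ⟨Submodule.Quotient.mk x, hx⟩
      = Submodule.Quotient.mk (⟨x, hxT⟩ : T) := by
    rw [LinearEquiv.symm_apply_eq]; rfl
  simp only [LinearEquiv.trans_apply, h1, Submodule.quotEquivOfEq_mk]
  show θ ⟨x, hxT⟩ = _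
  exact congrArg R.mkQ (hext _ _ fun y' => by rw [hψ, hf])

end Groth.Agent.S3352
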