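import Groth.Statements.S3355
import Groth.Agent.ParaF26.Hypersurface

set_option autoImplicit false
universe u
open CategoryTheory CategoryTheory.Limits AlgebraicGeometry
open ParaF

namespace Groth.Agent.S3355

/-- Let A be a Noetherian local ring which is a quotient of a regular local ring, t an A-regular element
of the maximal ideal with A complete for the t-adic topology, X the punctured spectrum of A and Y =
V(t) ∩ X, and assume (a) depth A_p ≥ 2 for every prime p with dim A/p = 1. Assume moreover (c) depth
A_p ≥ 3 for every prime p containing t with dim A/p = 1 (the closed points of Y), (d) depth A/tA ≥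
4, and (e) A_p is parafactorial for every prime p not containing t with dim A/p = 1, i.e. at the
closed points of X outside Y (the published statement places this hypothesis at the points of Y;
here it is taken at the closed points of X outside Y; the letters (a), (c), (d), (e) match the names
of the hypotheses in the Lean statement). Then pull-back along Y → X induces a bijection Pic(X) →
Pic(Y) (trivial kernel and every invertible O_Y-module comes from an invertible O_X-module); in
particular A is parafactorial if and only if A/tA is. -/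
theorem result (R : Type u) [CommRing R] [IsRegularLocalRing R] (A : Type u) [CommRing A] [IsLocalRing A] [IsNoetherianRing A] (π : R →+* A) (hπ : Function.Surjective π) (t : A) (ht : t ∈ IsLocalRing.maximalIdeal A) (hreg : IsSMulRegular A t) [IsAdicComplete (Ideal.span {t}) A] (ha : ∀ p : PrimeSpectrum A, ringKrullDim (A ⧸ p.asIdeal) = 1 → (2 : ℕ∞) ≤ LocCoh.depth (Localization.AtPrime p.asIdeal) (Localization.AtPrime p.asIdeal)) (hc : ∀ p : PrimeSpectrum A, t ∈ p.asIdeal → ringKrullDim (A ⧸ p.asIdeal) = 1 → (3 : ℕ∞) ≤ LocCoh.depth (Localization.AtPrime p.asIdeal) (Localization.AtPrime p.asIdeal)) [IsLocalRing (A ⧸ Ideal.span {t})] (hd : (4 : ℕ∞) ≤ LocCoh.depth (A ⧸ Ideal.span {t}) (A ⧸ Ideal.span {t})) (he : ∀ p : PrimeSpectrum A, t ∉ p.asIdeal → ringKrullDim (A ⧸ p.asIdeal) = 1 → ParaF.IsParafactorialLocalRing (Localization.AtPrime p.asIdeal)) : (Formal2.PicPullbackInjective (((Spec.map (CommRingCat.ofHom (Ideal.Quotient.mk (Ideal.span {t})))).ker.comap (FEt.puncturedSpec A).ι)).subschemeι ∧ Formal2.PicPullbackSurjective (((Spec.map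 (CommRingCat.ofHom (Ideal.Quotient.mk (Ideal.span {t})))).ker.comap (FEt.puncturedSpec A).ι)).subschemeι) ∧ (ParaF.IsParafactorialLocalRing A ↔ ParaF.IsParafactorialLocalRing (A ⧸ Ideal.span {t})) := by
  have hJ : Ideal.span {t} ≠ ⊤ := ne_top_of_le_ne_top (IsLocalRing.maximalIdeal.isMaximal A).ne_top
    ((Ideal.span_singleton_le_iff_mem _).2 ht)
  have h3 : (3 : ℕ∞) ≤ LocCoh.depth (A ⧸ Ideal.span {t}) (A ⧸ Ideal.span {t}) :=
    (show (3 : ℕ∞) ≤ 4 by decide).trans hd
  refine ⟨⟨ParaF26.picPullbackInjective_subschemeι hJ h3 (ParaF26.gr_free_of_regular hreg),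
    ParaF26.picPullbackSurjective_subschemeι ht hreg hd he⟩, fun h => ?_, fun h => ?_⟩
  · exact ParaF26.parafactorial_iff.2 ⟨(show (2 : ℕ∞) ≤ 4 by decide).trans hd,
      ParaF26.picTrivial_quotient ht hreg hd he (ParaF26.parafactorial_iff.1 h).2⟩
  · obtain ⟨h3', hp⟩ := ParaF26.picTrivial_of_gr_free hJ h3 (ParaF26.gr_free_of_regular hreg)
      (ParaF26.parafactorial_iff.1 h).2
    exact ParaF26.parafactorial_iff.2 ⟨(show (2 : ℕ∞) ≤ 3 by decide).trans h3', hp⟩

end Groth.Agent.S3355
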