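import Groth.Statements.S3357
import Groth.Agent.An92.LefX.PicX
import Groth.Agent.ParaF26.Local
import Groth.Agent.ParaF26.CompleteIntersection
import Groth.Agent.RegUFD52.Basic
import Groth.Agent.CAlg1.Regular

set_option autoImplicit false
universe u
open CategoryTheory CategoryTheory.Limits AlgebraicGeometry
open LefX

set_option backward.isDefEq.respectTransparency.types false
set_option linter.style.haveILetI false

namespace Groth.Agent.S3357

/-- Let X be a locally Noetherian scheme, 𝓘 a coherent ideal with Y = V(𝓘), Y_p the closed subscheme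
defined by 𝓘^(p+1), and n ≥ 0. Assume: (i) Leff(X, Y) holds; (ii) H^i(X, 𝓘^(p+1)/𝓘^(p+2)) = 0 for i
= 1, 2 and every p ≥ n; (iii) for every open U ⊇ Y and every x outside U, the local ring O_{X,x} is
either regular of dimension ≥ 2 or a complete intersection (quotient of a regular local ring by a
regular sequence) of dimension ≥ 4. Then for every open U ⊇ Y and every p ≥ n the pull-back maps
Pic(X) → Pic(U) and Pic(U) → Pic(Y_p) are bijective. -/
theorem result (X : Scheme.{u}) [IsLocallyNoetherian X] (𝓘 : X.IdealSheafData) (n : ℕ) (h1 : LefX.LeffCond X 𝓘) (h2 : (∀ q : ℕ, n ≤ q → ∀ i : ℕ, (i = 1 ∨ i = 2) → Subsingleton (Coh.HH X (kernel (Lef.quotMap (Lef.pow_succ_le 𝓘 q))) i))) (h3 : ∀ U : X.Opens, (𝓘.support : Set X) ⊆ (U : Set X) → ∀ x : X, x ∉ U → (IsRegularLocalRing (X.presheaf.stalk x) ∧ (2 : WithBot ℕ∞) ≤ ringKrullDim (X.presheaf.stalk x)) ∨ (SGA2.IsAbsCompleteIntersection (X.presheaf.stalk x) ∧ (4 : WithBot ℕ∞) ≤ ringKrullDim (X.presheaf.stalk x))) (U : X.Opens) (hU :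 (𝓘.support : Set X) ⊆ (U : Set X)) (p : ℕ) (hp : n ≤ p) : (Formal2.PicPullbackInjective U.ι ∧ Formal2.PicPullbackSurjective U.ι) ∧ (Formal2.PicPullbackInjective ((𝓘.comap U.ι) ^ (p + 1)).subschemeι ∧ Formal2.PicPullbackSurjective ((𝓘.comap U.ι) ^ (p + 1)).subschemeι) := by
  have h3' : ∀ U : X.Opens, (𝓘.support : Set X) ⊆ (U : Set X) → ∀ x : X, x ∉ U →
      ParaF.IsParafactorialLocalRing (X.presheaf.stalk x) := by
    intro V hV x hx
    rcases h3 V hV x hx with ⟨hr, hd⟩ | ⟨hci, hd⟩
    · haveI := hr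
      haveI : IsDomain (X.presheaf.stalk x) := CAlg1.isDomain_regular _
      haveI := RegUFD52.ufm_of_regular (X.presheaf.stalk x)
      exact ParaF26.parafactorial_iff.2 ⟨CAlg1.two_le_depth_of_isIntegrallyClosed _ hd,
        ParaF26.nonempty_iso_unit_of_ufd (A := CommRingCat.of (X.presheaf.stalk x)) (FEt.puncturedSpec _)⟩
    · exact ParaF26.parafactorial_of_completeIntersection (ParaF26.isCompleteIntersection_of_abs hci) hd
  exact ⟨An92.LefX.picPullback_bijective_of_stalks U (h3' U hU),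
    An92.LefX.picPullback_kι_comap_bijective 𝓘 h1 n h2 h3' U hU p hp⟩

end Groth.Agent.S3357
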