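import Groth.Agent.Depth22.FibreClopen
import Groth.Statements.S3377
-- import your own Groth.Agent.* helpers here

set_option autoImplicit false
set_option backward.isDefEq.respectTransparency.types false
universe u
open CategoryTheory CategoryTheory.Limits AlgebraicGeometry Opposite
open EtDepth

namespace Groth.Agent.S3377

open Groth.Agent.Depth22

/-- Reducedness and geometric unibranchness of fibre stalks ascend along etale morphisms. -/
theorem fibreStalk_etale {X X' S : Scheme.{u}} (f : X ⟶ S) (g : X' ⟶ X) [Etale g] (y : X') :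
    (_root_.IsReduced (CInt.fiberStalk f (g y)) → _root_.IsReduced (CInt.fiberStalk (g ≫ f) y)) ∧
    (CAlg2.IsGeomUnibranch ↑(CInt.fiberStalk f (g y)) → CAlg2.IsGeomUnibranch ↑(CInt.fiberStalk (g ≫ f) y)) := by
  let s : S := f (g y)
  let i := S.fromSpecResidueField s
  let π : (g ≫ f).fiber s ⟶ f.fiber s :=
    (pullbackRightPullbackFstIso f i g).inv ≫ pullback.snd g (pullback.fst f i)
  have : Etale (pullback.snd g (pullback.fst f i)) := MorphismProperty.pullback_snd _ _ inferInstance
  have hπ : Etale π := MorphismProperty.comp_mem @Etale _ _ inferInstance this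
  have hfac : π ≫ f.fiberι s = (g ≫ f).fiberι s ≫ g := by
    show ((pullbackRightPullbackFstIso f i g).inv ≫ pullback.snd g (pullback.fst f i)) ≫ pullback.fst f i =
      pullback.fst (g ≫ f) i ≫ g
    rw [Category.assoc, ← pullback.condition, ← pullbackRightPullbackFstIso_inv_fst f i g,
      Category.assoc]
  let z : (g ≫ f).fiber s := (g ≫ f).asFiber y
  have hz : π z = f.asFiber (g y) := by
    refine (f.fiberι s).isEmbedding.injective ?_
    refine (congrArg (fun k => k z) hfac).trans ?_
    show g ((g ≫ f).fiberι s ((g ≫ f).asFiber y)) = f.fiberι s (f.asFiber (g y))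
    exact (congrArg g ((g ≫ f).fiberι_asFiber y)).trans (f.fiberι_asFiber (g y)).symm
  constructor
  · intro h
    have h' : _root_.IsReduced ((f.fiber s).presheaf.stalk (π z)) := by rw [hz]; exact h
    exact (Unr55.isReduced_stalk_iff_of_etale π z).2 h'
  · intro h
    have h' : CAlg2.IsGeomUnibranch ((f.fiber s).presheaf.stalk (π z)) := by rw [hz]; exact h
    exact Unr55.EtComp.isGeomUnibranch_stalk π z ⟨⊤, trivial, inferInstance⟩ h'

/-- Let f : X → S be a flat morphism of locally Noetherian schemes with separable (geometrically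
reduced) fibres, j : U → X an open immersion with closed complement Y, and assume Y_s is nowhere
dense in X_s for every s, i.e. the local ring of the fibre at every point of Y has dimension ≥ 1.
Assume moreover either (a) the closure of f(Y) is nowhere dense in S, or (b) for every y ∈ Y the
fibre X_{f(y)} is geometrically unibranch at y. Then the Y-étale depth of X is ≥ 2: for every prime
ℓ the local cohomology sheaves H^0_Y and H^1_Y of the constant sheaf Z/ℓ vanish. -/
theorem result {X U S : Scheme.{u}} [IsLocallyNoetherian X] [IsLocallyNoetherian S] (f : X ⟶ S) [Flat f] (hsep : ∀ s : S, AlgebraicGeometry.geometrically (fun Z : Scheme.{u} => IsReduced Z) (f.fiberToSpecResidueField s)) (j : U ⟶ X) [IsOpenImmersion j] [EtCoh.BCCont j] (hY : ∀ y : X, y ∉ Set.range j.base → (1 : WithBot ℕ∞) ≤ ringKrullDim ↑(CInt.fiberStalk f y)) (hab : IsNowhereDense (f.base '' (Set.range j.base)ᶜ) ∨ ∀ y : X, y ∉ Set.range j.base → CAlg2.IsGeomUnibranch ↑(CInt.fiberStalk f y)) (ℓ : ℕ) (hℓ : ℓ.Prime) : EtDepth.DepthGE j (EtCoh.const X (ZMod ℓ)) 2 := by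
  have : Fact ℓ.Prime := ⟨hℓ⟩
  refine (depthGE_two_iff_clopenExtends j (AddCommGrpCat.of (ULift.{u + 1} (ZMod ℓ)))).2 ⟨?_, ?_⟩
  all_goals intro X' g _
  all_goals (
    have : IsLocallyNoetherian X' := LocallyOfFiniteType.isLocallyNoetherian g
    have hdim : ∀ y : X', y ∉ g ⁻¹' Set.range j →
        (1 : WithBot ℕ∞) ≤ ringKrullDim ↑(CInt.fiberStalk (g ≫ f) y) := fun y hy =>
      (hY (g y) hy).trans (CAlg9.CIT.dim_fiberStalk_le_comp f g y))
  · intro C hC hCV
    by_contra hne
    obtain ⟨z, hz⟩ := (FibreClopen.dense (g ≫ f) _ hdim).inter_open_nonempty C hC.2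
      (Set.nonempty_iff_ne_empty.2 hne)
    exact (hCV.le hz).elim
  · intro T hT hT' hTV
    let V : Set X' := g ⁻¹' Set.range j
    have hred : ∀ y : X', y ∉ V → _root_.IsReduced ↑(CInt.fiberStalk (g ≫ f) y) := fun y _ =>
      (fibreStalk_etale f g y).1 <| by
        have : IsReduced (f.fiber (f (g y))) :=
          (hsep (f (g y))) (𝟙 _) (𝟙 _) (f.fiberToSpecResidueField (f (g y))) IsPullback.of_id_fst
        infer_instance
    have hVT : V ⊆ T ∪ (V \ T) := by rw [Set.union_sdiff_self]; exact Set.subset_union_right
    have hdis : Disjoint T (V \ T) := Set.disjoint_sdiff_right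
    have hB : closure T ∩ closure (V \ T) = ∅ := by
      rcases hab with ha | hb
      · exact FibreClopen.separated_of_depth (g ≫ f) V hdim hred
          (fun y hy => FibreClopen.exists_strict_generization ha ⟨g y, hy, rfl⟩)
          hT hT' hTV Set.sdiff_subset hVT hdis
      · refine Set.eq_empty_of_forall_notMem fun y hy => ?_
        by_cases hyV : y ∈ V
        · rcases hVT hyV with hh | hh
          · exact (hdis.closure_right hT).le_bot ⟨hh, hy.2⟩
          · exact (hdis.closure_left hT').le_bot ⟨hy.1, hh⟩
        · have := hred y hyV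
          have hu := (fibreStalk_etale f g y).2 (hb (g y) hyV)
          have hdom := hu.1.1
          have : IsDomain ↑(CInt.fiberStalk (g ≫ f) y) := by
            have e : nilradical ↑(CInt.fiberStalk (g ≫ f) y) = ⊥ := nilradical_eq_zero _
            exact ((RingEquiv.quotientBot _).symm.trans (Ideal.quotEquivOfEq e.symm)).toMulEquiv.isDomain
          exact FibreClopen.separated_of_isDomain (g ≫ f) V hdim hT hT' hVT hdis hy
    have hcl : (closure T)ᶜ = closure (V \ T) := by
      refine Set.Subset.antisymm (fun x hx => ?_) (fun x hx hx' => (hB.le ⟨hx', hx⟩).elim)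
      have h := closure_mono hVT (FibreClopen.dense (g ≫ f) V hdim x)
      rw [closure_union] at h
      exact h.resolve_left hx
    refine ⟨closure T, ⟨isClosed_closure, isClosed_compl_iff.1 (hcl ▸ isClosed_closure)⟩, ?_⟩
    refine Set.Subset.antisymm (fun x hx => ?_) (fun x hx => ⟨subset_closure hx, hTV hx⟩)
    by_contra hxT
    exact (hB.le ⟨hx.1, subset_closure ⟨hx.2, hxT⟩⟩).elim

end Groth.Agent.S3377
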