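import Groth.Statements.S3387
import Groth.Agent.Dim62.Local
import Groth.Agent.E4O.OpenMapDims

set_option autoImplicit false
open CategoryTheory AlgebraicGeometry
universe u
open EGA43

open Groth.Agent.E4O Groth.Agent.Dim62 TopologicalSpace

namespace Groth.Agent.S3387

/-- Let f : X ⟶ Y be locally of finite type and closed (as a map of underlying spaces). Then for every
natural number n the set of points y of Y whose fibre has dimension at least n is closed; that is,
the dimension of the fibre is upper semicontinuous on Y. -/
theorem result {X Y : Scheme.{u}} (f : X ⟶ Y) [LocallyOfFiniteType f]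
    (hf : IsClosedMap f.base) (n : ℕ) :
    IsClosed {y : Y | (n : WithBot ℕ∞) ≤ topologicalKrullDim ↥(f.fiber y)} := by
  have key : {y : Y | (n : WithBot ℕ∞) ≤ topologicalKrullDim ↥(f.fiber y)} =
      f '' {x | FlatMor.fibreDimAt f x < (n : WithBot ℕ∞)}ᶜ := by
    ext y
    constructor
    · intro h
      by_contra hne
      have hlt : ∀ x, f x = y → fdeg f x < n := fun x hx => by
        by_contra hle
        refine hne ⟨x, fun hlt => ?_, hx⟩
        have h1 := (fdeg_le_fibreDimAt (f := f) (x := x) (z := x) specializes_rfl rfl).trans_lt hlt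
        exact hle (by exact_mod_cast h1)
      cases n with
      | zero =>
        have hd := (dim_fiber_le_iff f y ⊥).2 fun x hx => absurd (hlt x hx) (Nat.not_lt_zero _)
        exact absurd ((show ((0 : ℕ) : WithBot ℕ∞) ≤ _ from h).trans hd) (by simp)
      | succ m =>
        have hd := (dim_fiber_le_iff f y (m : WithBot ℕ∞)).2 fun x hx => by
          exact_mod_cast Nat.lt_succ_iff.1 (hlt x hx)
        have := (show ((m + 1 : ℕ) : WithBot ℕ∞) ≤ _ from h).trans hd
        norm_cast at this
        omega
    · rintro ⟨x, hx, rfl⟩
      exact (not_lt.1 (show ¬ FlatMor.fibreDimAt f x < (n : WithBot ℕ∞) from hx)).trans (fibreDimAt_le_dim_fiber f x)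
  rw [key]
  exact hf _ (isOpen_fibreDimAt_lt f _).isClosed_compl

end Groth.Agent.S3387
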