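import Groth.Statements.S3388
import Groth.Agent.Dim62.Local

set_option autoImplicit false
open CategoryTheory AlgebraicGeometry
universe u
open EGA43

open Groth.Agent.E4O Groth.Agent.Dim62 TopologicalSpace

namespace Groth.Agent.S3388

/-- Let X and Y be irreducible schemes and f : X ⟶ Y a dominant morphism locally of finite type; let e
be the dimension of the fibre over the generic point of Y. Then for every point x of X the local
dimension at x of the fibre through x is at least e. -/
theorem result {X Y : Scheme.{u}} [IrreducibleSpace X] [IrreducibleSpace Y]
    (f : X ⟶ Y) [LocallyOfFiniteType f] [IsDominant f] (x : X) :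
    topologicalKrullDim ↥(f.fiber (genericPoint Y)) ≤ FlatMor.fibreDimAt f x := by
  have hη : f (genericPoint X) = genericPoint Y :=
    ((genericPoint_spec X).image f.continuous).eq (by
      have := (genericPoint_spec Y)
      rwa [Set.image_univ, f.denseRange.closure_range])
  refine le_trans ((dim_fiber_le_iff f _ _).2 fun w hw => ?_)
    (fdeg_le_fibreDimAt_of_specializes (genericPoint_specializes x))
  exact_mod_cast fdeg_le (f := f) (genericPoint_specializes w) (hη.trans hw.symm)

end Groth.Agent.S3388
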