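import Groth.Statements.S3389
import Groth.Agent.Dim62.Local

set_option autoImplicit false
open CategoryTheory AlgebraicGeometry
universe u
open EGA43

open Groth.Agent.E4O Groth.Agent.Dim62 TopologicalSpace

namespace Groth.Agent.S3389

/-- Let Y be a quasi-compact scheme and f : X ⟶ Y a morphism of finite type. Then there is a natural
number n bounding the dimension of every fibre of f. -/
theorem result {X Y : Scheme.{u}} [CompactSpace Y] (f : X ⟶ Y)
    [LocallyOfFiniteType f] [QuasiCompact f] :
    ∃ n : ℕ, ∀ y : Y, topologicalKrullDim ↥(f.fiber y) ≤ n := by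
  have : CompactSpace X := QuasiCompact.compactSpace_of_compactSpace f
  choose C hC hC' using fun x : X => exists_chart f x
  obtain ⟨t, ht⟩ := isCompact_univ.elim_finite_subcover (fun x => Set.range (C x).pt)
    (fun x => (C x).isOpen_range) (fun x _ => Set.mem_iUnion.2 ⟨x, hC x⟩)
  choose N hN using fun x => (C x).bddAbove_deg
  refine ⟨t.sup N, fun y => (dim_fiber_le_iff f y _).2 fun w _ => ?_⟩
  obtain ⟨x, hx, q, rfl⟩ := Set.mem_iUnion₂.1 (ht (Set.mem_univ w))
  rw [← (C x).deg_eq_fdeg]
  exact_mod_cast (hN x q).trans (Finset.le_sup hx)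

end Groth.Agent.S3389
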