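import Groth.Statements.S3390
import Groth.Agent.Dim62.Local

set_option autoImplicit false
open CategoryTheory AlgebraicGeometry
universe u
open EGA43

open Groth.Agent.E4O Groth.Agent.Dim62 TopologicalSpace

namespace Groth.Agent.S3390

/-- Let Y be an irreducible locally Noetherian scheme with generic point η and X an irreducible scheme,
and let f : X ⟶ Y be dominant and locally of finite type. Take a point x of X and write y = f x.
Suppose dim O_{X,x} = dim O_{Y,y} + dim O_{X_y,x}. Then the local dimension of the fibre X_y at x
(FlatMor.fibreDimAt f x) equals the dimension of the generic fibre X_η (i.e. f is equidimensional at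
x). -/
theorem result {X Y : Scheme.{u}} [IrreducibleSpace X] [IrreducibleSpace Y]
    [IsLocallyNoetherian Y] (f : X ⟶ Y) [LocallyOfFiniteType f] [IsDominant f] (x : X)
    (h : ringKrullDim (X.presheaf.stalk x) =
        ringKrullDim (Y.presheaf.stalk (f.base x)) + ringKrullDim ((f.fiber (f.base x)).presheaf.stalk (f.asFiber x))) :
    FlatMor.fibreDimAt f x = topologicalKrullDim ↥(f.fiber (genericPoint Y)) := by
  obtain ⟨C, ⟨q, rfl⟩, hC⟩ := exists_chart f x
  have := hC ‹_›
  have : IsNoetherianRing C.B := Algebra.FiniteType.isNoetherianRing C.A _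
  obtain ⟨a, b, k, ha, hb, hA, hB, hK, hD, hle⟩ := exists_data C q
  rw [hA, hB, hK] at h
  norm_cast at h
  obtain ⟨m, hmq, hm, hme⟩ := exists_minimal_relHeight_eq q
  obtain ⟨a', b', ha', hb', ha1, -, h1, h2, -⟩ := exists_component_data C hmq
  rw [hme, hb] at hb'
  rw [ha] at ha1
  rw [hD] at h2 ⊢
  norm_cast at hb' ha1 h2
  have hgen : C.pt m = genericPoint X :=
    ((C.isMin_iff m).1 hm _ (genericPoint_specializes _)).symm
  have hη : f (genericPoint X) = genericPoint Y :=
    ((genericPoint_spec X).image f.continuous).eq (by
      have := (genericPoint_spec Y)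
      rwa [Set.image_univ, f.denseRange.closure_range])
  refine le_antisymm ?_ ?_
  · rw [show k + fdeg f (C.pt q) = fdeg f (C.pt m) by omega, hgen, ← hη]
    exact le_dim_fiber f (genericPoint X)
  · rw [dim_fiber_le_iff]
    intro w hw
    have h3 := fdeg_le (f := f) (genericPoint_specializes w) (hη.trans hw.symm)
    rw [← hgen] at h3
    exact_mod_cast (by omega : fdeg f w ≤ k + fdeg f (C.pt q))

end Groth.Agent.S3390
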