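import Groth.Statements.S3391
import Groth.Agent.Dim62.Local

set_option autoImplicit false
open CategoryTheory AlgebraicGeometry
universe u
open EGA43

open Groth.Agent.E4O Groth.Agent.Dim62 TopologicalSpace

namespace Groth.Agent.S3391

/-- With X, Y, f, x, y as in the first assertion, suppose O_{Y,y} is universally catenary and the local
dimension at x of the fibre through x equals the dimension of the generic fibre. Then dim O_{X,x} =
dim O_{Y,y} + dim O_{X_y,x}. -/
theorem result {X Y : Scheme.{u}} [IrreducibleSpace X] [IrreducibleSpace Y]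
    [IsLocallyNoetherian Y] (f : X ⟶ Y) [LocallyOfFiniteType f] [IsDominant f] (x : X)
    (hcat : CAlg.IsUniversallyCatenary (Y.presheaf.stalk (f.base x)))
    (h : FlatMor.fibreDimAt f x = topologicalKrullDim ↥(f.fiber (genericPoint Y))) :
    ringKrullDim (X.presheaf.stalk x) =
        ringKrullDim (Y.presheaf.stalk (f.base x)) + ringKrullDim ((f.fiber (f.base x)).presheaf.stalk (f.asFiber x)) := by
  obtain ⟨C, ⟨q, rfl⟩, hC⟩ := exists_chart f x
  have := hC ‹_›
  have : IsNoetherianRing C.B := Algebra.FiniteType.isNoetherianRing C.A _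
  obtain ⟨a, b, k, ha, hb, hA, hB, hK, hD, hle⟩ := exists_data C q
  have hη : f (genericPoint X) = genericPoint Y :=
    ((genericPoint_spec X).image f.continuous).eq (by
      have := (genericPoint_spec Y)
      rwa [Set.image_univ, f.denseRange.closure_range])
  obtain ⟨m, hm⟩ := (genericPoint_specializes (C.pt q)).mem_open
    C.isOpenEmbedding_pt.isOpen_range ⟨q, rfl⟩
  have hmq : m ≤ q := (C.specializes_iff _ _).1 (hm ▸ genericPoint_specializes _)
  obtain ⟨a', b', ha', hb', ha1, hb1, h1, h2, heq⟩ := exists_component_data C hmq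
  have hd : topologicalKrullDim ↥(f.fiber (genericPoint Y)) ≤ ((fdeg f (C.pt m) : ℕ) : WithBot ℕ∞) := by
    rw [dim_fiber_le_iff]
    intro w hw
    have h3 := fdeg_le (f := f) (genericPoint_specializes w) (hη.trans hw.symm)
    rw [← hm] at h3
    exact_mod_cast h3
  rw [← h, hD] at hd
  rw [hD] at h2
  have h1' := heq (by rw [← apply_eq]; exact hcat)
  -- the image of the generic point is the only minimal prime
  have hmin : ∀ t : PrimeSpectrum C.A, cpt C m ≤ t := fun t => by
    show (cpt C m).asIdeal ≤ t.asIdeal
    rw [← C.specializesY_iff, ← apply_eq, hm, hη]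
    exact genericPoint_specializes _
  obtain ⟨m₀, hm₀, hm₀min, hm₀e⟩ := exists_minimal_relHeight_eq (cpt C q)
  obtain rfl : cpt C m = m₀ := le_antisymm (hmin _) (hm₀min (hmin _))
  rw [ha', ha] at hm₀e
  rw [hb] at hb1
  norm_cast at hm₀e hb1 hd h2
  rw [hA, hB, hK]
  exact_mod_cast (by omega : b = a + k)

end Groth.Agent.S3391
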