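import Groth.Statements.S3392
import Groth.Agent.Dim62.Local

set_option autoImplicit false
open CategoryTheory AlgebraicGeometry
universe u
open EGA43

open Groth.Agent.E4O Groth.Agent.Dim62 TopologicalSpace

namespace Groth.Agent.S3392

/-- Let Y be an irreducible locally Noetherian scheme, f : X ⟶ Y a morphism of finite type and y a point
of Y. Condition (a): for every point x of the fibre over y, dim O_{X,x} = dim O_{Y,y} + dim
O_{X_y,x}. Condition (b): for every point z of the fibre over y at which the local ring of the fibre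
has dimension 0 (the generic points of the irreducible components of the fibre), dim O_{X,z} = dim
O_{Y,y}. Then (a) implies (b), and (b) implies (a) if O_{Y,y} is universally catenary. -/
theorem result {X Y : Scheme.{u}} [IrreducibleSpace Y] [IsLocallyNoetherian Y]
    (f : X ⟶ Y) [LocallyOfFiniteType f] [QuasiCompact f] (y : Y) :
    ((∀ x : X, f.base x = y → ringKrullDim (X.presheaf.stalk x) =
        ringKrullDim (Y.presheaf.stalk (f.base x)) + ringKrullDim ((f.fiber (f.base x)).presheaf.stalk (f.asFiber x))) →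
      (∀ z : X, f.base z = y → ringKrullDim ((f.fiber (f.base z)).presheaf.stalk (f.asFiber z)) = 0 →
        ringKrullDim (X.presheaf.stalk z) = ringKrullDim (Y.presheaf.stalk (f.base z)))) ∧
    (CAlg.IsUniversallyCatenary (Y.presheaf.stalk y) →
      (∀ z : X, f.base z = y → ringKrullDim ((f.fiber (f.base z)).presheaf.stalk (f.asFiber z)) = 0 →
        ringKrullDim (X.presheaf.stalk z) = ringKrullDim (Y.presheaf.stalk (f.base z))) →
      (∀ x : X, f.base x = y → ringKrullDim (X.presheaf.stalk x) =
        ringKrullDim (Y.presheaf.stalk (f.base x)) + ringKrullDim ((f.fiber (f.base x)).presheaf.stalk (f.asFiber x)))) := by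
  refine ⟨fun h z hz hk => ?_, fun hcat h x hx => ?_⟩
  · rw [h z hz, hk, add_zero]
  · obtain ⟨C, ⟨q, rfl⟩, hC⟩ := exists_chart f x
    have := hC ‹_›
    have : IsNoetherianRing C.B := Algebra.FiniteType.isNoetherianRing C.A _
    subst hx
    obtain ⟨a, b, k, ha, hb, hA, hB, hK, hD, hle⟩ := exists_data C q
    obtain ⟨z, hz, hfz, hzmax, hzD, -⟩ := exists_isFibreMax_specializes f (C.pt q)
    obtain ⟨r, rfl⟩ := hz.mem_open C.isOpenEmbedding_pt.isOpen_range ⟨q, rfl⟩
    have hrq : r ≤ q := (C.specializes_iff _ _).1 hz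
    have hcr : cpt C r = cpt C q := (cpt_eq_iff C r q).1 hfz
    obtain ⟨ar, br, kr, har, hbr, hAr, hBr, hKr, hDr, hler⟩ := exists_data C r
    rw [fibreDimAt_eq_fdeg hzmax] at hDr
    norm_cast at hDr
    have hr := h (C.pt r) hfz (by rw [hKr, show kr = 0 by omega]; rfl)
    rw [hAr, hBr] at hr
    rw [hcr, ha] at har
    obtain ⟨m, hmr, hm, hme⟩ := exists_minimal_relHeight_eq r
    obtain ⟨a₂, b₂, ha₂, hb₂, ha21, -, h₂, -, -⟩ := exists_component_data C hmr
    obtain ⟨a', b', ha', hb', -, hb1, -, h2, heq⟩ := exists_component_data C (hmr.trans hrq)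
    rw [hme, hbr] at hb₂
    rw [hcr, ha'] at ha₂
    rw [hcr, ha] at ha21
    rw [hb] at hb1
    rw [hzD] at h2 hD
    have h3 := heq (by rw [← apply_eq]; exact hcat)
    norm_cast at har hb₂ ha₂ ha21 hb1 h2 hr hD
    rw [hA, hB, hK]
    exact_mod_cast (by omega : b = a + k)

end Groth.Agent.S3392
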