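import Groth.Statements.S3393
import Groth.Agent.Dim62.Local

set_option autoImplicit false
open CategoryTheory AlgebraicGeometry
universe u
open EGA43

open Groth.Agent.E4O Groth.Agent.Dim62 TopologicalSpace

namespace Groth.Agent.S3393

/-- Let Y be an irreducible locally Noetherian scheme with generic point η, f : X ⟶ Y a morphism of
finite type and y a point of Y. Condition (b): for every point z of the fibre over y at which the
local ring of the fibre has dimension 0, dim O_{X,z} = dim O_{Y,y}. Condition (c): for every such z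
there is an irreducible component X' of X containing z such that the dimension of X' ∩ f⁻¹(η)
(topology induced from X) equals the local dimension at z of the fibre over y (the dimension of the
irreducible component of the fibre with generic point z). Then (b) implies (c), and (c) implies (b)
if O_{Y,y} is universally catenary. -/
theorem result {X Y : Scheme.{u}} [IrreducibleSpace Y] [IsLocallyNoetherian Y]
    (f : X ⟶ Y) [LocallyOfFiniteType f] [QuasiCompact f] (y : Y) :
    ((∀ z : X, f.base z = y → ringKrullDim ((f.fiber (f.base z)).presheaf.stalk (f.asFiber z)) = 0 →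
        ringKrullDim (X.presheaf.stalk z) = ringKrullDim (Y.presheaf.stalk (f.base z))) →
      (∀ z : X, f.base z = y → ringKrullDim ((f.fiber (f.base z)).presheaf.stalk (f.asFiber z)) = 0 →
        ∃ X' ∈ irreducibleComponents (X : Type u), z ∈ X' ∧
          topologicalKrullDim ↥(X' ∩ f.base ⁻¹' {genericPoint Y}) = FlatMor.fibreDimAt f z)) ∧
    (CAlg.IsUniversallyCatenary (Y.presheaf.stalk y) →
      (∀ z : X, f.base z = y → ringKrullDim ((f.fiber (f.base z)).presheaf.stalk (f.asFiber z)) = 0 →
        ∃ X' ∈ irreducibleComponents (X : Type u), z ∈ X' ∧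
          topologicalKrullDim ↥(X' ∩ f.base ⁻¹' {genericPoint Y}) = FlatMor.fibreDimAt f z) →
      (∀ z : X, f.base z = y → ringKrullDim ((f.fiber (f.base z)).presheaf.stalk (f.asFiber z)) = 0 →
        ringKrullDim (X.presheaf.stalk z) = ringKrullDim (Y.presheaf.stalk (f.base z)))) := by
  refine ⟨fun h z hz hk => ?_, fun hcat h z hz hk => ?_⟩
  · have hb := h z hz hk
    obtain ⟨C, ⟨q, rfl⟩, hC⟩ := exists_chart f z
    have := hC ‹_›
    have : IsNoetherianRing C.B := Algebra.FiniteType.isNoetherianRing C.A _
    obtain ⟨a, b, k, ha, hb', hA, hB, hK, hD, hle⟩ := exists_data C q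
    rw [hA, hB] at hb
    rw [hK] at hk
    obtain ⟨m, hmq, hm, hme⟩ := exists_minimal_relHeight_eq q
    obtain ⟨a', b', ha', hbm, ha1, -, h1, h2, -⟩ := exists_component_data C hmq
    rw [hme, hb'] at hbm
    rw [ha] at ha1
    rw [hD] at h2 ⊢
    norm_cast at hbm hb hk ha1 h2
    have hmin : IsMin (cpt C m) := isMin_of_relHeight_eq
      (show cpt C m ≤ cpt C q from Ideal.comap_mono hmq)
      (by rw [ha', ha, show a' = a by omega])
    have hη : f (C.pt m) = genericPoint Y := by
      rw [apply_eq]
      exact (eq_of_specializes_of_component ((isMinY_iff C _).1 hmin)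
        (genericPoint_specializes _)).symm
    refine ⟨closure {C.pt m}, closure_mem_irreducibleComponents ((C.isMin_iff m).1 hm),
      specializes_iff_mem_closure.1 ((C.specializes_iff _ _).2 hmq), ?_⟩
    rw [dim_closure_inter_fibre f hη]
    exact_mod_cast (by omega : fdeg f (C.pt m) = k + fdeg f (C.pt q))
  · obtain ⟨Z, hZ, hzZ, hdim⟩ := h z hz hk
    subst hz
    obtain ⟨ξ, rfl, hξ⟩ := exists_eq_closure_of_mem_irreducibleComponents hZ
    obtain ⟨C, ⟨q, rfl⟩, hC⟩ := exists_chart f z
    have := hC ‹_›
    have : IsNoetherianRing C.B := Algebra.FiniteType.isNoetherianRing C.A _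
    have hξq : ξ ⤳ C.pt q := specializes_iff_mem_closure.2 hzZ
    obtain ⟨m, rfl⟩ := hξq.mem_open C.isOpenEmbedding_pt.isOpen_range ⟨q, rfl⟩
    have hmq := (C.specializes_iff _ _).1 hξq
    obtain ⟨a, b, k, ha, hb, hA, hB, hK, hD, hle⟩ := exists_data C q
    rw [hK] at hk
    have hη : f (C.pt m) = genericPoint Y := by
      by_contra hne
      have : IsEmpty ↥(closure {C.pt m} ∩ f ⁻¹' {genericPoint Y}) := ⟨fun w => hne (by
        have h1 := (specializes_iff_mem_closure.2 w.2.1).map f.continuous
        rw [show f w.1 = genericPoint Y from w.2.2] at h1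
        exact (h1.antisymm (genericPoint_specializes _)).eq)⟩
      have : IsEmpty (IrreducibleCloseds ↥(closure {C.pt m} ∩ f ⁻¹' {genericPoint Y})) :=
        ⟨fun s => this.false s.isIrreducible.nonempty.some⟩
      rw [hD, topologicalKrullDim, Order.krullDim_eq_bot] at hdim
      exact WithBot.bot_ne_natCast _ hdim
    rw [dim_closure_inter_fibre f hη, hD] at hdim
    obtain ⟨a', b', ha', hb', -, hb1, -, -, heq⟩ := exists_component_data C hmq
    have h1 := heq (by rw [← apply_eq]; exact hcat)
    have hmin : ∀ t : PrimeSpectrum C.A, cpt C m ≤ t := fun t => by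
      show (cpt C m).asIdeal ≤ t.asIdeal
      rw [← C.specializesY_iff, ← apply_eq, hη]
      exact genericPoint_specializes _
    obtain ⟨m₀, hm₀, hm₀min, hm₀e⟩ := exists_minimal_relHeight_eq (cpt C q)
    obtain rfl : cpt C m = m₀ := le_antisymm (hmin _) (hm₀min (hmin _))
    rw [ha', ha] at hm₀e
    rw [hb] at hb1
    norm_cast at hm₀e hb1 hdim hk
    rw [hA, hB]
    exact_mod_cast (by omega : b = a)

end Groth.Agent.S3393
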