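import Groth.Statements.S3396
import Groth.Agent.Dim62.Local

set_option autoImplicit false
open CategoryTheory AlgebraicGeometry
universe u
open EGA43

open Groth.Agent.E4O Groth.Agent.Dim62 TopologicalSpace

namespace Groth.Agent.S3396

/-- Let Y be locally Noetherian, f : X ⟶ Y locally of finite type and equidimensional at the point x,
and suppose the local ring O_{Y,f x} is universally catenary. If O_{Y,f x} is equidimensional, then
so is O_{X,x}. -/
theorem result {X Y : Scheme.{u}} [IsLocallyNoetherian Y] (f : X ⟶ Y)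
    [LocallyOfFiniteType f] (x : X) (h : EGA43.IsEquidimAt f x)
    (hcat : CAlg.IsUniversallyCatenary (Y.presheaf.stalk (f.base x)))
    (hY : EGA4.IsEquidim (Y.presheaf.stalk (f.base x))) :
    EGA4.IsEquidim (X.presheaf.stalk x) := by
  obtain ⟨C, ⟨q, rfl⟩, hC⟩ := exists_chart f x
  have := hC ‹_›
  have : IsNoetherianRing C.B := Algebra.FiniteType.isNoetherianRing C.A _
  obtain ⟨e, he, -, hgen⟩ := exists_of_isEquidimAt f h
  rw [C.isEquidim_stalk_iff]
  intro m hm hmq
  obtain ⟨a, b, k, ha, hb, -, -, -, hD, hle⟩ := exists_data C q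
  obtain ⟨m₀, hm₀q, hm₀, hm₀e⟩ := exists_minimal_relHeight_eq q
  have key : ∀ n : PrimeSpectrum C.B, IsMin n → n ≤ q →
      relHeight n q + fdeg f (C.pt q) = ((a + e : ℕ) : ℕ∞) := fun n hn hnq => by
    obtain ⟨a', b', ha', hb', -, -, -, -, heq⟩ := exists_component_data C hnq
    obtain ⟨hen, hcomp⟩ := hgen (C.pt n) ((C.specializes_iff _ _).2 hnq) ((C.isMin_iff n).1 hn)
    rw [apply_eq] at hcomp
    have haa := relHeight_eq_of_isEquidim C (cpt C n) (cpt C q) (Ideal.comap_mono hnq)
      ((isMinY_iff C _).2 hcomp) (by rw [← apply_eq]; exact hY)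
    rw [ha', ha] at haa
    have h1 := heq (by rw [← apply_eq]; exact hcat)
    norm_cast at haa
    rw [hb']
    norm_cast
    omega
  rw [← hm₀e]
  exact (ENat.addLECancellable_of_ne_top (ENat.natCast_ne_top _)).inj_left.1
    ((key m hm hmq).trans (key m₀ hm₀ hm₀q).symm)

end Groth.Agent.S3396
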