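import Groth.Statements.S3397
import Groth.Agent.Dim62.Local

set_option autoImplicit false
open CategoryTheory AlgebraicGeometry
universe u
open EGA43

open Groth.Agent.E4O Groth.Agent.Dim62 TopologicalSpace

namespace Groth.Agent.S3397

/-- Let Y be locally Noetherian, f : X ⟶ Y locally of finite type, x a point of X with y = f x, and
suppose O_{Y,y} is equidimensional. If O_{X,x} is equidimensional and dim O_{X,x} = dim O_{Y,y} +
dim O_{X_y,x}, then f is equidimensional at x. -/
theorem result {X Y : Scheme.{u}} [IsLocallyNoetherian Y] (f : X ⟶ Y)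
    [LocallyOfFiniteType f] (x : X) (hY : EGA4.IsEquidim (Y.presheaf.stalk (f.base x)))
    (hX : EGA4.IsEquidim (X.presheaf.stalk x))
    (h : ringKrullDim (X.presheaf.stalk x) =
        ringKrullDim (Y.presheaf.stalk (f.base x)) + ringKrullDim ((f.fiber (f.base x)).presheaf.stalk (f.asFiber x))) :
    EGA43.IsEquidimAt f x := by
  obtain ⟨C, ⟨q, rfl⟩, hC⟩ := exists_chart f x
  have := hC ‹_›
  have : IsNoetherianRing C.B := Algebra.FiniteType.isNoetherianRing C.A _
  obtain ⟨a, b, k, ha, hb, hA, hB, hK, hD, hle⟩ := exists_data C q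
  rw [hA, hB, hK] at h
  norm_cast at h
  refine isEquidimAt_of_forall_generic f _ (k + fdeg f (C.pt q)) hD.le fun ξ hξ hξmax => ?_
  obtain ⟨m, rfl⟩ := hξ.mem_open C.isOpenEmbedding_pt.isOpen_range ⟨q, rfl⟩
  have hm : IsMin m := (C.isMin_iff m).2 hξmax
  have hmq := (C.specializes_iff _ _).1 hξ
  obtain ⟨a', b', ha', hb', ha1, hb1, h1, h2, -⟩ := exists_component_data C hmq
  have hbb := (C.isEquidim_stalk_iff q).1 hX m hm hmq
  rw [hb', hb] at hbb
  rw [ha] at ha1
  rw [hD] at h2
  norm_cast at hbb ha1 h2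
  refine ⟨by omega, ?_⟩
  rw [apply_eq]
  refine (isMinY_iff C _).1 (isMin_of_relHeight_eq (show cpt C m ≤ cpt C q from Ideal.comap_mono hmq) ?_)
  show relHeight (cpt C m) (cpt C q) = (cpt C q).asIdeal.height
  rw [ha', ha, show a' = a by omega]

end Groth.Agent.S3397
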