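import Groth.Statements.S3404
import Groth.Agent.ConsPts12.Range
import Groth.Agent.E4O.GenOpen
import Groth.Prelude.Def_EGA43

set_option autoImplicit false
set_option linter.all false
open CategoryTheory AlgebraicGeometry
universe u
open EGA41 CategoryTheory AlgebraicGeometry Topology Groth.Agent.ConsPts12

namespace Groth.Agent.S3404

/-- Let f : X ⟶ Y be a morphism of schemes, x a point of X and y = f x. If f is open at x then every
generization of y is the image of a generization of x; when f is locally of finite presentation the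
converse holds. -/
theorem result {X Y : Scheme.{u}} (f : X ⟶ Y) (x : X) :
    (EGA43.IsOpenAt f.base x → ∀ y' : Y, y' ⤳ f.base x → ∃ x' : X, x' ⤳ x ∧ f.base x' = y') ∧
    (LocallyOfFinitePresentation f →
      ((EGA43.IsOpenAt f.base x) ↔ ∀ y' : Y, y' ⤳ f.base x → ∃ x' : X, x' ⤳ x ∧ f.base x' = y')) := by
  have fwd : EGA43.IsOpenAt f.base x →
      ∀ y' : Y, y' ⤳ f.base x → ∃ x' : X, x' ⤳ x ∧ f.base x' = y' := by
    intro h y' hy'
    have hx : x ∈ closure (f ⁻¹' {y'}) := by
      rw [mem_closure_iff]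
      intro O hO hxO
      obtain ⟨V, hV, hVo, hxV⟩ := mem_nhds_iff.1 (h O (hO.mem_nhds hxO))
      obtain ⟨a, ha, hay⟩ := hV (hy'.mem_open hVo hxV)
      exact ⟨a, ha, hay⟩
    obtain ⟨x', h1, h2⟩ := Groth.Agent.E4O.exists_specializes_of_mem_closure_preimage f hx
    exact ⟨x', h2, h1⟩
  refine ⟨fwd, fun hf => ⟨fwd, fun h => Groth.Agent.E4O.isOpenAt_iff_forall_exists_specializes.mpr fun y' hy' => ?_⟩⟩
  obtain ⟨x', h1, h2⟩ := h y' hy'
  exact ⟨x', h2, h1⟩

end Groth.Agent.S3404
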