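import Groth.Statements.S3406
import Groth.Agent.EGA4Alg4.Semilocal

set_option autoImplicit false
universe u
open EGA41

namespace Groth.Agent.S3406

/-- The equality s(M) = dim(M): let A be a Noetherian ring with finitely many maximal ideals, r its
Jacobson radical and M a nonzero finitely generated A-module. Then the dimension of M (the Krull
dimension of its support) is the least n for which there are elements x_1, …, x_n of r such that
M/(x_1 M + ⋯ + x_n M) has finite length. -/
theorem result (A : Type u) [CommRing A] [IsNoetherianRing A]
    [Finite (MaximalSpectrum A)] (M : Type u) [AddCommGroup M] [Module A M] [Module.Finite A M] [Nontrivial M] :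
    Module.supportDim A M =
      sInf {k : WithBot ℕ∞ | ∃ (n : ℕ) (x : Fin n → A), k = n ∧ (∀ i, x i ∈ Ring.jacobson A) ∧
        IsFiniteLength A (M ⧸ (Ideal.span (Set.range x) • (⊤ : Submodule A M)))} := by
  obtain ⟨d, hd⟩ := EGA4Alg4.Semilocal.exists_supportDim_eq (A := A) (M := M)
  obtain ⟨ys, hlen, hys, hfin⟩ := EGA4Alg4.Semilocal.exists_parameters d hd
  refine le_antisymm (le_sInf ?_) (sInf_le ⟨ys.length, ys.get, by rw [hd, hlen],
    fun i => hys _ (List.get_mem _ _), ?_⟩)
  · rintro k ⟨n, x, rfl, hx, hf⟩
    have h := EGA4Alg4.Semilocal.supportDim_le_quotient_add_length (M := M) (xs := List.ofFn x)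
      (by simpa using hx)
    rw [List.length_ofFn] at h
    refine h.trans ((add_le_add (EGA4Alg4.Semilocal.supportDim_nonpos_of_isFiniteLength ?_) le_rfl).trans
      (le_of_eq (zero_add _)))
    have : Ideal.ofList (List.ofFn x) = Ideal.span (Set.range x) :=
      congrArg Ideal.span (by ext; simp [List.mem_ofFn])
    rwa [this]
  · have : Ideal.span (Set.range ys.get) = Ideal.ofList ys :=
      congrArg Ideal.span (by ext; simp [List.mem_iff_get])
    rwa [this]

end Groth.Agent.S3406
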