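import Groth.Statements.S3407
import Groth.Agent.Sk62.EquidimFlat
import Groth.Agent.S1308

set_option autoImplicit false
open CategoryTheory AlgebraicGeometry
universe u
open EGA43

open Groth.Agent

namespace Groth.Agent.S3407

/-- Let Y be locally Noetherian, f : X ⟶ Y locally of finite type, x a point of X and y = f x. Suppose f
is universally open at the generic point of every irreducible component of the fibre X_y passing
through x, and X_y is geometrically reduced at x. Then there is an open neighbourhood U of x such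
that the restriction of f to U is universally open and, for every point x' of U, the fibre of f
through x' is geometrically reduced at x'. -/
theorem result {X Y : Scheme.{u}} [IsLocallyNoetherian Y] (f : X ⟶ Y)
    [LocallyOfFiniteType f] (x : X)
    (hopen : ∀ z : ↥(f.fiber (f.base x)), f.asFiber x ∈ closure {z} →
      (∀ z' : ↥(f.fiber (f.base x)), z ∈ closure {z'} → z' = z) →
      EGA43.IsUnivOpenAt f ((f.fiberι (f.base x)).base z))
    (hred : FBase.IsGeomReducedAt (f.fiberToSpecResidueField (f.base x)) (f.asFiber x)) :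
    ∃ U : X.Opens, x ∈ U ∧ UniversallyOpen (U.ι ≫ f) ∧
      ∀ x' : X, x' ∈ U → FBase.IsGeomReducedAt (f.fiberToSpecResidueField (f.base x')) (f.asFiber x') := by
  have hm := Sk62.maxUnivOpenAt_of_fibre f x hopen
  have : LocallyOfFinitePresentation f := E4O.locallyOfFinitePresentation_of_isLocallyNoetherian f
  obtain ⟨Y', i, _, _, _, _⟩ := Sk62.exists_reduction Y
  let p := Limits.pullback.fst f i
  let q := Limits.pullback.snd f i
  have hsq : IsPullback p q f i := IsPullback.of_hasPullback f i
  obtain ⟨x', rfl⟩ := p.surjective x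
  obtain ⟨V, hxV, _, hgr⟩ := Sk62.exists_nhd_flat_geomReduced q x' (hm.preimmersion hsq)
    ((Sk62.isGeomReducedAt_fibre_preimmersion hsq x').2 hred) inferInstance
  let U : X.Opens := ⟨(p '' (V : Set _)ᶜ)ᶜ, (p.isClosedEmbedding.isClosedMap _ V.isOpen.isClosed_compl).isOpen_compl⟩
  have hUV : p ⁻¹ᵁ U = V := by
    ext a
    show p a ∉ p '' (V : Set _)ᶜ ↔ a ∈ V
    rw [p.isEmbedding.injective.mem_set_image]
    exact not_not
  refine ⟨U, fun h => ?_, ?_, fun a ha => ?_⟩
  · obtain ⟨b, hb, hbx⟩ := h
    exact hb (p.isEmbedding.injective hbx ▸ hxV)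
  · have : LocallyOfFinitePresentation q := MorphismProperty.of_isPullback hsq inferInstance
    have : Flat ((p ⁻¹ᵁ U).ι ≫ q) := hUV.symm ▸ ‹Flat (V.ι ≫ q)›
    refine (S1308.result (p ∣_ U) i ((p ⁻¹ᵁ U).ι ≫ q) (U.ι ≫ f) ⟨inferInstance, ?_⟩ ⟨‹_›, ‹_›⟩ ?_).1 inferInstance
    · exact MorphismProperty.of_isPullback (P := @Surjective) (isPullback_morphismRestrict p U).flip (inferInstance : Surjective p)
    · rw [← Category.assoc, morphismRestrict_ι, Category.assoc, Category.assoc]
      exact congrArg _ hsq.w
  · obtain ⟨b, rfl⟩ := p.surjective a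
    exact (Sk62.isGeomReducedAt_fibre_preimmersion hsq b).1 (hgr b (hUV ▸ ha))

end Groth.Agent.S3407
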