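import Groth.Statements.S3408
import Groth.Agent.Sk62.PreimmFibre

set_option autoImplicit false
open CategoryTheory AlgebraicGeometry
universe u
open EGA43

open Groth.Agent

namespace Groth.Agent.S3408

/-- Let Y be locally Noetherian, f : X ⟶ Y locally of finite type, x a point of X and y = f x. Suppose f
is universally open at the generic point of every irreducible component of X_y passing through x,
X_y is geometrically reduced at x, and the local ring O_{Y,y} is reduced. Then there is an open
neighbourhood U of x such that the restriction of f to U is flat and U is a reduced scheme. -/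
theorem result {X Y : Scheme.{u}} [IsLocallyNoetherian Y] (f : X ⟶ Y)
    [LocallyOfFiniteType f] (x : X)
    (hopen : ∀ z : ↥(f.fiber (f.base x)), f.asFiber x ∈ closure {z} →
      (∀ z' : ↥(f.fiber (f.base x)), z ∈ closure {z'} → z' = z) →
      EGA43.IsUnivOpenAt f ((f.fiberι (f.base x)).base z))
    (hred : FBase.IsGeomReducedAt (f.fiberToSpecResidueField (f.base x)) (f.asFiber x))
    (hy : _root_.IsReduced (Y.presheaf.stalk (f.base x))) :
    ∃ U : X.Opens, x ∈ U ∧ Flat (U.ι ≫ f) ∧ IsReduced (U : Scheme.{u}) := by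
  have hm := Sk62.maxUnivOpenAt_of_fibre f x hopen
  have : LocallyOfFinitePresentation f := E4O.locallyOfFinitePresentation_of_isLocallyNoetherian f
  have : IsLocallyNoetherian X := LocallyOfFiniteType.isLocallyNoetherian f
  obtain ⟨U, hxU, hfl, hgr⟩ := Sk62.exists_nhd_flat_geomReduced f x hm hred hy
  let R : X.Opens := ⟨_, Sk62.isOpen_setOf_isReduced_stalk X⟩
  have hxR : x ∈ R := by
    have := Sk62.isReducedAt_of_flat (U.ι ≫ f) ⟨x, hxU⟩ hy
      ((Sk62.isGeomReducedAt_fibre_openImmersion U.ι f ⟨x, hxU⟩).2 hred)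
    exact isReduced_of_injective (U.stalkIso ⟨x, hxU⟩).symm.commRingCatIsoToRingEquiv
      (U.stalkIso ⟨x, hxU⟩).symm.commRingCatIsoToRingEquiv.injective
  refine ⟨U ⊓ R, ⟨hxU, hxR⟩, ?_, ?_⟩
  · rw [← X.homOfLE_ι (inf_le_left : U ⊓ R ≤ U), Category.assoc]
    infer_instance
  · have : ∀ a : ↥((U ⊓ R : X.Opens) : Scheme.{u}), _root_.IsReduced
        (((U ⊓ R : X.Opens) : Scheme.{u}).presheaf.stalk a) := fun a => by
      have : _root_.IsReduced (X.presheaf.stalk a.1) := a.2.2
      exact isReduced_of_injective ((U ⊓ R).stalkIso a).commRingCatIsoToRingEquiv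
        ((U ⊓ R).stalkIso a).commRingCatIsoToRingEquiv.injective
    exact isReduced_of_isReduced_stalk _

end Groth.Agent.S3408
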