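import Groth.Statements.S3410
import Groth.Agent.Int62.Scheme
import Groth.Agent.Sk62.FlatGeomRed
import Groth.Agent.FlatMor67.GenericFibre

set_option autoImplicit false
set_option linter.style.haveILetI false
open CategoryTheory AlgebraicGeometry
universe u
open EGA43

namespace Groth.Agent.S3410

/-- Let Y be locally Noetherian, f : X ⟶ Y locally of finite type, x a point of X and y = f x. Suppose f
is universally open at the generic point of every irreducible component of X_y through x, X_y is
geometrically pointwise integral at x, and O_{Y,y} is geometrically unibranch. Then x lies on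
exactly one irreducible component of X. If moreover O_{Y,y} is a domain, then O_{X,x} is a domain
and O_{Y,y} ⟶ O_{X,x} is flat. -/
theorem result {X Y : Scheme.{u}} [IsLocallyNoetherian Y]
    (f : X ⟶ Y) [LocallyOfFiniteType f] (x : X)
    (hopen : ∀ z : ↥(f.fiber (f.base x)), f.asFiber x ∈ closure {z} →
      (∀ z' : ↥(f.fiber (f.base x)), z ∈ closure {z'} → z' = z) →
      EGA43.IsUnivOpenAt f ((f.fiberι (f.base x)).base z))
    (hint : FBase.IsGeomPtIntegralAt (f.fiberToSpecResidueField (f.base x)) (f.asFiber x))
    (hY : CAlg2.IsGeomUnibranch (Y.presheaf.stalk (f.base x))) :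
    (∃! Z : Set X, Z ∈ irreducibleComponents (X : Type u) ∧ x ∈ Z) ∧
      (IsDomain (Y.presheaf.stalk (f.base x)) → IsDomain (X.presheaf.stalk x) ∧ (f.stalkMap x).hom.Flat) := by
  have hgi : x ∈ Sk62.giLocus f := hint
  have hmu : Sk62.MaxUnivOpenAt f x := Sk62.maxUnivOpenAt_of_fibre f x hopen
  let O := Y.presheaf.stalk (f x)
  have hO : IsLocalRing O := inferInstance
  let D := CAlg2.red O
  haveI hD : IsDomain D := hY.1.1
  haveI : IsLocalRing D := IsLocalRing.of_surjective' (Ideal.Quotient.mk (nilradical O)) Ideal.Quotient.mk_surjective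
  haveI : IsNoetherianRing D := inferInstance
  let m : Spec (CommRingCat.of D) ⟶ Spec (Y.presheaf.stalk (f x)) :=
    Spec.map (CommRingCat.ofHom (Ideal.Quotient.mk (nilradical O)))
  haveI : IsClosedImmersion m := IsClosedImmersion.spec_of_surjective _ Ideal.Quotient.mk_surjective
  let g : Spec (CommRingCat.of D) ⟶ Y := m ≫ Y.fromSpecStalk (f x)
  haveI : IsPreimmersion g := inferInstance
  have hmc : m (IsLocalRing.closedPoint D) = IsLocalRing.closedPoint O := by
    haveI : IsLocalHom (Ideal.Quotient.mk (nilradical O)) := IsLocalHom.of_surjective _ Ideal.Quotient.mk_surjective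
    exact IsLocalRing.comap_closedPoint (Ideal.Quotient.mk (nilradical O))
  have hgc : g (IsLocalRing.closedPoint D) = f x := by
    show Y.fromSpecStalk (f x) (m (IsLocalRing.closedPoint D)) = f x
    rw [hmc]
    exact Scheme.fromSpecStalk_closedPoint
  have hrange : ∀ y : Y, y ⤳ f x → ∃ v, g v = y := by
    intro y hy
    obtain ⟨v, rfl⟩ : y ∈ Set.range (Y.fromSpecStalk (f x)) := by rw [Scheme.range_fromSpecStalk]; exact hy
    obtain ⟨v', hv'⟩ : v ∈ Set.range m := by
      show v ∈ Set.range (PrimeSpectrum.comap (Ideal.Quotient.mk (nilradical O)))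
      rw [range_comap_of_surjective _ _ Ideal.Quotient.mk_surjective, Ideal.mk_ker]
      exact (PrimeSpectrum.mem_zeroLocus _ _).2 (nilradical_le_prime _)
    exact ⟨v', by show Y.fromSpecStalk (f x) (m v') = _; rw [hv']⟩
  let p := Limits.pullback.fst f g
  let q := Limits.pullback.snd f g
  have hsq : IsPullback p q f g := IsPullback.of_hasPullback f g
  haveI : IsPreimmersion p := MorphismProperty.of_isPullback (P := @IsPreimmersion) hsq.flip inferInstance
  haveI : LocallyOfFiniteType q := MorphismProperty.of_isPullback hsq inferInstance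
  haveI : LocallyOfFinitePresentation q := E4O.locallyOfFinitePresentation_of_isLocallyNoetherian q
  obtain ⟨w, hpw, hqw⟩ := E4O.exists_of_isPullback hsq x (IsLocalRing.closedPoint D) hgc.symm
  have hgiw : w ∈ Sk62.giLocus q := (Sk62.mem_giLocus_of_isPullback hsq w).2 (by rw [hpw]; exact hgi)
  have hmuw : Sk62.MaxUnivOpenAt q w := Sk62.MaxUnivOpenAt.preimmersion hsq (by rw [hpw]; exact hmu)
  obtain ⟨U, hwU, hflat, -⟩ := Sk62.exists_nhd_flat_geomReduced q w hmuw
    (Sk62.isGeomReducedAt_of_mem_giLocus q hgiw) inferInstance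
  haveI hdw : IsDomain ((Limits.pullback f g).presheaf.stalk w) :=
    Int62.isDomain_stalk_of_flat hY q w hqw U hwU hflat hgiw
  have hu := ((Sk62.isDomain_stalk_iff w).1 hdw).2
  refine ⟨?_, fun hOdom => ?_⟩
  · obtain ⟨Zw, hZw, -, hwZw⟩ : ∃ Zw ∈ irreducibleComponents (Limits.pullback f g : Scheme.{u}),
        closure {w} ⊆ Zw ∧ w ∈ Zw := by
      refine ⟨irreducibleComponent w, irreducibleComponent_mem_irreducibleComponents w, ?_, mem_irreducibleComponent⟩
      exact closure_minimal (Set.singleton_subset_iff.2 mem_irreducibleComponent) isClosed_irreducibleComponent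
    obtain ⟨ζ, hζ⟩ := QuasiSober.sober hZw.1 (isClosed_of_mem_irreducibleComponents Zw hZw)
    have key : ∀ Z ∈ irreducibleComponents (X : Type u), x ∈ Z → Z = closure {p ζ} := by
      intro Z hZ hxZ
      obtain ⟨η, hη⟩ := QuasiSober.sober hZ.1 (isClosed_of_mem_irreducibleComponents Z hZ)
      obtain ⟨v, hv⟩ := hrange (f η) ((hη.specializes hxZ).map f.continuous)
      obtain ⟨z, hpz, -⟩ := E4O.exists_of_isPullback hsq η v hv.symm
      have hzw : z ⤳ w := p.isEmbedding.isInducing.specializes_iff.1 (by rw [hpz, hpw]; exact hη.specializes hxZ)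
      have hζz : ζ ⤳ z := by
        refine hζ.specializes ?_
        have h1 := hu (irreducibleComponent z) (irreducibleComponent_mem_irreducibleComponents z) Zw hZw
          (hzw.mem_closed isClosed_irreducibleComponent mem_irreducibleComponent) hwZw
        exact h1 ▸ mem_irreducibleComponent
      have hsub : Z ⊆ closure {p ζ} := hη.def ▸ specializes_iff_closure_subset.1
        (hpz ▸ hζz.map p.continuous)
      exact hsub.antisymm (hZ.2 isIrreducible_singleton.closure hsub)
    refine ⟨irreducibleComponent x, ⟨irreducibleComponent_mem_irreducibleComponents x, mem_irreducibleComponent⟩,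
      fun Z hZ => (key Z hZ.1 hZ.2).trans
        (key _ (irreducibleComponent_mem_irreducibleComponents x) mem_irreducibleComponent).symm⟩
  · have hflatx : (f.stalkMap x).hom.Flat := Sk62.flat_stalkMap_of_isUnivOpenAt f x hopen
      (Sk62.isGeomReducedAt_of_mem_giLocus f hgi) inferInstance
    refine ⟨?_, hflatx⟩
    haveI : Flat g := by
      have hbij : Function.Bijective (Ideal.Quotient.mk (nilradical O)) := by
        refine ⟨?_, Ideal.Quotient.mk_surjective⟩
        rw [RingHom.injective_iff_ker_eq_bot, Ideal.mk_ker]
        exact nilradical_eq_zero _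
      haveI : Flat m := by
        rw [HasRingHomProperty.Spec_iff (P := @Flat)]
        exact RingHom.Flat.of_bijective hbij
      haveI := FlatMor67.flat_fromSpecStalk (f x)
      infer_instance
    haveI : Flat p := MorphismProperty.of_isPullback (P := @Flat) hsq.flip inferInstance
    let i := RingEquiv.ofBijective (p.stalkMap w).hom
      ⟨FBase64.stalkMap_injective_of_flat p w, p.stalkMap_surjective w⟩
    have h1 : IsDomain (X.presheaf.stalk (p w)) := i.toMulEquiv.isDomain _
    exact hpw ▸ h1

end Groth.Agent.S3410
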