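import Groth.Statements.S3418
import Groth.Agent.Count62.QFCount

set_option autoImplicit false
open CategoryTheory AlgebraicGeometry
universe u
open EGA43

open Groth.Agent

namespace Groth.Agent.S3418

/-- Let f : X ⟶ Y be flat, locally of finite presentation, separated and quasi-finite, and let n(y) be
the geometric number of points of the fibre over y. Then n is lower semicontinuous on Y, and if n is
constant on a neighbourhood of a point y₀ then f is proper over some open neighbourhood of y₀. -/
theorem result {X Y : Scheme.{u}} (f : X ⟶ Y) [Flat f]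
    [LocallyOfFinitePresentation f] [IsSeparated f] [LocallyQuasiFinite f] [QuasiCompact f] :
    LowerSemicontinuous (fun z : Y => MoreMor.nGeomConnComp f z) ∧
      ∀ y₀ : Y, (∃ V ∈ nhds y₀, ∀ z ∈ V, MoreMor.nGeomConnComp f z = MoreMor.nGeomConnComp f y₀) →
        ∃ U : Y.Opens, y₀ ∈ U ∧ IsProper (f ∣_ U) := by
  have : UniversallyOpen f := inferInstance
  have hopen : ∀ x : X, EGA43.IsUnivOpenAt f x := Count62.isOpenAt_of_universallyOpen f
  refine ⟨fun y c hc => ?_, fun y₀ ⟨V, hV, hVc⟩ => ?_⟩
  · filter_upwards [Count62.eventually_le f y fun x _ => hopen x] with z hz using hc.trans_le hz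
  · obtain ⟨U, hyU, hU⟩ := Count62.exists_isFinite_nhd f y₀ (fun x _ => hopen x) (Filter.mem_of_superset hV hVc)
    exact ⟨U, hyU, inferInstance⟩

end Groth.Agent.S3418
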