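import Groth.Statements.S3435
import Groth.Agent.FSAdic12.Basic
import Mathlib.RingTheory.Smooth.Basic
import Mathlib.RingTheory.AdicCompletion.Basic
import Mathlib.RingTheory.Flat.Tensor
import Mathlib.RingTheory.Kaehler.Basic
import Mathlib.RingTheory.Jacobson.Ideal
import Mathlib.RingTheory.Nakayama
import Mathlib.RingTheory.FiniteType
import Mathlib.RingTheory.OrzechProperty
import Mathlib.Algebra.CharP.Lemmas
import Groth.Prelude.Def_FSRel

set_option autoImplicit false
set_option linter.all false
universe u
open EGA41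

namespace Groth.Agent.S3435

open TensorProduct in
/-- Let Λ → A → B → C be ring homomorphisms. The homomorphism Ω_{B/Λ} ⊗_B C → Ω_{B/A} ⊗_B C maps the
imperfection module Υ_{C/B/Λ} (the kernel of Ω_{B/Λ} ⊗_B C → Ω_{C/Λ}) onto the imperfection module
Υ_{C/B/A} (the kernel of Ω_{B/A} ⊗_B C → Ω_{C/A}): every element of Υ_{C/B/A} is the image of some
element of Υ_{C/B/Λ}. -/
theorem result (Λ A B C : Type u) [CommRing Λ] [CommRing A] [CommRing B] [CommRing C]
    [Algebra Λ A] [Algebra Λ B] [Algebra Λ C] [Algebra A B] [Algebra A C] [Algebra B C]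
    [IsScalarTower Λ A B] [IsScalarTower Λ A C] [IsScalarTower Λ B C] [IsScalarTower A B C] :
    ∀ ω ∈ EGA41.imperfection A B C, ∃ η ∈ EGA41.imperfection Λ B C,
      (KaehlerDifferential.map Λ A B B).baseChange C η = ω := by
  intro ω hω
  set g := (KaehlerDifferential.map Λ A B B).baseChange C
  obtain ⟨η₀, hη₀⟩ : ∃ η₀, g η₀ = ω :=
    LinearMap.lTensor_surjective C (KaehlerDifferential.map_surjective_of_surjective Λ A B B Function.surjective_id) ω
  have comm : (KaehlerDifferential.map Λ A C C) ∘ₗ (KaehlerDifferential.mapBaseChange Λ B C) =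
      KaehlerDifferential.mapBaseChange A B C ∘ₗ g := by
    apply TensorProduct.AlgebraTensorModule.curry_injective
    apply LinearMap.ext_ring
    apply Derivation.liftKaehlerDifferential_unique
    ext b
    simp [g]
  have h0 : KaehlerDifferential.mapBaseChange Λ B C η₀ ∈
      LinearMap.ker (KaehlerDifferential.map Λ A C C) := by
    rw [LinearMap.mem_ker, ← LinearMap.comp_apply, comm, LinearMap.comp_apply, hη₀]
    exact hω
  obtain ⟨γ, hγ⟩ := (KaehlerDifferential.exact_mapBaseChange_map Λ A C _).mp h0
  have key : ∀ γ : C ⊗[A] Ω[A⁄Λ], ∃ η₁, KaehlerDifferential.mapBaseChange Λ B C η₁ =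
      KaehlerDifferential.mapBaseChange Λ A C γ ∧ g η₁ = 0 := by
    intro γ
    induction γ with
    | zero => exact ⟨0, by simp, by simp⟩
    | add x y hx hy =>
      obtain ⟨a, ha, ha'⟩ := hx
      obtain ⟨b, hb, hb'⟩ := hy
      exact ⟨a + b, by simp [ha, hb], by simp [ha', hb']⟩
    | tmul c w =>
      refine ⟨c ⊗ₜ[B] KaehlerDifferential.map Λ Λ A B w, ?_, ?_⟩
      · have : (KaehlerDifferential.map Λ Λ B C).restrictScalars A ∘ₗ KaehlerDifferential.map Λ Λ A B =
            KaehlerDifferential.map Λ Λ A C := by
          apply Derivation.liftKaehlerDifferential_unique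
          ext a
          simp [← IsScalarTower.algebraMap_apply A B C]
        rw [KaehlerDifferential.mapBaseChange_tmul, KaehlerDifferential.mapBaseChange_tmul]
        exact congrArg (c • ·) (LinearMap.congr_fun this w)
      · have : (KaehlerDifferential.map Λ A B B).restrictScalars A ∘ₗ KaehlerDifferential.map Λ Λ A B = 0 := by
          apply Derivation.liftKaehlerDifferential_unique
          ext a
          simp
        have h' : KaehlerDifferential.map Λ A B B (KaehlerDifferential.map Λ Λ A B w) = 0 :=
          LinearMap.congr_fun this w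
        simp [g, h']
  obtain ⟨η₁, h1, h2⟩ := key γ
  refine ⟨η₀ - η₁, ?_, by simp [hη₀, h2]⟩
  rw [EGA41.imperfection, LinearMap.mem_ker, map_sub, h1, hγ, sub_self]

end Groth.Agent.S3435
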