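import Groth.Statements.S3437
import Groth.Agent.CM62.Locus
import Groth.Agent.Cons62.Basic

set_option autoImplicit false
open CategoryTheory AlgebraicGeometry
universe u
open EGA43

open Groth.Agent

namespace Groth.Agent.S3437

/-- Let f : X ⟶ S be of finite presentation (locally of finite presentation, quasi-compact and
quasi-separated). Then the set of points s of S such that every local ring of the fibre X_s is
Cohen–Macaulay is locally constructible in S. -/
theorem result {X S : Scheme.{u}} (f : X ⟶ S)
    [LocallyOfFinitePresentation f] [QuasiCompact f] [QuasiSeparated f] :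
    Topology.IsLocallyConstructible {s : S |
      ∀ z : ↥(f.fiber s), LocCoh.IsCohenMacaulayLocalRing ((f.fiber s).presheaf.stalk z)} := by
  have key : ∀ (s : S) (x : X) (hs : f x = s) (z : ↥(f.fiber s)) (hz : f.fiberι s z = x),
      LocCoh.IsCohenMacaulayLocalRing ((f.fiber s).presheaf.stalk z) ↔ x ∈ CM62.cmFibreLocus f := by
    intro s x hs z hz
    subst hs
    have : z = f.asFiber x :=
      (f.fiberι (f x)).isEmbedding.injective (hz.trans (f.fiberι_asFiber x).symm)
    rw [this]
    rfl
  have heq : {s : S | ∀ z : ↥(f.fiber s), LocCoh.IsCohenMacaulayLocalRing ((f.fiber s).presheaf.stalk z)} =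
      (f.base '' (CM62.cmFibreLocus f)ᶜ)ᶜ := by
    ext s
    constructor
    · rintro h ⟨x, hx, rfl⟩
      exact hx ((key _ x rfl _ (f.fiberι_asFiber x)).1 (h _))
    · intro h z
      have hz : f (f.fiberι s z) = s := E4O.apply_fiberι f s z
      refine (key s _ hz z rfl).2 ?_
      by_contra hc
      exact h ⟨_, hc, hz⟩
  rw [heq]
  exact Cons62.isLocallyConstructible_compl (f.isLocallyConstructible_image
    (Cons62.isLocallyConstructible_compl (CM62.isLocallyConstructible_cmFibreLocus f)))

end Groth.Agent.S3437
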