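import Groth.Statements.S3438
import Groth.Agent.Dim62.Local

set_option autoImplicit false
open CategoryTheory AlgebraicGeometry
universe u
open EGA43

open Groth.Agent.E4O Groth.Agent.Dim62 TopologicalSpace

namespace Groth.Agent.S3438

/-- Let Y be locally Noetherian, f : X ⟶ Y locally of finite type, x a point of X with y = f x, and
suppose O_{Y,y} is equidimensional and universally catenary. If f is equidimensional at x, then dim
O_{X,x} = dim O_{Y,y} + dim O_{X_y,x}. (That O_{X,x} is then also equidimensional is a separate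
result, not asserted here.) -/
theorem result {X Y : Scheme.{u}} [IsLocallyNoetherian Y] (f : X ⟶ Y)
    [LocallyOfFiniteType f] (x : X) (hY : EGA4.IsEquidim (Y.presheaf.stalk (f.base x)))
    (hcat : CAlg.IsUniversallyCatenary (Y.presheaf.stalk (f.base x))) (h : EGA43.IsEquidimAt f x) :
    ringKrullDim (X.presheaf.stalk x) =
        ringKrullDim (Y.presheaf.stalk (f.base x)) + ringKrullDim ((f.fiber (f.base x)).presheaf.stalk (f.asFiber x)) := by
  obtain ⟨C, ⟨q, rfl⟩, hC⟩ := exists_chart f x
  have := hC ‹_›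
  have : IsNoetherianRing C.B := Algebra.FiniteType.isNoetherianRing C.A _
  obtain ⟨e, he, -, hgen⟩ := exists_of_isEquidimAt f h
  obtain ⟨a, b, k, ha, hb, hA, hB, hK, hD, hle⟩ := exists_data C q
  obtain ⟨m, hmq, hm, hme⟩ := exists_minimal_relHeight_eq q
  obtain ⟨a', b', ha', hb', -, -, -, -, heq⟩ := exists_component_data C hmq
  obtain ⟨hen, hcomp⟩ := hgen (C.pt m) ((C.specializes_iff _ _).2 hmq) ((C.isMin_iff m).1 hm)
  rw [apply_eq] at hcomp
  have haa := relHeight_eq_of_isEquidim C (cpt C m) (cpt C q) (Ideal.comap_mono hmq)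
    ((isMinY_iff C _).2 hcomp) (by rw [← apply_eq]; exact hY)
  rw [ha', ha] at haa
  rw [hme, hb] at hb'
  have h1 := heq (by rw [← apply_eq]; exact hcat)
  rw [hD] at he
  norm_cast at haa hb' he
  rw [hA, hB, hK]
  exact_mod_cast (by omega : b = a + k)

end Groth.Agent.S3438
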