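import Groth.Statements.S3441
import Groth.Agent.FSAdic12.LeftInv
import Groth.Agent.FSAdic12.LiftComplete
import Mathlib.RingTheory.AdicCompletion.Noetherian
import Mathlib.RingTheory.AdicCompletion.Basic
import Mathlib.RingTheory.Derivation.ToSquareZero
import Mathlib.RingTheory.Kaehler.Basic
import Mathlib.Algebra.TrivSqZeroExt.Basic
import Mathlib.LinearAlgebra.TensorProduct.Pi
import Groth.Prelude.Def_FSRel

set_option autoImplicit false
set_option linter.all false
universe u
open EGA41

namespace Groth.Agent.S3441

open TensorProduct in
/-- Let A → B → C be ring homomorphisms. The canonical C-linear map Ω_{B/A} ⊗_B C → Ω_{C/A} is left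
invertible (has a C-linear left inverse) if and only if C is a formally smooth B-algebra relative to
A for the discrete topologies: every B-algebra homomorphism from C to a quotient C'/J of a B-algebra
C' by an ideal J of square zero that lifts to C' as an A-algebra homomorphism also lifts to C' as a
B-algebra homomorphism. (The published definition of relative formal smoothness tests every
nilpotent ideal J; its reduction to ideals of square zero does not carry over to the relative
setting, and the square-zero form, which is what the published proof of this statement uses, is the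
one taken here.) -/
theorem result (A B C : Type u) [CommRing A] [CommRing B]
    [CommRing C] [Algebra A B] [Algebra B C] [Algebra A C] [IsScalarTower A B C] :
    (∃ l : Ω[C⁄A] →ₗ[C] C ⊗[B] Ω[B⁄A], l ∘ₗ KaehlerDifferential.mapBaseChange A B C = LinearMap.id) ↔
      EGA41.IsFormallySmoothRel A B C := by
  constructor
  · rintro ⟨l, hl⟩ T _ _ _ _ J hJ u₀ ⟨u, hu⟩
    let f : B →ₐ[A] T := u.comp (IsScalarTower.toAlgHom A B C)
    let D : Derivation A B J := derivationToSquareZeroOfLift J hJ f (by
      ext b
      exact (AlgHom.congr_fun hu (algebraMap B C b)).trans (u₀.commutes b))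
    have hJ0 : ∀ x y : T, x ∈ J → y ∈ J → x * y = 0 := fun x y hx hy => by
      rw [← Ideal.mem_bot, ← hJ, pow_two]
      exact Ideal.mul_mem_mul hx hy
    have hdiff : ∀ b, u (algebraMap B C b) - algebraMap B T b ∈ J := fun b => (D b).2
    letI : Module C J := Module.compHom J u.toRingHom
    haveI : IsScalarTower B C J := ⟨fun b c x => by
      apply Subtype.ext
      show u (b • c) * (x : T) = b • (u c * (x : T))
      rw [Algebra.smul_def, map_mul, Algebra.smul_def, ← sub_eq_zero, mul_assoc, ← sub_mul]
      exact hJ0 _ _ (hdiff b) (Ideal.mul_mem_left _ _ x.2)⟩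
    haveI : IsScalarTower A C J := ⟨fun a c x => by
      apply Subtype.ext
      show u (a • c) * (x : T) = a • (u c * (x : T))
      rw [map_smul, smul_mul_assoc]⟩
    let D' : Derivation A C J :=
      ((LinearMap.liftBaseChange C D.liftKaehlerDifferential) ∘ₗ l).compDer (KaehlerDifferential.D A C)
    have hD' : ∀ b, D' (algebraMap B C b) = D b := by
      intro b
      have : l (KaehlerDifferential.D A C (algebraMap B C b)) = (1 : C) ⊗ₜ[B] KaehlerDifferential.D A B b := by
        have := LinearMap.congr_fun hl ((1 : C) ⊗ₜ[B] KaehlerDifferential.D A B b)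
        simpa using this
      show LinearMap.liftBaseChange C D.liftKaehlerDifferential (l (KaehlerDifferential.D A C (algebraMap B C b))) = D b
      rw [this, LinearMap.liftBaseChange_tmul, one_smul, Derivation.liftKaehlerDifferential_comp_D]
    refine ⟨{ toFun := fun c => u c - (D' c : T), map_one' := ?_, map_mul' := ?_, map_zero' := ?_, map_add' := ?_, commutes' := ?_ }, ?_⟩
    · simp
    · intro x y
      have h1 : (D' (x * y) : T) = u x * D' y + u y * D' x := congrArg Subtype.val (D'.leibniz x y)
      rw [h1, map_mul]
      linear_combination -(hJ0 _ _ (D' x).2 (D' y).2)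
    · simp
    · intro x y
      simp only [map_add, Submodule.coe_add]
      abel
    · intro b
      show u (algebraMap B C b) - (D' (algebraMap B C b) : T) = algebraMap B T b
      rw [hD']
      exact sub_sub_cancel _ _
    · ext c
      show Ideal.Quotient.mk J (u c - (D' c : T)) = u₀ c
      rw [map_sub, Ideal.Quotient.eq_zero_iff_mem.mpr (D' c).2, sub_zero]
      exact AlgHom.congr_fun hu c
  · intro h
    set N := C ⊗[B] Ω[B⁄A]
    let β : B →+* (TrivSqZeroExt C N) :=
      { toFun := fun b => TrivSqZeroExt.inl (algebraMap B C b) +
          TrivSqZeroExt.inr ((1 : C) ⊗ₜ[B] KaehlerDifferential.D A B b)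
        map_one' := by apply TrivSqZeroExt.ext <;> simp
        map_mul' := fun x y => by
          apply TrivSqZeroExt.ext
          · simp
          · simp only [map_mul, Derivation.leibniz, TrivSqZeroExt.snd_add, TrivSqZeroExt.snd_inl,
              TrivSqZeroExt.snd_inr, zero_add, TrivSqZeroExt.snd_mul, TrivSqZeroExt.fst_add,
              TrivSqZeroExt.fst_inl, TrivSqZeroExt.fst_inr, add_zero, TensorProduct.tmul_add,
              TensorProduct.tmul_smul, op_smul_eq_smul, algebraMap_smul]
        map_zero' := by simp
        map_add' := fun x y => by simp [TensorProduct.tmul_add]; abel }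
    letI : Algebra B (TrivSqZeroExt C N) := β.toAlgebra
    haveI : @IsScalarTower A B (TrivSqZeroExt C N) Algebra.toSMul Algebra.toSMul Algebra.toSMul := IsScalarTower.of_algebraMap_eq fun a => by
      show algebraMap A (TrivSqZeroExt C N) a = β (algebraMap A B a)
      apply TrivSqZeroExt.ext <;>
        simp [β, TrivSqZeroExt.algebraMap_eq_inl', ← IsScalarTower.algebraMap_apply A B C]
    let J : Ideal (TrivSqZeroExt C N) := RingHom.ker (TrivSqZeroExt.fstHom C C N).toRingHom
    have hJ : J ^ 2 = ⊥ := by
      rw [pow_two, eq_bot_iff, Ideal.mul_le]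
      intro x hx y hy
      have hx : x.fst = 0 := hx
      have hy : y.fst = 0 := hy
      rw [Ideal.mem_bot]
      apply TrivSqZeroExt.ext <;> simp [hx, hy]
    let u : C →ₐ[A] (TrivSqZeroExt C N) := TrivSqZeroExt.inlAlgHom A C N
    let u₀ : C →ₐ[B] (TrivSqZeroExt C N) ⧸ J :=
      { (Ideal.Quotient.mk J).comp u.toRingHom with
        commutes' := fun b => Ideal.Quotient.eq.mpr (by
          show TrivSqZeroExt.fst (u (algebraMap B C b) - β b) = 0
          simp [u, β]) }
    obtain ⟨v, hv⟩ := h (TrivSqZeroExt C N) J hJ u₀ ⟨u, rfl⟩
    have hfst : ∀ c, (v c).fst = c := fun c => by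
      have := Ideal.Quotient.eq.mp (show Ideal.Quotient.mk J (v c) = Ideal.Quotient.mk J (u c) from AlgHom.congr_fun hv c)
      have : TrivSqZeroExt.fst (v c - u c) = 0 := this
      simpa [u, sub_eq_zero] using this
    let d' : Derivation A C N := Derivation.mk'
      { toFun := fun c => (v c).snd
        map_add' := fun x y => by simp
        map_smul' := fun a c => by
          have := congrArg TrivSqZeroExt.snd (map_smul (v.restrictScalars A) a c)
          exact this }
      (fun x y => by
        show (v (x * y)).snd = x • (v y).snd + y • (v x).snd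
        rw [map_mul, TrivSqZeroExt.snd_mul, hfst, hfst, op_smul_eq_smul])
    refine ⟨d'.liftKaehlerDifferential, ?_⟩
    apply TensorProduct.AlgebraTensorModule.curry_injective
    apply LinearMap.ext_ring
    apply Derivation.liftKaehlerDifferential_unique
    ext b
    show d'.liftKaehlerDifferential (KaehlerDifferential.mapBaseChange A B C ((1 : C) ⊗ₜ[B] KaehlerDifferential.D A B b)) = (1 : C) ⊗ₜ[B] KaehlerDifferential.D A B b
    rw [KaehlerDifferential.mapBaseChange_tmul, one_smul, KaehlerDifferential.map_D, Derivation.liftKaehlerDifferential_comp_D]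
    show (v (algebraMap B C b)).snd = _
    rw [v.commutes]
    show (β b).snd = _
    simp [β]

end Groth.Agent.S3441
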