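import Groth.Statements.S3448
import Groth.Agent.Dim62.Local

set_option autoImplicit false
open CategoryTheory AlgebraicGeometry
universe u
open EGA43

open Groth.Agent.E4O Groth.Agent.Dim62 TopologicalSpace

namespace Groth.Agent.S3448

/-- Let Y be locally Noetherian, f : X ⟶ Y of finite type, x a point of X with y = f x, and suppose
O_{Y,y} is universally catenary. Then dim O_{X,x} = dim O_{Y,y} + dim O_{X_y,x} if and only if there
is a point z of the fibre over y which is a generization of x, is maximal in the fibre (the generic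
point of an irreducible component Z of X_y containing x), has local fibre dimension at z equal to
that at x (dim Z = dim_x X_y), and satisfies dim O_{X,z} = dim O_{Y,y}. -/
theorem result {X Y : Scheme.{u}} [IsLocallyNoetherian Y]
    (f : X ⟶ Y) [LocallyOfFiniteType f] [QuasiCompact f] (x : X)
    (hcat : CAlg.IsUniversallyCatenary (Y.presheaf.stalk (f.base x))) :
    ringKrullDim (X.presheaf.stalk x) =
        ringKrullDim (Y.presheaf.stalk (f.base x)) + ringKrullDim ((f.fiber (f.base x)).presheaf.stalk (f.asFiber x)) ↔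
      ∃ z : X, f.base z = f.base x ∧ z ⤳ x ∧ (∀ z' : X, f.base z' = f.base x → z' ⤳ z → z' = z) ∧
        FlatMor.fibreDimAt f z = FlatMor.fibreDimAt f x ∧
        ringKrullDim (X.presheaf.stalk z) = ringKrullDim (Y.presheaf.stalk (f.base z)) := by
  obtain ⟨C, ⟨q, rfl⟩, hC⟩ := exists_chart f x
  have := hC ‹_›
  have : IsNoetherianRing C.B := Algebra.FiniteType.isNoetherianRing C.A _
  have hUC : CAlg.IsUniversallyCatenary (Y.presheaf.stalk (C.ptY (cpt C q))) := by
    rw [← apply_eq]; exact hcat
  obtain ⟨a, b, k, ha, hb, hA, hB, hK, hD, hle⟩ := exists_data C q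
  rw [hA, hB, hK]
  constructor
  · intro h
    norm_cast at h
    obtain ⟨m, hmq, hm, hme⟩ := exists_minimal_relHeight_eq q
    obtain ⟨a', b', ha', hb', ha1, -, h1, h2, -⟩ := exists_component_data C hmq
    rw [hme, hb] at hb'
    rw [ha] at ha1
    rw [hD] at h2
    norm_cast at hb' ha1 h2
    obtain ⟨r, hmr, hrq, hcr, hdr⟩ := exists_fibre_point C hmq
    obtain ⟨ar, br, kr, har, hbr, hAr, hBr, hKr, hDr, hler⟩ := exists_data C r
    obtain ⟨a₂, b₂, ha₂, hb₂, -, hb21, -, -, heq⟩ := exists_component_data C hmr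
    have h4 := fdeg_le_fibreDimAt_of_specializes (f := f) ((C.specializes_iff _ _).2 hrq)
    rw [hD] at h4
    norm_cast at h4
    have hmax : IsFibreMax f (C.pt r) := fun w hw hfw => by
      by_contra hne
      have h5 := fdeg_lt hw hfw hne
      have h6 := fdeg_le_fibreDimAt_of_specializes (f := f)
        (hw.trans ((C.specializes_iff _ _).2 hrq))
      rw [hD] at h6
      norm_cast at h6
      omega
    have h7 := heq (by rw [hcr]; exact hUC)
    have h8 := C.height_le_of_isFibreMax r hmax
    change r.asIdeal.height ≤ (cpt C r).asIdeal.height at h8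
    rw [hcr, ha'] at ha₂
    rw [hbr] at hb21
    rw [hcr, ha] at har
    rw [hbr, hcr, ha] at h8
    norm_cast at ha₂ hb21 h8 har
    refine ⟨C.pt r, (cpt_eq_iff C r q).2 hcr, (C.specializes_iff _ _).2 hrq,
      fun w hfw hw => hmax w hw (hfw.trans ((cpt_eq_iff C r q).2 hcr).symm), ?_, ?_⟩
    · rw [hD, fibreDimAt_eq_fdeg hmax, show fdeg f (C.pt r) = k + fdeg f (C.pt q) by omega]
    · rw [hBr, hAr]
      exact_mod_cast (by omega : br = ar)
  · rintro ⟨z, hfz, hzx, hzmax, hzD, hzb⟩
    obtain ⟨r, rfl⟩ := hzx.mem_open C.isOpenEmbedding_pt.isOpen_range ⟨q, rfl⟩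
    have hrq : r ≤ q := (C.specializes_iff _ _).1 hzx
    have hcr : cpt C r = cpt C q := (cpt_eq_iff C r q).1 hfz
    obtain ⟨ar, br, kr, har, hbr, hAr, hBr, hKr, hDr, hler⟩ := exists_data C r
    rw [hAr, hBr] at hzb
    rw [hcr, ha] at har
    rw [fibreDimAt_eq_fdeg (fun w hw hfw => hzmax w (hfw.trans hfz) hw), hD] at hzD
    obtain ⟨m, hmr, hm, hme⟩ := exists_minimal_relHeight_eq r
    obtain ⟨a₂, b₂, ha₂, hb₂, ha21, -, h₂, -, -⟩ := exists_component_data C hmr
    obtain ⟨a', b', ha', hb', -, hb1, h1, h2, heq⟩ := exists_component_data C (hmr.trans hrq)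
    rw [hme, hbr] at hb₂
    rw [hcr, ha'] at ha₂
    rw [hcr, ha] at ha21
    rw [hb] at hb1
    rw [hD] at h2
    have h3 := heq hUC
    norm_cast at hzb har hzD hb₂ ha₂ ha21 hb1 h2
    exact_mod_cast (by omega : b = a + k)

end Groth.Agent.S3448
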