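import Groth.Statements.S3449
import Groth.Agent.E4O.JacobsonLocalDim

set_option autoImplicit false
open CategoryTheory AlgebraicGeometry
universe u
open EGA43

open Groth.Agent

namespace Groth.Agent.S3449

/-- Let S be a locally Noetherian scheme which is Jacobson, whose local rings are universally catenary,
and whose irreducible components S' are equidimensional in the sense that for every closed point s
of S' the dimension of S' equals the dimension of S' at s (the Krull dimension of the set of
generizations of s inside S'). Let X and Y be S-schemes, each locally of finite type over the base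
S, and let f : X ⟶ Y be a morphism over S, with X irreducible and f dominant; let η be the generic
point of Y and e the dimension of the fibre over η. Then dim X = dim Y + e. -/
theorem result {X Y S : Scheme.{u}} [IsLocallyNoetherian S]
    [JacobsonSpace S] (h2 : ∀ s : S, CAlg.IsUniversallyCatenary (S.presheaf.stalk s))
    (h3 : ∀ S' ∈ irreducibleComponents (S : Type u), ∀ s ∈ S', IsClosed ({s} : Set S) →
      topologicalKrullDim (↥S' : Type u) = topologicalKrullDim ↥{t : S | t ∈ S' ∧ t ⤳ s})
    (p : X ⟶ S) (q : Y ⟶ S) [LocallyOfFiniteType p] [LocallyOfFiniteType q] (f : X ⟶ Y) (hf : f ≫ q = p)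
    [IrreducibleSpace X] [IrreducibleSpace Y] [IsDominant f] :
    topologicalKrullDim (X : Type u) =
      topologicalKrullDim (Y : Type u) + topologicalKrullDim ↥(f.fiber (genericPoint Y)) := by
  have : LocallyOfFiniteType (f ≫ q) := hf.symm ▸ ‹LocallyOfFiniteType p›
  have : LocallyOfFiniteType f := locallyOfFiniteType_of_comp f q
  have : IsLocallyNoetherian Y := LocallyOfFiniteType.isLocallyNoetherian q
  have : IsLocallyNoetherian X := LocallyOfFiniteType.isLocallyNoetherian p
  have : JacobsonSpace Y := LocallyOfFiniteType.jacobsonSpace q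
  have : JacobsonSpace X := LocallyOfFiniteType.jacobsonSpace p
  obtain ⟨δS, hS, h0⟩ := E4O.exists_dimFun h2 h3
  obtain ⟨δY, hY, hY0⟩ := E4O.exists_dimFun_lft q δS hS h0
  let δX : X → ℤ := fun x => δY (f x) + (E4O.fdeg f x : ℤ)
  have hX : Cyc.IsSetup X δX := Cyc90.isSetup_of_lft f δY hY δX fun x =>
    ⟨E4O.fdeg f x, Cyc90.trdeg_residueField_eq_fdeg f x, rfl⟩
  have hX0 : ∀ x : X, IsClosed ({x} : Set X) → δX x = 0 := fun x hx => by
    have h1 : IsClosed ({f x} : Set Y) := f.closePoints_subset_preimage_closedPoints hx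
    simp only [δX, hY0 _ h1, E4O.fdeg_eq_zero_of_closed_in_fibre f fun x' _ h => h.mem_closed hx rfl,
      Nat.cast_zero, add_zero]
  have dimEq : ∀ (Z : Scheme.{u}) (δ : Z → ℤ) [IsLocallyNoetherian Z] [JacobsonSpace Z] [IrreducibleSpace Z],
      Cyc.IsDimFun Z δ → (∀ z : Z, IsClosed ({z} : Set Z) → δ z = 0) →
      topologicalKrullDim Z = ((δ (genericPoint Z)).toNat : WithBot ℕ∞) ∧ 0 ≤ δ (genericPoint Z) := by
    intro Z δ _ _ _ h h0
    refine ⟨?_, Cyc90.delta_nonneg h h0 _⟩
    rw [IsHomeomorph.topologicalKrullDim_eq _ (Homeomorph.Set.univ Z).symm.isHomeomorph]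
    refine le_antisymm (E4O.dim_le_of_delta h Set.univ 0 _ (fun w _ => Cyc90.delta_nonneg h h0 w) fun a _ _ => ?_) ?_
    · have := Cyc90.delta_le h (genericPoint_specializes a)
      exact_mod_cast (show (δ a - 0).toNat ≤ (δ (genericPoint Z)).toNat by omega)
    · have := E4O.delta_le_dim_inter h h0 isOpen_univ isClosed_univ
        (Set.mem_univ (genericPoint Z)) (Set.mem_univ _)
      rwa [Set.inter_univ] at this
  have hη : f (genericPoint X) = genericPoint Y := by
    have h1 : Set.range f ⊆ closure {f (genericPoint X)} := by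
      rintro _ ⟨a, rfl⟩
      exact specializes_iff_mem_closure.1 ((genericPoint_specializes a).map f.continuous)
    exact (specializes_iff_mem_closure.2
      (closure_minimal h1 isClosed_closure (f.denseRange (genericPoint Y)))).antisymm
      (genericPoint_specializes _) |>.eq
  obtain ⟨hdX, hXn⟩ := dimEq X δX hX.2.2 hX0
  obtain ⟨hdY, hYn⟩ := dimEq Y δY hY.2.2 hY0
  obtain ⟨w, hw⟩ := E4O.exists_fiberι_eq f hη
  have hw' : closure ({w} : Set ↥(f.fiber (genericPoint Y))) = Set.univ := Set.eq_univ_of_forall fun a =>
    specializes_iff_mem_closure.1 ((E4O.specializes_fiberι_iff f _ w a).1 (hw.symm ▸ genericPoint_specializes _))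
  have hfib : topologicalKrullDim ↥(f.fiber (genericPoint Y)) = (E4O.fdeg f (genericPoint X) : ℕ) := by
    rw [← hw, ← E4O.dim_closure_fiber f _ w, hw']
    exact IsHomeomorph.topologicalKrullDim_eq _ (Homeomorph.Set.univ _).symm.isHomeomorph
  rw [hdX, hdY, hfib, show δX (genericPoint X) = δY (genericPoint Y) + (E4O.fdeg f (genericPoint X) : ℤ) by rw [← hη]]
  exact_mod_cast (show ((δY (genericPoint Y)) + (E4O.fdeg f (genericPoint X) : ℤ)).toNat =
    (δY (genericPoint Y)).toNat + E4O.fdeg f (genericPoint X) by omega)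

end Groth.Agent.S3449
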