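import Groth.Statements.S3451
import Groth.Agent.Sk62.GeomLoci

set_option autoImplicit false
open CategoryTheory AlgebraicGeometry
universe u
open EGA43

namespace Groth.Agent.S3451

/-- Let f : X ⟶ S be locally of finite presentation. The set of points x of X such that the fibre of f
through x is equidimensional at x (all irreducible components of that fibre passing through x have
the same dimension) is locally constructible in X. -/
theorem result {X S : Scheme.{u}} (f : X ⟶ S)
    [LocallyOfFinitePresentation f] :
    Topology.IsLocallyConstructible {x : X | ∃ e : ℕ,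
      ∀ Z ∈ irreducibleComponents (↥(f.fiber (f.base x)) : Type u), f.asFiber x ∈ Z →
        topologicalKrullDim (↥Z : Type u) = e} := by
  convert Sk62.isLocallyConstructible_equidim f using 1
  ext x
  refine exists_congr fun e => ⟨fun h z hz hfz hmax => ?_, fun h Z hZ hxZ => ?_⟩
  · obtain ⟨w, rfl⟩ := E4O.exists_fiberι_eq f hfz
    have hw : w ⤳ f.asFiber x := (E4O.specializes_fiberι_iff f _ _ _).1 (by rwa [f.fiberι_asFiber])
    have h1 := h _ (E4O.closure_mem_irreducibleComponents ((E4O.isFibreMax_fiberι_iff f _ w).1 hmax))
      (specializes_iff_mem_closure.1 hw)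
    rw [E4O.dim_closure_fiber] at h1
    exact_mod_cast h1
  · obtain ⟨w, rfl, hmax, hdim⟩ := E4O.exists_of_mem_irreducibleComponents_fiber f hZ
    have hw := (specializes_iff_mem_closure.2 hxZ).map (f.fiberι _).continuous
    rw [f.fiberι_asFiber] at hw
    rw [hdim, h _ hw (E4O.apply_fiberι f _ w) hmax]

end Groth.Agent.S3451
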