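import Groth.Statements.S3456
import Groth.Agent.Dim62.Local

set_option autoImplicit false
open CategoryTheory AlgebraicGeometry
universe u
open EGA43

open Groth.Agent.E4O Groth.Agent.Dim62 TopologicalSpace

namespace Groth.Agent.S3456

/-- Let Y be locally Noetherian, f : X ⟶ Y locally of finite type and x a point of X; let X_j run over
the (finitely many) irreducible components of X containing x. Then f is equidimensional at x if and
only if there is a natural number e such that for every X_j: the closure Y_j of f(X_j) is an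
irreducible component of Y; for every point η of Y whose closure equals Y_j (i.e. the generic point
of Y_j), the fibre X_j ∩ f⁻¹(η) has topological Krull dimension e; and the local dimension at x of
X_j ∩ f⁻¹(f x) is e. All subsets of X carry the induced topology. -/
theorem result {X Y : Scheme.{u}} [IsLocallyNoetherian Y] (f : X ⟶ Y)
    [LocallyOfFiniteType f] (x : X) :
    EGA43.IsEquidimAt f x ↔
      ∃ e : ℕ, ∀ Xj ∈ irreducibleComponents (X : Type u), ∀ hx : x ∈ Xj,
        closure (f.base '' Xj) ∈ irreducibleComponents (Y : Type u) ∧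
        (∀ η : Y, closure ({η} : Set Y) = closure (f.base '' Xj) →
          topologicalKrullDim ↥(Xj ∩ f.base ⁻¹' {η}) = e) ∧
        FlatMor.localDim ↥(Xj ∩ f.base ⁻¹' {f.base x}) ⟨x, ⟨hx, Set.mem_singleton (f.base x)⟩⟩ = e := by
  constructor
  · intro h
    obtain ⟨e, he, -, hgen⟩ := exists_of_isEquidimAt f h
    refine ⟨e, fun Z hZ hx => ?_⟩
    obtain ⟨ξ, rfl, hξ⟩ := exists_eq_closure_of_mem_irreducibleComponents hZ
    have hξx : ξ ⤳ x := specializes_iff_mem_closure.2 hx
    obtain ⟨hd, hcomp⟩ := hgen ξ hξx hξ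
    rw [closure_image_closure_singleton]
    refine ⟨hcomp, fun η hη => ?_, le_antisymm ?_ ?_⟩
    · rw [dim_closure_inter_fibre f (inseparable_iff_closure_eq.2 hη).eq.symm, hd]
    · exact (localDim_inter_fibre_le f rfl hx).trans he.le
    · obtain ⟨C, ⟨q, rfl⟩, hC⟩ := exists_chart f x
      obtain ⟨m, rfl⟩ := hξx.mem_open C.isOpenEmbedding_pt.isOpen_range ⟨q, rfl⟩
      obtain ⟨r, hmr, hrq, hcr, hdr⟩ := exists_fibre_point C ((C.specializes_iff _ _).1 hξx)
      refine le_trans ?_ (le_localDim_inter_fibre f (isClosed_closure) ((C.specializes_iff _ _).2 hrq)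
        ((cpt_eq_iff C r q).2 hcr)
        (specializes_iff_mem_closure.1 ((C.specializes_iff _ _).2 hmr)) rfl hx)
      exact_mod_cast hd.ge.trans hdr
  · rintro ⟨e, he⟩
    refine isEquidimAt_of_forall_generic f x e ?_ fun ξ hξ hξmax => ?_
    · obtain ⟨z, hz, hfz, -, hD, -⟩ := exists_isFibreMax_specializes f x
      obtain ⟨ξ, hξ, hξmax⟩ : ∃ ξ, ξ ⤳ z ∧ ∀ w, w ⤳ ξ → w = ξ := by
        obtain ⟨Z, hZ, hzZ⟩ := exists_mem_irreducibleComponents_subset_of_isIrreducible {z}
          isIrreducible_singleton
        obtain ⟨ξ, rfl, hξ⟩ := exists_eq_closure_of_mem_irreducibleComponents hZ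
        exact ⟨ξ, specializes_iff_mem_closure.2 (hzZ rfl), hξ⟩
      have hx : x ∈ closure {ξ} := specializes_iff_mem_closure.1 (hξ.trans hz)
      obtain ⟨-, -, h3⟩ := he _ (closure_mem_irreducibleComponents hξmax) hx
      rw [hD]
      exact (le_localDim_inter_fibre f isClosed_closure hz hfz
        (specializes_iff_mem_closure.1 hξ) rfl hx).trans h3.le
    · have hx : x ∈ closure {ξ} := specializes_iff_mem_closure.1 hξ
      obtain ⟨h1, h2, -⟩ := he _ (closure_mem_irreducibleComponents hξmax) hx
      rw [closure_image_closure_singleton] at h1 h2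
      refine ⟨?_, h1⟩
      have := h2 (f ξ) rfl
      rw [dim_closure_inter_fibre f rfl] at this
      exact_mod_cast this

end Groth.Agent.S3456
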