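import Groth.Statements.S3457
import Groth.Agent.Dim62.Stalk
import Groth.Agent.Cyc90.FlatRelDim

set_option autoImplicit false
open CategoryTheory AlgebraicGeometry
universe u
open EGA43

open Groth.Agent.E4O Groth.Agent.Dim62 TopologicalSpace

namespace Groth.Agent.S3457

/-- Let Y be locally Noetherian, f : X ⟶ Y locally of finite type, x a point of X with y = f x, and
suppose f is equidimensional at x and O_{Y,y} is universally catenary. Let e be the local dimension
at x of the fibre X_y. Then for every minimal prime 𝔭 of O_{X,x} (that is, for every irreducible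
component X_j of X through x, with O_{X_j,x} = O_{X,x}/𝔭 and O_{Y_j,y} = O_{Y,y}/(𝔭 ∩ O_{Y,y})) one
has dim(O_{X,x}/𝔭) + trdeg_{κ(y)} κ(x) = dim(O_{Y,y}/(𝔭 ∩ O_{Y,y})) + e. -/
theorem result {X Y : Scheme.{u}} [IsLocallyNoetherian Y] (f : X ⟶ Y)
    [LocallyOfFiniteType f] (x : X) (h : EGA43.IsEquidimAt f x)
    (hcat : CAlg.IsUniversallyCatenary (Y.presheaf.stalk (f.base x))) :
    letI : Algebra (Y.residueField (f.base x)) (X.residueField x) := (f.residueFieldMap x).hom.toAlgebra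
    ∀ 𝔭 ∈ minimalPrimes (X.presheaf.stalk x),
      ringKrullDim (X.presheaf.stalk x ⧸ 𝔭) +
          (Cardinal.toNat (Algebra.trdeg (Y.residueField (f.base x)) (X.residueField x)) : WithBot ℕ∞) =
        ringKrullDim (Y.presheaf.stalk (f.base x) ⧸ 𝔭.comap (f.stalkMap x).hom) + FlatMor.fibreDimAt f x := by
  intro 𝔭 h𝔭
  obtain ⟨C, ⟨q, rfl⟩, hC⟩ := exists_chart f x
  have := hC ‹_›
  obtain ⟨e, he, -, hgen⟩ := exists_of_isEquidimAt f h
  let P : PrimeSpectrum (X.presheaf.stalk (C.pt q)) := ⟨𝔭, h𝔭.1.1⟩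
  obtain ⟨m, hmq, hpt, hdim, hmin⟩ := exists_prime_data C.e q (C.pt q) rfl P
  have hm : IsMin m := hmin (PrimeSpectrum.isMin_iff.2 h𝔭)
  let Q : PrimeSpectrum (Y.presheaf.stalk (f (C.pt q))) :=
    PrimeSpectrum.comap (f.stalkMap (C.pt q)).hom P
  obtain ⟨t, -, hpt', hdim', -⟩ := exists_prime_data C.j (cpt C q) (f (C.pt q)) (apply_eq C q) Q
  have ht : t = cpt C m := C.isOpenEmbedding_ptY.injective (by
    rw [← apply_eq]
    show C.j t = f (C.e m)
    rw [← hpt', ← hpt]
    exact congrArg (fun k : Spec (X.presheaf.stalk (C.pt q)) ⟶ Y => k P)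
      (Scheme.SpecMap_stalkMap_fromSpecStalk f (x := C.pt q)))
  obtain ⟨a', b', ha', hb', -, -, -, -, heq⟩ := exists_component_data C hmq
  obtain ⟨hen, -⟩ := hgen (C.pt m) ((C.specializes_iff _ _).2 hmq) ((C.isMin_iff m).1 hm)
  have h1 := heq (by rw [← apply_eq]; exact hcat)
  have hres := Cyc90.trdeg_residueField_eq_fdeg f (C.pt q)
  rw [ht, ha'] at hdim'
  rw [hb'] at hdim
  rw [show ringKrullDim (X.presheaf.stalk (C.pt q) ⧸ 𝔭) = _ from hdim,
    show ringKrullDim (Y.presheaf.stalk (f (C.pt q)) ⧸ 𝔭.comap (f.stalkMap (C.pt q)).hom) = _ from hdim',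
    he, hres, Cardinal.toNat_natCast]
  exact_mod_cast (by omega : b' + fdeg f (C.pt q) = a' + e)

end Groth.Agent.S3457
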