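import Groth.Statements.S3459
import Groth.Agent.Adm62.Core
import Groth.Agent.Adm62.Dim
import Groth.Agent.VarGal.GeomRed
import Groth.Agent.AGF80.WeilInsep
import Groth.Agent.FBase64.ProductDim

set_option autoImplicit false
open CategoryTheory AlgebraicGeometry
universe u
open EGA43

open Groth.Agent
set_option linter.style.haveILetI false

namespace Groth.Agent.S3459

/-- Let Y be an irreducible locally Noetherian scheme with generic point η, f : X ⟶ Y locally of finite
type, x a point of X and y = f x. Suppose (1) x lies on exactly one irreducible component Z of the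
fibre X_y, and (2) X_y is geometrically reduced at the generic point of Z. Call an irreducible
component X' of X containing x admissible when the local dimension at x of X' ∩ f⁻¹(y) equals that
of f⁻¹(y) and the restriction of f to X' (with its reduced structure) is universally open at the
generic points of the irreducible components of X' ∩ f⁻¹(y) containing x. Then there is at most one
admissible X'; and if X' is admissible, the fibre X_η is geometrically reduced at the generic point
of X'. -/
theorem result {X Y : Scheme.{u}} [IrreducibleSpace Y]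
    [IsLocallyNoetherian Y] (f : X ⟶ Y) [LocallyOfFiniteType f] (x : X)
    (h1 : ∃! Zc : Set ↥(f.fiber (f.base x)), Zc ∈ irreducibleComponents (↥(f.fiber (f.base x)) : Type u) ∧ f.asFiber x ∈ Zc)
    (h2 : ∀ z : ↥(f.fiber (f.base x)), f.asFiber x ∈ closure {z} →
      (∀ z' : ↥(f.fiber (f.base x)), z ∈ closure {z'} → z' = z) →
      FBase.IsGeomReducedAt (f.fiberToSpecResidueField (f.base x)) z) :
    letI adm : TopologicalSpace.Closeds X → Prop := fun X' =>
      (X' : Set X) ∈ irreducibleComponents (X : Type u) ∧ ∃ hx : x ∈ X',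
        FlatMor.localDim ↥((X' : Set X) ∩ f.base ⁻¹' {f.base x}) ⟨x, ⟨hx, Set.mem_singleton (f.base x)⟩⟩ =
          FlatMor.fibreDimAt f x ∧
        ∀ w : ↥(Scheme.IdealSheafData.vanishingIdeal X').subscheme,
          f.base ((Scheme.IdealSheafData.vanishingIdeal X').subschemeι.base w) = f.base x →
          x ∈ closure {(Scheme.IdealSheafData.vanishingIdeal X').subschemeι.base w} →
          (∀ t : X, t ∈ (X' : Set X) → f.base t = f.base x →
              (Scheme.IdealSheafData.vanishingIdeal X').subschemeι.base w ∈ closure {t} →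
              t = (Scheme.IdealSheafData.vanishingIdeal X').subschemeι.base w) →
          EGA43.IsUnivOpenAt ((Scheme.IdealSheafData.vanishingIdeal X').subschemeι ≫ f) w
    {X' : TopologicalSpace.Closeds X | adm X'}.Subsingleton ∧
      ∀ X' : TopologicalSpace.Closeds X, adm X' →
        ∀ ζ : ↥(f.fiber (genericPoint Y)), closure {(f.fiberι (genericPoint Y)).base ζ} = (X' : Set X) →
          FBase.IsGeomReducedAt (f.fiberToSpecResidueField (genericPoint Y)) ζ := by
  let y := f x
  let η := genericPoint Y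
  obtain ⟨Zc, ⟨hZc, hxZc⟩, hZu⟩ := h1
  obtain ⟨z₀, hz₀⟩ := QuasiSober.sober hZc.1 (isClosed_of_mem_irreducibleComponents Zc hZc)
  let z := f.fiberι y z₀
  have hz₀u : ∀ a : ↥(f.fiber y), a ⤳ f.asFiber x → z₀ ⤳ a := fun a ha => by
    have h := hZu (irreducibleComponent a) ⟨irreducibleComponent_mem_irreducibleComponents a,
      ha.mem_closed isClosed_irreducibleComponent mem_irreducibleComponent⟩
    exact hz₀.specializes (h ▸ mem_irreducibleComponent)
  have hz₀x : z₀ ⤳ f.asFiber x := hz₀.specializes hxZc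
  have hz₀max : ∀ a : ↥(f.fiber y), a ⤳ z₀ → a = z₀ := fun a ha =>
    (ha.antisymm (hz₀u a (ha.trans hz₀x))).eq
  have hfz : f z = y := E4O.apply_fiberι f y z₀
  have hzx : z ⤳ x := f.fiberι_asFiber x ▸ hz₀x.map (f.fiberι y).continuous
  have hzu : ∀ a, a ⤳ x → f a = f x → z ⤳ a := by
    intro a ha hfa
    obtain ⟨a', rfl⟩ := E4O.exists_fiberι_eq f (y := y) hfa
    exact (hz₀u a' ((E4O.specializes_fiberι_iff f y _ _).1
      (by rw [f.fiberι_asFiber]; exact ha))).map (f.fiberι y).continuous
  have hzmax : ∀ a, a ⤳ z → f a = f z → a = z := fun a ha hfa =>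
    (ha.antisymm (hzu a (ha.trans hzx) (hfa.trans hfz))).eq
  have hred : FBase.IsGeomReducedAt (f.fiberToSpecResidueField (f z)) (f.asFiber z) :=
    (E4O.isGeomReducedAt_fibre_point f z₀ rfl).1 (h2 z₀ (specializes_iff_mem_closure.1 hz₀x)
      fun z' hz' => hz₀max z' (specializes_iff_mem_closure.2 hz'))
  -- what admissibility gives
  let Adm' : TopologicalSpace.Closeds X → Prop := fun S =>
    (S : Set X) ∈ irreducibleComponents (X : Type u) ∧
      ∃ w : ↥(Scheme.IdealSheafData.vanishingIdeal S).subscheme,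
        (Scheme.IdealSheafData.vanishingIdeal S).subschemeι w = z ∧
        EGA43.IsUnivOpenAt ((Scheme.IdealSheafData.vanishingIdeal S).subschemeι ≫ f) w
  have hrange : ∀ S : TopologicalSpace.Closeds X,
      Set.range (Scheme.IdealSheafData.vanishingIdeal S).subschemeι = (S : Set X) := fun S =>
    (Scheme.IdealSheafData.range_subschemeι _).trans (Scheme.IdealSheafData.coe_support_vanishingIdeal _)
  have hgenpt : ∀ S : TopologicalSpace.Closeds X, Adm' S → ∀ ζ : X, closure {ζ} = (S : Set X) →
      f ζ = η ∧ z ∈ S := by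
    rintro S ⟨hS, w, hw, ho⟩ ζ hζ
    have hzS : z ∈ S := (hrange S).le ⟨w, hw⟩
    refine ⟨?_, hzS⟩
    haveI : LocallyOfFinitePresentation ((Scheme.IdealSheafData.vanishingIdeal S).subschemeι ≫ f) :=
      E4O.locallyOfFinitePresentation_of_isLocallyNoetherian _
    have hopen : EGA43.IsOpenAt ((Scheme.IdealSheafData.vanishingIdeal S).subschemeι ≫ f) w :=
      E4O.isOpenAt_of_isPullback ho (g := 𝟙 Y) (p := 𝟙 _) (IsPullback.of_horiz_isIso ⟨by simp⟩) w rfl
    obtain ⟨a, ha, -⟩ := E4O.isOpenAt_iff_forall_exists_specializes.1 hopen η (genericPoint_specializes _)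
    have h3 : ζ ⤳ (Scheme.IdealSheafData.vanishingIdeal S).subschemeι a :=
      specializes_iff_mem_closure.2 (hζ.symm ▸ (hrange S).le ⟨a, rfl⟩)
    exact (((h3.map f.continuous).trans (specializes_of_eq ha)).antisymm (genericPoint_specializes _)).eq
  have hadm : ∀ S : TopologicalSpace.Closeds X, (S : Set X) ∈ irreducibleComponents (X : Type u) ∧
      (∃ hx : x ∈ S,
        FlatMor.localDim ↥((S : Set X) ∩ f.base ⁻¹' {f.base x}) ⟨x, ⟨hx, Set.mem_singleton (f.base x)⟩⟩ =
          FlatMor.fibreDimAt f x ∧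
        ∀ w : ↥(Scheme.IdealSheafData.vanishingIdeal S).subscheme,
          f.base ((Scheme.IdealSheafData.vanishingIdeal S).subschemeι.base w) = f.base x →
          x ∈ closure {(Scheme.IdealSheafData.vanishingIdeal S).subschemeι.base w} →
          (∀ t : X, t ∈ (S : Set X) → f.base t = f.base x →
              (Scheme.IdealSheafData.vanishingIdeal S).subschemeι.base w ∈ closure {t} →
              t = (Scheme.IdealSheafData.vanishingIdeal S).subschemeι.base w) →
          EGA43.IsUnivOpenAt ((Scheme.IdealSheafData.vanishingIdeal S).subschemeι ≫ f) w) → Adm' S := by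
    rintro S ⟨hS, hx, hdim, hop⟩
    obtain ⟨w, hw⟩ := (hrange S).ge (Adm62.mem_of_localDim_eq f hzu hzx hfz S hx hdim)
    exact ⟨hS, w, hw, hop w (by rw [hw]; exact hfz) (by rw [hw]; exact specializes_iff_mem_closure.1 hzx)
      fun t _ hft htw => by
        rw [hw] at htw ⊢
        exact hzmax t (specializes_iff_mem_closure.2 htw) (hft.trans hfz.symm)⟩
  -- the base change to a discrete valuation ring
  have hcore : η ≠ f z → ∀ S₁ S₂ : TopologicalSpace.Closeds X, Adm' S₁ → Adm' S₂ →
      ∀ ζ₁ ζ₂ : X, closure {ζ₁} = (S₁ : Set X) → closure {ζ₂} = (S₂ : Set X) →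
      ∀ (L : Type u) [Field L] [Algebra (Y.residueField η) L],
      (⊤ : IntermediateField (Y.residueField η) L).FG →
      ∃ ξ : ↥(FBase.bc (k := Y.residueField η) (f.fiberToSpecResidueField η) L),
        _root_.IsReduced ((FBase.bc (k := Y.residueField η) (f.fiberToSpecResidueField η) L).presheaf.stalk ξ) ∧
        f.fiberι η (FBase.bcπ (k := Y.residueField η) (f.fiberToSpecResidueField η) L ξ) = ζ₁ ∧
        f.fiberι η (FBase.bcπ (k := Y.residueField η) (f.fiberToSpecResidueField η) L ξ) = ζ₂ := by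
    intro hne S₁ S₂ hS₁ hS₂ ζ₁ ζ₂ hζ₁ hζ₂ L _ _ hfg
    obtain ⟨-, w₁, hw₁, ho₁⟩ := id hS₁
    obtain ⟨-, w₂, hw₂, ho₂⟩ := id hS₂
    obtain ⟨ξ, hξr, hξmax, hξ₁, hξ₂⟩ := Adm62.exists_point f z (genericPoint_specializes _) hne hred hzmax
      _ _ w₁ w₂ hw₁ hw₂ ho₁ ho₂ L hfg
    have key : ∀ (S : TopologicalSpace.Closeds X), Adm' S → ∀ ζ : X, closure {ζ} = (S : Set X) →
        f.fiberι η (FBase.bcπ (k := Y.residueField η) (f.fiberToSpecResidueField η) L ξ) ∈ S →
        f.fiberι η (FBase.bcπ (k := Y.residueField η) (f.fiberToSpecResidueField η) L ξ) = ζ := by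
      intro S hS ζ hζ hmem
      obtain ⟨ζ', rfl⟩ := E4O.exists_fiberι_eq f (y := η) (hgenpt S hS ζ hζ).1
      have h4 : ζ' ⤳ FBase.bcπ (k := Y.residueField η) (f.fiberToSpecResidueField η) L ξ :=
        (E4O.specializes_fiberι_iff f η _ _).1 (specializes_iff_mem_closure.2 (hζ.symm ▸ hmem))
      obtain ⟨b, hb, hbζ⟩ := FBase64.generalizingMap_bcπ (k := Y.residueField η) (f.fiberToSpecResidueField η) L h4
      rw [← hbζ, hξmax b hb]
    exact ⟨ξ, hξr, key S₁ hS₁ ζ₁ hζ₁ ((hrange S₁).le hξ₁), key S₂ hS₂ ζ₂ hζ₂ ((hrange S₂).le hξ₂)⟩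
  have htriv : η = f z → ∀ S, Adm' S → ∀ ζ : X, closure {ζ} = (S : Set X) → ζ = z := fun he S hS ζ hζ =>
    hzmax ζ (specializes_iff_mem_closure.2 (hζ.symm ▸ (hgenpt S hS ζ hζ).2)) ((hgenpt S hS ζ hζ).1.trans he)
  have hfg₀ : (⊤ : IntermediateField (Y.residueField η) (Y.residueField η)).FG :=
    IntermediateField.fg_top_iff.2 inferInstance
  refine ⟨fun S₁ h₁ S₂ h₂ => ?_, fun S hS ζ hζ => ?_⟩
  · replace h₁ := hadm S₁ h₁
    replace h₂ := hadm S₂ h₂
    obtain ⟨ζ₁, hζ₁⟩ := QuasiSober.sober h₁.1.1 S₁.isClosed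
    obtain ⟨ζ₂, hζ₂⟩ := QuasiSober.sober h₂.1.1 S₂.isClosed
    have he : ζ₁ = ζ₂ := by
      by_cases he : η = f z
      · exact (htriv he S₁ h₁ ζ₁ hζ₁).trans (htriv he S₂ h₂ ζ₂ hζ₂).symm
      · obtain ⟨ξ, -, e₁, e₂⟩ := hcore he S₁ S₂ h₁ h₂ ζ₁ ζ₂ hζ₁ hζ₂ (Y.residueField η) hfg₀
        exact e₁.symm.trans e₂
    exact TopologicalSpace.Closeds.ext (hζ₁.symm.trans (by rw [he]; exact hζ₂))
  · replace hS := hadm S hS
    by_cases he : η = f z
    · have hζz := htriv he S hS _ hζ
      exact (E4O.isGeomReducedAt_fibre_point f ζ hζz).2 hred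
    · letI : (f.fiber η).Over (Spec (CommRingCat.of (Y.residueField η))) := ⟨f.fiberToSpecResidueField η⟩
      haveI : LocallyOfFiniteType (f.fiberToSpecResidueField η) :=
        MorphismProperty.of_isPullback (P := @LocallyOfFiniteType)
          (IsPullback.of_hasPullback f (Y.fromSpecResidueField η)) inferInstance
      haveI : LocallyOfFiniteType ((f.fiber η) ↘ Spec (CommRingCat.of (Y.residueField η))) := ‹_›
      refine (VarGal.isGeomReducedAt_iff_fbase (k := Y.residueField η) ζ).1 ?_
      refine VarGal.isGeomReducedAt_of_forall_purelyInseparable (k := Y.residueField η) ζ ?_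
      intro L _ _ _ _ x' hx'
      obtain ⟨ξ, hξr, e₁, -⟩ := hcore he S S hS hS _ _ hζ hζ L
        (IntermediateField.fg_top_iff.2 inferInstance)
      have e₂ := (f.fiberι η).isEmbedding.injective e₁
      haveI := AGF80.WeilInsep.universallyInjective_specMap (Y.residueField η) L
      haveI : UniversallyInjective
          (FBase.bcπ (k := Y.residueField η) (f.fiberToSpecResidueField η) L) :=
        MorphismProperty.pullback_fst (P := @UniversallyInjective) _ _ inferInstance
      obtain rfl : x' = ξ :=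
        (FBase.bcπ (k := Y.residueField η) (f.fiberToSpecResidueField η) L).injective (hx'.trans e₂.symm)
      exact hξr

end Groth.Agent.S3459
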