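import Groth.Prelude.Def_EtAcyc
import Mathlib.AlgebraicGeometry.Morphisms.QuasiSeparated
import Groth.Agent.An92.EtSets.Stalk
import Groth.Agent.Sga84.Top
import Mathlib.CategoryTheory.Adjunction.FullyFaithful
import Mathlib.CategoryTheory.Sites.Point.Skyscraper

set_option autoImplicit false
universe u
open CategoryTheory CategoryTheory.Limits AlgebraicGeometry Opposite
namespace EtAcyc
end EtAcyc
open EtAcyc

namespace Groth.Agent.S3473

theorem unique_skyscraper {C : Type (u + 1)} [Category.{u} C] {J : GrothendieckTopology C}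
    (Φ : GrothendieckTopology.Point.{u} J) (A : Type (u + 1)) (V : C) [IsEmpty (Φ.fiber.obj V)] :
    Nonempty (Unique ((Φ.skyscraperSheaf A).obj.obj (op V))) :=
  ⟨@Equiv.unique _ _ (Pi.uniqueOfIsEmpty _) (Types.productIso.{u, u + 1} (fun _ : Φ.fiber.obj V => A)).toEquiv⟩

theorem not_subsingleton_skyscraper {C : Type (u + 1)} [Category.{u} C] {J : GrothendieckTopology C}
    (Φ : GrothendieckTopology.Point.{u} J) (V : C) (t : Φ.fiber.obj V)
    (h : Subsingleton ((Φ.skyscraperSheaf (ULift.{u + 1} Bool)).obj.obj (op V))) : False := by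
  let e := (Types.productIso.{u, u + 1} (fun _ : Φ.fiber.obj V => ULift.{u + 1} Bool)).toEquiv
  have := congrArg (fun v : Φ.fiber.obj V → ULift.{u + 1} Bool => (v t).down)
    (e.symm.injective (h.elim (e.symm fun _ => ⟨true⟩) (e.symm fun _ => ⟨false⟩)))
  exact Bool.noConfusion this

theorem unique_stalk_skyscraper {Z : Scheme.{u}} {K₀ : Type u} [Field K₀] [IsSepClosed K₀]
    (η₀ : Spec (CommRingCat.of K₀) ⟶ Z) (A : Type (u + 1)) {K : Type u} [Field K] [IsSepClosed K]
    (ξ : Spec (CommRingCat.of K) ⟶ Z) (h : ξ default ∉ closure ({η₀ default} : Set Z)) :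
    Nonempty (Unique ((An92.EtSets.stalkSh ξ).obj ((Scheme.pointSmallEtale η₀).skyscraperSheaf A))) := by
  refine An92.EtSets.unique_stalk_of_refined ξ _ fun V s => ?_
  let O : V.left.Opens := V.hom ⁻¹ᵁ ⟨(closure ({η₀ default} : Set Z))ᶜ, isClosed_closure.isOpen_compl⟩
  have hs : Unr55.EtSh.hom ξ s default ∈ O := by
    have h1 : Unr55.EtSh.hom ξ s ≫ V.hom = ξ := Over.w s
    change V.hom (Unr55.EtSh.hom ξ s default) ∉ closure ({η₀ default} : Set Z)
    have h2 : V.hom (Unr55.EtSh.hom ξ s default) = ξ default :=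
      congrArg (fun k : _ ⟶ Z => k default) h1
    rw [h2]
    exact h
  have : IsEmpty ((Scheme.pointSmallEtale η₀).fiber.obj (Unr55.EtSh.openSub V O)) := ⟨fun t => by
    have h1 : Unr55.EtSh.hom η₀ t ≫ O.ι ≫ V.hom = η₀ := Over.w t
    have h2 : V.hom (O.ι (Unr55.EtSh.hom η₀ t default)) = η₀ default :=
      Eq.trans rfl (congrArg (fun k : _ ⟶ Z => k default) h1)
    have h3 : O.ι (Unr55.EtSh.hom η₀ t default) ∈ O := O.range_ι.le ⟨_, rfl⟩
    change V.hom (O.ι (Unr55.EtSh.hom η₀ t default)) ∉ closure ({η₀ default} : Set Z) at h3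
    rw [h2] at h3
    exact h3 (subset_closure rfl)⟩
  exact ⟨_, Unr55.EtSh.openSubι V O, Unr55.EtSh.ptOpen O s hs, Unr55.EtSh.map_ptOpen O s hs,
    unique_skyscraper (Scheme.pointSmallEtale η₀) A (Unr55.EtSh.openSub V O)⟩

theorem exists_geomPoint {Z : Scheme.{u}} (z : Z) :
    ∃ (K : Type u) (_ : Field K) (_ : IsSepClosed K) (η : Spec (CommRingCat.of K) ⟶ Z), η default = z := by
  refine ⟨SeparableClosure (Z.residueField z), inferInstance, inferInstance,
    Spec.map (CommRingCat.ofHom (algebraMap (Z.residueField z) (SeparableClosure (Z.residueField z)))) ≫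
      Z.fromSpecResidueField z, ?_⟩
  exact Z.fromSpecResidueField_apply z _


/-- Let g : X → Y be a morphism of schemes. If g is surjective then g is (-1)-acyclic (for every etale V
→ Y and every sheaf of sets F on V, F → g'_* g'^* F is a monomorphism, g' the projection X ×_Y V →
V); conversely, if g is quasi-compact, quasi-separated and (-1)-acyclic then g is surjective. -/
theorem result {X Y : Scheme.{u}} (g : X ⟶ Y) :
    (Function.Surjective g.base → EtAcyc.IsMinusOneAcyclic g) ∧
      (∀ [QuasiCompact g] [QuasiSeparated g], EtAcyc.IsMinusOneAcyclic g → Function.Surjective g.base) := by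
  constructor
  · intro hg V F
    have hfaith : (EtDesc.pullSh (EtAcyc.prj g V)).Faithful := by
      refine ⟨fun {G H} φ ψ e => Sheaf.hom_ext (NatTrans.ext (funext fun U => ConcreteCategory.hom_ext _ _ fun σ => ?_))⟩
      obtain ⟨U⟩ := U
      let S : Sieve U :=
        { arrows := fun W k => H.obj.map k.op (φ.hom.app (op U) σ) = H.obj.map k.op (ψ.hom.app (op U) σ)
          downward_closed := fun {W W' k} hk m => by
            rw [op_comp, Functor.map_comp]
            exact congrArg (H.obj.map m.op) hk }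
      have hS : S ∈ V.left.smallEtaleTopology U := Unr55.EtSh.mem_topology fun x => by
        have : Surjective g := ⟨hg⟩
        obtain ⟨y, hy⟩ := (pullback.fst U.hom (EtAcyc.prj g V)).surjective x
        obtain ⟨K, _, _, η, t, ht⟩ := Unr55.EtSh.point_over ((EtCoh.bc (EtAcyc.prj g V)).obj U) y
        let η' := η ≫ EtAcyc.prj g V
        let s := Unr55.EtSh.ptDown (EtAcyc.prj g V) η t
        have hn : ∀ χ : G ⟶ H, (An92.EtSets.stalkPullShIso (EtAcyc.prj g V) η).hom.app G ≫ (An92.EtSets.stalkSh η').map χ =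
            (An92.EtSets.stalkSh η).map ((EtDesc.pullSh (EtAcyc.prj g V)).map χ) ≫
              (An92.EtSets.stalkPullShIso (EtAcyc.prj g V) η).hom.app H := fun χ =>
          ((An92.EtSets.stalkPullShIso (EtAcyc.prj g V) η).hom.naturality χ).symm
        have hst : (An92.EtSets.stalkSh η').map φ = (An92.EtSets.stalkSh η').map ψ := by
          rw [← cancel_epi ((An92.EtSets.stalkPullShIso (EtAcyc.prj g V) η).hom.app G), hn, hn, e]
        have hgerm : (Scheme.pointSmallEtale η').toPresheafFiber U s H.obj (φ.hom.app (op U) σ) =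
            (Scheme.pointSmallEtale η').toPresheafFiber U s H.obj (ψ.hom.app (op U) σ) := by
          refine ((Scheme.pointSmallEtale η').toPresheafFiber_naturality_apply φ.hom U s σ).symm.trans ?_
          refine Eq.trans ?_ ((Scheme.pointSmallEtale η').toPresheafFiber_naturality_apply ψ.hom U s σ)
          exact ConcreteCategory.congr_hom hst _
        obtain ⟨W, k, t', h1, h2⟩ := ((Scheme.pointSmallEtale η').toPresheafFiber_eq_iff' (P := H.obj) U s _ _).1 hgerm
        refine ⟨W, k, Unr55.EtSh.hom η' t' default, h2, ?_⟩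
        exact (congrArg (fun q => Unr55.EtSh.hom η' q default) h1).trans
          ((congrArg (pullback.fst U.hom (EtAcyc.prj g V)) ht).trans hy)
      exact (((isSheaf_iff_isSheaf_of_type _ _).1 H.property) S hS).isSeparatedFor.ext fun W k hk => hk
    infer_instance
  · intro _ _ hac y
    by_contra hy
    have hnot : y ∉ closure (g '' (g ⁻¹' closure {y})) := fun h => by
      obtain ⟨z, hz, hzy⟩ := Sga84.exists_specializes_of_mem_closure g (isClosed_closure.preimage g.continuous) h
      have h1 : y ⤳ g z := specializes_iff_mem_closure.2 hz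
      exact hy ⟨z, (hzy.antisymm h1).eq⟩
    let U : Y.Opens := ⟨(closure (g '' (g ⁻¹' closure {y})))ᶜ, isClosed_closure.isOpen_compl⟩
    let W : Y.Etale := Scheme.Etale.mk U.ι
    let p : ↥(U : Scheme.{u}) := ⟨y, hnot⟩
    obtain ⟨K₀, _, _, η₀, hp⟩ := exists_geomPoint (Z := W.left) (show W.left from (⟨y, hnot⟩ : ↥U))
    let A : Type (u + 1) := ULift.{u + 1} Bool
    let F : EtDesc.Sh W.left := (Scheme.pointSmallEtale η₀).skyscraperSheaf A
    let g' := EtAcyc.prj g W
    have hterm : IsIso (terminal.from ((EtDesc.pullSh g').obj F)) := by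
      refine An92.EtSets.isIso_terminal_of_stalks _ fun K _ _ ξ => ?_
      have hout : (ξ ≫ g') default ∉ closure ({η₀ default} : Set ↥W.left) := by
        intro hC
        have h3 : W.hom (g' (ξ default)) = g (pullback.snd W.hom g (ξ default)) :=
          congrArg (fun k : pullback W.hom g ⟶ Y => k (ξ default)) pullback.condition
        have h4 : W.hom (g' (ξ default)) ∈ closure ({y} : Set Y) := by
          have := (specializes_iff_mem_closure.2 hC).map W.hom.continuous
          rw [hp] at this
          exact specializes_iff_mem_closure.1 this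
        have h5 : W.hom (g' (ξ default)) ∈ U := (show ↥U from g' (ξ default)).2
        exact h5 (subset_closure ⟨_, (by rw [Set.mem_preimage, ← h3]; exact h4), h3.symm⟩)
      obtain ⟨i⟩ := unique_stalk_skyscraper η₀ A (ξ ≫ g') hout
      exact ⟨@Equiv.unique _ _ i ((An92.EtSets.stalkPullShIso g' ξ).app F).toEquiv⟩
    have hmono := hac W F
    let U₁ : W.left.Etale := Scheme.Etale.mk (𝟙 W.left)
    let t₁ : Unr55.EtSh.Pt η₀ U₁ := Unr55.EtSh.mkPt η₀ η₀ (Category.comp_id _)
    obtain ⟨i⟩ := (An92.EtSets.isIso_terminal_from_iff _).1 hterm ((EtCoh.bc g').obj U₁)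
    have hinj : Function.Injective (((EtDesc.adjSh g').unit.app F).hom.app (op U₁)) := by
      rw [← CategoryTheory.mono_iff_injective]
      have : Mono ((EtDesc.adjSh g').unit.app F).hom :=
        inferInstanceAs (Mono ((sheafToPresheaf _ _).map ((EtDesc.adjSh g').unit.app F)))
      infer_instance
    refine not_subsingleton_skyscraper (Scheme.pointSmallEtale η₀) U₁ t₁ ?_
    exact ⟨fun a b => hinj ((i.uniq _).trans (i.uniq _).symm)⟩

end Groth.Agent.S3473
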