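import Groth.Statements.S3502
import Groth.Agent.CdP50.Algebraic
import Groth.Agent.GalCoh84.CdLe

set_option autoImplicit false
universe u
open CategoryTheory CategoryTheory.Limits AlgebraicGeometry Opposite
open EtCd

namespace Groth.Agent.S3502

set_option maxHeartbeats 1000000 in
/-- Let X be a Noetherian scheme of dimension at most 1 and n ≥ 1 an integer invertible on X; assume
that cd_ℓ(κ(x)) ≤ 1 for every maximal point x of X and every prime ℓ dividing n (so that the ring of
rational functions of X has ℓ-cohomological dimension ≤ 1), and that the residue field of every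
closed point of X is separably closed. Then H^q(X, μ_n) = 0 for every q > 2. -/
theorem result (X : Scheme.{u}) [IsNoetherian X] (hdim : topologicalKrullDim X ≤ 1)
    (n : ℕ) (hn : 0 < n) (hinv : Dix.InvertibleOn X n)
    (hcd : ∀ x : X, closure {x} ∈ irreducibleComponents (X : Type u) →
      ∀ ℓ : ℕ, ℓ.Prime → ℓ ∣ n → Dix.CohDimLEAt (Spec (X.residueField x)) ℓ 1)
    (hcl : ∀ x : X, IsClosed ({x} : Set X) → IsSepClosed (X.residueField x)) (q : ℕ) (hq : 2 < q) :
    Subsingleton (EtCoh.H X (EtCoh.mu X n) q) := by
  classical
  refine CdP50.subsingleton_of_killed q n hn (fun ℓ hℓ hdvd G hG => ?_) (EtCoh.mu X n) ?_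
  · have hirr : ∀ x : X, ¬IsClosed ({x} : Set X) → closure {x} ∈ irreducibleComponents (X : Type u) := by
      intro x hx
      refine ⟨isIrreducible_singleton.closure, fun Z hZ hle => ?_⟩
      by_contra hne
      obtain ⟨z, hz, hzx⟩ := Set.not_subset.1 hne
      have hx' : ∃ y ∈ closure ({x} : Set X), y ≠ x := by
        by_contra h
        push Not at h
        exact hx (closure_eq_iff_isClosed.1 (Set.Subset.antisymm (fun y hy => h y hy) subset_closure))
      obtain ⟨y, hy, hyx⟩ := hx'
      let A : TopologicalSpace.IrreducibleCloseds X := ⟨closure {y}, isIrreducible_singleton.closure, isClosed_closure⟩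
      let B : TopologicalSpace.IrreducibleCloseds X := ⟨closure {x}, isIrreducible_singleton.closure, isClosed_closure⟩
      let C : TopologicalSpace.IrreducibleCloseds X := ⟨closure Z, hZ.closure, isClosed_closure⟩
      have hAB : A < B := by
        refine lt_of_le_of_ne (show closure {y} ⊆ closure {x} from closure_minimal (Set.singleton_subset_iff.2 hy) isClosed_closure) ?_
        intro e
        have : x ⤳ y ∧ y ⤳ x := ⟨specializes_iff_mem_closure.2 hy, specializes_iff_mem_closure.2 (by
          rw [show closure ({y} : Set X) = closure {x} from congrArg SetLike.coe e]; exact subset_closure rfl)⟩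
        exact hyx (this.2.antisymm this.1).eq
      have hBC : B < C := lt_of_le_of_ne (show closure {x} ⊆ closure Z from closure_minimal
        (Set.singleton_subset_iff.2 (subset_closure (hle (subset_closure rfl)))) isClosed_closure) fun e =>
        hzx (by rw [show closure ({x} : Set X) = closure Z from congrArg SetLike.coe e]; exact subset_closure hz)
      have := Order.LTSeries.length_le_krullDim
        (LTSeries.mk 2 ![A, B, C] (Fin.strictMono_iff_lt_succ.2 fun i => by fin_cases i <;> assumption))
      have h2 := this.trans hdim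
      change ((2 : ℕ) : WithBot ℕ∞) ≤ ((1 : ℕ) : WithBot ℕ∞) at h2
      exact absurd (Nat.cast_le.1 h2) (by omega)
    let φ : X → ℕ := fun x => if IsClosed ({x} : Set X) then 0 else 2
    have hF : EtAcyc.IsLTorsion {ℓ} G := fun U s v => ⟨U, 𝟙 _, ℓ, ⟨v, rfl⟩, ⟨hℓ.pos, fun p hp hd =>
      (Nat.prime_dvd_prime_iff_eq hp hℓ).1 hd⟩, by
        have := GalCoh84.sect_nsmul_eq_zero hG U s
        rwa [op_id, G.obj.map_id]⟩
    refine CdP50.subsingleton_H_of_dimFun φ (fun x => ?_) (fun x y hxy hne R _ _ _ _ _ P hP => ?_) hℓ q G hF
      (fun x _ => by simp only [φ]; split_ifs <;> omega) q le_rfl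
    · simp only [φ]
      split_ifs with hx
      · have := hcl x hx
        exact CdP50.cohDimLEAt_sepClosed (X.residueField x) ℓ
      · exact fun F hF q hq => hcd x (hirr x hx) ℓ hℓ hdvd F hF q (by omega)
    · have hx : ¬IsClosed ({x} : Set X) := fun h => hne (hxy.mem_closed h rfl).symm
      have hy : IsClosed ({y} : Set X) := by
        by_contra hy
        refine hne ?_
        have h1 : closure ({y} : Set X) ⊆ closure {x} :=
          closure_minimal (Set.singleton_subset_iff.2 (specializes_iff_mem_closure.1 hxy)) isClosed_closure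
        have h2 := (hirr y hy).2 isIrreducible_singleton.closure h1
        exact (hxy.antisymm (specializes_iff_mem_closure.2 (h2 (subset_closure rfl)))).eq
      simp only [φ, if_neg hx, if_pos hy]
      have := hP.1.1
      obtain ⟨_, halg, -⟩ := CdP50.exists_algebraic_frac hxy R P hP
      refine ⟨1, le_rfl, ?_⟩
      exact @CdP50.cohDimLEAt_of_algebraic ℓ 1 hℓ (X.residueField x) _ (FractionRing (R ⧸ P)) _ _ halg (hcd x (hirr x hx) ℓ hℓ hdvd)
  · have h1 : EtCoh.muι X n ≫ EtCoh.powMap X n = 0 := kernel.condition _
    have : Mono (EtCoh.muι X n) := inferInstanceAs (Mono (kernel.ι _))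
    rw [← cancel_mono (EtCoh.muι X n)]
    · rw [Preadditive.nsmul_comp, Category.id_comp, zero_comp]
      simpa [EtCoh.powMap, Preadditive.comp_nsmul] using h1

end Groth.Agent.S3502
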