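import Groth.Statements.S3517
import Groth.Agent.EtSets93.SecPull
import Groth.Agent.Unr55.Et.FinitePushExact
-- import your own Groth.Agent.* helpers here

set_option autoImplicit false
universe u
open CategoryTheory CategoryTheory.Limits AlgebraicGeometry Opposite
open EtBC

namespace Groth.Agent.S3517


open Groth.Agent.Unr55.EtSh Groth.Agent.An92.EtSets Groth.Agent.FlatMor66

set_option backward.isDefEq.respectTransparency.types false

theorem inj_map_of_natIso {C : Type*} [Category C] {G₁ G₂ : C ⥤ Type (u + 1)} (α : G₁ ≅ G₂) {A B : C}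
    (v : A ⟶ B) (h : Function.Injective (G₁.map v)) : Function.Injective (G₂.map v) := by
  have : Mono (G₁.map v) := (CategoryTheory.mono_iff_injective _).2 h
  refine (CategoryTheory.mono_iff_injective _).1 ?_
  rw [← NatIso.naturality_1 α v]
  infer_instance

/-- The unit of a surjective morphism is a monomorphism of sheaves of sets. -/
theorem mono_unit_sets {X Xb : Scheme.{u}} (p : Xb ⟶ X) (hp : Function.Surjective p.base) (F : EtDesc.Sh X) :
    Mono ((EtDesc.adjSh p).unit.app F) := by
  set v := (EtDesc.adjSh p).unit.app F with hv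
  have : Surjective p := ⟨hp⟩
  have hstalk : ∀ (K : Type u) [Field K] [IsSepClosed K] (η : Spec (CommRingCat.of K) ⟶ Xb),
      Function.Injective ((stalkSh (η ≫ p)).map v) := by
    intro K _ _ η
    have : Mono ((EtDesc.pullSh p).map v) :=
      (SplitMono.mk _ ((EtDesc.adjSh p).left_triangle_components F)).mono
    have h1 : Function.Injective ((EtDesc.pullSh p ⋙ stalkSh η).map v) := by
      intro a b e
      obtain ⟨r, hr⟩ : ∃ r, (EtDesc.pullSh p).map v ≫ r = 𝟙 _ := ⟨_, (EtDesc.adjSh p).left_triangle_components F⟩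
      have h2 := congrArg ((stalkSh η).map r) e
      have h3 : ∀ z, (stalkSh η).map r ((stalkSh η).map ((EtDesc.pullSh p).map v) z) = z := fun z => by
        rw [← ConcreteCategory.comp_apply, ← Functor.map_comp, hr, CategoryTheory.Functor.map_id]; rfl
      exact (h3 a).symm.trans (h2.trans (h3 b))
    exact inj_map_of_natIso (stalkPullShIso p η) v h1
  have : Mono v.hom := by
    rw [NatTrans.mono_iff_mono_app]
    intro U
    rw [CategoryTheory.mono_iff_injective]
    intro σ σ' hσ
    obtain ⟨U⟩ := U
    let S : Sieve U :=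
      { arrows := fun V g => F.obj.map g.op σ = F.obj.map g.op σ'
        downward_closed := fun {V W g} hg k => by
          rw [op_comp, Functor.map_comp]
          exact congrArg (F.obj.map k.op) hg }
    have hS : S ∈ X.smallEtaleTopology U := mem_topology fun x => by
      obtain ⟨y, hy⟩ := (pullback.fst U.hom p).surjective x
      obtain ⟨K, _, _, l, hl⟩ := exists_gpt (V := pullback U.hom p) y
      have : IsSepClosed K := inferInstance
      let η := l ≫ pullback.snd U.hom p
      let t : Pt (η ≫ p) U := mkPt _ (l ≫ pullback.fst U.hom p) (by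
        simp only [η, Category.assoc, pullback.condition])
      have ht : hom (η ≫ p) t default = x := by
        rw [← hy, ← hl]
        exact congrArg (l ≫ pullback.fst U.hom p) (Subsingleton.elim _ _)
      have e : (Scheme.pointSmallEtale (η ≫ p)).toPresheafFiber U t F.obj σ =
          (Scheme.pointSmallEtale (η ≫ p)).toPresheafFiber U t F.obj σ' := by
        refine hstalk K η ?_
        refine ((Scheme.pointSmallEtale (η ≫ p)).toPresheafFiber_naturality_apply v.hom U t σ).trans ?_
        refine Eq.trans ?_ ((Scheme.pointSmallEtale (η ≫ p)).toPresheafFiber_naturality_apply v.hom U t σ').symm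
        exact congrArg _ hσ
      obtain ⟨V, g, t', h1, h2⟩ := ((Scheme.pointSmallEtale (η ≫ p)).toPresheafFiber_eq_iff' (P := F.obj) U t σ σ').1 e
      refine ⟨V, g, hom (η ≫ p) t' default, h2, ?_⟩
      rw [← ht, ← h1]
      rfl
    exact (((isSheaf_iff_isSheaf_of_type _ _).1 F.property) S hS).isSeparatedFor.ext fun V g hg => hg
  exact (sheafToPresheaf X.smallEtaleTopology (Type (u + 1))).mono_of_mono_map this

/-- Let h : Y → X and p : X̄ → X be morphisms of schemes with p surjective, Ȳ = Y ×_X X̄ with
projections h̄ : Ȳ → X̄ and p_Y : Ȳ → Y. If for every sheaf of sets F̄ on X̄ the pullback map on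
global sections Γ(X̄, F̄) → Γ(Ȳ, h̄^* F̄) is injective, then for every sheaf of sets F on X the map
Γ(X, F) → Γ(Y, h^* F) is injective. If those maps for h̄ are bijective and moreover the base change
morphism h^* p_* F̄ → p_{Y*} h̄^* F̄ is a monomorphism for every sheaf of sets F̄ on X̄, then the
maps Γ(X, F) → Γ(Y, h^* F) are bijective. -/
theorem result {X Y Xb Yb : Scheme.{u}} (h : Y ⟶ X) (p : Xb ⟶ X)
    (hb : Yb ⟶ Xb) (pY : Yb ⟶ Y) (sq : IsPullback hb pY p h) (hp : Function.Surjective p.base) :
    ((∀ Fb : EtDesc.Sh Xb, Function.Injective (EtDesc.secPull hb Fb)) →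
      ∀ F : EtDesc.Sh X, Function.Injective (EtDesc.secPull h F)) ∧
    ((∀ Fb : EtDesc.Sh Xb, Function.Bijective (EtDesc.secPull hb Fb)) →
      (∀ Fb : EtDesc.Sh Xb, Mono (EtBC.baseChange0Sh p h pY hb sq.w Fb)) →
      ∀ F : EtDesc.Sh X, Function.Bijective (EtDesc.secPull h F)) := by
  let u' := fun F => (EtDesc.adjSh p).unit.app F
  have hu : ∀ F : EtDesc.Sh X, Mono (u' F) := mono_unit_sets p hp
  let res := fun (F : EtDesc.Sh X) (a : EtDesc.sect ((EtDesc.pushSh p).obj ((EtDesc.pullSh p).obj F)) (EtCoh.top X)) =>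
    ((EtDesc.pullSh p).obj F).obj.map (EtCore.bcTopIso p).inv.op a
  have hres : ∀ F, Function.Bijective (res F) := fun F =>
    (((EtDesc.pullSh p).obj F).obj.mapIso (EtCore.bcTopIso p).op.symm).toEquiv.bijective
  have inj : (∀ Fb : EtDesc.Sh Xb, Function.Injective (EtDesc.secPull hb Fb)) →
      ∀ F : EtDesc.Sh X, Function.Injective (EtDesc.secPull h F) := by
    intro hinj F s t e
    refine EtSets93.injective_app (u' F) _ ((hres F).1 (hinj _ ?_))
    refine (EtSets93.secPull_square h p hb pY sq.w _ _).symm.trans ?_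
    refine Eq.trans ?_ (EtSets93.secPull_square h p hb pY sq.w _ _)
    have e1 : EtDesc.secPull h _ ((u' F).hom.app (op (EtCoh.top X)) s) =
        EtDesc.secPull h _ ((u' F).hom.app (op (EtCoh.top X)) t) :=
      (EtSets93.secPull_naturality h (u' F) s).trans
        ((congrArg (((EtDesc.pullSh h).map (u' F)).hom.app (op (EtCoh.top Y))) e).trans
          (EtSets93.secPull_naturality h (u' F) t).symm)
    exact congrArg (fun z => ((EtDesc.pullSh hb).obj ((EtDesc.pullSh p).obj F)).obj.map (EtCore.bcTopIso pY).inv.op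
      ((EtBC.baseChange0Sh p h pY hb sq.w _).hom.app (op (EtCoh.top Y)) z)) e1
  refine ⟨inj, fun hbij hmono F => ⟨inj (fun Fb => (hbij Fb).1) F, fun ξ => ?_⟩⟩
  have hinj := inj (fun Fb => (hbij Fb).1)
  have := EtSets93.mono_pullSh h (u' F)
  refine EtSets93.mem_range_secPull h hinj (u' F) (EtSets93.injective_app _ _) ξ ?_
  obtain ⟨d, hd⟩ := (hbij ((EtDesc.pullSh p).obj F)).2
    (((EtDesc.pullSh hb).obj ((EtDesc.pullSh p).obj F)).obj.map (EtCore.bcTopIso pY).inv.op
      ((EtBC.baseChange0Sh p h pY hb sq.w _).hom.app (op (EtCoh.top Y))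
        (((EtDesc.pullSh h).map (u' F)).hom.app (op (EtCoh.top Y)) ξ)))
  obtain ⟨a, rfl⟩ := (hres F).2 d
  have := hmono ((EtDesc.pullSh p).obj F)
  refine ⟨a, EtSets93.injective_app (EtBC.baseChange0Sh p h pY hb sq.w _) (EtCoh.top Y) ?_⟩
  refine (((EtDesc.pullSh hb).obj ((EtDesc.pullSh p).obj F)).obj.mapIso
    (EtCore.bcTopIso pY).op.symm).toEquiv.injective ?_
  exact (EtSets93.secPull_square h p hb pY sq.w _ a).trans hd

end Groth.Agent.S3517
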