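import Groth.Statements.S3519
import Groth.Agent.CdP50.AS

set_option autoImplicit false
universe u
open CategoryTheory CategoryTheory.Limits AlgebraicGeometry Opposite
open EtCd

namespace Groth.Agent.S3519

/-- Let k be a field of characteristic p > 0 and X a scheme of finite type over k of dimension at most
n. Then cd_p(X) ≤ n + 1: the etale cohomology of every p-primary torsion abelian sheaf on X vanishes
above degree n + 1. -/
theorem result (k : Type u) [Field k] (p : ℕ) [Fact p.Prime] [CharP k p]
    (X : Scheme.{u}) (f : X ⟶ Spec (CommRingCat.of k)) [LocallyOfFiniteType f] [QuasiCompact f]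
    (n : ℕ) (hn : topologicalKrullDim X ≤ n) : Dix.CohDimLEAt X p (n + 1) := by
  have : IsLocallyNoetherian X := LocallyOfFiniteType.isLocallyNoetherian f
  have : CompactSpace X := QuasiCompact.compactSpace_of_compactSpace f
  have : IsNoetherian X := { }
  let a : X ⟶ Spec (CommRingCat.of (ULift.{u} (ZMod p))) :=
    f ≫ Spec.map (CommRingCat.ofHom ((ZMod.castHom (dvd_refl p) k).comp ULift.ringEquiv.toRingHom))
  exact CdP50.cohDimLEAt_of_constVan (CdP50.constVan_of_qcoh a n fun M _ q hq =>
    CdP50.qcoh_van_of_dim hn M q hq)

end Groth.Agent.S3519
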