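import Groth.Statements.S3524
import Groth.Agent.HTor49.Seq

set_option autoImplicit false
universe u
attribute [local instance] HasDerivedCategory.standard
open HTor

namespace Groth.Agent.S3524

open CategoryTheory CategoryTheory.Limits in
/-- Consequence of the biregular Künneth/hypertor spectral sequence; cochain indexing. Let L and M be
complexes of A-modules vanishing in large degrees, every term of L flat (so that L ⊗ M computes the
hypertor of L and M). If Tor_p^A(H^i(L), H^j(M)) = 0 for all p ≥ 0 and all i, j with i + j - p = n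
(vanishing stated as Subsingleton), then H^n(L ⊗ M) = 0. (Tor is Mathlib's, left derived in the
second variable.) -/
theorem result (A : Type u) [CommRing A] (L M : DRing.Cx A)
    (hL : DRing.TermwiseFlat L) (bL : ∃ b : ℤ, DRing.VanishesAbove L b)
    (bM : ∃ b : ℤ, DRing.VanishesAbove M b) (n : ℤ)
    (h : ∀ (p : ℕ) (i j : ℤ), i + j - p = n → Subsingleton (DRing.Tor A p (L.homology i) (M.homology j))) :
    IsZero ((HTor.tensorCx L M).homology n) := by
  obtain ⟨bL, hbL⟩ := bL
  obtain ⟨b, hb⟩ := bM
  have htop := Groth.Agent.HTor49.range_kun_eq_top L M hL bL hbL b hb n fun p => ⟨fun x y =>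
    DFinsupp.ext fun ij => (h (p + 1) ij.1.1 ij.1.2 ij.2).elim _ _⟩
  haveI : Subsingleton (HTor.KunnethSum L M n) := ⟨fun x y => DFinsupp.ext fun ij => by
    have h0 := h 0 ij.1.1 ij.1.2 (by have := ij.2; push_cast; omega)
    haveI : Subsingleton ((((MonoidalCategory.tensoringLeft (ModuleCat.{u} A)).obj
        (L.homology ij.1.1)).leftDerived 0).obj (M.homology ij.1.2) : Type u) := h0
    haveI : Subsingleton (TensorProduct A (L.homology ij.1.1) (M.homology ij.1.2)) :=
      ((Functor.leftDerivedZeroIsoSelf ((MonoidalCategory.tensoringLeft (ModuleCat.{u} A)).obj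
        (L.homology ij.1.1))).app (M.homology ij.1.2)).toLinearEquiv.symm.toEquiv.subsingleton
    exact Subsingleton.elim _ _⟩
  haveI : Subsingleton ((HTor.tensorCx L M).homology n) :=
    (LinearMap.range_eq_top.1 htop).subsingleton
  exact ModuleCat.isZero_of_subsingleton _

end Groth.Agent.S3524
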