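import Groth.Statements.S6317
import Mathlib

set_option autoImplicit false
set_option linter.style.haveILetI false
set_option linter.style.longLine false
universe u
open CategoryTheory
open CAlg

namespace Groth.Agent.S6317

open CategoryTheory CategoryTheory.Limits MonoidalCategory
variable {R : Type u} [CommRing R]
theorem app {A B C : ModuleCat.{u} R} {f : A ⟶ B} {g : B ⟶ C} {h : A ⟶ C} (e : f ≫ g = h) (x : A) :
    g (f x) = h x := by subst e; rfl
theorem commf {S T : ShortComplex (ModuleCat.{u} R)} (φ : S ⟶ T) (x : S.X₁) : φ.τ₂ (S.f x) = T.f (φ.τ₁ x) :=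
  (app φ.comm₁₂.symm x).trans rfl
theorem commg {S T : ShortComplex (ModuleCat.{u} R)} (φ : S ⟶ T) (x : S.X₂) : φ.τ₃ (S.g x) = T.g (φ.τ₂ x) :=
  (app φ.comm₂₃.symm x).trans rfl
theorem cycle_lift (S : ShortComplex (ModuleCat.{u} R)) (x : S.X₂) (hx : S.g x = 0) :
    ∃ z, S.iCycles z = x :=
  ⟨S.moduleCatCyclesIso.inv ⟨x, hx⟩, app S.moduleCatCyclesIso_inv_iCycles _⟩
theorem g_iCycles (S : ShortComplex (ModuleCat.{u} R)) (z : S.cycles) : S.g (S.iCycles z) = 0 :=
  app S.iCycles_g z
theorem π_eq_zero_iff (S : ShortComplex (ModuleCat.{u} R)) (z : S.cycles) :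
    S.homologyπ z = 0 ↔ ∃ y : S.X₁, S.f y = S.iCycles z := by
  constructor
  · intro h
    have h2 : S.moduleCatHomologyIso.hom (S.homologyπ z) = 0 := by rw [h, map_zero]
    rw [app S.π_moduleCatCyclesIso_hom z] at h2
    obtain ⟨y, hy⟩ := (Submodule.Quotient.mk_eq_zero _).1 h2
    exact ⟨y, (congrArg Subtype.val hy).trans (app S.moduleCatCyclesIso_hom_i z)⟩
  · rintro ⟨y, hy⟩
    have h : S.toCycles y = z :=
      (ModuleCat.mono_iff_injective S.iCycles).1 inferInstance ((app S.toCycles_i y).trans hy)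
    rw [← h]
    exact app S.toCycles_comp_homologyπ y
theorem natπ {S T : ShortComplex (ModuleCat.{u} R)} (φ : S ⟶ T) (z : S.cycles) :
    ShortComplex.homologyMap φ (S.homologyπ z) = T.homologyπ (ShortComplex.cyclesMap φ z) :=
  (app (ShortComplex.homologyπ_naturality φ) z).trans rfl
theorem nati {S T : ShortComplex (ModuleCat.{u} R)} (φ : S ⟶ T) (z : S.cycles) :
    T.iCycles (ShortComplex.cyclesMap φ z) = φ.τ₂ (S.iCycles z) :=
  (app (ShortComplex.cyclesMap_i φ) z).trans rfl
theorem hmap {S T U : ShortComplex (ModuleCat.{u} R)} {a : S ⟶ T} {b : T ⟶ U} {d : S ⟶ U} (e : a ≫ b = d)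
    (x : S.homology) : ShortComplex.homologyMap b (ShortComplex.homologyMap a x) = ShortComplex.homologyMap d x :=
  app (by rw [← ShortComplex.homologyMap_comp, e]) x
theorem tau1 {S T U : ShortComplex (ModuleCat.{u} R)} {a : S ⟶ T} {b : T ⟶ U} {d : S ⟶ U} (e : a ≫ b = d)
    (x : S.X₁) : b.τ₁ (a.τ₁ x) = d.τ₁ x := app (by rw [← e]; rfl) x
theorem tau2 {S T U : ShortComplex (ModuleCat.{u} R)} {a : S ⟶ T} {b : T ⟶ U} {d : S ⟶ U} (e : a ≫ b = d)
    (x : S.X₂) : b.τ₂ (a.τ₂ x) = d.τ₂ x := app (by rw [← e]; rfl) x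
section
variable {J : Type u} [SmallCategory J] [IsFiltered J] {K : J ⥤ ShortComplex (ModuleCat.{u} R)} {c : Cocone K}
theorem rep1 (h : IsColimit (ShortComplex.π₁.mapCocone c)) (y : c.pt.X₁) :
    ∃ j, ∃ x : (K.obj j).X₁, (c.ι.app j).τ₁ x = y := Concrete.isColimit_exists_rep _ h y
theorem rep2 (h : IsColimit (ShortComplex.π₂.mapCocone c)) (y : c.pt.X₂) :
    ∃ j, ∃ x : (K.obj j).X₂, (c.ι.app j).τ₂ x = y := Concrete.isColimit_exists_rep _ h y
theorem kill2 (h : IsColimit (ShortComplex.π₂.mapCocone c)) {j : J} (x : (K.obj j).X₂) (hx : (c.ι.app j).τ₂ x = 0) :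
    ∃ (k : J) (a : j ⟶ k), (K.map a).τ₂ x = 0 := by
  obtain ⟨k, a, b, hab⟩ := Concrete.isColimit_exists_of_rep_eq _ h (i := j) (j := j) x (0 : (K.obj j).X₂)
    (hx.trans (map_zero ((c.ι.app j).τ₂.hom)).symm)
  exact ⟨k, a, hab.trans (map_zero ((K.map b).τ₂.hom))⟩
theorem kill3 (h : IsColimit (ShortComplex.π₃.mapCocone c)) {j : J} (x : (K.obj j).X₃) (hx : (c.ι.app j).τ₃ x = 0) :
    ∃ (k : J) (a : j ⟶ k), (K.map a).τ₃ x = 0 := by
  obtain ⟨k, a, b, hab⟩ := Concrete.isColimit_exists_of_rep_eq _ h (i := j) (j := j) x (0 : (K.obj j).X₃)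
    (hx.trans (map_zero ((c.ι.app j).τ₃.hom)).symm)
  exact ⟨k, a, hab.trans (map_zero ((K.map b).τ₃.hom))⟩
theorem homology_isColimit (h1 : IsColimit (ShortComplex.π₁.mapCocone c)) (h2 : IsColimit (ShortComplex.π₂.mapCocone c))
    (h3 : IsColimit (ShortComplex.π₃.mapCocone c)) :
    Nonempty (IsColimit ((ShortComplex.homologyFunctor (ModuleCat.{u} R)).mapCocone c)) := by
  have surjπ : ∀ S : ShortComplex (ModuleCat.{u} R), Function.Surjective S.homologyπ := fun S =>
    (ModuleCat.epi_iff_surjective _).1 inferInstance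
  refine ⟨isColimitOfReflects (forget (ModuleCat.{u} R)) (Types.FilteredColimit.isColimitOf _ _ ?_ ?_)⟩
  · intro h
    obtain ⟨z, rfl⟩ := surjπ c.pt h
    obtain ⟨j, x, hx⟩ := rep2 h2 (c.pt.iCycles z)
    obtain ⟨k, a, hab⟩ := kill3 h3 ((K.obj j).g x) (by rw [commg, hx]; exact g_iCycles _ _)
    rw [commg] at hab
    obtain ⟨z', hz'⟩ := cycle_lift (K.obj k) ((K.map a).τ₂ x) hab
    refine ⟨k, (K.obj k).homologyπ z', ?_⟩
    show c.pt.homologyπ z = ShortComplex.homologyMap (c.ι.app k) _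
    rw [natπ]
    congr 1
    apply (ModuleCat.mono_iff_injective c.pt.iCycles).1 inferInstance
    rw [nati, hz', tau2 (c.w a), hx]
  · intro i j xi xj hij
    change ShortComplex.homologyMap (c.ι.app i) xi = ShortComplex.homologyMap (c.ι.app j) xj at hij
    show ∃ (k : J) (f : i ⟶ k) (g : j ⟶ k),
      ShortComplex.homologyMap (K.map f) xi = ShortComplex.homologyMap (K.map g) xj
    obtain ⟨zi, rfl⟩ := surjπ _ xi
    obtain ⟨zj, rfl⟩ := surjπ _ xj
    let k := IsFiltered.max i j
    let u := IsFiltered.leftToMax i j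
    let v := IsFiltered.rightToMax i j
    let d := ShortComplex.cyclesMap (K.map u) zi - ShortComplex.cyclesMap (K.map v) zj
    have hd : c.pt.homologyπ (ShortComplex.cyclesMap (c.ι.app k) d) = 0 := by
      simp only [d, map_sub, ← natπ]
      rw [hmap (c.w u), hmap (c.w v), hij, sub_self]
    obtain ⟨y, hy⟩ := (π_eq_zero_iff _ _).1 hd
    obtain ⟨l, yl, hyl⟩ := rep1 h1 y
    let m := IsFiltered.max k l
    let s := IsFiltered.leftToMax k l
    let t := IsFiltered.rightToMax k l
    obtain ⟨n, a, hab⟩ := kill2 h2 ((K.map s).τ₂ ((K.obj k).iCycles d) - (K.obj m).f ((K.map t).τ₁ yl)) (by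
      rw [map_sub, sub_eq_zero, tau2 (c.w s), ← nati, ← hy, commf, tau1 (c.w t), hyl]; rfl)
    rw [map_sub, sub_eq_zero, commf] at hab
    refine ⟨n, u ≫ s ≫ a, v ≫ s ≫ a, ?_⟩
    have h0 : ShortComplex.homologyMap (K.map (s ≫ a)) ((K.obj k).homologyπ d) = 0 := by
      rw [natπ, π_eq_zero_iff]
      refine ⟨(K.map a).τ₁ ((K.map t).τ₁ yl), ?_⟩
      rw [nati, ← hab]
      exact tau2 (K.map_comp s a).symm _
    simp only [d, map_sub, ← natπ] at h0
    rw [sub_eq_zero] at h0
    rw [← hmap (K.map_comp u (s ≫ a)).symm, ← hmap (K.map_comp v (s ≫ a)).symm]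
    exact h0
end

/-- Let R be a ring, N an R-module and n ≥ 0. Then M ↦ Tor_nᴿ(M, N) commutes with filtered colimits:
Tor_n(colim Mᵢ, N) = colim Tor_n(Mᵢ, N). -/
theorem result (R : Type u) [CommRing R] (N : ModuleCat.{u} R) (n : ℕ) : Limits.PreservesFilteredColimits ((CategoryTheory.Tor (ModuleCat.{u} R) n).flip.obj N) := by
  constructor
  intro J _ _
  let P := projectiveResolution N
  let G : ModuleCat.{u} R ⥤ ChainComplex (ModuleCat.{u} R) ℕ :=
    { obj := fun X => (((tensoringLeft (ModuleCat.{u} R)).obj X).mapHomologicalComplex _).obj P.complex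
      map := fun f => (NatTrans.mapHomologicalComplex ((tensoringLeft (ModuleCat.{u} R)).map f) _).app P.complex
      map_id := fun X => by ext k; simp
      map_comp := fun f g => by ext k; simp }
  let H := HomologicalComplex.homologyFunctor (ModuleCat.{u} R) (ComplexShape.down ℕ) n
  let e : (CategoryTheory.Tor (ModuleCat.{u} R) n).flip.obj N ≅ G ⋙ H :=
    NatIso.ofComponents (fun X => P.isoLeftDerivedObj ((tensoringLeft (ModuleCat.{u} R)).obj X) n) (fun {X Y} f => by
      show (NatTrans.leftDerived ((tensoringLeft (ModuleCat.{u} R)).map f) n).app N ≫ _ = _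
      rw [P.leftDerived_app_eq, Category.assoc, Category.assoc, Iso.inv_hom_id, Category.comp_id]
      rfl)
  haveI hev : ∀ k, PreservesColimitsOfShape J (G ⋙ HomologicalComplex.eval (ModuleCat.{u} R) (ComplexShape.down ℕ) k) := by
    intro k
    haveI : PreservesColimitsOfShape J (tensorRight (P.complex.X k)) :=
      preservesColimitsOfShape_of_natIso (BraidedCategory.tensorLeftIsoTensorRight (P.complex.X k))
    exact preservesColimitsOfShape_of_natIso
      (show tensorRight (P.complex.X k) ≅ G ⋙ HomologicalComplex.eval (ModuleCat.{u} R) (ComplexShape.down ℕ) k from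
        NatIso.ofComponents (fun X => Iso.refl _) (fun f => (Category.comp_id _).trans (Category.id_comp _).symm))
  haveI : PreservesColimitsOfShape J (G ⋙ H) := by
    refine ⟨fun {F} => ⟨fun {c} hc => ?_⟩⟩
    exact homology_isColimit (K := F ⋙ G ⋙ HomologicalComplex.shortComplexFunctor _ _ n)
      (c := (G ⋙ HomologicalComplex.shortComplexFunctor _ _ n).mapCocone c)
      (isColimitOfPreserves (G ⋙ HomologicalComplex.eval _ _ ((ComplexShape.down ℕ).prev n)) hc)
      (isColimitOfPreserves (G ⋙ HomologicalComplex.eval _ _ n) hc)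
      (isColimitOfPreserves (G ⋙ HomologicalComplex.eval _ _ ((ComplexShape.down ℕ).next n)) hc)
  exact preservesColimitsOfShape_of_natIso e.symm

end Groth.Agent.S6317
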