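import Groth.Statements.S3526
import Groth.Agent.CAlg26.TorMap

set_option autoImplicit false
set_option linter.style.haveILetI false
set_option linter.style.longLine false
universe u
open HTor

namespace Groth.Agent.S3526

open CategoryTheory CategoryTheory.Limits MonoidalCategory TensorProduct
open Groth.Agent.TorBal94 Groth.Agent.FCx40 Groth.Agent.CAlg26

/-- A subfunctor cut out as a kernel preserves filtered colimits. -/
theorem preserves_of_kernel {A : Type u} [CommRing A] {J : Type u} [SmallCategory J] [IsFiltered J]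
    {F₁ F₀ G : ModuleCat.{u} A ⥤ ModuleCat.{u} A} (α : F₁ ⟶ F₀) (β : F₀ ⟶ G)
    (hα : ∀ X, Function.Injective (α.app X))
    (hex : ∀ X y, β.app X y = 0 → ∃ z, α.app X z = y)
    (hc0 : ∀ X z, β.app X (α.app X z) = 0)
    [PreservesColimitsOfShape J F₀] [PreservesColimitsOfShape J G] :
    PreservesColimitsOfShape J F₁ := by
  refine ⟨fun {K} => ⟨fun {c} hc => ⟨isColimitOfReflects (forget (ModuleCat.{u} A))
    (Types.FilteredColimit.isColimitOf _ _ ?_ ?_)⟩⟩⟩
  · intro y
    have h0 := isColimitOfPreserves F₀ hc
    have hG := isColimitOfPreserves G hc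
    obtain ⟨j, x, hx⟩ := Concrete.isColimit_exists_rep _ h0 (α.app c.pt y)
    have hn : G.map (c.ι.app j) (β.app (K.obj j) x) = G.map (c.ι.app j) (0 : G.obj (K.obj j)) := by
      rw [map_zero, ← NatTrans.naturality_apply β (c.ι.app j) x]
      exact (congrArg (β.app c.pt) hx).trans (hc0 _ _)
    obtain ⟨k, a, b, hab⟩ := Concrete.isColimit_exists_of_rep_eq _ hG (i := j) (j := j) _ _ hn
    have hz : β.app (K.obj k) (F₀.map (K.map a) x) = 0 := by
      rw [NatTrans.naturality_apply β (K.map a) x]
      exact hab.trans (map_zero _)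
    obtain ⟨z, hz'⟩ := hex _ _ hz
    refine ⟨k, z, hα _ ?_⟩
    have hnat := NatTrans.naturality_apply α (c.ι.app k) z
    refine (Eq.trans ?_ hnat.symm)
    rw [hz']
    refine (hx.symm.trans ?_)
    exact (congrArg (fun g => F₀.map g x) (c.w a)).symm.trans
      (by rw [F₀.map_comp, ConcreteCategory.comp_apply])
  · intro i j xi xj hij
    have h0 := isColimitOfPreserves F₀ hc
    change F₁.map (c.ι.app i) xi = F₁.map (c.ι.app j) xj at hij
    have he : F₀.map (c.ι.app i) (α.app _ xi) = F₀.map (c.ι.app j) (α.app _ xj) :=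
      (NatTrans.naturality_apply α (c.ι.app i) xi).symm.trans
        ((congrArg (α.app c.pt) hij).trans (NatTrans.naturality_apply α (c.ι.app j) xj))
    obtain ⟨k, a, b, hab⟩ := Concrete.isColimit_exists_of_rep_eq _ h0 (i := i) (j := j) _ _ he
    refine ⟨k, a, b, hα _ ?_⟩
    show α.app _ (F₁.map (K.map a) xi) = α.app _ (F₁.map (K.map b) xj)
    rw [NatTrans.naturality_apply α, NatTrans.naturality_apply α]
    exact hab

section
variable {A : Type u} [CommRing A]

/-- `N ↦ Tor_q(Y, N)` -/
noncomputable abbrev T (q : ℕ) (Y : ModuleCat.{u} A) : ModuleCat.{u} A ⥤ ModuleCat.{u} A :=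
  (Tor (ModuleCat.{u} A) q).obj Y

/-- `Tor_q(Y, S)` computed by the chosen resolution of `S`. -/
noncomputable def cIso (q : ℕ) (Y S : ModuleCat.{u} A) : (T q Y).obj S ≅ (cx Y S).homology q :=
  (projectiveResolution S).isoLeftDerivedObj ((tensoringLeft (ModuleCat.{u} A)).obj Y) q

theorem cIso_natural (q : ℕ) (Y : ModuleCat.{u} A) {S S' : ModuleCat.{u} A} (f : S ⟶ S') :
    (T q Y).map f ≫ (cIso q Y S').hom = (cIso q Y S).hom ≫ HomologicalComplex.homologyMap
      (cxMapR Y (ProjectiveResolution.lift f (projectiveResolution S) (projectiveResolution S'))) q :=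
  ProjectiveResolution.isoLeftDerivedObj_hom_naturality f _ _ _
    (ProjectiveResolution.lift_commutes_zero f _ _) _ q

theorem cIso_map (q : ℕ) {Y Z : ModuleCat.{u} A} (g : Y ⟶ Z) (S : ModuleCat.{u} A) :
    ((Tor (ModuleCat.{u} A) q).map g).app S ≫ (cIso q Z S).hom =
      (cIso q Y S).hom ≫ HomologicalComplex.homologyMap (cxMap g S) q := by
  show (NatTrans.leftDerived ((tensoringLeft (ModuleCat.{u} A)).map g) q).app S ≫ _ = _
  rw [(projectiveResolution S).leftDerived_app_eq, Category.assoc, Category.assoc]
  exact congrArg (fun t => _ ≫ t) (congrArg (fun t => _ ≫ t) (Iso.inv_hom_id _) |>.trans (Category.comp_id _))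

variable {N F H : Type u} [AddCommGroup N] [Module A N] [AddCommGroup F] [Module A F]
  [AddCommGroup H] [Module A H] {ι : N →ₗ[A] F} {π : F →ₗ[A] H}
  (hι : Function.Injective ι) (he : Function.Exact ι π) (hπ : Function.Surjective π)

/-- The connecting map, natural in the second variable. -/
noncomputable def conn (q : ℕ) : T (q + 1) (ModuleCat.of A H) ⟶ T q (ModuleCat.of A N) where
  app S := (cIso (q + 1) _ S).hom ≫ (shortExact_cx ι π hι he hπ S).δ (q + 1) q rfl ≫ (cIso q _ S).inv
  naturality S S' f := by
    let φ := ProjectiveResolution.lift f (projectiveResolution S) (projectiveResolution S')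
    have hnat := HomologicalComplex.HomologySequence.δ_naturality
      (⟨cxMapR _ φ, cxMapR _ φ, cxMapR _ φ, cxMap_comm _ φ, cxMap_comm _ φ⟩ :
        ShortComplex.mk _ _ (cxMap_comp_eq_zero ι π he.linearMap_comp_eq_zero S) ⟶
          ShortComplex.mk _ _ (cxMap_comp_eq_zero ι π he.linearMap_comp_eq_zero S'))
      (shortExact_cx ι π hι he hπ S) (shortExact_cx ι π hι he hπ S') (q + 1) q rfl
    rw [← cancel_mono (cIso q (ModuleCat.of A N) S').hom]
    simp only [Category.assoc, Iso.inv_hom_id, Category.comp_id]
    rw [← Category.assoc, cIso_natural, cIso_natural, Iso.inv_hom_id_assoc, Category.assoc]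
    exact congrArg (fun t => _ ≫ t) hnat.symm

theorem conn_injective [Module.Flat A F] (q : ℕ) (S : ModuleCat.{u} A) :
    Function.Injective ((conn hι he hπ q).app S) := by
  have hm : Mono ((shortExact_cx ι π hι he hπ S).δ (q + 1) q rfl) :=
    (shortExact_cx ι π hι he hπ S).mono_δ (q + 1) q rfl
      ((isZero_tor_iff _ _ _).1 (isZero_tor_of_flat_left F S q))
  exact (ModuleCat.mono_iff_injective _).1 (by dsimp only [conn]; infer_instance)

theorem conn_range (q : ℕ) (S : ModuleCat.{u} A) (y : (T q (ModuleCat.of A N)).obj S)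
    (hy : ((Tor (ModuleCat.{u} A) q).map (ModuleCat.ofHom ι)).app S y = 0) :
    ∃ z, (conn hι he hπ q).app S z = y := by
  have hs := shortExact_cx ι π hι he hπ S
  have e := (ShortComplex.moduleCat_exact_iff _).1 (hs.homology_exact₁ (q + 1) q rfl)
  obtain ⟨w, hw⟩ := e ((cIso q _ S).hom y) (by
    have := congrArg (fun t => t y) (cIso_map q (ModuleCat.ofHom ι) S)
    refine this.symm.trans ?_
    rw [ConcreteCategory.comp_apply, hy, map_zero])
  refine ⟨(cIso (q + 1) _ S).inv w, ?_⟩
  show (cIso q _ S).inv (hs.δ (q + 1) q rfl ((cIso (q + 1) _ S).hom ((cIso (q + 1) _ S).inv w))) = y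
  rw [Iso.inv_hom_id_apply]
  exact (congrArg _ hw).trans (Iso.hom_inv_id_apply _ _)

theorem conn_comp (q : ℕ) (S : ModuleCat.{u} A) (z : (T (q + 1) (ModuleCat.of A H)).obj S) :
    ((Tor (ModuleCat.{u} A) q).map (ModuleCat.ofHom ι)).app S ((conn hι he hπ q).app S z) = 0 := by
  have hs := shortExact_cx ι π hι he hπ S
  have e : (conn hι he hπ q).app S ≫ ((Tor (ModuleCat.{u} A) q).map (ModuleCat.ofHom ι)).app S = 0 := by
    rw [← cancel_mono (cIso q (ModuleCat.of A F) S).hom, Category.assoc, cIso_map, zero_comp]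
    simp only [conn, Category.assoc, Iso.inv_hom_id_assoc]
    exact (congrArg (fun t => _ ≫ t) (hs.δ_comp (q + 1) q rfl)).trans comp_zero
  exact congrArg (fun t => t z) e

end

theorem preserves_zero {A : Type u} [CommRing A] (Y : ModuleCat.{u} A) (J : Type u) [SmallCategory J]
    [IsFiltered J] : PreservesColimitsOfShape J (T 0 Y) :=
  preservesColimitsOfShape_of_natIso
    (Functor.leftDerivedZeroIsoSelf ((tensoringLeft (ModuleCat.{u} A)).obj Y)).symm

theorem preserves_step {A : Type u} [CommRing A] {J : Type u} [SmallCategory J] [IsFiltered J]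
    {N F H : Type u} [AddCommGroup N] [Module A N] [AddCommGroup F] [Module A F]
    [AddCommGroup H] [Module A H] [Module.Flat A F] {ι : N →ₗ[A] F} {π : F →ₗ[A] H}
    (hι : Function.Injective ι) (he : Function.Exact ι π) (hπ : Function.Surjective π) (q : ℕ)
    (hN : PreservesColimitsOfShape J (T q (ModuleCat.of A N)))
    (hF : PreservesColimitsOfShape J (T q (ModuleCat.of A F))) :
    PreservesColimitsOfShape J (T (q + 1) (ModuleCat.of A H)) :=
  preserves_of_kernel (conn hι he hπ q)
    ((Tor (ModuleCat.{u} A) q).map (ModuleCat.ofHom ι))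
    (fun S => conn_injective hι he hπ q S) (fun S y => conn_range hι he hπ q S y)
    (fun S z => conn_comp hι he hπ q S z)

theorem preserves_aux {A : Type u} [CommRing A] (J : Type u) [SmallCategory J] [IsFiltered J]
    (p : ℕ) : ∀ (M : ModuleCat.{u} A), PreservesColimitsOfShape J (T p M) := by
  induction p with
  | zero => exact fun M => preserves_zero M J
  | succ q ih =>
    intro M
    exact preserves_step (N := LinearMap.ker (Finsupp.linearCombination A (id : M → M)))
      (F := (M : Type u) →₀ A) (H := M)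
      (ι := (LinearMap.ker (Finsupp.linearCombination A (id : M → M))).subtype)
      (π := Finsupp.linearCombination A (id : M → M))
      Subtype.val_injective (LinearMap.exact_subtype_ker_map _)
      (Finsupp.linearCombination_id_surjective A M) q (ih _) (ih _)

/-- In the case of single modules, second variable: for an A-module M and p ≥ 0, the functor N ↦
Tor_p^A(M, N) preserves filtered colimits. (Tor is Mathlib's, left derived in the second variable.) -/
theorem result (A : Type u) [CommRing A] (p : ℕ) (M : ModuleCat.{u} A)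
    (J : Type u) [SmallCategory J] [IsFiltered J] :
    PreservesColimitsOfShape J ((CategoryTheory.Tor (ModuleCat.{u} A) p).obj M) :=
  preserves_aux J p M

end Groth.Agent.S3526
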