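import Groth.Statements.S3530
import Groth.Agent.HTor49.BCA

set_option autoImplicit false
universe u
attribute [local instance] HasDerivedCategory.standard
open HTor

namespace Groth.Agent.S3530

open CategoryTheory CategoryTheory.Limits AlgebraicGeometry in
/-- Cohomology and base change for a complex flat over an affine base, in derived form. Let X be
quasi-compact and separated over Spec A, P a complex of quasi-coherent O_X-modules vanishing in
large degrees with every term flat over Spec A, and A → A′ any ring map; put X′ = X ×_A A′ and let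
P′ be the pulled-back complex on X′. If a complex L of projective A-modules vanishing in large
degrees computes RΓ(X, P) in D(A), then L ⊗_A A′ computes RΓ(X′, P′) in D(A′). No flatness of A′
over A is assumed. The published statement gives a canonical isomorphism; here only the existence of
an isomorphism in D(A′) is asserted. -/
theorem result (A A' : Type u) [CommRing A] [CommRing A'] (φ : A →+* A')
    (X : Scheme.{u}) (f : X ⟶ Spec (CommRingCat.of A)) [QuasiCompact f] [IsSeparated f] [HTor.HasRΓA f]
    [HTor.HasRΓA (pullback.snd f (Spec.map (CommRingCat.ofHom φ)))]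
    (P : CochainComplex X.Modules ℤ) (hq : ∀ i : ℤ, Coh.IsQCoh (P.X i))
    (bP : ∃ b : ℤ, ∀ i : ℤ, b < i → IsZero (P.X i)) (hfl : ∀ i : ℤ, FlatMod.IsFlatOver f (P.X i))
    (L : DRing.Cx A) (hL : ∀ i : ℤ, Projective (L.X i)) (c : ∃ c : ℤ, DRing.VanishesAbove L c)
    (e : HTor.Computes f L (DCoh.toD X P)) :
    HTor.Computes (pullback.snd f (Spec.map (CommRingCat.ofHom φ))) (CohIII.bcCx φ L)
      (DCoh.toD _ ((HTor.pullCx (pullback.fst f (Spec.map (CommRingCat.ofHom φ)))).obj P)) := by
  let _ := HasDerivedCategory.standard (ModuleCat.{u} A)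
  let _ := HasDerivedCategory.standard (ModuleCat.{u} A')
  let g := pullback.fst f (Spec.map (CommRingCat.ofHom φ))
  let f' := pullback.snd f (Spec.map (CommRingCat.ofHom φ))
  have H : IsPullback g f' f (Spec.map (CommRingCat.ofHom φ)) := IsPullback.of_hasPullback _ _
  haveI : IsSeparated f' := inferInstance
  haveI : QuasiCompact f' := inferInstance
  haveI := Groth.Agent.HTor49.isSeparated_of_over f
  haveI := Groth.Agent.HTor49.isSeparated_of_over f'
  obtain ⟨T, η, t, u, hη, hu, hT, ht, hf'⟩ :=
    Groth.Agent.HTor49.exists_factor_resolution f P hq bP L hL c e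
  obtain ⟨a, ha⟩ := bP
  have hf : ∀ i, Groth.Agent.HTor49.FlatA f (P.X i) := fun i =>
    Groth.Agent.HTor49.flatA_of_isFlatOver f _ (hq i) (hfl i)
  let T' := ((Scheme.Modules.pullback g).mapHomologicalComplex (ComplexShape.up ℤ)).obj T
  have hT' : ∀ i, Groth.Agent.HTor49.Cls (T'.X i) := fun i => Groth.Agent.HTor49.cls_pullback H (hT i)
  obtain ⟨r⟩ := Groth.Agent.HTor49.computes_of_acyclic f' T' (fun i => (hT' i).isQCoh)
    fun i => (hT' i).acyAt fun W hW => by
      rw [show Groth.Agent.HTor49.topU f' = ⊤ from rfl, inf_top_eq]; exact hW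
  haveI := Groth.Agent.DR39.quasiIso_extendScalars_of_kflat φ
    (Groth.Agent.HTor49.isKFlat_of_projective hL c)
    (Groth.Agent.HTor49.isKFlat_globalSections f ht hT (hf' hf)) u
  let α : HTor.globalSectionsA f ⋙ ModuleCat.extendScalars φ ⟶
      Scheme.Modules.pullback g ⋙ HTor.globalSectionsA f' :=
    Functor.whiskerRight (Groth.Agent.HTor49.gsIso f).hom (ModuleCat.extendScalars φ) ≫
      Groth.Agent.HTor49.bcSecNat g f f' H.w (Groth.Agent.HTor49.topU_bc (g := g) (f := f) (f' := f')) ≫
        Functor.whiskerLeft (Scheme.Modules.pullback g) (Groth.Agent.HTor49.gsIso f').inv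
  let τ := (NatTrans.mapHomologicalComplex α (ComplexShape.up ℤ)).app T
  haveI : ∀ i, IsIso (τ.f i) := fun i => by
    change IsIso (α.app (T.X i))
    haveI := Groth.Agent.HTor49.isIso_bcHom_top H (hT i)
    haveI : IsIso ((Groth.Agent.HTor49.bcSecNat g f f' H.w
        (Groth.Agent.HTor49.topU_bc (g := g) (f := f) (f' := f'))).app (T.X i)) := this
    dsimp only [α, NatTrans.comp_app, Functor.whiskerRight_app, Functor.whiskerLeft_app]
    infer_instance
  have hτ : IsIso τ := HomologicalComplex.Hom.isIso_of_components _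
  haveI := Groth.Agent.HTor49.quasiIso_pullCx H η hq (fun i => (hT i).isQCoh) ha ht hf (hf' hf)
  haveI : IsIso (DerivedCategory.Q.map (((HTor.pullCx g).map η))) :=
    (DerivedCategory.isIso_Q_map_iff_quasiIso _ _).2 inferInstance
  let v := ((ModuleCat.extendScalars.{u, u, u} φ).mapHomologicalComplex (ComplexShape.up ℤ)).map u
  haveI : IsIso (DerivedCategory.Q.map v) := (DerivedCategory.isIso_Q_map_iff_quasiIso _ _).2 inferInstance
  exact ⟨asIso (DerivedCategory.Q.map v) ≪≫ DerivedCategory.Q.mapIso (@asIso _ _ _ _ τ hτ) ≪≫ r ≪≫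
    (HTor.RΓA f').mapIso (asIso (DerivedCategory.Q.map ((HTor.pullCx g).map η))).symm⟩

end Groth.Agent.S3530
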