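import Groth.Statements.S3531
import Groth.Agent.HTor49.BoxMain

set_option autoImplicit false
universe u
attribute [local instance] HasDerivedCategory.standard
open HTor

namespace Groth.Agent.S3531

open CategoryTheory CategoryTheory.Limits AlgebraicGeometry in
/-- (One factor, base Spec A, in derived form.) Let X be quasi-compact and separated over Spec A via f,
and P a complex of quasi-coherent O_X-modules vanishing in large degrees, with every term flat over
Spec A. If a complex L of projective A-modules vanishing in large degrees computes RΓ(X, P), then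
for every complex Q of A-modules vanishing in large degrees, L ⊗_A Q computes RΓ(X, P ⊗_A Q), where
P ⊗_A Q is the total complex of the P^i ⊗_{O_X} f^*(Q^j)~. (The published statement gives a
canonical isomorphism; here only the existence of an isomorphism in D(A) is asserted.) -/
theorem result (A : Type u) [CommRing A] (X : Scheme.{u})
    (f : X ⟶ Spec (CommRingCat.of A)) [QuasiCompact f] [IsSeparated f] [HTor.HasRΓA f]
    (P : CochainComplex X.Modules ℤ) (hq : ∀ i : ℤ, Coh.IsQCoh (P.X i))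
    (bP : ∃ b : ℤ, ∀ i : ℤ, b < i → IsZero (P.X i)) (hfl : ∀ i : ℤ, FlatMod.IsFlatOver f (P.X i))
    (L : DRing.Cx A) (hL : ∀ i : ℤ, Projective (L.X i)) (c : ∃ c : ℤ, DRing.VanishesAbove L c)
    (e : HTor.Computes f L (DCoh.toD X P)) (Q : DRing.Cx A) (bQ : ∃ b : ℤ, DRing.VanishesAbove Q b) :
    HTor.Computes f (HTor.tensorCx L Q) (DCoh.toD X (HTor.tensorACx f P Q)) := by
  let _ := HasDerivedCategory.standard (ModuleCat.{u} A)
  let S := Spec (CommRingCat.of A)
  haveI := Groth.Agent.HTor49.isSeparated_of_over f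
  have H : IsPullback (𝟙 X) f f (𝟙 S) := IsPullback.of_horiz_isIso ⟨by simp [S]⟩
  haveI : QuasiCompact (𝟙 X ≫ f) := by rw [Category.id_comp]; infer_instance
  haveI : IsSeparated (𝟙 X ≫ f) := by rw [Category.id_comp]; infer_instance
  haveI hΓ : HTor.HasRΓA (𝟙 X ≫ f) := by rw [Category.id_comp]; infer_instance
  haveI : S.IsSeparated := inferInstance
  obtain ⟨T, η, t, u, hη, hu, hT, ht, hf'⟩ :=
    Groth.Agent.HTor49.exists_factor_resolution f P hq bP L hL c e
  obtain ⟨a, ha⟩ := bP
  obtain ⟨b, hb⟩ := bQ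
  have hf : ∀ i, Groth.Agent.HTor49.FlatA f (P.X i) := fun i =>
    Groth.Agent.HTor49.flatA_of_isFlatOver f _ (hq i) (hfl i)
  let τ := tilde.functor (CommRingCat.of A)
  let T₂ : CochainComplex S.Modules ℤ := (τ.mapHomologicalComplex (ComplexShape.up ℤ)).obj Q
  let ν : 𝟭 (ModuleCat.{u} A) ≅ τ ⋙ HTor.globalSectionsA (𝟙 S) :=
    (tilde.toTildeΓNatIso (R := CommRingCat.of A) :) ≪≫ Functor.isoWhiskerLeft τ
      (show moduleSpecΓFunctor (R := CommRingCat.of A) ≅ HTor.globalSectionsA (𝟙 S) from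
        Functor.isoWhiskerRight (Scheme.Modules.pushforwardId S).symm (moduleSpecΓFunctor (R := CommRingCat.of A)))
  let u₂ : Q ⟶ ((HTor.globalSectionsA (𝟙 S)).mapHomologicalComplex (ComplexShape.up ℤ)).obj T₂ :=
    { f := fun n => ν.hom.app (Q.X n)
      comm' := fun i j _ => (ν.hom.naturality (Q.d i j)).symm }
  haveI : ∀ n, IsIso (u₂.f n) := fun n => inferInstanceAs (IsIso (ν.hom.app (Q.X n)))
  haveI : IsIso u₂ := HomologicalComplex.Hom.isIso_of_components _
  obtain ⟨r⟩ := Groth.Agent.HTor49.computes_boxCx_of_resolutions H η (𝟙 T₂) hq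
    (fun i => (inferInstance : (tilde (R := CommRingCat.of A) (Q.X i)).IsQuasicoherent)) hT
    (fun i => .loc ⊤ (isAffineOpen_top S)
      (inferInstance : (tilde (R := CommRingCat.of A) (Q.X i)).IsQuasicoherent) (Groth.Agent.HTor49.loc_top _))
    ha (fun i hi => τ.map_isZero (hb i hi)) ht (fun i hi => τ.map_isZero (hb i hi))
    hf (hf' hf) (Groth.Agent.HTor49.isKFlat_of_projective hL c) u u₂
  let i₁ : Groth.Agent.HTor49.boxCx (𝟙 X) f P T₂ ≅ HTor.tensorACx f P Q :=
    ((DCoh.tensorCx (X := X)).mapIso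
      ((NatIso.mapHomologicalComplex (Scheme.Modules.pullbackId X) (ComplexShape.up ℤ)).app P ≪≫
        (Functor.mapHomologicalComplexIdIso X.Modules (ComplexShape.up ℤ)).app P)).app
      ((HTor.pullCx f).obj T₂)
  have key : ∀ (g : X ⟶ Spec (CommRingCat.of A)) (hg : HTor.HasRΓA g), g = f →
      HTor.Computes g (HTor.tensorCx L Q) (DCoh.toD X (Groth.Agent.HTor49.boxCx (𝟙 X) f P T₂)) →
      HTor.Computes f (HTor.tensorCx L Q) (DCoh.toD X (Groth.Agent.HTor49.boxCx (𝟙 X) f P T₂)) := by
    intro g hg h hc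
    subst h
    exact hc
  obtain ⟨r'⟩ := key _ hΓ (Category.id_comp f) ⟨r⟩
  exact ⟨r' ≪≫ (HTor.RΓA f).mapIso (DerivedCategory.Q.mapIso i₁)⟩

end Groth.Agent.S3531
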