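import Groth.Statements.S3532
import Groth.Agent.ML41.Basic

set_option autoImplicit false
universe u
open HomAlg3

namespace Groth.Agent.S3532

open CategoryTheory in
/-- Category of abelian groups, system indexed by the natural numbers: Let (A_k)_{k ≥ 0} be an inverse
system of abelian groups. For p ≤ k write Im_k(A_p) for the image of A_k → A_p, and K_p for the
kernel of A_p → A_{p-1} (K_0 = A_0). Then (A_k) satisfies the Mittag-Leffler condition (for each p
the subgroups Im_k(A_p) are eventually constant in k) if and only if for each p the subgroups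
Im_k(A_p) ∩ K_p are eventually constant in k. -/
theorem result (F : ℕᵒᵖ ⥤ AddCommGrpCat.{u}) :
    (F ⋙ forget AddCommGrpCat).IsMittagLeffler ↔
      ((∃ k₀ : ℕ, ∀ (k : ℕ) (hk : k₀ ≤ k),
          (F.map (homOfLE (Nat.zero_le k)).op).hom.range = (F.map (homOfLE (Nat.zero_le k₀)).op).hom.range) ∧
        ∀ p : ℕ, ∃ k₀ : ℕ, ∃ h₀ : p + 1 ≤ k₀, ∀ (k : ℕ) (hk : k₀ ≤ k),
          (F.map (homOfLE (h₀.trans hk)).op).hom.range ⊓ (F.map (homOfLE (Nat.le_succ p)).op).hom.ker =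
            (F.map (homOfLE h₀).op).hom.range ⊓ (F.map (homOfLE (Nat.le_succ p)).op).hom.ker) := by
  rw [ML41.ml_iff]
  constructor
  · intro h
    refine ⟨?_, fun p => ?_⟩
    · obtain ⟨j, hj, hj'⟩ := h 0
      refine ⟨j, fun k hk => le_antisymm ?_ ?_⟩
      · rintro _ ⟨y, rfl⟩
        exact ⟨ML41.tr F hk y, ML41.tr_tr F _ hk y⟩
      · rintro _ ⟨x, rfl⟩
        obtain ⟨y, hy⟩ := hj' k hk x
        exact ⟨y, hy⟩
    · obtain ⟨j, hj, hj'⟩ := h (p + 1)
      refine ⟨j, hj, fun k hk => le_antisymm ?_ ?_⟩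
      · rintro _ ⟨⟨y, rfl⟩, hy⟩
        exact ⟨⟨ML41.tr F hk y, ML41.tr_tr F _ hk y⟩, hy⟩
      · rintro _ ⟨⟨x, rfl⟩, hx⟩
        obtain ⟨y, hy⟩ := hj' k hk x
        exact ⟨⟨y, hy⟩, hx⟩
  · rintro ⟨⟨k₀, h0⟩, hp⟩ i
    induction i with
    | zero =>
      refine ⟨k₀, Nat.zero_le _, fun k hk x => ?_⟩
      have : ML41.tr F (Nat.zero_le k₀) x ∈ (F.map (homOfLE (Nat.zero_le k)).op).hom.range := by
        rw [h0 k hk]; exact ⟨x, rfl⟩
      exact this
    | succ p ih =>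
      obtain ⟨j₁, hj₁, hj₁'⟩ := ih
      obtain ⟨k₀, hk₀, hk₀'⟩ := hp p
      refine ⟨max j₁ k₀, hk₀.trans (le_max_right _ _), fun l hl x => ?_⟩
      have hl1 : j₁ ≤ l := (le_max_left _ _).trans hl
      have hl2 : k₀ ≤ l := (le_max_right _ _).trans hl
      obtain ⟨y, hy⟩ := hj₁' l hl1 (ML41.tr F (le_max_left j₁ k₀) x)
      rw [ML41.tr_tr] at hy
      have hmem : ML41.tr F (hk₀.trans (le_max_right j₁ k₀)) x - ML41.tr F (hk₀.trans hl2) y ∈
          (F.map (homOfLE hk₀).op).hom.range ⊓ (F.map (homOfLE (Nat.le_succ p)).op).hom.ker := by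
        refine ⟨⟨ML41.tr F (le_max_right j₁ k₀) x - ML41.tr F hl2 y, ?_⟩, ?_⟩
        · show ML41.tr F hk₀ _ = _
          rw [map_sub, ML41.tr_tr, ML41.tr_tr]
        · show ML41.tr F (Nat.le_succ p) _ = 0
          rw [map_sub, ML41.tr_tr, ML41.tr_tr, sub_eq_zero]
          exact hy.symm
      rw [← hk₀' l hl2] at hmem
      obtain ⟨⟨z, hz⟩, -⟩ := hmem
      change ML41.tr F (hk₀.trans hl2) z = _ at hz
      refine ⟨z + y, ?_⟩
      rw [map_add, hz]
      abel

end Groth.Agent.S3532
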