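import Groth.Statements.S3541
import Groth.Agent.HTor49.Res
import Groth.Agent.DR39.Gldim

set_option autoImplicit false
universe u
attribute [local instance] HasDerivedCategory.standard
open HTor

namespace Groth.Agent.S3541

open CategoryTheory CategoryTheory.Limits AlgebraicGeometry in
/-- Let A be a ring all of whose modules have projective dimension ≤ d, X a scheme with a quasi-compact
separated morphism f : X → Spec A, covered by N + 1 affine opens, and P a complex of quasi-coherent
O_X-modules with P^k = 0 unless a ≤ k ≤ b. Then RΓ(X, P) ∈ D(A) is represented by a complex L of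
projective A-modules with L^k = 0 unless a - d ≤ k ≤ b + N. (The published statement gives a
canonical isomorphism, in a more general relative setting with several factors; here only one factor
over the base Spec A is treated and only the existence of an isomorphism in D(A) is asserted.) -/
theorem result (A : Type u) [CommRing A] (d : ℕ)
    (hA : ∀ M : ModuleCat.{u} A, HasProjectiveDimensionLT M (d + 1)) (X : Scheme.{u})
    (f : X ⟶ Spec (CommRingCat.of A)) [QuasiCompact f] [IsSeparated f] [HTor.HasRΓA f]
    (N : ℕ) (U : Fin (N + 1) → X.Opens) (hU : ∀ i, IsAffineOpen (U i)) (hcov : ⨆ i, U i = ⊤)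
    (P : CochainComplex X.Modules ℤ) (hq : ∀ i : ℤ, Coh.IsQCoh (P.X i)) (a b : ℤ)
    (hab : ∀ i : ℤ, i < a ∨ b < i → IsZero (P.X i)) :
    ∃ L : DRing.Cx A, (∀ i : ℤ, Module.Projective A (L.X i)) ∧ DRing.VanishesOutside L (a - d) (b + N) ∧
      HTor.Computes f L (DCoh.toD X P) := by
  let _ := HasDerivedCategory.standard (ModuleCat.{u} A)
  obtain ⟨T, η, -, -, hTa, hTb, -, ⟨e⟩⟩ :=
    Groth.Agent.HTor49.exists_computes_sections f hq N U hU hcov (fun i hi => hab i (Or.inr hi)) a
  let K : Dual.D A :=
    DRing.toD (((HTor.globalSectionsA f).mapHomologicalComplex (ComplexShape.up ℤ)).obj T)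
  have hz : ∀ i, i < a ∨ b + N < i → IsZero ((Groth.Agent.DR39.HF A i).obj K) := fun i hi =>
    (Groth.Agent.DR39.isZero_HF_Q_iff _ i).2 ((HomologicalComplex.exactAt_iff_isZero_homology _ i).1
      (HomologicalComplex.ExactAt.of_isZero ((HTor.globalSectionsA f).map_isZero
        (hi.elim (hTa (fun i hi => hab i (Or.inl hi)) i) (hTb i)))))
  have hK : Groth.Agent.DR39.Acyc (b + N + 1) K := fun i hi => hz i (Or.inr (by omega))
  have hv : Groth.Agent.DR39.ExtVanish K (a - d - 1) := by
    refine Groth.Agent.DR39.induction_homology (P := fun X => Groth.Agent.DR39.ExtVanish X (a - d - 1))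
      (fun e h => h.of_iso e) (fun T hT h1 h3 => Groth.Agent.DR39.extVanish_obj₂ hT h1 h3) a K
      (fun Y hY hlow N g => ?_) (fun i hi => ?_) _ hK
    · have : IsZero Y := Groth.Agent.DR39.isZero_of_forall fun i => by
        by_cases hi : a ≤ i
        · exact hY i hi
        · obtain ⟨e⟩ := hlow i (by omega)
          exact (hz i (Or.inl (by omega))).of_iso e
      exact this.eq_of_src _ _
    · intro N g
      let M := (Groth.Agent.DR39.HF A i).obj K
      let e := Groth.Agent.DR39.singleShiftIso M i (-i) (by omega)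
      have h0 : Groth.Agent.DR39.ExtVanish (Dual.inD A M) (a - d - 1 - i) :=
        Groth.Agent.DR39.extVanish_inD d M (hA M) _ (by omega)
      let e2 : (Groth.Agent.DR39.sngl (a - d - 1 - i) N)⟦-i⟧ ≅ Groth.Agent.DR39.sngl (a - d - 1) N :=
        ((DerivedCategory.singleFunctors (ModuleCat.{u} A)).shiftIso (-i) (a - d - 1) (a - d - 1 - i)
          (by omega)).app N
      obtain ⟨g', hg'⟩ := (shiftFunctor (Dual.D A) (-i)).map_surjective (e.hom ≫ g ≫ e2.inv)
      rw [h0 N g', Functor.map_zero] at hg'
      have h1 : e.hom ≫ g = 0 := (cancel_mono e2.inv).1 (by rw [Category.assoc, zero_comp]; exact hg'.symm)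
      exact (cancel_epi e.hom).1 (h1.trans comp_zero.symm)
  obtain ⟨L, hL, hp, ⟨e'⟩⟩ := Groth.Agent.DR39.rep_PR_of_extVanish (a := a - d) (b := b + N) hK
    (fun i hi => hz i (Or.inl (by omega))) hv
  exact ⟨L, hp, (Groth.Agent.DR39.vanishesOutside_iff L _ _).2 hL, ⟨e' ≪≫ e⟩⟩

end Groth.Agent.S3541
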