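import Groth.Statements.S3543
import Groth.Agent.DPF49.KunnethMain
import Groth.Agent.HTor49.AffSec
import Groth.Agent.S1118
import Groth.Agent.S0998

set_option autoImplicit false
universe u
attribute [local instance] HasDerivedCategory.standard
open HTor

namespace Groth.Agent.S3543

open CategoryTheory CategoryTheory.Limits AlgebraicGeometry in
/-- Künneth formula over an arbitrary base scheme S, in derived form: let f₁ : X₁ ⟶ S and f₂ : X₂ ⟶ S be
quasi-compact and separated, P₁ and P₂ complexes of quasi-coherent modules on X₁ and X₂ vanishing in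
large degrees, with every term of P₁ flat over S, and f : X₁ ×_S X₂ ⟶ S the structure morphism. Let
E₂ be any complex of O_S-modules representing Rf₂_* P₂. Then, the derived functors involved being
taken under their existence binders, Rf_*(pr₁^* P₁ ⊗ pr₂^* P₂) and Rf₁_* P₁ ⊗^L E₂ are isomorphic in
D(O_S): the global hypertor of P₁ and P₂ over S is the hypercohomology of their external tensor
product. (The published statement gives a canonical isomorphism of bi-∂-functors; only the existence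
of an isomorphism is asserted here. It is also more general, with X₁ and X₂ over intermediate bases
Y⁽¹⁾ and Y⁽²⁾ over S; this is its case Y⁽¹⁾ = Y⁽²⁾ = S.) -/
theorem result {X₁ X₂ S : Scheme.{u}} (f₁ : X₁ ⟶ S) (f₂ : X₂ ⟶ S)
    [QuasiCompact f₁] [IsSeparated f₁] [QuasiCompact f₂] [IsSeparated f₂]
    [DCoh.HasRpush f₁] [DCoh.HasRpush f₂] [DCoh.HasRpush (pullback.fst f₁ f₂ ≫ f₁)]
    (P₁ : CochainComplex X₁.Modules ℤ) (P₂ : CochainComplex X₂.Modules ℤ)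
    (hq₁ : ∀ i : ℤ, Coh.IsQCoh (P₁.X i)) (hq₂ : ∀ i : ℤ, Coh.IsQCoh (P₂.X i))
    (b₁ : ∃ b : ℤ, ∀ i : ℤ, b < i → IsZero (P₁.X i)) (b₂ : ∃ b : ℤ, ∀ i : ℤ, b < i → IsZero (P₂.X i))
    (hfl : ∀ i : ℤ, FlatMod.IsFlatOver f₁ (P₁.X i))
    (E₂ : CochainComplex S.Modules ℤ) (hE₂ : Nonempty (DCoh.toD S E₂ ≅ (DCoh.Rpush f₂).obj (DCoh.toD X₂ P₂)))
    [DCoh.HasLTensorCx E₂] :
    Nonempty ((DCoh.Rpush (pullback.fst f₁ f₂ ≫ f₁)).obj (DCoh.toD _ (HTor.extTensorCx f₁ f₂ P₁ P₂)) ≅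
      (DCoh.LTensorCx E₂).obj ((DCoh.Rpush f₁).obj (DCoh.toD X₁ P₁))) := by
    obtain ⟨c₁, hc₁⟩ := b₁
    obtain ⟨c₂, hc₂⟩ := b₂
    haveI := DCX42.hasRpush (pullback.fst f₁ f₂)
    haveI := DCK91.hasLpull f₁
    obtain ⟨M, _, hM, ⟨k⟩⟩ := DPF49.nonempty_kunneth (IsPullback.of_hasPullback f₁ f₂) P₁ hq₁ hc₁ hfl P₂ hq₂ hc₂
      E₂ hE₂
    obtain ⟨eE⟩ := hE₂
    have h₁ : DCoh.IsQCohD (DCoh.toD X₁ P₁) := HTor49.isQCohD_toD P₁ hq₁
    have hE : DCoh.IsQCohD (DCoh.toD S E₂) :=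
      DCX42.isQCohD_of_iso eE.symm (S0998.result f₂ _ (HTor49.isQCohD_toD P₂ hq₂))
    obtain ⟨π⟩ := S1118.result f₁ (DCoh.toD X₁ P₁) h₁ E₂ hE M hM
    obtain ⟨c⟩ := DCX42.Rpush_comp (pullback.fst f₁ f₂) f₁
    exact ⟨(c.app _).symm ≪≫ (DCoh.Rpush f₁).mapIso k.symm ≪≫ π.symm⟩

end Groth.Agent.S3543
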