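import Groth.Statements.S3544
import Groth.Agent.HomAlg41.Euler

set_option autoImplicit false
universe u
open HomAlg3

namespace Groth.Agent.S3544

open CategoryTheory CategoryTheory.Limits in
/-- Let E be a cohomological spectral sequence of modules over a ring A, starting at page 2, such that
the E₂ terms have finite length and only finitely many of them (all inside the finite set s of
bidegrees) are nonzero. Then for every r ≥ 2 the Euler–Poincaré characteristic of page r, the
alternating sum over s of (-1)^{p+q} times the length of E_r^{pq}, equals that of page 2. -/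
theorem result {A : Type u} [Ring A]
    (E : E₂CohomologicalSpectralSequence (ModuleCat.{u} A)) (s : Finset (ℤ × ℤ))
    (hs : ∀ pq : ℤ × ℤ, pq ∉ s → IsZero ((E.page 2).X pq))
    (hfl : ∀ pq : ℤ × ℤ, IsFiniteLength A ((E.page 2).X pq)) (r : ℤ) (hr : 2 ≤ r) :
    (s.sum fun pq => (((pq.1 + pq.2).negOnePow : ℤˣ) : ℤ) * ((Module.length A ((E.page r hr).X pq)).toNat : ℤ)) =
      s.sum fun pq => (((pq.1 + pq.2).negOnePow : ℤˣ) : ℤ) * ((Module.length A ((E.page 2).X pq)).toNat : ℤ) := by
  have key : ∀ (r : ℤ) (hr : 2 ≤ r),
      (∀ pq, pq ∉ s → IsZero ((E.page r hr).X pq)) ∧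
      (∀ pq, IsFiniteLength A ((E.page r hr).X pq)) ∧
      (s.sum fun pq => (((pq.1 + pq.2).negOnePow : ℤˣ) : ℤ) *
          ((Module.length A ((E.page r hr).X pq)).toNat : ℤ)) =
        s.sum fun pq => (((pq.1 + pq.2).negOnePow : ℤˣ) : ℤ) *
          ((Module.length A ((E.page 2).X pq)).toNat : ℤ) := by
    intro r hr
    induction r, hr using Int.le_induction with
    | base => exact ⟨hs, hfl, rfl⟩
    | succ n hn ih =>
      obtain ⟨h0, hf, heq⟩ := ih
      have e : ∀ pq, Module.length A ((E.page n hn).homology pq) =
          Module.length A ((E.page (n + 1) (by omega)).X pq) :=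
        fun pq => (E.iso n (n + 1) pq rfl hn).toLinearEquiv.length_eq
      refine ⟨fun pq hpq => IsZero.of_iso ?_ (E.iso n (n + 1) pq rfl hn).symm, fun pq => ?_, ?_⟩
      · exact (HomologicalComplex.exactAt_iff_isZero_homology _ _).1
          (ShortComplex.exact_of_isZero_X₂ _ (h0 pq hpq))
      · exact Module.length_ne_top_iff.1 ((e pq) ▸ Module.length_ne_top_iff.2
          (HomAlg41.finite_lengths (E.page n hn) pq (hf pq)).1)
      · rw [← heq, HomAlg41.euler_char (E.page n hn) s h0 hf
          (fun pq => (((pq.1 + pq.2).negOnePow : ℤˣ) : ℤ)) (fun pq => ?_)]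
        · exact Finset.sum_congr rfl fun pq _ => by rw [e pq]
        · have : (pq + (n, 1 - n)).1 + (pq + (n, 1 - n)).2 = pq.1 + pq.2 + 1 := by
            simp only [Prod.fst_add, Prod.snd_add]; ring
          simp only [this, Int.negOnePow_succ, Units.val_neg]
  exact (key r hr).2.2

end Groth.Agent.S3544
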