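import Groth.Statements.S3547
import Groth.Agent.EGA73.TildeSections

set_option autoImplicit false
universe u
open CategoryTheory CategoryTheory.Limits AlgebraicGeometry
open EGA2

namespace Groth.Agent.S3547

/-- Let S be a graded ring, M a graded S-module, X = Proj S and p a point of X. The stalk of M(n)~ at p
is the module of fractions m/f in M_p with m, f homogeneous, f not in p and deg m = deg f + n:
precisely, evaluation at p is a bijection from the stalk at p of the sheaf of local sections of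
M(n)~ onto that module of fractions. -/
theorem result {R A : Type u} [CommRing R] [CommRing A] [Algebra R A] (𝒜 : ℕ → Submodule R A) [GradedAlgebra 𝒜]
    {M : Type u} [AddCommGroup M] [Module R M] [Module A M] [IsScalarTower R A M] (ℳ : ℕ → Submodule R M) [DirectSum.Decomposition ℳ] [SetLike.GradedSMul 𝒜 ℳ] (n : ℤ)
    (p : ProjectiveSpectrum 𝒜) :
    Function.Bijective (TopCat.stalkToFiber (GrTilde.isLocFrac 𝒜 ℳ n) p) := by
  refine ⟨TopCat.stalkToFiber_injective _ _ ?_, TopCat.stalkToFiber_surjective _ _ ?_⟩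
  · intro U V fU hU fV hV hUV
    obtain ⟨e, j, g, m, he, hg, hm, hj, hle, hpg, hs⟩ :=
      EGA73.exists_local_frac (⟨fU, hU⟩ : GrTilde.sect 𝒜 ℳ n (Opposite.op U.1)) ⟨p, U.2⟩
    obtain ⟨e', j', g', m', he', hg', hm', hj', hle', hpg', hs'⟩ :=
      EGA73.exists_local_frac (⟨fV, hV⟩ : GrTilde.sect 𝒜 ℳ n (Opposite.op V.1)) ⟨p, V.2⟩
    obtain ⟨a, ha, hazero⟩ := EGA73.frac_eq_iff.mp
      ((hs ⟨p, hpg⟩).symm.trans ((congrArg Subtype.val hUV).trans (hs' ⟨p, hpg'⟩)))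
    have hdeg : g' • m - g • m' ∈ ℳ (e' + j) := by
      refine sub_mem (EGA73.gsmul_mem 𝒜 ℳ hg' hm) ?_
      have : e' + j = e + j' := by omega
      rw [this]
      exact EGA73.gsmul_mem 𝒜 ℳ hg hm'
    obtain ⟨i, c, -, hcx, hc0⟩ := EGA73.exists_homogeneous_killer 𝒜 ℳ hdeg p ha hazero
    refine ⟨⟨ProjectiveSpectrum.basicOpen 𝒜 g ⊓ ProjectiveSpectrum.basicOpen 𝒜 g' ⊓
      ProjectiveSpectrum.basicOpen 𝒜 c, ⟨⟨hpg, hpg'⟩, hcx⟩⟩,
      homOfLE (show ProjectiveSpectrum.basicOpen 𝒜 g ⊓ ProjectiveSpectrum.basicOpen 𝒜 g' ⊓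
        ProjectiveSpectrum.basicOpen 𝒜 c ≤ U.1 from fun y hy => hle hy.1.1),
      homOfLE (show ProjectiveSpectrum.basicOpen 𝒜 g ⊓ ProjectiveSpectrum.basicOpen 𝒜 g' ⊓
        ProjectiveSpectrum.basicOpen 𝒜 c ≤ V.1 from fun y hy => hle' hy.1.2), fun w => Subtype.ext ?_⟩
    exact (hs ⟨w.1, w.2.1.1⟩).trans
      ((EGA73.frac_eq_iff.mpr ⟨c, w.2.2, hc0⟩).trans (hs' ⟨w.1, w.2.1.2⟩).symm)
  · rintro ⟨q, hq⟩
    suffices H : ∃ (i j : ℕ) (m : ℳ i) (g : 𝒜 j) (hg : g.1 ∉ p.asHomogeneousIdeal),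
        ((i : ℤ) = j + n ∨ m.1 = 0) ∧ q = EGA73.frac p m.1 g.1 hg by
      obtain ⟨i, j, m, g, hg, hij, rfl⟩ := H
      rcases hij with hij | hm0
      · let σ := EGA73.fracSect (U := ProjectiveSpectrum.basicOpen 𝒜 g.1) m.2 g.2 (fun y => y.2) hij
        exact ⟨⟨ProjectiveSpectrum.basicOpen 𝒜 g.1, hg⟩, σ.1, σ.2, Subtype.ext rfl⟩
      · refine ⟨⟨⊤, trivial⟩, 0, GrTilde.zero_mem' n (Opposite.op ⊤), Subtype.ext ?_⟩
        exact (EGA73.frac_eq_zero_iff.mpr
          ⟨1, (Ideal.ne_top_iff_one _).mp p.isPrime.ne_top, by rw [one_smul, hm0]⟩).symm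
    have one_notMem : (1 : A) ∉ p.asHomogeneousIdeal := (Ideal.ne_top_iff_one _).mp p.isPrime.ne_top
    induction hq using Submodule.span_induction with
    | mem q hq =>
      obtain ⟨i, j, m, g, hg, hij, rfl⟩ := hq
      exact ⟨i, j, m, g, hg, Or.inl hij, rfl⟩
    | zero =>
      exact ⟨0, 0, 0, ⟨1, SetLike.GradedOne.one_mem⟩, one_notMem, Or.inr rfl,
        (LocalizedModule.zero_mk _).symm⟩
    | smul c q _ hq =>
      obtain ⟨i, j, m, g, hg, hij, rfl⟩ := hq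
      obtain ⟨⟨d, a, b, hb⟩, rfl⟩ := HomogeneousLocalization.mk_surjective c
      refine ⟨d + i, d + j, ⟨a.1 • m.1, EGA73.gsmul_mem 𝒜 ℳ a.2 m.2⟩,
        ⟨b.1 * g.1, SetLike.mul_mem_graded b.2 g.2⟩, EGA73.mul_notMem hb hg, ?_, ?_⟩
      · rcases hij with hij | hm0
        · exact Or.inl (by push_cast; omega)
        · exact Or.inr (by simp [hm0])
      · rw [GrTilde.a0_smul_def, HomogeneousLocalization.val_mk]
        exact LocalizedModule.mk_smul_mk _ _ _ _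
    | add q q' _ _ hq hq' =>
      obtain ⟨i, j, m, g, hg, hij, rfl⟩ := hq
      obtain ⟨i', j', m', g', hg', hij', rfl⟩ := hq'
      rcases hij with hij | hm0
      · rcases hij' with hij' | hm0'
        · refine ⟨j' + i, j + j', ⟨g'.1 • m.1 + g.1 • m'.1, add_mem (EGA73.gsmul_mem 𝒜 ℳ g'.2 m.2) ?_⟩,
            ⟨g.1 * g'.1, SetLike.mul_mem_graded g.2 g'.2⟩, EGA73.mul_notMem hg hg',
            Or.inl (by push_cast; omega), LocalizedModule.mk_add_mk⟩
          have e : j' + i = j + i' := by omega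
          rw [e]
          exact EGA73.gsmul_mem 𝒜 ℳ g.2 m'.2
        · refine ⟨i, j, m, g, hg, Or.inl hij, ?_⟩
          rw [(EGA73.frac_eq_zero_iff (m := m'.1) (hx := hg')).mpr ⟨1, one_notMem, by rw [one_smul, hm0']⟩,
            add_zero]
      · refine ⟨i', j', m', g', hg', hij', ?_⟩
        rw [(EGA73.frac_eq_zero_iff (m := m.1) (hx := hg)).mpr ⟨1, one_notMem, by rw [one_smul, hm0]⟩,
          zero_add]

end Groth.Agent.S3547
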