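import Groth.Statements.S3548
import Groth.Agent.EGA73.TildeSections

set_option autoImplicit false
universe u
open CategoryTheory CategoryTheory.Limits AlgebraicGeometry
open EGA2

namespace Groth.Agent.S3548

/-- Let S be a graded ring, M a graded S-module and X = Proj S. If for every z in M and every
homogeneous f of positive degree some power of f annihilates z, then the O_X-module M~ is zero. -/
theorem result {R A : Type u} [CommRing R] [CommRing A] [Algebra R A] (𝒜 : ℕ → Submodule R A) [GradedAlgebra 𝒜]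
    {M : Type u} [AddCommGroup M] [Module R M] [Module A M] [IsScalarTower R A M] (ℳ : ℕ → Submodule R M) [DirectSum.Decomposition ℳ] [SetLike.GradedSMul 𝒜 ℳ]
    (h : ∀ (z : M) (d : ℕ) (f : A), 0 < d → f ∈ 𝒜 d → ∃ k : ℕ, f ^ k • z = 0) :
    IsZero (GrTilde.tilde 𝒜 ℳ 0) := by
  refine (IsZero.iff_id_eq_zero _).mpr ?_
  apply Scheme.Modules.hom_ext
  intro U
  ext s
  refine EGA73.sect_ext (s := (s : GrTilde.sect 𝒜 ℳ 0 (Opposite.op U))) (t := 0) fun x => ?_
  obtain ⟨e, j, g, m, he, hg, hm, hj, hle, hxg, hs⟩ :=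
    EGA73.exists_local_frac (s : GrTilde.sect 𝒜 ℳ 0 (Opposite.op U)) x
  refine (hs ⟨x.1, hxg⟩).trans ?_
  obtain ⟨k, hk⟩ := h m e g he hg
  exact EGA73.frac_eq_zero_iff.mpr ⟨g ^ k, EGA73.pow_notMem hxg k, hk⟩

end Groth.Agent.S3548
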