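import Groth.Statements.S3549
import Groth.Agent.EGA73.TildeSections

set_option autoImplicit false
universe u
open CategoryTheory CategoryTheory.Limits AlgebraicGeometry
open EGA2

namespace Groth.Agent.S3549

/-- Let S be a graded ring whose irrelevant ideal S_+ is generated by the degree-one elements, M a
graded S-module and X = Proj S. If the O_X-module M~ is zero, then for every z in M and every
homogeneous f of positive degree some power of f annihilates z. -/
theorem result {R A : Type u} [CommRing R] [CommRing A] [Algebra R A] (𝒜 : ℕ → Submodule R A) [GradedAlgebra 𝒜]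
    (hgen : (HomogeneousIdeal.irrelevant 𝒜).toIdeal = Ideal.span (𝒜 1 : Set A))
    {M : Type u} [AddCommGroup M] [Module R M] [Module A M] [IsScalarTower R A M] (ℳ : ℕ → Submodule R M) [DirectSum.Decomposition ℳ] [SetLike.GradedSMul 𝒜 ℳ]
    (h : IsZero (GrTilde.tilde 𝒜 ℳ 0)) (z : M) (d : ℕ) (f : A) (hd : 0 < d) (hf : f ∈ 𝒜 d) :
    ∃ k : ℕ, f ^ k • z = 0 := by
  classical
  have key : ∀ {i : ℕ} {y : M}, y ∈ ℳ i → ∃ k : ℕ, f ^ k • y = 0 := by
    intro i y hy
    refine EGA73.exists_pow_smul_eq_zero 𝒜 ℳ hd hf hy fun x hx => ?_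
    obtain ⟨g, hg, hxg⟩ : ∃ g ∈ 𝒜 1, g ∉ x.asHomogeneousIdeal := by
      by_contra H
      push Not at H
      exact x.not_irrelevant_le (hgen.trans_le (Ideal.span_le.mpr H))
    let σ := EGA73.fracSect (n := 0) (U := ProjectiveSpectrum.basicOpen 𝒜 g) hy
      (SetLike.pow_mem_graded i hg) (fun z => EGA73.pow_notMem z.2 i) (by simp)
    have hid := (IsZero.iff_id_eq_zero _).mp h
    have hσ : σ = 0 :=
      congrArg (fun φ : GrTilde.tilde 𝒜 ℳ 0 ⟶ GrTilde.tilde 𝒜 ℳ 0 =>
        (φ.app (ProjectiveSpectrum.basicOpen 𝒜 g)).hom σ) hid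
    have hval : EGA73.frac x y (g ^ i) (EGA73.pow_notMem hxg i) = 0 :=
      congrArg (fun t => (t.1 ⟨x, hxg⟩).1) hσ
    exact EGA73.frac_eq_zero_iff.mp hval
  choose k hk using fun i : ℕ => key (SetLike.coe_mem (DirectSum.decompose ℳ z i))
  refine ⟨((DirectSum.decompose ℳ z).support).sup k, ?_⟩
  refine (congrArg (f ^ _ • ·) (DirectSum.sum_support_decompose ℳ z)).symm.trans ?_
  show f ^ _ • (∑ i ∈ _, _) = 0
  rw [Finset.smul_sum]
  refine Finset.sum_eq_zero fun i hi => ?_
  rw [← Nat.sub_add_cancel (Finset.le_sup (f := k) hi), pow_add, mul_smul, hk, smul_zero]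

end Groth.Agent.S3549
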