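import Groth.Statements.S3555
import Groth.Agent.EGA73.TwistInvertible

set_option autoImplicit false
universe u
open CategoryTheory CategoryTheory.Limits AlgebraicGeometry
open EGA2

namespace Groth.Agent.S3555

/-- Let S be a graded ring whose irrelevant ideal S_+ is generated by the degree-one elements, X = Proj
S, and f homogeneous of degree d > 0. Then D_+(f) is the set of points p of X at which the global
section f/1 of O_X(d) does not vanish, i.e. at which its value generates the module of degree-d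
fractions at p. -/
theorem result {R A : Type u} [CommRing R] [CommRing A] [Algebra R A] (𝒜 : ℕ → Submodule R A) [GradedAlgebra 𝒜]
    (hgen : (HomogeneousIdeal.irrelevant 𝒜).toIdeal = Ideal.span (𝒜 1 : Set A))
    {d : ℕ} (hd : 0 < d) (f : 𝒜 d) (p : ProjectiveSpectrum 𝒜) :
    p ∈ ProjectiveSpectrum.basicOpen 𝒜 (f : A) ↔
      Submodule.span (Twist.A0 𝒜 p) {(Twist.globalOf 𝒜 f).1 ⟨p, trivial⟩} = ⊤ := by
  classical
  obtain ⟨g, hg, hpg⟩ : ∃ g ∈ 𝒜 1, g ∉ p.asHomogeneousIdeal := by
    by_contra H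
    push Not at H
    exact p.not_irrelevant_le (hgen.trans_le (Ideal.span_le.mpr H))
  set v : Twist.twistAt 𝒜 (d : ℤ) p := (Twist.globalOf 𝒜 f).1 ⟨p, trivial⟩ with hv
  have hgd : g ^ d ∈ 𝒜 d := by simpa using SetLike.pow_mem_graded d hg
  let c : Twist.A0 𝒜 p := EGA73.a0Frac p f.2 hgd (EGA73.pow_notMem hpg d)
  have hone : (1 : A) ∉ p.asHomogeneousIdeal := (Ideal.ne_top_iff_one _).mp p.isPrime.ne_top
  let w : Twist.twistAt 𝒜 (d : ℤ) p :=
    ⟨Localization.mk (g ^ d) ⟨1, hone⟩, Submodule.subset_span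
      ⟨d, 0, ⟨g ^ d, hgd⟩, ⟨1, SetLike.GradedOne.one_mem⟩, hone, by simp, rfl⟩⟩
  constructor
  · intro hp
    rw [eq_top_iff]
    rintro ⟨q, hq⟩ -
    refine Submodule.mem_span_singleton.mpr ?_
    have hfrac : ∀ (i j : ℕ) (a : 𝒜 i) (s : 𝒜 j) (hs : s.1 ∉ p.asHomogeneousIdeal), i = j + d →
        ∃ e : Twist.A0 𝒜 p, ((e • v : Twist.twistAt 𝒜 (d : ℤ) p) : Twist.Loc 𝒜 p) = Localization.mk a.1 ⟨s.1, hs⟩ := by
      intro i j a s hs hij
      refine ⟨EGA73.a0Frac p (e := i) a.2 (h := s.1 * f.1) (hij ▸ SetLike.mul_mem_graded s.2 f.2)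
        (EGA73.mul_notMem hs hp), ?_⟩
      rw [Twist.coe_smul_val, EGA73.a0Frac, HomogeneousLocalization.val_mk]
      refine (Localization.mk_mul _ _ _ _).trans (Localization.mk_eq_mk_iff.mpr (Localization.r_iff_exists.mpr ⟨1, ?_⟩))
      simp only [OneMemClass.coe_one, one_mul, Submonoid.coe_mul]
      ring
    suffices H : ∃ e : Twist.A0 𝒜 p, ((e • v : Twist.twistAt 𝒜 (d : ℤ) p) : Twist.Loc 𝒜 p) = q by
      obtain ⟨e, he⟩ := H
      exact ⟨e, Subtype.ext he⟩
    induction hq using Submodule.span_induction with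
    | mem q hq =>
      obtain ⟨i, j, a, s, hs, hij, rfl⟩ := hq
      exact hfrac i j a s hs (by omega)
    | zero =>
      exact ⟨0, (Twist.coe_smul_val _ p 0 v).trans (by rw [HomogeneousLocalization.val_zero, zero_mul])⟩
    | add q q' _ _ h h' =>
      obtain ⟨e, he⟩ := h
      obtain ⟨e', he'⟩ := h'
      exact ⟨e + e', (Twist.coe_smul_val _ p (e + e') v).trans (by
        rw [HomogeneousLocalization.val_add, add_mul, ← Twist.coe_smul_val, ← Twist.coe_smul_val, he, he'])⟩
    | smul k q _ h =>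
      obtain ⟨e, he⟩ := h
      refine ⟨k * e, (Twist.coe_smul_val _ p (k * e) v).trans ?_⟩
      rw [HomogeneousLocalization.val_mul, mul_assoc, ← Twist.coe_smul_val, he, Algebra.smul_def,
        HomogeneousLocalization.algebraMap_apply]
  · intro htop
    obtain ⟨e, he⟩ := Submodule.mem_span_singleton.mp (htop ▸ (Submodule.mem_top : w ∈ ⊤))
    have hval : e.val * Localization.mk f.1 ⟨1, hone⟩ = Localization.mk (g ^ d) ⟨1, hone⟩ :=
      (Twist.coe_smul_val _ p e v).symm.trans (congrArg Subtype.val he)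
    obtain ⟨⟨j, a, s, hs⟩, rfl⟩ := HomogeneousLocalization.mk_surjective e
    rw [HomogeneousLocalization.val_mk, Localization.mk_mul, Localization.mk_eq_mk_iff,
      Localization.r_iff_exists] at hval
    obtain ⟨u, hu⟩ := hval
    intro hfp
    have : (u : A) * ((s : A) * g ^ d) ∈ p.asHomogeneousIdeal := by
      have h1 : (u : A) * ((s : A) * g ^ d) = (u : A) * ((a : A) * f.1) := by
        simpa [mul_comm, mul_left_comm] using hu.symm
      rw [h1]
      exact Ideal.mul_mem_left _ _ (Ideal.mul_mem_left _ _ hfp)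
    exact EGA73.mul_notMem u.2 (EGA73.mul_notMem hs (EGA73.pow_notMem hpg d)) this

end Groth.Agent.S3555
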