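import Groth.Statements.S3557
import Groth.Agent.EGA73.ProjTop
import Groth.Agent.EGA73.ProjReduced

set_option autoImplicit false
universe u
open CategoryTheory CategoryTheory.Limits AlgebraicGeometry
open EGA2

namespace Groth.Agent.S3557

/-- Let S be a graded ring which is essentially reduced (S_+ contains no nonzero nilpotent). Then Proj S
is an integral scheme if and only if S is essentially integral, i.e. S_+ is nonzero and the product
of two nonzero elements of S_+ is nonzero. -/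
theorem result {R A : Type u} [CommRing R] [CommRing A] [Algebra R A] (𝒜 : ℕ → Submodule R A) [GradedAlgebra 𝒜]
    (hred : ∀ f ∈ (HomogeneousIdeal.irrelevant 𝒜).toIdeal, IsNilpotent f → f = 0) :
    AlgebraicGeometry.IsIntegral (Proj 𝒜) ↔
      ((∃ f ∈ (HomogeneousIdeal.irrelevant 𝒜).toIdeal, f ≠ 0) ∧
        ∀ f ∈ (HomogeneousIdeal.irrelevant 𝒜).toIdeal, ∀ g ∈ (HomogeneousIdeal.irrelevant 𝒜).toIdeal,
          f * g = 0 → f = 0 ∨ g = 0) := by
  have := EGA73.isReduced_proj hred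
  have hzero : ∀ f, f ∈ (HomogeneousIdeal.irrelevant 𝒜).toIdeal →
      f ∈ (ProjectiveSpectrum.vanishingIdeal (Set.univ : Set (ProjectiveSpectrum 𝒜))).toIdeal → f = 0 :=
    fun f hf h => hred f hf (EGA73.isNilpotent_of_forall_mem hf fun x =>
      (ProjectiveSpectrum.mem_vanishingIdeal _ f).mp h x (Set.mem_univ x))
  have hzero' : (0 : A) ∈ (ProjectiveSpectrum.vanishingIdeal (Set.univ : Set (ProjectiveSpectrum 𝒜))).toIdeal :=
    zero_mem _
  rw [isIntegral_iff_irreducibleSpace_and_isReduced, irreducibleSpace_def]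
  constructor
  · rintro ⟨hirr, -⟩
    obtain ⟨hne, hmul⟩ := (EGA73.isIrreducible_iff (𝒜 := 𝒜) (Z := Set.univ)).mp hirr
    obtain ⟨f, hf, hfZ⟩ := SetLike.not_le_iff_exists.mp hne
    refine ⟨⟨f, hf, fun h => hfZ (h ▸ hzero')⟩, fun f hf g hg hfg => ?_⟩
    exact (hmul f hf g hg (hfg ▸ hzero')).imp (hzero f hf) (hzero g hg)
  · rintro ⟨⟨f, hf, hf0⟩, hmul⟩
    refine ⟨(EGA73.isIrreducible_iff (𝒜 := 𝒜) (Z := Set.univ)).mpr
      ⟨fun hle => hf0 (hzero f hf (hle hf)), fun f hf g hg hfg => ?_⟩, this⟩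
    exact (hmul f hf g hg (hzero _ (Ideal.mul_mem_right _ _ hf) hfg)).imp (fun h : f = 0 => h ▸ hzero') (fun h : g = 0 => h ▸ hzero')

end Groth.Agent.S3557
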