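import Groth.Statements.S3560
import Groth.Agent.EGA73.GradedGrowth
import Groth.Agent.EGA73.GradedVanish

set_option autoImplicit false
universe u
open CategoryTheory CategoryTheory.Limits AlgebraicGeometry
open EGA2

namespace Groth.Agent.S3560

/-- Let S be a graded ring whose irrelevant ideal S_+ is finitely generated. Then Proj S is empty if and
only if there is n such that S_k = 0 for all k ≥ n. -/
theorem result {R A : Type u} [CommRing R] [CommRing A] [Algebra R A] (𝒜 : ℕ → Submodule R A) [GradedAlgebra 𝒜]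
    (hfg : (HomogeneousIdeal.irrelevant 𝒜).toIdeal.FG) :
    IsEmpty (Proj 𝒜) ↔ ∃ n : ℕ, ∀ k : ℕ, n ≤ k → 𝒜 k = ⊥ := by
  constructor
  · intro h
    have := EGA73.irrelevant_fg_iff_finiteType.mp hfg
    have hle : (HomogeneousIdeal.irrelevant 𝒜).toIdeal ≤ (⊥ : Ideal A).radical := fun f hf =>
      mem_nilradical.mpr (EGA73.isNilpotent_of_forall_mem hf fun x => (h.false (x : Proj 𝒜)).elim)
    obtain ⟨N, hN⟩ := Ideal.exists_pow_le_of_le_radical_of_fg hle hfg
    obtain ⟨m₀, hm₀⟩ := EGA73.exists_subset_irrelevant_pow 𝒜 N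
    exact ⟨m₀, fun k hk => eq_bot_iff.mpr fun a ha => hN (hm₀ k hk a ha)⟩
  · rintro ⟨n, hn⟩
    refine ⟨fun x => ?_⟩
    obtain ⟨i, g, hi, hg, hgx⟩ := EGA73.exists_pos_notMem 𝒜 x
    have h0 : g ^ (n + 1) ∈ 𝒜 ((n + 1) • i) := SetLike.pow_mem_graded _ hg
    rw [hn _ (by rw [smul_eq_mul]; exact (Nat.le_succ n).trans (Nat.le_mul_of_pos_right _ hi))] at h0
    exact hgx (x.isPrime.mem_of_pow_mem (n + 1) (((Submodule.mem_bot R).mp h0) ▸ zero_mem _))

end Groth.Agent.S3560
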