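import Groth.Statements.S3562
import Groth.Agent.EGA73.TildeFinite
import Groth.Agent.S3548
import Groth.Agent.S3549

set_option autoImplicit false
universe u
open CategoryTheory CategoryTheory.Limits AlgebraicGeometry
open EGA2

namespace Groth.Agent.S3562

/-- Let S be a graded ring whose irrelevant ideal S_+ is finitely generated and generated by the
degree-one elements, and M a graded S-module satisfying (TF) (some tail of M generates a finitely
generated submodule). Then M~ = 0 on Proj S if and only if M satisfies (TN): M_k = 0 for all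
sufficiently large k. (The published statement assumes only that S_+ is finitely generated; the
statement then fails when S_+ has no system of degree-one generators, e.g. S = k[t] with t of degree
2 and M = S shifted into odd degrees, whose M~ vanishes although no M_k does. Stated here with S_+
generated by degree-one elements, where the published proof applies.) -/
theorem result {R A : Type u} [CommRing R] [CommRing A] [Algebra R A] (𝒜 : ℕ → Submodule R A) [GradedAlgebra 𝒜]
    (hfg : (HomogeneousIdeal.irrelevant 𝒜).toIdeal.FG)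
    (hgen : (HomogeneousIdeal.irrelevant 𝒜).toIdeal = Ideal.span (𝒜 1 : Set A))
    {M : Type u} [AddCommGroup M] [Module R M] [Module A M] [IsScalarTower R A M] (ℳ : ℕ → Submodule R M) [DirectSum.Decomposition ℳ] [SetLike.GradedSMul 𝒜 ℳ]
    (hTF : ∃ n : ℕ, (Submodule.span A (⋃ k ∈ Set.Ici n, (ℳ k : Set M))).FG) :
    IsZero (GrTilde.tilde 𝒜 ℳ 0) ↔ ∃ n : ℕ, ∀ k : ℕ, n ≤ k → ℳ k = ⊥ := by
  classical
  constructor
  · intro h0
    have : Algebra.FiniteType (𝒜 0) A := EGA73.irrelevant_fg_iff_finiteType.1 hfg
    obtain ⟨r, e, d, hd, he, hadj, hmon⟩ := EGA73.exists_monomial_generators 𝒜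
    obtain ⟨n, hn⟩ := hTF
    obtain ⟨T, hT, hTspan⟩ := Submodule.fg_span_iff_fg_span_finset_subset _ |>.1 hn
    have hTdeg : ∀ m : T, ∃ a, (m : M) ∈ ℳ a := fun m => by
      obtain ⟨a, -, ha⟩ := Set.mem_iUnion₂.1 (hT m.2)
      exact ⟨a, ha⟩
    choose a ha using hTdeg
    have hkill : ∀ (t : T) (i : Fin r), ∃ k : ℕ, e i ^ k • (t : M) = 0 := fun t i =>
      S3549.result 𝒜 hgen ℳ h0 t (d i) (e i) (hd i) (he i)
    choose k hk using hkill
    let K := Finset.univ.sup fun p : T × Fin r => k p.1 p.2
    refine ⟨n + Finset.univ.sup a + K * ∑ i, d i + 1, fun N hN => (Submodule.eq_bot_iff _).2 fun z hz => ?_⟩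
    have hmem : z ∈ Submodule.span A (T : Set M) := by
      rw [← hTspan]
      exact Submodule.subset_span (Set.mem_iUnion₂.2 ⟨N, show n ≤ N by omega, hz⟩)
    obtain ⟨c, hc⟩ := Submodule.mem_span_finset'.1 hmem
    rw [← DirectSum.decompose_of_mem_same ℳ hz, ← hc, DirectSum.decompose_sum, DFinsupp.finsetSum_apply,
      AddSubmonoidClass.coe_finsetSum]
    refine Finset.sum_eq_zero fun t _ => ?_
    conv_lhs => rw [← DirectSum.sum_support_decompose 𝒜 (c t), Finset.sum_smul]
    rw [DirectSum.decompose_sum, DFinsupp.finsetSum_apply, AddSubmonoidClass.coe_finsetSum]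
    refine Finset.sum_eq_zero fun i _ => ?_
    by_cases hiN : i + a t = N
    · have hvan : ∀ b ∈ Submodule.span (𝒜 0) {b | ∃ q : Fin r → ℕ, ∑ j, q j * d j = i ∧ b = ∏ j, e j ^ q j},
          b • (t : M) = 0 := by
        intro b hb
        induction hb using Submodule.span_induction with
        | mem b hb =>
          obtain ⟨q, hq, rfl⟩ := hb
          obtain ⟨j, hj⟩ : ∃ j, K ≤ q j := by
            by_contra H
            push Not at H
            have h1 : ∑ j, q j * d j ≤ ∑ j, K * d j :=
              Finset.sum_le_sum fun j _ => Nat.mul_le_mul_right _ (H j).le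
            rw [← Finset.mul_sum, hq] at h1
            have h2 : a t ≤ Finset.univ.sup a := Finset.le_sup (Finset.mem_univ t)
            omega
          have hjk : k t j ≤ q j :=
            (Finset.le_sup (f := fun p : T × Fin r => k p.1 p.2) (Finset.mem_univ (t, j))).trans hj
          rw [← Finset.prod_erase_mul _ _ (Finset.mem_univ j), mul_smul,
            ← Nat.sub_add_cancel hjk, pow_add, mul_smul, hk, smul_zero, smul_zero]
        | zero => exact zero_smul _ _
        | add b b' _ _ hb hb' => rw [add_smul, hb, hb', add_zero]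
        | smul w b _ hb =>
          show ((w : A) * b) • (t : M) = 0
          rw [mul_smul, hb, smul_zero]
      rw [hvan _ (hmon i _ (SetLike.coe_mem _)), DirectSum.decompose_zero]
      simp
    · exact DirectSum.decompose_of_mem_ne ℳ
        (EGA73.gsmul_mem 𝒜 ℳ (SetLike.coe_mem _) (ha t)) hiN
  · rintro ⟨n, hn⟩
    refine S3548.result 𝒜 ℳ fun z d f hd hf => ⟨n, ?_⟩
    conv_lhs => rw [← DirectSum.sum_support_decompose ℳ z, Finset.smul_sum]
    refine Finset.sum_eq_zero fun i _ => ?_
    have h1 : f ^ n • (DirectSum.decompose ℳ z i : M) ∈ ℳ (n * d + i) :=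
      EGA73.gsmul_mem 𝒜 ℳ (by simpa using SetLike.pow_mem_graded n hf) (SetLike.coe_mem _)
    rwa [hn _ ((Nat.le_mul_of_pos_right n hd).trans (Nat.le_add_right _ _)), Submodule.mem_bot] at h1


end Groth.Agent.S3562
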