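import Groth.Statements.S3567
-- import your own Groth.Agent.* helpers here

set_option autoImplicit false
universe u
open CategoryTheory CategoryTheory.Limits AlgebraicGeometry
open EGA2

namespace Groth.Agent.S3567

/-- Let h : U → V be a surjective morphism of schemes such that the map of sheaves of rings O_V → h_*O_U
is an isomorphism and the underlying space of V carries the quotient topology of that of U. Then for
every scheme W, composition with h is a bijection from the morphisms V → W onto the morphisms U → W
whose underlying map is constant on each fibre of h. -/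
theorem result {U V : Scheme.{u}} (h : U ⟶ V) [Surjective h]
    [IsIso h.c] (hq : Topology.IsQuotientMap h.base) (W : Scheme.{u}) :
    (∀ v₁ v₂ : V ⟶ W, h ≫ v₁ = h ≫ v₂ → v₁ = v₂) ∧
      ∀ u : U ⟶ W, (∀ x y : U, h.base x = h.base y → u.base x = u.base y) → ∃ v : V ⟶ W, h ≫ v = u := by
  classical
  have happ : ∀ O : V.Opens, IsIso (h.app O) := fun O =>
    inferInstanceAs (IsIso (h.c.app (Opposite.op O)))
  constructor
  · intro v₁ v₂ e
    have hb : v₁.base = v₂.base := by
      ext y
      obtain ⟨x, rfl⟩ := h.surjective y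
      rw [← Scheme.Hom.comp_apply, e, Scheme.Hom.comp_apply]
    refine Scheme.Hom.ext hb fun O => ?_
    have := happ (v₂ ⁻¹ᵁ O)
    rw [← cancel_mono (h.app (v₂ ⁻¹ᵁ O))]
    simp only [Category.assoc, Scheme.Hom.naturality]
    rw [← Category.assoc, ← Scheme.Hom.comp_app, Scheme.Hom.congr_app e O]
    erw [Category.assoc, ← Scheme.Hom.comp_app, ← U.presheaf.map_comp]
    convert! Category.comp_id _
    exact U.presheaf.map_id _
  · intro u hu
    let g : V → W := Function.surjInv h.surjective |> fun s y => u (s y)
    have hg : ∀ x, g (h x) = u x := fun x =>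
      hu _ _ (Function.surjInv_eq h.surjective (h x))
    have hcont : Continuous g := hq.continuous_iff.2 (by
      rw [show g ∘ ⇑h.base = ⇑u.base from funext hg]
      exact u.continuous)
    let vb : (V.toPresheafedSpace : PresheafedSpace CommRingCat.{u}).carrier ⟶
        W.toPresheafedSpace.carrier := TopCat.ofHom ⟨g, hcont⟩
    let pre : W.Opens → V.Opens := fun O => (TopologicalSpace.Opens.map vb).obj O
    have hpre : ∀ O, h ⁻¹ᵁ pre O = u ⁻¹ᵁ O := fun O => by
      ext x
      show g (h x) ∈ O ↔ u x ∈ O
      rw [hg]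
    let ψ : ∀ O : W.Opens, Γ(W, O) ⟶ Γ(V, pre O) := fun O =>
      u.appLE O (h ⁻¹ᵁ pre O) (hpre O).le ≫ inv (h.app (pre O))
    let vc : W.presheaf ⟶ (TopCat.Presheaf.pushforward CommRingCat.{u} vb).obj V.presheaf :=
      { app := fun O => ψ O.unop
        naturality := fun O O' i => by
          show W.presheaf.map i ≫ u.appLE _ _ _ ≫ inv (h.app _) =
            (u.appLE _ _ _ ≫ inv (h.app _)) ≫ V.presheaf.map ((TopologicalSpace.Opens.map vb).map i.unop).op
          rw [← cancel_mono (h.app (pre O'.unop)), Category.assoc, Category.assoc, IsIso.inv_hom_id,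
            Category.comp_id, Category.assoc, Category.assoc, Scheme.Hom.naturality,
            IsIso.inv_hom_id_assoc, Scheme.Hom.map_appLE, Scheme.Hom.appLE_map] }
    let vP : V.toPresheafedSpace ⟶ W.toPresheafedSpace := { base := vb, c := vc }
    have hcomp : h.toLRSHom.toHom ≫ vP = u.toLRSHom.toHom := by
      refine PresheafedSpace.Hom.ext _ _ (TopCat.ext fun x => hg x) ?_
      ext O : 2
      refine congrArg CommRingCat.Hom.hom ?_
      show (ψ O ≫ h.app (pre O)) ≫ _ = u.app O
      simp only [ψ, Category.assoc, IsIso.inv_hom_id_assoc, Scheme.Hom.appLE]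
      convert! Category.comp_id (u.app O)
      rw [Functor.whiskerRight_app]; erw [← U.presheaf.map_comp]
      exact U.presheaf.map_id _
    refine ⟨⟨⟨vP, fun y => ?_⟩⟩, Scheme.Hom.ext' (LocallyRingedSpace.Hom.ext' hcomp)⟩
    obtain ⟨x, rfl⟩ := h.surjective y
    have hs := PresheafedSpace.stalkMap.comp h.toLRSHom.toHom vP x
    have hl : IsLocalHom ((h.toLRSHom.toHom ≫ vP).stalkMap x).hom := by
      rw [PresheafedSpace.stalkMap.congr_hom _ _ hcomp x]
      have : IsLocalHom (u.toLRSHom.toHom.stalkMap x).hom := u.toLRSHom.prop x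
      infer_instance
    rw [hs] at hl
    refine ⟨fun a ha => hl.map_nonunit a ?_⟩
    exact RingHom.isUnit_map (h.toLRSHom.stalkMap x).hom ha

end Groth.Agent.S3567
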