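import Groth.Statements.S3568
import Groth.Agent.EGA73.IntegralNormal

set_option autoImplicit false
universe u
open CategoryTheory CategoryTheory.Limits AlgebraicGeometry
open EGA2

namespace Groth.Agent.S3568

/-- Let U be an integral scheme, V a normal integral scheme (all local rings integrally closed domains)
and h : U → V a morphism which is universally closed, radicial (universally injective) and
birational (it sends the generic point of U to that of V and induces an isomorphism of the residue
fields there). Then h is an isomorphism. (The source assumes only V normal; integrality of V, needed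
here to speak of its generic point, follows from the other hypotheses.) -/
theorem result {U V : Scheme.{u}} [AlgebraicGeometry.IsIntegral U] [AlgebraicGeometry.IsIntegral V]
    (hN : Pi1.IsNormalScheme V) (h : U ⟶ V) [UniversallyClosed h]
    [UniversallyInjective h] (hgen : h.base (genericPoint U) = genericPoint V)
    (hbir : Function.Bijective (h.residueFieldMap (genericPoint U)).hom) :
    IsIso h := by
  have hc : Topology.IsClosedEmbedding h.base :=
    Topology.IsClosedEmbedding.of_continuous_injective_isClosedMap h.continuous h.injective h.isClosedMap
  have : IsAffineHom h := isAffineHom_of_isInducing h hc.isInducing hc.isClosed_range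
  have : IsIntegralHom h := IsIntegralHom.iff_universallyClosed_and_isAffineHom.mpr ⟨inferInstance, inferInstance⟩
  let ξ := genericPoint U
  have hUfield : IsField (U.presheaf.stalk ξ) := Field.toIsField U.functionField
  have hVfield : IsField (V.presheaf.stalk (h.base ξ)) := by rw [hgen]; exact Field.toIsField V.functionField
  have hbij : Function.Bijective (h.stalkMap ξ).hom := by
    have hmU := (IsLocalRing.isField_iff_maximalIdeal_eq).mp hUfield
    have hinjU : Function.Injective (U.residue ξ).hom := (RingHom.injective_iff_ker_eq_bot _).mpr
      (IsLocalRing.ker_residue.trans hmU)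
    have hinjV : Function.Injective (V.residue (h.base ξ)).hom := (RingHom.injective_iff_ker_eq_bot _).mpr
      (IsLocalRing.ker_residue.trans ((IsLocalRing.isField_iff_maximalIdeal_eq).mp hVfield))
    have e : ∀ a, (h.residueFieldMap ξ).hom ((V.residue (h.base ξ)).hom a) = (U.residue ξ).hom ((h.stalkMap ξ).hom a) :=
      fun a => congrArg (fun m : V.presheaf.stalk (h.base ξ) ⟶ U.residueField ξ => m.hom a) (Scheme.residue_residueFieldMap h ξ)
    refine ⟨fun a b hab => hinjV (hbir.1 (by rw [e, e, hab])), fun b => ?_⟩
    obtain ⟨c, hc⟩ := hbir.2 ((U.residue ξ).hom b)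
    obtain ⟨a, rfl⟩ := V.residue_surjective _ c
    exact ⟨a, hinjU ((e a).symm.trans hc)⟩
  have : IsIso (h.stalkMap ξ) := (ConcreteCategory.isIso_iff_bijective _).mpr hbij
  let σ : U.presheaf.stalk ξ ⟶ V.functionField := inv (h.stalkMap ξ) ≫
    V.presheaf.stalkSpecializes (Inseparable.of_eq hgen).specializes'
  refine EGA73.isIso_of_integral_of_lift hN h fun W hW _ => EGA73.exists_injective_lift h
    (Spec.map σ ≫ U.fromSpecStalk ξ) ?_ W hW
  rw [Category.assoc, ← Scheme.SpecMap_stalkMap_fromSpecStalk, ← Spec.map_comp_assoc, ← Category.assoc,
    IsIso.hom_inv_id, Category.id_comp, Scheme.SpecMap_stalkSpecializes_fromSpecStalk]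

end Groth.Agent.S3568
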