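import Groth.Statements.S3571
import Groth.Agent.EGAProj74.RelSpecGamma
import Groth.Agent.QC70.Sections
import Groth.Agent.QC70.Loc

set_option autoImplicit false
universe u
open CategoryTheory AlgebraicGeometry TopologicalSpace
open EGA2

namespace Groth.Agent.S3571

/-- Let S be a scheme and B a sheaf of commutative rings on S with a morphism O_S → B making B a
quasi-coherent O_S-module (a quasi-coherent O_S-algebra). Then there are a scheme X and an affine
morphism f : X → S together with an isomorphism of sheaves of rings B ≅ f_*O_X compatible with the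
two structure maps from O_S (X is the relative spectrum of B; it is in fact unique up to unique
S-isomorphism, but only existence is asserted here). -/
theorem result {S : Scheme.{u}}
    (B : Sheaf (Opens.grothendieckTopology S) CommRingCat.{u}) (φ : S.sheaf ⟶ B)
    (hB : Coh.IsQCoh ((SheafOfModules.restrictScalars
      ((sheafCompose (Opens.grothendieckTopology S) (forget₂ CommRingCat.{u} RingCat.{u})).map φ)).obj
      (SheafOfModules.unit ((sheafCompose (Opens.grothendieckTopology S) (forget₂ CommRingCat.{u} RingCat.{u})).obj B)))) :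
    ∃ (X : Scheme.{u}) (f : X ⟶ S) (_ : IsAffineHom f)
      (e : B ≅ (TopCat.Sheaf.pushforward CommRingCat.{u} f.base).obj X.sheaf),
      (φ ≫ e.hom).hom = f.c := by
  let M : S.Modules := (SheafOfModules.restrictScalars
      ((sheafCompose (Opens.grothendieckTopology S) (forget₂ CommRingCat.{u} RingCat.{u})).map φ)).obj
      (SheafOfModules.unit ((sheafCompose (Opens.grothendieckTopology S) (forget₂ CommRingCat.{u} RingCat.{u})).obj B))
  have : M.IsQuasicoherent := hB
  have hQC : RelSpec.IsQC B.obj φ.hom := by
    intro U hU r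
    let := (B.obj.map (homOfLE (S.basicOpen_le r)).op).hom.toAlgebra
    have hloc := QC70.isLocAt_of_isQuasicoherent M hU
    have hnat : ∀ a : Γ(S, U), (φ.hom.app (Opposite.op (S.basicOpen r))).hom
        (S.presheaf.map (homOfLE (S.basicOpen_le r)).op a) =
        (B.obj.map (homOfLE (S.basicOpen_le r)).op).hom ((φ.hom.app (Opposite.op U)).hom a) := fun a =>
      ConcreteCategory.congr_hom (φ.hom.naturality (homOfLE (S.basicOpen_le r)).op) a
    refine IsLocalization.Away.mk _ ?_ (fun s => ?_) (fun a b hab => ?_)
    · show IsUnit ((B.obj.map (homOfLE (S.basicOpen_le r)).op).hom ((φ.hom.app (Opposite.op U)).hom r))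
      rw [← hnat]
      exact (RingedSpace.isUnit_res_basicOpen _ r).map (φ.hom.app (Opposite.op (S.basicOpen r))).hom
    · obtain ⟨n, t, ht⟩ := hloc.exists_of r s
      refine ⟨n, t, ?_⟩
      show s * (B.obj.map (homOfLE (S.basicOpen_le r)).op).hom ((φ.hom.app (Opposite.op U)).hom r) ^ n =
        (B.obj.map (homOfLE (S.basicOpen_le r)).op).hom t
      rw [mul_comm, ← hnat, ← map_pow]
      exact ht.symm
    · obtain ⟨n, hn⟩ := hloc.eq_zero_of r (show B.obj.obj (Opposite.op U) from a - b) (by
        show (B.obj.map (homOfLE (S.basicOpen_le r)).op).hom (a - b) = 0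
        rw [map_sub]
        exact sub_eq_zero.2 hab)
      refine ⟨n, ?_⟩
      rw [← sub_eq_zero, ← mul_sub, ← map_pow]
      exact hn
  let A : RelSpec.QCAlg S := ⟨B.obj, B.property, φ.hom, hQC⟩
  have := EGAProj74.isIso_gammaMap A
  refine ⟨A.spec, A.π, inferInstance,
    (fullyFaithfulSheafToPresheaf _ _).preimageIso (asIso A.gammaMap).symm, ?_⟩
  show φ.hom ≫ inv A.gammaMap = A.π.c
  rw [IsIso.comp_inv_eq]
  exact (A.π_c_gammaMap).symm


end Groth.Agent.S3571
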