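import Groth.Statements.S3576
import Groth.Agent.EGA73.ConeFibre

set_option autoImplicit false
universe u
open CategoryTheory CategoryTheory.Limits AlgebraicGeometry
open EGA2

namespace Groth.Agent.S3576

/-- Over an affine base Spec R: let S be a graded R-algebra whose irrelevant ideal is generated by its
degree-one elements, E the pointed affine cone of S and π : E → X = Proj S the canonical retraction
(the morphism restricting on each chart D(f), f homogeneous of positive degree, to Spec S_f → Spec
S_(f) → Proj S). Then π is of finite type, and for every point x of X the fibre of π at x is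
isomorphic over the residue field κ(x) to Spec κ(x)[T, T⁻¹]. -/
theorem result {R A : Type u} [CommRing R] [CommRing A] [Algebra R A] (𝒜 : ℕ → Submodule R A) [GradedAlgebra 𝒜]
    (hgen : (HomogeneousIdeal.irrelevant 𝒜).toIdeal = Ideal.span (𝒜 1 : Set A))
    (π : (Cone.pointed 𝒜 : Scheme.{u}) ⟶ Proj 𝒜)
    (hπ : ∀ (d : ℕ) (f : A) (hd : 0 < d) (hf : f ∈ 𝒜 d),
        Cone.chart hf hd ≫ π =
          Spec.map (CommRingCat.ofHom (algebraMap (HomogeneousLocalization.Away 𝒜 f) (Localization.Away f))) ≫
            Proj.awayι 𝒜 f hf hd)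
    (x : Proj 𝒜) :
    LocallyOfFiniteType π ∧ QuasiCompact π ∧
      ∃ e : pullback π ((Proj 𝒜).fromSpecResidueField x) ≅
          Spec (CommRingCat.of (LaurentPolynomial ((Proj 𝒜).residueField x))),
        e.hom ≫ Spec.map (CommRingCat.ofHom (algebraMap ((Proj 𝒜).residueField x)
          (LaurentPolynomial ((Proj 𝒜).residueField x)))) = pullback.snd π ((Proj 𝒜).fromSpecResidueField x) := by
  classical
  have hpb : ∀ (f : A) (hf : f ∈ 𝒜 1), IsPullback (Cone.chart hf one_pos)
      (Spec.map (CommRingCat.ofHom (algebraMap (HomogeneousLocalization.Away 𝒜 f) (Localization.Away f))))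
      π (Proj.awayι 𝒜 f hf one_pos) := by
    intro f hf
    refine (IsOpenImmersion.isPullback _ _ _ _ (hπ 1 f one_pos hf) ?_).flip
    rw [Proj.opensRange_awayι, EGA73.preimage_basicOpen_cone π hπ one_pos hf, EGA73.opensRange_chart]
  obtain ⟨h1, h2⟩ := EGA73.ConeFibre.of_isPullback_charts π
    (fun i : 𝒜 1 => CommRingCat.of (HomogeneousLocalization.Away 𝒜 (i : A)))
    (fun i => CommRingCat.of (Localization.Away (i : A)))
    (fun i => Proj.awayι 𝒜 (i : A) i.2 one_pos)
    (fun y => by
      obtain ⟨f, hf, hy⟩ := EGA73.ConeFibre.exists_deg_one 𝒜 hgen y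
      exact ⟨⟨f, hf⟩, hy⟩)
    (fun i => Cone.chart i.2 one_pos)
    (fun i => CommRingCat.ofHom (algebraMap (HomogeneousLocalization.Away 𝒜 (i : A)) (Localization.Away (i : A))))
    (fun i => hpb _ i.2)
    (fun i => EGA73.ConeFibre.finiteType_of_laurent
      (RingEquiv.ofBijective _ (EGA73.ConeFibre.toCone_bijective i.2)) EGA73.ConeFibre.toCone_C)
  refine ⟨h1, h2, ?_⟩
  obtain ⟨f, hf, hx⟩ := EGA73.ConeFibre.exists_deg_one 𝒜 hgen x
  exact EGA73.ConeFibre.exists_iso_fibre_laurent π (hpb f hf)
    (RingEquiv.ofBijective _ (EGA73.ConeFibre.toCone_bijective hf)) EGA73.ConeFibre.toCone_C x hx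

end Groth.Agent.S3576
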