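import Groth.Statements.S3579
import Groth.Agent.Amp73.ProjGen

set_option autoImplicit false
universe u
open CategoryTheory CategoryTheory.Limits AlgebraicGeometry
open EGA2

namespace Groth.Agent.S3579

/-- Let S be a graded ring whose irrelevant ideal S_+ is generated by finitely many elements of degree
one, X = Proj S, and let F be an O_X-module that is quasi-coherent and of finite type. Then for some
n₀ and all n ≥ n₀, the twist F(n) = F ⊗ O_X(n) is a quotient of a finite free module O_X^k (k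
depending on n); in particular F(n) is generated by finitely many global sections. -/
theorem result {R A : Type u} [CommRing R] [CommRing A] [Algebra R A] (𝒜 : ℕ → Submodule R A) [GradedAlgebra 𝒜]
    (s : Finset A) (hs1 : ∀ f ∈ s, f ∈ 𝒜 1)
    (hs : (HomogeneousIdeal.irrelevant 𝒜).toIdeal = Ideal.span (s : Set A))
    (F : (Proj 𝒜).Modules) (hF : Coh.IsQCoh F) (hFT : CohB1.IsFT F) :
    ∃ n₀ : ℕ, ∀ n : ℕ, n₀ ≤ n →
      ∃ (k : ℕ) (p : FlatMod.freeMod (Proj 𝒜) k ⟶ Twist.twistBy 𝒜 F (n : ℤ)), Epi p := by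
  have := (Amp73.isAmple_twist_one s hs1 hs).2.1
  obtain ⟨n₀, h⟩ := Amp73.eventually_spanAt_twistBy s hs1 hs F ⟨hF, hFT⟩
  refine ⟨n₀, fun n hn => ?_⟩
  have hG := Amp73.isQCoh_twistBy s hs1 hs F ⟨hF, hFT⟩ (n : ℤ)
  exact Amp73.exists_epi_freeMod hG.1 hG.2 (h n hn)


end Groth.Agent.S3579
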