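import Groth.Statements.S3588
import Groth.Agent.EGA73.ProjMorph
import Groth.Agent.EGAProj74.PolyCone

set_option autoImplicit false
universe u
open CategoryTheory CategoryTheory.Limits AlgebraicGeometry
open EGA2

namespace Groth.Agent.S3588

/-- Let S be a graded ring, N_+ the set of nilpotent elements of S_+ (an ideal of S), and S → S/N_+ the
quotient (here: any surjective homomorphism of graded rings φ : S → S' whose kernel is N_+). Then
the induced morphism Proj S' → Proj S is a closed immersion which is a homeomorphism of the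
underlying spaces, and Proj S' is reduced; thus Proj S' is the reduced closed subscheme (Proj
S)_red. -/
theorem result {R A : Type u} [CommRing R] [CommRing A] [Algebra R A] (𝒜 : ℕ → Submodule R A) [GradedAlgebra 𝒜]
    {B : Type u} [CommRing B] [Algebra R B] (ℬ : ℕ → Submodule R B) [GradedAlgebra ℬ]
    (φ : 𝒜 →+*ᵍ ℬ) (hsurj : Function.Surjective φ)
    (hker : ∀ a : A, φ a = 0 ↔ a ∈ (HomogeneousIdeal.irrelevant 𝒜).toIdeal ∧ IsNilpotent a)
    (hφ : HomogeneousIdeal.irrelevant ℬ ≤ (HomogeneousIdeal.irrelevant 𝒜).map φ) :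
    IsClosedImmersion (Proj.map φ hφ) ∧ IsHomeomorph (Proj.map φ hφ).base ∧
      AlgebraicGeometry.IsReduced (Proj ℬ) := by
  have hN : ∀ a : A, φ a = 0 → IsNilpotent a := fun a h => ((hker a).1 h).2
  have hc := EGA73.isClosedImmersion_map_of_surjective φ hsurj hφ
  refine ⟨hc, ?_, EGA73.isReduced_proj fun f hf hn => ?_⟩
  · exact isHomeomorph_iff_isEmbedding_surjective.2 ⟨(Proj.map φ hφ).isClosedEmbedding.isEmbedding,
      EGA73.surjective_map_of_ker_nilpotent φ hsurj hN hφ⟩
  · classical
    obtain ⟨n, hn⟩ := hn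
    obtain ⟨a, rfl⟩ := hsurj f
    obtain ⟨m, hm⟩ := hN (a ^ n) ((map_pow φ a n).trans hn)
    have hn' : IsNilpotent a := ⟨n * m, by rw [pow_mul, hm]⟩
    let a' : A := a - DirectSum.decompose 𝒜 a 0
    have ha' : φ a' = φ a := by
      have h0 := (HomogeneousIdeal.mem_irrelevant_iff ℬ (φ a)).1 hf
      rw [GradedRing.proj_apply] at h0
      simp only [a', map_sub, GradedRingHom.map_directSumDecompose, h0, sub_zero]
    rw [← ha', hker]
    refine ⟨?_, ?_⟩
    · rw [HomogeneousIdeal.mem_iff, HomogeneousIdeal.mem_irrelevant_iff]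
      simp only [a', map_sub, GradedRing.proj_apply,
        DirectSum.decompose_of_mem_same 𝒜 (SetLike.coe_mem (DirectSum.decompose 𝒜 a 0)), sub_self]
    · obtain ⟨k, hk⟩ := hN (a' - a) (by rw [map_sub, ha', sub_self])
      have h1 : IsNilpotent ((a' - a) + a) :=
        (Commute.all _ _).isNilpotent_add ⟨k, hk⟩ hn'
      simpa using h1

end Groth.Agent.S3588
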