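import Groth.Statements.S3597
import Groth.Agent.EGA73.PolyConeGr
import Groth.Agent.EGAProj74.PConeDom
import Groth.Agent.EGA73.GradedBasics

set_option autoImplicit false
universe u
open CategoryTheory CategoryTheory.Limits AlgebraicGeometry
open EGA2

namespace Groth.Agent.S3597

/-- Let S be a graded algebra over a ring and Ŝ = S[z] the graded S-algebra obtained by adjoining a
variable z in degree 1 (an S-algebra with an element z of degree 1 such that S[T] → Ŝ, T ↦ z, is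
bijective), with φ : S → Ŝ the graded structure map and ψ : Ŝ → S the graded retraction with ψ ∘ φ =
id and ψ(z) = 0 (the irrelevant-ideal containment needed to define Proj(ψ) on all of X = Proj S
carried as a hypothesis). Let Ê ⊆ Ĉ = Proj Ŝ be the pointed projective cone, the open union of the
D_+(φ f) for f ∈ S homogeneous of positive degree, and p : Ê → X a morphism which on each chart
D_+(φ f) = Spec Ŝ_{(φ f)} is induced by S_{(f)} → Ŝ_{(φ f)} (the canonical retraction). Then p is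
surjective, and the closed immersion j = Proj(ψ) : X → Ĉ factors through Ê with p ∘ j = id_X. -/
theorem result {R A : Type u} [CommRing R] [CommRing A] [Algebra R A] (𝒜 : ℕ → Submodule R A) [GradedAlgebra 𝒜]
    {B : Type u} [CommRing B] [Algebra R B] (ℬ : ℕ → Submodule R B) [GradedAlgebra ℬ]
    [Algebra A B] [IsScalarTower R A B] (φ : 𝒜 →+*ᵍ ℬ) (hφ : ∀ a : A, φ a = algebraMap A B a)
    (z : B) (hz : z ∈ ℬ 1) (hhat : Function.Bijective (Polynomial.aeval (R := A) z))
    (ψ : ℬ →+*ᵍ 𝒜) (hψφ : ∀ a : A, ψ (φ a) = a) (hψz : ψ z = 0)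
    (hψ : HomogeneousIdeal.irrelevant 𝒜 ≤ (HomogeneousIdeal.irrelevant ℬ).map ψ)
    (p : (PCone.dom φ : Scheme.{u}) ⟶ Proj 𝒜) (hp : ∀ (d : ℕ) (f : A) (hd : 0 < d) (hf : f ∈ 𝒜 d),
        PCone.chart φ hf hd ≫ p =
          Spec.map (CommRingCat.ofHom (HomogeneousLocalization.Away.map φ f)) ≫ Proj.awayι 𝒜 f hf hd) :
    Surjective p ∧ ∃ j : Proj 𝒜 ⟶ (PCone.dom φ : Scheme.{u}), j ≫ (PCone.dom φ).ι = Proj.map ψ hψ ∧ j ≫ p = 𝟙 (Proj 𝒜) := by
  classical
  have hmem : ∀ x : Proj 𝒜, (Proj.map ψ hψ).base x ∈ PCone.dom φ := by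
    intro x
    obtain ⟨d, f, hd, hf, hfx⟩ := EGA73.exists_pos_notMem 𝒜 x
    refine TopologicalSpace.Opens.mem_iSup.mpr ⟨⟨f, d, hd, hf⟩, ?_⟩
    show ψ (φ f) ∉ x.asHomogeneousIdeal
    rwa [hψφ]
  let j : Proj 𝒜 ⟶ (PCone.dom φ : Scheme.{u}) :=
    IsOpenImmersion.lift (PCone.dom φ).ι (Proj.map ψ hψ) (by
      rw [Scheme.Opens.range_ι]
      rintro _ ⟨x, rfl⟩
      exact hmem x)
  have hj : j ≫ (PCone.dom φ).ι = Proj.map ψ hψ := IsOpenImmersion.lift_fac ..
  have hjp : j ≫ p = 𝟙 _ := by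
    refine (Proj.affineOpenCover 𝒜).openCover.hom_ext _ _ fun s => ?_
    obtain ⟨⟨d, hd⟩, f, hf⟩ := s
    show Proj.awayι 𝒜 f hf hd ≫ j ≫ p = Proj.awayι 𝒜 f hf hd ≫ 𝟙 _
    rw [Category.comp_id]
    have key : ∀ (g : A) (hg : g ∈ 𝒜 d), ψ (φ f) = g →
        Proj.awayι 𝒜 g hg hd ≫ j ≫ p = Proj.awayι 𝒜 g hg hd := by
      rintro g hg rfl
      have e1 : Proj.awayι 𝒜 (ψ (φ f)) hg hd ≫ j =
          Spec.map (CommRingCat.ofHom (HomogeneousLocalization.Away.map ψ (φ f))) ≫ PCone.chart φ hf hd := by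
        refine (cancel_mono (PCone.dom φ).ι).mp ?_
        rw [Category.assoc, hj, Category.assoc, PCone.chart, IsOpenImmersion.lift_fac]
        exact Proj.awayι_comp_map ψ hψ hd (φ f) (φ.map_mem hf)
      rw [reassoc_of% e1]
      erw [hp d f hd hf]
      rw [← Spec.map_comp_assoc, ← CommRingCat.ofHom_comp]
      have e2 : ∀ (g : A) (hg : g ∈ 𝒜 d) (θ : HomogeneousLocalization.Away 𝒜 f →+* HomogeneousLocalization.Away 𝒜 g),
          f = g → (∀ (n : ℕ) (a : A) (ha : a ∈ 𝒜 (n • d)),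
            θ (HomogeneousLocalization.Away.mk 𝒜 hf n a ha) = HomogeneousLocalization.Away.mk 𝒜 hg n a ha) →
          Spec.map (CommRingCat.ofHom θ) ≫ Proj.awayι 𝒜 f hf hd = Proj.awayι 𝒜 g hg hd := by
        rintro g hg θ rfl hθ
        have : θ = RingHom.id _ := RingHom.ext fun x => by
          obtain ⟨n, a, ha, rfl⟩ := HomogeneousLocalization.Away.mk_surjective 𝒜 hf x
          exact hθ n a ha
        rw [this, CommRingCat.ofHom_id, Spec.map_id, Category.id_comp]
        rfl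
      refine e2 _ hg _ (hψφ f).symm fun n a ha => ?_
      apply HomogeneousLocalization.val_injective
      rw [RingHom.comp_apply, HomogeneousLocalization.Away.map_mk, HomogeneousLocalization.Away.map_mk,
        HomogeneousLocalization.Away.val_mk, HomogeneousLocalization.Away.val_mk]
      simp only [hψφ]
    exact key f hf (hψφ f)
  refine ⟨⟨fun y => ⟨j.base y, ?_⟩⟩, j, hj, hjp⟩
  rw [← Scheme.Hom.comp_apply, hjp]
  rfl

end Groth.Agent.S3597
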