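import Groth.Statements.S3598
import Groth.Agent.EGA73.ConeFibre

set_option autoImplicit false
universe u
open CategoryTheory CategoryTheory.Limits AlgebraicGeometry
open EGA2

namespace Groth.Agent.S3598

/-- Let S be a graded algebra over a ring (an affine base) whose irrelevant ideal is generated by its
degree-one elements, and let Ŝ = S[z] be the graded S-algebra obtained by adjoining a variable z of
degree 1 (given as a graded S-algebra together with z of degree 1 such that S[T] → Ŝ, T ↦ z, is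
bijective). Let Ê be the pointed projective cone, covered by the charts Spec Ŝ_(f) for f ∈ S
homogeneous of positive degree, and p : Ê → X = Proj S the canonical retraction, i.e. the morphism
which on each chart Spec Ŝ_(f) is induced by S_(f) → Ŝ_(f). Then p is of finite type (locally of
finite type and quasi-compact) and its fibre at every point x of X is isomorphic over k(x) to the
affine line Spec k(x)[T]. -/
theorem result {R A : Type u} [CommRing R] [CommRing A] [Algebra R A] (𝒜 : ℕ → Submodule R A) [GradedAlgebra 𝒜]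
    {B : Type u} [CommRing B] [Algebra R B] (ℬ : ℕ → Submodule R B) [GradedAlgebra ℬ]
    [Algebra A B] [IsScalarTower R A B] (φ : 𝒜 →+*ᵍ ℬ) (hφ : ∀ a : A, φ a = algebraMap A B a)
    (z : B) (hz : z ∈ ℬ 1) (hhat : Function.Bijective (Polynomial.aeval (R := A) z))
    (hgen : (HomogeneousIdeal.irrelevant 𝒜).toIdeal = Ideal.span (𝒜 1 : Set A))
    (p : (PCone.dom φ : Scheme.{u}) ⟶ Proj 𝒜) (hp : ∀ (d : ℕ) (f : A) (hd : 0 < d) (hf : f ∈ 𝒜 d),
        PCone.chart φ hf hd ≫ p =
          Spec.map (CommRingCat.ofHom (HomogeneousLocalization.Away.map φ f)) ≫ Proj.awayι 𝒜 f hf hd) (x : Proj 𝒜) :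
    LocallyOfFiniteType p ∧ QuasiCompact p ∧
      ∃ e : pullback p ((Proj 𝒜).fromSpecResidueField x) ≅
          Spec (CommRingCat.of (Polynomial ((Proj 𝒜).residueField x))),
        e.hom ≫ Spec.map (CommRingCat.ofHom (algebraMap ((Proj 𝒜).residueField x)
          (Polynomial ((Proj 𝒜).residueField x)))) = pullback.snd p ((Proj 𝒜).fromSpecResidueField x) := by
  classical
  have hpre : ∀ (f : A) (hf : f ∈ 𝒜 1),
      p ⁻¹ᵁ Proj.basicOpen 𝒜 f = (PCone.dom φ).ι ⁻¹ᵁ Proj.basicOpen ℬ (φ f) := by
    intro f hf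
    rw [EGAProj74.eq_isoOfEq_comp_domMap φ p hp, Scheme.Hom.comp_preimage,
      EGAProj74.domMap_preimage_basicOpen φ one_pos f hf, ← Scheme.Hom.comp_preimage,
      Scheme.isoOfEq_hom_ι]
  have hpb : ∀ (f : A) (hf : f ∈ 𝒜 1), IsPullback (PCone.chart φ hf one_pos)
      (Spec.map (CommRingCat.ofHom (HomogeneousLocalization.Away.map φ f)))
      p (Proj.awayι 𝒜 f hf one_pos) := by
    intro f hf
    have hfac : PCone.chart φ hf one_pos ≫ (PCone.dom φ).ι = Proj.awayι ℬ (φ f) (φ.2 hf) one_pos :=
      IsOpenImmersion.lift_fac _ _ _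
    have hopen : IsOpenImmersion (PCone.chart φ hf one_pos) :=
      have : IsOpenImmersion (PCone.chart φ hf one_pos ≫ (PCone.dom φ).ι) := by
        rw [hfac]; infer_instance
      IsOpenImmersion.of_comp _ (PCone.dom φ).ι
    refine (IsOpenImmersion.isPullback _ _ _ _ (hp 1 f one_pos hf) ?_).flip
    rw [Proj.opensRange_awayι, hpre f hf]
    refine Eq.trans ?_ ((PCone.dom φ).ι.preimage_image_eq (PCone.chart φ hf one_pos).opensRange)
    rw [← Scheme.Hom.opensRange_comp, ← Proj.opensRange_awayι ℬ (φ f) (φ.2 hf) one_pos]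
    simp only [hfac]
  obtain ⟨h1, h2⟩ := EGA73.ConeFibre.of_isPullback_charts p
    (fun i : 𝒜 1 => CommRingCat.of (HomogeneousLocalization.Away 𝒜 (i : A)))
    (fun i => CommRingCat.of (HomogeneousLocalization.Away ℬ (φ (i : A))))
    (fun i => Proj.awayι 𝒜 (i : A) i.2 one_pos)
    (fun y => by
      obtain ⟨f, hf, hy⟩ := EGA73.ConeFibre.exists_deg_one 𝒜 hgen y
      exact ⟨⟨f, hf⟩, hy⟩)
    (fun i => PCone.chart φ i.2 one_pos)
    (fun i => CommRingCat.ofHom (HomogeneousLocalization.Away.map φ (i : A)))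
    (fun i => hpb _ i.2)
    (fun i => EGA73.ConeFibre.finiteType_of_poly
      (RingEquiv.ofBijective _ (EGA73.ConeFibre.toPCone_bijective i.2 φ hφ hz hhat))
      (fun a => by simp [EGA73.ConeFibre.toPCone]))
  refine ⟨h1, h2, ?_⟩
  obtain ⟨f, hf, hx⟩ := EGA73.ConeFibre.exists_deg_one 𝒜 hgen x
  exact EGA73.ConeFibre.exists_iso_fibre_poly p (hpb f hf)
    (RingEquiv.ofBijective _ (EGA73.ConeFibre.toPCone_bijective hf φ hφ hz hhat))
    (fun a => by simp [EGA73.ConeFibre.toPCone]) x hx

end Groth.Agent.S3598
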