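import Groth.Statements.S3620
import Groth.Agent.An92.DualGor.Sheaf

set_option autoImplicit false
universe u
open CategoryTheory CategoryTheory.Limits AlgebraicGeometry
attribute [local instance] HasDerivedCategory.standard
open Dual3

namespace Groth.Agent.S3620

/-- Let X be a locally Noetherian scheme with a dualizing complex K (restriction to opens and the tilde
functors assumed exact, as in the definition of dualizing complexes on schemes). Then X is
Gorenstein (all local rings Gorenstein) if and only if K is an invertible object of D(O_X), i.e.
locally isomorphic to a shift of the structure sheaf. -/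
theorem result (X : Scheme.{u}) [IsLocallyNoetherian X] [∀ (U V : Scheme.{u}) (j : U ⟶ V) [IsOpenImmersion j], PreservesFiniteLimits (Scheme.Modules.restrictFunctor j)] [∀ (R : CommRingCat.{u}), PreservesFiniteLimits (tilde.functor R)] (K : DCoh.D X) (hK : Dual2.IsDualizingSch X K) : Dual3.IsGorenstein X ↔ Dual3.IsInvertibleD K := by
  constructor
  · intro hX x
    exact Groth.Agent.An92.DualGor.exists_shift_near hK x (hX.2 x)
  · intro hinv
    refine ⟨inferInstance, fun x => ?_⟩
    obtain ⟨U, m, hxU, ⟨e⟩⟩ := hinv x
    exact Groth.Agent.An92.DualGor.gor_of_shift_near hK x U m hxU e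

end Groth.Agent.S3620
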