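import Groth.Statements.S3621
import Groth.Agent.DR39.CMLocusSch
import Groth.Agent.DR39.GorLocus

set_option autoImplicit false
set_option backward.isDefEq.respectTransparency false
universe u
open CategoryTheory CategoryTheory.Limits AlgebraicGeometry
attribute [local instance] HasDerivedCategory.standard
open Dual3

namespace Groth.Agent.S3621

theorem gor_stalk_iff {X : Scheme.{u}} (A : Type u) [CommRing A] (j : Spec (CommRingCat.of A) ⟶ X)
    [IsOpenImmersion j] (p : PrimeSpectrum A) : LocCoh.IsGorensteinLocalRing (X.presheaf.stalk (j p)) ↔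
      LocCoh.IsGorensteinLocalRing (Localization.AtPrime p.asIdeal) := by
  obtain ⟨e⟩ := Groth.Agent.DR39.stalk_spec_ringEquiv A p
  have e' := (asIso (Scheme.Hom.stalkMap j p)).commRingCatIsoToRingEquiv.trans e
  exact ⟨fun h => Groth.Agent.Gor18.gor_of_ringEquiv e', fun h => Groth.Agent.Gor18.gor_of_ringEquiv e'.symm⟩

/-- Let X be a locally Noetherian scheme which has a dualizing complex (exactness instances as in the
definition of dualizing complexes on schemes). Then the set of points x of X whose local ring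
O_{X,x} is Gorenstein is open. -/
theorem result (X : Scheme.{u}) [IsLocallyNoetherian X] [∀ (U V : Scheme.{u}) (j : U ⟶ V) [IsOpenImmersion j], PreservesFiniteLimits (Scheme.Modules.restrictFunctor j)] [∀ (R : CommRingCat.{u}), PreservesFiniteLimits (tilde.functor R)] (K : DCoh.D X) (hK : Dual2.IsDualizingSch X K) : IsOpen {x : X | LocCoh.IsGorensteinLocalRing (X.presheaf.stalk x)} := by
  refine isOpen_iff_forall_mem_open.2 fun x hx => ?_
  obtain ⟨U, hU, hxU, -⟩ := exists_isAffineOpen_mem_and_subset (X := X) (x := x) (U := ⊤) trivial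
  haveI : IsOpenImmersion hU.fromSpec := inferInstance
  obtain ⟨(y : PrimeSpectrum Γ(X, U)), rfl⟩ : x ∈ Set.range hU.fromSpec := by
    rw [hU.range_fromSpec]
    exact hxU
  obtain ⟨w, hw, -⟩ := hK Γ(X, U) hU.fromSpec
  have key : ∀ p : PrimeSpectrum Γ(X, U), LocCoh.IsGorensteinLocalRing (X.presheaf.stalk (hU.fromSpec p)) ↔
      LocCoh.IsGorensteinLocalRing (Localization.AtPrime p.asIdeal) := fun p =>
    gor_stalk_iff Γ(X, U) hU.fromSpec p
  refine ⟨hU.fromSpec '' {(p : PrimeSpectrum Γ(X, U)) | LocCoh.IsGorensteinLocalRing (Localization.AtPrime p.asIdeal)}, ?_,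
    hU.fromSpec.isOpenEmbedding.isOpenMap _ (Groth.Agent.DR39.isOpen_gorLocus hw), ⟨y, (key y).1 hx, rfl⟩⟩
  rintro _ ⟨p, hp, rfl⟩
  exact (key p).2 hp

end Groth.Agent.S3621
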