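import Groth.Statements.S3634
import Groth.Agent.An92.RHomSerre.Unbounded

set_option autoImplicit false
universe u
open CategoryTheory CategoryTheory.Limits AlgebraicGeometry
attribute [local instance] HasDerivedCategory.standard
open Dual3

namespace Groth.Agent.S3634

/-- Let X be a Noetherian scheme and i : Z → X a closed immersion. Assume the derived direct image Ri_*
exists and preserves quasi-coherence of cohomology sheaves (both known results), so that it
restricts to a functor D_QCoh(O_Z) → D_QCoh(O_X), and let a : D_QCoh(O_X) → D_QCoh(O_Z) be a right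
adjoint of this restricted functor. Assume further that i_* on O-modules has a right adjoint
Hom(O_Z, −) (the sections killed by the ideal of Z, viewed as an O_Z-module; this holds for a closed
immersion and is carried as a binder) and that the category of O_X-modules has enough injectives,
and let R Hom(O_Z, −) : D^+(O_X) → D^+(O_Z) be the right derived functor of Hom(O_Z, −). Then a and
R Hom(O_Z, −) are isomorphic as functors D^+_QCoh(O_X) → D(O_Z). (Stated for X Noetherian; the
published statement is more general.) -/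
theorem result (Z X : Scheme.{u}) [IsNoetherian X] (i : Z ⟶ X) [IsClosedImmersion i] [Dual3.HasHomO i] [EnoughInjectives X.Modules] [DCoh.HasRpush i] (hf : DCoh.RpushPreservesQCoh i) (a : DCoh.DQCoh X ⥤ DCoh.DQCoh Z) (adj : DCoh.RpushQ i hf ⊣ a) : Nonempty (Dual3.bddι X ⋙ a ⋙ ObjectProperty.ι _ ≅ Dual3.bddToPlus X ⋙ Dual3.RHomOPlus i ⋙ (DerivedCategory.Plus.ι : DerivedCategory.Plus Z.Modules ⥤ DCoh.D Z)) := by
  haveI := GSS45.ClosedHom.preservesFiniteLimits_pushforward i
  haveI := GSS45.ClosedHom.preservesFiniteColimits_pushforward i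
  let RF := CohDer42.RdAdj.rd (Dual3.homO i)
  let α := CohDer42.RdAdj.rdUnit (Dual3.homO i)
  obtain ⟨k⟩ := An92.RHomSerre.nonempty_plus_iso (Dual3.homO i) RF α
    (fun I hI => Mod48.isIso_unit_of_kInjective RF α CohDer42.RdAdj.enoughKInj I hI)
  obtain ⟨r⟩ := An92.RHomSerre.nonempty_Rpush_iso_pushD i
  let adj' : DCoh.Rpush i ⊣ RF :=
    (CohDer42.RdAdj.adjRF (Dual3.homOAdj i) RF α).ofNatIsoLeft r.symm
  haveI := An92.RHomSerre.preservesFiniteLimits_homO i
  have hq : ∀ K : (Dual3.IsBddBelowQ X).FullSubcategory,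
      DCoh.IsQCohD (RF.obj K.obj.obj) := fun K n => by
    let L := (Dual3.bddToPlus X).obj K
    have h := An92.RHomSerre.homology_RPlus_mem (Dual3.homO i) (An92.RHomSerre.isWeakSerre_qcoh Z) L
      (fun q m => An92.RHomSerre.isQCoh_rightDerived_homO i q _ (K.obj.property m)) n
    exact (An92.RHomSerre.isWeakSerre_qcoh Z).iso
      ((DerivedCategory.homologyFunctor Z.Modules n).mapIso (k.app L)) h
  let φ : Dual3.bddι X ⋙ a ⋙ ObjectProperty.ι _ ⟶
      Dual3.bddToPlus X ⋙ (DerivedCategory.Plus.ι : DerivedCategory.Plus X.Modules ⥤ DCoh.D X) ⋙ RF :=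
    { app := fun K => adj'.homEquiv _ _ (adj.counit.app K.obj).hom
      naturality := fun K L f => (adj'.homEquiv_naturality_left _ _).symm.trans
        ((congrArg (adj'.homEquiv _ _) (congrArg (·.hom) (adj.counit.naturality f.hom))).trans
          (adj'.homEquiv_naturality_right _ _)) }
  haveI : ∀ K, IsIso (φ.app K) := fun K => by
    let Q : DCoh.DQCoh Z := ⟨RF.obj K.obj.obj, hq K⟩
    let c : (DCoh.RpushQ i hf).obj Q ⟶ K.obj := ObjectProperty.homMk (adj'.counit.app K.obj.obj)
    let ψ := adj.homEquiv Q K.obj c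
    have hψ : (DCoh.RpushQ i hf).map ψ ≫ adj.counit.app K.obj = c :=
      (adj.homEquiv_counit _ _ ψ).symm.trans ((adj.homEquiv Q K.obj).symm_apply_apply c)
    have hφ : (DCoh.Rpush i).map (φ.app K) ≫ adj'.counit.app K.obj.obj = (adj.counit.app K.obj).hom :=
      (adj'.homEquiv_counit _ _ _).symm.trans ((adj'.homEquiv _ _).symm_apply_apply _)
    let χ : a.obj K.obj ⟶ Q := ObjectProperty.homMk (φ.app K)
    refine ⟨ψ.hom, ?_, ?_⟩
    · have : χ ≫ ψ = 𝟙 _ := by
        apply (adj.homEquiv _ _).symm.injective
        rw [adj.homEquiv_counit, adj.homEquiv_counit, CategoryTheory.Functor.map_id, Category.id_comp, CategoryTheory.Functor.map_comp,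
          Category.assoc, hψ]
        exact ObjectProperty.hom_ext _ hφ
      exact congrArg (·.hom) this
    · apply (adj'.homEquiv _ _).symm.injective
      refine (adj'.homEquiv_naturality_left_symm _ _).trans ?_
      refine (congrArg (_ ≫ ·) ((adj'.homEquiv _ _).symm_apply_apply _)).trans ?_
      rw [adj'.homEquiv_counit, CategoryTheory.Functor.map_id, Category.id_comp]
      exact congrArg (·.hom) hψ
  haveI : IsIso φ := NatIso.isIso_of_isIso_app φ
  exact ⟨asIso φ ≪≫ Functor.isoWhiskerLeft (Dual3.bddToPlus X) k.symm⟩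

end Groth.Agent.S3634
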