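import Groth.Statements.S3675
import Groth.Agent.DR39.CMLocusSch

set_option autoImplicit false
universe u
open CategoryTheory CategoryTheory.Limits AlgebraicGeometry
attribute [local instance] HasDerivedCategory.standard
open Dual3

namespace Groth.Agent.S3675

/-- Let X be a locally Noetherian scheme (exactness instances as in the definition of dualizing
complexes) and ω a coherent O_X-module such that ω[0] is a dualizing complex on X. Then X is
Cohen–Macaulay: every local ring O_{X,x} is a Cohen–Macaulay local ring. -/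
theorem result (X : Scheme.{u}) [IsLocallyNoetherian X] [∀ (U V : Scheme.{u}) (j : U ⟶ V) [IsOpenImmersion j], PreservesFiniteLimits (Scheme.Modules.restrictFunctor j)] [∀ (R : CommRingCat.{u}), PreservesFiniteLimits (tilde.functor R)] (ω : X.Modules) (hω : Coh.IsCoh ω) (hD : Dual2.IsDualizingSch X (DCoh.inD X ω)) (x : X) : LocCoh.IsCohenMacaulayLocalRing (X.presheaf.stalk x) := by
  obtain ⟨U, hU, hxU, -⟩ := exists_isAffineOpen_mem_and_subset (X := X) (x := x) (U := ⊤) trivial
  haveI : IsOpenImmersion hU.fromSpec := inferInstance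
  obtain ⟨(y : PrimeSpectrum Γ(X, U)), rfl⟩ : x ∈ Set.range hU.fromSpec := by
    rw [hU.range_fromSpec]
    exact hxU
  obtain ⟨w, hw, ⟨e⟩⟩ := hD Γ(X, U) hU.fromSpec
  rw [Groth.Agent.DR39.cm_stalk_iff (DCoh.inD X ω) Γ(X, U) hU.fromSpec y,
    Groth.Agent.DR39.cm_atPrime_iff_existsUnique hw y]
  obtain ⟨i, hi⟩ := Groth.Agent.DR39.exists_nontrivial_localized_HD hw y
  have h0 : ∀ k : ℤ, Nontrivial (LocalizedModule y.asIdeal.primeCompl (Dual.HD Γ(X, U) w k)) → k = 0 := by
    intro k hk
    by_contra hk0
    rw [← Groth.Agent.DR39.nontrivial_stalk_HD_iff (DCoh.inD X ω) Γ(X, U) hU.fromSpec w e y k] at hk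
    have hz : IsZero (DCoh.HD (DCoh.inD X ω) k) := IsZero.of_iso
      (HomologicalComplex.isZero_single_obj_homology _ _ _ _ hk0)
      ((DerivedCategory.homologyFunctorFactors X.Modules k).app
        ((HomologicalComplex.single _ (ComplexShape.up ℤ) 0).obj ω))
    haveI := AddCommGrpCat.subsingleton_of_isZero
      ((Scheme.Modules.toPresheaf X ⋙ TopCat.Presheaf.stalkFunctor AddCommGrpCat.{u} (hU.fromSpec y)).map_isZero hz)
    exact not_nontrivial_iff_subsingleton.2 this hk
  exact ⟨i, hi, fun j hj => (h0 j hj).trans (h0 i hi).symm⟩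

end Groth.Agent.S3675
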