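import Groth.Statements.S3678
import Groth.Agent.FEt83.ClopensOfFF
import Groth.Agent.FEt83.Connected
import Groth.Agent.Stein58.SteinFactor
import Groth.Agent.S3701
import Groth.Agent.S7179
import Groth.Agent.S0239

set_option autoImplicit false
universe u
open Pi1

namespace Groth.Agent.S3678

open AlgebraicGeometry CategoryTheory CategoryTheory.Limits in
set_option backward.isDefEq.respectTransparency.types false in
/-- Over a strictly henselian ring every geometric point gives an equivalence. -/
theorem isEquivalence_point (A : Type u) [CommRing A] [HenselianLocalRing A]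
    [IsSepClosed (IsLocalRing.ResidueField A)]
    (Ω : Type u) [Field Ω] [IsAlgClosed Ω] (t : Spec (CommRingCat.of Ω) ⟶ Spec (CommRingCat.of A)) :
    (FEt.restrict t).IsEquivalence := by
  have hX : ConnectedSpace (Spec (CommRingCat.of A)) := by
    have : PreconnectedSpace (PrimeSpectrum A) := by
      rw [preconnectedSpace_iff_clopen]
      intro D hD
      rcases em (IsLocalRing.closedPoint A ∈ D) with h | h
      · exact Or.inr (Set.eq_univ_of_forall fun p => (IsLocalRing.specializes_closedPoint p).mem_open hD.2 h)
      · exact Or.inl (Set.eq_empty_of_forall_notMem fun p hp =>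
          h ((IsLocalRing.specializes_closedPoint p).mem_closed hD.1 hp))
    exact ({ toNonempty := ⟨IsLocalRing.closedPoint A⟩ } : ConnectedSpace (PrimeSpectrum A))
  let g₀ : Spec (CommRingCat.of (IsLocalRing.ResidueField A)) ⟶ Spec (CommRingCat.of A) :=
    Spec.map (CommRingCat.ofHom (IsLocalRing.residue A))
  have : (FEt.restrict g₀).IsEquivalence := S0239.result A (IsLocalRing.maximalIdeal A)
  have h0 : (FEt83.fiberF g₀).IsEquivalence := by
    rw [FEt83.fiberF_eq]; infer_instance
  obtain ⟨e⟩ := FEt83.nonempty_fiberF_iso g₀ t
  have : (FEt83.fiberF t).IsEquivalence := Functor.isEquivalence_of_iso e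
  rw [FEt83.fiberF_eq] at this
  exact Functor.isEquivalence_of_comp_right (FEt.restrict t) (FEt83.pointEquiv Ω).functor


open AlgebraicGeometry CategoryTheory CategoryTheory.Limits in
/-- Let A be a strictly henselian local ring (a henselian local ring with separably closed residue
field), f : X → Spec A a morphism which is proper, flat and of finite presentation and all of whose
geometric fibres are connected and reduced, and t : Spec Ω → Spec A a geometric point, with Ω an
algebraically closed field. Then the functor restricting finite étale covers of X to the geometric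
fibre X_t = X ×_{Spec A} Spec Ω is fully faithful; equivalently, the specialisation homomorphism
from the fundamental group of X_t to that of X is surjective. (The published statement is the
surjectivity of this homomorphism; it is stated here as full faithfulness of the restriction
functor.) -/
theorem result (A : Type u) [CommRing A] [HenselianLocalRing A]
    [IsSepClosed (IsLocalRing.ResidueField A)] {X : Scheme.{u}} (f : X ⟶ Spec (CommRingCat.of A))
    [IsProper f] [Flat f] [LocallyOfFinitePresentation f]
    (hfib : ∀ (Ω : Type u) [Field Ω] [IsAlgClosed Ω] (s : Spec (CommRingCat.of Ω) ⟶ Spec (CommRingCat.of A)),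
      ConnectedSpace ↥(pullback f s) ∧ IsReduced (pullback f s))
    (Ω : Type u) [Field Ω] [IsAlgClosed Ω] (t : Spec (CommRingCat.of Ω) ⟶ Spec (CommRingCat.of A)) :
    (FEt.restrict (pullback.fst f t)).Full ∧ (FEt.restrict (pullback.fst f t)).Faithful := by
  obtain ⟨hmt, hlt⟩ : FEt83.MeetsClopens t ∧ FEt83.LiftsClopens t := by
    have := isEquivalence_point A Ω t
    exact ⟨FEt83.meetsClopens_of_faithful inferInstance, FEt83.liftsClopens_of_full inferInstance⟩
  have main : ∀ W : FEt.Cat X,
      (∀ C : Set W.left, IsClopen C → C.Nonempty → ∃ z, pullback.fst W.hom (pullback.fst f t) z ∈ C) ∧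
      ∀ C₀, IsClopen C₀ → ∃ C : Set W.left, IsClopen C ∧ pullback.fst W.hom (pullback.fst f t) ⁻¹' C = C₀ := by
    intro W
    let g : W.left ⟶ Spec (CommRingCat.of A) := W.hom ≫ f
    have : IsFinite W.hom := W.prop.1
    have : Etale W.hom := W.prop.2
    have : IsProper g := MorphismProperty.comp_mem (W := @IsProper) _ _ inferInstance inferInstance
    have : Flat g := MorphismProperty.comp_mem (W := @Flat) _ _ inferInstance inferInstance
    have : LocallyOfFinitePresentation g :=
      MorphismProperty.comp_mem (W := @LocallyOfFinitePresentation) _ _ inferInstance inferInstance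
    have hred : ∀ (K : Type u) [Field K] [IsAlgClosed K] (s : Spec (CommRingCat.of K) ⟶ Spec (CommRingCat.of A)),
        IsReduced (pullback g s) := fun K _ _ s => by
      let a : pullback g s ⟶ pullback f s := pullback.map g s f s W.hom (𝟙 _) (𝟙 _) (by simp [g]) (by simp)
      have hsq : IsPullback (pullback.fst g s) a W.hom (pullback.fst f s) := by
        refine IsPullback.of_bot ?_ (pullback.lift_fst _ _ _).symm (IsPullback.of_hasPullback f s)
        rw [pullback.lift_snd, Category.comp_id]
        exact IsPullback.of_hasPullback g s
      have : Etale a := MorphismProperty.of_isPullback hsq (inferInstanceAs (Etale W.hom))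
      have := (hfib K s).2
      exact S7179.result a
    obtain ⟨hfin, het⟩ := S3701.result g hred
    let h := g.fromNormalization
    let T : FEt.Cat (Spec (CommRingCat.of A)) := MorphismProperty.Over.mk ⊤ h ⟨hfin, het⟩
    let θ := g.toNormalization
    have : GeometricallyConnected θ := Stein58.geometricallyConnected_toNormalization g
    have : IsProper θ := Stein58.isProper_toNormalization g
    -- saturation of clopens
    have hsat : ∀ {P Q : Scheme.{u}} (p : P ⟶ Q) [GeometricallyConnected p] [IsProper p] (C : Set P),
        IsClopen C → p ⁻¹' (p '' C) = C ∧ IsClopen (p '' C) := by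
      intro P Q p _ _ C hC
      have hs : ∀ q, p ⁻¹' {q} ⊆ C ∨ p ⁻¹' {q} ⊆ Cᶜ := fun q => by
        by_contra hcon
        rw [not_or, Set.not_subset, Set.not_subset] at hcon
        obtain ⟨⟨a, ha, ha'⟩, b, hb, hb'⟩ := hcon
        exact ha' ((p.isConnected_preimage_singleton q).isPreconnected.subset_isClopen hC ⟨b, hb, not_not.1 hb'⟩ ha)
      have hc : (p '' C)ᶜ = p '' Cᶜ := by
        ext q
        refine ⟨fun h => ?_, ?_⟩
        · obtain ⟨w, hw⟩ := p.surjective q
          exact ⟨w, fun h' => h ⟨w, h', hw⟩, hw⟩
        · rintro ⟨w, hw, rfl⟩ ⟨v, hv, hvw⟩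
          rcases hs (p w) with h' | h'
          · exact hw (h' rfl)
          · exact h' hvw hv
      refine ⟨Set.ext fun w => ⟨?_, fun h => ⟨w, h, rfl⟩⟩, p.isClosedMap _ hC.1, ?_⟩
      · rintro ⟨v, hv, hvw⟩
        rcases hs (p w) with h' | h'
        · exact h' rfl
        · exact absurd hv (h' hvw)
      · rw [← isClosed_compl_iff, hc]
        exact p.isClosedMap _ hC.2.isClosed_compl
    -- the comparison with the fibre of the Stein factor
    let P := pullback W.hom (pullback.fst f t)
    let q : P ⟶ pullback h t := pullback.lift (pullback.fst W.hom (pullback.fst f t) ≫ θ)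
      (pullback.snd W.hom (pullback.fst f t) ≫ pullback.snd f t) (by
        rw [Category.assoc, Category.assoc, ← pullback.condition (f := f) (g := t)]
        simp only [h, θ, g, Scheme.Hom.toNormalization_fromNormalization]
        rw [pullback.condition_assoc])
    have hsqq : IsPullback (pullback.fst W.hom (pullback.fst f t)) q θ (pullback.fst h t) := by
      refine IsPullback.of_bot ?_ (pullback.lift_fst _ _ _).symm (IsPullback.of_hasPullback h t)
      rw [pullback.lift_snd, show θ ≫ h = W.hom ≫ f from g.toNormalization_fromNormalization]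
      exact (IsPullback.of_hasPullback W.hom (pullback.fst f t)).paste_vert (IsPullback.of_hasPullback f t)
    have : GeometricallyConnected q := MorphismProperty.of_isPullback hsqq ‹GeometricallyConnected θ›
    have : IsProper q := MorphismProperty.of_isPullback hsqq ‹IsProper θ›
    refine ⟨fun C hC hne => ?_, fun C₀ hC₀ => ?_⟩
    · obtain ⟨h1, h2⟩ := hsat θ C hC
      obtain ⟨u, hu⟩ := hmt T (θ '' C) h2 (hne.image _)
      obtain ⟨z, hz⟩ := q.surjective u
      refine ⟨z, h1.subset ?_⟩
      show θ (pullback.fst W.hom (pullback.fst f t) z) ∈ θ '' C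
      have : θ (pullback.fst W.hom (pullback.fst f t) z) = pullback.fst h t (q z) := congr($(hsqq.w) z)
      rw [this, hz]
      exact hu
    · obtain ⟨h1, h2⟩ := hsat q C₀ hC₀
      obtain ⟨D, hD, hDC⟩ := hlt T (q '' C₀) h2
      refine ⟨θ ⁻¹' D, hD.preimage θ.continuous, ?_⟩
      refine Eq.trans ?_ ((congrArg (fun s => q ⁻¹' s) hDC).trans h1)
      ext z
      show θ (pullback.fst W.hom (pullback.fst f t) z) ∈ D ↔ pullback.fst h t (q z) ∈ D
      have : θ (pullback.fst W.hom (pullback.fst f t) z) = pullback.fst h t (q z) := congr($(hsqq.w) z)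
      rw [this]
  have hm : FEt83.MeetsClopens (pullback.fst f t) := fun W => (main W).1
  exact ⟨FEt83.full_of_lifts hm (fun W => (main W).2), FEt83.faithful_of_meets hm⟩

end Groth.Agent.S3678
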