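import Groth.Statements.S3688
import Groth.Agent.Sga84.KummerConn
import Groth.Agent.Sga84.RelSNCChart
import Groth.Agent.Sga84.TameRoots
import Groth.Agent.Sga84.DvrFrac
import Mathlib.AlgebraicGeometry.Morphisms.Finite
import Mathlib.AlgebraicGeometry.Morphisms.Etale


set_option autoImplicit false
open CategoryTheory CategoryTheory.Limits AlgebraicGeometry
universe u
open SGA1t

namespace Groth.Agent.S3688

theorem appTop_fromSpecResidueField {X : Scheme.{u}} (x : X) :
    (X.fromSpecResidueField x).appTop =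
      X.presheaf.germ ⊤ x trivial ≫ X.residue x ≫ (Scheme.ΓSpecIso _).inv := by
  rw [Scheme.fromSpecResidueField, Scheme.Hom.comp_appTop, Scheme.fromSpecStalk_appTop]
  simp [Scheme.ΓSpecIso_inv_naturality]

/-- The residue fields of a base change of an open of an affine morphism are generated by sections. -/
theorem subfield_eq_top {A K : CommRingCat.{u}} (φK : A ⟶ K) (V : (Spec K).Opens) {Z : Scheme.{u}}
    (p : Z ⟶ Spec A) (j : (V : Scheme.{u}) ⟶ Spec A) (hj : j = V.ι ≫ Spec.map φK)
    (w : ↥(pullback j p)) (F0 : Subfield ((pullback j p).residueField w))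
    (h1 : ∀ a, (Spec.preimage ((pullback j p).fromSpecResidueField w ≫ pullback.fst j p ≫ V.ι)).hom a ∈ F0)
    (h2 : ∀ b, ((pullback.snd j p).residueFieldMap w).hom b ∈ F0) : F0 = ⊤ := by
  let W := pullback j p
  let ψ := Spec.preimage (W.fromSpecResidueField w ≫ pullback.fst j p ≫ V.ι)
  let inc : CommRingCat.of F0 ⟶ W.residueField w := CommRingCat.ofHom F0.subtype
  let ψ0 : K ⟶ CommRingCat.of F0 := CommRingCat.ofHom (ψ.hom.codRestrict F0 h1)
  let ρ0 : Z.residueField (pullback.snd j p w) ⟶ CommRingCat.of F0 :=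
    CommRingCat.ofHom (((pullback.snd j p).residueFieldMap w).hom.codRestrict F0 h2)
  have hψ : ψ0 ≫ inc = ψ := rfl
  have hρ : ρ0 ≫ inc = (pullback.snd j p).residueFieldMap w := rfl
  have hsurj : ∀ s : Spec (CommRingCat.of F0), ∃ t, Spec.map inc t = s := fun s =>
    ⟨(⟨⊥, Ideal.isPrime_bot⟩ : PrimeSpectrum (W.residueField w)), Subsingleton.elim (α := PrimeSpectrum F0) _ _⟩
  have hrange : Set.range (Spec.map ψ0) ⊆ Set.range V.ι := by
    rintro _ ⟨s, rfl⟩
    obtain ⟨t, rfl⟩ := hsurj s
    refine ⟨(W.fromSpecResidueField w ≫ pullback.fst j p) t, ?_⟩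
    rw [← Scheme.Hom.comp_apply, ← Scheme.Hom.comp_apply, ← Spec.map_comp, hψ, Spec.map_preimage, Category.assoc]
  let l1 := IsOpenImmersion.lift V.ι (Spec.map ψ0) hrange
  let l2 := Spec.map ρ0 ≫ Z.fromSpecResidueField (pullback.snd j p w)
  have e1 : Spec.map inc ≫ l1 = W.fromSpecResidueField w ≫ pullback.fst j p := by
    rw [← cancel_mono V.ι, Category.assoc, IsOpenImmersion.lift_fac, ← Spec.map_comp, hψ, Spec.map_preimage,
      Category.assoc]
  have e2 : Spec.map inc ≫ l2 = W.fromSpecResidueField w ≫ pullback.snd j p := by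
    rw [← Category.assoc, ← Spec.map_comp, hρ]
    exact Scheme.Hom.SpecMap_residueFieldMap_fromSpecResidueField _ _
  have hl : l1 ≫ j = l2 ≫ p := by
    obtain ⟨α, hα⟩ := Spec.map_surjective (l1 ≫ j)
    obtain ⟨β, hβ⟩ := Spec.map_surjective (l2 ≫ p)
    have h12 : Spec.map (α ≫ inc) = Spec.map (β ≫ inc) := by
      rw [Spec.map_comp, Spec.map_comp, hα, hβ, reassoc_of% e1, reassoc_of% e2, pullback.condition]
    rw [← hα, ← hβ]
    refine congrArg Spec.map (CommRingCat.hom_ext (RingHom.ext fun c => Subtype.ext ?_))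
    exact congrArg (fun m : A ⟶ W.residueField w => m.hom c) (Spec.map_injective h12)
  let l := pullback.lift l1 l2 hl
  have e : Spec.map inc ≫ l = W.fromSpecResidueField w := by
    apply pullback.hom_ext
    · rw [Category.assoc, pullback.lift_fst, e1]
    · rw [Category.assoc, pullback.lift_snd, e2]
  obtain ⟨⟨w', γ⟩, hl'⟩ : ∃ d : (Σ x, W.residueField x ⟶ CommRingCat.of F0), Spec.map d.2 ≫ W.fromSpecResidueField d.1 = l :=
    ⟨Scheme.SpecToEquivOfField F0 W l, (Scheme.SpecToEquivOfField F0 W).left_inv l⟩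
  obtain rfl : w' = w := by
    have h1 := congrArg (fun m : Spec (W.residueField w) ⟶ W => m (⟨⊥, Ideal.isPrime_bot⟩ : PrimeSpectrum _)) e
    simp only [← hl', Scheme.Hom.comp_apply, Scheme.fromSpecResidueField_apply] at h1
    exact h1
  rw [← hl', ← Category.assoc, ← Spec.map_comp] at e
  have hid : γ ≫ inc = 𝟙 _ := Spec.map_injective ((cancel_mono (W.fromSpecResidueField w')).mp
    (by rw [e, Spec.map_id, Category.id_comp]))
  refine top_le_iff.mp fun x _ => ?_
  rw [← show inc.hom (γ.hom x) = x from congrArg (fun m : W.residueField w' ⟶ W.residueField w' => m.hom x) hid]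
  exact (γ.hom x).2

/-- Let f : X -> S and let global sections φ_1, ..., φ_r of X cut out a strict normal crossings divisor
relative to S, with complement U. Let x be a point where some φ_i vanishes, A = O_{X,x}, X_1 = Spec
A, U_1 the inverse image of U, and for the indices i with φ_i(x) = 0 let n_i ≥ 1 be integers
invertible in the residue field of x. Let X'_1 = Spec A[T_i]/(T_i^{n_i} - φ_i) (those i only) and
U'_1 its part over U_1. Then U'_1 -> U_1 is finite etale, U'_1 is connected, and U'_1 is tamely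
ramified on X_1 along the divisor relatively to S. (The published statement also asserts smoothness
of the global Kummer scheme at the point over x; that first assertion is not stated here.) -/
theorem result {X S : Scheme.{u}} (f : X ⟶ S) {r : ℕ} (φ : Fin r → Γ(X, ⊤))
    (hD : SGA1t.IsRelSNC f φ) (x : X) (hx : Nonempty (SGA1t.vanishingAt φ x))
    (n : SGA1t.vanishingAt φ x → ℕ) (hn1 : ∀ i, 1 ≤ n i) (hnu : ∀ i, IsUnit ((n i : ℕ) : X.residueField x)) :
    letI A := X.presheaf.stalk x
    letI a : SGA1t.vanishingAt φ x → A := fun i => (X.presheaf.germ ⊤ x trivial).hom (φ i.1)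
    letI π : Spec (CommRingCat.of (SGA1t.kummer A a n)) ⟶ Spec (CommRingCat.of A) :=
      Spec.map (CommRingCat.ofHom (algebraMap A (SGA1t.kummer A a n)))
    letI φ₁ : Fin r → Γ(Spec (CommRingCat.of A), ⊤) := fun i => (X.fromSpecStalk x).appTop (φ i)
    IsFinite (π ∣_ SGA1t.compl φ₁) ∧ Etale (π ∣_ SGA1t.compl φ₁) ∧
      ConnectedSpace ↥(π ⁻¹ᵁ SGA1t.compl φ₁) ∧
      ∀ [hF : IsFinite (π ∣_ SGA1t.compl φ₁)] [hE : Etale (π ∣_ SGA1t.compl φ₁)],
        SGA1t.IsRelTame (X.fromSpecStalk x ≫ f) φ₁ (MorphismProperty.Over.mk ⊤ (π ∣_ SGA1t.compl φ₁) ⟨hF, hE⟩) := by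
  let A := X.presheaf.stalk x
  let a : SGA1t.vanishingAt φ x → A := fun i => (X.presheaf.germ ⊤ x trivial).hom (φ i.1)
  let π : Spec (CommRingCat.of (SGA1t.kummer A a n)) ⟶ Spec (CommRingCat.of A) :=
    Spec.map (CommRingCat.ofHom (algebraMap A (SGA1t.kummer A a n)))
  let φ₁ : Fin r → Γ(Spec (CommRingCat.of A), ⊤) := fun i => (X.fromSpecStalk x).appTop (φ i)
  show IsFinite (π ∣_ SGA1t.compl φ₁) ∧ Etale (π ∣_ SGA1t.compl φ₁) ∧
      ConnectedSpace ↥(π ⁻¹ᵁ SGA1t.compl φ₁) ∧
      ∀ [hF : IsFinite (π ∣_ SGA1t.compl φ₁)] [hE : Etale (π ∣_ SGA1t.compl φ₁)],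
        SGA1t.IsRelTame (X.fromSpecStalk x ≫ f) φ₁ (MorphismProperty.Over.mk ⊤ (π ∣_ SGA1t.compl φ₁) ⟨hF, hE⟩)
  let K : CommRingCat.{u} := CommRingCat.of (SGA1t.kummer A a n)
  have : Finite (SGA1t.vanishingAt φ x) := inferInstanceAs (Finite {i // _})
  let := Fintype.ofFinite (SGA1t.vanishingAt φ x)
  let F : A := ∏ i, (X.presheaf.germ ⊤ x trivial).hom (φ i)
  have haF : ∀ i, a i ∣ F := fun i => Finset.dvd_prod_of_mem _ (Finset.mem_univ i.1)
  have ha : ∀ i, a i ∈ IsLocalRing.maximalIdeal A := fun i => fun hu => i.2 ((X.mem_basicOpen (φ i.1) x trivial).mpr hu)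
  have hnA : ∀ i, IsUnit ((n i : ℕ) : A) := fun i => by
    refine (isUnit_map_iff (IsLocalRing.residue A) _).mp ?_
    rw [map_natCast]
    exact hnu i
  have hcompl : SGA1t.compl φ₁ = PrimeSpectrum.basicOpen F := by
    have he : (Scheme.ΓSpecIso A).hom (∏ i, φ₁ i) = F := by
      simp only [φ₁, F, map_prod, Scheme.fromSpecStalk_appTop]
      exact Finset.prod_congr rfl fun i _ => (Scheme.ΓSpecIso A).inv_hom_id_apply _
    rw [← he]
    exact basicOpen_eq_of_affine' _
  have hV : π ⁻¹ᵁ SGA1t.compl φ₁ = PrimeSpectrum.basicOpen (algebraMap A K F) := by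
    rw [hcompl]
    exact TopologicalSpace.Opens.ext rfl
  have : IsFinite π := by
    refine (IsFinite.SpecMap_iff _).mpr ?_
    exact RingHom.finite_algebraMap.mpr (Groth.Agent.KummerAlg84.finite hn1)
  let L := Localization.Away (algebraMap A K F)
  let jL : Spec (CommRingCat.of L) ⟶ Spec K := Spec.map (CommRingCat.ofHom (algebraMap K L))
  have : IsOpenImmersion jL := IsOpenImmersion.of_isLocalization (algebraMap A K F)
  have hrange : Set.range jL = Set.range (π ⁻¹ᵁ SGA1t.compl φ₁).ι := by
    rw [Scheme.Opens.range_ι, hV]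
    exact PrimeSpectrum.localization_away_comap_range L _
  have hetL : Etale (jL ≫ π) := by
    rw [← Spec.map_comp]
    refine (HasRingHomProperty.Spec_iff (P := @Etale)).mpr ?_
    show ((algebraMap K L).comp (algebraMap A K)).Etale
    rw [← IsScalarTower.algebraMap_eq]
    exact RingHom.etale_algebraMap.mpr (Groth.Agent.KummerAlg84.etale_away hn1 hnA F haF)
  have hιπ : Etale ((π ⁻¹ᵁ SGA1t.compl φ₁).ι ≫ π) := by
    rw [← IsOpenImmersion.isoOfRangeEq_inv_fac jL (π ⁻¹ᵁ SGA1t.compl φ₁).ι hrange, Category.assoc]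
    infer_instance
  refine ⟨MorphismProperty.of_isPullback (isPullback_morphismRestrict π (SGA1t.compl φ₁)).flip inferInstance,
    ?_, ?_, ?_⟩
  · rw [← morphismRestrict_ι] at hιπ
    exact MorphismProperty.of_postcomp (W := @Etale) (W' := @Etale) _ (SGA1t.compl φ₁).ι inferInstance hιπ
  · obtain ⟨W, hxW, d, v, e, he, het, hv⟩ := hD x hx
    obtain ⟨_, ⟨U, hU, rfl⟩, hxU, -⟩ :=
      S.isBasis_affineOpens.exists_subset_of_mem_open (Set.mem_univ (f x)) isOpen_univ
    obtain ⟨V, hVa, hxV, χ₀, hχ₀, -, hX⟩ := Groth.Agent.RelSNCChart84.exists_etale_chart f W v x hxW U hU hxU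
    let : Algebra Γ(X, V) A := (X.presheaf.germ V x hxV).hom.toAlgebra
    have : IsLocalization.AtPrime A (hVa.primeIdealOf ⟨x, hxV⟩).asIdeal := hVa.isLocalization_stalk ⟨x, hxV⟩
    have hconn := Groth.Agent.KummerConn84.connectedSpace_kummer χ₀ hχ₀
      (hVa.primeIdealOf ⟨x, hxV⟩).asIdeal.primeCompl (fun i => ULift.up (e i)) (ULift.up_injective.comp he) a
      (fun i => hX _ _ (hv i)) ha n hn1
    have heq : PrimeSpectrum.basicOpen (algebraMap A K F) =
        PrimeSpectrum.basicOpen (∏ i, Groth.Agent.KummerAlg84.T a n i : K) := by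
      refine TopologicalSpace.Opens.ext (Set.ext fun q => ?_)
      simp only [SetLike.mem_coe, PrimeSpectrum.mem_basicOpen]
      have := q.isPrime
      simp only [F, map_prod, Ideal.IsPrime.prod_mem_iff, Finset.mem_univ, true_and, not_exists]
      refine ⟨fun h i hi => h i.1 ?_, fun h i hi => ?_⟩
      · exact (Groth.Agent.KummerAlg84.T_pow a n i) ▸ Ideal.pow_mem_of_mem _ hi _ (hn1 i)
      · by_cases hvan : x ∈ X.basicOpen (φ i)
        · exact q.isPrime.ne_top (Ideal.eq_top_of_isUnit_mem _ hi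
            (((X.mem_basicOpen (φ i) x trivial).mp hvan).map (algebraMap A K)))
        · exact h ⟨i, hvan⟩ (q.isPrime.mem_of_pow_mem _ ((Groth.Agent.KummerAlg84.T_pow a n ⟨i, hvan⟩).symm ▸ hi))
    rw [hV, heq]
    exact hconn
  · intro hF hE Ω _ _ σ _ y hdom hdvr w h hne
    let Z := pullback (X.fromSpecStalk x ≫ f) σ
    let p : Z ⟶ Spec A := pullback.fst (X.fromSpecStalk x ≫ f) σ
    let U1 := SGA1t.compl φ₁
    let V := π ⁻¹ᵁ U1
    let j : (V : Scheme.{u}) ⟶ Spec A := (π ∣_ U1) ≫ U1.ι
    let q : pullback j p ⟶ Z := pullback.snd j p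
    let L' := (pullback j p).residueField w
    let ψ : K ⟶ L' := Spec.preimage ((pullback j p).fromSpecResidueField w ≫ pullback.fst j p ≫ V.ι)
    let res := (Z.residue (q w)).hom.comp (Z.presheaf.stalkSpecializes h).hom
    let g := (q.residueFieldMap w).hom.comp res
    let θ : A ⟶ Z.presheaf.stalk y := (Scheme.ΓSpecIso A).inv ≫ p.appTop ≫ Z.presheaf.germ ⊤ y trivial
    have hθ : ∀ b, ψ.hom (algebraMap A K b) = g (θ.hom b) := by
      intro b
      have key : CommRingCat.ofHom (algebraMap A K) ≫ ψ =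
          (Scheme.ΓSpecIso A).inv ≫ p.appTop ≫ Z.presheaf.germ ⊤ (q w) trivial ≫ Z.residue (q w) ≫ q.residueFieldMap w := by
        refine Spec.map_injective ?_
        have e1 : Spec.map (CommRingCat.ofHom (algebraMap A K) ≫ ψ) =
            Spec.map (q.residueFieldMap w) ≫ Z.fromSpecResidueField (q w) ≫ p := by
          rw [Spec.map_comp, Spec.map_preimage, Category.assoc, Category.assoc]
          show _ ≫ _ ≫ V.ι ≫ π = _
          rw [← morphismRestrict_ι, pullback.condition, Scheme.Hom.SpecMap_residueFieldMap_fromSpecResidueField_assoc]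
        have e2 : Spec.map ((Scheme.ΓSpecIso A).inv ≫ p.appTop ≫ Z.presheaf.germ ⊤ (q w) trivial ≫ Z.residue (q w)) =
            Z.fromSpecResidueField (q w) ≫ p := by
          refine ext_of_isAffine ?_
          rw [Scheme.Hom.comp_appTop, appTop_fromSpecResidueField, ← cancel_mono (Scheme.ΓSpecIso _).hom,
            Scheme.ΓSpecIso_naturality]
          simp
        rw [e1, ← e2, ← Spec.map_comp]
        simp only [Category.assoc]
      have := congrArg (fun m : A ⟶ L' => m.hom b) key
      simp only [CommRingCat.hom_comp, RingHom.comp_apply, CommRingCat.hom_ofHom] at this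
      rw [this]
      simp only [g, res, θ, CommRingCat.hom_comp, RingHom.comp_apply]
      congr 2
      exact (Z.presheaf.germ_stalkSpecializes_apply _ h _).symm
    let : Algebra (Z.presheaf.stalk y) (Z.residueField (q w)) := res.toAlgebra
    have hfrac : IsFractionRing (Z.presheaf.stalk y) (Z.residueField (q w)) :=
      Groth.Agent.DvrFrac84.isFractionRing_residueField h hne
    have hginj : Function.Injective g :=
      (q.residueFieldMap w).hom.injective.comp (IsFractionRing.injective (Z.presheaf.stalk y) (Z.residueField (q w)))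
    have hF : ψ.hom (algebraMap A K F) ≠ 0 := by
      intro h0
      let v : (V : Scheme.{u}) := pullback.fst j p w
      have hv : (V.ι v : Spec K) ∈ PrimeSpectrum.basicOpen (algebraMap A K F) := hV ▸ v.2
      have hval : V.ι v = Spec.map ψ (⟨⊥, Ideal.isPrime_bot⟩ : PrimeSpectrum L') := by
        rw [Spec.map_preimage, Scheme.Hom.comp_apply, Scheme.Hom.comp_apply, Scheme.fromSpecResidueField_apply]
      rw [hval] at hv
      exact hv (Ideal.mem_bot.mpr h0)
    refine Groth.Agent.TameRoots84.isTamelyRamified_of_roots g hginj (fun i => θ.hom (a i))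
      (fun i h0 => hF ?_) n hn1 (fun i => ?_) (fun i => ψ.hom (Groth.Agent.KummerAlg84.T a n i)) (fun i => ?_) ?_
    · obtain ⟨c, hc⟩ := haF i
      rw [hθ, hc, map_mul, h0, zero_mul, map_zero]
    · exact map_natCast θ.hom (n i) ▸ (hnA i).map θ.hom
    · exact ((map_pow _ _ _).symm.trans (congrArg ψ.hom (Groth.Agent.KummerAlg84.T_pow a n i))).trans (hθ (a i))
    · refine subfield_eq_top (CommRingCat.ofHom (algebraMap A K)) V p j (morphismRestrict_ι π U1) w _ ?_ ?_
      · intro k
        obtain ⟨k, rfl⟩ := Ideal.Quotient.mk_surjective k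
        induction k using MvPolynomial.induction_on with
        | C c => exact Subfield.subset_closure (Or.inr ⟨θ.hom c, (hθ c).symm⟩)
        | add k l hk hl =>
          rw [map_add, map_add]
          exact add_mem hk hl
        | mul_X k i hk =>
          rw [map_mul, map_mul]
          exact mul_mem hk (Subfield.subset_closure (Or.inl ⟨i, rfl⟩))
      · intro b
        obtain ⟨c, d, -, rfl⟩ := IsFractionRing.div_surjective (A := Z.presheaf.stalk y) b
        rw [map_div₀]
        exact div_mem (Subfield.subset_closure (Or.inr ⟨c, rfl⟩)) (Subfield.subset_closure (Or.inr ⟨d, rfl⟩))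

end Groth.Agent.S3688
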