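import Groth.Statements.S3692
import Groth.Agent.Sga84.KummerConn
import Groth.Agent.Sga84.KummerTwist
import Groth.Agent.Sga84.RelSNCChart
import Groth.Agent.Sga84.RootsUnity
import Groth.Agent.Sga84.RigidUnram
import Groth.Agent.S12237
import Mathlib.FieldTheory.IsAlgClosed.AlgebraicClosure


set_option autoImplicit false
open CategoryTheory CategoryTheory.Limits AlgebraicGeometry
universe u
open SGA1t

namespace Groth.Agent.S3692

/-- Structure of the Kummer covers along a relative normal crossings divisor: let f : X → S be a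
morphism and φ_1, …, φ_r global functions on X cutting out a strict normal crossings divisor
relative to S, with complement U; let x be a point of the divisor, R a strict henselization of
O_{X,x}, U_1 the complement of the divisor in Spec R, and, for each index i with φ_i(x) = 0, an
integer n_i ≥ 1 invertible in the residue field of x. Let U'_1 be the part lying over U_1 of the
spectrum of the Kummer algebra R[T_i]/(T_i^{n_i} − φ_i) (one variable for each such i). Then,
granted that U'_1 → U_1 is finite étale, U'_1 is a Galois cover of U_1, and there is a group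
isomorphism from the product over i of the groups of n_i-th roots of unity in R onto the group of
U_1-automorphisms of U'_1 that sends a family ζ = (ζ_i) to the automorphism induced by T_i ↦ ζ_i
T_i. -/
theorem result {X S : Scheme.{u}} (f : X ⟶ S) {r : ℕ} (φ : Fin r → Γ(X, ⊤))
    (hD : SGA1t.IsRelSNC f φ) (x : X) (hx : Nonempty (SGA1t.vanishingAt φ x))
    (R : Type u) [CommRing R] [IsLocalRing R] [Algebra (X.presheaf.stalk x) R]
    [IsLocalHom (algebraMap (X.presheaf.stalk x) R)] [Hensel.IsStrictHenselization (X.presheaf.stalk x) R]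
    (n : SGA1t.vanishingAt φ x → ℕ) (hn1 : ∀ i, 1 ≤ n i) (hnu : ∀ i, IsUnit ((n i : ℕ) : X.residueField x)) :
    letI a : SGA1t.vanishingAt φ x → R := fun i =>
      algebraMap (X.presheaf.stalk x) R ((X.presheaf.germ ⊤ x trivial).hom (φ i.1))
    letI π : Spec (CommRingCat.of (SGA1t.kummer R a n)) ⟶ Spec (CommRingCat.of R) :=
      Spec.map (CommRingCat.ofHom (algebraMap R (SGA1t.kummer R a n)))
    letI U₁ := SGA1t.compl (fun i => (Hens2.specOf X x R).appTop (φ i))
    ∀ [hF : IsFinite (π ∣_ U₁)] [hE : Etale (π ∣_ U₁)],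
      PiSp.IsGaloisCover (MorphismProperty.Over.mk ⊤ (π ∣_ U₁) ⟨hF, hE⟩) ∧
      ∃ θ : ((i : SGA1t.vanishingAt φ x) → ↥(rootsOfUnity (n i) R)) ≃*
          Aut (MorphismProperty.Over.mk ⊤ (π ∣_ U₁) ⟨hF, hE⟩ : FEt.Cat (U₁ : Scheme.{u})),
        ∀ ζ, (θ ζ).hom.left ≫ (π ⁻¹ᵁ U₁).ι =
          (π ⁻¹ᵁ U₁).ι ≫ Spec.map (CommRingCat.ofHom (SGA1t.kummerTwist R a n ζ)) := by
  let A := X.presheaf.stalk x
  let a : SGA1t.vanishingAt φ x → R := fun i =>
    algebraMap A R ((X.presheaf.germ ⊤ x trivial).hom (φ i.1))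
  let π : Spec (CommRingCat.of (SGA1t.kummer R a n)) ⟶ Spec (CommRingCat.of R) :=
    Spec.map (CommRingCat.ofHom (algebraMap R (SGA1t.kummer R a n)))
  let U₁ := SGA1t.compl (fun i => (Hens2.specOf X x R).appTop (φ i))
  show ∀ [hF : IsFinite (π ∣_ U₁)] [hE : Etale (π ∣_ U₁)],
      PiSp.IsGaloisCover (MorphismProperty.Over.mk ⊤ (π ∣_ U₁) ⟨hF, hE⟩) ∧
      ∃ θ : ((i : SGA1t.vanishingAt φ x) → ↥(rootsOfUnity (n i) R)) ≃*
          Aut (MorphismProperty.Over.mk ⊤ (π ∣_ U₁) ⟨hF, hE⟩ : FEt.Cat (U₁ : Scheme.{u})),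
        ∀ ζ, (θ ζ).hom.left ≫ (π ⁻¹ᵁ U₁).ι =
          (π ⁻¹ᵁ U₁).ι ≫ Spec.map (CommRingCat.ofHom (SGA1t.kummerTwist R a n ζ))
  intro hF hE
  let K : CommRingCat.{u} := CommRingCat.of (SGA1t.kummer R a n)
  have : Finite (SGA1t.vanishingAt φ x) := inferInstanceAs (Finite {i // _})
  let := Fintype.ofFinite (SGA1t.vanishingAt φ x)
  have hH : HenselianLocalRing R := Hensel.IsStrictHenselization.henselian (R := A)
  have hsc : IsSepClosure (IsLocalRing.ResidueField A) (IsLocalRing.ResidueField R) :=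
    Hensel.IsStrictHenselization.isSepClosure
  have hsep : IsSepClosed (IsLocalRing.ResidueField R) := hsc.sep_closed
  have hnR : ∀ i, IsUnit ((n i : ℕ) : R) := fun i => by
    refine map_natCast (algebraMap A R) (n i) ▸ IsUnit.map (algebraMap A R) ?_
    refine (isUnit_map_iff (IsLocalRing.residue A) _).mp ?_
    rw [map_natCast]
    exact hnu i
  have ha : ∀ i, a i ∈ IsLocalRing.maximalIdeal R := fun i => fun hu =>
    i.2 ((X.mem_basicOpen (φ i.1) x trivial).mpr ((isUnit_map_iff (algebraMap A R) _).mp hu))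
  let v : Fin r → R := fun k => algebraMap A R ((X.presheaf.germ ⊤ x trivial).hom (φ k))
  have hU : U₁ = PrimeSpectrum.basicOpen (∏ k, v k) := by
    have he : (Scheme.ΓSpecIso (CommRingCat.of R)).hom (∏ i, (Hens2.specOf X x R).appTop (φ i)) = ∏ k, v k := by
      rw [map_prod]
      refine Finset.prod_congr rfl fun i _ => ?_
      rw [Scheme.Hom.comp_appTop, CommRingCat.comp_apply, ← CommRingCat.comp_apply
        (f := (Spec.map _).appTop), Scheme.ΓSpecIso_naturality, CommRingCat.comp_apply]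
      refine congrArg (algebraMap A R) ?_
      rw [Scheme.fromSpecStalk_appTop]
      exact (Scheme.ΓSpecIso A).inv_hom_id_apply _
    rw [← he]
    exact basicOpen_eq_of_affine' _
  let D := π ⁻¹ᵁ U₁
  have hD' : D = PrimeSpectrum.basicOpen (∏ i, Groth.Agent.KummerAlg84.T a n i : K) := by
    rw [← Groth.Agent.KummerTwist84.basicOpen_eq a n v (fun i => i.1) (fun i => rfl) (fun k hk => ?_) hn1]
    · show π ⁻¹ᵁ U₁ = _
      rw [hU]
      exact TopologicalSpace.Opens.ext rfl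
    · refine IsUnit.map _ ((X.mem_basicOpen (φ k) x trivial).mp ?_)
      by_contra hk'
      exact hk ⟨k, hk'⟩ rfl
  have hconn : ConnectedSpace D := by
    obtain ⟨W, hxW, d, vv, e, he, het, hv⟩ := hD x hx
    obtain ⟨_, ⟨U, hUa, rfl⟩, hxU, -⟩ :=
      S.isBasis_affineOpens.exists_subset_of_mem_open (Set.mem_univ (f x)) isOpen_univ
    obtain ⟨V, hVa, hxV, χ₀, hχ₀, -, hX⟩ :=
      Groth.Agent.RelSNCChart84.exists_etale_chart f W vv x hxW U hUa hxU
    let P := MvPolynomial (ULift.{u} (Fin d)) Γ(S, U)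
    let : Algebra Γ(X, V) A := (X.presheaf.germ V x hxV).hom.toAlgebra
    have : IsLocalization.AtPrime A (hVa.primeIdealOf ⟨x, hxV⟩).asIdeal := hVa.isLocalization_stalk ⟨x, hxV⟩
    let : Algebra P Γ(X, V) := χ₀.toAlgebra
    have : Algebra.Etale P Γ(X, V) := hχ₀
    let : Algebra P A := ((algebraMap Γ(X, V) A).comp χ₀).toAlgebra
    have : IsScalarTower P Γ(X, V) A := .of_algebraMap_eq fun _ => rfl
    let : Algebra P R := ((algebraMap A R).comp (algebraMap P A)).toAlgebra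
    have : IsScalarTower P A R := .of_algebraMap_eq fun _ => rfl
    have hc := Groth.Agent.KummerConn84.connectedSpace_kummer (R := Γ(S, U)) (J := ULift.{u} (Fin d)) (A := R)
      (Groth.Agent.KummerConn84.isIndEtale_chart (B := Γ(X, V)) (hVa.primeIdealOf ⟨x, hxV⟩).asIdeal.primeCompl
        (Groth.Agent.S12237.result A R))
      (fun i => ULift.up (e i)) (ULift.up_injective.comp he) a
      (fun i => congrArg (algebraMap A R) (hX _ _ (hv i))) ha n hn1
    rw [hD']
    exact hc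
  let V₁ : FEt.Cat (U₁ : Scheme.{u}) := MorphismProperty.Over.mk ⊤ (π ∣_ U₁) ⟨hF, hE⟩
  let Z := (i : SGA1t.vanishingAt φ x) → ↥(rootsOfUnity (n i) R)
  let tw : Z → (Spec K ⟶ Spec K) := fun ζ => Spec.map (CommRingCat.ofHom (SGA1t.kummerTwist R a n ζ))
  have htw : ∀ ζ, tw ζ ≫ π = π := fun ζ => by
    refine (Spec.map_comp _ _).symm.trans (congrArg Spec.map (CommRingCat.hom_ext ?_))
    exact Groth.Agent.KummerTwist84.twist_comp_algebraMap a n ζ
  have hle : ∀ ζ, D ≤ tw ζ ⁻¹ᵁ D := fun ζ p hp => by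
    show π (tw ζ p) ∈ U₁
    rw [← Scheme.Hom.comp_apply, htw]
    exact hp
  let l : Z → ((D : Scheme.{u}) ⟶ D) := fun ζ => (tw ζ).resLE D D (hle ζ)
  have hl : ∀ ζ, l ζ ≫ D.ι = D.ι ≫ tw ζ := fun ζ => Scheme.Hom.resLE_comp_ι _ _
  have hlπ : ∀ ζ, l ζ ≫ π ∣_ U₁ = π ∣_ U₁ := fun ζ => by
    rw [← cancel_mono U₁.ι, Category.assoc, morphismRestrict_ι, reassoc_of% (hl ζ), htw]
  have hlmul : ∀ ζ η, l (ζ * η) = l ζ ≫ l η := fun ζ η => by
    rw [← cancel_mono D.ι, Category.assoc, hl, hl, ← Category.assoc, hl, Category.assoc, ← Spec.map_comp]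
    refine congrArg (D.ι ≫ ·) (congrArg Spec.map (CommRingCat.hom_ext ?_))
    exact Groth.Agent.KummerTwist84.twist_mul a n ζ η
  have hl1 : l 1 = 𝟙 _ := by
    rw [← cancel_mono D.ι, hl, Category.id_comp]
    simp only [tw, Groth.Agent.KummerTwist84.twist_one]
    exact (congrArg (D.ι ≫ ·) (Spec.map_id K)).trans (Category.comp_id _)
  let θ₀ : Z →* Aut V₁ :=
    { toFun := fun ζ =>
        { hom := MorphismProperty.Over.homMk (l ζ) (hlπ ζ) trivial
          inv := MorphismProperty.Over.homMk (l ζ⁻¹) (hlπ ζ⁻¹) trivial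
          hom_inv_id := MorphismProperty.Over.Hom.ext (by
            show l ζ ≫ l ζ⁻¹ = 𝟙 _
            rw [← hlmul, mul_inv_cancel, hl1])
          inv_hom_id := MorphismProperty.Over.Hom.ext (by
            show l ζ⁻¹ ≫ l ζ = 𝟙 _
            rw [← hlmul, inv_mul_cancel, hl1]) }
      map_one' := Iso.ext (MorphismProperty.Over.Hom.ext hl1)
      map_mul' := fun ζ η => Iso.ext (MorphismProperty.Over.Hom.ext (by
        show l (ζ * η) = l η ≫ l ζ
        rw [mul_comm, hlmul])) }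
  -- the coordinates of a point
  have hval : ∀ (Ω : Type u) [Field Ω] (s : Spec (CommRingCat.of Ω) ⟶ (D : Scheme.{u})) (i : SGA1t.vanishingAt φ x),
      (Spec.preimage (s ≫ D.ι)).hom (Groth.Agent.KummerAlg84.T a n i) ≠ 0 := by
    intro Ω _ s i h0
    let p0 : Spec (CommRingCat.of Ω) := (⟨⊥, Ideal.isPrime_bot⟩ : PrimeSpectrum Ω)
    have hmem : (s ≫ D.ι) p0 ∈ PrimeSpectrum.basicOpen (∏ i, Groth.Agent.KummerAlg84.T a n i : K) := by
      rw [← hD', Scheme.Hom.comp_apply]
      exact (s p0).2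
    rw [← Spec.map_preimage (s ≫ D.ι)] at hmem
    refine hmem (Ideal.mem_bot.mpr ?_)
    rw [map_prod]
    exact Finset.prod_eq_zero (Finset.mem_univ i) h0
  have hpre : ∀ (Ω : Type u) [Field Ω] (s : Spec (CommRingCat.of Ω) ⟶ (D : Scheme.{u})) (c : R),
      (Spec.preimage (s ≫ D.ι)).hom (algebraMap R K c) = (Spec.preimage ((s ≫ π ∣_ U₁) ≫ U₁.ι)).hom c := by
    intro Ω _ s c
    have he : CommRingCat.ofHom (algebraMap R K) ≫ Spec.preimage (s ≫ D.ι) = Spec.preimage ((s ≫ π ∣_ U₁) ≫ U₁.ι) :=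
      Spec.map_injective (by
        rw [Spec.map_comp, Spec.map_preimage, Spec.map_preimage, Category.assoc, Category.assoc, morphismRestrict_ι])
    exact congrArg (fun m : CommRingCat.of R ⟶ CommRingCat.of Ω => m.hom c) he
  have htwpre : ∀ (Ω : Type u) [Field Ω] (s : Spec (CommRingCat.of Ω) ⟶ (D : Scheme.{u})) (ζ : Z),
      Spec.preimage ((s ≫ l ζ) ≫ D.ι) =
        CommRingCat.ofHom (SGA1t.kummerTwist R a n ζ) ≫ Spec.preimage (s ≫ D.ι) := by
    intro Ω _ s ζ
    refine Spec.map_injective ?_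
    rw [Spec.map_preimage, Spec.map_comp, Spec.map_preimage, Category.assoc, Category.assoc, hl]
  have htrans : ∀ (Ω : Type u) [Field Ω] (s t : Spec (CommRingCat.of Ω) ⟶ (D : Scheme.{u})),
      s ≫ π ∣_ U₁ = t ≫ π ∣_ U₁ → ∃ ζ, s ≫ l ζ = t := by
    intro Ω _ s t hst
    let g := (Spec.preimage ((s ≫ π ∣_ U₁) ≫ U₁.ι)).hom
    let ψs := (Spec.preimage (s ≫ D.ι)).hom
    let ψt := (Spec.preimage (t ≫ D.ι)).hom
    have hgt : ∀ c, ψt (algebraMap R K c) = g c := fun c => by
      simp only [ψt, g, hpre, hst]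
    have hratio : ∀ i, ∃ w : rootsOfUnity (n i) R,
        g ((w : Rˣ) : R) * ψs (Groth.Agent.KummerAlg84.T a n i) = ψt (Groth.Agent.KummerAlg84.T a n i) := by
      intro i
      have hpow : (ψt (Groth.Agent.KummerAlg84.T a n i) / ψs (Groth.Agent.KummerAlg84.T a n i)) ^ n i = 1 := by
        have h1 : ψs (Groth.Agent.KummerAlg84.T a n i) ^ n i = g (a i) :=
          ((map_pow _ _ _).symm.trans (congrArg ψs (Groth.Agent.KummerAlg84.T_pow a n i))).trans (hpre Ω s (a i))
        have h2 : ψt (Groth.Agent.KummerAlg84.T a n i) ^ n i = g (a i) :=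
          ((map_pow _ _ _).symm.trans (congrArg ψt (Groth.Agent.KummerAlg84.T_pow a n i))).trans (hgt (a i))
        rw [div_pow, h1, h2, div_self]
        rw [← h1]
        exact pow_ne_zero _ (hval Ω s i)
      obtain ⟨w, hw, hgw⟩ := Groth.Agent.RootsUnity84.exists_map_eq g (hnR i) hpow
      have : NeZero (n i) := ⟨by have := hn1 i; omega⟩
      refine ⟨rootsOfUnity.mkOfPowEq w hw, ?_⟩
      rw [rootsOfUnity.coe_mkOfPowEq, hgw, div_mul_cancel₀ _ (hval Ω s i)]
    choose ζ hζ using hratio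
    refine ⟨ζ, ?_⟩
    rw [← cancel_mono D.ι, ← Spec.map_preimage ((s ≫ l ζ) ≫ D.ι), ← Spec.map_preimage (t ≫ D.ι), htwpre]
    refine congrArg Spec.map (CommRingCat.hom_ext (Groth.Agent.KummerTwist84.hom_ext a n (fun c => ?_) fun i => ?_))
    · show ψs (SGA1t.kummerTwist R a n ζ (algebraMap R K c)) = ψt (algebraMap R K c)
      rw [Groth.Agent.KummerTwist84.twist_algebraMap, hgt]
      exact hpre Ω s c
    · show ψs (SGA1t.kummerTwist R a n ζ (Groth.Agent.KummerAlg84.T a n i)) = ψt _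
      rw [Groth.Agent.KummerTwist84.twist_T, map_mul]
      exact (congrArg (· * ψs (Groth.Agent.KummerAlg84.T a n i)) (hpre Ω s _)).trans (hζ i)
  have : Nonempty D := inferInstance
  obtain ⟨p⟩ := this
  let Ω₀ := AlgebraicClosure ((D : Scheme.{u}).residueField p)
  let s₀ : Spec (CommRingCat.of Ω₀) ⟶ (D : Scheme.{u}) :=
    Spec.map (CommRingCat.ofHom (algebraMap ((D : Scheme.{u}).residueField p) Ω₀)) ≫ (D : Scheme.{u}).fromSpecResidueField p
  have hinj : Function.Injective θ₀ := by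
    refine (injective_iff_map_eq_one θ₀).mpr fun ζ hζ => funext fun i => ?_
    have h1 : l ζ = 𝟙 _ := congrArg (fun e : Aut V₁ => e.hom.left) hζ
    have h2 := htwpre Ω₀ s₀ ζ
    rw [h1, Category.comp_id] at h2
    have h3 := congrArg (fun m : K ⟶ CommRingCat.of Ω₀ => m.hom (Groth.Agent.KummerAlg84.T a n i)) h2
    simp only [CommRingCat.hom_comp, CommRingCat.hom_ofHom, RingHom.comp_apply] at h3
    erw [Groth.Agent.KummerTwist84.twist_T, map_mul] at h3
    refine Subtype.ext (Units.ext (Groth.Agent.RootsUnity84.eq_one_of_map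
      ((Spec.preimage (s₀ ≫ D.ι)).hom.comp (algebraMap R K)) (hnR i) ?_ ?_))
    · exact congrArg Units.val ((mem_rootsOfUnity (n i) (ζ i : Rˣ)).mp (ζ i).2)
    · exact mul_right_cancel₀ (hval Ω₀ s₀ i) (h3.symm.trans (one_mul _).symm)
  have hsurj : Function.Surjective θ₀ := by
    intro σ
    obtain ⟨ζ, hζ⟩ := htrans Ω₀ s₀ (s₀ ≫ σ.hom.left)
      (by rw [Category.assoc]; exact congrArg (s₀ ≫ ·) (Over.w σ.hom.hom).symm)
    refine ⟨ζ, Iso.ext (MorphismProperty.Over.Hom.ext ?_)⟩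
    exact Groth.Agent.RigidUnram84.ext_of_connected (π ∣_ U₁) (l ζ) σ.hom.left
      ((hlπ ζ).trans (Over.w σ.hom.hom).symm) s₀ hζ
  refine ⟨⟨hconn, fun Ω _ _ ξ s t => ?_⟩, MulEquiv.ofBijective θ₀ ⟨hinj, hsurj⟩, fun ζ => hl ζ⟩
  obtain ⟨ζ, hζ⟩ := htrans Ω s.1 t.1 (s.2.trans t.2.symm)
  exact ⟨θ₀ ζ, Subtype.ext hζ⟩

end Groth.Agent.S3692
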