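import Groth.Statements.S3694
import Groth.Agent.Sga84.Epi

set_option autoImplicit false
universe u
open SGA1

namespace Groth.Agent.S3694

open AlgebraicGeometry CategoryTheory CategoryTheory.Limits in
theorem result {X Y : Scheme.{u}} (f : X ⟶ Y) [Etale f] [UniversallyInjective f] :
    IsOpenImmersion f := by
  exact Sga84.isOpenImmersion_of_etale f

end Groth.Agent.S3694
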