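import Groth.Statements.S3829
import Groth.Agent.Unr55.RegularSmooth
import Groth.Agent.Unr55.StalkCrit

set_option autoImplicit false
universe u
open CategoryTheory CategoryTheory.Limits AlgebraicGeometry TopologicalSpace
open Unram17

namespace Groth.Agent.S3829

/-- c) implies a) (case of a closed immersion): let f : X → S and h : Y → S be locally of finite
presentation, j : Y → X a closed immersion over S and y a point of Y. If h is smooth on a
neighbourhood of y and, on some affine open neighbourhood of j(y) in X, the ideal of j is generated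
by a regular sequence (j is a regular immersion near y), then f is smooth on an open neighbourhood
of j(y). -/
theorem result {X Y S : Scheme.{u}} (f : X ⟶ S) (h : Y ⟶ S)
    [LocallyOfFinitePresentation f] [LocallyOfFinitePresentation h] (j : Y ⟶ X) [IsClosedImmersion j]
    (hj : j ≫ f = h) (y : ↥Y) (hy : ∃ V : Y.Opens, y ∈ V ∧ Smooth (V.ι ≫ h))
    (hreg : ∃ (U : X.Opens) (hU : IsAffineOpen U), j y ∈ U ∧
      ∃ rs : List Γ(X, U), RingTheory.Sequence.IsRegular Γ(X, U) rs ∧ j.ker.ideal ⟨U, hU⟩ = Ideal.ofList rs) :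
    ∃ U : X.Opens, j y ∈ U ∧ Smooth (U.ι ≫ f) := by
  subst hj
  obtain ⟨U, hU, hyU, rs, hrs, hker⟩ := hreg
  have hys := (Unr55.exists_smooth_iff (j ≫ f) y).mp hy
  rw [Unr55.exists_smooth_iff f]
  obtain ⟨V, hV, hyV, -⟩ := exists_isAffineOpen_mem_and_subset (U := (⊤ : S.Opens)) (x := f (j y)) trivial
  obtain ⟨s, hs, hys'⟩ := hU.exists_basicOpen_le (V := f ⁻¹ᵁ V) ⟨j y, hyV⟩ hyU
  let W := X.basicOpen s
  have hW : IsAffineOpen W := hU.basicOpen s
  have hWY : IsAffineOpen (j ⁻¹ᵁ W) := hW.preimage j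
  have e : W ≤ f ⁻¹ᵁ V := hs
  have e' : j ⁻¹ᵁ W ≤ (j ≫ f) ⁻¹ᵁ V := j.preimage_mono e
  let := (f.appLE V W e).hom.toAlgebra
  let := (j.app W).hom.toAlgebra
  let := ((j ≫ f).appLE V (j ⁻¹ᵁ W) e').hom.toAlgebra
  have : IsScalarTower Γ(S, V) Γ(X, W) Γ(Y, j ⁻¹ᵁ W) := IsScalarTower.of_algebraMap_eq' (by
    show ((j ≫ f).appLE V (j ⁻¹ᵁ W) e').hom = (j.app W).hom.comp (f.appLE V W e).hom
    rw [← CommRingCat.hom_comp, j.app_eq_appLE, Scheme.Hom.appLE_comp_appLE])
  have : Algebra.FinitePresentation Γ(S, V) Γ(X, W) := (HasRingHomProperty.appLE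
    @LocallyOfFinitePresentation f inferInstance ⟨V, hV⟩ ⟨W, hW⟩ e :)
  let := (X.presheaf.map (homOfLE (X.basicOpen_le s)).op).hom.toAlgebra
  have : IsLocalization.Away s Γ(X, W) := hU.isLocalization_basicOpen s
  have hwr : Unr55.RegSm.WR ⊥ (rs.map (algebraMap Γ(X, U) Γ(X, W))) := by
    have h := Unr55.RegSm.wr_localization (Submonoid.powers s) Γ(X, W)
      (Unr55.RegSm.wr_of_isWeaklyRegular hrs.toIsWeaklyRegular)
    rwa [Ideal.map_bot] at h
  have hk : RingHom.ker (algebraMap Γ(X, W) Γ(Y, j ⁻¹ᵁ W)) = Ideal.ofList (rs.map (algebraMap Γ(X, U) Γ(X, W))) := by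
    rw [← Ideal.map_ofList, ← hker]
    refine Eq.trans ?_ (j.ker.map_ideal (U := ⟨W, hW⟩) (V := ⟨U, hU⟩) (X.basicOpen_le s)).symm
    exact (Scheme.Hom.ker_apply j ⟨W, hW⟩).symm
  let q := hWY.primeIdealOf ⟨y, hys'⟩
  have hqy : hWY.fromSpec q = y := hWY.fromSpec_primeIdealOf ⟨y, hys'⟩
  rw [← hqy] at hys
  have hsm := (Unr55.formallySmooth_stalkMap_iff_chart (j ≫ f) hV hWY e' q).mp hys
  have h := Unr55.RegSm.isSmoothAt_of_isWeaklyRegular Γ(S, V) (B := Γ(X, W)) (C := Γ(Y, j ⁻¹ᵁ W))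
    (j.app_surjective W hW) _ hwr hk q.asIdeal hsm
  have hpt : hW.fromSpec ⟨q.asIdeal.comap (j.app W).hom, inferInstance⟩ = j y := by
    rw [← hqy, ← Scheme.Hom.comp_apply, ← IsAffineOpen.SpecMap_appLE_fromSpec j hW hWY (le_refl _),
      Scheme.Hom.comp_apply, ← j.app_eq_appLE]
    rfl
  rw [← hpt]
  exact (Unr55.formallySmooth_stalkMap_iff_chart f hV hW e ⟨_, inferInstance⟩).mpr h

end Groth.Agent.S3829
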