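import Groth.Statements.S3700
import Groth.Agent.Sga84.SmoothRegIdeal
import Groth.Agent.CAlg9.CIT.Immersion
import Groth.Agent.S3829
import Groth.Agent.Unr55.StalkCrit


set_option autoImplicit false
universe u
open SGA1

namespace Groth.Agent.S3700

open AlgebraicGeometry CategoryTheory CategoryTheory.Limits in
/-- Let S be locally Noetherian, f : X -> S locally of finite type, Y the closed subscheme of X defined
by a quasi-coherent ideal, and x a point of Y at which Y is smooth over S. Then X is smooth over S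
at x if and only if the closed immersion of Y in X is regular at x, that is, the kernel of O_{X,x}
-> O_{Y,x} is generated by a regular sequence. (Smoothness at a point is membership in Mathlib's
smooth locus, the set of points where the map of local rings is formally smooth.) -/
theorem result {X S : Scheme.{u}} [IsLocallyNoetherian S] (f : X ⟶ S)
    [LocallyOfFiniteType f] [LocallyOfFinitePresentation f] (I : X.IdealSheafData)
    [LocallyOfFinitePresentation (I.subschemeι ≫ f)] (x : ↥I.subscheme) (hY : x ∈ (I.subschemeι ≫ f).smoothLocus) :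
    I.subschemeι.base x ∈ f.smoothLocus ↔ CInt.IsRegularIdeal (RingHom.ker (I.subschemeι.stalkMap x).hom) := by
  have : IsLocallyNoetherian X := LocallyOfFiniteType.isLocallyNoetherian f
  let ι := I.subschemeι
  constructor
  · intro hX
    obtain ⟨U₀, hU₀, V₀, hV₀, hVU₀, hxV₀, hsm₀⟩ := exists_smooth_of_formallySmooth_stalk f (ι x) hX
    let : Algebra Γ(S, U₀) Γ(X, V₀) := (f.appLE U₀ V₀ hVU₀).hom.toAlgebra
    have : Algebra.Smooth Γ(S, U₀) Γ(X, V₀) := hsm₀
    have : IsNoetherianRing Γ(S, U₀) := IsLocallyNoetherian.component_noetherian ⟨U₀, hU₀⟩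
    have hs : f (ι x) ∈ U₀ := hVU₀ hxV₀
    let : Algebra Γ(S, U₀) (S.presheaf.stalk ((ι ≫ f) x)) := (S.presheaf.germ U₀ ((ι ≫ f) x) hs).hom.toAlgebra
    have : IsLocalization.AtPrime (S.presheaf.stalk ((ι ≫ f) x)) (hU₀.primeIdealOf ⟨(ι ≫ f) x, hs⟩).asIdeal :=
      hU₀.isLocalization_stalk ⟨(ι ≫ f) x, hs⟩
    have : Algebra.FormallySmooth Γ(S, U₀) (S.presheaf.stalk ((ι ≫ f) x)) :=
      Algebra.FormallySmooth.of_isLocalization (hU₀.primeIdealOf ⟨(ι ≫ f) x, hs⟩).asIdeal.primeCompl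
    let : Algebra (S.presheaf.stalk ((ι ≫ f) x)) (I.subscheme.presheaf.stalk x) := ((ι ≫ f).stalkMap x).hom.toAlgebra
    have : Algebra.FormallySmooth (S.presheaf.stalk ((ι ≫ f) x)) (I.subscheme.presheaf.stalk x) := hY
    let : Algebra Γ(S, U₀) (I.subscheme.presheaf.stalk x) :=
      (((ι ≫ f).stalkMap x).hom.comp (S.presheaf.germ U₀ ((ι ≫ f) x) hs).hom).toAlgebra
    have : IsScalarTower Γ(S, U₀) (S.presheaf.stalk ((ι ≫ f) x)) (I.subscheme.presheaf.stalk x) :=
      .of_algebraMap_eq fun _ => rfl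
    have : Algebra.FormallySmooth Γ(S, U₀) (I.subscheme.presheaf.stalk x) :=
      Algebra.FormallySmooth.comp Γ(S, U₀) (S.presheaf.stalk ((ι ≫ f) x)) _
    let : Algebra Γ(X, V₀) (X.presheaf.stalk (ι x)) := (X.presheaf.germ V₀ (ι x) hxV₀).hom.toAlgebra
    have : IsLocalization.AtPrime (X.presheaf.stalk (ι x)) (hV₀.primeIdealOf ⟨ι x, hxV₀⟩).asIdeal :=
      hV₀.isLocalization_stalk ⟨ι x, hxV₀⟩
    let : Algebra Γ(S, U₀) (X.presheaf.stalk (ι x)) :=
      ((X.presheaf.germ V₀ (ι x) hxV₀).hom.comp (f.appLE U₀ V₀ hVU₀).hom).toAlgebra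
    have : IsScalarTower Γ(S, U₀) Γ(X, V₀) (X.presheaf.stalk (ι x)) := .of_algebraMap_eq fun _ => rfl
    let : Algebra (X.presheaf.stalk (ι x)) (I.subscheme.presheaf.stalk x) := (ι.stalkMap x).hom.toAlgebra
    have : IsScalarTower Γ(S, U₀) (X.presheaf.stalk (ι x)) (I.subscheme.presheaf.stalk x) := by
      refine .of_algebraMap_eq fun a => ?_
      have h1 : S.presheaf.germ U₀ ((ι ≫ f) x) hs ≫ (ι ≫ f).stalkMap x =
          (f.appLE U₀ V₀ hVU₀ ≫ X.presheaf.germ V₀ (ι x) hxV₀) ≫ ι.stalkMap x := by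
        rw [Scheme.Hom.stalkMap_comp]
        show S.presheaf.germ U₀ (f (ι x)) hs ≫ f.stalkMap (ι x) ≫ ι.stalkMap x = _
        rw [← Category.assoc, Scheme.Hom.germ_stalkMap, Scheme.Hom.appLE]
        simp only [Category.assoc, TopCat.Presheaf.germ_res_assoc]
      exact congr($(h1).hom a)
    exact Groth.Agent.SmoothRegIdeal84.isRegularIdeal (A₀ := Γ(S, U₀)) (hV₀.primeIdealOf ⟨ι x, hxV₀⟩).asIdeal
      (ι.stalkMap_surjective x)
  · intro hreg
    obtain ⟨V, hxV, -, hV⟩ := Groth.Agent.CAlg9.CIT.regularNear_of_stalk_regular ι x hreg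
    obtain ⟨U, hU, hzU, rs, hrs, hker⟩ := hV ⟨x, hxV⟩
    rw [Groth.Agent.CAlg9.CIT.ker_restrict_eq] at hker
    refine (Unr55.exists_smooth_iff f (ι x)).mp (Groth.Agent.S3829.result f (ι ≫ f) ι rfl x
      ((Unr55.exists_smooth_iff (ι ≫ f) x).mpr hY)
      ⟨V.ι ''ᵁ U, hU.image_of_isOpenImmersion V.ι, ?_, rs, hrs, hker⟩)
    exact ⟨(ι ∣_ V) ⟨x, hxV⟩, hzU, morphismRestrict_base_coe ι V ⟨x, hxV⟩⟩

end Groth.Agent.S3700
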