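import Groth.Statements.S3707
import Groth.Agent.Sga84.Epi

set_option autoImplicit false
universe u
open SGA1

namespace Groth.Agent.S3707

open AlgebraicGeometry CategoryTheory CategoryTheory.Limits in
theorem result {S S' X Y : Scheme.{u}} (g : S' ⟶ S) [Surjective g]
    (p : X ⟶ S) (q : Y ⟶ S) [FormallyUnramified q] [LocallyOfFiniteType q]
    (u v : X ⟶ Y) (hu : p ≫ 𝟙 S = u ≫ q) (hv : p ≫ 𝟙 S = v ≫ q)
    (h : pullback.map p g q g u (𝟙 S') (𝟙 S) hu ((Category.comp_id _).trans (Category.id_comp _).symm) =
      pullback.map p g q g v (𝟙 S') (𝟙 S) hv ((Category.comp_id _).trans (Category.id_comp _).symm)) :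
    u = v := by
  refine Sga84.eq_of_baseChange g p q u v (hu.symm.trans (Category.comp_id p))
    (hv.symm.trans (Category.comp_id p)) ?_
  have h1 := congrArg (fun m => m ≫ pullback.fst q g) h
  simpa only [pullback.map, pullback.lift_fst] using h1

end Groth.Agent.S3707
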