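import Groth.Statements.S3709
import Groth.Agent.Sga84.DescEtale

set_option autoImplicit false
universe u
open SGA1

namespace Groth.Agent.S3709

open AlgebraicGeometry CategoryTheory CategoryTheory.Limits in
theorem result {S S' X Y : Scheme.{u}} (g : S' ⟶ S) (hg : SGA1.UnivSubmersive g)
    (p : X ⟶ S) (q : Y ⟶ S) [Etale q]
    (f' : pullback p g ⟶ pullback q g) (hf' : f' ≫ pullback.snd q g = pullback.snd p g)
    (hcoc : pullback.map p (pullback.fst g g ≫ g) p g (𝟙 X) (pullback.fst g g) (𝟙 S)
        ((Category.comp_id _).trans (Category.id_comp _).symm) (Category.comp_id _) ≫ f' ≫ pullback.fst q g =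
      pullback.map p (pullback.fst g g ≫ g) p g (𝟙 X) (pullback.snd g g) (𝟙 S)
        ((Category.comp_id _).trans (Category.id_comp _).symm) ((Category.comp_id _).trans pullback.condition) ≫
        f' ≫ pullback.fst q g) :
    ∃! u : X ⟶ Y, u ≫ q = p ∧ f' ≫ pullback.fst q g = pullback.fst p g ≫ u := by
  obtain ⟨u, ⟨hu, hbu⟩, huniq⟩ := Sga84.existsUnique_desc_etale g hg p q (f' ≫ pullback.fst q g)
    (by rw [Category.assoc, pullback.condition, ← Category.assoc, hf', ← pullback.condition])
    (fun {T} a w haw => by
      have h1 : (a ≫ pullback.snd p g) ≫ g = (w ≫ pullback.snd p g) ≫ g := by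
        rw [Category.assoc, Category.assoc, ← pullback.condition, ← Category.assoc, haw, Category.assoc]
      let z : T ⟶ pullback p (pullback.fst g g ≫ g) := pullback.lift (a ≫ pullback.fst p g)
        (pullback.lift (a ≫ pullback.snd p g) (w ≫ pullback.snd p g) h1)
        (by rw [pullback.lift_fst_assoc, Category.assoc, Category.assoc, pullback.condition])
      have ha : z ≫ pullback.map p (pullback.fst g g ≫ g) p g (𝟙 X) (pullback.fst g g) (𝟙 S)
          ((Category.comp_id _).trans (Category.id_comp _).symm) (Category.comp_id _) = a := by
        apply pullback.hom_ext <;>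
          simp only [z, pullback.map, Category.assoc, pullback.lift_fst, pullback.lift_snd,
            pullback.lift_fst_assoc, pullback.lift_snd_assoc, Category.comp_id]
      have hw : z ≫ pullback.map p (pullback.fst g g ≫ g) p g (𝟙 X) (pullback.snd g g) (𝟙 S)
          ((Category.comp_id _).trans (Category.id_comp _).symm)
          ((Category.comp_id _).trans pullback.condition) = w := by
        apply pullback.hom_ext <;>
          simp only [z, pullback.map, Category.assoc, pullback.lift_fst, pullback.lift_snd,
            pullback.lift_fst_assoc, pullback.lift_snd_assoc, Category.comp_id]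
        exact haw
      rw [← ha, ← hw, Category.assoc, Category.assoc, hcoc])
  exact ⟨u, ⟨hu, hbu⟩, huniq⟩

end Groth.Agent.S3709
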