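import Groth.Statements.S3710
import Groth.Agent.Sga84.RelSNCChart
-- import your own Groth.Agent.* helpers here

set_option autoImplicit false
open CategoryTheory CategoryTheory.Limits AlgebraicGeometry
universe u
open SGA1t

namespace Groth.Agent.S3710

/-- Let f : X -> S and φ_1, ..., φ_r cut out a strict normal crossings divisor relative to S, x a point
where some φ_i vanishes, A = O_{X,x}, and n_i ≥ 1 integers for the indices i with φ_i(x) = 0 (no
condition on the residue characteristic). Then the Kummer scheme X' = Spec A[T_i]/(T_i^{n_i} - φ_i)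
is smooth over S at its point x' over x: the homomorphism from the local ring of S at the image
point to the local ring of X' at x' is formally smooth. -/
theorem result {X S : Scheme.{u}} (f : X ⟶ S) {r : ℕ} (φ : Fin r → Γ(X, ⊤))
    (hD : SGA1t.IsRelSNC f φ) (x : X) (hx : Nonempty (SGA1t.vanishingAt φ x))
    (n : SGA1t.vanishingAt φ x → ℕ) (hn1 : ∀ i, 1 ≤ n i) :
    letI A := X.presheaf.stalk x
    letI a : SGA1t.vanishingAt φ x → A := fun i => (X.presheaf.germ ⊤ x trivial).hom (φ i.1)
    letI π : Spec (CommRingCat.of (SGA1t.kummer A a n)) ⟶ Spec (CommRingCat.of A) :=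
      Spec.map (CommRingCat.ofHom (algebraMap A (SGA1t.kummer A a n)))
    ∀ x' : Spec (CommRingCat.of (SGA1t.kummer A a n)), π.base x' = IsLocalRing.closedPoint A →
      ((π ≫ X.fromSpecStalk x ≫ f).stalkMap x').hom.FormallySmooth := by
  intro x' hx'
  let A := X.presheaf.stalk x
  let a : SGA1t.vanishingAt φ x → A := fun i => (X.presheaf.germ ⊤ x trivial).hom (φ i.1)
  let π : Spec (CommRingCat.of (SGA1t.kummer A a n)) ⟶ Spec (CommRingCat.of A) :=
    Spec.map (CommRingCat.ofHom (algebraMap A (SGA1t.kummer A a n)))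
  obtain ⟨W, hxW, d, v, e, he, het, hv⟩ := hD x hx
  obtain ⟨_, ⟨U, hU, rfl⟩, hxU, -⟩ :=
    S.isBasis_affineOpens.exists_subset_of_mem_open (Set.mem_univ (f x)) isOpen_univ
  obtain ⟨χ, hχ, hC, hX⟩ := Groth.Agent.RelSNCChart84.exists_formallyEtale_chart f W v x hxW U hU hxU
  let g₀ : Γ(S, U) ⟶ A := S.presheaf.germ U (f x) hxU ≫ f.stalkMap x
  let : Algebra Γ(S, U) A := g₀.hom.toAlgebra
  have ha : a = fun i => χ (MvPolynomial.X (ULift.up (e i))) := funext fun i => (hX _ _ (hv i)).symm
  have hK : Algebra.FormallySmooth Γ(S, U) (SGA1t.kummer A a n) := ha ▸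
    Groth.Agent.RelSNCChart84.formallySmooth_kummer χ hχ hC (fun i => ULift.up (e i))
      (ULift.up_injective.comp he) n
  have hK' : (g₀ ≫ CommRingCat.ofHom (algebraMap A (SGA1t.kummer A a n))).hom.FormallySmooth := by
    show ((algebraMap A (SGA1t.kummer A a n)).comp (algebraMap Γ(S, U) A)).FormallySmooth
    rw [← IsScalarTower.algebraMap_eq]
    exact RingHom.formallySmooth_algebraMap.mpr hK
  refine Groth.Agent.RelSNCChart84.formallySmooth_stalkMap _ U hU
    (g₀ ≫ CommRingCat.ofHom (algebraMap A (SGA1t.kummer A a n))) ?_ hK' x'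
  have e2 : Spec.map (S.presheaf.germ U (f x) hxU) ≫ hU.fromSpec = S.fromSpecStalk (f x) :=
    hU.fromSpecStalk_eq_fromSpecStalk hxU
  have eR : Spec.map g₀ ≫ hU.fromSpec = X.fromSpecStalk x ≫ f := by
    rw [Spec.map_comp, Category.assoc, e2, Scheme.SpecMap_stalkMap_fromSpecStalk]
  exact ((congrArg (· ≫ hU.fromSpec) (Spec.map_comp _ _)).trans (Category.assoc _ _ _)).trans
    (congrArg (Spec.map (CommRingCat.ofHom (algebraMap A (SGA1t.kummer A a n))) ≫ ·) eR)

end Groth.Agent.S3710
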