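import Groth.Statements.S3711
import Groth.Agent.Sga84.TameGalois
import Groth.Agent.Sga84.PrincipalGalois
import Groth.Agent.Sga84.DvrFrac

set_option autoImplicit false
open CategoryTheory CategoryTheory.Limits AlgebraicGeometry
universe u
open SGA1t

namespace Groth.Agent.S3711

theorem result {X S : Scheme.{u}} (f : X ⟶ S) {r : ℕ} (φ : Fin r → Γ(X, ⊤))
    (hD : SGA1t.IsRelSNC f φ) (C : Type) [Group C] [Finite C] (hC : ∀ s : S, IsUnit ((Nat.card C : ℕ) : S.residueField s))
    (P : FEt.Cat (SGA1t.compl φ : Scheme.{u})) (ρ : C →* Aut P) (hP : SGA1t.IsPrincipal C P ρ) :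
    SGA1t.IsRelTame f φ P := by
  intro Ω hΩ hΩs σ hσ y hdom hdvr w h hne
  let p := pullback.fst f σ
  let j := P.hom ≫ (SGA1t.compl φ).ι
  let q : pullback j p ⟶ pullback f σ := pullback.snd j p
  have : IsFinite P.hom := P.prop.1
  have : Etale P.hom := P.prop.2
  have : Etale q := MorphismProperty.pullback_snd _ _ (inferInstanceAs (Etale j))
  have hρ : ∀ c, (ρ c).hom.left ≫ P.hom = P.hom := fun c => Over.w (ρ c).hom.hom
  let a : C → (pullback j p ⟶ pullback j p) := fun c =>
    pullback.lift (pullback.fst j p ≫ (ρ c).hom.left) q (by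
      show _ ≫ (P.hom ≫ _) = _
      rw [Category.assoc, reassoc_of% (hρ c)]
      exact pullback.condition)
  have ha1 : ∀ c, a c ≫ pullback.fst j p = pullback.fst j p ≫ (ρ c).hom.left := fun c => pullback.lift_fst _ _ _
  have ha2 : ∀ c, a c ≫ q = q := fun c => pullback.lift_snd _ _ _
  have hone : a 1 = 𝟙 _ := by
    apply pullback.hom_ext
    · rw [ha1, map_one, Category.id_comp]; exact Category.comp_id _
    · rw [Category.id_comp]; exact ha2 1
  have hmul : ∀ c d, a (c * d) = a d ≫ a c := fun c d => by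
    apply pullback.hom_ext
    · rw [Category.assoc, ha1 c, ← Category.assoc, ha1 d, ha1, map_mul, Category.assoc]
      rfl
    · show a (c * d) ≫ q = (a d ≫ a c) ≫ q
      rw [Category.assoc, ha2, ha2, ha2]
  let act : C →* Aut (pullback j p) :=
    { toFun := fun c => ⟨a c, a c⁻¹, by rw [← hmul, inv_mul_cancel, hone], by rw [← hmul, mul_inv_cancel, hone]⟩
      map_one' := Iso.ext hone
      map_mul' := fun c d => Iso.ext (hmul c d) }
  have htrans : ∀ (Ω' : Type _) [Field Ω'] [IsAlgClosed Ω'] (s t : Spec (CommRingCat.of Ω') ⟶ pullback j p),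
      s ≫ q = t ≫ q → ∃! c : C, s ≫ (act c).hom = t := by
    intro Ω' _ _ s t hst
    have hξ : (t ≫ pullback.fst j p) ≫ P.hom = (s ≫ pullback.fst j p) ≫ P.hom := by
      rw [← cancel_mono (SGA1t.compl φ).ι]
      simp only [Category.assoc]
      rw [show P.hom ≫ (SGA1t.compl φ).ι = j from rfl, pullback.condition, reassoc_of% hst]
    obtain ⟨c, hc, huniq⟩ := hP.2 Ω' _ ⟨s ≫ pullback.fst j p, rfl⟩ ⟨t ≫ pullback.fst j p, hξ⟩
    have hc' : (s ≫ pullback.fst j p) ≫ (ρ c).hom.left = t ≫ pullback.fst j p := congrArg Subtype.val hc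
    refine ⟨c, ?_, fun d hd => huniq d (Subtype.ext ?_)⟩
    · show s ≫ a c = t
      apply pullback.hom_ext
      · rw [Category.assoc, ha1, ← Category.assoc, hc']
      · show (s ≫ a c) ≫ q = t ≫ q
        rw [Category.assoc, ha2, hst]
    · show (s ≫ pullback.fst j p) ≫ (ρ d).hom.left = t ≫ pullback.fst j p
      rw [← hd, Category.assoc, ← ha1, Category.assoc]
      rfl
  obtain ⟨hfin, hgal, hdvd⟩ := Groth.Agent.PrincipalGalois84.isGalois_residueField q act ha2 htrans w
  let := (q.residueFieldMap w).hom.toAlgebra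
  let : Algebra ((pullback f σ).presheaf.stalk y) ((pullback f σ).residueField (q w)) :=
    (((pullback f σ).residue (q w)).hom.comp ((pullback f σ).presheaf.stalkSpecializes h).hom).toAlgebra
  have : IsFractionRing ((pullback f σ).presheaf.stalk y) ((pullback f σ).residueField (q w)) :=
    Groth.Agent.DvrFrac84.isFractionRing_residueField h hne
  refine Groth.Agent.TameGalois84.isTamelyRamified_of_isGalois _ ((pullback f σ).residueField (q w)) rfl ?_
  intro ℓ hℓ hchar hd
  have hu := (hC ((pullback.snd f σ ≫ σ) y)).map ((pullback.snd f σ ≫ σ).residueFieldMap y).hom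
  rw [map_natCast] at hu
  obtain ⟨k, hk⟩ := hd.trans hdvd
  rw [hk, Nat.cast_mul] at hu
  exact (isUnit_of_mul_isUnit_left hu).ne_zero (CharP.cast_eq_zero (IsLocalRing.ResidueField ((pullback f σ).presheaf.stalk y)) ℓ)

end Groth.Agent.S3711
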