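import Groth.Statements.S3720
import Groth.Agent.Sga84.PrincipalAffine
-- import your own Groth.Agent.* helpers here

set_option autoImplicit false
open CategoryTheory CategoryTheory.Limits AlgebraicGeometry
universe u
open SGA1t

namespace Groth.Agent.S3720

/-- Kummer theory over a local ring: let A be a local ring, n ≥ 1 an integer invertible in A, and
suppose A contains a primitive n-th root of unity (so that the group μ_n(A) of n-th roots of unity
in A is cyclic of order n). Then every principal μ_n(A)-cover P of Spec A is isomorphic over Spec A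
to a Kummer cover Spec A[T]/(Tⁿ − a) for some unit a of A, compatibly with the actions: the given
action of a root of unity ζ on P corresponds to the automorphism of A[T]/(Tⁿ − a) induced by T ↦ ζT. -/
theorem result (A : Type u) [CommRing A] [IsLocalRing A] (n : ℕ) (hn1 : 1 ≤ n)
    (hn : IsUnit ((n : ℕ) : A)) (ζ₀ : A) (hζ₀ : IsPrimitiveRoot ζ₀ n)
    (P : FEt.Cat (Spec (CommRingCat.of A))) (ρ : ↥(rootsOfUnity n A) →* Aut P)
    (hP : SGA1t.IsPrincipal ↥(rootsOfUnity n A) P ρ) :
    ∃ (a : Aˣ) (e : P.left ≅ Spec (CommRingCat.of (SGA1t.kummer A (fun _ : Unit => (a : A)) (fun _ => n)))),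
      e.hom ≫ Spec.map (CommRingCat.ofHom (algebraMap A (SGA1t.kummer A (fun _ : Unit => (a : A)) (fun _ => n)))) = P.hom ∧
      ∀ ζ : ↥(rootsOfUnity n A), (ρ ζ).hom.left ≫ e.hom =
        e.hom ≫ Spec.map (CommRingCat.ofHom (SGA1t.kummerTwist A (fun _ : Unit => (a : A)) (fun _ => n) (fun _ => ζ))) := by
  open Groth.Agent.GaloisAlg84 in
  classical
  obtain ⟨B, _, _, σ, het, hff, hpt, hσ, e0, he0, he0σ⟩ := exists_galoisAlg A P ρ hP
  have : NeZero n := ⟨by omega⟩
  -- roots of unity congruent to `1`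
  have hone : ∀ x : A, x ^ n = 1 → ¬ IsUnit (x - 1) → x = 1 := fun x hx hm => by
    have h0 : (∑ i ∈ Finset.range n, x ^ i) * (x - 1) = 0 := by rw [geom_sum_mul, hx, sub_self]
    have hu : IsUnit (∑ i ∈ Finset.range n, x ^ i) := by
      rw [← IsLocalRing.notMem_maximalIdeal]
      have hmem : x - 1 ∈ IsLocalRing.maximalIdeal A := hm
      rw [← Ideal.Quotient.eq_zero_iff_mem, map_sum]
      simp only [map_pow, Ideal.Quotient.eq.mpr hmem, map_one, one_pow, Finset.sum_const, Finset.card_range,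
        nsmul_eq_mul, mul_one]
      rw [← map_natCast (Ideal.Quotient.mk _), Ideal.Quotient.eq_zero_iff_mem]
      exact IsLocalRing.notMem_maximalIdeal.mpr hn
    exact sub_eq_zero.mp ((hu.mul_right_eq_zero).mp h0)
  have hval : ∀ g : ↥(rootsOfUnity n A), (((g : Aˣ) : A)) ^ n = 1 := fun g => by
    rw [← Units.val_pow_eq_pow_val, (mem_rootsOfUnity n (g : Aˣ)).mp g.2, Units.val_one]
  have hdiff : ∀ g h : ↥(rootsOfUnity n A), g ≠ h → IsUnit ((((g : Aˣ) : A)) - ((h : Aˣ) : A)) := by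
    intro g h hgh
    by_contra hu
    refine hgh (mul_inv_eq_one.mp (Subtype.ext (Units.ext ?_)))
    refine hone _ (hval _) fun hu' => hu ?_
    have := hu'.mul (h : Aˣ).isUnit
    simpa [sub_mul] using this
  -- the number of roots of unity
  obtain ⟨F⟩ : Nonempty (Fin n ≃ ↥(rootsOfUnity n A)) := by
    let ζ : Aˣ := (hζ₀.isUnit (by omega)).unit
    have hζ : IsPrimitiveRoot ζ n := IsPrimitiveRoot.coe_units_iff.mp (by simpa [ζ] using hζ₀)
    have hres : IsPrimitiveRoot (IsLocalRing.residue A ζ₀) n := by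
      refine IsPrimitiveRoot.mk_of_lt _ (by omega) (by rw [← map_pow, hζ₀.pow_eq_one, map_one]) fun l hl hln he => ?_
      refine hζ₀.pow_ne_one_of_pos_of_lt hl.ne' hln (hone _ (by rw [← pow_mul, mul_comm, pow_mul, hζ₀.pow_eq_one, one_pow]) ?_)
      rw [← map_pow, ← map_one (IsLocalRing.residue A)] at he
      exact Ideal.Quotient.eq.mp he
    let F : Fin n → ↥(rootsOfUnity n A) := fun i => ⟨ζ ^ (i : ℕ), by
      rw [mem_rootsOfUnity, ← pow_mul, mul_comm, pow_mul, hζ.pow_eq_one, one_pow]⟩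
    refine ⟨Equiv.ofBijective F ⟨fun i j h => ?_, fun g => ?_⟩⟩
    · exact Fin.ext (hζ.pow_inj i.2 j.2 (congrArg Subtype.val h))
    · obtain ⟨i, hi, he⟩ := hres.eq_pow_of_pow_eq_one (ξ := IsLocalRing.residue A ((g : Aˣ) : A))
        (by rw [← map_pow, hval, map_one])
      refine ⟨⟨i, hi⟩, Classical.byContradiction fun hne => ?_⟩
      have hu := hdiff _ _ hne
      refine (IsLocalRing.notMem_maximalIdeal.mpr hu) (Ideal.Quotient.eq.mp ?_)
      rw [← map_pow] at he
      refine (congrArg (Ideal.Quotient.mk _) ?_).trans he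
      simp [F, ζ]
  let : Fintype ↥(rootsOfUnity n A) := Fintype.ofEquiv _ F
  have hcard : Fintype.card ↥(rootsOfUnity n A) = n := (Fintype.card_congr F).symm.trans (Fintype.card_fin n)
  have hΘ := bijective_Θ hpt
  -- the Kummer generator
  let c : ↥(rootsOfUnity n A) → A := fun g => (((g⁻¹ : ↥(rootsOfUnity n A)) : Aˣ) : A)
  obtain ⟨s, hs⟩ := exists_sum_eq_one hΘ c (by simp [c])
  let T : B → B := fun y => ∑ g, algebraMap A B (c g) * σ g y
  have hT : ∀ h y, σ h (T y) = algebraMap A B (((h : Aˣ) : A)) * T y := fun h y => by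
    simp only [T, map_sum, Finset.mul_sum]
    refine Fintype.sum_equiv (Equiv.mulLeft h) _ _ fun g => ?_
    simp only [Equiv.coe_mulLeft, map_mul, AlgEquiv.commutes, hσ]
    rw [← mul_assoc, ← map_mul]
    congr 2
    simp [c, mul_inv_rev, mul_comm, mul_left_comm]
  have hTn : ∀ y, ∃ a, algebraMap A B a = T y ^ n := fun y => mem_range_of_fixed hΘ.1 fun h => by
    rw [map_pow, hT, mul_pow, ← map_pow, hval, map_one, one_mul]
  obtain ⟨y, a₀, ha₀, hu⟩ : ∃ y a, algebraMap A B a = T y ^ n ∧ IsUnit a := by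
    by_contra hne
    push Not at hne
    have h1 : (1 : B) ∈ ((IsLocalRing.maximalIdeal A).map (algebraMap A B)).radical := by
      rw [← hs]
      refine Ideal.sum_mem _ fun p _ => Ideal.mul_mem_left _ _ ⟨n, ?_⟩
      obtain ⟨a, ha⟩ := hTn p.2
      rw [show (∑ g, algebraMap A B (c g) * σ g p.2) = T p.2 from rfl, ← ha]
      exact Ideal.mem_map_of_mem _ (hne _ a ha)
    rw [← Ideal.eq_top_iff_one, Ideal.radical_eq_top] at h1
    exact (IsLocalRing.maximalIdeal.isMaximal A).ne_top (by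
      rw [← Ideal.comap_map_eq_self_of_faithfullyFlat (B := B) (IsLocalRing.maximalIdeal A), h1, Ideal.comap_top])
  let a : Aˣ := hu.unit
  let t : B := T y
  have htu : IsUnit t := (isUnit_pow_iff (by omega : n ≠ 0)).mp (ha₀ ▸ hu.map _)
  have ht : ∀ g h, g ≠ h → IsUnit (σ g t - σ h t) := fun g h hgh => by
    rw [hT, hT, ← sub_mul, ← map_sub]
    exact ((hdiff g h hgh).map _).mul htu
  let f : Polynomial A := Polynomial.X ^ n - Polynomial.C (a : A)
  have hroot : Polynomial.aeval t f = 0 := by simp [f, a, t, ha₀]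
  let q : AdjoinRoot f →ₐ[A] B := AdjoinRoot.liftAlgHom f (Algebra.ofId A B) t (by simpa [Polynomial.aeval_def] using hroot)
  have hq : Function.Bijective q := bijective_liftHom hΘ t ht f (Polynomial.monic_X_pow_sub_C _ (by omega))
    (by rw [Polynomial.natDegree_X_pow_sub_C, hcard]) q (AdjoinRoot.liftAlgHom_root ..)
  let K := SGA1t.kummer A (fun _ : Unit => (a : A)) (fun _ => n)
  let ψ : K →ₐ[A] B := Ideal.Quotient.liftₐ _ (MvPolynomial.aeval fun _ => t) fun x hx => by
    refine RingHom.mem_ker.mp (Ideal.span_le.mpr ?_ hx)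
    rintro _ ⟨i, rfl⟩
    simp [a, t, ha₀]
  let r : AdjoinRoot f →ₐ[A] K := AdjoinRoot.liftAlgHom f (Algebra.ofId A K) (Ideal.Quotient.mk _ (MvPolynomial.X ())) (by
    simp only [f, Polynomial.eval₂_sub, Polynomial.eval₂_X_pow, Polynomial.eval₂_C, Algebra.ofId_apply, RingHom.coe_coe]
    rw [← map_pow, sub_eq_zero]
    exact Ideal.Quotient.eq.mpr (Ideal.subset_span ⟨(), rfl⟩))
  have hrsurj : Function.Surjective r := fun x => by
    obtain ⟨x, rfl⟩ := Ideal.Quotient.mk_surjective x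
    induction x using MvPolynomial.induction_on with
    | C b => exact ⟨algebraMap A _ b, r.commutes b⟩
    | add x y hx hy =>
      obtain ⟨x', hx'⟩ := hx
      obtain ⟨y', hy'⟩ := hy
      exact ⟨x' + y', by rw [map_add, map_add, hx', hy']⟩
    | mul_X x i hx =>
      obtain ⟨x', hx'⟩ := hx
      exact ⟨x' * AdjoinRoot.root f, by rw [map_mul, map_mul, hx', AdjoinRoot.liftAlgHom_root]⟩
  have hψmk : ∀ x, ψ (Ideal.Quotient.mk _ x) = MvPolynomial.aeval (fun _ => t) x := fun _ => rfl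
  have hψr : ψ.comp r = q := AdjoinRoot.algHom_ext (by simp [r, q, hψmk])
  have hψ : Function.Bijective ψ := by
    refine ⟨fun x x' h => ?_, fun b => ?_⟩
    · obtain ⟨x, rfl⟩ := hrsurj x
      obtain ⟨x', rfl⟩ := hrsurj x'
      exact congrArg r (hq.1 (by rw [← hψr]; exact h))
    · obtain ⟨x, hx⟩ := hq.2 b
      exact ⟨r x, by rw [← hx, ← hψr]; rfl⟩
  refine ⟨a, e0 ≪≫ Scheme.Spec.mapIso (RingEquiv.toCommRingCatIso (RingEquiv.ofBijective ψ.toRingHom hψ)).op, ?_, fun ζ => ?_⟩
  · show (e0.hom ≫ Spec.map (CommRingCat.ofHom ψ.toRingHom)) ≫ _ = _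
    rw [Category.assoc, ← Spec.map_comp, ← CommRingCat.ofHom_comp, show ψ.toRingHom.comp (algebraMap A K) = algebraMap A B from ψ.comp_algebraMap]
    exact he0
  · show (ρ ζ).hom.left ≫ e0.hom ≫ Spec.map (CommRingCat.ofHom ψ.toRingHom) = (e0.hom ≫ Spec.map (CommRingCat.ofHom ψ.toRingHom)) ≫ _
    rw [reassoc_of% (he0σ ζ), Category.assoc, ← Spec.map_comp, ← Spec.map_comp, ← CommRingCat.ofHom_comp, ← CommRingCat.ofHom_comp]
    congr 3
    refine Ideal.Quotient.ringHom_ext (MvPolynomial.ringHom_ext (fun b => ?_) fun i => ?_)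
    · simp [SGA1t.kummerTwist, hψmk]
    · simp [SGA1t.kummerTwist, hψmk, hT, t]

end Groth.Agent.S3720
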