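import Groth.Statements.S3721
import Groth.Agent.Sga84.PrincipalAffine
-- import your own Groth.Agent.* helpers here

set_option autoImplicit false
open CategoryTheory CategoryTheory.Limits AlgebraicGeometry
universe u
open SGA1t

namespace Groth.Agent.S3721

/-- Let p be a prime and A a commutative ring of characteristic p. Then every principal ℤ/p-cover P of
Spec A (a finite étale cover with an action of ℤ/p making it a torsor) is isomorphic over Spec A to
an Artin–Schreier cover Spec A[T]/(T^p − T − a) for some a ∈ A, compatibly with the actions: under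
the isomorphism the given action of j ∈ ℤ/p on P corresponds to the automorphism of the
Artin–Schreier cover induced by T ↦ T + j. The published statement is for any base S of
characteristic p on which Frobenius fixes no nonzero element of H¹(S, O_S); it is stated here for S
= Spec A affine. -/
theorem result (A : Type u) [CommRing A] (p : ℕ) [Fact p.Prime] [CharP A p]
    (P : FEt.Cat (Spec (CommRingCat.of A))) (ρ : Multiplicative (ZMod p) →* Aut P)
    (hP : SGA1t.IsPrincipal (Multiplicative (ZMod p)) P ρ) :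
    ∃ (a : A) (e : P.left ≅ Spec (CommRingCat.of (SGA1t.artinSchreier A p a))),
      e.hom ≫ Spec.map (CommRingCat.ofHom (algebraMap A (SGA1t.artinSchreier A p a))) = P.hom ∧
      ∀ j : ZMod p, (ρ (Multiplicative.ofAdd j)).hom.left ≫ e.hom =
        e.hom ≫ Spec.map (CommRingCat.ofHom (SGA1t.artinSchreierShift A p a j)) := by
  open Groth.Agent.GaloisAlg84 in
  classical
  obtain ⟨B, _, _, σ, het, hff, hpt, hσ, e0, he0, he0σ⟩ := exists_galoisAlg A P ρ hP
  have hΘ := bijective_Θ hpt
  have hcharB : CharP B p := charP_of_injective_algebraMap (FaithfulSMul.algebraMap_injective A B) p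
  let cst : ZMod p →+* B := (algebraMap A B).comp (ZMod.castHom (dvd_refl p) A)
  obtain ⟨s, hs⟩ := exists_sum_eq_one hΘ (fun _ => 1) rfl
  let T : B → B := fun y => ∑ g, σ g y
  have hT : ∀ h y, σ h (T y) = T y := fun h y => by
    simp only [T, map_sum]
    exact Fintype.sum_equiv (Equiv.mulLeft h) _ _ fun g => by simp [hσ]
  choose α hα using fun y : B => (mem_range_of_fixed hΘ.1 fun h => hT h y : ∃ a, algebraMap A B a = T y)
  have hI : Ideal.span ((fun q : B × B => α q.2) '' (s : Set (B × B))) = ⊤ := by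
    rw [← Ideal.comap_map_eq_self_of_faithfullyFlat (B := B) (Ideal.span _), Ideal.map_span, Ideal.eq_top_iff_one,
      Ideal.mem_comap, map_one, ← hs]
    refine Ideal.sum_mem _ fun q hq => Ideal.mul_mem_left _ _ (Ideal.subset_span ⟨_, ⟨q, hq, rfl⟩, ?_⟩)
    simp [hα, T]
  obtain ⟨θ, hθ⟩ : ∃ θ, T θ = 1 := by
    have h1 : (1 : A) ∈ Ideal.span ((fun q : B × B => α q.2) '' (s : Set (B × B))) := hI ▸ Submodule.mem_top
    obtain ⟨l, hl⟩ := (Submodule.mem_span_image_finset_iff_exists_fun' A).mp h1
    refine ⟨∑ i : s, algebraMap A B (l i) * i.1.2, ?_⟩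
    rw [← map_one (algebraMap A B), ← hl, map_sum]
    simp only [T, map_sum, smul_eq_mul, map_mul, AlgEquiv.commutes, hα]
    rw [Finset.sum_comm, ← Finset.sum_coe_sort s]
    exact Finset.sum_congr rfl fun i _ => by rw [Finset.mul_sum]
  let t : B := - ∑ g, cst g.toAdd * σ g θ
  have htk : ∀ k, σ k t = t + cst k.toAdd := fun k => by
    have h1 : σ k (∑ g, cst g.toAdd * σ g θ) = ∑ g, cst (g.toAdd - k.toAdd) * σ g θ := by
      rw [map_sum]
      refine Fintype.sum_equiv (Equiv.mulLeft k) _ _ fun g => ?_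
      simp [cst, hσ]
    simp only [t, map_neg, h1, map_sub, sub_mul, Finset.sum_sub_distrib, ← Finset.mul_sum]
    rw [show ∑ g, σ g θ = 1 from hθ, mul_one]
    ring
  have hcp : ∀ j, cst j ^ p = cst j := fun j => by rw [← map_pow, ZMod.pow_card]
  obtain ⟨a, ha⟩ : ∃ a, algebraMap A B a = t ^ p - t := mem_range_of_fixed hΘ.1 fun k => by
    rw [map_sub, map_pow, htk, add_pow_char, hcp]
    ring
  have ht : ∀ g h, g ≠ h → IsUnit (σ g t - σ h t) := fun g h hgh => by
    rw [htk, htk, add_sub_add_left_eq_sub, ← map_sub]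
    exact (sub_ne_zero.mpr fun he => hgh (Multiplicative.toAdd.injective he)).isUnit.map _
  let f : Polynomial A := Polynomial.X ^ p - Polynomial.X - Polynomial.C a
  have hp1 : 1 < p := (Fact.out : p.Prime).one_lt
  have : Nontrivial A := CharP.nontrivial_of_char_ne_one hp1.ne'
  have hf : f = Polynomial.X ^ p - (Polynomial.X + Polynomial.C a) := sub_sub _ _ _
  have hfm : f.Monic := hf ▸ Polynomial.monic_X_pow_sub (by rw [Polynomial.degree_X_add_C]; exact_mod_cast hp1)
  have hdeg : f.natDegree = Fintype.card (Multiplicative (ZMod p)) := by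
    rw [Fintype.card_multiplicative, ZMod.card, hf, Polynomial.natDegree_sub_eq_left_of_natDegree_lt]
    · exact Polynomial.natDegree_X_pow p
    · rw [Polynomial.natDegree_X_pow, Polynomial.natDegree_X_add_C]; exact hp1
  let ψ : AdjoinRoot f →ₐ[A] B := AdjoinRoot.liftAlgHom f (Algebra.ofId A B) t (by simp [f, Algebra.ofId_apply, ha])
  have hψ : Function.Bijective ψ := bijective_liftHom hΘ t ht f hfm hdeg ψ (AdjoinRoot.liftAlgHom_root ..)
  let ψ' : SGA1t.artinSchreier A p a →+* B := ψ.toRingHom
  refine ⟨a, e0 ≪≫ Scheme.Spec.mapIso (RingEquiv.toCommRingCatIso (RingEquiv.ofBijective ψ' hψ)).op, ?_, fun j => ?_⟩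
  · show (e0.hom ≫ Spec.map (CommRingCat.ofHom ψ')) ≫ _ = _
    rw [Category.assoc, ← Spec.map_comp, ← CommRingCat.ofHom_comp,
      show ψ'.comp (algebraMap A (SGA1t.artinSchreier A p a)) = algebraMap A B from RingHom.ext ψ.commutes]
    exact he0
  · show (ρ _).hom.left ≫ e0.hom ≫ Spec.map (CommRingCat.ofHom ψ') = (e0.hom ≫ Spec.map (CommRingCat.ofHom ψ')) ≫ _
    rw [reassoc_of% (he0σ _), Category.assoc, ← Spec.map_comp, ← Spec.map_comp, ← CommRingCat.ofHom_comp, ← CommRingCat.ofHom_comp]
    congr 3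
    refine Ideal.Quotient.ringHom_ext (Polynomial.ringHom_ext (fun b => ?_) ?_)
    · show σ _ (ψ (algebraMap A _ b)) = ψ' (SGA1t.artinSchreierShift A p a j (Ideal.Quotient.mk _ (Polynomial.C b)))
      rw [AlgHom.commutes, AlgEquiv.commutes, SGA1t.artinSchreierShift, Ideal.Quotient.lift_mk]
      simp only [RingHom.comp_apply, AlgHom.toRingHom_eq_coe, RingHom.coe_coe, Polynomial.aeval_C]
      exact (ψ.commutes b).symm
    · show σ _ (ψ (AdjoinRoot.root f)) = ψ' (SGA1t.artinSchreierShift A p a j (Ideal.Quotient.mk _ Polynomial.X))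
      rw [AdjoinRoot.liftAlgHom_root, htk, SGA1t.artinSchreierShift, Ideal.Quotient.lift_mk]
      simp only [RingHom.comp_apply, AlgHom.toRingHom_eq_coe, RingHom.coe_coe, Polynomial.aeval_X]
      show _ = ψ (AdjoinRoot.mk f (Polynomial.X + Polynomial.C _))
      rw [map_add, map_add, AdjoinRoot.mk_X, AdjoinRoot.mk_C, AdjoinRoot.liftAlgHom_root]
      exact congrArg (t + ·) (ψ.commutes _).symm

end Groth.Agent.S3721
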