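import Mathlib.Algebra.Homology.DerivedCategory.FullyFaithful
import Mathlib.Algebra.Homology.DerivedCategory.HomologySequence
import Mathlib.CategoryTheory.ComposableArrows.Basic
import Mathlib.Algebra.Homology.DerivedCategory.TStructure
import Mathlib.CategoryTheory.Triangulated.TStructure.TruncLTGE

set_option autoImplicit false
universe u v
open CategoryTheory CategoryTheory.Limits
attribute [local instance] HasDerivedCategory.standard
namespace EtDl
end EtDl
open EtDl

namespace Groth.Agent.S3731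

section Aux

open DerivedCategory Pretriangulated

variable {A : Type u} [Category.{v} A] [Abelian A]

lemma eq_zero_single {X Y : A} (j : ℤ) (h : (singleFunctor A j).obj X ⟶ (singleFunctor A j).obj Y)
    (h0 : (homologyFunctor A j).map h = 0) : h = 0 := by
  obtain ⟨c, rfl⟩ := (singleFunctor A j).map_surjective h
  have := (singleFunctorCompHomologyFunctorIso A j).hom.naturality c
  rw [Functor.comp_map, h0, zero_comp] at this
  have hc : c = 0 := by
    rw [← cancel_epi ((singleFunctorCompHomologyFunctorIso A j).hom.app X), comp_zero]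
    exact this.symm
  rw [hc, Functor.map_zero]

lemma eq_zero_of_homology {Z W : DerivedCategory A} (j : ℤ) [Z.IsLE j] [W.IsGE j] (ψ : Z ⟶ W)
    (h0 : (homologyFunctor A j).map ψ = 0) : ψ = 0 := by
  let t := (TStructure.t : Triangulated.TStructure (DerivedCategory A))
  let Z' := (t.truncGE j).obj Z
  let π : Z ⟶ Z' := (t.truncGEπ j).app Z
  let ψ' : Z' ⟶ W := t.descTruncGE ψ j
  have hψ : π ≫ ψ' = ψ := t.π_descTruncGE ψ j
  have hTZ := t.triangleLTGE_distinguished j Z
  have hGE : Z'.IsGE j := t.isGE_truncGE_obj Z j j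
  have hlt : ((t.truncLT j).obj Z).IsLE (j - 1) := t.isLE_truncLT_obj Z j (j - 1)
  have hLE : Z'.IsLE j := by
    rw [DerivedCategory.isLE_iff]
    intro i hi
    exact (HomologySequence.exact₃ _ hTZ i (i + 1)).isZero_X₂
      ((isZero_of_isLE Z j i hi).eq_of_src _ _)
      ((isZero_of_isLE ((t.truncLT j).obj Z) (j - 1) (i + 1) (by omega)).eq_of_tgt _ _)
  have hepi : Epi ((homologyFunctor A j).map π) :=
    (HomologySequence.epi_homologyMap_mor₂_iff _ hTZ j (j + 1)).2
      ((isZero_of_isLE ((t.truncLT j).obj Z) (j - 1) (j + 1) (by omega)).eq_of_tgt _ _)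
  let W' := (t.truncLT (j + 1)).obj W
  let ι : W' ⟶ W := (t.truncLTι (j + 1)).app W
  let ψ'' : Z' ⟶ W' := t.liftTruncLT ψ' j (j + 1) rfl
  have hψ' : ψ'' ≫ ι = ψ' := t.liftTruncLT_ι ψ' j (j + 1) rfl
  have hTW := t.triangleLTGE_distinguished (j + 1) W
  have hLE' : W'.IsLE j := t.isLE_truncLT_obj W (j + 1) j
  have hge : ((t.truncGE (j + 1)).obj W).IsGE (j + 1) := t.isGE_truncGE_obj W (j + 1) (j + 1)
  have hGE' : W'.IsGE j := by
    rw [DerivedCategory.isGE_iff]
    intro i hi
    exact (HomologySequence.exact₁ _ hTW (i - 1) i).isZero_X₂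
      ((isZero_of_isGE ((t.truncGE (j + 1)).obj W) (j + 1) (i - 1) (by omega)).eq_of_src _ _)
      ((isZero_of_isGE W j i hi).eq_of_tgt _ _)
  have hmono : Mono ((homologyFunctor A j).map ι) :=
    (HomologySequence.mono_homologyMap_mor₁_iff _ hTW (j - 1) j).2
      ((isZero_of_isGE ((t.truncGE (j + 1)).obj W) (j + 1) (j - 1) (by omega)).eq_of_src _ _)
  obtain ⟨X, ⟨eX⟩⟩ := exists_iso_singleFunctor_obj_of_isGE_of_isLE Z' j
  obtain ⟨Y, ⟨eY⟩⟩ := exists_iso_singleFunctor_obj_of_isGE_of_isLE W' j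
  have h1 : (homologyFunctor A j).map ψ'' = 0 := by
    rw [← cancel_epi ((homologyFunctor A j).map π), ← cancel_mono ((homologyFunctor A j).map ι),
      comp_zero, zero_comp, Category.assoc, ← Functor.map_comp, ← Functor.map_comp, hψ', hψ, h0]
  have h2 : eX.inv ≫ ψ'' ≫ eY.hom = 0 := eq_zero_single j _ (by
    rw [Functor.map_comp, Functor.map_comp, h1, zero_comp, comp_zero])
  have h3 : ψ'' = 0 := by
    rwa [← cancel_mono eY.hom, zero_comp, ← cancel_epi eX.inv, comp_zero]
  rw [← hψ, ← hψ', h3, zero_comp, comp_zero]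

lemma exists_lower {Z K : DerivedCategory A} (j : ℤ) [Z.IsLE j] (φ : Z ⟶ K)
    (h0 : (homologyFunctor A j).map φ = 0) :
    ∃ (Z' : DerivedCategory A) (_ : Z'.IsLE (j - 1)) (a : Z ⟶ Z') (b : Z' ⟶ K), φ = a ≫ b := by
  let t := (TStructure.t : Triangulated.TStructure (DerivedCategory A))
  have hT := t.triangleLTGE_distinguished j K
  have : ((t.truncGE j).obj K).IsGE j := t.isGE_truncGE_obj K j j
  obtain ⟨a, ha⟩ := Triangle.coyoneda_exact₂ _ hT φ (eq_zero_of_homology j _ (by
    change (homologyFunctor A j).map (φ ≫ (t.truncGEπ j).app K) = 0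
    rw [Functor.map_comp, h0, zero_comp]))
  exact ⟨_, t.isLE_truncLT_obj K j (j - 1), a, _, ha⟩

end Aux


/-- Let A be an abelian category, k ≥ 0, and K_0 -> K_1 -> ... -> K_{2k} a chain of 2k morphisms in the
derived category of A such that every K_i has H^p(K_i) = 0 for p outside [0, k] and every morphism
K_i -> K_{i+1} induces the zero map on H^p for all p < k. Let π : K_0 -> H^k(K_0)[-k] be the
morphism to the top cohomology object placed in degree k that induces the identity on H^k. Then the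
composite K_0 -> K_{2k} factors through π. -/
theorem result {A : Type u} [Category.{v} A] [Abelian A] (k : ℕ)
    (K : ComposableArrows (DerivedCategory A) (2 * k))
    (hK : ∀ (i : ℕ) (hi : i ≤ 2 * k) (p : ℤ), p < 0 ∨ (k : ℤ) < p →
      IsZero ((DerivedCategory.homologyFunctor A p).obj (K.obj' i)))
    (hf : ∀ (i : ℕ) (hi : i < 2 * k) (p : ℤ), p < (k : ℤ) →
      (DerivedCategory.homologyFunctor A p).map (K.map' i (i + 1)) = 0)
    (π : K.obj' 0 ⟶ (DerivedCategory.singleFunctor A (k : ℤ)).obj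
      ((DerivedCategory.homologyFunctor A (k : ℤ)).obj (K.obj' 0)))
    (hπ : (DerivedCategory.homologyFunctor A (k : ℤ)).map π ≫
      (DerivedCategory.singleFunctorCompHomologyFunctorIso A (k : ℤ)).hom.app
        ((DerivedCategory.homologyFunctor A (k : ℤ)).obj (K.obj' 0)) = 𝟙 _) :
    ∃ φ : (DerivedCategory.singleFunctor A (k : ℤ)).obj
        ((DerivedCategory.homologyFunctor A (k : ℤ)).obj (K.obj' 0)) ⟶ K.obj' (2 * k),
      K.map' 0 (2 * k) = π ≫ φ := by
  open DerivedCategory Pretriangulated in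
  classical
  have hLE : ∀ (i : ℕ) (hi : i ≤ 2 * k), (K.obj' i).IsGE 0 := fun i hi => by
    rw [DerivedCategory.isGE_iff]
    exact fun p hp => hK i hi p (Or.inl hp)
  obtain ⟨Z0, α, γ, hT⟩ := distinguished_cocone_triangle₁ π
  let H := (DerivedCategory.homologyFunctor A (k : ℤ)).obj (K.obj' 0)
  have hiso : IsIso ((DerivedCategory.homologyFunctor A (k : ℤ)).map π) := by
    rw [← isIso_comp_right_iff _ ((DerivedCategory.singleFunctorCompHomologyFunctorIso A (k : ℤ)).hom.app H)]
    rw [hπ]; infer_instance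
  have hZ0 : Z0.IsLE ((k : ℤ) - 1) := by
    rw [DerivedCategory.isLE_iff]
    intro p hp
    refine (HomologySequence.exact₁ _ hT (p - 1) p).isZero_X₂ ?_ ?_
    · by_cases hpk : p - 1 = k
      · obtain rfl : p = (k : ℤ) + 1 := by omega
        have : Epi ((DerivedCategory.homologyFunctor A ((k : ℤ) + 1 - 1)).map (Triangle.mk α π γ).mor₂) := by
          rw [hpk]; exact inferInstanceAs (Epi ((DerivedCategory.homologyFunctor A (k : ℤ)).map π))
        exact (HomologySequence.epi_homologyMap_mor₂_iff _ hT _ _).1 this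
      · refine IsZero.eq_of_src ?_ _ _
        rcases lt_trichotomy (p - 1) (k : ℤ) with h | h | h
        · exact isZero_of_isGE ((singleFunctor A (k : ℤ)).obj H) k (p - 1) h
        · exact absurd h hpk
        · exact isZero_of_isLE ((singleFunctor A (k : ℤ)).obj H) k (p - 1) h
    · by_cases hpk : p = k
      · subst hpk
        have hm : Mono ((DerivedCategory.homologyFunctor A (k : ℤ)).map (Triangle.mk α π γ).mor₂) :=
          inferInstanceAs (Mono ((DerivedCategory.homologyFunctor A (k : ℤ)).map π))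
        exact (HomologySequence.mono_homologyMap_mor₂_iff _ hT _).1 hm
      · exact IsZero.eq_of_tgt (hK 0 (Nat.zero_le _) p (Or.inr (by omega))) _ _
  have key : ∀ (i : ℕ) (hi : i ≤ k), ∃ (Z : DerivedCategory A) (_ : Z.IsLE ((k : ℤ) - 1 - i))
      (a : Z0 ⟶ Z) (b : Z ⟶ K.obj' i), α ≫ K.map' 0 i = a ≫ b := by
    intro i
    induction i with
    | zero =>
      intro _
      refine ⟨Z0, by simpa using hZ0, 𝟙 _, α, ?_⟩
      rw [K.map'_self 0, Category.comp_id, Category.id_comp]
    | succ i ih =>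
      intro hi
      obtain ⟨Z, hZ, a, b, hab⟩ := ih (by omega)
      obtain ⟨Z', hZ', a', b', hab'⟩ := exists_lower ((k : ℤ) - 1 - i) (b ≫ K.map' i (i + 1)) (by
        rw [Functor.map_comp, hf i (by omega) _ (by omega), comp_zero])
      refine ⟨Z', ?_, a ≫ a', b', ?_⟩
      · rw [show (k : ℤ) - 1 - ((i + 1 : ℕ) : ℤ) = (k : ℤ) - 1 - i - 1 by omega]
        exact hZ'
      · rw [Category.assoc, ← hab', ← Category.assoc, ← hab, Category.assoc,
          ← K.map'_comp 0 i (i + 1)]
  obtain ⟨Z, hZ, a, b, hab⟩ := key k le_rfl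
  have : (K.obj' k).IsGE 0 := hLE k (by omega)
  have : Z.IsLE (-1) := by simpa using hZ
  have hb : b = 0 := TStructure.t.zero_of_isLE_of_isGE b (-1) 0 (by omega) ‹_› ‹_›
  have hz : α ≫ K.map' 0 (2 * k) = 0 := by
    rw [K.map'_comp 0 k (2 * k), ← Category.assoc, hab, hb, comp_zero, zero_comp]
  obtain ⟨φ, hφ⟩ := Triangle.yoneda_exact₂ _ hT (K.map' 0 (2 * k)) hz
  exact ⟨φ, hφ⟩

end Groth.Agent.S3731
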