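import Groth.Statements.S3745
import Groth.Agent.KRR40.LFDim
-- import your own Groth.Agent.* helpers here

set_option autoImplicit false
universe v u
open CategoryTheory CategoryTheory.Limits AlgebraicGeometry
attribute [local instance] HasDerivedCategory.standard
open KRR

namespace Groth.Agent.S3745

/-- Let X be a Noetherian scheme on which every coherent module is a quotient of a finite locally free
module. Then the homomorphism from K₀ of finite locally free O_X-modules to K₀ of the coherent
O_X-modules admitting a finite resolution by finite locally free modules, induced by the inclusion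
of categories (the argument h records that inclusion), is bijective. (Its inverse sends the class of
such a module to the alternating sum of the classes of the terms of any finite locally free
resolution. The source's standing connectedness assumption plays no role here and is omitted.) -/
theorem result (X : Scheme.{u}) [IsNoetherian X] (hX : KRR.HasEnoughLocFree X)
    (h : ∀ M : X.Modules, FlatMod.IsFinLocFree M → Coh.IsCoh M ∧ KRR.HasLFRes M) :
    Function.Bijective (SGA6.mapSub (𝟭 X.Modules) (KRR.vbP X) (fun M : X.Modules => Coh.IsCoh M ∧ KRR.HasLFRes M) h) := by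
  haveI : ObjectProperty.IsClosedUnderIsomorphisms (C := X.Modules)
      (fun M : X.Modules => Coh.IsCoh M ∧ KRR.HasLFRes M) :=
    ⟨fun e hM => ⟨Groth.Agent.QC70.isCoh_of_iso e hM.1, Groth.Agent.KRR40.hasLFRes_iso e hM.2⟩⟩
  have H := Groth.Agent.KRR40.hyp hX (P := fun M : X.Modules => Coh.IsCoh M ∧ KRR.HasLFRes M) h
    (fun M hM => hM.1) (fun M hM => Groth.Agent.KRR40.exists_pd_of_hasLFRes hM.2)
    fun S hS h₂ h₃ => by
      have hc := Groth.Agent.KRR40.isCoh_X₁ hS h₂.1 h₃.1
      obtain ⟨a, ha⟩ := Groth.Agent.KRR40.exists_pd_of_hasLFRes h₂.2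
      obtain ⟨b, hb⟩ := Groth.Agent.KRR40.exists_pd_of_hasLFRes h₃.2
      exact ⟨hc, Groth.Agent.KRR40.hasLFRes_of_pd hX hc
        (Groth.Agent.KRR40.pd_X₁ hS (Groth.Agent.KRR40.pd_mono (Nat.le_max_left a b) ha)
          (Groth.Agent.KRR40.pd_mono (Nat.le_succ_of_le (Nat.le_max_right a b)) hb))⟩
  refine H.bijective_of _ fun M hM => ?_
  rw [Groth.Agent.K0Res3.cls_eq (P := KRR.vbP X) hM,
    Groth.Agent.K0Res3.cls_eq (P := fun M : X.Modules => Coh.IsCoh M ∧ KRR.HasLFRes M) (h M hM)]
  exact congrArg _ (FreeAbelianGroup.map_of_apply _)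

end Groth.Agent.S3745
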