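import Groth.Statements.S3747
import Groth.Agent.KRR40.ProjFormula
import Groth.Agent.KRR40.TensorPC
import Groth.Agent.KRR40.Pull
-- import your own Groth.Agent.* helpers here

set_option autoImplicit false
universe v u
open CategoryTheory CategoryTheory.Limits AlgebraicGeometry
attribute [local instance] HasDerivedCategory.standard
open KRR

namespace Groth.Agent.S3747

/-- Let f : X ⟶ Y be a regular closed imbedding of connected Noetherian schemes, where on Y every
coherent module is a quotient of a finite locally free one. Let (KX, PX, φX), (KY, PY, φY) be models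
of the λ-rings K(X), K(Y); let g : K(Y) ⟶ K(X) be the pull-back f^K ([E] ↦ [f^*E]) and h : K(X) ⟶
K(Y) the push-forward f_K ([F] ↦ alternating sum of the terms of a finite locally free resolution of
f_*F). Then h (x · g y) = h x · y for all x, y. -/
theorem result {X Y : Scheme.{u}} (f : X ⟶ Y) (hf : Mor2.IsRegularClosedImmersion f)
    [IsNoetherian X] [ConnectedSpace ↥X] [IsNoetherian Y] [ConnectedSpace ↥Y] (hYe : KRR.HasEnoughLocFree Y)
    (KX : Type v) [CommRing KX] [LambdaRing.LambdaOps KX] (PX : LambdaRing.PosStructure KX) (φX : SGA6.Kvb X →+ KX) (hKX : KRR.IsModel X KX PX φX)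
    (KY : Type v) [CommRing KY] [LambdaRing.LambdaOps KY] (PY : LambdaRing.PosStructure KY) (φY : SGA6.Kvb Y →+ KY) (hKY : KRR.IsModel Y KY PY φY)
    (g : KY →+ KX) (hg : KRR.IsPull f φY φX g) (h : KX →+ KY) (hh : KRR.IsPushCl f φX φY h)
    (x : KX) (y : KY) : h (x * g y) = h x * y := by
  haveI := hf.1
  let eX := AddEquiv.ofBijective φX hKX.bijective
  let eY := AddEquiv.ofBijective φY hKY.bijective
  obtain ⟨v, rfl⟩ := hKY.bijective.2 y
  refine DFunLike.congr_fun (Groth.Agent.KRR40.hom_ext₀ (P := KRR.vbP Y)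
    (g := h.comp ((AddMonoidHom.mulLeft x).comp (g.comp φY)))
    (g' := (AddMonoidHom.mulLeft (h x)).comp φY) fun N hN => ?_) v
  show h (x * g (φY (KRR.cl Y N))) = h x * φY (KRR.cl Y N)
  obtain ⟨w, rfl⟩ := hKX.bijective.2 x
  refine eY.symm.injective ((Groth.Agent.KRR40.bijective_toP hYe).1 ?_)
  refine Eq.trans ?_ (Groth.Agent.KRR40.toP_mul hKY hN (h (φX w))).symm
  rw [Groth.Agent.KRR40.toP_pushCl f hf hYe hKY.bijective hh w, hg N hN]
  have hfN := Groth.Agent.KRR40.vb_pullback f hN
  refine DFunLike.congr_fun (Groth.Agent.KRR40.hom_ext₀ (P := KRR.vbP X)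
    (g := Groth.Agent.KRR40.toP.comp (eY.symm.toAddMonoidHom.comp (h.comp ((AddMonoidHom.mulRight
      (φX (KRR.cl X ((Scheme.Modules.pullback f).obj N)))).comp φX))))
    (g' := (Groth.Agent.KRR40.tensP hN).comp (Groth.Agent.KRR40.pushVP f hf hYe)) fun M hM => ?_) w
  show Groth.Agent.KRR40.toP (eY.symm (h (φX (KRR.cl X M) * φX (KRR.cl X ((Scheme.Modules.pullback f).obj N))))) =
    Groth.Agent.KRR40.tensP hN (Groth.Agent.KRR40.pushVP f hf hYe (KRR.cl X M))
  have hMN := Groth.Agent.KRR40.vb_tensor hM hfN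
  rw [hKX.map_mul M _ hM hfN]
  refine (Groth.Agent.KRR40.toP_pushCl f hf hYe hKY.bijective hh _).trans ?_
  rw [Groth.Agent.KRR40.pushVP_cl f hf hYe hM,
    Groth.Agent.KRR40.tensP_cl hN (Groth.Agent.KRR40.pc_pushforward_vb f hf hYe hM)]
  refine (Groth.Agent.KRR40.pushVP_cl f hf hYe hMN).trans ?_
  haveI := Groth.Agent.KRR40.isIso_projHom_closed f M N
  exact (Groth.Agent.KRR40.cls_iso (P := Groth.Agent.KRR40.PC Y)
    (asIso (Groth.Agent.ValVan29.projHom f M N))
    (Groth.Agent.KRR40.pc_tensor (Groth.Agent.KRR40.pc_pushforward_vb f hf hYe hM) hN)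
    fun _ => Groth.Agent.KRR40.pc_of_isZero).symm

end Groth.Agent.S3747
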