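import Groth.Statements.S3749
import Groth.Agent.KRR40.TorPull
import Groth.Agent.KRR40.PKApp
import Groth.Agent.Omega57.Diag
-- import your own Groth.Agent.* helpers here

set_option autoImplicit false
universe v u
open CategoryTheory CategoryTheory.Limits AlgebraicGeometry
attribute [local instance] HasDerivedCategory.standard
open KRR

namespace Groth.Agent.S3749

/-- Let F : P ⟶ M be a regular closed imbedding and φ : Y ⟶ M a morphism, and form the fibre square X =
P ×_M Y with projections f : X ⟶ Y, ψ : X ⟶ P. Assume f is a regular closed imbedding of the same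
codimension as F (both conormal modules finite locally free of the same rank d). All schemes are
connected and Noetherian, and on M and on Y every coherent module is a quotient of a finite locally
free one. Then on the K-rings (through models, pull-backs φ^K, ψ^K and push-forwards F_K, f_K) one
has φ^K (F_K p) = f_K (ψ^K p) for every p ∈ K(P). -/
theorem result {X Y P M : Scheme.{u}} (F : P ⟶ M) (φ : Y ⟶ M) (f : X ⟶ Y) (ψ : X ⟶ P)
    (hsq : IsPullback f ψ φ F) (hF : Mor2.IsRegularClosedImmersion F) (hf : Mor2.IsRegularClosedImmersion f) (d : ℕ)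
    (hcF : FlatMod.IsFinLocFreeOfRank d (Omega.conormal F)) (hcf : FlatMod.IsFinLocFreeOfRank d (Omega.conormal f))
    [IsNoetherian X] [ConnectedSpace ↥X] [IsNoetherian P] [ConnectedSpace ↥P] [IsNoetherian Y] [ConnectedSpace ↥Y] (hYe : KRR.HasEnoughLocFree Y) [IsNoetherian M] [ConnectedSpace ↥M] (hMe : KRR.HasEnoughLocFree M)
    (KX : Type v) [CommRing KX] [LambdaRing.LambdaOps KX] (PX : LambdaRing.PosStructure KX) (φX : SGA6.Kvb X →+ KX) (hKX : KRR.IsModel X KX PX φX)
    (KY : Type v) [CommRing KY] [LambdaRing.LambdaOps KY] (PY : LambdaRing.PosStructure KY) (φY : SGA6.Kvb Y →+ KY) (hKY : KRR.IsModel Y KY PY φY)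
    (KP : Type v) [CommRing KP] [LambdaRing.LambdaOps KP] (PP : LambdaRing.PosStructure KP) (φP : SGA6.Kvb P →+ KP) (hKP : KRR.IsModel P KP PP φP)
    (KM : Type v) [CommRing KM] [LambdaRing.LambdaOps KM] (PM : LambdaRing.PosStructure KM) (φM : SGA6.Kvb M →+ KM) (hKM : KRR.IsModel M KM PM φM)
    (gφ : KM →+ KY) (hgφ : KRR.IsPull φ φM φY gφ) (gψ : KP →+ KX) (hgψ : KRR.IsPull ψ φP φX gψ)
    (gF : KP →+ KM) (hgF : KRR.IsPushCl F φP φM gF) (gf : KX →+ KY) (hgf : KRR.IsPushCl f φX φY gf)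
    (p : KP) : gφ (gF p) = gf (gψ p) := by
  haveI := hF.1
  haveI := hf.1
  obtain ⟨z, rfl⟩ := hKP.bijective.2 p
  refine DFunLike.congr_fun (Groth.Agent.KRR40.hom_ext₀ (P := KRR.vbP P)
    (g := gφ.comp (gF.comp φP)) (g' := gf.comp (gψ.comp φP)) fun E hE => ?_) z
  show gφ (gF (φP (KRR.cl P E))) = gf (gψ (φP (KRR.cl P E)))
  let eM := AddEquiv.ofBijective φM hKM.bijective
  let eY := AddEquiv.ofBijective φY hKY.bijective
  obtain ⟨w, hw⟩ := hKM.bijective.2 (gF (φP (KRR.cl P E)))
  have hwP : Groth.Agent.KRR40.toP w = Groth.Agent.KRR40.clP M ((Scheme.Modules.pushforward F).obj E) := by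
    rw [← Groth.Agent.KRR40.pushVP_cl F hF hMe hE, ← Groth.Agent.KRR40.toP_pushCl F hF hMe hKM.bijective hgF, ← hw]
    exact congrArg Groth.Agent.KRR40.toP (eM.symm_apply_apply w).symm
  have hpull : gφ (φM w) = φY (Groth.Agent.KRR40.pullK φ w) := by
    refine DFunLike.congr_fun (Groth.Agent.KRR40.hom_ext₀ (P := KRR.vbP M)
      (g := gφ.comp φM) (g' := φY.comp (Groth.Agent.KRR40.pullK φ)) fun N hN => ?_) w
    exact (hgφ N hN).trans (congrArg φY (Groth.Agent.KRR40.pullK_cl φ hN).symm)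
  have hv := Groth.Agent.KRR40.vb_pullback ψ hE
  rw [← hw, hpull, hgψ E hE]
  refine eY.symm.injective ((Groth.Agent.KRR40.bijective_toP hYe).1 ?_)
  rw [show eY.symm (φY (Groth.Agent.KRR40.pullK φ w)) = _ from eY.symm_apply_apply _,
    Groth.Agent.KRR40.toP_pushCl f hf hYe hKY.bijective hgf, Groth.Agent.KRR40.pushVP_cl f hf hYe hv]
  have hc := Groth.Agent.KRR40.pc_pushforward_vb F hF hMe hE
  obtain ⟨hP, hval⟩ := Groth.Agent.KRR40.pullK_of_tip φ hMe _ _ hc.1 hc.2.choose_spec
    (Groth.Agent.KRR40.tip_pushforward hsq hF hf hcF hcf hE)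
  rw [hval w hwP]
  haveI := Groth.Agent.Props58.LocFree.isQuasicoherent_of_isFinLocFree hE
  haveI := Groth.Agent.FMK72.isIso_bcNat_app (f := F) (g := f) (p := φ) (q := ψ) hsq.w hsq E
  exact Groth.Agent.KRR40.cls_iso (P := Groth.Agent.KRR40.PC Y)
    (asIso ((Groth.Agent.FMK72.bcNat (f := F) (g := f) (p := φ) (q := ψ) hsq.w).app E)) hP
    fun _ => Groth.Agent.KRR40.pc_of_isZero

end Groth.Agent.S3749
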