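import Groth.Statements.S3750
import Groth.Agent.KRR40.PullOff
import Groth.Agent.KRR40.PushCl
-- import your own Groth.Agent.* helpers here

set_option autoImplicit false
universe v u
open CategoryTheory CategoryTheory.Limits AlgebraicGeometry
attribute [local instance] HasDerivedCategory.standard
open KRR

namespace Groth.Agent.S3750

/-- Let F : P ⟶ M and f : X ⟶ Y be regular closed imbeddings whose conormal sheaves are locally free of
the same rank d, fitting in a cartesian square with φ : Y ⟶ M and ψ : X ⟶ P (so X = Y ×_M P), all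
these schemes Noetherian and connected and Y, M having enough locally free sheaves. Let k : Z ⟶ Y be
a morphism from a connected Noetherian scheme whose image is disjoint from f(X), and h = k ≫ φ : Z ⟶
M. Then, on models of the λ-rings K(P), K(M) and K(Z), the pull-back h^K : K(M) → K(Z) kills the
image of the push-forward F_K : K(P) → K(M): h^K(F_K(p)) = 0 for every p ∈ K(P). -/
theorem result {X Y P M Z : Scheme.{u}} (F : P ⟶ M) (φ : Y ⟶ M) (f : X ⟶ Y) (ψ : X ⟶ P)
    (hsq : IsPullback f ψ φ F) (hF : Mor2.IsRegularClosedImmersion F) (hf : Mor2.IsRegularClosedImmersion f) (d : ℕ)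
    (hcF : FlatMod.IsFinLocFreeOfRank d (Omega.conormal F)) (hcf : FlatMod.IsFinLocFreeOfRank d (Omega.conormal f))
    (k : Z ⟶ Y) (hk : Disjoint (Set.range k.base) (Set.range f.base))
    [IsNoetherian X] [ConnectedSpace ↥X] [IsNoetherian P] [ConnectedSpace ↥P] [IsNoetherian Z] [ConnectedSpace ↥Z] [IsNoetherian Y] [ConnectedSpace ↥Y] (hYe : KRR.HasEnoughLocFree Y) [IsNoetherian M] [ConnectedSpace ↥M] (hMe : KRR.HasEnoughLocFree M)
    (KP : Type v) [CommRing KP] [LambdaRing.LambdaOps KP] (PP : LambdaRing.PosStructure KP) (φP : SGA6.Kvb P →+ KP) (hKP : KRR.IsModel P KP PP φP)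
    (KM : Type v) [CommRing KM] [LambdaRing.LambdaOps KM] (PM : LambdaRing.PosStructure KM) (φM : SGA6.Kvb M →+ KM) (hKM : KRR.IsModel M KM PM φM)
    (KZ : Type v) [CommRing KZ] [LambdaRing.LambdaOps KZ] (PZ : LambdaRing.PosStructure KZ) (φZ : SGA6.Kvb Z →+ KZ) (hKZ : KRR.IsModel Z KZ PZ φZ)
    (gh : KM →+ KZ) (hgh : KRR.IsPull (k ≫ φ) φM φZ gh)
    (gF : KP →+ KM) (hgF : KRR.IsPushCl F φP φM gF) (p : KP) : gh (gF p) = 0 := by
  haveI := hF.1
  obtain ⟨w, rfl⟩ := hKP.bijective.2 p
  refine DFunLike.congr_fun (Groth.Agent.KRR40.hom_ext₀ (P := KRR.vbP P)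
    (g := gh.comp (gF.comp φP)) (g' := 0) fun E hE => ?_) w
  show gh (gF (φP (KRR.cl P E))) = 0
  have hpc := Groth.Agent.KRR40.pc_pushforward_vb F hF hMe hE
  obtain ⟨n, L, π, hL⟩ := Groth.Agent.KRR40.hasLFRes_of_pd hMe hpc.1 hpc.2.choose_spec
  rw [hgF E hE n L π hL, map_sum]
  have hoff : ∀ z : Z, IsZero ((Groth.Agent.DCK91.SP ((k ≫ φ) z)).obj ((Scheme.Modules.pushforward F).obj E)) := by
    intro z
    haveI : Subsingleton ((Groth.Agent.DCK91.SP ((k ≫ φ) z)).obj ((Scheme.Modules.pushforward F).obj E)) := by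
      refine Groth.Agent.KRR40.subsingleton_stalk_pushforward F E ?_
      rintro ⟨q, hq⟩
      obtain ⟨w', hw, -⟩ := Scheme.Pullback.exists_preimage_pullback (f := φ) (g := F) (k z) q hq.symm
      refine Set.disjoint_left.1 hk ⟨z, rfl⟩ ⟨hsq.isoPullback.inv w', ?_⟩
      rw [← hw, ← Scheme.Hom.comp_apply, IsPullback.isoPullback_inv_fst]
    exact ModuleCat.isZero_of_subsingleton _
  have h0 := congrArg φZ (Groth.Agent.KRR40.sum_pullback_eq_zero (k ≫ φ) hL hoff)
  rw [map_sum, map_zero] at h0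
  refine Eq.trans (Finset.sum_congr rfl fun i _ => ?_) h0
  rw [map_zsmul, map_zsmul, hgh _ (hL.finLocFree i)]

end Groth.Agent.S3750
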