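import Groth.Statements.S3771
import Groth.Agent.RegImm10.BlowCech.LocFree
import Groth.Agent.KRR40.TorPull
import Groth.Agent.KRR40.PKValues
-- import your own Groth.Agent.* helpers here

set_option autoImplicit false
universe v u
open CategoryTheory CategoryTheory.Limits AlgebraicGeometry
attribute [local instance] HasDerivedCategory.standard
open KRR

namespace Groth.Agent.S3771

/-- Let S be an affine Noetherian scheme, Y a connected Noetherian scheme quasi-projective over S all of
whose local rings are regular, f : X ⟶ Y a regular closed immersion of codimension d ≥ 1 (conormal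
module finite locally free of rank d) with X connected and all local rings of X regular, and φ : Y₁
⟶ Y a blowing up of Y along X (universal property with respect to the kernel ideal sheaf of f). Then
the canonical map O_Y ⟶ φ_* φ^* O_Y = φ_* O_{Y₁} is an isomorphism and R^i φ_* O_{Y₁} = 0 for every
i ≥ 1 (higher direct images of the underlying abelian sheaf). (The published statement is more
general; this is the case where X and Y are regular.) -/
theorem result (S : Scheme.{u}) [IsAffine S] [IsNoetherian S] {X Y Y₁ : Scheme.{u}} [IsNoetherian Y] [ConnectedSpace ↥Y] (qY : Y ⟶ S) (hqY : KRR.IsQProjOver qY)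
    (hYreg : ∀ y : Y, IsRegularLocalRing (Y.presheaf.stalk y))
    (f : X ⟶ Y) (hf : Mor2.IsRegularClosedImmersion f) [ConnectedSpace ↥X] (d : ℕ) (hd : 1 ≤ d)
    (hC : FlatMod.IsFinLocFreeOfRank d (Omega.conormal f)) (hXreg : ∀ x : X, IsRegularLocalRing (X.presheaf.stalk x))
    (φ : Y₁ ⟶ Y) (hφ : BlowUp.IsBlowUp φ f.ker) :
    IsIso ((Scheme.Modules.pullbackPushforwardAdjunction φ).unit.app (Coh.structureModule Y)) ∧
    ∀ i : ℕ, 1 ≤ i → IsZero ((Coh.RpushAb φ i).obj (Coh.toAb (Coh.structureModule Y₁))) := by
  have := hf.1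
  have hI : Groth.Agent.RegImm10.BlowCech.HasGens f.ker 1 := by
    refine Groth.Agent.RegImm10.BlowCech.hasGens_of_support le_rfl fun x hx => ?_
    obtain ⟨z, rfl⟩ := (Groth.Agent.RegImm10.BlowCech.coe_support_ker f).le hx
    obtain ⟨U, hU, hzU, rs, hreg, hker⟩ := hf.2 z
    refine ⟨⟨U, hU⟩, hzU, rs, ?_, Groth.Agent.Koszul19.kR_of_isWeaklyRegular rs hreg.1, hker⟩
    by_contra hlen
    obtain rfl : rs = [] := by
      cases rs with
      | nil => rfl
      | cons => simp at hlen
    have h0 : RingHom.ker (f.stalkMap z).hom = ⊥ := by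
      rw [Groth.Agent.FlatMor68.FlatInfNbhd.ker_stalkMap_closedImmersion,
        Groth.Agent.Div89.stalkIdeal_eq _ ⟨U, hU⟩ _ hzU, hker, Ideal.ofList_nil, Ideal.map_bot]
    have := Groth.Agent.KRR40.spanFinrank_ker_stalkMap f hC z
    rw [h0, Submodule.spanFinrank_bot] at this
    omega
  have hO := Groth.Agent.KRR40.vb_structure Y
  refine ⟨Groth.Agent.Desc59.Pic.VectPush.isIso_unit φ
    (fun U => Groth.Agent.RegImm10.BlowCech.app_bijective hφ le_rfl hI U) hO, fun i hi => ?_⟩
  exact (Groth.Agent.RegImm10.BlowCech.isZero_pullback_locFree hφ le_rfl hI hO hi).of_iso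
    ((Coh.RpushAb φ i).mapIso ((SheafOfModules.toSheaf _).mapIso (PicLoc.pullbackStructureIso φ))).symm

end Groth.Agent.S3771
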