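import Groth.Statements.S3799
import Groth.Agent.KRR40.PushCl
-- import your own Groth.Agent.* helpers here

set_option autoImplicit false
universe v u
open CategoryTheory CategoryTheory.Limits AlgebraicGeometry
attribute [local instance] HasDerivedCategory.standard
open KRR

namespace Groth.Agent.S3799

/-- Let f : X ⟶ Y be a regular closed imbedding of connected Noetherian schemes, where every coherent
module on Y is a quotient of a finite locally free one, and (KX, PX, φX), (KY, PY, φY) models of
K(X), K(Y). Then there is a unique additive map h : K(X) ⟶ K(Y) such that h[F] = Σ_k (-1)^k [L_k]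
for every finite locally free F on X and every finite resolution L of f_* F by finite locally free
modules (the push-forward f_K). -/
theorem result {X Y : Scheme.{u}} (f : X ⟶ Y) (hf : Mor2.IsRegularClosedImmersion f)
    [IsNoetherian X] [ConnectedSpace ↥X] [IsNoetherian Y] [ConnectedSpace ↥Y] (hYe : KRR.HasEnoughLocFree Y)
    (KX : Type v) [CommRing KX] [LambdaRing.LambdaOps KX] (PX : LambdaRing.PosStructure KX) (φX : SGA6.Kvb X →+ KX) (hKX : KRR.IsModel X KX PX φX)
    (KY : Type v) [CommRing KY] [LambdaRing.LambdaOps KY] (PY : LambdaRing.PosStructure KY) (φY : SGA6.Kvb Y →+ KY) (hKY : KRR.IsModel Y KY PY φY) :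
    ∃! h : KX →+ KY, KRR.IsPushCl f φX φY h := by
  haveI := hf.1
  let eX := AddEquiv.ofBijective φX hKX.bijective
  let eP := AddEquiv.ofBijective _ (Groth.Agent.KRR40.bijective_toP hYe)
  refine ⟨φY.comp (eP.symm.toAddMonoidHom.comp
    ((Groth.Agent.KRR40.pushVP f hf hYe).comp eX.symm.toAddMonoidHom)), fun M hM n L π hL => ?_, fun g hg => ?_⟩
  · show φY (eP.symm (Groth.Agent.KRR40.pushVP f hf hYe (eX.symm (eX (KRR.cl X M))))) = _
    rw [AddEquiv.symm_apply_apply, Groth.Agent.KRR40.pushVP_cl f hf hYe hM,
      ← Groth.Agent.KRR40.toP_sum hL]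
    refine (congrArg φY (eP.symm_apply_apply _)).trans ?_
    rw [map_sum]
    exact Finset.sum_congr rfl fun k _ => map_zsmul φY _ _
  · refine AddMonoidHom.ext fun x => ?_
    obtain ⟨z, rfl⟩ := eX.surjective x
    show g (φX z) = φY (eP.symm (Groth.Agent.KRR40.pushVP f hf hYe (eX.symm (eX z))))
    rw [AddEquiv.symm_apply_apply, ← Groth.Agent.KRR40.toP_pushCl f hf hYe hKY.bijective hg z]
    refine ((congrArg φY (eP.symm_apply_apply _)).trans ?_).symm
    exact (AddEquiv.ofBijective φY hKY.bijective).apply_symm_apply (g (φX z))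

end Groth.Agent.S3799
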