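import Groth.Statements.S3807
import Groth.Agent.PPH.Basic

set_option autoImplicit false
universe u
open scoped TensorProduct
attribute [local instance] PP16.mapAlgebra PP16.isScalarTower_mapAlgebra
open PP16

namespace Groth.Agent.S3807

open Groth.Agent.PPH

/-- Let B be an A-algebra, S a multiplicative subset of B and B' = S⁻¹B. Then the canonical map
S⁻¹P^n_{B/A} → P^n_{B'/A} induced by functoriality is an isomorphism: P^n_{B'/A} is the localization
of P^n_{B/A} at the image of S. -/
theorem result (n : ℕ) (A B B' : Type u) [CommRing A] [CommRing B] [Algebra A B]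
    [CommRing B'] [Algebra B B'] [Algebra A B'] [IsScalarTower A B B'] (S : Submonoid B) [IsLocalization S B'] :
    IsLocalization (S.map (algebraMap B (PP16.P n A B))) (PP16.P n A B') := by
  let S' := S.map (algebraMap B (P n A B))
  suffices key : ∀ (T : Type u) [CommRing T] [Algebra (P n A B) T] [Algebra A T]
      [IsScalarTower A (P n A B) T] [IsLocalization S' T],
      IsLocalization S' (P n A B') from key (Localization S')
  intro T _ _ _ _ _
  let q : P n A B →ₐ[A] T := IsScalarTower.toAlgHom A (P n A B) T
  have hu : ∀ s : S, IsUnit (q (algebraMap B _ (s : B))) := fun s =>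
    IsLocalization.map_units T (⟨_, Submonoid.mem_map_of_mem _ s.2⟩ : S')
  have hud : ∀ s : S, IsUnit (q (dn n A B (s : B))) := by
    intro s
    have h : q (dn n A B (s : B)) = q (algebraMap B _ (s : B)) + q (delta n A B s) := by
      rw [← map_add]; simp [delta]
    rw [h]
    exact ((isNilpotent_delta n A B s).map _).isUnit_add_left_of_commute (hu s) (mul_comm (G := T) _ _)
  let g : B' →ₐ[A] T := IsLocalization.liftAlgHom (M := S) (P := T)
    (f := q.comp (IsScalarTower.toAlgHom A B (P n A B))) hu
  let f : B' →ₐ[A] T := IsLocalization.liftAlgHom (M := S) (P := T) (f := q.comp (dn n A B)) hud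
  have hg : ∀ b, g (algebraMap B B' b) = q (algebraMap B _ b) := fun b => by
    exact IsLocalization.lift_eq _ b
  have hf : ∀ b, f (algebraMap B B' b) = q (dn n A B b) := fun b => by
    exact IsLocalization.lift_eq _ b
  let J : Ideal T := (augIdeal n A B).map q.toRingHom
  have hJ : ∀ x, f x - g x ∈ J := by
    intro x
    refine Ideal.Quotient.eq.mp ?_
    refine RingHom.congr_fun (f := (Ideal.Quotient.mk J).comp f.toRingHom)
      (g := (Ideal.Quotient.mk J).comp g.toRingHom)
      (IsLocalization.ringHom_ext S (RingHom.ext fun b => Ideal.Quotient.eq.mpr ?_)) x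
    change f (algebraMap B B' b) - g (algebraMap B B' b) ∈ J
    rw [hf, hg]
    exact sub_mem_map q.toRingHom b
  obtain ⟨inv, hinv1, hinv2⟩ := exists_desc (n := n) g f hJ (map_ideal_pow_eq_bot q.toRingHom)
  have hum : ∀ y : S', IsUnit (PP16.map n A B A B' (y : P n A B)) := by
    rintro ⟨_, s, hs, rfl⟩
    change IsUnit (PP16.map n A B A B' (algebraMap B _ s))
    rw [map_algebraMap]
    exact (IsLocalization.map_units B' (⟨s, hs⟩ : S)).map _
  let fwd : T →ₐ[A] P n A B' := IsLocalization.liftAlgHom (M := S') (f := PP16.map n A B A B') hum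
  have hfwd : ∀ x, fwd (q x) = PP16.map n A B A B' x := fun x => by simp [fwd, q]
  have hinv : inv.comp (PP16.map n A B A B') = q := by
    refine algHom_ext' (fun b => ?_) (fun b => ?_)
    · change inv (PP16.map n A B A B' (algebraMap B _ b)) = _
      rw [map_algebraMap, hinv1, hg]
    · change inv (PP16.map n A B A B' (dn n A B b)) = _
      rw [map_dn, hinv2, hf]
  have h1 : fwd.comp inv = AlgHom.id A _ := by
    refine algHom_ext' (fun b' => ?_) (fun b' => ?_)
    · refine RingHom.congr_fun
        (f := (fwd.comp inv).toRingHom.comp (algebraMap B' (P n A B')))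
        (g := algebraMap B' (P n A B')) (IsLocalization.ringHom_ext S (RingHom.ext fun b => ?_)) b'
      change fwd (inv (algebraMap B' _ (algebraMap B B' b))) = _
      rw [hinv1, hg, hfwd, map_algebraMap]
      rfl
    · refine RingHom.congr_fun (f := (fwd.comp inv).toRingHom.comp (dn n A B').toRingHom)
        (g := (dn n A B').toRingHom) (IsLocalization.ringHom_ext S (RingHom.ext fun b => ?_)) b'
      change fwd (inv (dn n A B' (algebraMap B B' b))) = _
      rw [hinv2, hf, hfwd, map_dn]
      rfl
  have h2 : inv.toRingHom.comp fwd.toRingHom = RingHom.id _ := by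
    refine IsLocalization.ringHom_ext S' (RingHom.ext fun x => ?_)
    change inv (fwd (q x)) = q x
    rw [hfwd]
    exact AlgHom.congr_fun hinv x
  let e : T ≃ₐ[P n A B] P n A B' :=
    AlgEquiv.ofRingEquiv (f := RingEquiv.ofRingHom fwd.toRingHom inv.toRingHom
      (congrArg AlgHom.toRingHom h1) h2) hfwd
  exact IsLocalization.isLocalization_of_algEquiv S' e

end Groth.Agent.S3807
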