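import Groth.Statements.S3808
import Groth.Agent.PPH.Basic

set_option autoImplicit false
universe u
open scoped TensorProduct
open PP16

namespace Groth.Agent.S3808

open Groth.Agent.PPH

/-- Let A → B be a ring map, R a multiplicative subset of A, S one of B containing the image of R, and
A' = R⁻¹A, B' = S⁻¹B with the induced map A' → B'. Then the canonical map P^n_{B'/A} → P^n_{B'/A'}
is bijective. -/
theorem result (n : ℕ) (A B A' B' : Type u) [CommRing A] [CommRing B] [Algebra A B]
    [CommRing A'] [CommRing B'] [Algebra A A'] [Algebra B B'] [Algebra A' B'] [Algebra A B']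
    [IsScalarTower A A' B'] [IsScalarTower A B B'] (R : Submonoid A) (S : Submonoid B) [IsLocalization R A']
    [IsLocalization S B'] (hRS : ∀ r ∈ R, algebraMap A B r ∈ S) :
    Function.Bijective (PP16.map n A B' A' B') := by
  have hdn : ∀ a, dn n A B' (algebraMap A' B' a) = algebraMap A' (P n A B') a := by
    refine fun a => RingHom.congr_fun (f := (dn n A B').toRingHom.comp (algebraMap A' B'))
      (g := algebraMap A' (P n A B')) (IsLocalization.ringHom_ext R (RingHom.ext fun r => ?_)) a
    change dn n A B' (algebraMap A' B' (algebraMap A A' r)) = algebraMap A' (P n A B') _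
    rw [← IsScalarTower.algebraMap_apply A A' B', AlgHom.commutes,
      IsScalarTower.algebraMap_apply A B' (P n A B'), IsScalarTower.algebraMap_apply A A' B',
      ← IsScalarTower.algebraMap_apply A' B' (P n A B')]
  let g : B' →ₐ[A'] P n A B' := IsScalarTower.toAlgHom A' B' _
  let f : B' →ₐ[A'] P n A B' := { toRingHom := (dn n A B').toRingHom, commutes' := hdn }
  obtain ⟨inv, hi1, hi2⟩ := exists_desc (n := n) g f (fun b => delta_mem n A B' b)
    (augIdeal_pow n A B')
  have h1 : ∀ x, inv (PP16.map n A B' A' B' x) = x := by
    intro x
    refine RingHom.congr_fun (f := inv.toRingHom.comp (PP16.map n A B' A' B').toRingHom)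
      (g := RingHom.id _) (ringHom_ext (fun b => ?_) (fun b => ?_)) x
    · change inv (PP16.map n A B' A' B' (algebraMap B' _ b)) = _
      rw [map_algebraMap, hi1]
      rfl
    · change inv (PP16.map n A B' A' B' (dn n A B' b)) = _
      rw [map_dn, hi2]
      rfl
  have h2 : ∀ y, PP16.map n A B' A' B' (inv y) = y := by
    intro y
    refine RingHom.congr_fun (f := (PP16.map n A B' A' B').toRingHom.comp inv.toRingHom)
      (g := RingHom.id _) (ringHom_ext (fun b => ?_) (fun b => ?_)) y
    · change PP16.map n A B' A' B' (inv (algebraMap B' _ b)) = _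
      rw [hi1]
      exact map_algebraMap n A B' A' B' b
    · change PP16.map n A B' A' B' (inv (dn n A' B' b)) = _
      rw [hi2]
      exact map_dn n A B' A' B' b
  exact ⟨Function.LeftInverse.injective h1, Function.RightInverse.surjective h2⟩

end Groth.Agent.S3808
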