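import Groth.Statements.S3809
import Groth.Agent.PPH.Basic

set_option autoImplicit false
universe u
open scoped TensorProduct
open PP16

namespace Groth.Agent.S3809

open Groth.Agent.PPH

/-- Let A → B → C be ring maps. Then the canonical map P^n_{C/A} → P^n_{C/B} is surjective, and its
kernel is the ideal generated by the image, under the canonical map P^n_{B/A} → P^n_{C/A}, of the
augmentation ideal of P^n_{B/A}. -/
theorem result (n : ℕ) (A B C : Type u) [CommRing A] [CommRing B] [CommRing C]
    [Algebra A B] [Algebra B C] [Algebra A C] [IsScalarTower A B C] :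
    Function.Surjective (PP16.map n A C B C) ∧
      RingHom.ker (PP16.map n A C B C) = (PP16.augIdeal n A B).map (PP16.map n A B A C) := by
  let J := (augIdeal n A B).map (PP16.map n A B A C)
  have hsurj : Function.Surjective (PP16.map n A C B C) := by
    intro y
    have hy : y ∈ Submodule.span C (Set.range (dn n B C)) := by rw [span_range_dn]; trivial
    induction hy using Submodule.span_induction with
    | mem y hy => obtain ⟨c, rfl⟩ := hy; exact ⟨dn n A C c, map_dn n A C B C c⟩
    | zero => exact ⟨0, map_zero _⟩
    | add a b _ _ ha hb =>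
      obtain ⟨a', rfl⟩ := ha; obtain ⟨b', rfl⟩ := hb; exact ⟨a' + b', map_add _ _ _⟩
    | smul c a _ ha =>
      obtain ⟨a', rfl⟩ := ha
      refine ⟨algebraMap C _ c * a', ?_⟩
      rw [map_mul, map_algebraMap, Algebra.smul_def]
      rfl
  refine ⟨hsurj, le_antisymm (fun x hx => ?_) ?_⟩
  · have key : ∀ (Q : Type u) [CommRing Q] (q : P n A C →+* Q),
        (∀ y ∈ J, q y = 0) → q x = 0 := by
      intro Q _ q hq
      let : Algebra B Q := (q.comp ((algebraMap C (P n A C)).comp (algebraMap B C))).toAlgebra
      let g : C →ₐ[B] Q := { toRingHom := q.comp (algebraMap C (P n A C)), commutes' := fun b => rfl }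
      let f : C →ₐ[B] Q :=
        { toRingHom := q.comp (dn n A C).toRingHom
          commutes' := fun b => by
            change q (dn n A C (algebraMap B C b)) = q (algebraMap C (P n A C) (algebraMap B C b))
            have h := hq _ (Ideal.mem_map_of_mem (PP16.map n A B A C) (delta_mem n A B b))
            rwa [delta, map_sub, map_dn, map_algebraMap, map_sub, sub_eq_zero] at h }
      obtain ⟨h, hh1, hh2⟩ := exists_desc (n := n) g f (fun c => sub_mem_map q c)
        (map_ideal_pow_eq_bot q)
      have hcomp : h.toRingHom.comp (PP16.map n A C B C).toRingHom = q := by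
        refine ringHom_ext (fun c => ?_) (fun c => ?_)
        · change h (PP16.map n A C B C (algebraMap C _ c)) = _
          rw [map_algebraMap]
          exact hh1 c
        · change h (PP16.map n A C B C (dn n A C c)) = _
          rw [map_dn]
          exact hh2 c
      rw [← hcomp]
      change h (PP16.map n A C B C x) = 0
      rw [RingHom.mem_ker.mp hx, map_zero]
    have h0 := key (P n A C ⧸ J) (Ideal.Quotient.mk J) fun y hy => Ideal.Quotient.eq_zero_iff_mem.mpr hy
    exact Ideal.Quotient.eq_zero_iff_mem.mp h0
  · rw [Ideal.map_le_iff_le_comap, augIdeal_eq_span, Ideal.span_le]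
    rintro _ ⟨b, rfl⟩
    change PP16.map n A C B C (PP16.map n A B A C (delta n A B b)) = 0
    rw [delta, map_sub, map_sub, map_dn, map_dn, map_algebraMap, map_algebraMap, sub_eq_zero]
    exact (dn n B C).commutes b

end Groth.Agent.S3809
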