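import Groth.Statements.S3810
import Groth.Agent.PPH.Basic

set_option autoImplicit false
universe u
open scoped TensorProduct
open PP16

namespace Groth.Agent.S3810

open Groth.Agent.PPH

/-- Let B be an A-algebra, K an ideal of B and C = B/K. Then the canonical map P^n_{B/A} → P^n_{C/A} is
surjective and its kernel is the ideal generated by the image of K under the structure map B →
P^n_{B/A} together with the image of K under the principal-part map d^n (the latter is an additive
subgroup, not a B-submodule, in general). -/
theorem result (n : ℕ) (A B : Type u) [CommRing A] [CommRing B] [Algebra A B]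
    (K : Ideal B) :
    Function.Surjective (PP16.map n A B A (B ⧸ K)) ∧
      RingHom.ker (PP16.map n A B A (B ⧸ K)) =
        K.map (algebraMap B (PP16.P n A B)) ⊔ K.map (PP16.dn n A B) := by
  let π := PP16.map n A B A (B ⧸ K)
  let J := K.map (algebraMap B (P n A B)) ⊔ K.map (dn n A B)
  have hsurj : Function.Surjective π := by
    intro y
    have hy : y ∈ Submodule.span (B ⧸ K) (Set.range (dn n A (B ⧸ K))) := by
      rw [span_range_dn]; trivial
    induction hy using Submodule.span_induction with
    | mem y hy =>
      obtain ⟨c, rfl⟩ := hy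
      obtain ⟨b, rfl⟩ := Ideal.Quotient.mk_surjective c
      exact ⟨dn n A B b, map_dn n A B A (B ⧸ K) b⟩
    | zero => exact ⟨0, map_zero _⟩
    | add a b _ _ ha hb =>
      obtain ⟨a', rfl⟩ := ha; obtain ⟨b', rfl⟩ := hb; exact ⟨a' + b', map_add _ _ _⟩
    | smul c a _ ha =>
      obtain ⟨a', rfl⟩ := ha
      obtain ⟨b, rfl⟩ := Ideal.Quotient.mk_surjective c
      refine ⟨algebraMap B _ b * a', ?_⟩
      change π (algebraMap B (P n A B) b * a') = _
      rw [map_mul, Algebra.smul_def]
      exact congrArg (· * π a') (map_algebraMap n A B A (B ⧸ K) b)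
  refine ⟨hsurj, le_antisymm (fun x hx => ?_) ?_⟩
  · have key : ∀ (Q : Type u) [CommRing Q] (q : P n A B →+* Q),
        (∀ y ∈ J, q y = 0) → q x = 0 := by
      intro Q _ q hq
      let : Algebra A Q := (q.comp (algebraMap A (P n A B))).toAlgebra
      let qA : P n A B →ₐ[A] Q := { toRingHom := q, commutes' := fun _ => rfl }
      let g : (B ⧸ K) →ₐ[A] Q := Ideal.Quotient.liftₐ K
        (qA.comp (IsScalarTower.toAlgHom A B (P n A B)))
        fun k hk => hq _ (Ideal.mem_sup_left (Ideal.mem_map_of_mem _ hk))
      let f : (B ⧸ K) →ₐ[A] Q := Ideal.Quotient.liftₐ K (qA.comp (dn n A B))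
        fun k hk => hq _ (Ideal.mem_sup_right (Ideal.mem_map_of_mem _ hk))
      obtain ⟨h, hh1, hh2⟩ := exists_desc (n := n) g f
        (fun c => by
          obtain ⟨b, rfl⟩ := Ideal.Quotient.mk_surjective c
          exact sub_mem_map q b)
        (map_ideal_pow_eq_bot q)
      have hcomp : h.toRingHom.comp π.toRingHom = q := by
        refine ringHom_ext (fun c => ?_) (fun c => ?_)
        · change h (PP16.map n A B A (B ⧸ K) (algebraMap B _ c)) = _
          rw [map_algebraMap, hh1]
          rfl
        · change h (PP16.map n A B A (B ⧸ K) (dn n A B c)) = _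
          rw [map_dn, hh2]
          rfl
      rw [← hcomp]
      change h (π x) = 0
      rw [show π x = 0 from RingHom.mem_ker.mp hx, map_zero]
    have h0 := key (P n A B ⧸ J) (Ideal.Quotient.mk J) fun y hy => Ideal.Quotient.eq_zero_iff_mem.mpr hy
    exact Ideal.Quotient.eq_zero_iff_mem.mp h0
  · refine sup_le ?_ ?_ <;> rw [Ideal.map_le_iff_le_comap] <;> intro k hk
    · change PP16.map n A B A (B ⧸ K) (algebraMap B _ k) = 0
      rw [map_algebraMap]
      simp [Ideal.Quotient.eq_zero_iff_mem.mpr hk]
    · change PP16.map n A B A (B ⧸ K) (dn n A B k) = 0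
      rw [map_dn]
      simp [Ideal.Quotient.eq_zero_iff_mem.mpr hk]

end Groth.Agent.S3810
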