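import Groth.Statements.S3811
import Groth.Agent.PPH.Basic

set_option autoImplicit false
universe u
open scoped TensorProduct
open PP16

namespace Groth.Agent.S3811

open Groth.Agent.PPH

/-- Let B be an A-algebra with an A-algebra retraction g : B → A, and K the kernel of g. The composite
of d^n : B → P^n_{B/A} with the projection P^n_{B/A} → P^n_{B/A} / K P^n_{B/A} (base change of
P^n_{B/A} along g) is surjective with kernel K^(n+1); thus P^n_{B/A} ⊗_B A is identified with
B/K^(n+1), the class of d^n t corresponding to the class of t. -/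
theorem result (n : ℕ) (A B : Type u) [CommRing A] [CommRing B] [Algebra A B]
    (g : B →ₐ[A] A) :
    Function.Surjective ((Ideal.Quotient.mk ((RingHom.ker g).map (algebraMap B (PP16.P n A B)))).comp
        (PP16.dn n A B).toRingHom) ∧
      RingHom.ker ((Ideal.Quotient.mk ((RingHom.ker g).map (algebraMap B (PP16.P n A B)))).comp
        (PP16.dn n A B).toRingHom) = RingHom.ker g ^ (n + 1) := by
  let K := RingHom.ker g
  let J := K.map (algebraMap B (P n A B))
  let π := (Ideal.Quotient.mk J).comp (dn n A B).toRingHom
  have hg : ∀ b, b - algebraMap A B (g b) ∈ K := fun b => by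
    change g (b - algebraMap A B (g b)) = 0
    rw [map_sub, AlgHom.commutes]; simp
  have hconst : ∀ b, Ideal.Quotient.mk J (algebraMap B _ b) =
      Ideal.Quotient.mk J (algebraMap A (P n A B) (g b)) := fun b => by
    refine Ideal.Quotient.eq.mpr ?_
    rw [IsScalarTower.algebraMap_apply A B (P n A B), ← map_sub]
    exact Ideal.mem_map_of_mem _ (hg b)
  have hsurj : Function.Surjective π := by
    intro q
    obtain ⟨y, rfl⟩ := Ideal.Quotient.mk_surjective q
    have hy : y ∈ Submodule.span B (Set.range (dn n A B)) := by rw [span_range_dn]; trivial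
    induction hy using Submodule.span_induction with
    | mem y hy => obtain ⟨c, rfl⟩ := hy; exact ⟨c, rfl⟩
    | zero => exact ⟨0, by simp⟩
    | add a b _ _ ha hb =>
      obtain ⟨a', ha'⟩ := ha; obtain ⟨b', hb'⟩ := hb
      exact ⟨a' + b', by rw [map_add, ha', hb', map_add]⟩
    | smul c a _ ha =>
      obtain ⟨a', ha'⟩ := ha
      refine ⟨algebraMap A B (g c) * a', ?_⟩
      rw [Algebra.smul_def, map_mul (Ideal.Quotient.mk J), hconst, ← ha', map_mul π]
      exact congrArg (· * π a') (congrArg (Ideal.Quotient.mk J) ((dn n A B).commutes (g c)))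
  have hker : RingHom.ker π = K ^ (n + 1) := by
    apply le_antisymm
    · intro x hx
      let g' : B →ₐ[A] B ⧸ K ^ (n + 1) := (Algebra.ofId A _).comp g
      let f : B →ₐ[A] B ⧸ K ^ (n + 1) := Ideal.Quotient.mkₐ A (K ^ (n + 1))
      let J₂ : Ideal (B ⧸ K ^ (n + 1)) := K.map (Ideal.Quotient.mk (K ^ (n + 1)))
      have hJn : J₂ ^ (n + 1) = ⊥ := by
        change K.map (Ideal.Quotient.mk (K ^ (n + 1))) ^ (n + 1) = ⊥
        rw [← Ideal.map_pow, Ideal.map_quotient_self]
      obtain ⟨h, hh1, hh2⟩ := exists_desc (n := n) g' f (J := J₂) (fun b => by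
        have h := Ideal.mem_map_of_mem (Ideal.Quotient.mk (K ^ (n + 1))) (hg b)
        rw [map_sub] at h
        exact h) hJn
      have hle : J ≤ RingHom.ker h := by
        rw [Ideal.map_le_iff_le_comap]
        intro k hk
        change h (algebraMap B _ k) = 0
        rw [hh1]
        change algebraMap A (B ⧸ K ^ (n + 1)) (g k) = 0
        rw [show g k = 0 from hk, map_zero]
      have h3 : h (dn n A B x) = 0 :=
        hle (Ideal.Quotient.eq_zero_iff_mem.mp (RingHom.mem_ker.mp hx))
      rw [hh2] at h3
      exact Ideal.Quotient.eq_zero_iff_mem.mp h3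
    · intro x hx
      have key : ∀ (Q : Type u) [CommRing Q] (q : P n A B →+* Q),
          (∀ y ∈ J, q y = 0) → q (dn n A B x) = 0 := by
        intro Q _ q hq
        let φ : B →+* Q := q.comp (dn n A B).toRingHom
        have hle : K.map φ ≤ (augIdeal n A B).map q := by
          rw [Ideal.map_le_iff_le_comap]
          intro k hk
          rw [Ideal.mem_comap]
          have h := sub_mem_map q (n := n) k
          rw [hq _ (Ideal.mem_map_of_mem _ hk), sub_zero] at h
          exact h
        have h2 : φ x ∈ K.map φ ^ (n + 1) := by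
          rw [← Ideal.map_pow]; exact Ideal.mem_map_of_mem _ hx
        have h3 := Ideal.pow_right_mono hle (n + 1) h2
        rw [map_ideal_pow_eq_bot, Submodule.mem_bot] at h3
        exact h3
      have h0 := key (P n A B ⧸ J) (Ideal.Quotient.mk J) fun y hy =>
        Ideal.Quotient.eq_zero_iff_mem.mpr hy
      exact RingHom.mem_ker.mpr h0
  exact ⟨hsurj, hker⟩

end Groth.Agent.S3811
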