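import Groth.Statements.S3812
import Groth.Agent.PPH.Basic

set_option autoImplicit false
universe u
open scoped TensorProduct
open PP16

namespace Groth.Agent.S3812

open Groth.Agent.PPH

/-- Let B = A[T_i] be a polynomial algebra. There is an isomorphism of B-algebras from P^n_{B/A} onto
B[U_i]/(U)^(n+1), where (U) is the ideal generated by the new indeterminates, sending the principal
part d^n T_i to the class of T_i + U_i for every i (so d^n F(T) goes to the class of F(T + U)). -/
theorem result (n : ℕ) (A : Type u) [CommRing A] (σ : Type u) :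
    ∃ e : PP16.P n A (MvPolynomial σ A) ≃ₐ[MvPolynomial σ A]
        (MvPolynomial σ (MvPolynomial σ A) ⧸
          Ideal.span (Set.range (MvPolynomial.X : σ → MvPolynomial σ (MvPolynomial σ A))) ^ (n + 1)),
      ∀ i : σ, e (PP16.dn n A (MvPolynomial σ A) (MvPolynomial.X i)) =
        Ideal.Quotient.mk _ (MvPolynomial.C (MvPolynomial.X i : MvPolynomial σ A) +
          (MvPolynomial.X i : MvPolynomial σ (MvPolynomial σ A))) := by
  let B := MvPolynomial σ A
  let U := Ideal.span (Set.range (MvPolynomial.X : σ → MvPolynomial σ B))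
  suffices key : ∀ (Q : Type u) [CommRing Q] [Algebra B Q] (q : MvPolynomial σ B →ₐ[B] Q),
      Function.Surjective q → RingHom.ker q.toRingHom = U ^ (n + 1) →
      ∃ e : P n A B ≃ₐ[B] Q, ∀ i, e (dn n A B (MvPolynomial.X i)) =
        q (MvPolynomial.C (MvPolynomial.X i) + MvPolynomial.X i) from
    key (MvPolynomial σ B ⧸ U ^ (n + 1)) (Ideal.Quotient.mkₐ B (U ^ (n + 1)))
      (Ideal.Quotient.mkₐ_surjective B _) (Ideal.Quotient.mkₐ_ker B _)
  intro Q _ _ q hq hker
  let : Algebra A Q := ((algebraMap B Q).comp (algebraMap A B)).toAlgebra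
  have : IsScalarTower A B Q := IsScalarTower.of_algebraMap_eq' rfl
  let g : B →ₐ[A] Q := IsScalarTower.toAlgHom A B Q
  let f : B →ₐ[A] Q := MvPolynomial.aeval fun i =>
    q (MvPolynomial.C (MvPolynomial.X i) + MvPolynomial.X i)
  have hJn : (U.map q.toRingHom) ^ (n + 1) = ⊥ := by
    rw [← Ideal.map_pow, ← hker, eq_bot_iff, Ideal.map_le_iff_le_comap]
    exact fun x hx => by simpa using hx
  have hJ : ∀ b, f b - algebraMap B Q b ∈ U.map q.toRingHom := by
    intro b
    refine Ideal.Quotient.eq.mp ?_
    refine AlgHom.congr_fun (φ₁ := (Ideal.Quotient.mkₐ A _).comp f)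
      (φ₂ := (Ideal.Quotient.mkₐ A _).comp g) (MvPolynomial.algHom_ext fun i => ?_) b
    refine Ideal.Quotient.eq.mpr ?_
    change f (MvPolynomial.X i) - algebraMap B Q (MvPolynomial.X i) ∈ _
    have hX : f (MvPolynomial.X i) = q (MvPolynomial.C (MvPolynomial.X i) + MvPolynomial.X i) :=
      MvPolynomial.aeval_X _ i
    rw [hX, map_add, ← MvPolynomial.algebraMap_eq, AlgHom.commutes, add_sub_cancel_left]
    exact Ideal.mem_map_of_mem _ (Ideal.subset_span ⟨i, rfl⟩)
  let ψ : P n A B →ₐ[B] Q := desc n f hJ hJn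
  let χ : MvPolynomial σ B →ₐ[B] P n A B := MvPolynomial.aeval fun i => delta n A B (MvPolynomial.X i)
  have hχ : ∀ x, q x = 0 → χ x = 0 := by
    intro x hx
    have hxU : x ∈ U ^ (n + 1) := hker ▸ (RingHom.mem_ker.mpr hx)
    have hle : U ≤ (augIdeal n A B).comap χ.toRingHom := by
      rw [Ideal.span_le]
      rintro _ ⟨i, rfl⟩
      change χ (MvPolynomial.X i) ∈ augIdeal n A B
      rw [show χ (MvPolynomial.X i) = _ from MvPolynomial.aeval_X _ i]
      exact delta_mem n A B _
    have h := Ideal.le_comap_pow χ.toRingHom (n + 1) (Ideal.pow_right_mono hle (n + 1) hxU)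
    rw [augIdeal_pow] at h
    exact (Submodule.mem_bot _).mp (Ideal.mem_comap.mp h)
  have hcomp : ψ.comp χ = q := by
    refine MvPolynomial.algHom_ext fun i => ?_
    change ψ (χ (MvPolynomial.X i)) = q (MvPolynomial.X i)
    rw [show χ (MvPolynomial.X i) = _ from MvPolynomial.aeval_X _ i, desc_delta]
    have hX : f (MvPolynomial.X i) = q (MvPolynomial.C (MvPolynomial.X i) + MvPolynomial.X i) :=
      MvPolynomial.aeval_X _ i
    rw [hX, map_add, ← MvPolynomial.algebraMap_eq, AlgHom.commutes, add_sub_cancel_left]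
  have hχs : Function.Surjective χ := by
    have : χ.range = ⊤ := eq_top_of_dn_mem fun b => by
      change ((dn n A B).toRingHom b) ∈ χ.range
      induction b using MvPolynomial.induction_on with
      | C a =>
        refine ⟨algebraMap B _ (MvPolynomial.C a), ?_⟩
        change χ (algebraMap B _ (MvPolynomial.C a)) = dn n A B (MvPolynomial.C a)
        rw [AlgHom.commutes]
        exact ((dn n A B).commutes a).symm
      | add p r hp hr => rw [map_add]; exact add_mem hp hr
      | mul_X p i hp =>
        rw [map_mul]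
        refine mul_mem hp ⟨algebraMap B _ (MvPolynomial.X i) + MvPolynomial.X i, ?_⟩
        change χ (algebraMap B _ (MvPolynomial.X i) + MvPolynomial.X i) = dn n A B (MvPolynomial.X i)
        rw [map_add, AlgHom.commutes, show χ (MvPolynomial.X i) = _ from MvPolynomial.aeval_X _ i]
        simp [delta]
    exact AlgHom.range_eq_top χ |>.mp this
  have hinj : Function.Injective ψ := by
    refine (injective_iff_map_eq_zero ψ).mpr fun y hy => ?_
    obtain ⟨x, rfl⟩ := hχs y
    exact hχ x ((AlgHom.congr_fun hcomp x).symm.trans hy)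
  have hsurj : Function.Surjective ψ := fun z => by
    obtain ⟨x, rfl⟩ := hq z
    exact ⟨χ x, AlgHom.congr_fun hcomp x⟩
  refine ⟨AlgEquiv.ofBijective ψ ⟨hinj, hsurj⟩, fun i => ?_⟩
  exact (desc_dn f hJ hJn _).trans (MvPolynomial.aeval_X _ i)

end Groth.Agent.S3812
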