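import Groth.Statements.S3813
import Groth.Agent.PPH.Basic

set_option autoImplicit false
universe u
open scoped TensorProduct
open PP16

namespace Groth.Agent.S3813

open Groth.Agent.PPH

/-- Let E be an A-module, B = Sym_A(E) its symmetric algebra and K the augmentation ideal of B (the
kernel of the A-algebra map B → A killing E). For every n there is an isomorphism of B-algebras from
P^n_{B/A} onto B ⊗_A (B/K^(n+1)) sending the principal part d^n t of an element t of E to t ⊗ 1 + 1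
⊗ (class of t). -/
theorem result (n : ℕ) (A : Type u) [CommRing A] (E : Type u) [AddCommGroup E]
    [Module A E] :
    ∃ e : PP16.P n A (SymmetricAlgebra A E) ≃ₐ[SymmetricAlgebra A E]
        (SymmetricAlgebra A E ⊗[A] (SymmetricAlgebra A E ⧸
          RingHom.ker (SymmetricAlgebra.lift (0 : E →ₗ[A] A)) ^ (n + 1))),
      ∀ t : E, e (PP16.dn n A (SymmetricAlgebra A E) (SymmetricAlgebra.ι A E t)) =
        SymmetricAlgebra.ι A E t ⊗ₜ 1 + 1 ⊗ₜ Ideal.Quotient.mk _ (SymmetricAlgebra.ι A E t) := by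
  let ι' : E →ₗ[A] (SymmetricAlgebra A E) := SymmetricAlgebra.ι A E
  let ε : (SymmetricAlgebra A E) →ₐ[A] A := SymmetricAlgebra.lift (0 : E →ₗ[A] A)
  let K : Ideal (SymmetricAlgebra A E) := RingHom.ker ε
  suffices key : ∀ (Q : Type u) [CommRing Q] [Algebra A Q] (q : (SymmetricAlgebra A E) →ₐ[A] Q),
      Function.Surjective q → RingHom.ker q.toRingHom = K ^ (n + 1) →
      ∃ e : P n A (SymmetricAlgebra A E) ≃ₐ[(SymmetricAlgebra A E)] (SymmetricAlgebra A E) ⊗[A] Q, ∀ t : E,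
        e (dn n A (SymmetricAlgebra A E) (ι' t)) = ι' t ⊗ₜ 1 + 1 ⊗ₜ q (ι' t) from
    key ((SymmetricAlgebra A E) ⧸ K ^ (n + 1)) (Ideal.Quotient.mkₐ A (K ^ (n + 1)))
      (Ideal.Quotient.mkₐ_surjective A _) (Ideal.Quotient.mkₐ_ker A _)
  intro Q _ _ q hq hker
  have hι : ∀ t, ι' t ∈ K := fun t => by
    change ε (SymmetricAlgebra.ι A E t) = 0
    exact SymmetricAlgebra.lift_ι_apply _ t
  let J : Ideal ((SymmetricAlgebra A E) ⊗[A] Q) := (K.map q.toRingHom).map
    (Algebra.TensorProduct.includeRight (R := A) (A := (SymmetricAlgebra A E)) (B := Q)).toRingHom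
  have hJn : J ^ (n + 1) = ⊥ := by
    change ((K.map q.toRingHom).map (Algebra.TensorProduct.includeRight
      (R := A) (A := (SymmetricAlgebra A E)) (B := Q)).toRingHom) ^ (n + 1) = ⊥
    rw [← Ideal.map_pow, ← Ideal.map_pow, ← hker]
    rw [show (RingHom.ker q.toRingHom).map q.toRingHom = ⊥ from
      eq_bot_iff.mpr (Ideal.map_le_iff_le_comap.mpr fun x hx => by simpa using hx), Ideal.map_bot]
  let f : (SymmetricAlgebra A E) →ₐ[A] (SymmetricAlgebra A E) ⊗[A] Q := SymmetricAlgebra.lift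
    (((Algebra.TensorProduct.includeLeft : (SymmetricAlgebra A E) →ₐ[A] (SymmetricAlgebra A E) ⊗[A] Q).toLinearMap +
      (Algebra.TensorProduct.includeRight.comp q).toLinearMap).comp ι')
  have hf : ∀ t, f (ι' t) = ι' t ⊗ₜ 1 + 1 ⊗ₜ q (ι' t) := fun t => by
    exact (SymmetricAlgebra.lift_ι_apply _ t).trans rfl
  have hext : ∀ (R' : Type u) [CommRing R'] [Algebra A R'] (F G : (SymmetricAlgebra A E) →ₐ[A] R'),
      (∀ t, F (ι' t) = G (ι' t)) → F = G := fun R' _ _ F G h =>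
    SymmetricAlgebra.algHom_ext (LinearMap.ext h)
  have hJ : ∀ b, f b - algebraMap (SymmetricAlgebra A E) ((SymmetricAlgebra A E) ⊗[A] Q) b ∈ J := by
    intro b
    refine Ideal.Quotient.eq.mp ?_
    refine AlgHom.congr_fun (φ₁ := (Ideal.Quotient.mkₐ A J).comp f)
      (φ₂ := (Ideal.Quotient.mkₐ A J).comp (IsScalarTower.toAlgHom A (SymmetricAlgebra A E) ((SymmetricAlgebra A E) ⊗[A] Q)))
      (hext ((SymmetricAlgebra A E) ⊗[A] Q ⧸ J) _ _ fun t => ?_) b
    refine Ideal.Quotient.eq.mpr ?_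
    change f (ι' t) - (ι' t) ⊗ₜ[A] (1 : Q) ∈ J
    rw [hf, add_sub_cancel_left]
    exact Ideal.mem_map_of_mem _ (Ideal.mem_map_of_mem _ (hι t))
  let ψ : P n A (SymmetricAlgebra A E) →ₐ[(SymmetricAlgebra A E)] (SymmetricAlgebra A E) ⊗[A] Q := desc n f hJ hJn
  let χ₀ : (SymmetricAlgebra A E) →ₐ[A] P n A (SymmetricAlgebra A E) := SymmetricAlgebra.lift
    (((dn n A (SymmetricAlgebra A E)).toLinearMap - (IsScalarTower.toAlgHom A (SymmetricAlgebra A E) (P n A (SymmetricAlgebra A E))).toLinearMap).comp ι')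
  have hχ₀ : ∀ t, χ₀ (ι' t) = delta n A (SymmetricAlgebra A E) (ι' t) := fun t => by
    exact (SymmetricAlgebra.lift_ι_apply _ t).trans rfl
  have hK : K ≤ (augIdeal n A (SymmetricAlgebra A E)).comap χ₀.toRingHom := by
    intro x hx
    have key : ∀ y : (SymmetricAlgebra A E), χ₀ y - algebraMap A (P n A (SymmetricAlgebra A E)) (ε y) ∈ augIdeal n A (SymmetricAlgebra A E) := by
      intro y
      refine Ideal.Quotient.eq.mp ?_
      refine AlgHom.congr_fun (φ₁ := (Ideal.Quotient.mkₐ A _).comp χ₀)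
        (φ₂ := (Ideal.Quotient.mkₐ A _).comp ((Algebra.ofId A (P n A (SymmetricAlgebra A E))).comp ε))
        (hext (P n A (SymmetricAlgebra A E) ⧸ augIdeal n A (SymmetricAlgebra A E)) _ _ fun t => ?_) y
      refine Ideal.Quotient.eq.mpr ?_
      change χ₀ (ι' t) - algebraMap A (P n A (SymmetricAlgebra A E)) (ε (ι' t)) ∈ augIdeal n A (SymmetricAlgebra A E)
      rw [show ε (ι' t) = 0 from hι t, map_zero, sub_zero, hχ₀]
      exact delta_mem n A (SymmetricAlgebra A E) _
    have := key x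
    rw [show ε x = 0 from hx, map_zero, sub_zero] at this
    exact this
  have hq0 : ∀ x, q x = 0 → χ₀ x = 0 := by
    intro x hx
    have hxU : x ∈ K ^ (n + 1) := hker ▸ (RingHom.mem_ker.mpr hx)
    have h := Ideal.le_comap_pow χ₀.toRingHom (n + 1) (Ideal.pow_right_mono hK (n + 1) hxU)
    rw [augIdeal_pow] at h
    exact (Submodule.mem_bot _).mp (Ideal.mem_comap.mp h)
  let χQ : Q →ₐ[A] P n A (SymmetricAlgebra A E) :=
    (Ideal.Quotient.liftₐ (RingHom.ker q) χ₀ fun x hx => hq0 x hx).comp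
      (Ideal.quotientKerAlgEquivOfSurjective hq).symm.toAlgHom
  have hχQ : ∀ x, χQ (q x) = χ₀ x := fun x => by
    have e : (Ideal.quotientKerAlgEquivOfSurjective hq).symm (q x) =
        Ideal.Quotient.mk (RingHom.ker q) x :=
      (Ideal.quotientKerAlgEquivOfSurjective hq).injective
        ((AlgEquiv.apply_symm_apply _ _).trans rfl)
    exact (congrArg (Ideal.Quotient.liftₐ (RingHom.ker q) χ₀ fun x hx => hq0 x hx) e).trans rfl
  let χ : (SymmetricAlgebra A E) ⊗[A] Q →ₐ[(SymmetricAlgebra A E)] P n A (SymmetricAlgebra A E) :=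
    Algebra.TensorProduct.lift (Algebra.ofId (SymmetricAlgebra A E) (P n A (SymmetricAlgebra A E))) χQ fun _ _ => Commute.all _ _
  have h1 : χ.comp ψ = AlgHom.id (SymmetricAlgebra A E) _ := by
    apply algHom_ext
    intro b
    change χ (ψ (dn n A (SymmetricAlgebra A E) b)) = dn n A (SymmetricAlgebra A E) b
    rw [desc_dn]
    refine AlgHom.congr_fun (φ₁ := (χ.restrictScalars A).comp f) (φ₂ := dn n A (SymmetricAlgebra A E))
      (SymmetricAlgebra.algHom_ext (LinearMap.ext fun t => ?_)) b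
    change χ (f (ι' t)) = dn n A (SymmetricAlgebra A E) (ι' t)
    rw [hf, map_add, Algebra.TensorProduct.lift_tmul, Algebra.TensorProduct.lift_tmul, map_one,
      map_one, mul_one, one_mul, hχQ, hχ₀]
    simp [delta, Algebra.ofId_apply]
  have h2 : ψ.comp χ = AlgHom.id (SymmetricAlgebra A E) _ := by
    refine Algebra.TensorProduct.ext (Subsingleton.elim _ _) ?_
    refine AlgHom.ext fun z => ?_
    obtain ⟨x, rfl⟩ := hq z
    change ψ (χ ((1 : (SymmetricAlgebra A E)) ⊗ₜ[A] q x)) = (1 : (SymmetricAlgebra A E)) ⊗ₜ[A] q x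
    rw [Algebra.TensorProduct.lift_tmul, map_one, one_mul, hχQ]
    refine AlgHom.congr_fun (φ₁ := (ψ.restrictScalars A).comp χ₀)
      (φ₂ := (Algebra.TensorProduct.includeRight : Q →ₐ[A] (SymmetricAlgebra A E) ⊗[A] Q).comp q)
      (SymmetricAlgebra.algHom_ext (LinearMap.ext fun t => ?_)) x
    change ψ (χ₀ (ι' t)) = (1 : (SymmetricAlgebra A E)) ⊗ₜ[A] q (ι' t)
    rw [hχ₀, desc_delta, hf]
    exact add_sub_cancel_left (ι' t ⊗ₜ[A] (1 : Q)) _
  refine ⟨AlgEquiv.ofAlgHom ψ χ h2 h1, fun t => ?_⟩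
  exact (desc_dn f hJ hJn _).trans (hf t)

end Groth.Agent.S3813
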