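import Groth.Statements.S5002
import Groth.Agent.PPH.Basic

set_option autoImplicit false
universe u
open PP16

namespace Groth.Agent.S5002

open Groth.Agent.PPH

/-- Suppose A is a commutative ring and B is a finite-type A-algebra. For each n, the ring of principal
parts of order n of B over A is then finitely generated as a B-module, where B acts via the first
factor. -/
theorem result (n : ℕ) (A B : Type u) [CommRing A] [CommRing B] [Algebra A B]
    [Algebra.FiniteType A B] : Module.Finite B (PP16.P n A B) := by
  have hfg : Algebra.FiniteType B (P n A B) := by
    obtain ⟨s, hs⟩ := Algebra.FiniteType.out (R := A) (A := B)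
    classical
    refine ⟨⟨s.image (dn n A B), eq_top_of_dn_mem fun b => ?_⟩⟩
    have hb : b ∈ Algebra.adjoin A (s : Set B) := by rw [hs]; trivial
    have h := Algebra.adjoin_le (R := A)
      (S := ((Algebra.adjoin B ((s.image (dn n A B) : Finset (P n A B)) : Set (P n A B))).restrictScalars A).comap (dn n A B))
      (fun x hx => Algebra.subset_adjoin (Finset.mem_image_of_mem _ hx)) hb
    exact h
  have hint : Algebra.IsIntegral B (P n A B) := by
    refine ⟨fun x => ?_⟩
    have hx : x ∈ Submodule.span B (Set.range (dn n A B)) := by rw [span_range_dn]; trivial
    induction hx using Submodule.span_induction with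
    | mem y hy =>
      obtain ⟨b, rfl⟩ := hy
      rw [show dn n A B b = algebraMap B _ b + delta n A B b by simp [delta]]
      obtain ⟨k, hk⟩ := isNilpotent_delta n A B b
      exact isIntegral_algebraMap.add ⟨Polynomial.X ^ k, Polynomial.monic_X_pow k, by simp [hk]⟩
    | zero => exact isIntegral_zero
    | add _ _ _ _ h1 h2 => exact h1.add h2
    | smul r _ _ h => exact h.smul r
  exact Algebra.IsIntegral.finite

end Groth.Agent.S5002
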