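import Groth.Statements.S3815
import Groth.Agent.PPH.Basic
import Groth.Agent.DiffOpCalc.Basic

set_option autoImplicit false
universe u
open scoped TensorProduct
open scoped BigOperators
open PP16

namespace Groth.Agent.S3815

open Groth.Agent.PPH

/-- Let B be an A-algebra, M and N two B-modules and D : M → N an A-linear map. Let P^n(M) = P^n_{B/A}
⊗_B M, the tensor product formed with the B-module structure of P^n_{B/A} through d^n, regarded as a
B-module through the first factor of P^n_{B/A}, with d^n_M : M → P^n(M), m ↦ 1 ⊗ m. Then D is a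
differential operator of order at most n relative to A (order defined through iterated commutators
with multiplication by elements of B) if and only if there is exactly one additive map u : P^n(M) →
N which is B-linear for the first-factor structure and satisfies u(1 ⊗ m) = D(m) for all m ∈ M. -/
theorem result (n : ℕ) (A B : Type u) [CommRing A] [CommRing B] [Algebra A B]
    (M N : Type u) [AddCommGroup M] [Module A M] [Module B M] [IsScalarTower A B M]
    [AddCommGroup N] [Module A N] [Module B N] [IsScalarTower A B N] (D : M →ₗ[A] N) :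
    Diff16.IsDiffOpLE A B M N n D ↔
      ∃! u : PP16.PM n A B M →+ N,
        (∀ (b : B) (t : PP16.PM n A B M), u (algebraMap B (PP16.P n A B) b • t) = b • u t) ∧
          ∀ m : M, u (PP16.dM n A B M m) = D m := by
  let I := KaehlerDifferential.ideal A B
  let toPr : B ⊗[A] B →+ PP16.Pr n A B :=
    (Ideal.Quotient.mk (I ^ (n + 1))).toAddMonoidHom
  have hsmul : ∀ (b : B) (y : B ⊗[A] B),
      b • toPr y = toPr (((1 : B) ⊗ₜ[A] b) * y) := fun b y => by
    rw [Algebra.smul_def]
    exact (map_mul (Ideal.Quotient.mk (I ^ (n + 1))) _ _).symm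
  have hker : I = DiffOpCalc.diag A B B := by
    have e : Algebra.TensorProduct.lmul' A (S := B) = DiffOpCalc.mulMap A B B := by ext b <;> simp
    ext x
    simp [I, KaehlerDifferential.ideal, DiffOpCalc.diag, RingHom.mem_ker, e]
  have hle := DiffOpCalc.le_iff_act_pow_eq_zero (A := A) (B := B) (T := B) (M := M) (N := N) n D
  rw [← hker] at hle
  have hgen : ∀ (y : B ⊗[A] B) (m : M) (u : PP16.PM n A B M →+ N),
      (∀ (b : B) (t : PP16.PM n A B M), u (algebraMap B (PP16.P n A B) b • t) = b • u t) →
      (∀ m : M, u (PP16.dM n A B M m) = D m) →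
      u (toPr y ⊗ₜ[B] m) = DiffOpCalc.act A B B M N y D m := by
    intro y m u h1 h2
    induction y using TensorProduct.induction_on with
    | zero => rw [map_zero, TensorProduct.zero_tmul, map_zero, map_zero]; rfl
    | tmul b c =>
      have h3 : toPr (b ⊗ₜ[A] c) ⊗ₜ[B] m =
          algebraMap B (PP16.P n A B) b • PP16.dM n A B M (c • m) := by
        have h4 : PP16.dM n A B M (c • m) = (c • (1 : PP16.Pr n A B)) ⊗ₜ[B] m :=
          (TensorProduct.smul_tmul c (1 : PP16.Pr n A B) m).symm
        rw [h4, TensorProduct.smul_tmul']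
        congr 1
        have h5 : c • (1 : PP16.Pr n A B) = toPr ((1 : B) ⊗ₜ[A] c) := by
          rw [Algebra.smul_def, mul_one]; rfl
        rw [h5, show b ⊗ₜ[A] c = (b ⊗ₜ[A] (1 : B)) * ((1 : B) ⊗ₜ[A] c) by
          rw [Algebra.TensorProduct.tmul_mul_tmul, mul_one, one_mul]]
        exact map_mul (Ideal.Quotient.mk (I ^ (n + 1))) _ _
      rw [h3, h1, h2, DiffOpCalc.act_tmul]
    | add y y' hy hy' =>
      rw [map_add, TensorProduct.add_tmul, map_add, hy, hy', map_add, LinearMap.add_apply,
        LinearMap.add_apply]
  constructor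
  · intro h
    have hz := hle.mp h
    let g : B ⊗[A] B →+ (M →+ N) :=
      { toFun := fun y => (DiffOpCalc.act A B B M N y D).toAddMonoidHom
        map_zero' := by ext m; simp
        map_add' := fun y y' => by ext m; simp }
    have hg : ∀ y y', toPr y = toPr y' → g y = g y' := by
      intro y y' he
      have h0 := hz (y - y') (Ideal.Quotient.eq.mp he)
      rw [map_sub, LinearMap.sub_apply, sub_eq_zero] at h0
      exact congrArg LinearMap.toAddMonoidHom h0
    have hts : Function.Surjective toPr := Ideal.Quotient.mk_surjective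
    choose σ hσ using hts
    let f : PP16.Pr n A B →+ (M →+ N) :=
      { toFun := fun x => g (σ x)
        map_zero' := by rw [hg (σ 0) 0 (by rw [hσ, map_zero]), map_zero]
        map_add' := fun x x' => by
          rw [hg (σ (x + x')) (σ x + σ x') (by rw [hσ, map_add, hσ, hσ]), map_add] }
    have hfv : ∀ y, f (toPr y) = g y := fun y => hg _ _ (hσ _)
    have hbal : ∀ (b : B) (x : PP16.Pr n A B) (m : M), f (b • x) m = f x (b • m) := by
      intro b x m
      rw [← hσ x, hsmul, hfv, hfv, mul_comm ((1 : B) ⊗ₜ[A] b)]
      change DiffOpCalc.act A B B M N (σ x * ((1 : B) ⊗ₜ[A] b)) D m =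
        DiffOpCalc.act A B B M N (σ x) D (b • m)
      generalize σ x = y
      induction y using TensorProduct.induction_on with
      | zero => simp
      | tmul p q => simp [Algebra.TensorProduct.tmul_mul_tmul, mul_smul]
      | add y y' hy hy' =>
        rw [add_mul, map_add, map_add]; simp only [LinearMap.add_apply]; rw [hy, hy']
    let u : PP16.PM n A B M →+ N := TensorProduct.liftAddHom f hbal
    have hu : ∀ x m, u (x ⊗ₜ[B] m) = f x m := fun x m => rfl
    refine ⟨u, ⟨fun b t => ?_, fun m => ?_⟩, fun u' hu' => ?_⟩
    · induction t using TensorProduct.induction_on with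
      | zero => simp
      | tmul x m =>
        rw [TensorProduct.smul_tmul', hu, hu, ← hσ x, hfv]
        have e : algebraMap B (PP16.P n A B) b • toPr (σ x) = toPr ((b ⊗ₜ[A] (1 : B)) * σ x) :=
          (map_mul (Ideal.Quotient.mk (I ^ (n + 1))) _ _).symm
        rw [e, hfv]
        change DiffOpCalc.act A B B M N _ D m = b • DiffOpCalc.act A B B M N (σ x) D m
        rw [map_mul, Module.End.mul_apply, DiffOpCalc.act_tmul, one_smul]
      | add t t' ht ht' => rw [smul_add, map_add, ht, ht', map_add, smul_add]
    · change f 1 m = D m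
      rw [show (1 : PP16.Pr n A B) = toPr ((1 : B) ⊗ₜ[A] (1 : B)) from rfl, hfv]
      change DiffOpCalc.act A B B M N ((1 : B) ⊗ₜ[A] (1 : B)) D m = D m
      rw [DiffOpCalc.act_tmul, one_smul, one_smul]
    · ext t
      induction t using TensorProduct.induction_on with
      | zero => rw [map_zero, map_zero]
      | tmul x m =>
        rw [← hσ x, hgen _ _ u' hu'.1 hu'.2, hu, hfv]
        rfl
      | add t t' ht ht' => rw [map_add, ht, ht', map_add]
  · rintro ⟨u, ⟨h1, h2⟩, -⟩
    refine hle.mpr fun y hy => LinearMap.ext fun m => ?_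
    rw [← hgen y m u h1 h2, show toPr y = 0 from Ideal.Quotient.eq_zero_iff_mem.mpr hy,
      TensorProduct.zero_tmul, map_zero, LinearMap.zero_apply]

end Groth.Agent.S3815
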