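import Groth.Statements.S3819
import Groth.Agent.PPH.SmoothLift

set_option autoImplicit false
universe u
open scoped TensorProduct
open PP16

namespace Groth.Agent.S3819

open Groth.Agent.PPH MvPolynomial

/-- Let B be an A-algebra containing the rational numbers (a scheme of characteristic 0) whose module of
differentials over A is a free B-module, of any rank. Then B is differentially smooth over A. -/
theorem result (A B : Type u) [CommRing A] [CommRing B] [Algebra A B] [Algebra ℚ B]
    (hΩ : Module.Free B (KaehlerDifferential A B)) : PP16.IsDiffSmooth A B := by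
  obtain ⟨κ, i, r, hr⟩ := @exists_embedding A B _ _ _ (@Module.Projective.of_free B _ _ _ _ hΩ)
  refine isDiffSmooth_of_lifts (@Module.Projective.of_free B _ _ _ _ hΩ) i r hr fun N => ?_
  let U := idealOfVars κ B
  let M := MvPolynomial κ B
  let L : B →ₗ[A] M :=
    ((Sym.lin κ).restrictScalars A).comp
      ((i.restrictScalars A).comp (KaehlerDifferential.D A B).toLinearMap)
  have hL : ∀ b, L b = Sym.lin κ (i (KaehlerDifferential.D A B b)) := fun b => rfl
  have hLU : ∀ b, L b ∈ U := fun b => lin_mem _
  have hLmul : ∀ b c, L (b * c) = C b * L c + C c * L b := fun b c => by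
    rw [hL, hL, hL, (KaehlerDifferential.D A B).leibniz, map_add, map_add, map_smul, map_smul,
      map_smul, map_smul, MvPolynomial.smul_eq_C_mul, MvPolynomial.smul_eq_C_mul]
  let Δ : M →+ M :=
    (Finsupp.liftAddHom fun d : κ →₀ ℕ =>
      (AddMonoidHom.mulRight (monomial d (1 : B))).comp L.toAddMonoidHom).comp
      (basisMonomials κ B).repr.toLinearMap.toAddMonoidHom
  have hΔm : ∀ d b, Δ (monomial d b) = L b * monomial d 1 := fun d b => by
    have e : (basisMonomials κ B).repr (monomial d b) = Finsupp.single d b := by
      rw [show monomial d b = b • (basisMonomials κ B d) by simp [MvPolynomial.smul_monomial],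
        map_smul, Module.Basis.repr_self, Finsupp.smul_single, smul_eq_mul, mul_one]
    change (Finsupp.liftAddHom _) ((basisMonomials κ B).repr (monomial d b)) = _
    rw [e, Finsupp.liftAddHom_apply_single]
    rfl
  have hΔmul : ∀ x y, Δ (x * y) = x * Δ y + y * Δ x := by
    intro x
    induction x using MvPolynomial.induction_on' with
    | add p q hp hq => intro y; rw [add_mul, map_add, hp, hq, map_add]; ring
    | monomial d b =>
      intro y
      induction y using MvPolynomial.induction_on' with
      | add p q hp hq => rw [mul_add, map_add, hp, hq, map_add]; ring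
      | monomial e c =>
        have hm : ∀ (d : κ →₀ ℕ) (b : B), monomial d b = C b * monomial d (1 : B) := fun d b => by
          rw [C_mul_monomial, mul_one]
        rw [monomial_mul, hΔm, hΔm, hΔm, hLmul, hm d b, hm e c,
          show monomial (d + e) (1 : B) = monomial d 1 * monomial e 1 by rw [monomial_mul, one_mul]]
        ring
  have hΔC : ∀ b, Δ (C b) = L b := fun b => by
    rw [show (C b : M) = monomial 0 b from rfl, hΔm, show monomial 0 (1 : B) = 1 from rfl, mul_one]
  have hΔall : ∀ x, Δ x ∈ U := fun x => by
    induction x using MvPolynomial.induction_on' with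
    | add p q hp hq => rw [map_add]; exact add_mem hp hq
    | monomial d b => rw [hΔm]; exact Ideal.mul_mem_right _ _ (hLU b)
  have hΔpow : ∀ m x, x ∈ U ^ m → Δ x ∈ U ^ (m + 1) := by
    intro m
    induction m with
    | zero => intro x _; simpa using hΔall x
    | succ m ih =>
      intro x hx
      rw [pow_succ] at hx
      refine Submodule.mul_induction_on hx (fun y hy z hz => ?_) fun y z hy hz => by
        rw [map_add]; exact add_mem hy hz
      rw [hΔmul]
      refine add_mem ?_ ?_
      · have hz2 : Δ z ∈ U ^ 2 := by
          induction hz using Submodule.span_induction with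
          | mem w hw =>
            obtain ⟨j, rfl⟩ := hw
            rw [show (X j : M) = monomial (Finsupp.single j 1) 1 from rfl, hΔm]
            have : L 1 = 0 := by rw [hL, Derivation.map_one_eq_zero, map_zero, map_zero]
            rw [this, zero_mul]
            exact zero_mem _
          | zero => simp
          | add w w' _ _ hw hw' => rw [map_add]; exact add_mem hw hw'
          | smul a w hwU hw =>
            rw [smul_eq_mul, hΔmul]
            refine add_mem (Ideal.mul_mem_left _ _ hw) ?_
            rw [pow_two]
            exact Ideal.mul_mem_mul hwU (hΔall a)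
        rw [show m + 1 + 1 = m + 2 by omega, pow_add]
        exact Ideal.mul_mem_mul hy hz2
      · rw [show m + 1 + 1 = 1 + (m + 1) by omega, pow_add, pow_one]
        exact Ideal.mul_mem_mul hz (ih y hy)
  have hiter : ∀ m x, (Δ^[m]) x ∈ U ^ m := by
    intro m
    induction m with
    | zero => intro x; simp
    | succ m ih => intro x; rw [Function.iterate_succ_apply']; exact hΔpow m _ (ih x)
  have hleib : ∀ m x y, (Δ^[m]) (x * y) =
      ∑ k ∈ Finset.range (m + 1), (Nat.choose m k : M) * ((Δ^[k]) x * (Δ^[m - k]) y) := by
    intro m x y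
    induction m with
    | zero => simp
    | succ m ih =>
      rw [Function.iterate_succ_apply', ih, map_sum,
        Finset.sum_choose_succ_mul (fun a b => (Δ^[a]) x * (Δ^[b]) y), ← Finset.sum_add_distrib]
      refine Finset.sum_congr rfl fun k hk => ?_
      have hk' := Finset.mem_range.mp hk
      rw [show m + 1 - k = m - k + 1 by omega]
      have hnat : Δ ((Nat.choose m k : M) * ((Δ^[k]) x * (Δ^[m - k]) y)) =
          (Nat.choose m k : M) * Δ ((Δ^[k]) x * (Δ^[m - k]) y) := by
        rw [← nsmul_eq_mul, ← nsmul_eq_mul, map_nsmul]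
      rw [hnat, hΔmul, Function.iterate_succ_apply', Function.iterate_succ_apply']
      ring
  let c : ℕ → M := fun m => C (algebraMap ℚ B (1 / (m.factorial : ℚ)))
  have hc : ∀ a b, c a * c b = c (a + b) * (Nat.choose (a + b) a : M) := by
    intro a b
    have hq : (1 / (a.factorial : ℚ)) * (1 / (b.factorial : ℚ)) =
        1 / ((a + b).factorial : ℚ) * ((Nat.choose (a + b) a : ℕ) : ℚ) := by
      rw [Nat.cast_add_choose]
      field_simp
    simp only [c]
    rw [← map_mul, ← map_mul, hq, map_mul, map_mul, map_natCast, map_natCast]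
  have hc0 : c 0 = 1 := by
    change C (algebraMap ℚ B (1 / ((Nat.factorial 0 : ℕ) : ℚ))) = 1
    rw [Nat.factorial_zero, Nat.cast_one, div_one, map_one, map_one]
  have hc1 : c 1 = 1 := by
    change C (algebraMap ℚ B (1 / ((Nat.factorial 1 : ℕ) : ℚ))) = 1
    rw [Nat.factorial_one, Nat.cast_one, div_one, map_one, map_one]
  have hiterAdd : ∀ (m : ℕ) (x y : M), (Δ^[m]) (x + y) = (Δ^[m]) x + (Δ^[m]) y := by
    intro m
    induction m with
    | zero => intro x y; rfl
    | succ m ih => intro x y; simp only [Function.iterate_succ_apply']; rw [ih, map_add]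
  let E : M → M := fun x => ∑ m ∈ Finset.range N, c m * (Δ^[m]) x
  suffices key : ∀ (Q : Type u) [CommRing Q] [Algebra A Q] (q : M →ₐ[A] Q),
      (∀ x ∈ U ^ N, q x = 0) →
      ∃ F : B →ₐ[A] Q, ∀ b, F b - q (C b + L b) ∈ (U.map q.toRingHom) ^ 2 by
    exact key (M ⧸ U ^ N) (Ideal.Quotient.mkₐ A (U ^ N))
      fun x hx => Ideal.Quotient.eq_zero_iff_mem.mpr hx
  intro Q _ _ q hq
  have hEmul : ∀ x y, q (E (x * y)) = q (E x) * q (E y) := by
    intro x y
    rw [← map_mul, ← sub_eq_zero, ← map_sub]
    refine hq _ ?_
    let g : ℕ × ℕ → M := fun p => c p.1 * (Δ^[p.1]) x * (c p.2 * (Δ^[p.2]) y)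
    have hl : E (x * y) = ∑ p ∈ (Finset.range N ×ˢ Finset.range N).filter
        (fun p => p.1 + p.2 < N), g p := by
      change ∑ m ∈ Finset.range N, c m * (Δ^[m]) (x * y) = _
      rw [Finset.sum_congr rfl fun m _ => (congrArg (c m * ·) (hleib m x y)).trans (Finset.mul_sum _ _ _),
        Finset.sum_sigma' (Finset.range N) fun m => Finset.range (m + 1)]
      refine Finset.sum_nbij' (fun s => (s.2, s.1 - s.2)) (fun p => ⟨p.1 + p.2, p.1⟩) ?_ ?_ ?_ ?_ ?_
      · rintro ⟨m, k⟩ hs
        simp only [Finset.mem_sigma, Finset.mem_range] at hs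
        simp only [Finset.mem_filter, Finset.mem_product, Finset.mem_range]
        omega
      · rintro ⟨a, b⟩ hp
        simp only [Finset.mem_filter, Finset.mem_product, Finset.mem_range] at hp
        simp only [Finset.mem_sigma, Finset.mem_range]
        omega
      · rintro ⟨m, k⟩ hs
        simp only [Finset.mem_sigma, Finset.mem_range] at hs
        simp only [Sigma.mk.injEq, heq_eq_eq, and_true]
        omega
      · rintro ⟨a, b⟩ _
        simp
      · rintro ⟨m, k⟩ hs
        simp only [Finset.mem_sigma, Finset.mem_range] at hs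
        have hkm : k + (m - k) = m := by omega
        have h2 := hc k (m - k)
        rw [hkm] at h2
        simp only [g]
        calc c m * ((Nat.choose m k : M) * ((Δ^[k]) x * (Δ^[m - k]) y))
            = c m * (Nat.choose m k : M) * ((Δ^[k]) x * (Δ^[m - k]) y) := by ring
          _ = _ := by rw [← h2]; ring
    have hr' : E x * E y = ∑ p ∈ Finset.range N ×ˢ Finset.range N, g p := by
      rw [Finset.sum_product]; exact Finset.sum_mul_sum _ _ _ _
    rw [hl, hr', ← Finset.sum_filter_add_sum_filter_not (Finset.range N ×ˢ Finset.range N)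
      (fun p => p.1 + p.2 < N) g, sub_add_cancel_left]
    refine neg_mem (Ideal.sum_mem _ fun p hp => ?_)
    have hpN : N ≤ p.1 + p.2 := by simpa using (Finset.mem_filter.mp hp).2
    refine Ideal.pow_le_pow_right hpN ?_
    simp only [g]
    rw [pow_add, show c p.1 * (Δ^[p.1]) x * (c p.2 * (Δ^[p.2]) y) =
      c p.1 * c p.2 * ((Δ^[p.1]) x * (Δ^[p.2]) y) by ring]
    exact Ideal.mul_mem_left _ _ (Ideal.mul_mem_mul (hiter _ _) (hiter _ _))
  have hconst : ∀ b : B, L b = 0 → q (E (C b)) = q (C b) := by
    intro b hb
    rw [← sub_eq_zero, ← map_sub]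
    refine hq _ ?_
    have hz : ∀ m, (Δ^[m + 1]) (C b) = 0 := fun m => by
      induction m with
      | zero => simp [hΔC, hb]
      | succ m ih => rw [Function.iterate_succ_apply', ih, map_zero]
    rcases Nat.eq_zero_or_pos N with hN | hN
    · subst hN; simp
    · obtain ⟨N', rfl⟩ := Nat.exists_eq_succ_of_ne_zero hN.ne'
      have : E (C b) = C b := by
        change ∑ m ∈ Finset.range (N' + 1), c m * (Δ^[m]) (C b) = _
        rw [Finset.sum_range_succ', Finset.sum_eq_zero fun m _ => by rw [hz, mul_zero]]
        rw [zero_add, hc0, one_mul]; rfl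
      rw [this, sub_self]; exact zero_mem _
  have hiter0 : ∀ m, (Δ^[m]) (0 : M) = 0 := fun m => by
    induction m with
    | zero => rfl
    | succ m ih => rw [Function.iterate_succ_apply', ih, map_zero]
  have hEadd : ∀ x y, E (x + y) = E x + E y := by
    intro x y
    simp only [E, ← Finset.sum_add_distrib]
    refine Finset.sum_congr rfl fun m _ => ?_
    rw [← mul_add, hiterAdd]
  let F : B →ₐ[A] Q :=
    { toFun := fun b => q (E (C b))
      map_one' := by
        rw [hconst 1 (by rw [hL, Derivation.map_one_eq_zero, map_zero, map_zero]), map_one, map_one]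
      map_mul' := fun a b => by rw [map_mul, hEmul]
      map_zero' := by simp [E, hiter0]
      map_add' := fun a b => by rw [map_add, hEadd, map_add]
      commutes' := fun a => by
        rw [hconst _ (by rw [hL, Derivation.map_algebraMap, map_zero, map_zero])]
        exact q.commutes a }
  refine ⟨F, fun b => ?_⟩
  change q (E (C b)) - q (C b + L b) ∈ _
  rw [← map_sub, ← Ideal.map_pow]
  rcases Nat.lt_or_ge N 2 with hN | hN
  · have h1 : q (E (C b) - (C b + L b)) = q (E (C b) - C b) := by
      rw [← sub_eq_zero, ← map_sub]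
      refine hq _ ?_
      rw [show E (C b) - (C b + L b) - (E (C b) - C b) = -L b by ring]
      refine neg_mem (Ideal.pow_le_pow_right (by omega : N ≤ 1) ?_)
      rw [pow_one]; exact hLU b
    rw [h1]
    obtain rfl | rfl : N = 0 ∨ N = 1 := by omega
    · rw [hq _ (by simp)]; exact zero_mem _
    · have : E (C b) = C b := by
        simp only [E]
        rw [show Finset.range (1 : ℕ) = {0} from rfl, Finset.sum_singleton, hc0, one_mul]; rfl
      rw [this, sub_self, map_zero]; exact zero_mem _
  · obtain ⟨N', rfl⟩ := Nat.exists_eq_add_of_le hN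
    refine Ideal.mem_map_of_mem _ ?_
    have hE : E (C b) - (C b + L b) =
        ∑ m ∈ Finset.range N', c (m + 2) * (Δ^[m + 2]) (C b) := by
      change ∑ m ∈ Finset.range (2 + N'), c m * (Δ^[m]) (C b) - _ = _
      rw [add_comm 2 N', Finset.sum_range_succ', Finset.sum_range_succ']
      rw [hc0, hc1, one_mul, one_mul]
      simp only [Function.iterate_one, Function.iterate_zero_apply, hΔC, Nat.zero_add,
        Nat.add_assoc, one_add_one_eq_two]
      abel
    rw [hE]
    exact Ideal.sum_mem _ fun m _ =>
      Ideal.mul_mem_left _ _ (Ideal.pow_le_pow_right (by omega : 2 ≤ m + 2) (hiter _ _))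

end Groth.Agent.S3819
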