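import Groth.Statements.S3820
import Groth.Agent.PPH.SmoothLift

set_option autoImplicit false
universe u
open scoped TensorProduct
open PP16

namespace Groth.Agent.S3820

open Groth.Agent.PPH MvPolynomial

/-- Let B be an A-algebra which is formally smooth (for the discrete topologies). Then Spec B is
differentially smooth over Spec A: the module of differentials is projective and the canonical
surjections Sym^n(Ω_{B/A}) → I^n/I^(n+1) are bijective for all n. -/
theorem result (A B : Type u) [CommRing A] [CommRing B] [Algebra A B]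
    [Algebra.FormallySmooth A B] : PP16.IsDiffSmooth A B := by
  have hproj : Module.Projective B (KaehlerDifferential A B) := inferInstance
  obtain ⟨κ, i, r, hr⟩ := exists_embedding A B
  refine isDiffSmooth_of_lifts hproj i r hr fun N => ?_
  let U := idealOfVars κ B
  let M := MvPolynomial κ B
  let L : B →ₗ[A] M :=
    ((Sym.lin κ).restrictScalars A).comp
      ((i.restrictScalars A).comp (KaehlerDifferential.D A B).toLinearMap)
  have hL : ∀ b, L b = Sym.lin κ (i (KaehlerDifferential.D A B b)) := fun b => rfl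
  have hLU : ∀ b, L b ∈ U := fun b => lin_mem _
  let v : B → M := fun b => C b + L b
  have hmul : ∀ b c, v b * v c - v (b * c) ∈ U ^ 2 := by
    intro b c
    have hbc : L (b * c) = C b * L c + C c * L b := by
      rw [hL, hL, hL, (KaehlerDifferential.D A B).leibniz, map_add, map_add, map_smul, map_smul,
        map_smul, map_smul, MvPolynomial.smul_eq_C_mul, MvPolynomial.smul_eq_C_mul]
    have e : v b * v c - v (b * c) = L b * L c := by
      simp only [v, hbc, map_mul]; ring
    rw [e, pow_two]
    exact Ideal.mul_mem_mul (hLU b) (hLU c)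
  suffices key : ∀ (Q₂ Q : Type u) [CommRing Q₂] [Algebra A Q₂] [CommRing Q] [Algebra A Q]
      (q₂ : M →ₐ[A] Q₂) (q : M →ₐ[A] Q), Function.Surjective q → RingHom.ker q.toRingHom = U ^ (N + 2) →
      Function.Surjective q₂ → RingHom.ker q₂.toRingHom = U ^ 2 →
      ∃ F : B →ₐ[A] Q, ∀ b, F b - q (v b) ∈ (U.map q.toRingHom) ^ 2 by
    obtain ⟨F, hF⟩ := key (M ⧸ U ^ 2) (M ⧸ U ^ (N + 2)) (Ideal.Quotient.mkₐ A (U ^ 2))
      (Ideal.Quotient.mkₐ A (U ^ (N + 2))) (Ideal.Quotient.mkₐ_surjective A _)
      (Ideal.Quotient.mkₐ_ker A _) (Ideal.Quotient.mkₐ_surjective A _) (Ideal.Quotient.mkₐ_ker A _)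
    let f : M ⧸ U ^ (N + 2) →ₐ[A] M ⧸ U ^ N :=
      Ideal.Quotient.factorₐ A (Ideal.pow_le_pow_right (by omega))
    refine ⟨f.comp F, fun b => ?_⟩
    have h1 := Ideal.mem_map_of_mem f.toRingHom (hF b)
    have hc : f.toRingHom.comp (Ideal.Quotient.mkₐ A (U ^ (N + 2))).toRingHom =
        Ideal.Quotient.mk (U ^ N) := RingHom.ext fun _ => rfl
    rw [Ideal.map_pow, Ideal.map_map, hc] at h1
    have h2 : f (F b - Ideal.Quotient.mkₐ A (U ^ (N + 2)) (v b)) =
        f (F b) - Ideal.Quotient.mk (U ^ N) (v b) := (map_sub f _ _).trans rfl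
    exact h2 ▸ h1
  intro Q₂ Q _ _ _ _ q₂ q hq hqk hq₂ hq₂k
  have hzero : ∀ x ∈ U ^ 2, q₂ x = 0 := fun x hx =>
    RingHom.mem_ker.mp (hq₂k.ge hx)
  let F₁ : B →ₐ[A] Q₂ :=
    { toFun := fun b => q₂ (v b)
      map_one' := by
        have : L 1 = 0 := by rw [hL, Derivation.map_one_eq_zero, map_zero, map_zero]
        simp [v, this]
      map_mul' := fun b c => by
        rw [← map_mul, eq_comm, ← sub_eq_zero, ← map_sub]
        exact hzero _ (hmul b c)
      map_zero' := by simp [v]
      map_add' := fun b c => by rw [← map_add]; congr 1; simp [v]; ring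
      commutes' := fun a => by
        have : L (algebraMap A B a) = 0 := by
          rw [hL, Derivation.map_algebraMap, map_zero, map_zero]
        simp only [v, this, add_zero]
        exact q₂.commutes a }
  let g : Q →ₐ[A] Q₂ :=
    (Ideal.Quotient.liftₐ (RingHom.ker q) q₂ fun x hx => hzero x
      (Ideal.pow_le_pow_right (by omega) (hqk.le hx))).comp
      (Ideal.quotientKerAlgEquivOfSurjective hq).symm.toAlgHom
  have hg : ∀ x, g (q x) = q₂ x := fun x => by
    have e : (Ideal.quotientKerAlgEquivOfSurjective hq).symm (q x) =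
        Ideal.Quotient.mk (RingHom.ker q) x :=
      (Ideal.quotientKerAlgEquivOfSurjective hq).injective
        ((AlgEquiv.apply_symm_apply _ _).trans rfl)
    exact (congrArg (Ideal.Quotient.liftₐ (RingHom.ker q) q₂ fun x hx => hzero x
      (Ideal.pow_le_pow_right (by omega) (hqk.le hx))) e).trans rfl
  have hgs : Function.Surjective g := fun y => by
    obtain ⟨x, rfl⟩ := hq₂ y
    exact ⟨q x, hg x⟩
  have hkerg : ∀ y, g y = 0 → y ∈ (U.map q.toRingHom) ^ 2 := by
    intro y hy
    obtain ⟨x, rfl⟩ := hq y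
    rw [hg] at hy
    rw [← Ideal.map_pow]
    exact Ideal.mem_map_of_mem _ (hq₂k.le (RingHom.mem_ker.mpr hy))
  have hnil : IsNilpotent (RingHom.ker (g : Q →+* Q₂)) := by
    refine ⟨N + 2, ?_⟩
    refine eq_bot_iff.mpr ((Ideal.pow_right_mono (fun y hy => Ideal.pow_le_self (by omega : 2 ≠ 0)
      (hkerg y hy)) (N + 2)).trans ?_)
    rw [← Ideal.map_pow, ← hqk, Ideal.map_le_iff_le_comap]
    exact fun x hx => by simpa using hx
  refine ⟨Algebra.FormallySmooth.liftOfSurjective F₁ g hgs hnil, fun b => hkerg _ ?_⟩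
  rw [map_sub, Algebra.FormallySmooth.liftOfSurjective_apply, hg]
  exact sub_self _

end Groth.Agent.S3820
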