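import Groth.Statements.S3828
import Groth.Agent.QReg14.Inf

set_option autoImplicit false
universe u
open QReg16

namespace Groth.Agent.S3828

/-- Let A be a Noetherian ring, J an ideal of A, and f_1, …, f_r elements of A forming a weakly regular
sequence on A/J (each f_i a nonzerodivisor on A/(J + (f_1, …, f_{i−1}))) and generating an ideal R
contained in the Jacobson radical of A; put Q = J + R. Then J ∩ Rⁿ = J·Rⁿ for every n > 0, and J ∩
Q² = J·Q (equivalently, the canonical map J/JQ → Q/Q² is injective). -/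
theorem result {A : Type u} [CommRing A] [IsNoetherianRing A] (J : Ideal A)
    {r : ℕ} (f : Fin r → A) (hf : RingTheory.Sequence.IsWeaklyRegular (A ⧸ J) (List.ofFn f))
    (hrad : Ideal.span (Set.range f) ≤ (⊥ : Ideal A).jacobson) :
    (∀ n : ℕ, 0 < n → J ⊓ Ideal.span (Set.range f) ^ n = J * Ideal.span (Set.range f) ^ n) ∧
      J ⊓ (J ⊔ Ideal.span (Set.range f)) ^ 2 = J * (J ⊔ Ideal.span (Set.range f)) := by
  refine ⟨fun n _ => QReg14.inf_pow_eq_mul J f hf n, ?_⟩
  set R := Ideal.span (Set.range f) with hR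
  have h2 : J ⊓ R ^ 2 = J * R ^ 2 := QReg14.inf_pow_eq_mul J f hf 2
  refine le_antisymm ?_ (le_inf Ideal.mul_le_left ?_)
  · have hsq : (J ⊔ R) ^ 2 = J * (J ⊔ R) ⊔ R ^ 2 := by
      refine le_antisymm ?_ (sup_le ?_ (Ideal.pow_right_mono le_sup_right 2))
      · rw [pow_two, Ideal.sup_mul, Ideal.mul_sup R J R, ← pow_two, mul_comm R J]
        exact sup_le le_sup_left (sup_le_sup_right (Ideal.mul_mono_right le_sup_right) _)
      · rw [pow_two]; exact Ideal.mul_mono_left le_sup_left
    intro x hx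
    obtain ⟨hxJ, hxQ⟩ := hx
    rw [hsq] at hxQ
    obtain ⟨y, hy, z, hz, rfl⟩ := Submodule.mem_sup.1 hxQ
    refine Ideal.add_mem _ hy ?_
    have hzJ : z ∈ J := by
      have := J.sub_mem hxJ ((Ideal.mul_le_left : J * (J ⊔ R) ≤ J) hy)
      simpa using this
    have : z ∈ J * R ^ 2 := h2 ▸ ⟨hzJ, hz⟩
    exact Ideal.mul_mono_right ((Ideal.pow_le_self two_ne_zero).trans le_sup_right) this
  · rw [pow_two]; exact Ideal.mul_mono_left le_sup_left

end Groth.Agent.S3828
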