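import Groth.Statements.S3831
import Groth.Agent.Hensel20.GeomNormal
import Groth.Agent.CAlg6.GeomTensor

set_option autoImplicit false
universe u
open Hensel18

open scoped TensorProduct in
theorem Groth.Agent.S3831.aux (A : Type u) [CommRing A] [HenselianLocalRing A]
    [IsNoetherianRing A] (hA : EGA4.HasGeomNormalFormalFibres A) (p : Ideal A) [p.IsPrime]
    (K : Type u) [Field K] [Algebra p.ResidueField K] :
    IsDomain (K ⊗[p.ResidueField] EGA4.formalFibre A p) := by
  classical
  let k := p.ResidueField
  let C := EGA4.Cpl A
  let F := EGA4.formalFibre A p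
  have : IsNoetherianRing C := EGA4H10.isNoetherianRing_cpl (A := A)
  have hred := Hensel20.hasGeomReducedFormalFibres_of_normal hA
  -- finite extensions
  have hfin : ∀ (L : Type u) [Field L] [Algebra k L], Module.Finite k L →
      IsDomain (L ⊗[k] F) := by
    intro L _ _ hL
    let _ : Algebra A L := ((algebraMap k L).comp (algebraMap A k)).toAlgebra
    have : IsScalarTower A k L := IsScalarTower.of_algebraMap_eq fun _ => rfl
    let e : L ⊗[k] F ≃ₐ[k] L ⊗[A] C := Algebra.TensorProduct.cancelBaseChange A k k L C
    have : Algebra.EssFiniteType A L := Algebra.EssFiniteType.comp A k L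
    have : IsNoetherianRing (C ⊗[A] L) := Algebra.EssFiniteType.isNoetherianRing C _
    have : IsNoetherianRing (L ⊗[A] C) :=
      isNoetherianRing_of_ringEquiv _ (Algebra.TensorProduct.comm A C L).toRingEquiv
    have := Hensel20.connectedSpace_tensor_cpl A hred L
    have : IsDomain (L ⊗[A] C) := Hensel20.isDomain_of_isNormalRing
      (EGA4H10.isNormalRing_of_ringEquiv e.toRingEquiv (hA p L hL))
    exact e.toMulEquiv.isDomain
  refine CAlg6.isDomain_of_algebraicClosure k F ?_ K
  let kb := AlgebraicClosure k
  have : Nontrivial F := by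
    have := hfin k (Module.Finite.self k)
    exact (Algebra.TensorProduct.lid k F).symm.toEquiv.nontrivial
  have : Nontrivial (kb ⊗[k] F) :=
    (Algebra.TensorProduct.includeRight_injective (R := k) (A := kb) (B := F)
      (algebraMap k kb).injective).nontrivial
  have : NoZeroDivisors (kb ⊗[k] F) := ⟨fun {x y} hxy => by
    obtain ⟨s, hs⟩ := TensorProduct.exists_finset x
    obtain ⟨t, ht⟩ := TensorProduct.exists_finset y
    let L := IntermediateField.adjoin k (((s ∪ t).image Prod.fst : Finset kb) : Set kb)
    have : FiniteDimensional k L :=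
      IntermediateField.finiteDimensional_adjoin fun z _ => Algebra.IsIntegral.isIntegral z
    have := hfin L inferInstance
    let φ : L ⊗[k] F →ₐ[k] kb ⊗[k] F := Algebra.TensorProduct.map L.val (AlgHom.id k F)
    have hφ : Function.Injective φ := FBase64.map_injective_left _ Subtype.val_injective
    have hrange : ∀ u : Finset (kb × F), u ⊆ s ∪ t → (∑ q ∈ u, q.1 ⊗ₜ[k] q.2) ∈ φ.range :=
      fun u hu => Subalgebra.sum_mem _ fun q hq => ⟨(⟨q.1, IntermediateField.subset_adjoin k _
        (Finset.mem_image_of_mem Prod.fst (hu hq))⟩ : L) ⊗ₜ q.2, rfl⟩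
    obtain ⟨x', hx'⟩ := hrange s Finset.subset_union_left
    obtain ⟨y', hy'⟩ := hrange t Finset.subset_union_right
    have hx'' : φ x' = x := hx'.trans hs.symm
    have hy'' : φ y' = y := hy'.trans ht.symm
    rw [← hx'', ← hy'', ← map_mul] at hxy
    rcases mul_eq_zero.mp (hφ (hxy.trans (map_zero φ).symm)) with h | h
    · exact Or.inl (by rw [← hx'', h, map_zero])
    · exact Or.inr (by rw [← hy'', h, map_zero])⟩
  exact NoZeroDivisors.to_isDomain (kb ⊗[k] F)

namespace Groth.Agent.S3831

/-- Let A be a henselian Noetherian local ring whose formal fibres are geometrically normal. Then the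
formal fibres of A are geometrically integral: for every prime p of A and every field extension K of
the residue field k(p), the ring K ⊗_{k(p)} (k(p) ⊗_A Â) is an integral domain. -/
theorem result (A : Type u) [CommRing A] [HenselianLocalRing A]
    [IsNoetherianRing A] (hA : EGA4.HasGeomNormalFormalFibres A) (p : Ideal A) [p.IsPrime]
    (K : Type u) [Field K] [Algebra p.ResidueField K] :
    IsDomain (TensorProduct p.ResidueField K (EGA4.formalFibre A p)) := by
  exact aux A hA p K

end Groth.Agent.S3831
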