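import Groth.Agent.An92.Rat.SchDenseOps
-- Template for statement S3834 (row 3833; see the milestone table for weights).
-- Copy to Groth/Agent/S3834.lean and replace the sorry. The statement below is byte-identical to the frozen
-- statement Rat20.GrothFrozen.S3834 (Groth/Statements/S3834.lean; the theorem Rat20.isSchematicallyDense_iff_exists_basicOpen_le);
-- the grader kernel-checks Groth.Agent.S3834.result against that frozen type. Keep the theorem IN THIS FILE
-- (a `result` declared elsewhere and merely imported here is not credited); helpers may live anywhere
-- under Groth/Agent/.

set_option autoImplicit false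
universe u
open CategoryTheory CategoryTheory.Limits AlgebraicGeometry TopologicalSpace
namespace Rat20
end Rat20
open Rat20

namespace Groth.Agent.S3834

/-- Let X = Spec A be an affine scheme, with A Noetherian, or A reduced with finitely many minimal
primes. Then an open subset U of X is schematically dense if and only if it contains an open subset
of the form X_t with t a regular element of A = Γ(X, O_X). -/
theorem result (X : Scheme.{u}) [IsAffine X]
    (hX : IsNoetherian X ∨ (IsReduced X ∧ (irreducibleComponents ↥X).Finite)) (U : X.Opens) :
    CInt.IsSchematicallyDense U ↔ ∃ t : Γ(X, ⊤), t ∈ nonZeroDivisors Γ(X, ⊤) ∧ X.basicOpen t ≤ U := by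
  exact ⟨An92.Rat.exists_nzd_of_schDense hX U, fun ⟨t, ht, hle⟩ =>
    An92.Rat.schDense_mono hle (An92.Rat.schDense_basicOpen_of_nzd t ht)⟩

end Groth.Agent.S3834
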