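import Groth.Statements.S3835
import Groth.Agent.S3843
import Groth.Agent.S2879
import Mathlib.AlgebraicGeometry.Morphisms.UniversallyOpen

set_option autoImplicit false
universe u
open CategoryTheory CategoryTheory.Limits AlgebraicGeometry TopologicalSpace
open Rat20

namespace Groth.Agent.S3835

open CategoryTheory Limits AlgebraicGeometry TopologicalSpace

/-- Let Y be separated over S, X an S-scheme with a schematically dense open subscheme U, h : U → Y an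
S-morphism (a representative of a pseudo-morphism from X to Y over S), and f : X' → X a flat
morphism locally of finite presentation, X' being regarded as an S-scheme through f. Let x' be a
point of X' with image x = f(x'). If there is an S-morphism from an open neighbourhood V' of x' to Y
agreeing with h ∘ f on f⁻¹(U) ∩ V' (the pulled-back pseudo-morphism is defined at x'), then there is
an S-morphism from an open neighbourhood V of x to Y agreeing with h on U ∩ V (the pseudo-morphism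
is defined at x). -/
theorem result {X X' Y S : Scheme.{u}} (pX : X ⟶ S) (pY : Y ⟶ S)
    [IsSeparated pY] (U : X.Opens) (hU : CInt.IsSchematicallyDense U) (h : (U : Scheme.{u}) ⟶ Y)
    (hh : h ≫ pY = U.ι ≫ pX) (f : X' ⟶ X) [Flat f] [LocallyOfFinitePresentation f] (x' : ↥X')
    (V' : X'.Opens) (hx' : x' ∈ V') (v' : (V' : Scheme.{u}) ⟶ Y) (hv'S : v' ≫ pY = V'.ι ≫ f ≫ pX)
    (hv' : X'.homOfLE (inf_le_right : f ⁻¹ᵁ U ⊓ V' ≤ V') ≫ v' =
      X'.homOfLE (inf_le_left : f ⁻¹ᵁ U ⊓ V' ≤ f ⁻¹ᵁ U) ≫ (f ∣_ U) ≫ h) :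
    ∃ (V : X.Opens) (v : (V : Scheme.{u}) ⟶ Y), f x' ∈ V ∧ v ≫ pY = V.ι ≫ pX ∧
      X.homOfLE (inf_le_right : U ⊓ V ≤ V) ≫ v = X.homOfLE (inf_le_left : U ⊓ V ≤ U) ≫ h := by
  obtain ⟨Wx, hWx, hxWx, -⟩ := exists_isAffineOpen_mem_and_subset (X := X) (x := f x') (U := ⊤) trivial
  obtain ⟨W', hW', hxW', hW'sub⟩ := exists_isAffineOpen_mem_and_subset (X := X') (x := x')
    (U := V' ⊓ f ⁻¹ᵁ Wx) ⟨hx', hxWx⟩
  let W : X.Opens := ⟨f '' W', f.isOpenMap _ W'.2⟩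
  have hWW : W ≤ Wx := by
    rintro _ ⟨z, hz, rfl⟩
    exact (hW'sub hz).2
  have hle : W' ≤ f ⁻¹ᵁ W := fun z hz => ⟨z, hz, rfl⟩
  let f₀ : (W' : Scheme.{u}) ⟶ W := f.resLE W W' hle
  have hf₀ι : f₀ ≫ W.ι = W'.ι ≫ f := Scheme.Hom.resLE_comp_ι _ _
  haveI : Flat f₀ := by
    show Flat (f.resLE W W' hle)
    rw [Scheme.Hom.resLE]
    infer_instance
  haveI : LocallyOfFinitePresentation f₀ := by
    show LocallyOfFinitePresentation (f.resLE W W' hle)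
    rw [Scheme.Hom.resLE]
    infer_instance
  haveI : Surjective f₀ := ⟨fun y => by
    obtain ⟨z, hz, hzy⟩ := y.2
    refine ⟨⟨z, hz⟩, Subtype.ext ?_⟩
    have e : W.ι (f₀ (⟨z, hz⟩ : ↥W')) = f (W'.ι (⟨z, hz⟩ : ↥W')) :=
      congrArg (fun m : (W' : Scheme.{u}) ⟶ X => m (⟨z, hz⟩ : ↥W')) hf₀ι
    exact e.trans hzy⟩
  haveI : QuasiCompact f₀ := by
    haveI : IsAffine (W' : Scheme.{u}) := hW'
    haveI : IsAffine (Wx : Scheme.{u}) := hWx
    haveI : QuasiCompact (f₀ ≫ X.homOfLE hWW) := inferInstance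
    exact MorphismProperty.of_postcomp (W := @QuasiCompact) (W' := @QuasiSeparated) f₀ (X.homOfLE hWW)
      inferInstance ‹_›
  let U₀ : (W : Scheme.{u}).Opens := W.ι ⁻¹ᵁ U
  have hU₀ : CInt.IsSchematicallyDense ((pullback.fst f₀ f₀) ⁻¹ᵁ (f₀ ⁻¹ᵁ U₀)) :=
    Groth.Agent.S3843.result (pullback.fst f₀ f₀ ≫ f₀ ≫ W.ι) U hU
  let g₀ : (U₀ : Scheme.{u}) ⟶ Y := (W.ι ∣_ U) ≫ h
  let g₀' : (W' : Scheme.{u}) ⟶ Y := X'.homOfLE (fun z hz => (hW'sub hz).1) ≫ v'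
  obtain ⟨k, hk, hkS⟩ := Groth.Agent.S2879.result (W.ι ≫ pX) pY f₀ U₀ hU₀ g₀
    (by simp only [g₀, Category.assoc, hh, morphismRestrict_ι_assoc]; rfl)
    g₀' (by simp only [g₀', Category.assoc, hv'S, Scheme.homOfLE_ι_assoc]; rw [← Category.assoc f₀, hf₀ι, Category.assoc]) (by
      let a := (f₀ ⁻¹ᵁ U₀).ι ≫ W'.ι
      have hr : Set.range a ⊆ Set.range (f ⁻¹ᵁ U ⊓ V').ι := by
        rintro _ ⟨z, rfl⟩
        rw [Scheme.Opens.range_ι]
        refine ⟨?_, (hW'sub z.1.2).1⟩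
        have h1 : W.ι (f₀ z.1) ∈ U := z.2
        rw [← Scheme.Hom.comp_apply, hf₀ι, Scheme.Hom.comp_apply] at h1
        exact h1
      let l := IsOpenImmersion.lift (f ⁻¹ᵁ U ⊓ V').ι a hr
      have hl : l ≫ (f ⁻¹ᵁ U ⊓ V').ι = a := IsOpenImmersion.lift_fac _ _ _
      have h1 : l ≫ X'.homOfLE (inf_le_right : f ⁻¹ᵁ U ⊓ V' ≤ V') =
          (f₀ ⁻¹ᵁ U₀).ι ≫ X'.homOfLE (fun z hz => (hW'sub hz).1) := by
        rw [← cancel_mono V'.ι, Category.assoc, Category.assoc, Scheme.homOfLE_ι, Scheme.homOfLE_ι, hl]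
      have h2 : l ≫ X'.homOfLE (inf_le_left : f ⁻¹ᵁ U ⊓ V' ≤ f ⁻¹ᵁ U) ≫ (f ∣_ U) = (f₀ ∣_ U₀) ≫ (W.ι ∣_ U) := by
        rw [← cancel_mono U.ι]
        simp only [Category.assoc, morphismRestrict_ι, Scheme.homOfLE_ι_assoc]
        rw [← Category.assoc, hl, ← Category.assoc]
        refine Eq.trans ?_ (congrArg (· ≫ W.ι) (morphismRestrict_ι f₀ U₀).symm) |>.trans (Category.assoc _ _ _)
        simp only [a, Category.assoc, hf₀ι]
      show (f₀ ⁻¹ᵁ U₀).ι ≫ X'.homOfLE _ ≫ v' = (f₀ ∣_ U₀) ≫ (W.ι ∣_ U) ≫ h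
      rw [← Category.assoc, ← h1, Category.assoc, hv', ← Category.assoc (f₀ ∣_ U₀), ← h2]
      simp only [Category.assoc])
  refine ⟨W, k, ⟨x', hxW', rfl⟩, hkS, ?_⟩
  have hr : Set.range (X.homOfLE (inf_le_right : U ⊓ W ≤ W)) ⊆ Set.range U₀.ι := by
    rintro _ ⟨z, rfl⟩
    rw [Scheme.Opens.range_ι]
    show W.ι (X.homOfLE _ z) ∈ U
    rw [← Scheme.Hom.comp_apply, Scheme.homOfLE_ι]
    exact z.2.1
  let l := IsOpenImmersion.lift U₀.ι (X.homOfLE (inf_le_right : U ⊓ W ≤ W)) hr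
  have hl : l ≫ U₀.ι = X.homOfLE (inf_le_right : U ⊓ W ≤ W) := IsOpenImmersion.lift_fac _ _ _
  have hl2 : l ≫ (W.ι ∣_ U) = X.homOfLE (inf_le_left : U ⊓ W ≤ U) := by
    rw [← cancel_mono U.ι, Category.assoc, morphismRestrict_ι, ← Category.assoc, hl, Scheme.homOfLE_ι,
      Scheme.homOfLE_ι]
  rw [← hl, Category.assoc, hk]
  show l ≫ (W.ι ∣_ U) ≫ h = _
  rw [← Category.assoc, hl2]

end Groth.Agent.S3835
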