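import Groth.Agent.An92.Rat.RatMap
-- Template for statement S3837 (row 3836; see the milestone table for weights).
-- Copy to Groth/Agent/S3837.lean and replace the sorry. The statement below is byte-identical to the frozen
-- statement Rat20.GrothFrozen.S3837 (Groth/Statements/S3837.lean; the theorem Rat20.extends_nhd_iff_of_universallyOpen);
-- the grader kernel-checks Groth.Agent.S3837.result against that frozen type. Keep the theorem IN THIS FILE
-- (a `result` declared elsewhere and merely imported here is not credited); helpers may live anywhere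
-- under Groth/Agent/.

set_option autoImplicit false
universe u
open CategoryTheory CategoryTheory.Limits AlgebraicGeometry TopologicalSpace
namespace Rat20
end Rat20
open Rat20

namespace Groth.Agent.S3837

/-- Let X be a normal S-scheme (locally integral with integrally closed local rings), Y an S-scheme
locally of finite type and separated over S, h : U → Y an S-morphism on a dense open subset (a
rational S-map ω), and f : X' → X a morphism locally of finite type and universally open with X'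
reduced, so that f⁻¹(U) is dense and ω ∘ f is defined. Then for x' in X' with image x, ω is defined
at x if and only if ω ∘ f is defined at x': some S-morphism on an open neighbourhood of x agrees
with h on U if and only if some S-morphism on an open neighbourhood of x' agrees with h ∘ f on the
preimage of U. -/
theorem result {X X' Y S : Scheme.{u}} (pX : X ⟶ S) (pY : Y ⟶ S)
    [LocallyOfFiniteType pY] [IsSeparated pY] (hX : ∀ y : ↥X, ∃ W : X.Opens, y ∈ W ∧ IsIntegral (W : Scheme.{u}))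
    (hXn : ∀ y : ↥X, IsIntegrallyClosed (X.presheaf.stalk y))
    (U : X.Opens) (hU : Dense (U : Set ↥X)) (h : (U : Scheme.{u}) ⟶ Y) (hh : h ≫ pY = U.ι ≫ pX)
    (f : X' ⟶ X) [LocallyOfFiniteType f] [UniversallyOpen f] [IsReduced X'] (x' : ↥X') :
    (∃ (V : X.Opens) (v : (V : Scheme.{u}) ⟶ Y), f x' ∈ V ∧ v ≫ pY = V.ι ≫ pX ∧
        X.homOfLE (inf_le_right : U ⊓ V ≤ V) ≫ v = X.homOfLE (inf_le_left : U ⊓ V ≤ U) ≫ h) ↔
      ∃ (V' : X'.Opens) (v' : (V' : Scheme.{u}) ⟶ Y), x' ∈ V' ∧ v' ≫ pY = V'.ι ≫ f ≫ pX ∧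
        X'.homOfLE (inf_le_right : f ⁻¹ᵁ U ⊓ V' ≤ V') ≫ v' =
          X'.homOfLE (inf_le_left : f ⁻¹ᵁ U ⊓ V' ≤ f ⁻¹ᵁ U) ≫ (f ∣_ U) ≫ h := by
  classical
  constructor
  · rintro ⟨V, v, hxV, hv, hag⟩
    refine ⟨f ⁻¹ᵁ V, (f ∣_ V) ≫ v, hxV, ?_, ?_⟩
    · rw [Category.assoc, hv, morphismRestrict_ι_assoc]
    · let m : ((f ⁻¹ᵁ U ⊓ f ⁻¹ᵁ V : X'.Opens) : Scheme.{u}) ⟶ ((U ⊓ V : X.Opens) : Scheme.{u}) :=
        f ∣_ (U ⊓ V)
      have h1 : X'.homOfLE (inf_le_right : f ⁻¹ᵁ U ⊓ f ⁻¹ᵁ V ≤ f ⁻¹ᵁ V) ≫ (f ∣_ V) =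
          m ≫ X.homOfLE (inf_le_right : U ⊓ V ≤ V) := by
        rw [← cancel_mono V.ι]
        simp only [m, Category.assoc, morphismRestrict_ι, Scheme.homOfLE_ι, Scheme.homOfLE_ι_assoc]
        exact (morphismRestrict_ι f (U ⊓ V)).symm
      have h2 : X'.homOfLE (inf_le_left : f ⁻¹ᵁ U ⊓ f ⁻¹ᵁ V ≤ f ⁻¹ᵁ U) ≫ (f ∣_ U) =
          m ≫ X.homOfLE (inf_le_left : U ⊓ V ≤ U) := by
        rw [← cancel_mono U.ι]
        simp only [m, Category.assoc, morphismRestrict_ι, Scheme.homOfLE_ι, Scheme.homOfLE_ι_assoc]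
        exact (morphismRestrict_ι f (U ⊓ V)).symm
      rw [← Category.assoc, h1, ← Category.assoc, h2, Category.assoc, Category.assoc, hag]
  · rintro ⟨V', v', hx', hv', hag⟩
    obtain ⟨W, hxW, hint⟩ := hX (f x')
    have := An92.Rat.isDomain_stalk_of_integral hxW hint
    have := hXn (f x')
    let p := pullback.fst pX pY
    let σ := pullback.lift U.ι h hh.symm
    let f' := pullback.snd f p
    let p' := pullback.fst f p
    let g : (V' : Scheme.{u}) ⟶ pullback pX pY := pullback.lift (V'.ι ≫ f) v' (by rw [Category.assoc, hv'])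
    let σ' : (V' : Scheme.{u}) ⟶ pullback f p := pullback.lift V'.ι g (pullback.lift_fst _ _ _).symm
    have hσ'p : σ' ≫ p' = V'.ι := pullback.lift_fst _ _ _
    have hσ'f : σ' ≫ f' = g := pullback.lift_snd _ _ _
    have hσ'pt : ∀ a : ↥(V' : Scheme.{u}), p' (σ' a) = a.1 := fun a =>
      congrArg (fun (m : (V' : Scheme.{u}) ⟶ X') => m a) hσ'p
    have hrest : X'.homOfLE (inf_le_right : f ⁻¹ᵁ U ⊓ V' ≤ V') ≫ g =
        X'.homOfLE (inf_le_left : f ⁻¹ᵁ U ⊓ V' ≤ f ⁻¹ᵁ U) ≫ (f ∣_ U) ≫ σ := by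
      apply pullback.hom_ext
      · simp only [g, σ, Category.assoc, pullback.lift_fst, morphismRestrict_ι, Scheme.homOfLE_ι_assoc]
      · simp only [g, σ, Category.assoc, pullback.lift_snd]
        exact hag
    let E : Set ↥(pullback pX pY) := Set.range σ
    have hclosedσ' : ∀ w, p' w ∈ V' → w ∈ closure (Set.range σ') → w ∈ Set.range σ' := by
      intro w hwV hw
      let Pv := p' ⁻¹ᵁ V'
      let l : (V' : Scheme.{u}) ⟶ (Pv : Scheme.{u}) := IsOpenImmersion.lift Pv.ι σ' (by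
        rintro _ ⟨a, rfl⟩
        rw [Scheme.Opens.range_ι]
        show p' (σ' a) ∈ V'
        rw [hσ'pt]; exact a.2)
      have hl : l ≫ Pv.ι = σ' := IsOpenImmersion.lift_fac _ _ _
      have hl2 : l ≫ (p' ∣_ V') = 𝟙 _ := by
        rw [← cancel_mono V'.ι, Category.assoc, morphismRestrict_ι, ← Category.assoc, hl, hσ'p, Category.id_comp]
      have : IsSeparated (p' ∣_ V') := inferInstance
      have : IsClosedImmersion (l ≫ (p' ∣_ V')) := by rw [hl2]; infer_instance
      have : IsClosedImmersion l := IsClosedImmersion.of_comp l (p' ∣_ V')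
      have himg : Set.range σ' = Pv.ι '' Set.range l := by
        rw [← Set.range_comp]; rw [← hl]; rfl
      let w' : ↥(Pv : Scheme.{u}) := ⟨w, hwV⟩
      have hw' : w' ∈ closure (Set.range l) := by
        rw [Pv.ι.isOpenEmbedding.isInducing.closure_eq_preimage_closure_image, ← himg]
        exact hw
      rw [(IsClosedImmersion.base_closed (f := l)).isClosed_range.closure_eq] at hw'
      rw [himg]
      exact ⟨w', hw', rfl⟩
    have hsub : ∀ w, p' w ∈ V' → f' w ∈ closure E → w ∈ Set.range σ' := by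
      intro w hwV hwE
      refine hclosedσ' w hwV ?_
      have hopen : IsOpenMap f' := f'.isOpenMap
      have h1 : w ∈ closure (f' ⁻¹' E) := hopen.preimage_closure_subset_closure_preimage hwE
      refine closure_mono ?_ ((p' ⁻¹ᵁ V').2.inter_closure ⟨hwV, h1⟩)
      rintro w₁ ⟨hw₁V, u₀, hu₀⟩
      obtain ⟨t, ht₁, ht₂⟩ := Scheme.Pullback.exists_preimage_pullback w₁ u₀ hu₀.symm
      let T := pullback f' σ
      let a : T ⟶ X' := pullback.fst f' σ ≫ p'
      let T1 := a ⁻¹ᵁ V'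
      have htT1 : t ∈ T1 := by show p' (pullback.fst f' σ t) ∈ V'; rw [ht₁]; exact hw₁V
      have hcomm : (T1.ι ≫ a) ≫ f = (T1.ι ≫ pullback.snd f' σ) ≫ U.ι := by
        simp only [a, Category.assoc]
        rw [pullback.condition (f := f) (g := p), ← Category.assoc (pullback.fst f' σ),
          pullback.condition (f := f') (g := σ), Category.assoc, show σ ≫ p = U.ι from pullback.lift_fst _ _ _]
      let m : (T1 : Scheme.{u}) ⟶ ((f ⁻¹ᵁ U ⊓ V' : X'.Opens) : Scheme.{u}) :=
        IsOpenImmersion.lift (f ⁻¹ᵁ U ⊓ V').ι (T1.ι ≫ a) (by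
          rintro _ ⟨b, rfl⟩
          rw [Scheme.Opens.range_ι]
          refine ⟨?_, b.2⟩
          have := congrArg (fun (k : (T1 : Scheme.{u}) ⟶ X) => k b) hcomm
          show f ((T1.ι ≫ a) b) ∈ U
          exact this ▸ ((T1.ι ≫ pullback.snd f' σ) b).2)
      have hm : m ≫ (f ⁻¹ᵁ U ⊓ V').ι = T1.ι ≫ a := IsOpenImmersion.lift_fac _ _ _
      have hm2 : m ≫ X'.homOfLE (inf_le_left : f ⁻¹ᵁ U ⊓ V' ≤ f ⁻¹ᵁ U) ≫ (f ∣_ U) = T1.ι ≫ pullback.snd f' σ := by
        rw [← cancel_mono U.ι]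
        simp only [Category.assoc, morphismRestrict_ι, Scheme.homOfLE_ι_assoc]
        rw [← Category.assoc, hm, hcomm, Category.assoc]
      have key : T1.ι ≫ pullback.fst f' σ = (m ≫ X'.homOfLE inf_le_right) ≫ σ' := by
        apply pullback.hom_ext
        · rw [Category.assoc (m ≫ _), hσ'p, Category.assoc m, Scheme.homOfLE_ι, hm, Category.assoc]
        · rw [Category.assoc (m ≫ _), hσ'f, Category.assoc m, hrest, Category.assoc,
            pullback.condition (f := f') (g := σ), ← Category.assoc, ← hm2]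
          simp only [Category.assoc]
      refine ⟨(m ≫ X'.homOfLE inf_le_right) ⟨t, htT1⟩, ?_⟩
      rw [← ht₁]
      exact (congrArg (fun (k : (T1 : Scheme.{u}) ⟶ pullback f p) => k ⟨t, htT1⟩) key).symm
    let z := g ⟨x', hx'⟩
    have hz : p z = f x' := congrArg (fun (m : (V' : Scheme.{u}) ⟶ X) => m ⟨x', hx'⟩) (pullback.lift_fst _ _ _)
    have hzE : z ∈ closure E := by
      let A : Set ↥(V' : Scheme.{u}) := Subtype.val ⁻¹' (f ⁻¹' (U : Set ↥X))
      have hA : (⟨x', hx'⟩ : ↥(V' : Scheme.{u})) ∈ closure A := by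
        rw [V'.ι.isOpenEmbedding.isInducing.closure_eq_preimage_closure_image]
        have h1 : x' ∈ closure (f ⁻¹' (U : Set ↥X)) :=
          f.isOpenMap.preimage_closure_subset_closure_preimage (show f x' ∈ closure (U : Set ↥X) from hU (f x'))
        refine closure_mono ?_ (V'.2.inter_closure ⟨hx', h1⟩)
        rintro a ⟨ha, ha'⟩
        exact ⟨⟨a, ha⟩, ha', rfl⟩
      refine map_mem_closure g.continuous hA ?_
      rintro ⟨a, ha⟩ haU
      refine ⟨(f ∣_ U) ⟨a, haU⟩, ?_⟩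
      have := congrArg (fun (m : ((f ⁻¹ᵁ U ⊓ V' : X'.Opens) : Scheme.{u}) ⟶ pullback pX pY) => m ⟨a, haU, ha⟩) hrest
      change g (X'.homOfLE inf_le_right ⟨a, haU, ha⟩) = σ ((f ∣_ U) (X'.homOfLE inf_le_left ⟨a, haU, ha⟩)) at this
      rw [show X'.homOfLE (inf_le_right : f ⁻¹ᵁ U ⊓ V' ≤ V') ⟨a, haU, ha⟩ = ⟨a, ha⟩ from
          Subtype.ext (Scheme.homOfLE_apply _ _),
        show X'.homOfLE (inf_le_left : f ⁻¹ᵁ U ⊓ V' ≤ f ⁻¹ᵁ U) ⟨a, haU, ha⟩ = ⟨a, haU⟩ from
          Subtype.ext (Scheme.homOfLE_apply _ _)] at this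
      exact this.symm
    have hfib : ∀ w₀, w₀ ∈ closure E → p w₀ = f x' → w₀ = z := by
      intro w₀ hw₀ hpw
      obtain ⟨w, hw₁, hw₂⟩ := Scheme.Pullback.exists_preimage_pullback x' w₀ hpw.symm
      obtain ⟨a, ha⟩ := hsub w (by show p' w ∈ V'; rw [hw₁]; exact hx') (hw₂.symm ▸ hw₀)
      have hax : a = ⟨x', hx'⟩ := Subtype.ext (by rw [← hσ'pt, ha]; exact hw₁)
      rw [← hw₂, ← ha, hax]
      exact congrArg (fun (m : (V' : Scheme.{u}) ⟶ pullback pX pY) => m ⟨x', hx'⟩) hσ'f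
    have hiso : ∃ O : (pullback pX pY).Opens,
        (O : Set ↥(pullback pX pY)) ∩ closure E ∩ p ⁻¹' {f x'} = {z} := by
      refine ⟨⊤, Set.ext fun w => ⟨fun hw => hfib w hw.1.2 hw.2, ?_⟩⟩
      rintro rfl
      exact ⟨⟨trivial, hzE⟩, hz⟩
    exact An92.Rat.defined_of_isolated pX pY hxW hint U hU h hh.symm z hz hzE hiso

end Groth.Agent.S3837
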