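import Groth.Prelude.Def_BlowUp2
import Groth.Prelude.Def_Pi1
import Groth.Prelude.Def_CAlg
import Mathlib.AlgebraicGeometry.Fiber
import Mathlib.AlgebraicGeometry.Morphisms.Flat
import Mathlib.AlgebraicGeometry.Morphisms.QuasiCompact
import Mathlib.AlgebraicGeometry.Noetherian
import Mathlib.RingTheory.KrullDimension.Basic
import Mathlib.AlgebraicGeometry.IdealSheaf.Functorial
import Mathlib.AlgebraicGeometry.Stalk
import Groth.Agent.An92.DivDesc.Descent

set_option autoImplicit false
universe u
open CategoryTheory CategoryTheory.Limits AlgebraicGeometry TopologicalSpace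
namespace Div21
end Div21
open Div21

namespace Groth.Agent.S3839

/-- Case of effective divisors: let f : X → Y be a faithfully flat morphism between locally Noetherian
schemes, with f quasi-compact or open; assume Y is normal and that the fibre X_y is integral
whenever y is a point of Y whose local ring has dimension 1. An effective Cartier divisor D' on X
with ideal sheaf 𝓙 is then the pullback of some effective Cartier divisor on Y if and only if, at
each maximal point η of Y, the pullback of D' to the fibre X_η is zero (its ideal is the unit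
ideal). -/
theorem result {X Y : Scheme.{u}} [IsLocallyNoetherian X]
    [IsLocallyNoetherian Y] (f : X ⟶ Y) [Flat f] [Surjective f] (hf : QuasiCompact f ∨ IsOpenMap f)
    (hY : Pi1.IsNormalScheme Y)
    (hfib : ∀ y : ↥Y, ringKrullDim ↑(Y.presheaf.stalk y) = 1 → IsIntegral (f.fiber y))
    (𝓙 : X.IdealSheafData) (hJ : BlowUp.IsEffCartierIdeal 𝓙) :
    (∃ 𝓘 : Y.IdealSheafData, BlowUp.IsEffCartierIdeal 𝓘 ∧ 𝓘.comap f = 𝓙) ↔
      ∀ η : ↥Y, (∀ z : ↥Y, z ⤳ η → z = η) → 𝓙.comap (f.fiberι η) = ⊤ := by
  constructor
  · rintro ⟨I, hI, rfl⟩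
    intro η hη
    obtain ⟨g, hg, hgI⟩ := Div89.exists_stalk_generator hI η
    have := (hY η).1
    have hgu : IsUnit g := by
      obtain ⟨b, hb⟩ := (An92.DivDesc.isField_of_maximal hY η hη).mul_inv_cancel (nonZeroDivisors.ne_zero hg)
      exact IsUnit.of_mul_eq_one b hb
    refine (An92.DivDesc.comap_fiberι_eq_top_iff f _ η).2 fun x hx => ?_
    subst hx
    rw [Div89.stalkIdeal_comap, hgI, Ideal.span_singleton_eq_top.2 hgu, Ideal.map_top, top_sup_eq]
  · intro h1
    refine An92.DivDesc.exists_descent f hf hY (fun y hy z z' hz _ hzz => ?_) 𝓙 hJ h1 fun y hy => ?_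
    · have := hfib y hy
      have := isNoetherianRing_of_surjective (X.presheaf.stalk (f.fiberι y z)) _ ((f.fiberι y).stalkMap z).hom
        (FlatMor68.FibreStalk.fiberι_stalkMap_surjective f y z)
      exact An92.DivDesc.eq_of_isAssociatedPrime hz hzz
    · exact An92.DivDesc.exists_pow_of_isIntegral_fiber f hY 𝓙 hJ y hy (hfib y hy)

end Groth.Agent.S3839
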