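import Groth.Prelude.Def_Pic
import Groth.Prelude.Def_Pi1
import Groth.Prelude.Def_ParaF
import Groth.Prelude.Def_Coh
import Mathlib.AlgebraicGeometry.Fiber
import Mathlib.AlgebraicGeometry.Morphisms.Flat
import Mathlib.AlgebraicGeometry.Morphisms.QuasiCompact
import Mathlib.AlgebraicGeometry.Noetherian
import Mathlib.RingTheory.KrullDimension.Basic
import Mathlib.AlgebraicGeometry.Modules.Sheaf
import Mathlib.RingTheory.UniqueFactorizationDomain.Basic
import Mathlib.Data.List.TFAE
import Mathlib.AlgebraicGeometry.OrderOfVanishing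
import Groth.Agent.An92.WeilPar.Trivial
import Mathlib.Tactic.TFAE

set_option autoImplicit false
universe u
open CategoryTheory CategoryTheory.Limits AlgebraicGeometry TopologicalSpace
namespace Div21
end Div21
open Div21

set_option linter.style.haveILetI false
namespace Groth.Agent.S3841

/-- Let X be a Noetherian (locally Noetherian and quasi-compact) integral scheme; points of codimension
1 are the points of coheight 1 in the specialization order. The following are equivalent. (1) For
every point ζ of codimension 1 there is a global section g of O_X cutting out the closure of ζ with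
its reduced structure: at each specialization x of ζ the ideal of that closure in O_{X,x} (the prime
ideal of O_{X,x} corresponding to ζ, the preimage of the maximal ideal of O_{X,ζ}) is generated by
the germ of g, and g is invertible at the points outside the closure. (2) X is normal and every
prime cycle of codimension 1 is principal: for every point x₀ of codimension 1 there is a nonzero
rational function with order of vanishing 1 at x₀ and 0 at every other point of codimension 1. (3)
Every local ring of X is a unique factorisation domain and every invertible O_X-module is trivial.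
(4) X is normal and for every open subset U of X every invertible O_U-module is trivial. (The
published statement assumes X only locally Noetherian; quasi-compactness, which its published proof
uses, is added here.) -/
theorem result (X : Scheme.{u}) [IsIntegral X]
    [IsLocallyNoetherian X] [CompactSpace X] :
    List.TFAE [
      ∀ ζ : ↥X, Order.coheight ζ = 1 → ∃ g : Γ(X, ⊤),
        (∀ (x : ↥X) (h : ζ ⤳ x),
          (IsLocalRing.maximalIdeal ↑(X.presheaf.stalk ζ)).comap (X.presheaf.stalkSpecializes h).hom =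
            Ideal.span {X.presheaf.germ ⊤ x trivial g}) ∧
        ∀ x : ↥X, ¬ ζ ⤳ x → IsUnit (X.presheaf.germ ⊤ x trivial g),
      Pi1.IsNormalScheme X ∧ ∀ x₀ : ↥X, Order.coheight x₀ = 1 → ∃ f : ↑X.functionField, f ≠ 0 ∧
        Scheme.ord f x₀ = 1 ∧ ∀ x : ↥X, x ≠ x₀ → Order.coheight x = 1 → Scheme.ord f x = 0,
      (∀ x : ↥X, UniqueFactorizationMonoid ↑(X.presheaf.stalk x)) ∧
        ∀ L : X.Modules, PicF.IsInvertible L → Nonempty (L ≅ Coh.structureModule X),
      Pi1.IsNormalScheme X ∧ ∀ (U : X.Opens) (L : (U : Scheme.{u}).Modules),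
        PicF.IsInvertible L → Nonempty (L ≅ Coh.structureModule (U : Scheme.{u}))] := by
  classical
  open Div89 An92.WeilPar in
  have prin : Pi1.IsNormalScheme X → (∀ x₀ : X, Order.coheight x₀ = 1 → ∃ f : X.functionField, f ≠ 0 ∧
      Scheme.ord f x₀ = 1 ∧ ∀ x : X, x ≠ x₀ → Order.coheight x = 1 → Scheme.ord f x = 0) →
      ∀ D : X → ℤ, (Function.support D).Finite → (∀ x, Order.coheight x ≠ 1 → D x = 0) →
      ∃ f : X.functionField, f ≠ 0 ∧ ∀ y, Order.coheight y = 1 → D y = Scheme.ord f y := by
    intro hX h D hfin hD1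
    choose φ hφ hφ1 hφ0 using h
    obtain ⟨F, hF⟩ : ∃ F : X → X.functionField, ∀ z (hz : Order.coheight z = 1), F z = φ z hz :=
      ⟨fun z => if hz : Order.coheight z = 1 then φ z hz else 1, fun z hz => dif_pos hz⟩
    have hco : ∀ z ∈ hfin.toFinset, Order.coheight z = 1 := fun z hz =>
      by_contra fun hne => hfin.mem_toFinset.1 hz (hD1 z hne)
    have hF0 : ∀ z ∈ hfin.toFinset, F z ^ D z ≠ 0 := fun z hz => zpow_ne_zero _ (by rw [hF z (hco z hz)]; exact hφ z _)
    refine ⟨∏ z ∈ hfin.toFinset, F z ^ D z, Finset.prod_ne_zero_iff.2 hF0, fun y hy => ?_⟩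
    refine (Eq.symm ((Scheme.ord_eq_iff hy (Finset.prod_ne_zero_iff.2 hF0)).2 ?_))
    rw [map_prod]
    have key : ∀ z ∈ hfin.toFinset, X.ordHom y hy (F z ^ D z) = if z = y then WithZero.exp (D z) else 1 := by
      intro z hz
      rw [map_zpow₀, hF z (hco z hz)]
      split_ifs with e
      · subst e
        rw [(Scheme.ord_eq_iff hy (hφ z _)).1 (hφ1 z _)]
        change (WithZero.exp (1 : ℤ)) ^ D z = _
        rw [← WithZero.exp_zsmul, smul_eq_mul, mul_one]
      · rw [(Scheme.ord_eq_iff hy (hφ z _)).1 (hφ0 z _ y (Ne.symm e) hy)]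
        exact one_zpow _
    rw [Finset.prod_congr rfl key, Finset.prod_ite_eq']
    split_ifs with h0
    · rfl
    · rw [Set.Finite.mem_toFinset, Function.mem_support, not_not] at h0
      rw [h0]; rfl
  open Div89 An92.WeilPar in
  tfae_have 1 → 2 := fun h => by
    have hufd : ∀ x : X, UniqueFactorizationMonoid (X.presheaf.stalk x) := fun x =>
      UniqueFactorizationMonoid.iff_exists_prime_mem_of_isPrime.2 fun P hP0 hP => by
        obtain ⟨y, hyx, hc, hle⟩ := exists_height_one x P hP hP0
        obtain ⟨g, hg, -⟩ := h y hc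
        have hQ : (Cyc90.genPrime hyx).asIdeal = Ideal.span {X.presheaf.germ ⊤ x trivial g} := hg x hyx
        have hQ0 : X.presheaf.germ ⊤ x trivial g ≠ 0 := fun h0 => by
          have h1 := coheight_eq_height hyx
          rw [hc, hQ, h0, Ideal.span_singleton_eq_bot.2 rfl, Ideal.height_bot] at h1
          exact one_ne_zero h1
        exact ⟨_, hle (hQ ▸ Ideal.mem_span_singleton_self _),
          (Ideal.span_singleton_prime hQ0).1 (hQ ▸ (Cyc90.genPrime hyx).2)⟩
    have hX : Pi1.IsNormalScheme X := fun x => by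
      haveI := hufd x
      exact ⟨inferInstance, inferInstance⟩
    refine ⟨hX, fun ζ hζ => ?_⟩
    obtain ⟨g, hg, hgu⟩ := h ζ hζ
    haveI := Ref1.isDVR hX hζ
    let f : X.functionField := X.presheaf.germ ⊤ (genericPoint X) trivial g
    have hgζ : IsLocalRing.maximalIdeal (X.presheaf.stalk ζ) = Ideal.span {X.presheaf.germ ⊤ ζ trivial g} := by
      rw [← hg ζ specializes_rfl, TopCat.Presheaf.stalkSpecializes_refl]
      exact (Ideal.comap_id _).symm
    have hg0 : X.presheaf.germ ⊤ ζ trivial g ≠ 0 := fun h0 =>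
      IsDiscreteValuationRing.not_a_field (X.presheaf.stalk ζ) (by rw [hgζ, h0, Ideal.span_singleton_eq_bot.2 rfl])
    have halg : ∀ x : X, algebraMap (X.presheaf.stalk x) X.functionField (X.presheaf.germ ⊤ x trivial g) = f :=
      fun x => Ref1.algebraMap_germ (U := (⊤ : X.Opens)) (x := x) trivial g
    have hf : f ≠ 0 := by
      rw [← halg ζ]
      exact (map_ne_zero_iff _ (IsFractionRing.injective _ _)).2 hg0
    refine ⟨f, hf, ?_, fun x hx hc => ?_⟩
    · haveI : Ring.KrullDimLE 1 (X.presheaf.stalk ζ) := krullDimLE_of_coheight_le hζ.le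
      rw [Scheme.ord_eq_iff hζ hf, ← halg ζ]
      exact Ring.ordFrac_irreducible ((IsDiscreteValuationRing.irreducible_iff_uniformizer _).2 hgζ)
    · refine (congrArg (fun v => Scheme.ord v x) (halg x).symm).trans
        (Ref1.ord_algebraMap_of_isUnit hc (hgu x fun hsp => ?_))
      have h1 := coheight_eq_height hsp
      have h2 : (Cyc90.genPrime hsp).asIdeal = IsLocalRing.maximalIdeal (X.presheaf.stalk x) := by
        haveI := Ref1.isDVR hX hc
        refine IsLocalRing.eq_maximalIdeal (IsPrime.to_maximal_ideal ?_)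
        intro h0
        rw [h0, Ideal.height_bot, hζ] at h1
        exact one_ne_zero h1
      exact hx ((Cyc90.genPrime_eq_iff hsp specializes_rfl).1
        (PrimeSpectrum.ext (h2.trans (congrArg PrimeSpectrum.asIdeal (Cyc90.genPrime_refl x)).symm))).symm
  open Div89 An92.WeilPar in
  tfae_have 2 → 1 := fun ⟨hX, h⟩ ζ hζ => by
    obtain ⟨f, hf, hf1, hf0⟩ := h ζ hζ
    have hord : ∀ y, Order.coheight y = 1 → 0 ≤ Scheme.ord f y := fun y hy => by
      by_cases e : y = ζ
      · rw [e, hf1]; norm_num
      · rw [hf0 y e hy]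
    obtain ⟨g, hg⟩ := exists_function hX ⊤ trivial f fun y _ hc => Or.inr (hord y hc)
    have halg : ∀ x : X, algebraMap (X.presheaf.stalk x) X.functionField (X.presheaf.germ ⊤ x trivial g) = f :=
      fun x => (Ref1.algebraMap_germ (U := (⊤ : X.Opens)) (x := x) trivial g).trans hg
    have hcoe : ∀ (z x : X) (hz : z ⤳ x) (c : X.presheaf.stalk x),
        algebraMap (X.presheaf.stalk z) X.functionField ((X.presheaf.stalkSpecializes hz).hom c) =
          algebraMap (X.presheaf.stalk x) X.functionField c := fun z x hz c => by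
      obtain ⟨W, hW, b, rfl⟩ := TopCat.Presheaf.exists_germ_eq X.presheaf c
      erw [TopCat.Presheaf.germ_stalkSpecializes_apply]
      rw [Ref1.algebraMap_germ, Ref1.algebraMap_germ]
    refine ⟨g, fun x hx => le_antisymm (fun c hc => ?_) ((Ideal.span_singleton_le_iff_mem _).2 fun hu => ?_),
      fun x hx => ?_⟩
    · by_cases hc0 : c = 0
      · rw [hc0]; exact zero_mem _
      let γ : X.functionField := algebraMap (X.presheaf.stalk x) X.functionField c
      have hγ : γ ≠ 0 := (map_ne_zero_iff _ (IsFractionRing.injective _ _)).2 hc0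
      obtain ⟨b, hb⟩ := mem_range_of_ord hX x (γ * f⁻¹) fun z hz hcz => Or.inr (by
        rw [Scheme.ord_mul hγ (inv_ne_zero hf), Ref1.ord_inv f hf]
        by_cases e : z = ζ
        · subst e
          rw [hf1]
          have h1 : 1 ≤ Scheme.ord γ z := by
            have := Ref1.ord_pos hX hcz (a := (X.presheaf.stalkSpecializes hx).hom c)
              (fun h0 => hγ (by rw [show γ = _ from (hcoe z x hx c).symm, h0, map_zero])) hc
            rwa [hcoe] at this
          omega
        · rw [hf0 z e hcz, neg_zero, add_zero]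
          exact (Ref1.mem_range_iff hX hcz hγ).1 ⟨_, hcoe z x hz c⟩)
      refine Ideal.mem_span_singleton'.2 ⟨b, IsFractionRing.injective (X.presheaf.stalk x) X.functionField ?_⟩
      rw [map_mul, halg, hb]
      exact inv_mul_cancel_right₀ hf γ
    · have h0 := Ref1.ord_algebraMap_of_isUnit hζ hu
      rw [hcoe, halg, hf1] at h0
      exact one_ne_zero h0
    · obtain ⟨b, hb⟩ := mem_range_of_ord hX x f⁻¹ fun z hz hcz => Or.inr (by
        rw [Ref1.ord_inv f hf, hf0 z (fun e => hx (e ▸ hz)) hcz]; rfl)
      refine IsUnit.of_mul_eq_one b (IsFractionRing.injective (X.presheaf.stalk x) X.functionField ?_)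
      rw [map_mul, halg, hb, map_one]
      exact mul_inv_cancel₀ hf
  open Div89 An92.WeilPar in
  tfae_have 2 → 3 := fun ⟨hX, h⟩ => ⟨fun x => ufm_of_framed hX x fun D hD1 hDf => by
      obtain ⟨f, hf, hfD⟩ := prin hX h D (finite_of_locallyFinite D fun z => by
        obtain ⟨W, hz, hW⟩ := hDf z
        exact ⟨W, W.2.mem_nhds hz, hW.subset fun w hw => ⟨hw.1, hw.2⟩⟩) hD1
      exact ⟨f, hf, fun y hc _ => hfD y hc⟩,
    iso_unit_of_principal hX (prin hX h)⟩
  open Div89 An92.WeilPar in
  tfae_have 3 → 2 := fun ⟨hufd, hpic⟩ => by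
    have hX : Pi1.IsNormalScheme X := fun x => by
      haveI := hufd x
      exact ⟨inferInstance, inferInstance⟩
    refine ⟨hX, fun ζ hζ => ?_⟩
    let D : X → ℤ := fun z => if z = ζ then 1 else 0
    have hD : ∀ x : X, ∃ N ∈ nhds x, (N ∩ Function.support D).Finite := fun x =>
      ⟨Set.univ, Filter.univ_mem, (Set.finite_singleton ζ).subset fun w hw => by_contra fun e => hw.2 (if_neg e)⟩
    obtain ⟨φ⟩ := hpic (Ref1.divMod D hX) (Mero90.isInvertible_of_frames fun x => by
      haveI := hufd x
      obtain ⟨W, hx, e, he⟩ := framed_of_ufm hX D hD (fun z hz => if_neg fun (e : z = ζ) => hz (by rw [e]; exact hζ)) x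
      exact ⟨W, hx, e, he⟩)
    obtain ⟨f, hf, hfD⟩ := principal_of_iso_unit hX D hD φ
    exact ⟨f, hf, (hfD ζ hζ).symm.trans (if_pos rfl), fun y hy hc => (hfD y hc).symm.trans (if_neg hy)⟩
  open Div89 An92.WeilPar in
  tfae_have 2 → 4 := fun ⟨hX, h⟩ => ⟨hX, fun U L hL => by
    haveI : IsNoetherian X := {}
    rcases isEmpty_or_nonempty (U : Scheme.{u}) with hU | hU
    · exact iso_unit_of_isEmpty L
    haveI : IsIntegral (U : Scheme.{u}) := isIntegral_of_isOpenImmersion U.ι
    haveI : IsLocallyNoetherian (U : Scheme.{u}) := isLocallyNoetherian_of_isOpenImmersion U.ι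
    haveI : CompactSpace (U : Scheme.{u}) := isCompact_iff_compactSpace.1 (NoetherianSpace.isCompact _)
    have hη := genericPoint_eq_of_isOpenImmersion U.ι
    have hsurj : ∀ u, Function.Surjective (U.ι.stalkMap u) := fun u => U.ι.stalkMap_surjective u
    refine iso_unit_of_principal (An92.WeilPar.isNormal U.ι hη hX hsurj) (fun D hfin hD1 => ?_) L hL
    have hinj : Function.Injective U.ι := U.ι.isOpenEmbedding.injective
    have h1 : (Function.support (Function.extend U.ι D 0)).Finite := (hfin.image U.ι).subset fun z hz => by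
      by_cases hr : ∃ u, U.ι u = z
      · obtain ⟨u, rfl⟩ := hr
        exact ⟨u, by rwa [Function.mem_support, hinj.extend_apply] at hz, rfl⟩
      · exact absurd (Function.extend_apply' _ _ _ hr) hz
    have h2 : ∀ z, Order.coheight z ≠ 1 → Function.extend U.ι D 0 z = 0 := fun z hz => by
      by_cases hr : ∃ u, U.ι u = z
      · obtain ⟨u, rfl⟩ := hr
        rw [hinj.extend_apply]
        exact hD1 u fun hu => hz ((coheight_map U.ι hη hsurj u).trans hu)
      · exact Function.extend_apply' _ _ _ hr
    obtain ⟨f, hf, hfD⟩ := prin hX h _ h1 h2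
    refine ⟨ffMap U.ι hη f, (map_ne_zero _).2 hf, fun y hc => ?_⟩
    rw [ord_ffMap U.ι hη hsurj f hf, ← hfD _ ((coheight_map U.ι hη hsurj y).trans hc)]
    exact (hinj.extend_apply _ _ _).symm⟩
  open Div89 An92.WeilPar in
  tfae_have 4 → 2 := fun ⟨hX, hpic⟩ => ⟨hX, fun ζ hζ => by
    let D : X → ℤ := fun z => if z = ζ then 1 else 0
    have hD : ∀ x : X, ∃ N ∈ nhds x, (N ∩ Function.support D).Finite := fun x =>
      ⟨Set.univ, Filter.univ_mem, (Set.finite_singleton ζ).subset fun w hw => by_contra fun e => hw.2 (if_neg e)⟩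
    let U : X.Opens := ⟨{x | Ref1.Framed (Ref1.divMod D hX) x}, isOpen_iff_forall_mem_open.2
      fun x ⟨W, hx, e, he⟩ => ⟨W, fun y hy => ⟨W, hy, e, he⟩, W.2, hx⟩⟩
    have hU1 : ∀ y, Order.coheight y = 1 → y ∈ U := fun y hy =>
      Ref1.framed_of_isRef1 hX (Ref1.isRef1_divMod hX hD) (Or.inr hy)
    haveI : Nonempty (U : Scheme.{u}) := ⟨⟨ζ, hU1 ζ hζ⟩⟩
    haveI : IsIntegral (U : Scheme.{u}) := isIntegral_of_isOpenImmersion U.ι
    haveI : IsLocallyNoetherian (U : Scheme.{u}) := isLocallyNoetherian_of_isOpenImmersion U.ι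
    have hη := genericPoint_eq_of_isOpenImmersion U.ι
    have hsurj : ∀ u, Function.Surjective (U.ι.stalkMap u) := fun u => U.ι.stalkMap_surjective u
    have hinj : Function.Injective U.ι := U.ι.isOpenEmbedding.injective
    have hXU := An92.WeilPar.isNormal U.ι hη hX hsurj
    let D' : ↥(U : Scheme.{u}) → ℤ := fun u => D (U.ι u)
    have hD' : ∀ u : ↥(U : Scheme.{u}), ∃ N ∈ nhds u, (N ∩ Function.support D').Finite := fun u =>
      ⟨Set.univ, Filter.univ_mem, ((Set.finite_singleton ζ).preimage hinj.injOn).subset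
        fun w hw => by_contra fun e => hw.2 (if_neg e)⟩
    obtain ⟨φ⟩ := hpic U (Ref1.divMod D' hXU) (Mero90.isInvertible_of_frames fun u => by
      obtain ⟨f, hf, hfo⟩ := (framed_iff hX hD (U.ι u)).1 u.2
      obtain ⟨W, hu, e, he⟩ := framed_of_principal hXU hD' u (ffMap U.ι hη f) ((map_ne_zero _).2 hf)
        fun w hc hw => by
          rw [ord_ffMap U.ι hη hsurj f hf]
          exact hfo _ ((coheight_map U.ι hη hsurj w).trans hc) (hw.map U.ι.continuous)
      exact ⟨W, hu, e, he⟩)
    obtain ⟨q, hq, hqD⟩ := principal_of_iso_unit hXU D' hD' φ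
    obtain ⟨f, rfl⟩ := ffMap_surjective U.ι hη hsurj q
    have hf : f ≠ 0 := fun h0 => hq (by rw [h0, map_zero])
    have key : ∀ y, Order.coheight y = 1 → Scheme.ord f y = D y := fun y hy => by
      exact ((hqD ⟨y, hU1 y hy⟩ ((coheight_map U.ι hη hsurj ⟨y, hU1 y hy⟩).symm.trans hy)).trans
        (ord_ffMap U.ι hη hsurj f hf ⟨y, hU1 y hy⟩)).symm
    exact ⟨f, hf, (key ζ hζ).trans (if_pos rfl), fun y hy hc => (key y hc).trans (if_neg hy)⟩⟩
  tfae_finish

end Groth.Agent.S3841
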