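import Groth.Agent.An92.Rat.SchDenseOps
-- Template for statement S3842 (row 3841; see the milestone table for weights).
-- Copy to Groth/Agent/S3842.lean and replace the sorry. The statement below is byte-identical to the frozen
-- statement Rat20.GrothFrozen.S3842 (Groth/Statements/S3842.lean; the theorem Rat20.dense_preimage_of_components_dominate);
-- the grader kernel-checks Groth.Agent.S3842.result against that frozen type. Keep the theorem IN THIS FILE
-- (a `result` declared elsewhere and merely imported here is not credited); helpers may live anywhere
-- under Groth/Agent/.

set_option autoImplicit false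
universe u
open CategoryTheory CategoryTheory.Limits AlgebraicGeometry TopologicalSpace
namespace Rat20
end Rat20
open Rat20

namespace Groth.Agent.S3842

/-- For the open subset U = X; the general case is the same statement over the open subscheme U: let f :
X' → X be a morphism of schemes with X' reduced, suppose the irreducible components of X form a
locally finite family and that every irreducible component of X' dominates an irreducible component
of X (the closure of its image is an irreducible component of X). Then for every schematically dense
open subset V of X, the preimage f⁻¹(V) is schematically dense in X'. -/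
theorem result {X X' : Scheme.{u}} (f : X' ⟶ X) [IsReduced X']
    (hfin : ∀ x : ↥X, ∃ W : X.Opens, x ∈ W ∧ {Z ∈ irreducibleComponents ↥X | (Z ∩ (W : Set ↥X)).Nonempty}.Finite)
    (hdom : ∀ Z' ∈ irreducibleComponents ↥X', closure (f '' Z') ∈ irreducibleComponents ↥X)
    (V : X.Opens) (hV : CInt.IsSchematicallyDense V) : CInt.IsSchematicallyDense (f ⁻¹ᵁ V) := by
  refine An92.Rat.schDense_of_dense (LimTop61.dense_of_isMaxPt_mem fun η hη => ?_)
  obtain ⟨W, hW, hWfin⟩ := hfin (f η)
  exact An92.Rat.mem_of_dense_of_isMaxPt (An92.Rat.dense_of_schDense hV)
    (An92.Rat.isMaxPt_image f hdom hη) hW hWfin

end Groth.Agent.S3842
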