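import Groth.Agent.An92.Rat.SchDenseOps
-- Template for statement S3844 (row 3843; see the milestone table for weights).
-- Copy to Groth/Agent/S3844.lean and replace the sorry. The statement below is byte-identical to the frozen
-- statement Rat20.GrothFrozen.S3844 (Groth/Statements/S3844.lean; the theorem Rat20.isSchematicallyDense_preimage_of_flat_locallyNoetherian);
-- the grader kernel-checks Groth.Agent.S3844.result against that frozen type. Keep the theorem IN THIS FILE
-- (a `result` declared elsewhere and merely imported here is not credited); helpers may live anywhere
-- under Groth/Agent/.

set_option autoImplicit false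
universe u
open CategoryTheory CategoryTheory.Limits AlgebraicGeometry TopologicalSpace
namespace Rat20
end Rat20
open Rat20

namespace Groth.Agent.S3844

/-- For the open subset U = X: let f : X' → X be flat with X locally Noetherian. Then for every
schematically dense open subset V of X, the preimage f⁻¹(V) is schematically dense in X'. -/
theorem result {X X' : Scheme.{u}} (f : X' ⟶ X) [Flat f]
    [IsLocallyNoetherian X] (V : X.Opens) (hV : CInt.IsSchematicallyDense V) :
    CInt.IsSchematicallyDense (f ⁻¹ᵁ V) := by
  exact An92.Rat.schDense_preimage_of_flat f hV

end Groth.Agent.S3844
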