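import Groth.Statements.S3845
import Groth.Agent.Unr55.LocalIso

set_option autoImplicit false
universe u
open CategoryTheory CategoryTheory.Limits AlgebraicGeometry TopologicalSpace
open Unram17

namespace Groth.Agent.S3845

set_option backward.isDefEq.respectTransparency.types false in
/-- a) iff b): let f : X → Y be locally of finite presentation and x a point of X. Then f is unramified
on some open neighbourhood of x if and only if the diagonal X → X ×_Y X is a local isomorphism at x
(its restriction to some open neighbourhood of x is an open immersion). -/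
theorem result {X Y : Scheme.{u}} (f : X ⟶ Y)
    [LocallyOfFinitePresentation f] (x : ↥X) :
    (∃ U : X.Opens, x ∈ U ∧ FormallyUnramified (U.ι ≫ f)) ↔
      SchLoc.IsLocalIsoAt (pullback.diagonal f) x := by
  exact ⟨fun ⟨U, hx, hU⟩ ↦ ⟨U, hx, (Unr55.formallyUnramified_restrict_iff f U).mp hU⟩,
    fun ⟨U, hx, hU⟩ ↦ ⟨U, hx, (Unr55.formallyUnramified_restrict_iff f U).mpr hU⟩⟩

end Groth.Agent.S3845
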