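import Groth.Statements.S3846
import Groth.Agent.Unr55.LocalIso

set_option autoImplicit false
universe u
open CategoryTheory CategoryTheory.Limits AlgebraicGeometry TopologicalSpace
open Unram17

namespace Groth.Agent.S3846

set_option backward.isDefEq.respectTransparency.types false in
/-- a) iff b''): let f : X → Y be locally of finite presentation and x a point of X. Then f is
unramified on some open neighbourhood of x if and only if, for every base change g : Y' → Y and
every section s' of X ×_Y Y' → Y', s' is a local isomorphism at every point y' of Y' such that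
s'(y') lies over x. -/
theorem result {X Y : Scheme.{u}} (f : X ⟶ Y) [LocallyOfFinitePresentation f]
    (x : ↥X) :
    (∃ U : X.Opens, x ∈ U ∧ FormallyUnramified (U.ι ≫ f)) ↔
      ∀ (Y' : Scheme.{u}) (g : Y' ⟶ Y) (s' : Y' ⟶ pullback f g), s' ≫ pullback.snd f g = 𝟙 Y' →
        ∀ y' : ↥Y', pullback.fst f g (s' y') = x → SchLoc.IsLocalIsoAt s' y' := by
  constructor
  · rintro ⟨U, hx, hU⟩ Y' g s' hs y' hy
    exact Unr55.isLocalIsoAt_section f U g s' hs y' (hy ▸ hx)
  · intro h
    obtain ⟨U, hx, hU⟩ := h X f (pullback.diagonal f) (pullback.diagonal_snd f) x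
      (by rw [← Scheme.Hom.comp_apply, pullback.diagonal_fst]; rfl)
    exact ⟨U, hx, (Unr55.formallyUnramified_restrict_iff f U).mpr hU⟩

end Groth.Agent.S3846
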