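import Groth.Agent.An92.Rat.SectionGlue
-- Template for statement S3848 (row 3847; see the milestone table for weights).
-- Copy to Groth/Agent/S3848.lean and replace the sorry. The statement below is byte-identical to the frozen
-- statement Rat20.GrothFrozen.S3848 (Groth/Statements/S3848.lean; the theorem Rat20.section_extends_to_normal_point_iff_dvr);
-- the grader kernel-checks Groth.Agent.S3848.result against that frozen type. Keep the theorem IN THIS FILE
-- (a `result` declared elsewhere and merely imported here is not credited); helpers may live anywhere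
-- under Groth/Agent/.

set_option autoImplicit false
universe u
open CategoryTheory CategoryTheory.Limits AlgebraicGeometry TopologicalSpace
namespace Rat20
end Rat20
open Rat20

namespace Groth.Agent.S3848

/-- In the case S = X (valuative criterion for a rational map to be defined at a point): let X be a
locally Noetherian scheme, q : Y → X a morphism locally of finite type, U a dense open subset of X,
h : U → Y a section of q over U, x a point of X outside U whose local ring is an integrally closed
domain, and y₀ a point of Y over x with trivial residue field extension (an X-morphism Spec k(x) →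
Y). Then h extends to a section h' of q over an open subset U' containing U and x with h'(x) = y₀ if
and only if: for every discrete valuation ring R and every morphism u : Spec R → X sending the
closed point to x and the generic point into U, there is a morphism h₁ : Spec R → Y over X sending
the closed point to y₀ and agreeing with h at the generic point. -/
theorem result {X Y : Scheme.{u}} [IsLocallyNoetherian X] (q : Y ⟶ X)
    [LocallyOfFiniteType q] (U : X.Opens) (hU : Dense (U : Set ↥X)) (h : (U : Scheme.{u}) ⟶ Y)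
    (hh : h ≫ q = U.ι) (x : ↥X) (hxU : x ∉ U) [IsDomain ↑(X.presheaf.stalk x)]
    (hx : IsIntegrallyClosed ↑(X.presheaf.stalk x)) (y₀ : ↥Y) (hy₀ : q y₀ = x)
    (hk : Function.Bijective (q.residueFieldMap y₀)) :
    (∃ (U' : X.Opens) (hUU' : U ≤ U') (hxU' : x ∈ U') (h' : (U' : Scheme.{u}) ⟶ Y),
        h' ≫ q = U'.ι ∧ X.homOfLE hUU' ≫ h' = h ∧ h' ⟨x, hxU'⟩ = y₀) ↔
      ∀ (R : Type u) [CommRing R] [IsDomain R] [IsDiscreteValuationRing R]
        (u : Spec (CommRingCat.of R) ⟶ X), u (IsLocalRing.closedPoint R) = x →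
        ∀ ub : Spec (CommRingCat.of (FractionRing R)) ⟶ (U : Scheme.{u}),
          ub ≫ U.ι = Spec.map (CommRingCat.ofHom (algebraMap R (FractionRing R))) ≫ u →
          ∃ h₁ : Spec (CommRingCat.of R) ⟶ Y, h₁ ≫ q = u ∧ h₁ (IsLocalRing.closedPoint R) = y₀ ∧
            Spec.map (CommRingCat.ofHom (algebraMap R (FractionRing R))) ≫ h₁ = ub ≫ h := by
  constructor
  · rintro ⟨U', hUU', hxU', h', hq', hres, hx'⟩ R _ _ _ u hu ub hub
    have hr : Set.range u ⊆ Set.range U'.ι := by
      rw [Scheme.Opens.range_ι]
      exact An92.Rat.range_subset_of_closedPoint_mem u U' (hu ▸ hxU')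
    refine ⟨IsOpenImmersion.lift U'.ι u hr ≫ h', ?_, ?_, ?_⟩
    · rw [Category.assoc, hq', IsOpenImmersion.lift_fac]
    · have h1 : (IsOpenImmersion.lift U'.ι u hr) (IsLocalRing.closedPoint R) = ⟨x, hxU'⟩ := by
        apply U'.ι.isOpenEmbedding.injective
        show (IsOpenImmersion.lift U'.ι u hr ≫ U'.ι) (IsLocalRing.closedPoint R) = x
        rw [IsOpenImmersion.lift_fac, hu]
      show h' ((IsOpenImmersion.lift U'.ι u hr) (IsLocalRing.closedPoint R)) = y₀
      rw [h1, hx']
    · rw [← hres, ← Category.assoc, ← Category.assoc]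
      congr 1
      rw [← cancel_mono U'.ι]
      simp only [Category.assoc, IsOpenImmersion.lift_fac, Scheme.homOfLE_ι, hub]
  · intro htest
    have hne : An92.Rat.genPt x ≠ x := fun e => hxU (e ▸ An92.Rat.genPt_mem hU x)
    obtain ⟨W, hW, hxW, -⟩ := exists_isAffineOpen_mem_and_subset (U := (⊤ : X.Opens)) (Opens.mem_top x)
    obtain ⟨V, hV, hyV, hVW⟩ := exists_isAffineOpen_mem_and_subset (U := q ⁻¹ᵁ W) (x := y₀)
      (show q y₀ ∈ W by rw [hy₀]; exact hxW)
    let gU := IsOpenImmersion.lift U.ι (An92.Rat.genHom x) (by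
      rw [An92.Rat.range_genHom, Scheme.Opens.range_ι, Set.singleton_subset_iff]
      exact An92.Rat.genPt_mem hU x)
    have hgU : gU ≫ U.ι = An92.Rat.genHom x := IsOpenImmersion.lift_fac _ _ _
    obtain ⟨s, hs, hsgen, hsy⟩ :=
      An92.Rat.exists_stalk_hom_of_test q hh htest gU hgU hne hV hyV hW hxW hVW
    have hN : ∀ᶠ z in nhds x, ∀ hz : z ∈ U, h ⟨z, hz⟩ ∈ V := by
      have hG : Topology.IsLocallyConstructible ((U : Set X)ᶜ ∪ ((U.ι ''ᵁ (h ⁻¹ᵁ V) : X.Opens) : Set X)) :=
        Topology.IsLocallyConstructible.union (fun a => by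
          obtain ⟨O, h1, h2, h3⟩ := An92.Rat.isLocallyConstructible_of_isOpen U.2 a
          exact ⟨O, h1, h2, by rw [Set.preimage_compl]; exact h3.compl⟩)
          (An92.Rat.isLocallyConstructible_of_isOpen (U.ι ''ᵁ (h ⁻¹ᵁ V)).2)
      refine Filter.mem_of_superset (E4O.mem_nhds_of_forall_generization hG fun z hz => ?_) fun z hz hzU => ?_
      · by_cases hzU : z ∈ U
        · exact Or.inr ⟨⟨z, hzU⟩, An92.Rat.mem_of_test q htest hyV ⟨z, hzU⟩ hz (fun e => hxU (e ▸ hzU)), rfl⟩
        · exact Or.inl hzU
      · rcases hz with hz | ⟨⟨z', hz'⟩, hmem, rfl⟩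
        · exact absurd hzU hz
        · exact hmem
    obtain ⟨U', hUU', hxU', h', h1, h2, h3⟩ := An92.Rat.exists_extension_of_stalk_hom q hU h hh hxU s hs
      (fun gU' hgU' => by rw [(cancel_mono U.ι).1 (hgU'.trans hgU.symm)]; exact hsgen) hV (hsy ▸ hyV) (Or.inr hN)
    exact ⟨U', hUU', hxU', h', h1, h2, h3.trans hsy⟩

end Groth.Agent.S3848
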