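import Groth.Agent.An92.Rat.SectionGlue
import Groth.Agent.An92.Rat.SectionQF
-- Template for statement S3849 (row 3848; see the milestone table for weights).
-- Copy to Groth/Agent/S3849.lean and replace the sorry. The statement below is byte-identical to the frozen
-- statement Rat20.GrothFrozen.S3849 (Groth/Statements/S3849.lean; the theorem Rat20.section_extends_to_normal_point_iff_exists_dvr);
-- the grader kernel-checks Groth.Agent.S3849.result against that frozen type. Keep the theorem IN THIS FILE
-- (a `result` declared elsewhere and merely imported here is not credited); helpers may live anywhere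
-- under Groth/Agent/.

set_option autoImplicit false
universe u
open CategoryTheory CategoryTheory.Limits AlgebraicGeometry TopologicalSpace
namespace Rat20
end Rat20
open Rat20

namespace Groth.Agent.S3849

/-- In the case S = X (sections of q : Y → X): let X be a locally Noetherian scheme, q : Y → X
separated, locally of finite type and locally quasi-finite, U a dense open subset of X, h : U → Y a
section of q over U, and x a point of X outside U whose local ring is an integrally closed domain.
Then h extends to a section of q over an open subset containing U and x if and only if there exist a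
discrete valuation ring R, a morphism u : Spec R → X sending the closed point to x and the generic
point into U, and a morphism Spec R → Y over X agreeing with h at the generic point. -/
theorem result {X Y : Scheme.{u}} [IsLocallyNoetherian X] (q : Y ⟶ X)
    [LocallyOfFiniteType q] [IsSeparated q] [LocallyQuasiFinite q] (U : X.Opens) (hU : Dense (U : Set ↥X))
    (h : (U : Scheme.{u}) ⟶ Y) (hh : h ≫ q = U.ι) (x : ↥X) (hxU : x ∉ U) [IsDomain ↑(X.presheaf.stalk x)]
    (hx : IsIntegrallyClosed ↑(X.presheaf.stalk x)) :
    (∃ (U' : X.Opens) (hUU' : U ≤ U') (h' : (U' : Scheme.{u}) ⟶ Y),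
        x ∈ U' ∧ h' ≫ q = U'.ι ∧ X.homOfLE hUU' ≫ h' = h) ↔
      ∃ (R : Type u) (_ : CommRing R) (_ : IsDomain R) (_ : IsDiscreteValuationRing R)
        (u : Spec (CommRingCat.of R) ⟶ X) (ub : Spec (CommRingCat.of (FractionRing R)) ⟶ (U : Scheme.{u}))
        (h₁ : Spec (CommRingCat.of R) ⟶ Y),
        u (IsLocalRing.closedPoint R) = x ∧
          ub ≫ U.ι = Spec.map (CommRingCat.ofHom (algebraMap R (FractionRing R))) ≫ u ∧
          h₁ ≫ q = u ∧ Spec.map (CommRingCat.ofHom (algebraMap R (FractionRing R))) ≫ h₁ = ub ≫ h := by
  have hne : An92.Rat.genPt x ≠ x := fun e => hxU (e ▸ An92.Rat.genPt_mem hU x)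
  constructor
  · rintro ⟨U', hUU', h', hxU', hq', hres⟩
    obtain ⟨Vv, hVv, hle, hlt⟩ := E4O.exists_dvr_dominating (R := (X.presheaf.stalk x : Type u))
      (An92.Rat.stalk_not_isField hne) (FractionRing (X.presheaf.stalk x : Type u))
      (FractionRing (X.presheaf.stalk x : Type u)) ⟨∅, Subsingleton.elim _ _⟩
    let j : (X.presheaf.stalk x : Type u) →+* Vv := (algebraMap _ _).codRestrict _ hle
    have hjloc : IsLocalHom j := ⟨fun a ha => by
      by_contra hna
      exact ((Vv.valuation_eq_one_iff (j a)).1 ha).not_lt (hlt a hna)⟩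
    let e : FractionRing (X.presheaf.stalk x : Type u) →+* FractionRing Vv :=
      (FractionRing.algEquiv Vv (FractionRing (X.presheaf.stalk x : Type u))).symm.toAlgHom.toRingHom
    let u : Spec (CommRingCat.of Vv) ⟶ X := Spec.map (CommRingCat.ofHom j) ≫ X.fromSpecStalk x
    let gU := IsOpenImmersion.lift U.ι (An92.Rat.genHom x) (by
      rw [An92.Rat.range_genHom, Scheme.Opens.range_ι, Set.singleton_subset_iff]
      exact An92.Rat.genPt_mem hU x)
    have hgU : gU ≫ U.ι = An92.Rat.genHom x := IsOpenImmersion.lift_fac _ _ _
    have hu : u (IsLocalRing.closedPoint Vv) = x := An92.Rat.exists_fun_on_dvr j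
    have hub : (Spec.map (CommRingCat.ofHom e) ≫ gU) ≫ U.ι =
        Spec.map (CommRingCat.ofHom (algebraMap Vv (FractionRing Vv))) ≫ u := by
      rw [Category.assoc, hgU]
      show Spec.map _ ≫ Spec.map _ ≫ X.fromSpecStalk x = Spec.map _ ≫ Spec.map _ ≫ X.fromSpecStalk x
      rw [← Spec.map_comp_assoc, ← Spec.map_comp_assoc]
      congr 2
      ext a
      exact (FractionRing.algEquiv Vv (FractionRing (X.presheaf.stalk x : Type u))).symm.commutes (j a)
    have hr : Set.range u ⊆ Set.range U'.ι := by
      rw [Scheme.Opens.range_ι]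
      exact An92.Rat.range_subset_of_closedPoint_mem u U' (by rw [hu]; exact hxU')
    refine ⟨Vv, inferInstance, inferInstance, hVv, u, Spec.map (CommRingCat.ofHom e) ≫ gU,
      IsOpenImmersion.lift U'.ι u hr ≫ h', hu, hub, ?_, ?_⟩
    · rw [Category.assoc, hq', IsOpenImmersion.lift_fac]
    · rw [← hres, ← Category.assoc, ← Category.assoc]
      congr 1
      rw [← cancel_mono U'.ι]
      simp only [Category.assoc, IsOpenImmersion.lift_fac, Scheme.homOfLE_ι]
      rw [← Category.assoc] at hub
      simpa only [Category.assoc] using hub.symm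
  · rintro ⟨R, _, _, _, u, ub, h₁, hu, hub, hh₁, hgen⟩
    subst hu
    obtain ⟨V, hV, s, hs, hsV, hsgen⟩ := An92.Rat.exists_stalk_hom_of_dvr q hU h hh u ub hub h₁ hh₁ hgen
    obtain ⟨U', hUU', hxU', h', h1, h2, -⟩ :=
      An92.Rat.exists_extension_of_stalk_hom q hU h hh hxU s hs hsgen hV hsV (Or.inl inferInstance)
    exact ⟨U', hUU', h', hxU', h1, h2⟩

end Groth.Agent.S3849
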