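import Groth.Statements.S3851
import Groth.Agent.BC14.Main

set_option autoImplicit false
universe u
open scoped TensorProduct
open EGA418

namespace Groth.Agent.S3851

variable {k A : Type u} [Field k] [CommRing A] [IsLocalRing A] [IsNoetherianRing A] [Algebra k A]

theorem comap_eq {k' : Type u} [Field k'] [Algebra k k'] (p : Ideal A) (q : Ideal (BC14.Cpl k A k')) :
    (q.comap (algebraMap (A ⊗[k] k') (BC14.Cpl k A k'))).comap
        (Algebra.TensorProduct.includeLeft : A →ₐ[k] A ⊗[k] k').toRingHom = p ↔
      q.comap (algebraMap A (BC14.Cpl k A k')) = p := by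
  rw [Ideal.comap_comap]
  rfl

variable [IsAdicComplete (IsLocalRing.maximalIdeal A) A] [Module.Finite k (IsLocalRing.ResidueField A)]

theorem two_three (p : Ideal A) [p.IsPrime] (n : ℕ) (hn₁ : ∀ q ∈ minimalPrimes A, q ≤ p → ringKrullDim (A ⧸ q) ≤ n)
    (hn₂ : ∃ q ∈ minimalPrimes A, q ≤ p ∧ ringKrullDim (A ⧸ q) = n) {k' : Type u} [Field k'] [Algebra k k']
    [PerfectField k'] (q : Ideal (BC14.Cpl k A k')) [q.IsPrime]
    (hc : (q.comap (algebraMap (A ⊗[k] k') (BC14.Cpl k A k'))).comap
        (Algebra.TensorProduct.includeLeft : A →ₐ[k] A ⊗[k] k').toRingHom = p)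
    (hreg : IsRegularLocalRing (Localization.AtPrime q)) :
    Module.Free (Localization.AtPrime p)
          (LocalizedModule p.primeCompl (AdicCompletion (IsLocalRing.maximalIdeal A) (KaehlerDifferential k A))) ∧
        Module.finrank (Localization.AtPrime p)
          (LocalizedModule p.primeCompl (AdicCompletion (IsLocalRing.maximalIdeal A) (KaehlerDifferential k A))) = n :=
  BC14.descend k A k' p n hn₁ hn₂ q ((comap_eq p q).1 hc)

theorem three_one (p : Ideal A) [p.IsPrime] (hp : p ≠ IsLocalRing.maximalIdeal A) (n : ℕ)
    (hn₁ : ∀ q ∈ minimalPrimes A, q ≤ p → ringKrullDim (A ⧸ q) ≤ n)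
    (hn₂ : ∃ q ∈ minimalPrimes A, q ≤ p ∧ ringKrullDim (A ⧸ q) = n)
    (hfree : Module.Free (Localization.AtPrime p)
          (LocalizedModule p.primeCompl (AdicCompletion (IsLocalRing.maximalIdeal A) (KaehlerDifferential k A))) ∧
        Module.finrank (Localization.AtPrime p)
          (LocalizedModule p.primeCompl (AdicCompletion (IsLocalRing.maximalIdeal A) (KaehlerDifferential k A))) = n)
    {k' : Type u} [Field k'] [Algebra k k'] (q : Ideal (BC14.Cpl k A k')) [q.IsPrime]
    (hc : (q.comap (algebraMap (A ⊗[k] k') (BC14.Cpl k A k'))).comap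
        (Algebra.TensorProduct.includeLeft : A →ₐ[k] A ⊗[k] k').toRingHom = p) :
    IsRegularLocalRing (Localization.AtPrime q) := by
  obtain ⟨J, hJp, hJ, _, _, _, _, hl, hf, het⟩ := BC14.exists_etale k A p hp n hn₁ hn₂ hfree
  exact BC14.regular_of_etale_quotient k A k' p J hJp hJ n q ((comap_eq p q).1 hc)

/-- a) iff a') iff b), and b) implies d): let k be a field, A a complete Noetherian local k-algebra
whose residue field is finite over k, p a non-maximal prime of A, n the largest dimension of an
irreducible component of Spec A containing p, and Ω̂ the completion of the module of differentials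
of A over k for the topology of the maximal ideal. For a field extension k' of k write A' = A ⊗̂_k
k' (the completion of A ⊗_k k' for the extension of the maximal ideal). The following are
equivalent: (a) for every extension k' and every prime p' of A' over p, A'_{p'} is regular; (a') for
some perfect extension k' and some prime p' of A' over p, A'_{p'} is regular; (b) Ω̂_p is a free
A_p-module of rank n. Moreover (b) implies (d): A_p is geometrically regular over k. (The converse
of the last implication, valid when [k : k^p] is finite, is not stated.) -/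
theorem result (k A : Type u) [Field k] [CommRing A]
    [IsLocalRing A] [IsNoetherianRing A] [Algebra k A] [IsAdicComplete (IsLocalRing.maximalIdeal A) A]
    [Module.Finite k (IsLocalRing.ResidueField A)] (p : Ideal A) [p.IsPrime] (hp : p ≠ IsLocalRing.maximalIdeal A)
    (n : ℕ) (hn₁ : ∀ q ∈ minimalPrimes A, q ≤ p → ringKrullDim (A ⧸ q) ≤ n)
    (hn₂ : ∃ q ∈ minimalPrimes A, q ≤ p ∧ ringKrullDim (A ⧸ q) = n) :
    List.TFAE [
      ∀ (k' : Type u) [Field k'] [Algebra k k']
        (p' : Ideal (AdicCompletion ((IsLocalRing.maximalIdeal A).map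
          (Algebra.TensorProduct.includeLeft : A →ₐ[k] A ⊗[k] k')) (A ⊗[k] k'))) [p'.IsPrime],
        (p'.comap (algebraMap (A ⊗[k] k') _)).comap
            (Algebra.TensorProduct.includeLeft : A →ₐ[k] A ⊗[k] k').toRingHom = p →
          IsRegularLocalRing (Localization.AtPrime p'),
      ∃ (k' : Type u) (_ : Field k') (_ : Algebra k k') (_ : PerfectField k')
        (p' : Ideal (AdicCompletion ((IsLocalRing.maximalIdeal A).map
          (Algebra.TensorProduct.includeLeft : A →ₐ[k] A ⊗[k] k')) (A ⊗[k] k'))) (_ : p'.IsPrime),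
        (p'.comap (algebraMap (A ⊗[k] k') _)).comap
            (Algebra.TensorProduct.includeLeft : A →ₐ[k] A ⊗[k] k').toRingHom = p ∧
          IsRegularLocalRing (Localization.AtPrime p'),
      Module.Free (Localization.AtPrime p)
          (LocalizedModule p.primeCompl (AdicCompletion (IsLocalRing.maximalIdeal A) (KaehlerDifferential k A))) ∧
        Module.finrank (Localization.AtPrime p)
          (LocalizedModule p.primeCompl (AdicCompletion (IsLocalRing.maximalIdeal A) (KaehlerDifferential k A))) = n] ∧
    ((Module.Free (Localization.AtPrime p)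
          (LocalizedModule p.primeCompl (AdicCompletion (IsLocalRing.maximalIdeal A) (KaehlerDifferential k A))) ∧
        Module.finrank (Localization.AtPrime p)
          (LocalizedModule p.primeCompl (AdicCompletion (IsLocalRing.maximalIdeal A) (KaehlerDifferential k A))) = n) →
      CAlg.IsGeometricallyRegular k (Localization.AtPrime p)) := by
  refine ⟨?_, BC14.main k A p hp n hn₁ hn₂⟩
  tfae_have 1 → 2 := by
    intro h
    obtain ⟨q, hq, hc⟩ := BC14.exists_prime_over k A (AlgebraicClosure k) p
    exact ⟨AlgebraicClosure k, inferInstance, inferInstance, inferInstance, q, hq, (comap_eq p q).2 hc,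
      @h _ _ _ q hq ((comap_eq p q).2 hc)⟩
  tfae_have 2 → 3 := fun ⟨k', _, _, _, p', hp', hc, hreg⟩ => @two_three k A _ _ _ _ _ _ _ p _ n hn₁ hn₂ k' _ _ _ p' hp' hc hreg
  tfae_have 3 → 1 := fun hfree k' _ _ p' hp' hc => @three_one k A _ _ _ _ _ _ _ p _ hp n hn₁ hn₂ hfree k' _ _ p' hp' hc
  tfae_finish

end Groth.Agent.S3851
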