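import Groth.Agent.An92.FSch.Spf
-- Template for statement S3853 (row 3852; see the milestone table for weights).
-- Copy to Groth/Agent/S3853.lean and replace the sorry. The statement below is byte-identical to the frozen
-- statement FCompl.GrothFrozen.S3853 (Groth/Statements/S3853.lean; the theorem FCompl.isLocallyNoetherian_of_adic_thickenings);
-- the grader kernel-checks Groth.Agent.S3853.result against that frozen type. Keep the theorem IN THIS FILE
-- (a `result` declared elsewhere and merely imported here is not credited); helpers may live anywhere
-- under Groth/Agent/.

set_option autoImplicit false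
universe u
namespace FCompl
end FCompl
open FCompl

namespace Groth.Agent.S3853

open AlgebraicGeometry in
/-- Levelwise part (formal schemes presented as systems of thickenings X_0 -> X_1 -> ...; the assertion
about the limit ring is in the affine recognition row). Let (X_n) be a system of schemes in which
every transition map is a surjective closed immersion and the kernel ideal of X_n -> X_(n+1) is the
(n+1)-st power of the kernel ideal of X_0 -> X_(n+1). If X_0 is locally Noetherian and the kernel
ideal of X_0 -> X_1 is of finite type, then every X_n is locally Noetherian. -/
theorem result
    (𝔛 : FSch.Sys.{u}) (hF : 𝔛.IsFormal) (hA : 𝔛.IsAdic) [IsLocallyNoetherian (𝔛.X 0)]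
    (hft : FSch.IdealFT (𝔛.ι 0).ker) (n : ℕ) : IsLocallyNoetherian (𝔛.X n) := by
  exact An92.FSch.isLocallyNoetherian_level hF hA (fun x => by
    obtain ⟨U, hxU, -⟩ := MP99.exists_affine_le x (W := ⊤) trivial
    exact ⟨U, hxU, fun V _ => hft V⟩) n

end Groth.Agent.S3853
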