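import Groth.Agent.An92.FSch.Spf
-- Template for statement S3855 (row 3854; see the milestone table for weights).
-- Copy to Groth/Agent/S3855.lean and replace the sorry. The statement below is byte-identical to the frozen
-- statement FCompl.GrothFrozen.S3855 (Groth/Statements/S3855.lean; the theorem FCompl.isLocNoethFormal_spf);
-- the grader kernel-checks Groth.Agent.S3855.result against that frozen type. Keep the theorem IN THIS FILE
-- (a `result` declared elsewhere and merely imported here is not credited); helpers may live anywhere
-- under Groth/Agent/.

set_option autoImplicit false
universe u
namespace FCompl
end FCompl
open FCompl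

namespace Groth.Agent.S3855

open AlgebraicGeometry in
/-- Sufficiency (the formal spectrum presented as the system Spec(A/J) -> Spec(A/J^2) -> ...). For a
Noetherian ring A and an ideal J this system is a locally Noetherian adic formal system: the
transition maps are surjective closed immersions, the kernel ideal of Spec(A/J^(n+1)) ->
Spec(A/J^(n+2)) is the (n+1)-st power of that of Spec(A/J) -> Spec(A/J^(n+2)), and every level is
locally Noetherian. -/
theorem result (A : Type u) [CommRing A] [IsNoetherianRing A] (J : Ideal A) :
    (FSch.spf A J).IsLocNoethFormal := by
  exact An92.FSch.isLocNoethFormal_spf J

end Groth.Agent.S3855
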