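import Groth.Agent.An92.FSch.Spf
-- Template for statement S3858 (row 3857; see the milestone table for weights).
-- Copy to Groth/Agent/S3858.lean and replace the sorry. The statement below is byte-identical to the frozen
-- statement FCompl.GrothFrozen.S3858 (Groth/Statements/S3858.lean; the theorem FCompl.isLocNoethFormal_pullbackSys);
-- the grader kernel-checks Groth.Agent.S3858.result against that frozen type. Keep the theorem IN THIS FILE
-- (a `result` declared elsewhere and merely imported here is not credited); helpers may live anywhere
-- under Groth/Agent/.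

set_option autoImplicit false
universe u
namespace FCompl
end FCompl
open FCompl

open CategoryTheory

namespace Groth.Agent.S3858

open AlgebraicGeometry in
/-- Formal schemes are presented as systems of thickenings (X_n)_n and fibre products of systems are
taken levelwise. Let X → S be an adic morphism of systems (every square X_n → X_(n+1), S_n → S_(n+1)
is cartesian) whose level-0 morphism X_0 → S_0 is locally of finite type, and S' → S a morphism from
a locally Noetherian adic formal system S'. Then the levelwise fibre product (X_n ×_(S_n) S'_n)_n is
a locally Noetherian adic formal system, its projection to S' is adic, and the level-0 projection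
X_0 ×_(S_0) S'_0 → S'_0 is locally of finite type. The published statement concerns the fibre
product of formal schemes, which the levelwise fibre product presents because X is adic over S, and
also assumes X and S locally Noetherian, which is not assumed here. -/
theorem result {𝔛 𝔖 𝔖' : FSch.Sys.{u}} (f : 𝔛 ⟶ 𝔖) (g : 𝔖' ⟶ 𝔖)
    (h𝔖' : 𝔖'.IsLocNoethFormal) (hf : FSch.IsAdicHom f) [LocallyOfFiniteType ((f : FSch.Hom 𝔛 𝔖).app 0)] :
    (FSch.pullbackSys f g).IsLocNoethFormal ∧ FSch.IsAdicHom (FSch.pullbackSnd f g) ∧
      LocallyOfFiniteType ((FSch.pullbackSnd f g : FSch.Hom _ _).app 0) := by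
  have hadic : FSch.IsAdicHom (FSch.pullbackSnd f g) := fun n => by
    have h2 : CategoryTheory.IsPullback ((FSch.pullbackSys f g).ι n ≫ Limits.pullback.fst _ _)
        (Limits.pullback.snd ((f : FSch.Hom _ _).app n) ((g : FSch.Hom _ _).app n))
        ((f : FSch.Hom _ _).app (n + 1)) (𝔖'.ι n ≫ (g : FSch.Hom _ _).app (n + 1)) := by
      rw [← (g : FSch.Hom _ _).comm n]
      have := (CategoryTheory.IsPullback.of_hasPullback ((f : FSch.Hom _ _).app n)
        ((g : FSch.Hom _ _).app n)).flip.paste_vert (hf n).flip
      dsimp only [FSch.pullbackSys]
      rw [Limits.pullback.lift_fst]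
      exact this.flip
    exact CategoryTheory.IsPullback.of_right h2 (Limits.pullback.lift_snd _ _ _)
      (CategoryTheory.IsPullback.of_hasPullback _ _)
  have h0 : LocallyOfFiniteType ((FSch.pullbackSnd f g : FSch.Hom _ _).app 0) :=
    inferInstanceAs (LocallyOfFiniteType (Limits.pullback.snd _ _))
  have : IsLocallyNoetherian (𝔖'.X 0) := h𝔖'.2.2 0
  have := LocallyOfFiniteType.isLocallyNoetherian ((FSch.pullbackSnd f g : FSch.Hom _ _).app 0)
  exact ⟨An92.FSch.isLocNoethFormal_of_isAdicHom h𝔖' hadic, hadic, h0⟩

end Groth.Agent.S3858
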