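import Groth.Agent.An92.FSch.Spf
-- Template for statement S3859 (row 3858; see the milestone table for weights).
-- Copy to Groth/Agent/S3859.lean and replace the sorry. The statement below is byte-identical to the frozen
-- statement FCompl.GrothFrozen.S3859 (Groth/Statements/S3859.lean; the theorem FCompl.isPullback_pullbackSys);
-- the grader kernel-checks Groth.Agent.S3859.result against that frozen type. Keep the theorem IN THIS FILE
-- (a `result` declared elsewhere and merely imported here is not credited); helpers may live anywhere
-- under Groth/Agent/.

set_option autoImplicit false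
universe u
namespace FCompl
end FCompl
open FCompl

namespace Groth.Agent.S3859

open AlgebraicGeometry in
open CategoryTheory in
/-- In the presentation by systems of thickenings: For morphisms of systems X -> S and Y -> S, the
levelwise fibre product with its two projections is a fibre product in the category of systems; it
presents the fibre product of formal schemes when one factor is adic over the base, and otherwise
only up to cofinality of the levels. -/
theorem result {𝔛 𝔜 𝔖 : FSch.Sys.{u}} (f : 𝔛 ⟶ 𝔖) (g : 𝔜 ⟶ 𝔖) :
    IsPullback (FSch.pullbackFst f g) (FSch.pullbackSnd f g) f g := by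
  refine IsPullback.of_isLimit (Limits.PullbackCone.IsLimit.mk (fst := FSch.pullbackFst f g)
    (snd := FSch.pullbackSnd f g) (FSch.Hom.ext (funext fun n => Limits.pullback.condition))
    (fun s => ⟨fun n => Limits.pullback.lift ((s.fst : FSch.Hom _ _).app n)
        ((s.snd : FSch.Hom _ _).app n) (congrArg (fun h : FSch.Hom _ _ => h.app n) s.condition),
      fun n => ?_⟩) ?_ ?_ ?_)
  · apply Limits.pullback.hom_ext
    · dsimp only [FSch.pullbackSys]
      rw [Category.assoc, Category.assoc, Limits.pullback.lift_fst, Limits.pullback.lift_fst,
        ← Category.assoc, Limits.pullback.lift_fst]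
      exact (s.fst : FSch.Hom _ _).comm n
    · dsimp only [FSch.pullbackSys]
      rw [Category.assoc, Category.assoc, Limits.pullback.lift_snd, Limits.pullback.lift_snd,
        ← Category.assoc, Limits.pullback.lift_snd]
      exact (s.snd : FSch.Hom _ _).comm n
  · exact fun s => FSch.Hom.ext (funext fun n => Limits.pullback.lift_fst _ _ _)
  · exact fun s => FSch.Hom.ext (funext fun n => Limits.pullback.lift_snd _ _ _)
  · intro s m h₁ h₂
    refine FSch.Hom.ext (funext fun n => Limits.pullback.hom_ext ?_ ?_)
    · exact (congrArg (fun h : FSch.Hom _ _ => h.app n) h₁).trans (Limits.pullback.lift_fst _ _ _).symm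
    · exact (congrArg (fun h : FSch.Hom _ _ => h.app n) h₂).trans (Limits.pullback.lift_snd _ _ _).symm

end Groth.Agent.S3859
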