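import Groth.Agent.An92.FSch.Spf
import Mathlib.RingTheory.AdicCompletion.RingHom
-- Template for statement S3860 (row 3859; see the milestone table for weights).
-- Copy to Groth/Agent/S3860.lean and replace the sorry. The statement below is byte-identical to the frozen
-- statement FCompl.GrothFrozen.S3860 (Groth/Statements/S3860.lean; the theorem FCompl.spfMap_bijective);
-- the grader kernel-checks Groth.Agent.S3860.result against that frozen type. Keep the theorem IN THIS FILE
-- (a `result` declared elsewhere and merely imported here is not credited); helpers may live anywhere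
-- under Groth/Agent/.

set_option autoImplicit false
universe u
namespace FCompl
end FCompl
open FCompl

namespace Groth.Agent.S3860

open AlgebraicGeometry in
/-- (Affine adic case; the formal spectra presented as the systems Spec(A/I^(n+1)) and Spec(B/K^(n+1)).)
Let I be an ideal of a ring A which is complete and separated for the I-adic topology, and K an
ideal of a ring B. Then φ ↦ (Spec of the induced maps B/K^(n+1) -> A/I^(n+1)) is a bijection from
the ring homomorphisms φ : B -> A with φ(K) ⊆ I onto the morphisms of systems from Spf(A) to Spf(B),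
i.e. the compatible families of morphisms Spec(A/I^(n+1)) -> Spec(B/K^(n+1)). -/
theorem result (A B : Type u) [CommRing A] [CommRing B] (I : Ideal A) (K : Ideal B)
    [IsAdicComplete I A] :
    Function.Bijective (fun φ : {φ : B →+* A // K ≤ I.comap φ} ↦ FSch.spfMap I K φ.1 φ.2) := by
  constructor
  · rintro ⟨φ, hφ⟩ ⟨φ', hφ'⟩ heq
    refine Subtype.ext (RingHom.ext fun b => ?_)
    apply IsHausdorff.StrictMono.funext' I (a := fun n => n + 1)
      (fun m n hmn => Nat.add_lt_add_right hmn 1) (f := fun _ : Unit => φ b) (g := fun _ => φ' b) ?_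
      |> fun hfun => congrFun hfun ()
    intro n _
    have h1 := congrArg (fun F : FSch.Hom (FSch.spf A I) (FSch.spf B K) => F.app n) heq
    have h2 := AlgebraicGeometry.Spec.map_injective h1
    exact congrArg (fun g => g.hom (Ideal.Quotient.mk (K ^ (n + 1)) b)) h2
  · intro F
    let ψ : ∀ n, (B ⧸ K ^ (n + 1)) →+* (A ⧸ I ^ (n + 1)) := fun n =>
      (Spec.preimage ((F : FSch.Hom _ _).app n) :
        CommRingCat.of (B ⧸ K ^ (n + 1)) ⟶ CommRingCat.of (A ⧸ I ^ (n + 1))).hom
    have hψ : ∀ n, Spec.map (CommRingCat.ofHom (ψ n)) = (F : FSch.Hom _ _).app n := fun n =>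
      Spec.map_preimage _
    have hc : ∀ n, (Ideal.Quotient.factor
        (Ideal.pow_le_pow_right (Nat.le_succ (n + 1)) : I ^ (n + 1 + 1) ≤ I ^ (n + 1))).comp
          (ψ (n + 1)) = (ψ n).comp (Ideal.Quotient.factor
        (Ideal.pow_le_pow_right (Nat.le_succ (n + 1)) : K ^ (n + 1 + 1) ≤ K ^ (n + 1))) := fun n => by
      have h1 := (F : FSch.Hom _ _).comm n
      rw [← hψ n, ← hψ (n + 1)] at h1
      have h2 : Spec.map (CommRingCat.ofHom ((ψ n).comp (Ideal.Quotient.factor
          (Ideal.pow_le_pow_right (Nat.le_succ (n + 1)) : K ^ (n + 1 + 1) ≤ K ^ (n + 1))))) =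
          Spec.map (CommRingCat.ofHom ((Ideal.Quotient.factor
          (Ideal.pow_le_pow_right (Nat.le_succ (n + 1)) : I ^ (n + 1 + 1) ≤ I ^ (n + 1))).comp
          (ψ (n + 1)))) := by
        rw [CommRingCat.ofHom_comp, CommRingCat.ofHom_comp, Spec.map_comp, Spec.map_comp]
        exact h1
      exact (congrArg CommRingCat.Hom.hom (Spec.map_injective h2)).symm
    have ha : StrictMono (fun n : ℕ => n + 1) := fun m n hmn => Nat.add_lt_add_right hmn 1
    let fn : ∀ n, B →+* A ⧸ I ^ (n + 1) := fun n => (ψ n).comp (Ideal.Quotient.mk _)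
    have hf : ∀ {m}, (Ideal.Quotient.factorPow I (ha.monotone (Nat.le_succ m))).comp (fn (m + 1)) =
        fn m := fun {m} => by
      change ((Ideal.Quotient.factor (Ideal.pow_le_pow_right (Nat.le_succ (m + 1)) : I ^ (m + 1 + 1) ≤ I ^ (m + 1))).comp (ψ (m + 1))).comp (Ideal.Quotient.mk _) = _
      rw [hc m]
      exact RingHom.ext fun b => rfl
    let φ := IsAdicComplete.StrictMono.liftRingHom I ha fn hf
    have hφ : ∀ n b, Ideal.Quotient.mk (I ^ (n + 1)) (φ b) = fn n b := fun n b =>
      IsAdicComplete.StrictMono.mk_liftRingHom I ha fn hf b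
    have hK : K ≤ I.comap φ := fun b hb => by
      have h1 := hφ 0 b
      have h2 : (Ideal.Quotient.mk (K ^ (0 + 1)) b) = 0 :=
        Ideal.Quotient.eq_zero_iff_mem.2 (by simpa using hb)
      rw [show fn 0 b = ψ 0 (Ideal.Quotient.mk (K ^ (0 + 1)) b) from rfl, h2, map_zero,
        Ideal.Quotient.eq_zero_iff_mem] at h1
      simpa using h1
    refine ⟨⟨φ, hK⟩, FSch.Hom.ext (funext fun n => ?_)⟩
    refine Eq.trans ?_ (hψ n)
    rw [FSch.spfMap_app]
    congr 2
    exact Ideal.Quotient.ringHom_ext (RingHom.ext fun b => hφ n b)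

end Groth.Agent.S3860
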