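import Groth.Agent.An92.FSch.Spf
-- Template for statement S3861 (row 3860; see the milestone table for weights).
-- Copy to Groth/Agent/S3861.lean and replace the sorry. The statement below is byte-identical to the frozen
-- statement FCompl.GrothFrozen.S3861 (Groth/Statements/S3861.lean; the theorem FCompl.comap_mul);
-- the grader kernel-checks Groth.Agent.S3861.result against that frozen type. Keep the theorem IN THIS FILE
-- (a `result` declared elsewhere and merely imported here is not credited); helpers may live anywhere
-- under Groth/Agent/.

set_option autoImplicit false
universe u
namespace FCompl
end FCompl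
open FCompl

namespace Groth.Agent.S3861

open AlgebraicGeometry in
/-- For a morphism of schemes f : X -> Y and quasi-coherent ideal sheaves K₁, K₂ on Y, the inverse image
ideal sheaf of K₁K₂ is the product of the inverse image ideal sheaves of K₁ and K₂. -/
theorem result {X Y : Scheme.{u}} (f : X ⟶ Y) (K₁ K₂ : Y.IdealSheafData) :
    (K₁ * K₂).comap f = K₁.comap f * K₂.comap f := by
  exact MP99.comap_mul K₁ K₂ f

end Groth.Agent.S3861
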