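import Groth.Agent.An92.FSch.Spf
-- Template for statement S3862 (row 3861; see the milestone table for weights).
-- Copy to Groth/Agent/S3862.lean and replace the sorry. The statement below is byte-identical to the frozen
-- statement FCompl.GrothFrozen.S3862 (Groth/Statements/S3862.lean; the theorem FCompl.isPullback_completionMap_comap);
-- the grader kernel-checks Groth.Agent.S3862.result against that frozen type. Keep the theorem IN THIS FILE
-- (a `result` declared elsewhere and merely imported here is not credited); helpers may live anywhere
-- under Groth/Agent/.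

set_option autoImplicit false
universe u
namespace FCompl
end FCompl
open FCompl

namespace Groth.Agent.S3862

open AlgebraicGeometry in
open CategoryTheory in
/-- Completions are presented by the closed subschemes cut out by the powers of an ideal sheaf 𝓚 on Y
and by the powers of its inverse image ideal on X. For a morphism of schemes f : X → Y, the
completion X̂ of X along the inverse image ideal is X ×_Y Ŷ: at every level n the square formed by
the inclusion X'_n → X, the completed morphism X'_n → Y'_n, f and the inclusion Y'_n → Y is
cartesian, and the completed morphism X̂ → Ŷ is adic (each square X'_n → X'_(n+1), Y'_n → Y'_(n+1)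
is cartesian). The compatibility of f with the powers of the two ideals (the inverse image of
𝓚^(n+1) is contained in the (n+1)-st power of the inverse image ideal of 𝓚), needed to define the
completed morphism, holds for inverse image ideals and is carried as the hypothesis h. -/
theorem result {X Y : Scheme.{u}} (f : X ⟶ Y) (𝓚 : Y.IdealSheafData)
    (h : FSch.PowCompat f (𝓚.comap f) 𝓚) :
    (∀ n : ℕ, IsPullback (FSch.completionToX X (𝓚.comap f) n)
        ((FSch.completionMap f (𝓚.comap f) 𝓚 h : FSch.Hom _ _).app n) f (FSch.completionToX Y 𝓚 n)) ∧
      FSch.IsAdicHom (FSch.completionMap f (𝓚.comap f) 𝓚 h) := by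
  have key : ∀ n : ℕ, IsPullback (FSch.completionToX X (𝓚.comap f) n)
      ((FSch.completionMap f (𝓚.comap f) 𝓚 h : FSch.Hom _ _).app n) f
      (FSch.completionToX Y 𝓚 n) := fun n => by
    refine isPullback_of_isClosedImmersion ((𝓚.comap f) ^ (n + 1)).subschemeι
      (𝓚 ^ (n + 1)).subschemeι
      (Scheme.IdealSheafData.subschemeMap ((𝓚.comap f) ^ (n + 1)) (𝓚 ^ (n + 1)) f
        (Scheme.IdealSheafData.le_map_iff_comap_le.mpr (h n))) f
      (Scheme.IdealSheafData.subschemeMap_subschemeι _ _ _ _).symm ?_
    rw [Scheme.IdealSheafData.ker_subschemeι, Scheme.IdealSheafData.ker_subschemeι,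
      An92.FSch.comap_pow]
  refine ⟨key, fun n => IsPullback.of_right ?_
    ((FSch.completionMap f (𝓚.comap f) 𝓚 h : FSch.Hom _ _).comm n).symm (key (n + 1))⟩
  have h1 : (FSch.completionAlong X (𝓚.comap f)).ι n ≫ FSch.completionToX X (𝓚.comap f) (n + 1) =
      FSch.completionToX X (𝓚.comap f) n := Scheme.IdealSheafData.inclusion_subschemeι _
  have h2 : (FSch.completionAlong Y 𝓚).ι n ≫ FSch.completionToX Y 𝓚 (n + 1) =
      FSch.completionToX Y 𝓚 n := Scheme.IdealSheafData.inclusion_subschemeι _
  rw [h1, h2]
  exact key n

end Groth.Agent.S3862
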