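import Groth.Statements.S3863
import Groth.Agent.FCompl13.AffCompl

set_option autoImplicit false
universe u
open FCompl

namespace Groth.Agent.S3863

open AlgebraicGeometry in
open CategoryTheory in
/-- The formal spectrum of A is presented as the system of closed subschemes of Spec A cut out by the
powers of J, and for an A-module M the system of modules M^Δ is the family of pullbacks of the sheaf
M̃ associated to M to these subschemes, with its canonical transition isomorphisms. Let A be a
Noetherian ring, complete and separated for the J-adic topology, and M, N finite A-modules. Then u ↦
u^Δ is a bijection from Hom_A(M, N) onto the set of morphisms of systems of modules M^Δ → N^Δ. -/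
theorem result (A : Type u) [CommRing A] [IsNoetherianRing A]
    (J : Ideal A) [IsAdicComplete J A] (M N : ModuleCat.{u} A) [Module.Finite A M] [Module.Finite A N] :
    Function.Bijective (fun u : M ⟶ N ↦
      FSch.complModMap (FSch.idealSpec A J) ((tilde.functor (CommRingCat.of A)).map u)) := by
  have : IsAdicComplete J N := AdicC27.isAdicComplete_of_finite N
  have h := FCompl13.schSysMap_bijective (R := CommRingCat.of A) (FSch.completionToX_comm _ (FSch.idealSpec A J))
    (FCompl13.levKer_idealSpec J) M N
  have e : (fun u : M ⟶ N => FSch.complModMap (FSch.idealSpec A J) ((tilde.functor (CommRingCat.of A)).map u)) =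
      fun u : M ⟶ N => FCompl13.schSysMap (FSch.completionAlong (Spec (CommRingCat.of A)) (FSch.idealSpec A J))
        (FSch.completionToX _ (FSch.idealSpec A J)) (FSch.completionToX_comm _ (FSch.idealSpec A J))
        ((tilde.functor (CommRingCat.of A)).map u) :=
    funext fun u => (FCompl13.schSys_completion (Spec (CommRingCat.of A)) (FSch.idealSpec A J) _).symm
  rw [e]
  exact h


end Groth.Agent.S3863
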