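import Groth.Agent.An92.FSch.Spf
import Mathlib.AlgebraicGeometry.Morphisms.Finite
import Mathlib.AlgebraicGeometry.Morphisms.Immersion
import Mathlib.AlgebraicGeometry.Morphisms.FiniteType
-- Template for statement S3865 (row 3864; see the milestone table for weights).
-- Copy to Groth/Agent/S3865.lean and replace the sorry. The statement below is byte-identical to the frozen
-- statement FCompl.GrothFrozen.S3865 (Groth/Statements/S3865.lean; the theorem FCompl.isLocNoethFormal_subSys);
-- the grader kernel-checks Groth.Agent.S3865.result against that frozen type. Keep the theorem IN THIS FILE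
-- (a `result` declared elsewhere and merely imported here is not credited); helpers may live anywhere
-- under Groth/Agent/.

set_option autoImplicit false
universe u
namespace FCompl
end FCompl
open FCompl

namespace Groth.Agent.S3865

open AlgebraicGeometry in
/-- A formal scheme is presented as a system of thickenings (X_n)_n, and a coherent ideal of it as a
family of ideal sheaves A_n on the levels X_n, each A_n equal to the inverse image ideal of A_(n+1)
under X_n → X_(n+1). Let (X_n) be a locally Noetherian adic formal system and (A_n) such a family.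
Then the closed subschemes Y_n cut out by the A_n, with the induced transition maps, form a locally
Noetherian adic formal system, and its inclusion into (X_n) is adic: every square Y_n → Y_(n+1), X_n
→ X_(n+1) is cartesian. -/
theorem result (𝔛 : FSch.Sys.{u}) (h𝔛 : 𝔛.IsLocNoethFormal)
    (𝒜 : ∀ n, (𝔛.X n).IdealSheafData) (h : ∀ n, (𝒜 (n + 1)).comap (𝔛.ι n) = 𝒜 n) :
    (FSch.subSys 𝔛 𝒜 (fun n ↦ (h n).le)).IsLocNoethFormal ∧
      FSch.IsAdicHom (FSch.subSysι 𝔛 𝒜 (fun n ↦ (h n).le)) := by
  have hf : FSch.IsAdicHom (FSch.subSysι 𝔛 𝒜 (fun n ↦ (h n).le)) := fun n => by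
    refine (isPullback_of_isClosedImmersion (𝒜 n).subschemeι (𝒜 (n + 1)).subschemeι
      (Scheme.IdealSheafData.subschemeMap (𝒜 n) (𝒜 (n + 1)) (𝔛.ι n)
        (Scheme.IdealSheafData.le_map_iff_comap_le.mpr (h n).le)) (𝔛.ι n)
      (Scheme.IdealSheafData.subschemeMap_subschemeι _ _ _ _).symm ?_).flip
    rw [Scheme.IdealSheafData.ker_subschemeι, Scheme.IdealSheafData.ker_subschemeι]
    exact h n
  have : IsLocallyNoetherian (𝔛.X 0) := h𝔛.2.2 0
  have : IsClosedImmersion (𝒜 0).subschemeι := inferInstance
  have : LocallyOfFiniteType (𝒜 0).subschemeι := inferInstance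
  have hN : IsLocallyNoetherian (𝒜 0).subscheme :=
    LocallyOfFiniteType.isLocallyNoetherian (𝒜 0).subschemeι
  have : IsLocallyNoetherian ((FSch.subSys 𝔛 𝒜 (fun n ↦ (h n).le)).X 0) := hN
  exact ⟨An92.FSch.isLocNoethFormal_of_isAdicHom h𝔛 hf, hf⟩

end Groth.Agent.S3865
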