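import Groth.Agent.An92.FSch.Spf
import Mathlib.RingTheory.AdicCompletion.Topology
import Mathlib.RingTheory.Nakayama
-- Template for statement S3867 (row 3866; see the milestone table for weights).
-- Copy to Groth/Agent/S3867.lean and replace the sorry. The statement below is byte-identical to the frozen
-- statement FCompl.GrothFrozen.S3867 (Groth/Statements/S3867.lean; the theorem FCompl.isAdicHom_spfMap_iff);
-- the grader kernel-checks Groth.Agent.S3867.result against that frozen type. Keep the theorem IN THIS FILE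
-- (a `result` declared elsewhere and merely imported here is not credited); helpers may live anywhere
-- under Groth/Agent/.

set_option autoImplicit false
universe u
namespace FCompl
end FCompl
open FCompl

namespace Groth.Agent.S3867

open AlgebraicGeometry in
/-- Formal spectra are presented as the systems Spec(A/I^(n+1)) and Spec(B/K^(n+1)), a morphism of
systems being adic when all its squares are cartesian. Let A be a Noetherian ring, complete and
separated for the I-adic topology of an ideal I, K an ideal of a ring B and φ : B → A a ring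
homomorphism with φ(K) ⊆ I. Then the induced morphism Spf(A) → Spf(B) is adic if and only if the
ideal of A generated by φ(K) is I. -/
theorem result (A B : Type u) [CommRing A] [CommRing B] [IsNoetherianRing A]
    (I : Ideal A) (K : Ideal B) [IsAdicComplete I A] (φ : B →+* A) (h : K ≤ I.comap φ) :
    FSch.IsAdicHom (FSch.spfMap I K φ h) ↔ K.map φ = I := by
  have hsurjA : ∀ n, Function.Surjective (Ideal.Quotient.factor
      (Ideal.pow_le_pow_right (Nat.le_succ (n + 1)) : I ^ (n + 1 + 1) ≤ I ^ (n + 1))) :=
    fun n => Ideal.Quotient.factor_surjective _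
  have hci : ∀ n, IsClosedImmersion ((FSch.spf A I).ι n) := fun n => (An92.FSch.isFormal_spf I n).1
  have hci' : ∀ n, IsClosedImmersion ((FSch.spf B K).ι n) := fun n => (An92.FSch.isFormal_spf K n).1
  have key : ∀ (n : ℕ) (P : Ideal (B ⧸ K ^ (n + 1 + 1)))
      (Q : (Spec (CommRingCat.of (B ⧸ K ^ (n + 1 + 1)))).IdealSheafData),
      An92.FSch.toIdeal Q = P →
      An92.FSch.toIdeal (Q.comap (Spec.map (CommRingCat.ofHom (FSch.quotPowMap I K φ h (n + 1))))) =
        P.map (FSch.quotPowMap I K φ h (n + 1)) := fun n P Q hQ => by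
    rw [An92.FSch.toIdeal_comap, hQ]
    rfl
  have hmap : ∀ n, ((K ^ (n + 1)).map (Ideal.Quotient.mk (K ^ (n + 1 + 1)))).map
      (FSch.quotPowMap I K φ h (n + 1)) =
      ((K.map φ) ^ (n + 1)).map (Ideal.Quotient.mk (I ^ (n + 1 + 1))) := fun n => by
    have h' : (FSch.quotPowMap I K φ h (n + 1)).comp (Ideal.Quotient.mk (K ^ (n + 1 + 1))) =
        (Ideal.Quotient.mk (I ^ (n + 1 + 1))).comp φ := RingHom.ext fun b => rfl
    rw [Ideal.map_map, h', ← Ideal.map_map, Ideal.map_pow φ]
  have e : ∀ n, An92.FSch.toIdeal (R := CommRingCat.of (A ⧸ I ^ (n + 1 + 1)))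
      (((FSch.spf B K).ι n).ker.comap ((FSch.spfMap I K φ h : FSch.Hom _ _).app (n + 1))) =
      ((K.map φ) ^ (n + 1)).map (Ideal.Quotient.mk (I ^ (n + 1 + 1))) := fun n =>
    (key n _ _ (An92.FSch.toIdeal_ker_ι K n)).trans (hmap n)
  constructor
  · intro hf
    have := hci' 0
    have h0 : An92.FSch.toIdeal (R := CommRingCat.of (A ⧸ I ^ (0 + 1 + 1))) ((FSch.spf A I).ι 0).ker =
        _ := (congrArg _ (An92.FSch.comap_ker_of_isPullback (hf 0))).trans (e 0)
    have h1 : (I ^ (0 + 1)).map (Ideal.Quotient.mk (I ^ (0 + 1 + 1))) =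
        ((K.map φ) ^ (0 + 1)).map (Ideal.Quotient.mk (I ^ (0 + 1 + 1))) :=
      (An92.FSch.toIdeal_ker_ι I 0).symm.trans h0
    have h2 : I ≤ K.map φ ⊔ I * I := fun x hx => by
      have := congrArg (Ideal.comap (Ideal.Quotient.mk (I ^ (0 + 1 + 1)))) h1
      simp only [Ideal.comap_map_of_surjective _ Ideal.Quotient.mk_surjective,
        ← RingHom.ker_eq_comap_bot, Ideal.mk_ker, zero_add, pow_one, pow_two] at this
      have h3 := this.le (Ideal.mem_sup_left hx)
      rwa [show (1 : ℕ) + 1 = 2 from rfl, pow_two] at h3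
    refine le_antisymm (Ideal.map_le_iff_le_comap.2 h) ?_
    exact Submodule.le_of_le_smul_of_le_jacobson_bot (IsNoetherian.noetherian I)
      (IsAdicComplete.le_jacobson_bot I) h2
  · intro hK n
    have := hci n
    have := hci' n
    refine isPullback_of_isClosedImmersion ((FSch.spf A I).ι n) ((FSch.spf B K).ι n) _
      ((FSch.spfMap I K φ h : FSch.Hom _ _).app (n + 1))
      ((FSch.spfMap I K φ h : FSch.Hom _ _).comm n).symm ?_
    refine An92.FSch.toIdeal_injective (R := CommRingCat.of (A ⧸ I ^ (n + 1 + 1))) ?_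
    refine (e n).trans (Eq.trans ?_ (An92.FSch.toIdeal_ker_ι I n).symm)
    rw [hK]

end Groth.Agent.S3867
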