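import Groth.Agent.An92.FSch.Spf
import Groth.Agent.AdicC27.Thicken
import Groth.Agent.VarGal.Thickening
-- Template for statement S3868 (row 3867; see the milestone table for weights).
-- Copy to Groth/Agent/S3868.lean and replace the sorry. The statement below is byte-identical to the frozen
-- statement FCompl.GrothFrozen.S3868 (Groth/Statements/S3868.lean; the theorem FCompl.exists_iso_spf_of_isAffine);
-- the grader kernel-checks Groth.Agent.S3868.result against that frozen type. Keep the theorem IN THIS FILE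
-- (a `result` declared elsewhere and merely imported here is not credited); helpers may live anywhere
-- under Groth/Agent/.

set_option autoImplicit false
universe u
namespace FCompl
end FCompl
open FCompl

namespace Groth.Agent.S3868

open AlgebraicGeometry in
open CategoryTheory in
/-- (Systems of thickenings.) Let (X_n) be a system of schemes whose transition maps are surjective
closed immersions, with the kernel ideal of X_n -> X_(n+1) the (n+1)-st power of that of X_0 ->
X_(n+1), X_0 affine and locally Noetherian, and the kernel ideal of X_0 -> X_1 of finite type. Then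
the system is isomorphic to the formal spectrum Spec(A/J) -> Spec(A/J^2) -> ... of some Noetherian
ring A complete and separated for the J-adic topology, J an ideal of A. -/
theorem result (𝔛 : FSch.Sys.{u}) (hF : 𝔛.IsFormal) (hA : 𝔛.IsAdic)
    [IsAffine (𝔛.X 0)] [IsLocallyNoetherian (𝔛.X 0)] (hft : FSch.IdealFT (𝔛.ι 0).ker) :
    ∃ (A : Type u) (_ : CommRing A) (J : Ideal A),
      IsNoetherianRing A ∧ IsAdicComplete J A ∧ Nonempty (𝔛 ≅ FSch.spf A J) := by
  have hci : ∀ n, IsClosedImmersion (𝔛.toX n) := An92.FSch.isClosedImmersion_toX hF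
  have hsurj : ∀ n, Surjective (𝔛.toX n) := fun n => by
    induction n with
    | zero => exact inferInstanceAs (Surjective (𝟙 _))
    | succ n ih =>
      have : Surjective (𝔛.ι n) := ⟨(hF n).2⟩
      exact inferInstanceAs (Surjective (𝔛.toX n ≫ 𝔛.ι n))
  have haff : ∀ n, IsAffine (𝔛.X n) := fun n =>
    VarGal.isAffine_of_thickening (𝔛.toX n)
  have hι : ∀ n, IsClosedImmersion (𝔛.ι n) := fun n => (hF n).1
  let B : ℕ → Type u := fun n => Γ(𝔛.X n, ⊤)
  let u : ∀ n, B (n + 1) →+* B n := fun n => (𝔛.ι n).appTop.hom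
  let v : ∀ n, B n →+* B 0 := fun n => (𝔛.toX n).appTop.hom
  have hu : ∀ n, Function.Surjective (u n) := fun n =>
    (𝔛.ι n).app_surjective ⊤ (isAffineOpen_top _)
  have hker : ∀ n, RingHom.ker (u n) = RingHom.ker (v (n + 1)) ^ (n + 1) := fun n => by
    have h1 := congrArg (fun K => K.ideal ⟨⊤, isAffineOpen_top _⟩) (hA n)
    simp only [Scheme.IdealSheafData.ideal_pow, Pi.pow_apply, Scheme.Hom.ker_apply] at h1
    exact h1
  have hv : ∀ n, (v n).comp (u n) = v (n + 1) := fun n => rfl
  have hfg : (RingHom.ker (v 1)).FG := by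
    have h1 := hft ⟨⊤, isAffineOpen_top _⟩
    rw [Scheme.Hom.ker_apply] at h1
    exact h1
  let A : Subring (∀ n, B n) :=
    { carrier := {y | ∀ n, u n (y (n + 1)) = y n}
      mul_mem' := fun {a b} ha hb n => by
        change u n (a (n + 1) * b (n + 1)) = a n * b n
        rw [map_mul, ha, hb]
      one_mem' := fun n => map_one _
      add_mem' := fun {a b} ha hb n => by
        change u n (a (n + 1) + b (n + 1)) = a n + b n
        rw [map_add, ha, hb]
      zero_mem' := fun n => map_zero _
      neg_mem' := fun {a} ha n => by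
        change u n (-a (n + 1)) = -a n
        rw [map_neg, ha] }
  let p : ∀ n, A →+* B n := fun n => (Pi.evalRingHom B n).comp A.subtype
  obtain ⟨hC, hk, hJ⟩ := AdicC27.thickening_limit B u hu v rfl hv hker hfg A p
    (fun n => RingHom.ext fun x => x.2 n)
    (fun x hx => Subtype.ext (funext fun n => hx n))
    (fun y hy => ⟨⟨y, hy⟩, fun n => rfl⟩)
  set J := RingHom.ker (p 0) with hJdef
  have : IsNoetherianRing (B 0) :=
    IsLocallyNoetherian.component_noetherian ⟨⊤, isAffineOpen_top _⟩
  have : IsNoetherianRing (A ⧸ J) :=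
    isNoetherianRing_of_ringEquiv _ (RingHom.quotientKerEquivOfSurjective (hk 0).1).symm
  have := AdicC27.isNoetherianRing_of_isAdicComplete (I := J) hJ
  refine ⟨A, inferInstance, J, this, hC, ?_⟩
  let φ : ∀ n, (A ⧸ J ^ (n + 1)) →+* B n := fun n =>
    Ideal.Quotient.lift _ (p n) (fun a ha => ((hk n).2 ▸ ha : a ∈ RingHom.ker (p n)))
  have hφ : ∀ n, Function.Bijective (φ n) := fun n => by
    refine ⟨?_, fun b => ?_⟩
    · refine (injective_iff_map_eq_zero _).2 fun q hq => ?_
      obtain ⟨a, rfl⟩ := Ideal.Quotient.mk_surjective q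
      have : a ∈ RingHom.ker (p n) := hq
      rw [(hk n).2] at this
      exact Ideal.Quotient.eq_zero_iff_mem.2 this
    · obtain ⟨a, ha⟩ := (hk n).1 b
      exact ⟨Ideal.Quotient.mk _ a, ha⟩
  let g : ∀ n, 𝔛.X n ⟶ (FSch.spf A J).X n := fun n =>
    (𝔛.X n).toSpecΓ ≫ Spec.map (CommRingCat.ofHom (φ n))
  have hg : ∀ n, IsIso (g n) := fun n => by
    have : IsIso (CommRingCat.ofHom (φ n)) := (ConcreteCategory.isIso_iff_bijective _).2 (hφ n)
    exact inferInstanceAs (IsIso ((𝔛.X n).toSpecΓ ≫ Spec.map (CommRingCat.ofHom (φ n))))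
  have comm : ∀ n, g n ≫ (FSch.spf A J).ι n = 𝔛.ι n ≫ g (n + 1) := fun n => by
    have h1 : 𝔛.ι n ≫ g (n + 1) = (𝔛.X n).toSpecΓ ≫
        Spec.map (CommRingCat.ofHom (φ (n + 1)) ≫ (𝔛.ι n).appTop) := by
      rw [Spec.map_comp, ← Scheme.toSpecΓ_naturality_assoc]
      rfl
    have h2 : CommRingCat.ofHom (φ (n + 1)) ≫ (𝔛.ι n).appTop =
        CommRingCat.ofHom (Ideal.Quotient.factor
          (Ideal.pow_le_pow_right (Nat.le_succ (n + 1)) : J ^ (n + 1 + 1) ≤ J ^ (n + 1))) ≫
          CommRingCat.ofHom (φ n) := by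
      ext1
      refine Ideal.Quotient.ringHom_ext (RingHom.ext fun a => ?_)
      exact a.2 n
    rw [h1, h2, Spec.map_comp]
    exact Category.assoc _ _ _
  have comm' : ∀ n, inv (g n) ≫ 𝔛.ι n = (FSch.spf A J).ι n ≫ inv (g (n + 1)) := fun n => by
    rw [IsIso.inv_comp_eq, ← Category.assoc, IsIso.eq_comp_inv]
    exact (comm n).symm
  exact ⟨{ hom := ⟨g, comm⟩
           inv := ⟨fun n => inv (g n), comm'⟩
           hom_inv_id := FSch.Hom.ext (funext fun n => IsIso.hom_inv_id (g n))
           inv_hom_id := FSch.Hom.ext (funext fun n => IsIso.inv_hom_id (g n)) }⟩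

end Groth.Agent.S3868
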