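import Groth.Agent.An92.FSch.Stalk
-- Template for statement S3872 (row 3871; see the milestone table for weights).
-- Copy to Groth/Agent/S3872.lean and replace the sorry. The statement below is byte-identical to the frozen
-- statement FCompl.GrothFrozen.S3872 (Groth/Statements/S3872.lean; the theorem FCompl.residueField_stalkSubring_bijective);
-- the grader kernel-checks Groth.Agent.S3872.result against that frozen type. Keep the theorem IN THIS FILE
-- (a `result` declared elsewhere and merely imported here is not credited); helpers may live anywhere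
-- under Groth/Agent/.

set_option autoImplicit false
universe u
namespace FCompl
end FCompl
open FCompl

namespace Groth.Agent.S3872

/-- For a ring A, an ideal J and a prime ideal 𝔭 with J ⊆ 𝔭, let A{S⁻¹}, S = A ∖ 𝔭, be the completion of
A_𝔭 for the topology defined by the extension of J, and A_{S} the subring of A{S⁻¹} generated by the
images of the completed localizations A_{f}, f ∉ 𝔭 (the stalk ring of Spf(A) at 𝔭). Given that A_{S}
and A{S⁻¹} are local rings and that the inclusion A_{S} → A{S⁻¹} and the canonical map A_𝔭 → A{S⁻¹}
are local homomorphisms (all four are carried here as instance hypotheses; the two about A_{S} are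
stated separately), both maps induce bijections on residue fields; so the residue field of A_{S} is
the residue field κ(𝔭) of A_𝔭. -/
theorem result (A : Type u) [CommRing A] (J : Ideal A) (𝔭 : Ideal A)
    [𝔭.IsPrime] (hJ : J ≤ 𝔭) [IsLocalRing (FSch.stalkSubring A J 𝔭)] [IsLocalRing (FSch.cAtPrime A J 𝔭)]
    [IsLocalHom (FSch.stalkSubring A J 𝔭).subtype]
    [IsLocalHom (algebraMap (Localization.AtPrime 𝔭) (FSch.cAtPrime A J 𝔭))] :
    Function.Bijective (IsLocalRing.ResidueField.map (FSch.stalkSubring A J 𝔭).subtype) ∧
      Function.Bijective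
        (IsLocalRing.ResidueField.map (algebraMap (Localization.AtPrime 𝔭) (FSch.cAtPrime A J 𝔭))) := by
  have h2 : Function.Surjective
      (IsLocalRing.ResidueField.map (algebraMap (Localization.AtPrime 𝔭) (FSch.cAtPrime A J 𝔭))) := by
    intro z
    obtain ⟨x, rfl⟩ := IsLocalRing.residue_surjective z
    obtain ⟨l, hl⟩ := Ideal.Quotient.mk_surjective
      (AdicCompletion.evalₐ (J.map (algebraMap A (Localization.AtPrime 𝔭))) 1 x)
    refine ⟨IsLocalRing.residue _ l, ?_⟩
    rw [IsLocalRing.ResidueField.map_residue, ← sub_eq_zero, ← map_sub,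
      IsLocalRing.residue_eq_zero_iff, IsLocalRing.mem_maximalIdeal, mem_nonunits_iff]
    intro hu
    have h3 := hu.map (AdicCompletion.evalₐ (J.map (algebraMap A (Localization.AtPrime 𝔭))) 1)
    rw [map_sub, An92.FSch.evalₐ_algebraMap, hl, sub_self] at h3
    have : Nontrivial (Localization.AtPrime 𝔭 ⧸ (J.map (algebraMap A (Localization.AtPrime 𝔭))) ^ 1) :=
      Ideal.Quotient.nontrivial_iff.2 (by
        rw [pow_one]
        exact ne_top_of_le_ne_top (IsLocalRing.maximalIdeal.isMaximal _).ne_top
          (An92.FSch.map_le_maximal hJ))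
    exact not_isUnit_zero h3
  refine ⟨⟨(IsLocalRing.ResidueField.map _).injective, fun z => ?_⟩,
    (IsLocalRing.ResidueField.map _).injective, h2⟩
  obtain ⟨w, rfl⟩ := h2 z
  obtain ⟨r, rfl⟩ := IsLocalRing.residue_surjective w
  refine ⟨IsLocalRing.residue _ ⟨_, An92.FSch.algebraMap_mem_stalkSubring r⟩, ?_⟩
  rw [IsLocalRing.ResidueField.map_residue, IsLocalRing.ResidueField.map_residue]
  rfl

end Groth.Agent.S3872
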