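import Groth.Agent.An92.FSch.Spf
-- Template for statement S3873 (row 3872; see the milestone table for weights).
-- Copy to Groth/Agent/S3873.lean and replace the sorry. The statement below is byte-identical to the frozen
-- statement FCompl.GrothFrozen.S3873 (Groth/Statements/S3873.lean; the theorem FCompl.comap_idealSpec_Spec_map);
-- the grader kernel-checks Groth.Agent.S3873.result against that frozen type. Keep the theorem IN THIS FILE
-- (a `result` declared elsewhere and merely imported here is not credited); helpers may live anywhere
-- under Groth/Agent/.

set_option autoImplicit false
universe u
namespace FCompl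
end FCompl
open FCompl

namespace Groth.Agent.S3873

open AlgebraicGeometry in
/-- Its content on the affine schemes underlying the formal spectra: the inverse image ideal of b^Δ is
(bA)^Δ, read on Spec: For a ring homomorphism φ : B -> A and an ideal b of B, the inverse image
along Spec(φ) of the ideal sheaf of b on Spec B is the ideal sheaf on Spec A of the ideal generated
by φ(b). -/
theorem result (A B : Type u) [CommRing A] [CommRing B] (φ : B →+* A) (𝔟 : Ideal B) :
    (FSch.idealSpec B 𝔟).comap (Spec.map (CommRingCat.ofHom φ)) = FSch.idealSpec A (𝔟.map φ) := by
  apply An92.FSch.toIdeal_injective
  rw [An92.FSch.toIdeal_comap, An92.FSch.toIdeal_idealSpec, An92.FSch.toIdeal_idealSpec]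
  rfl

end Groth.Agent.S3873
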