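import Groth.Prelude.Def_FSch3
import Groth.Agent.Frg27.Compl
-- Template for statement S3874 (row 3873; see the milestone table for weights).
-- Copy to Groth/Agent/S3874.lean and replace the sorry. The statement below is byte-identical to the frozen
-- statement FCompl.GrothFrozen.S3874 (Groth/Statements/S3874.lean; the theorem FCompl.exists_ringEquiv_cAway_quot_pow);
-- the grader kernel-checks Groth.Agent.S3874.result against that frozen type. Keep the theorem IN THIS FILE
-- (a `result` declared elsewhere and merely imported here is not credited); helpers may live anywhere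
-- under Groth/Agent/.

set_option autoImplicit false
universe u
namespace FCompl
end FCompl
open FCompl

namespace Groth.Agent.S3874

/-- Let A be a Noetherian ring, J an ideal, f ∈ A and n ≥ 0, and let A_{f} be the completion of the
localization A_f for the topology defined by the extension of J. There is a ring isomorphism from
the localization of A/J^(n+1) away from the class of f onto A_{f} modulo the (n+1)-st power of the
extension of J to A_{f}, compatible with the canonical maps from A (and hence unique). In terms of
formal spectra: the open D(f) of Spf(A) is Spf(A_{f}), and at level n its ring is the ring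
(A/J^(n+1))_f of the open D(f) of Spec(A/J^(n+1)). -/
theorem result (A : Type u) [CommRing A] [IsNoetherianRing A] (J : Ideal A)
    (f : A) (n : ℕ) :
    ∃ e : Localization.Away (Ideal.Quotient.mk (J ^ (n + 1)) f) ≃+*
        FSch.cAway A J f ⧸ (J.map (algebraMap A (FSch.cAway A J f))) ^ (n + 1),
      ∀ a : A, e (algebraMap (A ⧸ J ^ (n + 1)) _ (Ideal.Quotient.mk (J ^ (n + 1)) a)) =
        Ideal.Quotient.mk _ (algebraMap A (FSch.cAway A J f) a) := by
  set N := J ^ (n + 1) with hN
  set C := Localization.Away f
  set P := N.map (algebraMap A C) with hP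
  have hu : IsUnit (Ideal.Quotient.mk P (algebraMap A C f)) :=
    (IsLocalization.Away.algebraMap_isUnit f).map _
  let g₀ : A ⧸ N →+* C ⧸ P := Ideal.quotientMap P (algebraMap A C) Ideal.le_comap_map
  let φ : Localization.Away (Ideal.Quotient.mk N f) →+* C ⧸ P :=
    IsLocalization.Away.lift (Ideal.Quotient.mk N f) (g := g₀) (by simpa [g₀] using hu)
  let ψ₀ : C →+* Localization.Away (Ideal.Quotient.mk N f) :=
    IsLocalization.Away.lift f
      (g := (algebraMap (A ⧸ N) (Localization.Away (Ideal.Quotient.mk N f))).comp (Ideal.Quotient.mk N))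
      (IsLocalization.Away.algebraMap_isUnit (Ideal.Quotient.mk N f))
  have hψ₀ : ∀ a, ψ₀ (algebraMap A C a) =
      algebraMap _ _ (Ideal.Quotient.mk N a) := fun a => by simp [ψ₀, C]
  let ψ : C ⧸ P →+* Localization.Away (Ideal.Quotient.mk N f) :=
    Ideal.Quotient.lift P ψ₀ (fun z hz => by
      have h1 : P ≤ RingHom.ker ψ₀ := by
        rw [hP, Ideal.map_le_iff_le_comap]
        intro a ha
        rw [Ideal.mem_comap, RingHom.mem_ker, hψ₀, Ideal.Quotient.eq_zero_iff_mem.2 ha, map_zero]
      exact h1 hz)
  have hφ : ∀ a, φ (algebraMap _ _ (Ideal.Quotient.mk N a)) =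
      Ideal.Quotient.mk P (algebraMap A C a) := fun a => by
    simp [φ, g₀, Ideal.quotientMap_mk]
  let e₁ : Localization.Away (Ideal.Quotient.mk N f) ≃+* C ⧸ P := RingEquiv.ofRingHom φ ψ
    (by
      refine Ideal.Quotient.ringHom_ext (IsLocalization.ringHom_ext (Submonoid.powers f) ?_)
      refine RingHom.ext fun a => ?_
      change φ (ψ₀ (algebraMap A C a)) = _
      rw [hψ₀, hφ]
      rfl)
    (by
      refine IsLocalization.ringHom_ext (Submonoid.powers (Ideal.Quotient.mk N f))
        (Ideal.Quotient.ringHom_ext (RingHom.ext fun a => ?_))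
      change ψ (φ (algebraMap _ _ (Ideal.Quotient.mk N a))) = _
      rw [hφ]
      exact hψ₀ a)
  have hJfg : J.FG := IsNoetherian.noetherian J
  let e₂ := (Frg27.truncEquiv (R := A) (I := J) (C := C) A hJfg (n + 1)).toRingEquiv
  refine ⟨(e₁.trans e₂).trans (Ideal.quotEquivOfEq (Ideal.map_pow _ J (n + 1))), fun a => ?_⟩
  simp only [RingEquiv.trans_apply]
  change Ideal.quotEquivOfEq _ (e₂ (φ (algebraMap _ _ (Ideal.Quotient.mk N a)))) = _
  rw [hφ a]
  rfl

end Groth.Agent.S3874
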