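import Groth.Agent.An92.FSch.Spf
-- Template for statement S3875 (row 3874; see the milestone table for weights).
-- Copy to Groth/Agent/S3875.lean and replace the sorry. The statement below is byte-identical to the frozen
-- statement FCompl.GrothFrozen.S3875 (Groth/Statements/S3875.lean; the theorem FCompl.isPullback_completionMap_of_comap);
-- the grader kernel-checks Groth.Agent.S3875.result against that frozen type. Keep the theorem IN THIS FILE
-- (a `result` declared elsewhere and merely imported here is not credited); helpers may live anywhere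
-- under Groth/Agent/.

set_option autoImplicit false
universe u
namespace FCompl
end FCompl
open FCompl

namespace Groth.Agent.S3875

open AlgebraicGeometry in
open CategoryTheory in
open CategoryTheory.Limits in
/-- Let g : X → S and h : Y → S be morphisms of schemes, R an ideal sheaf on X and J an ideal sheaf on
S, and consider the completions of S along J, of X along R, of Y along the inverse image of J under
h, and of X x_S Y along the inverse image of R under the first projection (completions presented by
the subschemes of the powers of these ideal sheaves); this is the case where the closed subset of Y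
is the full preimage of that of S. The four compatibility hypotheses between the powers of the ideal
sheaves (for g, for h, and for the two projections of X x_S Y): for each n, the inverse image of the
(n+1)-st power of the target ideal sheaf is contained in the (n+1)-st power of the source ideal
sheaf. These are hypotheses, carried as data for the completed morphisms; the published statement
assumes the schemes locally Noetherian, which this identity does not need. Then the square of
completed morphisms from the completion of X x_S Y along the preimage of the closed subset of X, to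
the completions of X and of Y, over the completion of S, is cartesian in the category of systems. -/
theorem result {X Y S : Scheme.{u}} (g : X ⟶ S) (h : Y ⟶ S)
    (𝓡 : X.IdealSheafData) (𝓙 : S.IdealSheafData)
    (hg : FSch.PowCompat g 𝓡 𝓙) (hh : FSch.PowCompat h (𝓙.comap h) 𝓙)
    (hp : FSch.PowCompat (pullback.fst g h) (𝓡.comap (pullback.fst g h)) 𝓡)
    (hq : FSch.PowCompat (pullback.snd g h) (𝓡.comap (pullback.fst g h)) (𝓙.comap h)) :
    IsPullback (FSch.completionMap (pullback.fst g h) (𝓡.comap (pullback.fst g h)) 𝓡 hp)
      (FSch.completionMap (pullback.snd g h) (𝓡.comap (pullback.fst g h)) (𝓙.comap h) hq)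
      (FSch.completionMap g 𝓡 𝓙 hg) (FSch.completionMap h (𝓙.comap h) 𝓙 hh) := by
  have key : ∀ n : ℕ, IsPullback
      ((FSch.completionMap (pullback.fst g h) (𝓡.comap (pullback.fst g h)) 𝓡 hp : FSch.Hom _ _).app n)
      ((FSch.completionMap (pullback.snd g h) (𝓡.comap (pullback.fst g h)) (𝓙.comap h) hq :
        FSch.Hom _ _).app n)
      ((FSch.completionMap g 𝓡 𝓙 hg : FSch.Hom _ _).app n)
      ((FSch.completionMap h (𝓙.comap h) 𝓙 hh : FSch.Hom _ _).app n) := fun n => by
    have hP := isPullback_of_isClosedImmersion ((𝓡.comap (pullback.fst g h)) ^ (n + 1)).subschemeι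
      (𝓡 ^ (n + 1)).subschemeι
      (Scheme.IdealSheafData.subschemeMap ((𝓡.comap (pullback.fst g h)) ^ (n + 1)) (𝓡 ^ (n + 1))
        (pullback.fst g h) (Scheme.IdealSheafData.le_map_iff_comap_le.mpr (hp n))) (pullback.fst g h)
      (Scheme.IdealSheafData.subschemeMap_subschemeι _ _ _ _).symm
      (by rw [Scheme.IdealSheafData.ker_subschemeι, Scheme.IdealSheafData.ker_subschemeι,
        An92.FSch.comap_pow])
    have hY := isPullback_of_isClosedImmersion ((𝓙.comap h) ^ (n + 1)).subschemeι
      (𝓙 ^ (n + 1)).subschemeι
      (Scheme.IdealSheafData.subschemeMap ((𝓙.comap h) ^ (n + 1)) (𝓙 ^ (n + 1)) h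
        (Scheme.IdealSheafData.le_map_iff_comap_le.mpr (hh n))) h
      (Scheme.IdealSheafData.subschemeMap_subschemeι _ _ _ _).symm
      (by rw [Scheme.IdealSheafData.ker_subschemeι, Scheme.IdealSheafData.ker_subschemeι,
        An92.FSch.comap_pow])
    -- outer rectangle: `P_n = X_n ×_S Y`
    have h1 := hP.flip.paste_vert (IsPullback.of_hasPullback g h)
    refine IsPullback.of_bot (h₁₁ :=
      ((FSch.completionMap (pullback.fst g h) (𝓡.comap (pullback.fst g h)) 𝓡 hp : FSch.Hom _ _).app n))
      ?_ ?_ hY.flip
    · have e1 : Scheme.IdealSheafData.subschemeMap ((𝓡.comap (pullback.fst g h)) ^ (n + 1))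
          ((𝓙.comap h) ^ (n + 1)) (pullback.snd g h)
          (Scheme.IdealSheafData.le_map_iff_comap_le.mpr (hq n)) ≫ ((𝓙.comap h) ^ (n + 1)).subschemeι =
          ((𝓡.comap (pullback.fst g h)) ^ (n + 1)).subschemeι ≫ pullback.snd g h :=
        Scheme.IdealSheafData.subschemeMap_subschemeι _ _ _ _
      have e2 : Scheme.IdealSheafData.subschemeMap (𝓡 ^ (n + 1)) (𝓙 ^ (n + 1)) g
          (Scheme.IdealSheafData.le_map_iff_comap_le.mpr (hg n)) ≫ (𝓙 ^ (n + 1)).subschemeι =
          (𝓡 ^ (n + 1)).subschemeι ≫ g :=
        Scheme.IdealSheafData.subschemeMap_subschemeι _ _ _ _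
      simp only [FSch.completionMap_app]
      erw [e1, e2]
      exact h1
    · have aux : ∀ {Pn Xn Yn Sn P : Scheme.{u}} (a : Pn ⟶ Xn) (b : Pn ⟶ Yn) (c : Xn ⟶ Sn)
          (d : Yn ⟶ Sn) (iP : Pn ⟶ P) (iX : Xn ⟶ X) (iY : Yn ⟶ Y) (iS : Sn ⟶ S) (p : P ⟶ X) (q : P ⟶ Y)
          (hm : Mono iS), a ≫ iX = iP ≫ p → b ≫ iY = iP ≫ q → c ≫ iS = iX ≫ g → d ≫ iS = iY ≫ h →
          p ≫ g = q ≫ h → a ≫ c = b ≫ d := by
        intro Pn Xn Yn Sn P a b c d iP iX iY iS p q hm h1 h2 h3 h4 h5
        rw [← cancel_mono iS, Category.assoc, Category.assoc, h3, h4, reassoc_of% h1, reassoc_of% h2, h5]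
      refine aux _ _ _ _ _ _ _ (𝓙 ^ (n + 1)).subschemeι _ _ ?_
        (Scheme.IdealSheafData.subschemeMap_subschemeι _ _ _
          (Scheme.IdealSheafData.le_map_iff_comap_le.mpr (hp n)))
        (Scheme.IdealSheafData.subschemeMap_subschemeι _ _ _
          (Scheme.IdealSheafData.le_map_iff_comap_le.mpr (hq n)))
        (Scheme.IdealSheafData.subschemeMap_subschemeι _ _ _
          (Scheme.IdealSheafData.le_map_iff_comap_le.mpr (hg n)))
        (Scheme.IdealSheafData.subschemeMap_subschemeι _ _ _
          (Scheme.IdealSheafData.le_map_iff_comap_le.mpr (hh n))) pullback.condition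
      exact inferInstanceAs (Mono (𝓙 ^ (n + 1)).subschemeι)
  refine An92.FSch.isPullback_of_app _ _ _ _ key

end Groth.Agent.S3875
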