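import Groth.Prelude.Def_SGA4b
import Mathlib.AlgebraicGeometry.Morphisms.ClosedImmersion
import Mathlib.AlgebraicGeometry.Morphisms.OpenImmersion
import Groth.Agent.An92.EtSets.Stalk
import Groth.Agent.Unr55.Et.ClosedPush

set_option autoImplicit false
open CategoryTheory CategoryTheory.Limits AlgebraicGeometry Opposite
universe u
namespace EtDesc
end EtDesc
open EtDesc

namespace Groth.Agent.S3883

/-- Let i : Y -> X be a closed immersion and j : U -> X an open immersion whose image is the complement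
of the image of i. Then the direct image functor i_* on etale sheaves of sets is fully faithful, and
a sheaf of sets F on X is isomorphic to some i_* G if and only if j^* F is a final object. -/
theorem result {Y X U : Scheme.{u}} (i : Y ⟶ X)
    [IsClosedImmersion i] (j : U ⟶ X) [IsOpenImmersion j]
    (hU : Set.range j.base = (Set.range i.base)ᶜ) :
    (EtDesc.pushSh i).Full ∧ (EtDesc.pushSh i).Faithful ∧
    ∀ F : EtDesc.Sh X, (EtDesc.pushSh i).essImage F ↔ IsIso (terminal.from ((EtDesc.pullSh j).obj F)) := by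
  obtain ⟨hfull, hfaith⟩ := An92.EtSets.pushSh_full_faithful i
  refine ⟨hfull, hfaith, fun F => ?_⟩
  have hclosed : IsClosed (Set.range i.base) := i.isClosedEmbedding.isClosed_range
  have hout : ∀ (G : EtDesc.Sh Y) (K : Type u) [Field K] [IsSepClosed K] (η : Spec (CommRingCat.of K) ⟶ X),
      η default ∉ Set.range i → Nonempty (Unique ((An92.EtSets.stalkSh η).obj ((EtDesc.pushSh i).obj G))) := by
    intro G K _ _ η hη
    refine An92.EtSets.unique_stalk_of_refined η _ fun V s => ?_
    let O : V.left.Opens := V.hom ⁻¹ᵁ ⟨(Set.range i)ᶜ, hclosed.isOpen_compl⟩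
    have hs : Unr55.EtSh.hom η s default ∈ O := by
      have h : Unr55.EtSh.hom η s ≫ V.hom = η := Over.w s
      change V.hom (Unr55.EtSh.hom η s default) ∉ Set.range i
      rw [← Scheme.Hom.comp_apply, h]
      exact hη
    have : IsEmpty ((EtCoh.bc i).obj (Unr55.EtSh.openSub V O)).left := Unr55.EtSh.isEmpty_bc_of_disjoint i (by
      refine Set.disjoint_left.2 ?_
      rintro _ ⟨q, rfl⟩
      let q' : O.toScheme := q
      exact (O.range_ι.le ⟨q', rfl⟩ : O.ι q' ∈ O))
    exact ⟨_, Unr55.EtSh.openSubι V O, Unr55.EtSh.ptOpen O s hs, Unr55.EtSh.map_ptOpen O s hs,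
      An92.EtSets.unique_sections_of_isEmpty G ((EtCoh.bc i).obj (Unr55.EtSh.openSub V O))⟩
  constructor
  · rintro ⟨G, ⟨e⟩⟩
    refine An92.EtSets.isIso_terminal_of_stalks _ fun K _ _ ξ => ?_
    have hη : (ξ ≫ j) default ∉ Set.range i := by
      rw [← Set.mem_compl_iff, ← hU]
      exact ⟨ξ default, rfl⟩
    obtain ⟨w⟩ := hout G K (ξ ≫ j) hη
    exact ⟨@Equiv.unique _ _ w (((An92.EtSets.stalkPullShIso j ξ).app F).trans ((An92.EtSets.stalkSh (ξ ≫ j)).mapIso e.symm)).toEquiv⟩
  · intro hF
    suffices IsIso ((EtDesc.adjSh i).unit.app F) from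
      ⟨_, ⟨(asIso ((EtDesc.adjSh i).unit.app F)).symm⟩⟩
    refine An92.EtSets.isIso_of_stalks_sets _ fun K _ _ η => ?_
    by_cases hη : η default ∈ Set.range i
    · obtain ⟨ξ, rfl⟩ := Unr55.EtSh.exists_point_lift i η hη
      have := An92.EtSets.isIso_counit i ((EtDesc.pullSh i).obj F)
      have ht : (EtDesc.pullSh i).map ((EtDesc.adjSh i).unit.app F) ≫
          (EtDesc.adjSh i).counit.app ((EtDesc.pullSh i).obj F) = 𝟙 _ := (EtDesc.adjSh i).left_triangle_components F
      have : IsIso ((EtDesc.pullSh i).map ((EtDesc.adjSh i).unit.app F)) :=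
        IsIso.of_isIso_fac_right (h := 𝟙 _) ht
      rw [← isIso_iff_bijective]
      have : IsIso ((EtDesc.pullSh i ⋙ An92.EtSets.stalkSh ξ).map ((EtDesc.adjSh i).unit.app F)) :=
        Functor.map_isIso (An92.EtSets.stalkSh ξ) _
      rw [← NatIso.naturality_2 (An92.EtSets.stalkPullShIso i ξ).symm ((EtDesc.adjSh i).unit.app F)]
      infer_instance
    · obtain ⟨v⟩ := hout ((EtDesc.pullSh i).obj F) K η hη
      have hj : η default ∈ Set.range j := by
        rw [hU]
        exact hη
      have hl : Set.range η ⊆ Set.range j := by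
        rintro _ ⟨a, rfl⟩
        rw [Unr55.EtSh.default_eq a]
        exact hj
      obtain ⟨w⟩ := An92.EtSets.unique_stalk_of_isIso (IsOpenImmersion.lift j η hl) _ hF
      have w' : Unique ((An92.EtSets.stalkSh (IsOpenImmersion.lift j η hl ≫ j)).obj F) :=
        @Equiv.unique _ _ w ((An92.EtSets.stalkPullShIso j (IsOpenImmersion.lift j η hl)).app F).toEquiv.symm
      have e : IsOpenImmersion.lift j η hl ≫ j = η := IsOpenImmersion.lift_fac j η hl
      rw [e] at w'
      exact ⟨fun a b _ => (w'.uniq a).trans (w'.uniq b).symm, fun b => ⟨w'.default, (v.uniq _).trans (v.uniq b).symm⟩⟩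

end Groth.Agent.S3883
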