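import Groth.Statements.S3891
import Groth.Agent.Hyper50.Main

set_option autoImplicit false
universe u
open CategoryTheory
open Hyper

namespace Groth.Agent.S3891

open Opposite CategoryTheory.Limits in
/-- A map-free consequence in each degree of the comparison between sheaf cohomology and Cech cohomology
over hypercoverings (hypercoverings of an object X of a small site with fibre products; coskeleta
assumed to exist): for an abelian sheaf F and q ≥ 0, the group H^q(X, F) is zero if and only if for
every hypercovering K of X and every class ξ in the q-th Cech cohomology group of F with respect to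
K there is a morphism of hypercoverings f : L -> K such that ξ maps to zero with respect to L. This
is weaker than the published statement, which identifies H^q(X, F) with the colimit of the Cech
groups over hypercoverings up to homotopy through a canonical isomorphism of delta-functors. -/
theorem result {C : Type u} [SmallCategory C] [HasPullbacks C]
    (J : GrothendieckTopology C) (X : C)
    [∀ (n : ℕ) (F : (SimplexCategory.Truncated n)ᵒᵖ ⥤ Limits.FormalCoproduct.{u} (Over X)),
      (SimplexCategory.Truncated.inclusion n).op.HasRightKanExtension F]
    (F : Sheaf J AddCommGrpCat.{u}) (q : ℕ) :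
    Subsingleton (CohSite.HU F q X) ↔
      ∀ (K : SimplicialObject (FormalCoproduct.{u} (Over X))), Hyper.IsHypercovering J X K →
        ∀ ξ : Hyper.cechH X K F.obj q, ∃ (L : SimplicialObject (FormalCoproduct.{u} (Over X))) (f : L ⟶ K),
          Hyper.IsHypercovering J X L ∧ Hyper.cechHMap X f F.obj q ξ = 0 := by
  have key := Groth.Agent.Hyper50.isHypercovering_iff J X
  constructor
  · intro h K hK ξ
    obtain ⟨L, f, hL, hf⟩ := (Groth.Agent.Hyper50.dies_iff (X := X) q F).2 h K ((key K).1 hK) ξ
    exact ⟨L, f, (key L).2 hL, hf⟩
  · intro h
    refine (Groth.Agent.Hyper50.dies_iff (X := X) q F).1 fun K hK ξ => ?_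
    obtain ⟨L, f, hL, hf⟩ := h K ((key K).2 hK) ξ
    exact ⟨L, f, (key L).1 hL, hf⟩

end Groth.Agent.S3891
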