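import Groth.Statements.S3951
import Groth.Agent.RedPts82.SplitOrder

set_option autoImplicit false
open CategoryTheory MonoidalCategory CartesianMonoidalCategory MonObj GrpObj AlgebraicGeometry
universe u
open RedSub

namespace Groth.Agent.S3951
open Groth.Agent.RedPts82

theorem cochar_isMonHom {S : Scheme.{u}} {G : Over S} [GrpObj G] (D : Red.SplitRed G) (l : D.M →+ ℤ) :
    IsMonHom (cochar D l) := by
  have := D.maximalTorus.1
  have : IsMonHom D.split.inv.hom.hom := D.split.inv.hom.isMonHom_hom
  unfold cochar
  infer_instance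

/-- Let G be a split reductive S-group (splitting D) and b a system of simple roots of its root datum,
with positive roots R_+ and negative roots R_-. For enumerations e⁻ of R_- and e⁺ of R_+ in any
order, the morphism G_a^{R_-} x_S T x_S G_a^{R_+} ⟶ G given by the ordered product of the root
homomorphisms and the torus is an open immersion, and its image (the big cell) does not depend on
the chosen orderings. -/
theorem result {S : Scheme.{u}} {G : Over S} [GrpObj G] (D : Red.SplitRed G) (b : D.P.Base)
    {n m : ℕ} (eneg : Fin n → D.idx) (epos : Fin m → D.idx)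
    (hneg : RedSub.Enumerates (RedSub.negRoots D.P b) eneg) (hpos : RedSub.Enumerates (RedSub.posRoots D.P b) epos) :
    IsOpenImmersion (RedSub.cellMap D eneg epos).left ∧
      ∀ (eneg' : Fin n → D.idx) (epos' : Fin m → D.idx), RedSub.Enumerates (RedSub.negRoots D.P b) eneg' →
        RedSub.Enumerates (RedSub.posRoots D.P b) epos' →
        Set.range (RedSub.cellMap D eneg' epos').left.base = Set.range (RedSub.cellMap D eneg epos).left.base := by
  refine ⟨cellMap_isOpenImmersion D b eneg epos hneg hpos, fun eneg' epos' hneg' hpos' => ?_⟩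
  obtain ⟨l, hp, hn, hl⟩ := exists_sep_functional D.P b
  have hν := cochar_isMonHom D l
  have key : ∀ (en en' : Fin n → D.idx) (ep ep' : Fin m → D.idx),
      RedSub.Enumerates (RedSub.negRoots D.P b) en → RedSub.Enumerates (RedSub.negRoots D.P b) en' →
      RedSub.Enumerates (RedSub.posRoots D.P b) ep → RedSub.Enumerates (RedSub.posRoots D.P b) ep' →
      Set.range (RedSub.cellMap D en' ep').left.base ⊆ Set.range (RedSub.cellMap D en ep).left.base := by
    intro en en' ep ep' h1 h1' h2 h2'
    have C := cellData_of_functional D b l hp hn hl en ep h1 h2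
    have C' := cellData_of_functional D b l hp hn hl en' ep' h1' h2'
    have : IsOpenImmersion (cellS D.i (fun k => D.u (en k)) (fun k => D.u (ep k))).left :=
      cellMap_isOpenImmersion D b en ep h1 h2
    have : IsOpenImmersion (cellS D.i (fun k => D.u (ep k)) (fun k => D.u (en k))).left :=
      cellMap_isOpenImmersion_swap D b en ep h1 h2
    obtain ⟨x, hx⟩ := C.exists_pos hν (C'.pos.contr_prod (𝟙 _))
    obtain ⟨y, hy⟩ := C.exists_neg hν (C'.neg.contr_prod (𝟙 _))
    let Φ := lift (fst _ _ ≫ y) (lift (snd (RedSub.pow (Red.Ga S) n) _ ≫ fst D.T _)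
      (snd _ _ ≫ snd _ _ ≫ x))
    have e : Φ ≫ RedSub.cellMap D en ep = RedSub.cellMap D en' ep' := by
      show Φ ≫ cellS _ _ _ = cellS _ _ _
      simp only [Φ, cellS_lift, Category.assoc, hx, hy, Category.id_comp]
      rfl
    rw [← e]
    rintro _ ⟨p, rfl⟩
    exact ⟨_, rfl⟩
  exact Set.Subset.antisymm (key eneg eneg' epos epos' hneg hneg' hpos hpos')
    (key eneg' eneg epos' epos hneg' hneg hpos' hpos)

end Groth.Agent.S3951
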