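import Groth.Statements.S3955
import Groth.Agent.RedPts82.BruhatCells

set_option autoImplicit false
open CategoryTheory MonoidalCategory CartesianMonoidalCategory MonObj GrpObj AlgebraicGeometry
universe u
open RedSub

namespace Groth.Agent.S3955

open Groth.Agent.RedPts82

/-- Let G be a split reductive S-group (splitting D), b a system of simple roots with enumeration e⁺ of
the positive roots, and n a family of S-points of G realising the reflections. For a word l in the
roots let w_l be the corresponding Weyl group element, n_l the product of the n's along l, and C_l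
the image of the Bruhat cell map (y, t, x) ↦ ∏_{a ∈ R_- ∩ w_l(R_-)} u_a(y_a) · n_l · t · ∏_{a ∈ R_+}
u_a(x_a). Then the C_l, for w_l ranging over the Weyl group, partition the underlying space of G:
every point lies in some C_l, and if a point lies in C_l and C_{l'} then w_l = w_{l'}. -/
theorem result {S : Scheme.{u}} {G : Over S} [GrpObj G] (D : Red.SplitRed G) (b : D.P.Base)
    {m : ℕ} (epos : Fin m → D.idx) (hpos : RedSub.Enumerates (RedSub.posRoots D.P b) epos)
    (nr : D.idx → (𝟙_ (Over S) ⟶ G)) (hnr : RedSub.RealisesReflections D nr) :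
    (∀ x : ↥G.left, ∃ (l : List D.idx) (k : ℕ) (e : Fin k → D.idx),
      RedSub.Enumerates (RedSub.negMeetNeg D.P b (RedSub.wordPerm D.P l)) e ∧
        x ∈ Set.range (RedSub.bruhatMap D nr l e epos).left.base) ∧
    ∀ (l l' : List D.idx) (k k' : ℕ) (e : Fin k → D.idx) (e' : Fin k' → D.idx) (x : ↥G.left),
      RedSub.Enumerates (RedSub.negMeetNeg D.P b (RedSub.wordPerm D.P l)) e →
      RedSub.Enumerates (RedSub.negMeetNeg D.P b (RedSub.wordPerm D.P l')) e' →
      x ∈ Set.range (RedSub.bruhatMap D nr l e epos).left.base →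
      x ∈ Set.range (RedSub.bruhatMap D nr l' e' epos).left.base →
      RedSub.wordPerm D.P l = RedSub.wordPerm D.P l' := by
  refine ⟨fun x => ?_, fun l l' k k' e e' x he he' hx hx' => ?_⟩
  · obtain ⟨w, -, hw⟩ := exists_bruhat_point (D := D) (b := b) (nr := nr)
      (fun a _ => acts_of_realises hnr a) hpos x
    obtain ⟨k, e, he⟩ := exists_enumerates (D := D) (RedSub.negMeetNeg D.P b (RedSub.wordPerm D.P w))
    exact ⟨w, k, e, he, hw k e he⟩
  · obtain ⟨lch, hch⟩ := exists_baseChamber b
    obtain ⟨p, hp⟩ := hx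
    obtain ⟨p', hp'⟩ := hx'
    obtain ⟨r, -, -⟩ := Scheme.Pullback.exists_preimage_pullback
      (f := (RedSub.bruhatMap D nr l e epos).left) (g := (RedSub.bruhatMap D nr l' e' epos).left) p p'
      (hp.trans hp'.symm)
    let P : Over S := Over.mk (Limits.pullback.fst (RedSub.bruhatMap D nr l e epos).left
      (RedSub.bruhatMap D nr l' e' epos).left ≫ (RedSub.pow (Red.Ga S) k ⊗ (D.T ⊗ RedSub.pow (Red.Ga S) m)).hom)
    obtain ⟨K, _, _, W, _, eK, z, q, -⟩ := exists_field_point (X := P) r
    let c₁ : P ⟶ RedSub.pow (Red.Ga S) k ⊗ (D.T ⊗ RedSub.pow (Red.Ga S) m) :=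
      Over.homMk (Limits.pullback.fst _ _) rfl
    let c₂ : P ⟶ RedSub.pow (Red.Ga S) k' ⊗ (D.T ⊗ RedSub.pow (Red.Ga S) m) :=
      Over.homMk (Limits.pullback.snd _ _) (by
        show _ = Limits.pullback.fst (RedSub.bruhatMap D nr l e epos).left (RedSub.bruhatMap D nr l' e' epos).left ≫ _
        rw [← Over.w (RedSub.bruhatMap D nr l e epos), ← Over.w (RedSub.bruhatMap D nr l' e' epos),
          Limits.pullback.condition_assoc])
    have hc : c₁ ≫ RedSub.bruhatMap D nr l e epos = c₂ ≫ RedSub.bruhatMap D nr l' e' epos :=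
      Over.OverMorphism.ext Limits.pullback.condition
    have h := congrArg (z ≫ ·) hc
    simp only [← Category.assoc] at h
    rw [bruhatMap_pt D nr l e epos (z ≫ c₁), bruhatMap_pt D nr l' e' epos (z ≫ c₂)] at h
    have hU : ∀ {n : ℕ} (f : Fin n → D.idx) (w : List D.idx),
        RedSub.Enumerates (RedSub.negMeetNeg D.P b (RedSub.wordPerm D.P w)) f → ∀ x : Fin n → Γ(W.left, ⊤),
        (List.ofFn fun j => rp D (f j) (x j)).prod ∈ Up D (-lch) W := fun f w hf x =>
      prod_mem_up f (fun j => ((hch.mem_negMeetNeg w (f j)).mp ((Set.ext_iff.mp hf.2 (f j)).mp ⟨j, rfl⟩)).1) x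
    have hP : ∀ x : Fin m → Γ(W.left, ⊤), (List.ofFn fun j => rp D (epos j) (x j)).prod ∈ Up D lch W := fun x =>
      prod_mem_up epos (fun j => (Set.ext_iff.mp (hch.range_pos hpos) (epos j)).mp ⟨j, rfl⟩) x
    have hg := decomp_unique hch.toChamber b (acts_prod l fun a _ => acts_of_realises hnr a)
      (acts_prod l' fun a _ => acts_of_realises hnr a) eK (hU e l he _) (hU e' l' he' _) (hP _) (hP _) h
    ext i
    rw [wordPerm_apply_eq, wordPerm_apply_eq, hg]

end Groth.Agent.S3955
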