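import Groth.Statements.S3957
import Groth.Agent.RedPts82.BruhatGen

set_option autoImplicit false
open CategoryTheory MonoidalCategory CartesianMonoidalCategory MonObj GrpObj AlgebraicGeometry
universe u
open RedSub

namespace Groth.Agent.S3957

open Groth.Agent.RedPts82

/-- Let A be a local ring, S = Spec A, and G a split reductive S-group with a pinning D which is simply
connected (the coroots span the coweight lattice). Then G(S) is generated by the sections of the
root groups u_a(G_a(S)) for a a simple root or the negative of a simple root. -/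
theorem result {A : Type u} [CommRing A] [IsLocalRing A]
    {G : Over (Spec (CommRingCat.of A))} [GrpObj G] (D : Red.Pinning G)
    (hsc : Submodule.span ℤ (Set.range D.P.coroot) = ⊤) :
    Subgroup.closure
        {g : 𝟙_ (Over (Spec (CommRingCat.of A))) ⟶ G | ∃ a : D.idx, (a ∈ D.base.support ∨ D.P.reflectionPerm a a ∈ D.base.support) ∧
            ∃ x : 𝟙_ _ ⟶ Red.Ga (Spec (CommRingCat.of A)), g = x ≫ D.u a} = ⊤ := by
  let H := Subgroup.closure {g : 𝟙_ (Over (Spec (CommRingCat.of A))) ⟶ G | ∃ a : D.idx, (a ∈ D.base.support ∨ D.P.reflectionPerm a a ∈ D.base.support) ∧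
      ∃ x : 𝟙_ _ ⟶ Red.Ga (Spec (CommRingCat.of A)), g = x ≫ D.u a}
  show H = ⊤
  obtain ⟨l, hl⟩ := exists_baseChamber (D := D.toSplitRed) D.base
  choose nr hnr using D.refl
  have hgen : ∀ a, (a ∈ D.base.support ∨ D.P.reflectionPerm a a ∈ D.base.support) → ∀ r,
      rp D.toSplitRed a r ∈ H := fun a ha r => Subgroup.subset_closure ⟨a, ha, gaPt r, rfl⟩
  have hneg : ∀ a ∈ D.base.support, ∀ r, rp D.toSplitRed (negIdx D.toSplitRed a) r ∈ H := fun a ha r =>
    hgen _ (Or.inr (by
      rw [show D.P.reflectionPerm (negIdx D.toSplitRed a) (negIdx D.toSplitRed a) = a from negIdx_negIdx a]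
      exact ha)) r
  have hconj : ∀ (t : 𝟙_ _ ⟶ Red.DS _ D.M) (x : 𝟙_ _ ⟶ G), x ∈ H →
      tpt D.toSplitRed t * x * (tpt D.toSplitRed t)⁻¹ ∈ H := by
    intro t x hx
    induction hx using Subgroup.closure_induction with
    | mem x hx =>
      obtain ⟨a, ha, y, rfl⟩ := hx
      rw [show y ≫ D.u a = rp D.toSplitRed a (Red.gaFn y) by rw [rp, gaPt_gaFn], tpt_conj_rp]
      exact hgen a ha _
    | one => rw [_root_.mul_one, mul_inv_cancel]; exact one_mem H
    | mul x y _ _ hx hy => simpa [_root_.mul_assoc] using mul_mem hx hy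
    | inv x _ hx => simpa [_root_.mul_assoc] using inv_mem hx
  refine eq_top_of_gens D H (fun t => torus_mem_of_coroots D hsc H (fun a ha z => ?_) t)
    fun a ha r => ⟨hgen a (Or.inl ha) r, hneg a ha r⟩
  exact coroot_point_mem hl ha (acts_of_refl (hnr a)) H (hgen a (Or.inl ha)) (hneg a ha) hconj z

end Groth.Agent.S3957
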