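import Groth.Statements.S3958
import Groth.Agent.RedPts82.BruhatCells
import Groth.Agent.RedPts82.PinnedGen

set_option autoImplicit false
open CategoryTheory MonoidalCategory CartesianMonoidalCategory MonObj GrpObj AlgebraicGeometry
universe u
open RedSub

namespace Groth.Agent.S3958

open Groth.Agent.RedPts82

/-- (ii) implies (i), with the target a group scheme: let G be a reductive S-group with a pinning D and
H an S-group scheme. Two homomorphisms f, g : G ⟶ H which agree on the torus T and on the root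
groups U_a and U_{-a} for every simple root a are equal. -/
theorem result {S : Scheme.{u}} {G H : Over S} [GrpObj G] [GrpObj H]
    (D : Red.Pinning G) (f g : G ⟶ H) [IsMonHom f] [IsMonHom g] (hT : D.i ≫ f = D.i ≫ g)
    (hU : ∀ a : D.idx, a ∈ D.base.support → D.u a ≫ f = D.u a ≫ g ∧
      D.u (D.P.reflectionPerm a a) ≫ f = D.u (D.P.reflectionPerm a a) ≫ g) :
    f = g := by
  obtain ⟨l, hl⟩ := exists_baseChamber (D := D.toSplitRed) D.base
  choose nr hnr using D.refl
  have hA : ∀ a, Acts D.toSplitRed (nr a) (RootPairing.Equiv.reflection D.P a) := fun a => acts_of_refl (hnr a)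
  have htpt : ∀ {X : Over S} (t : X ⟶ Red.DS S D.M), tpt D.toSplitRed t ≫ f = tpt D.toSplitRed t ≫ g := by
    intro X t
    simp only [tpt, Category.assoc, hT]
  have hrp : ∀ a ∈ D.base.support, ∀ {X : Over S} (r : Γ(X.left, ⊤)),
      rp D.toSplitRed a r ≫ f = rp D.toSplitRed a r ≫ g ∧
      rp D.toSplitRed (negIdx D.toSplitRed a) r ≫ f = rp D.toSplitRed (negIdx D.toSplitRed a) r ≫ g := by
    intro a ha X r
    obtain ⟨h1, h2⟩ := hU a ha
    exact ⟨by simp only [rp, Category.assoc, h1], by simp only [rp, Category.assoc, h2]⟩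
  have hn : ∀ a ∈ D.base.support, ∀ X : Over S,
      np (nr a) X ≫ f = np (nr a) X ≫ g := by
    intro a ha X
    obtain ⟨p, τ, q, -, h⟩ := (hl.wall ha).exists_form D.base (hA a)
    rw [show np (nr a) X = rp D.toSplitRed (negIdx D.toSplitRed a) (cst X p) * tpt D.toSplitRed (toUnit X ≫ τ) *
        rp D.toSplitRed a (cst X q) * (rp D.toSplitRed (negIdx D.toSplitRed a) 1)⁻¹ by rw [← h X]; group]
    simp only [MonObj.mul_comp, GrpObj.inv_comp, htpt, (hrp a ha _).1, (hrp a ha _).2]
  have hmove : ∀ j ∈ D.base.support, ∀ c, D.u c ≫ f = D.u c ≫ g →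
      D.u (D.P.reflectionPerm j c) ≫ f = D.u (D.P.reflectionPerm j c) ≫ g := by
    intro j hj c hc
    obtain ⟨k, hk⟩ := (hA j).exists_moves_unit D.base c
    refine hom_ext_affine fun Y hY x => ?_
    have h := hk.conj (X := Y) (cst Y ((k⁻¹ : Γ(S, ⊤)ˣ) : Γ(S, ⊤)) * Red.gaFn x)
    rw [← _root_.mul_assoc, cst, cst, ← map_mul, Units.mul_inv, map_one, _root_.one_mul,
      Roots36.reflection_smul_index, show rp D.toSplitRed (D.P.reflectionPerm j c) (Red.gaFn x) =
        x ≫ D.u (D.P.reflectionPerm j c) by rw [rp, gaPt_gaFn]] at h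
    rw [← Category.assoc x, ← Category.assoc x, ← h]
    simp only [MonObj.mul_comp, GrpObj.inv_comp, hn j hj Y, rp, Category.assoc, hc]
  have := isReduced_of_base D.base
  refine hom_ext_of_roots (D := D.toSplitRed) f g hT fun c => ?_
  refine (D.base.induction_reflect c (p := fun c => D.u c ≫ f = D.u c ≫ g ∧
    D.u (negIdx D.toSplitRed c) ≫ f = D.u (negIdx D.toSplitRed c) ≫ g) (fun i hi => ?_) (fun i hi => ?_)
    (fun i j hi hj => ?_)).1
  · exact ⟨hi.2, by rw [show D.P.reflectionPerm i i = negIdx D.toSplitRed i from rfl, negIdx_negIdx]; exact hi.1⟩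
  · exact hU i hi
  · refine ⟨hmove j hj i hi.1, ?_⟩
    rw [negIdx_reflectionPerm]
    exact hmove j hj _ hi.2

end Groth.Agent.S3958
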