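import Groth.Prelude.Def_QuadSing
import Groth.Prelude.Def_Hensel
import Mathlib.RingTheory.FinitePresentation
import Mathlib.RingTheory.Flat.Basic
import Mathlib.RingTheory.Henselian
import Mathlib.Algebra.CharP.Defs
import Groth.Agent.An92.MorseA.Present

set_option autoImplicit false
universe u
namespace VanCyc
end VanCyc
open VanCyc

namespace Groth.Agent.S4008

/-- Let A be a henselian local ring with residue field k, B₀ a finitely presented A-algebra and P a
maximal ideal of B₀ above the maximal ideal of A, with B = (B₀)_P flat over A and residue field B₀/P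
purely inseparable over k (a closed point x of the closed fibre of X = Spec B₀ -> S = Spec A with
k(x) radicial over k). Suppose the closed fibre B/𝔪_A B has at its closed point a non-degenerate
quadratic singularity of dimension n. Then there are a non-degenerate quadratic form Q in n + 1
variables with coefficients in A (coefficient matrix a) and an element b of the maximal ideal of A
such that the henselisation of B is A-isomorphic to the henselisation of A[x_0, …, x_n]/(Q - b) at
the origin of its closed fibre. -/
theorem result (A : Type u) [CommRing A] [HenselianLocalRing A]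
    (B₀ : Type u) [CommRing B₀] [Algebra A B₀] [Algebra.FinitePresentation A B₀]
    (P : Ideal B₀) [P.IsMaximal] (hP : (IsLocalRing.maximalIdeal A).map (algebraMap A B₀) ≤ P)
    (hPi : ∀ y : B₀, ∃ (e : ℕ) (c : A),
      y ^ ringExpChar (IsLocalRing.ResidueField A) ^ e - algebraMap A B₀ c ∈ P)
    [Module.Flat A (Localization.AtPrime P)] (n : ℕ)
    (hq : VanCyc.IsNondegQuadPt (VanCyc.fibHom A (Localization.AtPrime P)) n)
    (Bh : Type u) [CommRing Bh] [IsLocalRing Bh] [Algebra (Localization.AtPrime P) Bh]
    [IsLocalHom (algebraMap (Localization.AtPrime P) Bh)] [Hensel.IsHenselization (Localization.AtPrime P) Bh]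
    [Algebra A Bh] [IsScalarTower A (Localization.AtPrime P) Bh] :
    ∃ (a : Fin (n + 1) → Fin (n + 1) → A) (b : A), VanCyc.QuadNondeg a ∧ b ∈ IsLocalRing.maximalIdeal A ∧
      ∀ [(VanCyc.originQuot A a b).IsPrime] (C : Type u) [CommRing C] [IsLocalRing C]
        [Algebra (Localization.AtPrime (VanCyc.originQuot A a b)) C]
        [IsLocalHom (algebraMap (Localization.AtPrime (VanCyc.originQuot A a b)) C)]
        [Hensel.IsHenselization (Localization.AtPrime (VanCyc.originQuot A a b)) C]
        [Algebra A C] [IsScalarTower A (Localization.AtPrime (VanCyc.originQuot A a b)) C],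
        Nonempty (Bh ≃ₐ[A] C) := by
  classical
  obtain ⟨φ, q, F, hφs, hφκ, hq', hker, hF⟩ :=
    An92.MorseA.exists_presentation (Bh := Bh) P hP hPi n hq
  obtain ⟨Φ, b, hΦ, hΦκ, hb, hΦF⟩ := An92.MorseA.exists_normal A (n + 1) q hq' F hF
  refine ⟨q, b, hq', hb, fun {_} C _ _ _ _ _ _ _ => ?_⟩
  obtain ⟨g, hgs, hgk, hgκ⟩ := An92.MorseA.exists_cone A (n + 1) q b hb C
  refine An92.MorseA.algEquiv_of_ker (An92.MorseA.κ A (n + 1)) φ (g.comp Φ) hφs (hgs.comp hΦ.2) hφκ
    (fun c => ?_) ?_
  · rw [RingHom.comp_apply, hΦκ, hgκ, ← IsScalarTower.algebraMap_apply]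
  · rw [hker, ← RingHom.comap_ker, hgk, ← hΦF]
    let e := RingEquiv.ofBijective Φ hΦ
    have h := Ideal.comap_map_of_bijective Φ hΦ (I := Ideal.span {F})
    rw [Ideal.map_span, Set.image_singleton] at h
    exact h.symm

end Groth.Agent.S4008
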