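import Groth.Prelude.Def_QuadSing
import Groth.Prelude.Def_Hensel
import Mathlib.RingTheory.FinitePresentation
import Mathlib.RingTheory.Flat.Basic
import Mathlib.RingTheory.Henselian
import Mathlib.Algebra.CharP.Defs
import Groth.Agent.An92.MorseD.Main

set_option autoImplicit false
universe u
namespace VanCyc
end VanCyc
open VanCyc

namespace Groth.Agent.S4014

/-- Let A be a henselian local ring whose residue field k has characteristic 2, B₀ a finitely presented
A-algebra and P a maximal ideal of B₀ above the maximal ideal of A, with B = (B₀)_P flat over A and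
B₀/P = k (a k-rational point). Suppose the closed fibre B/𝔪_A B has at its closed point an ordinary
quadratic singularity of even dimension 2m which is degenerate, i.e. not non-degenerate (in
characteristic 2 and even dimension every ordinary quadratic point is degenerate). Then there are a
non-degenerate quadratic form Q' in 2m variables over A (coefficient matrix a'), b in the maximal
ideal of A and c in A such that the henselisation of B is A-isomorphic to the henselisation of
A[x_0, …, x_{2m}]/(x_0² + b x_0 + c + Q'(x_1, …, x_{2m})) at the point of its closed fibre where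
x_1, …, x_{2m} vanish (the unique maximal ideal containing 𝔪_A and x_1, …, x_{2m}). (The published
statement allows a residue field purely inseparable over k; there it fails, because the quadratic
form of the model has its coefficients in A, so the rational case is taken here.) -/
theorem result (A : Type u) [CommRing A] [HenselianLocalRing A]
    (hA : CharP (IsLocalRing.ResidueField A) 2)
    (B₀ : Type u) [CommRing B₀] [Algebra A B₀] [Algebra.FinitePresentation A B₀]
    (P : Ideal B₀) [P.IsMaximal] (hP : (IsLocalRing.maximalIdeal A).map (algebraMap A B₀) ≤ P)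
    (hPi : ∀ y : B₀, ∃ c : A, y - algebraMap A B₀ c ∈ P)
    [Module.Flat A (Localization.AtPrime P)] (m : ℕ)
    (hq : VanCyc.IsOrdQuadPt (VanCyc.fibHom A (Localization.AtPrime P)) (2 * m))
    (hq' : ¬ VanCyc.IsNondegQuadPt (VanCyc.fibHom A (Localization.AtPrime P)) (2 * m))
    (Bh : Type u) [CommRing Bh] [IsLocalRing Bh] [Algebra (Localization.AtPrime P) Bh]
    [IsLocalHom (algebraMap (Localization.AtPrime P) Bh)] [Hensel.IsHenselization (Localization.AtPrime P) Bh]
    [Algebra A Bh] [IsScalarTower A (Localization.AtPrime P) Bh] :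
    ∃ (a' : Fin (2 * m) → Fin (2 * m) → A) (b c : A), VanCyc.QuadNondeg a' ∧ b ∈ IsLocalRing.maximalIdeal A ∧
      ∀ (Q : Ideal (VanCyc.degQuadRing A a' b c)) [Q.IsMaximal], VanCyc.sideIdeal A a' b c ≤ Q →
        ∀ (C : Type u) [CommRing C] [IsLocalRing C] [Algebra (Localization.AtPrime Q) C]
          [IsLocalHom (algebraMap (Localization.AtPrime Q) C)] [Hensel.IsHenselization (Localization.AtPrime Q) C]
          [Algebra A C] [IsScalarTower A (Localization.AtPrime Q) C],
          Nonempty (Bh ≃ₐ[A] C) := by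
  classical
  haveI := hA
  obtain ⟨φ, a', β, γ, hφs, hφκ, ha', hβ, hγ, hker⟩ :=
    An92.MorseD.exists_deg_presentation (Bh := Bh) P hP hPi hq
  refine ⟨a', β, γ, ha', hβ, fun Q _ hside C _ _ _ _ _ _ _ => ?_⟩
  let p₀ := VanCyc.degQuadPoly A a' β γ
  let mk := Ideal.Quotient.mk (Ideal.span {p₀})
  have hp : p₀ ∈ An92.MorseA.org A (2 * m + 1) := by
    rw [An92.MorseA.mem_org_iff]
    show MvPolynomial.constantCoeff (MvPolynomial.X 0 ^ 2 + MvPolynomial.C β * MvPolynomial.X 0 + MvPolynomial.C γ +
      MvPolynomial.rename Fin.succ (VanCyc.quadPoly a')) ∈ _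
    rw [map_add, map_add, map_add]
    refine add_mem (add_mem (add_mem ?_ ?_) ?_) ?_
    · simp
    · simp
    · simpa using hγ
    · rw [QS97.quadPoly_eq_quadEval, QS97.map_quadEval, QS97.map_quadEval]
      simp [VanCyc.quadEval]
  have hC : ∀ a ∈ IsLocalRing.maximalIdeal A, mk (MvPolynomial.C a) ∈ Q := fun a ha =>
    hside (Ideal.mem_map_of_mem _ (Ideal.mem_sup_left (Ideal.mem_map_of_mem _ ha)))
  have hXs : ∀ i : Fin (2 * m), mk (MvPolynomial.X i.succ) ∈ Q := fun i =>
    hside (Ideal.mem_map_of_mem _ (Ideal.mem_sup_right (Ideal.subset_span ⟨i, rfl⟩)))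
  have hX0 : mk (MvPolynomial.X 0) ∈ Q := by
    have h0 : mk (MvPolynomial.X 0 ^ 2 + MvPolynomial.C β * MvPolynomial.X 0 + MvPolynomial.C γ +
        MvPolynomial.rename Fin.succ (VanCyc.quadPoly a')) = 0 :=
      Ideal.Quotient.eq_zero_iff_mem.2 (Ideal.mem_span_singleton_self p₀)
    rw [map_add, map_add, map_add, map_pow, map_mul] at h0
    have h1 : mk (MvPolynomial.C β) * mk (MvPolynomial.X 0) ∈ Q := Q.mul_mem_right _ (hC β hβ)
    have h2 : mk (MvPolynomial.rename Fin.succ (VanCyc.quadPoly a')) ∈ Q := by
      rw [QS97.quadPoly_eq_quadEval, QS97.map_quadEval, QS97.map_quadEval]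
      refine sum_mem fun i _ => sum_mem fun j _ => ?_
      split
      · refine Q.mul_mem_left _ ?_
        show mk (MvPolynomial.rename Fin.succ (MvPolynomial.X j)) ∈ Q
        rw [MvPolynomial.rename_X]
        exact hXs j
      · exact zero_mem _
    refine (‹Q.IsMaximal›).isPrime.mem_of_pow_mem 2 ?_
    rw [show mk (MvPolynomial.X 0) ^ 2 = -(mk (MvPolynomial.C β) * mk (MvPolynomial.X 0) + mk (MvPolynomial.C γ) +
      mk (MvPolynomial.rename Fin.succ (VanCyc.quadPoly a'))) by linear_combination h0]
    exact neg_mem (add_mem (add_mem h1 (hC γ hγ)) h2)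
  have hle : An92.MorseA.org A (2 * m + 1) ≤ Q.comap mk := by
    rw [An92.MorseA.org_eq]
    refine sup_le (Ideal.map_le_iff_le_comap.2 hC) (Ideal.span_le.2 ?_)
    rintro _ ⟨i, rfl⟩
    exact Fin.cases hX0 hXs i
  haveI hom : (An92.MorseA.org A (2 * m + 1)).IsMaximal :=
    RingHom.ker_isMaximal_of_surjective _ fun x => by
      obtain ⟨a, rfl⟩ := IsLocalRing.residue_surjective x
      exact ⟨MvPolynomial.C a, by simp⟩
  have heq : An92.MorseA.org A (2 * m + 1) = Q.comap mk :=
    hom.eq_of_le (Ideal.IsPrime.ne_top (Ideal.IsPrime.comap mk)) hle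
  have hQ : Q = (An92.MorseA.org A (2 * m + 1)).map mk := by
    rw [heq, Ideal.map_comap_of_surjective _ Ideal.Quotient.mk_surjective]
  obtain ⟨g, hgs, hgk, hgκ⟩ := An92.MorseD.exists_cone_poly A (2 * m + 1) p₀ hp Q hQ C
  exact An92.MorseA.algEquiv_of_ker (An92.MorseA.κ A (2 * m + 1)) φ g hφs hgs hφκ
    (fun c => (hgκ c).trans (IsScalarTower.algebraMap_apply A (Localization.AtPrime Q) C c).symm)
    (hker.trans hgk.symm)

end Groth.Agent.S4014
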