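import Groth.Prelude.Def_LefPen
import Mathlib.FieldTheory.IsAlgClosed.Basic
import Mathlib.AlgebraicGeometry.Morphisms.ClosedImmersion
import Mathlib.AlgebraicGeometry.Morphisms.Smooth
import Groth.Agent.An92.Lef.Through

set_option autoImplicit false
universe u
open CategoryTheory CategoryTheory.Limits AlgebraicGeometry
namespace LefPen
end LefPen
open LefPen

namespace Groth.Agent.S4019

open Groth.Agent.An92.Lef in
/-- Let k be an algebraically closed field and X an irreducible smooth proper k-scheme of dimension n ≥
1 embedded in projective r-space by a closed immersion i. For every d ≥ 2 the composite of i with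
the d-uple embedding is a Lefschetz embedding: the pairs (F, G) of degree-d forms spanning a
Lefschetz pencil for X (independent forms; base locus X ∩ V(F, G) a transversal section; all but
finitely many members transversal to X; each other member cutting X in a scheme smooth except at one
ordinary quadratic singularity) contain the non-vanishing locus of a polynomial function of the
coefficients that is not identically zero, i.e. a dense open set of the space of pencils. -/
theorem result (k : Type u) [Field k] [IsAlgClosed k] (r n : ℕ) (hn : 1 ≤ n)
    {X : Scheme.{u}} (i : X ⟶ CohB1.ProjSpace r k) [IsClosedImmersion i] [IrreducibleSpace X]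
    [SmoothOfRelativeDimension n (i ≫ CohB1.ProjSpace.toSpec r k)]
    (d : ℕ) (hd : 2 ≤ d) : LefPen.IsLefschetzEmb k n i d := by
  obtain ⟨m, rfl⟩ : ∃ m, n = m + 1 := ⟨n - 1, by omega⟩
  have : Smooth (i ≫ CohB1.ProjSpace.toSpec r k) := SmoothOfRelativeDimension.smooth (m + 1) _
  have : IsReduced X := Groth.Agent.SpFP87.isReduced_of_smooth (i ≫ CohB1.ProjSpace.toSpec r k)
  have : IsIntegral X := isIntegral_of_irreducibleSpace_of_isReduced X
  exact isLefschetzEmb_of_two_le i hd

end Groth.Agent.S4019
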