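import Groth.Prelude.Def_LefPen
import Mathlib.FieldTheory.IsAlgClosed.Basic
import Mathlib.AlgebraicGeometry.Morphisms.ClosedImmersion
import Mathlib.AlgebraicGeometry.Morphisms.Smooth
import Groth.Agent.An92.Lef.Through

set_option autoImplicit false
universe u
open CategoryTheory CategoryTheory.Limits AlgebraicGeometry
namespace LefPen
end LefPen
open LefPen

namespace Groth.Agent.S4022

open Groth.Agent.An92.Lef in
/-- Let k be an algebraically closed field and X an irreducible smooth proper k-scheme of dimension n ≥
1 embedded in projective r-space by a closed immersion i; let d ≥ 1 be such that the degree-d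
embedding is a Lefschetz embedding, and let H₀ be a degree-d form whose hypersurface cuts X
transversally. Then the forms G such that (H₀, G) spans a Lefschetz pencil contain the non-vanishing
locus of a not identically zero polynomial function: the Lefschetz pencils through H₀ are dense open
among pencils through H₀. -/
theorem result (k : Type u) [Field k] [IsAlgClosed k] (r n : ℕ) (hn : 1 ≤ n)
    {X : Scheme.{u}} (i : X ⟶ CohB1.ProjSpace r k) [IsClosedImmersion i] [IrreducibleSpace X]
    [SmoothOfRelativeDimension n (i ≫ CohB1.ProjSpace.toSpec r k)]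
    (d : ℕ) (hd : 1 ≤ d) (hL : LefPen.IsLefschetzEmb k n i d) (H₀ : LefPen.Form r k d)
    (hH₀ : LefPen.Transversal k n 1 (LefPen.secToSpec i ({H₀} : Set (LefPen.Form r k d)))) :
    LefPen.IsGeneric k {G : LefPen.Form r k d | LefPen.IsLefschetzPencil k n i d H₀ G} := by
  obtain ⟨m, rfl⟩ : ∃ m, n = m + 1 := ⟨n - 1, by omega⟩
  have : Smooth (i ≫ CohB1.ProjSpace.toSpec r k) := SmoothOfRelativeDimension.smooth (m + 1) _
  have : IsReduced X := Groth.Agent.SpFP87.isReduced_of_smooth (i ≫ CohB1.ProjSpace.toSpec r k)
  have : IsIntegral X := isIntegral_of_irreducibleSpace_of_isReduced X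
  exact isGeneric_through i hd hH₀ (fun g hg => no_hyp_of_isLefschetzEmb i hL g hg)

end Groth.Agent.S4022
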