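import Groth.Statements.S4024
import Groth.Agent.TwoPoint38.Basic

set_option autoImplicit false
universe u
open CategoryTheory CategoryTheory.Limits AlgebraicGeometry
open LefPen

namespace Groth.Agent.S4024

/-- Let k be a field (the source works over an algebraically closed field; the count is the same over
any field), d ≥ 2, x₁ = [v₁] and x₂ = [v₂] two distinct points of projective r-space and P(W₁) ∋ x₁,
P(W₂) ∋ x₂ linear subspaces. In the space of degree-d forms, those whose hypersurface passes through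
x₁ tangentially to P(W₁) and through x₂ tangentially to P(W₂) form a linear subspace of codimension
dim P(W₁) + dim P(W₂) + 2 = dim W₁ + dim W₂ when d ≥ 3 or when the line x₁x₂ is not contained in
both P(W₁) and P(W₂), and of codimension dim W₁ + dim W₂ - 1 when d = 2 and the line x₁x₂ lies in
P(W₁) ∩ P(W₂). -/
theorem result (k : Type u) [Field k] (r d : ℕ) (hd : 2 ≤ d)
    (W₁ W₂ : Submodule k (Fin (r + 1) → k)) (v₁ v₂ : Fin (r + 1) → k) (h₁ : v₁ ∈ W₁) (h₂ : v₂ ∈ W₂)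
    (hv : LinearIndependent k ![v₁, v₂]) :
    ((3 ≤ d ∨ ¬ (v₂ ∈ W₁ ∧ v₁ ∈ W₂)) →
      Module.finrank k (LefPen.Form r k d) =
        Module.finrank k ↥(LefPen.tangentForms k d W₁ v₁ W₂ v₂) + (Module.finrank k ↥W₁ + Module.finrank k ↥W₂)) ∧
    ((d = 2 ∧ v₂ ∈ W₁ ∧ v₁ ∈ W₂) →
      Module.finrank k (LefPen.Form r k d) + 1 =
        Module.finrank k ↥(LefPen.tangentForms k d W₁ v₁ W₂ v₂) + (Module.finrank k ↥W₁ + Module.finrank k ↥W₂)) := by
  obtain ⟨a, -, a1, a2⟩ : ∃ a : (Fin (r + 1) → k) →ₗ[k] k, (∀ u : (⊥ : Submodule k (Fin (r + 1) → k)), a u = 0) ∧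
      a v₁ = 1 ∧ a v₂ = 0 := by
    refine TwoPoint38.exists_functional₂ ⊥ 0 (by simpa using hv.ne_zero 0) ?_ 1 0
    rw [bot_sup_eq]
    intro h
    obtain ⟨c, hc⟩ := Submodule.mem_span_singleton.1 h
    have := (LinearIndependent.pair_iff.1 hv) c (-1) (by rw [hc, neg_one_smul, add_neg_cancel])
    simp at this
  obtain ⟨b, -, b1, b2⟩ : ∃ b : (Fin (r + 1) → k) →ₗ[k] k, (∀ u : (⊥ : Submodule k (Fin (r + 1) → k)), b u = 0) ∧
      b v₂ = 1 ∧ b v₁ = 0 := by
    refine TwoPoint38.exists_functional₂ ⊥ 0 (by simpa using hv.ne_zero 1) ?_ 1 0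
    rw [bot_sup_eq]
    intro h
    obtain ⟨c, hc⟩ := Submodule.mem_span_singleton.1 h
    have := (LinearIndependent.pair_iff.1 hv) (-1) c (by rw [hc, neg_one_smul, neg_add_cancel])
    simp at this
  obtain ⟨e₁, n₁, o₁⟩ := TwoPoint38.split_line W₁ h₁ a a1
  obtain ⟨e₂, n₂, o₂⟩ := TwoPoint38.split_line W₂ h₂ b b1
  have hk₁ := TwoPoint38.ker_tangLin (d := d) W₁ _ v₁ h₁ e₁
  have hk₂ := TwoPoint38.ker_tangLin (d := d) W₂ _ v₂ h₂ e₂
  constructor
  · intro hgen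
    have hgen' : 3 ≤ d ∨ v₂ ∉ (W₁ ⊓ LinearMap.ker a) ⊔ Submodule.span k {v₁} ∨
        v₁ ∉ (W₂ ⊓ LinearMap.ker b) ⊔ Submodule.span k {v₂} := by
      rw [← e₁, ← e₂]
      tauto
    have h := TwoPoint38.finrank_eq hd _ _ hv o₁ o₂ hgen'
    rw [← hk₁, ← hk₂] at h
    show _ = Module.finrank k ↥(LinearMap.ker (LefPen.tangLin k W₁ v₁) ⊓ LinearMap.ker (LefPen.tangLin k W₂ v₂)) + _
    omega
  · rintro ⟨rfl, h21, h12⟩
    let U₂ := W₂ ⊓ LinearMap.ker b
    have hv1U : v₁ ∈ U₂ := ⟨h12, b2⟩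
    obtain ⟨e₃, n₃, o₃⟩ := TwoPoint38.split_line U₂ hv1U a a1
    have hv1' : v₁ ∉ (U₂ ⊓ LinearMap.ker a) ⊔ Submodule.span k {v₂} := by
      intro h
      obtain ⟨x, hx, y, hy, hxy⟩ := Submodule.mem_sup.1 h
      obtain ⟨c, rfl⟩ := Submodule.mem_span_singleton.1 hy
      have := congrArg a hxy
      rw [map_add, map_smul, a1, a2, LinearMap.mem_ker.1 hx.2, smul_zero, add_zero] at this
      exact zero_ne_one this
    have h := TwoPoint38.finrank_eq (d := 2) le_rfl _ (U₂ ⊓ LinearMap.ker a) hv o₁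
      (fun h => o₂ (Submodule.mem_inf.1 h).1) (Or.inr (Or.inr hv1'))
    have hker : LinearMap.ker (TwoPoint38.data 2 (W₁ ⊓ LinearMap.ker a) v₁) ⊓ LinearMap.ker (TwoPoint38.data 2 (U₂ ⊓ LinearMap.ker a) v₂) =
        LinearMap.ker (TwoPoint38.data 2 (W₁ ⊓ LinearMap.ker a) v₁) ⊓ LinearMap.ker (TwoPoint38.data 2 U₂ v₂) := by
      ext G
      simp only [Submodule.mem_inf, LinearMap.mem_ker]
      refine and_congr_right fun h1 => ⟨fun h2 => Prod.ext (congrArg Prod.fst h2 :) (LinearMap.ext fun u => ?_),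
        fun h2 => Prod.ext (congrArg Prod.fst h2 :) (LinearMap.ext fun u => LinearMap.congr_fun (congrArg Prod.snd h2) ⟨u.1, (Submodule.mem_inf.1 u.2).1⟩)⟩
      have hv21 : TwoPoint38.dd v₂ v₁ G.1 = 0 := by
        rw [TwoPoint38.dd_symm G.2]
        have h3 : G ∈ LinearMap.ker (LefPen.tangLin k W₁ v₁) := by rw [hk₁]; exact h1
        have h4 := congrFun (congrArg Prod.snd (LinearMap.mem_ker.1 h3)) ⟨v₂, h21⟩
        simpa [LefPen.tangLin, TwoPoint38.dd_apply] using h4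
      obtain ⟨x, hx, y, hy, hxy⟩ := Submodule.mem_sup.1 (e₃.le u.2)
      obtain ⟨c, rfl⟩ := Submodule.mem_span_singleton.1 hy
      show TwoPoint38.dd v₂ u G.1 = 0
      rw [← hxy, TwoPoint38.dd_add, TwoPoint38.dd_smul, LinearMap.add_apply, LinearMap.smul_apply, hv21, smul_zero, add_zero]
      exact LinearMap.congr_fun (congrArg Prod.snd h2) ⟨x, hx⟩
    rw [hker, ← hk₁, ← hk₂] at h
    show _ = Module.finrank k ↥(LinearMap.ker (LefPen.tangLin k W₁ v₁) ⊓ LinearMap.ker (LefPen.tangLin k W₂ v₂)) + _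
    simp only [U₂] at n₃ h
    omega

end Groth.Agent.S4024
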