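import Groth.Prelude.Def_LefPen
import Mathlib.FieldTheory.IsAlgClosed.Basic
import Mathlib.AlgebraicGeometry.Morphisms.ClosedImmersion
import Mathlib.AlgebraicGeometry.Morphisms.Smooth
import Groth.Agent.An92.Lef.Near
import Groth.Agent.An92.Lef.Irred

set_option autoImplicit false
universe u
open CategoryTheory CategoryTheory.Limits AlgebraicGeometry
namespace LefPen
end LefPen
open LefPen

namespace Groth.Agent.S4025

open Groth.Agent.An92.Lef in
/-- Let k be an algebraically closed field and X an irreducible smooth proper k-scheme of dimension n ≥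
1 embedded in projective r-space by a closed immersion i, and let d ≥ 1. Inside the dual variety
(the forms whose hypersurface does not cut X transversally), the forms H such that X ∩ V(H) is
smooth except at exactly one point which is an ordinary quadratic singularity form an open subset:
around each such H₀ there is a polynomial function on the space of forms, non-zero at H₀, whose
non-vanishing locus meets the dual variety only in such forms. -/
theorem result (k : Type u) [Field k] [IsAlgClosed k] (r n : ℕ) (hn : 1 ≤ n)
    {X : Scheme.{u}} (i : X ⟶ CohB1.ProjSpace r k) [IsClosedImmersion i] [IrreducibleSpace X]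
    [SmoothOfRelativeDimension n (i ≫ CohB1.ProjSpace.toSpec r k)]
    (d : ℕ) (hd : 1 ≤ d) (H₀ : LefPen.Form r k d) (hH₀ : LefPen.OneOrdQuad k n i H₀) :
    ∃ f : LefPen.Form r k d → k, LefPen.IsPolyFun k f ∧ f H₀ ≠ 0 ∧
      ∀ H : LefPen.Form r k d, ¬ LefPen.Transversal k n 1 (LefPen.secToSpec i ({H} : Set (LefPen.Form r k d))) →
        f H ≠ 0 → LefPen.OneOrdQuad k n i H := by
  obtain ⟨m, rfl⟩ : ∃ m, n = m + 1 := ⟨n - 1, by omega⟩
  have : Smooth (i ≫ CohB1.ProjSpace.toSpec r k) := SmoothOfRelativeDimension.smooth (m + 1) _
  have : IsReduced X := Groth.Agent.SpFP87.isReduced_of_smooth (i ≫ CohB1.ProjSpace.toSpec r k)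
  have : IsIntegral X := isIntegral_of_irreducibleSpace_of_isReduced X
  exact exists_oneOrdQuad_nbhd i H₀ hH₀

end Groth.Agent.S4025
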