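import Groth.Statements.S4027
import Mathlib

set_option autoImplicit false
universe u
open LefPen

namespace Groth.Agent.S4027

/-- Let k be an algebraically closed field, r ≥ 2, and F ∈ k[X_1, …, X_r] an irreducible polynomial with
F(0) ≠ 0 (in the source the origin is the base point of the lines considered and lies off the
hypersurface F = 0; without this the claim fails, e.g. for X_1 - X_2^2). Then the polynomial G(T) =
F(X_1 T, …, X_r T), with coefficients in the field of rational functions k(X_1, …, X_r), is
irreducible. -/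
theorem result (k : Type u) [Field k] [IsAlgClosed k] (r : ℕ) (hr : 2 ≤ r)
    (F : MvPolynomial (Fin r) k) (hF : Irreducible F) (hF0 : MvPolynomial.eval (fun _ => (0 : k)) F ≠ 0) :
    Irreducible ((MvPolynomial.eval₂ (Polynomial.C.comp MvPolynomial.C)
        (fun j => Polynomial.C (MvPolynomial.X j) * Polynomial.X) F).map
      (algebraMap (MvPolynomial (Fin r) k) (FractionRing (MvPolynomial (Fin r) k)))) := by
  classical
  let σ : (MvPolynomial (Fin r) k) →+* Polynomial (MvPolynomial (Fin r) k) := MvPolynomial.eval₂Hom (Polynomial.C.comp MvPolynomial.C)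
    (fun j => Polynomial.C (MvPolynomial.X j) * Polynomial.X)
  let K := FractionRing (Polynomial (MvPolynomial (Fin r) k))
  show Irreducible ((σ F).map (algebraMap (MvPolynomial (Fin r) k) (FractionRing (MvPolynomial (Fin r) k))))
  let ev : Polynomial (MvPolynomial (Fin r) k) →+* (MvPolynomial (Fin r) k) := Polynomial.evalRingHom 1
  have hev : ev.comp σ = RingHom.id (MvPolynomial (Fin r) k) := MvPolynomial.ringHom_ext (fun c => by simp [σ, ev]) fun j => by simp [σ, ev]
  have hev' : ∀ p, ev (σ p) = p := fun p => congr($hev p)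
  let z : Polynomial (MvPolynomial (Fin r) k) →+* k := (MvPolynomial.eval (fun _ => (0 : k))).comp (Polynomial.evalRingHom 0)
  have hz : z.comp σ = MvPolynomial.eval (fun _ => (0 : k)) :=
    MvPolynomial.ringHom_ext (fun c => by simp [σ, z]) fun j => by simp [σ, z]
  have hz0 : z (σ F) ≠ 0 := by rw [← RingHom.comp_apply, hz]; exact hF0
  have hcoeff : (σ F).coeff 0 = MvPolynomial.C (MvPolynomial.eval (fun _ => (0 : k)) F) := by
    have : (Polynomial.evalRingHom (0 : (MvPolynomial (Fin r) k))).comp σ = MvPolynomial.C.comp (MvPolynomial.eval (fun _ => (0 : k))) :=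
      MvPolynomial.ringHom_ext (fun c => by simp [σ]) fun j => by simp [σ]
    rw [Polynomial.coeff_zero_eq_eval_zero]
    exact congr($this F)
  have hprim : (σ F).IsPrimitive := fun a ha => by
    have h1 : a ∣ (σ F).coeff 0 := Polynomial.C_dvd_iff_dvd_coeff _ _ |>.1 ha 0
    rw [hcoeff] at h1
    exact isUnit_of_dvd_unit h1 ((isUnit_iff_ne_zero.2 hF0).map MvPolynomial.C)
  refine hprim.irreducible_iff_irreducible_map_fraction_map.1 ⟨fun hu => hF.not_isUnit (hev' F ▸ hu.map ev), ?_⟩
  intro A B hAB
  have key : ∀ A B : Polynomial (MvPolynomial (Fin r) k), σ F = A * B → IsUnit (ev A) → IsUnit A := by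
    intro A B hAB hu
    let θ₀ : (MvPolynomial (Fin r) k) →+* (LaurentPolynomial (Polynomial (MvPolynomial (Fin r) k))) := MvPolynomial.eval₂Hom (LaurentPolynomial.C.comp (Polynomial.C.comp MvPolynomial.C))
      (fun j => LaurentPolynomial.C (Polynomial.C (MvPolynomial.X j)) * LaurentPolynomial.T 1)
    let θ : Polynomial (MvPolynomial (Fin r) k) →+* (LaurentPolynomial (Polynomial (MvPolynomial (Fin r) k))) :=
      Polynomial.eval₂RingHom θ₀
        (LaurentPolynomial.C (Polynomial.X : Polynomial (MvPolynomial (Fin r) k)) * LaurentPolynomial.T (-1))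
    have hθσ : θ.comp σ = LaurentPolynomial.C.comp σ := by
      refine MvPolynomial.ringHom_ext (fun c => by simp [σ, θ, θ₀]) fun j => ?_
      simp only [σ, θ, θ₀, RingHom.comp_apply, MvPolynomial.eval₂Hom_X', Polynomial.coe_eval₂RingHom,
        Polynomial.eval₂_C, Polynomial.eval₂_X, map_mul]
      have hTT : (LaurentPolynomial.T 1 * LaurentPolynomial.T (-1) :
          LaurentPolynomial (Polynomial (MvPolynomial (Fin r) k))) = 1 := by
        rw [← LaurentPolynomial.T_add, show (1 : ℤ) + -1 = 0 by norm_num, LaurentPolynomial.T_zero]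
      linear_combination (LaurentPolynomial.C (Polynomial.C (MvPolynomial.X j)) *
        LaurentPolynomial.C (Polynomial.X : Polynomial (MvPolynomial (Fin r) k))) * hTT
    obtain ⟨a, p, hp⟩ := LaurentPolynomial.exists_T_pow (θ A)
    obtain ⟨b, q, hq⟩ := LaurentPolynomial.exists_T_pow (θ B)
    have hne : σ F ≠ 0 := fun h => hz0 (by rw [h, map_zero])
    have hpq : p * q = Polynomial.C (σ F) * Polynomial.X ^ (a + b) := Polynomial.toLaurent_injective (by
      have h1 : θ A * θ B = LaurentPolynomial.C (σ F) := by
        rw [← map_mul, ← hAB]; exact congr($hθσ F)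
      rw [map_mul, hp, hq, map_mul, Polynomial.toLaurent_C, Polynomial.toLaurent_X_pow, Nat.cast_add,
        LaurentPolynomial.T_add]
      linear_combination (LaurentPolynomial.T (a : ℤ) * LaurentPolynomial.T (b : ℤ)) * h1)
    have hpq0 : p * q ≠ 0 := by
      rw [hpq]; exact mul_ne_zero (Polynomial.C_ne_zero.2 hne) (pow_ne_zero _ Polynomial.X_ne_zero)
    have hp0 := left_ne_zero_of_mul hpq0
    have hq0 := right_ne_zero_of_mul hpq0
    have hdeg : p.natTrailingDegree = p.natDegree := by
      have e1 := Polynomial.natDegree_mul hp0 hq0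
      have e2 := Polynomial.natTrailingDegree_mul hp0 hq0
      rw [hpq, Polynomial.C_mul_X_pow_eq_monomial, Polynomial.natDegree_monomial_eq _ hne] at e1
      rw [hpq, Polynomial.C_mul_X_pow_eq_monomial, Polynomial.natTrailingDegree_monomial hne] at e2
      have := Polynomial.natTrailingDegree_le_natDegree p
      have := Polynomial.natTrailingDegree_le_natDegree q
      omega
    have hmon : p = Polynomial.C p.leadingCoeff * Polynomial.X ^ p.natDegree := by
      ext1 i
      rw [Polynomial.coeff_C_mul_X_pow]
      rcases lt_trichotomy i p.natDegree with h | h | h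
      · rw [if_neg h.ne, Polynomial.coeff_eq_zero_of_lt_natTrailingDegree (hdeg ▸ h)]
      · rw [if_pos h, h]; rfl
      · rw [if_neg h.ne', Polynomial.coeff_eq_zero_of_natDegree_lt h]
    obtain ⟨α, e, hα⟩ : ∃ (α : Polynomial (MvPolynomial (Fin r) k)) (e : ℤ), θ A = LaurentPolynomial.C α * LaurentPolynomial.T e :=
      ⟨p.leadingCoeff, (p.natDegree : ℤ) - a, by
        have h1 : θ A = Polynomial.toLaurent p * LaurentPolynomial.T (-(a : ℤ)) := by
          rw [hp, mul_assoc, ← LaurentPolynomial.T_add, add_neg_cancel, LaurentPolynomial.T_zero, mul_one]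
        rw [h1, hmon, map_mul, Polynomial.toLaurent_C, Polynomial.toLaurent_X_pow, mul_assoc,
          ← LaurentPolynomial.T_add, ← hmon]
        rfl⟩
    have hαA : α = A := by
      let e₁ : (LaurentPolynomial (Polynomial (MvPolynomial (Fin r) k))) →+* Polynomial (MvPolynomial (Fin r) k) := LaurentPolynomial.eval₂ (RingHom.id _) 1
      have : e₁.comp θ = RingHom.id _ := Polynomial.ringHom_ext'
        (MvPolynomial.ringHom_ext (fun c => by simp [e₁, θ, θ₀]) fun j => by simp [e₁, θ, θ₀]) (by simp [e₁, θ])
      have h1 : e₁ (θ A) = A := congr($this A)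
      rw [hα] at h1
      simpa [e₁] using h1
    subst hαA
    have he : e = 0 := by
      let zL : (LaurentPolynomial (Polynomial (MvPolynomial (Fin r) k))) →+* LaurentPolynomial k := LaurentPolynomial.eval₂ (LaurentPolynomial.C.comp z)
        (IsUnit.unit (LaurentPolynomial.isUnit_T 1))
      have hzL : zL.comp θ = LaurentPolynomial.C.comp z := Polynomial.ringHom_ext'
        (MvPolynomial.ringHom_ext (fun c => by simp [zL, θ, θ₀, z]) fun j => by simp [zL, θ, θ₀, z]) (by simp [zL, θ, z])
      have hT : ∀ m : ℤ, zL (LaurentPolynomial.T m) = LaurentPolynomial.T m := fun m => by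
        simp only [zL, LaurentPolynomial.eval₂_T]
        induction m using Int.induction_on with
        | zero => simp
        | succ m ih => rw [zpow_add_one, Units.val_mul, ih, IsUnit.unit_spec, LaurentPolynomial.T_add]
        | pred m ih =>
          refine (IsUnit.unit (LaurentPolynomial.isUnit_T (R := k) 1)).isUnit.mul_left_inj.1 ?_
          rw [← Units.val_mul, ← zpow_add_one, sub_add_cancel, ih, IsUnit.unit_spec, ← LaurentPolynomial.T_add]
          congr 1; ring
      have hzA : z α ≠ 0 := fun h => hz0 (by rw [hAB, map_mul, h, zero_mul])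
      have h1 : zL (θ α) = LaurentPolynomial.C (z α) := congr($hzL α)
      rw [hα, map_mul, hT, show zL (LaurentPolynomial.C α) = LaurentPolynomial.C (z α) by simp [zL]] at h1
      by_contra hne'
      refine hzA ?_
      rw [← LaurentPolynomial.single_eq_C_mul_T, ← LaurentPolynomial.single_eq_C] at h1
      have h2 := congrArg (fun f : LaurentPolynomial k => f.coeff e) h1
      simpa only [AddMonoidAlgebra.coeff_single, Finsupp.single_apply, if_pos, if_neg hne', if_neg (Ne.symm hne')] using h2
    subst he
    rw [LaurentPolynomial.T_zero, mul_one] at hα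
    let uT : Kˣ := Units.mk0 (algebraMap (Polynomial (MvPolynomial (Fin r) k)) K Polynomial.X)
      ((map_ne_zero_iff _ (IsFractionRing.injective (Polynomial (MvPolynomial (Fin r) k)) K)).2 Polynomial.X_ne_zero)
    let eT : (LaurentPolynomial (Polynomial (MvPolynomial (Fin r) k))) →+* K := LaurentPolynomial.eval₂ (algebraMap (Polynomial (MvPolynomial (Fin r) k)) K) uT
    have heT : eT.comp θ = (algebraMap (Polynomial (MvPolynomial (Fin r) k)) K).comp (σ.comp ev) := Polynomial.ringHom_ext'
      (MvPolynomial.ringHom_ext (fun c => by simp [eT, θ, θ₀, σ, ev]) fun j => by simp [eT, θ, θ₀, σ, ev, uT])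
      (by simp [eT, θ, σ, ev, uT])
    have h2 : α = σ (ev α) := IsFractionRing.injective (Polynomial (MvPolynomial (Fin r) k)) K (by
      have := congr($heT α)
      simp only [RingHom.comp_apply] at this
      rw [hα] at this
      simpa [eT] using this)
    rw [h2]
    exact hu.map σ
  rcases hF.isUnit_or_isUnit (show F = ev A * ev B by rw [← map_mul, ← hAB, hev']) with h | h
  · exact Or.inl (key A B hAB h)
  · exact Or.inr (key B A (hAB.trans (mul_comm _ _)) h)

end Groth.Agent.S4027
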