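import Groth.Statements.S4039
import Groth.Agent.An92.Lef.QuadPoints
import Groth.Agent.An92.Lef.QuadCount
import Groth.Agent.An92.Lef.QuadSmooth
import Mathlib.LinearAlgebra.Matrix.BilinearForm

set_option autoImplicit false
universe u
open CategoryTheory CategoryTheory.Limits AlgebraicGeometry
open LefPen

namespace Groth.Agent.S4039

open Groth.Agent.An92.Lef

variable {k : Type u} [Field k] {m : ℕ}

/-- The quadratic form of a form of degree two. -/
noncomputable def qform (G : Form m k 2) : QuadraticForm k (Fin (m + 1) → k) :=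
  LinearMap.BilinMap.toQuadraticMap (Matrix.toBilin' (Matrix.of fun a b => if a ≤ b then formTable G a b else 0))

theorem qform_eq (G : Form m k 2) (v : Fin (m + 1) → k) : qform G v = VanCyc.quadEval (formTable G) v := by
  rw [qform, LinearMap.BilinMap.toQuadraticMap_apply, Matrix.toBilin'_apply, VanCyc.quadEval]
  simp only [Matrix.of_apply]
  refine Finset.sum_congr rfl fun a _ => Finset.sum_congr rfl fun b _ => ?_
  split_ifs <;> ring

theorem qform_eval (G : Form m k 2) (v : Fin (m + 1) → k) : qform G v = MvPolynomial.eval v G.1 := by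
  conv_rhs => rw [← quadPoly_formTable G, ← MvPolynomial.aeval_eq_eval, aeval_quadPoly]
  rw [qform_eq]; rfl

theorem regQ_qform (G : Form m k 2) (h : VanCyc.QuadOrd (formTable G)) : RegQ (qform G) := by
  intro v hv hall
  refine h v (qform_eq G v ▸ hv) (funext fun l => ?_)
  have := hall (Pi.single l 1)
  rw [QuadraticMap.polar, qform_eq, qform_eq, qform_eq, quadEval_taylor, add_assoc, add_sub_cancel_left,
    add_sub_cancel_right, Finset.sum_eq_single l (fun b _ hb => by simp [hb]) (by simp)] at this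
  simpa using this

/-- Let k be a finite field with q elements, n ≥ 0, and Q a quadratic form in n + 2 variables over k
whose zero scheme X = V(Q) ⊆ P^{n+1}_k is smooth over k of relative dimension n (a smooth quadric of
dimension n over k). Then the number of k-rational points of X is Σ_{i=0}^{n} q^i if n is odd, and
Σ_{i=0}^{n} q^i + ε q^{n/2} with ε = 1 or ε = -1 if n is even, where ε = 1 exactly when X is split,
i.e. contains a k-rational linear subspace of dimension n/2 (Q vanishes on a subspace of k^{n+2} of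
dimension n/2 + 1). -/
theorem result (k : Type u) [Field k] [Fintype k] (n : ℕ) (Q : LefPen.Form (n + 1) k 2)
    [SmoothOfRelativeDimension n ((LefPen.hypIdeal Q).subschemeι ≫ CohB1.ProjSpace.toSpec (n + 1) k)] :
    (Odd n → (SgaExt.pointCount ((LefPen.hypIdeal Q).subschemeι ≫ CohB1.ProjSpace.toSpec (n + 1) k) k : ℤ) =
      ∑ i ∈ Finset.range (n + 1), (Fintype.card k : ℤ) ^ i) ∧
    (Even n → ∃ ε : ℤ, (ε = 1 ∨ ε = -1) ∧
      (SgaExt.pointCount ((LefPen.hypIdeal Q).subschemeι ≫ CohB1.ProjSpace.toSpec (n + 1) k) k : ℤ) =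
        (∑ i ∈ Finset.range (n + 1), (Fintype.card k : ℤ) ^ i) + ε * (Fintype.card k : ℤ) ^ (n / 2) ∧
      (ε = 1 ↔ ∃ W : Submodule k (Fin (n + 1 + 1) → k), Module.finrank k ↥W = n / 2 + 1 ∧
        ∀ w ∈ W, MvPolynomial.eval w Q.1 = 0)) := by
  have hQ0 : Q.1 ≠ 0 := form_ne_zero Q
  have : Smooth ((hypIdeal Q).subschemeι ≫ CohB1.ProjSpace.toSpec (n + 1) k) := SmoothOfRelativeDimension.smooth n _
  obtain ⟨ho, he⟩ := card_zeros_regQ (n + 2) (Fin (n + 1 + 1) → k) (qform Q)
    (regQ_qform Q (quadOrd_of_smooth Q hQ0)) (by rw [Module.finrank_fin_fun])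
  rw [pointCount_hyp]
  have hc := card_zeros_eq Q two_ne_zero
  have hZ : Nat.card {v : Fin (n + 1 + 1) → k // qform Q v = 0} =
      Nat.card {v : Fin (n + 1 + 1) → k // MvPolynomial.eval v Q.1 = 0} :=
    Nat.card_congr (Equiv.subtypeEquivRight fun v => by rw [qform_eval])
  rw [hZ] at ho
  set P := Nat.card (Σ j, NormZero Q j)
  set Z := Nat.card {v : Fin (n + 1 + 1) → k // MvPolynomial.eval v Q.1 = 0}
  set q := (Fintype.card k : ℤ) with hq
  have hc' : (Z : ℤ) + P = q * P + 1 := by rw [hq]; exact_mod_cast hc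
  have hq1 : (1 : ℤ) < q := by rw [hq]; exact_mod_cast Fintype.one_lt_card
  have hgeom : (q - 1) * (∑ i ∈ Finset.range (n + 1), q ^ i) = q ^ (n + 1) - 1 := mul_geom_sum q (n + 1)
  refine ⟨fun hn => ?_, fun hn => ?_⟩
  · have h1 := ho (by obtain ⟨c, rfl⟩ := hn; exact ⟨c + 1, by ring⟩)
    rw [pow_succ' q (n + 1)] at h1
    have h2 : (Z : ℤ) = q ^ (n + 1) := mul_left_cancel₀ (by omega) h1
    refine mul_left_cancel₀ (show q - 1 ≠ 0 by omega) ?_
    rw [hgeom]
    linear_combination h2 - hc'
  · obtain ⟨c, hc2⟩ := hn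
    have hn2 : n / 2 = c := by omega
    obtain ⟨ε, hε, h1, hiff⟩ := he (c + 1) (by omega)
    rw [hZ, pow_succ' q (n + 1), pow_succ' q c] at h1
    have h2 : (Z : ℤ) = q ^ (n + 1) + ε * (q - 1) * q ^ c :=
      mul_left_cancel₀ (show q ≠ 0 by omega) (by rw [h1]; ring)
    refine ⟨ε, hε, ?_, hiff.trans ?_⟩
    · rw [hn2]
      refine mul_left_cancel₀ (show q - 1 ≠ 0 by omega) ?_
      rw [mul_add, hgeom]
      linear_combination h2 - hc'
    · rw [hn2, HasIso]
      simp only [qform_eval]

end Groth.Agent.S4039
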