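import Groth.Statements.S4047
import Groth.Agent.AxKatz92.Basic

set_option autoImplicit false
universe u
open LefPen

namespace Groth.Agent.S4047

/-- Let k be a finite field with q elements, F a homogeneous form of degree d > 0 in N variables over k,
and j a natural number with j d < N. Then q^j divides the number of zeros of F in k^N. -/
theorem result (k : Type u) [Field k] [Fintype k] [DecidableEq k] (N d j : ℕ)
    (hd : 0 < d) (F : MvPolynomial (Fin N) k) (hF : F.IsHomogeneous d) (hj : j * d < N) :
    Fintype.card k ^ j ∣ Fintype.card {x : Fin N → k // MvPolynomial.eval x F = 0} := by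
  obtain ⟨p, hchar⟩ := CharP.exists k
  obtain ⟨e, hp, hcard⟩ := FiniteField.card k p
  have : Fact p.Prime := ⟨hp⟩
  exact Groth.Agent.AxKatz92.ax_katz (p := p) N d j hd F hF hj (e : ℕ) e.pos hcard

end Groth.Agent.S4047
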