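import Groth.Statements.S4062
import Groth.Agent.Mono38.Galois

set_option autoImplicit false
universe u
open CategoryTheory CategoryTheory.Limits AlgebraicGeometry MonObj
open SGA7

namespace Groth.Agent.S4062

/-- Let R be a henselian discrete valuation ring with fraction field K and residue field k, λ a prime
invertible in k, Ω a separable closure of K (Aut_K(Ω) carries the Krull topology), W a valuation
subring of Ω lying over R, and ρ a continuous homomorphism from Aut_K(Ω) to GL_n(ℚ_λ). Assume that
no finite extension of k contains all roots of unity of λ-power order (for every finite extension k'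
there is some λ^m such that k' has no primitive λ^m-th root of unity). Then there is an open
subgroup I₁ of Aut_K(Ω) such that ρ(σ) is unipotent for every σ in I₁ lying in the inertia group at
W. -/
theorem result (R K Ω : Type u) [CommRing R] [IsDomain R]
    [IsDiscreteValuationRing R] [HenselianLocalRing R] [Field K] [Algebra R K] [IsFractionRing R K]
    [Field Ω] [Algebra K Ω] [IsSepClosure K Ω] (W : ValuationSubring Ω) (hW : SGA7.LiesOver K R W)
    (lam : ℕ) [Fact lam.Prime] (hlam : (lam : IsLocalRing.ResidueField R) ≠ 0)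
    (hstar : ∀ (k' : Type u) [Field k'] [Algebra (IsLocalRing.ResidueField R) k'],
      FiniteDimensional (IsLocalRing.ResidueField R) k' → ∃ m : ℕ, ∀ ζ : k', ¬ IsPrimitiveRoot ζ (lam ^ m))
    (n : ℕ) (ρ : (Ω ≃ₐ[K] Ω) →* Matrix.GeneralLinearGroup (Fin n) (Padic lam)) (hρ : Continuous ρ) :
    ∃ I₁ : OpenSubgroup (Ω ≃ₐ[K] Ω), ∀ σ : Ω ≃ₐ[K] Ω, σ ∈ I₁ → SGA7.IsInertia W σ →
      IsNilpotent ((ρ σ : Matrix (Fin n) (Fin n) (Padic lam)) - 1) := by
  letI : Algebra R Ω := ((algebraMap K Ω).comp (algebraMap R K)).toAlgebra
  haveI : IsScalarTower R K Ω := IsScalarTower.of_algebraMap_eq fun r => rfl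
  exact Mono38.exists_open_subgroup_unipotent hW hlam hstar n ρ hρ

end Groth.Agent.S4062
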