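import Mathlib.Algebra.Homology.DerivedCategory.Ext.ExtClass
import Mathlib.Algebra.Homology.ShortComplex.ShortExact
import Groth.Agent.An92.ExtOne

set_option autoImplicit false
universe w v v'
open CategoryTheory CategoryTheory.Abelian
namespace SGA7
end SGA7
open SGA7
open Groth.Agent.An92 CategoryTheory.Limits

namespace Groth.Agent.S4064

/-- Let P -> F -> R and R -> E -> Q be short exact sequences in an abelian category (F an extension of R
by P, E an extension of Q by R). A blended extension of E by F is an object X with a monomorphism i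
: F -> X and an epimorphism p : X -> E such that P -> X -> E (via i) and F -> X -> Q (via p) are
short exact and F -> X -> E is the composite F -> R -> E. Such an X exists if and only if the
composite of the two extension classes, an element of Ext^2(Q, P), is zero. -/
theorem result {C : Type w} [Category.{v} C] [Abelian C]
    [HasExt.{v'} C] {P F R E Q : C} (a : P ⟶ F) (b : F ⟶ R) (wF : a ≫ b = 0)
    (hF : (ShortComplex.mk a b wF).ShortExact) (c : R ⟶ E) (d : E ⟶ Q) (wE : c ≫ d = 0)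
    (hE : (ShortComplex.mk c d wE).ShortExact) :
    (∃ (X : C) (i : F ⟶ X) (p : X ⟶ E), i ≫ p = b ≫ c ∧
        (∃ w : (a ≫ i) ≫ p = 0, (ShortComplex.mk (a ≫ i) p w).ShortExact) ∧
        (∃ w : i ≫ (p ≫ d) = 0, (ShortComplex.mk i (p ≫ d) w).ShortExact)) ↔
      hE.extClass.comp hF.extClass (rfl : 1 + 1 = 2) = 0 := by
  constructor
  · rintro ⟨X, i, p, hip, ⟨w1, h1⟩, ⟨w2, h2⟩⟩
    have hnat := ShortComplex.ShortExact.extClass_naturality h2 hE
      { τ₁ := b, τ₂ := p, τ₃ := 𝟙 Q,
        comm₁₂ := hip.symm, comm₂₃ := (Category.comp_id _).symm }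
    rw [Ext.mk₀_id_comp] at hnat
    rw [← hnat, Ext.comp_assoc_of_second_deg_zero]
    have : (Ext.mk₀ b).comp hF.extClass (zero_add 1) = 0 := hF.comp_extClass
    rw [this, Ext.comp_zero]
  · intro h0
    obtain ⟨x, hx⟩ : ∃ x : Ext.{v'} Q F 1, x.comp (Ext.mk₀ b) (add_zero 1) = hE.extClass :=
      Ext.covariant_sequence_exact₃ Q hF hE.extClass (n₁ := 2) rfl h0
    obtain ⟨X, i, q, hiq, hX, rfl⟩ := ExtOne.exists_extClass_eq x
    -- extend `b ≫ c` along `i`
    have hz : hX.extClass.comp (Ext.mk₀ (b ≫ c)) (add_zero 1) = 0 := by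
      have h2 : hE.extClass.comp (Ext.mk₀ c) (add_zero 1) = 0 := hE.extClass_comp
      rw [← Ext.mk₀_comp_mk₀, ← Ext.comp_assoc_of_third_deg_zero, hx, h2]
    obtain ⟨p0', hp0'⟩ := Ext.contravariant_sequence_exact₁ hX E (Ext.mk₀ (b ≫ c)) (n₁ := 1) rfl hz
    obtain ⟨p0, rfl⟩ := (Ext.mk₀_bijective _ _).2 p0'
    rw [Ext.mk₀_comp_mk₀] at hp0'
    have hp0 : i ≫ p0 = b ≫ c := (Ext.mk₀_bijective _ _).1 hp0'
    have := hX.epi_g
    have := hX.mono_f
    have := hE.mono_f
    have := hE.epi_g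
    have := hF.epi_g
    have := hF.mono_f
    -- `p0` covers some endomorphism of `Q`
    obtain ⟨e, he⟩ : ∃ e : Q ⟶ Q, q ≫ e = p0 ≫ d := by
      refine ⟨hX.exact.desc (p0 ≫ d) ?_, hX.exact.g_desc _ _⟩
      change i ≫ p0 ≫ d = 0
      rw [← Category.assoc, hp0, Category.assoc, wE, comp_zero]
    have hnat := ShortComplex.ShortExact.extClass_naturality hX hE
      { τ₁ := b, τ₂ := p0, τ₃ := e, comm₁₂ := hp0.symm, comm₂₃ := he.symm }
    change hX.extClass.comp (Ext.mk₀ b) (add_zero 1) =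
      (Ext.mk₀ e).comp hE.extClass (zero_add 1) at hnat
    have hxb : hX.extClass.comp (Ext.mk₀ b) (add_zero 1) = hE.extClass := hx
    rw [hxb] at hnat
    obtain ⟨m', hm'⟩ := Ext.covariant_sequence_exact₃ Q hE (Ext.mk₀ (e - 𝟙 Q)) (n₁ := 1) rfl (by
      rw [sub_eq_add_neg, Ext.mk₀_add, Ext.add_comp, ← hnat, Ext.mk₀_neg, Ext.neg_comp,
        Ext.mk₀_id_comp, add_neg_cancel])
    obtain ⟨m, rfl⟩ := (Ext.mk₀_bijective _ _).2 m'
    rw [Ext.mk₀_comp_mk₀] at hm'
    have hm : m ≫ d = e - 𝟙 Q := (Ext.mk₀_bijective _ _).1 hm'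
    let p := p0 - q ≫ m
    have hip : i ≫ p = b ≫ c := by
      simp only [p, Preadditive.comp_sub, hp0, ← Category.assoc, hiq, zero_comp, sub_zero]
    have hpd : p ≫ d = q := by
      simp only [p, Preadditive.sub_comp, Category.assoc, hm, Preadditive.comp_sub, he,
        Category.comp_id, sub_sub_cancel]
    have hpe : Epi p := by
      rw [Preadditive.epi_iff_cancel_zero]
      intro Z g hg
      have h' : c ≫ g = 0 := by
        rw [← cancel_epi b, comp_zero, ← Category.assoc, ← hip, Category.assoc, hg, comp_zero]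
      have hg' : d ≫ hE.exact.desc g h' = g := hE.exact.g_desc g h'
      rw [← hg'] at hg ⊢
      rw [← Category.assoc, hpd, ← comp_zero (f := q), cancel_epi q] at hg
      rw [hg, comp_zero]
    refine ⟨X, i, p, hip, ⟨?_, ?_⟩, ⟨?_, ?_⟩⟩
    · rw [Category.assoc, hip, ← Category.assoc, wF, zero_comp]
    · refine ShortComplex.ShortExact.mk' ?_ (mono_comp _ _) hpe
      rw [ShortComplex.exact_iff_exact_up_to_refinements]
      intro A x hxp
      change x ≫ p = 0 at hxp
      have hxq : x ≫ q = 0 := by rw [← hpd, ← Category.assoc, hxp, zero_comp]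
      obtain ⟨A₁, π₁, hπ₁, y, hy⟩ := hX.exact.exact_up_to_refinements x hxq
      change π₁ ≫ x = y ≫ i at hy
      have hyb : y ≫ b = 0 := by
        rw [← cancel_mono c, zero_comp, Category.assoc, ← hip, ← Category.assoc, ← hy,
          Category.assoc, hxp, comp_zero]
      obtain ⟨A₂, π₂, hπ₂, z, hz'⟩ := hF.exact.exact_up_to_refinements y hyb
      change π₂ ≫ y = z ≫ a at hz'
      refine ⟨A₂, π₂ ≫ π₁, epi_comp _ _, z, ?_⟩
      change (π₂ ≫ π₁) ≫ x = z ≫ a ≫ i
      exact (Category.assoc _ _ _).trans ((congrArg (π₂ ≫ ·) hy).trans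
        ((Category.assoc _ _ _).symm.trans ((congrArg (· ≫ i) hz').trans (Category.assoc _ _ _))))
    · rw [hpd]; exact hiq
    · have : ∀ (g : X ⟶ Q) (hg : i ≫ g = 0), g = q → (ShortComplex.mk i g hg).ShortExact := by
        rintro g hg rfl
        exact hX
      exact this _ _ hpd

end Groth.Agent.S4064
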