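import Groth.Statements.S4065
import Mathlib

set_option autoImplicit false
universe w v
open CategoryTheory
open SGA7

namespace Groth.Agent.S4065

/-- Let P -> F -> R and R -> E -> Q be short exact sequences in an abelian category and X a blended
extension of E by F: i : F -> X and p : X -> E with i, p composing to F -> R -> E and with P -> X ->
E and F -> X -> Q short exact. Then u ↦ 1_X + (X -> E -> Q -> P -> F -> X) is a bijection from
Hom(Q, P) onto the set of endomorphisms φ of X with i φ = i and φ p = p (the automorphisms of the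
blended extension; every such φ is invertible), and it turns addition into composition (a group
isomorphism Hom(Q, P) ≅ Aut(X)). -/
theorem result {C : Type w} [Category.{v} C] [Abelian C]
    {P F R E Q X : C} (a : P ⟶ F) (b : F ⟶ R) (wF : a ≫ b = 0)
    (hF : (ShortComplex.mk a b wF).ShortExact) (c : R ⟶ E) (d : E ⟶ Q) (wE : c ≫ d = 0)
    (hE : (ShortComplex.mk c d wE).ShortExact) (i : F ⟶ X) (p : X ⟶ E) (hip : i ≫ p = b ≫ c)
    (w₁ : (a ≫ i) ≫ p = 0) (h₁ : (ShortComplex.mk (a ≫ i) p w₁).ShortExact)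
    (w₂ : i ≫ (p ≫ d) = 0) (h₂ : (ShortComplex.mk i (p ≫ d) w₂).ShortExact) :
    Set.BijOn (fun v : Q ⟶ P => 𝟙 X + p ≫ d ≫ v ≫ a ≫ i) Set.univ
      {φ : X ⟶ X | i ≫ φ = i ∧ φ ≫ p = p} ∧
      ∀ v v' : Q ⟶ P, 𝟙 X + p ≫ d ≫ (v + v') ≫ a ≫ i =
        (𝟙 X + p ≫ d ≫ v ≫ a ≫ i) ≫ (𝟙 X + p ≫ d ≫ v' ≫ a ≫ i) := by
  have : Mono (a ≫ i) := h₁.mono_f
  have : Epi (p ≫ d) := h₂.epi_g
  have hw1 : a ≫ i ≫ p = 0 := by simpa using w₁
  refine ⟨⟨fun v _ => ⟨?_, ?_⟩, fun v _ v' _ h => ?_, fun φ hφ => ?_⟩, fun v v' => ?_⟩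
  · have : i ≫ p ≫ d ≫ v ≫ a ≫ i = 0 := by
      rw [← Category.assoc p d, ← Category.assoc i (p ≫ d), w₂, Limits.zero_comp]
    simp [this]
  · simp [hw1]
  · simp only [add_right_inj] at h
    rw [← Category.assoc p d, ← Category.assoc p d] at h
    exact (cancel_mono (a ≫ i)).1 ((cancel_epi (p ≫ d)).1 h)
  · obtain ⟨hi, hp⟩ := hφ
    obtain ⟨k, hk⟩ : ∃ k : Q ⟶ X, (p ≫ d) ≫ k = φ - 𝟙 X :=
      ⟨_, (Limits.CokernelCofork.IsColimit.desc' h₂.gIsCokernel (φ - 𝟙 X) (by simp [hi])).2⟩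
    have hkp : k ≫ p = 0 := by
      rw [← cancel_epi (p ≫ d), ← Category.assoc, hk]
      simp [hp]
    obtain ⟨v, hv⟩ : ∃ v : Q ⟶ P, v ≫ (a ≫ i) = k :=
      ⟨_, (Limits.KernelFork.IsLimit.lift' h₁.fIsKernel k hkp).2⟩
    refine ⟨v, trivial, ?_⟩
    simp only
    rw [← Category.assoc p d, hv, hk]
    abel
  · simp only [Preadditive.comp_add, Preadditive.add_comp, Category.comp_id, Category.id_comp,
      Category.assoc]
    have : a ≫ i ≫ p ≫ d ≫ v' ≫ a ≫ i = 0 := by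
      rw [← Category.assoc i p, ← Category.assoc a, hw1, Limits.zero_comp]
    rw [this]
    simp
    abel

end Groth.Agent.S4065
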