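import Groth.Statements.S4075
import Groth.Agent.Good38.Specialise

set_option autoImplicit false
universe u
open CategoryTheory CategoryTheory.Limits AlgebraicGeometry MonObj
open SGA7

namespace Groth.Agent.S4075

/-- Let R be a henselian discrete valuation ring with fraction field K, Ω a separable closure of K, W a
valuation subring of Ω lying over R, N a group scheme over Spec R which is a Néron model of its
generic fibre A = N_K, an abelian variety, and m an integer invertible in the residue field. For an
m-torsion Ω-point x of A, the inertia group at W fixes x if and only if the point of N underlying x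
specialises to a point of the special fibre of N (x factors through the finite part of the m-torsion
of N): the fixed part of the m-torsion is the inertia invariants. -/
theorem result (R K Ω : Type u) [CommRing R] [IsDomain R]
    [IsDiscreteValuationRing R] [HenselianLocalRing R] [Field K] [Algebra R K] [IsFractionRing R K]
    [Field Ω] [Algebra K Ω] [IsSepClosure K Ω] (W : ValuationSubring Ω) (hW : SGA7.LiesOver K R W)
    (N : Over (Spec (CommRingCat.of R))) [GrpObj N] (hN : SGA7.IsNeron R K N)
    [IsProper ((SGA7.genFib R K).obj N).hom] [GeometricallyIntegral ((SGA7.genFib R K).obj N).hom]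
    (m : ℕ) (hm : (m : IsLocalRing.ResidueField R) ≠ 0)
    (x : SGA7.Pts Ω ((SGA7.genFib R K).obj N)) (hx : x ^ m = 1) :
    (∀ σ : Ω ≃ₐ[K] Ω, SGA7.IsInertia W σ → SGA7.galAct σ x = x) ↔
      ∃ z ∈ SGA7.specialFibreSet R N,
        (x.left ≫ pullback.fst N.hom (Spec.map (CommRingCat.ofHom (algebraMap R K)))).base
          (IsLocalRing.closedPoint Ω) ⤳ z := by
  haveI : IsGalois K Ω := inferInstance
  haveI : Smooth N.hom := hN.1
  haveI : IsSeparated N.hom := hN.2.1
  constructor
  · exact fun h => Good38.exists_etale_of_fixed W hW N hN x h
  · rintro ⟨z, hz, hzs⟩ σ hσ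
    haveI : IsCommMonObj ((SGA7.genFib R K).obj N) :=
      AlgebraicGeometry.isCommMonObj_of_isProper_of_geometricallyIntegral _
    haveI : IsCommMonObj N := Good38.isCommMonObj_of_generic R K N
    have hw : x.left ≫ pullback.snd N.hom (Spec.map (CommRingCat.ofHom (algebraMap R K))) =
        Spec.map (CommRingCat.ofHom (algebraMap K Ω)) := Over.w x
    obtain ⟨g, hg1, hg2⟩ := Good38.exists_lift_of_specializes W hW N.hom
      (x.left ≫ pullback.fst N.hom (Spec.map (CommRingCat.ofHom (algebraMap R K)))) (by
        rw [Category.assoc, pullback.condition, ← Category.assoc, hw, ← Spec.map_comp, ← CommRingCat.ofHom_comp]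
      ) z hz hzs
    have hN' : IsUnit (m : R) := by
      rw [← IsLocalRing.residue_ne_zero_iff_isUnit, map_natCast]
      exact hm
    exact Good38.galAct_torsion_eq_of_lift W hW N m hN' σ hσ x hx g hg1 hg2

end Groth.Agent.S4075
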