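import Groth.Statements.S4088
import Groth.Agent.GrpQ80.GlobalQuot
import Groth.Agent.EGA73.VeryAmplePnAmple
import Groth.Agent.WC97.Fixed
import Groth.Agent.FlatMor66.Thickening

set_option autoImplicit false
universe u
open CategoryTheory MonoidalCategory CartesianMonoidalCategory MonObj GrpObj AlgebraicGeometry CategoryTheory.Limits
open GrpQ

namespace Groth.Agent.S4088

/-- With the object scheme assumed to admit an S-immersion into some P^n_S (a special case of
quasi-projective): let S be locally noetherian and (U, R, s, t, c) a groupoid scheme over S such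
that s is proper and flat, U admits an immersion e into P^n_S over S, and j = (t, s) : R → U ×_S U
is quasi-finite (locally quasi-finite and locally of finite type). Then (t, s) has a coequalizer p :
U → Y in schemes together with q : Y → S through which U → S factors; p is surjective, open, proper
and of finite presentation, q is separated and of finite presentation; R → U ×_Y U is surjective;
and if j is a monomorphism then R ≅ U ×_Y U and p is flat. -/
theorem result (S : Scheme.{u}) [IsLocallyNoetherian S] (G : Grpd.GroupoidScheme S)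
    [IsProper G.s] [Flat G.s] (n : ℕ) (e : G.U ⟶ CohB1.ProjSpaceOver n S) [IsImmersion e]
    (he : e ≫ CohB1.ProjSpaceOver.toBase n S = G.pU) [LocallyQuasiFinite G.j] [LocallyOfFiniteType G.j] :
    ∃ (Y : Scheme.{u}) (p : G.U ⟶ Y) (w : G.t ≫ p = G.s ≫ p) (q : Y ⟶ S),
      Nonempty (IsColimit (Cofork.ofπ p w)) ∧ p ≫ q = G.pU ∧ Surjective p ∧ IsOpenMap p.base ∧ IsProper p ∧
      LocallyOfFinitePresentation p ∧ IsSeparated q ∧ LocallyOfFinitePresentation q ∧ QuasiCompact q ∧
      Function.Surjective (pullback.lift G.t G.s w).base ∧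
      (Mono G.j → IsPullback G.t G.s p p ∧ Flat p) := by
  have := WC97.isProper_toBase n S
  have : IsLocallyNoetherian (CohB1.ProjSpaceOver n S) :=
    LocallyOfFiniteType.isLocallyNoetherian (CohB1.ProjSpaceOver.toBase n S)
  have : QuasiCompact e := by
    rw [quasiCompact_iff_forall_isAffineOpen]
    intro V hV
    have := IsLocallyNoetherian.component_noetherian (X := CohB1.ProjSpaceOver n S) ⟨V, hV⟩
    have : TopologicalSpace.NoetherianSpace (V : Set (CohB1.ProjSpaceOver n S)) := noetherianSpace_of_isAffineOpen V hV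
    rw [e.isEmbedding.isInducing.isCompact_iff]
    exact (TopologicalSpace.noetherianSpace_set_iff _).1 inferInstance _ (Set.image_preimage_subset _ _)
  have : LocallyOfFiniteType G.pU := by rw [← he]; infer_instance
  have : QuasiCompact G.pU := by rw [← he]; infer_instance
  have : IsSeparated G.pU := by rw [← he]; infer_instance
  have hU : RelProj.IsQuasiProjective G.pU := by
    refine ⟨inferInstance, inferInstance, (Scheme.Modules.pullback e).obj (Twist.twistOver n S 1), ?_⟩
    exact EGA73.VeryAmplePnAmple.isRelAmple_of_isRelVeryAmplePn ⟨n, e, inferInstance, he, ⟨Iso.refl _⟩⟩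
  have : IsLocallyNoetherian G.U := LocallyOfFiniteType.isLocallyNoetherian G.pU
  have : LocallyOfFinitePresentation G.s :=
    LocallyOfFinitePresentation.iff_locallyOfFiniteType.2 inferInstance
  have hqs : ∀ x : G.U, ∃ W : G.U.Opens, x ∈ W ∧ GrpQ80.HasQS G W := by
    intro x
    let F := G.pU.fiber (G.pU x)
    have : QuasiCompact (G.pU.fiberToSpecResidueField (G.pU x)) :=
      MorphismProperty.pullback_snd (P := @QuasiCompact) G.pU _ inferInstance
    have : CompactSpace F := QuasiCompact.compactSpace_of_compactSpace (G.pU.fiberToSpecResidueField (G.pU x))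
    obtain ⟨m, hm, hmc⟩ := (isClosed_closure (s := ({G.pU.asFiber x} : Set F))).exists_closed_singleton
      ⟨_, subset_closure rfl⟩
    let z := G.pU.fiberι (G.pU x) m
    have hz : G.pU z = G.pU x := G.pU.range_fiberι (G.pU x) |>.le ⟨m, rfl⟩
    have hzc : closure ({z} : Set G.U) ∩ G.pU ⁻¹' {G.pU z} = {z} := by
      refine Set.eq_singleton_iff_unique_mem.2 ⟨⟨subset_closure rfl, rfl⟩, fun y hy => ?_⟩
      obtain ⟨b, rfl⟩ : y ∈ Set.range (G.pU.fiberι (G.pU x)) := by
        rw [Scheme.Hom.range_fiberι]; exact hy.2.trans hz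
      have h : m ⤳ b := (G.pU.fiberι (G.pU x)).isEmbedding.toIsInducing.specializes_iff.1
        (specializes_iff_mem_closure.2 hy.1)
      have h' := h.mem_closure
      rw [hmc.closure_eq] at h'
      rw [Set.mem_singleton_iff.1 h']
    obtain ⟨W, hzW, hW⟩ := GrpQ80.exists_hasQS_at G hU z hzc
    have hxz : x ⤳ z := by
      have h : G.pU.asFiber x ⤳ m := specializes_iff_mem_closure.2 hm
      have h' := h.map (G.pU.fiberι (G.pU x)).continuous
      rwa [G.pU.fiberι_asFiber] at h'
    exact ⟨W, hxz.mem_open W.2 hzW, hW⟩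
  obtain ⟨Y, p, w, ⟨hc⟩, hsurj, hopen, huc, hlift, hmono, hlft⟩ := GrpQ80.exists_quotient_of_hasQS G hqs
  let q : Y ⟶ S := hc.desc (Cofork.ofπ G.pU (G.t_over.trans G.s_over.symm))
  have hq : p ≫ q = G.pU := Cofork.IsColimit.π_desc hc
  have : LocallyOfFiniteType q := hlft inferInstance inferInstance q hq
  have : IsLocallyNoetherian Y := LocallyOfFiniteType.isLocallyNoetherian q
  have : LocallyOfFiniteType (p ≫ q) := by rw [hq]; infer_instance
  have : LocallyOfFiniteType p := locallyOfFiniteType_of_comp p q
  have : IsSeparated (p ≫ q) := by rw [hq]; infer_instance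
  have : IsSeparated p := IsSeparated.of_comp p q
  have ht : UniversallyClosed G.t := by rw [← G.i_s]; infer_instance
  have : UniversallyClosed p := huc ht
  have : IsProper p := {}
  have : Surjective p := hsurj
  have : QuasiCompact (p ≫ q) := by rw [hq]; infer_instance
  have hqc : QuasiCompact q := FlatMor66.quasiCompact_of_comp_surjective p q
  have hsep : IsSeparated q := by
    have hj : IsProper G.j := by
      have : IsProper (G.j ≫ pullback.snd G.pU G.pU) := by rw [Grpd80.j_snd]; infer_instance
      exact IsProper.of_comp G.j (pullback.snd G.pU G.pU)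
    let pp : pullback G.pU G.pU ⟶ pullback q q :=
      pullback.map _ _ _ _ p p (𝟙 _) (by rw [hq, Category.comp_id]) (by rw [hq, Category.comp_id])
    have hpp : Surjective pp ∧ UniversallyClosed pp :=
      ⟨MorphismProperty.pullbackMap (P := @Surjective) hsurj hsurj hq.symm hq.symm,
       MorphismProperty.pullbackMap (P := @UniversallyClosed) (huc ht) (huc ht) hq.symm hq.symm⟩
    have hd : G.j ≫ pp = (G.t ≫ p) ≫ pullback.diagonal q := by
      apply pullback.hom_ext
      · simp [pp, pullback.map, pullback.lift_fst, Grpd80.j_fst_assoc]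
      · simp [pp, pullback.map, pullback.lift_snd, Grpd80.j_snd_assoc, w]
    have hrange : Set.range (pullback.diagonal q) = pp '' Set.range G.j := by
      apply le_antisymm
      · rintro _ ⟨y, rfl⟩
        obtain ⟨x, rfl⟩ := p.surjective y
        obtain ⟨r, -, hr⟩ := Grpd80.exists_unit G x
        exact ⟨G.j r, ⟨r, rfl⟩, by rw [← Scheme.Hom.comp_apply, hd, Scheme.Hom.comp_apply, Scheme.Hom.comp_apply, hr]⟩
      · rintro _ ⟨_, ⟨r, rfl⟩, rfl⟩
        exact ⟨(G.t ≫ p) r, by rw [← Scheme.Hom.comp_apply, ← hd]; rfl⟩
    exact ⟨IsClosedImmersion.of_isPreimmersion _ (hrange ▸ (have := hpp.2; pp.isClosedMap _ G.j.isClosedMap.isClosed_range))⟩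
  exact ⟨Y, p, w, q, ⟨hc⟩, hq, hsurj, hopen, inferInstance,
    LocallyOfFinitePresentation.iff_locallyOfFiniteType.2 inferInstance, hsep,
    LocallyOfFinitePresentation.iff_locallyOfFiniteType.2 inferInstance, hqc, hlift, hmono⟩

end Groth.Agent.S4088
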