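import Groth.Statements.S4090
import Groth.Agent.GrpQ80.GlobalQuot
import Groth.Agent.EGA73.VeryAmplePnAmple
import Groth.Agent.WC97.Fixed
import Groth.Agent.FlatMor66.Thickening
import Groth.Agent.Unr55.FppfScheme
import Mathlib.AlgebraicGeometry.Morphisms.LocalFlatDescent

set_option autoImplicit false
universe u
open CategoryTheory MonoidalCategory CartesianMonoidalCategory MonObj GrpObj AlgebraicGeometry CategoryTheory.Limits
open GrpQ

namespace Groth.Agent.S4090

/-- With the object scheme assumed to admit an S-immersion into some P^n_S, a special case of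
quasi-projective: let S be any scheme and (U, R, s, t, c) a groupoid scheme over S with U → S of
finite presentation, U admitting a quasi-compact immersion into P^n_S over S, s proper, flat and of
finite presentation, and j = (t, s) quasi-finite. Then (t, s) has a coequalizer p : U → Y in schemes
with q : Y → S factoring U → S; p is surjective, open and universally closed; R → U ×_Y U is
surjective; and if j is a monomorphism then R ≅ U ×_Y U, p is flat and of finite presentation and q
is of finite presentation. -/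
theorem result (S : Scheme.{u}) (G : Grpd.GroupoidScheme S)
    [LocallyOfFinitePresentation G.pU] [QuasiCompact G.pU] [QuasiSeparated G.pU]
    (n : ℕ) (e : G.U ⟶ CohB1.ProjSpaceOver n S) [IsImmersion e] [QuasiCompact e]
    (he : e ≫ CohB1.ProjSpaceOver.toBase n S = G.pU)
    [IsProper G.s] [Flat G.s] [LocallyOfFinitePresentation G.s] [LocallyQuasiFinite G.j] [LocallyOfFiniteType G.j] :
    ∃ (Y : Scheme.{u}) (p : G.U ⟶ Y) (w : G.t ≫ p = G.s ≫ p) (q : Y ⟶ S),
      Nonempty (IsColimit (Cofork.ofπ p w)) ∧ p ≫ q = G.pU ∧ Surjective p ∧ IsOpenMap p.base ∧ UniversallyClosed p ∧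
      Function.Surjective (pullback.lift G.t G.s w).base ∧
      (Mono G.j → IsPullback G.t G.s p p ∧ Flat p ∧ LocallyOfFinitePresentation p ∧ QuasiCompact p ∧ QuasiSeparated p ∧
        LocallyOfFinitePresentation q ∧ QuasiCompact q ∧ QuasiSeparated q) := by
  have := WC97.isProper_toBase n S
  have : LocallyOfFiniteType G.pU := by rw [← he]; infer_instance
  have : QuasiCompact G.pU := by rw [← he]; infer_instance
  have : IsSeparated G.pU := by rw [← he]; infer_instance
  have hU : RelProj.IsQuasiProjective G.pU := by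
    refine ⟨inferInstance, inferInstance, (Scheme.Modules.pullback e).obj (Twist.twistOver n S 1), ?_⟩
    exact EGA73.VeryAmplePnAmple.isRelAmple_of_isRelVeryAmplePn ⟨n, e, inferInstance, he, ⟨Iso.refl _⟩⟩
  have hqs : ∀ x : G.U, ∃ W : G.U.Opens, x ∈ W ∧ GrpQ80.HasQS G W := by
    intro x
    let F := G.pU.fiber (G.pU x)
    have : QuasiCompact (G.pU.fiberToSpecResidueField (G.pU x)) :=
      MorphismProperty.pullback_snd (P := @QuasiCompact) G.pU _ inferInstance
    have : CompactSpace F := QuasiCompact.compactSpace_of_compactSpace (G.pU.fiberToSpecResidueField (G.pU x))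
    obtain ⟨m, hm, hmc⟩ := (isClosed_closure (s := ({G.pU.asFiber x} : Set F))).exists_closed_singleton
      ⟨_, subset_closure rfl⟩
    let z := G.pU.fiberι (G.pU x) m
    have hz : G.pU z = G.pU x := G.pU.range_fiberι (G.pU x) |>.le ⟨m, rfl⟩
    have hzc : closure ({z} : Set G.U) ∩ G.pU ⁻¹' {G.pU z} = {z} := by
      refine Set.eq_singleton_iff_unique_mem.2 ⟨⟨subset_closure rfl, rfl⟩, fun y hy => ?_⟩
      obtain ⟨b, rfl⟩ : y ∈ Set.range (G.pU.fiberι (G.pU x)) := by
        rw [Scheme.Hom.range_fiberι]; exact hy.2.trans hz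
      have h : m ⤳ b := (G.pU.fiberι (G.pU x)).isEmbedding.toIsInducing.specializes_iff.1
        (specializes_iff_mem_closure.2 hy.1)
      have h' := h.mem_closure
      rw [hmc.closure_eq] at h'
      rw [Set.mem_singleton_iff.1 h']
    obtain ⟨W, hzW, hW⟩ := GrpQ80.exists_hasQS_at G hU z hzc
    have hxz : x ⤳ z := by
      have h : G.pU.asFiber x ⤳ m := specializes_iff_mem_closure.2 hm
      have h' := h.map (G.pU.fiberι (G.pU x)).continuous
      rwa [G.pU.fiberι_asFiber] at h'
    exact ⟨W, hxz.mem_open W.2 hzW, hW⟩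
  obtain ⟨Y, p, w, ⟨hc⟩, hsurj, hopen, huc, hlift, hmono, -⟩ := GrpQ80.exists_quotient_of_hasQS G hqs
  let q : Y ⟶ S := hc.desc (Cofork.ofπ G.pU (G.t_over.trans G.s_over.symm))
  have hq : p ≫ q = G.pU := Cofork.IsColimit.π_desc hc
  have ht : UniversallyClosed G.t := by rw [← G.i_s]; infer_instance
  have : UniversallyClosed p := huc ht
  have : Surjective p := hsurj
  have : QuasiCompact (p ≫ q) := by rw [hq]; infer_instance
  have hqc : QuasiCompact q := FlatMor66.quasiCompact_of_comp_surjective p q
  have hsep : IsSeparated q := by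
    have hj : IsProper G.j := by
      have : IsProper (G.j ≫ pullback.snd G.pU G.pU) := by rw [Grpd80.j_snd]; infer_instance
      exact IsProper.of_comp G.j (pullback.snd G.pU G.pU)
    let pp : pullback G.pU G.pU ⟶ pullback q q :=
      pullback.map _ _ _ _ p p (𝟙 _) (by rw [hq, Category.comp_id]) (by rw [hq, Category.comp_id])
    have hpp : Surjective pp ∧ UniversallyClosed pp :=
      ⟨MorphismProperty.pullbackMap (P := @Surjective) hsurj hsurj hq.symm hq.symm,
       MorphismProperty.pullbackMap (P := @UniversallyClosed) (huc ht) (huc ht) hq.symm hq.symm⟩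
    have hd : G.j ≫ pp = (G.t ≫ p) ≫ pullback.diagonal q := by
      apply pullback.hom_ext
      · simp [pp, pullback.map, pullback.lift_fst, Grpd80.j_fst_assoc]
      · simp [pp, pullback.map, pullback.lift_snd, Grpd80.j_snd_assoc, w]
    have hrange : Set.range (pullback.diagonal q) = pp '' Set.range G.j := by
      apply le_antisymm
      · rintro _ ⟨y, rfl⟩
        obtain ⟨x, rfl⟩ := p.surjective y
        obtain ⟨r, -, hr⟩ := Grpd80.exists_unit G x
        exact ⟨G.j r, ⟨r, rfl⟩, by rw [← Scheme.Hom.comp_apply, hd, Scheme.Hom.comp_apply, Scheme.Hom.comp_apply, hr]⟩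
      · rintro _ ⟨_, ⟨r, rfl⟩, rfl⟩
        exact ⟨(G.t ≫ p) r, by rw [← Scheme.Hom.comp_apply, ← hd]; rfl⟩
    exact ⟨IsClosedImmersion.of_isPreimmersion _ (hrange ▸ (have := hpp.2; pp.isClosedMap _ G.j.isClosedMap.isClosed_range))⟩
  refine ⟨Y, p, w, q, ⟨hc⟩, hq, hsurj, hopen, inferInstance, hlift, fun hj => ?_⟩
  obtain ⟨sq, hflat⟩ := hmono hj
  have hp : LocallyOfFinitePresentation p := MorphismProperty.of_isPullback_of_descendsAlong
    (P := @LocallyOfFinitePresentation) (Q := @Surjective ⊓ @Flat ⊓ @QuasiCompact) sq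
    ⟨⟨hsurj, hflat⟩, inferInstance⟩ (by rw [← G.i_s]; infer_instance)
  have : LocallyOfFinitePresentation (p ≫ q) := by rw [hq]; infer_instance
  have : IsSeparated (p ≫ q) := by rw [hq]; infer_instance
  have : IsSeparated p := IsSeparated.of_comp p q
  exact ⟨sq, hflat, hp, inferInstance, inferInstance, Unr55.locallyOfFinitePresentation_of_fppf_comp p q, hqc, inferInstance⟩

end Groth.Agent.S4090
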