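import Groth.Statements.S4100
import Groth.Agent.SGA3a.HomogFibre

set_option autoImplicit false
universe u
open CategoryTheory MonoidalCategory CartesianMonoidalCategory MonObj GrpObj AlgebraicGeometry CategoryTheory.Limits
open SGA3

namespace Groth.Agent.S4100

/-- Let G be an S-group scheme locally of finite presentation and universally open over S with connected
fibres, acting on an S-scheme X locally of finite presentation over S in such a way that the
morphism G ×_S X → X ×_S X, (g, x) ↦ (g·x, x), is surjective. Then X is separated over S. -/
theorem result (S : Scheme.{u}) (G X : Over S) [GrpObj G]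
    [LocallyOfFinitePresentation G.hom] [UniversallyOpen G.hom]
    (hconn : ∀ s : S, _root_.IsConnected (G.hom.base ⁻¹' {s}))
    [LocallyOfFinitePresentation X.hom] (a : AlgGrp.Action G X)
    (hΦ : Surjective (lift a.act (snd G X)).left) : IsSeparated X.hom := by
  exact Groth.Agent.SGA3a.isSeparated_of_homogeneous_connected a hΦ hconn
    (fun s => inferInstanceAs (LocallyOfFiniteType (pullback.snd X.hom (S.fromSpecResidueField s))))

end Groth.Agent.S4100
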