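import Groth.Statements.S4104
import Groth.Agent.Comod33.HopfFlat

set_option autoImplicit false
universe u
open CategoryTheory MonoidalCategory CartesianMonoidalCategory MonObj GrpObj AlgebraicGeometry CategoryTheory.Limits
open SGA3

namespace Groth.Agent.S4104

open TensorProduct

/-- Let φ : A' → A be a bialgebra map between commutative Hopf algebras over a field k (a homomorphism
of affine k-groups Spec A → Spec A', not necessarily of finite type). If the corresponding morphism
of schemes is a monomorphism, i.e. φ is an epimorphism in the category of commutative rings, then φ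
is surjective (the homomorphism is a closed immersion). -/
theorem result (k : Type u) [Field k] (A' A : Type u) [CommRing A'] [HopfAlgebra k A']
    [CommRing A] [HopfAlgebra k A] (φ : A' →ₐc[k] A)
    (hepi : ∀ (R : Type u) [CommRing R] (f g : A →+* R), f.comp (φ : A' →+* A) = g.comp (φ : A' →+* A) → f = g) :
    Function.Surjective φ := by
  let B := (φ : A' →ₐ[k] A).range
  have : Module.FaithfullyFlat B A := Groth.Agent.Comod33.HopfFlat.faithfullyFlat_range φ
  intro a
  have h : (1 : A) ⊗ₜ[B] a = a ⊗ₜ[B] (1 : A) := by
    refine (RingHom.congr_fun (hepi (TensorProduct B A A)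
      (Algebra.TensorProduct.includeLeftRingHom) (Algebra.TensorProduct.includeRight (R := B) (A := A) (B := A)).toRingHom
      (RingHom.ext fun x => ?_)) a).symm
    exact Algebra.TensorProduct.tmul_one_eq_one_tmul (R := B) (A := A) (B := A) ⟨φ x, x, rfl⟩
  let P : Submodule B A := LinearMap.range (Algebra.linearMap B A)
  have h0 : (1 : A) ⊗ₜ[B] P.mkQ a = 0 := by
    have h1 := congrArg (LinearMap.lTensor A P.mkQ) h
    rw [LinearMap.lTensor_tmul, LinearMap.lTensor_tmul] at h1
    rw [h1, show P.mkQ (1 : A) = 0 from (Submodule.Quotient.mk_eq_zero P).2 ⟨1, rfl⟩,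
      TensorProduct.tmul_zero]
  have h2 : P.mkQ a = 0 := (Module.FaithfullyFlat.one_tmul_eq_zero_iff B (A ⧸ P) (P.mkQ a) (A := A)).1 h0
  obtain ⟨⟨b, x, hx⟩, hb⟩ := (Submodule.Quotient.mk_eq_zero P).1 h2
  exact ⟨x, hx.trans hb⟩

end Groth.Agent.S4104
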