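import Groth.Statements.S4106
import Groth.Agent.SGA3a.AntiAffineSmooth

set_option autoImplicit false
universe u
open CategoryTheory MonoidalCategory CartesianMonoidalCategory MonObj GrpObj AlgebraicGeometry CategoryTheory.Limits
open SGA3

namespace Groth.Agent.S4106

/-- Let G be an algebraic group over a field k (a k-group scheme of finite type) and ρ : G → G_af = Spec
O(G) the canonical morphism to its affine hull. Then ρ is surjective and flat, and G_af is of finite
type over k: the morphism G_af → Spec k through which the structure morphism of G factors is locally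
of finite type. -/
theorem result (k : Type u) [Field k] (G : Over (Spec (CommRingCat.of k))) [GrpObj G]
    [LocallyOfFiniteType G.hom] [QuasiCompact G.hom] :
    Surjective G.left.toSpecΓ ∧ Flat G.left.toSpecΓ ∧
      LocallyOfFiniteType (Spec.map G.hom.appTop ≫ (Spec (CommRingCat.of k)).isoSpec.inv) := by
  obtain ⟨Q, hQ, q, hq, hA, hQft, hflat, hsurj, -, hiso⟩ := SGA3a.Affinization.exists_affinization k G
  obtain ⟨e, he⟩ := SGA3a.Affinization.toSpecΓ_eq q.left
  refine ⟨by rw [he]; infer_instance, by rw [he]; infer_instance, ?_⟩
  haveI : Flat q.left := hflat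
  haveI : Surjective q.left := hsurj
  haveI : QuasiCompact q.left := by
    haveI : IsSeparated Q.hom := AlgGrp79.isSeparated_grp Q
    have : QuasiCompact (q.left ≫ Q.hom) := by rw [Over.w]; infer_instance
    exact QuasiCompact.of_comp q.left Q.hom
  haveI : Epi q.left := Flat.epi_of_flat_of_surjective q.left
  have h : e.hom ≫ Spec.map G.hom.appTop ≫ (Spec (CommRingCat.of k)).isoSpec.inv = Q.hom := by
    rw [← cancel_epi q.left, ← Category.assoc, ← he, Over.w, ← Category.assoc]
    show (G.left.toSpecΓ ≫ Spec.map G.hom.appTop) ≫ _ = _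
    rw [← Scheme.toSpecΓ_naturality, Category.assoc]
    show G.hom ≫ (Spec (CommRingCat.of k)).isoSpec.hom ≫ _ = _
    rw [Iso.hom_inv_id, Category.comp_id]
  have h2 : Spec.map G.hom.appTop ≫ (Spec (CommRingCat.of k)).isoSpec.inv = e.inv ≫ Q.hom := by
    rw [← h, Iso.inv_hom_id_assoc]
  rw [h2]
  infer_instance

end Groth.Agent.S4106
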