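import Groth.Statements.S4107
import Groth.Agent.SGA3a.AntiAffineSmooth
import Groth.Agent.RedPts82.ClosedBorel

set_option autoImplicit false
universe u
open CategoryTheory MonoidalCategory CartesianMonoidalCategory MonObj GrpObj AlgebraicGeometry CategoryTheory.Limits
open SGA3

namespace Groth.Agent.S4107

/-- Let G be an algebraic group over a field k, ρ : G → Spec O(G) the canonical morphism and N = Ker ρ,
the fibre of ρ over the image of the unit section. Then O(N) = k (the structure morphism N → Spec k
induces an isomorphism on global sections), and N is smooth over k and connected. (The source adds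
that N is commutative and characteristic in G.) -/
theorem result (k : Type u) [Field k] (G : Over (Spec (CommRingCat.of k))) [GrpObj G]
    [LocallyOfFiniteType G.hom] [QuasiCompact G.hom] :
    IsIso (pullback.snd G.left.toSpecΓ (η[G].left ≫ G.left.toSpecΓ) ≫ (𝟙_ (Over (Spec (CommRingCat.of k)))).hom).appTop ∧
    Smooth (pullback.snd G.left.toSpecΓ (η[G].left ≫ G.left.toSpecΓ) ≫ (𝟙_ (Over (Spec (CommRingCat.of k)))).hom) ∧
    ConnectedSpace ↥(pullback G.left.toSpecΓ (η[G].left ≫ G.left.toSpecΓ)) := by
  obtain ⟨Q, hQ, q, hq, hA, hQft, hflat, -, -, hiso⟩ := SGA3a.Affinization.exists_affinization k G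
  obtain ⟨e, he⟩ := SGA3a.Affinization.toSpecΓ_eq q.left
  haveI : IsSeparated G.hom := AlgGrp79.isSeparated_grp G
  haveI : IsSeparated Q.hom := AlgGrp79.isSeparated_grp Q
  let N : Over (Spec (CommRingCat.of k)) :=
    Over.mk (pullback.snd G.left.toSpecΓ (η[G].left ≫ G.left.toSpecΓ) ≫ (𝟙_ (Over (Spec (CommRingCat.of k)))).hom)
  have hcond : pullback.fst G.left.toSpecΓ (η[G].left ≫ G.left.toSpecΓ) ≫ G.hom = N.hom := by
    have h := congr($(pullback.condition (f := G.left.toSpecΓ) (g := η[G].left ≫ G.left.toSpecΓ)) ≫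
      e.inv ≫ Q.hom)
    simp only [Category.assoc, he, Iso.hom_inv_id_assoc, Over.w] at h
    exact h
  let i : N ⟶ G := Over.homMk (pullback.fst G.left.toSpecΓ (η[G].left ≫ G.left.toSpecΓ)) hcond
  have hK : AlgGrp.IsKernel i q := by
    refine IsPullback.of_map (Over.forget _) ?_ ?_
    · ext : 1
      show pullback.fst _ _ ≫ q.left = (toUnit N).left ≫ η[Q].left
      rw [← IsMonHom.one_hom (f := q), Over.comp_left, Over.toUnit_left]
      have h := pullback.condition (f := G.left.toSpecΓ) (g := η[G].left ≫ G.left.toSpecΓ)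
      rw [show N.hom = pullback.snd G.left.toSpecΓ (η[G].left ≫ G.left.toSpecΓ) from Category.comp_id _]
      rw [← cancel_mono e.hom, Category.assoc, Category.assoc, Category.assoc, ← he]
      exact h
    · show IsPullback (pullback.fst G.left.toSpecΓ (η[G].left ≫ G.left.toSpecΓ)) (toUnit N).left q.left η[Q].left
      rw [Over.toUnit_left, show N.hom = pullback.snd G.left.toSpecΓ (η[G].left ≫ G.left.toSpecΓ) from Category.comp_id _]
      refine IsPullback.of_iso (IsPullback.of_hasPullback G.left.toSpecΓ (η[G].left ≫ G.left.toSpecΓ))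
        (Iso.refl _) (Iso.refl _) (Iso.refl _) e.symm (by simp) (by simp) (by simp [he]) ?_
      rw [Iso.refl_hom, Category.id_comp, Iso.symm_hom, Category.assoc, he, Category.assoc, Iso.hom_inv_id,
        Category.comp_id, ← IsMonHom.one_hom (f := q)]
      rfl
  haveI : QuasiCompact N.hom := by
    haveI : IsClosedImmersion η[Q].left := RedPts82.isClosedImmersion_section _ (toUnit _) (toUnit_unique _ _)
    haveI : IsClosedImmersion i.left := MorphismProperty.of_isPullback (AlgGrp79.isPullback_left hK).flip inferInstance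
    rw [← Over.w i]; infer_instance
  haveI : LocallyOfFiniteType N.hom := by
    haveI : IsClosedImmersion η[Q].left := RedPts82.isClosedImmersion_section _ (toUnit _) (toUnit_unique _ _)
    haveI : IsClosedImmersion i.left := MorphismProperty.of_isPullback (AlgGrp79.isPullback_left hK).flip inferInstance
    rw [← Over.w i]; infer_instance
  have hN : AlgGrp79.AntiAff N := SGA3a.Affinization.antiAff_kernel q i hK
  have hmono := AlgGrp79.mono_of_isKernel hK
  have h1 : ∃ z, z ≫ i = (1 : 𝟙_ _ ⟶ G) := AlgGrp79.exists_ker_of_comp_one hK _ (MonObj.one_comp _)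
  have hinv : ∃ z, z ≫ i = i⁻¹ := AlgGrp79.exists_ker_of_comp_one hK _ (by
    rw [GrpObj.inv_comp, show i ≫ q = 1 by simpa using AlgGrp79.isKernel_comp_one hK (𝟙 N), inv_one])
  have hmul : ∃ z, z ≫ i = (fst N N ≫ i) * (snd N N ≫ i) := AlgGrp79.exists_ker_of_comp_one hK _ (by
    rw [MonObj.mul_comp, AlgGrp79.isKernel_comp_one hK, AlgGrp79.isKernel_comp_one hK, _root_.one_mul])
  letI : GrpObj N := SGA3a.grpObjOfMono i h1 hmul hinv
  refine ⟨?_, SGA3a.Affinization.smooth_of_antiAff N hN, SGA3a.Affinization.connectedSpace_of_antiAff hN η[N]⟩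
  haveI : IsIso ((Scheme.ΓSpecIso (CommRingCat.of k)).inv ≫ N.hom.appTop) := (ConcreteCategory.isIso_iff_bijective _).2 hN
  exact IsIso.of_isIso_comp_left (Scheme.ΓSpecIso (CommRingCat.of k)).inv N.hom.appTop

end Groth.Agent.S4107
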