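import Groth.Statements.S4113
import Groth.Agent.Hopf35.EtaleDual
import Groth.Agent.Comod33.CartierReduced
import Mathlib.RingTheory.Etale.Field

set_option autoImplicit false
universe u
open CategoryTheory MonoidalCategory CartesianMonoidalCategory MonObj GrpObj AlgebraicGeometry CategoryTheory.Limits
open SGA3

namespace Groth.Agent.S4113

/-- Let A be a finite-dimensional commutative Hopf algebra over a field k (a finite algebraic k-group of
rank dim A). If the rank is invertible in k then A is an etale k-algebra. -/
theorem result (k : Type u) [Field k] (A : Type u) [CommRing A] [HopfAlgebra k A]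
    [Module.Finite k A] (h : (Module.finrank k A : k) ≠ 0) : Algebra.Etale k A := by
  haveI : Algebra.FiniteType k A := inferInstance
  cases CharP.exists' k with
  | inl h0 =>
    haveI := h0
    haveI : IsReduced A := Comod33.Aug.isReduced_of_charZero (k := k)
    haveI : IsArtinianRing A := IsArtinianRing.of_finite k A
    rw [Algebra.Etale.iff_exists_algEquiv_prod]
    exact ⟨MaximalSpectrum A, inferInstance, fun I => A ⧸ I.asIdeal,
      fun I => Ideal.Quotient.field I.asIdeal, fun I => inferInstance,
      AlgEquiv.ofRingEquiv (f := IsArtinianRing.equivPi A) fun _ => rfl,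
      fun I => ⟨inferInstance, inferInstance⟩⟩
  | inr hp =>
    obtain ⟨p, hp, hc⟩ := hp
    let K := AlgebraicClosure k
    haveI : CharP K p := charP_of_injective_algebraMap (algebraMap k K).injective p
    haveI : Algebra.Etale K (TensorProduct k K A) :=
      Hopf35.EtaleDual.etale_of_not_dvd p (by
        rw [Module.finrank_baseChange]
        exact fun hd => h ((CharP.cast_eq_zero_iff k p _).2 hd))
    exact Algebra.Etale.of_etale_tensorProduct_of_faithfullyFlat K

end Groth.Agent.S4113
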