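import Groth.Statements.S4114
import Groth.Agent.Deligne57.General
import Groth.Agent.S7948
import Mathlib.RingTheory.FinitePresentation

set_option autoImplicit false
universe u
open CategoryTheory MonoidalCategory CartesianMonoidalCategory MonObj GrpObj AlgebraicGeometry CategoryTheory.Limits
open SGA3

namespace Groth.Agent.S4114

/-- Let S be a reduced scheme and G an S-group scheme which is finite locally free of constant rank n
over S. Then the n-th power morphism of G is the trivial endomorphism (g ↦ gⁿ factors through the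
unit section). -/
theorem result (S : Scheme.{u}) [IsReduced S] (G : Over S) [GrpObj G] (n : ℕ)
    (hG : Mor2.IsFinLocFreeOfDeg n G.hom) : (𝟙 G : G ⟶ G) ^ n = 1 := by
  have hfin : IsFinite G.hom := hG.1.1
  have hflat : Flat G.hom := hG.1.2.1
  have affine : ∀ (C : CommRingCat.{u}) [_root_.IsReduced C] (G : Over (Spec C)) [GrpObj G] [IsFinite G.hom]
      [Flat G.hom] [LocallyOfFinitePresentation G.hom],
      (∀ p, Scheme.Hom.finrank G.hom p = n) →
      ∀ (X : Over (Spec C)) (g : X ⟶ G), g ^ n = 1 := by
    intro C _ G _ _ _ _ hr X g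
    suffices hid : (𝟙 G : G ⟶ G) ^ n = 1 by
      rw [show g ^ n = g ≫ (𝟙 G : G ⟶ G) ^ n by rw [MonObj.comp_pow, Category.comp_id], hid, MonObj.comp_one]
    have : IsAffine G.left := isAffine_of_isAffineHom G.hom
    obtain ⟨Hop, ⟨e⟩⟩ := (essImage_hopfSpec (G := Grp.mk G)).2 ‹_›
    let H := Hop.unop
    let ψ : (Spec (CommRingCat.of H)).asOver (Spec C) ≅ G := (Grp.forget _).mapIso e
    have : IsMonHom ψ.hom := e.hom.hom.isMonHom_hom
    have : IsMonHom ψ.inv := e.inv.hom.isMonHom_hom
    have hhom : ψ.hom.left ≫ G.hom = Spec.map (CommRingCat.ofHom (algebraMap C H)) := Over.w ψ.hom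
    have : IsIso ψ.hom.left := ((Over.forget _).mapIso ψ).isIso_hom
    have hf1 : IsFinite (Spec.map (CommRingCat.ofHom (algebraMap C H))) := by
      rw [← hhom]; exact (MorphismProperty.cancel_left_of_respectsIso @IsFinite ψ.hom.left G.hom).2 ‹_›
    have hf2 : Flat (Spec.map (CommRingCat.ofHom (algebraMap C H))) := by
      rw [← hhom]; exact (MorphismProperty.cancel_left_of_respectsIso @Flat ψ.hom.left G.hom).2 ‹_›
    have hf3 : LocallyOfFinitePresentation (Spec.map (CommRingCat.ofHom (algebraMap C H))) := by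
      rw [← hhom]
      exact (MorphismProperty.cancel_left_of_respectsIso @LocallyOfFinitePresentation ψ.hom.left G.hom).2 ‹_›
    rw [IsFinite.SpecMap_iff, CommRingCat.hom_ofHom, RingHom.finite_algebraMap] at hf1
    rw [Flat.SpecMap_iff, CommRingCat.hom_ofHom, RingHom.flat_algebraMap_iff] at hf2
    rw [HasRingHomProperty.Spec_iff (P := @LocallyOfFinitePresentation), CommRingCat.hom_ofHom,
      RingHom.finitePresentation_algebraMap] at hf3
    haveI : Module.FinitePresentation C H := Module.FinitePresentation.of_finite_of_finitePresentation C H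
    haveI : Module.Projective C H := Module.Flat.projective_of_finitePresentation
    have hr' : ∀ p : PrimeSpectrum C, Module.rankAtStalk H p = n := fun p => by
      rw [← Scheme.Hom.finrank_SpecMap_algebraMap C H p, ← hr p]
      exact congrFun (show _ = Scheme.Hom.finrank G.hom by
        rw [← Scheme.Hom.finrank_comp_left_of_isIso ψ.hom.left G.hom]; simp only [hhom]; rfl) p
    let E := Spec.mapMulEquiv (R := C) (S := H) (T := H)
    let f : WithConv (H →ₐ[C] H) := E.symm (ψ.hom ≫ 𝟙 G ≫ ψ.inv)
    have hfn : f ^ n = 1 := Groth.Agent.S7948.result C H n hr' H f.ofConv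
    have hf := congrArg E hfn
    rw [map_pow, map_one, show E f = _ from E.apply_symm_apply _] at hf
    rw [← cancel_mono ψ.inv, ← cancel_epi ψ.hom, MonObj.pow_comp, MonObj.comp_pow, MonObj.one_comp,
      MonObj.comp_one]
    exact hf
  ext : 1
  refine Scheme.Cover.hom_ext (S.affineCover.pullback₁ G.hom) _ _ fun i => ?_
  obtain ⟨C, hC⟩ : ∃ C : CommRingCat.{u}, S.affineCover.X i = Spec C := ⟨_, rfl⟩
  let u : Spec C ⟶ S := eqToHom hC.symm ≫ S.affineCover.f i
  haveI : IsOpenImmersion u := inferInstance
  haveI : _root_.IsReduced C := by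
    haveI : IsReduced (Spec C) := isReduced_of_isOpenImmersion u
    exact (AlgebraicGeometry.affine_isReduced_iff C).1 this
  let F := Over.pullback u
  let : GrpObj (F.obj G) := Functor.grpObjObj
  have : IsFinite (F.obj G).hom := MorphismProperty.pullback_snd (P := @IsFinite) _ _ hfin
  have : Flat (F.obj G).hom := MorphismProperty.pullback_snd (P := @Flat) _ _ hflat
  have : LocallyOfFinitePresentation (F.obj G).hom :=
    MorphismProperty.pullback_snd (P := @LocallyOfFinitePresentation) _ _ hG.1.2.2
  have key := affine C (F.obj G)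
    (fun p => (Scheme.Hom.finrank_pullback_snd G.hom u p).trans (hG.2 _)) _ (𝟙 (F.obj G))
  have h2 : F.map ((𝟙 G : G ⟶ G) ^ n) = F.map (1 : G ⟶ G) := by
    rw [show F.map ((𝟙 G : G ⟶ G) ^ n) = F.map (𝟙 G) ^ n from map_pow F.homMonoidHom _ n,
      show F.map (1 : G ⟶ G) = 1 from map_one F.homMonoidHom, F.map_id]
    exact key
  have h3 := congrArg (fun z => Over.Hom.left z ≫ pullback.fst G.hom u) h2
  simp only [F, Over.pullback_map_left, pullback.lift_fst] at h3
  let φ : pullback G.hom (S.affineCover.f i) ⟶ pullback G.hom u :=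
    pullback.map _ _ _ _ (𝟙 _) (eqToHom hC) (𝟙 _) (by simp) (by simp [u])
  have h4 : φ ≫ pullback.fst G.hom u = pullback.fst G.hom (S.affineCover.f i) :=
    (pullback.lift_fst _ _ _).trans (Category.comp_id _)
  show pullback.fst G.hom (S.affineCover.f i) ≫ _ = pullback.fst G.hom (S.affineCover.f i) ≫ _
  rw [← h4, Category.assoc, Category.assoc, h3]

end Groth.Agent.S4114
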