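import Groth.Statements.S4131
import Groth.Agent.RedPts82.CommGlobal

set_option autoImplicit false
universe u
open CategoryTheory MonoidalCategory CartesianMonoidalCategory MonObj GrpObj AlgebraicGeometry CategoryTheory.Limits
open Red

namespace Groth.Agent.S4131

/-- Let G be an S-group scheme, i : T → G a subtorus, α : T → 𝔾_m a character which is non-trivial on
every geometric fibre, and p₊, p₋ : 𝔾_a → G homomorphisms which are monomorphisms normalised by T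
with multipliers α and α⁻¹ (i(t) p₊(x) i(t)⁻¹ = p₊(α(t)x), i(t) p₋(y) i(t)⁻¹ = p₋(α(t)⁻¹y)). Assume
(i) the morphism 𝔾_a ×_S T ×_S 𝔾_a → G, (y, t, x) ↦ p₋(y)·i(t)·p₊(x), is an open immersion, with
image Ω, and (ii) on every geometric fibre the images of p₊ and p₋ do not commute. Then there is
exactly one pair (a, α*) consisting of an S-point a of 𝔾_m and a homomorphism α* : 𝔾_m → T such that
for every S-scheme X and all points x, y of 𝔾_a with values in X: p₊(x)p₋(y) lies in Ω if and only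
if 1 + a·x·y is a unit (as a function on X), and in that case p₊(x)p₋(y) = p₋(y')·i(α*(z))·p₊(x')
where z = 1 + axy, y'·z = y and x'·z = x; moreover α ∘ α* is the squaring map of 𝔾_m. -/
theorem result (S : Scheme.{u}) (G T : Over S) [GrpObj G] [GrpObj T] (i : T ⟶ G)
    [IsMonHom i] [Mono i] (hT : Red.IsTorus T) (α : T ⟶ Red.Gm S) [IsMonHom α]
    (hα : ∀ s : S, (Over.pullback (Red.geomPt s)).map α ≠ 1)
    (pp pm : Red.Ga S ⟶ G) [IsMonHom pp] [Mono pp] [IsMonHom pm] [Mono pm]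
    (hpp : ∀ (X : Over S) (t : X ⟶ T) (x : X ⟶ Red.Ga S), ∃ x' : X ⟶ Red.Ga S,
      x' ≫ pp = (t ≫ i) * (x ≫ pp) * (t ≫ i)⁻¹ ∧ Red.gaFn x' = Red.gmFn (t ≫ α) * Red.gaFn x)
    (hpm : ∀ (X : Over S) (t : X ⟶ T) (y : X ⟶ Red.Ga S), ∃ y' : X ⟶ Red.Ga S,
      y' ≫ pm = (t ≫ i) * (y ≫ pm) * (t ≫ i)⁻¹ ∧ Red.gaFn y' * Red.gmFn (t ≫ α) = Red.gaFn y)
    (hΩ : IsOpenImmersion (((pm ⊗ₘ i) ⊗ₘ pp) ≫ (μ[G] ▷ G) ≫ μ[G]).left)
    (hnc : ∀ s : S, ∃ (X : Over (Spec (CommRingCat.of (AlgebraicClosure (S.residueField s)))))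
      (x y : X ⟶ Red.bc (Red.geomPt s) (Red.Ga S)),
      (x ≫ (Over.pullback (Red.geomPt s)).map pp) * (y ≫ (Over.pullback (Red.geomPt s)).map pm) ≠
        (y ≫ (Over.pullback (Red.geomPt s)).map pm) * (x ≫ (Over.pullback (Red.geomPt s)).map pp)) :
    ∃! q : (𝟙_ (Over S) ⟶ Red.Gm S) × (Red.Gm S ⟶ T), IsMonHom q.2 ∧ q.2 ≫ α = (𝟙 (Red.Gm S)) ^ 2 ∧
      ∀ (X : Over S) (x y : X ⟶ Red.Ga S),
        ((∃ w : X ⟶ (Red.Ga S ⊗ T) ⊗ Red.Ga S, w ≫ (((pm ⊗ₘ i) ⊗ₘ pp) ≫ (μ[G] ▷ G) ≫ μ[G]) = (x ≫ pp) * (y ≫ pm)) ↔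
          IsUnit (1 + Red.gmFn (toUnit X ≫ q.1) * Red.gaFn x * Red.gaFn y)) ∧
        (IsUnit (1 + Red.gmFn (toUnit X ≫ q.1) * Red.gaFn x * Red.gaFn y) →
          ∃ (x' y' : X ⟶ Red.Ga S) (z : X ⟶ Red.Gm S),
            Red.gmFn z = 1 + Red.gmFn (toUnit X ≫ q.1) * Red.gaFn x * Red.gaFn y ∧
            Red.gaFn x' * Red.gmFn z = Red.gaFn x ∧ Red.gaFn y' * Red.gmFn z = Red.gaFn y ∧
            (x ≫ pp) * (y ≫ pm) = (y' ≫ pm) * (z ≫ q.2 ≫ i) * (x' ≫ pp)) := by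
  open Groth.Agent.RedPts82 in
  have H : BC G T i α pp pm := ⟨‹_›, ‹_›, ‹_›, ‹_›, hT, hpp, hpm, hα, hΩ⟩
  obtain ⟨a, ha⟩ := H.exists_coeff
  have hunit := H.isUnit_coeff ha hnc
  obtain ⟨av, hav⟩ := H.exists_cochar ha hunit
  obtain ⟨q₁, hq₁⟩ := Groth.Agent.RedPts82.gmFn_surjective (S := S) hunit.neg
  have hq : ∀ X : Over S, Red.gmFn (toUnit X ≫ q₁) = -Groth.Agent.RedPts82.co a X := by
    intro X
    rw [Groth.Agent.RedPts82.gmFn_comp, hq₁, map_neg, ← Groth.Agent.RedPts82.gaFn_comp]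
    rfl
  have hform : ∀ (X : Over S) (r s : Γ(X.left, ⊤)),
      1 + Red.gmFn (toUnit X ≫ q₁) * r * s = 1 - Groth.Agent.RedPts82.co a X * r * s := by
    intro X r s
    rw [hq]
    ring
  have hmon : IsMonHom av := Groth.Agent.RedPts82.isMonHom_of_points av fun X p q => by
    rw [H.cochar_mul hunit hav, Groth.Agent.RedPts82.isTorus_points_comm hT]
  refine ⟨(q₁, av), ⟨hmon, ?_, fun X x y => ?_⟩, ?_⟩
  · refine Groth.Agent.RedPts82.gmFn_injective ?_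
    rw [Groth.Agent.RedPts82.gmFn_pow]
    have := Groth.Agent.RedPts82.cochar_sq hunit hav _ (𝟙 (Red.Gm S))
    rwa [Category.id_comp] at this
  · dsimp only
    rw [hform]
    have hiff : (∃ w : X ⟶ (Red.Ga S ⊗ T) ⊗ Red.Ga S,
        w ≫ (((pm ⊗ₘ i) ⊗ₘ pp) ≫ (μ[G] ▷ G) ≫ μ[G]) = (x ≫ pp) * (y ≫ pm)) ↔
        IsUnit (1 - Groth.Agent.RedPts82.co a X * Red.gaFn x * Red.gaFn y) := by
      rw [← H.ic_global ha hunit, ← H.exists_iff, Groth.Agent.RedPts82.IC,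
        Groth.Agent.RedPts82.gaPt_gaFn, Groth.Agent.RedPts82.gaPt_gaFn]
    refine ⟨hiff, fun hu => ?_⟩
    obtain ⟨t, h, -⟩ := H.formula_global ha hunit (Red.gaFn x) (Red.gaFn y) hu.unit hu.unit_spec
    have ht := H.tor_eq ha hunit hav h (Groth.Agent.RedPts82.gmPt hu.unit)
      (by rw [Groth.Agent.RedPts82.gmFn_gmPt, hu.unit_spec])
    refine ⟨Groth.Agent.RedPts82.gaPt (((hu.unit⁻¹ : _ˣ) : Γ(X.left, ⊤)) * Red.gaFn x),
      Groth.Agent.RedPts82.gaPt (((hu.unit⁻¹ : _ˣ) : Γ(X.left, ⊤)) * Red.gaFn y),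
      Groth.Agent.RedPts82.gmPt hu.unit,
      by rw [Groth.Agent.RedPts82.gmFn_gmPt, hu.unit_spec], ?_, ?_, ?_⟩
    · rw [Groth.Agent.RedPts82.gaFn_gaPt, Groth.Agent.RedPts82.gmFn_gmPt, mul_comm,
        ← _root_.mul_assoc, Units.mul_inv, _root_.one_mul]
    · rw [Groth.Agent.RedPts82.gaFn_gaPt, Groth.Agent.RedPts82.gmFn_gmPt, mul_comm,
        ← _root_.mul_assoc, Units.mul_inv, _root_.one_mul]
    · rw [Groth.Agent.RedPts82.Rel, Groth.Agent.RedPts82.gaPt_gaFn,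
        Groth.Agent.RedPts82.gaPt_gaFn, ht, Category.assoc] at h
      exact h
  · rintro ⟨q₁', av'⟩ ⟨-, -, h⟩
    dsimp only at h
    have heq : q₁' = q₁ := by
      refine Groth.Agent.RedPts82.hom_ext_affine fun Z hZ k => Groth.Agent.RedPts82.gmFn_injective ?_
      rw [show k = toUnit Z from toUnit_unique _ _, hq]
      obtain ⟨c2, d2, f2, hE⟩ := ha Z hZ
      obtain ⟨N, l, _, ε, hε, -, huniq, -⟩ := Groth.Agent.RedPts82.exists_trunc Z
      obtain ⟨⟨t, he⟩, -⟩ := hE N l ε hε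
      have hu : IsUnit (1 + Red.gmFn (toUnit N ≫ q₁') * ε) :=
        IsNilpotent.isUnit_one_add (Commute.isNilpotent_mul_left (Commute.all _ _) ⟨3, hε⟩)
      obtain ⟨x', y', z, hz, -, hy', e⟩ := (h N (Groth.Agent.RedPts82.gaPt ε)
        (Groth.Agent.RedPts82.gaPt 1)).2 (by
          rw [Groth.Agent.RedPts82.gaFn_gaPt, Groth.Agent.RedPts82.gaFn_gaPt, _root_.mul_one]
          exact hu)
      rw [Groth.Agent.RedPts82.gaFn_gaPt, Groth.Agent.RedPts82.gaFn_gaPt, _root_.mul_one] at hz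
      rw [Groth.Agent.RedPts82.gaFn_gaPt] at hy'
      rw [← Groth.Agent.RedPts82.gaPt_gaFn x', ← Groth.Agent.RedPts82.gaPt_gaFn y',
        ← Category.assoc z av' i] at e
      have e1 := (H.rel_inj he e).1
      rw [← e1, hz, Groth.Agent.RedPts82.co] at hy'
      have hl : Red.gmFn (toUnit N ≫ q₁') = l.left.appTop (Red.gmFn (toUnit Z ≫ q₁')) := by
        rw [← Groth.Agent.RedPts82.gmFn_comp, comp_toUnit_assoc]
      rw [hl] at hy'
      have := (huniq 0 (Red.gmFn (toUnit Z ≫ q₁') + Groth.Agent.RedPts82.co a Z)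
        (c2 + Red.gmFn (toUnit Z ≫ q₁') * Groth.Agent.RedPts82.co a Z) ?_).2.1
      · exact eq_neg_of_add_eq_zero_left this
      · simp only [map_zero, map_add, map_mul]
        simp only [Groth.Agent.RedPts82.co] at hy' ⊢
        linear_combination hy' -
          (l.left.appTop (Red.gmFn (toUnit Z ≫ q₁')) * l.left.appTop c2) * hε
    subst heq
    refine Prod.ext rfl ?_
    show av' = av
    rw [← Category.id_comp av', ← Category.id_comp av]
    generalize 𝟙 (Red.Gm S) = p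
    obtain ⟨hp, -⟩ := hav (Red.Gm S) p
    set w := Groth.Agent.RedPts82.coordOf (Groth.Agent.RedPts82.isUnit_co hunit (Red.Gm S)) (Red.gmFn p)
    have hw : 1 + Red.gmFn (toUnit (Red.Gm S) ≫ q₁') * w * 1 = Red.gmFn p := by
      rw [hform, _root_.mul_one, Groth.Agent.RedPts82.coordOf_spec]
    obtain ⟨x', y', z, hz, -, hy', e⟩ := (h _ (Groth.Agent.RedPts82.gaPt w)
      (Groth.Agent.RedPts82.gaPt 1)).2 (by
        rw [Groth.Agent.RedPts82.gaFn_gaPt, Groth.Agent.RedPts82.gaFn_gaPt, hw]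
        exact Groth.Agent.RedPts82.gmFn_isUnit p)
    rw [Groth.Agent.RedPts82.gaFn_gaPt, Groth.Agent.RedPts82.gaFn_gaPt, hw] at hz
    rw [Groth.Agent.RedPts82.gmFn_injective hz, ← Groth.Agent.RedPts82.gaPt_gaFn x',
      ← Groth.Agent.RedPts82.gaPt_gaFn y', ← Category.assoc p av' i] at e
    exact ((H.rel_inj hp e).2.1).symm

end Groth.Agent.S4131
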