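import Groth.Statements.S4135
import Groth.Agent.MM50.Indep
import Groth.Agent.S3312

set_option autoImplicit false
universe u
open TensorProduct
attribute [local instance] LieRing.ofAssociativeRing
open SGA3y

namespace Groth.Agent.S4135

/-- Let k be a field of characteristic zero and H a cocommutative bialgebra over k which is connected
(every nonzero subcoalgebra contains 1). Then the canonical algebra homomorphism from the universal
enveloping algebra of the Lie algebra of primitive elements of H to H is bijective. -/
theorem result (k : Type u) [Field k] [CharZero k] (H : Type u) [Ring H]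
    [Bialgebra k H] [Coalgebra.IsCocomm k H] (hconn : SGA3y.IsConnectedCoalg k H) :
    Function.Bijective (UniversalEnvelopingAlgebra.lift k (SGA3y.primLie k H).incl) := by
  classical
  let P := SGA3y.primLie k H
  let b := Module.Basis.ofVectorSpace k P
  letI : LinearOrder ↑(Module.Basis.ofVectorSpaceIndex k P) := linearOrderOfSTO WellOrderingRel
  obtain ⟨B, hB⟩ := Groth.Agent.S3312.result k P _ b
  let x := fun i => (b i : H)
  have hx : ∀ i, x i ∈ SGA3y.primLie k H := fun i => (b i).2
  have hlift : ∀ l, UniversalEnvelopingAlgebra.lift k (SGA3y.primLie k H).incl (B l) = MM50.mon x l.1 := fun l => by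
    rw [hB, map_list_prod, List.map_map]
    refine congrArg List.prod (List.map_congr_left fun i _ => ?_)
    exact UniversalEnvelopingAlgebra.lift_ι_apply k _ _
  refine ⟨(injective_iff_map_eq_zero _).2 fun z hz => ?_, ?_⟩
  · have hind := MM50.linearIndependent_mon x hx
      (b.linearIndependent.map' P.toSubmodule.subtype (Submodule.ker_subtype _))
    rw [← B.linearCombination_repr z, Finsupp.linearCombination_apply] at hz ⊢
    have h2 : Finsupp.linearCombination k (fun l : {l : List _ // l.SortedLE} => MM50.mon x l.1) (B.repr z) = 0 := by
      rw [Finsupp.linearCombination_apply]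
      simp only [Finsupp.sum, map_sum, map_smul, hlift] at hz
      exact hz
    rw [linearIndependent_iff.1 hind _ h2, Finsupp.sum_zero_index]
  · intro h
    exact MM50.prim_generates (MM50.exists_nil hconn) (UniversalEnvelopingAlgebra.lift k (SGA3y.primLie k H).incl).range
      (fun y hy => ⟨UniversalEnvelopingAlgebra.ι k ⟨y, hy⟩, UniversalEnvelopingAlgebra.lift_ι_apply k _ _⟩) h

end Groth.Agent.S4135
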