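import Groth.Statements.S4141
import Groth.Agent.AlgGrp33.ChevalleyPerfect

set_option autoImplicit false
universe u
open CategoryTheory MonoidalCategory CartesianMonoidalCategory MonObj GrpObj AlgebraicGeometry CategoryTheory.Limits
open SGA3

namespace Groth.Agent.S4141

/-- Let k be a perfect field and G a smooth connected algebraic group over k. Then there is an affine,
smooth, connected closed subgroup scheme L of G, normal in G, such that the quotient G/L is an
abelian variety: there is a surjective flat homomorphism q : G → Q with kernel L onto a proper,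
smooth, connected k-group scheme Q. Moreover L is unique: any affine smooth connected normal closed
subgroup with proper smooth connected quotient coincides with L. -/
theorem result (k : Type u) [Field k] [PerfectField k]
    (G : Over (Spec (CommRingCat.of k))) [GrpObj G] [Smooth G.hom] [QuasiCompact G.hom] [ConnectedSpace ↥G.left] :
    ∃ (L : Over (Spec (CommRingCat.of k))) (_ : GrpObj L) (l : L ⟶ G) (Q : Over (Spec (CommRingCat.of k))) (_ : GrpObj Q)
      (q : G ⟶ Q), IsMonHom l ∧ IsClosedImmersion l.left ∧ IsAffine L.left ∧ Smooth L.hom ∧ ConnectedSpace ↥L.left ∧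
      AlgGrp.IsNormalHom l ∧ IsMonHom q ∧ Surjective q.left ∧ Flat q.left ∧ AlgGrp.IsKernel l q ∧
      IsProper Q.hom ∧ Smooth Q.hom ∧ ConnectedSpace ↥Q.left ∧
      ∀ (L' : Over (Spec (CommRingCat.of k))) [GrpObj L'] (l' : L' ⟶ G) (Q' : Over (Spec (CommRingCat.of k))) [GrpObj Q']
        (q' : G ⟶ Q'), IsMonHom l' → IsClosedImmersion l'.left → IsAffine L'.left → Smooth L'.hom → ConnectedSpace ↥L'.left →
        AlgGrp.IsNormalHom l' → IsMonHom q' → Surjective q'.left → Flat q'.left → AlgGrp.IsKernel l' q' →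
        IsProper Q'.hom → Smooth Q'.hom → ConnectedSpace ↥Q'.left → ∃ φ : L' ≅ L, φ.hom ≫ l = l' := by
  obtain ⟨L, _, l, Q, _, q, hlm, hlc, hla, hls, hlcon, hln, hqm, hqs, hqf, hker, hQp, hQs, hQc⟩ :=
    AlgGrp33.ChevalleyPerfect.exists_chevalley G
  refine ⟨L, inferInstance, l, Q, inferInstance, q, hlm, hlc, hla, hls, hlcon, hln, hqm, hqs, hqf, hker, hQp, hQs, hQc, ?_⟩
  intro L' _ l' Q' _ q' _ _ _ _ _ _ _ _ _ hker' _ _ _
  obtain ⟨a, ha⟩ := AlgGrp33.ChevalleyPerfect.le_kernel hker l'
  obtain ⟨b, hb⟩ := AlgGrp33.ChevalleyPerfect.le_kernel hker' l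
  have := Over.mono_of_mono_left l
  have := Over.mono_of_mono_left l'
  exact ⟨⟨a, b, by rw [← cancel_mono l', Category.assoc, hb, ha, Category.id_comp],
    by rw [← cancel_mono l, Category.assoc, ha, hb, Category.id_comp]⟩, ha⟩

end Groth.Agent.S4141
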