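import Groth.Statements.S4150
import Groth.Agent.SGA3a.AbelianCat
import Groth.Agent.SGA3a.SubQuot

set_option autoImplicit false
universe u
open CategoryTheory MonoidalCategory CartesianMonoidalCategory MonObj GrpObj AlgebraicGeometry CategoryTheory.Limits
open SGA3

namespace Groth.Agent.S4150

/-- Let k be a field. The category of commutative algebraic k-groups (commutative group objects in
k-schemes whose underlying scheme is of finite type over k, as a full subcategory of commutative
group objects over Spec k) is an abelian category. -/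
theorem result (k : Type u) [Field k] :
    Nonempty (Abelian (ObjectProperty.FullSubcategory
      (fun G : CommGrp (Over (Spec (CommRingCat.of k))) => LocallyOfFiniteType G.X.hom ∧ QuasiCompact G.X.hom))) := by
  refine Groth.Agent.SGA3a.AbelianCat.nonempty_abelian ⟨fun A h => h, ?_, ?_, ?_, ?_⟩
  · exact ⟨inferInstanceAs (LocallyOfFiniteType (𝟙 (Spec (CommRingCat.of k)))),
      inferInstanceAs (QuasiCompact (𝟙 (Spec (CommRingCat.of k))))⟩
  · intro A B hA hB
    haveI := hA.1; haveI := hA.2; haveI := hB.1; haveI := hB.2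
    exact ⟨inferInstanceAs (LocallyOfFiniteType (pullback.fst A.X.hom B.X.hom ≫ A.X.hom)),
      inferInstanceAs (QuasiCompact (pullback.fst A.X.hom B.X.hom ≫ A.X.hom))⟩
  · intro A B i _ hi hB
    haveI := hB.1; haveI := hB.2; haveI := hi
    exact ⟨Over.w i ▸ inferInstanceAs (LocallyOfFiniteType (i.left ≫ B.X.hom)),
      Over.w i ▸ inferInstanceAs (QuasiCompact (i.left ≫ B.X.hom))⟩
  · intro A B i hmon hi hB
    haveI := hB.1; haveI := hB.2; haveI := hi; haveI := hmon
    haveI : Mono i := Over.mono_of_mono_left i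
    have hn : AlgGrp.IsNormalHom i := fun T g n => ⟨n, by rw [mul_inv_eq_iff_eq_mul, _root_.mul_comm]⟩
    obtain ⟨Q, hQ, q, hq, hcov, hlft, hqc, -, hK, -⟩ := Groth.Agent.SGA3a.SubQuot.exists_quotientGrp i hn
    haveI := hq
    haveI := Groth.Agent.SGA3a.AbelianCat.isCommMonObj_of_cov q hcov
    exact ⟨⟨Q⟩, q, hq, ⟨hlft, hqc⟩, hcov, hK⟩

end Groth.Agent.S4150
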