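import Groth.Statements.S4201
import Groth.Agent.An92.Immersion

set_option autoImplicit false
open CategoryTheory AlgebraicGeometry Topology TopologicalSpace
open An

namespace Groth.Agent.S4201

/-- The direction from schemes to spaces: an immersion f : X → Y of schemes locally of finite type over
ℂ induces an embedding X(ℂ) → Y(ℂ) whose image is locally closed. -/
theorem result (X Y : Scheme.{0}) [X.Over An.SC] [LocallyOfFiniteType (X ↘ An.SC)]
    [Y.Over An.SC] [LocallyOfFiniteType (Y ↘ An.SC)] (f : X ⟶ Y) [f.IsOver An.SC] [IsImmersion f] :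
    Topology.IsEmbedding (An.Pts.map f) ∧ IsLocallyClosed (Set.range (An.Pts.map f)) := by
  refine ⟨Groth.Agent.An92.isEmbedding_map_of_isImmersion f, ?_⟩
  rw [Groth.Agent.An92.range_map_of_isImmersion]
  exact f.isLocallyClosed_range.preimage An.Pts.continuous_pt

end Groth.Agent.S4201
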