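import Groth.Statements.S4228
import Groth.Agent.An29.Section
-- import your own Groth.Agent.* helpers here

set_option autoImplicit false
open CategoryTheory AlgebraicGeometry
universe u
open An

namespace Groth.Agent.S4228

/-- In the affine hyperplane case to which the proof reduces (the published statement is for a
projective scheme V ⊆ P^n_k of pure dimension r and a general linear subspace of any dimension,
parametrised by a dense open subset of the Grassmannian; part (ii), hypersurfaces of degree ≥ 2
through a point, is not stated here): let k be an infinite field (for a finite field the condition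
below on coefficient vectors could hold at no rational point, so the dense-open formulation is
rendered only for infinite k) and A = k[x_1, …, x_n]/I a quotient of the polynomial ring (V = Spec A
⊆ A^n_k) such that every irreducible component of V has dimension r. Then there is a nonzero
polynomial g in the n + 1 coefficients such that for every a = (a_0, …, a_n) with g(a) ≠ 0 the
hyperplane a_0 + Σ a_i x_i = 0 cuts V transversally at every point of the hyperplane section where V
is smooth over k: the section Spec (A/(a_0 + Σ a_i x_i)) is smooth over k of relative dimension r −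
1 on a neighbourhood of each such point. -/
theorem result (k : Type u) [Field k] [Infinite k] (n r : ℕ) (A : Type u) [CommRing A]
    [Algebra k A] (x : Fin n → A)
    (hx : Function.Surjective (MvPolynomial.aeval x : MvPolynomial (Fin n) k →ₐ[k] A))
    (hdim : ∀ P ∈ minimalPrimes A, ringKrullDim (A ⧸ P) = r) :
    ∃ g : MvPolynomial (Fin (n + 1)) k, g ≠ 0 ∧
      ∀ a : Fin (n + 1) → k, MvPolynomial.eval a g ≠ 0 →
        ∀ (q : Ideal (A ⧸ Ideal.span {algebraMap k A (a 0) + ∑ i : Fin n, algebraMap k A (a i.succ) * x i}))
          (_ : q.IsPrime),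
          (∃ f : A, f ∉ q.comap (Ideal.Quotient.mk _) ∧
            Smooth (Spec.map (CommRingCat.ofHom (algebraMap k (Localization.Away f))))) →
          ∃ f : A ⧸ Ideal.span {algebraMap k A (a 0) + ∑ i : Fin n, algebraMap k A (a i.succ) * x i},
            f ∉ q ∧ SmoothOfRelativeDimension (r - 1)
              (Spec.map (CommRingCat.ofHom (algebraMap k (Localization.Away f)))) := by
  classical
  haveI : Algebra.FiniteType k A := Algebra.FiniteType.of_surjective _ hx
  haveI : Algebra.FinitePresentation k A := Algebra.FinitePresentation.of_finiteType.mp ‹_›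
  haveI : IsNoetherianRing A := Algebra.FiniteType.isNoetherianRing k A
  let G : Set A := Set.range fun c : An29.Chart k r x => c.g
  obtain ⟨s, hsG, hspan⟩ := (Submodule.fg_span_iff_fg_span_finset_subset (R := A) G).1 (IsNoetherian.noetherian (Submodule.span A G))
  choose c hc using fun i : s => hsG i.2
  choose P hP0 hP using fun i : s => An29.exists_bad_poly k x (c i)
  refine ⟨∏ i, P i, Finset.prod_ne_zero_iff.2 fun i _ => hP0 i, fun a ha => ?_⟩
  set h := algebraMap k A (a 0) + ∑ i : Fin n, algebraMap k A (a i.succ) * x i with hh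
  intro q hq hsm
  haveI := hq
  let p : Ideal A := q.comap (Ideal.Quotient.mk _)
  haveI hp : p.IsPrime := Ideal.comap_isPrime _ _
  obtain ⟨f, hf, hfs⟩ := hsm
  haveI : Algebra.Smooth k (Localization.Away f) := by
    have h1 := (HasRingHomProperty.Spec_iff (P := @Smooth)).1 hfs
    rw [CommRingCat.hom_ofHom, RingHom.smooth_algebraMap] at h1
    exact h1
  haveI : Algebra.IsSmoothAt k p :=
    (Algebra.basicOpen_subset_smoothLocus_iff_smooth.2 ‹_›) (show ⟨p, hp⟩ ∈ PrimeSpectrum.basicOpen f from hf)
  obtain ⟨i, hi⟩ : ∃ i : s, (c i).g ∉ p := by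
    obtain ⟨c₀, hc₀⟩ := An29.exists_chart k r n x hx hdim p
    by_contra! hall
    refine hc₀ ((Submodule.span_le.2 fun g hg => ?_ : Submodule.span A (s : Set A) ≤ p)
      (hspan ▸ Submodule.subset_span ⟨c₀, rfl⟩))
    have := hall ⟨g, hg⟩
    rwa [show (c ⟨g, hg⟩).g = g from hc ⟨g, hg⟩] at this
  let d := c i
  have hdisj : Disjoint (Submonoid.powers d.g : Set A) ↑p := (Ideal.disjoint_powers_iff_notMem _ hp.isRadical).2 hi
  let qB : Ideal d.B := p.map (algebraMap A d.B)
  have hqB : qB.IsPrime := IsLocalization.isPrime_of_isPrime_disjoint (Submonoid.powers d.g) d.B p hp hdisj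
  have hhp : h ∈ p := by
    show Ideal.Quotient.mk _ h ∈ q
    rw [Ideal.Quotient.eq_zero_iff_mem.2 (Ideal.mem_span_singleton_self h)]
    exact q.zero_mem
  have hφ : algebraMap A d.B h ∈ qB := Ideal.mem_map_of_mem _ hhp
  obtain ⟨t, ht⟩ : ∃ t, d.basis.repr (KaehlerDifferential.D k d.B (algebraMap A d.B h)) t ∉ qB := by
    by_contra! hall
    refine ha ?_
    rw [map_prod]
    exact Finset.prod_eq_zero (Finset.mem_univ i) (hP i a qB hqB hφ hall)
  let u := d.basis.repr (KaehlerDifferential.D k d.B (algebraMap A d.B h)) t
  let u₀ := (IsLocalization.Away.sec d.g u).1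
  have hu₀ : u₀ ∉ p := fun hmem => ht
    (Ideal.mem_of_dvd qB (IsLocalization.Away.associated_sec_fst d.g u).dvd (Ideal.mem_map_of_mem _ hmem))
  let B' := Localization.Away u
  haveI : IsLocalization.Away (d.g * u₀) B' :=
    IsLocalization.Away.mul_of_associated d.g u₀ u (IsLocalization.Away.associated_sec_fst d.g u)
  haveI : Algebra.FormallyEtale d.B B' := Algebra.FormallyEtale.of_isLocalization (Submonoid.powers u)
  haveI : Algebra.FinitePresentation d.B B' := IsLocalization.Away.finitePresentation u
  haveI : Algebra.Smooth k B' :=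
    { formallySmooth := Algebra.FormallySmooth.comp k d.B B'
      finitePresentation := Algebra.FinitePresentation.trans k d.B B' }
  let b' : Module.Basis (Fin r) B' Ω[B'⁄k] :=
    (d.basis.baseChange B').map (KaehlerDifferential.tensorKaehlerEquivOfFormallyEtale k d.B B')
  have hb' : ∀ j, b' j = KaehlerDifferential.D k B' (algebraMap d.B B' (algebraMap A d.B (x (d.σ j)))) := fun j => by
    rw [Module.Basis.map_apply, Module.Basis.baseChange_apply, d.basis_eq,
      KaehlerDifferential.tensorKaehlerEquivOfFormallyEtale_apply, KaehlerDifferential.mapBaseChange_tmul,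
      one_smul, KaehlerDifferential.map_D]
  have hrepr : IsUnit (b'.repr (KaehlerDifferential.D k B' (algebraMap A B' h)) t) := by
    rw [IsScalarTower.algebraMap_apply A d.B B', Module.Basis.map_repr, LinearEquiv.trans_apply,
      KaehlerDifferential.tensorKaehlerEquivOfFormallyEtale_symm_D_algebraMap,
      Module.Basis.baseChange_repr_tmul, ← Algebra.algebraMap_eq_smul_one]
    exact IsLocalization.Away.algebraMap_isUnit u
  let g' : A ⧸ Ideal.span {h} := Ideal.Quotient.mk _ (d.g * u₀)
  have hg' : g' ∉ q := fun hmem => (hp.mul_notMem hi hu₀) hmem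
  let C := B' ⧸ Ideal.span {algebraMap A B' h}
  letI algC : Algebra (A ⧸ Ideal.span {h}) C :=
    (Ideal.quotientMap _ (algebraMap A B') (Ideal.span_le.2 (Set.singleton_subset_iff.2
      (Ideal.mem_span_singleton_self _)))).toAlgebra
  haveI : IsLocalization.Away g' C := An29.isLocalization_quotient (d.g * u₀) h
  haveI : IsScalarTower k (A ⧸ Ideal.span {h}) C := IsScalarTower.of_algebraMap_eq fun y => by
    show Ideal.Quotient.mk _ (algebraMap k B' y) = Ideal.Quotient.mk _ (algebraMap A B' (algebraMap k A y))
    rw [← IsScalarTower.algebraMap_apply]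
  haveI : Nontrivial C := by
    have hu : IsUnit (algebraMap (A ⧸ Ideal.span {h}) q.ResidueField g') :=
      isUnit_iff_ne_zero.2 fun h0 => hg' (Ideal.algebraMap_residueField_eq_zero.1 h0)
    exact (IsLocalization.Away.lift g' hu : C →+* q.ResidueField).domain_nontrivial
  haveI := An29.isStandardSmooth_quotient b' _ hb' (algebraMap A B' h) t hrepr
  let e : C ≃ₐ[k] Localization.Away g' :=
    (IsLocalization.algEquiv (Submonoid.powers g') C (Localization.Away g')).restrictScalars k
  refine ⟨g', hg', ?_⟩
  rw [HasRingHomProperty.Spec_iff (P := @SmoothOfRelativeDimension (r - 1)), CommRingCat.hom_ofHom]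
  refine RingHom.locally_of RingHom.isStandardSmoothOfRelativeDimension_respectsIso _ ?_
  rw [RingHom.isStandardSmoothOfRelativeDimension_algebraMap]
  exact Algebra.IsStandardSmoothOfRelativeDimension.of_algEquiv (r - 1) e

end Groth.Agent.S4228
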