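import Groth.Statements.S4243
import Mathlib

set_option autoImplicit false
open SGA4h

namespace Groth.Agent.S4243

/-- Let k be a finite field with q elements and P a nonzero homogeneous polynomial of degree d in r+1
variables over k. If P vanishes at every point of k^{r+1} (that is, the hypersurface P = 0 in
projective r-space passes through every rational point), then d ≥ q + 1. -/
theorem result (k : Type) [Field k] [Fintype k] (r d : ℕ)
    (P : MvPolynomial (Fin (r + 1)) k) (hP : P.IsHomogeneous d) (hP0 : P ≠ 0)
    (hvan : ∀ x : Fin (r + 1) → k, MvPolynomial.eval x P = 0) :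
    Fintype.card k + 1 ≤ d := by
  classical
  by_contra hlt
  push Not at hlt
  apply hP0
  refine MvPolynomial.eq_zero_of_eval_eq_zero _ _ P hvan ?_
  rw [MvPolynomial.mem_restrictDegree]
  intro s hs i
  have hdeg : s.degree = d := by
    by_contra h
    exact (MvPolynomial.mem_support_iff.1 hs) (hP.coeff_eq_zero h)
  have hle : s i ≤ d := hdeg ▸ Finsupp.le_degree i s
  by_contra hbig
  have hsi : s i = d := by omega
  have hd0 : d ≠ 0 := by
    have := Fintype.one_lt_card (α := k)
    omega
  have hs' : s = Finsupp.single i d := by
    ext j
    rcases eq_or_ne j i with rfl | hji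
    · simp [hsi]
    · rw [Finsupp.single_eq_of_ne hji]
      by_contra hj
      have : s i + s j ≤ s.degree := by
        rw [Finsupp.degree, ← Finset.sum_pair hji.symm]
        refine Finset.sum_le_sum_of_subset_of_nonneg ?_ (by simp)
        intro z hz
        simp only [Finset.mem_insert, Finset.mem_singleton] at hz
        rcases hz with rfl | rfl <;> simp [Finsupp.mem_support_iff] <;> omega
      omega
  have h := hvan (Pi.single i 1)
  rw [MvPolynomial.eval_eq'] at h
  rw [Finset.sum_eq_single s] at h
  · refine (MvPolynomial.mem_support_iff.1 hs) ?_
    have h1 : ∀ j, (Pi.single i (1 : k) : Fin (r+1) → k) j ^ s j = 1 := fun j => by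
      rcases eq_or_ne j i with rfl | hji
      · simp
      · simp [hs', hji]
    simpa [h1] using h
  · intro b hb hbs
    refine mul_eq_zero_of_right _ ?_
    have hbd : b.degree = d := by
      by_contra h'
      exact (MvPolynomial.mem_support_iff.1 hb) (hP.coeff_eq_zero h')
    by_contra hne
    apply hbs
    have hz : ∀ j, j ≠ i → b j = 0 := fun j hji => by
      by_contra hj
      refine hne (Finset.prod_eq_zero (Finset.mem_univ j) ?_)
      simp [hji, zero_pow hj]
    have : b = Finsupp.single i (b i) := by
      ext j
      rcases eq_or_ne j i with rfl | hji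
      · simp
      · simp [hji, hz j hji]
    rw [this, Finsupp.degree_single] at hbd
    rw [this, hbd, hs']
  · simp [hs]

end Groth.Agent.S4243
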