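import Groth.Statements.S4256
import Mathlib

set_option autoImplicit false
open scoped BigOperators
open SGA4h

namespace Groth.Agent.S4256

/-- Let k be a finite field, ψ a nontrivial additive character of k with values in a domain R, and n ≥
1. Then the generalised Kloosterman sum with parameter 0, Σ ψ(x_1 + ⋯ + x_n) over all (x_1, …, x_n)
∈ k^n with x_1 ⋯ x_n = 0, equals (-1)^{n-1}. -/
theorem result (k : Type) [Field k] [Fintype k] [DecidableEq k] (R : Type) [CommRing R] [IsDomain R]
    (ψ : AddChar k R) (hψ : ψ ≠ 1) (n : ℕ) (hn : 1 ≤ n) :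
    ∑ x ∈ (Finset.univ : Finset (Fin n → k)).filter (fun x => ∏ i, x i = 0), ψ (∑ i, x i) = (-1) ^ (n - 1) := by
  classical
  have hprod : ∀ x : Fin n → k, ψ (∑ i, x i) = ∏ i, ψ (x i) := fun x => by
    induction (Finset.univ : Finset (Fin n)) using Finset.induction_on with
    | empty => simp
    | insert a s ha ih => rw [Finset.sum_insert ha, Finset.prod_insert ha, AddChar.map_add_eq_mul, ih]
  simp only [hprod]
  have hall : ∑ x : Fin n → k, ∏ i, ψ (x i) = 0 := by
    rw [← Fintype.sum_pow, AddChar.sum_eq_zero_of_ne_one hψ, zero_pow (by omega)]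
  have hcompl : ∑ x ∈ (Finset.univ : Finset (Fin n → k)).filter (fun x => ¬ ∏ i, x i = 0), ∏ i, ψ (x i)
      = (-1) ^ n := by
    have e : (Finset.univ : Finset (Fin n → k)).filter (fun x => ¬ ∏ i, x i = 0)
        = Fintype.piFinset fun _ => (Finset.univ.erase (0 : k)) := by
      ext x
      simp [Finset.prod_eq_zero_iff]
    rw [e, ← Finset.prod_univ_sum (fun _ => Finset.univ.erase (0:k)) fun _ y => ψ y]
    rw [Finset.prod_const, Finset.card_univ, Fintype.card_fin]
    congr 1
    rw [Finset.sum_erase_eq_sub (Finset.mem_univ _), AddChar.sum_eq_zero_of_ne_one hψ,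
      AddChar.map_zero_eq_one, zero_sub]
  rw [← Finset.sum_filter_add_sum_filter_not _ (fun x : Fin n → k => ∏ i, x i = 0), hcompl] at hall
  rw [eq_neg_of_add_eq_zero_left hall]
  obtain ⟨m, rfl⟩ := Nat.exists_eq_add_of_le hn
  simp [pow_add]

end Groth.Agent.S4256
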