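import Groth.Statements.S4263
import Groth.Agent.An92.FrobCorr.ConstPull
-- import your own Groth.Agent.* helpers here

set_option autoImplicit false
universe u
open CategoryTheory CategoryTheory.Limits AlgebraicGeometry Opposite
open scoped BigOperators
open SGA4h

namespace Groth.Agent.S4263


open Groth.Agent.An92.FrobCorr

set_option backward.isDefEq.respectTransparency.types false

/-- Transport of structure with constant coefficients is pullback with constant coefficients. -/
theorem galH_const {k K : Type u} [Field k] [Field K] [Algebra k K] [Fact FinFr.PullExact.{u}]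
    {X₀ : Scheme.{u}} (a : X₀ ⟶ Spec (CommRingCat.of k)) (σ : K ≃ₐ[k] K) (M : Type) [AddCommGroup M] (n : ℕ)
    (y : EtCoh.H (FinFr.ext K a) (EtCoh.const (FinFr.ext K a) M) n) :
    FinFr.galH a σ (EtCoh.const X₀ M) n (Sheaf.H.map (EtCore.pullConst (FinFr.extπ K a) M).inv n y) =
      Sheaf.H.map (EtCore.pullConst (FinFr.extπ K a) M).inv n (cPull M (FinFr.galAct a σ) n y) := by
  have := FinFr.pullExact_out (FinFr.galAct a σ)
  show Sheaf.H.map _ n (EtCore.Hpull (FinFr.galAct a σ) _ n (Sheaf.H.map _ n y)) =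
    Sheaf.H.map _ n (Sheaf.H.map _ n (EtCore.Hpull (FinFr.galAct a σ) _ n y))
  rw [EtCore.Hpull_natural, ← Sheaf.H.map_comp_apply, ← Sheaf.H.map_comp_apply]
  refine congrArg (fun z => Sheaf.H.map z n (EtCore.Hpull (FinFr.galAct a σ) _ n y)) ?_
  refine Eq.trans ?_ (congrArg ((EtCore.pullConst (FinFr.galAct a σ) M).hom ≫ ·)
    (pullConst_comp M (FinFr.galAct a σ) (FinFr.extπ K a) (FinFr.extπ K a) (FinFr.galAct_fst a σ)))
  exact (Iso.hom_inv_id_assoc _ _).symm

theorem galAct_arith {k K : Type u} [Field k] [Field K] [Algebra k K] {X₀ : Scheme.{u}}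
    (a : X₀ ⟶ Spec (CommRingCat.of k)) (σ : K ≃ₐ[k] K) :
    FinFr.galAct a σ ≫ FinFr.galAct a σ.symm = 𝟙 _ := by
  apply pullback.hom_ext
  · rw [Category.assoc, FinFr.galAct_fst, FinFr.galAct_fst, Category.id_comp]
  · rw [Category.assoc, FinFr.galAct_snd, reassoc_of% (FinFr.galAct_snd a σ), Category.id_comp, ← Spec.map_comp,
      show CommRingCat.ofHom (σ.symm : K →+* K) ≫ CommRingCat.ofHom (σ : K →+* K) = 𝟙 _ from
        CommRingCat.hom_ext (RingHom.ext fun z => σ.apply_symm_apply z), Spec.map_id, Category.comp_id]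

theorem specMap_eq_frobPow [Fact FinFr.PullExact.{u}] (p : ℕ) [Fact p.Prime] (A : CommRingCat.{u}) [FrobSch.IsCharP (Spec A) p]
    (ψ : A ⟶ A) (e : ℕ) (hψ : ∀ a, ψ a = a ^ p ^ e) : Spec.map ψ = frobPow p (Spec A) e := by
  apply ext_of_isAffine
  ext s
  rw [frobPow_appTop]
  apply (Scheme.ΓSpecIso A).commRingCatIsoToRingEquiv.injective
  rw [map_pow]
  show (Scheme.ΓSpecIso A).hom ((Spec.map ψ).appTop s) = ((Scheme.ΓSpecIso A).hom s) ^ p ^ e
  rw [← hψ]
  exact congr($(Scheme.ΓSpecIso_naturality ψ).hom s)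

/-- For an affine scheme and constant coefficients, pullback along the Frobenius endomorphism equals the
geometric Frobenius on cohomology: let k be a finite field with q elements, K an algebraic
extension, R a k-algebra, X₀ = Spec R, φ_R : R → R the ring endomorphism r ↦ r^q (the Frobenius
endomorphism F of X₀ is Spec φ_R, a k-morphism), and Λ a coefficient ring. Then for every n the
endomorphism of H^n(X₀ ⊗_k K, Λ) induced by pullback along F × id (using the identifications of the
inverse images of the constant sheaf Λ with Λ) coincides with the geometric Frobenius F^* defined as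
transport of structure by the inverse of the arithmetic Frobenius x ↦ x^q of K. -/
theorem result (k K : Type u) [Field k] [Fintype k] [Field K] [Algebra k K]
    [Algebra.IsAlgebraic k K] (Λ : Type) [CommRing Λ] [Fact FinFr.PullExact.{u}]
    (R : Type u) [CommRing R] [Algebra k R] (φ : R →+* R) (hφ : ∀ r : R, φ r = r ^ Fintype.card k)
    (hw : Spec.map (CommRingCat.ofHom φ) ≫ Spec.map (CommRingCat.ofHom (algebraMap k R)) =
      Spec.map (CommRingCat.ofHom (algebraMap k R))) (n : ℕ)
    (x : EtCoh.H (FinFr.ext K (Spec.map (CommRingCat.ofHom (algebraMap k R))))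
      (EtLam.pullback (FinFr.extπ K (Spec.map (CommRingCat.ofHom (algebraMap k R)))) (FinFr.constLam Λ (Spec (CommRingCat.of R)))).carrier n) :
    FinFr.frob (K := K) (Spec.map (CommRingCat.ofHom (algebraMap k R))) (FinFr.constLam Λ (Spec (CommRingCat.of R))) n x =
      Sheaf.H.map (EtCore.pullConst (FinFr.extπ K (Spec.map (CommRingCat.ofHom (algebraMap k R)))) Λ).inv n
        (FinFr.endConstAdd (Λ := Λ) (FinFr.extHom K (Spec.map (CommRingCat.ofHom (algebraMap k R))) (Spec.map (CommRingCat.ofHom φ)) hw) n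
          (Sheaf.H.map (EtCore.pullConst (FinFr.extπ K (Spec.map (CommRingCat.ofHom (algebraMap k R)))) Λ).hom n x)) := by
  obtain ⟨p, hchar⟩ := CharP.exists k
  obtain ⟨e, hp, hcard⟩ := FiniteField.card k p
  have : Fact p.Prime := ⟨hp⟩
  let a := Spec.map (CommRingCat.ofHom (algebraMap k R))
  have : FrobSch.IsCharP (Spec (CommRingCat.of k)) p := FrobSch.isCharP_Spec k p
  have : FrobSch.IsCharP (Spec (CommRingCat.of K)) p := FrobSch.IsCharP.of_hom (FinFr.specι k K) p
  have : FrobSch.IsCharP (Spec (CommRingCat.of R)) p := FrobSch.IsCharP.of_hom a p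
  have : FrobSch.IsCharP (FinFr.ext K a) p := FrobSch.IsCharP.of_hom (FinFr.extπ K a) p
  let σ := FinFr.arith k K
  let E := FinFr.extHom K a (Spec.map (CommRingCat.ofHom φ)) hw
  let G := FinFr.galAct a σ
  let Gi := FinFr.galAct a σ.symm
  have hF : Spec.map (CommRingCat.ofHom φ) = frobPow p (Spec (CommRingCat.of R)) e :=
    specMap_eq_frobPow p _ _ e fun r => by rw [← hcard]; exact hφ r
  have hK : Spec.map (CommRingCat.ofHom (σ : K →+* K)) = frobPow p (Spec (CommRingCat.of K)) e :=
    specMap_eq_frobPow p _ _ e fun r => by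
      rw [← hcard]
      show σ r = r ^ Fintype.card k
      simp [σ]
  have hE2 : E ≫ FinFr.extStr K a = FinFr.extStr K a := (pullback.lift_snd _ _ _).trans (Category.comp_id _)
  have hEG : E ≫ G = frobPow p (FinFr.ext K a) e := by
    apply pullback.hom_ext
    · rw [Category.assoc, FinFr.galAct_fst, FinFr.extHom_fst, frobPow_comp p (FinFr.extπ K a) e, hF]
    · rw [Category.assoc, FinFr.galAct_snd, reassoc_of% hE2, frobPow_comp p (FinFr.extStr K a) e, hK]
  obtain ⟨y, rfl⟩ : ∃ y, Sheaf.H.map (EtCore.pullConst (FinFr.extπ K a) Λ).inv n y = x :=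
    ⟨Sheaf.H.map (EtCore.pullConst (FinFr.extπ K a) Λ).hom n x, by
      rw [← Sheaf.H.map_comp_apply, Iso.hom_inv_id, Sheaf.H.map_id_apply]⟩
  refine (galH_const a σ.symm Λ n y).trans (congrArg _ ?_)
  have hx : Sheaf.H.map (EtCore.pullConst (FinFr.extπ K a) Λ).hom n
      (Sheaf.H.map (EtCore.pullConst (FinFr.extπ K a) Λ).inv n y) = y := by
    rw [← Sheaf.H.map_comp_apply, Iso.inv_hom_id, Sheaf.H.map_id_apply]
  refine Eq.trans ?_ (congrArg (cPull Λ E n) hx).symm
  -- `e E ∘ e G = id` and `e G ∘ e Gi = id`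
  have h1 : ∀ z, cPull Λ E n (cPull Λ G n z) = z := fun z => by
    rw [cPull_comp Λ E G _ hEG, cPull_frobPow]
  have h2 : ∀ z, cPull Λ G n (cPull Λ Gi n z) = z := fun z => by
    rw [cPull_comp Λ G Gi _ (galAct_arith a σ), cPull_id Λ p]
  show cPull Λ Gi n y = _
  conv_rhs => rw [← h2 y, h1]

end Groth.Agent.S4263
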