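import Groth.Statements.S4276
import Groth.Agent.Desc59.Pic.TauNum

set_option autoImplicit false
universe u
open CategoryTheory CategoryTheory.Limits AlgebraicGeometry
open Pic13

namespace Groth.Agent.S4276

open scoped Groth.Agent.FGA29


/-- Let k be an algebraically closed field, X a proper k-scheme of dimension ≤ d and L an invertible
O_X-module which is τ-equivalent to zero (some positive power of L is algebraically equivalent to
zero). Then χ(F ⊗ L) = χ(F) for every coherent O_X-module F (Euler characteristics computed in
degrees ≤ d). -/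
theorem result (k : Type u) [Field k] [IsAlgClosed k] (X : Scheme.{u}) [X.Over (Spec (CommRingCat.of k))]
    [IsProper (X ↘ Spec (CommRingCat.of k))] (d : ℕ) (hd : topologicalKrullDim X ≤ d)
    (L : X.Modules) (hL : PicF.IsInvertible L) (hτ : Pic13.IsTauEquivZero k X L) (F : X.Modules) (hF : Coh.IsCoh F) :
    FGA.eulerCharLE k X (CohB1.tensorMod F L) d = FGA.eulerCharLE k X F d := by
  refine Groth.Agent.Desc59.Pic.eulerCharLE_tensorPow_tau k hd hL hτ hF
    (Groth.Agent.Crv77.isCoh_tensorMod hF (Groth.Agent.Amp73.isCoh_of_isInvertible hL)) 1 ?_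
  rw [pow_one, Groth.Agent.FGA29.cl_tensor, mul_comm]

end Groth.Agent.S4276
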