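import Groth.Statements.S4295
import Groth.Agent.PCoh41.Limit

set_option autoImplicit false
universe w v u
open CategoryTheory CategoryTheory.Limits
open PCoh

namespace Groth.Agent.S4295

/-- Punctual site: let C be an abelian category and C₀ a strictly full additive subcategory (closed
under isomorphisms, containing zero, closed under binary products) which is quasi-stable under
kernels of epimorphisms and quasi-liftable in C. If F ∈ D(C) is C₀-pseudo-coherent (for every n
isomorphic to a bounded above complex with terms in C₀ from degree n on), then F is isomorphic in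
D(C) to the image of one bounded above complex all of whose terms lie in C₀. -/
theorem result {C : Type u} [Category.{v} C] [Abelian C] [HasDerivedCategory.{w} C]
    (P : ObjectProperty C) [P.IsClosedUnderIsomorphisms] [P.ContainsZero] (hsum : ∀ X Y : C, P X → P Y → P (X ⨯ Y))
    (hqs : PCoh.IsQuasiStableUnderKernels P) (hql : PCoh.IsQuasiLiftable P)
    (F : DerivedCategory C) (hF : PCoh.IsPC P F) :
    ∃ E : CochainComplex C ℤ, PCoh.IsStrictPCAll P E ∧ Nonempty (DerivedCategory.Q.obj E ≅ F) := by
  have hA : PCoh41.Add P := PCoh41.add_mk hsum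
  obtain ⟨b, hb⟩ := PCoh41.pcn_bound (hF 0)
  let K := DerivedCategory.Q.objPreimage F
  let e : DerivedCategory.Q.obj K ≅ F := DerivedCategory.Q.objObjPreimageIso F
  obtain ⟨L, u, hu, hP, hz⟩ := PCoh41.exists_qiso_all hA hqs hql K b
    (fun m => PCoh41.pcn_iso e.symm (hF m))
    (fun j hj => (PCoh41.isZero_H_iff K j).1 ((hb j hj).of_iso
      ((DerivedCategory.homologyFunctor C j).mapIso e)))
  exact ⟨L, ⟨⟨b, hz⟩, hP⟩, ⟨asIso (DerivedCategory.Q.map u) ≪≫ e⟩⟩

end Groth.Agent.S4295
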