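import Groth.Statements.S4296
import Groth.Agent.PCoh41.Limit

set_option autoImplicit false
universe w v u
open CategoryTheory CategoryTheory.Limits
open PCoh

namespace Groth.Agent.S4296

/-- Punctual site: fullness of K⁻(C₀)/(acyclic complexes) ⟶ D(C): let C be an abelian category and C₀ a
strictly full additive subcategory, quasi-stable under kernels of epimorphisms and quasi-liftable.
For bounded above complexes E, E' with terms in C₀ and any morphism α : E ⟶ E' in D(C), there are a
bounded above complex E'' with terms in C₀, a quasi-isomorphism s : E'' ⟶ E and a chain map f : E''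
⟶ E' with s ≫ α = f in D(C). -/
theorem result {C : Type u} [Category.{v} C] [Abelian C] [HasDerivedCategory.{w} C]
    (P : ObjectProperty C) [P.IsClosedUnderIsomorphisms] [P.ContainsZero] (hsum : ∀ X Y : C, P X → P Y → P (X ⨯ Y))
    (hqs : PCoh.IsQuasiStableUnderKernels P) (hql : PCoh.IsQuasiLiftable P)
    (E E' : CochainComplex C ℤ) (hE : PCoh.IsStrictPCAll P E) (hE' : PCoh.IsStrictPCAll P E')
    (α : DerivedCategory.Q.obj E ⟶ DerivedCategory.Q.obj E') :
    ∃ (E'' : CochainComplex C ℤ) (s : E'' ⟶ E) (f : E'' ⟶ E'), PCoh.IsStrictPCAll P E'' ∧ QuasiIso s ∧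
      DerivedCategory.Q.map s ≫ α = DerivedCategory.Q.map f := by
  have hA : PCoh41.Add P := PCoh41.add_mk hsum
  obtain ⟨X, s, hs, g, hg⟩ := DerivedCategory.right_fac α
  have hs' : QuasiIso s := (DerivedCategory.isIso_Q_map_iff_quasiIso (φ := s)).1 hs
  obtain ⟨b, hb⟩ := hE.1
  obtain ⟨L, t, ht, hP, hz⟩ := PCoh41.exists_qiso_all hA hqs hql X b
    (fun m => ⟨E, ⟨hE.1, fun i _ => hE.2 i⟩, ⟨(asIso (DerivedCategory.Q.map s)).symm⟩⟩)
    (fun j hj => (PCoh41.isZero_homology_of_quasiIso s j).2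
      (PCoh41.isZero_homology_of_isZero_X _ _ (hb j hj)))
  exact ⟨L, t ≫ s, t ≫ g, ⟨⟨b, hz⟩, hP⟩, inferInstance, by simp [hg]⟩

end Groth.Agent.S4296
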