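import Groth.Statements.S4297
import Groth.Agent.PCoh41.Limit

set_option autoImplicit false
universe w v u
open CategoryTheory CategoryTheory.Limits
open PCoh

namespace Groth.Agent.S4297

/-- Punctual site: faithfulness of K⁻(C₀)/(acyclic complexes) ⟶ D(C): let C be an abelian category and
C₀ a strictly full additive subcategory, quasi-stable under kernels of epimorphisms and
quasi-liftable. If two chain maps f, g : E ⟶ E' between bounded above complexes with terms in C₀
have the same image in D(C), then there are a bounded above complex E'' with terms in C₀ and a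
quasi-isomorphism s : E'' ⟶ E such that s ≫ f and s ≫ g are homotopic. -/
theorem result {C : Type u} [Category.{v} C] [Abelian C] [HasDerivedCategory.{w} C]
    (P : ObjectProperty C) [P.IsClosedUnderIsomorphisms] [P.ContainsZero] (hsum : ∀ X Y : C, P X → P Y → P (X ⨯ Y))
    (hqs : PCoh.IsQuasiStableUnderKernels P) (hql : PCoh.IsQuasiLiftable P)
    (E E' : CochainComplex C ℤ) (hE : PCoh.IsStrictPCAll P E) (hE' : PCoh.IsStrictPCAll P E')
    (f g : E ⟶ E') (hfg : DerivedCategory.Q.map f = DerivedCategory.Q.map g) :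
    ∃ (E'' : CochainComplex C ℤ) (s : E'' ⟶ E), PCoh.IsStrictPCAll P E'' ∧ QuasiIso s ∧ Nonempty (Homotopy (s ≫ f) (s ≫ g)) := by
  have hA : PCoh41.Add P := PCoh41.add_mk hsum
  obtain ⟨X, s, hs, hh⟩ : ∃ (X : CochainComplex C ℤ) (s : X ⟶ E), QuasiIso s ∧
      Nonempty (Homotopy (s ≫ f) (s ≫ g)) := by
    have key := (MorphismProperty.map_eq_iff_precomp DerivedCategory.Qh
      (HomotopyCategory.quasiIso C (ComplexShape.up ℤ))
      ((HomotopyCategory.quotient C _).map f) ((HomotopyCategory.quotient C _).map g)).1 (by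
        have e := DerivedCategory.quotientCompQhIso C
        have h1 := e.hom.naturality f
        have h2 := e.hom.naturality g
        simp only [Functor.comp_map, hfg] at h1 h2
        exact (cancel_mono (e.hom.app E')).1 (h1.trans h2.symm))
    obtain ⟨Z, t, ht, hZ⟩ := key
    obtain ⟨Z, rfl⟩ := HomotopyCategory.quotient_obj_surjective Z
    obtain ⟨t, rfl⟩ := (HomotopyCategory.quotient _ _).map_surjective t
    refine ⟨Z, t, ?_, ⟨HomotopyCategory.homotopyOfEq _ _ (by simpa using hZ)⟩⟩
    exact (HomotopyCategory.quotient_map_mem_quasiIso_iff t).1 ht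
  obtain ⟨b, hb⟩ := hE.1
  obtain ⟨L, t, ht, hP, hz⟩ := PCoh41.exists_qiso_all hA hqs hql X b
    (fun m => ⟨E, ⟨hE.1, fun i _ => hE.2 i⟩, ⟨(asIso (DerivedCategory.Q.map s)).symm⟩⟩)
    (fun j hj => (PCoh41.isZero_homology_of_quasiIso s j).2
      (PCoh41.isZero_homology_of_isZero_X _ _ (hb j hj)))
  refine ⟨L, t ≫ s, ⟨⟨b, hz⟩, hP⟩, inferInstance, hh.elim fun h => ⟨?_⟩⟩
  exact (Homotopy.ofEq (Category.assoc _ _ _)).trans
    ((h.compLeft t).trans (Homotopy.ofEq (Category.assoc _ _ _).symm))

end Groth.Agent.S4297
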