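import Groth.Statements.S4305
import Groth.Agent.Desc59.Pic.TauNum
import Groth.Agent.Inv57.OfTensor

set_option autoImplicit false
universe u
open CategoryTheory CategoryTheory.Limits AlgebraicGeometry
open Pic13

namespace Groth.Agent.S4305

open scoped Groth.Agent.FGA29


/-- Let k be an algebraically closed field, X an irreducible proper k-scheme of dimension ≤ d carrying
an ample invertible module H with inverse H', and L an invertible module with inverse L'. Condition
(v): χ(L^{⊗ m} ⊗ H^{⊗ n}) = χ(H^{⊗ n}) for all integers m, n — written with natural exponents on L,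
L', H, H' to cover all signs, Euler characteristics in degrees ≤ d; condition (i): L is τ-equivalent
to zero. -/
theorem result (k : Type u) [Field k] [IsAlgClosed k] (X : Scheme.{u})
    [X.Over (Spec (CommRingCat.of k))] [IsProper (X ↘ Spec (CommRingCat.of k))] [IrreducibleSpace X]
    (d : ℕ) (hd : topologicalKrullDim X ≤ d) (H H' L L' : X.Modules) (hH : CohB1.IsAmple H) (hL : PicF.IsInvertible L)
    (hHH' : Nonempty (CohB1.tensorMod H H' ≅ Coh.structureModule X)) (hLL' : Nonempty (CohB1.tensorMod L L' ≅ Coh.structureModule X))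
    (hτ : Pic13.IsTauEquivZero k X L) :
    ∀ m n : ℕ,
      FGA.eulerCharLE k X (CohB1.tensorMod (CohB1.tensorPow L m) (CohB1.tensorPow H n)) d = FGA.eulerCharLE k X (CohB1.tensorPow H n) d ∧
      FGA.eulerCharLE k X (CohB1.tensorMod (CohB1.tensorPow L m) (CohB1.tensorPow H' n)) d = FGA.eulerCharLE k X (CohB1.tensorPow H' n) d ∧
      FGA.eulerCharLE k X (CohB1.tensorMod (CohB1.tensorPow L' m) (CohB1.tensorPow H n)) d = FGA.eulerCharLE k X (CohB1.tensorPow H n) d ∧
      FGA.eulerCharLE k X (CohB1.tensorMod (CohB1.tensorPow L' m) (CohB1.tensorPow H' n)) d = FGA.eulerCharLE k X (CohB1.tensorPow H' n) d := by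
  open Groth.Agent Groth.Agent.FGA29 in
  intro m n
  have hHi : PicF.IsInvertible H := hH.1
  have hH'i : PicF.IsInvertible H' := Inv57.isInvertible_of_tensorMod_iso ((EGA73.tensComm H' H) ≪≫ hHH'.some)
  have hL'i : PicF.IsInvertible L' := Inv57.isInvertible_of_tensorMod_iso ((EGA73.tensComm L' L) ≪≫ hLL'.some)
  have hcoh : ∀ {A : X.Modules}, PicF.IsInvertible A → ∀ {B : X.Modules}, PicF.IsInvertible B →
      ∀ i j : ℕ, Coh.IsCoh (CohB1.tensorMod (CohB1.tensorPow A i) (CohB1.tensorPow B j)) := fun hA _ hB i j =>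
    Amp73.isCoh_of_isInvertible (EGA73.isInvertible_tensorMod (EGA73.isInvertible_tensorPow hA i)
      (EGA73.isInvertible_tensorPow hB j))
  have hpos : ∀ {B : X.Modules}, PicF.IsInvertible B →
      FGA.eulerCharLE k X (CohB1.tensorMod (CohB1.tensorPow L m) (CohB1.tensorPow B n)) d =
        FGA.eulerCharLE k X (CohB1.tensorPow B n) d := fun hB =>
    Desc59.Pic.eulerCharLE_tensorPow_tau k hd hL hτ (Amp73.isCoh_of_isInvertible (EGA73.isInvertible_tensorPow hB n))
      (hcoh hL hB m n) m (by rw [cl_tensor, cl_tensorPow])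
  have hneg : ∀ {B : X.Modules}, PicF.IsInvertible B →
      FGA.eulerCharLE k X (CohB1.tensorMod (CohB1.tensorPow L' m) (CohB1.tensorPow B n)) d =
        FGA.eulerCharLE k X (CohB1.tensorPow B n) d := fun hB =>
    (Desc59.Pic.eulerCharLE_tensorPow_tau k hd hL hτ (hcoh hL'i hB m n)
      (Amp73.isCoh_of_isInvertible (EGA73.isInvertible_tensorPow hB n)) m (by
        rw [cl_tensor, ← mul_assoc, cl_tensorPow L' m, ← mul_pow, ← cl_tensor,
          show PicF.cl (CohB1.tensorMod L L') = 1 from Quot.sound hLL', one_pow, one_mul])).symm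
  exact ⟨hpos hHi, hpos hH'i, hneg hHi, hneg hH'i⟩

end Groth.Agent.S4305
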