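import Groth.Agent.An92.Germ.Stalk
import Groth.Agent.An92.Affine
-- Template for statement S4307 (row 4306; see the milestone table for weights).
-- Copy to Groth/Agent/S4307.lean and replace the sorry. The statement below is byte-identical to the frozen
-- statement An.GrothFrozen.S4307 (Groth/Statements/S4307.lean; the theorem An.holomorphic_affineSpace_iff);
-- the grader kernel-checks Groth.Agent.S4307.result against that frozen type. Keep the theorem IN THIS FILE
-- (a `result` declared elsewhere and merely imported here is not credited); helpers may live anywhere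
-- under Groth/Agent/.

set_option autoImplicit false
open CategoryTheory AlgebraicGeometry Topology TopologicalSpace
open An

namespace Groth.Agent.S4307

/-- A sanity check of the definition of holomorphic functions: for an open set U of complex points of
affine n-space over ℂ and g : U → ℂ, g is holomorphic (satisfies the local predicate An.holPred of
the prelude) if and only if g = G ∘ (coordinates) for some G : ℂ^n → ℂ complex-differentiable on the
image of U in ℂ^n. -/
theorem result (n : ℕ) (U : TopologicalSpace.Opens (An.Pts (𝔸(Fin n; An.SC))))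
    (g : U → ℂ) :
    (An.holPred (𝔸(Fin n; An.SC))).pred g ↔
      ∃ G : (Fin n → ℂ) → ℂ,
        DifferentiableOn ℂ G ((fun (x : An.Pts (𝔸(Fin n; An.SC))) (i : Fin n) =>
          x.evTop (AffineSpace.coord An.SC i)) '' (U : Set (An.Pts (𝔸(Fin n; An.SC))))) ∧
        ∀ x : U, g x = G (fun i => (x : An.Pts (𝔸(Fin n; An.SC))).evTop (AffineSpace.coord An.SC i)) := by
  classical
  set e := fun (x : An.Pts (𝔸(Fin n; An.SC))) (i : Fin n) => x.evTop (AffineSpace.coord An.SC i) with he
  have hhom : IsHomeomorph e := An92.isHomeomorph_evTop_affineSpace (Fin n)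
  constructor
  · intro hg
    let E := hhom.homeomorph
    let G : (Fin n → ℂ) → ℂ := fun w => if h : E.symm w ∈ U then g ⟨E.symm w, h⟩ else 0
    have hGe : ∀ x : U, g x = G (e x) := fun x => by
      have h : E.symm (e x) = x := E.symm_apply_apply (x : An.Pts (𝔸(Fin n; An.SC)))
      simp only [G, h, dif_pos x.2]
    refine ⟨G, ?_, hGe⟩
    rintro _ ⟨x, hx, rfl⟩
    refine DifferentiableAt.differentiableWithinAt ?_
    have hs : Function.Surjective
        (MvPolynomial.eval₂Hom (An92.strHomU (⊤ : (𝔸(Fin n; An.SC)).Opens)) (AffineSpace.coord An.SC)) := by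
      have : An92.strHomU (⊤ : (𝔸(Fin n; An.SC)).Opens) = An.strHom _ := by
        refine RingHom.ext fun c => ?_
        show ((𝔸(Fin n; An.SC)).presheaf.map (𝟙 (Opposite.op ⊤))) (An.strHom _ c) = _
        rw [CategoryTheory.Functor.map_id]
        rfl
      rw [this]
      exact An92.affineSpace_generators (Fin n)
    obtain ⟨φ, hφ⟩ := An92.toGerm_range_le (U := (⊤ : (𝔸(Fin n; An.SC)).Opens)) (isAffineOpen_top _)
      (AffineSpace.coord An.SC) hs x trivial
      ((An.anSpace _).presheaf.germ U x hx ⟨g, hg⟩)
    obtain ⟨F, hF, rfl⟩ := An92.holGerm.exists_rep φ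
    have h1 := Filter.Germ.coe_eq.1 ((An92.thetaGerm_mk (AffineSpace.coord An.SC) x _ F hF).symm.trans
      (hφ.trans (An92.toGerm_germ x U hx ⟨g, hg⟩)))
    have hev : G =ᶠ[𝓝 (e x)] fun w => F (w - e x) := by
      have h2 : ∀ᶠ y in 𝓝 x, G (e y) = F (e y - e x) := by
        filter_upwards [h1, U.2.mem_nhds hx] with y hy hyU
        have ht : ∀ z : An.Pts (𝔸(Fin n; An.SC)), An92.coords (U := ⊤) (AffineSpace.coord An.SC) z = e z :=
          fun z => An92.coords_of_mem (U := ⊤) _ (Opens.mem_top _)
        simp only [An92.extFun_of_mem (g : U → ℂ) hyU, An92.centred, ht] at hy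
        rw [← hGe ⟨y, hyU⟩]
        exact hy.symm
      rw [Filter.EventuallyEq, show 𝓝 (e x) = Filter.map e (𝓝 x) from (hhom.homeomorph.map_nhds_eq x).symm]
      exact h2
    refine DifferentiableAt.congr_of_eventuallyEq ?_ hev
    have hF0 : DifferentiableAt ℂ F (e x - e x) := by rw [sub_self]; exact hF.self_of_nhds
    have hc : DifferentiableAt ℂ (fun w : Fin n → ℂ => w - e x) (e x) :=
      (differentiableAt_id (𝕜 := ℂ) (x := e x)).sub_const (e x)
    exact DifferentiableAt.comp (f := fun w : Fin n → ℂ => w - e x) (e x) hF0 hc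
  · rintro ⟨G, hG, hg⟩
    refine An.holPred_of_chartAlg (Algebra.subset_adjoin ?_)
    exact ⟨⊤, fun _ => trivial, n, AffineSpace.coord An.SC, e '' U, G, hhom.isOpenMap _ U.2, hG,
      fun x => ⟨⟨x.1, x.2, rfl⟩, hg x⟩⟩

end Groth.Agent.S4307
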