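import Groth.Agent.An92.Mod.Exact
-- Template for statement S4308 (row 4307; see the milestone table for weights).
-- Copy to Groth/Agent/S4308.lean and replace the sorry. The statement below is byte-identical to the frozen
-- statement An.GrothFrozen.S4308 (Groth/Statements/S4308.lean; the theorem An.analytify_faithful_exact);
-- the grader kernel-checks Groth.Agent.S4308.result against that frozen type. Keep the theorem IN THIS FILE
-- (a `result` declared elsewhere and merely imported here is not credited); helpers may live anywhere
-- under Groth/Agent/.

set_option autoImplicit false
open CategoryTheory AlgebraicGeometry Topology TopologicalSpace
open An

namespace Groth.Agent.S4308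

/-- For X reduced, where the associated analytic space is X(ℂ) with the sheaf of holomorphic functions:
the functor M ↦ M^an from O_X-modules to O_{X^an}-modules is exact, faithful and conservative (right
exactness being automatic for this left adjoint, the content is left exactness, faithfulness and
conservativity). -/
theorem result (X : Scheme.{0}) [X.Over An.SC] [LocallyOfFiniteType (X ↘ An.SC)] [IsReduced X] :
    Limits.PreservesFiniteLimits (An.analytify X) ∧ Limits.PreservesFiniteColimits (An.analytify X) ∧
      (An.analytify X).Faithful ∧ (An.analytify X).ReflectsIsomorphisms := by
  exact An92.analytify_exact

end Groth.Agent.S4308
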