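import Groth.Agent.An92.Germ.Flat
-- Template for statement S4313 (row 4312; see the milestone table for weights).
-- Copy to Groth/Agent/S4313.lean and replace the sorry. The statement below is byte-identical to the frozen
-- statement An.GrothFrozen.S4313 (Groth/Statements/S4313.lean; the theorem An.stalkMap_anToScheme_flat);
-- the grader kernel-checks Groth.Agent.S4313.result against that frozen type. Keep the theorem IN THIS FILE
-- (a `result` declared elsewhere and merely imported here is not credited); helpers may live anywhere
-- under Groth/Agent/.

set_option autoImplicit false
open CategoryTheory AlgebraicGeometry Topology TopologicalSpace
open An

namespace Groth.Agent.S4313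

/-- The flatness assertion: for X reduced and locally of finite type over ℂ (the associated analytic
space being X(ℂ) with the sheaf of holomorphic functions): for every ℂ-point x, the induced map on
stalks O_{X, x} → O_{X^an, x} (germs of regular functions to germs of holomorphic functions) is
flat. The published statement is the stronger one that it induces an isomorphism on completions. -/
theorem result (X : Scheme.{0}) [X.Over An.SC] [LocallyOfFiniteType (X ↘ An.SC)]
    [IsReduced X] (x : An.Pts X) :
    (PresheafedSpace.Hom.stalkMap (An.anToScheme X) x).hom.Flat := by
  exact An92.flat_anStalkMap x

end Groth.Agent.S4313
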