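import Groth.Agent.An92.IsoCriterion
-- Template for statement S4315 (row 4314; see the milestone table for weights).
-- Copy to Groth/Agent/S4315.lean and replace the sorry. The statement below is byte-identical to the frozen
-- statement An.GrothFrozen.S4315 (Groth/Statements/S4315.lean; the theorem An.isIso_iff_homeomorph_holomorphic_inverse);
-- the grader kernel-checks Groth.Agent.S4315.result against that frozen type. Keep the theorem IN THIS FILE
-- (a `result` declared elsewhere and merely imported here is not credited); helpers may live anywhere
-- under Groth/Agent/.

set_option autoImplicit false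
open CategoryTheory AlgebraicGeometry Topology TopologicalSpace
open An

namespace Groth.Agent.S4315

/-- For X and Y reduced and locally of finite type over ℂ (associated analytic spaces = ℂ-points with
holomorphic functions): a morphism f : X → Y over ℂ is an isomorphism if and only if f^an is, i.e.
if and only if the induced map X(ℂ) → Y(ℂ) is a homeomorphism whose inverse is holomorphic. -/
theorem result (X Y : Scheme.{0}) [X.Over An.SC] [Y.Over An.SC]
    [LocallyOfFiniteType (X ↘ An.SC)] [LocallyOfFiniteType (Y ↘ An.SC)] [IsReduced X] [IsReduced Y]
    (f : X ⟶ Y) [f.IsOver An.SC] :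
    IsIso f ↔ ∃ e : An.Pts X ≃ₜ An.Pts Y, (⇑e = An.Pts.map f) ∧
      An.IsHolMap (⟨e.symm, e.symm.continuous⟩ : C(An.Pts Y, An.Pts X)) := by
  exact An92.isIso_iff f

end Groth.Agent.S4315
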