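import Groth.Agent.An92.Germ.Flat
-- Template for statement S4316 (row 4315; see the milestone table for weights).
-- Copy to Groth/Agent/S4316.lean and replace the sorry. The statement below is byte-identical to the frozen
-- statement An.GrothFrozen.S4316 (Groth/Statements/S4316.lean; the theorem An.stalk_ringKrullDim_eq_an);
-- the grader kernel-checks Groth.Agent.S4316.result against that frozen type. Keep the theorem IN THIS FILE
-- (a `result` declared elsewhere and merely imported here is not credited); helpers may live anywhere
-- under Groth/Agent/.

set_option autoImplicit false
open CategoryTheory AlgebraicGeometry Topology TopologicalSpace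
open An

namespace Groth.Agent.S4316

/-- Let X be a reduced scheme locally of finite type over ℂ and x a ℂ-point of X, and write O_{X^an,x}
for the ring of germs of holomorphic functions at x on X(ℂ). Then the local rings O_{X,x} and
O_{X^an,x} have the same Krull dimension. The published statement is global (X and its associated
analytic space have the same dimension); it is stated here pointwise, comparing the two local rings
at a single ℂ-point. -/
theorem result (X : Scheme.{0}) [X.Over An.SC] [LocallyOfFiniteType (X ↘ An.SC)] [IsReduced X] (x : An.Pts X) :
    ringKrullDim ↑(X.presheaf.stalk x.pt) = ringKrullDim ↑((An.anSpace X).presheaf.stalk x) := by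
  exact (An92.ringKrullDim_anStalk x).symm

end Groth.Agent.S4316
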