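import Groth.Agent.An92.Germ.SerreCmp
-- Template for statement S4318 (row 4317; see the milestone table for weights).
-- Copy to Groth/Agent/S4318.lean and replace the sorry. The statement below is byte-identical to the frozen
-- statement An.GrothFrozen.S4318 (Groth/Statements/S4318.lean; the theorem An.stalk_normal_iff_an);
-- the grader kernel-checks Groth.Agent.S4318.result against that frozen type. Keep the theorem IN THIS FILE
-- (a `result` declared elsewhere and merely imported here is not credited); helpers may live anywhere
-- under Groth/Agent/.

set_option autoImplicit false
open CategoryTheory AlgebraicGeometry Topology TopologicalSpace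
open An

namespace Groth.Agent.S4318

/-- Let X be a reduced scheme locally of finite type over ℂ and x a ℂ-point of X, and write O_{X^an,x}
for the ring of germs of holomorphic functions at x on X(ℂ). Then O_{X,x} is a normal domain (a
domain integrally closed in its fraction field) if and only if O_{X^an,x} is. The published
statement is global (X has the property if and only if its associated analytic space does); it is
stated here pointwise, comparing the two local rings at a single ℂ-point. -/
theorem result (X : Scheme.{0}) [X.Over An.SC] [LocallyOfFiniteType (X ↘ An.SC)] [IsReduced X] (x : An.Pts X) :
    (IsDomain ↑(X.presheaf.stalk x.pt) ∧ IsIntegrallyClosed ↑(X.presheaf.stalk x.pt)) ↔ (IsDomain ↑((An.anSpace X).presheaf.stalk x) ∧ IsIntegrallyClosed ↑((An.anSpace X).presheaf.stalk x)) := by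
  let R := X.presheaf.stalk x.pt
  let S := (An.anSpace X).presheaf.stalk x
  let : Algebra R S := (An92.anStalkMap x).toAlgebra
  have := An92.isLocalRing_anStalk x
  have := An92.isNoetherianRing_anStalk x
  have := An92.isNoetherianRing_stalk (X := X) x.pt
  have : IsLocalHom (algebraMap R S) := An92.isLocalHom_anStalkMap x
  have : Module.Flat R S := An92.flat_anStalkMap x
  exact An92.normal_iff_of_regular_fibres R S (An92.isRegularLocalRing_fibre_anStalk x)

end Groth.Agent.S4318
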