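import Groth.Agent.An92.Germ.SerreCmp
-- Template for statement S4320 (row 4319; see the milestone table for weights).
-- Copy to Groth/Agent/S4320.lean and replace the sorry. The statement below is byte-identical to the frozen
-- statement An.GrothFrozen.S4320 (Groth/Statements/S4320.lean; the theorem An.stalk_hasSk_iff_an);
-- the grader kernel-checks Groth.Agent.S4320.result against that frozen type. Keep the theorem IN THIS FILE
-- (a `result` declared elsewhere and merely imported here is not credited); helpers may live anywhere
-- under Groth/Agent/.

set_option autoImplicit false
open CategoryTheory AlgebraicGeometry Topology TopologicalSpace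
open An

namespace Groth.Agent.S4320

/-- Let X be a reduced scheme locally of finite type over ℂ and x a ℂ-point of X, and write O_{X^an,x}
for the ring of germs of holomorphic functions at x on X(ℂ). Then, for every n, O_{X,x} satisfies
Serre's condition (S_n) if and only if O_{X^an,x} does. The published statement is global (X has the
property if and only if its associated analytic space does); it is stated here pointwise, comparing
the two local rings at a single ℂ-point. -/
theorem result (X : Scheme.{0}) [X.Over An.SC] [LocallyOfFiniteType (X ↘ An.SC)] [IsReduced X] (x : An.Pts X) (n : ℕ) :
    LocCoh.HasSk n ↑(X.presheaf.stalk x.pt) ↑(X.presheaf.stalk x.pt) ↔ LocCoh.HasSk n ↑((An.anSpace X).presheaf.stalk x) ↑((An.anSpace X).presheaf.stalk x) := by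
  let R := X.presheaf.stalk x.pt
  let S := (An.anSpace X).presheaf.stalk x
  let : Algebra R S := (An92.anStalkMap x).toAlgebra
  have := An92.isLocalRing_anStalk x
  have := An92.isNoetherianRing_anStalk x
  have := An92.isNoetherianRing_stalk (X := X) x.pt
  have : IsLocalHom (algebraMap R S) := An92.isLocalHom_anStalkMap x
  have : Module.Flat R S := An92.flat_anStalkMap x
  exact An92.hasSk_iff_of_regular_fibres R S (An92.isRegularLocalRing_fibre_anStalk x) n

end Groth.Agent.S4320
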