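import Groth.Agent.An92.Germ.Functorial
import Groth.Agent.An92.Germ.FlatTransfer
import Groth.Agent.An92.FlatPts
-- Template for statement S4322 (row 4321; see the milestone table for weights).
-- Copy to Groth/Agent/S4322.lean and replace the sorry. The statement below is byte-identical to the frozen
-- statement An.GrothFrozen.S4322 (Groth/Statements/S4322.lean; the theorem An.flat_iff_anMap_stalks_flat);
-- the grader kernel-checks Groth.Agent.S4322.result against that frozen type. Keep the theorem IN THIS FILE
-- (a `result` declared elsewhere and merely imported here is not credited); helpers may live anywhere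
-- under Groth/Agent/.

set_option autoImplicit false
open CategoryTheory AlgebraicGeometry Topology TopologicalSpace
open An

namespace Groth.Agent.S4322

/-- Let X and Y be reduced schemes locally of finite type over ℂ and f : X → Y a morphism over ℂ. Then f
is flat if and only if f^an is, i.e. if and only if for every ℂ-point x of X the map on stalks
O_{Y^an, f(x)} → O_{X^an, x} induced by f^an is flat. -/
theorem result (X Y : Scheme.{0}) [X.Over An.SC] [Y.Over An.SC] [LocallyOfFiniteType (X ↘ An.SC)]
    [LocallyOfFiniteType (Y ↘ An.SC)] [IsReduced X] [IsReduced Y] (f : X ⟶ Y) [f.IsOver An.SC] :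
    Flat f ↔ ∀ x : An.Pts X, (PresheafedSpace.Hom.stalkMap (An.anMap f) x).hom.Flat := by
  constructor
  · intro hf x
    have hx : (An92.ptStalk f x).Flat := Flat.stalkMap f x.pt
    have := An92.isLocalRing_anStalk x
    have := An92.isLocalRing_anStalk (Pts.map f x)
    have := An92.isNoetherianRing_anStalk x
    have := An92.isNoetherianRing_anStalk (Pts.map f x)
    have := An92.map_maximalIdeal_le f x
    have hm := An92.anStalkMap_maximalIdeal (Pts.map f x)
    refine An92.flat_of_comp_flat (An92.anStalkMap (Pts.map f x)) (An92.anMapStalk f x) ?_ hm
      (fun n b => hm ▸ An92.exists_sub_mem_pow _ n b)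
      (fun n a ha => An92.mem_pow_of_anStalkMap_mem _ n a (by rw [← hm] at ha; exact ha))
    rw [An92.anMapStalk_comp]
    exact hx.comp (An92.flat_anStalkMap x)
  · intro h
    refine An92.flat_of_forall_pts f fun x => ?_
    have := An92.isLocalRing_anStalk x
    have := An92.isLocalHom_anStalkMap x
    refine FlatMor66.flat_of_comp_localHom (An92.ptStalk f x) (An92.anStalkMap x) (An92.flat_anStalkMap x) ?_
    rw [← An92.anMapStalk_comp]
    exact (An92.flat_anStalkMap (Pts.map f x)).comp (h x)

end Groth.Agent.S4322
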