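import Groth.Agent.An92.Germ.Etale
-- Template for statement S4324 (row 4323; see the milestone table for weights).
-- Copy to Groth/Agent/S4324.lean and replace the sorry. The statement below is byte-identical to the frozen
-- statement An.GrothFrozen.S4324 (Groth/Statements/S4324.lean; the theorem An.etale_iff_anMap_stalks_bijective);
-- the grader kernel-checks Groth.Agent.S4324.result against that frozen type. Keep the theorem IN THIS FILE
-- (a `result` declared elsewhere and merely imported here is not credited); helpers may live anywhere
-- under Groth/Agent/.

set_option autoImplicit false
open CategoryTheory AlgebraicGeometry Topology TopologicalSpace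
open An

namespace Groth.Agent.S4324

/-- Let X and Y be reduced schemes locally of finite type over ℂ and f : X → Y a morphism over ℂ. Then f
is etale if and only if f^an is etale, i.e. a local isomorphism of analytic spaces, i.e. if and only
if for every ℂ-point x of X the map on stalks O_{Y^an, f(x)} → O_{X^an, x} induced by f^an is
bijective. -/
theorem result (X Y : Scheme.{0}) [X.Over An.SC] [Y.Over An.SC] [LocallyOfFiniteType (X ↘ An.SC)]
    [LocallyOfFiniteType (Y ↘ An.SC)] [IsReduced X] [IsReduced Y] (f : X ⟶ Y) [f.IsOver An.SC] :
    Etale f ↔ ∀ x : An.Pts X, Function.Bijective (PresheafedSpace.Hom.stalkMap (An.anMap f) x).hom := by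
  exact An92.etale_iff_bijective f

end Groth.Agent.S4324
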