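import Groth.Statements.S4337
import Groth.Agent.LinTop27.Basic
import Mathlib.RingTheory.Nakayama

set_option autoImplicit false
universe u
open LinTop

namespace Groth.Agent.S4337

/-- Let A be an admissible ring, J an ideal of definition, and u : M -> N a homomorphism of A-modules
with N of finite type. Then u is surjective if and only if u tensored with A/J is surjective. -/
theorem result
    (A : Type u) [CommRing A] [UniformSpace A] [IsUniformAddGroup A] [IsTopologicalRing A]
    (hA : LinTop.IsAdmissible A) (J : Ideal A) (hJ : LinTop.IsIdealOfDefinition A J)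
    (M N : Type u) [AddCommGroup M] [Module A M] [AddCommGroup N] [Module A N] [Module.Finite A N]
    (u : M →ₗ[A] N) :
    Function.Surjective u ↔ Function.Surjective (u.rTensor (A ⧸ J)) := by
  obtain ⟨⟨hlin, -⟩, hT2, hC⟩ := hA
  refine ⟨fun h => LinearMap.rTensor_surjective _ h, fun h => ?_⟩
  have h' : Function.Surjective (u.lTensor (A ⧸ J)) := by
    simpa [← LinearMap.comm_comp_rTensor_comp_comm_eq] using h
  rw [← LinearMap.range_eq_top]
  refine eq_top_iff.mpr (Submodule.le_of_le_smul_of_le_jacobson_bot Module.Finite.fg_top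
    (LinTop27.le_jacobson_bot (LinTop27.IsIdealOfDefinition.weak hJ).2) ?_)
  intro y _
  obtain ⟨z, hz⟩ := h' (Ideal.Quotient.mk J 1 ⊗ₜ[A] y)
  obtain ⟨m, rfl⟩ := TensorProduct.mk_surjective A M (A ⧸ J) Ideal.Quotient.mk_surjective z
  simp only [TensorProduct.mk_apply, LinearMap.lTensor_tmul] at hz
  have hz' := congrArg (TensorProduct.quotTensorEquivQuotSMul N J) hz
  rw [← map_one (Ideal.Quotient.mk J)] at hz'
  simp only [TensorProduct.quotTensorEquivQuotSMul_mk_tmul, one_smul] at hz'
  have hmem : u m - y ∈ J • (⊤ : Submodule A N) := (Submodule.Quotient.eq _).mp hz'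
  exact Submodule.mem_sup.mpr ⟨u m, ⟨m, rfl⟩, -(u m - y), Submodule.neg_mem _ hmem, by abel⟩

end Groth.Agent.S4337
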