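import Groth.Statements.S4343
import Groth.Agent.SchBasics.Spread
import Mathlib.AlgebraicGeometry.Birational.RationalMap

set_option autoImplicit false
universe u
open RatMapD

namespace Groth.Agent.S4343

open AlgebraicGeometry in
open CategoryTheory in
/-- Let X, Y be S-schemes with X irreducible and Y locally of finite type over S. Two S-rational maps
from X to Y to which corresponds the same morphism Spec(O_x) -> Y, x the generic point of X, are
equal. (The published statement has Y of finite type over S; only local finite type is used. X is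
not assumed reduced.) -/
theorem result
    (S X Y : Scheme.{u}) [X.Over S] [Y.Over S] [IrreducibleSpace X]
    [LocallyOfFiniteType (Y ↘ S)] (f g : X ⤏ Y) [f.IsOver S] [g.IsOver S]
    (h : f.fromFunctionField = g.fromFunctionField) : f = g := by
  obtain ⟨a, ha, rfl⟩ := Scheme.RationalMap.IsOver.exists_partialMap_over (S := S) (f := f)
  obtain ⟨b, hb, rfl⟩ := Scheme.RationalMap.IsOver.exists_partialMap_over (S := S) (f := g)
  set W : X.Opens := a.domain ⊓ b.domain with hW
  have hd : Dense (W : Set X) := a.dense_domain.inter_of_isOpen_left b.dense_domain a.domain.2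
  rw [← Scheme.PartialMap.restrict_toRationalMap a W hd inf_le_left,
    ← Scheme.PartialMap.restrict_toRationalMap b W hd inf_le_right] at h ⊢
  rw [Scheme.RationalMap.fromFunctionField_toRationalMap,
    Scheme.RationalMap.fromFunctionField_toRationalMap] at h
  rw [Scheme.PartialMap.toRationalMap_eq_iff]
  set p := a.restrict W hd inf_le_left
  set q := b.restrict W hd inf_le_right
  have hη : genericPoint X ∈ W := (genericPoint_specializes _).mem_open W.2 hd.nonempty.choose_spec
  have hp : p.hom ≫ (Y ↘ S) = W.ι ≫ (X ↘ S) := by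
    have : (a.restrict W hd inf_le_left).IsOver S := inferInstance
    exact this.comp_over
  have hq : q.hom ≫ (Y ↘ S) = W.ι ≫ (X ↘ S) := by
    have : (b.restrict W hd inf_le_right).IsOver S := inferInstance
    exact this.comp_over
  have h2 : W.fromSpecStalkOfMem (genericPoint X) hη ≫ p.hom = W.fromSpecStalkOfMem (genericPoint X) hη ≫ q.hom := h
  simp only [Scheme.Opens.fromSpecStalkOfMem, Category.assoc] at h2
  obtain ⟨U, hU, e⟩ := SchBasics.spread_out_unique' (X := W.toScheme) _ (Y ↘ S) p.hom q.hom hp hq
    ((cancel_epi _).mp h2)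
  have hle : W.ι ''ᵁ U ≤ W := by rintro _ ⟨z, -, rfl⟩; exact z.2
  refine ⟨W.ι ''ᵁ U, (W.ι ''ᵁ U).2.dense ⟨_, _, hU, rfl⟩, hle, hle, ?_⟩
  simp only [Scheme.PartialMap.restrict_hom]
  change X.homOfLE hle ≫ p.hom = X.homOfLE hle ≫ q.hom
  refine (cancel_epi (W.ι.isoImage U).hom).mp ?_
  have e1 : (W.ι.isoImage U).hom ≫ X.homOfLE hle = U.ι := by
    rw [← cancel_mono W.ι, Category.assoc, Scheme.homOfLE_ι, Scheme.Hom.isoImage_hom_ι]
  exact (Category.assoc _ _ _).symm.trans ((congrArg (· ≫ p.hom) e1).trans
    (e.trans ((congrArg (· ≫ q.hom) e1).symm.trans (Category.assoc _ _ _))))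

end Groth.Agent.S4343
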