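import Groth.Statements.S4344
import Groth.Agent.SchBasics.RatGlue

set_option autoImplicit false
universe u
open RatMapD

namespace Groth.Agent.S4344

open AlgebraicGeometry in
open CategoryTheory in
/-- Let X be a reduced S-scheme, Y an S-scheme separated over S and f an S-rational map from X to Y.
There is a representative g of f which is an S-morphism and of which every S-morphism representing f
is a restriction; in particular g is the unique S-morphism of the class of f defined on the largest
open where some S-representative is defined. (The published statement speaks of the domain of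
definition among all representatives; over a base that is not separated that domain can be larger
than the one on which an S-representative exists, and this row takes the latter.) -/
theorem result
    (S X Y : Scheme.{u}) [X.Over S] [Y.Over S] [IsReduced X] [IsSeparated (Y ↘ S)]
    (f : X ⤏ Y) [f.IsOver S] :
    ∃ g : X.PartialMap Y, g.IsOver S ∧ g.toRationalMap = f ∧
      ∀ h : X.PartialMap Y, h.IsOver S → h.toRationalMap = f →
        ∃ hle : h.domain ≤ g.domain, h = g.restrict h.domain h.dense_domain hle := by
  classical
  let ι := {g : X.PartialMap Y // g.IsOver S ∧ g.toRationalMap = f}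
  obtain ⟨g₀, hg₀, hg₀'⟩ := Scheme.RationalMap.IsOver.exists_partialMap_over (S := S) (f := f)
  let D : ι → X.Opens := fun g => g.1.domain
  have hd : Dense ((⨆ g, D g : X.Opens) : Set X) :=
    g₀.dense_domain.mono (le_iSup D ⟨g₀, hg₀, hg₀'⟩)
  obtain ⟨G₀, hres⟩ := SchBasics.exists_glue (S := S) (fun a : ι => a.1) (fun a => a.2.1)
    (fun a b => Scheme.PartialMap.toRationalMap_eq_iff.mp (a.2.2.trans b.2.2.symm))
  let G : X.PartialMap Y := ⟨⨆ g, D g, hd, G₀⟩
  have hGover : G.IsOver S :=
    ⟨SchBasics.isOver_of_cover D (fun a => a.1.hom) (fun a => a.2.1.comp_over) G.hom hres⟩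
  refine ⟨G, hGover, ?_, fun h hh hf => ⟨le_iSup D ⟨h, hh, hf⟩, ?_⟩⟩
  · rw [← hg₀', Scheme.PartialMap.toRationalMap_eq_iff]
    refine ⟨g₀.domain, g₀.dense_domain, le_iSup D ⟨g₀, hg₀, hg₀'⟩, le_rfl, ?_⟩
    simp only [Scheme.PartialMap.restrict_hom]
    rw [hres ⟨g₀, hg₀, hg₀'⟩]
    simp only [Scheme.homOfLE_rfl, Category.id_comp]
  · refine Scheme.PartialMap.ext h (G.restrict h.domain h.dense_domain (le_iSup D ⟨h, hh, hf⟩)) rfl ?_
    simp only [Scheme.PartialMap.restrict_hom]
    rw [hres ⟨h, hh, hf⟩]
    have : h.hom = (X.isoOfEq (rfl : h.domain = h.domain)).hom ≫ h.hom := by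
      rw [Scheme.isoOfEq_rfl]
      exact (Category.id_comp _).symm
    exact this

end Groth.Agent.S4344
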