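import Groth.Statements.S4348
import Groth.Agent.QCqs72.Basic
import Mathlib.CategoryTheory.Abelian.CommSq

set_option autoImplicit false
universe u
open QCohSup

namespace Groth.Agent.S4348

open AlgebraicGeometry in
open CategoryTheory in
open CategoryTheory.Limits in
/-- Let X be a scheme and U an open subscheme such that the inclusion j : U -> X is quasi-compact. For a
quasi-coherent O_X-module F and a quasi-coherent submodule G of F|U, the canonical extension of G to
X (the preimage of j_*(G) under F -> j_*(F|U), here the fibre product in the category of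
O_X-modules) is quasi-coherent. -/
theorem result
    {X : Scheme.{u}} (U : X.Opens) [QuasiCompact U.ι] (F : X.Modules) [Coh.IsQCoh F]
    (G : (U : Scheme.{u}).Modules) [Coh.IsQCoh G]
    (i : G ⟶ (Scheme.Modules.pullback U.ι).obj F) [Mono i] :
    Coh.IsQCoh (pullback ((Scheme.Modules.pushforward U.ι).map i)
      ((Scheme.Modules.pullbackPushforwardAdjunction U.ι).unit.app F)) := by
  have := QCqs72.isQuasicoherent_pushforward G U.ι
  have hFU : ((Scheme.Modules.pullback U.ι).obj F).IsQuasicoherent :=
    QC70.isQuasicoherent_of_iso ((Scheme.Modules.restrictFunctorIsoPullback U.ι).app F) inferInstance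
  have hFF := QCqs72.isQuasicoherent_pushforward ((Scheme.Modules.pullback U.ι).obj F) U.ι
  have hsq := IsPullback.of_hasPullback ((Scheme.Modules.pushforward U.ι).map i)
    ((Scheme.Modules.pullbackPushforwardAdjunction U.ι).unit.app F)
  let A := (Scheme.Modules.pushforward U.ι).obj G
  have hB : (A ⊞ F).IsQuasicoherent :=
    @QC70.isQuasicoherent_X₂ _ (ShortComplex.mk (biprod.inl : A ⟶ A ⊞ F) biprod.snd (by simp))
      (ShortComplex.Splitting.ofHasBinaryBiproduct A F).shortExact
      ‹A.IsQuasicoherent› ‹F.IsQuasicoherent›
  have := hsq.mono_shortComplex'_f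
  exact QC70.isQuasicoherent_of_forall_isLocAt _ fun W hW =>
    @QC70.IsLocAt.of_left_exact _ hsq.shortComplex' hsq.exact_shortComplex' _ _
      (@QC70.isLocAt_of_isQuasicoherent _ _ _ hW hB)
      (@QC70.isLocAt_of_isQuasicoherent _ _ _ hW hFF)

end Groth.Agent.S4348
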