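import Groth.Agent.An92.FSch.Stalk
-- Template for statement S4358 (row 4357; see the milestone table for weights).
-- Copy to Groth/Agent/S4358.lean and replace the sorry. The statement below is byte-identical to the frozen
-- statement FCompl.GrothFrozen.S4358 (Groth/Statements/S4358.lean; the theorem FCompl.flat_codRestrict_stalkSubring);
-- the grader kernel-checks Groth.Agent.S4358.result against that frozen type. Keep the theorem IN THIS FILE
-- (a `result` declared elsewhere and merely imported here is not credited); helpers may live anywhere
-- under Groth/Agent/.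

set_option autoImplicit false
universe u
namespace FCompl
end FCompl
open FCompl

namespace Groth.Agent.S4358

/-- Affine content (the completion of X = Spec A along V(J) has as stalk ring at an open prime 𝔭 the
ring A_{S}, S = A ∖ 𝔭, realised here as the union of the images of the completed rings A_{f}, f ∉ 𝔭,
inside the completed local ring A{S⁻¹}; flatness of the canonical morphism of ringed spaces from the
completion to X is flatness of A_{S} over the local ring of X at 𝔭, equivalently over A). For A
Noetherian and J ⊆ 𝔭, the canonical ring map A → A_{S} is flat; the hypothesis h records that A →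
A{S⁻¹} takes values in A_{S}, which always holds. -/
theorem result
    (A : Type u) [CommRing A] [IsNoetherianRing A] (J 𝔭 : Ideal A) [𝔭.IsPrime] (hJ : J ≤ 𝔭)
    (h : ∀ a : A, ((algebraMap (Localization.AtPrime 𝔭) (FSch.cAtPrime A J 𝔭)).comp
      (algebraMap A (Localization.AtPrime 𝔭))) a ∈ FSch.stalkSubring A J 𝔭) :
    (((algebraMap (Localization.AtPrime 𝔭) (FSch.cAtPrime A J 𝔭)).comp
      (algebraMap A (Localization.AtPrime 𝔭))).codRestrict (FSch.stalkSubring A J 𝔭) h).Flat := by
  have := An92.FSch.isLocalRing_stalkSubring hJ
  have := An92.FSch.isLocalRing_cAtPrime hJ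
  have := An92.FSch.isLocalHom_subtype hJ
  refine FlatMor66.flat_of_comp_localHom _ (FSch.stalkSubring A J 𝔭).subtype
    (An92.FSch.flat_stalkSubring (J := J) (𝔭 := 𝔭)) ?_
  have h1 : (algebraMap A (Localization.AtPrime 𝔭)).Flat :=
    RingHom.flat_algebraMap_iff.2 (IsLocalization.flat _ 𝔭.primeCompl)
  have h2 : (algebraMap (Localization.AtPrime 𝔭) (FSch.cAtPrime A J 𝔭)).Flat :=
    RingHom.flat_algebraMap_iff.2 inferInstance
  exact h1.comp h2

end Groth.Agent.S4358
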