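import Groth.Statements.S4361
import Groth.Agent.SchBasics.Closure

set_option autoImplicit false
universe u
open FinCond

namespace Groth.Agent.S4361

open AlgebraicGeometry in
open CategoryTheory in
/-- Let f : X -> Y and g : Y -> Z be morphisms whose composite is quasi-compact, and suppose the
underlying space of X is locally Noetherian (every point has an open neighbourhood which is a
Noetherian topological space). Then f is quasi-compact. (The published statement also covers the
case g separated, which is the standard cancellation property; this row states only the case of a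
locally Noetherian source.) -/
theorem result
    {X Y Z : Scheme.{u}} (f : X ⟶ Y) (g : Y ⟶ Z) [QuasiCompact (f ≫ g)]
    (hX : ∀ x : X, ∃ U : X.Opens, x ∈ U ∧ TopologicalSpace.NoetherianSpace U) :
    QuasiCompact f := by
  rw [quasiCompact_iff]
  intro U _ hUc
  choose V hV hVN using hX
  choose W hW hWz hWsub using fun z : Z =>
    exists_isAffineOpen_mem_and_subset (U := ⊤) (TopologicalSpace.Opens.mem_top z)
  obtain ⟨t, ht⟩ := (hUc.image g.continuous).elim_finite_subcover (fun z => (W z : Set Z))
    (fun z => (W z).isOpen) (fun z _ => Set.mem_iUnion.mpr ⟨z, hWz z⟩)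
  have hC : IsCompact (⋃ z ∈ t, ((f ≫ g) ⁻¹ᵁ W z : Set X)) :=
    t.finite_toSet.isCompact_biUnion fun z _ => (f ≫ g).isCompact_preimage (hW z).isCompact
  obtain ⟨r, hr⟩ := hC.elim_finite_subcover (fun x => (V x : Set X)) (fun x => (V x).isOpen)
    (fun x _ => Set.mem_iUnion.mpr ⟨x, hV x⟩)
  change IsCompact (f ⁻¹' U)
  have : f ⁻¹' U = ⋃ x ∈ r, (f ⁻¹' U ∩ (V x : Set X)) := by
    ext a
    simp only [Set.mem_iUnion, Set.mem_inter_iff]
    refine ⟨fun ha => ?_, fun ⟨_, _, ha, _⟩ => ha⟩
    have hga : g (f a) ∈ g '' U := ⟨f a, ha, rfl⟩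
    obtain ⟨z, hz, hz'⟩ := Set.mem_iUnion₂.mp (ht hga)
    have : a ∈ ⋃ z ∈ t, ((f ≫ g) ⁻¹ᵁ W z : Set X) := Set.mem_iUnion₂.mpr ⟨z, hz, hz'⟩
    obtain ⟨x, hx, hx'⟩ := Set.mem_iUnion₂.mp (hr this)
    exact ⟨x, hx, ha, hx'⟩
  rw [this]
  refine r.finite_toSet.isCompact_biUnion fun x _ => ?_
  have : TopologicalSpace.NoetherianSpace ((V x : Set X)) := hVN x
  rw [← Set.image_preimage_eq_of_subset (f := fun a : ((V x : Set X)) => (a : X))
    (s := f ⁻¹' U ∩ (V x : Set X)) (by simp)]
  exact (TopologicalSpace.NoetherianSpace.isCompact _).image continuous_subtype_val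

end Groth.Agent.S4361
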