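import Groth.Statements.S4360
import Groth.Agent.SchBasics.Closure

set_option autoImplicit false
universe u
open FinCond

namespace Groth.Agent.S4360

open AlgebraicGeometry in
open CategoryTheory in
/-- Let f : X -> Y be an immersion and suppose that the underlying space of Y is locally Noetherian,
i.e. every point of Y has an open neighbourhood which is a Noetherian topological space. Then f is
quasi-compact (and hence of finite type, an immersion being locally of finite type). -/
theorem result
    {X Y : Scheme.{u}} (f : X ⟶ Y) [IsImmersion f]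
    (hY : ∀ y : Y, ∃ U : Y.Opens, y ∈ U ∧ TopologicalSpace.NoetherianSpace U) :
    QuasiCompact f := by
  rw [quasiCompact_iff]
  intro U hU hUc
  choose V hV hVN using hY
  obtain ⟨t, ht⟩ := hUc.elim_finite_subcover (fun y => (V y : Set Y)) (fun y => (V y).isOpen)
    (fun y _ => Set.mem_iUnion.mpr ⟨y, hV y⟩)
  have : f.base ⁻¹' U = ⋃ y ∈ t, f.base ⁻¹' (U ∩ (V y : Set Y)) := by
    ext x
    simp only [Set.mem_preimage, Set.mem_iUnion, Set.mem_inter_iff]
    exact ⟨fun hx => by simpa [hx] using ht hx, fun ⟨_, _, hx, _⟩ => hx⟩
  change IsCompact (f.base ⁻¹' U)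
  rw [this]
  refine t.finite_toSet.isCompact_biUnion fun y _ => ?_
  rw [f.isEmbedding.isCompact_iff, Set.image_preimage_eq_inter_range]
  have : TopologicalSpace.NoetherianSpace ((V y : Set Y)) := hVN y
  have hsub : U ∩ (V y : Set Y) ∩ Set.range f ⊆ (V y : Set Y) := fun z hz => hz.1.2
  rw [← Set.image_preimage_eq_of_subset (f := fun a : ((V y : Set Y)) => (a : Y))
    (s := U ∩ (V y : Set Y) ∩ Set.range f) (by simpa using hsub)]
  exact (TopologicalSpace.NoetherianSpace.isCompact _).image continuous_subtype_val

end Groth.Agent.S4360
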