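import Groth.Statements.S4363
import Mathlib.AlgebraicGeometry.Morphisms.Separated

set_option autoImplicit false
universe u v
open RedSep

namespace Groth.Agent.S4363

open AlgebraicGeometry in
open CategoryTheory in
/-- Let Y be an affine scheme, f : X -> Y a morphism and (U i) a cover of X by affine open subschemes.
Then f is separated if and only if, for every pair of indices i, j, the intersection of U i and U j
is an affine open and its ring of sections is generated, as a ring, by the images of the rings of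
sections of U i and of U j under the restriction maps. -/
theorem result
    {X Y : Scheme.{u}} [IsAffine Y] (f : X ⟶ Y) {ι : Type v} (U : ι → X.Opens)
    (hU : ∀ i, IsAffineOpen (U i)) (hcov : ⨆ i, U i = ⊤) :
    IsSeparated f ↔ ∀ i j, IsAffineOpen (U i ⊓ U j) ∧
      Subring.closure (Set.range (X.presheaf.map (homOfLE (inf_le_left : U i ⊓ U j ≤ U i)).op).hom ∪
        Set.range (X.presheaf.map (homOfLE (inf_le_right : U i ⊓ U j ≤ U j)).op).hom) = ⊤ := by
  let resL := fun i j => X.presheaf.map (homOfLE (inf_le_left : U i ⊓ U j ≤ U i)).op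
  let resR := fun i j => X.presheaf.map (homOfLE (inf_le_right : U i ⊓ U j ≤ U j)).op
  let δ := fun i j => Limits.pullback.lift (f := (U i).ι ≫ f) (g := (U j).ι ≫ f)
    (X.homOfLE (inf_le_left : U i ⊓ U j ≤ U i)) (X.homOfLE (inf_le_right : U i ⊓ U j ≤ U j)) (by simp)
  have hK : ∀ (A B : X.Opens) (hA : IsAffineOpen A) (hB : IsAffineOpen B) (h : A ≤ B),
      hA.isoSpec.inv ≫ X.homOfLE h = Spec.map (X.presheaf.map (homOfLE h).op) ≫ hB.isoSpec.inv := by
    intro A B hA hB h
    rw [← cancel_mono B.ι, Category.assoc, Category.assoc, X.homOfLE_ι,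
      IsAffineOpen.isoSpec_inv_ι, IsAffineOpen.isoSpec_inv_ι]
    exact (hB.map_fromSpec hA _).symm
  have hsep : IsSeparated f ↔ ∀ i j, IsClosedImmersion (δ i j) := by
    rw [isSeparated_iff]
    let 𝒰 := Scheme.Pullback.openCoverOfLeftRight (X.openCoverOfIsOpenCover U hcov)
      (X.openCoverOfIsOpenCover U hcov) f f
    have hpb : ∀ i j, IsPullback (δ i j) (U i ⊓ U j).ι
        (Limits.pullback.map ((U i).ι ≫ f) ((U j).ι ≫ f) f f (U i).ι (U j).ι (𝟙 Y)
          (by simp) (by simp)) (Limits.pullback.diagonal f) := by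
      intro i j
      refine IsOpenImmersion.isPullback _ _ _ _ ?_ ?_
      · apply Limits.pullback.hom_ext
        · simp only [δ, Limits.pullback.map, Category.assoc, Limits.pullback.diagonal_fst, Category.comp_id]
          rw [Limits.pullback.lift_fst, Limits.pullback.lift_fst_assoc, X.homOfLE_ι]
        · simp only [δ, Limits.pullback.map, Category.assoc, Limits.pullback.diagonal_snd, Category.comp_id]
          rw [Limits.pullback.lift_snd, Limits.pullback.lift_snd_assoc, X.homOfLE_ι]
      · ext1
        simp only [Scheme.Hom.coe_opensRange, TopologicalSpace.Opens.map_coe,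
          Scheme.Opens.range_ι, Scheme.Pullback.range_map, Set.preimage_inter,
          TopologicalSpace.Opens.coe_inf]
        ext x
        simp [← Scheme.Hom.comp_apply]
    constructor
    · intro h i j
      exact MorphismProperty.of_isPullback (P := @IsClosedImmersion) (hpb i j).flip h
    · intro h
      refine (IsZariskiLocalAtTarget.iff_of_openCover (P := @IsClosedImmersion) 𝒰).mpr ?_
      rintro ⟨i, j⟩
      have hh : IsClosedImmersion (Limits.pullback.snd (Limits.pullback.diagonal f)
          (Limits.pullback.map ((U i).ι ≫ f) ((U j).ι ≫ f) f f (U i).ι (U j).ι (𝟙 Y)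
            (by simp) (by simp))) :=
        (MorphismProperty.cancel_left_of_respectsIso (P := @IsClosedImmersion)
          (hpb i j).flip.isoPullback.hom _).mp (by
            rw [(hpb i j).flip.isoPullback_hom_snd]
            exact h i j)
      exact hh
  rw [hsep]
  refine forall_congr' fun i => forall_congr' fun j => ?_
  haveI : IsAffine (U i : Scheme) := hU i
  haveI : IsAffine (U j : Scheme) := hU j
  let P := Limits.pullback ((U i).ι ≫ f) ((U j).ι ≫ f)
  haveI : IsAffine P := inferInstance
  obtain ⟨ψ₁, hψ₁⟩ := Spec.map_surjective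
    (P.isoSpec.inv ≫ Limits.pullback.fst ((U i).ι ≫ f) ((U j).ι ≫ f) ≫ (hU i).isoSpec.hom)
  obtain ⟨ψ₂, hψ₂⟩ := Spec.map_surjective
    (P.isoSpec.inv ≫ Limits.pullback.snd ((U i).ι ≫ f) ((U j).ι ≫ f) ≫ (hU j).isoSpec.hom)
  constructor
  · intro h
    have hW : IsAffineOpen (U i ⊓ U j) := isAffine_of_isAffineHom (δ i j)
    refine ⟨hW, ?_⟩
    set S := Subring.closure (Set.range (resL i j).hom ∪ Set.range (resR i j).hom) with hS
    let incl : CommRingCat.of S ⟶ Γ(X, U i ⊓ U j) := CommRingCat.ofHom S.subtype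
    let a₁ : Γ(X, U i) ⟶ CommRingCat.of S := CommRingCat.ofHom ((resL i j).hom.codRestrict S
      fun x => Subring.subset_closure (Or.inl ⟨x, rfl⟩))
    let a₂ : Γ(X, U j) ⟶ CommRingCat.of S := CommRingCat.ofHom ((resR i j).hom.codRestrict S
      fun x => Subring.subset_closure (Or.inr ⟨x, rfl⟩))
    have e₁ : Spec.map incl ≫ Spec.map a₁ ≫ (hU i).isoSpec.inv =
        hW.isoSpec.inv ≫ X.homOfLE inf_le_left := by
      rw [hK _ _ hW (hU i), ← Spec.map_comp_assoc]; rfl
    have e₂ : Spec.map incl ≫ Spec.map a₂ ≫ (hU j).isoSpec.inv =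
        hW.isoSpec.inv ≫ X.homOfLE inf_le_right := by
      rw [hK _ _ hW (hU j), ← Spec.map_comp_assoc]; rfl
    let g : Spec (CommRingCat.of S) ⟶ P := Limits.pullback.lift
      (Spec.map a₁ ≫ (hU i).isoSpec.inv) (Spec.map a₂ ≫ (hU j).isoSpec.inv) (by
      rw [← cancel_mono Y.isoSpec.hom]
      obtain ⟨q₁, h₁⟩ := Spec.map_surjective (((Spec.map a₁ ≫ (hU i).isoSpec.inv) ≫ (U i).ι ≫ f) ≫ Y.isoSpec.hom)
      obtain ⟨q₂, h₂⟩ := Spec.map_surjective (((Spec.map a₂ ≫ (hU j).isoSpec.inv) ≫ (U j).ι ≫ f) ≫ Y.isoSpec.hom)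
      rw [← h₁, ← h₂]
      have : q₁ ≫ incl = q₂ ≫ incl := by
        apply Spec.map_injective
        rw [Spec.map_comp, Spec.map_comp, h₁, h₂]
        have c₁ := congrArg (fun m => m ≫ (U i).ι ≫ f ≫ Y.isoSpec.hom) e₁
        have c₂ := congrArg (fun m => m ≫ (U j).ι ≫ f ≫ Y.isoSpec.hom) e₂
        simp only [Category.assoc, X.homOfLE_ι_assoc] at c₁ c₂ ⊢
        exact c₁.trans c₂.symm
      congr 1
      ext x
      exact congrArg (fun φ => φ.hom x) this)
    have hg : Spec.map incl ≫ g = hW.isoSpec.inv ≫ δ i j := by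
      apply Limits.pullback.hom_ext
      · simp only [g, δ, Category.assoc, Limits.pullback.lift_fst]
        exact e₁
      · simp only [g, δ, Category.assoc, Limits.pullback.lift_snd]
        exact e₂
    have : IsClosedImmersion (Spec.map incl ≫ g) := by rw [hg]; infer_instance
    have hci : IsClosedImmersion (Spec.map incl) := IsClosedImmersion.of_comp _ g
    have hsurj := (HasAffineProperty.iff_of_isAffine (P := @IsClosedImmersion) (f := Spec.map incl)).mp hci
    rw [eq_top_iff]
    intro x _
    obtain ⟨y, hy⟩ := (show Function.Surjective incl.hom from by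
      have h2 := hsurj.2
      have e := Scheme.ΓSpecIso_naturality incl
      have hx : incl = (Scheme.ΓSpecIso _).inv ≫ (Spec.map incl).appTop ≫ (Scheme.ΓSpecIso _).hom := by
        rw [e, Iso.inv_hom_id_assoc]
      rw [hx]
      exact ((Scheme.ΓSpecIso _).commRingCatIsoToRingEquiv.surjective.comp h2).comp
        (Scheme.ΓSpecIso _).symm.commRingCatIsoToRingEquiv.surjective) x
    exact hy ▸ y.2
  · rintro ⟨hW, hgen⟩
    obtain ⟨φ, hφ⟩ := Spec.map_surjective (hW.isoSpec.inv ≫ δ i j ≫ P.isoSpec.hom)
    have h₁ : ψ₁ ≫ φ = resL i j := by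
      apply Spec.map_injective
      rw [Spec.map_comp, hφ, hψ₁]
      simp only [δ, P, Category.assoc, Iso.hom_inv_id_assoc, Limits.pullback.lift_fst_assoc]
      rw [← Category.assoc, hK _ _ hW (hU i), Category.assoc, Iso.inv_hom_id, Category.comp_id]
    have h₂ : ψ₂ ≫ φ = resR i j := by
      apply Spec.map_injective
      rw [Spec.map_comp, hφ, hψ₂]
      simp only [δ, P, Category.assoc, Iso.hom_inv_id_assoc, Limits.pullback.lift_snd_assoc]
      rw [← Category.assoc, hK _ _ hW (hU j), Category.assoc, Iso.inv_hom_id, Category.comp_id]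
    have hφs : Function.Surjective φ.hom := by
      rw [← RingHom.range_eq_top, eq_top_iff, ← hgen, Subring.closure_le]
      rintro _ (⟨x, rfl⟩ | ⟨x, rfl⟩)
      · exact ⟨ψ₁ x, congrArg (fun χ => χ.hom x) h₁⟩
      · exact ⟨ψ₂ x, congrArg (fun χ => χ.hom x) h₂⟩
    have h := IsClosedImmersion.spec_of_surjective φ hφs
    rw [hφ] at h
    exact (MorphismProperty.cancel_left_of_respectsIso (P := @IsClosedImmersion) hW.isoSpec.inv _).mp
      ((MorphismProperty.cancel_right_of_respectsIso (P := @IsClosedImmersion) _ P.isoSpec.hom).mp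
        (by rwa [Category.assoc]))

end Groth.Agent.S4363
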