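import Groth.Statements.S4365
import Groth.Agent.S2268
import Mathlib.RingTheory.AlgebraicIndependent.TranscendenceBasis
import Mathlib.RingTheory.AlgebraicIndependent.Defs
import Mathlib.FieldTheory.IsAlgClosed.Basic
import Mathlib.AlgebraicGeometry.ResidueField
import Mathlib.AlgebraicGeometry.Morphisms.FiniteType
import Mathlib.RingTheory.RingHom.EssFiniteType
import Mathlib.RingTheory.EssentialFiniteness
import Mathlib.Logic.Encodable.Basic

set_option autoImplicit false
universe u
open FinCond

namespace Groth.Agent.S4365

open AlgebraicGeometry in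
open CategoryTheory in
/-- Let K be a field, X and Y schemes locally of finite type over K, f : X -> Y a K-morphism and Ω an
algebraically closed extension field of K of infinite transcendence degree over K (there is an
algebraically independent sequence in Ω). Then f is surjective if and only if the map it induces
from the K-points of X with values in Ω to those of Y is surjective, i.e. every K-morphism Spec Ω ->
Y factors through f. (The published proposition assumes X and Y of finite type over K, and a later
remark of the same text extends it to X and Y locally of finite type over K, the form stated here.) -/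
theorem result
    (K Ω : Type u) [Field K] [Field Ω] [IsAlgClosed Ω] [Algebra K Ω]
    (t : ℕ → Ω) (ht : AlgebraicIndependent K t)
    {X Y : Scheme.{u}} (pX : X ⟶ Spec (CommRingCat.of K)) (pY : Y ⟶ Spec (CommRingCat.of K))
    [LocallyOfFiniteType pX] [LocallyOfFiniteType pY] (f : X ⟶ Y) (hf : f ≫ pY = pX) :
    Surjective f ↔ ∀ y : Spec (CommRingCat.of Ω) ⟶ Y,
      y ≫ pY = Spec.map (CommRingCat.ofHom (algebraMap K Ω)) →
        ∃ x : Spec (CommRingCat.of Ω) ⟶ X, x ≫ f = y := by
  haveI : LocallyOfFiniteType (f ≫ pY) := hf ▸ inferInstance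
  haveI : LocallyOfFiniteType f := locallyOfFiniteType_of_comp f pY
  refine ⟨fun hs y _ => (Groth.Agent.S2268.result f).mp hs Ω y, fun h => ⟨fun p => ?_⟩⟩
  let q := pY p
  let ψ : CommRingCat.of K ⟶ Y.residueField p :=
    ((Scheme.ΓSpecIso _).inv ≫ (Spec (CommRingCat.of K)).presheaf.germ ⊤ q trivial) ≫
      pY.stalkMap p ≫ Y.residue p
  have hψ : Spec.map ψ = Y.fromSpecResidueField p ≫ pY := by
    simp only [ψ, Spec.map_comp, Category.assoc]
    rw [← Spec.map_comp (Scheme.ΓSpecIso _).inv, ← Spec.fromSpecStalk_eq,
      Scheme.SpecMap_stalkMap_fromSpecStalk]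
    rfl
  have hess : ψ.hom.EssFiniteType := by
    have h1 : Function.Surjective ((Scheme.ΓSpecIso (CommRingCat.of K)).inv ≫
        (Spec (CommRingCat.of K)).presheaf.germ ⊤ q trivial).hom := by
      rw [← Spec.algebraMap_stalkIso_inv, CommRingCat.hom_comp, RingHom.coe_comp]
      refine (ConcreteCategory.bijective_of_isIso _).surjective.comp ?_
      exact (IsLocalization.atUnits K q.asIdeal.primeCompl
        (S := Localization.AtPrime q.asIdeal) (fun r hr => isUnit_iff_ne_zero.mpr
          fun h0 => hr (h0 ▸ Ideal.zero_mem _))).surjective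
    exact ((RingHom.FiniteType.of_surjective _ h1).essFiniteType).comp
      ((LocallyOfFiniteType.stalkMap pY p).comp
        (RingHom.FiniteType.of_surjective _ (Y.residue_surjective p)).essFiniteType)
  letI : Algebra K (Y.residueField p) := ψ.hom.toAlgebra
  haveI : Algebra.EssFiniteType K (Y.residueField p) := hess
  haveI : Algebra.IsAlgebraic (Algebra.adjoin K
      (Algebra.EssFiniteType.finset K (Y.residueField p) : Set (Y.residueField p))) (Y.residueField p) :=
    IsLocalization.isAlgebraic (Y.residueField p) (Algebra.EssFiniteType.submonoid K (Y.residueField p))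
  obtain ⟨s, hs, hbasis⟩ := exists_isTranscendenceBasis_subset (R := K)
    (Algebra.EssFiniteType.finset K (Y.residueField p) : Set (Y.residueField p))
  haveI : Finite s := (Finset.finite_toSet _).subset hs
  obtain ⟨g, hg⟩ : ∃ g : s → ℕ, Function.Injective g :=
    ⟨_, (Encodable.ofCountable s).encode_injective⟩
  let R0 := Algebra.adjoin K (Set.range ((↑) : s → Y.residueField p))
  let φ : R0 →ₐ[K] Ω := (MvPolynomial.aeval (t ∘ g)).comp hbasis.1.aevalEquiv.symm.toAlgHom
  have hφ : Function.Injective φ := fun a b h =>
    hbasis.1.aevalEquiv.symm.injective ((ht.comp g hg : Function.Injective _) h)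
  letI : Algebra R0 Ω := φ.toRingHom.toAlgebra
  haveI : FaithfulSMul R0 Ω := (faithfulSMul_iff_algebraMap_injective R0 Ω).mpr hφ
  haveI : Algebra.IsAlgebraic R0 (Y.residueField p) := hbasis.isAlgebraic
  let e : Y.residueField p →ₐ[R0] Ω := IsAlgClosed.lift
  have he : ψ ≫ CommRingCat.ofHom e.toRingHom = CommRingCat.ofHom (algebraMap K Ω) := by
    ext r
    change e (algebraMap K (Y.residueField p) r) = algebraMap K Ω r
    rw [IsScalarTower.algebraMap_apply K R0 (Y.residueField p), AlgHom.commutes]
    exact φ.commutes r
  obtain ⟨x, hx⟩ := h (Spec.map (CommRingCat.ofHom e.toRingHom) ≫ Y.fromSpecResidueField p)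
    (by rw [Category.assoc, ← hψ, ← Spec.map_comp]; exact congrArg Spec.map he)
  obtain ⟨o⟩ : Nonempty (Spec (CommRingCat.of Ω)) := inferInstanceAs (Nonempty (PrimeSpectrum Ω))
  refine ⟨x o, ?_⟩
  rw [← Scheme.Hom.comp_apply, hx, Scheme.Hom.comp_apply, Scheme.fromSpecResidueField_apply]

end Groth.Agent.S4365
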