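import Groth.Statements.S4366
import Groth.Agent.FlatMor67.GenericFibre
import Mathlib.AlgebraicGeometry.Morphisms.Flat
import Mathlib.AlgebraicGeometry.Morphisms.Preimmersion
import Mathlib.RingTheory.Flat.FaithfullyFlat.Algebra

set_option autoImplicit false
universe u
open SchMor

namespace Groth.Agent.S4366

open AlgebraicGeometry in
open CategoryTheory in
open CategoryTheory.Limits in
/-- Let f : X -> Y be a morphism, y a point of Y and Z = Spec O_{Y,y} the local scheme of Y at y with
its canonical morphism to Y. Then the projection p : X x_Y Z -> X induces isomorphisms on all local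
rings: for every point t of X x_Y Z the homomorphism O_{X, p t} -> O_{X x_Y Z, t} is bijective. (The
published statement also asserts that p is a homeomorphism onto the preimage of Z; that part is not
stated here.) -/
theorem result
    {X Y : Scheme.{u}} (f : X ⟶ Y) (y : Y) (t : ↑(pullback f (Y.fromSpecStalk y))) :
    IsIso ((pullback.fst f (Y.fromSpecStalk y)).stalkMap t) := by
  set g := pullback.fst f (Y.fromSpecStalk y)
  have := Groth.Agent.FlatMor67.flat_fromSpecStalk (Y := Y) y
  have hflat : Flat g := MorphismProperty.pullback_fst (P := @Flat) f (Y.fromSpecStalk y) inferInstance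
  have hpre : IsPreimmersion g := MorphismProperty.pullback_fst (P := @IsPreimmersion) f (Y.fromSpecStalk y) inferInstance
  rw [ConcreteCategory.isIso_iff_bijective]
  refine ⟨?_, g.stalkMap_surjective t⟩
  have h1 : (g.stalkMap t).hom.Flat := Flat.stalkMap g t
  algebraize [(g.stalkMap t).hom]
  have : IsLocalHom (algebraMap (X.presheaf.stalk (g t)) ((pullback f (Y.fromSpecStalk y)).presheaf.stalk t)) :=
    inferInstanceAs (IsLocalHom (g.stalkMap t).hom)
  have := Module.FaithfullyFlat.of_flat_of_isLocalHom (A := X.presheaf.stalk (g t))
    (B := (pullback f (Y.fromSpecStalk y)).presheaf.stalk t)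
  exact FaithfulSMul.algebraMap_injective (X.presheaf.stalk (g t))
    ((pullback f (Y.fromSpecStalk y)).presheaf.stalk t)

end Groth.Agent.S4366
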