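import Groth.Statements.S4370
import Groth.Agent.SchBasics.ImmReduced

set_option autoImplicit false
universe u
open RedSep

namespace Groth.Agent.S4370

open AlgebraicGeometry in
open CategoryTheory in
/-- Let f : X -> Y be an open immersion and let g : X_red -> Y_red be the morphism of reduced schemes
induced by f, i.e. the morphism between the closed subschemes defined by the nilradicals whose
composite with the inclusion of Y_red in Y is the inclusion of X_red in X followed by f. Then g is
an open immersion. -/
theorem result
    {X Y : Scheme.{u}} (f : X ⟶ Y) [IsOpenImmersion f]
    (g : X.nilradical.subscheme ⟶ Y.nilradical.subscheme)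
    (hg : g ≫ Y.nilradical.subschemeι = X.nilradical.subschemeι ≫ f) :
    IsOpenImmersion g := by
  have : IsReduced Y.nilradical.subscheme := by
    rw [← Scheme.IdealSheafData.vanishingIdeal_top]
    exact SchBasics.isReduced_vanishingIdeal_subscheme _
  have : IsImmersion g := by
    have : IsImmersion (g ≫ Y.nilradical.subschemeι) := by rw [hg]; infer_instance
    exact IsImmersion.of_comp g Y.nilradical.subschemeι
  refine SchBasics.isOpenImmersion_of_isImmersion_of_isOpen_range g ?_
  have hr : Set.range g = Y.nilradical.subschemeι ⁻¹' Set.range f := by
    rw [← Y.nilradical.subschemeι.isClosedEmbedding.injective.preimage_image (Set.range g),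
      ← Set.range_comp, ← TopCat.coe_comp, ← Scheme.Hom.comp_base, hg, Scheme.Hom.comp_base,
      TopCat.coe_comp, Set.range_comp, Scheme.IdealSheafData.range_subschemeι]
    simp
  rw [hr]
  exact f.isOpenEmbedding.isOpen_range.preimage Y.nilradical.subschemeι.continuous

end Groth.Agent.S4370
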