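import Groth.Statements.S4371
import Mathlib.AlgebraicGeometry.AffineScheme
import Mathlib.RingTheory.MvPolynomial.Ideal
import Groth.Agent.SchBasics.TwoOpens
import Mathlib.Algebra.MvPolynomial.Division

set_option autoImplicit false
universe u
open RedSep

namespace Groth.Agent.S4371

open AlgebraicGeometry in
open CategoryTheory in
/-- Let K be a field and Y = Spec K[s, t] the affine plane over K. The open subset D(s) ∪ D(t) of Y, the
complement of the closed point s = t = 0, is not affine. -/
theorem result
    (K : Type u) [Field K] :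
    ¬ IsAffineOpen (X := Spec (CommRingCat.of (MvPolynomial (Fin 2) K)))
      (PrimeSpectrum.basicOpen (MvPolynomial.X 0 : MvPolynomial (Fin 2) K) ⊔
        PrimeSpectrum.basicOpen (MvPolynomial.X 1 : MvPolynomial (Fin 2) K)) := by
  intro hA
  have hnd : ¬ (MvPolynomial.X 0 : MvPolynomial (Fin 2) K) ∣ MvPolynomial.X 1 := by
    rw [MvPolynomial.X_dvd_X]
    simp
  obtain ⟨c, d, h⟩ := Groth.Agent.SchBasics.exists_comb_of_isAffineOpen_sup
    (CommRingCat.of (MvPolynomial (Fin 2) K)) (MvPolynomial.X 0) (MvPolynomial.X 1)
    MvPolynomial.X_prime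
    (MvPolynomial.X_ne_zero _) hnd hA
  simpa using congrArg (MvPolynomial.eval (fun _ => (0 : K))) h

end Groth.Agent.S4371
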