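import Groth.Statements.S4372
import Groth.Agent.SchBasics.ImmReduced

set_option autoImplicit false
universe u
open RedSep

namespace Groth.Agent.S4372

open AlgebraicGeometry in
open CategoryTheory in
/-- Let h : Z -> X be an immersion with Z reduced (a reduced subscheme of X), and let W be the reduced
closed subscheme of X whose underlying space is the closure of h(Z). Then Z is an open subscheme of
W: h factors as an open immersion Z -> W followed by the closed immersion W -> X. Stated as the
existence of such a factorization through a reduced scheme W closed-immersed onto the closure of the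
image. -/
theorem result
    {Z X : Scheme.{u}} (h : Z ⟶ X) [IsImmersion h] [IsReduced Z] :
    ∃ (W : Scheme.{u}) (j : Z ⟶ W) (i : W ⟶ X), IsOpenImmersion j ∧ IsClosedImmersion i ∧
      IsReduced W ∧ Set.range i = closure (Set.range h) ∧ j ≫ i = h := by
  let C : TopologicalSpace.Closeds X := ⟨closure (Set.range h), isClosed_closure⟩
  let I := Scheme.IdealSheafData.vanishingIdeal C
  have hred : IsReduced I.subscheme := SchBasics.isReduced_vanishingIdeal_subscheme C
  have hrange : Set.range I.subschemeι = closure (Set.range h) := SchBasics.range_vanishingIdeal_subschemeι C
  have hle := SchBasics.ker_le_ker_of_range_subset h I.subschemeι (hrange ▸ subset_closure)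
  let j := IsClosedImmersion.lift I.subschemeι h hle
  have hj : j ≫ I.subschemeι = h := IsClosedImmersion.lift_fac _ _ _
  have : IsImmersion j := by
    have : IsImmersion (j ≫ I.subschemeι) := by rw [hj]; infer_instance
    exact IsImmersion.of_comp j I.subschemeι
  have : IsDominant j := ⟨fun w => by
    rw [I.subschemeι.isClosedEmbedding.isInducing.closure_eq_preimage_closure_image, ← Set.range_comp,
      ← TopCat.coe_comp, ← Scheme.Hom.comp_base, hj]
    change I.subschemeι w ∈ closure (Set.range h)
    exact hrange ▸ Set.mem_range_self w⟩
  exact ⟨I.subscheme, j, I.subschemeι, SchBasics.isOpenImmersion_of_isImmersion_of_isDominant j,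
    inferInstance, hred, hrange, hj⟩

end Groth.Agent.S4372
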