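import Groth.Statements.S4378
import Groth.Agent.EGA73.ProperCrit
import Mathlib.AlgebraicGeometry.ValuativeCriterion

set_option autoImplicit false
universe u
open CategoryTheory CategoryTheory.Limits AlgebraicGeometry
open EGA2

namespace Groth.Agent.S4378

/-- Let q : Y → S be separated and of finite type, and f : X → Y a morphism such that X is also
separated and of finite type over S through f ≫ q. Then f is proper if and only if for every scheme
S' over S the morphism X ×_S S' → Y ×_S S' induced by f is closed (as a map of topological spaces). -/
theorem result {X Y S : Scheme.{u}} (q : Y ⟶ S) (f : X ⟶ Y)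
    [IsSeparated q] [LocallyOfFiniteType q] [QuasiCompact q]
    [IsSeparated (f ≫ q)] [LocallyOfFiniteType (f ≫ q)] [QuasiCompact (f ≫ q)] :
    IsProper f ↔ ∀ (S' : Scheme.{u}) (g : S' ⟶ S),
      IsClosedMap (pullback.map (f ≫ q) g q g f (𝟙 S') (𝟙 S) (Category.comp_id (f ≫ q))
        ((Category.comp_id g).trans (Category.id_comp g).symm)).base := by
  have : LocallyOfFiniteType f := locallyOfFiniteType_of_comp f q
  have : IsSeparated f := IsSeparated.of_comp f q
  have : QuasiCompact f := QuasiCompact.of_comp f q
  constructor
  · intro hf S' g
    have : UniversallyClosed (pullback.map (f ≫ q) g q g f (𝟙 S') (𝟙 S) (Category.comp_id (f ≫ q))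
        ((Category.comp_id g).trans (Category.id_comp g).symm)) := by
      refine MorphismProperty.of_isPullback (P := @UniversallyClosed)
        (f' := pullback.fst (f ≫ q) g) (g := f) (f := pullback.fst q g) ?_ inferInstance
      refine IsPullback.of_bot ?_ (pullback.lift_fst _ _ _).symm (IsPullback.of_hasPullback q g)
      have e : pullback.map (f ≫ q) g q g f (𝟙 S') (𝟙 S) (Category.comp_id (f ≫ q))
          ((Category.comp_id g).trans (Category.id_comp g).symm) ≫ pullback.snd q g = pullback.snd (f ≫ q) g :=
        (pullback.lift_snd _ _ _).trans (Category.comp_id _)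
      rw [e]
      exact IsPullback.of_hasPullback (f ≫ q) g
    exact Scheme.Hom.isClosedMap _
  · intro h
    have : UniversallyClosed f := EGA73.universallyClosed_of_baseChange_over q f h
    exact { }

end Groth.Agent.S4378
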