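import Groth.Statements.S4395
import Groth.Agent.EGA73.GradedBasics

set_option autoImplicit false
universe u
open EGA2

namespace Groth.Agent.S4395

/-- Let S be a ring graded in nonnegative degrees, n₀ > 0 an integer and, for every n ≥ n₀, p_n an
additive subgroup of S_n. Then there is a graded prime ideal p of S not containing S_+ with p ∩ S_n
= p_n for all n ≥ n₀ if and only if: (1) S_m p_n ⊆ p_{m+n} for all m ≥ 0 and n ≥ n₀; (2) for m ≥ n₀,
n ≥ n₀, f ∈ S_m, g ∈ S_n, fg ∈ p_{m+n} implies f ∈ p_m or g ∈ p_n; (3) p_n ≠ S_n for at least one n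
≥ n₀. Moreover such a graded prime ideal is unique. -/
theorem result {R A : Type u} [CommRing R] [CommRing A] [Algebra R A] (𝒜 : ℕ → Submodule R A) [GradedAlgebra 𝒜]
    (n₀ : ℕ) (hn₀ : 0 < n₀) (p : ℕ → AddSubgroup A) (hp : ∀ n : ℕ, n₀ ≤ n → (p n : Set A) ⊆ 𝒜 n) :
    ((∃ 𝔭 : HomogeneousIdeal 𝒜, 𝔭.toIdeal.IsPrime ∧ ¬ HomogeneousIdeal.irrelevant 𝒜 ≤ 𝔭 ∧
        ∀ n : ℕ, n₀ ≤ n → (𝔭.toIdeal : Set A) ∩ 𝒜 n = p n) ↔
      ((∀ m n : ℕ, n₀ ≤ n → ∀ a ∈ 𝒜 m, ∀ b ∈ p n, a * b ∈ p (m + n)) ∧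
        (∀ m n : ℕ, n₀ ≤ m → n₀ ≤ n → ∀ f ∈ 𝒜 m, ∀ g ∈ 𝒜 n, f * g ∈ p (m + n) → f ∈ p m ∨ g ∈ p n) ∧
        ∃ n : ℕ, n₀ ≤ n ∧ (p n : Set A) ≠ 𝒜 n)) ∧
    ∀ 𝔭 𝔮 : HomogeneousIdeal 𝒜, 𝔭.toIdeal.IsPrime → 𝔮.toIdeal.IsPrime →
      ¬ HomogeneousIdeal.irrelevant 𝒜 ≤ 𝔭 → ¬ HomogeneousIdeal.irrelevant 𝒜 ≤ 𝔮 →
      (∀ n : ℕ, n₀ ≤ n → (𝔭.toIdeal : Set A) ∩ 𝒜 n = p n) → (∀ n : ℕ, n₀ ≤ n → (𝔮.toIdeal : Set A) ∩ 𝒜 n = p n) →
      𝔭 = 𝔮 := by
  classical
  constructor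
  · constructor
    · rintro ⟨𝔭, h𝔭, hne, hp'⟩
      have mem : ∀ n, n₀ ≤ n → ∀ a : A, a ∈ p n ↔ a ∈ 𝔭.toIdeal ∧ a ∈ 𝒜 n := fun n hn a =>
        (Set.ext_iff.1 (hp' n hn) a).symm
      refine ⟨fun m n hn a ha b hb => ?_, fun m n hm hn f hf g hg hfg => ?_, ?_⟩
      · exact (mem (m + n) (by omega) _).2 ⟨Ideal.mul_mem_left _ _ ((mem n hn b).1 hb).1,
          SetLike.mul_mem_graded ha ((mem n hn b).1 hb).2⟩
      · exact (h𝔭.mem_or_mem ((mem (m + n) (by omega) _).1 hfg).1).imp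
          (fun h => (mem m hm f).2 ⟨h, hf⟩) (fun h => (mem n hn g).2 ⟨h, hg⟩)
      · obtain ⟨d, f, hd, hf, hfx⟩ := EGA73.exists_pos_notMem 𝒜 (⟨𝔭, h𝔭, hne⟩ : ProjectiveSpectrum 𝒜)
        have hle : n₀ ≤ n₀ • d := Nat.le_mul_of_pos_right _ hd
        refine ⟨n₀ • d, hle, fun he => ?_⟩
        have hmem : f ^ n₀ ∈ (p (n₀ • d) : Set A) := he ▸ SetLike.pow_mem_graded n₀ hf
        exact hfx (h𝔭.mem_of_pow_mem _ ((mem _ hle _).1 hmem).1)
    · rintro ⟨h1, h2, n, hn, hne⟩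
      obtain ⟨f, hf, hfn⟩ : ∃ f ∈ 𝒜 n, f ∉ p n := by
        by_contra! h
        exact hne (Set.Subset.antisymm (hp n hn) h)
      let I : Ideal A :=
        { carrier := {a | ∀ i, f * GradedRing.proj 𝒜 i a ∈ p (n + i)}
          zero_mem' := fun i => by rw [map_zero, mul_zero]; exact zero_mem _
          add_mem' := fun {a b} ha hb i => by rw [map_add, mul_add]; exact add_mem (ha i) (hb i)
          smul_mem' := fun c a ha j => by
            rw [smul_eq_mul, ← DirectSum.sum_support_decompose 𝒜 c, Finset.sum_mul, map_sum, Finset.mul_sum]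
            refine sum_mem fun m _ => ?_
            rw [GradedRing.proj_apply, DirectSum.coe_decompose_mul_of_left_mem 𝒜 j (SetLike.coe_mem _)]
            split_ifs with hmj
            · have := h1 m (n + (j - m)) (by omega) _ (SetLike.coe_mem (DirectSum.decompose 𝒜 c m)) _ (ha (j - m))
              rw [GradedRing.proj_apply] at this
              rw [mul_left_comm, show n + j = m + (n + (j - m)) by omega]
              exact this
            · rw [mul_zero]; exact zero_mem _ }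
      have hI : ∀ (i : ℕ) (a : A), a ∈ 𝒜 i → (a ∈ I ↔ f * a ∈ p (n + i)) := by
        intro i a ha
        constructor
        · intro h
          have := h i
          rwa [GradedRing.proj_apply, DirectSum.decompose_of_mem_same 𝒜 ha] at this
        · intro h j
          rw [GradedRing.proj_apply]
          by_cases hij : i = j
          · subst hij; rwa [DirectSum.decompose_of_mem_same 𝒜 ha]
          · rw [DirectSum.decompose_of_mem_ne 𝒜 ha hij, mul_zero]; exact zero_mem _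
      have hhom : I.IsHomogeneous 𝒜 := fun i a ha =>
        (hI i _ (SetLike.coe_mem _)).2 (by simpa [GradedRing.proj_apply] using ha i)
      have hprime : I.IsPrime := by
        refine hhom.isPrime_of_homogeneous_mem_or_mem ?_ ?_
        · rw [Ideal.ne_top_iff_one, hI 0 1 SetLike.GradedOne.one_mem, mul_one, Nat.add_zero]
          exact hfn
        · rintro a b ⟨i, hai⟩ ⟨j, hbj⟩ hab
          rw [hI _ _ (SetLike.mul_mem_graded hai hbj)] at hab
          rw [hI _ _ hai, hI _ _ hbj]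
          refine h2 (n + i) (n + j) (by omega) (by omega) _ (SetLike.mul_mem_graded hf hai) _
            (SetLike.mul_mem_graded hf hbj) ?_
          have := h1 n (n + (i + j)) (by omega) f hf _ hab
          rw [show n + i + (n + j) = n + (n + (i + j)) by omega]
          rwa [show f * a * (f * b) = f * (f * (a * b)) by ring]
      refine ⟨⟨I, hhom⟩, hprime, fun hle => ?_, fun m hm => ?_⟩
      · have hfI : f ∈ I := hle (HomogeneousIdeal.mem_irrelevant_of_mem 𝒜 (hn₀.trans_le hn) hf)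
        exact hfn ((h2 n n hn hn f hf f hf ((hI n f hf).1 hfI)).elim id id)
      · ext a
        constructor
        · rintro ⟨haI, ha⟩
          exact ((h2 n m hn hm f hf a ha ((hI m a ha).1 haI)).resolve_left hfn)
        · intro ha
          exact ⟨(hI m a (hp m hm ha)).2 (h1 n m hm f hf a ha), hp m hm ha⟩
  · intro 𝔭 𝔮 h𝔭 h𝔮 hn𝔭 hn𝔮 e1 e2
    have key : ∀ 𝔭 𝔮 : HomogeneousIdeal 𝒜, 𝔮.toIdeal.IsPrime → ¬ HomogeneousIdeal.irrelevant 𝒜 ≤ 𝔮 →
        (∀ n, n₀ ≤ n → (𝔭.toIdeal : Set A) ∩ 𝒜 n = (𝔮.toIdeal : Set A) ∩ 𝒜 n) → 𝔭.toIdeal ≤ 𝔮.toIdeal := by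
      intro 𝔭 𝔮 h𝔮 hn𝔮 e a ha
      obtain ⟨d, g, hd, hg, hgx⟩ := EGA73.exists_pos_notMem 𝒜 (⟨𝔮, h𝔮, hn𝔮⟩ : ProjectiveSpectrum 𝒜)
      rw [← DirectSum.sum_support_decompose 𝒜 a]
      refine Submodule.sum_mem _ fun i _ => ?_
      have hai : (DirectSum.decompose 𝒜 a i : A) ∈ 𝔭.toIdeal := 𝔭.isHomogeneous i ha
      have hdeg := SetLike.mul_mem_graded (SetLike.pow_mem_graded n₀ hg) (SetLike.coe_mem (DirectSum.decompose 𝒜 a i))
      have hle : n₀ ≤ n₀ • d + i := (Nat.le_mul_of_pos_right n₀ hd).trans (Nat.le_add_right _ i)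
      have hm := (Set.ext_iff.1 (e _ hle) _).1 ⟨Ideal.mul_mem_left _ _ hai, hdeg⟩
      exact (h𝔮.mem_or_mem hm.1).resolve_left fun h => hgx (h𝔮.mem_of_pow_mem _ h)
    exact HomogeneousIdeal.toIdeal_injective (le_antisymm
      (key 𝔭 𝔮 h𝔮 hn𝔮 fun n hn => (e1 n hn).trans (e2 n hn).symm)
      (key 𝔮 𝔭 h𝔭 hn𝔭 fun n hn => (e2 n hn).trans (e1 n hn).symm))

end Groth.Agent.S4395
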