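import Groth.Statements.S4405
import Groth.Agent.EGA73.GradedVanish

set_option autoImplicit false
universe u
open EGA2

namespace Groth.Agent.S4405

/-- Let S be a ring graded in nonnegative degrees and E any subset of the irrelevant ideal S_+. Then the
intersection of S_+ with the vanishing ideal of the closed subset V_+(E) of Proj S equals the
intersection of S_+ with the radical of the graded ideal generated by E (the smallest homogeneous
ideal containing E). -/
theorem result {R A : Type u} [CommRing R] [CommRing A] [Algebra R A] (𝒜 : ℕ → Submodule R A) [GradedAlgebra 𝒜]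
    (E : Set A) (hE : E ⊆ (HomogeneousIdeal.irrelevant 𝒜).toIdeal) :
    (HomogeneousIdeal.irrelevant 𝒜).toIdeal ⊓
        (ProjectiveSpectrum.vanishingIdeal (ProjectiveSpectrum.zeroLocus 𝒜 E)).toIdeal =
      (HomogeneousIdeal.irrelevant 𝒜).toIdeal ⊓ (Ideal.homogeneousHull 𝒜 (Ideal.span E)).toIdeal.radical := by
  apply le_antisymm
  · intro a ha
    refine ⟨ha.1, ?_⟩
    refine EGA73.mem_radical_of_irrelevant (HomogeneousIdeal.isHomogeneous _) ha.1 fun x hx => ?_
    exact (ProjectiveSpectrum.mem_vanishingIdeal _ a).mp ha.2 x fun e he =>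
      hx (Ideal.le_toIdeal_homogeneousHull _ _ (Ideal.subset_span he))
  · intro a ha
    refine ⟨ha.1, ?_⟩
    refine (ProjectiveSpectrum.mem_vanishingIdeal _ a).mpr fun x hx => ?_
    refine (Ideal.IsPrime.radical_le_iff x.isPrime).mpr ?_ ha.2
    have h1 : Ideal.span E ≤ x.asHomogeneousIdeal.toIdeal := Ideal.span_le.mpr hx
    have h2 := Ideal.homogeneousHull_mono 𝒜 h1
    rw [HomogeneousIdeal.homogeneousHull_toIdeal_eq_self] at h2
    exact h2

end Groth.Agent.S4405
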