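import Groth.Statements.S4408
import Groth.Agent.Amp73.CounitIff

set_option autoImplicit false
universe u
open CategoryTheory CategoryTheory.Limits AlgebraicGeometry
open EGA2

namespace Groth.Agent.S4408

/-- (e') ⇒ (a): let X be a quasi-compact separated scheme such that every quasi-coherent submodule of
finite type of O_X is generated by its global sections. Then X is quasi-affine. (The published
statement also allows X to be a scheme whose underlying space is Noetherian; this row assumes it
quasi-compact and separated.) -/
theorem result (X : Scheme.{u}) [CompactSpace X] [X.IsSeparated]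
    (h : ∀ (J : X.Modules) (i : J ⟶ Coh.structureModule X), Mono i → Coh.IsQCoh J → CohB1.IsFT J →
      Curv2.IsGloballyGenerated J) :
    X.IsQuasiAffine := by
  refine Amp73.isQuasiAffine_of_isAmple (Amp73.isAmple_of_ideals EGA73.isInvertible_structureModule fun I hI => ?_)
  obtain ⟨ι, p, hp⟩ := h (ClSub.idealMod I) (ClSub.idealModι I) (inferInstanceAs (Mono (kernel.ι _)))
    (Amp73.isCoh_idealMod hI).1 (Amp73.isCoh_idealMod hI).2
  refine ⟨0, fun T q hq => ?_⟩
  let φ : ClSub.idealMod I ≅ CohB1.tensorMod (ClSub.idealMod I) (CohB1.tensorPow (Coh.structureModule X) 1) :=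
    (EGA73.tensUnitRight _).symm ≪≫ EGA73.tensIso (Iso.refl _) (Amp73.powOne _).symm
  let p' : (∐ fun _ : ι => Coh.structureModule X) ⟶
    CohB1.tensorMod (ClSub.idealMod I) (CohB1.tensorPow (Coh.structureModule X) 1) := p ≫ φ.hom
  have : Epi p' := @epi_comp _ _ _ _ _ p hp φ.hom inferInstance
  exact Amp73.exists_app_ne_zero_of_epi_free p' q hq


end Groth.Agent.S4408
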