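import Groth.Statements.S4409
import Groth.Agent.Amp73.CounitIff

set_option autoImplicit false
universe u
open CategoryTheory CategoryTheory.Limits AlgebraicGeometry
open EGA2

namespace Groth.Agent.S4409

/-- (a) ⇔ (d): let f : X → Y be a quasi-compact morphism. Then f is quasi-affine (the preimage of every
affine open of Y is a quasi-affine scheme) if and only if f is separated and, for every
quasi-coherent O_X-module F, the canonical morphism f^*(f_*(F)) → F (counit of the adjunction
between f^* and f_*) is an epimorphism. -/
theorem result {X Y : Scheme.{u}} (f : X ⟶ Y) [QuasiCompact f] :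
    Mor2.IsQuasiAffine f ↔ (IsSeparated f ∧ ∀ F : X.Modules, Coh.IsQCoh F →
      Epi ((Scheme.Modules.pullbackPushforwardAdjunction f).counit.app F)) := by
  refine ⟨fun h => ⟨Amp73.isSeparated_of_isQuasiAffine h,
    fun F hF => Amp73.epi_counit_of_isQuasiAffine f h hF⟩, fun h => ?_⟩
  have := h.1
  refine (Amp73.isQuasiAffine_iff_isRelAmple f).2 ?_
  refine Amp73.isRelAmple_of_ideals f EGA73.isInvertible_structureModule fun U _ => ?_
  obtain ⟨I, h1, h2⟩ := Amp73.exists_ideal_qcoh U
  exact ⟨I, 0, h1, h2, h.2 _ (Amp73.isQCoh_tensorMod (Omega57.isQuasicoherent_idealMod I)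
    (Mero90.isQCoh_of_isInvertible (EGA73.isInvertible_tensorPow EGA73.isInvertible_structureModule 1)))⟩


end Groth.Agent.S4409
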