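import Groth.Statements.S4410
import Groth.Agent.LimTop61.SubalgImm
import Groth.Agent.SubMod72.Extend
import Groth.Agent.EGAProj74.Glue
import Groth.Agent.EGA73.AffAlgMaps

set_option autoImplicit false
universe u
open CategoryTheory CategoryTheory.Limits AlgebraicGeometry Opposite
open EGA2

namespace Groth.Agent.S4410

/-- Let Y be a quasi-compact separated scheme and f : X → Y a quasi-affine morphism of finite type. Then
there are a scheme X'', an affine morphism of finite type g : X'' → Y and an immersion j : X → X''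
with j ≫ g = f. (The published statement also allows Y to be a scheme whose underlying space is
Noetherian; this row assumes it quasi-compact and separated. The published statement realises X'' as
the relative spectrum of a quasi-coherent sub-algebra of finite type of f_*O_X, and says every
larger such sub-algebra also works; only the resulting factorisation is stated here.) -/
theorem result {X Y : Scheme.{u}} [CompactSpace Y] [Y.IsSeparated]
    (f : X ⟶ Y) (hf : Mor2.IsQuasiAffine f) [LocallyOfFiniteType f] :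
    ∃ (X'' : Scheme.{u}) (g : X'' ⟶ Y) (j : X ⟶ X''), IsAffineHom g ∧ LocallyOfFiniteType g ∧ IsImmersion j ∧ j ≫ g = f := by
  classical
  have : QuasiCompact f := hf.1
  have : IsSeparated f := by
    refine IsZariskiLocalAtTarget.of_iSup_eq_top (P := @IsSeparated) (fun U : Y.affineOpens => U.1)
      (iSup_affineOpens_eq_top Y) fun U => ?_
    have : (f ⁻¹ᵁ U.1).toScheme.IsQuasiAffine := hf.2 U.1 U.2
    have : IsSeparated ((f ∣_ U.1) ≫ terminal.from _) := by
      rw [terminal.comp_from]; exact Scheme.IsSeparated.isSeparated_terminal_from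
    exact IsSeparated.of_comp _ (terminal.from _)
  let C : RelSpec.QCAlg Y := RelSpec.QCAlg.directImage f
  let G : ∀ (U : Y.Opens) (hU : IsAffineOpen U), ((f ⁻¹ᵁ U : X.Opens) : Scheme.{u}) ⟶ C.spec :=
    fun U hU => (f ⁻¹ᵁ U).toSpecΓ ≫ C.ι U hU
  have hcompat : ∀ (U : Y.Opens) (hU : IsAffineOpen U) (r : Γ(Y, U)),
      X.homOfLE (f.preimage_mono (Y.basicOpen_le r)) ≫ G U hU =
        G (Y.basicOpen r) (hU.basicOpen r) := by
    intro U hU r
    simp only [G]
    rw [← Scheme.Opens.toSpecΓ_SpecMap_presheaf_map_assoc _ _ (f.preimage_mono (Y.basicOpen_le r))]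
    congr 1
    exact C.ι_res (U := ⟨U, hU⟩) (V := ⟨Y.basicOpen r, hU.basicOpen r⟩) (homOfLE ⟨r, rfl⟩)
  obtain ⟨c, hc, -⟩ := Groth.Agent.EGAProj74.existsUnique_glue f G hcompat
  have hcπ : c ≫ C.π = f := by
    refine Groth.Agent.EGAProj74.hom_ext_over f fun U hU => ?_
    rw [reassoc_of% (hc U hU)]
    simp only [G, Category.assoc]
    erw [C.ι_π]
    rw [Groth.Agent.EGA73.ι_comp_eq_toSpecΓ f hU _ le_rfl, ← Scheme.Hom.app_eq_appLE,
      ← Category.assoc]
    exact (Category.assoc _ _ _).symm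
  have : IsImmersion c := by
    have : IsOpenImmersion c := by
      refine IsZariskiLocalAtTarget.of_iSup_eq_top (P := @IsOpenImmersion)
        (fun U : Y.affineOpens => C.π ⁻¹ᵁ U.1)
        (by rw [← Scheme.Hom.preimage_iSup, iSup_affineOpens_eq_top, Scheme.Hom.preimage_top]) fun U => ?_
      have : (f ⁻¹ᵁ U.1).toScheme.IsQuasiAffine := hf.2 U.1 U.2
      have e : c ⁻¹ᵁ (C.π ⁻¹ᵁ U.1) = f ⁻¹ᵁ U.1 := by rw [← Scheme.Hom.comp_preimage, hcπ]
      have : IsOpenImmersion ((f ⁻¹ᵁ U.1).toSpecΓ) := by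
        rw [Scheme.Opens.toSpecΓ]
        infer_instance
      have h1 : IsOpenImmersion ((f ⁻¹ᵁ U.1).ι ≫ c) := by rw [hc U.1 U.2]; exact @IsOpenImmersion.comp _ _ _ _ (C.ι U.1 U.2) this inferInstance
      have h2 : IsOpenImmersion ((c ⁻¹ᵁ (C.π ⁻¹ᵁ U.1)).ι ≫ c) := by rw [e]; exact h1
      rw [← morphismRestrict_ι] at h2
      exact IsOpenImmersion.of_comp _ (C.π ⁻¹ᵁ U.1).ι
    infer_instance
  -- a subalgebra of finite type
  have : CompactSpace X := QuasiCompact.compactSpace_of_compactSpace f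
  obtain ⟨t, V, S, hS, hmain⟩ := Groth.Agent.LimTop61.exists_finite_sections hcπ
  obtain ⟨P, hP, hP'⟩ := Groth.Agent.AlgSub72.exists_fg_mem_all (F := C.toModule) t
    (fun x => (V x).1) (fun x => Groth.Agent.AlgSub72.ofB C '' S x) (fun x _ => by
      obtain ⟨Q, hQ, hQP⟩ := Groth.Agent.SubMod72.exists_extension_qcqs (F := C.toModule)
        (V x).2.isCompact (Groth.Agent.SubMod72.fg_locSpan ((hS x).image (Groth.Agent.AlgSub72.ofB C)))
      refine ⟨Q, hQ, fun s hs => ?_⟩
      rw [hQP _ le_rfl]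
      have h := Groth.Agent.SubMod72.self_mem_locSpan (le_refl (V x).1) hs
      rwa [Groth.Agent.QC70.res_self] at h)
  let C' := Groth.Agent.AlgSub72.algSub hP
  let φ : C' ⟶ C := Groth.Agent.AlgSub72.algSubι hP
  have himm : IsImmersion (c ≫ RelSpec.QCAlg.specMap φ) := hmain _ _ fun x hx b hb =>
    ⟨(⟨b, Groth.Agent.AlgSub72.closureAt_le C P _
      (Subring.subset_closure (Or.inr ⟨_, hP' x hx _ ⟨b, hb, rfl⟩, rfl⟩))⟩ :
      Groth.Agent.AlgSub72.algCarrier C P (V x).1), rfl⟩
  refine ⟨C'.spec, C'.π, c ≫ RelSpec.QCAlg.specMap φ, inferInstance, ?_, himm, ?_⟩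
  · refine IsZariskiLocalAtSource.of_openCover (P := @LocallyOfFiniteType) C'.glueData.cover fun U => ?_
    change LocallyOfFiniteType (C'.ι U.1 U.2 ≫ C'.π)
    rw [C'.ι_π]
    have : LocallyOfFiniteType (Spec.map (C'.str.app (op U.1))) :=
      (HasRingHomProperty.Spec_iff (P := @LocallyOfFiniteType)).mpr
        (Groth.Agent.AlgSub72.finiteType_str hP U.2)
    infer_instance
  · rw [Category.assoc, RelSpec.QCAlg.specMap_π, hcπ]

end Groth.Agent.S4410
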