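import Groth.Statements.S4431
import Groth.Agent.EGA73.CharpolyInt
import Mathlib.Algebra.Polynomial.Lifts

set_option autoImplicit false
universe u
open EGA2

namespace Groth.Agent.S4431

/-- Let A be an integral domain with fraction field K, E a finitely generated torsion-free A-module and
u an endomorphism of E whose characteristic-polynomial coefficients (those of u ⊗ 1 on K ⊗_A E) all
lie in A. If the determinant of u is the image of a unit of A, then u is an automorphism of E. -/
theorem result (A : Type u) [CommRing A] [IsDomain A] (K : Type u) [Field K]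
    [Algebra A K] [IsFractionRing A K] (E : Type u) [AddCommGroup E] [Module A E] [Module.Finite A E]
    [Module.IsTorsionFree A E]
    (u : E →ₗ[A] E) (hcoeff : ∀ i : ℕ, ((u.baseChange K).charpoly).coeff i ∈ (algebraMap A K).range)
    (a : A) (ha : algebraMap A K a = LinearMap.det (u.baseChange K)) (hunit : IsUnit a) :
    Function.Bijective u := by
  have hlift : (u.baseChange K).charpoly ∈ Polynomial.lifts (algebraMap A K) :=
    (Polynomial.lifts_iff_coeff_lifts _).mpr hcoeff
  obtain ⟨p, hp, hdeg, hmon⟩ := Polynomial.lifts_and_degree_eq_and_monic hlift (LinearMap.charpoly_monic _)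
  have hinj : Function.Injective ((TensorProduct.mk A K E) 1) := by
    refine (injective_iff_map_eq_zero _).mpr fun x hx => ?_
    obtain ⟨c, hc⟩ := (IsLocalizedModule.eq_zero_iff (nonZeroDivisors A) ((TensorProduct.mk A K E) 1) (m := x)).mp hx
    have hc' : (c : A) • x = (c : A) • (0 : E) := by rw [smul_zero]; exact hc
    exact Module.IsTorsionFree.isSMulRegular (isRegular_of_ne_zero (nonZeroDivisors.coe_ne_zero c)) hc'
  have hp0 : Polynomial.aeval u p = 0 := by
    refine LinearMap.ext fun x => hinj ?_
    have h := EGA73.baseChange_aeval (K := K) u p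
    rw [← Polynomial.aeval_map_algebraMap K, hp, LinearMap.aeval_self_charpoly] at h
    have h' := (LinearMap.congr_fun h (1 ⊗ₜ[A] x)).symm
    rw [LinearMap.baseChange_tmul, LinearMap.zero_apply] at h'
    simpa using h'
  have hc0 : IsUnit (p.coeff 0) := by
    have hdet := LinearMap.det_eq_sign_charpoly_coeff (u.baseChange K)
    rw [← ha, ← hp, Polynomial.coeff_map, ← map_one (algebraMap A K), ← map_neg, ← map_pow, ← map_mul] at hdet
    exact ((IsUnit.mul_iff).mp (IsFractionRing.injective A K hdet ▸ hunit)).2
  have hsplit : u * Polynomial.aeval u p.divX = - algebraMap A (Module.End A E) (p.coeff 0) := by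
    have := congrArg (Polynomial.aeval u) (Polynomial.X_mul_divX_add p)
    rw [map_add, map_mul, Polynomial.aeval_X, Polynomial.aeval_C, hp0] at this
    exact eq_neg_of_add_eq_zero_left this
  have hunit' : IsUnit (u * Polynomial.aeval u p.divX) := hsplit ▸ (hc0.map _).neg
  have hcomm : Commute u (Polynomial.aeval u p.divX) :=
    Commute.symm (by
      conv => rhs; rw [← Polynomial.aeval_X (R := A) u]
      exact (Commute.all _ _).map (Polynomial.aeval u))
  exact (Module.End.isUnit_iff u).mp (hcomm.isUnit_mul_iff.mp hunit').1

end Groth.Agent.S4431
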