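import Groth.Statements.S4435
import Groth.Agent.EGA73.IntegralNormal

set_option autoImplicit false
universe u
open CategoryTheory CategoryTheory.Limits AlgebraicGeometry
open EGA2

namespace Groth.Agent.S4435

/-- Let X, S be integral schemes and f : X ⟶ S a dominant morphism. If f is integral, the field of
rational functions of X is algebraic over that of S; if f is finite, it is a finite extension. Here
the extension is given by the stalk map of f at the generic point of X, whose source is the local
ring of S at the generic point of S (f being dominant), i.e. the function field of S. -/
theorem result {X S : Scheme.{u}} [IsIntegral X] [IsIntegral S]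
    (f : X ⟶ S) [IsDominant f] :
    (IsIntegralHom f → (f.stalkMap (genericPoint X)).hom.IsIntegral) ∧
      (IsFinite f → (f.stalkMap (genericPoint X)).hom.Finite) := by
  refine ⟨fun _ => (EGA73.stalkMap_generic f).1, fun hf => (EGA73.stalkMap_generic f).2 hf⟩

end Groth.Agent.S4435
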