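import Groth.Statements.S4436
import Groth.Agent.Amp73.SemilocalFree

set_option autoImplicit false
universe u
open CategoryTheory CategoryTheory.Limits AlgebraicGeometry
open EGA2

namespace Groth.Agent.S4436

/-- Let f : X' ⟶ X be a finite morphism and F' a locally free O_{X'}-module of rank r. Then every point
of X has an open neighbourhood U over whose inverse image F' is free of rank r; this is the content
of the statement that the direct image of F' is a locally free module of rank r over the direct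
image of O_{X'} (the converse implication being immediate). -/
theorem result {X' X : Scheme.{u}} (f : X' ⟶ X) [IsFinite f] (r : ℕ)
    (F : X'.Modules) (hF : FlatMod.IsFinLocFreeOfRank r F) (x : X) :
    ∃ U : X.Opens, x ∈ U ∧ Nonempty (F.restrict (f ⁻¹ᵁ U).ι ≅ FlatMod.freeMod (↑(f ⁻¹ᵁ U)) r) := by
  obtain ⟨A, hA, hxA, -⟩ := X.isBasis_affineOpens.exists_subset_of_mem_open
    (Set.mem_univ x) isOpen_univ
  obtain ⟨A, hAaff, rfl⟩ := hA
  obtain ⟨W, hZW, -, ⟨e⟩⟩ := Amp73.exists_nhd_free_finite F hF (⇑f ⁻¹' {x})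
    (IsFinite.finite_preimage_singleton f x) (f ⁻¹ᵁ A) (hAaff.preimage f) (fun z hz => by
      show f z ∈ A
      rw [Set.mem_singleton_iff.1 hz]
      exact hxA)
  refine ⟨⟨(⇑f '' (W : Set X')ᶜ)ᶜ,
    (f.isClosedMap _ W.isOpen.isClosed_compl).isOpen_compl⟩, ?_, ?_⟩
  · rintro ⟨z, hz, hzx⟩
    exact hz (hZW hzx)
  · obtain ⟨s, hs⟩ := Groth.Agent.Props58.LocFree.exists_stalkBasis_of_iso e
    refine Groth.Agent.Props58.LocFree.nonempty_iso_of_stalkBasis (hs.restrict ?_)
    intro z hz
    by_contra h
    exact hz ⟨z, h, rfl⟩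

end Groth.Agent.S4436
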