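import Groth.Statements.S4437
import Groth.Agent.Desc59.HensSplit

set_option autoImplicit false
universe u
open CategoryTheory CategoryTheory.Limits AlgebraicGeometry
open EGA2

namespace Groth.Agent.S4437

/-- Let A be a complete Noetherian local ring and f : X ⟶ Spec A a separated quasi-finite morphism (of
finite type with discrete fibres). Then X splits as a disjoint sum of two open subschemes, one
finite over Spec A and containing the fibre over the closed point, the other not meeting that fibre:
there is an open and closed U ⊆ X, finite over Spec A, containing every point lying over the closed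
point. -/
theorem result (A : Type u) [CommRing A] [IsLocalRing A]
    [IsNoetherianRing A] [IsAdicComplete (IsLocalRing.maximalIdeal A) A] (X : Scheme.{u})
    (f : X ⟶ Spec (CommRingCat.of A)) [LocallyOfFiniteType f] [QuasiCompact f] [IsSeparated f] [LocallyQuasiFinite f] :
    ∃ U : X.Opens, IsClosed (U : Set X) ∧ IsFinite (U.ι ≫ f) ∧
      ∀ x : X, f.base x = IsLocalRing.closedPoint A → x ∈ U := by
  classical
  let m := IsLocalRing.maximalIdeal A
  haveI : HenselianRing A m := IsAdicComplete.henselianRing A m
  haveI : IsArtinianRing (A ⧸ m) := by
    letI := Ideal.Quotient.field m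
    infer_instance
  haveI : IsLocallyArtinian (Spec (CommRingCat.of (A ⧸ m))) := inferInstance
  obtain ⟨W, hW, hfin, hout⟩ := Desc59.HensSplit.exists_split m f (IsFinite.of_locallyQuasiFinite _)
  refine ⟨W, hW, hfin, fun x hx => ?_⟩
  by_contra hxW
  exact hout x hxW (by rw [hx]; exact le_rfl)


end Groth.Agent.S4437
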