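import Groth.Statements.S4439
import Groth.Agent.EGA73.ValuationSection

set_option autoImplicit false
universe u
open CategoryTheory CategoryTheory.Limits AlgebraicGeometry
open EGA2

namespace Groth.Agent.S4439

/-- Let A be a valuation ring with field of fractions K and f : X ⟶ Spec A a separated morphism whose
underlying map is closed. Then restriction to the generic point is a bijection from sections of f to
K-rational points of the generic fibre: every morphism Spec K ⟶ X over Spec A extends to exactly one
section of f. -/
theorem result (A : Type u) [CommRing A] [IsDomain A]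
    [ValuationRing A] (K : Type u) [Field K] [Algebra A K] [IsFractionRing A K] (X : Scheme.{u})
    (f : X ⟶ Spec (CommRingCat.of A)) [IsSeparated f] (hf : IsClosedMap f.base)
    (x : Spec (CommRingCat.of K) ⟶ X) (hx : x ≫ f = Spec.map (CommRingCat.ofHom (algebraMap A K))) :
    ∃! s : Spec (CommRingCat.of A) ⟶ X, s ≫ f = 𝟙 _ ∧ Spec.map (CommRingCat.ofHom (algebraMap A K)) ≫ s = x := by
  obtain ⟨z, hz, hz'⟩ : IsLocalRing.closedPoint A ∈ f.base '' closure {x.base (IsLocalRing.closedPoint K)} := by
    refine (IsLocalRing.specializes_closedPoint (R := A) _).mem_closed (hf _ isClosed_closure)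
      ⟨x.base (IsLocalRing.closedPoint K), subset_closure rfl, rfl⟩
  obtain ⟨s, hs, hs'⟩ := EGA73.exists_section_of_specializes f x hx z (specializes_iff_mem_closure.mpr hz) hz'
  refine ⟨s, ⟨hs, hs'⟩, fun t ht => ?_⟩
  have hu := IsSeparated.valuativeCriterion f
    { R := A, K := K, i₁ := x, i₂ := 𝟙 _, commSq := ⟨by rw [Category.comp_id]; exact hx⟩ }
  exact congrArg CommSq.LiftStruct.l (hu.elim ⟨t, ht.2, ht.1⟩ ⟨s, hs', hs⟩)

end Groth.Agent.S4439
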