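import Groth.Statements.S4445
import Groth.Agent.EGA73.CurveVal
import Groth.Agent.VarGal.GeomRed

set_option autoImplicit false
universe u
open CategoryTheory CategoryTheory.Limits AlgebraicGeometry
attribute [local instance] Curv2.stalkAlgebra
open EGA2

namespace Groth.Agent.S4445

/-- Let X be a normal irreducible algebraic curve over a field k with field of rational functions K, and
Y an integral complete (proper over k) algebraic curve with field of rational functions L. Dominant
k-morphisms X ⟶ Y correspond bijectively to k-embeddings L → K: for every k-algebra homomorphism φ :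
L → K there is exactly one k-morphism u : X ⟶ Y mapping the generic point of X to the generic point
of Y and inducing φ on the stalks at the generic points. -/
theorem result (k : Type u) [Field k] (X Y : Scheme.{u})
    [X.Over (Spec (CommRingCat.of k))] [LocallyOfFiniteType (X ↘ (Spec (CommRingCat.of k)))]
    [QuasiCompact (X ↘ (Spec (CommRingCat.of k)))] [IsSeparated (X ↘ (Spec (CommRingCat.of k)))] [IsIntegral X]
    (hX : ∀ x : X, IsClosed ({x} : Set X) → ringKrullDim (X.presheaf.stalk x) = 1) (hnorm : Pi1.IsNormalScheme X)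
    [Y.Over (Spec (CommRingCat.of k))] [IsProper (Y ↘ (Spec (CommRingCat.of k)))] [IsIntegral Y]
    (hY : ∀ y : Y, IsClosed ({y} : Set Y) → ringKrullDim (Y.presheaf.stalk y) = 1)
    (φ : Y.functionField →ₐ[k] X.functionField) :
    ∃! u : X ⟶ Y, u ≫ (Y ↘ (Spec (CommRingCat.of k))) = X ↘ (Spec (CommRingCat.of k)) ∧
      ∃ hu : u.base (genericPoint X) = genericPoint Y,
        (Y.presheaf.stalkSpecializes (specializes_of_eq hu) ≫ u.stalkMap (genericPoint X)).hom = (φ : Y.functionField →+* X.functionField) := by
  obtain ⟨_, _, _, _⟩ := EGA73.fieldFT_instances k (X ↘ (Spec (CommRingCat.of k)))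
  have hdim := EGA73.topologicalKrullDim_eq_one hX
  have hval := EGA73.valuationRing_stalk hnorm hdim.le
  let φ' : Y.functionField ⟶ X.functionField := CommRingCat.ofHom (φ : Y.functionField →+* X.functionField)
  let g : Spec X.functionField ⟶ Y := Spec.map φ' ≫ Y.fromSpecStalk (genericPoint Y)
  have hg : g ≫ (Y ↘ Spec (CommRingCat.of k)) =
      X.fromSpecStalk (genericPoint X) ≫ (X ↘ Spec (CommRingCat.of k)) := by
    rw [Category.assoc, ← VarGal.SpecMap_curvStalkMap, ← VarGal.SpecMap_curvStalkMap, ← Spec.map_comp]
    congr 1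
    ext c
    exact φ.commutes c
  obtain ⟨u, ⟨hu1, hu2⟩, huniq⟩ := EGA73.existsUnique_hom (Y ↘ Spec (CommRingCat.of k))
    (X ↘ Spec (CommRingCat.of k)) hval g hg
  have hgen : u.base (genericPoint X) = genericPoint Y := by
    have h := congrArg (fun v : Spec X.functionField ⟶ Y => v (IsLocalRing.closedPoint _)) hu2
    simp only [Scheme.Hom.comp_apply, Scheme.fromSpecStalk_closedPoint, g] at h
    have h2 : Spec.map φ' (IsLocalRing.closedPoint X.functionField) =
        IsLocalRing.closedPoint Y.functionField :=
      Subsingleton.elim (α := PrimeSpectrum Y.functionField) _ _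
    rw [h2, Scheme.fromSpecStalk_closedPoint] at h
    exact h
  refine ⟨u, ⟨hu1, hgen, ?_⟩, ?_⟩
  · have h : Y.presheaf.stalkSpecializes (specializes_of_eq hgen) ≫ u.stalkMap (genericPoint X) = φ' := by
      apply Spec.map_injective
      rw [← cancel_mono (Y.fromSpecStalk (genericPoint Y)), Spec.map_comp, Category.assoc,
        Scheme.SpecMap_stalkSpecializes_fromSpecStalk, Scheme.SpecMap_stalkMap_fromSpecStalk, hu2]
    exact congrArg CommRingCat.Hom.hom h
  · rintro v ⟨hv1, hv, hvφ⟩
    refine huniq v ⟨hv1, ?_⟩
    have h : Y.presheaf.stalkSpecializes (specializes_of_eq hv) ≫ v.stalkMap (genericPoint X) = φ' :=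
      CommRingCat.hom_ext hvφ
    have h2 := congrArg (fun ψ => Spec.map ψ ≫ Y.fromSpecStalk (genericPoint Y)) h
    simp only [Spec.map_comp, Category.assoc, Scheme.SpecMap_stalkSpecializes_fromSpecStalk,
      Scheme.SpecMap_stalkMap_fromSpecStalk] at h2
    exact h2

end Groth.Agent.S4445
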