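import Groth.Statements.S4451
import Groth.Agent.EGA73.CurveVal
import Groth.Agent.VarGal.GeomRed

set_option autoImplicit false
universe u
open CategoryTheory CategoryTheory.Limits AlgebraicGeometry
attribute [local instance] Curv2.stalkAlgebra
open EGA2

namespace Groth.Agent.S4451

/-- Let X be a normal, complete, irreducible algebraic curve over a field k with field of rational
functions K. The set of local rings of X, as subrings of K, consists of K itself (at the generic
point) and of the valuation rings of K containing k (and distinct from K): every non-generic point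
has such a valuation ring as local ring, and every such valuation ring is the local ring of exactly
one point. -/
theorem result (k : Type u) [Field k] (X : Scheme.{u})
    [X.Over (Spec (CommRingCat.of k))] [IsProper (X ↘ (Spec (CommRingCat.of k)))] [IsIntegral X]
    (hX : ∀ x : X, IsClosed ({x} : Set X) → ringKrullDim (X.presheaf.stalk x) = 1) (hnorm : Pi1.IsNormalScheme X) :
    (∀ x : X, x ≠ genericPoint X → ∃ R : ValuationSubring X.functionField, R ≠ ⊤ ∧
        (R : Set X.functionField) = Set.range (algebraMap (X.presheaf.stalk x) X.functionField)) ∧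
      ∀ R : ValuationSubring X.functionField, R ≠ ⊤ → (∀ c : k, algebraMap k X.functionField c ∈ R) →
        ∃! x : X, (R : Set X.functionField) = Set.range (algebraMap (X.presheaf.stalk x) X.functionField) := by
  obtain ⟨_, _, _, _⟩ := EGA73.fieldFT_instances k (X ↘ (Spec (CommRingCat.of k)))
  have hdim := EGA73.topologicalKrullDim_eq_one hX
  have hval := EGA73.valuationRing_stalk hnorm hdim.le
  haveI : X.IsSeparated := ⟨by
    rw [show Limits.terminal.from X = (X ↘ Spec (CommRingCat.of k)) ≫
      Limits.terminal.from _ from Limits.terminal.hom_ext _ _]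
    infer_instance⟩
  refine ⟨fun x hx => ?_, fun R hR hk => ?_⟩
  · obtain ⟨_, _⟩ := hval x
    have hxc : IsClosed ({x} : Set X) := by
      by_contra h
      exact hx (EGA73.eq_genericPoint_of_not_isClosed hX x h)
    exact ⟨EGA73.stalkValRing x, EGA73.stalkValRing_ne_top x (hX x hxc), EGA73.coe_stalkValRing x⟩
  · let ψ : k →+* R := (algebraMap k X.functionField).codRestrict R.toSubring hk
    have hh : Spec.map (CommRingCat.ofHom R.subtype) ≫ Spec.map (CommRingCat.ofHom ψ) =
        X.fromSpecStalk (genericPoint X) ≫ (X ↘ Spec (CommRingCat.of k)) := by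
      rw [← Spec.map_comp, ← VarGal.SpecMap_curvStalkMap]
      rfl
    obtain ⟨x, h1, h2⟩ := EGA73.exists_centre (X ↘ Spec (CommRingCat.of k)) R _ hh
    obtain ⟨_, _⟩ := hval x
    exact ⟨x, EGA73.eq_range_of_centre R x h1 h2, fun y hy =>
      EGA73.eq_of_range_eq R hy (EGA73.eq_range_of_centre R x h1 h2)⟩

end Groth.Agent.S4451
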