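import Groth.Statements.S4453
import Groth.Agent.EGA73.NormRelAmple
import Groth.Agent.EGA73.QuasiProjective
import Groth.Agent.Ample57.Separated
import Groth.Agent.S4418

set_option autoImplicit false
universe u
open CategoryTheory CategoryTheory.Limits AlgebraicGeometry
open EGA2

namespace Groth.Agent.S4453

/-- Let Y be a quasi-compact separated scheme or a scheme whose underlying space is Noetherian, f : X ⟶
Y a morphism of finite type and g : X' ⟶ X a finite surjective morphism such that the direct image
of O_{X'} is a finite locally free O_X-module. Then f is projective if and only if f ∘ g is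
projective. (The companion assertion, on quasi-projectivity, is the
existence-of-a-relatively-ample-module equivalence stated separately.) -/
theorem result {X X' Y : Scheme.{u}} (f : X ⟶ Y) [LocallyOfFiniteType f]
    [QuasiCompact f] (g : X' ⟶ X) [IsFinite g] [Surjective g]
    (hfree : FlatMod.IsFinLocFree ((Coh.push g).obj (Coh.structureModule X')))
    (hY : (CompactSpace Y ∧ Y.IsSeparated) ∨ TopologicalSpace.NoetherianSpace Y) :
    RelProj.IsProjective f ↔ RelProj.IsProjective (g ≫ f) := by
  have hc : CompactSpace Y := by
    rcases hY with h | h
    · exact h.1
    · exact inferInstance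
  have hY' : QuasiSeparatedSpace Y ∨ TopologicalSpace.NoetherianSpace Y := by
    rcases hY with h | h
    · have := h.2
      exact Or.inl inferInstance
    · exact Or.inr h
  constructor
  · intro hf
    obtain ⟨⟨_, _, L, hL⟩, hp⟩ := S4418.result f hf
    have := hp
    exact EGA73.QuasiProjective.isProjective_of_isProper hY' (g ≫ f) ⟨inferInstance, inferInstance, _,
      Amp73.isRelAmple_pullback_comp g (Amp73.isQuasiAffine_of_isAffineHom g) hL⟩
  · intro hgf
    obtain ⟨⟨_, _, L', hL'⟩, hp⟩ := S4418.result (g ≫ f) hgf
    have := hp
    obtain ⟨M, _, hM⟩ := EGA73.exists_relAmple_norm f g hfree hL'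
    have : IsSeparated f := Ample57.isSeparated_of_isRelAmple hM
    have : UniversallyClosed f := .of_comp_surjective g f
    have : IsProper f := { }
    exact EGA73.QuasiProjective.isProjective_of_isProper hY' f ⟨inferInstance, inferInstance, M, hM⟩


end Groth.Agent.S4453
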