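import Groth.Statements.S4455
import Groth.Agent.S1585

set_option autoImplicit false
universe u
open CategoryTheory CategoryTheory.Limits AlgebraicGeometry
open EGA2

namespace Groth.Agent.S4455

/-- An integral algebraic curve X over a field k is complete (proper over k) if and only if its
normalization X', with the composite structure morphism X' ⟶ X ⟶ Spec k, is proper over k. (The
quasi-compactness and quasi-separatedness binders on the morphism from the generic point always
hold; they are needed only to form the normalization.) -/
theorem result (k : Type u) [Field k] (X : Scheme.{u})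
    [X.Over (Spec (CommRingCat.of k))] [LocallyOfFiniteType (X ↘ (Spec (CommRingCat.of k)))]
    [QuasiCompact (X ↘ (Spec (CommRingCat.of k)))] [IsSeparated (X ↘ (Spec (CommRingCat.of k)))] [IsIntegral X]
    (hX : ∀ x : X, IsClosed ({x} : Set X) → ringKrullDim (X.presheaf.stalk x) = 1)
    [QuasiCompact (X.fromSpecStalk (genericPoint X))] [QuasiSeparated (X.fromSpecStalk (genericPoint X))] :
    IsProper (X ↘ (Spec (CommRingCat.of k))) ↔ IsProper (Curv2.normalizationι X ≫ (X ↘ (Spec (CommRingCat.of k)))) := by
  obtain ⟨hfin, hdom, -, -, -⟩ := S1585.result k X
  have : Surjective (Curv2.normalizationι X) := ⟨by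
    rw [← Set.range_eq_univ, ← (Curv2.normalizationι X).isClosedMap.isClosed_range.closure_eq]
    exact (Curv2.normalizationι X).denseRange.closure_range⟩
  constructor
  · intro h
    infer_instance
  · intro h
    have : UniversallyClosed (X ↘ (Spec (CommRingCat.of k))) :=
      UniversallyClosed.of_comp_surjective (Curv2.normalizationι X) _
    exact {}

end Groth.Agent.S4455
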