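import Groth.Statements.S4459
import Mathlib.RingTheory.AdicCompletion.Basic

set_option autoImplicit false
set_option backward.isDefEq.respectTransparency.types false
universe u
open Coherent

namespace Groth.Agent.S4459

open AlgebraicGeometry CategoryTheory in
/-- Let A be a Noetherian ring which is separated and complete for the J-adic topology, and let f : X →
Spec A be a morphism of schemes which is a closed map on underlying spaces. Then every open subset
of X containing the inverse image of V(J) is all of X. (The published statement also assumes X of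
finite type over A; that hypothesis is not used.) -/
theorem result (A : Type u) [CommRing A] [IsNoetherianRing A]
    (J : Ideal A) [IsAdicComplete J A] {X : Scheme.{u}} (f : X ⟶ Spec (CommRingCat.of A))
    (hf : IsClosedMap f.base) (U : X.Opens)
    (hU : f.base ⁻¹' (PrimeSpectrum.zeroLocus (J : Set A)) ⊆ (U : Set X)) : U = ⊤ := by
  by_contra hne
  obtain ⟨x, hx⟩ : ∃ x, x ∉ (U : Set X) := by
    by_contra h
    push Not at h
    exact hne (TopologicalSpace.Opens.ext (Set.eq_univ_of_forall h))
  have hC : IsClosed (f.base '' (U : Set X)ᶜ) := hf _ U.2.isClosed_compl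
  obtain ⟨m, hm, hle⟩ := Ideal.exists_le_maximal (f.base x).asIdeal (f.base x).2.ne_top
  let q : Spec (CommRingCat.of A) := (⟨m, hm.isPrime⟩ : PrimeSpectrum A)
  have hspec : f.base x ⤳ q := (PrimeSpectrum.le_iff_specializes _ _).mp hle
  obtain ⟨z, hz, hzq⟩ := hspec.mem_closed hC ⟨x, hx, rfl⟩
  refine hz (hU ?_)
  have hJ : J ≤ m := (IsAdicComplete.le_jacobson_bot J).trans
    (sInf_le ⟨bot_le, hm⟩)
  change (f.base z) ∈ PrimeSpectrum.zeroLocus (J : Set A)
  rw [hzq]
  exact hJ

end Groth.Agent.S4459
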