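import Groth.Statements.S4466
import Groth.Agent.Cyc90.Dev.ProjEuler
open Groth.Agent.Cyc90

set_option autoImplicit false
universe u
open Coherent

namespace Groth.Agent.S4466

open AlgebraicGeometry CategoryTheory in
/-- Let k be a field, r > 0 and n any integer. Then the Euler characteristic of the twisting sheaf O(n)
on projective r-space over k, namely the alternating sum of the dimensions of H^j(P^r_k, O(n)) for 0
≤ j ≤ r, equals the binomial coefficient C(n+r, r), understood as the binomial polynomial evaluated
at the integer n+r (so that it makes sense and is correct for negative n too). -/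
theorem result (k : Type u) [Field k] (r : ℕ) (hr : 0 < r)
    (n : ℤ) :
    ((Finset.range (r + 1)).sum fun j => (-1 : ℤ) ^ j *
        (Module.finrank k (Coh.HH (CohB1.ProjSpace r k) (Twist.twistProjSpace r k n) j) : ℤ)) =
      Ring.choose (n + r) r := by
  exact Dev.eulerCharLE_twist_projSpace k r n (Or.inl hr)

end Groth.Agent.S4466
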