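import Groth.Statements.S4467
import Groth.Agent.RB70.Stalk
import Groth.Agent.FF71.Main

set_option autoImplicit false
set_option backward.isDefEq.respectTransparency.types false
universe u
open Coherent

namespace Groth.Agent.S4467

open AlgebraicGeometry CategoryTheory in
/-- Suppose f : X → Y is a proper morphism whose target Y is a locally Noetherian scheme, and take a
coherent O_X-module F, a point y ∈ Y and an integer p ≥ 0. Form X₁ = X ×_Y Spec(O_{Y,y}), writing g
for its first projection to X, and set F₁ = g^* F. Then the O_{Y,y}-module (R^p f_* F)_y is of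
finite type, and completing it m_y-adically, with m_y the maximal ideal, yields something additively
isomorphic to the inverse limit, as k varies, of the groups H^p(X₁, F₁/m_y^(k+1)F₁); in the source
these are described as the cohomology groups of F ⊗ O_y/m_y^(k+1) on the fibre f⁻¹(y). (Whereas the
source provides a canonical topological isomorphism, here we only claim that some additive
isomorphism exists. The existence of injective resolutions in X.Modules is supplied as an instance
argument.) -/
theorem result {X Y : Scheme.{u}} (f : X ⟶ Y)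
    [IsProper f] [IsLocallyNoetherian Y] [CategoryTheory.HasInjectiveResolutions X.Modules]
    (F : X.Modules) (hF : Coh.IsCoh F) (y : Y) (p : ℕ)
    (X₁ : Scheme.{u}) [X₁.Over (Spec (CommRingCat.of (Y.presheaf.stalk y)))] (g : X₁ ⟶ X)
    (hsq : IsPullback g (X₁ ↘ Spec (CommRingCat.of (Y.presheaf.stalk y))) f (Y.fromSpecStalk y)) :
    Module.Finite (Y.presheaf.stalk y) (((Coh.Rpush f p).obj F).presheaf.stalk y) ∧
    Nonempty (AdicCompletion (IsLocalRing.maximalIdeal (Y.presheaf.stalk y))
        (((Coh.Rpush f p).obj F).presheaf.stalk y) ≃+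
      Formal.HHlim (IsLocalRing.maximalIdeal (Y.presheaf.stalk y)) ((Scheme.Modules.pullback g).obj F) p) := by
  haveI := hF.1
  haveI := hF.2
  haveI : IsProper (X₁ ↘ Spec (CommRingCat.of (Y.presheaf.stalk y))) :=
    MorphismProperty.of_isPullback hsq inferInstance
  have hF₁ : Coh.IsCoh ((Scheme.Modules.pullback g).obj F) :=
    ⟨QCPull72.isQuasicoherent_pullback g F, QCPull72.isFiniteType_pullback g F⟩
  obtain ⟨e⟩ := RB70.nonempty_stalk_rpush_equiv f F y p X₁ g hsq
  haveI := Serre71.finite_hh_of_isProper (Y.presheaf.stalk y) ((Scheme.Modules.pullback g).obj F) hF₁ p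
  refine ⟨Module.Finite.equiv e.symm, ⟨?_⟩⟩
  exact (AdicCompletion.congr (IsLocalRing.maximalIdeal (Y.presheaf.stalk y)) e).toAddEquiv.trans
    (AddEquiv.ofBijective _ (FF71.ofCompletion_bijective _ _ hF₁ p))

end Groth.Agent.S4467
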