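import Groth.Statements.S4468
import Groth.Agent.RegImm10.BlowBirational
import Groth.Agent.LimTop61.NormalPoint
import Groth.Agent.SchBasics.NormalizationChar
import Groth.Agent.RB70.AmpleVanish
import Groth.Agent.EGA73.VeryAmplePnAmple

set_option autoImplicit false
set_option linter.style.haveILetI false
set_option backward.isDefEq.respectTransparency.types false
universe u
open Coherent

namespace Groth.Agent.S4468

open AlgebraicGeometry CategoryTheory in
/-- Let k be a field, X and Y integral schemes projective over k (given with closed immersions into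
projective spaces over k) and f : X → Y a birational k-morphism (it sends the generic point of X to
that of Y and induces a bijection between the function fields). Then X is Y-isomorphic to the
blow-up of Y in a closed subscheme: there is a quasi-coherent ideal sheaf I on Y such that f is a
blowing up of Y in I (universal property of the blow-up). -/
theorem result (k : Type u) [Field k] {X Y : Scheme.{u}} [IsIntegral X] [IsIntegral Y]
    (a b : ℕ) (iX : X ⟶ CohB1.ProjSpace a k) [IsClosedImmersion iX] (iY : Y ⟶ CohB1.ProjSpace b k)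
    [IsClosedImmersion iY] (f : X ⟶ Y)
    (hk : f ≫ iY ≫ CohB1.ProjSpace.toSpec b k = iX ≫ CohB1.ProjSpace.toSpec a k)
    (hgen : f.base (genericPoint X) = genericPoint Y)
    (hbir : Function.Bijective (f.residueFieldMap (genericPoint X)).hom) :
    ∃ I : Y.IdealSheafData, BlowUp.IsBlowUp f I := by
  obtain ⟨ea, hea, -⟩ := Groth.Agent.RB70.exists_projSpaceOver_iso k a
  obtain ⟨eb, heb, -⟩ := Groth.Agent.RB70.exists_projSpaceOver_iso k b
  haveI := Groth.Agent.Approx60.Segre.isProper_toBase a (Spec (CommRingCat.of k))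
  haveI := Groth.Agent.Approx60.Segre.isProper_toBase b (Spec (CommRingCat.of k))
  haveI : IsProper (CohB1.ProjSpace.toSpec a k) := by
    rw [← Iso.inv_hom_id_assoc ea (CohB1.ProjSpace.toSpec a k), hea]; infer_instance
  haveI : IsProper (CohB1.ProjSpace.toSpec b k) := by
    rw [← Iso.inv_hom_id_assoc eb (CohB1.ProjSpace.toSpec b k), heb]; infer_instance
  haveI : IsProper (f ≫ iY ≫ CohB1.ProjSpace.toSpec b k) := by rw [hk]; infer_instance
  haveI : IsProper f := IsProper.of_comp f (iY ≫ CohB1.ProjSpace.toSpec b k)
  let sY : Y ⟶ Spec (CommRingCat.of k) := iY ≫ CohB1.ProjSpace.toSpec b k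
  let j : X ⟶ CohB1.ProjSpaceOver a Y :=
    Limits.pullback.lift (iX ≫ ea.inv ≫ Limits.pullback.fst _ _) f (specULiftZIsTerminal.hom_ext _ _)
  let m : CohB1.ProjSpaceOver a Y ⟶ CohB1.ProjSpaceOver a (Spec (CommRingCat.of k)) :=
    Limits.pullback.lift (Limits.pullback.fst _ _) (CohB1.ProjSpaceOver.toBase a Y ≫ sY)
      (specULiftZIsTerminal.hom_ext _ _)
  haveI : IsSeparated (m ≫ CohB1.ProjSpaceOver.toBase a _) := by
    rw [show m ≫ CohB1.ProjSpaceOver.toBase a _ = CohB1.ProjSpaceOver.toBase a Y ≫ sY from
      Limits.pullback.lift_snd _ _ _]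
    haveI := Groth.Agent.Approx60.Segre.isProper_toBase a Y
    infer_instance
  haveI : IsSeparated m := IsSeparated.of_comp m (CohB1.ProjSpaceOver.toBase a _)
  haveI : IsClosedImmersion j := by
    have e : j ≫ m = iX ≫ ea.inv := by
      have h1 : ea.inv ≫ CohB1.ProjSpaceOver.toBase a _ = CohB1.ProjSpace.toSpec a k := by
        rw [← hea, Iso.inv_hom_id_assoc]
      refine Limits.pullback.hom_ext ?_ ?_
      · exact (Category.assoc _ _ _).trans (((congrArg (j ≫ ·) (Limits.pullback.lift_fst _ _ _)).trans
          (Limits.pullback.lift_fst _ _ _)).trans (Category.assoc _ _ _).symm)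
      · refine (Category.assoc _ _ _).trans (((congrArg (j ≫ ·) (Limits.pullback.lift_snd _ _ _)).trans
          (((Category.assoc _ _ _).symm.trans (congrArg (· ≫ sY) (Limits.pullback.lift_snd _ _ _))).trans
            ?_)))
        exact hk.trans ((congrArg (iX ≫ ·) h1).symm.trans (Category.assoc _ _ _).symm)
    haveI : IsClosedImmersion (j ≫ m) := by rw [e]; infer_instance
    exact IsClosedImmersion.of_comp j m
  have hjf : j ≫ CohB1.ProjSpaceOver.toBase a Y = f := Limits.pullback.lift_snd _ _ _
  have hM : CohB1.IsAmple ((Scheme.Modules.pullback iY).obj (Twist.twistProjSpace b k 1)) :=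
    Groth.Agent.Amp73.isAmple_pullback iY (Groth.Agent.Amp73.isQuasiAffine_of_isAffineHom iY)
      (Groth.Agent.EGA73.VeryAmplePnAmple.isAmple_twistProjSpace k b)
  haveI : CompactSpace Y := hM.2.1
  haveI : IsIso (f.stalkMap (genericPoint X)) :=
    Groth.Agent.SchBasics.isIso_stalkMap_of_residueFieldMap f _ (Field.toIsField X.functionField)
      (by
        suffices ∀ p : Y, p = genericPoint Y → IsField (Y.presheaf.stalk p) from this _ hgen
        rintro p rfl
        exact Field.toIsField Y.functionField) hbir
  obtain ⟨U, hU, hiso⟩ := Groth.Agent.LimTop61.exists_isIso_morphismRestrict_of_isIso_stalkMap f (genericPoint X)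
  obtain ⟨I, hI⟩ := Groth.Agent.RegImm10.BlowBirational.exists_isBlowUp j _ hM
    ⟨U, ⟨_, hU⟩, by rw [hjf]; exact hiso⟩
  exact ⟨I, hjf ▸ hI⟩

end Groth.Agent.S4468
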