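import Groth.Statements.S4469
import Mathlib

set_option autoImplicit false
set_option linter.style.haveILetI false
set_option linter.style.longLine false
universe u
open CAlg

namespace Groth.Agent.S4469

/-- Let A be an integrally closed Noetherian local domain with field of fractions K, B an A-algebra of
finite type which is a domain with the same field of fractions (A → B → K compatible with A → K),
and 𝔫 a maximal ideal of B lying over the maximal ideal 𝔪 of A and minimal among the prime ideals of
B lying over 𝔪. Then B = A: the structure map A → B is bijective. -/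
theorem result (A B K : Type u) [CommRing A]
    [IsDomain A] [IsNoetherianRing A] [IsLocalRing A] [IsIntegrallyClosed A] [CommRing B] [IsDomain B]
    [Field K] [Algebra A B] [Algebra B K] [Algebra A K] [IsScalarTower A B K] [IsFractionRing A K]
    [IsFractionRing B K] [Algebra.FiniteType A B] (n : Ideal B) [n.IsMaximal]
    (hn : n.comap (algebraMap A B) = IsLocalRing.maximalIdeal A)
    (hmin : ∀ q : Ideal B, q.IsPrime → q.comap (algebraMap A B) = IsLocalRing.maximalIdeal A → q ≤ n → q = n) :
    Function.Bijective (algebraMap A B) := by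
--- body
  classical
  set m := IsLocalRing.maximalIdeal A
  haveI : IsNoetherianRing B := Algebra.FiniteType.isNoetherianRing A B
  let I : Ideal B := m.map (algebraMap A B)
  have hIn : I ≤ n := Ideal.map_le_iff_le_comap.2 hn.ge
  have hnI : n ∈ I.minimalPrimes := by
    refine ⟨⟨inferInstance, hIn⟩, fun q hq hqn => ?_⟩
    have hqc : q.comap (algebraMap A B) = m := le_antisymm ((Ideal.comap_mono hqn).trans hn.le)
      (Ideal.map_le_iff_le_comap.1 hq.2)
    exact (hmin q hq.1 hqc hqn).ge
  let T := (I.finite_minimalPrimes_of_isNoetherianRing).toFinset.erase n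
  have hT : ¬ T.inf id ≤ n := by
    intro hle
    obtain ⟨q, hq, hqn⟩ := (Ideal.IsPrime.inf_le' inferInstance).1 hle
    obtain ⟨hqne, hqI⟩ := Finset.mem_erase.1 hq
    rw [Set.Finite.mem_toFinset] at hqI
    exact hqne (le_antisymm hqn (hnI.2 hqI.1 hqn))
  obtain ⟨g, hg, hgn⟩ := SetLike.not_le_iff_exists.1 hT
  haveI : Algebra.QuasiFiniteAt A n := by
    refine Algebra.QuasiFiniteAt.of_isOpen_singleton_fiber (⟨n, inferInstance⟩ : PrimeSpectrum B) ?_
    refine isOpen_induced_iff.2 ⟨PrimeSpectrum.basicOpen g, (PrimeSpectrum.basicOpen g).isOpen, ?_⟩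
    ext ⟨P, hP⟩
    simp only [Set.mem_preimage, SetLike.mem_coe, PrimeSpectrum.mem_basicOpen, Set.mem_singleton_iff, Subtype.mk.injEq, Subtype.ext_iff, PrimeSpectrum.ext_iff]
    constructor
    · intro hgP
      have hPI : I ≤ P.asIdeal := by
        have h := congrArg PrimeSpectrum.asIdeal hP
        exact Ideal.map_le_iff_le_comap.2 (hn.ge.trans h.ge)
      obtain ⟨q, hq, hqP⟩ := Ideal.exists_minimalPrimes_le hPI
      by_cases hqn : q = n
      · subst hqn
        exact (Ideal.IsMaximal.eq_of_le inferInstance P.isPrime.ne_top hqP).symm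
      · exact absurd (hqP ((Finset.inf_le (f := id) (Finset.mem_erase.2 ⟨hqn, (Set.Finite.mem_toFinset _).2 hq⟩) : T.inf id ≤ q) hg)) hgP
    · intro h
      rw [h]
      exact hgn
  have hint : ∀ x : B, IsIntegral A x → ∃ a, algebraMap A B a = x := by
    intro x hx
    obtain ⟨a, ha⟩ := IsIntegrallyClosed.isIntegral_iff.1 (hx.map (IsScalarTower.toAlgHom A B K))
    exact ⟨a, IsFractionRing.injective B K (by rw [← IsScalarTower.algebraMap_apply]; exact ha)⟩
  obtain ⟨r, hr, hri, hrx⟩ := Algebra.zariskisMainProperty_iff.1 (Algebra.ZariskisMainProperty.of_finiteType (R := A) n)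
  obtain ⟨a, rfl⟩ := hint r hri
  have ha : IsUnit a := by
    by_contra hu
    exact hr (hn.ge hu : a ∈ n.comap (algebraMap A B))
  refine ⟨fun x y h => IsFractionRing.injective A K (by rw [IsScalarTower.algebraMap_apply A B K, h, ← IsScalarTower.algebraMap_apply]), fun x => ?_⟩
  obtain ⟨j, hj⟩ := hrx x
  obtain ⟨b, hb⟩ := hint _ hj
  obtain ⟨v, hv⟩ := (ha.pow j).exists_right_inv
  refine ⟨v * b, ?_⟩
  rw [map_mul, hb, ← map_pow, ← mul_assoc, ← map_mul, mul_comm v, hv, map_one, one_mul]

end Groth.Agent.S4469
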