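import Groth.Statements.S4476
import Groth.Agent.S9514
import Groth.Agent.RB70.HomLift
import Groth.Agent.RB70.FibreCrit
import Groth.Agent.RB70.FibreSquare

set_option autoImplicit false
set_option backward.isDefEq.respectTransparency.types false
universe u
attribute [local instance] HasDerivedCategory.standard
open Coherent

namespace Groth.Agent.S4476

open AlgebraicGeometry CategoryTheory in
/-- Over a local base. Let A be a Noetherian local ring with closed point y, X a scheme proper and flat
over Spec A, F and G finite locally free O_X-modules and F_y, G_y their restrictions (module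
pullbacks) to the closed fibre X_y. Assume that the internal Hom functor Hom(F_y, −) exists as the
right adjoint of F_y ⊗ − and that H^1(X_y, Hom(F_y, G_y)) = 0. Then every morphism u₀ : F_y → G_y is
the restriction to X_y of a morphism u : F → G; moreover for every such u, if u₀ is a monomorphism
(resp. an epimorphism) then u is a monomorphism (resp. an epimorphism). (Over a general locally
Noetherian base the published statements give u on the inverse image of a neighbourhood of y; over
the spectrum of a local ring that neighbourhood is the whole base.) -/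
theorem result (A : Type u) [CommRing A] [IsNoetherianRing A]
    [IsLocalRing A] (X : Scheme.{u}) [X.Over (Spec (CommRingCat.of A))]
    [IsProper (X ↘ Spec (CommRingCat.of A))] [Flat (X ↘ Spec (CommRingCat.of A))]
    (F G : X.Modules) (hF : FlatMod.IsFinLocFree F) (hG : FlatMod.IsFinLocFree G)
    [DCoh.HasSheafHom (CohIII.fiberMod (X ↘ Spec (CommRingCat.of A)) F (IsLocalRing.closedPoint A))]
    (h1 : Subsingleton (Coh.HH ((X ↘ Spec (CommRingCat.of A)).fiber (IsLocalRing.closedPoint A))
      ((DCoh.sheafHom (CohIII.fiberMod (X ↘ Spec (CommRingCat.of A)) F (IsLocalRing.closedPoint A))).obj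
        (CohIII.fiberMod (X ↘ Spec (CommRingCat.of A)) G (IsLocalRing.closedPoint A))) 1))
    (u₀ : CohIII.fiberMod (X ↘ Spec (CommRingCat.of A)) F (IsLocalRing.closedPoint A) ⟶
      CohIII.fiberMod (X ↘ Spec (CommRingCat.of A)) G (IsLocalRing.closedPoint A)) :
    (∃ u : F ⟶ G,
      (Scheme.Modules.pullback ((X ↘ Spec (CommRingCat.of A)).fiberι (IsLocalRing.closedPoint A))).map u = u₀) ∧
    ∀ u : F ⟶ G,
      (Scheme.Modules.pullback ((X ↘ Spec (CommRingCat.of A)).fiberι (IsLocalRing.closedPoint A))).map u = u₀ →
        (Mono u₀ → Mono u) ∧ (Epi u₀ → Epi u) := by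
  open Groth.Agent Groth.Agent.QC70 Groth.Agent.RB70 CategoryTheory.Limits in
    classical
    let S := Spec (CommRingCat.of A)
    let f := X ↘ S
    let x : PrimeSpectrum A := IsLocalRing.closedPoint A
    haveI : x.asIdeal.IsMaximal := IsLocalRing.maximalIdeal.isMaximal A
    haveI : IsLocallyNoetherian X := LocallyOfFiniteType.isLocallyNoetherian f
    obtain ⟨s, g, hg, hsq⟩ : ∃ (s : f.fiber x ⟶ Spec (CommRingCat.of x.asIdeal.ResidueField)) (g : f.fiber x ⟶ X),
        g ≫ 𝟙 X = f.fiberι x ∧ IsPullback g s f (Spec.map (CommRingCat.ofHom (algebraMap A x.asIdeal.ResidueField))) :=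
      exists_fibre_square (f := f) (j := 𝟙 S) (IsPullback.of_id_fst (f := f)) x
    rw [Category.comp_id] at hg
    subst hg
    letI : (f.fiber x).Over (Spec (CommRingCat.of x.asIdeal.ResidueField)) := ⟨s⟩
    haveI : LocallyOfFiniteType s := MorphismProperty.of_isPullback (P := @LocallyOfFiniteType) hsq (inferInstance : LocallyOfFiniteType f)
    haveI : IsLocallyNoetherian (f.fiber x) := LocallyOfFiniteType.isLocallyNoetherian s
    have hcF := CD47.isCoh_of_isFinLocFree hF
    have hcG := CD47.isCoh_of_isFinLocFree hG
    have hfl := isFlatOver_of_isFinLocFree f hG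
    refine ⟨?_, fun u hu => ⟨fun hm => ?_, fun he => ?_⟩⟩
    · have h : Subsingleton (Coh.HH (f.fiber x) (homMod ((Scheme.Modules.pullback (f.fiberι x)).obj F)
          ((Scheme.Modules.pullback (f.fiberι x)).obj G)) 1) :=
        (Crv77.hEquiv x.asIdeal.ResidueField
          ((sheafHomIso ((Scheme.Modules.pullback (f.fiberι x)).obj F)).app _) 1).symm.toEquiv.subsingleton
      obtain ⟨a, ha, u, hu⟩ := exists_hom_lift_scaled G hsq x
        (fun c hc => Ideal.algebraMap_residueField_eq_zero.mpr hc)
        (fun c hc => isUnit_iff_ne_zero.mpr fun h => hc (Ideal.algebraMap_residueField_eq_zero.mp h))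
        (fun b => by
          obtain ⟨⟨c, ⟨d, hd⟩⟩, hb⟩ := IsLocalization.surj (nonZeroDivisors (A ⧸ x.asIdeal)) b
          obtain ⟨c, rfl⟩ := Ideal.Quotient.mk_surjective c
          obtain ⟨d, rfl⟩ := Ideal.Quotient.mk_surjective d
          refine ⟨c, d, fun h => mem_nonZeroDivisors_iff_ne_zero.mp hd (Ideal.Quotient.eq_zero_iff_mem.mpr h), ?_⟩
          rw [mul_comm]
          exact hb)
        hF hG hfl h u₀
      obtain ⟨b, hb⟩ : ∃ b, a * b = 1 := (IsLocalRing.notMem_maximalIdeal.mp ha).exists_right_inv
      refine ⟨Formal.smulMod A F b ≫ u, ?_⟩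
      show (Scheme.Modules.pullback (f.fiberι x)).map (Formal.smulMod A F b ≫ u) = u₀
      refine (Functor.map_comp _ _ _).trans ?_
      refine (congrArg (_ ≫ ·) hu).trans ?_
      refine (Category.assoc _ _ _).symm.trans ?_
      rw [← Functor.map_comp, ← Formal27.smulMod_mul, hb, Formal27.smulMod_one, CategoryTheory.Functor.map_id]
      exact Category.id_comp u₀
    · have hinj : ∀ p : X, Function.Injective (stalkMapM u p) := fun p => by
        haveI : (kernel u).IsFiniteType := (S9514.result X hcF hcG u).1.2
        have hz : ∀ p' : f.fiber x, f.fiberι x p' ∉ CohB1.support (kernel u) := fun p' h =>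
          h (subsingleton_stalk_kernel u _ (injective_stalk_of_fibre (IsLocalRing.maximalIdeal A) hsq
            (LinearEquiv.ofBijective ((Algebra.linearMap (A ⧸ x.asIdeal) x.asIdeal.ResidueField).restrictScalars A)
              (Ideal.bijective_algebraMap_quotient_residueField _))
            (fun c hc => Ideal.algebraMap_residueField_eq_zero.mpr hc) hcF hcG hfl u
            ((congrArg Mono hu).mpr (hm : Mono u₀)) p'))
        have hp : p ∉ CohB1.support (kernel u) := fun h => by
          have hc : (x : S) ∈ f.base '' CohB1.support (kernel u) :=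
            (IsLocalRing.specializes_closedPoint (f.base p : PrimeSpectrum A)).mem_closed
              (f.isClosedMap _ (isClosed_support _)) ⟨p, h, rfl⟩
          obtain ⟨q, hq, hqx⟩ := hc
          obtain ⟨p', rfl⟩ : q ∈ Set.range (f.fiberι x) := by rw [Scheme.Hom.range_fiberι]; exact hqx
          exact hz p' hq
        haveI : Subsingleton ((kernel u).presheaf.stalk p) := notMem_support_iff.mp hp
        refine (injective_iff_map_eq_zero (stalkLinear u p)).mpr fun e he => ?_
        haveI : Mono (ShortComplex.mk (kernel.ι u) u (kernel.condition u)).f := inferInstanceAs (Mono (kernel.ι u))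
        obtain ⟨d, rfl⟩ := stalkMapM_exact (ShortComplex.mk (kernel.ι u) u (kernel.condition u))
          (ShortComplex.exact_of_f_is_kernel _ (kernelIsKernel u)) p e he
        rw [Subsingleton.elim d 0]
        exact map_zero (stalkLinear (kernel.ι u) p)
      exact mono_of_injective_stalkMapM u hinj
    · obtain ⟨W, hW, -, hepi⟩ := exists_opens_epi f f.isClosedMap x (f.fiberι x)
        (by rw [Scheme.Hom.range_fiberι]) hcF hcG u ((congrArg Epi hu).mpr (he : Epi u₀))
      refine hepi (TopologicalSpace.Opens.ext (Set.eq_univ_of_forall fun q => ?_))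
      exact (IsLocalRing.specializes_closedPoint (q : PrimeSpectrum A)).mem_open W.2 hW

end Groth.Agent.S4476
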