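import Groth.Statements.S4477
import Groth.Agent.RB70.IsoNearFibre

set_option autoImplicit false
set_option backward.isDefEq.respectTransparency.types false
universe u
attribute [local instance] HasDerivedCategory.standard
open Coherent

namespace Groth.Agent.S4477

open AlgebraicGeometry CategoryTheory in
/-- Let Y be a locally Noetherian scheme, f : X → Y a proper flat morphism, y a point of Y, and F, G
finite locally free O_X-modules whose restrictions F_y and G_y to the fibre X_y are isomorphic (both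
isomorphic to one locally free E₀). Assume that Hom(F_y, −) exists as the right adjoint of F_y ⊗ −
and that H^1(X_y, Hom(F_y, F_y)) = 0. Then there is an open neighbourhood U of y such that the
restrictions of F and G to f⁻¹(U) are isomorphic. -/
theorem result {X Y : Scheme.{u}} (f : X ⟶ Y) [IsProper f] [Flat f]
    [IsLocallyNoetherian Y] (y : Y) (F G : X.Modules) (hF : FlatMod.IsFinLocFree F) (hG : FlatMod.IsFinLocFree G)
    [DCoh.HasSheafHom (CohIII.fiberMod f F y)]
    (h1 : Subsingleton (Coh.HH (f.fiber y) ((DCoh.sheafHom (CohIII.fiberMod f F y)).obj (CohIII.fiberMod f F y)) 1))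
    (hy : Nonempty (CohIII.fiberMod f F y ≅ CohIII.fiberMod f G y)) :
    ∃ U : Y.Opens, y ∈ U ∧ Nonempty (F.restrict (f ⁻¹ᵁ U).ι ≅ G.restrict (f ⁻¹ᵁ U).ι) := by
  open Groth.Agent Groth.Agent.QC70 Groth.Agent.RB70 CategoryTheory.Limits in
    classical
    obtain ⟨_, ⟨V, hV, rfl⟩, hyV, -⟩ := Y.isBasis_affineOpens.exists_subset_of_mem_open (Set.mem_univ y) isOpen_univ
    let A := Γ(Y, V)
    haveI : IsNoetherianRing A := IsLocallyNoetherian.component_noetherian ⟨V, hV⟩
    let j : Spec (CommRingCat.of A) ⟶ Y := hV.fromSpec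
    haveI : IsOpenImmersion j := hV.isOpenImmersion_fromSpec
    obtain ⟨x, rfl⟩ : ∃ x : Spec (CommRingCat.of A), j x = y := ⟨hV.primeIdealOf ⟨y, hyV⟩, hV.fromSpec_primeIdealOf ⟨y, hyV⟩⟩
    let XA := pullback f j
    let ι : XA ⟶ X := pullback.fst f j
    let fA : XA ⟶ Spec (CommRingCat.of A) := pullback.snd f j
    letI : XA.Over (Spec (CommRingCat.of A)) := ⟨fA⟩
    haveI : IsProper (XA ↘ Spec (CommRingCat.of A)) :=
      MorphismProperty.of_isPullback (P := @IsProper) (IsPullback.of_hasPullback f j) (inferInstance : IsProper f)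
    haveI : Flat (XA ↘ Spec (CommRingCat.of A)) :=
      MorphismProperty.of_isPullback (P := @Flat) (IsPullback.of_hasPullback f j) (inferInstance : Flat f)
    haveI : IsOpenImmersion ι := MorphismProperty.of_isPullback (P := @IsOpenImmersion) (IsPullback.of_hasPullback f j).flip (inferInstance : IsOpenImmersion j)
    obtain ⟨s, g, hg, hsq⟩ := exists_fibre_square (f := f) (j := j) (IsPullback.of_hasPullback f j) x
    letI : (f.fiber (j x)).Over (Spec (CommRingCat.of x.asIdeal.ResidueField)) := ⟨s⟩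
    let t : ∀ N : X.Modules, (Scheme.Modules.pullback g).obj ((Scheme.Modules.pullback ι).obj N) ≅
        CohIII.fiberMod f N (j x) := fun N =>
      (Scheme.Modules.pullbackComp g ι).app N ≪≫ (Scheme.Modules.pullbackCongr hg).app N
    have hrange : (XA ↘ Spec (CommRingCat.of A)).base ⁻¹' {x} ⊆ Set.range g.base := by
      intro q hq
      have h : ι.base q ∈ f.base ⁻¹' {j x} := by
        show (ι ≫ f).base q = j x
        rw [show ι ≫ f = fA ≫ j from pullback.condition]
        exact congrArg j.base hq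
      rw [← Scheme.Hom.range_fiberι] at h
      obtain ⟨p, hp⟩ := h
      refine ⟨p, ι.isOpenEmbedding.injective ?_⟩
      rw [← hp, ← hg]
      rfl
    obtain ⟨W, hxW, ⟨i⟩⟩ := exists_opens_iso_affine x hsq hrange
      (Strict99.isFinLocFree_pullback ι hF) (Strict99.isFinLocFree_pullback ι hG)
      (CohIII.fiberMod f F (j x))
      ((Crv77.hEquiv x.asIdeal.ResidueField
        ((sheafHomIso (CohIII.fiberMod f F (j x))).app (CohIII.fiberMod f F (j x))) 1).symm.toEquiv.subsingleton)
      (t F) (t G ≪≫ hy.some.symm)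
    refine ⟨j ''ᵁ W, ⟨x, hxW, rfl⟩, ?_⟩
    let U := f ⁻¹ᵁ (j ''ᵁ W)
    have hUι : Set.range U.ι.base ⊆ Set.range ι.base := by
      rintro _ ⟨q, rfl⟩
      obtain ⟨w, -, hw⟩ := (q.2 : f.base (U.ι q) ∈ j ''ᵁ W)
      obtain ⟨z, hz, -⟩ := Scheme.Pullback.exists_preimage_pullback (f := f) (g := j) (U.ι q) w hw.symm
      exact ⟨z, hz⟩
    let k := IsOpenImmersion.lift ι U.ι hUι
    have hk : k ≫ ι = U.ι := IsOpenImmersion.lift_fac _ _ _
    let VA := (XA ↘ Spec (CommRingCat.of A)) ⁻¹ᵁ W
    have hkV : Set.range k.base ⊆ Set.range VA.ι.base := by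
      rintro _ ⟨q, rfl⟩
      rw [Scheme.Opens.range_ι]
      show fA.base (k.base q) ∈ W
      obtain ⟨w, hw, hwq⟩ := (q.2 : f.base (U.ι q) ∈ j ''ᵁ W)
      have e : j.base (fA.base (k.base q)) = j.base w := by
        refine Eq.trans ?_ hwq.symm
        exact (congr($(pullback.condition (f := f) (g := j)).base (k.base q))).symm.trans
          (congrArg (fun φ => f.base ((Scheme.Hom.toLRSHom φ).base q)) hk)
      rwa [j.isOpenEmbedding.injective e]
    let k' := IsOpenImmersion.lift VA.ι k hkV
    have hk' : (k' ≫ VA.ι) ≫ ι = U.ι := by rw [IsOpenImmersion.lift_fac]; exact hk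
    let c : ∀ N : X.Modules, (Scheme.Modules.pullback k').obj ((Scheme.Modules.pullback VA.ι).obj
        ((Scheme.Modules.pullback ι).obj N)) ≅ N.restrict U.ι := fun N =>
      (Scheme.Modules.pullbackComp k' VA.ι).app ((Scheme.Modules.pullback ι).obj N) ≪≫
        (Scheme.Modules.pullbackComp (k' ≫ VA.ι) ι).app N ≪≫ (Scheme.Modules.pullbackCongr hk').app N ≪≫
        ((Scheme.Modules.restrictFunctorIsoPullback U.ι).app N).symm
    exact ⟨(c F).symm ≪≫ (Scheme.Modules.pullback k').mapIso i ≪≫ c G⟩

end Groth.Agent.S4477
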