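import Groth.Statements.S4483
import Groth.Agent.RB70.BundleVanish
import Groth.Agent.Var76.RegTools
import Groth.Agent.Amp73.PullTensor
import Groth.Agent.Amp73.Powers

set_option autoImplicit false
set_option backward.isDefEq.respectTransparency.types false
universe u
open Coherent

namespace Groth.Agent.S4483

open AlgebraicGeometry CategoryTheory in
/-- Let Y be a scheme, E a locally free O_Y-module of rank r+1, and (π : P → Y, O(1), q : π^*E → O(1)) a
projective bundle P(E) of E, characterised by its universal property; let L be an O_P-module with L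
⊗ O(1) ≅ O_P, playing the role of O(-1). Then the higher direct images R^i π_* O(n) vanish except
possibly for i = 0, n ≥ 0 and for i = r, n ≤ -(r+1): precisely, R^i π_*(O(1)^{⊗ n}) = 0 for all n ≥
0 and i ≠ 0, and R^i π_*(L^{⊗ m}) = 0 for all m ≥ 1 and all i unless i = r and m ≥ r + 1 (higher
direct images of the underlying abelian sheaves). -/
theorem result {Y P : Scheme.{u}} (π : P ⟶ Y) (r : ℕ)
    (E : Y.Modules) (hE : FlatMod.IsFinLocFreeOfRank (r + 1) E) (O1 : P.Modules)
    (q : (Scheme.Modules.pullback π).obj E ⟶ O1) (hP : KRR.IsProjBundle π E O1 q)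
    (L : P.Modules) (hL : ClSub.IsInverseOf L O1) :
    (∀ (n i : ℕ), i ≠ 0 → Limits.IsZero ((Coh.RpushAb π i).obj (Coh.toAb (CohB1.tensorPow O1 n)))) ∧
    (∀ (m i : ℕ), 1 ≤ m → ¬ (i = r ∧ r + 1 ≤ m) →
      Limits.IsZero ((Coh.RpushAb π i).obj (Coh.toAb (CohB1.tensorPow L m)))) := by
  have hO : PicF.IsInvertible O1 := Cyc90.Dev.isInvertible_of_rank_one hP.invertible
  have hLi : PicF.IsInvertible L := by
    obtain ⟨hd, ⟨a⟩⟩ := Div89.exists_dual_tensor hO
    obtain ⟨l⟩ := hL
    obtain ⟨e⟩ := Div89.inverse_unique a l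
    exact EGA73.isInvertible_of_iso e hd
  have hpow : ∀ (A : Type u) [CommRing A] (s : ℤ) (k : ℕ), Nonempty (CohB1.tensorPow (Twist.twistProjSpace r A s) k ≅
      Twist.twistProjSpace r A (s * k)) := by
    intro A _ s k
    induction k with
    | zero =>
      obtain ⟨z⟩ := Var76.Reg.nonempty_twist_zero (n := r) (A := A)
      exact ⟨z.symm ≪≫ eqToIso (congrArg (Twist.twistProjSpace r A) (by simp))⟩
    | succ k ih =>
      obtain ⟨i⟩ := ih
      obtain ⟨a⟩ := Var76.Reg.nonempty_twist_add (n := r) (A := A) (show s * k + s = s * ((k + 1 : ℕ) : ℤ) by push_cast; ring)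
      exact ⟨EGA73.tensIso i (Iso.refl _) ≪≫ a⟩
  constructor
  · intro n i hi
    refine RB70.isZero_rpush_bundle hE hP _ (n : ℤ) i (fun A _ j ⟨t⟩ => ?_) (by omega)
    obtain ⟨p⟩ := hpow A 1 n
    exact ⟨Amp73.pullPowIso j hO n ≪≫ Amp73.powIso t n ≪≫ p ≪≫ eqToIso (congrArg (Twist.twistProjSpace r A) (one_mul _))⟩
  · intro m i hm hmi
    refine RB70.isZero_rpush_bundle hE hP _ (-(m : ℤ)) i (fun A _ j ⟨t⟩ => ?_) (by omega)
    obtain ⟨l⟩ := hL
    haveI := Amp73.isIso_pullTensHom j hLi hO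
    obtain ⟨a⟩ := Var76.Reg.nonempty_twist_add (n := r) (A := A) (show (-1 : ℤ) + 1 = 0 by norm_num)
    obtain ⟨z⟩ := Var76.Reg.nonempty_twist_zero (n := r) (A := A)
    obtain ⟨u⟩ := Div89.inverse_unique (L := Twist.twistProjSpace r A 1) (A := (Scheme.Modules.pullback j).obj L)
      (EGA73.tensIso (Iso.refl _) t.symm ≪≫ (asIso (Amp73.pullTensHom j L O1)).symm ≪≫
        (Scheme.Modules.pullback j).mapIso l ≪≫ PicLoc.pullbackStructureIso j) (a ≪≫ z)
    obtain ⟨p⟩ := hpow A (-1) m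
    exact ⟨Amp73.pullPowIso j hLi m ≪≫ Amp73.powIso u m ≪≫ p ≪≫
      eqToIso (congrArg (Twist.twistProjSpace r A) (neg_one_mul _))⟩

end Groth.Agent.S4483
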