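import Groth.Statements.S4484
import Groth.Agent.Stein58.SepDegreeBound

set_option autoImplicit false
universe u
open Coherent

namespace Groth.Agent.S4484

open AlgebraicGeometry CategoryTheory in
/-- Let X and Y be locally Noetherian integral schemes and f : X → Y a proper dominant morphism; regard
the function field R(X) as an extension of R(Y) through f. Suppose that the algebraic closure of
R(Y) in R(X) has finite separable degree n over R(Y). Then for every point y of Y whose local ring
is unibranch, the fibre X_y has finitely many, and at most n, connected components. -/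
theorem result {X Y : Scheme.{u}} [IsIntegral X]
    [IsIntegral Y] [IsLocallyNoetherian X] [IsLocallyNoetherian Y] (f : X ⟶ Y) [IsProper f]
    (hdom : f.base (genericPoint X) ⤳ genericPoint Y) [Algebra Y.functionField X.functionField]
    (halg : algebraMap Y.functionField X.functionField = CohIII.stalkToFunctionField f (genericPoint Y) hdom)
    (n : ℕ) (hn0 : 0 < n)
    (hn : Field.finSepDegree Y.functionField ↥(algebraicClosure Y.functionField X.functionField) = n)
    (y : Y) (hy : CAlg2.IsUnibranch (Y.presheaf.stalk y)) :
    Finite (_root_.ConnectedComponents ↥(f.fiber y)) ∧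
      Nat.card (_root_.ConnectedComponents ↥(f.fiber y)) ≤ n := by
  have h : f.base (genericPoint X) ⤳ y := hdom.trans ((genericPoint_spec Y).specializes trivial)
  have hb : Finite (MaximalSpectrum (CohIII.integralClosureStalk f y h)) ∧
      Nat.card (MaximalSpectrum (CohIII.integralClosureStalk f y h)) ≤ n := by
    letI : Algebra (Y.presheaf.stalk y) X.functionField := (CohIII.stalkToFunctionField f y h).toAlgebra
    haveI : IsScalarTower (Y.presheaf.stalk y) Y.functionField X.functionField := by
      refine .of_algebraMap_eq' ?_
      rw [halg, RingHom.algebraMap_toAlgebra]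
      exact congrArg CommRingCat.Hom.hom (by
          rw [← Category.assoc, TopCat.Presheaf.stalkSpecializes_comp] : Y.presheaf.stalkSpecializes h ≫ f.stalkMap (genericPoint X) = Y.presheaf.stalkSpecializes
            ((genericPoint_spec Y).specializes (Set.mem_univ y)) ≫ Y.presheaf.stalkSpecializes hdom ≫
              f.stalkMap (genericPoint X))
    exact Groth.Agent.Stein58.card_maximalSpectrum_le_finSepDegree (K := Y.functionField) hy n hn0 hn
  obtain ⟨Ψ, hΨ⟩ := Groth.Agent.Stein58.exists_surjective_maximalSpectrum f y h
  obtain ⟨c, hc⟩ := Groth.Agent.Stein58.exists_injective_connectedComponents f y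
  haveI := hb.1
  haveI : Finite ↥(f.fromNormalization ⁻¹' {y}) := Finite.of_surjective Ψ hΨ
  exact ⟨Finite.of_injective c hc, (Nat.card_le_card_of_injective c hc).trans ((Nat.card_le_card_of_surjective Ψ hΨ).trans hb.2)⟩

end Groth.Agent.S4484
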