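import Groth.Statements.S4485
import Groth.Agent.FCx40.Semicont
import Groth.Agent.FCx40.Crit

set_option autoImplicit false
universe u
open FlatCx

namespace Groth.Agent.S4485

open CategoryTheory CategoryTheory.Limits in
/-- For the homological functor T_p(M) = H_p(P ⊗_A M) of a chain complex P of flat modules over a
commutative ring A. If T_p takes injections to injections and surjections to surjections and T_p(A)
is a finitely presented A-module, then the function x ↦ dim_{k(x)} H_p(P ⊗_A k(x)) is locally
constant on Spec A (hence constant when Spec A is connected). No Noetherian hypothesis on A. -/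
theorem result {A : Type u} [CommRing A]
    (P : ChainComplex (ModuleCat.{u} A) ℤ) (hP : ∀ i, Module.Flat A (P.X i)) (p : ℤ)
    (hex : (CohIII.TFun P p).PreservesMonomorphisms ∧ (CohIII.TFun P p).PreservesEpimorphisms)
    (hfp : Module.FinitePresentation A (CohIII.T P p (ModuleCat.of A A))) :
    IsLocallyConstant (CohIII.dRank P p) := by
  have hpq := sub_add_cancel p 1
  obtain ⟨he, hH⟩ := (FCx40.preservesBoth_iff hP hpq).mp hex
  have := hP (p - 1)
  have := (FCx40.preservesEpi_iff hP hpq).mp he
  have := Module.FinitePresentation.of_equiv (FCx40.tOneEquiv (P := P) hpq).symm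
  have heq : CohIII.dRank P p = FCx40.fib (P.homology p) :=
    funext fun x => FCx40.dRank_congr_fib hpq x (FCx40.lTensor_ker_of_flat_coker _ _)
  rw [heq]
  exact FCx40.isLocallyConstant_fib _

end Groth.Agent.S4485
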