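import Groth.Statements.S4487
import Groth.Agent.FCx40.Generic
import Mathlib.RingTheory.Spectrum.Prime.Noetherian
import Mathlib.RingTheory.Ideal.MinimalPrime.Noetherian

set_option autoImplicit false
universe u
open FlatCx

namespace Groth.Agent.S4487

open CategoryTheory CategoryTheory.Limits in
/-- The case of the homological functor T_p(M) = H_p(P ⊗_A M) of a chain complex P of flat modules over
a commutative ring A. Let A be Noetherian and suppose P_i = 0 for i < i₀ and that every T_n(A) is a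
finitely generated A-module. Then for every integer N there is a dense open subset U of Spec A such
that, for every p ≤ N, the function x ↦ dim_{k(x)} H_p(P ⊗_A k(x)) is locally constant on U. (The
published statement says constant on U; over the product of two fields, with P the projective module
supported on one factor placed in degree 0, the only dense open set is the whole two-point spectrum
and the ranks there are 1 and 0, so locally constant on U is what holds; the argument produces U as
a disjoint union of opens, one dense in each irreducible component, on each of which the functions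
are constant.) -/
theorem result {A : Type u} [CommRing A] [IsNoetherianRing A]
    (P : ChainComplex (ModuleCat.{u} A) ℤ) (hP : ∀ i, Module.Flat A (P.X i)) (i₀ : ℤ)
    (hb : ∀ i < i₀, IsZero (P.X i))
    (hfg : ∀ n : ℤ, Module.Finite A (CohIII.T P n (ModuleCat.of A A))) (N : ℤ) :
    ∃ U : Set (PrimeSpectrum A), IsOpen U ∧ Dense U ∧
      ∀ p ≤ N, IsLocallyConstant (fun x : U => CohIII.dRank P p x) := by
  have hfg' : ∀ n, Module.Finite A (P.homology n) := fun n =>
    haveI := hfg n
    Module.Finite.equiv (FCx40.tOneEquiv (P := P) (sub_add_cancel n 1)).symm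
  have key : ∀ V : Set (PrimeSpectrum A), IsOpen V → V.Nonempty →
      ∃ W ⊆ V, IsOpen W ∧ W.Nonempty ∧ ∀ q ≤ N, ∀ x ∈ W, ∀ y ∈ W, CohIII.dRank P q x = CohIII.dRank P q y := by
    intro V hV ⟨y, hy⟩
    obtain ⟨η, hη, hηy⟩ := Ideal.exists_minimalPrimes_le (show (⊥ : Ideal A) ≤ y.asIdeal from bot_le)
    have hηp : η.IsPrime := hη.1.1
    let e : PrimeSpectrum A := ⟨η, hηp⟩
    have heV : e ∈ V := ((PrimeSpectrum.le_iff_specializes e y).mp hηy).mem_open hV hy
    let B := A ⧸ η
    let P' := CohIII.bcCx (algebraMap A B) P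
    have hb' : ∀ i < i₀, Limits.IsZero (P'.X i) := fun i hi =>
      (ModuleCat.extendScalars (algebraMap A B)).map_isZero (hb i hi)
    have hfp' : ∀ n, Module.FinitePresentation B (P'.homology n) := fun n => by
      have : Module.Finite A (CohIII.T P n (ModuleCat.of A B)) := FCx40.finite_T hP i₀ hb hfg' n _
      have : Module.Finite B (P'.homology n) := FCx40.finite_bc_homology B n
      exact Module.finitePresentation_of_finite B _
    obtain ⟨f, hf, hboth⟩ := FCx40.exists_away_both (FCx40.flat_bcCx B hP) i₀ hb' hfp' N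
    obtain ⟨f₀, rfl⟩ := Ideal.Quotient.mk_surjective f
    have hf₀ : f₀ ∉ η := fun h => hf (Ideal.Quotient.eq_zero_iff_mem.mpr h)
    have hfinM := minimalPrimes.finite_of_isNoetherianRing A
    obtain ⟨g, hg, hg'⟩ : ∃ g, g ∉ η ∧ ∀ I ∈ minimalPrimes A, I ≠ η → g ∈ I := by
      classical
      let s := hfinM.toFinset.erase η
      have hnot : ¬ s.inf id ≤ η := fun hle => by
        obtain ⟨I, hI, hIle⟩ := (Ideal.IsPrime.inf_le' hηp).mp hle
        rw [Finset.mem_erase, Set.Finite.mem_toFinset] at hI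
        exact hI.1 (le_antisymm hIle (hη.2 hI.2.1 hIle))
      obtain ⟨g, hg₁, hg₂⟩ := SetLike.not_le_iff_exists.mp hnot
      refine ⟨g, hg₂, fun I hI hne => ?_⟩
      exact (Submodule.mem_finsetInf.mp hg₁) I (by rw [Finset.mem_erase, Set.Finite.mem_toFinset]; exact ⟨hne, hI⟩)
    have hge : g * f₀ ∉ η := fun h => (hηp.mem_or_mem h).elim hg hf₀
    refine ⟨V ∩ PrimeSpectrum.basicOpen (g * f₀), Set.inter_subset_left,
      hV.inter (PrimeSpectrum.basicOpen (g * f₀)).isOpen, ⟨e, heV, hge⟩, fun q hq => ?_⟩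
    suffices H : ∀ x ∈ V ∩ (PrimeSpectrum.basicOpen (g * f₀) : Set (PrimeSpectrum A)),
        CohIII.dRank P q x = CohIII.dRank P q e by
      intro x hx z hz; rw [H x hx, H z hz]
    rintro x ⟨-, hx⟩
    have hx1 : g ∉ x.asIdeal ∧ f₀ ∉ x.asIdeal :=
      ⟨fun h => hx (Ideal.mul_mem_right _ _ h), fun h => hx (Ideal.mul_mem_left _ _ h)⟩
    have hle : η ≤ x.asIdeal := by
      obtain ⟨I, hI, hIx⟩ := Ideal.exists_minimalPrimes_le (show (⊥ : Ideal A) ≤ x.asIdeal from bot_le)
      by_cases hIη : I = η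
      · exact hIη ▸ hIx
      · exact absurd (hIx (hg' I hI hIη)) hx1.1
    let L := Localization.Away (Ideal.Quotient.mk η f₀)
    have hmem : ∀ z : PrimeSpectrum A, η ≤ z.asIdeal → f₀ ∉ z.asIdeal →
        ∃ w : PrimeSpectrum L, PrimeSpectrum.comap (algebraMap A B) (PrimeSpectrum.comap (algebraMap B L) w) = z := by
      intro z hz hzf
      obtain ⟨v, hv⟩ : z ∈ Set.range (PrimeSpectrum.comap (algebraMap A B)) := by
        rw [Ideal.Quotient.algebraMap_eq, range_comap_of_surjective _ _ Ideal.Quotient.mk_surjective,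
          Ideal.mk_ker]
        exact hz
      have hv' : v ∈ Set.range (PrimeSpectrum.comap (algebraMap B L)) := by
        rw [PrimeSpectrum.localization_away_comap_range L (Ideal.Quotient.mk η f₀)]
        subst hv
        exact hzf
      obtain ⟨w, rfl⟩ := hv'
      exact ⟨w, hv⟩
    obtain ⟨w, hw⟩ := hmem x hle hx1.2
    obtain ⟨w₀, hw₀⟩ := hmem e le_rfl hf₀
    rw [← hw, ← hw₀]
    simp only [← FCx40.dRank_bcCx]
    obtain ⟨he, hH⟩ := (FCx40.preservesBoth_iff (FCx40.flat_bcCx L (FCx40.flat_bcCx B hP)) (sub_add_cancel q 1)).mp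
      (hboth q hq)
    have := FCx40.flat_bcCx L (FCx40.flat_bcCx B hP) (q - 1)
    have := (FCx40.preservesEpi_iff (FCx40.flat_bcCx L (FCx40.flat_bcCx B hP)) (sub_add_cancel q 1)).mp he
    have : Module.Flat B L := IsLocalization.flat L (Submonoid.powers (Ideal.Quotient.mk η f₀))
    have := hfp' q
    have : Module.Finite L ((CohIII.bcCx (algebraMap B L) P').homology q) :=
      Module.Finite.equiv (FCx40.bcEquiv L P' (sub_add_cancel q 1) (FCx40.lTensor_ker_of_flat _ _))
    rw [FCx40.dRank_congr_fib (sub_add_cancel q 1) w (FCx40.lTensor_ker_of_flat_coker _ _),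
      FCx40.dRank_congr_fib (sub_add_cancel q 1) w₀ (FCx40.lTensor_ker_of_flat_coker _ _),
      FCx40.fib_eq_rankAtStalk, FCx40.fib_eq_rankAtStalk]
    have : IsDomain L := IsLocalization.isDomain_localization
      (powers_le_nonZeroDivisors_of_noZeroDivisors hf)
    rw [← Module.rankAtStalk_eq_of_le_of_finite_of_flat _
        (show (⟨⊥, Ideal.isPrime_bot⟩ : PrimeSpectrum L) ≤ w from (bot_le : (⊥ : Ideal L) ≤ w.asIdeal)),
      ← Module.rankAtStalk_eq_of_le_of_finite_of_flat _
        (show (⟨⊥, Ideal.isPrime_bot⟩ : PrimeSpectrum L) ≤ w₀ from (bot_le : (⊥ : Ideal L) ≤ w₀.asIdeal))]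
  let U := ⋃₀ {W : Set (PrimeSpectrum A) | IsOpen W ∧
    ∀ q ≤ N, ∀ x ∈ W, ∀ y ∈ W, CohIII.dRank P q x = CohIII.dRank P q y}
  refine ⟨U, isOpen_sUnion fun W hW => hW.1, dense_iff_inter_open.mpr fun V hV hne => ?_, fun q hq => ?_⟩
  · obtain ⟨W, hWV, hWo, ⟨x, hx⟩, hc⟩ := key V hV hne
    exact ⟨x, hWV hx, W, ⟨hWo, hc⟩, hx⟩
  · refine (IsLocallyConstant.iff_exists_open _).mpr fun ⟨x, W, hW, hx⟩ => ?_
    exact ⟨Subtype.val ⁻¹' W, hW.1.preimage continuous_subtype_val, hx, fun y hy => hW.2 q hq _ hy _ hx⟩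

end Groth.Agent.S4487
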