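import Groth.Statements.S4488
import Groth.Agent.FCx40.Loci

set_option autoImplicit false
universe u
open FlatCx

namespace Groth.Agent.S4488

open CategoryTheory CategoryTheory.Limits in
/-- For the homological functor T_q(M) = H_q(P ⊗_A M) of a chain complex P of flat modules over a
commutative local ring A with residue field k. Suppose P_i = 0 for i < i₀ and that every T_n(A) is a
finitely presented A-module, and let p be an integer. If T_q takes injections to injections and
surjections to surjections for every q ≤ p, then dim_{k(x)} T_q(k(x)) = dim_k T_q(k) for every point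
x of Spec A and every q ≤ p. Conversely, if A is reduced and this equality holds at the generic
point of every irreducible component of Spec A (every minimal prime) for every q ≤ p, then T_q takes
injections to injections and surjections to surjections for every q ≤ p. No Noetherian hypothesis on
A. -/
theorem result {A : Type u} [CommRing A] [IsLocalRing A]
    (P : ChainComplex (ModuleCat.{u} A) ℤ) (hP : ∀ i, Module.Flat A (P.X i)) (i₀ : ℤ)
    (hb : ∀ i < i₀, IsZero (P.X i))
    (hfp : ∀ n : ℤ, Module.FinitePresentation A (CohIII.T P n (ModuleCat.of A A))) (p : ℤ) :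
    ((∀ q ≤ p, (CohIII.TFun P q).PreservesMonomorphisms ∧ (CohIII.TFun P q).PreservesEpimorphisms) →
        ∀ (x : PrimeSpectrum A), ∀ q ≤ p, CohIII.dRank P q x = CohIII.dRank P q (IsLocalRing.closedPoint A)) ∧
      (IsReduced A →
        (∀ x : PrimeSpectrum A, x.asIdeal ∈ minimalPrimes A →
          ∀ q ≤ p, CohIII.dRank P q x = CohIII.dRank P q (IsLocalRing.closedPoint A)) →
        ∀ q ≤ p, (CohIII.TFun P q).PreservesMonomorphisms ∧ (CohIII.TFun P q).PreservesEpimorphisms) := by
  have hfl : ∀ q, Module.FinitePresentation A (P.homology q) := fun q =>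
    haveI := hfp q
    Module.FinitePresentation.of_equiv (FCx40.tOneEquiv (P := P) (sub_add_cancel q 1)).symm
  have hrank : ∀ q, (CohIII.TFun P q).PreservesEpimorphisms → ∀ x,
      CohIII.dRank P q x = FCx40.fib (P.homology q) x := fun q he x =>
    haveI := hP (q - 1)
    haveI := (FCx40.preservesEpi_iff hP (sub_add_cancel q 1)).mp he
    FCx40.dRank_congr_fib (sub_add_cancel q 1) x (FCx40.lTensor_ker_of_flat_coker _ _)
  refine ⟨fun h x q hq => ?_, fun hred h => ?_⟩
  · obtain ⟨he, hH⟩ := (FCx40.preservesBoth_iff hP (sub_add_cancel q 1)).mp (h q hq)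
    have := hfl q
    have : Module.Free A (P.homology q) := Module.free_of_flat_of_isLocalRing
    rw [hrank q he x, hrank q he, FCx40.fib_of_free _ x]
  · have hlow : ∀ q, q < i₀ → (CohIII.TFun P q).PreservesEpimorphisms := fun q hq => by
      have : Subsingleton (P.X (q - 1)) := ModuleCat.subsingleton_of_isZero (hb _ (by omega))
      rw [FCx40.preservesEpi_iff hP (sub_add_cancel q 1)]
      infer_instance
    have hboth : ∀ q ≤ p, (CohIII.TFun P q).PreservesEpimorphisms →
        (CohIII.TFun P q).PreservesMonomorphisms ∧ (CohIII.TFun P q).PreservesEpimorphisms := fun q hq he => by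
      have := hfl q
      have : Module.Free A (P.homology q) := FCx40.free_of_fib_eq _ fun y hy => by
        rw [← hrank q he, ← hrank q he]; exact h y hy q hq
      exact (FCx40.preservesBoth_iff hP (sub_add_cancel q 1)).mpr ⟨he, inferInstance⟩
    have hall : ∀ n : ℕ, i₀ - 1 + n ≤ p → (CohIII.TFun P (i₀ - 1 + n)).PreservesEpimorphisms := by
      intro n
      induction n with
      | zero => exact fun _ => hlow _ (by omega)
      | succ n ih =>
        intro hn
        have := (hboth _ (by omega) (ih (by omega))).1
        rw [FCx40.preservesMono_iff hP (r := i₀ - 1 + (n + 1 : ℕ)) (by push_cast; omega)] at this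
        exact (FCx40.preservesEpi_iff hP (by push_cast; omega)).mpr this
    intro q hq
    refine hboth q hq ?_
    by_cases hqi : q < i₀
    · exact hlow q hqi
    · obtain ⟨n, hn⟩ : ∃ n : ℕ, q = i₀ - 1 + n := ⟨(q - (i₀ - 1)).toNat, by omega⟩
      rw [hn] at hq ⊢
      exact hall n hq

end Groth.Agent.S4488
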