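import Groth.Statements.S4489
import Groth.Agent.FCx40.Crit
import Mathlib.RingTheory.Flat.TorsionFree

set_option autoImplicit false
universe u
open FlatCx

namespace Groth.Agent.S4489

open CategoryTheory CategoryTheory.Limits in
/-- For the homological functor T_p(M) = H_p(P ⊗_A M) of a chain complex P of flat modules, stated over
a Dedekind domain A. (The published statement allows A to be a finite product of Dedekind domains,
that is, a Noetherian regular ring of dimension at most 1; this row takes A a Dedekind domain.) Then
T_p takes injections to injections if and only if H_p(P) is a flat A-module; and, with q + 1 = p,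
T_p takes injections to injections and surjections to surjections if and only if H_p(P) and H_q(P)
are both flat. -/
theorem result {A : Type u} [CommRing A] [IsDedekindDomain A]
    (P : ChainComplex (ModuleCat.{u} A) ℤ) (hP : ∀ i, Module.Flat A (P.X i)) (p q : ℤ) (hpq : q + 1 = p) :
    ((CohIII.TFun P p).PreservesMonomorphisms ↔ Module.Flat A (P.homology p)) ∧
      (((CohIII.TFun P p).PreservesMonomorphisms ∧ (CohIII.TFun P p).PreservesEpimorphisms) ↔
        (Module.Flat A (P.homology p) ∧ Module.Flat A (P.homology q))) := by
  have hfl : ∀ (W : Type u) [AddCommGroup W] [Module A W] (N : Submodule A W),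
      Module.Flat A W → Module.Flat A N := fun W _ _ N _ => by
    have : Module.IsTorsionFree A W := Module.Flat.isTorsionFree
    have := Module.IsTorsionFree.of_smul_eq_zero (R := A) (M := N) fun a x h => by
      rw [Subtype.ext_iff, Submodule.coe_smul, Submodule.coe_zero] at h
      simpa using (smul_eq_zero.mp h)
    infer_instance
  have hI : ∀ a b : ℤ, Module.Flat A (LinearMap.range (P.d a b).hom) := fun a b => hfl _ _ (hP b)
  have h0 : (CohIII.TFun P p).PreservesMonomorphisms ↔ Module.Flat A (P.homology p) := by
    have := hI p q
    rw [FCx40.preservesMono_iff hP (r := p + 1) rfl, FCx40.flat_coker_iff_flat_homology hpq rfl]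
  have h1 : (CohIII.TFun P q).PreservesMonomorphisms ↔ Module.Flat A (P.homology q) := by
    have := hI q (q - 1)
    rw [FCx40.preservesMono_iff hP hpq, FCx40.flat_coker_iff_flat_homology (sub_add_cancel q 1) hpq]
  refine ⟨h0, ?_⟩
  rw [FCx40.preservesBoth_iff hP hpq, FCx40.preservesEpi_iff hP hpq, ← FCx40.preservesMono_iff hP hpq, h1,
    and_comm]

end Groth.Agent.S4489
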