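import Groth.Statements.S4491
import Groth.Agent.FCx40.Crit

set_option autoImplicit false
universe u
open FlatCx

namespace Groth.Agent.S4491

open CategoryTheory CategoryTheory.Limits in
/-- For the homological functor T_i(M) = H_i(P ⊗_A M) of a chain complex P of flat modules over a
commutative ring A. Let q + 1 = p and suppose T_p takes surjections to surjections. If
multiplication by f ∈ A is injective on an A-module M, then multiplication by f is injective on
T_q(M). In particular, when A is a domain, T_q(A) is torsion-free. -/
theorem result {A : Type u} [CommRing A]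
    (P : ChainComplex (ModuleCat.{u} A) ℤ) (hP : ∀ i, Module.Flat A (P.X i)) (p q : ℤ) (hpq : q + 1 = p)
    (hex : (CohIII.TFun P p).PreservesEpimorphisms) :
    (∀ (M : ModuleCat.{u} A) (f : A), Function.Injective (fun x : M => f • x) →
        Function.Injective (fun y : CohIII.T P q M => f • y)) ∧
      (IsDomain A → NoZeroSMulDivisors A (CohIII.T P q (ModuleCat.of A A))) := by
  have hm : Module.Flat A (P.X q ⧸ LinearMap.range (P.d p q).hom) := (FCx40.preservesEpi_iff hP hpq).mp hex
  have hmono : (CohIII.TFun P q).PreservesMonomorphisms := (FCx40.preservesMono_iff hP hpq).mpr hm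
  have main : ∀ (M : ModuleCat.{u} A) (f : A), Function.Injective (fun x : M => f • x) →
      Function.Injective (fun y : CohIII.T P q M => f • y) := by
    intro M f hf
    have : Mono (ModuleCat.ofHom (f • LinearMap.id : M →ₗ[A] M)) := (ModuleCat.mono_iff_injective _).mpr hf
    have hi := (ModuleCat.mono_iff_injective _).mp (hmono.preserves (ModuleCat.ofHom (f • LinearMap.id : M →ₗ[A] M)))
    have heq : ∀ y : CohIII.T P q M,
        FCx40.tmap P q (ModuleCat.ofHom (f • LinearMap.id : M →ₗ[A] M)) y = f • y := by
      intro y
      obtain ⟨z, rfl⟩ := FCx40.tcls_surjective (sub_add_cancel q 1) M y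
      rw [FCx40.map_tcls, ← map_smul]
      congr 1
      ext
      simp [LinearMap.lTensor_smul]
    intro a b hab
    apply hi
    show FCx40.tmap P q _ a = FCx40.tmap P q _ b
    rw [heq, heq]
    exact hab
  refine ⟨main, fun _ => ?_⟩
  refine ⟨fun {a x} h => ?_⟩
  rcases eq_or_ne a 0 with ha | ha
  · exact Or.inl ha
  · refine Or.inr (main (ModuleCat.of A A) a (fun x y => mul_left_cancel₀ ha) ?_)
    show a • x = a • 0
    rw [h, smul_zero]

end Groth.Agent.S4491
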