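import Groth.Statements.S4495
import Mathlib.Geometry.RingedSpace.LocallyRingedSpace
import Mathlib.Topology.Sheaves.SheafCondition.UniqueGluing
import Mathlib.Topology.Connected.Clopen

set_option autoImplicit false
universe u
open FlatCx

namespace Groth.Agent.S4495

open CategoryTheory AlgebraicGeometry Opposite in
/-- A locally ringed space Z is connected, in the sense that it is not the disjoint union of two
nonempty open subsets (the empty space being allowed), if and only if every idempotent of the ring
of global sections Γ(Z, O_Z) is 0 or 1 (equivalently, Γ(Z, O_Z) is not isomorphic to a product of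
two nonzero rings). -/
theorem result (Z : LocallyRingedSpace.{u}) :
    PreconnectedSpace Z ↔
      ∀ e : Z.presheaf.obj (op ⊤), IsIdempotentElem e → e = 0 ∨ e = 1 := by
  constructor
  · intro hpc e he
    let R : SheafedSpace CommRingCat.{u} := Z.toSheafedSpace
    have hloc : ∀ x : Z, IsUnit (Z.presheaf.Γgerm x e) ↔ Z.presheaf.Γgerm x e = 1 := fun x => by
      refine ⟨fun h => ?_, fun h => by rw [h]; exact isUnit_one⟩
      exact h.mul_left_cancel (((he.map (Z.presheaf.Γgerm x).hom).eq).trans (mul_one _).symm)
    let U : TopologicalSpace.Opens Z := RingedSpace.basicOpen Z.toRingedSpace e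
    have hU : ∀ x : Z, x ∈ U ↔ Z.presheaf.Γgerm x e = 1 := fun x =>
      (RingedSpace.mem_top_basicOpen Z.toRingedSpace e x).trans (hloc x)
    let V : TopologicalSpace.Opens Z := RingedSpace.basicOpen Z.toRingedSpace (1 - e)
    have hV : ∀ x : Z, x ∈ V ↔ ¬ x ∈ U := fun x => by
      refine Iff.trans (RingedSpace.mem_top_basicOpen Z.toRingedSpace (1 - e) x) ?_
      rw [hU]
      show IsUnit (Z.presheaf.Γgerm x (1 - e)) ↔ _
      rw [map_sub, map_one]
      constructor
      · intro h h1
        rw [h1, sub_self] at h
        exact not_isUnit_zero h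
      · intro h
        rcases IsLocalRing.isUnit_or_isUnit_one_sub_self (Z.presheaf.Γgerm x e) with h' | h'
        · exact absurd ((hloc x).mp h') h
        · exact h'
    have hclopen : IsClopen (U : Set Z) := by
      refine ⟨⟨?_⟩, U.isOpen⟩
      have : (U : Set Z)ᶜ = (V : Set Z) := Set.ext fun x => (hV x).symm
      rw [this]
      exact V.isOpen
    rcases isClopen_iff.mp hclopen with h | h
    · refine Or.inl (TopCat.Presheaf.section_ext Z.sheaf ⊤ e 0 fun x _ => ?_)
      have hx : x ∉ U := fun hx => Set.notMem_empty x (h ▸ hx)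
      have h1 : IsUnit (Z.presheaf.Γgerm x (1 - e)) :=
        (RingedSpace.mem_top_basicOpen Z.toRingedSpace (1 - e) x).mp ((hV x).mpr hx)
      have h2 : Z.presheaf.Γgerm x (1 - e) * Z.presheaf.Γgerm x e = 0 := by
        rw [← map_mul, sub_mul, one_mul, he.eq, sub_self, map_zero]
      rw [map_zero]
      exact (IsUnit.mul_right_eq_zero h1).mp h2
    · refine Or.inr (TopCat.Presheaf.section_ext Z.sheaf ⊤ e 1 fun x _ => ?_)
      rw [map_one]
      exact (hU x).mp (show x ∈ (U : Set Z) by rw [h]; trivial)
  · intro h
    rw [preconnectedSpace_iff_clopen]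
    intro s hs
    by_contra hne
    push Not at hne
    obtain ⟨⟨x, hx⟩, hne'⟩ := hne
    obtain ⟨y, hy⟩ := (Set.ne_univ_iff_exists_notMem s).mp hne'
    let U : Bool → TopologicalSpace.Opens Z := fun b => bif b then ⟨s, hs.isOpen⟩ else ⟨sᶜ, hs.compl.isOpen⟩
    let sf : ∀ b, Z.sheaf.1.obj (op (U b)) := fun b =>
      match b with
      | true => 1
      | false => 0
    have hbot : U true ⊓ U false = ⊥ := by
      ext z
      simp [U]
    have hcompat : TopCat.Presheaf.IsCompatible Z.sheaf.1 U sf := by
      intro a b
      cases a <;> cases b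
      · rfl
      · have := CommRingCat.subsingleton_of_isTerminal (Z.sheaf.isTerminalOfEqEmpty
          (show U false ⊓ U true = ⊥ by rw [inf_comm]; exact hbot))
        exact Subsingleton.elim _ _
      · have := CommRingCat.subsingleton_of_isTerminal (Z.sheaf.isTerminalOfEqEmpty hbot)
        exact Subsingleton.elim _ _
      · rfl
    have hcover : (⊤ : TopologicalSpace.Opens Z) ≤ iSup U := fun z _ => by
      rw [TopologicalSpace.Opens.mem_iSup]
      by_cases hz : z ∈ s
      · exact ⟨true, hz⟩
      · exact ⟨false, hz⟩
    obtain ⟨e, he, -⟩ := TopCat.Sheaf.existsUnique_gluing' Z.sheaf U ⊤ (fun b => homOfLE le_top) hcover sf hcompat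
    have hidem : IsIdempotentElem e := by
      refine TopCat.Sheaf.eq_of_locally_eq' Z.sheaf U ⊤ (fun b => homOfLE le_top) hcover _ _ fun b => ?_
      rw [map_mul, he]
      cases b
      · exact mul_zero _
      · exact mul_one _
    rcases h e hidem with h0 | h1
    · have h2 := he true
      rw [h0] at h2
      have h2' : (0 : Z.presheaf.obj (op (U true))) = 1 := (map_zero _).symm.trans h2
      have h3 := congrArg (Z.presheaf.germ (U true) x hx) h2'
      rw [map_zero, map_one] at h3
      exact zero_ne_one h3
    · have h2 := he false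
      rw [h1] at h2
      have h2' : (1 : Z.presheaf.obj (op (U false))) = 0 := (map_one _).symm.trans h2
      have h3 := congrArg (Z.presheaf.germ (U false) y hy) h2'
      rw [map_zero, map_one] at h3
      exact one_ne_zero h3

end Groth.Agent.S4495
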