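import Groth.Statements.S4498
import Groth.Agent.Mum71.GlobalCorep

set_option autoImplicit false
set_option synthInstance.maxHeartbeats 200000
set_option linter.style.haveILetI false
universe u
attribute [local instance] HasDerivedCategory.standard
open Coherent

namespace Groth.Agent.S4498

open AlgebraicGeometry CategoryTheory Opposite in
/-- The global form over an affine base. Let A be a Noetherian ring, X a proper A-scheme with structure
morphism f, and F, F' coherent O_X-modules flat over Spec A. Let η be a natural transformation from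
the functor M ↦ Γ(X, f^*(M~) ⊗ F) to the functor M ↦ Γ(X, f^*(M~) ⊗ F') of the A-module M (the
published statement takes η induced by a homomorphism F → F'; this row allows any natural
transformation, which is all the argument uses). Then the kernel functor M ↦ Ker(η_M) is
corepresentable by a finitely generated A-module R: there are such an R and a natural transformation
ι : Hom_A(R, −) → Γ(X, f^*(−~) ⊗ F) with injective components whose image at every M is exactly the
kernel of η_M. (R is then unique up to unique isomorphism.) -/
theorem result (A : Type u) [CommRing A]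
    [IsNoetherianRing A] (X : Scheme.{u}) [X.Over (Spec (CommRingCat.of A))]
    [IsProper (X ↘ Spec (CommRingCat.of A))] (F F' : X.Modules) (hF : Coh.IsCoh F) (hF' : Coh.IsCoh F')
    (hfl : FlatMod.IsFlatOver (X ↘ Spec (CommRingCat.of A)) F)
    (hfl' : FlatMod.IsFlatOver (X ↘ Spec (CommRingCat.of A)) F')
    (η : CohIII.tensorAFunctor A F ⋙ CohIII.globalSectionsA A ⟶ CohIII.tensorAFunctor A F' ⋙ CohIII.globalSectionsA A) :
    ∃ (R : ModuleCat.{u} A) (ι : (linearCoyoneda A (ModuleCat.{u} A)).obj (op R) ⟶
        CohIII.tensorAFunctor A F ⋙ CohIII.globalSectionsA A),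
      Module.Finite A R ∧ (∀ M : ModuleCat.{u} A, Function.Injective (ι.app M).hom) ∧
        ∀ (M : ModuleCat.{u} A) (x : (CohIII.tensorAFunctor A F ⋙ CohIII.globalSectionsA A).obj M),
          (η.app M).hom x = 0 ↔ ∃ y, (ι.app M).hom y = x := by
  obtain ⟨Q, hQ, ⟨e⟩⟩ := Mum71.exists_corep F hF hfl
  obtain ⟨Q', -, ⟨e'⟩⟩ := Mum71.exists_corep F' hF' hfl'
  haveI := hQ
  obtain ⟨R, ι, hR, hinj, hker⟩ := Mum71.exists_kernel_corep (e.inv ≫ η ≫ e'.hom)
  refine ⟨R, ι ≫ e.inv, hR, fun M => ?_, fun M x => ?_⟩
  · exact (e.app M).symm.toLinearEquiv.injective.comp (hinj M)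
  · obtain ⟨x, rfl⟩ := (e.app M).symm.toLinearEquiv.surjective x
    refine Iff.trans ?_ ((hker M x).trans (exists_congr fun y =>
      (e.app M).symm.toLinearEquiv.injective.eq_iff.symm))
    exact (map_eq_zero_iff ((e'.app M).toLinearEquiv) (e'.app M).toLinearEquiv.injective).symm

end Groth.Agent.S4498
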