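import Groth.Statements.S4501
import Groth.Agent.FCx40.Loci

set_option autoImplicit false
universe u
open FlatCx

namespace Groth.Agent.S4501

open CategoryTheory CategoryTheory.Limits in
/-- The case of finitely generated flat terms. Let A be a Noetherian domain, P a chain complex of
finitely generated flat A-modules, and for a prime y of A let P_y be the base change of P to the
local ring A_y. Then the set U of points y of Spec A such that the functor N ↦ H_p(P_y ⊗_{A_y} N) on
A_y-modules takes injections to injections and surjections to surjections is open and nonempty (it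
contains the generic point). -/
theorem result {A : Type u} [CommRing A] [IsNoetherianRing A] [IsDomain A]
    (P : ChainComplex (ModuleCat.{u} A) ℤ) (hP : ∀ i, Module.Finite A (P.X i) ∧ Module.Flat A (P.X i))
    (p : ℤ) :
    IsOpen {y : PrimeSpectrum A |
        (CohIII.TFun (CohIII.bcCx (algebraMap A (Localization.AtPrime y.asIdeal)) P) p).PreservesMonomorphisms ∧
          (CohIII.TFun (CohIII.bcCx (algebraMap A (Localization.AtPrime y.asIdeal)) P) p).PreservesEpimorphisms} ∧
      {y : PrimeSpectrum A |
        (CohIII.TFun (CohIII.bcCx (algebraMap A (Localization.AtPrime y.asIdeal)) P) p).PreservesMonomorphisms ∧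
          (CohIII.TFun (CohIII.bcCx (algebraMap A (Localization.AtPrime y.asIdeal)) P) p).PreservesEpimorphisms}.Nonempty := by
  have := FCx40.finite_coker (fun i => (hP i).1) p (p - 1)
  have := FCx40.finite_coker (fun i => (hP i).1) (p + 1) p
  have := Module.finitePresentation_of_finite A (P.X (p - 1) ⧸ LinearMap.range (P.d p (p - 1)).hom)
  have := Module.finitePresentation_of_finite A (P.X p ⧸ LinearMap.range (P.d (p + 1) p).hom)
  rw [Set.ofPred_and, FCx40.monoLocus_eq hP rfl, FCx40.epiLocus_eq hP (sub_add_cancel p 1)]
  refine ⟨Module.isOpen_freeLocus.inter Module.isOpen_freeLocus, ⟨⊥, Ideal.isPrime_bot⟩, ?_⟩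
  let η : PrimeSpectrum A := ⟨⊥, Ideal.isPrime_bot⟩
  have hfield : IsField (Localization.AtPrime η.asIdeal) := by
    rw [IsLocalRing.isField_iff_maximalIdeal_eq, ← Localization.AtPrime.map_eq_maximalIdeal]
    exact Ideal.map_bot
  let _ := hfield.toField
  exact ⟨(Module.mem_freeLocus_iff_tensor η (Localization.AtPrime η.asIdeal)).mpr inferInstance,
    (Module.mem_freeLocus_iff_tensor η (Localization.AtPrime η.asIdeal)).mpr inferInstance⟩

end Groth.Agent.S4501
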