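import Groth.Statements.S4505
import Groth.Agent.Mum71.Length
import Groth.Agent.Mum71.FunctorLin
import Groth.Agent.Mum71.Exch

set_option autoImplicit false
set_option synthInstance.maxHeartbeats 200000
set_option linter.style.haveILetI false
universe u
attribute [local instance] HasDerivedCategory.standard
open Coherent

namespace Groth.Agent.S4505

open AlgebraicGeometry CategoryTheory in
/-- (b) ⇔ (c), for a complex reduced to one sheaf and a local base (so that the point y is the closed
point and O_y = A). Let A be a Noetherian local ring with maximal ideal m and residue field k, X a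
proper A-scheme with structure morphism f, F a coherent O_X-module flat over Spec A, and write
T^p(M) = H^p(X, f^*(M~) ⊗ F) for an A-module M. Then the functor T^p takes injections to injections
and surjections to surjections (F is cohomologically flat in degree p) if and only if there is n₀
such that for every n ≥ n₀ one has length_A T^p(A/m^(n+1)) = length_A T^p(k) · length_A (A/m^(n+1))
(lengths of A-modules, valued in ℕ∞; all are finite here). -/
theorem result (A : Type u) [CommRing A]
    [IsNoetherianRing A] [IsLocalRing A] (X : Scheme.{u}) [X.Over (Spec (CommRingCat.of A))]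
    [IsProper (X ↘ Spec (CommRingCat.of A))] (F : X.Modules) (hF : Coh.IsCoh F)
    (hfl : FlatMod.IsFlatOver (X ↘ Spec (CommRingCat.of A)) F) (p : ℕ) :
    ((CohIII.tensorAFunctor A F ⋙ CohIII.HAb X p).PreservesMonomorphisms ∧
        (CohIII.tensorAFunctor A F ⋙ CohIII.HAb X p).PreservesEpimorphisms) ↔
      ∃ n₀ : ℕ, ∀ n : ℕ, n₀ ≤ n →
        Module.length A (Coh.HH X ((CohIII.tensorAFunctor A F).obj
            (ModuleCat.of A (A ⧸ IsLocalRing.maximalIdeal A ^ (n + 1)))) p) =
          Module.length A (Coh.HH X ((CohIII.tensorAFunctor A F).obj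
              (ModuleCat.of A (IsLocalRing.ResidueField A))) p) *
            Module.length A (A ⧸ IsLocalRing.maximalIdeal A ^ (n + 1)) := by
  haveI := hF.1
  obtain ⟨ι, hι, U, L, φ, N, hU, hU', hL, hN, hφ⟩ := Mum71.exists_model A F hF hfl
  have hP : ∀ i, Module.Finite A ((Mum71.toChain L).X i) ∧ Module.Flat A ((Mum71.toChain L).X i) := fun i =>
    ⟨(hL _).1, haveI : Module.Free A ((Mum71.toChain L).X i) := (hL _).2; inferInstance⟩
  obtain ⟨e₁⟩ := Mum71.nonempty_TFun_toChain L (p : ℤ)
  obtain ⟨e₂⟩ := Mum71.nonempty_natIso F hU hU' hφ p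
  let e := Functor.isoWhiskerRight e₁ (forget₂ (ModuleCat.{u} A) AddCommGrpCat.{u}) ≪≫ e₂
  have hlen : ∀ M : ModuleCat.{u} A, Module.length A (Coh.HH X ((CohIII.tensorAFunctor A F).obj M) p) =
      Module.length A (CohIII.T (Mum71.toChain L) (-(p : ℤ)) M) := fun M =>
    (((e₁.app M).toLinearEquiv).trans (Mum71.nonempty_linearEquiv F hU hU' hφ M p).some).length_eq.symm
  rw [← Mum71.preservesEpi_iff e, ← Mum71.preservesMono_iff e, Mum71.both_iff_length hP]
  simp only [hlen]

end Groth.Agent.S4505
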