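import Groth.Statements.S4506
import Groth.Agent.Univ70.Main
import Groth.Agent.S4490

set_option autoImplicit false
set_option backward.isDefEq.respectTransparency.types false
universe u
attribute [local instance] HasDerivedCategory.standard
open Coherent

namespace Groth.Agent.S4506

open AlgebraicGeometry CategoryTheory in
/-- (a) ⇔ (c) (local criterion for the exchange property), for a complex reduced to one sheaf over a
local base. Let A be a Noetherian local ring with maximal ideal m and residue field k, X a proper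
A-scheme with structure morphism f, F a coherent O_X-module flat over Spec A, and T^p(M) = H^p(X,
f^*(M~) ⊗ F). Then T^p takes surjections to surjections if and only if, for every n, the map
T^p(A/m^(n+1)) → T^p(A/m) induced by the projection A/m^(n+1) → A/m = k is surjective. -/
theorem result (A : Type u) [CommRing A]
    [IsNoetherianRing A] [IsLocalRing A] (X : Scheme.{u}) [X.Over (Spec (CommRingCat.of A))]
    [IsProper (X ↘ Spec (CommRingCat.of A))] (F : X.Modules) (hF : Coh.IsCoh F)
    (hfl : FlatMod.IsFlatOver (X ↘ Spec (CommRingCat.of A)) F) (p : ℕ) :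
    (CohIII.tensorAFunctor A F ⋙ CohIII.HAb X p).PreservesEpimorphisms ↔
      ∀ n : ℕ, Function.Surjective ((CohIII.tensorAFunctor A F ⋙ CohIII.HAb X p).map (ModuleCat.ofHom
        (Ideal.Quotient.factorₐ A (Ideal.pow_le_self (I := IsLocalRing.maximalIdeal A)
          (Nat.succ_ne_zero n))).toLinearMap :
        ModuleCat.of A (A ⧸ IsLocalRing.maximalIdeal A ^ (n + 1)) ⟶
          ModuleCat.of A (A ⧸ IsLocalRing.maximalIdeal A))).hom := by
  obtain ⟨P, hP, -, -, hiso⟩ := Univ70.exists_univCx F hF hfl
  obtain ⟨e⟩ := hiso p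
  let e' : CohIII.TFun P (-(p : ℤ)) ⋙ forget₂ (ModuleCat.{u} A) AddCommGrpCat.{u} ≅
      CohIII.tensorAFunctor A F ⋙ CohIII.HAb X p :=
    Functor.isoWhiskerRight e.symm _ ≪≫ Univ70.HAForgetIso A F p
  rw [Univ70.preservesEpi_iff e']
  refine (Groth.Agent.S4490.result P hP (-(p : ℤ))).2.trans ⟨?_, fun h => ⟨0, fun n _ => (Univ70.surjective_iff_of_iso e' _).mp (h n)⟩⟩
  rintro ⟨n₀, h⟩ n
  let m := IsLocalRing.maximalIdeal A
  have e1 : (ModuleCat.ofHom (Ideal.Quotient.factorₐ A (Ideal.pow_le_self (I := m)
        (Nat.succ_ne_zero (max n n₀)))).toLinearMap :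
      ModuleCat.of A (A ⧸ m ^ (max n n₀ + 1)) ⟶ ModuleCat.of A (A ⧸ m)) =
    ModuleCat.ofHom (Ideal.Quotient.factorₐ A (Ideal.pow_le_pow_right (I := m)
        (show n + 1 ≤ max n n₀ + 1 by omega))).toLinearMap ≫
      ModuleCat.ofHom (Ideal.Quotient.factorₐ A (Ideal.pow_le_self (I := m)
        (Nat.succ_ne_zero n))).toLinearMap := by
    refine ModuleCat.hom_ext (LinearMap.ext fun x => ?_)
    obtain ⟨a, rfl⟩ := Ideal.Quotient.mk_surjective x
    rfl
  have h1 := (Univ70.surjective_iff_of_iso e' _).mpr (h (max n n₀) (le_max_right _ _))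
  erw [e1, Functor.map_comp] at h1
  exact Function.Surjective.of_comp (g := _) h1

end Groth.Agent.S4506
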