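import Groth.Statements.S4508
import Groth.Agent.RB70.FlatBC
import Groth.Agent.Mum71.Model
import Groth.Agent.FlatMor66.BCStalk
import Groth.Agent.FlatMor68.FibreStalk
import Mathlib.LinearAlgebra.Dimension.Constructions

set_option autoImplicit false
set_option backward.isDefEq.respectTransparency.types false
universe u
open Coherent

namespace Groth.Agent.S4508

open AlgebraicGeometry CategoryTheory CategoryTheory.Limits in
/-- For a single sheaf placed in degree 0 (the published statement is for a finite complex of such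
sheaves). Let Y and Y' be locally Noetherian schemes, f : X ⟶ Y proper, g : Y' ⟶ Y any morphism, F a
coherent O_X-module flat over Y; let X' = X ×_Y Y' with projections f' : X' ⟶ Y' and X' ⟶ X, and F'
the pullback of F to X'. Then F' is flat over Y', and for every point y' of Y' the Euler–Poincaré
characteristic of the fibre, Σ_i (−1)^i dim_{k(y')} H^i(X'_{y'}, F'_{y'}), equals Σ_i (−1)^i
dim_{k(g(y'))} H^i(X_{g(y')}, F_{g(y')}). -/
theorem result {X Y Y' : Scheme.{u}} (f : X ⟶ Y) (g : Y' ⟶ Y) [IsProper f]
    [IsLocallyNoetherian Y] [IsLocallyNoetherian Y'] (F : X.Modules) (hF : Coh.IsCoh F)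
    (hfl : FlatMod.IsFlatOver f F) :
    FlatMod.IsFlatOver (pullback.snd f g) ((Scheme.Modules.pullback (pullback.fst f g)).obj F) ∧
      ∀ y' : Y', PerfAux.eulerChar (pullback.snd f g) ((Scheme.Modules.pullback (pullback.fst f g)).obj F) y' =
        PerfAux.eulerChar f F (g.base y') := by
  have hc := IsPullback.of_hasPullback f g
  refine ⟨fun x' => FlatMor66.isFlatOverAt_baseChange hc F hF.1 x' (hfl _), fun y' => ?_⟩
  unfold PerfAux.eulerChar
  refine finsum_congr fun i => ?_
  suffices h : PerfAux.betti (pullback.snd f g) ((Scheme.Modules.pullback (pullback.fst f g)).obj F) y' i =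
      PerfAux.betti f F (g.base y') i by rw [h]
  let f' := pullback.snd f g
  let k := Y.residueField (g y')
  let k' := Y'.residueField y'
  letI : Algebra k k' := (g.residueFieldMap y').hom.toAlgebra
  letI o : (f.fiber (g y')).Over (Spec (CommRingCat.of k)) := ⟨f.fiberToSpecResidueField (g y')⟩
  letI o' : (f'.fiber y').Over (Spec (CommRingCat.of k')) := ⟨f'.fiberToSpecResidueField y'⟩
  haveI : IsProper (f.fiber (g y') ↘ Spec (CommRingCat.of k)) :=
    MorphismProperty.pullback_snd (P := @IsProper) _ _ inferInstance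
  have hF0 : Coh.IsCoh ((Scheme.Modules.pullback (f.fiberι (g y'))).obj F) :=
    haveI := hF.1
    haveI := hF.2
    ⟨QCPull72.isQuasicoherent_pullback _ F, QCPull72.isFiniteType_pullback _ F⟩
  have hflat : FlatMod.IsFlatOver (f.fiber (g y') ↘ Spec (CommRingCat.of k))
      ((Scheme.Modules.pullback (f.fiberι (g y'))).obj F) := fun z => by
    unfold FlatMod.IsFlatOverAt
    letI := FlatMod.moduleStalkOver (f.fiber (g y') ↘ Spec (CommRingCat.of k))
      ((Scheme.Modules.pullback (f.fiberι (g y'))).obj F) z
    have h := (IsLocalRing.isField_iff_maximalIdeal_eq).mpr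
      (FlatMor68.FibreStalk.spec_field_stalk_maximalIdeal k ((f.fiber (g y') ↘ Spec (CommRingCat.of k)) z))
    letI := h.toField
    exact Module.Flat.of_free
  haveI := hF0.1
  obtain ⟨ι, hι, U, L, φ, N, hU, hU', hL, hN, hφ⟩ :=
    Mum71.exists_model k ((Scheme.Modules.pullback (f.fiberι (g y'))).obj F) hF0 hflat
  have hsq := AlgebraicGeometry.isPullback_fiberToSpecResidueField_of_isPullback hc y'
  obtain ⟨e₁⟩ := RB70.nonempty_hh_flat_bc (B := k') (X' := f'.fiber y') hsq hU hU' hφ i
  let e := pullback.map f' (Y'.fromSpecResidueField y') f (Y.fromSpecResidueField (g y')) (pullback.fst f g)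
    (Spec.map (g.residueFieldMap y')) g hc.w.symm (by simp)
  have he : e ≫ f.fiberι (g y') = f'.fiberι y' ≫ pullback.fst f g := pullback.lift_fst _ _ _
  let I : (Scheme.Modules.pullback e).obj ((Scheme.Modules.pullback (f.fiberι (g y'))).obj F) ≅
      (Scheme.Modules.pullback (f'.fiberι y')).obj ((Scheme.Modules.pullback (pullback.fst f g)).obj F) :=
    (Scheme.Modules.pullbackComp _ _).app F ≪≫ (Scheme.Modules.pullbackCongr he).app F ≪≫
      ((Scheme.Modules.pullbackComp _ _).app F).symm
  obtain ⟨e₂, he₂⟩ := Mum71.exists_hh_iso I i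
  let e₂' : Coh.HH (f'.fiber y') ((Scheme.Modules.pullback e).obj
        ((Scheme.Modules.pullback (f.fiberι (g y'))).obj F)) i ≃ₗ[k']
      Coh.HH (f'.fiber y') ((Scheme.Modules.pullback (f'.fiberι y')).obj
        ((Scheme.Modules.pullback (pullback.fst f g)).obj F)) i :=
    { e₂ with map_smul' := fun a x => he₂ _ x }
  exact ((e₁.trans e₂').finrank_eq.symm.trans Module.finrank_baseChange)

end Groth.Agent.S4508
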