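import Groth.Statements.S4511
import Groth.Agent.Cohen12.Field

set_option autoImplicit false
universe u
open EGA41

namespace Groth.Agent.S4511

open IsLocalRing in
/-- Let A be a complete Noetherian local ring whose residue field has characteristic p (p = 0 allowed).
The following are equivalent: (a) A contains a field, i.e. there is a ring homomorphism from a field
into A; (b) p·1 = 0 in A; (c) A is isomorphic to a quotient of a power series ring K[[T_1, …, T_n]]
over a field K. Moreover, when they hold, the surjection in (c) may be chosen with kernel contained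
in the square of the maximal ideal of K[[T_1, …, T_n]]. -/
theorem result (A : Type u) [CommRing A] [IsLocalRing A] [IsNoetherianRing A]
    [IsAdicComplete (maximalIdeal A) A] (p : ℕ) [CharP (ResidueField A) p] :
    [∃ (K : Type u) (_ : Field K), Nonempty (K →+* A),
     (p : A) = 0,
     ∃ (K : Type u) (_ : Field K) (n : ℕ) (f : MvPowerSeries (Fin n) K →+* A), Function.Surjective f].TFAE ∧
    ((p : A) = 0 → ∃ (K : Type u) (_ : Field K) (n : ℕ) (f : MvPowerSeries (Fin n) K →+* A),
      Function.Surjective f ∧ RingHom.ker f ≤ maximalIdeal (MvPowerSeries (Fin n) K) ^ 2) := by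
  have key : (p : A) = 0 → ∃ (K : Type u) (_ : Field K) (n : ℕ) (f : MvPowerSeries (Fin n) K →+* A),
      Function.Surjective f ∧ RingHom.ker f ≤ maximalIdeal (MvPowerSeries (Fin n) K) ^ 2 := fun hp => by
    obtain ⟨σ, hσ⟩ := Groth.Agent.Cohen12.exists_coefficientField A p hp
    obtain ⟨φ, h1, -, h3⟩ := Groth.Agent.Cohen12.exists_powerSeries_surjective σ fun x => ⟨x, hσ x⟩
    exact ⟨ResidueField A, inferInstance, _, φ, h1, h3⟩
  refine ⟨?_, key⟩
  tfae_have 1 → 2 := by
    rintro ⟨K, _, ⟨f⟩⟩
    have : CharP K p := ((RingHom.charP_iff ((residue A).comp f) (RingHom.injective _) p)).mpr ‹_›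
    rw [← map_natCast f, CharP.cast_eq_zero, map_zero]
  tfae_have 2 → 3 := fun hp => by
    obtain ⟨K, hK, n, f, hf, -⟩ := key hp
    exact ⟨K, hK, n, f, hf⟩
  tfae_have 3 → 1 := by
    rintro ⟨K, _, n, f, -⟩
    exact ⟨K, inferInstance, ⟨f.comp MvPowerSeries.C⟩⟩
  tfae_finish

end Groth.Agent.S4511
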