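import Groth.Statements.S4515
import Groth.Agent.FSAdic12.Basic
import Mathlib.RingTheory.Smooth.Basic
import Mathlib.RingTheory.AdicCompletion.Basic
import Mathlib.RingTheory.Flat.Tensor
import Mathlib.RingTheory.Kaehler.Basic
import Mathlib.RingTheory.Jacobson.Ideal
import Mathlib.RingTheory.Nakayama
import Mathlib.RingTheory.FiniteType
import Mathlib.RingTheory.OrzechProperty
import Mathlib.Algebra.CharP.Lemmas
import Groth.Prelude.Def_FSRel

set_option autoImplicit false
set_option linter.all false
universe u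
open EGA41 TensorProduct

namespace Groth.Agent.S4515

/-- Let A be a ring, J an ideal of A, and M, N two A-modules which are Hausdorff for the J-adic
topology; suppose moreover that N is J-adically complete and M is flat. Let u : N → M be A-linear.
If the induced map N/JN → M/JM is bijective (surjectivity and injectivity written out below), then u
is bijective. -/
theorem result {A : Type u} [CommRing A] (J : Ideal A)
    {M N : Type u} [AddCommGroup M] [Module A M] [AddCommGroup N] [Module A N]
    [IsHausdorff J M] [IsAdicComplete J N] [Module.Flat A M] (u : N →ₗ[A] M)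
    (hsurj : ∀ m : M, ∃ n : N, m - u n ∈ (J • ⊤ : Submodule A M))
    (hinj : ∀ n : N, u n ∈ (J • ⊤ : Submodule A M) → n ∈ (J • ⊤ : Submodule A N)) :
    Function.Bijective u := by
  have step : ∀ (k : ℕ) (n : N), n ∈ (J ^ k • ⊤ : Submodule A N) →
      u n ∈ (J ^ (k + 1) • ⊤ : Submodule A M) → n ∈ (J ^ (k + 1) • ⊤ : Submodule A N) := by
    intro k n hn hun
    let ub : (N ⧸ (J • ⊤ : Submodule A N)) →ₗ[A] M ⧸ (J • ⊤ : Submodule A M) :=
      Submodule.mapQ _ _ u (by
        rw [← Submodule.map_le_iff_le_comap, Submodule.map_smul'']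
        exact Submodule.smul_mono le_rfl le_top)
    have hub : Function.Bijective ub := by
      refine ⟨?_, ?_⟩
      · rw [injective_iff_map_eq_zero]
        intro x hx
        obtain ⟨x, rfl⟩ := Submodule.mkQ_surjective _ x
        rw [Submodule.mkQ_apply, Submodule.mapQ_apply, Submodule.Quotient.mk_eq_zero] at hx
        exact (Submodule.Quotient.mk_eq_zero _).mpr (hinj x hx)
      · intro y
        obtain ⟨y, rfl⟩ := Submodule.mkQ_surjective _ y
        obtain ⟨x, hx⟩ := hsurj y
        refine ⟨Submodule.mkQ _ x, ?_⟩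
        rw [Submodule.mkQ_apply, Submodule.mapQ_apply, Submodule.mkQ_apply, eq_comm, Submodule.Quotient.eq]
        exact hx
    let w : M →ₗ[A] N ⧸ (J • ⊤ : Submodule A N) :=
      (LinearEquiv.ofBijective ub hub).symm.toLinearMap ∘ₗ Submodule.mkQ _
    have hw : ∀ x, w (u x) = Submodule.mkQ _ x := fun x =>
      (LinearEquiv.ofBijective ub hub).symm_apply_apply (Submodule.mkQ _ x)
    let act : (J ^ k : Ideal A) →ₗ[A] (N ⧸ (J • ⊤ : Submodule A N)) →ₗ[A] N ⧸ (J ^ (k + 1) • ⊤ : Submodule A N) :=
      { toFun := fun a => Submodule.mapQ _ _ ((a : A) • LinearMap.id) (by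
          intro x hx
          rw [Submodule.mem_comap, LinearMap.smul_apply, LinearMap.id_apply, pow_succ, mul_smul]
          exact Submodule.smul_mem_smul a.2 hx)
        map_add' := fun a b => by ext x; simp [add_smul]
        map_smul' := fun c a => by ext x; simp [mul_smul] }
    let ψ : (J ^ k : Ideal A) ⊗[A] M →ₗ[A] N ⧸ (J ^ (k + 1) • ⊤ : Submodule A N) :=
      TensorProduct.lift (act.compl₂ w)
    let μ : (J ^ k : Ideal A) ⊗[A] M →ₗ[A] M :=
      TensorProduct.lift (LinearMap.lsmul A M ∘ₗ (J ^ k : Ideal A).subtype)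
    have hμ : Function.Injective μ := by
      have e : μ = (TensorProduct.lid A M).toLinearMap ∘ₗ (Submodule.subtype (J ^ k)).rTensor M := by
        ext a m
        simp [μ]
      rw [e]
      exact (TensorProduct.lid A M).injective.comp
        (Module.Flat.rTensor_preserves_injective_linearMap _ (Submodule.subtype_injective (J ^ k)))
    have h1 : ∀ x ∈ (J ^ k • ⊤ : Submodule A N),
        ∃ t, μ t = u x ∧ ψ t = Submodule.mkQ _ x := by
      intro x hx
      refine Submodule.smul_induction_on hx ?_ ?_
      · intro a ha x _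
        refine ⟨(⟨a, ha⟩ : (J ^ k : Ideal A)) ⊗ₜ u x, by simp [μ], ?_⟩
        show act ⟨a, ha⟩ (w (u x)) = _
        rw [hw]; rfl
      · rintro x y ⟨t, h1, h2⟩ ⟨t', h1', h2'⟩
        exact ⟨t + t', by simp [h1, h1'], by simp [h2, h2']⟩
    have h2 : ∀ y ∈ (J ^ (k + 1) • ⊤ : Submodule A M), ∃ t, μ t = y ∧ ψ t = 0 := by
      intro y hy
      refine Submodule.smul_induction_on hy ?_ ?_
      · intro a ha y _
        refine ⟨(⟨a, Ideal.pow_le_pow_right (Nat.le_succ k) ha⟩ : (J ^ k : Ideal A)) ⊗ₜ y, by simp [μ], ?_⟩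
        show act _ (w y) = _
        obtain ⟨z, hz⟩ := Submodule.mkQ_surjective _ (w y)
        rw [← hz]
        exact (Submodule.Quotient.mk_eq_zero _).mpr (Submodule.smul_mem_smul ha trivial)
      · rintro x y ⟨t, h1, h2⟩ ⟨t', h1', h2'⟩
        exact ⟨t + t', by simp [h1, h1'], by simp [h2, h2']⟩
    obtain ⟨t, ht1, ht2⟩ := h1 n hn
    obtain ⟨t', ht1', ht2'⟩ := h2 (u n) hun
    rw [hμ (ht1.trans ht1'.symm), ht2'] at ht2
    exact (Submodule.Quotient.mk_eq_zero _).mp ht2.symm
  constructor
  · rw [injective_iff_map_eq_zero]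
    intro n hn
    refine IsHausdorff.haus (inferInstance : IsHausdorff J N) n fun k => ?_
    rw [SModEq.zero]
    induction k with
    | zero => simp
    | succ k ih => exact step k n ih (by rw [hn]; exact zero_mem _)
  · intro m
    have next : ∀ (k : ℕ) (n : N), m - u n ∈ (J ^ k • ⊤ : Submodule A M) →
        ∃ d, d ∈ (J ^ k • ⊤ : Submodule A N) ∧ m - u (n + d) ∈ (J ^ (k + 1) • ⊤ : Submodule A M) := by
      intro k n hn
      have : (J ^ k • ⊤ : Submodule A M) ≤
          (J ^ k • ⊤ : Submodule A N).map u ⊔ J ^ (k + 1) • ⊤ := by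
        rw [Submodule.map_smul'', pow_succ, mul_smul, ← Submodule.smul_sup]
        refine Submodule.smul_mono le_rfl fun y _ => ?_
        obtain ⟨x, hx⟩ := hsurj y
        rw [show y = u x + (y - u x) by abel]
        exact Submodule.add_mem_sup ⟨x, trivial, rfl⟩ hx
      obtain ⟨_, ⟨d, hd, rfl⟩, r, hr, hdr⟩ := Submodule.mem_sup.mp (this hn)
      refine ⟨d, hd, ?_⟩
      rw [map_add, ← sub_sub, ← hdr, add_sub_cancel_left]
      exact hr
    choose d hd hd' using next
    let s : (k : ℕ) → {n : N // m - u n ∈ (J ^ k • ⊤ : Submodule A M)} := fun k =>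
      Nat.rec (motive := fun k => {n : N // m - u n ∈ (J ^ k • ⊤ : Submodule A M)})
        ⟨0, by simp⟩ (fun k ih => ⟨ih.1 + d k ih.1 ih.2, hd' k ih.1 ih.2⟩) k
    obtain ⟨L, hL⟩ := IsPrecomplete.prec (inferInstance : IsPrecomplete J N) (f := fun k => (s k).1) (by
      intro a b hab
      induction b, hab using Nat.le_induction with
      | base => exact SModEq.refl _
      | succ b hab ih =>
        refine ih.trans ?_
        rw [SModEq.sub_mem]
        show (s b).1 - ((s b).1 + d b _ _) ∈ _
        rw [sub_add_cancel_left]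
        exact Submodule.neg_mem _ (Submodule.smul_mono_left (Ideal.pow_le_pow_right hab) (hd b _ _)))
    refine ⟨L, (IsHausdorff.eq_iff_smodEq (I := J)).mpr fun k => ?_⟩
    rw [SModEq.sub_mem]
    rw [show u L - m = u (L - (s k).1) - (m - u (s k).1) by rw [map_sub]; abel]
    refine Submodule.sub_mem _ ?_ (s k).2
    have := (SModEq.sub_mem.mp (hL k).symm)
    have h' : (J ^ k • ⊤ : Submodule A N).map u ≤ J ^ k • ⊤ := by
      rw [Submodule.map_smul'']
      exact Submodule.smul_mono le_rfl le_top
    exact h' ⟨_, this, rfl⟩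

end Groth.Agent.S4515
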