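import Groth.Statements.S4516
import Groth.Agent.FSAdic12.Basic
import Mathlib.RingTheory.Smooth.Basic
import Mathlib.RingTheory.AdicCompletion.Basic
import Mathlib.RingTheory.Flat.Tensor
import Mathlib.RingTheory.Kaehler.Basic
import Mathlib.RingTheory.Jacobson.Ideal
import Mathlib.RingTheory.Nakayama
import Mathlib.RingTheory.FiniteType
import Mathlib.RingTheory.OrzechProperty
import Mathlib.Algebra.CharP.Lemmas
import Groth.Prelude.Def_FSRel

set_option autoImplicit false
set_option linter.all false
universe u
open EGA41 TensorProduct

namespace Groth.Agent.S4516

/-- Let p be a prime, B an A-algebra of characteristic p and A' an A-subalgebra of B contained in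
A[B^p]. Then the canonical map between Ω_{B/A} and Ω_{B/A'} is bijective (every A-derivation of B
vanishes on A[B^p]). -/
theorem result (p : ℕ) [Fact p.Prime] {A B : Type u}
    [CommRing A] [CommRing B] [Algebra A B] [CharP B p] (A' : Subalgebra A B)
    (hA' : A' ≤ EGA41.pPowerSubalgebra p A B) :
    Function.Bijective (KaehlerDifferential.map A A' B B) := by
  refine ⟨?_, KaehlerDifferential.map_surjective_of_surjective A A' B B Function.surjective_id⟩
  have hD : ∀ a ∈ A', KaehlerDifferential.D A B a = 0 := by
    intro a ha
    have ha' := hA' ha
    clear ha
    induction ha' using Algebra.adjoin_induction with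
    | mem x hx =>
      obtain ⟨b, rfl⟩ := hx
      rw [Derivation.leibniz_pow, ← Nat.cast_smul_eq_nsmul B, CharP.cast_eq_zero, zero_smul]
    | algebraMap r => exact Derivation.map_algebraMap _ r
    | add x y _ _ hx hy => rw [map_add, hx, hy, add_zero]
    | mul x y _ _ hx hy => rw [Derivation.leibniz, hx, hy, smul_zero, smul_zero, add_zero]
  let D' : Derivation A' B (Ω[B⁄A]) := Derivation.mk'
    { toFun := KaehlerDifferential.D A B
      map_add' := map_add _
      map_smul' := fun a b => by
        rw [Algebra.smul_def, Derivation.leibniz, RingHom.id_apply]
        rw [show KaehlerDifferential.D A B (algebraMap A' B a) = 0 from hD a a.2, smul_zero, add_zero]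
        exact algebraMap_smul B a _ }
    (fun a b => Derivation.leibniz _ a b)
  have key : (D'.liftKaehlerDifferential.restrictScalars B) ∘ₗ (KaehlerDifferential.map A A' B B) = LinearMap.id := by
    apply Derivation.liftKaehlerDifferential_unique
    ext b
    simp
    rfl
  exact Function.LeftInverse.injective (g := D'.liftKaehlerDifferential) fun x => LinearMap.congr_fun key x

end Groth.Agent.S4516
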