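import Groth.Statements.S4517
import Groth.Agent.FSAdic12.Basic
import Mathlib.RingTheory.Smooth.Basic
import Mathlib.RingTheory.AdicCompletion.Basic
import Mathlib.RingTheory.Flat.Tensor
import Mathlib.RingTheory.Kaehler.Basic
import Mathlib.RingTheory.Jacobson.Ideal
import Mathlib.RingTheory.Nakayama
import Mathlib.RingTheory.FiniteType
import Mathlib.RingTheory.OrzechProperty
import Mathlib.Algebra.CharP.Lemmas
import Groth.Prelude.Def_FSRel

set_option autoImplicit false
set_option linter.all false
universe u
open EGA41 TensorProduct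

namespace Groth.Agent.S4517

/-- Let p be a prime, B an A-algebra of characteristic p, and suppose there is s ≥ 0 such that b^(p^s)
lies in the image of A for every b ∈ B. Then the kernel of the multiplication map B ⊗_A B → B is a
nil ideal. -/
theorem result (p : ℕ) [Fact p.Prime] {A B : Type u}
    [CommRing A] [CommRing B] [Algebra A B] [CharP B p] (s : ℕ)
    (hpow : ∀ b : B, b ^ p ^ s ∈ Set.range (algebraMap A B)) :
    ∀ x ∈ KaehlerDifferential.ideal A B, IsNilpotent x := by
  have hp : (p : B ⊗[A] B) = 0 := by
    rw [← map_natCast (algebraMap B (B ⊗[A] B)), CharP.cast_eq_zero, map_zero]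
  suffices KaehlerDifferential.ideal A B ≤ nilradical (B ⊗[A] B) from
    fun x hx => mem_nilradical.mp (this hx)
  rw [← KaehlerDifferential.span_range_eq_ideal, Ideal.span_le]
  rintro _ ⟨b, rfl⟩
  refine mem_nilradical.mpr ⟨p ^ s, ?_⟩
  rcases subsingleton_or_nontrivial (B ⊗[A] B) with h | h
  · exact Subsingleton.elim _ _
  haveI : CharP (B ⊗[A] B) p := (CharP.charP_iff_prime_eq_zero Fact.out).mpr hp
  rw [sub_pow_char_pow]
  obtain ⟨a, ha⟩ := hpow b
  rw [Algebra.TensorProduct.tmul_pow, Algebra.TensorProduct.tmul_pow, one_pow, ← ha, sub_eq_zero,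
    Algebra.algebraMap_eq_smul_one, TensorProduct.tmul_smul, TensorProduct.smul_tmul']

end Groth.Agent.S4517
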