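import Groth.Statements.S4518
import Groth.Agent.PBasis12.Field
import Groth.Agent.FSAdic12.Basic
import Mathlib.RingTheory.Unramified.Finite
import Mathlib.Algebra.Algebra.Epi
import Mathlib.RingTheory.Ideal.IdempotentFG
import Mathlib.RingTheory.IntegralClosure.IsIntegralClosure.Basic
import Mathlib.RingTheory.Smooth.Basic
import Mathlib.FieldTheory.Perfect
import Groth.Prelude.Def_FSRel

set_option autoImplicit false
set_option linter.all false
universe u
open EGA41 TensorProduct Groth.Agent.PBasis12
open scoped Pointwise

namespace Groth.Agent.S4518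

/-- Let p be a prime and A → C → B rings of characteristic p with C → B injective and every p-th power
of B in the image of A (so, identifying, B^p ⊆ A ⊆ C ⊆ B up to replacing A by its image); let x be a
family of elements of C and y a family of elements of B. (i) If x is a system of p-generators of C
over A and y one of B over C, then the family obtained by putting x (viewed in B) and y together is
a system of p-generators of B over A. (ii) If x is a p-basis of C over A, then y is p-independent
over C if and only if the combined family is p-independent over A. (The published statement only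
asks B^p ⊆ C and reduces to B^p ⊆ A by enlarging A to A[B^p]; but p-independence of x in C over A
refers to A[C^p], which can be smaller than A[B^p] — for A = 𝔽_p, C = 𝔽_p(t^p) ⊂ B = 𝔽_p(t), x =
(t^p), y = (t), x is a p-basis of C over A and y is p-independent over C while (t^p, t) is not
p-independent over A — so this row assumes B^p ⊆ A, the case the published proof treats.) -/
theorem result (p : ℕ) [Fact p.Prime] {A C B : Type u} [CommRing A] [CommRing C]
    [CommRing B] [Algebra A C] [Algebra C B] [Algebra A B] [IsScalarTower A C B] [CharP B p]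
    (hinj : Function.Injective (algebraMap C B)) (hpow : ∀ b : B, b ^ p ∈ Set.range (algebraMap A B))
    {ι κ : Type u} (x : ι → C) (y : κ → B) :
    (EGA41.IsPGenerating p A x → EGA41.IsPGenerating p C y →
      EGA41.IsPGenerating p A (Sum.elim (fun i => algebraMap C B (x i)) y)) ∧
    (EGA41.IsPBasis p A x →
      (EGA41.IsPIndependent p C y ↔ EGA41.IsPIndependent p A (Sum.elim (fun i => algebraMap C B (x i)) y))) := by
  classical
  have hpowC : ∀ c : C, c ^ p ∈ Set.range (algebraMap A C) := fun c => by
    obtain ⟨a, ha⟩ := hpow (algebraMap C B c)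
    exact ⟨a, hinj (by rw [← IsScalarTower.algebraMap_apply, ha, map_pow])⟩
  have hpowB : ∀ b : B, b ^ p ∈ Set.range (algebraMap C B) := fun b => by
    obtain ⟨a, ha⟩ := hpow b
    exact ⟨algebraMap A C a, by rw [← IsScalarTower.algebraMap_apply, ha]⟩
  set w := Sum.elim (fun i => algebraMap C B (x i)) y
  let ev : Red p (ι ⊕ κ) ≃ Red p ι × Red p κ :=
    { toFun := fun e => (⟨(Finsupp.sumFinsuppEquivProdFinsupp e.1).1, fun i => e.2 (Sum.inl i)⟩,
        ⟨(Finsupp.sumFinsuppEquivProdFinsupp e.1).2, fun i => e.2 (Sum.inr i)⟩)
      invFun := fun q => ⟨Finsupp.sumFinsuppEquivProdFinsupp.symm (q.1.1, q.2.1), fun i => by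
        rcases i with i | i
        · simpa using q.1.2 i
        · simpa using q.2.2 i⟩
      left_inv := fun e => Subtype.ext (by simp)
      right_inv := fun q => by
        refine Prod.ext (Subtype.ext ?_) (Subtype.ext ?_) <;> simp }
  have hmon : ∀ e : Red p (ι ⊕ κ), pMonomial w e.1 = pMonomial x (ev e).1.1 • pMonomial y (ev e).2.1 := by
    intro e
    have he : e.1 = ((Finsupp.sumFinsuppEquivProdFinsupp e.1).1).mapDomain Sum.inl +
        ((Finsupp.sumFinsuppEquivProdFinsupp e.1).2).mapDomain Sum.inr := by
      ext (i | i)
      · rw [Finsupp.add_apply, Finsupp.mapDomain_apply Sum.inl_injective,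
          Finsupp.mapDomain_of_notMem_range _ _ (by simp), add_zero]
        rfl
      · rw [Finsupp.add_apply, Finsupp.mapDomain_apply Sum.inr_injective,
          Finsupp.mapDomain_of_notMem_range _ _ (by simp), zero_add]
        rfl
    conv_lhs => rw [he]
    rw [pMonomial, Finsupp.prod_add_index' (fun _ => pow_zero _) (fun _ _ _ => pow_add _ _ _),
      Algebra.smul_def, map_pMonomial (algebraMap C B) x]
    congr 1
    · exact pMonomial_mapDomain w Sum.inl_injective _
    · exact pMonomial_mapDomain w Sum.inr_injective _
  refine ⟨fun hx hy => ?_, fun hx => ?_⟩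
  · rw [isPGenerating_iff_span hpowC] at hx
    rw [isPGenerating_iff_span hpowB] at hy
    rw [isPGenerating_iff_span hpow, eq_top_iff]
    intro b _
    have : b ∈ Submodule.span A (Set.range (fun e : Red p ι => pMonomial x e.1) • Set.range (fun e : Red p κ => pMonomial y e.1)) := by
      rw [Submodule.span_smul_of_span_eq_top hx, Submodule.restrictScalars_mem, hy]
      trivial
    refine Submodule.span_mono ?_ this
    rintro _ ⟨_, ⟨e₁, rfl⟩, _, ⟨e₂, rfl⟩, rfl⟩
    refine ⟨ev.symm (e₁, e₂), ?_⟩
    show pMonomial w (ev.symm (e₁, e₂)).1 = pMonomial x e₁.1 • pMonomial y e₂.1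
    rw [hmon, ev.apply_symm_apply]
  · obtain ⟨hx1, hx2⟩ := hx
    set R := pPowerSubalgebra p A C
    have hRB : Function.Injective (algebraMap R B) := hinj.comp Subtype.val_injective
    rw [isPIndependent_iff_li hinj hpowB y]
    have hbridge : EGA41.IsPIndependent p A w ↔ LinearIndependent R (fun e : Red p (ι ⊕ κ) => pMonomial w e.1) := by
      rw [EGA41.IsPIndependent, linearIndependent_iff', linearIndependent_iff']
      constructor
      · intro h t g hg i hi
        choose a ha using fun j : Red p (ι ⊕ κ) => mem_range_of_mem_pPower hpowC (g j)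
        have := h t (fun j => ⟨algebraMap A B (a j), (pPowerSubalgebra p A B).algebraMap_mem _⟩) (by
          rw [← hg]
          refine Finset.sum_congr rfl fun j _ => ?_
          rw [Subalgebra.smul_def, smul_eq_mul, Algebra.smul_def]
          congr 1
          show algebraMap A B (a j) = algebraMap C B (g j : C)
          rw [← ha, ← IsScalarTower.algebraMap_apply]) i hi
        have h0 : algebraMap A B (a i) = 0 := congrArg Subtype.val this
        apply Subtype.ext
        refine hinj ?_
        rw [← ha, ← IsScalarTower.algebraMap_apply, h0]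
        simp
      · intro h t g hg i hi
        choose a ha using fun j : Red p (ι ⊕ κ) => mem_range_of_mem_pPower hpow (g j)
        have := h t (fun j => ⟨algebraMap A C (a j), R.algebraMap_mem _⟩) (by
          rw [← hg]
          refine Finset.sum_congr rfl fun j _ => ?_
          rw [Subalgebra.smul_def, Algebra.smul_def]
          congr 1
          show algebraMap C B (algebraMap A C (a j)) = (g j : B)
          rw [← IsScalarTower.algebraMap_apply, ha]) i hi
        have h0 : algebraMap A C (a i) = 0 := congrArg Subtype.val this
        apply Subtype.ext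
        rw [← ha, IsScalarTower.algebraMap_apply A C B, h0, map_zero]
        simp
    let bx : Module.Basis (Red p ι) R C := Module.Basis.mk hx1 hx2.ge
    have hprod : LinearIndependent R (fun e : Red p (ι ⊕ κ) => pMonomial w e.1) ↔
        LinearIndependent R (fun q : Red p ι × Red p κ => pMonomial x q.1.1 • pMonomial y q.2.1) := by
      rw [← linearIndependent_equiv ev (f := fun q : Red p ι × Red p κ => pMonomial x q.1.1 • pMonomial y q.2.1)]
      rw [show (fun q : Red p ι × Red p κ => pMonomial x q.1.1 • pMonomial y q.2.1) ∘ ev =
        (fun e : Red p (ι ⊕ κ) => pMonomial w e.1) from funext fun e => (hmon e).symm]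
    rw [hbridge, hprod]
    refine ⟨fun hy => linearIndependent_smul (b := fun e : Red p ι => pMonomial x e.1) (c := fun e : Red p κ => pMonomial y e.1) hx1 hy, fun h => ?_⟩
    rw [linearIndependent_iff']
    intro t g hg j hj
    let U := t.biUnion fun j => (bx.repr (g j)).support
    have hexp : ∀ j ∈ t, g j = ∑ i ∈ U, bx.repr (g j) i • pMonomial x i.1 := by
      intro j hj
      have hc := bx.linearCombination_repr (g j)
      rw [Finsupp.linearCombination_apply, Finsupp.sum_of_support_subset _
        (Finset.subset_biUnion_of_mem (fun j => (bx.repr (g j)).support) hj) (fun i a => a • bx i)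
        (fun i _ => zero_smul R _)] at hc
      refine hc.symm.trans (Finset.sum_congr rfl fun i _ => ?_)
      congr 1; exact Module.Basis.mk_apply _ _ i
    have hsum : ∑ q ∈ U ×ˢ t, bx.repr (g q.2) q.1 • (pMonomial x q.1.1 • pMonomial y q.2.1) = 0 := by
      rw [Finset.sum_product_right, ← hg]
      refine Finset.sum_congr rfl fun j hj => ?_
      conv_rhs => rw [hexp j hj, Finset.sum_smul]
      simp only [smul_assoc]
    rw [hexp j hj]
    refine Finset.sum_eq_zero fun i hi => ?_
    rw [linearIndependent_iff'.mp h (U ×ˢ t) (fun q => bx.repr (g q.2) q.1) hsum (i, j) (by simp [hi, hj]), zero_smul]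

end Groth.Agent.S4518
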