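import Groth.Statements.S4519
import Groth.Agent.PBasis12.Field
import Groth.Agent.FSAdic12.Basic
import Mathlib.RingTheory.Unramified.Finite
import Mathlib.Algebra.Algebra.Epi
import Mathlib.RingTheory.Ideal.IdempotentFG
import Mathlib.RingTheory.IntegralClosure.IsIntegralClosure.Basic
import Mathlib.RingTheory.Smooth.Basic
import Mathlib.FieldTheory.Perfect
import Groth.Prelude.Def_FSRel

set_option autoImplicit false
set_option linter.all false
universe u
open EGA41 TensorProduct Groth.Agent.PBasis12

namespace Groth.Agent.S4519

/-- Let p be a prime, B a ring of characteristic p and A a subring of B with B^p ⊆ A (here: A → B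
injective with every p-th power in its image; R → A → B with the image of R in B equal to the set of
p-th powers, so that R stands for B^p). If B admits a p-basis over A, then B is a formally smooth
A-algebra relative to R for the discrete topologies (square-zero liftings, as in the prelude's
relative notion). -/
theorem result (p : ℕ) [Fact p.Prime] {R A B : Type u} [CommRing R] [CommRing A]
    [CommRing B] [Algebra R A] [Algebra A B] [Algebra R B] [IsScalarTower R A B] [CharP B p]
    (hinj : Function.Injective (algebraMap A B)) (hpow : ∀ b : B, b ^ p ∈ Set.range (algebraMap A B))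
    (hR : Set.range (algebraMap R B) = Set.range fun b : B => b ^ p)
    {ι : Type u} (x : ι → B) (hx : EGA41.IsPBasis p A x) :
    EGA41.IsFormallySmoothRel R A B := by
  have hli := (isPIndependent_iff_li hinj hpow x).mp hx.1
  have hsp := (isPGenerating_iff_span hpow x).mp hx.2
  intro C _ _ _ _ J hJ u₀ ⟨u, hu⟩
  have hr : ∀ i, x i ^ p ∈ Set.range (algebraMap R B) := fun i => hR.ge ⟨x i, rfl⟩
  choose r hr using hr
  obtain ⟨v, hv, -⟩ := existsUnique_algHom hli hsp (s := fun i => algebraMap R A (r i))
    (fun i => by rw [← IsScalarTower.algebraMap_apply, hr]) (E := C) (fun i => u (x i)) fun i => by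
      rw [← map_pow, ← hr, u.commutes, ← IsScalarTower.algebraMap_apply]
  refine ⟨v, AlgHom.ext_of_adjoin_eq_top (adjoin_eq_top hsp) ?_⟩
  rintro _ ⟨i, rfl⟩
  show Ideal.Quotient.mk J (v (x i)) = u₀ (x i)
  rw [hv]
  exact AlgHom.congr_fun hu (x i)

end Groth.Agent.S4519
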