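import Groth.Statements.S4520
import Groth.Agent.PBasis12.Basic
import Mathlib.RingTheory.Kaehler.Basic

set_option autoImplicit false
universe u
open EGA41 TensorProduct KaehlerDifferential
open Groth.Agent.PBasis12

namespace Groth.Agent.S4520

/-- A copy of the dual numbers, carrying a twisted algebra structure. -/
def Tw (L : Type u) := TrivSqZeroExt L L

noncomputable instance (L : Type u) [CommRing L] : CommRing (Tw L) :=
  inferInstanceAs (CommRing (TrivSqZeroExt L L))

theorem Tw.fst_mul {L : Type u} [CommRing L] (a b : Tw L) :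
    TrivSqZeroExt.fst (a * b) = TrivSqZeroExt.fst a * TrivSqZeroExt.fst b := rfl

theorem Tw.snd_mul {L : Type u} [CommRing L] (a b : Tw L) :
    TrivSqZeroExt.snd (a * b) = TrivSqZeroExt.fst a * TrivSqZeroExt.snd b + TrivSqZeroExt.fst b * TrivSqZeroExt.snd a := by
  show TrivSqZeroExt.snd ((show TrivSqZeroExt L L from a) * (show TrivSqZeroExt L L from b)) = _
  rw [TrivSqZeroExt.snd_mul]
  simp only [smul_eq_mul, MulOpposite.smul_eq_mul_unop, MulOpposite.unop_op]
  ring

/-- Extending a derivation along a monomial basis. -/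
theorem exists_extend {p : ℕ} [Fact p.Prime] {S B C : Type u} [CommRing S] [CommRing B] [CommRing C]
    [Algebra S B] [CharP C p] (f : B →+* C) {ι : Type u} {x : ι → B} {s : ι → S}
    (hli : LinearIndependent S (fun e : Red p ι => pMonomial x e.1))
    (hsp : Submodule.span S (Set.range fun e : Red p ι => pMonomial x e.1) = ⊤)
    (hs : ∀ i, algebraMap S B (s i) = x i ^ p)
    (d : S →+ C) (hd : ∀ a b, d (a * b) = f (algebraMap S B a) * d b + f (algebraMap S B b) * d a)
    (hds : ∀ i, d (s i) = 0) (y : ι → C) :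
    ∃ D : B →+ C, (∀ a b, D (a * b) = f a * D b + f b * D a) ∧
      (∀ a, D (algebraMap S B a) = d a) ∧ ∀ i, D (x i) = y i := by
  have hd1 : d 1 = 0 := by
    have := hd 1 1
    simp only [mul_one, map_one, one_mul] at this
    exact left_eq_add.mp this
  let φ : S →+* Tw C :=
    { toFun := fun a => (TrivSqZeroExt.inl (f (algebraMap S B a)) + TrivSqZeroExt.inr (d a) : TrivSqZeroExt C C)
      map_one' := by
        show (_ : TrivSqZeroExt C C) = 1
        ext <;> simp [hd1]
      map_mul' := fun a b => by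
        show (_ : TrivSqZeroExt C C) = ((_ : TrivSqZeroExt C C) * (_ : TrivSqZeroExt C C))
        ext
        · simp
        · simp [hd, mul_comm (d a)]
      map_zero' := by
        show (_ : TrivSqZeroExt C C) = 0
        ext <;> simp
      map_add' := fun a b => by
        show (_ : TrivSqZeroExt C C) = ((_ : TrivSqZeroExt C C) + (_ : TrivSqZeroExt C C))
        ext <;> simp <;> abel }
  let := φ.toAlgebra
  let z : ι → TrivSqZeroExt C C := fun i => TrivSqZeroExt.inl (f (x i)) + TrivSqZeroExt.inr (y i)
  have hz : ∀ i, (show Tw C from z i) ^ p = algebraMap S (Tw C) (s i) := by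
    intro i
    show (z i ^ p : TrivSqZeroExt C C) = (TrivSqZeroExt.inl _ + TrivSqZeroExt.inr _ : TrivSqZeroExt C C)
    apply TrivSqZeroExt.ext
    · simp [z, hs]
    · rw [TrivSqZeroExt.snd_pow, ← Nat.cast_smul_eq_nsmul C, CharP.cast_eq_zero, zero_smul]
      simp [hds]
  obtain ⟨v, hv, -⟩ := existsUnique_algHom hli hsp hs (E := Tw C) (fun i => (z i : Tw C)) hz
  have hfst : ∀ b, TrivSqZeroExt.fst (v b) = f b := by
    intro b
    let g1 : B →+* C := (TrivSqZeroExt.fstHom ℤ C C).toRingHom.comp (v.toRingHom : B →+* TrivSqZeroExt C C)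
    show g1 b = f b
    have hb : b ∈ Algebra.adjoin S (Set.range x) := (adjoin_eq_top hsp).ge trivial
    induction hb using Algebra.adjoin_induction with
    | mem w hw =>
      obtain ⟨i, rfl⟩ := hw
      show TrivSqZeroExt.fst (v (x i)) = f (x i)
      rw [hv]
      show TrivSqZeroExt.fst (z i) = _
      simp [z]
    | algebraMap a =>
      show TrivSqZeroExt.fst (v (algebraMap S B a)) = _
      rw [AlgHom.commutes]
      show TrivSqZeroExt.fst (TrivSqZeroExt.inl _ + TrivSqZeroExt.inr _ : TrivSqZeroExt C C) = _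
      simp
    | add u w _ _ hu hw => rw [map_add, map_add, hu, hw]
    | mul u w _ _ hu hw => rw [map_mul, map_mul, hu, hw]
  refine ⟨AddMonoidHom.mk' (fun b => TrivSqZeroExt.snd (v b)) (fun a b => by rw [map_add]; rfl), ?_, ?_, ?_⟩
  · intro a b
    show TrivSqZeroExt.snd (v (a * b)) = _
    rw [map_mul, Tw.snd_mul, hfst, hfst]
    rfl
  · intro a
    show TrivSqZeroExt.snd (v (algebraMap S B a)) = d a
    rw [AlgHom.commutes]
    show TrivSqZeroExt.snd (TrivSqZeroExt.inl _ + TrivSqZeroExt.inr _ : TrivSqZeroExt C C) = _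
    simp
  · intro i
    show TrivSqZeroExt.snd (v (x i)) = y i
    rw [hv]
    show TrivSqZeroExt.snd (z i) = _
    simp [z]


open TensorProduct in
/-- Let p be a prime, B a reduced ring of characteristic p, A a subring with B^p ⊆ A ⊆ B (here A → B
injective with all p-th powers in its image, and R → A → B with image in B the set of p-th powers, R
standing for B^p). Suppose B has a p-basis (x_λ) over A and A has a p-basis over R, and let x'_λ ∈ A
map to x_λ^p. Then the elements 1 ⊗ d_{A/ℤ}(x'_λ) form a basis of the B-module Υ_{B/A}, the kernel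
of B ⊗_A Ω_{A/ℤ} → Ω_{B/ℤ}. (The published statement also identifies Υ_{B/A} with the Frobenius
twist of Ω_{B/A}; this row states only the basis.) -/
theorem result (p : ℕ) [Fact p.Prime] {R A B : Type u} [CommRing R] [CommRing A]
    [CommRing B] [IsReduced B] [Algebra R A] [Algebra A B] [Algebra R B] [IsScalarTower R A B] [CharP B p]
    (hinj : Function.Injective (algebraMap A B)) (hpow : ∀ b : B, b ^ p ∈ Set.range (algebraMap A B))
    (hR : Set.range (algebraMap R B) = Set.range fun b : B => b ^ p)
    {Λ M : Type u} (x : Λ → B) (hx : EGA41.IsPBasis p A x) (x' : Λ → A) (hx' : ∀ i, algebraMap A B (x' i) = x i ^ p)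
    (y : M → A) (hy : EGA41.IsPBasis p R y) :
    ∃ b : Module.Basis Λ B (EGA41.imperfection ℤ A B),
      ∀ i, (b i : B ⊗[A] Ω[A⁄ℤ]) = (1 : B) ⊗ₜ[A] KaehlerDifferential.D ℤ A (x' i) := by
  classical
  have hp0 : p ≠ 0 := (Fact.out : p.Prime).ne_zero
  let : CharP A p := (algebraMap A B).charP hinj p
  have hliB := (isPIndependent_iff_li hinj hpow x).mp hx.1
  have hspB := (isPGenerating_iff_span hpow x).mp hx.2
  let Q := pPowerSubalgebra p R A
  -- elements of `Q` are `p`-th powers in `B`
  have hpowA : ∀ a : A, a ^ p ∈ Set.range (algebraMap R A) := fun a => by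
    obtain ⟨r, hr⟩ := hR.ge ⟨algebraMap A B a, rfl⟩
    exact ⟨r, hinj (by rw [← IsScalarTower.algebraMap_apply, hr, map_pow])⟩
  have hQ : ∀ q : Q, ∃ b : B, b ^ p = algebraMap A B q := fun q => by
    obtain ⟨r, hr⟩ := mem_range_of_mem_pPower hpowA q
    rw [← hr, ← IsScalarTower.algebraMap_apply]
    exact hR.le ⟨r, rfl⟩
  choose ρ hρ using hQ
  have hroot : ∀ (b c : B), b ^ p = c ^ p → b = c := fun b c hbc => by
    rw [← sub_eq_zero]
    exact eq_zero_of_pow_eq_zero (n := p) (by rw [sub_pow_char, hbc, sub_self])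
  have ρmul : ∀ a b, ρ (a * b) = ρ a * ρ b := fun a b => hroot _ _ (by
    rw [hρ, mul_pow, hρ, hρ, ← map_mul]; rfl)
  have ρadd : ∀ a b, ρ (a + b) = ρ a + ρ b := fun a b => hroot _ _ (by
    rw [hρ, add_pow_char, hρ, hρ, ← map_add]; rfl)
  let sy : M → Q := fun m => ⟨y m ^ p, pow_mem_pPower _⟩
  have hρy : ∀ m, ρ (sy m) = algebraMap A B (y m) := fun m => hroot _ _ (by
    rw [hρ, ← map_pow])
  -- dual derivations
  have hDx : ∀ i, ∃ D : A →+ B, (∀ a b, D (a * b) = algebraMap A B a * D b + algebraMap A B b * D a) ∧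
      (∀ j, D (x' j) = if j = i then 1 else 0) ∧ ∀ m, D (y m) = 0 := by
    intro i
    obtain ⟨dB, hdB, hdBA, hdBx⟩ := exists_extend (p := p) (RingHom.id B) hliB hspB hx'
      (0 : A →+ B) (fun a b => by simp) (fun _ => rfl) (fun j => if j = i then 1 else 0)
    let δ : Q →+ B := AddMonoidHom.mk' (fun q => (dB (ρ q)) ^ p) (fun a b => by
      rw [ρadd, map_add, add_pow_char])
    obtain ⟨D, hD, hDQ, hDy⟩ := exists_extend (p := p) (algebraMap A B) (x := y) (s := sy) hy.1 hy.2
      (fun m => rfl) δ (fun a b => by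
        show dB (ρ (a * b)) ^ p = algebraMap A B a * dB (ρ b) ^ p + algebraMap A B b * dB (ρ a) ^ p
        rw [ρmul, hdB, add_pow_char, mul_pow, mul_pow, RingHom.id_apply, RingHom.id_apply, hρ, hρ])
      (fun m => by
        show dB (ρ (sy m)) ^ p = 0
        rw [hρy, hdBA, AddMonoidHom.zero_apply, zero_pow hp0]) 0
    refine ⟨D, hD, fun j => ?_, hDy⟩
    have hmem : x' j ∈ Q := by
      obtain ⟨r, hr⟩ := hR.ge ⟨x j, rfl⟩
      have : algebraMap R A r = x' j := hinj (by rw [← IsScalarTower.algebraMap_apply, hr, hx'])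
      exact this ▸ Subalgebra.algebraMap_mem _ r
    have e : ρ ⟨x' j, hmem⟩ = x j := hroot _ _ (by rw [hρ]; exact hx' j)
    rw [show x' j = algebraMap Q A ⟨x' j, hmem⟩ from rfl, hDQ]
    show dB (ρ ⟨x' j, hmem⟩) ^ p = _
    rw [e, hdBx]
    split_ifs <;> simp [zero_pow hp0]
  have hDy : ∀ m, ∃ E : B →+ B, (∀ a b, E (a * b) = a * E b + b * E a) ∧
      ∀ n, E (algebraMap A B (y n)) = if n = m then 1 else 0 := by
    intro m
    obtain ⟨D, hD, hDQ, hDv⟩ := exists_extend (p := p) (algebraMap A B) (x := y) (s := sy) hy.1 hy.2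
      (fun m => rfl) (0 : Q →+ B) (fun a b => by simp) (fun _ => rfl) (fun n => if n = m then 1 else 0)
    obtain ⟨E, hE, hEA, -⟩ := exists_extend (p := p) (RingHom.id B) hliB hspB hx' D (fun a b => by simpa using hD a b)
      (fun j => by
        obtain ⟨r, hr⟩ := hR.ge ⟨x j, rfl⟩
        have : algebraMap R A r = x' j := hinj (by rw [← IsScalarTower.algebraMap_apply, hr, hx'])
        rw [show x' j = algebraMap Q A ⟨x' j, this ▸ Subalgebra.algebraMap_mem _ r⟩ from rfl, hDQ]
        rfl) 0
    exact ⟨E, by simpa using hE, fun n => by rw [hEA, hDv]⟩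
  choose Dx hDmul hDx' hDxy using hDx
  choose E hEmul hEy using hDy
  let u : Λ → EGA41.imperfection ℤ A B := fun i => ⟨(1 : B) ⊗ₜ[A] D ℤ A (x' i), by
    show mapBaseChange ℤ A B _ = 0
    simp only [mapBaseChange_tmul, one_smul, map_D, hx']
    rw [Derivation.leibniz_pow, ← Nat.cast_smul_eq_nsmul B, CharP.cast_eq_zero, zero_smul]⟩
  let dA : Λ → Derivation ℤ A B := fun i => Derivation.mk' (Dx i).toIntLinearMap
    (fun a b => by
      show Dx i (a * b) = a • Dx i b + b • Dx i a
      rw [hDmul, Algebra.smul_def, Algebra.smul_def])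
  let dB : M → Derivation ℤ B B := fun m => Derivation.mk' (E m).toIntLinearMap
    (fun a b => by
      show E m (a * b) = a • E m b + b • E m a
      rw [hEmul, smul_eq_mul, smul_eq_mul])
  have hli : LinearIndependent B u := by
    refine LinearIndependent.of_comp (EGA41.imperfection ℤ A B).subtype ?_
    rw [linearIndependent_iff']
    intro s g hg i hi
    have := congrArg (fun w => ((dA i).liftKaehlerDifferential.liftBaseChange B) w) hg
    simp only [Function.comp_apply, Submodule.subtype_apply, map_sum, map_smul, u, LinearMap.liftBaseChange_tmul,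
      one_smul, Derivation.liftKaehlerDifferential_comp_D, map_zero] at this
    rw [Finset.sum_eq_single i] at this
    · simpa [dA, hDx'] using this
    · intro j _ hj
      simp [dA, hDx', hj]
    · intro h; exact absurd hi h
  have hsp : ⊤ ≤ Submodule.span B (Set.range u) := by
    rintro ⟨w, hw⟩ -
    let N : Submodule B (B ⊗[A] Ω[A⁄ℤ]) :=
      Submodule.span B (Set.range fun i => (1 : B) ⊗ₜ[A] D ℤ A (x' i))
    let P : Submodule B (B ⊗[A] Ω[A⁄ℤ]) :=
      Submodule.span B (Set.range fun m => (1 : B) ⊗ₜ[A] D ℤ A (y m))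
    let S : Subring A :=
      { carrier := {a | (1 : B) ⊗ₜ[A] D ℤ A a ∈ N ⊔ P}
        zero_mem' := by simp
        one_mem' := by simp
        add_mem' := fun {a b} (ha : _ ∈ N ⊔ P) (hb : _ ∈ N ⊔ P) => by
          show _ ∈ N ⊔ P
          rw [map_add, tmul_add]; exact add_mem ha hb
        neg_mem' := fun {a} (ha : _ ∈ N ⊔ P) => by
          show _ ∈ N ⊔ P
          rw [map_neg, tmul_neg]; exact neg_mem ha
        mul_mem' := fun {a b} (ha : _ ∈ N ⊔ P) (hb : _ ∈ N ⊔ P) => by
          show _ ∈ N ⊔ P
          rw [Derivation.leibniz, tmul_add, tmul_smul, tmul_smul,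
            ← IsScalarTower.algebraMap_smul B a, ← IsScalarTower.algebraMap_smul B b]
          exact add_mem (Submodule.smul_mem _ _ hb) (Submodule.smul_mem _ _ ha) }
    have hSpow : ∀ a : A, a ^ p ∈ S := fun a => by
      show _ ∈ N ⊔ P
      rw [Derivation.leibniz_pow, ← Nat.cast_smul_eq_nsmul A, CharP.cast_eq_zero, zero_smul, tmul_zero]
      exact zero_mem _
    have hx'S : ∀ i, x' i ∈ S := fun i => Submodule.mem_sup_left (Submodule.subset_span ⟨i, rfl⟩)
    have hyS : ∀ m, y m ∈ S := fun m => Submodule.mem_sup_right (Submodule.subset_span ⟨m, rfl⟩)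
    have hQS : ∀ q : Q, (q : A) ∈ S := by
      intro q
      have hb : ρ q ∈ Submodule.span A (Set.range fun e : Red p Λ => pMonomial x e.1) := hspB ▸ trivial
      obtain ⟨l, hl⟩ := Finsupp.mem_span_range_iff_exists_finsupp.mp hb
      have : (q : A) = l.sum fun e a => a ^ p * pMonomial x' e.1 := by
        apply hinj
        rw [← hρ, ← hl, map_finsuppSum, Finsupp.sum, Finsupp.sum, sum_pow_char]
        refine Finset.sum_congr rfl fun e _ => ?_
        rw [map_mul, map_pow, Algebra.smul_def, mul_pow, map_pMonomial]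
        congr 1
        simp only [pMonomial, Finsupp.prod, hx', ← Finset.prod_pow, ← pow_mul, mul_comm p]
      rw [this]
      refine sum_mem fun e _ => mul_mem (hSpow _) ?_
      exact prod_mem fun i _ => pow_mem (hx'S i) _
    have htop : ∀ a : A, a ∈ S := by
      intro a
      have ha : a ∈ Submodule.span Q (Set.range fun e : Red p M => pMonomial y e.1) := hy.2.ge trivial
      induction ha using Submodule.span_induction with
      | mem v hv =>
        obtain ⟨e, rfl⟩ := hv
        exact prod_mem fun i _ => pow_mem (hyS i) _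
      | zero => exact zero_mem _
      | add u v _ _ hu hv => exact add_mem hu hv
      | smul q v _ hv => exact mul_mem (hQS q) hv
    have hall : ∀ z : B ⊗[A] Ω[A⁄ℤ], z ∈ N ⊔ P := by
      intro z
      induction z with
      | zero => exact zero_mem _
      | add u v hu hv => exact add_mem hu hv
      | tmul c v =>
        have : c ⊗ₜ[A] v = c • ((1 : B) ⊗ₜ[A] v) := by rw [smul_tmul', smul_eq_mul, mul_one]
        rw [this]
        refine Submodule.smul_mem _ _ ?_
        have hv : v ∈ Submodule.span A (Set.range (D ℤ A)) := by rw [span_range_derivation]; trivial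
        induction hv using Submodule.span_induction with
        | mem u hu => obtain ⟨a, rfl⟩ := hu; exact htop a
        | zero => simp
        | add u v _ _ hu hv => rw [tmul_add]; exact add_mem (hu (by simp [smul_tmul'])) (hv (by simp [smul_tmul']))
        | smul a u _ hu =>
          rw [tmul_smul, ← IsScalarTower.algebraMap_smul B a]
          exact Submodule.smul_mem _ _ (hu (by simp [smul_tmul']))
    obtain ⟨n, hn, q, hq, hnq⟩ := Submodule.mem_sup.mp (hall w)
    have hnker : mapBaseChange ℤ A B n = 0 := by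
      have : N ≤ EGA41.imperfection ℤ A B := Submodule.span_le.mpr (by rintro _ ⟨i, rfl⟩; exact (u i).2)
      exact this hn
    have hqker : mapBaseChange ℤ A B q = 0 := by
      have h1 : mapBaseChange ℤ A B w = 0 := hw
      rwa [← hnq, map_add, hnker, zero_add] at h1
    obtain ⟨l, rfl⟩ := Finsupp.mem_span_range_iff_exists_finsupp.mp hq
    have hl : ∀ m, l m = 0 := by
      intro m
      have := congrArg (dB m).liftKaehlerDifferential hqker
      simp only [Finsupp.sum, map_sum, map_smul, mapBaseChange_tmul, one_smul, map_D,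
        Derivation.liftKaehlerDifferential_comp_D, map_zero, smul_eq_mul] at this
      simpa [dB, hEy] using this
    have hq0 : (l.sum fun i a => a • ((1 : B) ⊗ₜ[A] D ℤ A (y i))) = 0 :=
      Finset.sum_eq_zero fun m _ => by simp [hl m]
    rw [hq0, add_zero] at hnq
    subst hnq
    have hN : N = (Submodule.span B (Set.range u)).map (EGA41.imperfection ℤ A B).subtype := by
      rw [Submodule.map_span, ← Set.range_comp]; rfl
    obtain ⟨v, hv, hvn⟩ := hN ▸ hn
    exact (Subtype.ext hvn : v = ⟨n, hw⟩) ▸ hv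
  exact ⟨Module.Basis.mk hli hsp, fun i => by rw [Module.Basis.mk_apply]⟩


end Groth.Agent.S4520
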