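import Groth.Statements.S4522
import Groth.Agent.PBasis12.Field
import Groth.Agent.FSAdic12.Basic
import Mathlib.RingTheory.Unramified.Finite
import Mathlib.Algebra.Algebra.Epi
import Mathlib.RingTheory.Ideal.IdempotentFG
import Mathlib.RingTheory.IntegralClosure.IsIntegralClosure.Basic
import Mathlib.RingTheory.Smooth.Basic
import Mathlib.FieldTheory.Perfect
import Groth.Prelude.Def_FSRel

set_option autoImplicit false
set_option linter.all false
universe u
open EGA41 TensorProduct Groth.Agent.PBasis12

namespace Groth.Agent.S4522

/-- Let L be a field of characteristic p > 0 and K a subfield with L^p ⊆ K ⊆ L (here R → K → L with the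
image of R in L the set of p-th powers and every p-th power of L in the image of K). Then the
canonical L-linear map L ⊗_K Ω_{K/L^p} → Ω_{L/L^p} is injective, so that 0 → Ω_{K/L^p} ⊗_K L →
Ω_{L/L^p} → Ω_{L/K} → 0 is exact: the imperfection module of L over K relative to L^p vanishes. -/
theorem result (p : ℕ) [Fact p.Prime] {R K L : Type u} [Field R] [Field K] [Field L]
    [Algebra R K] [Algebra K L] [Algebra R L] [IsScalarTower R K L] [CharP L p]
    (hR : Set.range (algebraMap R L) = Set.range fun y : L => y ^ p)
    (hK : ∀ y : L, y ^ p ∈ Set.range (algebraMap K L)) :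
    Function.Injective (KaehlerDifferential.mapBaseChange R K L) := by
  haveI : CharP K p := (algebraMap K L).charP (algebraMap K L).injective p
  have hpK : ∀ y : K, y ^ p ∈ Set.range (algebraMap R K) := fun y => by
    obtain ⟨r, hr⟩ := hR.ge ⟨algebraMap K L y, rfl⟩
    exact ⟨r, (algebraMap K L).injective (by rw [← IsScalarTower.algebraMap_apply, hr, map_pow])⟩
  have hpL : ∀ y : L, y ^ p ∈ Set.range (algebraMap R L) := fun y => hR.ge ⟨y, rfl⟩
  obtain ⟨B, -, -, hB⟩ := exists_pBasis_between (k := R) (K := K) Set.univ ∅ (Set.empty_subset _)
    isPGenerating_univ isPIndependent_empty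
  set y : B → L := fun b => algebraMap K L b
  have hy : IsPIndependent p R y := by
    rw [isPIndependent_iff_li (algebraMap R L).injective hpL]
    have := ((isPIndependent_iff_li (algebraMap R K).injective hpK _).mp hB.1).map'
      (IsScalarTower.toAlgHom R K L).toLinearMap (LinearMap.ker_eq_bot.mpr (algebraMap K L).injective)
    have hf : (fun e : Red p B => pMonomial y e.1) = (IsScalarTower.toAlgHom R K L).toLinearMap ∘
        (fun e : Red p B => pMonomial (Subtype.val : B → K) e.1) :=
      funext fun e => (map_pMonomial (IsScalarTower.toAlgHom R K L) _ e.1).symm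
    rw [hf]
    exact this
  have hly := (isPIndependent_iff_D y).mp hy
  let b := (kaehlerBasis hB).baseChange L
  refine LinearMap.ker_eq_bot.mp ((LinearMap.ker_eq_bot').mpr fun z hz => ?_)
  rw [← b.linearCombination_repr z, Finsupp.apply_linearCombination] at hz
  have hfun : KaehlerDifferential.mapBaseChange R K L ∘ b = fun i => KaehlerDifferential.D R L (y i) := by
    funext i
    simp [b, y]
  rw [hfun] at hz
  rw [← b.linearCombination_repr z, linearIndependent_iff.mp hly _ hz, map_zero]

end Groth.Agent.S4522
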