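import Groth.Statements.S4524
import Mathlib.RingTheory.Smooth.Field
import Mathlib.RingTheory.Smooth.Kaehler
import Mathlib.RingTheory.Kaehler.JacobiZariski
import Mathlib.RingTheory.Etale.Field
import Mathlib.FieldTheory.Perfect
import Mathlib.RingTheory.AlgebraicIndependent.TranscendenceBasis
import Mathlib.LinearAlgebra.SymmetricAlgebra.Basic
import Mathlib.Algebra.Module.Torsion.Basic
import Mathlib.Algebra.Module.Projective
import Mathlib.RingTheory.Derivation.ToSquareZero
import Mathlib.RingTheory.Unramified.Basic
import Groth.Prelude.Def_EGA41

set_option autoImplicit false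
set_option linter.all false
universe u
open EGA41 TensorProduct

namespace Groth.Agent.S4524

/-- Let k be a field of characteristic 0 and K an extension of k. Then Ω_{K/k} = 0 if and only if K is
an algebraic extension of k. -/
theorem result {k K : Type u} [Field k] [CharZero k] [Field K] [Algebra k K] :
    Subsingleton (Ω[K⁄k]) ↔ Algebra.IsAlgebraic k K := by
  constructor
  · intro h
    by_contra hK
    obtain ⟨t, ht⟩ : ∃ t : K, Transcendental k t := by
      simpa [Algebra.isAlgebraic_def, Transcendental] using hK
    let F := IntermediateField.adjoin k {t}
    haveI : CharZero F := charZero_of_injective_algebraMap (algebraMap k F).injective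
    haveI : Algebra.EssFiniteType k F := by
      exact IntermediateField.essFiniteType_iff.mpr (IntermediateField.fg_adjoin_finset {t} |> fun h => by simpa using h)
    obtain ⟨s, hs⟩ := exists_isTranscendenceBasis F K
    haveI : Algebra.FormallySmooth F K := by
      haveI : Algebra.IsAlgebraic (IntermediateField.adjoin F (Set.range ((↑) : s → K))) K := hs.isAlgebraic_field
      exact Algebra.FormallySmooth.of_algebraicIndependent_of_isSeparable hs.1
    have hinj : Function.Injective (KaehlerDifferential.mapBaseChange k F K) := by
      rw [injective_iff_map_eq_zero]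
      intro x hx
      obtain ⟨y, rfl⟩ := (Algebra.H1Cotangent.exact_δ_mapBaseChange k F K x).mp hx
      rw [Subsingleton.elim y 0, map_zero]
    haveI : Subsingleton (K ⊗[F] Ω[F⁄k]) := hinj.subsingleton
    haveI hF : Algebra.FormallyUnramified k F := ⟨by
      refine ⟨fun a b => ?_⟩
      have : Function.Injective (fun x : Ω[F⁄k] => (1 : K) ⊗ₜ[F] x) :=
        Module.FaithfullyFlat.tensorProduct_mk_injective Ω[F⁄k]
      exact this (Subsingleton.elim _ _)⟩
    have := Algebra.FormallyUnramified.isSeparable k F
    have := (Algebra.IsSeparable.isAlgebraic k F).isAlgebraic (⟨t, IntermediateField.mem_adjoin_simple_self k t⟩ : F)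
    exact ht (IntermediateField.isAlgebraic_iff.mp this)
  · intro h
    haveI : Algebra.FormallyUnramified k K := Algebra.FormallyUnramified.of_isSeparable k K
    infer_instance

end Groth.Agent.S4524
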