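import Groth.Statements.S4525
import Groth.Agent.Sep12.Index

set_option autoImplicit false
universe u
open EGA41 TensorProduct KaehlerDifferential

namespace Groth.Agent.S4525

/-- Let K be a field, L an extension of finite type of K and k a subfield of K. Then Ω_{L/K} and the
imperfection module Υ_{L/K/k} are finite-dimensional L-vector spaces and rank Ω_{L/K} − rank
Υ_{L/K/k} ≥ trdeg_K L. (The published statement also gives the equality rank Ω_{L/K} − rank
Υ_{L/K/k} = trdeg_K L + d(L/K, k) and an equality criterion; this row states only finiteness and the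
inequality.) -/
theorem result {k K L : Type u} [Field k] [Field K] [Field L]
    [Algebra k K] [Algebra K L] [Algebra k L] [IsScalarTower k K L] [Algebra.EssFiniteType K L] :
    Module.Finite L (Ω[L⁄K]) ∧ Module.Finite L (EGA41.imperfection k K L) ∧
      (Cardinal.toNat (Algebra.trdeg K L) : ℤ) ≤
        (Module.finrank L (Ω[L⁄K]) : ℤ) - Module.finrank L (EGA41.imperfection k K L) := by
  obtain ⟨h1, h2, h3⟩ := Groth.Agent.Sep12.cartier (k := K) (K := L)
  have h : EGA41.imperfection k K L = LinearMap.range (Algebra.H1Cotangent.δ k K L) :=
    (Algebra.H1Cotangent.exact_δ_mapBaseChange k K L).linearMap_ker_eq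
  rw [h]
  refine ⟨h2, inferInstance, ?_⟩
  have := LinearMap.finrank_range_le (Algebra.H1Cotangent.δ k K L)
  omega

end Groth.Agent.S4525
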