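import Groth.Statements.S4526
import Groth.Agent.Sep12.Index
import Groth.Agent.S4525

set_option autoImplicit false
universe u
open EGA41 TensorProduct KaehlerDifferential

namespace Groth.Agent.S4526

/-- Let k ⊆ K ⊆ L be three fields with L an extension of finite type of k. Then Ω_{L/k} and Ω_{K/k} are
finite-dimensional and rank_L Ω_{L/k} − rank_K Ω_{K/k} ≥ trdeg_K L. (The published statement also
gives the exact value trdeg_K L + d(L/K, k) and an equality criterion; this row states only the
inequality.) -/
theorem result {k K L : Type u} [Field k] [Field K] [Field L]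
    [Algebra k K] [Algebra K L] [Algebra k L] [IsScalarTower k K L] [Algebra.EssFiniteType k L] :
    Module.Finite L (Ω[L⁄k]) ∧ Module.Finite K (Ω[K⁄k]) ∧
      (Cardinal.toNat (Algebra.trdeg K L) : ℤ) ≤ (Module.finrank L (Ω[L⁄k]) : ℤ) - Module.finrank K (Ω[K⁄k]) := by
  have := Algebra.EssFiniteType.of_comp k K L
  obtain ⟨h1, h2, h3⟩ := Groth.Agent.S4525.result (k := k) (K := K) (L := L)
  have hk : Module.Finite L (LinearMap.ker (mapBaseChange k K L)) := h2
  have hΩ : Module.Finite L Ω[L⁄k] := inferInstance
  have hfin : Module.Finite L (L ⊗[K] Ω[K⁄k]) :=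
    Groth.Agent.Sep12.finite_of_ker_range (mapBaseChange k K L)
  have hK : Module.Finite K Ω[K⁄k] := by
    have := Module.rank_lt_aleph0_iff.mpr hfin
    rw [Module.rank_baseChange, Cardinal.lift_id] at this
    exact Module.rank_lt_aleph0_iff.mp this
  refine ⟨hΩ, hK, ?_⟩
  have e0 := (mapBaseChange k K L).finrank_range_add_finrank_ker
  have e1 := (KaehlerDifferential.map k K L L).finrank_range_add_finrank_ker
  rw [(exact_mapBaseChange_map k K L).linearMap_ker_eq,
    LinearMap.range_eq_top.mpr (map_surjective k K L), finrank_top] at e1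
  rw [Module.finrank_baseChange] at e0
  have h5 : Module.finrank L (EGA41.imperfection k K L) = Module.finrank L (LinearMap.ker (mapBaseChange k K L)) := rfl
  rw [h5] at h3
  omega

end Groth.Agent.S4526
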