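import Groth.Statements.S4558
import Mathlib.RingTheory.Kaehler.Basic
import Mathlib.RingTheory.AdicCompletion.Functoriality
import Mathlib.RingTheory.Ideal.Cotangent
import Mathlib.LinearAlgebra.TensorProduct.Quotient

set_option autoImplicit false
universe u
open EGA41 TensorProduct IsLocalRing

namespace Groth.Agent.S4558

/-- Let A be a discrete ring, B an adic topological A-algebra with ideal of definition 𝔫 (B separated
and complete for the 𝔫-adic topology) and B₀ = B/𝔫. If Ω_{B₀/A} and 𝔫/𝔫² are B₀-modules of finite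
type, then Ω̂_{B/A}, the 𝔫-adic completion of Ω_{B/A}, is a B-module of finite type. -/
theorem result {A B : Type u} [CommRing A] [CommRing B] [Algebra A B] (𝔫 : Ideal B)
    [IsAdicComplete 𝔫 B] [Module.Finite (B ⧸ 𝔫) (Ω[B ⧸ 𝔫⁄A])] [Module.Finite (B ⧸ 𝔫) 𝔫.Cotangent] :
    Module.Finite B (AdicCompletion 𝔫 (Ω[B⁄A])) := by
  have hsurj : Function.Surjective (algebraMap B (B ⧸ 𝔫)) := Ideal.Quotient.mk_surjective
  have h1 : Module.Finite B (Ω[B ⧸ 𝔫⁄A]) := Module.Finite.trans (B ⧸ 𝔫) _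
  have h2 : Module.Finite B 𝔫.Cotangent := Module.Finite.trans (B ⧸ 𝔫) _
  have h3 : Module.Finite B ((RingHom.ker (algebraMap B (B ⧸ 𝔫))).Cotangent) := by
    have e : RingHom.ker (algebraMap B (B ⧸ 𝔫)) = 𝔫 := Ideal.mk_ker
    exact e.symm ▸ h2
  let φ := (KaehlerDifferential.mapBaseChange A B (B ⧸ 𝔫)).restrictScalars B
  have h4 : LinearMap.ker φ = LinearMap.range (KaehlerDifferential.kerCotangentToTensor A B (B ⧸ 𝔫)) :=
    SetLike.ext fun x => KaehlerDifferential.exact_kerCotangentToTensor_mapBaseChange A B (B ⧸ 𝔫) hsurj x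
  have h5 : Module.Finite B ((B ⧸ 𝔫) ⊗[B] Ω[B⁄A]) := by
    refine Module.Finite.iff_fg.mpr ?_ |> fun (h : Module.Finite B (⊤ : Submodule B ((B ⧸ 𝔫) ⊗[B] Ω[B⁄A]))) =>
      Module.Finite.equiv Submodule.topEquiv
    refine Submodule.fg_of_fg_map_of_fg_inf_ker φ ?_ ?_
    · rw [Submodule.map_top]
      exact Module.Finite.iff_fg.mp (by
        rw [LinearMap.range_eq_top.mpr (show Function.Surjective φ from
          fun y => by
            obtain ⟨z, hz⟩ := KaehlerDifferential.map_surjective_of_surjective A A B (B ⧸ 𝔫) hsurj y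
            exact ⟨1 ⊗ₜ z, by simpa [φ] using hz⟩)]
        exact Module.Finite.equiv Submodule.topEquiv.symm)
    · rw [top_inf_eq, h4]
      exact Module.Finite.iff_fg.mp inferInstance
  have h6 : Module.Finite B (Ω[B⁄A] ⧸ 𝔫 • (⊤ : Submodule B Ω[B⁄A])) :=
    Module.Finite.equiv (quotTensorEquivQuotSMul (Ω[B⁄A]) 𝔫)
  obtain ⟨r, s, hs⟩ := Module.Finite.exists_fin (R := B) (M := Ω[B⁄A] ⧸ 𝔫 • (⊤ : Submodule B Ω[B⁄A]))
  choose v hv using fun i => Submodule.Quotient.mk_surjective _ (s i)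
  let f : (Fin r → B) →ₗ[B] Ω[B⁄A] := Fintype.linearCombination B v
  have hf : Function.Surjective (Submodule.mkQ (𝔫 • (⊤ : Submodule B Ω[B⁄A])) ∘ₗ f) := by
    rw [← LinearMap.range_eq_top, eq_top_iff, ← hs, Submodule.span_le]
    rintro _ ⟨i, rfl⟩
    classical
    exact ⟨Pi.single i 1, by simp [f, hv]⟩
  have hg := AdicCompletion.map_surjective_of_mkQ_comp_surjective (I := 𝔫) hf
  have hB : Module.Finite B (AdicCompletion 𝔫 B) :=
    Module.Finite.of_surjective (AdicCompletion.of 𝔫 B) (AdicCompletion.of_surjective 𝔫 B)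
  have hM : Module.Finite B (AdicCompletion 𝔫 (Fin r → B)) :=
    Module.Finite.equiv ((AdicCompletion.piEquivFin 𝔫 r).restrictScalars B).symm
  exact Module.Finite.of_surjective ((AdicCompletion.map 𝔫 f).restrictScalars B) hg

end Groth.Agent.S4558
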