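import Groth.Statements.S4529
import Groth.Agent.FSAdic12.Basic
import Mathlib.RingTheory.Smooth.Basic
import Mathlib.RingTheory.AdicCompletion.Basic
import Mathlib.RingTheory.Flat.Tensor
import Mathlib.RingTheory.Kaehler.Basic
import Mathlib.RingTheory.Jacobson.Ideal
import Mathlib.RingTheory.Nakayama
import Mathlib.RingTheory.FiniteType
import Mathlib.RingTheory.OrzechProperty
import Mathlib.Algebra.CharP.Lemmas
import Groth.Prelude.Def_FSRel

set_option autoImplicit false
set_option linter.all false
universe u
open EGA41 TensorProduct

namespace Groth.Agent.S4529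

/-- Let A be a ring, M, N two A-modules with N projective, u : M → N a homomorphism and J an ideal of A;
suppose either (i) J is nilpotent, or (ii) J is contained in the Jacobson radical of A and M is of
finite type. Then u is left invertible if and only if the induced map u₀ : M/JM → N/JN is left
invertible. (A left inverse of u₀ composed with N → N/JN is an A-linear map v : N → M/JM with v ∘ u
the projection, and conversely; the right-hand side is written in that form.) -/
theorem result {A : Type u} [CommRing A] {M N : Type u} [AddCommGroup M] [Module A M]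
    [AddCommGroup N] [Module A N] [Module.Projective A N] (u : M →ₗ[A] N) (J : Ideal A)
    (hJ : IsNilpotent J ∨ (J ≤ (⊥ : Ideal A).jacobson ∧ Module.Finite A M)) :
    (∃ w : N →ₗ[A] M, w ∘ₗ u = LinearMap.id) ↔
      ∃ v : N →ₗ[A] M ⧸ (J • ⊤ : Submodule A M), v ∘ₗ u = (J • ⊤ : Submodule A M).mkQ := by
  constructor
  · rintro ⟨w, hw⟩
    exact ⟨(J • ⊤ : Submodule A M).mkQ ∘ₗ w, by rw [LinearMap.comp_assoc, hw, LinearMap.comp_id]⟩
  rintro ⟨v, hv⟩
  obtain ⟨w, hw⟩ := Module.projective_lifting_property _ v (Submodule.mkQ_surjective _)
  let φ := w ∘ₗ u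
  have hφ : ∀ m, φ m - m ∈ (J • ⊤ : Submodule A M) := by
    intro m
    rw [← Submodule.Quotient.eq]
    exact (LinearMap.congr_fun hw (u m)).trans (LinearMap.congr_fun hv m)
  suffices hb : Function.Bijective φ by
    refine ⟨(LinearEquiv.ofBijective φ hb).symm.toLinearMap ∘ₗ w, LinearMap.ext fun m => ?_⟩
    exact (LinearEquiv.ofBijective φ hb).symm_apply_apply m
  rcases hJ with ⟨n, hn⟩ | ⟨hJ, hfin⟩
  · have hδ : IsNilpotent (φ - 1 : Module.End A M) := by
      refine ⟨n, LinearMap.ext fun m => ?_⟩
      have key : ∀ (k : ℕ) (m : M), ((φ - 1 : Module.End A M) ^ k) m ∈ (J ^ k • ⊤ : Submodule A M) := by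
        intro k
        induction k with
        | zero => intro m; simp
        | succ k ih =>
          intro m
          rw [pow_succ' (φ - 1 : Module.End A M), Module.End.mul_apply]
          have : (J ^ k • ⊤ : Submodule A M).map (φ - 1 : Module.End A M) ≤ J ^ (k + 1) • ⊤ := by
            rw [Submodule.map_smul'', pow_succ, mul_smul]
            refine Submodule.smul_mono le_rfl ?_
            rintro _ ⟨x, -, rfl⟩
            exact hφ x
          exact this ⟨_, ih m, rfl⟩
      have := key n m
      rw [hn] at this
      simpa using this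
    have : IsUnit (φ : Module.End A M) := by
      have := hδ.isUnit_one_add
      rwa [add_sub_cancel] at this
    exact (Module.End.isUnit_iff φ).mp this
  · have hs : Function.Surjective φ := by
      rw [← LinearMap.range_eq_top, eq_top_iff]
      refine Submodule.le_of_le_smul_of_le_jacobson_bot Module.Finite.fg_top hJ ?_
      intro m _
      rw [show m = φ m - (φ m - m) by abel]
      exact Submodule.sub_mem _ (Submodule.mem_sup_left ⟨m, rfl⟩) (Submodule.mem_sup_right (hφ m))
    exact ⟨OrzechProperty.injective_of_surjective_endomorphism φ hs, hs⟩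

end Groth.Agent.S4529
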