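import Groth.Statements.S4531
import Groth.Agent.FSAdic12.LeftInv
import Groth.Agent.FSAdic12.LiftComplete
import Mathlib.RingTheory.AdicCompletion.Noetherian
import Mathlib.RingTheory.AdicCompletion.Basic
import Mathlib.RingTheory.Derivation.ToSquareZero
import Mathlib.RingTheory.Kaehler.Basic
import Mathlib.Algebra.TrivSqZeroExt.Basic
import Mathlib.LinearAlgebra.TensorProduct.Pi
import Groth.Prelude.Def_FSRel

set_option autoImplicit false
set_option linter.all false
universe u
open EGA41

namespace Groth.Agent.S4531

open TensorProduct in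
/-- Let A be a ring, M an A-module of finite type, N a projective A-module and u : M → N a homomorphism.
(i) u is left invertible if and only if u_𝔪 : M_𝔪 → N_𝔪 is left invertible for every maximal ideal 𝔪
of A. (ii) If A' is an A-algebra which is a faithfully flat A-module, u is left invertible if and
only if u ⊗ 1 : M ⊗_A A' → N ⊗_A A' is left invertible (as an A'-linear map). -/
theorem result {A : Type u} [CommRing A] {M N : Type u} [AddCommGroup M] [Module A M]
    [Module.Finite A M] [AddCommGroup N] [Module A N] [Module.Projective A N] (u : M →ₗ[A] N) :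
    ((∃ w : N →ₗ[A] M, w ∘ₗ u = LinearMap.id) ↔
      ∀ (m : Ideal A) [m.IsMaximal],
        ∃ w : LocalizedModule m.primeCompl N →ₗ[A] LocalizedModule m.primeCompl M,
          w ∘ₗ LocalizedModule.map m.primeCompl u = LinearMap.id) ∧
    ∀ (A' : Type u) [CommRing A'] [Algebra A A'] [Module.FaithfullyFlat A A'],
      (∃ w : N →ₗ[A] M, w ∘ₗ u = LinearMap.id) ↔
        ∃ w : A' ⊗[A] N →ₗ[A'] A' ⊗[A] M, w ∘ₗ u.baseChange A' = LinearMap.id := by
  have back : (∀ (m : Ideal A), ∀ _ : m.IsMaximal, Function.Injective (u.lTensor m.ResidueField)) →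
      ∃ w : N →ₗ[A] M, w ∘ₗ u = LinearMap.id := fun h =>
    Groth.Agent.FSAdic12.exists_left_inverse_of_forall_maximal u fun m hm =>
      Groth.Agent.FSAdic12.exists_smul_id_of_injective u m (h m hm)
  refine ⟨⟨fun ⟨w, hw⟩ m hm => ?_, fun h => back fun m hm =>
    Groth.Agent.FSAdic12.injective_of_localized u m _ le_rfl (h m)⟩, fun A' _ _ _ => ⟨fun ⟨w, hw⟩ => ?_, fun ⟨w, hw⟩ => back fun m hm => ?_⟩⟩
  · exact Groth.Agent.FSAdic12.localized_of_smul_id u _ (f := 1) (one_mem _) w (by rw [hw, one_smul])
  · exact ⟨w.baseChange A', by rw [← LinearMap.baseChange_comp, hw, LinearMap.baseChange_id]⟩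
  · set K := m.ResidueField
    rw [← Module.FaithfullyFlat.lTensor_injective_iff_injective A A']
    have key : ∀ z : A' ⊗[A] (K ⊗[A] M),
        (TensorProduct.leftComm A A' K N) ((u.lTensor K).lTensor A' z) =
          (u.lTensor A').lTensor K (TensorProduct.leftComm A A' K M z) := by
      intro z
      induction z using TensorProduct.induction_on with
      | zero => simp
      | add x y hx hy => simp [hx, hy]
      | tmul a y =>
        induction y using TensorProduct.induction_on with
        | zero => simp
        | add x y hx hy => rw [TensorProduct.tmul_add, map_add, map_add, map_add, map_add, hx, hy]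
        | tmul r x => simp
    have hinj : Function.Injective ((u.lTensor A').lTensor K) := by
      refine Function.LeftInverse.injective (g := (w.restrictScalars A).lTensor K) fun z => ?_
      rw [← LinearMap.comp_apply, ← LinearMap.lTensor_comp]
      have : (w.restrictScalars A) ∘ₗ u.lTensor A' = LinearMap.id :=
        LinearMap.ext fun y => LinearMap.congr_fun hw y
      rw [this, LinearMap.lTensor_id, LinearMap.id_apply]
    intro x y hxy
    apply (TensorProduct.leftComm A A' K M).injective
    apply hinj
    rw [← key, ← key, hxy]

end Groth.Agent.S4531
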