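import Groth.Statements.S4532
import Mathlib.RingTheory.Smooth.Field
import Mathlib.RingTheory.Smooth.Kaehler
import Mathlib.RingTheory.Kaehler.JacobiZariski
import Mathlib.RingTheory.Etale.Field
import Mathlib.FieldTheory.Perfect
import Mathlib.RingTheory.AlgebraicIndependent.TranscendenceBasis
import Mathlib.LinearAlgebra.SymmetricAlgebra.Basic
import Mathlib.Algebra.Module.Torsion.Basic
import Mathlib.Algebra.Module.Projective
import Mathlib.RingTheory.Derivation.ToSquareZero
import Mathlib.RingTheory.Unramified.Basic
import Groth.Prelude.Def_EGA41

set_option autoImplicit false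
set_option linter.all false
universe u
open EGA41 TensorProduct

namespace Groth.Agent.S4532

/-- Let A be a discrete ring and V a projective A-module. Then the symmetric algebra of V over A, with
the discrete topology, is a formally smooth A-algebra. -/
theorem result (A : Type u) [CommRing A] (V : Type u) [AddCommGroup V] [Module A V]
    [Module.Projective A V] : Algebra.FormallySmooth A (SymmetricAlgebra A V) := by
  refine Algebra.FormallySmooth.of_comp_surjective ?_
  intro C _ _ I hI f
  obtain ⟨g, hg⟩ := Module.projective_lifting_property (Ideal.Quotient.mkₐ A I).toLinearMap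
    (SymmetricAlgebra.lift.symm f) Ideal.Quotient.mk_surjective
  refine ⟨SymmetricAlgebra.lift g, ?_⟩
  apply SymmetricAlgebra.algHom_ext
  ext v
  show Ideal.Quotient.mkₐ A I (SymmetricAlgebra.lift g (SymmetricAlgebra.ι A V v)) = f (SymmetricAlgebra.ι A V v)
  rw [SymmetricAlgebra.lift_ι_apply]
  exact LinearMap.congr_fun hg v

end Groth.Agent.S4532
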