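import Groth.Statements.S4534
import Groth.Agent.FSAdic12.Basic
import Mathlib.RingTheory.Smooth.Basic
import Mathlib.RingTheory.AdicCompletion.Basic
import Mathlib.RingTheory.Flat.Tensor
import Mathlib.RingTheory.Kaehler.Basic
import Mathlib.RingTheory.Jacobson.Ideal
import Mathlib.RingTheory.Nakayama
import Mathlib.RingTheory.FiniteType
import Mathlib.RingTheory.OrzechProperty
import Mathlib.Algebra.CharP.Lemmas
import Groth.Prelude.Def_FSRel

set_option autoImplicit false
set_option linter.all false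
universe u
open EGA41 TensorProduct

namespace Groth.Agent.S4534

/-- Let A → B → C be continuous homomorphisms of adic rings (A with the 𝔞-adic, B the 𝔟-adic, C the
𝔠-adic topology; continuity: a power of 𝔞 maps into 𝔟 and a power of 𝔟 into 𝔠). If B is formally
smooth over A and C formally smooth over B, then C is formally smooth over A. -/
theorem result {A B C : Type u} [CommRing A] [CommRing B] [CommRing C] [Algebra A B] [Algebra B C]
    [Algebra A C] [IsScalarTower A B C] (𝔞 : Ideal A) (𝔟 : Ideal B) (𝔠 : Ideal C)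
    (hAB : ∃ k : ℕ, (𝔞 ^ k).map (algebraMap A B) ≤ 𝔟) (hBC : ∃ k : ℕ, (𝔟 ^ k).map (algebraMap B C) ≤ 𝔠)
    (hB : EGA41.IsFormallySmoothAdic A 𝔞 B 𝔟) (hC : EGA41.IsFormallySmoothAdic B 𝔟 C 𝔠) :
    EGA41.IsFormallySmoothAdic A 𝔞 C 𝔠 := by
  intro T _ _ J hJ hT u ⟨m, hm⟩
  obtain ⟨k0, hk0⟩ := hBC
  have hu' : ∀ x ∈ 𝔟 ^ (k0 * m), (u.comp (IsScalarTower.toAlgHom A B C)) x = 0 := by
    intro x hx
    refine hm _ ?_
    have := Ideal.mem_map_of_mem (algebraMap B C) hx
    rw [pow_mul, Ideal.map_pow] at this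
    exact Ideal.pow_right_mono hk0 m this
  obtain ⟨v, hv⟩ := hB T J hJ hT _ ⟨_, hu'⟩
  obtain ⟨m', hm'⟩ := Groth.Agent.FSAdic12.continuous_of_lift hJ 𝔟 v (k0 * m) (fun x hx => by
    rw [← Ideal.Quotient.mkₐ_eq_mk A, ← AlgHom.comp_apply, hv, hu' x hx])
  letI : Algebra B T := v.toRingHom.toAlgebra
  haveI : IsScalarTower A B T := IsScalarTower.of_algebraMap_eq fun a => (v.commutes a).symm
  let uB : C →ₐ[B] T ⧸ J :=
    { u.toRingHom with commutes' := fun b => (AlgHom.congr_fun hv b).symm }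
  obtain ⟨w, hw⟩ := hC T J hJ ⟨m', by
    rw [eq_bot_iff, Ideal.map_le_iff_le_comap]
    exact fun x hx => Ideal.mem_comap.mpr ((Submodule.mem_bot T).mpr (hm' x hx))⟩ uB ⟨m, hm⟩
  exact ⟨w.restrictScalars A, AlgHom.ext fun c => AlgHom.congr_fun hw c⟩

end Groth.Agent.S4534
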