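import Groth.Statements.S4535
import Groth.Agent.FSAdic12.Basic
import Mathlib.RingTheory.Smooth.Basic
import Mathlib.RingTheory.AdicCompletion.Basic
import Mathlib.RingTheory.Flat.Tensor
import Mathlib.RingTheory.Kaehler.Basic
import Mathlib.RingTheory.Jacobson.Ideal
import Mathlib.RingTheory.Nakayama
import Mathlib.RingTheory.FiniteType
import Mathlib.RingTheory.OrzechProperty
import Mathlib.Algebra.CharP.Lemmas
import Groth.Prelude.Def_FSRel

set_option autoImplicit false
set_option linter.all false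
universe u
open EGA41

namespace Groth.Agent.S4535

open TensorProduct in
/-- Let B (𝔟-adic) be formally smooth over A (𝔞-adic) and let A' (𝔞'-adic) be a topological A-algebra (a
power of 𝔞 maps into 𝔞'). Then the A'-algebra A' ⊗_A B, with the tensor product topology, i.e. the
adic topology of the ideal generated by the images of 𝔞' and 𝔟, is formally smooth over A'. -/
theorem result {A B A' : Type u} [CommRing A] [CommRing B] [CommRing A'] [Algebra A B] [Algebra A A']
    (𝔞 : Ideal A) (𝔟 : Ideal B) (𝔞' : Ideal A') (hAA' : ∃ k : ℕ, (𝔞 ^ k).map (algebraMap A A') ≤ 𝔞')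
    (hB : EGA41.IsFormallySmoothAdic A 𝔞 B 𝔟) :
    EGA41.IsFormallySmoothAdic A' 𝔞' (A' ⊗[A] B)
      (𝔞'.map (algebraMap A' (A' ⊗[A] B)) ⊔
        𝔟.map (Algebra.TensorProduct.includeRight : B →ₐ[A] A' ⊗[A] B).toRingHom) := by
  intro T _ _ J hJ ⟨k, hk⟩ u ⟨m, hm⟩
  letI : Algebra A T := ((algebraMap A' T).comp (algebraMap A A')).toAlgebra
  haveI : IsScalarTower A A' T := IsScalarTower.of_algebraMap_eq fun _ => rfl
  obtain ⟨k0, hk0⟩ := hAA'
  let u' : B →ₐ[A] T ⧸ J := (u.restrictScalars A).comp Algebra.TensorProduct.includeRight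
  obtain ⟨v, hv⟩ := hB T J hJ ⟨k0 * k, by
    rw [pow_mul, eq_bot_iff, Ideal.map_pow, IsScalarTower.algebraMap_eq A A' T, ← Ideal.map_map,
      ← Ideal.map_pow, ← hk]
    exact Ideal.map_mono (Ideal.pow_right_mono hk0 k)⟩ u' ⟨m, fun x hx => hm _ (by
      refine Ideal.pow_right_mono le_sup_right m ?_
      rw [← Ideal.map_pow]
      exact Ideal.mem_map_of_mem _ hx)⟩
  refine ⟨Algebra.TensorProduct.lift (Algebra.ofId A' T) v (fun _ _ => Commute.all _ _), ?_⟩
  ext b
  refine Eq.trans ?_ (AlgHom.congr_fun hv b)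
  show Ideal.Quotient.mk J (Algebra.TensorProduct.lift (Algebra.ofId A' T) v (fun _ _ => Commute.all _ _) (1 ⊗ₜ b)) = _
  simp

end Groth.Agent.S4535
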