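import Groth.Statements.S4536
import Groth.Agent.FSAdic12.Basic
import Mathlib.RingTheory.Smooth.Basic
import Mathlib.RingTheory.AdicCompletion.Basic
import Mathlib.RingTheory.Flat.Tensor
import Mathlib.RingTheory.Kaehler.Basic
import Mathlib.RingTheory.Jacobson.Ideal
import Mathlib.RingTheory.Nakayama
import Mathlib.RingTheory.FiniteType
import Mathlib.RingTheory.OrzechProperty
import Mathlib.Algebra.CharP.Lemmas
import Groth.Prelude.Def_FSRel

set_option autoImplicit false
set_option linter.all false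
universe u
open EGA41 TensorProduct

namespace Groth.Agent.S4536

/-- Let A carry the 𝔞-adic and B the 𝔟-adic topology, A → B being continuous (a power of 𝔞 maps into 𝔟).
Then B is formally smooth over A if and only if for every n the (A/𝔞ⁿ)-algebra B/𝔞ⁿB, with the adic
topology of the image of 𝔟, is formally smooth over the discrete ring A/𝔞ⁿ. -/
theorem result {A B : Type u} [CommRing A] [CommRing B] [Algebra A B]
    (𝔞 : Ideal A) (𝔟 : Ideal B) (hAB : ∃ k : ℕ, (𝔞 ^ k).map (algebraMap A B) ≤ 𝔟) :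
    EGA41.IsFormallySmoothAdic A 𝔞 B 𝔟 ↔
      ∀ n : ℕ, EGA41.IsFormallySmoothAdic (A ⧸ 𝔞 ^ n) ⊥ (B ⧸ (𝔞 ^ n).map (algebraMap A B))
        (𝔟.map (Ideal.Quotient.mk ((𝔞 ^ n).map (algebraMap A B)))) := by
  constructor
  · intro h n C _ _ J hJ _ u ⟨m, hm⟩
    letI : Algebra A C := ((algebraMap (A ⧸ 𝔞 ^ n) C).comp (Ideal.Quotient.mk _)).toAlgebra
    let π := Ideal.Quotient.mk ((𝔞 ^ n).map (algebraMap A B))
    let u' : B →ₐ[A] C ⧸ J :=
      { u.toRingHom.comp π with commutes' := fun a => u.commutes (Ideal.Quotient.mk _ a) }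
    have hn : (𝔞 ^ n).map (algebraMap A C) = ⊥ := by
      rw [eq_bot_iff, Ideal.map_le_iff_le_comap]
      intro a ha
      show algebraMap (A ⧸ 𝔞 ^ n) C (Ideal.Quotient.mk _ a) = 0
      rw [Ideal.Quotient.eq_zero_iff_mem.mpr ha, map_zero]
    obtain ⟨v, hv⟩ := h C J hJ ⟨n, hn⟩ u' ⟨m, fun x hx => hm _ (by
      rw [← Ideal.map_pow]
      exact Ideal.mem_map_of_mem _ hx)⟩
    have hker : ∀ x ∈ (𝔞 ^ n).map (algebraMap A B), v.toRingHom x = 0 := by
      intro x hx
      have := Ideal.mem_map_of_mem v.toRingHom hx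
      rw [Ideal.map_map, AlgHom.toRingHom_eq_coe, v.comp_algebraMap, hn] at this
      simpa using this
    refine ⟨{ Ideal.Quotient.lift _ v.toRingHom hker with commutes' := ?_ }, ?_⟩
    · intro a
      obtain ⟨a, rfl⟩ := Ideal.Quotient.mk_surjective a
      exact v.commutes a
    · ext x
      obtain ⟨x, rfl⟩ := Ideal.Quotient.mk_surjective x
      exact AlgHom.congr_fun hv x
  · intro h C _ _ J hJ ⟨k, hk⟩ u ⟨m, hm⟩
    have hk' : ∀ a ∈ 𝔞 ^ k, algebraMap A C a = 0 := fun a ha =>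
      (Submodule.mem_bot C).mp (hk ▸ Ideal.mem_map_of_mem (algebraMap A C) ha)
    letI : Algebra (A ⧸ 𝔞 ^ k) C := (Ideal.Quotient.lift _ (algebraMap A C) hk').toAlgebra
    have hker : ∀ x ∈ (𝔞 ^ k).map (algebraMap A B), u.toRingHom x = 0 := by
      intro x hx
      have := Ideal.mem_map_of_mem u.toRingHom hx
      rw [Ideal.map_map, AlgHom.toRingHom_eq_coe, u.comp_algebraMap, IsScalarTower.algebraMap_eq A C (C ⧸ J),
        ← Ideal.map_map, hk, Ideal.map_bot] at this
      simpa using this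
    let u' : (B ⧸ (𝔞 ^ k).map (algebraMap A B)) →ₐ[A ⧸ 𝔞 ^ k] C ⧸ J :=
      { Ideal.Quotient.lift _ u.toRingHom hker with
        commutes' := fun a => by
          obtain ⟨a, rfl⟩ := Ideal.Quotient.mk_surjective a
          exact u.commutes a }
    obtain ⟨w, hw⟩ := h k C J hJ ⟨1, by simp⟩ u' ⟨m, fun x hx => by
      rw [← Ideal.map_pow] at hx
      obtain ⟨y, hy, rfl⟩ := (Ideal.mem_map_iff_of_surjective _ Ideal.Quotient.mk_surjective).mp hx
      exact hm y hy⟩
    refine ⟨{ w.toRingHom.comp (Ideal.Quotient.mk _) with commutes' := fun a => ?_ }, ?_⟩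
    · exact w.commutes (Ideal.Quotient.mk _ a)
    · ext b
      exact AlgHom.congr_fun hw (Ideal.Quotient.mk _ b)

end Groth.Agent.S4536
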