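import Groth.Statements.S4544
import Mathlib.Algebra.TrivSqZeroExt.Basic
import Mathlib.RingTheory.Kaehler.Basic
import Mathlib.Algebra.Module.Projective

set_option autoImplicit false
universe u
open EGA41 TensorProduct

namespace Groth.Agent.S4544

open TensorProduct in
/-- Let B (𝔟-adic) be a formally smooth topological A-algebra over A (𝔞-adic), the structure map being
continuous (a power of 𝔞 maps into 𝔟); squares of open ideals of B are then open. For every open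
ideal 𝔄 of B (an ideal containing a power of 𝔟), Ω_{B/A} ⊗_B (B/𝔄) = Ω_{B/A}/𝔄Ω_{B/A} is a
projective (B/𝔄)-module. -/
theorem result {A B : Type u} [CommRing A] [CommRing B] [Algebra A B]
    (𝔞 : Ideal A) (𝔟 : Ideal B) (hAB : ∃ k : ℕ, (𝔞 ^ k).map (algebraMap A B) ≤ 𝔟)
    (h : EGA41.IsFormallySmoothAdic A 𝔞 B 𝔟) (𝔄 : Ideal B) (h𝔄 : ∃ n : ℕ, 𝔟 ^ n ≤ 𝔄) :
    Module.Projective (B ⧸ 𝔄) ((B ⧸ 𝔄) ⊗[B] Ω[B⁄A]) := by
  obtain ⟨ka, hka⟩ := hAB
  obtain ⟨n, hn⟩ := h𝔄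
  refine Module.Projective.of_lifting_property'' ?_
  intro f hf
  let F : TrivSqZeroExt (B ⧸ 𝔄) (((B ⧸ 𝔄) ⊗[B] Ω[B⁄A]) →₀ (B ⧸ 𝔄)) →ₐ[A] TrivSqZeroExt (B ⧸ 𝔄) ((B ⧸ 𝔄) ⊗[B] Ω[B⁄A]) :=
    (TrivSqZeroExt.map f).restrictScalars A
  have hF : Function.Surjective F := fun x => by
    obtain ⟨y, hy⟩ := hf x.snd
    exact ⟨TrivSqZeroExt.inl x.fst + TrivSqZeroExt.inr y, TrivSqZeroExt.ext (by simp [F]) (by simp [F, hy])⟩
  let C := TrivSqZeroExt (B ⧸ 𝔄) (((B ⧸ 𝔄) ⊗[B] Ω[B⁄A]) →₀ (B ⧸ 𝔄))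
  let d : Derivation A B ((B ⧸ 𝔄) ⊗[B] Ω[B⁄A]) := ((TensorProduct.mk B (B ⧸ 𝔄) Ω[B⁄A] 1)).compDer (KaehlerDifferential.D A B)
  let u₀ : B →ₐ[A] TrivSqZeroExt (B ⧸ 𝔄) ((B ⧸ 𝔄) ⊗[B] Ω[B⁄A]) :=
    AlgHom.ofLinearMap
      { toFun := fun b => TrivSqZeroExt.inl (Ideal.Quotient.mk 𝔄 b) + TrivSqZeroExt.inr (d b)
        map_add' := fun a b => by ext <;> simp <;> abel
        map_smul' := fun a b => by
          ext
          · simp only [TrivSqZeroExt.fst_add, TrivSqZeroExt.fst_inl, TrivSqZeroExt.fst_inr, add_zero,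
              TrivSqZeroExt.fst_smul, RingHom.id_apply]
            exact map_smul (Ideal.Quotient.mkₐ A 𝔄) a b
          · simp }
      (by show TrivSqZeroExt.inl _ + TrivSqZeroExt.inr _ = (1 : TrivSqZeroExt (B ⧸ 𝔄) ((B ⧸ 𝔄) ⊗[B] Ω[B⁄A])); ext <;> simp)
      (fun a b => by
        show TrivSqZeroExt.inl _ + TrivSqZeroExt.inr _ = (_ : TrivSqZeroExt (B ⧸ 𝔄) ((B ⧸ 𝔄) ⊗[B] Ω[B⁄A])) * _
        ext
        · simp
        · simp [op_smul_eq_smul]
          rw [← Ideal.Quotient.algebraMap_eq, algebraMap_smul, algebraMap_smul])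
  have hker : RingHom.ker F.toRingHom ^ 2 = ⊥ := by
    rw [pow_two, eq_bot_iff, Ideal.mul_le]
    intro x hx y hy
    have hx' : x.fst = 0 := by
      have := congrArg TrivSqZeroExt.fst (RingHom.mem_ker.mp hx)
      simpa [F] using this
    have hy' : y.fst = 0 := by
      have := congrArg TrivSqZeroExt.fst (RingHom.mem_ker.mp hy)
      simpa [F] using this
    show x * y = 0
    ext <;> simp [hx', hy']
  let e : (C ⧸ RingHom.ker F.toRingHom) ≃ₐ[A] TrivSqZeroExt (B ⧸ 𝔄) ((B ⧸ 𝔄) ⊗[B] Ω[B⁄A]) :=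
    Ideal.quotientKerAlgEquivOfSurjective hF
  have hC : (𝔞 ^ (ka * n)).map (algebraMap A C) = ⊥ := by
    rw [eq_bot_iff, Ideal.map_le_iff_le_comap]
    intro a ha
    have h1 : algebraMap A B a ∈ 𝔄 := by
      refine hn (Ideal.pow_right_mono hka n ?_)
      rw [← Ideal.map_pow, ← pow_mul]
      exact Ideal.mem_map_of_mem _ ha
    show algebraMap A C a ∈ (⊥ : Ideal C)
    rw [Submodule.mem_bot, TrivSqZeroExt.algebraMap_eq_inl', IsScalarTower.algebraMap_apply A B (B ⧸ 𝔄),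
      Ideal.Quotient.algebraMap_eq, Ideal.Quotient.eq_zero_iff_mem.mpr h1, TrivSqZeroExt.inl_zero]
  obtain ⟨v, hv⟩ := h C _ ⟨2, hker⟩ ⟨_, hC⟩ (e.symm.toAlgHom.comp u₀) ⟨n + n, fun x hx => by
    suffices u₀ x = 0 by
      show e.symm (u₀ x) = 0
      rw [this, map_zero]
    rw [pow_add] at hx
    induction hx using Submodule.mul_induction_on' with
    | mem_mul_mem a ha b hb =>
      have ha' : (Ideal.Quotient.mk 𝔄 a) = 0 := Ideal.Quotient.eq_zero_iff_mem.mpr (hn ha)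
      have hb' : (Ideal.Quotient.mk 𝔄 b) = 0 := Ideal.Quotient.eq_zero_iff_mem.mpr (hn hb)
      rw [map_mul]
      show (TrivSqZeroExt.inl _ + TrivSqZeroExt.inr _) * (TrivSqZeroExt.inl _ + TrivSqZeroExt.inr _) = (0 : TrivSqZeroExt (B ⧸ 𝔄) ((B ⧸ 𝔄) ⊗[B] Ω[B⁄A]))
      ext <;> simp [ha', hb']
    | add a _ b _ hy hz => rw [map_add, hy, hz, add_zero]⟩
  have hFv : ∀ b, F (v b) = u₀ b := fun b => by
    have h1 : Ideal.Quotient.mk _ (v b) = e.symm (u₀ b) := AlgHom.congr_fun hv b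
    have h2 := congrArg e h1
    rw [AlgEquiv.apply_symm_apply] at h2
    exact h2
  have hfst : ∀ b, (v b).fst = Ideal.Quotient.mk 𝔄 b := fun b => by
    have := congrArg TrivSqZeroExt.fst (hFv b)
    simpa [F, u₀] using this
  let : Module B (((B ⧸ 𝔄) ⊗[B] Ω[B⁄A]) →₀ (B ⧸ 𝔄)) := inferInstance
  let D : Derivation A B (((B ⧸ 𝔄) ⊗[B] Ω[B⁄A]) →₀ (B ⧸ 𝔄)) := Derivation.mk'
    { toFun := fun b => (v b).snd
      map_add' := fun a b => by rw [map_add]; rfl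
      map_smul' := fun a b => by rw [map_smul]; rfl }
    (fun a b => by
      show (v (a * b)).snd = a • (v b).snd + b • (v a).snd
      rw [map_mul, TrivSqZeroExt.snd_mul, hfst, hfst, op_smul_eq_smul, ← Ideal.Quotient.algebraMap_eq,
        algebraMap_smul, algebraMap_smul])
  refine ⟨D.liftKaehlerDifferential.liftBaseChange (B ⧸ 𝔄), ?_⟩
  apply TensorProduct.AlgebraTensorModule.curry_injective
  apply LinearMap.ext_ring
  apply Derivation.liftKaehlerDifferential_unique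
  ext b
  have := congrArg TrivSqZeroExt.snd (hFv b)
  simpa [F, u₀, d, D] using this

end Groth.Agent.S4544
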