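import Groth.Statements.S4543
import Groth.Agent.CAlg4.NilSurj
import Groth.Agent.FSAdic12.LiftComplete
import Mathlib.RingTheory.AdicCompletion.Functoriality
import Mathlib.RingTheory.Filtration

set_option autoImplicit false
universe u
open EGA41 TensorProduct IsLocalRing

namespace Groth.Agent.S4543

open IsLocalRing in
/-- Let A be a Noetherian ring, J an ideal of A, B and B' two A-algebras which are Noetherian local
rings, the structure maps being continuous for the J-adic topology on A (JB and JB' lie in the
maximal ideals); suppose B and B' are complete for the J-adic topologies, B is a formally smooth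
A-algebra for the J-adic topology on A and the JB-adic topology on B (nilpotent test ideals, test
algebras killed by a power of J, test maps killing a power of JB), and B' is a flat A-module. Then
every (A/J)-algebra isomorphism u₀ : B/JB ≅ B'/JB' comes from an A-algebra isomorphism u : B ≅ B' by
passing to quotients. (B is taken formally smooth for the JB-adic topology, the topology along which
the argument lifts B → B'/JB' to B'; read with the convention that a local ring carries the adic
topology of its maximal ideal, the published hypothesis would be formal smoothness for the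
maximal-ideal topology on B, a weaker condition when JB is strictly smaller than the maximal ideal,
and that reading is not what the argument establishes.) -/
theorem result {A B B' : Type u} [CommRing A] [IsNoetherianRing A] (J : Ideal A)
    [CommRing B] [IsLocalRing B] [IsNoetherianRing B] [Algebra A B]
    [CommRing B'] [IsLocalRing B'] [IsNoetherianRing B'] [Algebra A B']
    (hB : J.map (algebraMap A B) ≤ maximalIdeal B) (hB' : J.map (algebraMap A B') ≤ maximalIdeal B')
    [IsAdicComplete (J.map (algebraMap A B)) B] [IsAdicComplete (J.map (algebraMap A B')) B']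
    (hfs : EGA41.IsFormallySmoothAdic A J B (J.map (algebraMap A B))) [Module.Flat A B']
    (u₀ : (B ⧸ J.map (algebraMap A B)) ≃ₐ[A ⧸ J] (B' ⧸ J.map (algebraMap A B'))) :
    ∃ u : B ≃ₐ[A] B', ∀ b : B,
      Ideal.Quotient.mk (J.map (algebraMap A B')) (u b) = u₀ (Ideal.Quotient.mk (J.map (algebraMap A B)) b) := by
  set 𝔟 := J.map (algebraMap A B)
  set 𝔠 := J.map (algebraMap A B')
  let w : B →ₐ[A] B' ⧸ 𝔠 := (u₀.toAlgHom.restrictScalars A).comp (Ideal.Quotient.mkₐ A 𝔟)
  have : IsHausdorff (𝔠.map (Ideal.Quotient.mk 𝔠)) (B' ⧸ 𝔠) := by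
    rw [Ideal.map_quotient_self]; infer_instance
  obtain ⟨v, -, hv⟩ := Groth.Agent.FSAdic12.lift_to_complete J 𝔟 𝔠 hfs ⟨1, by rw [pow_one]⟩ 𝔠 ⟨1, by rw [pow_one]⟩ w
    ⟨1, by
      rw [pow_one, Ideal.map_quotient_self, le_bot_iff, Ideal.map_eq_bot_iff_le_ker]
      intro x hx
      show u₀ (Ideal.Quotient.mk 𝔟 x) = 0
      rw [Ideal.Quotient.eq_zero_iff_mem.mpr hx, map_zero]⟩
  have hv' : ∀ b, Ideal.Quotient.mk 𝔠 (v b) = u₀ (Ideal.Quotient.mk 𝔟 b) := fun b => AlgHom.congr_fun hv b
  have hmap : 𝔟.map v.toRingHom = 𝔠 := by
    rw [Ideal.map_map]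
    exact congrArg (fun φ => Ideal.map φ J) (RingHom.ext fun a => v.commutes a)
  have hsurj : Function.Surjective v := by
    have : IsHausdorff (𝔟.map v.toRingHom) B' := by rw [hmap]; infer_instance
    refine surjective_of_mk_map_comp_surjective (I := 𝔟) (f := v.toRingHom) ?_
    intro y
    obtain ⟨y, rfl⟩ := Ideal.Quotient.mk_surjective y
    obtain ⟨x, hx⟩ := u₀.surjective (Ideal.Quotient.mk 𝔠 y)
    obtain ⟨x, rfl⟩ := Ideal.Quotient.mk_surjective x
    refine ⟨x, ?_⟩
    show Ideal.Quotient.mk _ (v x) = Ideal.Quotient.mk _ y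
    rw [Ideal.Quotient.eq, hmap, ← Ideal.Quotient.eq, hv', hx]
  have hinj : Function.Injective v := by
    have hK : RingHom.ker v.toRingHom ≤ 𝔟 • RingHom.ker v.toRingHom := by
      intro x hx
      have hxb : x ∈ 𝔟 := by
        rw [← Ideal.Quotient.eq_zero_iff_mem]
        apply u₀.injective
        rw [← hv', map_zero, show v x = 0 from hx, map_zero]
      have h1 := Groth.Agent.CAlg4.NilSurj.inf_smul_le J v.toLinearMap hsurj (x := x) ⟨by
        rw [Ideal.smul_top_eq_map]; exact hxb, hx⟩
      refine Submodule.smul_induction_on h1 (fun a ha m hm => ?_) (fun _ _ => add_mem)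
      rw [← IsScalarTower.algebraMap_smul B a m]
      exact Submodule.smul_mem_smul (Ideal.mem_map_of_mem _ ha) hm
    have := Submodule.eq_bot_of_le_smul_of_le_jacobson_bot 𝔟 (RingHom.ker v.toRingHom)
      (IsNoetherian.noetherian _) hK (hB.trans (IsLocalRing.maximalIdeal_le_jacobson _))
    exact (RingHom.injective_iff_ker_eq_bot v.toRingHom).mpr this
  exact ⟨AlgEquiv.ofBijective v ⟨hinj, hsurj⟩, hv'⟩

end Groth.Agent.S4543
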