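import Groth.Statements.S4545
import Groth.Agent.Sep12.Admissible
import Groth.Agent.Sep12.Index

set_option autoImplicit false
universe u
open EGA41 TensorProduct KaehlerDifferential

namespace Groth.Agent.S4545

open TensorProduct in
/-- Let K be a field of characteristic p > 0, k₀ a subfield and (k_α) a decreasing filtered family of
subfields of K containing k₀. Then ⋂_α k_α(K^p) = k₀(K^p) if and only if for every extension L of K
such that Υ_{L/K/k₀} has finite rank over L there is an α with k_α admissible for L over K relative
to k₀, i.e. with Υ_{L/K/k₀} → Υ_{L/K/k_α} injective. (The published statement has two further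
equivalent conditions; this row states (a) ⇔ (b).) -/
theorem result (p : ℕ) [Fact p.Prime] {k₀ K : Type u}
    [Field k₀] [Field K] [Algebra k₀ K] [CharP K p]
    {ι : Type u} [Preorder ι] [IsDirected ι (· ≤ ·)] [Nonempty ι] (k : ι → IntermediateField k₀ K) (hk : Antitone k) :
    (⨅ i, k i ⊔ IntermediateField.adjoin k₀ (Set.range fun y : K => y ^ p)) =
        IntermediateField.adjoin k₀ (Set.range fun y : K => y ^ p) ↔
      ∀ (L : Type u) [Field L] [Algebra K L] [Algebra k₀ L] [IsScalarTower k₀ K L],
        Module.Finite L (EGA41.imperfection k₀ K L) →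
          ∃ i, ∀ ω ∈ EGA41.imperfection k₀ K L,
            ((KaehlerDifferential.map k₀ (k i) K K).restrictScalars K).baseChange L ω = 0 → ω = 0 := by
  constructor
  · intro h L _ _ _ _ hfin
    exact Groth.Agent.Sep12.exists_forall_eq_zero k hk h (EGA41.imperfection k₀ K L)
  · intro H
    refine le_antisymm (fun x hx => ?_) (le_iInf fun i => le_sup_right)
    by_contra hx'
    have hroot : ∀ b : K, b ^ p ≠ x := fun b hb =>
      hx' (IntermediateField.subset_adjoin _ _ ⟨b, hb⟩)
    have : Fact (Irreducible (Polynomial.X ^ p - Polynomial.C x)) :=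
      ⟨X_pow_sub_C_irreducible_of_prime (Fact.out : p.Prime) hroot⟩
    let f := Polynomial.X ^ p - Polynomial.C x
    let L := AdjoinRoot f
    have hne : f ≠ 0 := Polynomial.X_pow_sub_C_ne_zero (Fact.out : p.Prime).pos x
    have : Module.Finite K L := (AdjoinRoot.powerBasis hne).finite
    have : Algebra.EssFiniteType K L := inferInstance
    have : CharP L p := charP_of_injective_algebraMap (algebraMap K L).injective p
    obtain ⟨_, -, -⟩ := Groth.Agent.Sep12.cartier (k := K) (K := L)
    have hfin : Module.Finite L (EGA41.imperfection k₀ K L) := by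
      have h : EGA41.imperfection k₀ K L = LinearMap.range (Algebra.H1Cotangent.δ k₀ K L) :=
        (Algebra.H1Cotangent.exact_δ_mapBaseChange k₀ K L).linearMap_ker_eq
      rw [h]
      infer_instance
    obtain ⟨i, hi⟩ := H L hfin
    let w : L ⊗[K] Ω[K⁄k₀] := (1 : L) ⊗ₜ[K] D k₀ K x
    have hw : w ∈ EGA41.imperfection k₀ K L := by
      show mapBaseChange k₀ K L w = 0
      have hroot : (AdjoinRoot.root f) ^ p = algebraMap K L x := by
        rw [AdjoinRoot.algebraMap_eq]
        have h0 := AdjoinRoot.eval₂_root f
        simpa [f, sub_eq_zero] using h0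
      simp only [w, mapBaseChange_tmul, one_smul, map_D]
      rw [← hroot, Derivation.leibniz_pow, ← Nat.cast_smul_eq_nsmul L, CharP.cast_eq_zero, zero_smul]
    have hz := hi w hw (by
      have : D (k i) K x = 0 := by
        refine Groth.Agent.PBasis12.D_pPower_eq_zero (p := p) ?_
        rw [Groth.Agent.Sep12.mem_pPower_iff]
        rw [← SetLike.mem_coe, IntermediateField.coe_iInf, Set.mem_iInter] at hx
        exact hx i
      simp [w, this])
    refine (Groth.Agent.Sep12.notMem_powField_iff x).mp hx' ?_
    apply Module.Flat.tensorProduct_mk_injective (R := K) (S := L) (M := Ω[K⁄k₀])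
    simpa [w] using hz

end Groth.Agent.S4545
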