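import Groth.Statements.S4546
import Groth.Agent.Sep12.Admissible

set_option autoImplicit false
universe u
open EGA41 TensorProduct KaehlerDifferential

namespace Groth.Agent.S4546

/-- Let K be a field of characteristic p > 0, k₀ a subfield, (k_α) a decreasing filtered family of
subfields of K containing k₀ with ⋂_α k_α(K^p) = k₀(K^p). Then for every extension L of K such that
Υ_{L/K/k₀} has finite rank over L, one has ⋂_α k_α(L^p) = k₀(L^p) (the k_α being viewed inside L). -/
theorem result (p : ℕ) [Fact p.Prime] {k₀ K L : Type u}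
    [Field k₀] [Field K] [Field L] [Algebra k₀ K] [Algebra K L] [Algebra k₀ L] [IsScalarTower k₀ K L] [CharP K p] [CharP L p]
    {ι : Type u} [Preorder ι] [IsDirected ι (· ≤ ·)] [Nonempty ι] (k : ι → IntermediateField k₀ K) (hk : Antitone k)
    (h : (⨅ i, k i ⊔ IntermediateField.adjoin k₀ (Set.range fun y : K => y ^ p)) =
      IntermediateField.adjoin k₀ (Set.range fun y : K => y ^ p))
    [Module.Finite L (EGA41.imperfection k₀ K L)] :
    (⨅ i, (k i).map (IsScalarTower.toAlgHom k₀ K L) ⊔ IntermediateField.adjoin k₀ (Set.range fun y : L => y ^ p)) =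
      IntermediateField.adjoin k₀ (Set.range fun y : L => y ^ p) := by
  classical
  let F : ι → IntermediateField k₀ L := fun i => (k i).map (IsScalarTower.toAlgHom k₀ K L)
  have hF : Antitone F := fun i j hij => IntermediateField.map_mono _ (hk hij)
  show (⨅ i, F i ⊔ _) = _
  refine le_antisymm (fun x hx => ?_) (le_iInf fun i => le_sup_right)
  by_contra hx'
  refine (Groth.Agent.Sep12.notMem_powField_iff x).mp hx' ?_
  set ω := D k₀ L x
  let V : ι → Submodule L (L ⊗[K] Ω[K⁄k₀]) := fun i =>
    Submodule.span L ((fun y : K => (1 : L) ⊗ₜ[K] D k₀ K y) '' (k i))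
  have hV : ∀ i j, i ≤ j → V j ≤ V i := fun i j hij =>
    Submodule.span_mono (Set.image_mono (hk hij))
  -- `ω` comes from every `V i`
  have hη : ∀ i, ∃ η ∈ V i, mapBaseChange k₀ K L η = ω := by
    intro i
    have h0 : ((KaehlerDifferential.map k₀ (F i) L L).restrictScalars L).baseChange L ((1 : L) ⊗ₜ[L] ω) = 0 := by
      have : D (F i) L x = 0 := by
        refine Groth.Agent.PBasis12.D_pPower_eq_zero (p := p) ?_
        rw [Groth.Agent.Sep12.mem_pPower_iff]
        rw [← SetLike.mem_coe, IntermediateField.coe_iInf, Set.mem_iInter] at hx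
        exact hx i
      simp [ω, this]
    rw [Groth.Agent.Sep12.map_baseChange_eq_zero_iff] at h0
    have h1 : ω ∈ Submodule.span L ((D k₀ L) '' (F i : Set L)) := by
      have h2 := Submodule.mem_map_of_mem (f := (TensorProduct.lid L Ω[L⁄k₀]).toLinearMap) h0
      rw [Submodule.map_span, ← Set.image_comp] at h2
      simpa [Function.comp_def] using h2
    have h3 : Submodule.span L ((D k₀ L) '' (F i : Set L)) ≤ (V i).map (mapBaseChange k₀ K L) := by
      rw [Submodule.span_le]
      rintro _ ⟨_, ⟨y, hy, rfl⟩, rfl⟩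
      exact ⟨_, Submodule.subset_span ⟨y, hy, rfl⟩, by simp⟩
    exact h3 h1
  choose η hη hηω using hη
  obtain ⟨i₀, hi₀⟩ := Groth.Agent.Sep12.exists_forall_eq_zero k hk h (EGA41.imperfection k₀ K L)
  obtain ⟨i₁, hi₁⟩ := Groth.Agent.Sep12.exists_forall_eq_zero k hk h (L := L) (Submodule.span L {η i₀})
  obtain ⟨l, hl0, hl1⟩ := exists_ge_ge i₀ i₁
  have hd : η l - η i₀ ∈ V i₀ := sub_mem (hV _ _ hl0 (hη l)) (hη i₀)
  have he : η l = η i₀ := by
    rw [← sub_eq_zero]
    refine hi₀ _ ?_ ((Groth.Agent.Sep12.map_baseChange_eq_zero_iff (k i₀) _).mpr hd)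
    show mapBaseChange k₀ K L _ = 0
    rw [map_sub, hηω, hηω, sub_self]
  have hz : η i₀ = 0 := hi₁ _ (Submodule.mem_span_singleton_self _)
    ((Groth.Agent.Sep12.map_baseChange_eq_zero_iff (k i₁) _).mpr (he ▸ hV _ _ hl1 (hη l)))
  rw [← hηω i₀, hz, map_zero]

end Groth.Agent.S4546
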