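import Groth.Statements.S4547
import Groth.Agent.FSAdic12.LeftInv
import Groth.Agent.FSAdic12.LiftComplete
import Mathlib.RingTheory.AdicCompletion.Noetherian
import Mathlib.RingTheory.AdicCompletion.Basic
import Mathlib.RingTheory.Derivation.ToSquareZero
import Mathlib.RingTheory.Kaehler.Basic
import Mathlib.Algebra.TrivSqZeroExt.Basic
import Mathlib.LinearAlgebra.TensorProduct.Pi
import Groth.Prelude.Def_FSRel

set_option autoImplicit false
set_option linter.all false
universe u
open EGA41 TensorProduct

namespace Groth.Agent.S4547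

open IsLocalRing TensorProduct in
/-- Let A be a local ring with residue field k, M an A-module of finite type, N a projective A-module
and u : M → N a homomorphism. Then u is left invertible if and only if there is a finite system of
generators (x_i) of M such that the elements 1 ⊗ u(x_i) of k ⊗_A N are linearly independent over k;
and such a system (x_i) is then a basis of M. -/
theorem result {A : Type u} [CommRing A] [IsLocalRing A] {M N : Type u}
    [AddCommGroup M] [Module A M] [Module.Finite A M] [AddCommGroup N] [Module A N] [Module.Projective A N]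
    (u : M →ₗ[A] N) :
    ((∃ w : N →ₗ[A] M, w ∘ₗ u = LinearMap.id) ↔
      ∃ (m : ℕ) (x : Fin m → M), Submodule.span A (Set.range x) = ⊤ ∧
        LinearIndependent (ResidueField A) (fun i => (1 : ResidueField A) ⊗ₜ[A] u (x i))) ∧
    ∀ (m : ℕ) (x : Fin m → M), Submodule.span A (Set.range x) = ⊤ →
      LinearIndependent (ResidueField A) (fun i => (1 : ResidueField A) ⊗ₜ[A] u (x i)) →
        ∃ b : Module.Basis (Fin m) A M, ∀ i, b i = x i := by
  classical
  set k := ResidueField A
  set 𝔪 := maximalIdeal A
  have main : ∀ (m : ℕ) (x : Fin m → M), Submodule.span A (Set.range x) = ⊤ →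
      LinearIndependent k (fun i => (1 : k) ⊗ₜ[A] u (x i)) →
      (∃ w : N →ₗ[A] M, w ∘ₗ u = LinearMap.id) ∧ ∃ b : Module.Basis (Fin m) A M, ∀ i, b i = x i := by
    intro m x hx hli
    let π : (Fin m → A) →ₗ[A] M := Fintype.linearCombination A x
    have hπ : Function.Surjective π := by
      rw [← LinearMap.range_eq_top, Fintype.range_linearCombination, hx]
    obtain ⟨g, hg⟩ := (Fintype.linearCombination k (fun i => (1 : k) ⊗ₜ[A] u (x i))).exists_leftInverse_of_injective
      (LinearMap.ker_eq_bot.mpr hli.fintypeLinearCombination_injective)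
    let q : (Fin m → A) →ₗ[A] (Fin m → k) := (Algebra.linearMap A k).compLeft (Fin m)
    have hq : Function.Surjective q := fun y => by
      choose a ha using fun i => IsLocalRing.residue_surjective (y i)
      exact ⟨a, funext fun i => ha i⟩
    obtain ⟨w, hw⟩ := Module.projective_lifting_property q
      ((g.restrictScalars A) ∘ₗ TensorProduct.mk A k N 1) hq
    let φ : (Fin m → A) →ₗ[A] (Fin m → A) := w ∘ₗ u ∘ₗ π
    have hφ : ∀ a, φ a - a ∈ (𝔪 • ⊤ : Submodule A (Fin m → A)) := by
      intro a
      have h1 : q (φ a) = q a := by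
        show q (w (u (π a))) = _
        rw [← LinearMap.comp_apply q w, hw]
        have : (1 : k) ⊗ₜ[A] u (π a) =
            Fintype.linearCombination k (fun i => (1 : k) ⊗ₜ[A] u (x i)) (q a) := by
          simp only [π, Fintype.linearCombination_apply, map_sum, map_smul, TensorProduct.tmul_sum]
          refine Finset.sum_congr rfl fun i _ => ?_
          show (1 : k) ⊗ₜ[A] (a i • u (x i)) = algebraMap A k (a i) • ((1 : k) ⊗ₜ[A] u (x i))
          rw [algebraMap_smul, TensorProduct.tmul_smul]
        show g ((1 : k) ⊗ₜ[A] u (π a)) = q a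
        rw [this]
        exact LinearMap.congr_fun hg (q a)
      have h2 : ∀ i, (φ a - a) i ∈ 𝔪 := by
        intro i
        rw [← IsLocalRing.residue_eq_zero_iff]
        have := congrFun h1 i
        show IsLocalRing.residue A (φ a i - a i) = 0
        rw [map_sub, sub_eq_zero]
        exact this
      rw [pi_eq_sum_univ' (φ a - a)]
      exact Submodule.sum_mem _ fun i _ => Submodule.smul_mem_smul (h2 i) trivial
    have hsurj : Function.Surjective φ := by
      rw [← LinearMap.range_eq_top, eq_top_iff]
      refine Submodule.le_of_le_smul_of_le_jacobson_bot Module.Finite.fg_top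
        (IsLocalRing.jacobson_eq_maximalIdeal (⊥ : Ideal A) bot_ne_top).ge ?_
      intro a _
      rw [show a = φ a - (φ a - a) by abel]
      exact Submodule.sub_mem _ (Submodule.mem_sup_left ⟨a, rfl⟩) (Submodule.mem_sup_right (hφ a))
    have hbij : Function.Bijective φ := ⟨OrzechProperty.injective_of_surjective_endomorphism φ hsurj, hsurj⟩
    have hπi : Function.Injective π := by
      intro a b hab
      exact hbij.1 (show w (u (π a)) = w (u (π b)) by rw [hab])
    refine ⟨⟨π ∘ₗ (LinearEquiv.ofBijective φ hbij).symm.toLinearMap ∘ₗ w, LinearMap.ext fun y => ?_⟩,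
      (Pi.basisFun A (Fin m)).map (LinearEquiv.ofBijective π ⟨hπi, hπ⟩), fun i => ?_⟩
    · obtain ⟨a, rfl⟩ := hπ y
      show π ((LinearEquiv.ofBijective φ hbij).symm (φ a)) = π a
      exact congrArg π ((LinearEquiv.ofBijective φ hbij).symm_apply_apply a)
    · rw [Module.Basis.map_apply, Pi.basisFun_apply]
      show Fintype.linearCombination A x (Pi.single i 1) = x i
      rw [Fintype.linearCombination_apply_single, one_smul]
  refine ⟨⟨fun ⟨w, hw⟩ => ?_, fun ⟨m, x, hx, hli⟩ => (main m x hx hli).1⟩, fun m x hx hli => (main m x hx hli).2⟩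
  obtain ⟨n, s, hs⟩ := Module.Finite.exists_fin (R := A) (M := M)
  obtain ⟨κ, a, ha, hspan, hli⟩ := exists_linearIndependent' k (fun i => (1 : k) ⊗ₜ[A] s i)
  have : Fintype κ := Fintype.ofInjective a ha
  let e := Fintype.equivFin κ
  refine ⟨Fintype.card κ, s ∘ a ∘ e.symm, ?_, ?_⟩
  · rw [← IsLocalRing.map_tensorProduct_mk_eq_top]
    have h1 : Submodule.span k (Set.range fun i => (1 : k) ⊗ₜ[A] s i) = ⊤ := by
      have := congrArg (Submodule.baseChange k) hs
      rwa [Submodule.baseChange_span, Submodule.baseChange_top, ← Set.range_comp] at this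
    rw [h1] at hspan
    rw [Submodule.map_span, ← Set.range_comp, ← top_le_iff]
    intro z _
    have hz : z ∈ Submodule.span k (Set.range ((fun i => (1 : k) ⊗ₜ[A] s i) ∘ a)) := by
      rw [hspan]; trivial
    rw [show (TensorProduct.mk A k M 1) ∘ s ∘ a ∘ e.symm =
      ((fun i => (1 : k) ⊗ₜ[A] s i) ∘ a) ∘ e.symm from rfl, e.symm.surjective.range_comp,
      ← Submodule.restrictScalars_span A k IsLocalRing.residue_surjective]
    exact hz
  · have h2 : Function.Injective (u.baseChange k) :=
      Function.LeftInverse.injective (g := w.baseChange k) fun z => by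
        rw [← LinearMap.comp_apply, ← LinearMap.baseChange_comp, hw, LinearMap.baseChange_id, LinearMap.id_apply]
    exact (hli.map' (u.baseChange k) (LinearMap.ker_eq_bot.mpr h2)).comp e.symm e.symm.injective

end Groth.Agent.S4547
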