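import Groth.Statements.S4550
import Mathlib


set_option autoImplicit false
universe u
open EGA41

namespace Groth.Agent.S4550

/-- Let k be a field, (k_α) a decreasing filtered family of subfields of k with intersection k₀, and
suppose there is a power q of the characteristic exponent of k with k^q ⊆ k₀. Then, inside k((T_1,
…, T_r)), one has ⋂_α k_α((T_1, …, T_r)) = k₀((T_1, …, T_r)); here F((T)) is the subfield of the
fraction field of k[[T]] generated by the power series with all coefficients in F. -/
theorem result {k : Type u} [Field k] {ι : Type u} [Nonempty ι] (F : ι → Subfield k)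
    (hdir : ∀ a b : ι, ∃ c, F c ≤ F a ⊓ F b) (e : ℕ) (hq : ∀ x : k, x ^ ringExpChar k ^ e ∈ ⨅ i, F i) (r : ℕ) :
    (⨅ i, Subfield.closure (algebraMap (MvPowerSeries (Fin r) k) (FractionRing (MvPowerSeries (Fin r) k)) ''
        {f | ∀ n, MvPowerSeries.coeff n f ∈ F i})) =
      Subfield.closure (algebraMap (MvPowerSeries (Fin r) k) (FractionRing (MvPowerSeries (Fin r) k)) ''
        {f | ∀ n, MvPowerSeries.coeff n f ∈ ⨅ i, F i}) := by
  classical
  let S := MvPowerSeries (Fin r) k
  let L := FractionRing S
  let R : Subfield k → Subring S := fun G =>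
    { carrier := {f | ∀ n, MvPowerSeries.coeff n f ∈ G}
      zero_mem' := fun n => by rw [map_zero]; exact zero_mem _
      one_mem' := fun n => by
        rw [MvPowerSeries.coeff_one]
        split_ifs
        · exact one_mem _
        · exact zero_mem _
      add_mem' := fun ha hb n => by rw [map_add]; exact add_mem (ha n) (hb n)
      neg_mem' := fun ha n => by rw [map_neg]; exact neg_mem (ha n)
      mul_mem' := fun ha hb n => by
        rw [MvPowerSeries.coeff_mul]
        exact sum_mem fun i _ => mul_mem (ha _) (hb _) }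
  have hcl : ∀ G : Subfield k, ∀ x ∈ Subfield.closure (algebraMap S L '' (R G : Set S)),
      ∃ f ∈ R G, ∃ g ∈ R G, algebraMap S L f / algebraMap S L g = x := fun G x hx => by
    obtain ⟨y, hy, z, hz, rfl⟩ := Subfield.mem_closure_iff.mp hx
    rw [← Subring.coe_map, Subring.closure_eq, Subring.mem_map] at hy hz
    obtain ⟨f, hf, rfl⟩ := hy
    obtain ⟨g, hg, rfl⟩ := hz
    exact ⟨f, hf, g, hg, rfl⟩
  refine le_antisymm (fun x hx => ?_) (le_iInf fun i => ?_)
  swap
  · refine Subfield.closure_mono (Set.image_mono ?_)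
    exact fun f hf n => iInf_le F i (hf n)
  rw [Subfield.mem_iInf] at hx
  obtain ⟨i₀⟩ := ‹Nonempty ι›
  obtain ⟨f, -, g, -, rfl⟩ := hcl (F i₀) x (hx i₀)
  rcases eq_or_ne g 0 with rfl | hg
  · rw [map_zero, div_zero]; exact zero_mem _
  set q := ringExpChar k ^ e with hq'
  -- `g ^ q` has coefficients in the intersection
  have hgq : g ^ q ∈ R (⨅ i, F i) := fun n => by
    rw [← MvPowerSeries.map_iterateFrobenius_expand (ringExpChar k) (expChar_ne_zero k _) g e,
      MvPowerSeries.coeff_map, iterateFrobenius_def]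
    exact hq _
  have hq1 : 1 ≤ q := Nat.one_le_pow _ _ (Nat.pos_of_ne_zero (expChar_ne_zero k (ringExpChar k)))
  have hg0 : algebraMap S L g ≠ 0 := fun h => hg (IsFractionRing.injective S L (h.trans (map_zero _).symm))
  have hxq : algebraMap S L f / algebraMap S L g =
      algebraMap S L (f * g ^ (q - 1)) / algebraMap S L (g ^ q) := by
    rw [map_mul, map_pow, map_pow, div_eq_div_iff hg0 (pow_ne_zero _ hg0), mul_assoc, ← pow_succ,
      Nat.sub_add_cancel hq1]
  rw [hxq] at hx ⊢
  refine div_mem (Subfield.subset_closure ⟨_, fun n => ?_, rfl⟩) (Subfield.subset_closure ⟨_, hgq, rfl⟩)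
  rw [Subfield.mem_iInf]
  intro i
  -- the numerator lies in `k_i((T))`, hence in `k_i[[T]]`
  have hgqi : g ^ q ∈ R (F i) := fun n => iInf_le F i (hgq n)
  have hh : algebraMap S L (f * g ^ (q - 1)) ∈ Subfield.closure (algebraMap S L '' (R (F i) : Set S)) := by
    have h := mul_mem (hx i) (Subfield.subset_closure ⟨_, hgqi, rfl⟩ :
      algebraMap S L (g ^ q) ∈ Subfield.closure (algebraMap S L '' (R (F i) : Set S)))
    rwa [div_mul_cancel₀ _ (by rw [map_pow]; exact pow_ne_zero _ hg0)] at h
  generalize f * g ^ (q - 1) = h at hh ⊢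
  obtain ⟨a, ha, b, hb, hab⟩ := hcl (F i) _ hh
  rcases eq_or_ne b 0 with rfl | hb0
  · rw [map_zero, div_zero] at hab
    rw [IsFractionRing.injective S L (hab.symm.trans (map_zero _).symm), map_zero]
    exact zero_mem _
  have hba : h * b = a := IsFractionRing.injective S L <| by
    rw [map_mul, ← hab, div_mul_cancel₀]
    exact fun h0 => hb0 (IsFractionRing.injective S L (h0.trans (map_zero _).symm))
  obtain ⟨π, hπ⟩ := LinearMap.exists_leftInverse_of_injective (Algebra.linearMap (F i) k)
    (LinearMap.ker_eq_bot.mpr Subtype.val_injective)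
  have hπ1 : ∀ c : F i, π (c : k) = c := fun c => LinearMap.congr_fun hπ c
  let h' : S := fun m => (π (MvPowerSeries.coeff m h) : k)
  have hh' : h' * b = a := by
    ext m
    have hm : π (MvPowerSeries.coeff m a) = (⟨_, ha m⟩ : F i) := hπ1 ⟨_, ha m⟩
    rw [MvPowerSeries.coeff_mul]
    refine Eq.trans ?_ (congrArg Subtype.val hm)
    rw [← hba, MvPowerSeries.coeff_mul, map_sum, AddSubmonoidClass.coe_finsetSum]
    refine Finset.sum_congr rfl fun c _ => ?_
    have hs : MvPowerSeries.coeff c.1 h * MvPowerSeries.coeff c.2 b =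
        (⟨_, hb c.2⟩ : F i) • MvPowerSeries.coeff c.1 h := mul_comm _ _
    rw [hs, map_smul]
    exact mul_comm _ _
  rw [mul_right_cancel₀ hb0 (hba.trans hh'.symm)]
  exact (π (MvPowerSeries.coeff n h)).2

end Groth.Agent.S4550
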