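import Groth.Statements.S4548
import Groth.Agent.Cohen12.FiniteIndex
import Groth.Agent.Cohen12.PowerSeriesExpand
import Groth.Agent.S4550

set_option autoImplicit false
universe u
open EGA41

namespace Groth.Agent.S4548

/-- Let k be a field of characteristic p > 0, A = k[[T_1, …, T_r]] and K its field of fractions. Then
there is a decreasing filtered family (A_α) of Noetherian subrings of A (rendered: a nonempty
family, directed downwards for inclusion) such that A is a free A_α-module of finite type for every
α and, K_α denoting the subfield of K generated by A_α (its field of fractions inside K), ⋂_α K_α =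
K^p. -/
theorem result (p : ℕ) [Fact p.Prime] (k : Type u) [Field k] [CharP k p]
    (r : ℕ) :
    ∃ (ι : Type u) (_ : Nonempty ι) (S : ι → Subring (MvPowerSeries (Fin r) k)),
      (∀ a b : ι, ∃ c, S c ≤ S a ⊓ S b) ∧
      (∀ i, IsNoetherianRing (S i) ∧ Module.Free (S i) (MvPowerSeries (Fin r) k) ∧ Module.Finite (S i) (MvPowerSeries (Fin r) k)) ∧
      ((⨅ i, Subfield.closure (algebraMap (MvPowerSeries (Fin r) k) (FractionRing (MvPowerSeries (Fin r) k)) '' (S i)) :
          Set (FractionRing (MvPowerSeries (Fin r) k)))) =
        Set.range fun x : FractionRing (MvPowerSeries (Fin r) k) => x ^ p := by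
  classical
  let A := MvPowerSeries (Fin r) k
  let K := FractionRing A
  have hp0 : p ≠ 0 := (Fact.out : p.Prime).ne_zero
  obtain ⟨ι, hne, G, hdir, hpow, hfinG, hinter⟩ := Cohen12.exists_finiteIndex_family p k
  have : IsNoetherianRing A := inferInstance
  let φ : ∀ i, MvPowerSeries (Fin r) (G i) →+* A := fun i => Cohen12.expandHom (G i) p hp0 k
  refine ⟨ι, hne, fun i => (φ i).range, fun a b => ?_, fun i => ?_, ?_⟩
  · obtain ⟨c, hc⟩ := hdir a b
    refine ⟨c, le_inf ?_ ?_⟩
    · rintro _ ⟨f, rfl⟩
      refine ⟨MvPowerSeries.map (Subfield.inclusion (hc.trans inf_le_left)) f, ?_⟩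
      simp only [φ, Cohen12.expandHom, RingHom.comp_apply]
      rfl
    · rintro _ ⟨f, rfl⟩
      refine ⟨MvPowerSeries.map (Subfield.inclusion (hc.trans inf_le_right)) f, ?_⟩
      simp only [φ, Cohen12.expandHom, RingHom.comp_apply]
      rfl
  · have := hfinG i
    obtain ⟨h1, h2⟩ := Cohen12.free_finite_range_expandHom (R := G i) (R' := k) (r := r) p hp0
      (algebraMap (G i) k).injective
    exact ⟨isNoetherianRing_range _, h1, h2⟩
  let ex : A →+* A := (MvPowerSeries.expand p hp0).toRingHom
  have hex : Function.Injective ex := fun f g h => by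
    ext n
    have h' := congrArg (MvPowerSeries.coeff (p • n)) h
    exact ((MvPowerSeries.coeff_expand_smul p hp0 f n).symm.trans h').trans (MvPowerSeries.coeff_expand_smul p hp0 g n)
  have hcomp : Function.Injective ((algebraMap A K).comp ex) := (IsFractionRing.injective A K).comp hex
  let E : K →+* K := IsFractionRing.lift hcomp
  let V : Subfield k → Subfield K := fun F =>
    Subfield.closure (algebraMap A K '' {f | ∀ n, MvPowerSeries.coeff n f ∈ F})
  have himage : ∀ F : Subfield k, (V F).map E =
      Subfield.closure (algebraMap A K '' (ex '' {f | ∀ n, MvPowerSeries.coeff n f ∈ F})) := fun F => by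
    rw [RingHom.map_field_closure, Set.image_image, Set.image_image]
    simp only [E, IsFractionRing.lift_algebraMap, RingHom.comp_apply]
  have hrange : ∀ i, ((φ i).range : Set A) = ex '' {f | ∀ n, MvPowerSeries.coeff n f ∈ G i} := fun i => by
    ext x
    constructor
    · rintro ⟨f, rfl⟩
      refine ⟨_, fun n => ?_, rfl⟩
      rw [MvPowerSeries.coeff_map]
      exact (MvPowerSeries.coeff n f).2
    · rintro ⟨f, hf, rfl⟩
      let f' : MvPowerSeries (Fin r) (G i) := fun n => ⟨MvPowerSeries.coeff n f, hf n⟩
      refine ⟨f', ?_⟩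
      show ex (MvPowerSeries.map (algebraMap (G i) k) f') = ex f
      congr 1
  have hchar : ringExpChar k = p := ringExpChar.eq k p
  have hI := S4550.result G hdir 1 (fun x => by
    rw [hchar, pow_one, Subfield.mem_iInf]
    exact fun i => hpow i x) r
  have hH : ({f | ∀ n, MvPowerSeries.coeff n f ∈ ⨅ i, G i} : Set A) =
      Set.range (MvPowerSeries.map (frobenius k p) : A →+* A) := by
    ext f
    constructor
    · intro hf
      choose y hy using fun n => hinter (MvPowerSeries.coeff n f) (Subfield.mem_iInf.mp (hf n))
      exact ⟨y, MvPowerSeries.ext fun n => (MvPowerSeries.coeff_map _ n y).trans (hy n)⟩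
    · rintro ⟨g, rfl⟩ n
      rw [MvPowerSeries.coeff_map, Subfield.mem_iInf]
      exact fun i => hpow i _
  have hfrob : ∀ g : A, ex (MvPowerSeries.map (frobenius k p) g) = g ^ p := fun g => by
    rw [← MvPowerSeries.map_frobenius_expand p hp0]
    exact (MvPowerSeries.map_expand p hp0 _ g).symm
  have : CharP K p := by
    have hc : CharP A p := charP_of_injective_ringHom (f := (MvPowerSeries.C : k →+* A)) MvPowerSeries.C_injective p
    exact charP_of_injective_ringHom (f := algebraMap A K) (IsFractionRing.injective A K) p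
  have hlim : (⨅ i, V (G i)).map E = (frobenius K p).fieldRange := by
    rw [show (⨅ i, V (G i)) = V (⨅ i, G i) from hI, himage, hH, ← Set.range_comp, RingHom.fieldRange_eq_map,
      ← IsFractionRing.closure_range_algebraMap A K, RingHom.map_field_closure, ← Set.range_comp,
      ← Set.range_comp]
    congr 2
    funext g
    simp [hfrob, frobenius_def]
  ext x
  have hx : x ∈ (⨅ i, V (G i)).map E ↔ ∃ y, y ^ p = x := by
    rw [hlim]
    exact Iff.rfl
  rw [Set.mem_range, ← hx]
  simp only [Set.mem_iInter, SetLike.mem_coe, Set.iInf_eq_iInter]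
  constructor
  · intro h
    obtain ⟨y, -, rfl⟩ : x ∈ (V (G (Classical.choice hne))).map E := by
      rw [himage, ← hrange]
      exact h _
    refine ⟨y, Subfield.mem_iInf.mpr fun i => ?_, rfl⟩
    obtain ⟨z, hz, hzy⟩ : E y ∈ (V (G i)).map E := by
      rw [himage, ← hrange]
      exact h i
    rwa [← E.injective hzy]
  · rintro ⟨y, hy, rfl⟩ i
    rw [hrange, ← himage]
    exact ⟨y, Subfield.mem_iInf.mp hy i, rfl⟩

end Groth.Agent.S4548
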