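import Groth.Statements.S4549
import Groth.Agent.Sep12.Admissible

set_option autoImplicit false
universe u
open EGA41 TensorProduct KaehlerDifferential

namespace Groth.Agent.S4549

open TensorProduct in
/-- Let K be a field of characteristic p, k₀ a subfield and L an extension of K such that Υ_{L/K/k₀} has
finite rank over L. Then there is a subfield k of K containing k₀(K^p), with [K : k] finite, which
is k₀-admissible for the extension L of K, i.e. such that Υ_{L/K/k₀} → Υ_{L/K/k} is injective. (The
published statement uses the characteristic exponent and so also covers characteristic 0, where k =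
K works; this row treats characteristic p > 0.) -/
theorem result (p : ℕ) [Fact p.Prime] {k₀ K L : Type u} [Field k₀] [Field K] [Field L]
    [Algebra k₀ K] [Algebra K L] [Algebra k₀ L] [IsScalarTower k₀ K L] [CharP K p]
    [Module.Finite L (EGA41.imperfection k₀ K L)] :
    ∃ k : IntermediateField k₀ K, (∀ y : K, y ^ p ∈ k) ∧ Module.Finite k K ∧
      ∀ ω ∈ EGA41.imperfection k₀ K L,
        ((KaehlerDifferential.map k₀ k K K).restrictScalars K).baseChange L ω = 0 → ω = 0 := by
  classical
  obtain ⟨B, -, -, hB⟩ := Groth.Agent.PBasis12.exists_pBasis_between (p := p) (k := k₀) (K := K)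
    Set.univ ∅ (Set.empty_subset _) Groth.Agent.PBasis12.isPGenerating_univ
    Groth.Agent.PBasis12.isPIndependent_empty
  let bb := (Groth.Agent.PBasis12.kaehlerBasis hB).baseChange L
  obtain ⟨G, hG⟩ := Module.Finite.iff_fg.mp (inferInstance : Module.Finite L (EGA41.imperfection k₀ K L))
  let T : Finset B := G.biUnion fun ω => (bb.repr ω).support
  let P : Set K := Set.range fun y : K => y ^ p
  obtain ⟨k, hkdef⟩ : ∃ k : IntermediateField k₀ K,
      k = IntermediateField.adjoin k₀ (P ∪ Subtype.val '' (↑T : Set B)ᶜ) := ⟨_, rfl⟩
  have hkP : ∀ z ∈ P, z ∈ k := fun z hz => hkdef ▸ IntermediateField.subset_adjoin _ _ (Or.inl hz)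
  have hkB : ∀ b : B, b ∉ T → (b : K) ∈ k := fun b hb =>
    hkdef ▸ IntermediateField.subset_adjoin _ _ (Or.inr ⟨b, hb, rfl⟩)
  have hpk : ∀ y : K, y ^ p ∈ k := fun y => hkP _ ⟨y, rfl⟩
  refine ⟨k, hpk, ?_, ?_⟩
  · let S : Set K := Subtype.val '' (↑T : Set B)
    have hS : S.Finite := T.finite_toSet.image _
    have : Finite S := hS
    have hint : ∀ y : K, IsIntegral k y := fun y => by
      refine ⟨Polynomial.X ^ p - Polynomial.C ⟨y ^ p, hpk y⟩, Polynomial.monic_X_pow_sub_C _ (Fact.out : p.Prime).ne_zero, ?_⟩
      simp
    have := IntermediateField.finiteDimensional_adjoin (S := S) fun y _ => hint y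
    have htop : IntermediateField.adjoin k S = ⊤ := by
      rw [eq_top_iff]
      intro y _
      have hy : y ∈ Algebra.adjoin (pPowerSubalgebra p k₀ K) (Set.range (Subtype.val : B → K)) :=
        ((Groth.Agent.PBasis12.aeval_surjective_iff _).mpr hB.2).ge Algebra.mem_top
      rw [← Groth.Agent.PBasis12.mem_adjoin_iff] at hy
      have hle : IntermediateField.adjoin k₀ (P ∪ Set.range (Subtype.val : B → K)) ≤
          (IntermediateField.adjoin k S).restrictScalars k₀ := by
        rw [IntermediateField.adjoin_le_iff]
        rintro z (hz | ⟨b, rfl⟩)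
        · show z ∈ IntermediateField.adjoin k S
          exact IntermediateField.algebraMap_mem (IntermediateField.adjoin k S) (⟨z, hkP z hz⟩ : k)
        · by_cases hb : b ∈ T
          · show (b : K) ∈ IntermediateField.adjoin k S
            have hbS : (b : K) ∈ S := Set.mem_image_of_mem _ hb
            exact IntermediateField.subset_adjoin k S hbS
          · show (b : K) ∈ IntermediateField.adjoin k S
            exact IntermediateField.algebraMap_mem (IntermediateField.adjoin k S) (⟨b, hkB b hb⟩ : k)
      exact hle hy
    rw [htop] at this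
    exact Module.Finite.equiv IntermediateField.topEquiv.toLinearEquiv
  · intro ω hω h0
    have hind : IsPIndependent p k (fun b : T => (b.1 : K)) := by
      rw [Groth.Agent.PBasis12.isPIndependent_iff]
      intro a ha
      rw [← Groth.Agent.PBasis12.mem_adjoin_iff] at ha
      refine (Groth.Agent.PBasis12.isPIndependent_iff _).mp hB.1 a.1 ?_
      rw [← Groth.Agent.PBasis12.mem_adjoin_iff]
      let R := IntermediateField.adjoin k₀ (P ∪ Subtype.val '' {b : B | b ≠ a.1})
      have hkR : k ≤ R := by
        rw [hkdef]
        refine IntermediateField.adjoin.mono _ _ _ (Set.union_subset_union le_rfl (Set.image_mono fun b hb => ?_))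
        exact fun e => hb (e ▸ a.2)
      let R' : IntermediateField k K := IntermediateField.extendScalars hkR
      have : IntermediateField.adjoin k (P ∪ (fun b : T => (b.1 : K)) '' {b | b ≠ a}) ≤ R' := by
        rw [IntermediateField.adjoin_le_iff]
        rintro z (hz | ⟨b, hb, rfl⟩)
        · show z ∈ R
          exact IntermediateField.subset_adjoin k₀ (P ∪ Subtype.val '' {b : B | b ≠ a.1}) (Set.mem_union_left _ hz)
        · show (b.1 : K) ∈ R
          have hb' : (b.1 : K) ∈ Subtype.val '' {b : B | b ≠ a.1} :=
            Set.mem_image_of_mem _ (show b.1 ≠ a.1 from fun e => hb (Subtype.ext e))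
          exact IntermediateField.subset_adjoin k₀ (P ∪ Subtype.val '' {b : B | b ≠ a.1}) (Set.mem_union_right _ hb')
      exact this ha
    have hli := Module.Flat.linearIndependent_one_tmul (S := L)
      ((Groth.Agent.PBasis12.isPIndependent_iff_D _).mp hind)
    have hsupp : ∀ w ∈ Submodule.span L (G : Set (L ⊗[K] Ω[K⁄k₀])), ∀ b, b ∉ T → bb.repr w b = 0 := by
      intro w hw
      induction hw using Submodule.span_induction with
      | mem w hw =>
        intro b hb
        by_contra hne
        exact hb (Finset.mem_biUnion.mpr ⟨w, hw, Finsupp.mem_support_iff.mpr hne⟩)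
      | zero => simp
      | add y z _ _ hy hz => intro b hb; rw [map_add, Finsupp.add_apply, hy b hb, hz b hb, add_zero]
      | smul a y _ hy => intro b hb; rw [map_smul, Finsupp.smul_apply, hy b hb, smul_zero]
    have hs : (bb.repr ω).support ⊆ T := fun b hb => by
      by_contra hbT
      exact Finsupp.mem_support_iff.mp hb (hsupp ω (hG ▸ hω) b hbT)
    have hsum : ω = ∑ b : T, bb.repr ω b.1 • bb b.1 := by
      conv_lhs => rw [← bb.linearCombination_repr ω, Finsupp.linearCombination_apply,
        Finsupp.sum_of_support_subset _ hs (fun i a => a • bb i) (fun i _ => zero_smul L _)]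
      exact (Finset.sum_coe_sort T fun b => bb.repr ω b • bb b).symm
    have hz : ∑ b : T, bb.repr ω b.1 • ((1 : L) ⊗ₜ[K] D k K (b.1 : K)) = 0 := by
      rw [← h0]
      conv_rhs => rw [hsum]
      rw [map_sum]
      refine Finset.sum_congr rfl fun b _ => ?_
      rw [map_smul]
      simp only [bb, Module.Basis.baseChange_apply, Groth.Agent.PBasis12.kaehlerBasis_apply,
        LinearMap.baseChange_tmul, LinearMap.restrictScalars_apply, map_D]
      rfl
    rw [hsum]
    exact Finset.sum_eq_zero fun b _ => by rw [Fintype.linearIndependent_iff.mp hli _ hz b, zero_smul]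

end Groth.Agent.S4549
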