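import Groth.Statements.S4551
import Groth.Agent.OmegaHat14.Etale
import Groth.Agent.H98N2.Excellent

set_option autoImplicit false
universe u
open EGA41
open scoped TensorProduct

namespace Groth.Agent.S4551

/-- For every field k (any characteristic) the field of fractions k((T_1, …, T_r)) of the power series
ring k[[T_1, …, T_r]] is a separable extension of k, i.e. it is geometrically reduced over k. -/
theorem result (k : Type u) [Field k] (r : ℕ) :
    Algebra.IsGeometricallyReduced k (FractionRing (MvPowerSeries (Fin r) k)) := by
  rw [Algebra.isGeometricallyReduced_field_iff]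
  let S := MvPowerSeries (Fin r) k
  let K := FractionRing S
  let C := AlgebraicClosure k
  have key : ∀ B : Subalgebra k C, B.FG → IsReduced (K ⊗[k] B) := fun B hB => by
    have : Algebra.FiniteType k B := B.fg_iff_finiteType.mp hB
    have : Algebra.IsAlgebraic k C := AlgebraicClosure.isAlgebraic k
    have : Algebra.IsAlgebraic k B := Algebra.IsAlgebraic.of_injective B.val Subtype.val_injective
    have : Algebra.IsIntegral k B := Algebra.IsAlgebraic.isIntegral
    have : Module.Finite k B := Algebra.IsIntegral.finite
    let : Field B := (Subalgebra.isField_of_algebraic B).toField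
    have : IsRegularRing (B ⊗[k] S) := OmegaHat14.isGeometricallyRegular_powerSeries k r B inferInstance
    have : IsReduced (B ⊗[k] S) := H98N2.isReduced_of_isRegularRing _
    let f : B ⊗[k] S →ₐ[k] B ⊗[k] K :=
      Algebra.TensorProduct.map (AlgHom.id k B) (IsScalarTower.toAlgHom k S K)
    have hf : Function.Injective f :=
      Module.Flat.lTensor_preserves_injective_linearMap
        (IsScalarTower.toAlgHom k S K).toLinearMap (IsFractionRing.injective S K)
    have hden : ∀ x : B ⊗[k] K, ∃ (s : nonZeroDivisors S) (y : B ⊗[k] S),
        ((1 : B) ⊗ₜ[k] algebraMap S K s) * x = f y := fun x => by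
      induction x using TensorProduct.induction_on with
      | zero => exact ⟨1, 0, by simp⟩
      | tmul b z =>
        obtain ⟨a, s, rfl⟩ := IsLocalization.exists_mk'_eq (nonZeroDivisors S) z
        refine ⟨s, b ⊗ₜ a, ?_⟩
        simp only [f, Algebra.TensorProduct.map_tmul, AlgHom.coe_id, id_eq, IsScalarTower.toAlgHom_apply,
          Algebra.TensorProduct.tmul_mul_tmul, one_mul]
        rw [IsLocalization.mk'_spec']
      | add u v hu hv =>
        obtain ⟨s, y, hy⟩ := hu
        obtain ⟨t, z, hz⟩ := hv
        refine ⟨s * t, ((1 : B) ⊗ₜ (t : S)) * y + ((1 : B) ⊗ₜ (s : S)) * z, ?_⟩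
        rw [map_add f, map_mul f, map_mul f, ← hy, ← hz]
        simp only [f, Algebra.TensorProduct.map_tmul, AlgHom.coe_id, id_eq, IsScalarTower.toAlgHom_apply,
          Submonoid.coe_mul, map_mul, mul_add, ← mul_assoc, Algebra.TensorProduct.tmul_mul_tmul, one_mul]
        rw [mul_comm (algebraMap S K (t : S))]
    have : IsReduced (B ⊗[k] K) := ⟨fun x ⟨n, hn⟩ => by
      obtain ⟨s, y, hy⟩ := hden x
      have h0 : y = 0 := IsReduced.eq_zero y ⟨n, hf <| by rw [map_pow, ← hy, mul_pow, hn, mul_zero, map_zero]⟩
      rw [h0, map_zero] at hy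
      have hu : IsUnit ((1 : B) ⊗ₜ[k] algebraMap S K s) :=
        (IsLocalization.map_units K s).map (Algebra.TensorProduct.includeRight : K →ₐ[k] B ⊗[k] K)
      exact hu.mul_right_eq_zero.mp hy⟩
    exact isReduced_of_injective (Algebra.TensorProduct.comm k K B).toAlgHom
      (Algebra.TensorProduct.comm k K B).injective
  have : IsReduced (K ⊗[k] C) := IsReduced.tensorProduct_of_flat_of_forall_fg key
  exact isReduced_of_injective (Algebra.TensorProduct.comm k C K).toAlgHom
    (Algebra.TensorProduct.comm k C K).injective

end Groth.Agent.S4551
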