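import Groth.Statements.S4552
import Mathlib.RingTheory.Smooth.Field
import Mathlib.RingTheory.Smooth.Kaehler
import Mathlib.RingTheory.Kaehler.JacobiZariski
import Mathlib.RingTheory.Etale.Field
import Mathlib.FieldTheory.Perfect
import Mathlib.RingTheory.AlgebraicIndependent.TranscendenceBasis
import Mathlib.LinearAlgebra.SymmetricAlgebra.Basic
import Mathlib.Algebra.Module.Torsion.Basic
import Mathlib.Algebra.Module.Projective
import Mathlib.RingTheory.Derivation.ToSquareZero
import Mathlib.RingTheory.Unramified.Basic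
import Groth.Prelude.Def_EGA41

set_option autoImplicit false
set_option linter.all false
universe u
open EGA41 TensorProduct

namespace Groth.Agent.S4552

/-- For the 𝔞-adic topology on A and the deduced topology on M: the topological A-module M is formally
projective (for every open ideal 𝔞ⁿ, every pair of (A/𝔞ⁿ)-modules P, Q, every surjection P → Q and
every continuous A-linear map M → Q — here automatically continuous — there is a continuous A-linear
lift M → P) if and only if it is strictly formally projective, i.e. M/𝔞ⁿM is a projective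
(A/𝔞ⁿ)-module for every n. -/
theorem result {A : Type u} [CommRing A] (𝔞 : Ideal A) (M : Type u)
    [AddCommGroup M] [Module A M] :
    (∀ (n : ℕ) (P Q : Type u) [AddCommGroup P] [Module A P] [AddCommGroup Q] [Module A Q],
      (∀ a ∈ 𝔞 ^ n, ∀ y : P, a • y = 0) → (∀ a ∈ 𝔞 ^ n, ∀ y : Q, a • y = 0) →
      ∀ f : P →ₗ[A] Q, Function.Surjective f → ∀ v : M →ₗ[A] Q, ∃ w : M →ₗ[A] P, f ∘ₗ w = v) ↔
    ∀ n : ℕ, Module.Projective (A ⧸ 𝔞 ^ n) (M ⧸ (𝔞 ^ n • ⊤ : Submodule A M)) := by
  constructor
  · intro h n
    let R := A ⧸ 𝔞 ^ n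
    let N := M ⧸ (𝔞 ^ n • ⊤ : Submodule A M)
    refine Module.Projective.of_lifting_property'' fun f hf => ?_
    haveI : IsScalarTower A R (N →₀ R) := inferInstance
    have hz : ∀ (X : Type u) [AddCommGroup X] [Module A X] [Module R X] [IsScalarTower A R X],
        ∀ a ∈ 𝔞 ^ n, ∀ y : X, a • y = 0 := by
      intro X _ _ _ _ a ha y
      rw [← IsScalarTower.algebraMap_smul R a y, Ideal.Quotient.algebraMap_eq,
        Ideal.Quotient.eq_zero_iff_mem.mpr ha, zero_smul]
    obtain ⟨w, hw⟩ := h n (N →₀ R) N (hz _) (hz _) (f.restrictScalars A) hf (Submodule.mkQ _)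
    have hw0 : (𝔞 ^ n • ⊤ : Submodule A M) ≤ LinearMap.ker w := by
      rw [Submodule.smul_le]
      intro a ha x _
      rw [LinearMap.mem_ker, map_smul]
      exact hz _ a ha _
    refine ⟨LinearMap.extendScalarsOfSurjective (S := R) Ideal.Quotient.mk_surjective
      ((𝔞 ^ n • ⊤ : Submodule A M).liftQ w hw0), LinearMap.ext fun x => ?_⟩
    obtain ⟨x, rfl⟩ := Submodule.mkQ_surjective _ x
    exact LinearMap.congr_fun hw x
  · intro h n P Q _ _ _ _ hP hQ f hf v
    let R := A ⧸ 𝔞 ^ n
    letI : Module R P := Module.IsTorsionBySet.module (R := A) (I := 𝔞 ^ n) fun x a => hP a a.2 x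
    letI : Module R Q := Module.IsTorsionBySet.module (R := A) (I := 𝔞 ^ n) fun x a => hQ a a.2 x
    haveI : IsScalarTower A R P := ⟨fun a r x => by
      obtain ⟨r, rfl⟩ := Ideal.Quotient.mk_surjective r
      exact smul_assoc a r x⟩
    haveI : IsScalarTower A R Q := ⟨fun a r x => by
      obtain ⟨r, rfl⟩ := Ideal.Quotient.mk_surjective r
      exact smul_assoc a r x⟩
    have hv0 : (𝔞 ^ n • ⊤ : Submodule A M) ≤ LinearMap.ker v := by
      rw [Submodule.smul_le]
      intro a ha x _
      rw [LinearMap.mem_ker, map_smul]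
      exact hQ a ha _
    obtain ⟨w, hw⟩ := Module.projective_lifting_property (h := h n)
      (LinearMap.extendScalarsOfSurjective (S := R) Ideal.Quotient.mk_surjective f)
      (LinearMap.extendScalarsOfSurjective (S := R) Ideal.Quotient.mk_surjective
        ((𝔞 ^ n • ⊤ : Submodule A M).liftQ v hv0)) hf
    exact ⟨(w.restrictScalars A) ∘ₗ Submodule.mkQ _,
      LinearMap.ext fun x => LinearMap.congr_fun hw (Submodule.mkQ _ x)⟩

end Groth.Agent.S4552
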