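import Groth.Statements.S4554
import Groth.Agent.FSAdic12.Projective
import Groth.Agent.S4535

set_option autoImplicit false
universe u
open EGA41 TensorProduct Groth.Agent.FSAdic12

namespace Groth.Agent.S4554

open TensorProduct in
/-- Let A be 𝔞-adic, B a topological A-algebra for the 𝔟-adic topology (a power of 𝔞 maps into 𝔟) which
is a formally projective topological A-module, and A' an A-algebra with the topology deduced from A
(the 𝔞A'-adic topology) which is a faithfully flat, projective A-module of finite type. Then B' = A'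
⊗_A B, with the tensor product topology (the adic topology of the ideal generated by the images of 𝔞
and 𝔟), is a formally smooth A'-algebra if and only if B is a formally smooth A-algebra. -/
theorem result {A B A' : Type u} [CommRing A] [CommRing B]
    [CommRing A'] [Algebra A B] [Algebra A A'] (𝔞 : Ideal A) (𝔟 : Ideal B) (hAB : ∃ k : ℕ, (𝔞 ^ k).map (algebraMap A B) ≤ 𝔟)
    (hproj : ∀ (n : ℕ) (P Q : Type u) [AddCommGroup P] [Module A P] [AddCommGroup Q] [Module A Q],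
      (∀ a ∈ 𝔞 ^ n, ∀ y : P, a • y = 0) → (∀ a ∈ 𝔞 ^ n, ∀ y : Q, a • y = 0) →
      ∀ f : P →ₗ[A] Q, Function.Surjective f → ∀ v : B →ₗ[A] Q, (∃ m : ℕ, ∀ x ∈ 𝔟 ^ m, v x = 0) →
        ∃ w : B →ₗ[A] P, (∃ m : ℕ, ∀ x ∈ 𝔟 ^ m, w x = 0) ∧ f ∘ₗ w = v)
    [Module.FaithfullyFlat A A'] [Module.Projective A A'] [Module.Finite A A'] :
    EGA41.IsFormallySmoothAdic A' (𝔞.map (algebraMap A A')) (A' ⊗[A] B)
        ((𝔞.map (algebraMap A A')).map (algebraMap A' (A' ⊗[A] B)) ⊔
          𝔟.map (Algebra.TensorProduct.includeRight : B →ₐ[A] A' ⊗[A] B).toRingHom) ↔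
      EGA41.IsFormallySmoothAdic A 𝔞 B 𝔟 := by
  refine ⟨fun h => ?_, fun h => Groth.Agent.S4535.result 𝔞 𝔟 (𝔞.map (algebraMap A A')) ⟨1, by rw [pow_one]⟩ h⟩
  refine isFormallySmoothAdic_of_step 𝔞 𝔟 fun C _ _ J hJ2 _ hC u hu => ?_
  obtain ⟨ka, hka⟩ := hC
  obtain ⟨ku, hku⟩ := hu
  have hCa : ∀ a ∈ 𝔞 ^ ka, algebraMap A C a = 0 := fun a ha =>
    (Submodule.mem_bot C).mp (hka ▸ Ideal.mem_map_of_mem _ ha)
  obtain ⟨w, -, hw⟩ := hproj ka C (C ⧸ J)
    (fun a ha y => by rw [Algebra.smul_def, hCa a ha, zero_mul])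
    (fun a ha y => by
      rw [Algebra.smul_def, IsScalarTower.algebraMap_apply A C (C ⧸ J), hCa a ha, map_zero, zero_mul])
    (Ideal.Quotient.mkₐ A J).toLinearMap Ideal.Quotient.mk_surjective u.toLinearMap ⟨ku, hku⟩
  have hw' : ∀ x, Ideal.Quotient.mk J (w x) = u x := fun x => LinearMap.congr_fun hw x
  let q : A' ⊗[A] C →ₐ[A'] A' ⊗[A] (C ⧸ J) := Algebra.TensorProduct.map (AlgHom.id A' A') (Ideal.Quotient.mkₐ A J)
  have hq : Function.Surjective q := by
    intro z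
    induction z with
    | zero => exact ⟨0, map_zero q⟩
    | tmul a c =>
      obtain ⟨c, rfl⟩ := Ideal.Quotient.mk_surjective c
      exact ⟨a ⊗ₜ c, by simp [q]⟩
    | add y z hy hz =>
      obtain ⟨y, rfl⟩ := hy; obtain ⟨z, rfl⟩ := hz
      exact ⟨y + z, map_add q y z⟩
  have hker : RingHom.ker q.toRingHom = J.map (Algebra.TensorProduct.includeRight : C →ₐ[A] A' ⊗[A] C).toRingHom := by
    have h0 := Algebra.TensorProduct.lTensor_ker (A := A') (Ideal.Quotient.mkₐ A J) Ideal.Quotient.mk_surjective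
    have hk : RingHom.ker (Ideal.Quotient.mkₐ A J) = J := Ideal.Quotient.mkₐ_ker A J
    rw [hk] at h0
    exact h0
  have hker2 : RingHom.ker q.toRingHom ^ 2 = ⊥ := by rw [hker, ← Ideal.map_pow, hJ2, Ideal.map_bot]
  let e := Ideal.quotientKerAlgEquivOfSurjective hq
  let u' : A' ⊗[A] B →ₐ[A'] (A' ⊗[A] C) ⧸ RingHom.ker q.toRingHom :=
    e.symm.toAlgHom.comp (Algebra.TensorProduct.map (AlgHom.id A' A') u)
  have hCa' : ((𝔞.map (algebraMap A A')) ^ ka).map (algebraMap A' (A' ⊗[A] C)) = ⊥ := by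
    rw [← Ideal.map_pow, Ideal.map_map, ← IsScalarTower.algebraMap_eq, eq_bot_iff, Ideal.map_le_iff_le_comap]
    intro a ha
    show algebraMap A (A' ⊗[A] C) a ∈ (⊥ : Ideal (A' ⊗[A] C))
    rw [Algebra.TensorProduct.algebraMap_apply, Algebra.algebraMap_eq_smul_one, smul_tmul,
      ← Algebra.algebraMap_eq_smul_one, hCa a ha, tmul_zero]
    exact zero_mem _
  obtain ⟨V, hV⟩ := h (A' ⊗[A] C) (RingHom.ker q.toRingHom) ⟨2, hker2⟩ ⟨ka, hCa'⟩ u' ⟨ka + ku, fun x hx => by
    have h1 : ((𝔞.map (algebraMap A A')).map (algebraMap A' (A' ⊗[A] B)) ⊔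
        𝔟.map (Algebra.TensorProduct.includeRight : B →ₐ[A] A' ⊗[A] B).toRingHom) ^ (ka + ku) ≤ RingHom.ker u'.toRingHom := by
      refine Ideal.sup_pow_add_le_pow_sup_pow.trans (sup_le ?_ ?_)
      · rw [← Ideal.map_pow, Ideal.map_le_iff_le_comap]
        intro a ha
        show u' (algebraMap A' _ a) = 0
        have ha0 : algebraMap A' (A' ⊗[A] C) a = 0 := (Submodule.mem_bot (A' ⊗[A] C)).mp (by
          rw [← hCa']; exact Ideal.mem_map_of_mem (algebraMap A' (A' ⊗[A] C)) ha)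
        rw [AlgHom.commutes, IsScalarTower.algebraMap_apply A' (A' ⊗[A] C) ((A' ⊗[A] C) ⧸ RingHom.ker q.toRingHom),
          ha0, map_zero]
      · rw [← Ideal.map_pow, Ideal.map_le_iff_le_comap]
        intro b hb
        show e.symm (Algebra.TensorProduct.map (AlgHom.id A' A') u ((1 : A') ⊗ₜ b)) = 0
        rw [Algebra.TensorProduct.map_tmul, hku b hb, tmul_zero, map_zero]
    exact h1 hx⟩
  have hV' : ∀ x, q (V x) = Algebra.TensorProduct.map (AlgHom.id A' A') u x := fun x => by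
    have h1 : e (Ideal.Quotient.mk _ (V x)) = _ := congrArg e (AlgHom.congr_fun hV x)
    exact h1.trans (e.apply_symm_apply _)
  obtain ⟨r, hr⟩ := exists_retraction (A := A) (A' := A')
  let R : A' ⊗[A] C →ₗ[A] C := (TensorProduct.lid A C).toLinearMap ∘ₗ r.rTensor C
  have hR : ∀ (c : C) (z : A' ⊗[A] C), R (((1 : A') ⊗ₜ[A] c) * z) = c * R z := by
    intro c z
    induction z with
    | zero => simp
    | tmul a d => simp [R]
    | add y z hy hz => simp [mul_add, hy, hz]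
  let inB : B →ₗ[A] A' ⊗[A] B := (Algebra.TensorProduct.includeRight : B →ₐ[A] A' ⊗[A] B).toLinearMap
  let inC : C →ₗ[A] A' ⊗[A] C := (Algebra.TensorProduct.includeRight : C →ₐ[A] A' ⊗[A] C).toLinearMap
  let δ' : B →ₗ[A] A' ⊗[A] C := V.toLinearMap.restrictScalars A ∘ₗ inB - inC ∘ₗ w
  have hδ'q : ∀ x, δ' x ∈ RingHom.ker q.toRingHom := fun x => by
    show q (V ((1 : A') ⊗ₜ x) - (1 : A') ⊗ₜ w x) = 0
    rw [map_sub, hV']
    simp [q, hw']
  have hδJ : ∀ x, R (δ' x) ∈ J := by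
    intro x
    rw [← Ideal.Quotient.eq_zero_iff_mem]
    have h2 : ∀ z, Ideal.Quotient.mk J (R z) = ((TensorProduct.lid A (C ⧸ J)).toLinearMap ∘ₗ r.rTensor (C ⧸ J)) (q z) := by
      intro z
      induction z with
      | zero => simp
      | tmul a d =>
        simp [R, q]
        exact map_smul (Ideal.Quotient.mkₐ A J) _ _
      | add y z hy hz => simp only [map_add, hy, hz]
    rw [h2, show q (δ' x) = 0 from hδ'q x, map_zero]
  let v : B →ₗ[A] C := w + R ∘ₗ δ'
  have hmul : ∀ x y, v (x * y) = v x * v y := by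
    intro x y
    have hVx : ∀ z, V ((1 : A') ⊗ₜ z) = (1 : A') ⊗ₜ w z + δ' z := fun z => by
      simp [δ', inB, inC]
    have h1 : V ((1 : A') ⊗ₜ (x * y)) = V ((1 : A') ⊗ₜ x) * V ((1 : A') ⊗ₜ y) := by
      rw [← map_mul, Algebra.TensorProduct.tmul_mul_tmul, one_mul]
    rw [hVx, hVx, hVx] at h1
    have h0 : δ' x * δ' y = 0 := (Submodule.mem_bot (A' ⊗[A] C)).mp
      (hker2 ▸ (pow_two (RingHom.ker q.toRingHom)).symm ▸ Ideal.mul_mem_mul (hδ'q x) (hδ'q y))
    have h2 : δ' (x * y) = (1 : A') ⊗ₜ (w x * w y - w (x * y)) + ((1 : A') ⊗ₜ w x) * δ' y + ((1 : A') ⊗ₜ w y) * δ' x := by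
      rw [tmul_sub, ← mul_one (1 : A'), ← Algebra.TensorProduct.tmul_mul_tmul, mul_one]
      linear_combination h1 + h0
    have h3 := congrArg R h2
    rw [map_add, map_add, hR, hR] at h3
    have h4 : R ((1 : A') ⊗ₜ (w x * w y - w (x * y))) = w x * w y - w (x * y) := by simp [R, hr]
    rw [h4] at h3
    show w (x * y) + R (δ' (x * y)) = (w x + R (δ' x)) * (w y + R (δ' y))
    have h5 : R (δ' x) * R (δ' y) = 0 :=
      (Submodule.mem_bot C).mp (hJ2 ▸ (pow_two J).symm ▸ Ideal.mul_mem_mul (hδJ x) (hδJ y))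
    linear_combination h3 - h5
  have hone : v 1 = 1 := by
    have hidem : v 1 * v 1 = v 1 := by rw [← hmul, one_mul]
    have hmk : v 1 - 1 ∈ J := by
      rw [← Ideal.Quotient.eq]
      show Ideal.Quotient.mk J (w 1 + R (δ' 1)) = _
      rw [map_add, hw', map_one, Ideal.Quotient.eq_zero_iff_mem.mpr (hδJ 1), add_zero, map_one]
    have h5 : (v 1 - 1) * (v 1 - 1) = 0 :=
      (Submodule.mem_bot C).mp (hJ2 ▸ (pow_two J).symm ▸ Ideal.mul_mem_mul hmk hmk)
    linear_combination hidem - h5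
  refine ⟨AlgHom.ofLinearMap v hone hmul, AlgHom.ext fun x => ?_⟩
  show Ideal.Quotient.mk J (w x + R (δ' x)) = u x
  rw [map_add, hw', Ideal.Quotient.eq_zero_iff_mem.mpr (hδJ x), add_zero]

end Groth.Agent.S4554
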