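import Groth.Statements.S4556
import Groth.Agent.FSAdic12.Basic
import Mathlib.RingTheory.Smooth.Basic
import Mathlib.RingTheory.AdicCompletion.Basic
import Mathlib.RingTheory.Flat.Tensor
import Mathlib.RingTheory.Kaehler.Basic
import Mathlib.RingTheory.Jacobson.Ideal
import Mathlib.RingTheory.Nakayama
import Mathlib.RingTheory.FiniteType
import Mathlib.RingTheory.OrzechProperty
import Mathlib.Algebra.CharP.Lemmas
import Groth.Prelude.Def_FSRel

set_option autoImplicit false
set_option linter.all false
universe u
open EGA41 TensorProduct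

namespace Groth.Agent.S4556

/-- Let B be a formally smooth A-algebra, E and E' two A-algebras, R (resp. R') a nilpotent ideal of E
(resp. E'), f : E → E' a surjective A-algebra homomorphism with f(R) = R', and f' : E/R → E'/R' the
induced homomorphism. Let u : B → E/R be an A-algebra homomorphism and v' : B → E' an A-algebra
homomorphism through which f' ∘ u factors (v' followed by E' → E'/R' equals f' ∘ u). Then there is
an A-algebra homomorphism v : B → E with f ∘ v = v'. (The published statement assumes only f(R) ⊆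
R'; in that form it fails for B = ℚ[x, x⁻¹], E = ℚ[t], E' = ℚ[t]/(t²), R = 0, R' = (t), u : x ↦ 1
and v' : x ↦ 1 + t, since any v sends x to a unit of ℚ[t], a constant; the argument identifies R'
with the image of R, and that equality is assumed here.) -/
theorem result {A B E E' : Type u} [CommRing A] [CommRing B] [Algebra A B]
    [Algebra.FormallySmooth A B] [CommRing E] [CommRing E'] [Algebra A E] [Algebra A E']
    (R : Ideal E) (R' : Ideal E') (hR : IsNilpotent R) (hR' : IsNilpotent R')
    (f : E →ₐ[A] E') (hf : Function.Surjective f) (hfR : R.map f.toRingHom = R')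
    (u : B →ₐ[A] E ⧸ R) (v' : B →ₐ[A] E')
    (huv : (Ideal.Quotient.mkₐ A R').comp v' =
      (Ideal.quotientMapₐ R' f (fun x hx => hfR.le (Ideal.mem_map_of_mem f.toRingHom hx))).comp u) :
    ∃ v : B →ₐ[A] E, f.comp v = v' := by
  let I := R ⊓ RingHom.ker f
  let φ : E ⧸ I →ₐ[A] (E ⧸ R) × E' :=
    Ideal.Quotient.liftₐ I ((Ideal.Quotient.mkₐ A R).prod f) fun x hx =>
      Prod.ext (Ideal.Quotient.eq_zero_iff_mem.mpr hx.1) hx.2
  have hinj : Function.Injective φ := by
    rw [injective_iff_map_eq_zero]
    intro x hx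
    obtain ⟨x, rfl⟩ := Ideal.Quotient.mk_surjective x
    obtain ⟨h1, h2⟩ := Prod.ext_iff.mp hx
    exact Ideal.Quotient.eq_zero_iff_mem.mpr ⟨Ideal.Quotient.eq_zero_iff_mem.mp h1, h2⟩
  have hrange : ∀ b, (u.prod v') b ∈ φ.range := by
    intro b
    obtain ⟨e, he⟩ := Ideal.Quotient.mk_surjective (u b)
    have h1 : v' b - f e ∈ R' := by
      rw [← Ideal.Quotient.eq]
      have := AlgHom.congr_fun huv b
      simp only [AlgHom.comp_apply, ← he] at this
      exact this
    rw [← hfR] at h1
    obtain ⟨r, hr, hr'⟩ := (Ideal.mem_map_iff_of_surjective _ (by exact hf)).mp h1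
    refine ⟨Ideal.Quotient.mk I (e + r), Prod.ext ?_ ?_⟩
    · show Ideal.Quotient.mk R (e + r) = u b
      rw [map_add, he, Ideal.Quotient.eq_zero_iff_mem.mpr hr, add_zero]
    · show f (e + r) = v' b
      rw [map_add]
      have : f r = v' b - f e := hr'
      rw [this]; abel
  let g : B →ₐ[A] E ⧸ I :=
    (AlgEquiv.ofInjective φ hinj).symm.toAlgHom.comp ((u.prod v').codRestrict φ.range hrange)
  have hg : ∀ b, φ (g b) = (u b, v' b) := fun b =>
    congrArg Subtype.val ((AlgEquiv.ofInjective φ hinj).apply_symm_apply _)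
  have hIn : IsNilpotent I := by
    obtain ⟨n, hn⟩ := hR
    exact ⟨n, eq_bot_iff.mpr ((Ideal.pow_right_mono inf_le_left n).trans hn.le)⟩
  refine ⟨Algebra.FormallySmooth.lift I hIn g, AlgHom.ext fun b => ?_⟩
  have := hg b
  rw [← Algebra.FormallySmooth.mk_lift I hIn g b] at this
  exact congrArg Prod.snd this

end Groth.Agent.S4556
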