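import Groth.Statements.S4557
import Groth.Agent.OmegaHat14.Upper
import Groth.Agent.OmegaHat14.Der
import Groth.Agent.OmegaHat14.Frac
import Groth.Agent.EGA4Alg4.IntegralDim
import Groth.Agent.CAlg6.CompleteSurj

set_option autoImplicit false
universe u
open EGA41

namespace Groth.Agent.S4557

open IsLocalRing TensorProduct in
/-- Let A be a complete Noetherian local integral domain, A₀ a subring of A isomorphic to a power series
ring k[[T_1, …, T_r]] over a field k such that A is a finite A₀-algebra and the field of fractions E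
of A is a separable extension of the field of fractions L₀ of A₀ (here: A₀ = k[[T]] → A injective
and finite, A a k-algebra through A₀, and every element of A is a root of a polynomial over A₀ which
is separable over L₀). Then rk_A Ω̂_{A/k} = rk_E (Ω̂_{A/k} ⊗_A E) = dim A = r, where Ω̂_{A/k} is the
𝔪-adic completion of Ω_{A/k}; stated as dim_E (E ⊗_A Ω̂_{A/k}) = r. -/
theorem result (k : Type u) [Field k] (r : ℕ) (A : Type u) [CommRing A]
    [IsDomain A] [IsLocalRing A] [IsNoetherianRing A] [IsAdicComplete (maximalIdeal A) A]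
    [Algebra (MvPowerSeries (Fin r) k) A] [Algebra k A] [IsScalarTower k (MvPowerSeries (Fin r) k) A]
    (hinj : Function.Injective (algebraMap (MvPowerSeries (Fin r) k) A)) [Module.Finite (MvPowerSeries (Fin r) k) A]
    (hsep : ∀ a : A, ∃ P : Polynomial (MvPowerSeries (Fin r) k), Polynomial.aeval a P = 0 ∧
      (P.map (algebraMap (MvPowerSeries (Fin r) k) (FractionRing (MvPowerSeries (Fin r) k)))).Separable) :
    Module.finrank (FractionRing A) (FractionRing A ⊗[A] AdicCompletion (maximalIdeal A) (Ω[A⁄k])) = r := by
  classical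
  let S := MvPowerSeries (Fin r) k
  let L₀ := FractionRing S
  let E := FractionRing A
  let C := AdicCompletion (maximalIdeal A) (Ω[A⁄k])
  have : FaithfulSMul S A := (faithfulSMul_iff_algebraMap_injective S A).2 hinj
  have : Algebra.IsIntegral S A := Algebra.IsIntegral.of_finite S A
  have : IsLocalHom (algebraMap S A) := Algebra.IsIntegral.isLocalHom S A
  have ht : ∀ i, algebraMap S A (MvPowerSeries.X i) ∈ maximalIdeal A := fun i hu =>
    (CAlg6.mem_maximalIdeal_iff.2 (MvPowerSeries.constantCoeff_X i)) (isUnit_of_map_unit _ _ hu)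
  -- the residue field is finite over `k`
  have : Module.Finite k (ResidueField A) := by
    obtain ⟨G, hG⟩ := Module.Finite.fg_top (R := S) (M := A)
    refine ⟨⟨G.image (residue A), eq_top_iff.mpr fun z hz0 => ?_⟩⟩
    clear hz0
    obtain ⟨z, rfl⟩ := residue_surjective z
    have hz : z ∈ Submodule.span S (G : Set A) := hG ▸ Submodule.mem_top
    rw [Finset.coe_image]
    induction hz using Submodule.span_induction with
    | mem y hy => exact Submodule.subset_span ⟨y, hy, rfl⟩
    | zero => rw [map_zero]; exact zero_mem _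
    | add a b _ _ ha hb => rw [map_add]; exact add_mem ha hb
    | smul s y _ hy =>
      have hm : algebraMap S A (s - algebraMap k S (MvPowerSeries.constantCoeff s)) ∈ maximalIdeal A := by
        refine fun hu => CAlg6.mem_maximalIdeal_iff.2 ?_ (isUnit_of_map_unit (algebraMap S A) _ hu)
        simp [S, MvPowerSeries.algebraMap_apply]
      have he : residue A (s • y) = MvPowerSeries.constantCoeff s • residue A y := by
        rw [map_sub, ← IsScalarTower.algebraMap_apply, ← residue_eq_zero_iff, map_sub, sub_eq_zero] at hm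
        rw [Algebra.smul_def s y, map_mul, hm, Algebra.smul_def]
        rfl
      rw [he]
      exact Submodule.smul_mem _ _ hy
  -- the generic fibre is separable
  have : IsDomain S := hinj.isDomain _
  have : FaithfulSMul S E := (faithfulSMul_iff_algebraMap_injective S E).2 <| by
    rw [IsScalarTower.algebraMap_eq S A E]
    exact (IsFractionRing.injective A E).comp hinj
  let : Algebra L₀ E := FractionRing.liftAlgebra S E
  have : IsScalarTower S L₀ E := FractionRing.isScalarTower_liftAlgebra S E
  have : Module.Finite L₀ E := OmegaHat14.finite_fractionRing S A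
  have : Algebra.IsSeparable L₀ E := by
    refine ⟨fun z => (?_ : z ∈ separableClosure L₀ E)⟩
    have hA : ∀ a : A, algebraMap A E a ∈ separableClosure L₀ E := fun a => by
      obtain ⟨P, hP, hPsep⟩ := hsep a
      refine mem_separableClosure_iff.mpr (hPsep.of_dvd (minpoly.dvd L₀ _ ?_))
      rw [Polynomial.aeval_map_algebraMap, Polynomial.aeval_algebraMap_apply, hP, map_zero]
    obtain ⟨a, b, -, rfl⟩ := IsFractionRing.div_surjective A z
    exact div_mem (hA a) (hA b)
  have : Algebra.FormallyEtale S L₀ := Algebra.FormallyEtale.of_isLocalization (nonZeroDivisors S)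
  have : Algebra.FormallyEtale L₀ E := Algebra.FormallyEtale.of_isSeparable L₀ E
  have : Algebra.FormallyEtale S E := Algebra.FormallyEtale.comp S L₀ E
  have hbot : (⊥ : Ideal A).primeCompl = nonZeroDivisors A := by
    ext x
    simp [Ideal.primeCompl, mem_nonZeroDivisors_iff_ne_zero]
  have : IsLocalization.AtPrime E (⊥ : Ideal A) := by
    change IsLocalization (⊥ : Ideal A).primeCompl E
    rw [hbot]
    infer_instance
  have hun : Algebra.IsUnramifiedAt S (⊥ : Ideal A) :=
    Algebra.FormallyUnramified.of_equiv
      ((IsLocalization.algEquiv (⊥ : Ideal A).primeCompl E (Localization.AtPrime (⊥ : Ideal A))).restrictScalars S)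
  obtain ⟨a, ha, haw⟩ := (OmegaHat14.isUnramifiedAt_iff k A ht (⊥ : Ideal A)).1 hun
  let gen : Fin r → E ⊗[A] C := fun i => 1 ⊗ₜ OmegaHat14.dhat k A (algebraMap S A (MvPowerSeries.X i))
  have ha0 : algebraMap A E a ≠ 0 := fun h => ha (Ideal.mem_bot.mpr (IsFractionRing.injective A E (h.trans (map_zero _).symm)))
  have hspan : Submodule.span E (Set.range gen) = ⊤ := by
    refine eq_top_iff.mpr fun z hz0 => ?_
    clear hz0
    induction z using TensorProduct.induction_on with
    | zero => exact zero_mem _
    | add x y hx hy => exact add_mem hx hy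
    | tmul e w =>
      have h1 : (1 : E) ⊗ₜ[A] (a • w) ∈ Submodule.span E (Set.range gen) := by
        have h := Submodule.mem_map_of_mem (f := TensorProduct.mk A E C 1) (haw w)
        rw [Submodule.map_span, ← Set.range_comp] at h
        exact Submodule.span_subset_span A E _ h
      rw [show e ⊗ₜ[A] w = (e / algebraMap A E a) • ((1 : E) ⊗ₜ[A] (a • w)) by
        rw [TensorProduct.tmul_smul, TensorProduct.smul_tmul', TensorProduct.smul_tmul', smul_eq_mul,
          Algebra.smul_def, mul_one, div_mul_cancel₀ _ ha0]]
      exact Submodule.smul_mem _ _ h1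
  have : Module.Finite E (E ⊗[A] C) := ⟨⟨Finset.univ.image gen, by rw [Finset.coe_image, Finset.coe_univ, Set.image_univ, hspan]⟩⟩
  refine le_antisymm ?_ ?_
  · rw [← finrank_top E, ← hspan]
    exact (finrank_range_le_card gen).trans (Fintype.card_fin r).le
  -- independent functionals
  obtain ⟨d, hd, c, hc, Φ, w, hΦ⟩ := OmegaHat14.exists_map_to_pi k A (⊥ : Ideal A)
  have hdr : d = r := by
    have h : ringKrullDim (A ⧸ (⊥ : Ideal A)) = (r : WithBot ℕ∞) := by
      rw [ringKrullDim_eq_of_ringEquiv (RingEquiv.quotientBot A),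
        EGA4Alg4.ringKrullDim_eq_of_integral S A hinj, CAlg6.ringKrullDim_mvPowerSeries]
    exact_mod_cast hd.symm.trans h
  subst hdr
  let ι : (Fin d → A ⧸ (⊥ : Ideal A)) →ₗ[A] (Fin d → E) :=
    LinearMap.pi fun i => ((Submodule.liftQ (⊥ : Ideal A) (Algebra.linearMap A E) bot_le) ∘ₗ LinearMap.proj i)
  let Ψ : E ⊗[A] C →ₗ[E] (Fin d → E) := (ι ∘ₗ Φ).liftBaseChange E
  have hΨ : (Ψ ∘ fun j => (1 : E) ⊗ₜ[A] w j) = fun j => algebraMap A E c • (Pi.single j 1 : Fin d → E) := by
    funext j i
    simp only [Function.comp_apply, Ψ, LinearMap.liftBaseChange_tmul, ι, LinearMap.pi_apply,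
      LinearMap.comp_apply, LinearMap.proj_apply, hΦ, Pi.smul_apply, Pi.single_apply, smul_eq_mul]
    split_ifs <;> simp_all <;> rfl
  have hli : LinearIndependent E fun j => (1 : E) ⊗ₜ[A] w j := by
    refine LinearIndependent.of_comp Ψ ?_
    rw [hΨ]
    refine Fintype.linearIndependent_iff.mpr fun g hg i => ?_
    have h := congrFun hg i
    simp only [Finset.sum_apply, Pi.smul_apply, Pi.single_apply, smul_eq_mul, mul_ite, mul_one, mul_zero,
      Finset.sum_ite_eq, Finset.mem_univ, if_true, Pi.zero_apply] at h
    exact (mul_eq_zero.mp h).resolve_right fun h0 => hc (Ideal.mem_bot.mpr (IsFractionRing.injective A E (h0.trans (map_zero _).symm)))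
  simpa using hli.fintype_card_le_finrank

end Groth.Agent.S4557
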