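import Groth.Statements.S4559
import Groth.Agent.FSAdic12.LeftInv
import Groth.Agent.FSAdic12.LiftComplete
import Mathlib.RingTheory.AdicCompletion.Noetherian
import Mathlib.RingTheory.AdicCompletion.Basic
import Mathlib.RingTheory.Derivation.ToSquareZero
import Mathlib.RingTheory.Kaehler.Basic
import Mathlib.Algebra.TrivSqZeroExt.Basic
import Mathlib.LinearAlgebra.TensorProduct.Pi
import Groth.Prelude.Def_FSRel

set_option autoImplicit false
set_option linter.all false
universe u
open EGA41 TensorProduct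

namespace Groth.Agent.S4559

/-- Let A be 𝔞-adic and B a topological A-algebra for the 𝔟-adic topology (a power of 𝔞 maps into 𝔟).
Then B is a formally unramified A-algebra (for every homomorphism E → C of discrete A-algebras with
nilpotent kernel and every continuous u : B → C there is at most one continuous lift B → E; here E
discrete means killed by a power of 𝔞, and one may take C = E/J) if and only if the separated
completion of Ω_{B/A}, i.e. its 𝔟-adic completion, is zero. -/
theorem result {A B : Type u} [CommRing A] [CommRing B] [Algebra A B]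
    (𝔞 : Ideal A) (𝔟 : Ideal B) (hAB : ∃ k : ℕ, (𝔞 ^ k).map (algebraMap A B) ≤ 𝔟) :
    (∀ (E : Type u) [CommRing E] [Algebra A E], (∃ k : ℕ, (𝔞 ^ k).map (algebraMap A E) = ⊥) →
      ∀ J : Ideal E, IsNilpotent J → ∀ v₁ v₂ : B →ₐ[A] E,
        (∃ m : ℕ, ∀ x ∈ 𝔟 ^ m, v₁ x = 0) → (∃ m : ℕ, ∀ x ∈ 𝔟 ^ m, v₂ x = 0) →
        (∀ b : B, Ideal.Quotient.mk J (v₁ b) = Ideal.Quotient.mk J (v₂ b)) → v₁ = v₂) ↔
    Subsingleton (AdicCompletion 𝔟 (Ω[B⁄A])) := by
  have hiff : Subsingleton (AdicCompletion 𝔟 (Ω[B⁄A])) ↔ (𝔟 • ⊤ : Submodule B Ω[B⁄A]) = ⊤ := by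
    constructor
    · intro h
      rw [← Submodule.Quotient.subsingleton_iff]
      have := (AdicCompletion.eval_surjective 𝔟 (Ω[B⁄A]) 1).subsingleton
      rwa [pow_one] at this
    · intro h
      have hn : ∀ n : ℕ, (𝔟 ^ n • ⊤ : Submodule B Ω[B⁄A]) = ⊤ := by
        intro n
        induction n with
        | zero => simp
        | succ n ih => rw [pow_succ, mul_smul, h, ih]
      refine ⟨fun x y => ?_⟩
      ext n
      have : Subsingleton (Ω[B⁄A] ⧸ (𝔟 ^ n • ⊤ : Submodule B Ω[B⁄A])) :=
        Submodule.Quotient.subsingleton_iff.mpr (hn n)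
      exact Subsingleton.elim _ _
  rw [hiff]
  constructor
  · intro h
    set N := Ω[B⁄A] ⧸ (𝔟 • ⊤ : Submodule B Ω[B⁄A]) with hN
    letI : Module (B ⧸ 𝔟)ᵐᵒᵖ N := Module.compHom N ((RingHom.id (B ⧸ 𝔟)).fromOpposite fun _ _ => Commute.all _ _)
    haveI : IsCentralScalar (B ⧸ 𝔟) N := ⟨fun _ _ => rfl⟩
    let d : Derivation A B N := (Submodule.mkQ _).compDer (KaehlerDifferential.D A B)
    let v₁ : B →ₐ[A] (TrivSqZeroExt (B ⧸ 𝔟) N) := (TrivSqZeroExt.inlAlgHom A (B ⧸ 𝔟) N).comp (Ideal.Quotient.mkₐ A 𝔟)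
    let v₂ : B →ₐ[A] (TrivSqZeroExt (B ⧸ 𝔟) N) :=
      { toFun := fun b => TrivSqZeroExt.inl (Ideal.Quotient.mk 𝔟 b) + TrivSqZeroExt.inr (d b)
        map_one' := by apply TrivSqZeroExt.ext <;> simp
        map_mul' := fun x y => by
          apply TrivSqZeroExt.ext
          · simp
          · simp only [map_mul, Derivation.leibniz, TrivSqZeroExt.snd_add, TrivSqZeroExt.snd_inl,
              TrivSqZeroExt.snd_inr, zero_add, TrivSqZeroExt.snd_mul, TrivSqZeroExt.fst_add,
              TrivSqZeroExt.fst_inl, TrivSqZeroExt.fst_inr, add_zero]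
            rfl
        map_zero' := by simp
        map_add' := fun x y => by simp; abel
        commutes' := fun a => by
          apply TrivSqZeroExt.ext <;> simp [TrivSqZeroExt.algebraMap_eq_inl'] }
    obtain ⟨k, hk⟩ := hAB
    have hE : (𝔞 ^ k).map (algebraMap A (TrivSqZeroExt (B ⧸ 𝔟) N)) = ⊥ := by
      rw [eq_bot_iff, Ideal.map_le_iff_le_comap]
      intro a ha
      have : Ideal.Quotient.mk 𝔟 (algebraMap A B a) = 0 :=
        Ideal.Quotient.eq_zero_iff_mem.mpr (hk (Ideal.mem_map_of_mem _ ha))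
      show algebraMap A (TrivSqZeroExt (B ⧸ 𝔟) N) a = 0
      rw [TrivSqZeroExt.algebraMap_eq_inl', IsScalarTower.algebraMap_apply A B (B ⧸ 𝔟)]
      exact (congrArg TrivSqZeroExt.inl this).trans (TrivSqZeroExt.inl_zero _)
    let J : Ideal (TrivSqZeroExt (B ⧸ 𝔟) N) := RingHom.ker (TrivSqZeroExt.fstHom (B ⧸ 𝔟) (B ⧸ 𝔟) N).toRingHom
    have hJ : IsNilpotent J := by
      refine ⟨2, ?_⟩
      rw [pow_two, Ideal.zero_eq_bot, eq_bot_iff, Ideal.mul_le]
      intro x hx y hy
      have hx : x.fst = 0 := hx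
      have hy : y.fst = 0 := hy
      rw [Ideal.mem_bot]
      apply TrivSqZeroExt.ext <;> simp [hx, hy]
    have hd2 : ∀ x ∈ 𝔟 ^ 2, d x = 0 := by
      intro x hx
      rw [pow_two] at hx
      refine Submodule.smul_induction_on hx (fun a ha b hb => ?_) (fun a b ha hb => by rw [map_add, ha, hb, add_zero])
      rw [smul_eq_mul, Derivation.leibniz]
      refine (Submodule.Quotient.mk_eq_zero _).mpr (Submodule.add_mem _ ?_ ?_)
      · exact Submodule.smul_mem_smul ha trivial
      · exact Submodule.smul_mem_smul hb trivial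
    have h12 := h (TrivSqZeroExt (B ⧸ 𝔟) N) ⟨k, hE⟩ J hJ v₁ v₂
      ⟨1, fun x hx => by
        rw [pow_one] at hx
        show TrivSqZeroExt.inl (Ideal.Quotient.mk 𝔟 x) = 0
        rw [Ideal.Quotient.eq_zero_iff_mem.mpr hx, TrivSqZeroExt.inl_zero]⟩
      ⟨2, fun x hx => by
        show TrivSqZeroExt.inl (Ideal.Quotient.mk 𝔟 x) + TrivSqZeroExt.inr (d x) = 0
        rw [hd2 x hx, Ideal.Quotient.eq_zero_iff_mem.mpr (Ideal.pow_le_self two_ne_zero hx)]
        simp⟩
      fun b => Ideal.Quotient.eq.mpr (by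
        show TrivSqZeroExt.fst (v₁ b - v₂ b) = 0
        simp [v₁, v₂, Ideal.Quotient.mkₐ_eq_mk])
    have : (Submodule.mkQ _ : Ω[B⁄A] →ₗ[B] N) = 0 := by
      apply Derivation.liftKaehlerDifferential_unique
      ext b
      have := congrArg TrivSqZeroExt.snd (AlgHom.congr_fun h12 b)
      simp [v₁, v₂] at this
      exact this.symm
    rwa [← LinearMap.ker_eq_top, Submodule.ker_mkQ] at this
  · intro hgen E _ _ _ J hJ v₁ v₂ _ ⟨m, hm⟩ hv
    have hn : (𝔟 ^ m • ⊤ : Submodule B Ω[B⁄A]) = ⊤ := by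
      clear hm
      induction m with
      | zero => simp
      | succ m ih => rw [pow_succ, mul_smul, hgen, ih]
    have step : ∀ j, ∀ x, v₁ x - v₂ x ∈ J ^ (j + 1) := by
      intro j
      induction j with
      | zero => exact fun x => by rw [pow_one]; exact Ideal.Quotient.eq.mp (hv x)
      | succ j ih =>
        let π : E →ₐ[A] E ⧸ J ^ (j + 2) := Ideal.Quotient.mkₐ A _
        set K := (J ^ (j + 1)).map π with hKdef
        have hK : K ^ 2 = ⊥ := by
          refine (Ideal.map_pow π (J ^ (j + 1)) 2).symm.trans ((Ideal.map_eq_bot_iff_le_ker π).mpr ?_)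
          refine le_trans ?_ (Ideal.Quotient.mkₐ_ker A (J ^ (j + 2))).ge
          exact (pow_mul J (j + 1) 2).ge.trans (Ideal.pow_le_pow_right (by omega))
        letI : Algebra B (E ⧸ J ^ (j + 2)) := (π.comp v₂).toRingHom.toAlgebra
        haveI : IsScalarTower A B (E ⧸ J ^ (j + 2)) :=
          IsScalarTower.of_algebraMap_eq fun a => ((π.comp v₂).commutes a).symm
        let D := derivationToSquareZeroOfLift K hK (π.comp v₁) (AlgHom.ext fun x => Ideal.Quotient.eq.mpr (by
          show π (v₁ x) - π (v₂ x) ∈ K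
          rw [← map_sub]
          exact Ideal.mem_map_of_mem π (ih x)))
        have hD : D.liftKaehlerDifferential = 0 := by
          rw [← LinearMap.ker_eq_top, eq_top_iff, ← hn, Submodule.smul_le]
          intro b hb y _
          rw [LinearMap.mem_ker, map_smul]
          apply Subtype.ext
          show π (v₂ b) * _ = 0
          rw [hm b hb, map_zero, zero_mul]
        intro x
        have h0 : D x = 0 := by rw [← D.liftKaehlerDifferential_comp_D, hD, LinearMap.zero_apply]
        have h1 := congrArg Subtype.val h0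
        rw [derivationToSquareZeroOfLift_apply] at h1
        refine Ideal.Quotient.eq_zero_iff_mem.mp ?_
        rw [map_sub]
        exact h1
    obtain ⟨n, hn'⟩ := hJ
    refine AlgHom.ext fun x => sub_eq_zero.mp ?_
    have := Ideal.pow_le_pow_right (Nat.le_succ n) (step n x)
    rwa [hn', Ideal.zero_eq_bot, Ideal.mem_bot] at this

end Groth.Agent.S4559
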