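import Groth.Statements.S4560
import Mathlib.RingTheory.Smooth.Field
import Mathlib.RingTheory.Smooth.Kaehler
import Mathlib.RingTheory.Kaehler.JacobiZariski
import Mathlib.RingTheory.Etale.Field
import Mathlib.FieldTheory.Perfect
import Mathlib.RingTheory.AlgebraicIndependent.TranscendenceBasis
import Mathlib.LinearAlgebra.SymmetricAlgebra.Basic
import Mathlib.Algebra.Module.Torsion.Basic
import Mathlib.Algebra.Module.Projective
import Mathlib.RingTheory.Derivation.ToSquareZero
import Mathlib.RingTheory.Unramified.Basic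
import Groth.Prelude.Def_EGA41

set_option autoImplicit false
set_option linter.all false
universe u
open EGA41 TensorProduct

namespace Groth.Agent.S4560

/-- Let A be a ring, 𝔪 an ideal of A, B an A-algebra; give A the 𝔪-adic topology and B the topology
deduced from it (the 𝔪B-adic topology), and put A₀ = A/𝔪, B₀ = B/𝔪B. Then B is a formally unramified
A-algebra (for these topologies: E discrete means killed by a power of 𝔪, and continuity of maps B →
E is then automatic) if and only if Ω_{B₀/A₀} = 0, i.e. B₀ is a formally unramified A₀-algebra. -/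
theorem result {A B : Type u} [CommRing A] [CommRing B] [Algebra A B] (𝔪 : Ideal A) :
    (∀ (E : Type u) [CommRing E] [Algebra A E], (∃ k : ℕ, (𝔪 ^ k).map (algebraMap A E) = ⊥) →
      ∀ J : Ideal E, IsNilpotent J → ∀ v₁ v₂ : B →ₐ[A] E,
        (∀ b : B, Ideal.Quotient.mk J (v₁ b) = Ideal.Quotient.mk J (v₂ b)) → v₁ = v₂) ↔
    Subsingleton (Ω[B ⧸ 𝔪.map (algebraMap A B)⁄A ⧸ 𝔪]) := by
  set A₀ := A ⧸ 𝔪
  set B₀ := B ⧸ 𝔪.map (algebraMap A B)
  constructor
  · intro h
    refine (Algebra.formallyUnramified_iff (R := A₀) (A := B₀)).mp ?_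
    rw [Algebra.FormallyUnramified.iff_comp_injective]
    intro C _ _ I hI f₁ f₂ hf
    letI : Algebra A C := ((algebraMap A₀ C).comp (Ideal.Quotient.mk _)).toAlgebra
    let lift : (B₀ →ₐ[A₀] C) → (B →ₐ[A] C) := fun f =>
      { f.toRingHom.comp (Ideal.Quotient.mk _) with commutes' := fun a => f.commutes (Ideal.Quotient.mk _ a) }
    have hC : (𝔪 ^ 1).map (algebraMap A C) = ⊥ := by
      rw [pow_one, eq_bot_iff, Ideal.map_le_iff_le_comap]
      intro a ha
      show algebraMap A₀ C (Ideal.Quotient.mk _ a) = 0
      rw [Ideal.Quotient.eq_zero_iff_mem.mpr ha, map_zero]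
    have := h C ⟨1, hC⟩ I ⟨2, hI⟩ (lift f₁) (lift f₂) fun b => AlgHom.congr_fun hf (Ideal.Quotient.mk _ b)
    ext x
    obtain ⟨x, rfl⟩ := Ideal.Quotient.mk_surjective x
    exact AlgHom.congr_fun this x
  · intro hΩ E _ _ ⟨k, hk⟩ J hJ v₁ v₂ hv
    haveI : Algebra.FormallyUnramified A₀ B₀ := (Algebra.formallyUnramified_iff A₀ B₀).mpr hΩ
    -- every differential of `B` over `A` lies in `𝔪 Ω`
    have hgen : (𝔪.map (algebraMap A B) • ⊤ : Submodule B Ω[B⁄A]) = ⊤ := by
      set N := Ω[B⁄A] ⧸ (𝔪.map (algebraMap A B) • ⊤ : Submodule B Ω[B⁄A])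
      let d : Derivation A B N := (Submodule.mkQ _).compDer (KaehlerDifferential.D A B)
      have hd : ∀ b ∈ 𝔪.map (algebraMap A B), d b = 0 := by
        intro b hb
        refine Submodule.span_induction ?_ (map_zero d) (fun x y _ _ hx hy => by rw [map_add, hx, hy, add_zero]) ?_ hb
        · rintro _ ⟨a, _, rfl⟩
          exact d.map_algebraMap a
        · intro r x hx' hx
          rw [smul_eq_mul, Derivation.leibniz, hx, smul_zero, zero_add]
          obtain ⟨y, hy⟩ := Submodule.mkQ_surjective _ (d r)
          rw [← hy, ← map_smul]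
          exact (Submodule.Quotient.mk_eq_zero _).mpr (Submodule.smul_mem_smul hx' trivial)
      letI : Module A₀ N := Module.compHom N (algebraMap A₀ B₀)
      haveI : IsScalarTower A₀ B₀ N := IsScalarTower.of_algebraMap_smul fun _ _ => rfl
      let dl : B₀ →ₗ[A] N := Submodule.liftQ ((𝔪.map (algebraMap A B)).restrictScalars A) d.toLinearMap hd
      let dl' : B₀ → N := dl
      let d₀ : Derivation A₀ B₀ N := Derivation.mk'
        { toFun := dl'
          map_add' := map_add dl
          map_smul' := fun a x => by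
            obtain ⟨a, rfl⟩ := Ideal.Quotient.mk_surjective a
            obtain ⟨x, rfl⟩ := Ideal.Quotient.mk_surjective x
            rw [Algebra.smul_def, RingHom.id_apply, ← algebraMap_smul B₀ (Ideal.Quotient.mk 𝔪 a) (dl' _)]
            show d (algebraMap A B a * x) = algebraMap A B a • d x
            rw [Derivation.leibniz, Derivation.map_algebraMap, smul_zero, add_zero] }
        (fun x y => by
          obtain ⟨x, rfl⟩ := Ideal.Quotient.mk_surjective x
          obtain ⟨y, rfl⟩ := Ideal.Quotient.mk_surjective y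
          exact d.leibniz x y)
      have : (Submodule.mkQ _ : Ω[B⁄A] →ₗ[B] N) = 0 := by
        apply Derivation.liftKaehlerDifferential_unique
        ext b
        have h0 : d₀ (Ideal.Quotient.mk _ b) = 0 := by
          rw [← d₀.liftKaehlerDifferential_comp_D, Subsingleton.elim (KaehlerDifferential.D A₀ B₀ _) 0, map_zero]
        exact h0
      rwa [← LinearMap.ker_eq_top, Submodule.ker_mkQ] at this
    set I := 𝔪.map (algebraMap A E) with hI
    have base : ∀ x, v₁ x - v₂ x ∈ I := by
      intro x
      haveI hJn : IsNilpotent (J.map (Ideal.Quotient.mk I)) := by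
        obtain ⟨m, hm⟩ := hJ
        exact ⟨m, by rw [← Ideal.map_pow, hm]; exact Ideal.map_bot⟩
      letI : Algebra A₀ (E ⧸ I) := (Ideal.quotientMap I (algebraMap A E) Ideal.le_comap_map).toAlgebra
      let w : (B →ₐ[A] E) → (B₀ →ₐ[A₀] E ⧸ I) := fun v =>
        { Ideal.quotientMap I v.toRingHom (by
            rw [← Ideal.map_le_iff_le_comap, Ideal.map_map, AlgHom.toRingHom_eq_coe, v.comp_algebraMap]) with
          commutes' := fun a => by
            obtain ⟨a, rfl⟩ := Ideal.Quotient.mk_surjective a
            exact congrArg (Ideal.Quotient.mk I) (v.commutes a) }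
      have : w v₁ = w v₂ := by
        refine Algebra.FormallyUnramified.ext (J.map (Ideal.Quotient.mk I)) hJn fun y => ?_
        obtain ⟨y, rfl⟩ := Ideal.Quotient.mk_surjective y
        refine Ideal.Quotient.eq.mpr ?_
        show Ideal.Quotient.mk I (v₁ y) - Ideal.Quotient.mk I (v₂ y) ∈ _
        rw [← map_sub]
        exact Ideal.mem_map_of_mem _ (Ideal.Quotient.eq.mp (hv y))
      exact Ideal.Quotient.eq.mp (AlgHom.congr_fun this (Ideal.Quotient.mk _ x))
    have step : ∀ j, ∀ x, v₁ x - v₂ x ∈ I ^ (j + 1) := by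
      intro j
      induction j with
      | zero => simpa using base
      | succ j ih =>
        let π : E →ₐ[A] E ⧸ I ^ (j + 2) := Ideal.Quotient.mkₐ A _
        set K := (I ^ (j + 1)).map π with hKdef
        have hK : K ^ 2 = ⊥ := by
          refine (Ideal.map_pow π (I ^ (j + 1)) 2).symm.trans ((Ideal.map_eq_bot_iff_le_ker π).mpr ?_)
          refine le_trans ?_ (Ideal.Quotient.mkₐ_ker A (I ^ (j + 2))).ge
          exact (pow_mul I (j + 1) 2).ge.trans (Ideal.pow_le_pow_right (by omega))
        letI : Algebra B (E ⧸ I ^ (j + 2)) := (π.comp v₂).toRingHom.toAlgebra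
        haveI : IsScalarTower A B (E ⧸ I ^ (j + 2)) :=
          IsScalarTower.of_algebraMap_eq fun a => ((π.comp v₂).commutes a).symm
        let D := derivationToSquareZeroOfLift K hK (π.comp v₁) (AlgHom.ext fun x => Ideal.Quotient.eq.mpr (by
          show π (v₁ x) - π (v₂ x) ∈ K
          rw [← map_sub]
          exact Ideal.mem_map_of_mem π (ih x)))
        have hD : D.liftKaehlerDifferential = 0 := by
          rw [← LinearMap.ker_eq_top, eq_top_iff, ← hgen, Submodule.smul_le]
          intro b hb y _
          rw [LinearMap.mem_ker, map_smul]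
          obtain ⟨⟨z, hz⟩, hz'⟩ : ∃ z, D.liftKaehlerDifferential y = z := ⟨_, rfl⟩
          rw [hz']
          obtain ⟨e, he, rfl⟩ := (Ideal.mem_map_iff_of_surjective _ Ideal.Quotient.mk_surjective).mp hz
          apply Subtype.ext
          show π (v₂ b) * π e = 0
          rw [← map_mul]
          refine Ideal.Quotient.eq_zero_iff_mem.mpr ?_
          rw [pow_succ' _ (j + 1)]
          refine Ideal.mul_mem_mul ?_ he
          have := Ideal.mem_map_of_mem v₂.toRingHom hb
          rwa [Ideal.map_map, AlgHom.toRingHom_eq_coe, v₂.comp_algebraMap] at this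
        intro x
        have h0 : D x = 0 := by rw [← D.liftKaehlerDifferential_comp_D, hD, LinearMap.zero_apply]
        have h1 := congrArg Subtype.val h0
        rw [derivationToSquareZeroOfLift_apply] at h1
        refine Ideal.Quotient.eq_zero_iff_mem.mp ?_
        rw [map_sub]
        exact h1
    refine AlgHom.ext fun x => sub_eq_zero.mp ?_
    have := Ideal.pow_le_pow_right (Nat.le_succ k) (step k x)
    rwa [hI, ← Ideal.map_pow, hk, Ideal.mem_bot] at this

end Groth.Agent.S4560
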