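import Groth.Statements.S4561


set_option autoImplicit false
universe u
open EGA41

namespace Groth.Agent.S4561

/-- Let k₀ be a field of characteristic p > 0 with [k₀ : k₀^p] < ∞ and K₀ an extension of k₀. Inside
K₀((T_1, …, T_r)) one has (k₀(K₀^p))((T_1, …, T_r)) = k₀(K₀^p((T_1, …, T_r))); here, for a subfield
F of K₀, F((T)) denotes the subfield of the fraction field of K₀[[T]] generated by the power series
with all coefficients in F. -/
theorem result (p : ℕ) [Fact p.Prime] {k₀ K₀ : Type u} [Field k₀] [Field K₀] [Algebra k₀ K₀] [CharP k₀ p]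
    (hfin : Module.Finite (Subfield.closure (Set.range fun x : k₀ => x ^ p)) k₀) (r : ℕ) :
    Subfield.closure (algebraMap (MvPowerSeries (Fin r) K₀) (FractionRing (MvPowerSeries (Fin r) K₀)) ''
        {f | ∀ n, MvPowerSeries.coeff n f ∈
          Subfield.closure (Set.range (algebraMap k₀ K₀) ∪ Set.range fun y : K₀ => y ^ p)}) =
      Subfield.closure
        (Set.range (algebraMap k₀ (FractionRing (MvPowerSeries (Fin r) K₀))) ∪
          (Subfield.closure (algebraMap (MvPowerSeries (Fin r) K₀) (FractionRing (MvPowerSeries (Fin r) K₀)) ''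
            {f | ∀ n, MvPowerSeries.coeff n f ∈ Subfield.closure (Set.range fun y : K₀ => y ^ p)}) :
            Set (FractionRing (MvPowerSeries (Fin r) K₀)))) := by
  classical
  let S := MvPowerSeries (Fin r) K₀
  let L := FractionRing S
  let P : Subfield K₀ := Subfield.closure (Set.range fun y : K₀ => y ^ p)
  set F : Subfield K₀ := Subfield.closure (Set.range (algebraMap k₀ K₀) ∪ Set.range fun y : K₀ => y ^ p) with hF
  have hPF : P ≤ F := Subfield.closure_mono Set.subset_union_right
  have hk : ∀ a : k₀, algebraMap k₀ L a = algebraMap S L (MvPowerSeries.C (algebraMap k₀ K₀ a)) := fun a => by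
    rw [IsScalarTower.algebraMap_apply k₀ S L, MvPowerSeries.algebraMap_apply]
  -- finitely many generators of `F` over `P`
  obtain ⟨G, hG⟩ := Module.Finite.fg_top (R := Subfield.closure (Set.range fun x : k₀ => x ^ p)) (M := k₀)
  let g : G → K₀ := fun i => algebraMap k₀ K₀ i
  let M : Submodule P K₀ := Submodule.span P (Set.range g)
  have hM : ∀ a : k₀, algebraMap k₀ K₀ a ∈ M := fun a => by
    have ha : a ∈ Submodule.span (Subfield.closure (Set.range fun x : k₀ => x ^ p)) (G : Set k₀) :=
      hG ▸ Submodule.mem_top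
    induction ha using Submodule.span_induction with
    | mem y hy => exact Submodule.subset_span ⟨⟨y, hy⟩, rfl⟩
    | zero => rw [map_zero]; exact zero_mem _
    | add x y _ _ hx hy => rw [map_add]; exact add_mem hx hy
    | smul q y _ hy =>
      have hq : algebraMap k₀ K₀ q ∈ P := by
        refine (Subfield.closure_le (t := P.comap (algebraMap k₀ K₀))).mpr ?_ q.2
        rintro _ ⟨x, rfl⟩
        exact Subfield.subset_closure ⟨algebraMap k₀ K₀ x, (map_pow _ _ _).symm⟩
      change algebraMap k₀ K₀ ((q : k₀) * y) ∈ M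
      rw [map_mul]
      exact M.smul_mem ⟨_, hq⟩ hy
  have hP : ∀ c ∈ P, c ∈ M := fun c hc => by
    have h := M.smul_mem (⟨c, hc⟩ : P) (hM 1)
    rw [map_one] at h
    change c * 1 ∈ M at h
    rwa [mul_one] at h
  have hmul : ∀ x ∈ M, ∀ y ∈ M, x * y ∈ M := fun x hx y hy => by
    induction hx using Submodule.span_induction with
    | mem x hx =>
      induction hy using Submodule.span_induction with
      | mem y hy =>
        obtain ⟨i, rfl⟩ := hx
        obtain ⟨j, rfl⟩ := hy
        rw [← map_mul]
        exact hM _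
      | zero => rw [mul_zero]; exact zero_mem _
      | add a b _ _ ha hb => rw [mul_add]; exact add_mem ha hb
      | smul c a _ ha => rw [mul_smul_comm]; exact M.smul_mem c ha
    | zero => rw [zero_mul]; exact zero_mem _
    | add a b _ _ ha hb => rw [add_mul]; exact add_mem ha hb
    | smul c a _ ha => rw [smul_mul_assoc]; exact M.smul_mem c ha
  let A : Subalgebra P K₀ := M.toSubalgebra (hP 1 (one_mem _)) (fun x y hx hy => hmul x hx y hy)
  let T : Subfield K₀ := { A.toSubring with
    inv_mem' := fun x hx => by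
      rcases eq_or_ne x 0 with rfl | h0
      · rw [inv_zero]; exact zero_mem A
      have h : x⁻¹ = x ^ (p - 1) * (x ^ p)⁻¹ := by
        refine inv_eq_of_mul_eq_one_left ?_
        rw [mul_right_comm, ← pow_succ, Nat.sub_add_cancel (Fact.out : p.Prime).pos,
          mul_inv_cancel₀ (pow_ne_zero _ h0)]
      rw [h]
      exact hmul _ (pow_mem hx _ : x ^ (p - 1) ∈ A) _ (hP _ (inv_mem (Subfield.subset_closure ⟨x, rfl⟩))) }
  have hFT : F ≤ T := Subfield.closure_le.mpr <| by
    rintro _ (⟨a, rfl⟩ | ⟨y, rfl⟩)
    · exact hM a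
    · exact hP _ (Subfield.subset_closure ⟨y, rfl⟩)
  refine le_antisymm (Subfield.closure_le.mpr ?_) (Subfield.closure_le.mpr ?_)
  · rintro _ ⟨f, hf, rfl⟩
    choose c hc using fun n => (Submodule.mem_span_range_iff_exists_fun P).mp (hFT (hf n))
    let f' : G → S := fun i n => (c n i : K₀)
    have hf' : f = ∑ i : G, MvPowerSeries.C (g i) * f' i := by
      ext n
      rw [map_sum, ← hc n]
      refine Finset.sum_congr rfl fun i _ => ?_
      rw [MvPowerSeries.coeff_C_mul, mul_comm]
      rfl
    rw [hf', map_sum]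
    refine sum_mem fun i _ => ?_
    rw [map_mul, ← hk]
    refine mul_mem (Subfield.subset_closure (Or.inl ⟨_, rfl⟩)) (Subfield.subset_closure (Or.inr ?_))
    exact Subfield.subset_closure ⟨f' i, fun n => (c n i).2, rfl⟩
  · rintro x (⟨a, rfl⟩ | hx)
    · rw [SetLike.mem_coe, hk]
      refine Subfield.subset_closure ⟨_, fun n => ?_, rfl⟩
      rw [MvPowerSeries.coeff_C]
      split_ifs
      · exact Subfield.subset_closure (Or.inl ⟨a, rfl⟩)
      · exact zero_mem _
    · refine Subfield.closure_mono (Set.image_mono ?_) hx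
      exact fun f hf n => hPF (hf n)

end Groth.Agent.S4561
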