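import Groth.Statements.S4564
import Mathlib
import Groth.Agent.CAlgH2.CompleteN2
import Groth.Agent.S1964
import Groth.Agent.SGA3a.FiniteComplete
import Groth.Agent.Frg27.RigClosed
import Groth.Agent.CAlg1.Complete

set_option autoImplicit false
set_option linter.style.haveILetI false
set_option linter.style.longLine false
universe u
open CAlg

namespace Groth.Agent.S4564


open IsLocalRing

/-- Let A be a complete Noetherian local domain with fraction field K and K' a finite extension of K.
Then the integral closure of A in K' is a local ring, complete for the adic topology of its maximal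
ideal. -/
theorem result {A K' : Type u} [CommRing A]
    [IsDomain A] [IsLocalRing A] [IsNoetherianRing A] [IsAdicComplete (IsLocalRing.maximalIdeal A) A]
    [Field K'] [Algebra A K'] [Algebra (FractionRing A) K'] [IsScalarTower A (FractionRing A) K']
    [FiniteDimensional (FractionRing A) K'] :
    ∃ _ : IsLocalRing (integralClosure A K'),
      IsAdicComplete (IsLocalRing.maximalIdeal (integralClosure A K')) (integralClosure A K') := by
  classical
  haveI : HenselianRing A (maximalIdeal A) := inferInstance
  haveI : HenselianLocalRing A :=
    { is_henselian := fun f hf a₀ h₁ h₂ => HenselianRing.is_henselian (I := maximalIdeal A) f hf a₀ h₁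
        (h₂.map _) }
  haveI : Module.Finite A (integralClosure A K') :=
    Groth.Agent.CAlgH2.isN2_of_isAdicComplete A K' inferInstance
  haveI : Algebra.IsIntegral A (integralClosure A K') := Algebra.IsIntegral.of_finite _ _
  obtain ⟨_, hloc, -⟩ := Groth.Agent.S1964.result A (integralClosure A K')
  refine ⟨inferInstance, ?_⟩
  have hIc := Groth.Agent.SGA3a.isAdicComplete_map_of_finite (A := A) (C := integralClosure A K')
  set B := integralClosure A K'
  set J : Ideal B := (maximalIdeal A).map (algebraMap A B)
  haveI : IsNoetherianRing B := IsNoetherianRing.of_finite A B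
  have hrad : maximalIdeal B ≤ J.radical := by
    rw [Ideal.radical_eq_sInf]
    refine le_sInf fun P ⟨hP, hPp⟩ => ?_
    haveI := hPp
    have hPA : (P.comap (algebraMap A B)).IsMaximal := by
      have : maximalIdeal A ≤ P.comap (algebraMap A B) := Ideal.map_le_iff_le_comap.1 hP
      rw [← (maximalIdeal.isMaximal A).eq_of_le (Ideal.IsPrime.ne_top inferInstance) this]
      exact maximalIdeal.isMaximal A
    haveI : P.IsMaximal := Ideal.isMaximal_of_isIntegral_of_isMaximal_comap P hPA
    exact (IsLocalRing.eq_maximalIdeal ‹P.IsMaximal›).ge
  obtain ⟨N, hN⟩ := Ideal.exists_pow_le_of_le_radical_of_fg hrad (IsNoetherian.noetherian _)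
  haveI := hIc
  haveI : IsAdicComplete (maximalIdeal B ^ (N + 1)) B :=
    Groth.Agent.CAlg1.isAdicComplete_of_le ((Ideal.pow_le_pow_right (Nat.le_succ N)).trans hN)
      (IsNoetherian.noetherian _)
  exact Groth.Agent.Frg27.isAdicComplete_of_pow (N := N)

end Groth.Agent.S4564
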