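import Groth.Statements.S4565
import Mathlib
import Groth.Agent.S4615

set_option autoImplicit false
set_option linter.style.haveILetI false
set_option linter.style.longLine false
universe u
open TensorProduct
open CAlg

namespace Groth.Agent.S4565


open IsLocalRing TensorProduct

/-- Let A be a Noetherian local domain with fraction field K whose adic completion Â is reduced, R the
total ring of fractions of Â and K' a finite extension of K. If R ⊗_A K' (equal to R ⊗_K K', since K
is a localization of A and the nonzero elements of A are invertible in R) is reduced, then the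
integral closure of A in K' is a finitely generated A-module. -/
theorem result {A K' R : Type u}
    [CommRing A] [IsDomain A] [IsLocalRing A] [IsNoetherianRing A]
    (hred : IsReduced (AdicCompletion (IsLocalRing.maximalIdeal A) A))
    [CommRing R] [Algebra (AdicCompletion (IsLocalRing.maximalIdeal A) A) R]
    [IsFractionRing (AdicCompletion (IsLocalRing.maximalIdeal A) A) R] [Algebra A R]
    [IsScalarTower A (AdicCompletion (IsLocalRing.maximalIdeal A) A) R]
    [Field K'] [Algebra A K'] [Algebra (FractionRing A) K'] [IsScalarTower A (FractionRing A) K']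
    [FiniteDimensional (FractionRing A) K'] (h : IsReduced (R ⊗[A] K')) :
    Module.Finite A (integralClosure A K') := by
  classical
  let Ah := AdicCompletion (maximalIdeal A) A
  haveI : IsNoetherianRing Ah := Groth.Agent.Cohen12.isNoetherianRing_completion A
  haveI : Module.Flat A Ah := AdicCompletion.flat_of_isNoetherian _
  haveI : IsLocalHom (algebraMap A Ah) :=
    ((IsLocalRing.local_hom_TFAE _).out 2 0 rfl rfl).mp AdicCompletion.maximalIdeal_eq_map.symm.le
  haveI : Module.FaithfullyFlat A Ah := Module.FaithfullyFlat.of_flat_of_isLocalHom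
  obtain ⟨Cα, hC, hst, -⟩ := Groth.Agent.S4615.result (A := A) (K' := K')
  haveI := h
  haveI : Module.Flat A (FractionRing A) := IsLocalization.flat _ (nonZeroDivisors A)
  haveI : Module.Flat A K' := Module.Flat.trans A (FractionRing A) K'
  have hR : Function.Injective (IsScalarTower.toAlgHom A Ah R) := IsFractionRing.injective Ah R
  have red : ∀ C : Subalgebra A K', IsReduced (↥C ⊗[A] Ah) := fun C => by
    let ψ : ↥C ⊗[A] Ah →ₐ[A] R ⊗[A] K' := (Algebra.TensorProduct.comm A K' R).toAlgHom.comp
      ((Algebra.TensorProduct.map (AlgHom.id A K') (IsScalarTower.toAlgHom A Ah R)).comp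
        (Algebra.TensorProduct.map C.val (AlgHom.id A Ah)))
    refine isReduced_of_injective ψ ?_
    have h1 : Function.Injective ((C.val.toLinearMap).rTensor Ah) :=
      Module.Flat.rTensor_preserves_injective_linearMap _ Subtype.val_injective
    have h2 : Function.Injective ((IsScalarTower.toAlgHom A Ah R).toLinearMap.lTensor K') :=
      Module.Flat.lTensor_preserves_injective_linearMap _ hR
    exact (Algebra.TensorProduct.comm A K' R).injective.comp (h2.comp h1)
  haveI : Module.Finite A Cα := hC.1
  have hle : ∀ a : K', IsIntegral A a → a ∈ Cα := fun a ha => by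
    let D := Algebra.adjoin A {a}
    have hD : Module.Finite A D :=
      Algebra.finite_adjoin_of_finite_of_isIntegral (Set.finite_singleton _) (by rintro x rfl; exact ha)
    let C := Cα ⊔ D
    have hPC : Module.Finite A C ∧ ∀ x : K', ∃ u v : C, (v : K') ≠ 0 ∧ x * v = u :=
      Groth.Agent.CAlgH2.FullFinite.sup hC hD
    have hle : Cα ≤ C := le_sup_left
    obtain ⟨-, hs⟩ := hst C hPC hle
    have hsurj : Function.Surjective ((Subalgebra.inclusion hle).toLinearMap.rTensor Ah) := fun y => by
      obtain ⟨x, hx⟩ := hs y
      haveI := red C
      exact ⟨x, sub_eq_zero.1 (isNilpotent_iff_eq_zero.1 hx)⟩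
    obtain ⟨c, hc⟩ := (Module.FaithfullyFlat.lTensor_surjective_iff_surjective A Ah
      (Subalgebra.inclusion hle).toLinearMap).1 ((LinearMap.lTensor_surj_iff_rTensor_surj Ah _).2 hsurj)
      ⟨a, (le_sup_right : D ≤ C) (Algebra.self_mem_adjoin_singleton A a)⟩
    have : (c : K') = a := congrArg Subtype.val hc
    exact this ▸ c.2
  haveI : IsNoetherian A Cα := inferInstance
  exact Module.Finite.of_injective
    ({ toFun := fun x => ⟨x.1, hle x.1 x.2⟩, map_add' := fun _ _ => rfl, map_smul' := fun _ _ => rfl } :
      integralClosure A K' →ₗ[A] Cα) fun x y hxy => Subtype.ext (congrArg Subtype.val hxy :)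

end Groth.Agent.S4565
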