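import Groth.Statements.S4566
import Mathlib
import Groth.Agent.S4565

set_option autoImplicit false
set_option linter.style.haveILetI false
set_option linter.style.longLine false
universe u
open CAlg

namespace Groth.Agent.S4566


open TensorProduct

/-- Let A be a Noetherian local domain with fraction field K whose adic completion Â is reduced, and R
the total ring of fractions of Â with its K-algebra structure. If R is geometrically reduced over K
then A is Japanese (N-2). (The published statement asks R to be a separable K-algebra; what is used
is that K' ⊗_K R is reduced for every finite extension K' of K, which geometric reducedness gives.) -/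
theorem result {A R : Type u}
    [CommRing A] [IsDomain A] [IsLocalRing A] [IsNoetherianRing A]
    (hred : IsReduced (AdicCompletion (IsLocalRing.maximalIdeal A) A))
    [CommRing R] [Algebra (AdicCompletion (IsLocalRing.maximalIdeal A) A) R]
    [IsFractionRing (AdicCompletion (IsLocalRing.maximalIdeal A) A) R] [Algebra A R]
    [IsScalarTower A (AdicCompletion (IsLocalRing.maximalIdeal A) A) R]
    [Algebra (FractionRing A) R] [IsScalarTower A (FractionRing A) R]
    (h : Algebra.IsGeometricallyReduced (FractionRing A) R) :
    CAlg.IsN2 A := by
  intro L _ _ _ _ hfd
  haveI := hfd
  haveI := h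
  let K := FractionRing A
  haveI : IsReduced (AlgebraicClosure K ⊗[K] R) :=
    (Algebra.isGeometricallyReduced_field_iff K R).1 h
  let i : L →ₐ[K] AlgebraicClosure K := IsAlgClosed.lift
  have hinj : Function.Injective (Algebra.TensorProduct.map i (AlgHom.id K R)) :=
    Module.Flat.rTensor_preserves_injective_linearMap (M := R) i.toLinearMap i.toRingHom.injective
  haveI : IsReduced (L ⊗[K] R) := isReduced_of_injective _ hinj
  haveI : IsReduced (R ⊗[K] L) :=
    isReduced_of_injective _ (Algebra.TensorProduct.comm K R L).injective
  haveI : TensorProduct.CompatibleSMul A K R L :=
    IsLocalization.tensorProduct_compatibleSMul (nonZeroDivisors A) K R L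
  haveI : TensorProduct.CompatibleSMul K A R L := inferInstance
  have hr : IsReduced (R ⊗[A] L) :=
    isReduced_of_injective _ (Algebra.TensorProduct.equivOfCompatibleSMul A K A R L).symm.injective
  exact Groth.Agent.S4565.result (R := R) hred hr

end Groth.Agent.S4566
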