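import Groth.Statements.S4569
import Mathlib

set_option autoImplicit false
universe u
open CAlg

namespace Groth.Agent.S4569

/-- Let A be a ring, x a non-zero-divisor of A with p = xA prime. For every n > 0 the inverse image in A
of x^n A_p is x^n A. -/
theorem result {A : Type u} [CommRing A] (x : A)
    (hx : x ∈ nonZeroDivisors A) [(Ideal.span ({x} : Set A)).IsPrime] (n : ℕ) (hn : 0 < n) :
    Ideal.comap (algebraMap A (Localization.AtPrime (Ideal.span ({x} : Set A))))
      (Ideal.map (algebraMap A (Localization.AtPrime (Ideal.span ({x} : Set A)))) (Ideal.span ({x ^ n} : Set A))) =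
      Ideal.span ({x ^ n} : Set A) := by
  refine le_antisymm (fun a ha => ?_) Ideal.le_comap_map
  rw [Ideal.mem_comap, Ideal.map_span, Set.image_singleton, Ideal.mem_span_singleton'] at ha
  obtain ⟨c, hc⟩ := ha
  obtain ⟨⟨b, s⟩, hs⟩ := IsLocalization.surj (Ideal.span ({x} : Set A)).primeCompl c
  have : algebraMap A (Localization.AtPrime (Ideal.span ({x} : Set A))) (a * s) =
      algebraMap A _ (b * x ^ n) := by
    rw [map_mul, map_mul, ← hc, ← hs]; ring
  obtain ⟨t, ht⟩ := (IsLocalization.eq_iff_exists (Ideal.span ({x} : Set A)).primeCompl _).1 this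
  have key : ∀ (k : ℕ) (r : A), r ∉ Ideal.span ({x} : Set A) → ∀ a, x ^ k ∣ r * a → x ^ k ∣ a := by
    intro k r hr
    induction k with
    | zero => intro a _; simp
    | succ k ih =>
      intro a hk
      obtain ⟨a', rfl⟩ := ih a ((pow_dvd_pow x k.le_succ).trans hk)
      obtain ⟨d, hd⟩ := hk
      have h1 : r * a' = x * d := (mul_cancel_left_mem_nonZeroDivisors (pow_mem hx k)).1 (by
        rw [mul_left_comm, hd, pow_succ]; ring)
      have h2 : r * a' ∈ Ideal.span ({x} : Set A) := Ideal.mem_span_singleton.2 ⟨d, h1⟩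
      obtain ⟨e, rfl⟩ := Ideal.mem_span_singleton.1 ((Ideal.IsPrime.mem_or_mem inferInstance h2).resolve_left hr)
      exact ⟨e, by ring⟩
  rw [Ideal.mem_span_singleton]
  refine key n (t * s) (fun h => ?_) a ⟨t * b, ?_⟩
  · exact (Ideal.IsPrime.mem_or_mem inferInstance h).elim t.2 s.2
  · linear_combination ht

end Groth.Agent.S4569
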