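import Groth.Statements.S4575
import Groth.Agent.CAlg1.Regular

set_option autoImplicit false
universe u
open IsLocalRing
open EGA41

namespace Groth.Agent.S4575

/-- Let R be a regular local ring with maximal ideal m and n a proper ideal with R/n regular. Then
(n/n²) ⊗_R K → (m/m²) ⊗_R K is injective, K the residue field; stated in the equivalent form n ∩ m²
= m·n (the kernel of n/mn → m/m² is (n ∩ m²)/mn). -/
theorem result {R : Type u} [CommRing R] [IsRegularLocalRing R]
    (n : Ideal R) (hn : n ≠ ⊤) (hreg : IsRegularRing (R ⧸ n)) :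
    n ⊓ maximalIdeal R ^ 2 = maximalIdeal R * n := by
  classical
  haveI : Nontrivial (R ⧸ n) := Ideal.Quotient.nontrivial_iff.2 hn
  haveI : IsLocalRing (R ⧸ n) := IsLocalRing.of_surjective' _ Ideal.Quotient.mk_surjective
  haveI : IsRegularLocalRing (R ⧸ n) := IsRegularLocalRing.of_isRegularRing_of_isLocalRing _
  obtain ⟨x, c, hc, hx, hI⟩ := CAlg1.exists_params_quotient R (maximalIdeal R).spanFinrank rfl n
  refine le_antisymm ?_ (le_inf Ideal.mul_le_right ?_)
  swap
  · rw [pow_two]
    exact Ideal.mul_mono le_rfl (le_maximalIdeal hn)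
  have hxm : ∀ i, x i ∈ maximalIdeal R := fun i => hx ▸ Ideal.subset_span ⟨i, rfl⟩
  let v : Fin (maximalIdeal R).spanFinrank → CotangentSpace R := fun i =>
    (maximalIdeal R).toCotangent ⟨x i, hxm i⟩
  have hspan : ⊤ ≤ Submodule.span (ResidueField R) (Set.range v) := by
    rw [show v = (maximalIdeal R).toCotangent ∘ fun i => ⟨x i, hxm i⟩ from rfl, Set.range_comp]
    refine ((IsLocalRing.CotangentSpace.span_image_eq_top_iff).2 ?_).ge
    refine Submodule.map_injective_of_injective (f := (maximalIdeal R).subtype) Subtype.val_injective ?_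
    rw [Submodule.map_span, Submodule.map_subtype_top, ← Set.range_comp]
    exact hx
  have hli : LinearIndependent (ResidueField R) v := linearIndependent_of_top_le_span_of_card_eq_finrank hspan
    (by rw [Fintype.card_fin, spanFinrank_maximalIdeal_eq_finrank_cotangentSpace])
  rintro y ⟨hy, hy2⟩
  rw [SetLike.mem_coe, hI] at hy
  obtain ⟨a, rfl⟩ := (Ideal.mem_span_range_iff_exists_fun).1 hy
  have ha : ∀ i, a i ∈ maximalIdeal R := by
    intro i
    have h0 : ∑ j, IsLocalRing.residue R (a j) • v (Fin.castLE hc j) = 0 := by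
      have : (∑ j, a j • v (Fin.castLE hc j)) = 0 := by
        simp only [v, ← map_smul, ← map_sum]
        rw [Ideal.toCotangent_eq_zero]
        simpa using hy2
      exact this
    rw [← residue_eq_zero_iff]
    exact Fintype.linearIndependent_iff.1 (hli.comp _ (Fin.castLE_injective hc)) (fun j => IsLocalRing.residue R (a j)) h0 i
  refine Ideal.sum_mem _ fun i _ => Ideal.mul_mem_mul (ha i) ?_
  rw [hI]
  exact Ideal.subset_span ⟨i, rfl⟩


end Groth.Agent.S4575
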