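import Groth.Statements.S4576
import Groth.Agent.S2463

set_option autoImplicit false
universe u
open EGA41

namespace Groth.Agent.S4576

/-- Let B be a formally smooth A-algebra (discrete topologies), C = B/J a quotient with J/J² finitely
generated. Then the set of primes p of C with C_p formally smooth over A is open in Spec C. (The
equivalent variant with C_p formally smooth over A_q, q the contraction of p to A, is not stated.) -/
theorem result {A B C : Type u} [CommRing A] [CommRing B] [CommRing C]
    [Algebra A B] [Algebra B C] [Algebra A C] [IsScalarTower A B C] [Algebra.FormallySmooth A B]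
    (hsurj : Function.Surjective (algebraMap B C)) [Module.Finite B (RingHom.ker (algebraMap B C)).Cotangent] :
    IsOpen {p : PrimeSpectrum C | Algebra.FormallySmooth A (Localization.AtPrime p.asIdeal)} := by
  rw [isOpen_iff_forall_mem_open]
  intro p hp
  obtain ⟨f, hf, hF⟩ := ((S2463.result (A := A) hsurj p.asIdeal).out 0 2).1 hp
  refine ⟨PrimeSpectrum.basicOpen f, fun q hq => ?_, (PrimeSpectrum.basicOpen f).isOpen, hf⟩
  exact ((S2463.result (A := A) hsurj q.asIdeal).out 0 2).2 (⟨f, hq, hF⟩ : ∃ g : C, g ∉ q.asIdeal ∧ Algebra.FormallySmooth A (Localization.Away g))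


end Groth.Agent.S4576
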