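import Groth.Statements.S4583
import Groth.Agent.EGA4Alg4.RegHomLoc
import Groth.Agent.EGA4H10.CompleteGRing
import Groth.Agent.EGA4Alg4.JacAdic

set_option autoImplicit false
universe u
open IsLocalRing
open EGA41

namespace Groth.Agent.S4583

/-- Let A be a complete Noetherian local domain with fraction field K, p a prime of A, B = A_p, q a
prime of the completion B̂ of B with q ∩ B = 0. Then B̂_q is a K-algebra formally smooth over K for
the adic topology of its maximal ideal (the published statement adds that it is then geometrically
regular over K; that consequence is not stated). -/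
theorem result {A : Type u} [CommRing A]
    [IsDomain A] [IsLocalRing A] [IsNoetherianRing A] [IsAdicComplete (maximalIdeal A) A] (p : Ideal A) [p.IsPrime]
    (q : Ideal (AdicCompletion (maximalIdeal (Localization.AtPrime p)) (Localization.AtPrime p))) [q.IsPrime]
    (hq : q.comap (algebraMap (Localization.AtPrime p)
      (AdicCompletion (maximalIdeal (Localization.AtPrime p)) (Localization.AtPrime p))) = ⊥)
    [Algebra A (Localization.AtPrime q)]
    [IsScalarTower A (AdicCompletion (maximalIdeal (Localization.AtPrime p)) (Localization.AtPrime p))
      (Localization.AtPrime q)]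
    [Algebra (FractionRing A) (Localization.AtPrime q)] [IsScalarTower A (FractionRing A) (Localization.AtPrime q)] :
    CAlgX.IsAdicFormallySmooth (FractionRing A) (Localization.AtPrime q) (maximalIdeal (Localization.AtPrime q)) := by
  -- the towers in the statement are stated for the canonical action of `A` on the localization, so the bound
  -- algebra structure `A → B̂_q` is not used
  rename_i iA _ _ _
  clear iA
  have : IsDomain (Localization.AtPrime p) := inferInstance
  let r : Ideal (Localization.AtPrime p) := q.comap (algebraMap (Localization.AtPrime p)
    (AdicCompletion (maximalIdeal (Localization.AtPrime p)) (Localization.AtPrime p)))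
  haveI : r.IsPrime := Ideal.IsPrime.comap _
  haveI : IsNoetherianRing (AdicCompletion (maximalIdeal (Localization.AtPrime p)) (Localization.AtPrime p)) :=
    Cohen12.isNoetherianRing_completion (A := Localization.AtPrime p)
  haveI : IsScalarTower A (Localization.AtPrime p) (Localization.AtPrime q) :=
    IsScalarTower.of_algebraMap_eq fun a => by
      rw [IsScalarTower.algebraMap_apply A (AdicCompletion (maximalIdeal (Localization.AtPrime p))
          (Localization.AtPrime p)) (Localization.AtPrime q), IsScalarTower.algebraMap_apply A (Localization.AtPrime p)
          (AdicCompletion (maximalIdeal (Localization.AtPrime p)) (Localization.AtPrime p)),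
        ← IsScalarTower.algebraMap_apply]
  letI : Algebra (Localization.AtPrime r) (Localization.AtPrime q) :=
    (Localization.localRingHom r q _ rfl).toAlgebra
  haveI : IsScalarTower (Localization.AtPrime p) (Localization.AtPrime r) (Localization.AtPrime q) :=
    IsScalarTower.of_algebraMap_eq fun x => by
      rw [RingHom.algebraMap_toAlgebra, Localization.localRingHom_to_map, ← IsScalarTower.algebraMap_apply]
  have h := EGA4Alg4.RegHomLoc13.isFormallySmoothAdic_localization
    ((EGA4H10.isGRing_of_complete A).2 p) q r rfl
  have hzero : (maximalIdeal (Localization.AtPrime r)).map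
      (algebraMap (Localization.AtPrime r) (Localization.AtPrime q)) ≤ maximalIdeal (Localization.AtPrime q) := by
    rw [Ideal.map_le_iff_le_comap]
    intro x hx
    rw [← Localization.AtPrime.map_eq_maximalIdeal] at hx
    have hr : r = ⊥ := hq
    simp only [hr, Ideal.map_bot, Ideal.mem_bot] at hx
    rw [hx]
    exact zero_mem _
  have h1 := (EGA4Alg4.JacAdic13.isAdicFormallySmooth_localization_base r.primeCompl _).1
    (CAlg1.adicFS_of_egaFS hzero h)
  have h2 := (EGA4Alg4.JacAdic13.isAdicFormallySmooth_localization_base (A := A) p.primeCompl _).1 h1
  exact (EGA4Alg4.JacAdic13.isAdicFormallySmooth_localization_base (A := A) (nonZeroDivisors A) _).2 h2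

end Groth.Agent.S4583
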