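import Groth.Statements.S4584
import Groth.Agent.ConsPts12.Range
import Mathlib

set_option autoImplicit false
universe u
open AlgebraicGeometry CategoryTheory Topology
open CategoryTheory.Limits TopologicalSpace Groth.Agent.ConsPts12 Groth.Agent.SpecSp50
open EGA41

namespace Groth.Agent.S4584

set_option backward.isDefEq.respectTransparency.types false in
/-- Given a scheme X that is quasi-compact and quasi-separated, together with a constructible subset Z
of X, one can find an affine scheme X' with a morphism X' → X of finite presentation whose image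
equals Z. -/
theorem result (X : Scheme.{u}) [CompactSpace X]
    [QuasiSeparatedSpace X] (Z : Set X) (hZ : IsConstructible Z) :
    ∃ (X' : Scheme.{u}) (f : X' ⟶ X), IsAffine X' ∧ LocallyOfFinitePresentation f ∧ QuasiCompact f ∧
      QuasiSeparated f ∧ Set.range f.base = Z := by
  classical
  obtain ⟨t, htf, hta, htu⟩ := exists_finite_affine_cover X isCompact_univ
  have hT : ∀ U : t, ∃ T : PrimeSpectrum.ConstructibleSetData Γ(X, U.1),
      T.toSet = (hta U.1 U.2).fromSpec ⁻¹' Z := fun U =>
    PrimeSpectrum.exists_constructibleSetData_iff.mpr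
      (hZ.preimage_of_isOpenEmbedding (hta U.1 U.2).fromSpec.isOpenEmbedding)
  choose T hT using hT
  haveI : Finite t := htf.to_subtype
  let κ := Σ U : t, (T U)
  let B : κ → CommRingCat.{u} := fun i => CommRingCat.of
    (Localization.Away (Ideal.Quotient.mk (Ideal.span (Set.range i.2.1.g)) i.2.1.f))
  let φ : ∀ i : κ, Γ(X, i.1.1) ⟶ B i := fun i => CommRingCat.ofHom ((algebraMap _ (Localization.Away
    (Ideal.Quotient.mk (Ideal.span (Set.range i.2.1.g)) i.2.1.f))).comp (Ideal.Quotient.mk (Ideal.span (Set.range i.2.1.g))))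
  let g : ∀ i : κ, Spec (B i) ⟶ X := fun i => Spec.map (φ i) ≫ (hta i.1.1 i.1.2).fromSpec
  have hφ : ∀ i, LocallyOfFinitePresentation (Spec.map (φ i)) := fun i => by
    rw [HasRingHomProperty.Spec_iff (P := @LocallyOfFinitePresentation)]
    have h1 : (Ideal.Quotient.mk (Ideal.span (Set.range i.2.1.g))).FinitePresentation :=
      RingHom.FinitePresentation.of_surjective _ Ideal.Quotient.mk_surjective
        (by rw [Ideal.mk_ker]; exact Submodule.fg_span (Set.finite_range _))
    have h2 : (algebraMap (Γ(X, i.1.1) ⧸ Ideal.span (Set.range i.2.1.g))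
        (B i)).FinitePresentation :=
      RingHom.finitePresentation_algebraMap.2 (IsLocalization.Away.finitePresentation
        (Ideal.Quotient.mk (Ideal.span (Set.range i.2.1.g)) i.2.1.f))
    exact h2.comp h1
  have hrange : ∀ i, Set.range (Spec.map (φ i)) = i.2.1.toSet := by
    intro i
    let A := Γ(X, i.1.1)
    let C := i.2.1
    change Set.range (PrimeSpectrum.comap (φ i).hom) = C.toSet
    let I := Ideal.span (Set.range C.g)
    trans PrimeSpectrum.comap (Ideal.Quotient.mk I) ''
      (Set.range (PrimeSpectrum.comap (algebraMap _ (Localization.Away (Ideal.Quotient.mk I C.f)))))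
    · rw [← Set.range_comp]; rfl
    · rw [PrimeSpectrum.localization_away_comap_range _ (Ideal.Quotient.mk I C.f), ← PrimeSpectrum.comap_basicOpen,
        TopologicalSpace.Opens.coe_comap, ContinuousMap.coe_mk, Set.image_preimage_eq_inter_range,
        range_comap_of_surjective _ _ Ideal.Quotient.mk_surjective,
        PrimeSpectrum.BasicConstructibleSetData.toSet, Set.sdiff_eq_compl_inter,
        PrimeSpectrum.basicOpen_eq_zeroLocus_compl, Ideal.mk_ker, PrimeSpectrum.zeroLocus_span]
  let X' := ∐ fun i : κ => Spec (B i)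
  haveI : IsAffine X' := inferInstance
  haveI hlfp : LocallyOfFinitePresentation (Sigma.desc g) :=
    IsZariskiLocalAtSource.sigmaDesc (P := @LocallyOfFinitePresentation) fun i =>
      haveI := hφ i; inferInstance
  refine ⟨X', Sigma.desc g, inferInstance, hlfp, inferInstance, inferInstance, Set.Subset.antisymm ?_ fun x hx => ?_⟩
  · rintro _ ⟨z, rfl⟩
    obtain ⟨⟨i, y⟩, rfl⟩ := (sigmaMk fun i : κ => Spec (B i)).surjective z
    rw [sigmaMk_mk, ← Scheme.Hom.comp_apply, Sigma.ι_desc]
    change (hta i.1.1 i.1.2).fromSpec (Spec.map (φ i) y) ∈ Z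
    apply (hT i.1).le
    exact Set.mem_iUnion₂.mpr ⟨i.2.1, i.2.2, (hrange i).le ⟨y, rfl⟩⟩
  · obtain ⟨U, hU, hxU⟩ := Set.mem_iUnion₂.mp (htu (Set.mem_univ x))
    obtain ⟨q, hq⟩ : x ∈ Set.range (hta U hU).fromSpec := (hta U hU).range_fromSpec.symm ▸ hxU
    have hqT : q ∈ (T ⟨U, hU⟩).toSet := (hT ⟨U, hU⟩).ge (show (hta U hU).fromSpec q ∈ Z by rw [hq]; exact hx)
    obtain ⟨C, hC, hqC⟩ := Set.mem_iUnion₂.mp hqT
    obtain ⟨y, hy⟩ := (hrange ⟨⟨U, hU⟩, ⟨C, hC⟩⟩).ge hqC
    refine ⟨Sigma.ι (fun i : κ => Spec (B i)) ⟨⟨U, hU⟩, ⟨C, hC⟩⟩ y, ?_⟩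
    rw [← Scheme.Hom.comp_apply, Sigma.ι_desc]
    change (hta U hU).fromSpec (Spec.map (φ ⟨⟨U, hU⟩, ⟨C, hC⟩⟩) y) = x
    rw [hy, hq]


end Groth.Agent.S4584
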