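import Groth.Statements.S4590
import Mathlib

set_option autoImplicit false
set_option linter.style.haveILetI false
set_option linter.style.longLine false
universe u
open CAlg

namespace Groth.Agent.S4590

theorem pow_mem_span {A K : Type u} [CommRing A] [Field K] [Algebra A K] (a s : A) (hs : algebraMap A K s ≠ 0) (x : K)
    (hx : algebraMap A K a = algebraMap A K s * x) :
    ∀ (k : ℕ) (w : A), w ∈ Ideal.span {a, s} ^ k →
      ∃ v ∈ Submodule.span A (Set.range fun j : Fin (k + 1) => x ^ (j : ℕ)), algebraMap A K w = algebraMap A K s ^ k * v := by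
  intro k
  induction k with
  | zero =>
    intro w _
    exact ⟨w • (x ^ (0 : ℕ)), Submodule.smul_mem _ _ (Submodule.subset_span ⟨0, rfl⟩), by simp [Algebra.smul_def]⟩
  | succ k ih =>
    intro w hw
    rw [pow_succ'] at hw
    induction hw using Submodule.mul_induction_on' with
    | mem_mul_mem u hu v hv =>
      obtain ⟨α, β, rfl⟩ := Ideal.mem_span_pair.1 hu
      obtain ⟨v', hv', hvv⟩ := ih v hv
      refine ⟨α • (x * v') + β • v', add_mem (Submodule.smul_mem _ _ ?_) (Submodule.smul_mem _ _ ?_), ?_⟩
      · refine Submodule.span_induction ?_ (by simp) (fun p q _ _ hp hq => by rw [mul_add]; exact add_mem hp hq)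
          (fun r p _ hp => by rw [mul_smul_comm]; exact Submodule.smul_mem _ _ hp) hv'
        rintro _ ⟨j, rfl⟩
        exact Submodule.subset_span ⟨j.succ, by simp [pow_succ']⟩
      · refine Submodule.span_mono ?_ hv'
        rintro _ ⟨j, rfl⟩
        exact ⟨j.castSucc, rfl⟩
      · simp only [map_mul, map_add, hx, hvv, Algebra.smul_def]
        ring
    | add u _ v _ hu hv =>
      obtain ⟨u', hu', huu⟩ := hu
      obtain ⟨v', hv', hvv⟩ := hv
      exact ⟨u' + v', add_mem hu' hv', by rw [map_add, huu, hvv, mul_add]⟩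

theorem isIntegral_of_pow_mem {A K : Type u} [CommRing A] [Field K] [Algebra A K] (a s : A)
    (hs : algebraMap A K s ≠ 0) (x : K) (hx : algebraMap A K a = algebraMap A K s * x) (n : ℕ)
    (h : a ^ (n + 1) ∈ Ideal.span {s} * Ideal.span {a, s} ^ n) : IsIntegral A x := by
  rw [Ideal.mem_span_singleton_mul] at h
  obtain ⟨w, hw, hwa⟩ := h
  obtain ⟨v, hv, hwv⟩ := pow_mem_span a s hs x hx n w hw
  have h1 : x ^ (n + 1) = v := by
    have h2 := congrArg (algebraMap A K) hwa
    rw [map_mul, map_pow, hwv, hx, mul_pow, ← mul_assoc, ← pow_succ'] at h2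
    exact (mul_left_cancel₀ (pow_ne_zero _ hs) h2).symm
  obtain ⟨c, hc⟩ := (Submodule.mem_span_range_iff_exists_fun A).1 hv
  refine ⟨Polynomial.X ^ (n + 1) - ∑ j : Fin (n + 1), Polynomial.C (c j) * Polynomial.X ^ (j : ℕ),
    Polynomial.monic_X_pow_sub (Polynomial.degree_sum_fin_lt c), ?_⟩
  simp [Polynomial.eval₂_finsetSum, h1, ← hc, Algebra.smul_def]

/-- Let A be a domain with fraction field K, B a faithfully flat A-algebra, C = B_red and R the total
ring of fractions of C. Then A → C is injective with nonzero elements going to non-zero-divisors, so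
that K embeds in R, and an element of K is integral over C in R if and only if it is integral over
A. -/
theorem result {A B : Type u} [CommRing A] [IsDomain A]
    [CommRing B] [Algebra A B] [Module.FaithfullyFlat A B] :
    Function.Injective (algebraMap A (B ⧸ nilradical B)) ∧
    (∀ a : A, a ≠ 0 → algebraMap A (B ⧸ nilradical B) a ∈ nonZeroDivisors (B ⧸ nilradical B)) ∧
    ∀ (R : Type u) [CommRing R] [Algebra (B ⧸ nilradical B) R] [IsFractionRing (B ⧸ nilradical B) R]
      [Algebra A R] [IsScalarTower A (B ⧸ nilradical B) R] [Algebra (FractionRing A) R]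
      [IsScalarTower A (FractionRing A) R] (x : FractionRing A),
      IsIntegral (B ⧸ nilradical B) (algebraMap (FractionRing A) R x) ↔ IsIntegral A x := by
  have hinj0 : Function.Injective (algebraMap A B) := FaithfulSMul.algebraMap_injective A B
  have hmk : ∀ a : A, algebraMap A (B ⧸ nilradical B) a = Ideal.Quotient.mk _ (algebraMap A B a) := fun a => rfl
  have h2 : ∀ a : A, a ≠ 0 → algebraMap A (B ⧸ nilradical B) a ∈ nonZeroDivisors (B ⧸ nilradical B) := by
    intro a ha
    rw [mem_nonZeroDivisors_iff_right]
    intro y hy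
    obtain ⟨b, rfl⟩ := Ideal.Quotient.mk_surjective y
    rw [hmk, ← map_mul, Ideal.Quotient.eq_zero_iff_mem, mem_nilradical] at hy
    obtain ⟨n, hn⟩ := hy
    rw [Ideal.Quotient.eq_zero_iff_mem, mem_nilradical]
    refine ⟨n, ?_⟩
    rw [mul_pow, ← map_pow] at hn
    have hreg : IsSMulRegular B (a ^ n) := Module.Flat.isSMulRegular_of_isRegular (isRegular_of_ne_zero (pow_ne_zero n ha))
    refine hreg ?_
    show a ^ n • b ^ n = a ^ n • (0 : B)
    rw [smul_zero, Algebra.smul_def, mul_comm, hn]
  have h1 : Function.Injective (algebraMap A (B ⧸ nilradical B)) := by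
    rw [injective_iff_map_eq_zero]
    intro a ha
    rw [hmk, Ideal.Quotient.eq_zero_iff_mem, mem_nilradical] at ha
    obtain ⟨n, hn⟩ := ha
    exact eq_zero_of_pow_eq_zero (hinj0 (by rw [map_pow, hn, map_zero]))
  refine ⟨h1, h2, ?_⟩
  intro R _ _ _ _ _ _ _ x
  constructor
  · intro hx
    obtain ⟨a, s, hs, hfrac⟩ := IsFractionRing.div_surjective A x
    have hs0 : algebraMap A (FractionRing A) s ≠ 0 :=
      IsFractionRing.to_map_ne_zero_of_mem_nonZeroDivisors hs
    have hxa : algebraMap A (FractionRing A) a = algebraMap A (FractionRing A) s * x := by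
      rw [← hfrac, mul_div_cancel₀ _ hs0]
    obtain ⟨p, hp, hp0⟩ := hx
    set n := p.natDegree with hn
    set X := algebraMap (FractionRing A) R x
    have hR : algebraMap A R a = algebraMap A R s * X := by
      rw [IsScalarTower.algebraMap_apply A (FractionRing A) R a, hxa, map_mul, ← IsScalarTower.algebraMap_apply]
    rcases Nat.eq_zero_or_pos n with h0 | hpos
    · rw [Polynomial.eq_one_of_monic_natDegree_zero hp h0, Polynomial.eval₂_one] at hp0
      haveI : Subsingleton R := subsingleton_of_zero_eq_one hp0.symm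
      exfalso
      have := IsFractionRing.injective (B ⧸ nilradical B) R (Subsingleton.elim (algebraMap _ R 1) (algebraMap _ R 0))
      exact zero_ne_one (α := A) (h1 (by rw [map_zero, map_one, this]))
    choose b hb using fun i => Ideal.Quotient.mk_surjective (p.coeff i)
    let y : B := ∑ i ∈ Finset.range n, b i * algebraMap A B (a ^ i * s ^ (n - i))
    have hz : IsNilpotent (algebraMap A B (a ^ n) + y) := by
      rw [← mem_nilradical, ← Ideal.Quotient.eq_zero_iff_mem]
      apply IsFractionRing.injective (B ⧸ nilradical B) R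
      rw [map_zero, ← mul_zero ((algebraMap A R s) ^ n), ← hp0, Polynomial.eval₂_eq_sum_range, Finset.sum_range_succ,
        ← hn, show p.coeff n = 1 from hp.coeff_natDegree, mul_add, Finset.mul_sum, add_comm]
      simp only [y, map_add, map_sum, map_mul, hb, map_one, one_mul]
      congr 1
      · refine Finset.sum_congr rfl fun i hi => ?_
        rw [← hmk, ← hmk, ← IsScalarTower.algebraMap_apply, ← IsScalarTower.algebraMap_apply, map_pow, map_pow, hR, mul_pow]
        have : n = (n - i) + i := by have := Finset.mem_range.1 hi; omega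
        conv_rhs => rw [this, pow_add]
        ring
      · rw [← hmk, ← IsScalarTower.algebraMap_apply, map_pow, hR, mul_pow]
    obtain ⟨m, hm⟩ := hz
    let J := Ideal.span ({a, s} : Set A)
    have hy : y ∈ ((Ideal.span {s} * J ^ (n - 1))).map (algebraMap A B) := by
      refine sum_mem fun i hi => Ideal.mul_mem_left _ _ (Ideal.mem_map_of_mem _ ?_)
      have hi' := Finset.mem_range.1 hi
      rw [show a ^ i * s ^ (n - i) = s * (a ^ i * s ^ (n - 1 - i)) by
        rw [show n - i = (n - 1 - i) + 1 by omega, pow_succ]; ring]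
      refine Ideal.mul_mem_mul (Ideal.subset_span rfl) ?_
      rw [show n - 1 = i + (n - 1 - i) by omega, pow_add, show i + (n - 1 - i) - i = n - 1 - i by omega]
      exact Ideal.mul_mem_mul (Ideal.pow_mem_pow (Ideal.subset_span (by simp)) _) (Ideal.pow_mem_pow (Ideal.subset_span (by simp)) _)
    have ha : ∀ k, algebraMap A B (a ^ k) ∈ (J ^ k).map (algebraMap A B) := fun k =>
      Ideal.mem_map_of_mem _ (Ideal.pow_mem_pow (Ideal.subset_span (by simp)) _)
    have hzJ : algebraMap A B (a ^ n) + y ∈ (J ^ n).map (algebraMap A B) := by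
      refine add_mem (ha n) (Ideal.map_mono ?_ hy)
      calc Ideal.span {s} * J ^ (n - 1) ≤ J * J ^ (n - 1) := Ideal.mul_mono_left (Ideal.span_mono (by simp))
        _ = J ^ n := by rw [← pow_succ', show n - 1 + 1 = n by omega]
    have hmpos : m ≠ 0 := by
      rintro rfl
      rw [pow_zero] at hm
      exact one_ne_zero (α := A) (hinj0 (by rw [map_one, map_zero, hm]))
    have key : algebraMap A B (a ^ (n * m)) ∈ (Ideal.span {s} * J ^ (n * m - 1)).map (algebraMap A B) := by
      have h3 := geom_sum₂_mul (algebraMap A B (a ^ n) + y) (algebraMap A B (a ^ n)) m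
      rw [hm, zero_sub, ← map_pow (algebraMap A B), ← pow_mul, add_sub_cancel_left] at h3
      rw [← Ideal.neg_mem_iff, ← h3, Finset.sum_mul]
      refine sum_mem fun i hi => ?_
      have hi' := Finset.mem_range.1 hi
      have h4 : n * i + n * (m - 1 - i) + (n - 1) = n * m - 1 := by
        have h5 : n * m = n * i + n * (m - 1 - i) + n := by
          rw [← Nat.mul_add, ← Nat.mul_succ]; congr 1; omega
        omega
      rw [← h4, pow_add, pow_add, pow_mul, pow_mul, mul_left_comm, Ideal.map_mul, Ideal.map_mul]
      refine Ideal.mul_mem_mul (Ideal.mul_mem_mul ?_ ?_) hy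
      · rw [Ideal.map_pow]; exact Ideal.pow_mem_pow hzJ _
      · rw [Ideal.map_pow, ← map_pow]
        rw [← Ideal.map_pow, ← pow_mul, ← pow_mul]
        exact ha _
    have key' : a ^ (n * m) ∈ Ideal.span {s} * J ^ (n * m - 1) := by
      rw [← Ideal.comap_map_eq_self_of_faithfullyFlat (B := B) (Ideal.span {s} * J ^ (n * m - 1))]
      exact key
    have hnm : 0 < n * m := Nat.mul_pos hpos (Nat.pos_of_ne_zero hmpos)
    exact isIntegral_of_pow_mem a s hs0 x hxa (n * m - 1) (by rwa [show n * m - 1 + 1 = n * m by omega])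
  · intro hx
    exact (hx.map (IsScalarTower.toAlgHom A (FractionRing A) R)).tower_top

end Groth.Agent.S4590
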