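import Groth.Statements.S4594


set_option autoImplicit false
universe u
open TensorProduct KaehlerDifferential
open EGA41

namespace Groth.Agent.S4594

/-- Let Λ be a ring, A → C a surjection of Λ-algebras with kernel J, C of characteristic p > 0, and π
the class of p·1 in J/J². If C is formally smooth over Λ/pΛ for the discrete topologies, then 0 →
(J/J²)/Cπ → Ω_{A/Λ} ⊗_A C → Ω_{C/Λ} → 0 is exact: the kernel of the conormal map J/J² → Ω_{A/Λ} ⊗_A
C is the span of π, and the base-change map to Ω_{C/Λ} is surjective with kernel the image of J/J². -/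
theorem result {Λ A C : Type u} [CommRing Λ] [CommRing A]
    [CommRing C] [Algebra Λ A] [Algebra A C] [Algebra Λ C] [IsScalarTower Λ A C]
    (hsurj : Function.Surjective (algebraMap A C)) (p : ℕ) [Fact p.Prime] [CharP C p]
    [Algebra (Λ ⧸ Ideal.span {(p : Λ)}) C] [IsScalarTower Λ (Λ ⧸ Ideal.span {(p : Λ)}) C]
    [Algebra.FormallySmooth (Λ ⧸ Ideal.span {(p : Λ)}) C]
    (hp : (p : A) ∈ RingHom.ker (algebraMap A C)) :
    LinearMap.ker (kerCotangentToTensor Λ A C) =
        Submodule.span A {(RingHom.ker (algebraMap A C)).toCotangent ⟨(p : A), hp⟩} ∧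
      LinearMap.range (kerCotangentToTensor Λ A C) = (LinearMap.ker (mapBaseChange Λ A C)).restrictScalars A ∧
      Function.Surjective (mapBaseChange Λ A C) := by
  classical
  set K := RingHom.ker (algebraMap A C) with hK
  refine ⟨le_antisymm ?_ ?_, ?_, KaehlerDifferential.mapBaseChange_surjective Λ A C hsurj⟩
  · intro m hm
    obtain ⟨⟨x, hx⟩, rfl⟩ := K.toCotangent_surjective m
    rw [LinearMap.mem_ker, KaehlerDifferential.kerCotangentToTensor_toCotangent] at hm
    let I : Ideal A := K ^ 2 ⊔ Ideal.span {(p : A)}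
    have hIK : I ≤ K := sup_le (Ideal.pow_le_self two_ne_zero) ((Ideal.span_singleton_le_iff_mem _).2 hp)
    let N : Ideal (A ⧸ I) := K.map (Ideal.Quotient.mk I)
    have hN : N ^ 2 = ⊥ := by
      rw [← Ideal.map_pow, Ideal.map_eq_bot_iff_le_ker, Ideal.mk_ker]
      exact le_sup_left
    have hp0 : ∀ a ∈ Ideal.span {(p : Λ)}, algebraMap Λ (A ⧸ I) a = 0 := by
      intro a ha
      obtain ⟨b, rfl⟩ := Ideal.mem_span_singleton'.1 ha
      rw [map_mul, map_natCast, show ((p : A ⧸ I)) = Ideal.Quotient.mk I (p : A) from (map_natCast _ p).symm,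
        Ideal.Quotient.eq_zero_iff_mem.2 (Submodule.mem_sup_right (Ideal.mem_span_singleton_self _)), mul_zero]
    letI : Algebra (Λ ⧸ Ideal.span {(p : Λ)}) (A ⧸ I) := (Ideal.Quotient.lift _ (algebraMap Λ (A ⧸ I)) hp0).toAlgebra
    haveI : IsScalarTower Λ (Λ ⧸ Ideal.span {(p : Λ)}) (A ⧸ I) :=
      IsScalarTower.of_algebraMap_eq fun a => rfl
    let L : (A ⧸ RingHom.ker (IsScalarTower.toAlgHom Λ A C)) →ₐ[Λ] (A ⧸ I) ⧸ N :=
      Ideal.Quotient.liftₐ _ ((Ideal.Quotient.mkₐ Λ N).comp (Ideal.Quotient.mkₐ Λ I)) fun a ha =>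
        Ideal.Quotient.eq_zero_iff_mem.2 (Ideal.mem_map_of_mem _ ha)
    let ψ₀ : C →ₐ[Λ] (A ⧸ I) ⧸ N := L.comp
      (Ideal.quotientKerAlgEquivOfSurjective (f := IsScalarTower.toAlgHom Λ A C) hsurj).symm.toAlgHom
    have hψ₀ : ∀ a, ψ₀ (algebraMap A C a) = Ideal.Quotient.mk N (Ideal.Quotient.mk I a) := by
      intro a
      have h : (Ideal.quotientKerAlgEquivOfSurjective (f := IsScalarTower.toAlgHom Λ A C) hsurj).symm
          (algebraMap A C a) = Ideal.Quotient.mk _ a := by
        rw [AlgEquiv.symm_apply_eq]; rfl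
      exact congrArg L h
    let ψ : C →ₐ[Λ ⧸ Ideal.span {(p : Λ)}] (A ⧸ I) ⧸ N :=
      { ψ₀.toRingHom with
        commutes' := fun a => by
          obtain ⟨a, rfl⟩ := Ideal.Quotient.mk_surjective a
          change ψ₀ (algebraMap _ C (algebraMap Λ (Λ ⧸ Ideal.span {(p : Λ)}) a)) = _
          rw [← IsScalarTower.algebraMap_apply, ψ₀.commutes]
          rfl }
    obtain ⟨σ, hσ⟩ := Algebra.FormallySmooth.comp_surjective (Λ ⧸ Ideal.span {(p : Λ)}) C N hN ψ
    have hmem : ∀ a, Ideal.Quotient.mk I a - σ (algebraMap A C a) ∈ N := fun a =>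
      Ideal.Quotient.eq.1 ((AlgHom.congr_fun hσ (algebraMap A C a)).trans (hψ₀ a)).symm
    have hσΛ : ∀ l : Λ, σ (algebraMap A C (algebraMap Λ A l)) = Ideal.Quotient.mk I (algebraMap Λ A l) := by
      intro l
      rw [← IsScalarTower.algebraMap_apply, IsScalarTower.algebraMap_apply Λ (Λ ⧸ Ideal.span {(p : Λ)}) C,
        σ.commutes, ← IsScalarTower.algebraMap_apply]
      rfl
    let D : Derivation Λ A N := Derivation.mk'
      { toFun := fun a => ⟨Ideal.Quotient.mk I a - σ (algebraMap A C a), hmem a⟩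
        map_add' := fun a b => Subtype.ext <| by simp only [map_add, Submodule.coe_add]; ring
        map_smul' := fun l a => Subtype.ext <| by
          change Ideal.Quotient.mk I (l • a) - σ (algebraMap A C (l • a)) =
            l • (Ideal.Quotient.mk I a - σ (algebraMap A C a))
          rw [Algebra.smul_def l a, map_mul, map_mul, map_mul, hσΛ, ← mul_sub]
          exact (Algebra.smul_def l _).symm }
      (fun a b => Subtype.ext <| by
        change Ideal.Quotient.mk I (a * b) - σ (algebraMap A C (a * b)) =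
          Ideal.Quotient.mk I a * (Ideal.Quotient.mk I b - σ (algebraMap A C b)) +
          Ideal.Quotient.mk I b * (Ideal.Quotient.mk I a - σ (algebraMap A C a))
        have h2 := Ideal.mul_mem_mul (hmem b) (hmem a)
        rw [← pow_two, hN, Ideal.mem_bot] at h2
        rw [map_mul, map_mul, map_mul]
        linear_combination -h2)
    have hKdx : KaehlerDifferential.D Λ A x ∈ (K • ⊤ : Submodule A Ω[A⁄Λ]) := by
      let e : (A ⧸ K) ≃ₗ[A] C :=
        (Submodule.quotEquivOfEq _ _ (show (K : Submodule A A) = LinearMap.ker (Algebra.linearMap A C) from rfl)).trans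
          ((Algebra.linearMap A C).quotKerEquivOfSurjective hsurj)
      have h1 : (e.rTensor Ω[A⁄Λ]) ((1 : A ⧸ K) ⊗ₜ[A] KaehlerDifferential.D Λ A x) = 0 := by
        rw [LinearEquiv.rTensor_tmul, show e 1 = (1 : C) from map_one (algebraMap A C)]
        exact hm
      have h2 := congrArg (TensorProduct.quotTensorEquivQuotSMul Ω[A⁄Λ] K)
        ((LinearEquiv.map_eq_zero_iff _).1 h1)
      rw [map_zero, show (1 : A ⧸ K) = Ideal.Quotient.mk K 1 from (map_one _).symm,
        TensorProduct.quotTensorEquivQuotSMul_mk_tmul, one_smul, Submodule.Quotient.mk_eq_zero] at h2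
      exact h2
    have h3 : D.liftKaehlerDifferential (KaehlerDifferential.D Λ A x) = 0 := by
      generalize KaehlerDifferential.D Λ A x = y at hKdx
      refine Submodule.smul_induction_on hKdx (fun a ha y _ => ?_) fun y z hy hz => by rw [map_add, hy, hz, add_zero]
      rw [map_smul]
      refine Subtype.ext ?_
      change Ideal.Quotient.mk I a * ((D.liftKaehlerDifferential y : N) : A ⧸ I) = 0
      have h := Ideal.mul_mem_mul (Ideal.mem_map_of_mem (Ideal.Quotient.mk I) ha) (D.liftKaehlerDifferential y).2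
      rw [← pow_two, hN, Ideal.mem_bot] at h
      exact h
    rw [Derivation.liftKaehlerDifferential_comp_D] at h3
    have h4 : Ideal.Quotient.mk I x - σ (algebraMap A C x) = 0 := congrArg Subtype.val h3
    rw [RingHom.mem_ker.1 hx, map_zero, sub_zero, Ideal.Quotient.eq_zero_iff_mem] at h4
    obtain ⟨y, hy, z, hz, hyz⟩ := Submodule.mem_sup.1 h4
    obtain ⟨a, rfl⟩ := Ideal.mem_span_singleton'.1 hz
    refine Submodule.mem_span_singleton.2 ⟨a, ?_⟩
    rw [← map_smul, Ideal.toCotangent_eq]
    change a * (p : A) - x ∈ K ^ 2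
    rw [show a * (p : A) - x = -y by rw [← hyz]; ring]
    exact neg_mem hy
  · rw [Submodule.span_le, Set.singleton_subset_iff, SetLike.mem_coe, LinearMap.mem_ker,
      KaehlerDifferential.kerCotangentToTensor_toCotangent]
    simp
  · exact (LinearMap.exact_iff.1 (KaehlerDifferential.exact_kerCotangentToTensor_mapBaseChange Λ A C hsurj)).symm


end Groth.Agent.S4594
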