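import Groth.Statements.S4595
import Groth.Agent.EGA4Alg4.ArtinRadicial

set_option autoImplicit false
universe u
open TensorProduct IsLocalRing
open EGA41

namespace Groth.Agent.S4595

/-- Let A be an Artinian local ring of characteristic p > 0 with maximal ideal m of square zero and
residue field K, f_1, …, f_r ∈ A, and B = A[T_1, …, T_r]/(T_1^p − f_1, …, T_r^p − f_r). Then B is
local, and dim_K m = dim_{K'}(m'/m'²) (m', K' the maximal ideal and residue field of B) if and only
if the d f_i ⊗ 1 are linearly independent in Ω_A ⊗_A K. -/
theorem result {A : Type u} [CommRing A]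
    [IsArtinianRing A] [IsLocalRing A] (hm : maximalIdeal A ^ 2 = ⊥) (p : ℕ) [Fact p.Prime] [CharP A p]
    {r : ℕ} (f : Fin r → A) :
    let B := MvPolynomial (Fin r) A ⧸ Ideal.span (Set.range fun i => MvPolynomial.X i ^ p - MvPolynomial.C (f i))
    ∃ _ : IsLocalRing B,
      (Module.finrank (ResidueField A) (CotangentSpace A) = Module.finrank (ResidueField B) (CotangentSpace B) ↔
        LinearIndependent (ResidueField A) (fun i => (1 : ResidueField A) ⊗ₜ[A] KaehlerDifferential.D ℤ A (f i))) := by
  intro B
  have key : ∀ I : Ideal (MvPolynomial (Fin r) A), I = Ideal.span (Set.range (Cohen12.radEq p 0 f)) →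
      ∃ _ : IsLocalRing (MvPolynomial (Fin r) A ⧸ I),
        (Module.finrank (ResidueField A) (CotangentSpace A) =
            Module.finrank (ResidueField (MvPolynomial (Fin r) A ⧸ I))
              (CotangentSpace (MvPolynomial (Fin r) A ⧸ I)) ↔
          LinearIndependent (ResidueField A)
            (fun i => (1 : ResidueField A) ⊗ₜ[A] KaehlerDifferential.D ℤ A (f i))) := by
    rintro I rfl
    exact EGA4Alg4.ArtinRadicial13.finrank_cotangent_eq_iff p f
  refine key _ (congrArg Ideal.span (congrArg Set.range (funext fun i => ?_)))
  simp [Cohen12.radEq]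

end Groth.Agent.S4595
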