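import Groth.Statements.S4601
import Mathlib

set_option autoImplicit false
set_option linter.style.haveILetI false
set_option linter.style.longLine false
universe u
open TensorProduct
open CAlg

namespace Groth.Agent.S4601

/-- Let A be a domain with fraction field K, B a Noetherian A-algebra which is flat over A, K' an
extension field of K, B₁ = B_red and R its total ring of fractions. For every sub-A-algebra A' of
K', the map (A' ⊗_A B)_red → (K' ⊗_A R)_red is injective, i.e. an element of A' ⊗_A B with nilpotent
image in K' ⊗_A R is nilpotent. -/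
theorem result {A B K' R : Type u} [CommRing A]
    [IsDomain A] [CommRing B] [Algebra A B] [IsNoetherianRing B] [Module.Flat A B]
    [Field K'] [Algebra A K'] [Algebra (FractionRing A) K'] [IsScalarTower A (FractionRing A) K']
    [CommRing R] [Algebra (B ⧸ nilradical B) R] [IsFractionRing (B ⧸ nilradical B) R]
    [Algebra B R] [IsScalarTower B (B ⧸ nilradical B) R] [Algebra A R] [IsScalarTower A B R]
    (A' : Subalgebra A K') (x : ↥A' ⊗[A] B)
    (hx : IsNilpotent (Algebra.TensorProduct.map A'.val (IsScalarTower.toAlgHom A B R) x)) :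
    IsNilpotent x := by
--- body
  haveI : Module.Flat A K' := by
    haveI : Module.Flat A (FractionRing A) := IsLocalization.flat _ (nonZeroDivisors A)
    exact Module.Flat.trans A (FractionRing A) K'
  let i : ↥A' ⊗[A] B →ₐ[A] K' ⊗[A] B := Algebra.TensorProduct.map A'.val (AlgHom.id A B)
  let qB : B →ₐ[A] (B ⧸ nilradical B) := Ideal.Quotient.mkₐ A _
  let q : K' ⊗[A] B →ₐ[A] K' ⊗[A] (B ⧸ nilradical B) := Algebra.TensorProduct.map (AlgHom.id A K') qB
  haveI : IsScalarTower A (B ⧸ nilradical B) R := IsScalarTower.of_algebraMap_eq fun a => by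
    rw [IsScalarTower.algebraMap_apply A B R, IsScalarTower.algebraMap_apply B (B ⧸ nilradical B) R,
      IsScalarTower.algebraMap_apply A B (B ⧸ nilradical B)]
  let jR : (B ⧸ nilradical B) →ₐ[A] R := IsScalarTower.toAlgHom A _ R
  let j : K' ⊗[A] (B ⧸ nilradical B) →ₐ[A] K' ⊗[A] R := Algebra.TensorProduct.map (AlgHom.id A K') jR
  have hfac : Algebra.TensorProduct.map A'.val (IsScalarTower.toAlgHom A B R) = (j.comp q).comp i :=
    Algebra.TensorProduct.ext' fun a b => by
      simp [i, j, q, qB, jR]
      rw [IsScalarTower.algebraMap_apply B (B ⧸ nilradical B) R]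
      rfl
  have hi : Function.Injective i := fun u v huv =>
    Module.Flat.rTensor_preserves_injective_linearMap (M := B) A'.val.toLinearMap Subtype.val_injective huv
  have hj : Function.Injective j := fun u v huv =>
    Module.Flat.lTensor_preserves_injective_linearMap (M := K') jR.toLinearMap
      (IsFractionRing.injective (B ⧸ nilradical B) R) huv
  rw [hfac] at hx
  have hq : IsNilpotent (q (i x)) := (IsNilpotent.map_iff hj).1 hx
  obtain ⟨N, hN⟩ := hq
  have hker : ∀ z, q z = 0 → IsNilpotent z := by
    intro z hz
    have hqs : Function.Surjective qB.toLinearMap := Ideal.Quotient.mk_surjective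
    have hex : Function.Exact ((Submodule.subtype ((nilradical B).restrictScalars A))) qB.toLinearMap := fun b => by
      show Ideal.Quotient.mk _ b = 0 ↔ _
      rw [Ideal.Quotient.eq_zero_iff_mem]
      exact ⟨fun h => ⟨⟨b, h⟩, rfl⟩, fun ⟨y, hy⟩ => hy ▸ y.2⟩
    obtain ⟨y, rfl⟩ := (lTensor_exact K' hex hqs z).1 hz
    clear hz
    induction y using TensorProduct.induction_on with
    | zero => simp
    | tmul c b =>
      obtain ⟨n, hn⟩ := (mem_nilradical.1 b.2 : IsNilpotent (b : B))
      refine ⟨n, ?_⟩
      rw [LinearMap.lTensor_tmul, Algebra.TensorProduct.tmul_pow]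
      show _ ⊗ₜ[A] ((b : B) ^ n) = 0
      rw [hn, TensorProduct.tmul_zero]
    | add a b ha hb => rw [map_add]; exact (Commute.all _ _).isNilpotent_add ha hb
  rw [← map_pow] at hN
  obtain ⟨M, hM⟩ := hker _ hN
  refine ⟨N * M, hi ?_⟩
  rw [map_pow, map_zero, pow_mul, hM]

end Groth.Agent.S4601
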