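import Groth.Statements.S4602
import Groth.Agent.EGA4Alg4.FinFormalReg

set_option autoImplicit false
universe u
open IsLocalRing
open EGA41

namespace Groth.Agent.S4602

/-- Let A be a regular local ring with fraction field of characteristic zero, B a domain containing A
and module-finite over it, with fraction field L, n a prime of B, C = B_n, q a prime of the
completion Ĉ with q ∩ C = 0. Then Ĉ_q is formally smooth over L for the adic topology of its maximal
ideal. (Case (ii) of the published statement, in characteristic p with a suitable filtered family of
subrings, is not stated.) -/
theorem result
    {A B : Type u} [CommRing A] [IsRegularLocalRing A] [CharZero A] [CommRing B] [IsDomain B] [Algebra A B]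
    [Module.Finite A B] (hinj : Function.Injective (algebraMap A B)) (n : Ideal B) [n.IsPrime]
    (q : Ideal (AdicCompletion (maximalIdeal (Localization.AtPrime n)) (Localization.AtPrime n))) [q.IsPrime]
    (hq : q.comap (algebraMap (Localization.AtPrime n)
      (AdicCompletion (maximalIdeal (Localization.AtPrime n)) (Localization.AtPrime n))) = ⊥)
    [Algebra B (Localization.AtPrime q)]
    [IsScalarTower B (AdicCompletion (maximalIdeal (Localization.AtPrime n)) (Localization.AtPrime n))
      (Localization.AtPrime q)]
    [Algebra (FractionRing B) (Localization.AtPrime q)] [IsScalarTower B (FractionRing B) (Localization.AtPrime q)] :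
    CAlgX.IsAdicFormallySmooth (FractionRing B) (Localization.AtPrime q) (maximalIdeal (Localization.AtPrime q)) := by
  have : IsNoetherianRing B := isNoetherian_of_tower A inferInstance
  have : IsRegularLocalRing (Localization.AtPrime q) := by
    refine EGA4Alg4.FinFormal13.regular_completion_fibre_of_charZero hinj n q fun b hb => ?_
    rw [IsScalarTower.algebraMap_apply B (Localization.AtPrime n), ← Ideal.mem_comap, hq, Ideal.mem_bot] at hb
    exact IsLocalization.injective (Localization.AtPrime n) n.primeCompl_le_nonZeroDivisors
      (hb.trans (map_zero _).symm)
  have : CharZero B := charZero_of_injective_algebraMap hinj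
  have : CharZero (FractionRing B) := charZero_of_injective_algebraMap (IsFractionRing.injective B (FractionRing B))
  exact EGA4Alg4.GeomFS13.isAdicFormallySmooth_of_charZero

end Groth.Agent.S4602
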