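import Groth.Statements.S4606
import Groth.Agent.EGA4Alg4.JacAdic

set_option autoImplicit false
universe u
open TensorProduct KaehlerDifferential IsLocalRing
open EGA41

namespace Groth.Agent.S4606

/-- Let B be a Noetherian A-algebra formally smooth for the discrete topologies, B → C a surjection with
kernel J, p a prime of C and q its contraction to A. Then C_p is formally smooth over A_q (A_q
discrete, C_p with the adic topology of its maximal ideal) if and only if κ(p) ⊗ J/J² → κ(p) ⊗ (C
⊗_B Ω_{B/A}) is injective. (The equivalent variant with the q-adic topology on A_q is not stated.) -/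
theorem result {A B C : Type u} [CommRing A]
    [CommRing B] [CommRing C] [Algebra A B] [Algebra B C] [Algebra A C] [IsScalarTower A B C] [IsNoetherianRing B]
    [Algebra.FormallySmooth A B] (hsurj : Function.Surjective (algebraMap B C)) (p : Ideal C) [p.IsPrime]
    [Algebra (Localization.AtPrime (p.comap (algebraMap A C))) (Localization.AtPrime p)]
    [IsScalarTower A (Localization.AtPrime (p.comap (algebraMap A C))) (Localization.AtPrime p)] :
    CAlgX.IsAdicFormallySmooth (Localization.AtPrime (p.comap (algebraMap A C))) (Localization.AtPrime p)
        (maximalIdeal (Localization.AtPrime p)) ↔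
      Function.Injective ((kerCotangentToTensor A B C).lTensor p.ResidueField) := by
  rw [EGA4Alg4.JacAdic13.isAdicFormallySmooth_localization_base (A := A)
    ((p.comap (algebraMap A C)).primeCompl)]
  refine ⟨EGA4Alg4.JacAdic13.injective_of_isAdicFormallySmooth hsurj p, fun h => ?_⟩
  haveI : Module.Finite B (RingHom.ker (algebraMap B C)).Cotangent :=
    Module.Finite.of_surjective _ (Ideal.toCotangent_surjective _)
  obtain ⟨g, hg, w, hw⟩ := FSAdic12.exists_smul_id_of_injective_residueField hsurj p h
  haveI := FSAdic12.formallySmooth_of_smul_id hsurj g w hw p.primeCompl hg (Localization.AtPrime p)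
  exact EGA4Alg4.JacAdic13.exists_lift_of_formallySmooth _


end Groth.Agent.S4606
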