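import Groth.Statements.S4611


set_option autoImplicit false
universe u
open EGA41

namespace Groth.Agent.S4611

/-- A local algebra essentially of finite type over a ring A is A-isomorphic to a quotient of a
localization A[T_1, …, T_n]_q of a polynomial algebra at a prime ideal q; stated as the existence of
a surjective A-algebra map from such a localization. -/
theorem result {A B : Type u} [CommRing A]
    [CommRing B] [IsLocalRing B] [Algebra A B] [Algebra.EssFiniteType A B] :
    ∃ (n : ℕ) (q : Ideal (MvPolynomial (Fin n) A)) (_ : q.IsPrime)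
      (φ : Localization.AtPrime q →ₐ[A] B), Function.Surjective φ := by
  classical
  obtain ⟨σ, hσ⟩ := (Algebra.essFiniteType_iff A B).1 inferInstance
  let v : Fin σ.card → B := fun i => ((σ.equivFin.symm i : σ) : B)
  let φ₀ : MvPolynomial (Fin σ.card) A →ₐ[A] B := MvPolynomial.aeval v
  have hr : Algebra.adjoin A (σ : Set B) = φ₀.range := by
    rw [← Algebra.adjoin_range_eq_range_aeval A v]
    congr 1
    ext x
    constructor
    · intro hx; exact ⟨σ.equivFin ⟨x, hx⟩, by simp [v]⟩
    · rintro ⟨i, rfl⟩; exact (σ.equivFin.symm i).2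
  let q : Ideal (MvPolynomial (Fin σ.card) A) := (IsLocalRing.maximalIdeal B).comap φ₀.toRingHom
  haveI : q.IsPrime := Ideal.comap_isPrime _ _
  have hu : ∀ y : q.primeCompl, IsUnit (φ₀ y) := fun y => by
    by_contra h
    exact y.2 (Ideal.mem_comap.2 ((IsLocalRing.mem_maximalIdeal _).2 h))
  refine ⟨σ.card, q, inferInstance, IsLocalization.liftAlgHom (S := Localization.AtPrime q) (f := φ₀) hu, ?_⟩
  intro b
  obtain ⟨t, ht, htu, hbt⟩ := hσ b
  rw [hr] at ht hbt
  obtain ⟨p, rfl⟩ := ht
  obtain ⟨r, hrr⟩ := hbt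
  have hp : p ∈ q.primeCompl := fun h => (IsLocalRing.mem_maximalIdeal _).1 (Ideal.mem_comap.1 h) htu
  refine ⟨IsLocalization.mk' _ r (⟨p, hp⟩ : q.primeCompl), ?_⟩
  rw [IsLocalization.liftAlgHom_apply, IsLocalization.lift_mk'_spec]
  rw [mul_comm]
  exact hrr


end Groth.Agent.S4611
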