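import Groth.Statements.S4622
import Groth.Agent.FBase64.Geometric
import Mathlib.AlgebraicGeometry.Morphisms.UniversallyInjective

set_option autoImplicit false
open CategoryTheory AlgebraicGeometry
universe u
open FBase

namespace Groth.Agent.S4622

/-- Let k be a separably closed field, k' an algebraic closure of k and X a scheme over k. Then the
projection X ⊗_k k' → X is a universal homeomorphism. -/
theorem result {k k' : Type u} [Field k] [IsSepClosed k] [Field k'] [Algebra k k']
    [IsAlgClosure k k'] {X : Scheme.{u}} (f : X ⟶ Spec (CommRingCat.of k)) :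
    FlatMor.IsUnivHomeo (FBase.bcπ f k') := by
  have : Algebra.IsAlgebraic k k' := IsAlgClosure.isAlgebraic
  have : IsPurelyInseparable k k' := inferInstance
  let m := Spec.map (CommRingCat.ofHom (algebraMap k k'))
  have hinj : UniversallyInjective m := by
    refine ((tfae_universallyInjective m).out 0 1).mpr ?_
    intro K _ g₁ g₂ hg
    obtain ⟨φ₁, rfl⟩ := Spec.map_surjective g₁
    obtain ⟨φ₂, rfl⟩ := Spec.map_surjective g₂
    simp only [m, ← Spec.map_comp] at hg
    have := congrArg CommRingCat.Hom.hom (Spec.map_injective hg)
    exact congrArg Spec.map (CommRingCat.hom_ext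
      (IsPurelyInseparable.injective_comp_algebraMap k k' K this))
  have hint : IsIntegralHom m :=
    IsIntegralHom.SpecMap_iff.mpr (fun x => (Algebra.IsAlgebraic.isAlgebraic x).isIntegral)
  intro Z W i₁ i₂ p hp
  have hbc : IsPullback (i₁ ≫ CategoryTheory.Limits.pullback.snd f m) p m (i₂ ≫ f) :=
    (hp.flip.paste_horiz (IsPullback.of_hasPullback f m).flip)
  have : UniversallyInjective p := MorphismProperty.of_isPullback hbc hinj
  have : Surjective p := MorphismProperty.of_isPullback hbc inferInstance
  have : UniversallyOpen p := MorphismProperty.of_isPullback hbc inferInstance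
  exact ⟨p.continuous, p.isOpenMap, p.injective, p.surjective⟩

end Groth.Agent.S4622
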