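import Groth.Statements.S4631
import Groth.Agent.FBase64.Products

set_option autoImplicit false
open CategoryTheory AlgebraicGeometry
universe u
open FBase

namespace Groth.Agent.S4631

/-- Let X be a scheme over an algebraically closed field k and x a point of X. Then X is geometrically
pointwise integral at x over k if and only if the local ring of X at x is a domain. -/
theorem result {k : Type u} [Field k] [IsAlgClosed k] {X : Scheme.{u}}
    (f : X ⟶ Spec (CommRingCat.of k)) (x : X) :
    FBase.IsGeomPtIntegralAt f x ↔ IsDomain ↑(X.presheaf.stalk x) := by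
  have h0 : IsIso (Spec.map (CommRingCat.ofHom (algebraMap k k))) := by
    rw [Algebra.algebraMap_self, CommRingCat.ofHom_id, Spec.map_id]; infer_instance
  have : IsIso (FBase.bcπ f k) :=
    (inferInstance : IsIso (CategoryTheory.Limits.pullback.fst f
      (Spec.map (CommRingCat.ofHom (algebraMap k k)))))
  obtain ⟨x', rfl⟩ := (FBase.bcπ f k).surjective x
  refine ⟨fun h => ?_, fun h => ?_⟩
  · have := h k x' rfl
    exact Groth.Agent.FBase64.isDomain_stalk_of_flat (FBase.bcπ f k) x'
  · have := Groth.Agent.FBase64.isDomain_stalk_of_iso (FBase.bcπ f k) x'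
    exact Groth.Agent.FBase64.isGeomPtIntegralAt_of_isAlgClosed f _ x' rfl

end Groth.Agent.S4631
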