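import Groth.Statements.S4636
import Groth.Agent.FBase64.AssSheaf3

set_option autoImplicit false
open CategoryTheory AlgebraicGeometry
universe u
open AssSch

namespace Groth.Agent.S4636

/-- Let X be a locally Noetherian scheme, F a coherent O_X-module and x a point of X. Then x is a
maximal associated point of F (an associated point such that every associated point specialising to
x equals x) if and only if x is the generic point of an irreducible component of Supp F, i.e. F_x ≠
0 and every point y with F_y ≠ 0 that specialises to x equals x. -/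
theorem result {X : Scheme.{u}} [IsLocallyNoetherian X] (F : X.Modules)
    (hF : Coh.IsCoh F) (x : X) :
    (x ∈ AssSch.Ass F ∧ ∀ y ∈ AssSch.Ass F, y ⤳ x → y = x) ↔
      (Nontrivial ↑(F.presheaf.stalk x) ∧ ∀ y : X, Nontrivial ↑(F.presheaf.stalk y) → y ⤳ x → y = x) := by
  constructor
  · rintro ⟨hx, hmax⟩
    refine ⟨Groth.Agent.FBase64.AssSheaf.nontrivial_stalk_of_mem_ass F x hx, fun y hy hyx => ?_⟩
    obtain ⟨z, hz, hzy⟩ := Groth.Agent.FBase64.AssSheaf.exists_ass_specializes F hF.1 y hy
    obtain rfl := hmax z hz (hzy.trans hyx)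
    exact (hyx.antisymm hzy).eq
  · rintro ⟨hx, hmax⟩
    exact ⟨Groth.Agent.FBase64.AssSheaf.maximal_of_mem_ass F hF.1 x hx hmax,
      fun y hy hyx => hmax y (Groth.Agent.FBase64.AssSheaf.nontrivial_stalk_of_mem_ass F y hy) hyx⟩

end Groth.Agent.S4636
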