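import Groth.Statements.S4638
import Groth.Agent.FBase64.AssSheaf3

set_option autoImplicit false
open CategoryTheory AlgebraicGeometry
universe u
open AssSch

namespace Groth.Agent.S4638

/-- Let X be a locally Noetherian scheme, F a quasi-coherent O_X-module and f a global section of O_X.
Then f is F-regular, i.e. multiplication by the germ of f is injective on every stalk of F, if and
only if every associated point of F lies in the open subset X_f where f does not vanish. -/
theorem result {X : Scheme.{u}} [IsLocallyNoetherian X] (F : X.Modules)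
    (hF : Coh.IsQCoh F) (f : Γ(X, ⊤)) :
    (∀ x : X, IsSMulRegular ↑(F.presheaf.stalk x) (X.presheaf.germ ⊤ x trivial f)) ↔
      AssSch.Ass F ⊆ (X.basicOpen f : Set ↥X) := by
  constructor
  · intro h x hx
    by_contra hxf
    obtain ⟨-, s, hs⟩ := hx
    have hmem : X.presheaf.germ ⊤ x trivial f ∈ IsLocalRing.maximalIdeal (X.presheaf.stalk x) := by
      rw [IsLocalRing.mem_maximalIdeal, mem_nonunits_iff]
      intro hu
      exact hxf ((X.mem_basicOpen f x trivial).2 hu)
    rw [hs, Ideal.mem_radical_iff] at hmem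
    obtain ⟨n, hn⟩ := hmem
    rw [Submodule.mem_colon_singleton, Submodule.mem_bot] at hn
    have hs0 : s = 0 := ((h x).pow n).right_eq_zero_of_smul hn
    refine (IsLocalRing.maximalIdeal.isMaximal (X.presheaf.stalk x)).ne_top (hs.trans ?_)
    rw [hs0, Ideal.eq_top_iff_one, Ideal.mem_radical_iff]
    exact ⟨1, by rw [Submodule.mem_colon_singleton, smul_zero]; exact Submodule.zero_mem _⟩
  · intro h x
    obtain ⟨U, hxU⟩ := Groth.Agent.Div89.exists_affine_mem x
    letI := Groth.Agent.Div89.stalkModule F U.1 x hxU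
    haveI := Groth.Agent.Div89.isLocalizedModule_germLin F hF U x hxU
    let g : Γ(X, U.1) := X.presheaf.map (homOfLE (le_top : U.1 ≤ ⊤)).op f
    have hg : ∀ z (hz : z ∈ U.1), X.presheaf.germ U.1 z hz g = X.presheaf.germ ⊤ z trivial f :=
      fun z hz => TopCat.Presheaf.germ_res_apply X.presheaf _ z hz f
    refine isSMulRegular_iff_right_eq_zero_of_smul.mpr fun e he => ?_
    obtain ⟨⟨m, s⟩, rfl⟩ := IsLocalizedModule.mk'_surjective
      (Groth.Agent.Div89.primeAt U x hxU).primeCompl (Groth.Agent.Div89.germLin F U.1 x hxU) e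
    simp only [Function.uncurry_apply_pair] at he ⊢
    rw [← hg x hxU] at he
    have he' : g • IsLocalizedModule.mk' (Groth.Agent.Div89.germLin F U.1 x hxU) m s = 0 := he
    rw [← IsLocalizedModule.mk'_smul, IsLocalizedModule.mk'_eq_zero'] at he'
    obtain ⟨t, ht⟩ := he'
    rw [IsLocalizedModule.mk'_eq_zero']
    refine ⟨t, Groth.Agent.FBase64.AssSheaf.section_eq_zero F hF _ fun z hz hzA => ?_⟩
    have hu : IsUnit (X.presheaf.germ U.1 z hz g) := by
      rw [hg z hz]
      exact (X.mem_basicOpen f z trivial).1 (h hzA)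
    rw [← hu.smul_eq_zero, ← Groth.Agent.Div89.germ_smul, ← map_zero (F.presheaf.germ U.1 z hz).hom]
    congr 1
    rw [← ht, Submonoid.smul_def, Submonoid.smul_def, smul_comm]

end Groth.Agent.S4638
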