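import Groth.Statements.S4657
import Groth.Agent.FBase64.RestrictStalk
import Groth.Agent.Div89.PushAss

set_option autoImplicit false
open CategoryTheory AlgebraicGeometry
universe u
open AssSch

namespace Groth.Agent.S4657

/-- Let X be a locally Noetherian scheme, U an open subset of X and F a coherent O_X-module such that U
∩ Supp F is dense in Supp F. Then F is a reduced module if and only if its restriction to U is a
reduced module and F has no embedded associated points. -/
theorem result {X : Scheme.{u}} [IsLocallyNoetherian X] (U : X.Opens) (F : X.Modules)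
    (hF : Coh.IsCoh F) (hdense : CohB1.support F ⊆ closure ((U : Set ↥X) ∩ CohB1.support F)) :
    AssSch.IsReducedMod F ↔ AssSch.IsReducedMod ((Scheme.Modules.pullback U.ι).obj F) ∧ AssSch.NoEmbedded F := by
  classical
  constructor
  · rintro ⟨hne, hlen⟩
    refine ⟨⟨fun x hx y hy hyx => ?_, fun x hx => ?_⟩, hne⟩
    · rw [Groth.Agent.FBase64.AssSheaf.mem_ass_pullback_iff] at hx hy
      exact U.ι.isOpenEmbedding.injective (hne _ hx _ hy (hyx.map U.ι.continuous))
    · rw [Groth.Agent.FBase64.AssSheaf.length_stalk_pullback]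
      exact hlen _ ((Groth.Agent.FBase64.AssSheaf.mem_ass_pullback_iff U.ι F x).mp hx)
  · rintro ⟨⟨-, hlen⟩, hne⟩
    refine ⟨hne, fun x hx => ?_⟩
    have hxU : x ∈ U := by
      obtain ⟨V, hxV⟩ := Groth.Agent.Div89.exists_affine_mem x
      have hfin := Groth.Agent.Div89.finite_assPoints_inter F hF V.1 V.2.isCompact
      let W : Set X := (V.1 : Set X) ∩ ⋂ z ∈ {z ∈ hfin.toFinset | z ≠ x}, (closure {z})ᶜ
      have hW : IsOpen W := V.1.2.inter (isOpen_biInter_finset fun z _ => isClosed_closure.isOpen_compl)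
      have hxW : x ∈ W := by
        refine ⟨hxV, Set.mem_iInter₂.mpr fun z hz hxz => ?_⟩
        rw [Finset.mem_filter, Set.Finite.mem_toFinset] at hz
        exact hz.2 (hne x hx z hz.1.2 (specializes_iff_mem_closure.mpr hxz)).symm
      have hxS : x ∈ CohB1.support F :=
        not_subsingleton_iff_nontrivial.mpr (Groth.Agent.FBase64.AssSheaf.nontrivial_stalk_of_mem_ass F x hx)
      obtain ⟨y, hyW, hyU, hyS⟩ := mem_closure_iff.mp (hdense hxS) W hW hxW
      obtain ⟨z, hz, hzy⟩ := Groth.Agent.FBase64.AssSheaf.exists_ass_specializes F hF.1 y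
        (not_subsingleton_iff_nontrivial.mp hyS)
      have hzV : z ∈ V.1 := hzy.mem_open V.1.2 hyW.1
      by_cases hzx : z = x
      · exact hzx ▸ hzy.mem_open U.2 hyU
      · exact absurd (specializes_iff_mem_closure.mp hzy) (Set.mem_iInter₂.mp hyW.2 z
          (Finset.mem_filter.mpr ⟨(Set.Finite.mem_toFinset hfin).mpr ⟨hzV, hz⟩, hzx⟩))
    have := hlen ⟨x, hxU⟩ ((Groth.Agent.FBase64.AssSheaf.mem_ass_pullback_iff U.ι F ⟨x, hxU⟩).mpr hx)
    exact (Groth.Agent.FBase64.AssSheaf.length_stalk_pullback U.ι F ⟨x, hxU⟩).symm.trans this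

end Groth.Agent.S4657
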