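import Groth.Statements.S4687
import Groth.Agent.FBase64.LengthBC

set_option autoImplicit false
open CategoryTheory AlgebraicGeometry
universe u
open FBase

namespace Groth.Agent.S4687

/-- Let X be an integral locally Noetherian scheme over a field k, k′ an extension field of k such that
X′ = X ⊗_k k′ is locally Noetherian, and k″ an extension field of k′ which is separable over k′
(Spec k″ → Spec k′ geometrically reduced) and such that (X′)_red ⊗_{k′} k″ is locally Noetherian.
Then for every maximal point x″ of X″ = X′ ⊗_{k′} k″ (generic point of an irreducible component),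
with image x′ in X′, the local rings O_{X″,x″} and O_{X′,x′} have the same length, each as a module
over itself, with values in ℕ∞. -/
theorem result {k k' k'' : Type u} [Field k] [Field k'] [Field k''] [Algebra k k']
    [Algebra k' k''] {X : Scheme.{u}} (f : X ⟶ Spec (CommRingCat.of k)) [IsIntegral X] [IsLocallyNoetherian X]
    [IsLocallyNoetherian (FBase.bc f k')] [GeometricallyReduced (Spec.map (CommRingCat.ofHom (algebraMap k' k'')))]
    [IsLocallyNoetherian (FBase.bc ((FBase.bc f k').nilradical.subschemeι ≫ FBase.bcStr f k') k'')]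
    (x'' : ↥(FBase.bc (FBase.bcStr f k') k'')) (hx'' : ∀ z : ↥(FBase.bc (FBase.bcStr f k') k''), z ⤳ x'' → z = x'') :
    Module.length ((FBase.bc (FBase.bcStr f k') k'').presheaf.stalk x'') ((FBase.bc (FBase.bcStr f k') k'').presheaf.stalk x'') =
      Module.length ((FBase.bc f k').presheaf.stalk (FBase.bcπ (FBase.bcStr f k') k'' x''))
        ((FBase.bc f k').presheaf.stalk (FBase.bcπ (FBase.bcStr f k') k'' x'')) := by
  let X' := FBase.bc f k'
  let s := FBase.bcStr f k'
  let i := X'.nilradical.subschemeι
  let g := Spec.map (CommRingCat.ofHom (algebraMap k' k''))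
  haveI : Flat g := by
    rw [HasRingHomProperty.Spec_iff (P := @Flat)]
    exact RingHom.flat_algebraMap_iff.mpr inferInstance
  haveI := FlatMor67.isReduced_subscheme_nilradical X'
  haveI : IsLocallyNoetherian X'.nilradical.subscheme := LocallyOfFiniteType.isLocallyNoetherian i
  haveI : AlgebraicGeometry.IsReduced (Limits.pullback (i ≫ s) g) :=
    GeometricallyReduced.isReduced_of_flat_of_isLocallyNoetherian (Limits.pullback.fst (i ≫ s) g)
  let j : Limits.pullback (i ≫ s) g ⟶ Limits.pullback s g := Limits.pullback.map (i ≫ s) g s g i (𝟙 _) (𝟙 _)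
    (Category.comp_id _) ((Category.comp_id _).trans (Category.id_comp _).symm)
  have hrange : Set.range j = Set.univ := by
    rw [Scheme.Pullback.range_map, Scheme.IdealSheafData.range_subschemeι, Scheme.support_nilradical,
      Set.range_eq_univ.mpr (Scheme.Hom.surjective (𝟙 (Spec (CommRingCat.of k''))))]
    simp
  obtain ⟨z'', hz''⟩ : x'' ∈ Set.range j := by rw [hrange]; trivial
  rw [FBase64.LengthBC.bc_length_mul s x'' hx'' z'' hz'']
  haveI : MorphismProperty.IsStableUnderComposition @IsPreimmersion := ⟨fun a b ha hb => by exact IsPreimmersion.comp a b⟩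
  haveI : IsPreimmersion j := MorphismProperty.pullbackMap (P := @IsPreimmersion) inferInstance inferInstance rfl (Category.id_comp _).symm
  have h1 : IsLocalRing.maximalIdeal ((Limits.pullback (i ≫ s) g).presheaf.stalk z'') = ⊥ :=
    FBase64.LengthBC.maximalIdeal_eq_bot_of_maximal _ fun z hz => j.isEmbedding.injective (by
      rw [hz'']; exact hx'' _ (hz'' ▸ hz.map j.continuous))
  rw [show Module.length ((FBase.bc (i ≫ s) k'').presheaf.stalk z'') ((FBase.bc (i ≫ s) k'').presheaf.stalk z'') = 1
    from FBase64.LengthBC.length_field_stalk _ h1, mul_one]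

end Groth.Agent.S4687
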