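import Groth.Statements.S4689
import Groth.Agent.Cyc90.DimFormula
import Mathlib
-- import your own Groth.Agent.* helpers here

set_option autoImplicit false
universe u
open EGA4

namespace Groth.Agent.S4689

/-- Let A be a universally catenary Noetherian local domain and B a domain containing A which is a
finite A-algebra. Then for every maximal ideal n of B the local ring B_n has the same Krull
dimension as A. -/
theorem result (A B : Type u) [CommRing A] [IsDomain A]
    [IsNoetherianRing A] [IsLocalRing A] (hA : CAlg.IsUniversallyCatenary A) [CommRing B] [IsDomain B]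
    [Algebra A B] [FaithfulSMul A B] [Module.Finite A B] (n : Ideal B) [n.IsMaximal] :
    ringKrullDim (Localization.AtPrime n) = ringKrullDim A := by
  have : n.LiesOver (IsLocalRing.maximalIdeal A) :=
    ⟨(IsLocalRing.eq_maximalIdeal (Ideal.isMaximal_comap_of_isIntegral_of_isMaximal (R := A) n)).symm⟩
  have key := Groth.Agent.Cyc90.height_add_trdeg_eq A hA B (IsLocalRing.maximalIdeal A) n
  have : Algebra.IsAlgebraic A B := Algebra.IsAlgebraic.of_finite A B
  have : Algebra.IsAlgebraic (A ⧸ IsLocalRing.maximalIdeal A) (B ⧸ n) := Algebra.IsAlgebraic.of_finite _ _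
  rw [trdeg_eq_zero, trdeg_eq_zero, add_zero, add_zero, Cardinal.ofENat_inj] at key
  rw [IsLocalization.AtPrime.ringKrullDim_eq_height n, key, IsLocalRing.maximalIdeal_height_eq_ringKrullDim]

end Groth.Agent.S4689
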