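import Groth.Statements.S4693
import Groth.Agent.Ega11.FlatSupp
import Groth.Agent.EGA4Alg4.FibreDim
-- import your own Groth.Agent.* helpers here

set_option autoImplicit false
universe u
open EGA4

namespace Groth.Agent.S4693

/-- Let A → B be a local homomorphism of Noetherian local rings such that the closed fibre ring B/m_A B
has Krull dimension 0 (that is, m_A B is an ideal of definition of B). Then dim B ≤ dim A. If
moreover some finite B-module which is flat over A has support equal to all of Spec B (for instance
if B is flat over A), then dim B = dim A. -/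
theorem result (A B : Type u) [CommRing A] [CommRing B] [IsNoetherianRing A]
    [IsNoetherianRing B] [IsLocalRing A] [IsLocalRing B] [Algebra A B] [IsLocalHom (algebraMap A B)]
    (h0 : ringKrullDim (EGA4.FibRing A B) = 0) :
    ringKrullDim B ≤ ringKrullDim A ∧
      (∀ (N : Type u) [AddCommGroup N] [Module B N] [Module A N] [IsScalarTower A B N] [Module.Finite B N]
          [Module.Flat A N], Module.support B N = Set.univ → ringKrullDim B = ringKrullDim A) := by
  have h1 : ringKrullDim B ≤ ringKrullDim A := (Groth.Agent.EGA4Alg4.le_and_injective_of_fibre_dim_eq_zero h0).1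
  refine ⟨h1, fun N _ _ _ _ _ _ hsupp => le_antisymm h1 ?_⟩
  let q : PrimeSpectrum B := IsLocalRing.closedPoint B
  have hq : q ∈ Module.support B N := hsupp ▸ Set.mem_univ q
  have hc : (PrimeSpectrum.comap (algebraMap A B) q).asIdeal = IsLocalRing.maximalIdeal A :=
    congrArg PrimeSpectrum.asIdeal (IsLocalRing.comap_closedPoint (algebraMap A B))
  have h2 := Groth.Agent.Ega11.FlatSupp.height_le (A := A) N q hq
  rw [hc] at h2
  rw [← IsLocalRing.maximalIdeal_height_eq_ringKrullDim (R := A), ← IsLocalRing.maximalIdeal_height_eq_ringKrullDim (R := B)]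
  exact WithBot.coe_le_coe.mpr h2

end Groth.Agent.S4693
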