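import Groth.Statements.S4694
import Groth.Agent.CAlg1.FlatDepth
import Groth.Agent.EGA4Alg4.Semilocal
-- import your own Groth.Agent.* helpers here

set_option autoImplicit false
universe u
open EGA4

namespace Groth.Agent.S4694

open TensorProduct in
/-- Let A → B be a local homomorphism of Noetherian local rings, M a finite A-module and N a nonzero
finite B-module, flat over A, whose closed-fibre module N/m_A N has finite length. Then the depth of
the B-module N ⊗_A M equals the depth of the A-module M. (The companion equality of codepths in the
published item is not restated.) -/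
theorem result {A B M N : Type u} [CommRing A] [CommRing B]
    [IsNoetherianRing A] [IsNoetherianRing B] [IsLocalRing A] [IsLocalRing B] [Algebra A B]
    [IsLocalHom (algebraMap A B)] [AddCommGroup M] [Module A M] [Module.Finite A M]
    [AddCommGroup N] [Module B N] [Module A N] [IsScalarTower A B N] [Module.Finite B N] [Nontrivial N]
    [Module.Flat A N] (hN : IsFiniteLength B (EGA4.FibMod A B N)) :
    LocCoh.depth B (N ⊗[A] M) = LocCoh.depth A M := by
  have hne : Nontrivial (EGA4.FibMod A B N) := Submodule.Quotient.nontrivial_iff.mpr
    (Groth.Agent.EGA4Alg4.smul_top_lt_top (M := N) _ (IsLocalRing.map_maximalIdeal_le _)).ne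
  have h0 : LocCoh.depth B (EGA4.FibMod A B N) = 0 := by
    have h1 := (Groth.Agent.EGA4Alg4.depth_le_supportDim (A := B) (M := EGA4.FibMod A B N)).trans
      (Groth.Agent.EGA4Alg4.Semilocal.supportDim_nonpos_of_isFiniteLength hN)
    exact le_antisymm (WithBot.coe_le_coe.mp h1) (zero_le : (0 : ℕ∞) ≤ _)
  rw [Groth.Agent.CAlg1.depth_tensor_flat, show LocCoh.depth B (N ⧸ (IsLocalRing.maximalIdeal A).map (algebraMap A B) • (⊤ : Submodule B N)) = 0 from h0, add_zero]

end Groth.Agent.S4694
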