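import Groth.Statements.S4699
import Groth.Agent.Ega11.DepthSpread
-- import your own Groth.Agent.* helpers here

set_option autoImplicit false
universe u
open EGA4

namespace Groth.Agent.S4699

/-- Let A be a Noetherian ring, M a finite A-module and I an ideal of A whose radical p is a prime ideal
lying in the support of M (so V(I) is an irreducible closed subset whose generic point is in Supp
M). Then there is an element f outside p such that, for every prime q containing I with f outside q,
the dimension of M_q is the dimension of M_p plus the dimension of (A/I)_q, and the depth of M_q is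
the depth of M_p plus the depth of (A/I)_q (the module (A/I)_q = A_q / I A_q being regarded over
A_q). -/
theorem result (A : Type u) [CommRing A] [IsNoetherianRing A]
    (M : Type u) [AddCommGroup M] [Module A M] [Module.Finite A M] (I : Ideal A) [I.radical.IsPrime]
    (hp : (⟨I.radical, inferInstance⟩ : PrimeSpectrum A) ∈ Module.support A M) :
    ∃ f : A, f ∉ I.radical ∧ ∀ (q : Ideal A) [q.IsPrime], I ≤ q → f ∉ q →
      Module.supportDim (Localization.AtPrime q) (LocalizedModule q.primeCompl M) =
          Module.supportDim (Localization.AtPrime I.radical) (LocalizedModule I.radical.primeCompl M) +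
            Module.supportDim (Localization.AtPrime q)
              (Localization.AtPrime q ⧸ I.map (algebraMap A (Localization.AtPrime q))) ∧
        LocCoh.depth (Localization.AtPrime q) (LocalizedModule q.primeCompl M) =
          LocCoh.depth (Localization.AtPrime I.radical) (LocalizedModule I.radical.primeCompl M) +
            LocCoh.depth (Localization.AtPrime q)
              (Localization.AtPrime q ⧸ I.map (algebraMap A (Localization.AtPrime q))) := by
  classical
  let p : PrimeSpectrum A := ⟨I.radical, inferInstance⟩
  obtain ⟨f, hf, hM⟩ := Groth.Agent.Ega11.DepthSpread.sp_all p M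
  obtain ⟨g, hg, hQ⟩ := Groth.Agent.Ega11.DepthSpread.sp_all p (A ⧸ I)
  obtain ⟨k, hk⟩ := I.exists_radical_pow_le_of_fg (IsNoetherian.noetherian _)
  have hI : p ∈ Module.support A (A ⧸ I) := by
    rw [Module.mem_support_iff_of_finite, Ideal.annihilator_quotient]
    exact Ideal.le_radical
  have hd : Groth.Agent.Ega11.DepthSpread.dp (A ⧸ I) p = 0 := by
    refine ((Groth.Agent.Ega11.DepthSpread.sp_torsion p (A ⧸ I) k
      (by rw [Ideal.annihilator_quotient]; exact hk)).2).resolve_right ?_
    have := Groth.Agent.Ega11.DepthSpread.finite_loc (A ⧸ I) p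
    have : Nontrivial (LocalizedModule p.asIdeal.primeCompl (A ⧸ I)) := hI
    exact Groth.Agent.EGA4Alg4.depth_ne_top
  have hdim : Groth.Agent.Ega11.DepthSpread.dm (A ⧸ I) p = 0 := by
    refine le_antisymm ((Groth.Agent.CAlg1.supportDim_atPrime_le_zero_iff p.asIdeal hI).mpr ?_) ?_
    · rw [Ideal.annihilator_quotient]
      exact ⟨⟨p.2, Ideal.le_radical⟩, fun J hJ _ => (hJ.1.radical_le_iff).mpr hJ.2⟩
    · have : Nonempty (Groth.Agent.Ega11.SupportLoc.suppBelow A (A ⧸ I) p.asIdeal) := ⟨⟨p, hI, le_rfl⟩⟩
      simp only [Groth.Agent.Ega11.DepthSpread.dm, Groth.Agent.Ega11.SupportLoc.supportDim_localizedModule_eq]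
      exact Order.krullDim_nonneg
  refine ⟨f * g, fun h => (p.2.mem_or_mem h).elim hf hg, fun q _ hIq hq => ?_⟩
  have hpq : p ≤ (⟨q, inferInstance⟩ : PrimeSpectrum A) :=
    (Ideal.IsPrime.radical_le_iff ‹q.IsPrime›).mpr hIq
  obtain ⟨e1, e2⟩ := hM _ hpq fun h => hq (q.mul_mem_right _ h)
  obtain ⟨e3, e4⟩ := hQ _ hpq fun h => hq (q.mul_mem_left _ h)
  rw [hd, zero_add] at e3
  rw [hdim, zero_add] at e4
  let L := Localization.AtPrime q
  have hloc : Submodule.localized' L q.primeCompl (Algebra.linearMap A L) (I : Submodule A A) =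
      I.map (algebraMap A L) := by
    rw [Submodule.localized'_eq_span]
    rfl
  let e : (L ⧸ I.map (algebraMap A L)) ≃ₗ[L] LocalizedModule q.primeCompl (A ⧸ I) :=
    (Submodule.quotEquivOfEq _ _ hloc.symm).trans
      ((IsLocalizedModule.linearEquiv q.primeCompl
        (Submodule.toLocalizedQuotient' L q.primeCompl (Algebra.linearMap A L) I)
        (LocalizedModule.mkLinearMap q.primeCompl (A ⧸ I))).extendScalarsOfIsLocalization q.primeCompl L)
  rw [Groth.Agent.EGA4Alg4.depth_eq_of_equiv e, Module.supportDim_eq_of_equiv e]
  exact ⟨e2.trans (congrArg _ e4.symm), e1.trans (congrArg _ e3.symm)⟩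

end Groth.Agent.S4699
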