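import Groth.Statements.S4701
import Groth.Agent.EGA4H10.J2Criterion
-- import your own Groth.Agent.* helpers here

set_option autoImplicit false
universe u
open EGA4

namespace Groth.Agent.S4701

/-- Let A be a Noetherian ring. The regular locus of every quotient ring A/I is open in its spectrum if
and only if, for every prime ideal p, the regular locus of the domain A/p contains a nonempty open
subset of Spec(A/p). (The published statement quantifies over all subschemes of Spec A; open
subschemes of the closed ones add nothing, so closed subschemes are used here.) -/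
theorem result (A : Type u) [CommRing A] [IsNoetherianRing A] :
    (∀ I : Ideal A, IsOpen (EGA4.regLocus (A ⧸ I))) ↔
      ∀ (p : Ideal A) [p.IsPrime],
        ∃ U : Set (PrimeSpectrum (A ⧸ p)), IsOpen U ∧ U.Nonempty ∧ U ⊆ EGA4.regLocus (A ⧸ p) := by
  constructor
  · intro h p _
    refine ⟨_, h p, ⟨⟨⊥, Ideal.isPrime_bot⟩, ?_⟩, le_rfl⟩
    have : IsLocalization.AtPrime (FractionRing (A ⧸ p)) (⊥ : Ideal (A ⧸ p)) := by
      have : (⊥ : Ideal (A ⧸ p)).primeCompl = nonZeroDivisors (A ⧸ p) := Ideal.primeCompl_bot
      show IsLocalization _ _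
      rw [this]; infer_instance
    exact IsRegularLocalRing.of_ringEquiv (IsLocalization.algEquiv (⊥ : Ideal (A ⧸ p)).primeCompl
      (FractionRing (A ⧸ p)) (Localization.AtPrime (⊥ : Ideal (A ⧸ p)))).toRingEquiv
  · intro h I
    refine Groth.Agent.EGA4H10.isOpen_regLocus_of_domains fun pb _ _ => ?_
    let p : Ideal A := pb.comap (Ideal.Quotient.mk I)
    let e : A ⧸ p ≃+* (A ⧸ I) ⧸ pb :=
      (Ideal.quotEquivOfEq (by rw [← RingHom.comap_ker, Ideal.mk_ker] : p = RingHom.ker ((Ideal.Quotient.mk pb).comp (Ideal.Quotient.mk I)))).trans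
        (RingHom.quotientKerEquivOfSurjective (f := (Ideal.Quotient.mk pb).comp (Ideal.Quotient.mk I))
          (Ideal.Quotient.mk_surjective.comp Ideal.Quotient.mk_surjective))
    obtain ⟨d, hd0, hd⟩ := Groth.Agent.EGA4H10.regAway_of_open (h p)
    exact ⟨e d, (map_ne_zero_iff _ e.injective).mpr hd0, hd.of_equiv e⟩

end Groth.Agent.S4701
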