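import Groth.Statements.S4702
import Groth.Agent.Ega11.DimEq
-- import your own Groth.Agent.* helpers here

set_option autoImplicit false
universe u
open EGA4

namespace Groth.Agent.S4702

open AlgebraicGeometry CategoryTheory in
/-- Let Y be an irreducible locally Noetherian scheme of dimension 1, X an irreducible scheme and f : X
→ Y a dominant morphism of finite type. Then for every point y in the image of f, every irreducible
component of the fibre of f at y has dimension equal to the dimension of the generic fibre. -/
theorem result {X Y : Scheme.{u}} (f : X ⟶ Y) [IsLocallyNoetherian Y]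
    [IrreducibleSpace Y] [IrreducibleSpace X] (hY : topologicalKrullDim Y = 1) [LocallyOfFiniteType f]
    [QuasiCompact f] (hf : DenseRange f.base) (y : Y) (hy : y ∈ Set.range f.base)
    (Z : Set ↥(f.fiber y)) (hZ : Z ∈ irreducibleComponents ↥(f.fiber y)) :
    topologicalKrullDim Z = topologicalKrullDim ↥(f.fiber (genericPoint Y)) := by
  have hη := Groth.Agent.Ega11.SchemeDimFormula.specializes_of_denseRange f hf
  have he : f (genericPoint X) = genericPoint Y :=
    ((hη _).antisymm (genericPoint_specializes _)).eq
  obtain ⟨z, -, hz, hdim⟩ := Groth.Agent.E4O.exists_of_mem_irreducibleComponents_fiber f hZ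
  rw [hdim, ← he, Groth.Agent.Ega11.SchemeDimFormula.dim_generic_fibre f,
    Groth.Agent.Ega11.DimEq.fdeg_eq_of_isFibreMax f hY.le hη _ hz]

end Groth.Agent.S4702
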