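import Groth.Statements.S4703
import Groth.Agent.Ega11.FiniteDomainFibre
import Groth.Agent.Hens22.CompletionUnrAdic
import Groth.Agent.CAlg5.RegularHom
-- import your own Groth.Agent.* helpers here

set_option autoImplicit false
universe u
open EGA4

namespace Groth.Agent.S4703

open TensorProduct in
/-- For the property 'geometrically regular', case of a local ring: let A be a Noetherian local ring
with completion Â. Then the formal fibres of A are geometrically regular (the completion map A → Â
is a regular homomorphism) if and only if, for every finite A-algebra B which is a domain and every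
prime ideal q of B ⊗_A Â whose contraction to B is zero, the local ring of B ⊗_A Â at q is regular.
(The published statement is for semi-local rings; this row takes A local.) -/
theorem result (A : Type u) [CommRing A] [IsNoetherianRing A] [IsLocalRing A] :
    CAlg.IsRegularHom A (EGA4.Cpl A) ↔
      ∀ (B : Type u) [CommRing B] [IsDomain B] [Algebra A B] [Module.Finite A B]
        (q : Ideal (B ⊗[A] EGA4.Cpl A)) [q.IsPrime],
        q.comap (algebraMap B (B ⊗[A] EGA4.Cpl A)) = ⊥ → IsRegularLocalRing (Localization.AtPrime q) := by
  have hC := Hens22.isCompl'_adic A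
  have := hC.noetherian
  constructor
  · intro h B _ _ _ _ q _ hq
    have := CAlg5.isRegularRing_of_isGeometricallyRegular
      ((CAlg5.isRegularHom_baseChange A (EGA4.Cpl A) B h).2 ⊥).2
    have hN := (((CAlg5.isRegularHom_baseChange A (EGA4.Cpl A) B h).2 ⊥)).1
    exact (Ega11.FiniteDomainFibre.isRegularRing_generic_iff (S := B ⊗[A] EGA4.Cpl A)).mp this q hq
  · intro h
    refine ⟨hC.flat, fun p _ => ?_⟩
    have hN := (Ega11.FibreComp.isNoetherianRing_fiber (B := EGA4.Cpl A) p).2
    refine ⟨hN, fun K _ _ hK => ?_⟩
    have := hK
    let : Algebra A K := ((algebraMap p.ResidueField K).comp (algebraMap A p.ResidueField)).toAlgebra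
    have : IsScalarTower A p.ResidueField K := IsScalarTower.of_algebraMap_eq fun _ => rfl
    obtain ⟨B, hB, hfr⟩ := Ega11.FiniteDomainFibre.exists_finite_domain p K
    obtain ⟨e⟩ := Ega11.FiniteDomainFibre.exists_equiv (EGA4.Cpl A) p K B
    have := Ega11.FiniteDomainFibre.isNoetherianRing_generic K e
    have := (Ega11.FiniteDomainFibre.isRegularRing_generic_iff (S := B ⊗[A] EGA4.Cpl A)).mpr (h B)
    exact IsRegularRing.of_ringEquiv (R := (⊥ : Ideal B).Fiber (B ⊗[A] EGA4.Cpl A)) e.symm

end Groth.Agent.S4703
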