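import Groth.Statements.S4705
import Groth.Agent.Ega11.FormalDescent
-- import your own Groth.Agent.* helpers here

set_option autoImplicit false
universe u
open EGA4

namespace Groth.Agent.S4705

/-- Let A → A' be a flat local homomorphism of Noetherian local rings all of whose fibre rings k(p) ⊗_A
A' are geometrically reduced over k(p). If the completion map of A' is regular (the formal fibres of
A' are geometrically regular), then the formal fibres of A are geometrically reduced. -/
theorem result (A A' : Type u) [CommRing A] [CommRing A']
    [IsNoetherianRing A] [IsNoetherianRing A'] [IsLocalRing A] [IsLocalRing A'] [Algebra A A']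
    [IsLocalHom (algebraMap A A')] [Module.Flat A A']
    (hf : ∀ (p : Ideal A) [p.IsPrime], Algebra.IsGeometricallyReduced p.ResidueField (p.Fiber A'))
    (hA' : CAlg.IsRegularHom A' (EGA4.Cpl A')) : EGA4.HasGeomReducedFormalFibres A := by
  have : Module.Flat A' (EGA4.Cpl A') := hA'.1
  obtain ⟨_, hT, hT', hN, hN', _, hff⟩ := Groth.Agent.Ega11.FormalDescent.exists_cpl_map A A'
  intro p _
  refine Groth.Agent.Ega11.GeomComp.isGeometricallyReduced_of_finite fun l _ _ hl => ?_
  let : Algebra A l := ((algebraMap p.ResidueField l).comp (algebraMap A p.ResidueField)).toAlgebra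
  have : IsScalarTower A p.ResidueField l := .of_algebraMap_eq fun _ => rfl
  have := hf p
  exact Groth.Agent.Ega11.GeomComp.reduced_of_comp (B := EGA4.Cpl A) (C := EGA4.Cpl A') p l
    (Groth.Agent.Ega11.GeomComp.reduced_comp (B := A') p l inferInstance
      fun q _ => Groth.Agent.Ega11.FormalDescent.isGeometricallyReduced_of_isRegularHom A' (EGA4.Cpl A') hA' q)

end Groth.Agent.S4705
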