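import Groth.Statements.S4707
import Groth.Agent.EGA4H10.IntClosApp

set_option autoImplicit false
universe u
open EGA4

namespace Groth.Agent.S4707

open TensorProduct in
/-- Let A be a Noetherian ring and A' a Noetherian A-algebra such that A → A' is a normal homomorphism
(flat, with geometrically normal fibres). Let B → C be a homomorphism of A-algebras and D the
integral closure of B in C. Then the integral closure in A' ⊗_A C of the image of A' ⊗_A B is the
image of A' ⊗_A D. (No finiteness is assumed on B or C.) -/
theorem result (A A' : Type u) [CommRing A] [CommRing A']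
    [IsNoetherianRing A] [IsNoetherianRing A'] [Algebra A A'] (h : EGA4.IsNormalHom A A')
    (B C : Type u) [CommRing B] [CommRing C] [Algebra A B] [Algebra A C] [Algebra B C] [IsScalarTower A B C] :
    (integralClosure
          ↥(Algebra.TensorProduct.map (AlgHom.id A' A') (IsScalarTower.toAlgHom A B C)).range (A' ⊗[A] C) :
        Set (A' ⊗[A] C)) =
      Set.range (Algebra.TensorProduct.map (AlgHom.id A' A')
        ((integralClosure B C).val.restrictScalars A)) := by
  classical
  have := h.1
  refine Set.Subset.antisymm (fun x hx => ?_) ?_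
  · refine EGA4H10.IntClosApp.mem_range_of_isIntegralElem
      (fun p _ => EGA4H10.IntClosApp.geomReduced_of_isNormalHom h p) B C x ?_
    obtain ⟨q, hq, hqx⟩ := hx
    let φ := Algebra.TensorProduct.map (AlgHom.id A' A') (IsScalarTower.toAlgHom A B C)
    obtain ⟨Q, hQ, -, hQm⟩ : ∃ Q : Polynomial (A' ⊗[A] B), Q.map φ.toRingHom = q.map φ.range.val.toRingHom ∧
        True ∧ Q.Monic := by
      cases subsingleton_or_nontrivial (A' ⊗[A] C) with
      | inl hs => exact ⟨1, Subsingleton.elim _ _, trivial, Polynomial.monic_one⟩
      | inr hs =>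
        have hl : q.map φ.range.val.toRingHom ∈ Polynomial.lifts φ.toRingHom := by
          rw [Polynomial.lifts_iff_coeff_lifts]
          intro i
          rw [Polynomial.coeff_map]
          exact (q.coeff i).2
        obtain ⟨Q, h1, -, h2⟩ := Polynomial.lifts_and_degree_eq_and_monic hl (hq.map _)
        exact ⟨Q, h1, trivial, h2⟩
    refine ⟨Q, hQm, ?_⟩
    show Polynomial.eval₂ φ.toRingHom x Q = 0
    rw [← Polynomial.eval_map, hQ, Polynomial.eval_map]
    exact hqx
  · rintro _ ⟨z, rfl⟩
    let φ := Algebra.TensorProduct.map (AlgHom.id A' A') (IsScalarTower.toAlgHom A B C)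
    induction z using TensorProduct.induction_on with
    | zero => rw [map_zero]; exact zero_mem _
    | add a b ha hb => rw [map_add]; exact add_mem ha hb
    | tmul a d =>
      show a ⊗ₜ[A] (d : C) ∈ _
      rw [show a ⊗ₜ[A] (d : C) = a ⊗ₜ[A] (1 : C) * (1 : A') ⊗ₜ[A] (d : C) by
        rw [Algebra.TensorProduct.tmul_mul_tmul, mul_one, one_mul]]
      refine mul_mem ?_ ?_
      · have hm : a ⊗ₜ[A] (1 : C) ∈ φ.range := ⟨a ⊗ₜ 1, by simp [φ]⟩
        exact isIntegral_algebraMap (x := (⟨_, hm⟩ : φ.range))
      · obtain ⟨p, hp, hpd⟩ := d.2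
        let ι : B →+* φ.range := φ.rangeRestrict.toRingHom.comp
          (Algebra.TensorProduct.includeRight : B →ₐ[A] A' ⊗[A] B).toRingHom
        refine ⟨p.map ι, hp.map _, ?_⟩
        rw [Polynomial.eval₂_map, show (algebraMap φ.range (A' ⊗[A] C)).comp ι =
          (Algebra.TensorProduct.includeRight : C →ₐ[A] A' ⊗[A] C).toRingHom.comp (algebraMap B C) from
            RingHom.ext fun b => by simp [ι, φ]]
        refine (Polynomial.hom_eval₂ p (algebraMap B C) _ (d : C)).symm.trans ?_
        rw [show Polynomial.eval₂ (algebraMap B C) (d : C) p = 0 from hpd, map_zero]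

end Groth.Agent.S4707
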