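import Groth.Statements.S4708
import Groth.Agent.Ega11.FormalTransfer
-- import your own Groth.Agent.* helpers here

set_option autoImplicit false
universe u
open EGA4

namespace Groth.Agent.S4708

/-- Let A → B be a local homomorphism of Noetherian local rings making B a flat A-module, such that the
residue field of B is a finite extension of the residue field k of A, and such that the formal
fibres of A are geometrically regular (the completion map A → Â is regular). If the k-algebra k ⊗_A
B̂, where B̂ is the completion of B, is geometrically regular over k, then every fibre of A → B is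
geometrically regular, that is, A → B is a regular homomorphism. -/
theorem result (A B : Type u) [CommRing A] [CommRing B]
    [IsNoetherianRing A] [IsNoetherianRing B] [IsLocalRing A] [IsLocalRing B] [Algebra A B]
    [IsLocalHom (algebraMap A B)] [Module.Flat A B]
    [Module.Finite (IsLocalRing.ResidueField A) (IsLocalRing.ResidueField B)]
    (hA : CAlg.IsRegularHom A (EGA4.Cpl A))
    (h : CAlg.IsGeometricallyRegular (IsLocalRing.maximalIdeal A).ResidueField
      ((IsLocalRing.maximalIdeal A).Fiber (EGA4.Cpl B))) :
    CAlg.IsRegularHom A B := by
  obtain ⟨_, _, _, _, hT, _, _, hff, _, _, _, _, hmap, hres⟩ :=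
    Groth.Agent.Ega11.FormalTransfer.exists_completed A B
  exact Groth.Agent.CAlg5.isRegularHom_of_comp_of_faithfullyFlat A B (EGA4.Cpl B)
    (Groth.Agent.CAlg5.isRegularHom_comp A (EGA4.Cpl A) (EGA4.Cpl B) hA
      (Groth.Agent.Ega11.FormalTransfer.regular_complete A (EGA4.Cpl A) (EGA4.Cpl B) hmap hres h)
      fun p _ => (Groth.Agent.Ega11.FibreComp.isNoetherianRing_fiber p).2)

end Groth.Agent.S4708
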