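import Groth.Statements.S4709
import Groth.Agent.Ega11.NagataCrit
import Groth.Agent.EGA4H10.AnalUnram
import Groth.Agent.CAlg1.NagataTheorem
-- import your own Groth.Agent.* helpers here

set_option autoImplicit false
universe u
open EGA4

namespace Groth.Agent.S4709

/-- Let A be a Noetherian ring such that (i) for every maximal ideal m the formal fibres of A_m are
geometrically reduced, and (ii) the regular locus of every A-algebra of finite type is open (A is
J-2). Then A is universally Japanese. -/
theorem result (A : Type u) [CommRing A] [IsNoetherianRing A]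
    (h1 : ∀ (m : Ideal A) [m.IsMaximal], EGA4.HasGeomReducedFormalFibres (Localization.AtPrime m))
    (h2 : EGA4.IsJ2 A) : CAlg.IsUniversallyJapanese A := by
  refine (Groth.Agent.CAlg1.Nag.isNagata_iff.mp ⟨inferInstance, fun p _ => ?_⟩).2
  refine Groth.Agent.EGA4H10.isN2_of_localized (A ⧸ p) (fun m _ =>
    Groth.Agent.Ega11.NagataCrit.isN2_localization_quotient A p m fun M _ P _ =>
      (Groth.Agent.EGA4H10.isNagata_of_geomReduced (Localization.AtPrime M) (h1 M)).2 P) (fun B _ _ _ _ => ?_)
  let : Algebra A B := ((algebraMap (A ⧸ p) B).comp (algebraMap A (A ⧸ p))).toAlgebra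
  have : IsScalarTower A (A ⧸ p) B := .of_algebraMap_eq fun _ => rfl
  have : Module.Finite A B := Module.Finite.trans (A ⧸ p) B
  refine Groth.Agent.EGA4H10.regAway_of_open ⟨_, h2 B inferInstance, ⟨⟨⊥, Ideal.isPrime_bot⟩, ?_⟩, subset_rfl⟩
  have : (⊥ : Ideal B).IsPrime := Ideal.isPrime_bot
  show IsRegularLocalRing (Localization.AtPrime (⊥ : Ideal B))
  have hbot : (⊥ : Ideal B).primeCompl = nonZeroDivisors B := Submonoid.ext fun b =>
    ⟨fun hb => mem_nonZeroDivisors_of_ne_zero fun h => hb (h ▸ Ideal.zero_mem _),
      fun hb h => nonZeroDivisors.ne_zero hb (Ideal.mem_bot.1 h)⟩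
  have : IsLocalization (nonZeroDivisors B) (Localization.AtPrime (⊥ : Ideal B)) := hbot ▸ Localization.isLocalization
  exact IsRegularLocalRing.of_ringEquiv
    (IsLocalization.algEquiv (nonZeroDivisors B) (FractionRing B) (Localization.AtPrime (⊥ : Ideal B))).toRingEquiv

end Groth.Agent.S4709
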