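import Groth.Statements.S4717
import Groth.Agent.Ega11.PointDim

set_option autoImplicit false
universe u
open EGA4

namespace Groth.Agent.S4717

open AlgebraicGeometry CategoryTheory in
/-- Let f : X → Y be a finite morphism of locally Noetherian schemes. Then dim X equals the dimension of
the image f(X); in particular if f is surjective then dim X = dim Y. -/
theorem result {X Y : Scheme.{u}} (f : X ⟶ Y) [IsLocallyNoetherian X] [IsLocallyNoetherian Y]
    [IsFinite f] :
    topologicalKrullDim X = topologicalKrullDim (Set.range f.base) ∧
      (Function.Surjective f.base → topologicalKrullDim X = topologicalKrullDim Y) := by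
  have hc : IsClosedMap f.base := f.isClosedMap
  have hq := hc.isClosed_range.isClosedEmbedding_subtypeVal.quasiSober
  have hr : topologicalKrullDim X = topologicalKrullDim (Set.range f.base) := by
    refine le_antisymm (Ega11.PointDim.dim_le_of_fibres_discrete (f := Set.rangeFactorization f.base)
      (by fun_prop) fun a b hab e =>
        Ega11.PointDim.eq_of_specializes_of_quasiFinite f hab (congrArg Subtype.val e)) ?_
    exact Ega11.PointDim.dim_le_of_lift Set.rangeFactorization_surjective
      (Or.inl ((hc.codRestrict (fun x => Set.mem_range_self x)).specializingMap))
  refine ⟨hr, fun hs => hr.trans ?_⟩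
  exact ((Homeomorph.setCongr hs.range_eq).trans (Homeomorph.Set.univ Y)).isHomeomorph.topologicalKrullDim_eq

end Groth.Agent.S4717
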