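import Groth.Statements.S4721
import Groth.Agent.Ega11.ConnCodim
-- import your own Groth.Agent.* helpers here

set_option autoImplicit false
universe u
open EGA4

namespace Groth.Agent.S4721

/-- Let A be a Noetherian ring whose spectrum is connected and d a natural number such that for every
prime p of height at least d the local ring A_p has depth at least 2. Then for any two distinct
minimal primes p', p'' of A there is a finite chain of minimal primes starting at p' and ending at
p'' such that any two consecutive members are both contained in a prime ideal of height at most d −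
1 (the spectrum is connected in codimension at most d − 1). -/
theorem result (A : Type u) [CommRing A] [IsNoetherianRing A]
    [ConnectedSpace (PrimeSpectrum A)] (d : ℕ)
    (h : ∀ (p : Ideal A) [p.IsPrime], (d : ℕ∞) ≤ p.height →
      (2 : ℕ∞) ≤ LocCoh.depth (Localization.AtPrime p) (Localization.AtPrime p))
    (p' p'' : Ideal A) (hp' : p' ∈ minimalPrimes A) (hp'' : p'' ∈ minimalPrimes A) (hne : p' ≠ p'') :
    ∃ (n : ℕ) (c : Fin (n + 1) → Ideal A), c 0 = p' ∧ c (Fin.last n) = p'' ∧ (∀ i, c i ∈ minimalPrimes A) ∧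
      ∀ i : Fin n, ∃ (q : Ideal A) (_ : q.IsPrime),
        c i.castSucc ≤ q ∧ c i.succ ≤ q ∧ q.height + 1 ≤ (d : ℕ∞) := by
  classical
  let P : PrimeSpectrum A := ⟨p', hp'.1.1⟩
  let Q : PrimeSpectrum A := ⟨p'', hp''.1.1⟩
  have key := Groth.Agent.Ega11.ConnCodim.reflTransGen d (fun p hp => h p.asIdeal hp) P Q hp' hp''
  suffices ∀ R, Relation.ReflTransGen
      (fun a b => b.asIdeal ∈ minimalPrimes A ∧ Groth.Agent.Ega11.ConnCodim.Link d a b) P R →
      ∃ (n : ℕ) (c : Fin (n + 1) → Ideal A), c 0 = p' ∧ c (Fin.last n) = R.asIdeal ∧ (∀ i, c i ∈ minimalPrimes A) ∧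
        ∀ i : Fin n, ∃ (q : Ideal A) (_ : q.IsPrime),
          c i.castSucc ≤ q ∧ c i.succ ≤ q ∧ q.height + 1 ≤ (d : ℕ∞) from this Q key
  intro R hR
  induction hR with
  | refl => exact ⟨0, fun _ => p', rfl, rfl, fun _ => hp', fun i => i.elim0⟩
  | @tail R S _ hRS ih =>
    obtain ⟨n, c, h0, hn, hm, hc⟩ := ih
    obtain ⟨hS, r, hr₁, hr₂, hr⟩ := hRS
    refine ⟨n + 1, Fin.snoc c S.asIdeal, ?_, Fin.snoc_last _ _, ?_, ?_⟩
    · rw [← h0]; exact Fin.snoc_castSucc (α := fun _ => Ideal A) _ _ 0
    · intro i
      induction i using Fin.lastCases with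
      | last => rw [Fin.snoc_last]; exact hS
      | cast i => rw [Fin.snoc_castSucc]; exact hm i
    · intro i
      induction i using Fin.lastCases with
      | last =>
        refine ⟨r.asIdeal, r.2, ?_, ?_, hr⟩
        · rw [Fin.snoc_castSucc, hn]; exact hr₁
        · rw [Fin.succ_last, Fin.snoc_last]; exact hr₂
      | cast i =>
        obtain ⟨q, hq, hq₁, hq₂, hqh⟩ := hc i
        refine ⟨q, hq, ?_, ?_, hqh⟩
        · rw [Fin.snoc_castSucc]; exact hq₁
        · rw [Fin.succ_castSucc, Fin.snoc_castSucc]; exact hq₂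

end Groth.Agent.S4721
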