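import Groth.Statements.S4723
import Groth.Agent.Ega11.HullQuotient
import Groth.Agent.EGA4H10.TensorFields
import Groth.Agent.Ega11.UCDim
-- import your own Groth.Agent.* helpers here

set_option autoImplicit false
universe u
open EGA4

namespace Groth.Agent.S4723

/-- Let A be a Noetherian ring which is either a quotient of a regular Noetherian ring or universally
catenary and universally Japanese. Then for every prime q of A, writing B = A/q with fraction field
K, and every ideal J of B of height at least 2, the subring of K consisting of the elements lying in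
B_p for every prime p of B not containing J (the ring of sections of the structure sheaf of Spec B
over the open complement of V(J)) is a finite B-algebra (some B-subalgebra of K with exactly this
underlying set is a finitely generated B-module). -/
theorem result (A : Type u) [CommRing A] [IsNoetherianRing A]
    (hA : (∃ (R : Type u) (_ : CommRing R), IsNoetherianRing R ∧ IsRegularRing R ∧
        ∃ f : R →+* A, Function.Surjective f) ∨
      (CAlg.IsUniversallyCatenary A ∧ CAlg.IsUniversallyJapanese A))
    (q : Ideal A) [q.IsPrime] (J : Ideal (A ⧸ q)) (hJ2 : (2 : ℕ∞) ≤ J.height) :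
    ∃ B' : Subalgebra (A ⧸ q) (FractionRing (A ⧸ q)),
      (B' : Set (FractionRing (A ⧸ q))) =
          {x | ∀ (p : Ideal (A ⧸ q)) [p.IsPrime], ¬ J ≤ p →
            ∃ s : A ⧸ q, s ∉ p ∧ ∃ a : A ⧸ q,
              algebraMap (A ⧸ q) (FractionRing (A ⧸ q)) a = algebraMap (A ⧸ q) (FractionRing (A ⧸ q)) s * x} ∧
        Module.Finite (A ⧸ q) B' := by
  classical
  let B := A ⧸ q
  let K := FractionRing B
  have : Nontrivial B := Ideal.Quotient.nontrivial_iff.2 (Ideal.IsPrime.ne_top ‹_›)
  have hfin : Module.Finite B (Groth.Agent.ZClos93.Hull.hull B) := by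
    rcases hA with ⟨R, _, hN, hR, f, hf⟩ | ⟨huc, huj⟩
    · have := hR
      have := Groth.Agent.EGA4H10.isCohenMacaulayRing_of_isRegularRing R
      exact Groth.Agent.Ega11.HullQuotient.hull_finite_of_cm_quotient R B ((Ideal.Quotient.mk q).comp f)
        (Ideal.Quotient.mk_surjective.comp hf)
    · rw [← Groth.Agent.ZClos93.Hull.heightOneHullFinite_iff]
      refine Groth.Agent.ZClos93.Hull.heightOneHullFinite_of_universallyCatenary B
        (Groth.Agent.Ega11.UCDim.isUniversallyCatenary_of_surjective (Ideal.Quotient.mk q) Ideal.Quotient.mk_surjective huc)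
        (huj B inferInstance K inferInstance)
  let S : Set K := {x | ∀ (p : Ideal B) [p.IsPrime], ¬ J ≤ p →
            ∃ s : B, s ∉ p ∧ ∃ a : B, algebraMap B K a = algebraMap B K s * x}
  let B' : Subalgebra B K :=
    { carrier := S
      mul_mem' := fun {x y} hx hy p _ hp => by
        obtain ⟨s, hs, a, ha⟩ := hx p hp
        obtain ⟨t, ht, b, hb⟩ := hy p hp
        refine ⟨s * t, fun h => ((Ideal.IsPrime.mem_or_mem inferInstance h).elim hs ht), a * b, ?_⟩
        rw [map_mul, map_mul, ha, hb]
        ring
      add_mem' := fun {x y} hx hy p _ hp => by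
        obtain ⟨s, hs, a, ha⟩ := hx p hp
        obtain ⟨t, ht, b, hb⟩ := hy p hp
        refine ⟨s * t, fun h => ((Ideal.IsPrime.mem_or_mem inferInstance h).elim hs ht), a * t + s * b, ?_⟩
        rw [map_add, map_mul, map_mul, map_mul, ha, hb]
        ring
      algebraMap_mem' := fun a p hp' _ =>
        ⟨1, fun h => hp'.ne_top ((Ideal.eq_top_iff_one _).mpr h), a, by rw [map_one, one_mul]⟩ }
  refine ⟨B', rfl, ?_⟩
  have hle : Subalgebra.toSubmodule B' ≤ Subalgebra.toSubmodule (Groth.Agent.ZClos93.Hull.hull B) := by
    intro x hx p _ hp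
    exact hx p fun hJp => absurd (hJ2.trans ((Ideal.height_mono hJp).trans hp.le)) (by norm_num)
  exact Module.Finite.of_injective (Submodule.inclusion hle) (Submodule.inclusion_injective hle)

end Groth.Agent.S4723
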