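import Groth.Statements.S4727
import Mathlib.RingTheory.IntegralClosure.Algebra.Basic
import Mathlib.RingTheory.Ideal.Quotient.Operations

set_option autoImplicit false
universe u
open EGA4

namespace Groth.Agent.S4727

/-- Let A be a commutative ring, B an A-algebra and N an ideal of B all of whose elements are nilpotent.
Then the integral closure of A in B is the inverse image, under the canonical map B → B/N, of the
integral closure of A in B/N: an element of B whose image in B/N is integral over A is itself
integral over A. -/
theorem result (A B : Type u) [CommRing A] [CommRing B] [Algebra A B]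
    (N : Ideal B) (hN : ∀ x ∈ N, IsNilpotent x) :
    (integralClosure A B).toSubring =
      (integralClosure A (B ⧸ N)).toSubring.comap (Ideal.Quotient.mk N) := by
  ext x
  refine ⟨fun h => IsIntegral.map (Ideal.Quotient.mkₐ A N) h, fun h => ?_⟩
  obtain ⟨p, hp, hp0⟩ := h
  have : Polynomial.aeval x p ∈ N := by
    rw [← Ideal.Quotient.eq_zero_iff_mem, ← Ideal.Quotient.mkₐ_eq_mk A, ← Polynomial.aeval_algHom_apply]
    exact hp0
  obtain ⟨n, hn⟩ := hN _ this
  exact ⟨p ^ n, hp.pow n, by rw [← Polynomial.aeval_def, map_pow, hn]⟩

end Groth.Agent.S4727
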