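import Groth.Statements.S4728
import Groth.Agent.EGA4H10.NormalFlat
-- import your own Groth.Agent.* helpers here

set_option autoImplicit false
universe u
open EGA4

namespace Groth.Agent.S4728

/-- Let A be a Noetherian local domain of dimension 1 with maximal ideal m, A' a Noetherian local ring
and A → A' a local homomorphism which is normal (flat, with geometrically normal fibres). Then the
ideal m A' of A' is prime and the local ring of A' at m A' has dimension 1. (The remaining clauses
of the published item, describing A' inside its total ring of fractions, are not restated.) -/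
theorem result (A A' : Type u) [CommRing A] [CommRing A']
    [IsNoetherianRing A] [IsNoetherianRing A'] [IsLocalRing A] [IsLocalRing A'] [IsDomain A]
    (hA : ringKrullDim A = 1) [Algebra A A'] [IsLocalHom (algebraMap A A')] (h : EGA4.IsNormalHom A A') :
    ((IsLocalRing.maximalIdeal A).map (algebraMap A A')).IsPrime ∧
      ((IsLocalRing.maximalIdeal A).map (algebraMap A A')).height = 1 := by
  classical
  obtain ⟨hflat, hgeo⟩ := h
  let m := IsLocalRing.maximalIdeal A
  let q := IsLocalRing.maximalIdeal A'
  let L := Localization.AtPrime q
  have hq : q.comap (algebraMap A A') = m := IsLocalRing.eq_maximalIdeal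
    (Ideal.comap_isPrime (algebraMap A A') q |> fun _ => by
      rw [IsLocalRing.maximalIdeal_comap]; infer_instance)
  obtain ⟨hdom, -⟩ := Groth.Agent.EGA4H10.fibLocRing_normal hgeo q
  let e := IsLocalization.atUnits A' q.primeCompl (S := L) (fun x hx => by
    have h2 : x ∉ q := hx
    rw [IsLocalRing.mem_maximalIdeal, mem_nonunits_iff, not_not] at h2
    exact h2)
  have hprime : (m.map (algebraMap A A')).IsPrime := by
    have hP : ((q.comap (algebraMap A A')).map (algebraMap A L)).IsPrime :=
      Ideal.Quotient.isDomain_iff_prime _ |>.mp hdom
    have he : (q.comap (algebraMap A A')).map (algebraMap A L) =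
        (m.map (algebraMap A A')).map (e.toRingEquiv : A' →+* L) := by
      rw [hq, Ideal.map_map]
      exact congrArg (fun φ : A →+* L => m.map φ) (RingHom.ext fun a => (e.commutes (algebraMap A A' a)).symm)
    rw [he] at hP
    rw [← Ideal.comap_map_of_bijective (e.toRingEquiv : A' →+* L) e.bijective (I := m.map (algebraMap A A'))]
    exact Ideal.comap_isPrime (e.toRingEquiv : A' →+* L) _
  refine ⟨hprime, ?_⟩
  let P := m.map (algebraMap A A')
  have : P.IsPrime := hprime
  have : P.LiesOver m := ⟨((IsLocalRing.maximalIdeal.isMaximal A).eq_of_le
    (Ideal.comap_ne_top _ hprime.ne_top) Ideal.le_comap_map)⟩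
  rw [show (IsLocalRing.maximalIdeal A).map (algebraMap A A') = P from rfl,
    Ideal.height_eq_height_add_of_liesOver_of_hasGoingDown m,
    show P.map (Ideal.Quotient.mk (m.map (algebraMap A A'))) = ⊥ from Ideal.map_quotient_self _]
  have : IsDomain (A' ⧸ m.map (algebraMap A A')) := Ideal.Quotient.isDomain _
  rw [Ideal.height_bot, add_zero]
  have := IsLocalRing.maximalIdeal_height_eq_ringKrullDim (R := A)
  rw [hA] at this
  exact WithBot.coe_inj.mp this

end Groth.Agent.S4728
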