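import Groth.Statements.S4731
import Mathlib.RingTheory.Noetherian.Basic
import Mathlib.Algebra.Module.Torsion.Basic
import Mathlib.RingTheory.Finiteness.Basic
import Mathlib.LinearAlgebra.Quotient.Basic

set_option autoImplicit false
universe u
open EGA4

namespace Groth.Agent.S4731
set_option linter.style.haveILetI false

theorem isNoetherian_restrict {R : Type u} [CommRing R] (a : Ideal R) [IsNoetherianRing (R ⧸ a)]
    (M : Type u) [AddCommGroup M] [Module R M] [Module (R ⧸ a) M] [IsScalarTower R (R ⧸ a) M]
    [Module.Finite (R ⧸ a) M] : IsNoetherian R M := by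
  refine ⟨fun N => ?_⟩
  let J : Submodule (R ⧸ a) M :=
    { carrier := (N : Set M)
      add_mem' := N.add_mem
      zero_mem' := N.zero_mem
      smul_mem' := fun c x hx => by
        obtain ⟨r, rfl⟩ := Ideal.Quotient.mk_surjective c
        rw [← Ideal.Quotient.algebraMap_eq, algebraMap_smul]
        exact N.smul_mem r hx }
  have : J.restrictScalars R = N := rfl
  rw [← this]
  exact Submodule.FG.restrictScalars (IsNoetherian.noetherian J)

/-- Let S → R be an injective homomorphism of commutative rings making R a finite S-module, with R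
Noetherian; let c be the conductor of S in R, the ideal of those s in S with s R contained in (the
image of) S. If S/c is Noetherian, then every increasing sequence of ideals of S contained in c is
eventually constant. -/
theorem result (S R : Type u) [CommRing S] [CommRing R] [Algebra S R]
    [FaithfulSMul S R] [IsNoetherianRing R] [Module.Finite S R] (c : Ideal S)
    (hc : ∀ s : S, s ∈ c ↔ ∀ r : R, ∃ s' : S, algebraMap S R s' = algebraMap S R s * r)
    [IsNoetherianRing (S ⧸ c)] (a : ℕ →o Ideal S) (ha : ∀ n, a n ≤ c) :
    ∃ N : ℕ, ∀ n, N ≤ n → a n = a N := by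
  have hinj := FaithfulSMul.algebraMap_injective S R
  -- `A n` is the image of `a n`; `T n` is the `R`-ideal it generates
  let A : ℕ → Submodule S R := fun n => Submodule.map (Algebra.linearMap S R) (a n)
  let T : ℕ →o Submodule R R :=
    ⟨fun n => Submodule.span R (A n : Set R), fun i j h => Submodule.span_mono (Submodule.map_mono (a.mono h))⟩
  obtain ⟨N, hN⟩ := monotone_stabilizes_iff_noetherian.mpr ‹IsNoetherianRing R› T
  let T₀ : Submodule S R := (T N).restrictScalars S
  have hAT : ∀ n, N ≤ n → A n ≤ T₀ := fun n hn x hx => by
    change x ∈ T N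
    rw [hN n hn]; exact Submodule.subset_span hx
  have hcT : ∀ n, c • T₀ ≤ A n ⊔ A N := by
    intro n
    refine le_trans (Submodule.smul_le.mpr fun x hx y hy => ?_) le_sup_right
    induction hy using Submodule.span_induction generalizing x with
    | mem y hy => exact Submodule.smul_mem _ _ hy
    | zero => rw [smul_zero]; exact zero_mem _
    | add y z _ _ h1 h2 => rw [smul_add]; exact add_mem (h1 x hx) (h2 x hx)
    | smul r y _ h1 =>
      obtain ⟨s', hs'⟩ := (hc x).mp hx r
      have hs : s' ∈ c := (hc s').mpr fun r' => by
        obtain ⟨t, ht⟩ := (hc x).mp hx (r * r')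
        exact ⟨t, by rw [ht, hs']; ring⟩
      have := h1 s' hs
      rwa [Algebra.smul_def, hs', mul_assoc, ← smul_eq_mul r, ← Algebra.smul_def] at this
  have : Module.Finite S T₀ := by
    have : Module.Finite R (T N) := Module.Finite.iff_fg.mpr (IsNoetherian.noetherian (T N))
    have h := Module.Finite.trans (R := S) R (T N)
    exact h
  let P : Submodule S T₀ := c • ⊤
  have hPtor : Module.IsTorsionBySet S (T₀ ⧸ P) c := by
    intro q s
    induction q using Submodule.Quotient.induction_on with
    | H y =>
      exact (Submodule.Quotient.mk_eq_zero _).mpr (Submodule.smul_mem_smul s.2 Submodule.mem_top)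
  letI := hPtor.module
  haveI : IsScalarTower S (S ⧸ c) (T₀ ⧸ P) := hPtor.isScalarTower
  haveI : Module.Finite (S ⧸ c) (T₀ ⧸ P) := Module.Finite.of_restrictScalars_finite S _ _
  haveI : IsNoetherian S (T₀ ⧸ P) := isNoetherian_restrict c _
  obtain ⟨M, hM⟩ := monotone_stabilizes_iff_noetherian.mpr this
    ⟨fun n => ((A n).comap T₀.subtype).map P.mkQ,
      fun i j h => Submodule.map_mono (Submodule.comap_mono (Submodule.map_mono (a.mono h)))⟩
  refine ⟨max N M, fun n hn => ?_⟩
  refine Submodule.map_injective_of_injective (f := Algebra.linearMap S R) hinj ?_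
  change A n = A (max N M)
  have hP : ∀ k, N ≤ k → P ≤ (A k).comap T₀.subtype := by
    intro k hk
    rw [← Submodule.map_le_iff_le_comap, Submodule.map_smul'', Submodule.map_top, Submodule.range_subtype]
    exact (hcT k).trans (sup_le le_rfl (Submodule.map_mono (a.mono hk)))
  have hk : ∀ k, max N M ≤ k →
      (A k).comap T₀.subtype = Submodule.comap P.mkQ (((A M).comap T₀.subtype).map P.mkQ) := by
    intro k hk
    have : ((A M).comap T₀.subtype).map P.mkQ = ((A k).comap T₀.subtype).map P.mkQ :=
      hM k ((le_max_right _ _).trans hk)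
    rw [this, Submodule.comap_map_mkQ, eq_comm, sup_eq_right]
    exact hP k ((le_max_left _ _).trans hk)
  rw [← Submodule.map_comap_eq_self (f := T₀.subtype) (q := A n)
        (by simpa using hAT n ((le_max_left _ _).trans hn)),
    ← Submodule.map_comap_eq_self (f := T₀.subtype) (q := A (max N M))
        (by simpa using hAT _ (le_max_left _ _)), hk n hn, hk _ le_rfl]

end Groth.Agent.S4731
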