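import Groth.Statements.S4732
import Mathlib.RingTheory.RegularLocalRing.Polynomial
import Mathlib.AlgebraicGeometry.Morphisms.FiniteType
import Mathlib.AlgebraicGeometry.Morphisms.Immersion
import Groth.Agent.E4O.ChartDim
-- import your own Groth.Agent.* helpers here

set_option autoImplicit false
universe u
open EGA4

namespace Groth.Agent.S4732

open AlgebraicGeometry CategoryTheory in
/-- Let k be a field, X a scheme locally of finite type over k and x a point of X. Then there are an
open neighbourhood U of x, a k-scheme Y all of whose local rings are regular, and an immersion U → Y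
compatible with the structure morphisms to Spec k. -/
theorem result (k : Type u) [Field k] {X : Scheme.{u}}
    (f : X ⟶ Spec (CommRingCat.of k)) [LocallyOfFiniteType f] (x : X) :
    ∃ (U : X.Opens) (_ : x ∈ U) (Y : Scheme.{u}) (g : Y ⟶ Spec (CommRingCat.of k)) (i : (U : Scheme.{u}) ⟶ Y),
      IsImmersion i ∧ i ≫ g = U.ι ≫ f ∧ ∀ y : Y, IsRegularLocalRing (Y.presheaf.stalk y) := by
  classical
  obtain ⟨_, ⟨U, hU, rfl⟩, hxU, -⟩ :=
    X.isBasis_affineOpens.exists_subset_of_mem_open (Set.mem_univ x) isOpen_univ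
  have hU : IsAffineOpen U := hU
  have : IsOpenImmersion hU.fromSpec := IsAffineOpen.isOpenImmersion_fromSpec hU
  let φ : CommRingCat.of k ⟶ Γ(X, U) := Spec.preimage (hU.fromSpec ≫ f)
  have hφ : Spec.map φ = hU.fromSpec ≫ f := Spec.map_preimage _
  have hlft : LocallyOfFiniteType (Spec.map φ) := hφ ▸ inferInstance
  have hfin : φ.hom.FiniteType := (HasRingHomProperty.Spec_iff (P := @LocallyOfFiniteType)).mp hlft
  letI : Algebra k Γ(X, U) := φ.hom.toAlgebra
  have : Algebra.FiniteType k Γ(X, U) := hfin
  obtain ⟨n, π, hπ⟩ := Algebra.FiniteType.iff_quotient_mvPolynomial''.mp this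
  let P := MvPolynomial (Fin n) k
  let ι : CommRingCat.of k ⟶ CommRingCat.of P := CommRingCat.ofHom (algebraMap k P)
  let q : CommRingCat.of P ⟶ Γ(X, U) := CommRingCat.ofHom π.toRingHom
  have : IsClosedImmersion (Spec.map q) := IsClosedImmersion.spec_of_surjective q hπ
  refine ⟨U, hxU, Spec (CommRingCat.of P), Spec.map ι, hU.isoSpec.hom ≫ Spec.map q, inferInstance, ?_, fun y => ?_⟩
  · rw [Category.assoc, ← Spec.map_comp, show ι ≫ q = φ from CommRingCat.hom_ext π.comp_algebraMap, hφ,
      IsAffineOpen.isoSpec_hom, IsAffineOpen.toSpecΓ_fromSpec_assoc]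
  · have : IsRegularRing P := inferInstance
    let y' : PrimeSpectrum P := y
    have : IsRegularLocalRing (Localization.AtPrime y'.asIdeal) := inferInstance
    obtain ⟨a, ha⟩ := Groth.Agent.E4O.exists_isLocalization_stalk (𝟙 (Spec (CommRingCat.of P))) y'
    exact IsRegularLocalRing.of_ringEquiv
      (IsLocalization.algEquiv y'.asIdeal.primeCompl (Localization.AtPrime y'.asIdeal)
        ((Spec (CommRingCat.of P)).presheaf.stalk ((𝟙 (Spec (CommRingCat.of P)) : _ ⟶ _) y'))).toRingEquiv

end Groth.Agent.S4732
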