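import Groth.Statements.S4733
import Groth.Agent.CAlg5.GeomRegularFG
import Groth.Agent.CAlg5.RegularHom
import Groth.Agent.CAlg5.FlatDescent
import Groth.Agent.CAlg4.RegularField
-- import your own Groth.Agent.* helpers here

set_option autoImplicit false
universe u
open EGA4

namespace Groth.Agent.S4733

open TensorProduct in
/-- For the property 'regular' (affine form): let k be a field, S a Noetherian k-algebra and k' an
extension field of k such that S is of finite type over k or k' is essentially of finite type over
k; let q' be a prime of S ⊗_k k' and q its contraction to S. If (S ⊗_k k')_{q'} is a regular local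
ring then so is S_q; conversely, if k' is separable over k (geometrically reduced) and S_q is
regular, then (S ⊗_k k')_{q'} is regular. -/
theorem result (k S k' : Type u) [Field k] [CommRing S] [Algebra k S]
    [IsNoetherianRing S] [Field k'] [Algebra k k'] (hft : Algebra.FiniteType k S ∨ Algebra.EssFiniteType k k')
    [IsNoetherianRing (S ⊗[k] k')] (q' : Ideal (S ⊗[k] k')) [q'.IsPrime] :
    (IsRegularLocalRing (Localization.AtPrime q') →
        IsRegularLocalRing (Localization.AtPrime (q'.comap (algebraMap S (S ⊗[k] k'))))) ∧
      (Algebra.IsGeometricallyReduced k k' →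
        IsRegularLocalRing (Localization.AtPrime (q'.comap (algebraMap S (S ⊗[k] k')))) →
          IsRegularLocalRing (Localization.AtPrime q')) := by
  let T := S ⊗[k] k'
  let q := q'.comap (algebraMap S T)
  have : q'.LiesOver q := ⟨rfl⟩
  refine ⟨fun h => CAlg5.regular_localization_of_faithfullyFlat S T q q' h, fun hk hq => ?_⟩
  have hfib : IsRegularRing (q.ResidueField ⊗[k] k') := by
    rcases hft with hS | hK
    · have : Algebra.EssFiniteType k q.ResidueField := Algebra.EssFiniteType.comp k S q.ResidueField
      refine CAlg5.isRegularRing_tensor_of_essFiniteType k q.ResidueField k' fun l _ _ hl => ?_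
      have : IsArtinianRing (k' ⊗[k] l) := IsArtinianRing.of_finite k' _
      have : IsReduced (l ⊗[k] k') := inferInstance
      have : IsReduced (k' ⊗[k] l) :=
        isReduced_of_injective (Algebra.TensorProduct.comm k k' l) (Algebra.TensorProduct.comm k k' l).injective
      have := CAlg4.RegularField.regular_of_artinian_reduced (k' ⊗[k] l)
      exact IsRegularRing.of_ringEquiv (R := k' ⊗[k] l) (Algebra.TensorProduct.comm k k' l).toRingEquiv
    · classical
      let K := q.ResidueField
      obtain ⟨E, hE⟩ := IntermediateField.fg_top (F := k) (E := k')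
      obtain ⟨A, hEA, hsm⟩ := CAlg5.exists_subalgebra_smooth k k' E
      have : IsFractionRing A k' := by
        refine IsFractionRing.of_field _ _ fun z => ?_
        have hz : z ∈ IntermediateField.adjoin k (E : Set k') := by rw [hE]; trivial
        obtain ⟨r, hr, s, hs, rfl⟩ := IntermediateField.mem_adjoin_iff_div.mp hz
        exact ⟨⟨r, Algebra.adjoin_le hEA hr⟩, ⟨s, Algebra.adjoin_le hEA hs⟩, rfl⟩
      have : IsRegularRing (K ⊗[k] A) := CAlg5.isRegularRing_of_smooth K (K ⊗[k] A)
      let g : K ⊗[k] A →ₐ[K] K ⊗[k] k' := Algebra.TensorProduct.map (AlgHom.id K K) A.val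
      let : Algebra (K ⊗[k] A) (K ⊗[k] k') := g.toRingHom.toAlgebra
      have : IsScalarTower K (K ⊗[k] A) (K ⊗[k] k') := IsScalarTower.of_algebraMap_eq fun a => (g.commutes a).symm
      have := IsLocalization.tensorProduct_tensorProduct_right k K (nonZeroDivisors A) k' (by
        ext b
        show g ((1 : K) ⊗ₜ b) = (1 : K) ⊗ₜ algebraMap A k' b
        exact Algebra.TensorProduct.map_tmul _ _ _ _)
      exact CAlg5.isRegularRing_of_isLocalization
        ((nonZeroDivisors A).map (Algebra.TensorProduct.includeRight (R := k) (A := K) (B := A))) (K ⊗[k] k')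
  let e0 : q.Fiber T ≃+* q.ResidueField ⊗[k] k' :=
    (Algebra.TensorProduct.cancelBaseChange k S q.ResidueField q.ResidueField k').toRingEquiv
  have : IsRegularRing (q.Fiber T) := IsRegularRing.of_ringEquiv (R := q.ResidueField ⊗[k] k') e0.symm
  obtain ⟨Q, _, hQ⟩ := CAlg1.exists_fibre_prime (R := S) q'
  let r : Ideal T := Q.comap (Algebra.TensorProduct.includeRight : T →ₐ[S] q.Fiber T)
  have hr : r.LiesOver q := ⟨by
    show q = r.comap (algebraMap S T)
    rw [show r = q' from hQ]⟩
  let := Localization.AtPrime.algebraOfLiesOver q r
  let A := Localization.AtPrime q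
  let B := Localization.AtPrime r
  have : IsNoetherianRing B := IsLocalization.isNoetherianRing r.primeCompl _ inferInstance
  have : IsLocalHom (algebraMap A B) := Localization.isLocalHom_localRingHom q r _ _
  have : Module.Flat A B := inferInstance
  have : IsRegularLocalRing (Localization.AtPrime Q) := IsRegularRing.isRegularLocalRing_localization (R := q.Fiber T) Q
  let e : Localization.AtPrime Q ≃ₐ[A] B ⧸ q.map (algebraMap S B) :=
    Ideal.Fiber.localizationAlgEquivQuotient q Q
  have hm : (IsLocalRing.maximalIdeal A).map (algebraMap A B) = q.map (algebraMap S B) := by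
    rw [← Localization.AtPrime.map_eq_maximalIdeal, Ideal.map_map, ← IsScalarTower.algebraMap_eq]
  have := CAlg5.regular_of_flat_local A B
    (IsRegularLocalRing.of_ringEquiv (R := Localization.AtPrime Q) (e.toRingEquiv.trans (Ideal.quotEquivOfEq hm.symm)))
  exact CAlg5.regular_congr hQ this

end Groth.Agent.S4733
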