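import Groth.Statements.S4734
import Groth.Agent.Ega11.DepthSpread
import Groth.Agent.S2612
-- import your own Groth.Agent.* helpers here

set_option autoImplicit false
universe u
open EGA4

namespace Groth.Agent.S4734

/-- Let A be a Noetherian ring, I a nilpotent ideal of A and M a finite A-module whose support is all of
Spec A and which is normally flat along I. Then for every prime p of A: M satisfies Serre's
condition (S_n) at p if and only if the A-module A/I does; and the codepth of M_p is at most n if
and only if the codepth of the A_p-module (A/I)_p is at most n (codepth written additively as dim ≤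
depth + n). -/
theorem result (n : ℕ) (A : Type u) [CommRing A] [IsNoetherianRing A]
    (I : Ideal A) (hI : IsNilpotent I) (M : Type u) [AddCommGroup M] [Module A M] [Module.Finite A M]
    (hsupp : Module.support A M = Set.univ) (hM : EGA4.IsNormallyFlat I M) (p : Ideal A) [p.IsPrime] :
    (EGA4.HasSkAt n A M p ↔ EGA4.HasSkAt n A (A ⧸ I) p) ∧
      (Module.supportDim (Localization.AtPrime p) (LocalizedModule p.primeCompl M) ≤
          ((LocCoh.depth (Localization.AtPrime p) (LocalizedModule p.primeCompl M) : ℕ∞) : WithBot ℕ∞) + n ↔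
        Module.supportDim (Localization.AtPrime p) (LocalizedModule p.primeCompl (A ⧸ I)) ≤
          ((LocCoh.depth (Localization.AtPrime p) (LocalizedModule p.primeCompl (A ⧸ I)) : ℕ∞) : WithBot ℕ∞) + n) := by
  classical
  have key : ∀ q : PrimeSpectrum A,
      Groth.Agent.Ega11.DepthSpread.dm M q = Groth.Agent.Ega11.DepthSpread.dm (A ⧸ I) q ∧
      Groth.Agent.Ega11.DepthSpread.dp M q = Groth.Agent.Ega11.DepthSpread.dp (A ⧸ I) q := by
    intro q
    let S := q.asIdeal.primeCompl
    let L := Localization.AtPrime q.asIdeal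
    have : IsNoetherianRing L := IsLocalization.isNoetherianRing S L inferInstance
    have := Groth.Agent.Ega11.DepthSpread.finite_loc M q
    have : Nontrivial (LocalizedModule S M) := (hsupp ▸ Set.mem_univ q : q ∈ Module.support A M)
    have hnf : EGA4.IsNormallyFlat (I.map (algebraMap A L)) (LocalizedModule S M) := by
      refine Groth.Agent.EGA4H10.isNormallyFlat_of_localization S I L
        (LocalizedModule.mkLinearMap S M) fun T _ _ _ n => ?_
      have : Module.Flat (A ⧸ I) (Groth.Agent.EGA4H10.Piece I M n) := hM n
      infer_instance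
    obtain ⟨k, hk⟩ := hI
    have hk' : IsNilpotent (I.map (algebraMap A L)) := ⟨k, by rw [← Ideal.map_pow, hk, Submodule.zero_eq_bot, Ideal.map_bot]; rfl⟩
    obtain ⟨h1, h2⟩ := Groth.Agent.S2612.result L (I.map (algebraMap A L)) hk' (LocalizedModule S M) hnf
    have hloc : Submodule.localized' L S (Algebra.linearMap A L) (I : Submodule A A) =
        I.map (algebraMap A L) := by
      rw [Submodule.localized'_eq_span]
      rfl
    let e : (L ⧸ I.map (algebraMap A L)) ≃ₗ[L] LocalizedModule S (A ⧸ I) :=
      (Submodule.quotEquivOfEq _ _ hloc.symm).trans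
        ((IsLocalizedModule.linearEquiv S
          (Submodule.toLocalizedQuotient' L S (Algebra.linearMap A L) I)
          (LocalizedModule.mkLinearMap S (A ⧸ I))).extendScalarsOfIsLocalization S L)
    simp only [Groth.Agent.Ega11.DepthSpread.dm, Groth.Agent.Ega11.DepthSpread.dp]
    rw [← Groth.Agent.EGA4Alg4.depth_eq_of_equiv e, ← Module.supportDim_eq_of_equiv e,
      Module.supportDim_quotient_eq_ringKrullDim]
    exact ⟨h1, h2⟩
  obtain ⟨d1, d2⟩ := key ⟨p, inferInstance⟩
  simp only [Groth.Agent.Ega11.DepthSpread.dm, Groth.Agent.Ega11.DepthSpread.dp] at d1 d2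
  refine ⟨?_, by rw [d1, d2]⟩
  rw [Groth.Agent.Ega11.SkAt.hasSkAt_iff, Groth.Agent.Ega11.SkAt.hasSkAt_iff]
  refine forall₂_congr fun q _ => ?_
  obtain ⟨e1, e2⟩ := key q
  simp only [Groth.Agent.Ega11.DepthSpread.dm, Groth.Agent.Ega11.DepthSpread.dp] at e1 e2
  simp only [Groth.Agent.Ega11.SkAt.Good, e1, e2]

end Groth.Agent.S4734
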