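import Groth.Statements.S4743
import Groth.Agent.Ega11.FiniteDomainFibre
import Groth.Agent.Ega11.GeomComp
import Groth.Agent.Hens22.CompletionUnrAdic
-- import your own Groth.Agent.* helpers here

set_option autoImplicit false
universe u
open EGA4

namespace Groth.Agent.S4743

open TensorProduct in
/-- For the property 'geometrically reduced', case of a local ring: let A be a Noetherian local ring
with completion Â. Then the formal fibres of A are geometrically reduced if and only if, for every
finite A-algebra B which is a domain and every prime ideal q of B ⊗_A Â whose contraction to B is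
zero, the local ring of B ⊗_A Â at q is reduced. (The published statement is for semi-local rings;
this row takes A local.) -/
theorem result (A : Type u) [CommRing A] [IsNoetherianRing A]
    [IsLocalRing A] :
    EGA4.HasGeomReducedFormalFibres A ↔
      ∀ (B : Type u) [CommRing B] [IsDomain B] [Algebra A B] [Module.Finite A B]
        (q : Ideal (B ⊗[A] EGA4.Cpl A)) [q.IsPrime],
        q.comap (algebraMap B (B ⊗[A] EGA4.Cpl A)) = ⊥ → IsReduced (Localization.AtPrime q) := by
  constructor
  · intro h B _ _ _ _ q _ hq
    let p : Ideal A := (⊥ : Ideal B).under A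
    have : (⊥ : Ideal B).LiesOver p := ⟨rfl⟩
    let := Localization.AtPrime.algebraOfLiesOver p (⊥ : Ideal B)
    have := h p
    have : Module.Finite p.ResidueField (⊥ : Ideal B).ResidueField := inferInstance
    have : IsReduced ((⊥ : Ideal B).ResidueField ⊗[p.ResidueField] p.Fiber (EGA4.Cpl A)) :=
      have : Algebra.IsGeometricallyReduced p.ResidueField (p.Fiber (EGA4.Cpl A)) := h p
      inferInstance
    obtain ⟨e0⟩ := Ega11.FiniteDomainFibre.exists_equiv (EGA4.Cpl A) p (⊥ : Ideal B).ResidueField B
    have : IsReduced ((⊥ : Ideal B).Fiber (B ⊗[A] EGA4.Cpl A)) :=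
      isReduced_of_injective (R := (⊥ : Ideal B).Fiber (B ⊗[A] EGA4.Cpl A)) (S := (⊥ : Ideal B).ResidueField ⊗[p.ResidueField] p.Fiber (EGA4.Cpl A)) e0.symm e0.symm.injective
    exact Ega11.FiniteDomainFibre.isReduced_generic_iff.mp this q hq
  · intro h p _
    refine Ega11.GeomComp.isGeometricallyReduced_of_finite fun K _ _ hK => ?_
    have := hK
    let : Algebra A K := ((algebraMap p.ResidueField K).comp (algebraMap A p.ResidueField)).toAlgebra
    have : IsScalarTower A p.ResidueField K := IsScalarTower.of_algebraMap_eq fun _ => rfl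
    obtain ⟨B, hB, hfr⟩ := Ega11.FiniteDomainFibre.exists_finite_domain p K
    obtain ⟨e⟩ := Ega11.FiniteDomainFibre.exists_equiv (EGA4.Cpl A) p K B
    have := (Ega11.FiniteDomainFibre.isReduced_generic_iff (S := B ⊗[A] EGA4.Cpl A)).mpr (h B)
    exact isReduced_of_injective (R := K ⊗[p.ResidueField] p.Fiber (EGA4.Cpl A)) (S := (⊥ : Ideal B).Fiber (B ⊗[A] EGA4.Cpl A)) e e.injective

end Groth.Agent.S4743
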