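import Groth.Statements.S4745
import Groth.Agent.Ega11.FormalTransfer
-- import your own Groth.Agent.* helpers here

set_option autoImplicit false
universe u
open EGA4

namespace Groth.Agent.S4745

/-- The case of the property 'normal': let A → B be a local homomorphism of Noetherian local rings
making B a flat A-module, such that the residue field of B is a finite extension of the residue
field k of A, and such that the formal fibres of A are geometrically normal. If the k-algebra k ⊗_A
B̂, where B̂ is the completion of B, is geometrically normal over k, then every fibre of A → B is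
geometrically normal, that is, A → B is a normal homomorphism. -/
theorem result (A B : Type u) [CommRing A] [CommRing B]
    [IsNoetherianRing A] [IsNoetherianRing B] [IsLocalRing A] [IsLocalRing B] [Algebra A B]
    [IsLocalHom (algebraMap A B)] [Module.Flat A B]
    [Module.Finite (IsLocalRing.ResidueField A) (IsLocalRing.ResidueField B)]
    (hA : EGA4.HasGeomNormalFormalFibres A)
    (h : EGA4.IsGeomNormal (IsLocalRing.maximalIdeal A).ResidueField
      ((IsLocalRing.maximalIdeal A).Fiber (EGA4.Cpl B))) :
    EGA4.IsNormalHom A B := by
  obtain ⟨_, _, _, _, hT, _, _, hff, _, _, _, _, hmap, hres⟩ :=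
    Groth.Agent.Ega11.FormalTransfer.exists_completed A B
  obtain ⟨hflat, hfib⟩ :=
    Groth.Agent.Ega11.FormalTransfer.normal_complete A (EGA4.Cpl A) (EGA4.Cpl B) hmap hres h
  refine ⟨inferInstance, fun p _ l _ _ hl => ?_⟩
  let : Algebra A l := ((algebraMap p.ResidueField l).comp (algebraMap A p.ResidueField)).toAlgebra
  have : IsScalarTower A p.ResidueField l := IsScalarTower.of_algebraMap_eq fun _ => rfl
  exact Groth.Agent.Ega11.FormalTransfer.normal_of_comp (B := B) (C := EGA4.Cpl B) p l
    (Groth.Agent.Ega11.GeomComp.normal_comp (B := EGA4.Cpl A) (C := EGA4.Cpl B) p l (hA p l hl) hfib)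

end Groth.Agent.S4745
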