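import Groth.Statements.S4746
import Groth.Agent.Ega11.FormalTransfer
-- import your own Groth.Agent.* helpers here

set_option autoImplicit false
universe u
open EGA4

namespace Groth.Agent.S4746

/-- For the property 'reduced': let A → B be a local homomorphism of Noetherian local rings making B a
flat A-module, such that the residue field of B is a finite extension of the residue field k of A,
and such that the formal fibres of A are geometrically reduced. If the k-algebra k ⊗_A B̂, where B̂
is the completion of B, is geometrically reduced over k, then every fibre k(p) ⊗_A B of A → B is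
geometrically reduced over k(p). -/
theorem result (A B : Type u) [CommRing A] [CommRing B]
    [IsNoetherianRing A] [IsNoetherianRing B] [IsLocalRing A] [IsLocalRing B] [Algebra A B]
    [IsLocalHom (algebraMap A B)] [Module.Flat A B]
    [Module.Finite (IsLocalRing.ResidueField A) (IsLocalRing.ResidueField B)]
    (hA : EGA4.HasGeomReducedFormalFibres A)
    (h : Algebra.IsGeometricallyReduced (IsLocalRing.maximalIdeal A).ResidueField
      ((IsLocalRing.maximalIdeal A).Fiber (EGA4.Cpl B))) :
    ∀ (p : Ideal A) [p.IsPrime], Algebra.IsGeometricallyReduced p.ResidueField (p.Fiber B) := by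
  intro p _
  obtain ⟨_, _, _, _, hT, _, _, hff, _, _, _, _, hmap, hres⟩ :=
    Groth.Agent.Ega11.FormalTransfer.exists_completed A B
  refine Groth.Agent.Ega11.GeomComp.isGeometricallyReduced_of_finite fun l _ _ hl => ?_
  let : Algebra A l := ((algebraMap p.ResidueField l).comp (algebraMap A p.ResidueField)).toAlgebra
  have : IsScalarTower A p.ResidueField l := IsScalarTower.of_algebraMap_eq fun _ => rfl
  have := hA p
  have : Algebra.IsAlgebraic p.ResidueField l := Algebra.IsAlgebraic.of_finite _ _
  exact Groth.Agent.Ega11.GeomComp.reduced_of_comp (B := B) (C := EGA4.Cpl B) p l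
    (Groth.Agent.Ega11.GeomComp.reduced_comp (B := EGA4.Cpl A) (C := EGA4.Cpl B) p l inferInstance
      fun q _ => Groth.Agent.Ega11.FormalTransfer.reduced_complete A (EGA4.Cpl A) (EGA4.Cpl B) hmap hres h q)

end Groth.Agent.S4746
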