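import Groth.Statements.S4747
import Groth.Agent.Ega11.FormalTransfer
-- import your own Groth.Agent.* helpers here

set_option autoImplicit false
universe u
open EGA4

namespace Groth.Agent.S4747

open TensorProduct in
/-- For the property 'Cohen–Macaulay': let A → B be a local homomorphism of Noetherian local rings
making B a flat A-module, such that the residue field of B is a finite extension of the residue
field k of A, and such that the formal fibres of A are Cohen–Macaulay. If for every finite extension
k' of k the ring k' ⊗_k (k ⊗_A B̂) is Cohen–Macaulay (B̂ the completion of B), then for every prime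
p of A and every finite extension K of k(p) the ring K ⊗_{k(p)} (k(p) ⊗_A B) is Cohen–Macaulay; in
particular all fibres of A → B are Cohen–Macaulay. -/
theorem result (A B : Type u) [CommRing A] [CommRing B]
    [IsNoetherianRing A] [IsNoetherianRing B] [IsLocalRing A] [IsLocalRing B] [Algebra A B]
    [IsLocalHom (algebraMap A B)] [Module.Flat A B]
    [Module.Finite (IsLocalRing.ResidueField A) (IsLocalRing.ResidueField B)]
    (hA : EGA4.HasCMFormalFibres A)
    (h : ∀ (k' : Type u) [Field k'] [Algebra (IsLocalRing.maximalIdeal A).ResidueField k'],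
      Module.Finite (IsLocalRing.maximalIdeal A).ResidueField k' →
        LocCoh.IsCohenMacaulayRing (k' ⊗[(IsLocalRing.maximalIdeal A).ResidueField]
          ((IsLocalRing.maximalIdeal A).Fiber (EGA4.Cpl B)))) :
    ∀ (p : Ideal A) [p.IsPrime] (K : Type u) [Field K] [Algebra p.ResidueField K],
      Module.Finite p.ResidueField K → LocCoh.IsCohenMacaulayRing (K ⊗[p.ResidueField] (p.Fiber B)) := by
  intro p _ l _ _ hl
  obtain ⟨_, _, _, _, hT, _, _, hff, _, _, _, _, hmap, hres⟩ :=
    Groth.Agent.Ega11.FormalTransfer.exists_completed A B
  let : Algebra A l := ((algebraMap p.ResidueField l).comp (algebraMap A p.ResidueField)).toAlgebra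
  have : IsScalarTower A p.ResidueField l := IsScalarTower.of_algebraMap_eq fun _ => rfl
  have := hA p
  exact Groth.Agent.Ega11.FormalTransfer.cm_of_comp (B := B) (C := EGA4.Cpl B) p l
    (Groth.Agent.Ega11.FormalTransfer.cm_comp (B := EGA4.Cpl A) (C := EGA4.Cpl B) p l
      (Groth.Agent.Ega11.FormalTransfer.cm_tensor p.ResidueField l (EGA4.formalFibre A p))
      fun q _ K _ _ hK =>
        Groth.Agent.Ega11.FormalTransfer.cm_complete A (EGA4.Cpl A) (EGA4.Cpl B) hmap hres h q K)

end Groth.Agent.S4747
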