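import Groth.Statements.S4748
import Groth.Agent.VarNormal.Local

set_option autoImplicit false
universe u
open EGA4

namespace Groth.Agent.S4748

open TensorProduct in
/-- For the property 'normal' (affine form): let k be a field, S a Noetherian k-algebra and k' an
extension field of k such that S is of finite type over k or k' is essentially of finite type over
k; let q' be a prime of S ⊗_k k' and q its contraction to S. If (S ⊗_k k')_{q'} is an integrally
closed domain then so is S_q; conversely, if k' is separable over k (geometrically reduced) and S_q
is an integrally closed domain, then so is (S ⊗_k k')_{q'}. -/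
theorem result (k S k' : Type u) [Field k] [CommRing S] [Algebra k S]
    [IsNoetherianRing S] [Field k'] [Algebra k k'] (hft : Algebra.FiniteType k S ∨ Algebra.EssFiniteType k k')
    [IsNoetherianRing (S ⊗[k] k')] (q' : Ideal (S ⊗[k] k')) [q'.IsPrime] :
    ((IsDomain (Localization.AtPrime q') ∧ IsIntegrallyClosed (Localization.AtPrime q')) →
        (IsDomain (Localization.AtPrime (q'.comap (algebraMap S (S ⊗[k] k')))) ∧
          IsIntegrallyClosed (Localization.AtPrime (q'.comap (algebraMap S (S ⊗[k] k')))))) ∧
      (Algebra.IsGeometricallyReduced k k' →
        (IsDomain (Localization.AtPrime (q'.comap (algebraMap S (S ⊗[k] k')))) ∧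
          IsIntegrallyClosed (Localization.AtPrime (q'.comap (algebraMap S (S ⊗[k] k'))))) →
          (IsDomain (Localization.AtPrime q') ∧ IsIntegrallyClosed (Localization.AtPrime q'))) := by
  refine ⟨fun h => VarNormal.normalAt_of_flat (algebraMap S (S ⊗[k] k')) (RingHom.flat_algebraMap_iff.2 inferInstance) _ q' rfl h,
    fun hsep h => ?_⟩
  obtain ⟨_, _⟩ := h
  exact VarNormal.normalAt_of_isNormalRing_local S (q'.comap (algebraMap S (S ⊗[k] k'))) k'
    (VarNormal.isNormalRing_tensor_separable k _ k' (EGA4H10.normal_of_domain _)) q' rfl

end Groth.Agent.S4748
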