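import Groth.Statements.S4763
import Groth.Agent.LimTop61.Points

set_option autoImplicit false
universe u
open CategoryTheory AlgebraicGeometry
open Lim8

namespace Groth.Agent.S4763

/-- Let S = lim S_i be a cofiltered limit of schemes with affine transition maps and let i be an index.
The canonical projection S ⟶ S_i is dominant if and only if every transition map S_j ⟶ S_i is
dominant. -/
theorem result {I : Type u} [SmallCategory I] [IsCofiltered I]
    (D : I ⥤ Scheme.{u}) (c : Limits.Cone D) (hc : Limits.IsLimit c)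
    [∀ (i j : I) (f : i ⟶ j), IsAffineHom (D.map f)] (i : I) :
    IsDominant (c.π.app i) ↔ ∀ (j : I) (φ : j ⟶ i), IsDominant (D.map φ) := by
  refine ⟨fun h j φ => ⟨?_⟩, fun h => ⟨?_⟩⟩
  · refine h.denseRange.mono ?_
    rintro _ ⟨x, rfl⟩
    exact ⟨c.π.app j x, Groth.Agent.LimTop61.π_apply D c φ x⟩
  · rw [DenseRange, dense_iff_inter_open]
    intro U hU hne
    obtain ⟨x, hx⟩ := hne
    obtain ⟨_, ⟨V, hV, rfl⟩, hxV, hVU⟩ :=
      (D.obj i).isBasis_affineOpens.exists_subset_of_mem_open hx hU
    have (j : Over i) : Nonempty ((opensDiagram D i V).obj j) := by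
      obtain ⟨y, hy⟩ := (h j.left j.hom).denseRange.exists_mem_open V.2 ⟨x, hxV⟩
      exact ⟨⟨y, hy⟩⟩
    have (j : Over i) : CompactSpace ((opensDiagram D i V).obj j) :=
      isCompact_iff_compactSpace.mp (hV.preimage (D.map j.hom)).isCompact
    obtain ⟨z⟩ := Scheme.nonempty_of_isLimit _ _ (isLimitOpensCone D c hc i V)
    exact ⟨c.π.app i z.1, hVU z.2, ⟨z.1, rfl⟩⟩

end Groth.Agent.S4763
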