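import Groth.Statements.S4771
import Groth.Agent.LimTop61.Descent

set_option autoImplicit false
universe u
open CategoryTheory AlgebraicGeometry
open Lim8

namespace Groth.Agent.S4771

/-- Let S = lim S_i be a cofiltered limit of schemes whose transition maps are affine and dominant, some
stage S_{i₀} being quasi-compact, and assume that the underlying topological space of S is
Noetherian. Then S is irreducible if and only if there is an index i over i₀ such that S_j is
irreducible for every j over i. -/
theorem result {I : Type u} [SmallCategory I] [IsCofiltered I]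
    (D : I ⥤ Scheme.{u}) (c : Limits.Cone D) (hc : Limits.IsLimit c)
    [∀ (i j : I) (f : i ⟶ j), IsAffineHom (D.map f)] (i₀ : I)
    [CompactSpace (D.obj i₀)] [TopologicalSpace.NoetherianSpace c.pt]
    (hd : ∀ (i j : I) (φ : i ⟶ j), IsDominant (D.map φ)) :
    IrreducibleSpace c.pt ↔ ∃ (i : I) (_ : i ⟶ i₀), ∀ (j : I) (_ : j ⟶ i), IrreducibleSpace (D.obj j) := by
  refine ⟨fun h => ⟨i₀, 𝟙 i₀, fun j φ => ?_⟩, fun ⟨i, φ, h⟩ => ?_⟩
  · have hd' := Groth.Agent.LimTop61.denseRange_π D c hc hd j
    have : IsPreirreducible (closure (Set.range (c.π.app j))) := by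
      rw [← Set.image_univ]
      exact (h.isPreirreducible_univ.image _ (c.π.app j).continuous.continuousOn).closure
    rw [hd'.closure_range] at this
    exact { isPreirreducible_univ := this, toNonempty := h.toNonempty.map (c.π.app j) }
  · by_contra hc'
    obtain ⟨k, ψ, hk⟩ := Groth.Agent.LimTop61.eventually_not_irreducible D c hc i₀
      (fun l _ V V' _ _ hVV' => ⟨l, 𝟙 l, by
        rw [Groth.Agent.LimTop61.eq_bot_of_preimage_eq_bot D c hc hd (V ⊓ V') hVV']
        ext x
        simp⟩) hc'
    obtain ⟨m, a, b, -⟩ := IsCofilteredOrEmpty.cone_objs i k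
    exact hk m b (h m a)

end Groth.Agent.S4771
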