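import Groth.Statements.S4772
import Groth.Agent.LimTop61.Descent

set_option autoImplicit false
universe u
open CategoryTheory AlgebraicGeometry
open Lim8

namespace Groth.Agent.S4772

/-- Let S = lim S_i be a cofiltered limit of schemes whose transition maps are affine and dominant, some
stage S_{i₀} being quasi-compact. Then S is connected (in particular nonempty) if and only if there
is an index i over i₀ such that S_j is connected for every j over i. -/
theorem result {I : Type u} [SmallCategory I] [IsCofiltered I]
    (D : I ⥤ Scheme.{u}) (c : Limits.Cone D) (hc : Limits.IsLimit c)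
    [∀ (i j : I) (f : i ⟶ j), IsAffineHom (D.map f)] (i₀ : I)
    [CompactSpace (D.obj i₀)] (hd : ∀ (i j : I) (φ : i ⟶ j), IsDominant (D.map φ)) :
    ConnectedSpace c.pt ↔ ∃ (i : I) (_ : i ⟶ i₀), ∀ (j : I) (_ : j ⟶ i), ConnectedSpace (D.obj j) := by
  refine ⟨fun h => ⟨i₀, 𝟙 i₀, fun j φ => ?_⟩, fun ⟨i, φ, h⟩ => ?_⟩
  · have hd' := Groth.Agent.LimTop61.denseRange_π D c hc hd j
    have : _root_.IsPreconnected (closure (Set.range (c.π.app j))) := by
      haveI : PreconnectedSpace ↥(((Functor.const I).obj c.pt).obj j) := h.toPreconnectedSpace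
      exact (isPreconnected_range (c.π.app j).continuous).closure
    rw [hd'.closure_range] at this
    exact { isPreconnected_univ := this, toNonempty := h.toNonempty.map (c.π.app j) }
  · have : Nonempty c.pt := by
      by_contra he
      rw [not_nonempty_iff] at he
      obtain ⟨k, ψ, hk⟩ := Groth.Agent.LimTop61.exists_isEmpty_stage D c hc i₀
      obtain ⟨m, a, b, -⟩ := IsCofilteredOrEmpty.cone_objs i k
      exact (Function.isEmpty (D.map b)).false (h m a).toNonempty.some
    by_contra hc'
    obtain ⟨k, ψ, hk⟩ := Groth.Agent.LimTop61.eventually_not_preconnected D c hc i₀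
      (fun l _ V V' _ _ hVV' => ⟨l, 𝟙 l, by
        rw [Groth.Agent.LimTop61.eq_bot_of_preimage_eq_bot D c hc hd (V ⊓ V') hVV']
        ext x
        simp⟩)
      (fun hp => hc' { toPreconnectedSpace := hp, toNonempty := this })
    obtain ⟨m, a, b, -⟩ := IsCofilteredOrEmpty.cone_objs i k
    exact hk m b (h m a).toPreconnectedSpace

end Groth.Agent.S4772
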