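import Groth.Statements.S4773
import Groth.Agent.FBase64.Geometric
import Groth.Agent.LimTop61.FgSubalgLimit
import Groth.Agent.LimTop61.Descent
import Mathlib.FieldTheory.IsSepClosed

set_option autoImplicit false
set_option backward.isDefEq.respectTransparency false
set_option backward.defeqAttrib.useBackward true
universe u
open CategoryTheory AlgebraicGeometry
open Lim8

namespace Groth.Agent.LimTop61

open CategoryTheory.Limits Opposite

attribute [local instance] Classical.propDecidable

theorem connectedSpace_sepClosure {k : Type u} [Field k] (E : Type u) [Field E] [Algebra k E]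
    [Algebra.IsSeparable k E]
    {X : Scheme.{u}} (f : X ⟶ Spec (CommRingCat.of k)) [CompactSpace X]
    (H : ∀ (K : Type u) [Field K] [Algebra k K] [Module.Finite k K] [Algebra.IsSeparable k K],
        ConnectedSpace ↑(Limits.pullback f (Spec.map (CommRingCat.ofHom (algebraMap k K))))) :
    ConnectedSpace ↑(Limits.pullback f (Spec.map (CommRingCat.ofHom (algebraMap k E)))) := by
  let A := CommRingCat.of k
  let B := CommRingCat.of E
  have : IsDirectedOrder (FgSubalg A B) := ⟨fun S T => ⟨⟨S.1 ⊔ T.1, S.2.sup T.2⟩, le_sup_left (a := S.1), le_sup_right (a := S.1)⟩⟩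
  have : Nonempty (FgSubalg A B) := ⟨⟨⊥, Subalgebra.fg_bot⟩⟩
  have : IsFiltered (FgSubalg A B) := isFiltered_of_directed_le_nonempty _
  have : IsCofiltered (FgSubalg A B)ᵒᵖ := inferInstance
  let D := subalgSpec A B
  let cS := subalgCone A B
  let j₀ : (FgSubalg A B)ᵒᵖ := op ⟨⊥, Subalgebra.fg_bot⟩
  let g : D.obj j₀ ⟶ Spec A := Spec.map (CommRingCat.ofHom (algebraMap k (⊥ : Subalgebra k E)))
  have : IsIso g := by
    have hb : Function.Bijective (algebraMap k (⊥ : Subalgebra k E)) :=
      ⟨RingHom.injective _, fun z => by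
        obtain ⟨r, hr⟩ := Algebra.mem_bot.mp z.2
        exact ⟨r, Subtype.ext hr⟩⟩
    have : IsIso (CommRingCat.ofHom (algebraMap k (⊥ : Subalgebra k E))) :=
      (RingEquiv.ofBijective _ hb).toCommRingCatIso.isIso_hom
    exact inferInstanceAs (IsIso (Spec.map _))
  let a : X ⟶ D.obj j₀ := f ≫ inv g
  let sE := Spec.map (CommRingCat.ofHom (algebraMap k E))
  let sK (S : Subalgebra k E) := Spec.map (CommRingCat.ofHom (algebraMap k S))
  have hg (j : Over j₀) : D.map j.hom ≫ g = sK j.left.unop.1 := by
    simp only [D, g, sK, subalgSpec, Functor.comp_map, Functor.op_map, Scheme.Spec_map,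
      Quiver.Hom.unop_op]
    erw [← Spec.map_comp]
    rfl
  have hgE : cS.π.app j₀ ≫ g = sE := by
    simp only [cS, g, sE, subalgCone, Functor.mapCone_π_app]
    erw [← Spec.map_comp]
    rfl
  have hP : IsPullback (pullback.fst f sE) (pullback.snd f sE) a (cS.π.app j₀) :=
    (IsPullback.of_hasPullback f sE).of_iso (Iso.refl _) (Iso.refl _) (Iso.refl _) (asIso g).symm
      (by simp) (by simp) (by simp [a]) (by simp [← hgE])
  have hstage (j : Over j₀) : ConnectedSpace ↥((bcDiagram D a).obj j) := by
    let S : Subalgebra k E := j.left.unop.1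
    let : Field S := (Subalgebra.isField_of_algebraic S).toField
    have : Algebra.FiniteType k S := ⟨(Subalgebra.fg_top _).mpr j.left.unop.2⟩
    have : Algebra.IsSeparable k S := Algebra.IsSeparable.of_algHom k E S.val
    have : Module.Finite k S := Algebra.IsIntegral.finite
    have := H S
    have hiso : IsPullback (pullback.fst a (D.map j.hom)) (pullback.snd a (D.map j.hom)) f (sK S) :=
      (IsPullback.of_hasPullback a (D.map j.hom)).of_iso (Iso.refl _) (Iso.refl _) (Iso.refl _) (asIso g)
        (by simp) (by simp) (by simp [a]) (by simpa using (hg j))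
    exact (Scheme.homeoOfIso hiso.isoPullback.symm).surjective.connectedSpace
      (Scheme.homeoOfIso hiso.isoPullback.symm).continuous
  let c := bcCone D cS a (pullback.fst f sE) (pullback.snd f sE) hP.w
  let hc : IsLimit c := isLimitBcCone D cS (isLimitSubalgCone A B) a _ _ hP
  have hsurj (j : Over j₀) : Function.Surjective (c.π.app j) := by
    let S : Subalgebra k E := j.left.unop.1
    let : Field S := (Subalgebra.isField_of_algebraic S).toField
    have : Surjective (cS.π.app j.left) := ⟨fun t => ⟨(default : PrimeSpectrum E), by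
      have : Subsingleton (PrimeSpectrum S) := inferInstance
      exact Subsingleton.elim (α := PrimeSpectrum S) _ _⟩⟩
    have hsq : IsPullback (c.π.app j) (pullback.snd f sE) (pullback.snd a (D.map j.hom)) (cS.π.app j.left) := by
      refine IsPullback.of_right ?_ (pullback.lift_snd _ _ _) (IsPullback.of_hasPullback a (D.map j.hom))
      have e1 : c.π.app j ≫ pullback.fst a (D.map j.hom) = pullback.fst f sE := pullback.lift_fst _ _ _
      have e2 : cS.π.app j.left ≫ D.map j.hom = cS.π.app j₀ := cS.w j.hom
      rw [e1, e2]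
      exact hP
    have : Surjective (c.π.app j) :=
      MorphismProperty.of_isPullback (P := @Surjective) hsq.flip ‹_›
    exact Surjective.surj
  have : CompactSpace ↥((bcDiagram D a).obj (Over.mk (𝟙 j₀))) := inferInstance
  have : CompactSpace c.pt := compactSpace_pt (bcDiagram D a) c hc (Over.mk (𝟙 j₀))
  have hne : Nonempty c.pt := by
    have := hstage (Over.mk (𝟙 j₀))
    obtain ⟨z, -⟩ := hsurj (Over.mk (𝟙 j₀)) (Classical.arbitrary _)
    exact ⟨z⟩
  show ConnectedSpace c.pt
  rw [connectedSpace_iff_clopen]
  refine ⟨hne, fun C hC => ?_⟩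
  obtain ⟨j, -, V, V', -, -, hV, hV'⟩ := exists_preimage_eq_over₂ (bcDiagram D a) c hc (Over.mk (𝟙 j₀))
    ⟨C, hC.isOpen⟩ ⟨Cᶜ, hC.compl.isOpen⟩ hC.isClosed.isCompact hC.compl.isClosed.isCompact
  have hV1 : c.π.app j ⁻¹' V = C := congrArg (fun U : c.pt.Opens => (U : Set c.pt)) hV
  have hV2 : c.π.app j ⁻¹' V' = Cᶜ := congrArg (fun U : c.pt.Opens => (U : Set c.pt)) hV'
  have hcompl : (↑V : Set ↥((bcDiagram D a).obj j))ᶜ = (↑V' : Set ↥((bcDiagram D a).obj j)) := by
    ext y
    obtain ⟨z, rfl⟩ := hsurj j y
    have h1 : c.π.app j z ∈ (↑V : Set ↥((bcDiagram D a).obj j)) ↔ z ∈ C := Set.ext_iff.mp hV1 z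
    have h2 : c.π.app j z ∈ (↑V' : Set ↥((bcDiagram D a).obj j)) ↔ z ∈ Cᶜ := Set.ext_iff.mp hV2 z
    rw [Set.mem_compl_iff, h1, h2, Set.mem_compl_iff]
  have hVc : IsClopen (V : Set ↥((bcDiagram D a).obj j)) :=
    ⟨isOpen_compl_iff.mp (by erw [hcompl]; exact V'.isOpen), V.isOpen⟩
  have := hstage j
  rcases isClopen_iff.mp hVc with h | h
  · left; rw [← hV1, h, Set.preimage_empty]
  · right; rw [← hV1, h, Set.preimage_univ]

theorem geometricallyConnected_of_forall_finite_separable {k : Type u} [Field k]
    {X : Scheme.{u}} (f : X ⟶ Spec (CommRingCat.of k)) [CompactSpace X]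
    (H : ∀ (K : Type u) [Field K] [Algebra k K] [Module.Finite k K] [Algebra.IsSeparable k K],
        ConnectedSpace ↑(Limits.pullback f (Spec.map (CommRingCat.ofHom (algebraMap k K))))) :
    GeometricallyConnected f := by
  have := connectedSpace_sepClosure (SeparableClosure k) f H
  exact FBase64.geometricallyConnected_of_sepClosed f (algebraMap k (SeparableClosure k))

end Groth.Agent.LimTop61

namespace Groth.Agent.S4773

/-- Let k be a field and X a quasi-compact scheme over k. Then X is geometrically connected over k if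
and only if, for every finite separable field extension K of k, the base change X ⊗_k K is
connected. Connectedness includes being nonempty on both sides. -/
theorem result {k : Type u} [Field k]
    {X : Scheme.{u}} (f : X ⟶ Spec (CommRingCat.of k)) [CompactSpace X] :
    GeometricallyConnected f ↔
      ∀ (K : Type u) [Field K] [Algebra k K] [Module.Finite k K] [Algebra.IsSeparable k K],
        ConnectedSpace ↑(Limits.pullback f (Spec.map (CommRingCat.ofHom (algebraMap k K)))) := by
  constructor
  · intro hf K _ _ _ _
    exact AlgebraicGeometry.geometrically_iff_of_commRing_of_isClosedUnderIsomorphisms.mp hf.geometrically_connectedSpace K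
  · intro H
    exact Groth.Agent.LimTop61.geometricallyConnected_of_forall_finite_separable f H

end Groth.Agent.S4773
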