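import Groth.Statements.S4776
import Groth.Agent.LimTop61.Reduced
import Groth.Agent.LimTop61.Descent

set_option autoImplicit false
universe u
open CategoryTheory AlgebraicGeometry
open Lim8

namespace Groth.Agent.S4776

/-- Let S = lim S_i be a cofiltered limit of schemes whose transition maps are affine, flat and
surjective, some stage S_{i₀} being quasi-compact, and assume that the underlying topological space
of S is Noetherian. Then S is integral if and only if there is an index i over i₀ such that S_j is
integral for every j over i. (The published statement carries neither the quasi-compactness nor the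
Noetherian hypothesis; its proof combines the reducedness criterion with the irreducibility
criterion for limits, and the latter is proved only under these two hypotheses, so they are assumed
here.) -/
theorem result {I : Type u} [SmallCategory I] [IsCofiltered I]
    (D : I ⥤ Scheme.{u}) (c : Limits.Cone D) (hc : Limits.IsLimit c)
    [∀ (i j : I) (f : i ⟶ j), IsAffineHom (D.map f)] (i₀ : I)
    [CompactSpace (D.obj i₀)] [TopologicalSpace.NoetherianSpace c.pt]
    (hf : ∀ (i j : I) (φ : i ⟶ j), Flat (D.map φ) ∧ Surjective (D.map φ)) :
    IsIntegral c.pt ↔ ∃ (i : I) (_ : i ⟶ i₀), ∀ (j : I) (_ : j ⟶ i), IsIntegral (D.obj j) := by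
  have hd : ∀ (i j : I) (φ : i ⟶ j), IsDominant (D.map φ) := fun i j φ =>
    ⟨Function.Surjective.denseRange (hf i j φ).2.surj⟩
  have hsurj : ∀ i, Surjective (c.π.app i) := fun i => ⟨fun s => by
    have : s ∈ Set.range (c.π.app i) := by
      rw [Groth.Agent.LimTop61.range_π_eq D c hc i]
      exact Set.mem_iInter₂.mpr fun j φ => (hf j i φ).2.surj s
    exact this⟩
  constructor
  · intro h
    rw [isIntegral_iff_irreducibleSpace_and_isReduced] at h
    refine ⟨i₀, 𝟙 i₀, fun j φ => ?_⟩
    rw [isIntegral_iff_irreducibleSpace_and_isReduced]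
    have : Flat (c.π.app j) :=
      Groth.Agent.LimTop61.flat_π_app D c hc j fun k ψ => (hf k j ψ).1
    have := hsurj j
    refine ⟨{ isPreirreducible_univ := ?_, toNonempty := h.1.toNonempty.map (c.π.app j) },
      @Groth.Agent.LimTop61.isReduced_of_flat_surjective _ _ (c.π.app j) _ _ h.2⟩
    rw [← Set.range_eq_univ.mpr (hsurj j).surj, ← Set.image_univ]
    exact h.1.isPreirreducible_univ.image _ (c.π.app j).continuous.continuousOn
  · rintro ⟨i, φ, h⟩
    rw [isIntegral_iff_irreducibleSpace_and_isReduced]
    refine ⟨?_, ?_⟩
    · by_contra h'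
      obtain ⟨k, ψ, hk⟩ := Groth.Agent.LimTop61.eventually_not_irreducible D c hc i₀
        (fun l _ V V' _ _ hVV' => ⟨l, 𝟙 l, by
          rw [Groth.Agent.LimTop61.eq_bot_of_preimage_eq_bot D c hc hd (V ⊓ V') hVV']
          ext x
          simp⟩) h'
      obtain ⟨m, a, b, -⟩ := IsCofilteredOrEmpty.cone_objs i k
      exact hk m b ((isIntegral_iff_irreducibleSpace_and_isReduced _).mp (h m a)).1
    · by_contra h'
      obtain ⟨k, hk⟩ := Groth.Agent.LimTop61.eventually_not_isReduced D c hc h'
      obtain ⟨m, a, b, -⟩ := IsCofilteredOrEmpty.cone_objs i k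
      exact hk m b ((isIntegral_iff_irreducibleSpace_and_isReduced _).mp (h m a)).2

end Groth.Agent.S4776
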