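import Groth.Statements.S4778
import Groth.Agent.LimTop61.LfpCrit

set_option autoImplicit false
universe u
open CategoryTheory AlgebraicGeometry
open Lim8

namespace Groth.Agent.S4778

/-- Let f : X ⟶ S be a morphism of schemes. Suppose that for every affine open U of S and every
projective system (Z_λ) of U-schemes indexed by a nonempty directed preordered set, with every Z_λ
an affine scheme, the functor Hom_S(-, X) takes the limit of the system to the colimit of the
Hom_S(Z_λ, X) (the canonical map from the colimit is bijective). Then f is locally of finite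
presentation. -/
theorem result {X S : Scheme.{u}} (f : X ⟶ S)
    (h : ∀ (U : S.Opens), IsAffineOpen U →
      ∀ (J : Type u) [Preorder J] [IsDirected J (· ≤ ·)] [Nonempty J] (Z : Jᵒᵖ ⥤ Over (U : Scheme.{u})),
      (∀ j, IsAffine (Z.obj j).left) →
      Limits.PreservesColimit (Z ⋙ Over.map U.ι).op (yoneda.obj (Over.mk f))) :
    LocallyOfFinitePresentation f := by
  refine Groth.Agent.LimTop61.locallyOfFinitePresentation_of_lift f
    fun U hU J _ _ _ D t c hc haff g hg => ?_
  have : IsConnected Jᵒᵖ := by
    have := IsFiltered.isConnected J
    infer_instance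
  let Z : Jᵒᵖ ⥤ Over (U : Scheme.{u}) :=
    { obj := fun j => Over.mk (t.app j)
      map := fun {j k} a => Over.homMk (D.map a) (by simpa using t.naturality a) }
  have := h U hU J Z haff
  let c' : Limits.Cone (Z ⋙ Over.map U.ι) :=
    { pt := Over.mk (g ≫ f)
      π :=
        { app := fun j => Over.homMk (c.π.app j) (hg j).symm
          naturality := fun j k a => Over.OverMorphism.ext (c.π.naturality a) } }
  have hc' : Limits.IsLimit c' := Limits.isLimitOfReflects (Over.forget S) (by exact hc)
  obtain ⟨⟨j⟩, gj, hgj⟩ := Limits.Types.jointly_surjective_of_isColimit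
    (Limits.isColimitOfPreserves (yoneda.obj (Over.mk f)) hc'.op)
    (Over.homMk g rfl : c'.pt ⟶ Over.mk f)
  exact ⟨j, gj.left, Over.w gj, congrArg (fun m => m.left) hgj⟩

end Groth.Agent.S4778
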