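import Groth.Statements.S4780
import Groth.Agent.LimTop61.UnivOpen

set_option autoImplicit false
universe u
open CategoryTheory AlgebraicGeometry
open Lim8

namespace Groth.Agent.S4780

/-- Let f : X ⟶ Y be a morphism of schemes. If, for every integer n > 0, the base change of f to affine
n-space over Y, X ×_Y 𝔸ⁿ_Y ⟶ 𝔸ⁿ_Y, is an open map of topological spaces, then f is universally open. -/
theorem result {X Y : Scheme.{u}} (f : X ⟶ Y)
    (h : ∀ n : ℕ, 0 < n →
      IsOpenMap ⇑(Limits.pullback.snd f (AffineSpace (ULift.{u} (Fin n)) Y ↘ Y))) :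
    UniversallyOpen f := by
  refine Groth.Agent.LimTop61.OpenOnAffineSpaces.universallyOpen fun n P p q hP => ?_
  rw [← hP.isoPullback_hom_snd]
  exact (h (n + 1) n.succ_pos).comp hP.isoPullback.hom.isOpenEmbedding.isOpenMap

end Groth.Agent.S4780
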