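import Groth.Statements.S4781
import Groth.Agent.FBase64.AssFibre.DimCons
import Groth.Agent.SchBasics.Reduced

set_option autoImplicit false
set_option backward.isDefEq.respectTransparency false
universe u
open Topology
open CategoryTheory AlgebraicGeometry
open Cons9

namespace Groth.Agent.S4781

/-- Let S be a Noetherian irreducible scheme with generic point η, let X be an irreducible scheme and f
: X ⟶ S a dominant morphism of finite type. Then there is an open neighbourhood U of η in S such
that, for every s ∈ U, all irreducible components of the fibre f⁻¹(s) have dimension equal to dim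
f⁻¹(η). Fibres are taken as subspaces of X and dimensions are topological Krull dimensions. -/
theorem result {X S : Scheme.{u}} (f : X ⟶ S)
    [IsNoetherian S] [IrreducibleSpace S] [IrreducibleSpace X] [IsDominant f]
    [LocallyOfFiniteType f] [QuasiCompact f] :
    ∃ U : S.Opens, genericPoint S ∈ U ∧ ∀ s ∈ U, ∀ T ∈ irreducibleComponents ↥(⇑f ⁻¹' {s}),
      topologicalKrullDim ↥T = topologicalKrullDim ↥(⇑f ⁻¹' {genericPoint S}) := by
  classical
  let iX := (Scheme.IdealSheafData.vanishingIdeal (⊤ : TopologicalSpace.Closeds X)).subschemeι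
  let X' := (Scheme.IdealSheafData.vanishingIdeal (⊤ : TopologicalSpace.Closeds X)).subscheme
  let iS := (Scheme.IdealSheafData.vanishingIdeal (⊤ : TopologicalSpace.Closeds S)).subschemeι
  let S' := (Scheme.IdealSheafData.vanishingIdeal (⊤ : TopologicalSpace.Closeds S)).subscheme
  haveI : IsReduced X' := Groth.Agent.SchBasics.isReduced_vanishingIdeal_subscheme _
  haveI : IsReduced S' := Groth.Agent.SchBasics.isReduced_vanishingIdeal_subscheme _
  have hXs : Function.Surjective iX := Set.range_eq_univ.mp
    (Groth.Agent.SchBasics.range_vanishingIdeal_subschemeι _)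
  have hSs : Function.Surjective iS := Set.range_eq_univ.mp
    (Groth.Agent.SchBasics.range_vanishingIdeal_subschemeι _)
  let hX := iX.isClosedEmbedding.isEmbedding.toHomeomorphOfSurjective hXs
  let hS := iS.isClosedEmbedding.isEmbedding.toHomeomorphOfSurjective hSs
  haveI : IrreducibleSpace X' := hX.irreducibleSpace_iff.mpr inferInstance
  haveI : IrreducibleSpace S' := hS.irreducibleSpace_iff.mpr inferInstance
  haveI : IsIntegral X' := isIntegral_of_irreducibleSpace_of_isReduced X'
  haveI : IsIntegral S' := isIntegral_of_irreducibleSpace_of_isReduced S'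
  let f' : X' ⟶ S' := IsClosedImmersion.lift iS (iX ≫ f)
    (Groth.Agent.SchBasics.ker_le_ker_of_range_subset (iX ≫ f) iS fun x _ => hSs x)
  have hf' : f' ≫ iS = iX ≫ f := IsClosedImmersion.lift_fac _ _ _
  haveI : LocallyOfFiniteType (f' ≫ iS) := hf'.symm ▸ inferInstance
  haveI : LocallyOfFiniteType f' := locallyOfFiniteType_of_comp f' iS
  haveI : QuasiCompact (f' ≫ iS) := hf'.symm ▸ inferInstance
  haveI : QuasiCompact f' := QuasiCompact.of_comp f' iS
  haveI : IsLocallyNoetherian S' := LocallyOfFiniteType.isLocallyNoetherian iS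
  haveI : IsNoetherian S' := { toCompactSpace := hS.symm.compactSpace }
  haveI := LocallyOfFiniteType.isLocallyNoetherian f'
  have happ : ∀ x, f (iX x) = iS (f' x) := fun x => by
    rw [← Scheme.Hom.comp_apply, ← hf', Scheme.Hom.comp_apply]
  have hη : iS (genericPoint S') = genericPoint S :=
    ((genericPoint_spec S').image iS.continuous).eq (by
      rw [Set.image_univ, hSs.range_eq, closure_univ]; exact genericPoint_spec S)
  have hξ : f' (genericPoint X') = genericPoint S' := by
    refine iS.isEmbedding.injective ?_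
    rw [← happ, hη]
    have h1 : IsGenericPoint (iX (genericPoint X')) (Set.univ : Set X) := by
      have h := (genericPoint_spec X').image iX.continuous
      rwa [Set.image_univ, hXs.range_eq, closure_univ] at h
    refine (IsGenericPoint.image h1 f.continuous).eq ?_
    rw [Set.image_univ, f.denseRange.closure_range]
    exact genericPoint_spec S
  have hgen : genericPoint X' ∈ Groth.Agent.FBase64.AssFibre.genAss f' (Coh.structureModule X') := by
    refine ⟨?_, hξ⟩
    obtain ⟨z, hz⟩ := (Groth.Agent.FBase64.RedField.irreducible_iff_ass_singleton X').mp inferInstance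
    obtain ⟨w, hw, hwη⟩ := Groth.Agent.FBase64.AssSheaf.exists_ass_specializes_structure (genericPoint X')
    rwa [← ((hwη.antisymm (genericPoint_specializes w)).eq : w = genericPoint X')]
  obtain ⟨U', hU', hU⟩ := Groth.Agent.FBase64.AssFibre.exists_nhd_fdeg f' (Coh.structureModule X')
    (Groth.Agent.FBase64.RedField.isCoh_structure X')
  have hηU := hU _ hU' _ hgen
  have hdim : ∀ (s' : S') (x' : X'), f' x' = s' →
      topologicalKrullDim ↥(closure {iX x'} ∩ ⇑f ⁻¹' {iS s'}) = (Groth.Agent.E4O.fdeg f' x' : ℕ) := by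
    intro s' x' hs
    rw [← Groth.Agent.E4O.dim_fibreClosure (f := f') x', hs]
    have he := iX.isEmbedding
    have e1 : closure {x'} ∩ ⇑f' ⁻¹' {s'} = ⇑iX ⁻¹' (closure {iX x'} ∩ ⇑f ⁻¹' {iS s'}) := by
      rw [Set.preimage_inter, he.isInducing.closure_eq_preimage_closure_image, Set.image_singleton]
      congr 1
      ext w
      simp only [Set.mem_preimage, Set.mem_singleton_iff, happ, iS.isEmbedding.injective.eq_iff]
    rw [e1, Groth.Agent.E4O.dim_preimage_of_isEmbedding he, Set.range_eq_univ.mpr hXs, Set.inter_univ]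
  have hgfib : topologicalKrullDim ↥(⇑f ⁻¹' {genericPoint S}) = (Groth.Agent.E4O.fdeg f' (genericPoint X') : ℕ) := by
    rw [← hdim _ _ hξ, hη]
    refine Groth.Agent.E4O.dim_set_congr (Set.inter_eq_right.mpr fun w _ => ?_).symm
    obtain ⟨w, rfl⟩ := hXs w
    exact specializes_iff_mem_closure.mp ((genericPoint_specializes w).map iX.continuous)
  refine ⟨⟨hS '' U', hS.isOpenMap _ U'.2⟩, ⟨_, hU', hη⟩, ?_⟩
  rintro _ ⟨s', hs', rfl⟩
  show ∀ T ∈ irreducibleComponents ↥(⇑f ⁻¹' {iS s'}), topologicalKrullDim ↥T = _
  intro T hT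
  have hTc := isClosed_of_mem_irreducibleComponents T hT
  obtain ⟨z', hz', hzfib, hTz⟩ : ∃ z' : X', f' z' = s' ∧
      (∀ w : X', f' w = s' → w ⤳ z' → w = z') ∧ topologicalKrullDim ↥T = (Groth.Agent.E4O.fdeg f' z' : ℕ) := by
    obtain ⟨ξ, hξT⟩ := QuasiSober.sober ((hT.1.image _ continuous_subtype_val.continuousOn).closure) isClosed_closure
    have hsub : IsClosed (⇑f ⁻¹' closure {iS s'}) := isClosed_closure.preimage f.continuous
    obtain ⟨⟨t, ht⟩, htT⟩ := hT.1.nonempty
    -- the component is the trace of the closure of a point of the fibre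
    obtain ⟨a, haT, hamax⟩ : ∃ a : ↥(⇑f ⁻¹' {iS s'}), T = closure {a} ∧ ∀ b, b ⤳ a → b = a := by
      haveI : QuasiSober ↥(⇑f ⁻¹' {iS s'}) := (f.fiberHomeo (iS s')).symm.isClosedEmbedding.quasiSober
      obtain ⟨a, ha⟩ := QuasiSober.sober hT.1 hTc
      refine ⟨a, ha.def.symm, fun b hb => ?_⟩
      have h2 : closure {b} ⊆ T := hT.2 isIrreducible_singleton.closure
        (ha.def.symm.le.trans (closure_minimal (Set.singleton_subset_iff.mpr (specializes_iff_mem_closure.mp hb))
          isClosed_closure))
      exact (hb.antisymm (ha.specializes (h2 (subset_closure rfl)))).eq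
    obtain ⟨z', hz'⟩ := hXs a.1
    have hzs : f' z' = s' := iS.isEmbedding.injective ((happ z').symm.trans (by rw [hz']; exact a.2))
    refine ⟨z', hzs, fun w hw hwz => iX.isEmbedding.injective ?_, ?_⟩
    · rw [hz']
      exact congrArg Subtype.val (hamax ⟨iX w, by rw [Set.mem_preimage, happ, hw]; rfl⟩
        ((subtype_specializes_iff _ _).2 (hz' ▸ hwz.map iX.continuous)))
    · rw [← hdim s' z' hzs, hz', haT, IsInducing.subtypeVal.closure_eq_preimage_closure_image, Set.image_singleton,
        Groth.Agent.E4O.dim_preimage_of_isEmbedding IsEmbedding.subtypeVal, Subtype.range_coe]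
  rw [hTz, hgfib, hU s' hs' _ hgen z' ⟨hz', genericPoint_specializes z', fun w hw _ hwz => hzfib w hw hwz⟩]

end Groth.Agent.S4781
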