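import Groth.Statements.S4783
import Groth.Agent.LimTop61.ReducedOpen

set_option autoImplicit false
universe u
open CategoryTheory AlgebraicGeometry
open Lim8

namespace Groth.Agent.S4783

/-- Let S = lim S_i be a cofiltered limit of schemes whose transition maps are open immersions (in
particular affine), and let S_{i₀} be a Noetherian stage. Then S is integral if and only if there is
an index i over i₀ such that S_j is integral for every j over i. -/
theorem result {I : Type u} [SmallCategory I] [IsCofiltered I]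
    (D : I ⥤ Scheme.{u}) (c : Limits.Cone D) (hc : Limits.IsLimit c)
    [∀ (i j : I) (f : i ⟶ j), IsAffineHom (D.map f)] (i₀ : I)
    [IsNoetherian (D.obj i₀)] (hoi : ∀ (i j : I) (φ : i ⟶ j), IsOpenImmersion (D.map φ)) :
    IsIntegral c.pt ↔ ∃ (i : I) (_ : i ⟶ i₀), ∀ (j : I) (_ : j ⟶ i), IsIntegral (D.obj j) := by
  constructor
  · intro h
    rw [isIntegral_iff_irreducibleSpace_and_isReduced] at h
    obtain ⟨a, φ, ha⟩ := Groth.Agent.LimTop61.eventually_isReduced D c hc hoi i₀
      (fun U => haveI := IsLocallyNoetherian.component_noetherian U; Ideal.fg_of_isNoetherianRing _) h.2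
    obtain ⟨b, ψ, hb⟩ := Groth.Agent.LimTop61.eventually_irreducible D c hc hoi i₀ h.1
    obtain ⟨m, p, q, -⟩ := IsCofilteredOrEmpty.cone_objs a b
    refine ⟨m, p ≫ φ, fun j χ => ?_⟩
    rw [isIntegral_iff_irreducibleSpace_and_isReduced]
    exact ⟨hb j (χ ≫ q), ha j (χ ≫ p)⟩
  · rintro ⟨i, φ, h⟩
    rw [isIntegral_iff_irreducibleSpace_and_isReduced]
    refine ⟨?_, ?_⟩
    · by_contra h'
      obtain ⟨k, ψ, hk⟩ := Groth.Agent.LimTop61.eventually_not_irreducible D c hc i₀
        (Groth.Agent.LimTop61.exists_map_preimage_inf_eq_bot D c hc i₀) h'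
      obtain ⟨m, a, b, -⟩ := IsCofilteredOrEmpty.cone_objs i k
      exact hk m b ((isIntegral_iff_irreducibleSpace_and_isReduced _).mp (h m a)).1
    · by_contra h'
      obtain ⟨k, hk⟩ := Groth.Agent.LimTop61.eventually_not_isReduced D c hc h'
      obtain ⟨m, a, b, -⟩ := IsCofilteredOrEmpty.cone_objs i k
      exact hk m b ((isIntegral_iff_irreducibleSpace_and_isReduced _).mp (h m a)).2

end Groth.Agent.S4783
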