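import Groth.Statements.S4800
import Groth.Agent.LimTop61.FlatClosure
import Groth.Agent.LimTop61.BaseChange

set_option autoImplicit false
universe u
open CategoryTheory AlgebraicGeometry
open Lim8

namespace Groth.Agent.S4800

/-- Let S = lim S_i be a cofiltered limit of schemes whose transition maps are affine and flat, and
S_{i₀} a quasi-compact stage; let X₀ ⟶ S_{i₀} be quasi-compact, Y₀ ⟶ S_{i₀} quasi-compact and
quasi-separated, and f₀ : X₀ ⟶ Y₀ a morphism over S_{i₀} such that the closure of its image f₀(X₀)
is a constructible subset of Y₀. Let f : X ⟶ Y be the base change of f₀ along S ⟶ S_{i₀} (base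
changes are expressed by pullback squares). Then f is dominant if and only if, for some index j over
i₀ and the base change f_j : X_j ⟶ Y_j of f₀ along S_j ⟶ S_{i₀}, f_j is dominant. (The published
statement asks instead that the image f₀(X₀) itself be constructible, which is not enough: let R be
the ring of locally constant functions from the Cantor set to a field, take for stages the spectra
of the rings of locally constant functions on the clopen neighbourhoods of a point p, so that the
limit is the spectrum of the residue field at p, and take Y₀ = Spec R[t]/(m_p t) and X₀ its basic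
open subset where t is invertible; the image of X₀ is constructible, the limit morphism is the
inclusion of the punctured affine line into the affine line, which is dominant, and no stage
morphism is dominant. The published proof applies the criterion for a preimage to lie in the closure
of the preimage of a pro-constructible subset along a flat limit, whose hypothesis is that the
closure of that subset is constructible; the image f₀(X₀) is pro-constructible because f₀ is
quasi-compact, so constructibility of its closure is the hypothesis taken here.) -/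
theorem result {I : Type u} [SmallCategory I] [IsCofiltered I]
    (D : I ⥤ Scheme.{u}) (c : Limits.Cone D) (hc : Limits.IsLimit c)
    [∀ (i j : I) (f : i ⟶ j), IsAffineHom (D.map f)] (i₀ : I) [CompactSpace (D.obj i₀)]
    (hfl : ∀ (i j : I) (φ : i ⟶ j), Flat (D.map φ))
    {X₀ Y₀ : Scheme.{u}} (f₀ : X₀ ⟶ Y₀) (g₀ : Y₀ ⟶ D.obj i₀)
    [QuasiCompact (f₀ ≫ g₀)] [QuasiCompact g₀] [QuasiSeparated g₀]
    (hcl : Topology.IsConstructible (closure (Set.range ⇑f₀)))
    {X Y : Scheme.{u}} (f : X ⟶ Y) (g : Y ⟶ c.pt) (qY : Y ⟶ Y₀) (qX : X ⟶ X₀)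
    (hY : IsPullback qY g g₀ (c.π.app i₀)) (hX : IsPullback qX f f₀ qY) :
    IsDominant f ↔ ∃ (j : I) (φ : j ⟶ i₀) (Xj Yj : Scheme.{u}) (fj : Xj ⟶ Yj) (gj : Yj ⟶ D.obj j)
      (pY : Yj ⟶ Y₀) (pX : Xj ⟶ X₀), IsPullback pY gj g₀ (D.map φ) ∧ IsPullback pX fj f₀ pY ∧
      IsDominant fj := by
  have : CompactSpace Y₀ := QuasiCompact.compactSpace_of_compactSpace g₀
  have : QuasiCompact f₀ := QuasiCompact.of_comp f₀ g₀
  have hrange : Set.range f = ⇑qY ⁻¹' Set.range f₀ := by
    rw [← Set.image_univ, ← Set.image_univ, ← Scheme.image_preimage_eq_of_isPullback hX Set.univ]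
    rfl
  let E := Groth.Agent.LimTop61.bcDiagram D g₀
  have hlim := Groth.Agent.LimTop61.isLimitBcCone D c hc g₀ qY g hY
  let top : Over i₀ := Over.mk (𝟙 i₀)
  have : IsIso (D.map top.hom) := by show IsIso (D.map (𝟙 i₀)); infer_instance
  let e : E.obj top ⟶ Y₀ := Limits.pullback.fst g₀ (D.map top.hom)
  have : IsIso e := inferInstanceAs (IsIso (Limits.pullback.fst g₀ (D.map top.hom)))
  have hfl' : ∀ (j : Over i₀) (φ : j ⟶ top), Flat (E.map φ) := fun j φ =>
    MorphismProperty.of_isPullback (Groth.Agent.LimTop61.bcDiagram_map_isPullback D g₀ φ).flip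
      (hfl _ _ φ.left)
  have hZ' : Groth.Agent.LimTop61.IsConsClosed (e ⁻¹' Set.range f₀) :=
    (Groth.Agent.LimTop61.isConsClosed_range f₀).preimage e
  have hcl' : Groth.Agent.LimTop61.IsConsClosed (closure (e ⁻¹' Set.range f₀))ᶜ := by
    rw [Groth.Agent.LimTop61.closure_preimage_of_flat e
      (Groth.Agent.LimTop61.isConsClosed_range f₀), ← Set.preimage_compl]
    exact (Groth.Agent.LimTop61.isConsClosed_of_isConstructible hcl.compl).preimage e
  have key := Groth.Agent.LimTop61.preimage_subset_closure_preimage_iff E _ hlim hfl'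
    (e ⁻¹' Set.range f₀) Set.univ hZ'
    (Groth.Agent.LimTop61.isConsClosed_of_isClosed isClosed_univ) hcl'
  have pre : ∀ {A B C : Scheme.{u}} (a : A ⟶ B) (b : B ⟶ C) (m : A ⟶ C) (_ : a ≫ b = m)
      (s : Set C), ⇑a ⁻¹' (⇑b ⁻¹' s) = ⇑m ⁻¹' s := by
    rintro _ _ _ a b m rfl s
    rfl
  have hqY : ⇑((Groth.Agent.LimTop61.bcCone D c g₀ qY g hY.w).π.app top) ⁻¹'
      (⇑e ⁻¹' Set.range f₀) = Set.range f := by
    rw [hrange]
    exact pre _ e qY (Limits.pullback.lift_fst _ _ _) _
  constructor
  · intro h
    obtain ⟨j, φ, hj⟩ := key.mp fun y _ => by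
      have hy : y ∈ closure (Set.range f) := h.denseRange y
      exact hqY ▸ hy
    refine ⟨j.left, j.hom, _, _, Limits.pullback.snd f₀ (Limits.pullback.fst g₀ (D.map j.hom)),
      _, _, _, IsPullback.of_hasPullback g₀ (D.map j.hom),
      IsPullback.of_hasPullback f₀ (Limits.pullback.fst g₀ (D.map j.hom)), ⟨fun y => ?_⟩⟩
    have hy := hj (Set.mem_univ y)
    have he : E.map φ ≫ e = Limits.pullback.fst g₀ (D.map j.hom) :=
      Limits.pullback.lift_fst _ _ _
    rw [pre (E.map φ) e _ he] at hy
    show y ∈ closure (Set.range ⇑(Limits.pullback.snd f₀ (Limits.pullback.fst g₀ (D.map j.hom))))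
    rw [Scheme.Pullback.range_snd]
    exact hy
  · rintro ⟨j, φ, Xj, Yj, fj, gj, pY, pX, hYj, hXj, hdom⟩
    let jo : Over i₀ := Over.mk φ
    let ψ : jo ⟶ top := Over.homMk φ (by simp [top, jo])
    have h2 := key.mpr ⟨jo, ψ, fun y _ => by
      have he : E.map ψ ≫ e = Limits.pullback.fst g₀ (D.map φ) :=
        Limits.pullback.lift_fst _ _ _
      let iso := hYj.isoPullback
      have hy : iso.inv y ∈ closure (Set.range fj) := hdom.denseRange _
      have hr : Set.range fj = ⇑pY ⁻¹' Set.range f₀ := by
        rw [← Set.image_univ, ← Set.image_univ,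
          ← Scheme.image_preimage_eq_of_isPullback hXj Set.univ]
        rfl
      rw [hr] at hy
      have hy' := map_mem_closure iso.hom.continuous hy
        (t := ⇑(Limits.pullback.fst g₀ (D.map φ)) ⁻¹' Set.range f₀)
        (fun z hz => by
          show (iso.hom ≫ Limits.pullback.fst g₀ (D.map φ)) z ∈ Set.range f₀
          rw [hYj.isoPullback_hom_fst]
          exact hz)
      rw [pre (E.map ψ) e _ he]
      have hid : iso.hom (iso.inv y) = y :=
        (congrArg (fun m : Limits.pullback g₀ (D.map φ) ⟶ Limits.pullback g₀ (D.map φ) => m y)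
          iso.inv_hom_id)
      exact hid ▸ hy'⟩
    refine ⟨fun y => ?_⟩
    have hy := h2 (Set.mem_univ y)
    rw [hqY] at hy
    exact hy

end Groth.Agent.S4800
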