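import Groth.Statements.S4803
import Groth.Agent.FBase64.IndCons

set_option autoImplicit false
open CategoryTheory AlgebraicGeometry
universe u
open Cons9

namespace Groth.Agent.S4803

open CategoryTheory.Limits in
/-- Let g : Y ⟶ S and f : X ⟶ Y be such that X and Y are of finite presentation over S (locally of
finite presentation, quasi-compact and quasi-separated). For each point s of S let f_s be the
induced morphism from the fibre of f ≫ g over s to the fibre of g over s. Then the set of s for
which f_s is a quasi-affine morphism is ind-constructible in S. -/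
theorem result {X Y S : Scheme.{u}} (f : X ⟶ Y) (g : Y ⟶ S)
    [LocallyOfFinitePresentation g] [QuasiCompact g] [QuasiSeparated g]
    [LocallyOfFinitePresentation (f ≫ g)] [QuasiCompact (f ≫ g)] [QuasiSeparated (f ≫ g)] :
    ProCons.IsIndConstructible {s : S |
      MoreMor.IsQuasiAffineHom (pullback.lift (pullback.fst (f ≫ g) (S.fromSpecResidueField s) ≫ f) (pullback.snd (f ≫ g) (S.fromSpecResidueField s))
          ((Category.assoc _ _ _).trans pullback.condition) :
        pullback (f ≫ g) (S.fromSpecResidueField s) ⟶ pullback g (S.fromSpecResidueField s))} := by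
  obtain ⟨h1, h2, h3⟩ := Cons62.fp_hyps f g
  haveI := ConsProp93.isStableUnderBaseChange_qAff.{u}
  haveI : (ConsProp93.QAff.{u}).RespectsIso := MorphismProperty.IsStableUnderBaseChange.respectsIso
  exact (Cons62.setOf_lift_eq (P := ConsProp93.QAff.{u}) f g).symm ▸
    FBase64.isIndConstructible_goodSet (P := ConsProp93.QAff.{u})
      LimDesc62.descProp_isQuasiAffine f g ⟨h1, h2, h3, inferInstance, inferInstance, inferInstance⟩

end Groth.Agent.S4803
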