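import Groth.Statements.S4807
import Groth.Agent.LimTop61.ImmLimit
import Groth.Agent.Approx60.FiniteLimit

set_option autoImplicit false
set_option backward.isDefEq.respectTransparency false
universe u
open CategoryTheory AlgebraicGeometry
open Lim8

namespace Groth.Agent.S4807

/-- Let Y be a quasi-compact quasi-separated scheme and f : X ⟶ Y a separated morphism of finite type.
Let X' be the relative normalization of Y in X, the spectrum of the integral closure of O_Y in
f_*O_X, with its canonical morphism g : X ⟶ X'. Then f admits a factorization X ⟶ Y' ⟶ Y into an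
immersion followed by a finite morphism if and only if g is an immersion. -/
theorem result {X Y : Scheme.{u}} (f : X ⟶ Y)
    [CompactSpace Y] [QuasiSeparatedSpace Y] [IsSeparated f] [LocallyOfFiniteType f] [QuasiCompact f] :
    (∃ (Y' : Scheme.{u}) (f' : X ⟶ Y') (u : Y' ⟶ Y), IsImmersion f' ∧ IsFinite u ∧ f' ≫ u = f) ↔
      IsImmersion f.toNormalization := by
  constructor
  · rintro ⟨Y', f', u, hf', hu, rfl⟩
    have : IsImmersion ((f' ≫ u).toNormalization ≫ (f' ≫ u).normalizationDesc f' u rfl) := by
      rw [Scheme.Hom.toNormalization_normalizationDesc]; exact hf'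
    exact IsImmersion.of_comp _ ((f' ≫ u).normalizationDesc f' u rfl)
  · intro hg
    obtain ⟨α, _, _, _, D, π, ⟨hl⟩, hD⟩ := Groth.Agent.Approx60.exists_integral_limit f.fromNormalization
    have : CompactSpace X := QuasiCompact.compactSpace_of_compactSpace f
    let E := D ⋙ Over.forget Y
    let c : Limits.Cone E := (Over.forget Y).mapCone (Limits.Cone.mk (Over.mk f.fromNormalization) π)
    have hc : Limits.IsLimit c := Limits.isLimitOfPreserves (Over.forget Y) hl
    have : ∀ i, IsFinite (D.obj i).hom := fun i => (hD i).1
    have : ∀ (i j : αᵒᵖ) (a : i ⟶ j), IsAffineHom (E.map a) := fun i j a => by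
      have : IsAffineHom ((D.map a).left ≫ (D.obj j).hom) := by rw [Over.w]; infer_instance
      exact IsAffineHom.of_comp (D.map a).left (D.obj j).hom
    have : ∀ i, CompactSpace (E.obj i) := fun i => by
      let d : (D.obj i).left ⟶ Y := (D.obj i).hom
      have : IsFinite d := (hD i).1
      exact QuasiCompact.compactSpace_of_compactSpace d
    have : ∀ i, QuasiSeparatedSpace (E.obj i) := fun i => by
      let d : (D.obj i).left ⟶ Y := (D.obj i).hom
      have : IsFinite d := (hD i).1
      exact quasiSeparatedSpace_of_quasiSeparated d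
    have : IsCofiltered αᵒᵖ := inferInstance
    obtain ⟨i⟩ := IsCofiltered.nonempty (C := αᵒᵖ)
    let h : X ⟶ c.pt := f.toNormalization
    have : IsImmersion h := hg
    have e : ∀ j, (h ≫ c.π.app j) ≫ (D.obj j).hom = f := fun j => by
      refine (Category.assoc _ _ _).trans ?_
      rw [show c.π.app j ≫ (D.obj j).hom = f.fromNormalization from Over.w (π.app j)]
      exact f.toNormalization_fromNormalization
    have : LocallyOfFiniteType (h ≫ c.π.app i) := by
      have : LocallyOfFiniteType ((h ≫ c.π.app i) ≫ (D.obj i).hom) := by rw [e]; infer_instance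
      exact locallyOfFiniteType_of_comp _ (D.obj i).hom
    obtain ⟨j, -, hj⟩ := Groth.Agent.LimTop61.exists_isImmersion_stage E c hc i h
    exact ⟨_, h ≫ c.π.app j, (D.obj j).hom, hj, (hD j).1, e j⟩

end Groth.Agent.S4807
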