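import Groth.Statements.S4809
import Groth.Agent.LimTop61.BirationalZMT

set_option autoImplicit false
universe u
open CategoryTheory AlgebraicGeometry
open Lim8

namespace Groth.Agent.S4809

/-- Let Y be an integral normal scheme (every local ring integrally closed), X an integral scheme, and f
: X ⟶ Y a locally quasi-finite morphism (locally of finite type with discrete fibres) which is
birational: f maps the generic point of X to that of Y and its stalk map at the generic point of X,
the induced homomorphism of function fields, is an isomorphism. Then f is a local isomorphism, and f
is an open immersion as soon as it is separated. -/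
theorem result {X Y : Scheme.{u}} [IsIntegral X] [IsIntegral Y]
    (hN : ∀ y : Y, IsIntegrallyClosed (Y.presheaf.stalk y)) (f : X ⟶ Y) [LocallyQuasiFinite f]
    [LocallyOfFiniteType f] (hgen : f (genericPoint X) = genericPoint Y)
    (hbir : IsIso (f.stalkMap (genericPoint X))) :
    IsLocalIso f ∧ (IsSeparated f → IsOpenImmersion f) := by
  have := Groth.Agent.LimTop61.isLocalIso_of_birational f hN hgen hbir
  exact ⟨this, fun _ => Groth.Agent.LimTop61.isOpenImmersion_of_isLocalIso f⟩

end Groth.Agent.S4809
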