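import Groth.Statements.S4815
import Groth.Agent.LimTop61.ImmStage

set_option autoImplicit false
set_option backward.isDefEq.respectTransparency false
universe u
open CategoryTheory AlgebraicGeometry
open Lim8

namespace Groth.Agent.S4815

/-- Let S = lim S_i be a cofiltered limit of schemes with affine transition maps and S_{i₀} a
quasi-compact quasi-separated stage. Then every subscheme of finite presentation of S, that is every
immersion ι : Z ⟶ S which is locally of finite presentation and quasi-compact, is the base change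
along S ⟶ S_j of an immersion of finite presentation Z_j ⟶ S_j, for some index j over i₀ (the base
change is expressed by a pullback square). -/
theorem result {I : Type u} [SmallCategory I] [IsCofiltered I]
    (D : I ⥤ Scheme.{u}) (c : Limits.Cone D) (hc : Limits.IsLimit c)
    [∀ (i j : I) (f : i ⟶ j), IsAffineHom (D.map f)] (i₀ : I)
    [CompactSpace (D.obj i₀)] [QuasiSeparatedSpace (D.obj i₀)]
    {Z : Scheme.{u}} (ι : Z ⟶ c.pt) [IsImmersion ι] [LocallyOfFinitePresentation ι] [QuasiCompact ι] :
    ∃ (j : I) (_ : j ⟶ i₀) (Zj : Scheme.{u}) (ιj : Zj ⟶ D.obj j) (q : Z ⟶ Zj),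
      IsImmersion ιj ∧ LocallyOfFinitePresentation ιj ∧ QuasiCompact ιj ∧ IsPullback q ι ιj (c.π.app j) := by
  have hQC (j : Over i₀) : CompactSpace ↥((Over.forget i₀ ⋙ D).obj j) :=
    have : IsAffineHom (D.map j.hom) := ‹∀ (i j : I) (f : i ⟶ j), IsAffineHom (D.map f)› _ _ _
    QuasiCompact.compactSpace_of_compactSpace (D.map j.hom)
  have hQS (j : Over i₀) : QuasiSeparatedSpace ↥((Over.forget i₀ ⋙ D).obj j) :=
    have : IsAffineHom (D.map j.hom) := ‹∀ (i j : I) (f : i ⟶ j), IsAffineHom (D.map f)› _ _ _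
    quasiSeparatedSpace_of_quasiSeparated (D.map j.hom)
  have (j k : Over i₀) (f : j ⟶ k) : IsAffineHom ((Over.forget i₀ ⋙ D).map f) :=
    inferInstanceAs (IsAffineHom (D.map f.left))
  let c' : Limits.Cone (Over.forget i₀ ⋙ D) := c.whisker (Over.forget i₀)
  obtain ⟨j, Zj, ιj, q, h1, h2, h3, h4⟩ := @Groth.Agent.LimTop61.exists_immersion_descend _ _ _
    (Over.forget i₀ ⋙ D) c' ((Functor.Initial.isLimitWhiskerEquiv (Over.forget i₀) c).symm hc)
    _ hQC hQS Z ι _ _ _
  exact ⟨j.left, j.hom, Zj, ιj, q, h1, h2, h3, h4⟩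

end Groth.Agent.S4815
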