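import Groth.Statements.S4816
import Groth.Agent.LimTop61.ImmIso

set_option autoImplicit false
universe u
open CategoryTheory AlgebraicGeometry
open Lim8

namespace Groth.Agent.S4816

open CategoryTheory.Limits in
/-- Let S = lim S_i be a cofiltered limit of schemes with affine transition maps and S_{i₀} a
quasi-compact stage; let ι₁ : Z₁ ⟶ S_{i₀} and ι₂ : Z₂ ⟶ S_{i₀} be two subschemes of finite
presentation of S_{i₀} (immersions which are locally of finite presentation and quasi-compact), with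
base changes Z₁ ×_{S_{i₀}} T ⟶ T to T = S and to T = S_j. Then Z₁ ×_{S_{i₀}} S is a subscheme of Z₂
×_{S_{i₀}} S (its immersion into S factors through that of Z₂ ×_{S_{i₀}} S) if and only if, for some
index j over i₀, Z₁ ×_{S_{i₀}} S_j is a subscheme of Z₂ ×_{S_{i₀}} S_j. -/
theorem result {I : Type u} [SmallCategory I] [IsCofiltered I]
    (D : I ⥤ Scheme.{u}) (c : Limits.Cone D) (hc : Limits.IsLimit c)
    [∀ (i j : I) (f : i ⟶ j), IsAffineHom (D.map f)] (i₀ : I) [CompactSpace (D.obj i₀)]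
    {Z₁ Z₂ : Scheme.{u}} (ι₁ : Z₁ ⟶ D.obj i₀) (ι₂ : Z₂ ⟶ D.obj i₀)
    [IsImmersion ι₁] [LocallyOfFinitePresentation ι₁] [QuasiCompact ι₁]
    [IsImmersion ι₂] [LocallyOfFinitePresentation ι₂] [QuasiCompact ι₂] :
    (∃ k : pullback ι₁ (c.π.app i₀) ⟶ pullback ι₂ (c.π.app i₀),
        k ≫ pullback.snd ι₂ (c.π.app i₀) = pullback.snd ι₁ (c.π.app i₀)) ↔
      ∃ (j : I) (φ : j ⟶ i₀) (k : pullback ι₁ (D.map φ) ⟶ pullback ι₂ (D.map φ)),
        k ≫ pullback.snd ι₂ (D.map φ) = pullback.snd ι₁ (D.map φ) := by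
  refine ⟨fun ⟨k, hk⟩ => Groth.Agent.LimTop61.exists_factor_pullback D c hc ι₁ ι₂ k hk,
    fun ⟨j, φ, k, hk⟩ => ?_⟩
  let w : pullback ι₁ (c.π.app i₀) ⟶ pullback ι₁ (D.map φ) :=
    pullback.lift (pullback.fst ι₁ (c.π.app i₀)) (pullback.snd _ _ ≫ c.π.app j)
      (by rw [Category.assoc, c.w, pullback.condition])
  refine ⟨pullback.lift (w ≫ k ≫ pullback.fst ι₂ (D.map φ)) (pullback.snd _ _) ?_,
    pullback.lift_snd _ _ _⟩
  rw [Category.assoc, Category.assoc, pullback.condition, reassoc_of% hk,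
    pullback.lift_snd_assoc, Category.assoc, c.w]

end Groth.Agent.S4816
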