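import Groth.Statements.S4817
import Groth.Agent.LimTop61.ImmDescent

set_option autoImplicit false
universe u
open CategoryTheory AlgebraicGeometry
open Lim8

namespace Groth.Agent.S4817

open CategoryTheory.Limits in
/-- Let S = lim S_i be a cofiltered limit of schemes with affine transition maps and S_{i₀} a
quasi-compact stage; let ι₀ : Z₀ ⟶ S_{i₀} be a subscheme of finite presentation (an immersion which
is locally of finite presentation and quasi-compact). Then the base change Z₀ ×_{S_{i₀}} S ⟶ S of ι₀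
is an open immersion if and only if, for some index j over i₀, the base change Z₀ ×_{S_{i₀}} S_j ⟶
S_j is an open immersion. This is the case of open subschemes. -/
theorem result {I : Type u} [SmallCategory I] [IsCofiltered I]
    (D : I ⥤ Scheme.{u}) (c : Limits.Cone D) (hc : Limits.IsLimit c)
    [∀ (i j : I) (f : i ⟶ j), IsAffineHom (D.map f)] (i₀ : I) [CompactSpace (D.obj i₀)]
    {Z₀ : Scheme.{u}} (ι₀ : Z₀ ⟶ D.obj i₀) [IsImmersion ι₀] [LocallyOfFinitePresentation ι₀] [QuasiCompact ι₀] :
    IsOpenImmersion (pullback.snd ι₀ (c.π.app i₀)) ↔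
      ∃ (j : I) (φ : j ⟶ i₀), IsOpenImmersion (pullback.snd ι₀ (D.map φ)) := by
  refine ⟨fun h => Groth.Agent.LimTop61.exists_isOpenImmersion_pullback D c hc ι₀ h, fun ⟨j, φ, h⟩ => ?_⟩
  have sq : IsPullback
      (pullback.lift (pullback.fst ι₀ (c.π.app i₀)) (pullback.snd _ _ ≫ c.π.app j)
        (by rw [pullback.condition, Category.assoc, c.w]) :
          pullback ι₀ (c.π.app i₀) ⟶ pullback ι₀ (D.map φ))
      (pullback.snd ι₀ (c.π.app i₀)) (pullback.snd ι₀ (D.map φ)) (c.π.app j) := by
    refine IsPullback.of_right (h₁₂ := pullback.fst ι₀ (D.map φ)) (h₂₂ := D.map φ) (v₁₃ := ι₀)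
      ?_ (pullback.lift_snd _ _ _) (IsPullback.of_hasPullback ι₀ (D.map φ))
    rw [pullback.lift_fst, c.w]
    exact IsPullback.of_hasPullback ι₀ (c.π.app i₀)
  exact MorphismProperty.of_isPullback (P := @IsOpenImmersion) sq h

end Groth.Agent.S4817
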