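import Groth.Statements.S4823
import Groth.Agent.LimTop61.FgSubalgLimit
import Groth.Agent.LimTop61.BaseChange
import Groth.Agent.S4790
import Groth.Agent.QCPull72.Sections
import Mathlib.AlgebraicGeometry.Noetherian
import Mathlib.CategoryTheory.Filtered.Small
import Mathlib.RingTheory.Jacobson.Ring

set_option autoImplicit false
set_option backward.isDefEq.respectTransparency false
open CategoryTheory AlgebraicGeometry
universe u
open Cons9
open CategoryTheory.Limits

namespace Groth.Agent.S4823

open CategoryTheory.Limits in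
/-- Let k be a field, Ω an algebraically closed extension field of k, X a scheme of finite type over k
and F, G two coherent O_X-modules (quasi-coherent of finite presentation). If the pullbacks of F and
G to X ⊗_k Ω are isomorphic, then there is a finite extension k' of k such that the pullbacks of F
and G to X ⊗_k k' are already isomorphic (base changes are the chosen fibre products with Spec of
the extension, and the modules are pulled back along the first projection). -/
theorem result {k : Type u} [Field k] {X : Scheme.{u}}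
    (p : X ⟶ Spec (CommRingCat.of k)) [LocallyOfFiniteType p] [QuasiCompact p]
    (F G : X.Modules) [Coh.IsQCoh F] [Coh.IsQCoh G] (hF : CohB1.IsFP F) (hG : CohB1.IsFP G)
    (Ω : Type u) [Field Ω] [Algebra k Ω] [IsAlgClosed Ω]
    (e : (Scheme.Modules.pullback (pullback.fst p (Spec.map (CommRingCat.ofHom (algebraMap k Ω))))).obj F ≅
      (Scheme.Modules.pullback (pullback.fst p (Spec.map (CommRingCat.ofHom (algebraMap k Ω))))).obj G) :
    ∃ (k' : Type u) (_ : Field k') (_ : Algebra k k') (_ : Module.Finite k k'),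
      Nonempty ((Scheme.Modules.pullback (pullback.fst p (Spec.map (CommRingCat.ofHom (algebraMap k k'))))).obj F ≅
        (Scheme.Modules.pullback (pullback.fst p (Spec.map (CommRingCat.ofHom (algebraMap k k'))))).obj G) := by
  classical
  let A := CommRingCat.of k
  let B := CommRingCat.of Ω
  letI : Algebra A B := inferInstanceAs (Algebra k Ω)
  let D := Groth.Agent.LimTop61.subalgSpec A B
  let c := Groth.Agent.LimTop61.subalgCone A B
  let g := Spec.map (CommRingCat.ofHom (algebraMap k Ω))
  let t : ∀ j, D.obj j ⟶ Spec A := fun j => Spec.map (CommRingCat.ofHom (algebraMap A j.unop.1))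
  have ht : ∀ {i j} (φ : i ⟶ j), D.map φ ≫ t j = t i := fun {i j} φ => by
    simp only [D, t, Groth.Agent.LimTop61.subalgSpec, Functor.comp_map, Functor.op_map, Scheme.Spec_map,
      Quiver.Hom.unop_op]
    rw [← Spec.map_comp]
    rfl
  have hπ : ∀ j, c.π.app j ≫ t j = g := fun j => by
    simp only [c, t, Groth.Agent.LimTop61.subalgCone, Functor.mapCone_π_app]
    erw [← Spec.map_comp]
    rfl
  let j₀ : (Groth.Agent.LimTop61.FgSubalg A B)ᵒᵖ := Opposite.op ⟨⊥, Subalgebra.fg_bot⟩
  haveI : IsLocallyNoetherian X := LocallyOfFiniteType.isLocallyNoetherian p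
  haveI : QuasiSeparated p := inferInstance
  haveI : CompactSpace (D.obj j₀) := inferInstanceAs (CompactSpace ↥(Spec _))
  haveI : QuasiSeparatedSpace (D.obj j₀) := inferInstanceAs (QuasiSeparatedSpace ↥(Spec _))
  have key : ∀ {Z : Scheme.{u}} (r : Z ⟶ Spec A), ∃ qZ : pullback r g ⟶ pullback r (t j₀),
      IsPullback qZ (pullback.snd r g) (pullback.snd r (t j₀)) (c.π.app j₀) ∧
        qZ ≫ pullback.fst r (t j₀) = pullback.fst r g := fun {Z} r =>
    ⟨pullback.lift (pullback.fst r g) (pullback.snd r g ≫ c.π.app j₀)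
      (by rw [Category.assoc, hπ, pullback.condition]),
     IsPullback.of_right (by rw [pullback.lift_fst, hπ]; exact IsPullback.of_hasPullback _ _)
      (pullback.lift_snd _ _ _) (IsPullback.of_hasPullback _ _), pullback.lift_fst _ _ _⟩
  obtain ⟨qX, hX, hqX'⟩ := key p
  haveI : IsDirectedOrder (Groth.Agent.LimTop61.FgSubalg A B) :=
    ⟨fun S T => ⟨⟨S.1 ⊔ T.1, S.2.sup T.2⟩, le_sup_left (a := S.1), le_sup_right (a := S.1)⟩⟩
  haveI : Nonempty (Groth.Agent.LimTop61.FgSubalg A B) := ⟨⟨⊥, Subalgebra.fg_bot⟩⟩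
  haveI hfil : IsFiltered (Groth.Agent.LimTop61.FgSubalg A B) :=
    isFiltered_of_directed_le_nonempty _
  haveI : IsCofiltered (Groth.Agent.LimTop61.FgSubalg A B)ᵒᵖ := isCofiltered_op_of_isFiltered _
  let a₀ := pullback.snd p (t j₀)
  let P := Groth.Agent.LimTop61.bcDiagram D a₀
  let cP := Groth.Agent.LimTop61.bcCone D c a₀ qX (pullback.snd p g) hX.w
  have hP : IsLimit cP :=
    Groth.Agent.LimTop61.isLimitBcCone D c (Groth.Agent.LimTop61.isLimitSubalgCone A B) a₀ _ _ hX
  let pr : ∀ j, P.obj j ⟶ X := fun j => pullback.fst a₀ (D.map j.hom) ≫ pullback.fst p (t j₀)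
  let o : Over j₀ := Over.mk (𝟙 j₀)
  have hqX : qX ≫ pullback.fst p (t j₀) = pullback.fst p g := hqX'
  have hcomp : cP.π.app o ≫ pr o = pullback.fst p g :=
    (pullback.lift_fst_assoc _ _ _ _).trans hqX
  haveI : CompactSpace ↥(pullback p (t j₀)) := QuasiCompact.compactSpace_of_compactSpace a₀
  haveI : QuasiSeparatedSpace ↥(pullback p (t j₀)) := quasiSeparatedSpace_of_quasiSeparated a₀
  let F₀ := (Scheme.Modules.pullback (pr o)).obj F
  let G₀ := (Scheme.Modules.pullback (pr o)).obj G
  haveI : Coh.IsQCoh F₀ := Groth.Agent.QCPull72.isQuasicoherent_pullback (pr o) F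
  haveI : Coh.IsQCoh G₀ := Groth.Agent.QCPull72.isQuasicoherent_pullback (pr o) G
  haveI : CohB1.IsFP F := hF
  haveI : CohB1.IsFP G := hG
  obtain ⟨j, φ, ⟨e'⟩⟩ := (Groth.Agent.S4790.result P cP hP o F₀ G₀
    (Groth.Agent.LimTop61.isFP_pullback _ F) (Groth.Agent.LimTop61.isFP_pullback _ G)).mp
      ⟨(Groth.Agent.LimTop61.pullbackCompIso (pr o) (cP.π.app o) hcomp).app F ≪≫ e ≪≫
        ((Groth.Agent.LimTop61.pullbackCompIso (pr o) (cP.π.app o) hcomp).app G).symm⟩
  have hφ : P.map φ ≫ pr o = pr j := pullback.lift_fst_assoc _ _ _ _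
  let S := j.left.unop.1
  haveI : Algebra.FiniteType k S := ⟨(Subalgebra.fg_top _).mpr j.left.unop.2⟩
  obtain ⟨m, hm⟩ := Ideal.exists_maximal S
  let k' := S ⧸ m
  letI : Field k' := Ideal.Quotient.field m
  haveI : Algebra.FiniteType k k' := Algebra.FiniteType.trans (S := S) inferInstance inferInstance
  haveI : Module.Finite k k' := finite_of_finite_type_of_isJacobsonRing k k'
  let r : Spec (CommRingCat.of k') ⟶ D.obj j.left := Spec.map (CommRingCat.ofHom (Ideal.Quotient.mk m))
  have hr : r ≫ t j.left = Spec.map (CommRingCat.ofHom (algebraMap k k')) := by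
    show Spec.map _ ≫ Spec.map _ = _
    rw [← Spec.map_comp]; rfl
  let g' := Spec.map (CommRingCat.ofHom (algebraMap k k'))
  let v : pullback p g' ⟶ P.obj j := pullback.lift
    (pullback.lift (pullback.fst p g') (pullback.snd p g' ≫ r ≫ D.map j.hom)
      (by rw [Category.assoc, Category.assoc, ht, hr]; exact pullback.condition))
    (pullback.snd p g' ≫ r) (by rw [pullback.lift_snd, Category.assoc])
  have hv : v ≫ pr j = pullback.fst p g' :=
    (pullback.lift_fst_assoc _ _ _ _).trans (pullback.lift_fst _ _ _)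
  let ψ : ∀ M : X.Modules, (Scheme.Modules.pullback v).obj ((Scheme.Modules.pullback (P.map φ)).obj
      ((Scheme.Modules.pullback (pr o)).obj M)) ≅ (Scheme.Modules.pullback (pullback.fst p g')).obj M := fun M =>
    (Scheme.Modules.pullback v).mapIso
      ((Groth.Agent.LimTop61.pullbackCompIso (pr o) (P.map φ) hφ).app M) ≪≫
      (Groth.Agent.LimTop61.pullbackCompIso (pr j) v hv).app M
  exact ⟨k', inferInstance, inferInstance, inferInstance,
    ⟨(ψ F).symm ≪≫ (Scheme.Modules.pullback v).mapIso e' ≪≫ ψ G⟩⟩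

end Groth.Agent.S4823
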