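import Groth.Statements.S4825
import Groth.Agent.LimTop61.PseudoFinite

set_option autoImplicit false
set_option backward.isDefEq.respectTransparency false
open CategoryTheory AlgebraicGeometry
universe u
open Lim8

namespace Groth.Agent.S4825

open CategoryTheory.Limits in
/-- Let Y be a Noetherian scheme and f : X ⟶ Y a morphism of finite type. Then f admits a factorization
into an immersion followed by a finite morphism if and only if, for every point y of Y, the base
change X ×_Y Spec O_{Y,y} ⟶ Spec O_{Y,y} of f to the local scheme of Y at y admits such a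
factorization. (Pointwise criterion for pseudo-finite morphisms.) -/
theorem result {X Y : Scheme.{u}} (f : X ⟶ Y) [IsNoetherian Y]
    [LocallyOfFiniteType f] [QuasiCompact f] :
    (∃ (Y' : Scheme.{u}) (f' : X ⟶ Y') (u : Y' ⟶ Y), IsImmersion f' ∧ IsFinite u ∧ f' ≫ u = f) ↔
      ∀ y : Y, ∃ (Z : Scheme.{u}) (g : pullback f (Y.fromSpecStalk y) ⟶ Z) (u : Z ⟶ Spec (Y.presheaf.stalk y)),
        IsImmersion g ∧ IsFinite u ∧ g ≫ u = pullback.snd f (Y.fromSpecStalk y) := by
  constructor
  · rintro ⟨Y', f', u, hf', hu, rfl⟩ y
    let j := Y.fromSpecStalk y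
    let g : pullback (f' ≫ u) j ⟶ pullback u j := pullback.lift (pullback.fst _ _ ≫ f') (pullback.snd _ _)
      (by rw [Category.assoc]; exact pullback.condition)
    have hsq : IsPullback (pullback.fst (f' ≫ u) j) g f' (pullback.fst u j) := by
      refine IsPullback.of_bot ?_ (pullback.lift_fst _ _ _).symm (IsPullback.of_hasPullback u j)
      rw [pullback.lift_snd]
      exact IsPullback.of_hasPullback _ _
    refine ⟨_, g, pullback.snd u j, ?_, MorphismProperty.pullback_snd _ _ hu, pullback.lift_snd _ _ _⟩
    rw [← hsq.isoPullback_hom_snd]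
    infer_instance
  · intro h
    have : IsLocallyNoetherian X := LocallyOfFiniteType.isLocallyNoetherian f
    have : QuasiSeparatedSpace X := inferInstance
    have : QuasiSeparated f := inferInstance
    choose T j hj hy hpf using fun y => Groth.Agent.LimTop61.exists_pseudoFinite_nhd f y (h y)
    let 𝒰 : Y.OpenCover :=
      { I₀ := Y
        X := T
        f := j
        mem₀ := by
          rw [AlgebraicGeometry.Scheme.presieve₀_mem_precoverage_iff]
          exact ⟨fun y => ⟨y, hy y⟩, hj⟩ }
    exact Groth.Agent.LimTop61.pseudoFinite_of_toNormalization f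
      (Groth.Agent.LimTop61.isImmersion_toNormalization_of_cover f 𝒰 hpf)

end Groth.Agent.S4825
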