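import Groth.Statements.S4828
import Groth.Agent.FBase64.Cons.FibreForall
import Groth.Agent.S3454

set_option autoImplicit false
open CategoryTheory AlgebraicGeometry
universe u
open Cons9

namespace Groth.Agent.S4828

/-- Let f : X ⟶ S be a morphism of finite presentation (locally of finite presentation, quasi-compact
and quasi-separated) and k a natural number. Then the set of points s of S whose fibre X_s has the
geometric property (R_k), i.e. such that for every extension field K of κ(s) all local rings of X_s
⊗_{κ(s)} K satisfy Serre's condition (R_k), is locally constructible in S. -/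
theorem result {X S : Scheme.{u}} (f : X ⟶ S)
    [LocallyOfFinitePresentation f] [QuasiCompact f] [QuasiSeparated f] (k : ℕ) :
    Topology.IsLocallyConstructible {s : S |
      ∀ (K : Type u) [Field K] [Algebra (IsLocalRing.ResidueField (S.presheaf.stalk s)) K]
        (x' : ↥(FBase.bc (f.fiberToSpecResidueField s) K)),
        LocCoh.HasRk k ((FBase.bc (f.fiberToSpecResidueField s) K).presheaf.stalk x')} := by
  have h := Groth.Agent.FBase64.isLocallyConstructible_forall_fiber f
    (fun s z => ∀ (K : Type u) [Field K] [Algebra (IsLocalRing.ResidueField (S.presheaf.stalk s)) K]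
      (x' : ↥(FBase.bc (f.fiberToSpecResidueField s) K)),
      (FBase.bcπ (f.fiberToSpecResidueField s) K).base x' = z →
        LocCoh.HasRk k ((FBase.bc (f.fiberToSpecResidueField s) K).presheaf.stalk x'))
    (Groth.Agent.S3454.result f k)
  convert h using 1
  ext s
  exact ⟨fun h z K _ _ x' _ => h K x', fun h K _ _ x' => h _ K x' rfl⟩

end Groth.Agent.S4828
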