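import Groth.Statements.S4831
import Groth.Agent.FBase64.AssFibre.Torsion

set_option autoImplicit false
open CategoryTheory AlgebraicGeometry
universe u
open Cons9

namespace Groth.Agent.S4831

/-- Let S be a locally Noetherian scheme, f : X ⟶ S a morphism of finite type and F a coherent
O_X-module; suppose that every fibre X_s is locally integral (all its local rings are integral
domains). For s in S let F_s be the pullback of F to the fibre X_s. Then the set of s such that F_s
is a torsion module over O_{X_s} (each stalk of F_s is its own torsion submodule over the local ring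
of X_s, an integral domain) is locally constructible in S. -/
theorem result {X S : Scheme.{u}} (f : X ⟶ S) [IsLocallyNoetherian S]
    [LocallyOfFiniteType f] [QuasiCompact f] (F : X.Modules) [Coh.IsQCoh F] (hF : CohB1.IsFP F)
    (hint : ∀ (s : S) (x : ↥(f.fiber s)), IsDomain ((f.fiber s).presheaf.stalk x)) :
    Topology.IsLocallyConstructible {s : S | ∀ x : ↥(f.fiber s),
      Submodule.torsion ((f.fiber s).presheaf.stalk x) (((Scheme.Modules.pullback (f.fiberι s)).obj F).presheaf.stalk x) = ⊤} := by
  have h := Groth.Agent.ConsProp93.isLocallyConstructible_locusMod_noetherian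
    (Groth.Agent.FBase64.AssFibre.isConsMod_assMax False) f F (Groth.Agent.ConsProp93.isCoh_of_isFP ‹_› hF)
  convert h using 1
  ext s
  haveI := LocallyOfFiniteType.isLocallyNoetherian (f.fiberToSpecResidueField s)
  refine ((Groth.Agent.FBase64.AssFibre.torsion_iff _
    (Groth.Agent.QCPull72.isQuasicoherent_pullback _ F) (hint s)).1).trans ?_
  exact forall₂_congr fun _ _ => (iff_false _).symm.to_iff

end Groth.Agent.S4831
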