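import Groth.Statements.S4835
import Groth.Agent.LimTop61.ModColim

set_option autoImplicit false
open CategoryTheory CategoryTheory.Limits
universe u
open Lim8

namespace Groth.Agent.S4835

/-- Let A be a commutative ring, M an A-module of finite presentation and (N_λ) an inductive system of
A-modules indexed by a nonempty directed preordered set. Then the canonical map colim_λ Hom_A(M,
N_λ) → Hom_A(M, colim_λ N_λ), sending a compatible system of homomorphisms to its inductive limit,
is bijective. This is the form established in the source's proof (finite presentation case). -/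
theorem result {A : Type u} [CommRing A] (M : ModuleCat.{u} A)
    [Module.FinitePresentation A M] {J : Type u} [Preorder J] [IsDirected J (· ≤ ·)] [Nonempty J]
    (N : J ⥤ ModuleCat.{u} A) :
    Function.Bijective (colimit.post N (coyoneda.obj (Opposite.op M))) := by
  refine ⟨?_, fun g => ?_⟩
  · intro x y h
    obtain ⟨i, f, rfl⟩ := Types.jointly_surjective_of_isColimit
      (colimit.isColimit (N ⋙ coyoneda.obj (Opposite.op M))) x
    obtain ⟨j, g, rfl⟩ := Types.jointly_surjective_of_isColimit
      (colimit.isColimit (N ⋙ coyoneda.obj (Opposite.op M))) y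
    replace h : f ≫ colimit.ι N i = g ≫ colimit.ι N j := by
      have hi := congrArg (fun m => (ConcreteCategory.hom m) f)
        (colimit.ι_post N (coyoneda.obj (Opposite.op M)) i)
      have hj := congrArg (fun m => (ConcreteCategory.hom m) g)
        (colimit.ι_post N (coyoneda.obj (Opposite.op M)) j)
      exact hi.symm.trans (h.trans hj)
    obtain ⟨m, a, b, -⟩ := IsFilteredOrEmpty.cocone_objs i j
    obtain ⟨k, c, hk⟩ := Groth.Agent.LimTop61.exists_comp_map_eq N (f ≫ N.map a) (g ≫ N.map b)
      (by rw [Category.assoc, Category.assoc, colimit.w, colimit.w]; exact h)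
    refine (Types.FilteredColimit.colimit_eq_iff (N ⋙ coyoneda.obj (Opposite.op M))).mpr
      ⟨k, a ≫ c, b ≫ c, ?_⟩
    simpa using hk
  · obtain ⟨i, f, hf⟩ := Groth.Agent.LimTop61.exists_comp_ι_eq N g
    refine ⟨colimit.ι (N ⋙ coyoneda.obj (Opposite.op M)) i f, ?_⟩
    exact (congrArg (fun m => (ConcreteCategory.hom m) f)
      (colimit.ι_post N (coyoneda.obj (Opposite.op M)) i)).trans hf

end Groth.Agent.S4835
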