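import Groth.Statements.S4837
import Groth.Agent.EGAProj74.RelSpecGamma
import Mathlib.AlgebraicGeometry.Morphisms.SchemeTheoreticallyDominant

set_option autoImplicit false
set_option backward.isDefEq.respectTransparency false
open CategoryTheory AlgebraicGeometry
universe u
open Lim8

namespace Groth.Agent.S4837

/-- Let f : X ⟶ Y be a quasi-compact quasi-separated morphism, C a quasi-coherent O_Y-algebra with
relative spectrum Z = Spec(C) over Y, g : X ⟶ Z a Y-morphism which is an immersion, and φ : C ⟶
f_*O_X the homomorphism of O_Y-algebras corresponding to g (the canonical identification of C with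
the direct image of O_Z followed by the map induced by g). Then the scheme-theoretic image of g is
the whole of Z, i.e. the kernel ideal of g vanishes, if and only if φ is injective; and when this
holds g is an open immersion. -/
theorem result {X Y : Scheme.{u}} (f : X ⟶ Y)
    [QuasiCompact f] [QuasiSeparated f] (C : RelSpec.QCAlg Y) (g : X ⟶ C.spec) (w : g ≫ C.π = f)
    [IsImmersion g] (φ : C ⟶ RelSpec.QCAlg.directImage f)
    (hφ : C.gammaMap ≫ φ.hom = AffAlg.algHom C.π f g w) :
    (g.ker = ⊥ ↔ ∀ U : Y.Opens, Function.Injective (φ.hom.app (Opposite.op U)).hom) ∧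
      (g.ker = ⊥ → IsOpenImmersion g) := by
  have hqc : QuasiCompact g := by
    have : QuasiCompact (g ≫ C.π) := by rw [w]; infer_instance
    exact QuasiCompact.of_comp g C.π
  have hiso := Groth.Agent.EGAProj74.isIso_gammaMap C
  have key : ∀ U : Y.Opens, Function.Injective (φ.hom.app (Opposite.op U)).hom ↔
      Function.Injective (g.app (C.π ⁻¹ᵁ U)).hom := fun U => by
    have happ : ∀ z, (φ.hom.app (Opposite.op U)).hom ((C.gammaMap.app (Opposite.op U)).hom z) =
        ((AffAlg.algHom C.π f g w).app (Opposite.op U)).hom z := fun z =>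
      congrArg (fun m : C.π.base _* C.spec.presheaf ⟶ f.base _* X.presheaf => (NatTrans.app m (Opposite.op U)).hom z) hφ
    have hb := ConcreteCategory.bijective_of_isIso (C.gammaMap.app (Opposite.op U))
    have halg : Function.Injective ((AffAlg.algHom C.π f g w).app (Opposite.op U)).hom ↔
        Function.Injective (g.app (C.π ⁻¹ᵁ U)).hom := by
      subst w
      refine Iff.of_eq (congrArg (fun m : Γ(C.spec, C.π ⁻¹ᵁ U) ⟶ Γ(X, g ⁻¹ᵁ (C.π ⁻¹ᵁ U)) => Function.Injective m.hom) ?_)
      simp only [AffAlg.algHom, eqToHom_refl, Category.comp_id]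
      rfl
    rw [← halg]
    exact ⟨fun h a b hab => hb.1 (h (by rw [happ, happ, hab])), fun h a b hab => by
      obtain ⟨a, rfl⟩ := hb.2 a
      obtain ⟨b, rfl⟩ := hb.2 b
      exact congrArg _ (h ((happ a).symm.trans (hab.trans (happ b))))⟩
  constructor
  · constructor
    · intro hk U
      have : IsSchemeTheoreticallyDominant g := ⟨hk⟩
      exact (key U).mpr (g.app_injective _)
    · intro h
      refine Scheme.IdealSheafData.ext_of_iSup_eq_top
        (fun U : Y.affineOpens => ⟨C.π ⁻¹ᵁ U.1, U.2.preimage C.π⟩) ?_ fun U => ?_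
      · rw [eq_top_iff]
        intro z _
        obtain ⟨_, ⟨(V : Y.Opens), hV, rfl⟩, (hzV : C.π z ∈ V), -⟩ :=
          Y.isBasis_affineOpens.exists_subset_of_mem_open (Set.mem_univ (C.π z)) isOpen_univ
        exact TopologicalSpace.Opens.mem_iSup.mpr ⟨⟨V, hV⟩, hzV⟩
      · rw [Scheme.Hom.ker_apply, Scheme.IdealSheafData.ideal_bot, Pi.bot_apply]
        exact (RingHom.injective_iff_ker_eq_bot _).mp ((key U.1).mp (h U.1))
  · intro hk
    have : IsSchemeTheoreticallyDominant g := ⟨hk⟩
    have : QuasiCompact g.liftCoborder := inferInstance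
    have : IsIso g.liftCoborder := by
      rw [IsClosedImmersion.isIso_iff_ker_eq_bot]
      refine Scheme.IdealSheafData.ext (funext fun U => ?_)
      rw [Scheme.Hom.ker_apply, Scheme.IdealSheafData.ideal_bot, Pi.bot_apply]
      refine (RingHom.injective_iff_ker_eq_bot _).mp ?_
      rw [liftCoborder_app]
      exact (ConcreteCategory.bijective_of_isIso (X.presheaf.map (eqToHom (g.liftCoborder_preimage U.1)).op)).1.comp (g.app_injective _)
    rw [← g.liftCoborder_ι]
    infer_instance

end Groth.Agent.S4837
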