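import Groth.Statements.S4843
import Groth.Agent.FBase64.Cons.FibreProper
import Groth.Agent.S4418
import Groth.Agent.S12416

set_option autoImplicit false
open CategoryTheory AlgebraicGeometry
universe u
open Cons9

namespace Groth.Agent.S4843

open CategoryTheory.Limits in
/-- Let g : Y ⟶ S and f : X ⟶ Y be such that X and Y are of finite presentation over S (locally of
finite presentation, quasi-compact and quasi-separated). For each point s of S let f_s : X_s ⟶ Y_s
be the morphism induced on the fibres over s. Then the set of s for which f_s is projective (X_s is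
isomorphic over Y_s to the homogeneous spectrum of a quasi-coherent graded O_{Y_s}-algebra generated
by its degree-one part, which is of finite type) is ind-constructible in S. -/
theorem result {X Y S : Scheme.{u}} (f : X ⟶ Y) (g : Y ⟶ S)
    [LocallyOfFinitePresentation g] [QuasiCompact g] [QuasiSeparated g]
    [LocallyOfFinitePresentation (f ≫ g)] [QuasiCompact (f ≫ g)] [QuasiSeparated (f ≫ g)] :
    ProCons.IsIndConstructible {s : S |
      RelProj.IsProjective
        (pullback.lift (pullback.fst (f ≫ g) (S.fromSpecResidueField s) ≫ f) (pullback.snd (f ≫ g) (S.fromSpecResidueField s))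
          ((Category.assoc _ _ _).trans pullback.condition) :
        pullback (f ≫ g) (S.fromSpecResidueField s) ⟶ pullback g (S.fromSpecResidueField s))} := by
  have h := Groth.Agent.FBase64.FibreStage.isIndConstructible
    (fun {Z} t => Groth.Agent.FBase64.FibreStage.ProperOver f g (Z := Z) t ∧
      Groth.Agent.FBase64.FibreStage.HasAmpleOver f g (Z := Z) t)
    (fun v t h => ⟨Groth.Agent.FBase64.FibreStage.stable_properOver f g v t h.1,
      Groth.Agent.FBase64.FibreStage.stable_hasAmpleOver f g v t h.2⟩)
    (Groth.Agent.FBase64.FibreStage.descends_and (Groth.Agent.FBase64.FibreStage.stable_properOver f g)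
      (Groth.Agent.FBase64.FibreStage.stable_hasAmpleOver f g)
      (Groth.Agent.FBase64.FibreStage.descends_properOver f g)
      (Groth.Agent.FBase64.FibreStage.descends_hasAmpleOver f g))
  convert h using 1
  ext s
  refine ⟨fun h => ?_, fun ⟨h1, h2⟩ => ?_⟩
  · obtain ⟨h1, h2⟩ := Groth.Agent.S4418.result _ h
    exact ⟨h2, h1.2.2⟩
  · let t := S.fromSpecResidueField s
    have h1' : IsProper (Groth.Agent.FBase64.FibreStage.fmap f g t) := h1
    have : CompactSpace ↥(Limits.pullback g t) :=
      QuasiCompact.compactSpace_of_compactSpace (Limits.pullback.snd g t)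
    have : QuasiSeparatedSpace ↥(Limits.pullback g t) :=
      quasiSeparatedSpace_of_quasiSeparated (Limits.pullback.snd g t)
    exact Groth.Agent.S12416.result _
      ⟨inferInstanceAs (LocallyOfFiniteType (Groth.Agent.FBase64.FibreStage.fmap f g t)),
        inferInstanceAs (QuasiCompact (Groth.Agent.FBase64.FibreStage.fmap f g t)), h2⟩

end Groth.Agent.S4843
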