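import Groth.Statements.S4844
import Groth.Agent.FBase64.Cons.FibreQProj

set_option autoImplicit false
open CategoryTheory AlgebraicGeometry
universe u
open Cons9

namespace Groth.Agent.S4844

open CategoryTheory.Limits in
/-- Let g : Y ⟶ S and f : X ⟶ Y be such that X and Y are of finite presentation over S (locally of
finite presentation, quasi-compact and quasi-separated). For each point s of S let f_s : X_s ⟶ Y_s
be the morphism induced on the fibres over s. Then the set of s for which f_s is quasi-projective
(of finite type, with an invertible O_{X_s}-module ample relative to f_s) is ind-constructible in S. -/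
theorem result {X Y S : Scheme.{u}} (f : X ⟶ Y) (g : Y ⟶ S)
    [LocallyOfFinitePresentation g] [QuasiCompact g] [QuasiSeparated g]
    [LocallyOfFinitePresentation (f ≫ g)] [QuasiCompact (f ≫ g)] [QuasiSeparated (f ≫ g)] :
    ProCons.IsIndConstructible {s : S |
      RelProj.IsQuasiProjective
        (pullback.lift (pullback.fst (f ≫ g) (S.fromSpecResidueField s) ≫ f) (pullback.snd (f ≫ g) (S.fromSpecResidueField s))
          ((Category.assoc _ _ _).trans pullback.condition) :
        pullback (f ≫ g) (S.fromSpecResidueField s) ⟶ pullback g (S.fromSpecResidueField s))} := by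
  have h := Groth.Agent.FBase64.FibreStage.isIndConstructible
    (fun {Z} t => Groth.Agent.FBase64.FibreStage.HasAmpleOver f g (Z := Z) t)
    (Groth.Agent.FBase64.FibreStage.stable_hasAmpleOver f g)
    (Groth.Agent.FBase64.FibreStage.descends_hasAmpleOver f g)
  convert h using 1
  ext s
  refine ⟨fun h => h.2.2, fun h => ⟨?_, ?_, h⟩⟩
  · let t := S.fromSpecResidueField s
    have : LocallyOfFiniteType
        (Groth.Agent.FBase64.FibreStage.fmap f g t ≫ Limits.pullback.snd g t) := by
      rw [Limits.pullback.lift_snd]; infer_instance
    exact locallyOfFiniteType_of_comp _ (Limits.pullback.snd g t)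
  · exact h.choose_spec.1

end Groth.Agent.S4844
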