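import Groth.Statements.S4847
import Groth.Agent.S0392
import Groth.Agent.FDesc60.QF
import Mathlib.LinearAlgebra.TensorProduct.Quotient

set_option autoImplicit false
universe u
open EGA43

open Groth.Agent
open scoped TensorProduct

namespace Groth.Agent.S4847

open AlgebraicGeometry CategoryTheory Limits in
/-- Case 1° (fibrewise flatness criterion for locally Noetherian schemes): let S, X and Y be locally
Noetherian schemes, f : X ⟶ Y and h : Y ⟶ S arbitrary morphisms, F a coherent O_X-module and x a
point of X with images y in Y and s in S, such that the stalk F_x is nonzero. Then F is flat over S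
at x and F_x / m_s F_x is flat over O_{Y,y} / m_s O_{Y,y} (that is, the fibre module F_s is flat
over the fibre Y_s at x) if and only if h is flat at y and F is flat over Y at x. No finiteness
hypothesis on f or h is required in this case. -/
theorem result {X Y S : Scheme.{u}}
    [IsLocallyNoetherian X] [IsLocallyNoetherian Y] [IsLocallyNoetherian S]
    (f : X ⟶ Y) (h : Y ⟶ S) (F : X.Modules) (hF : Coh.IsCoh F) (x : X)
    (hx : Nontrivial ↑(F.presheaf.stalk x)) :
    letI := FlatMod.moduleStalkOver f F x
    (FlatMod.IsFlatOverAt (f ≫ h) F x ∧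
      Module.Flat (↑(Y.presheaf.stalk (f x)) ⧸ Ideal.map (h.stalkMap (f x)).hom (IsLocalRing.maximalIdeal ↑(S.presheaf.stalk (h (f x)))))
        (↑(F.presheaf.stalk x) ⧸ (Ideal.map (h.stalkMap (f x)).hom (IsLocalRing.maximalIdeal ↑(S.presheaf.stalk (h (f x)))) •
          (⊤ : Submodule ↑(Y.presheaf.stalk (f x)) ↑(F.presheaf.stalk x))))) ↔
    ((h.stalkMap (f x)).hom.Flat ∧ FlatMod.IsFlatOverAt f F x) := by
  letI := FlatMod.moduleStalkOver f F x
  let R := S.presheaf.stalk (h (f x))
  let A := Y.presheaf.stalk (f x)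
  let B := X.presheaf.stalk x
  let M := F.presheaf.stalk x
  letI : Algebra R A := (h.stalkMap (f x)).hom.toAlgebra
  letI : Algebra A B := (f.stalkMap x).hom.toAlgebra
  letI : Algebra R B := ((f.stalkMap x).hom.comp (h.stalkMap (f x)).hom).toAlgebra
  have : IsScalarTower R A B := .of_algebraMap_eq' rfl
  letI : Module R M := Module.compHom M (algebraMap R B)
  have : IsScalarTower A B M := .of_algebraMap_smul fun _ _ => rfl
  have : IsScalarTower R B M := .of_algebraMap_smul fun _ _ => rfl
  have : IsScalarTower R A M := .of_algebraMap_smul fun _ _ => rfl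
  have : IsLocalHom (algebraMap R A) := inferInstanceAs (IsLocalHom (h.stalkMap (f x)).hom)
  have : IsLocalHom (algebraMap A B) := inferInstanceAs (IsLocalHom (f.stalkMap x).hom)
  have : Module.Finite B M := FDesc60.finite_stalk_of_isCoh F hF x
  have : Nontrivial M := hx
  have hcomp : FlatMod.IsFlatOverAt (f ≫ h) F x ↔ Module.Flat R M := by
    have e : (((f ≫ h).stalkMap x).hom : R →+* B) = (f.stalkMap x).hom.comp (h.stalkMap (f x)).hom := by
      rw [Scheme.Hom.stalkMap_comp]; rfl
    show @Module.Flat R M _ _ (Module.compHom M (((f ≫ h).stalkMap x).hom : R →+* B)) ↔ _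
    rw [e]
  let I := (IsLocalRing.maximalIdeal R).map (algebraMap R A)
  let eI : ((A ⧸ I) ⊗[A] M) ≃ₗ[A ⧸ I] (M ⧸ (I • (⊤ : Submodule A M))) :=
    LinearEquiv.extendScalarsOfSurjective Ideal.Quotient.mk_surjective (TensorProduct.quotTensorEquivQuotSMul M I)
  have hfl : (h.stalkMap (f x)).hom.Flat ↔ Module.Flat R A := Iff.rfl
  rw [hcomp, hfl]
  constructor
  · rintro ⟨hR, hfib⟩
    have : Module.Flat R M := hR
    have : Module.Flat (A ⧸ I) (M ⧸ (I • (⊤ : Submodule A M))) := hfib
    exact S0392.result (R := R) (S := A) (S' := B) (M := M) (Module.Flat.of_linearEquiv eI)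
  · rintro ⟨hA, hM⟩
    have : Module.Flat R A := hA
    have : Module.Flat A M := hM
    exact ⟨Module.Flat.trans R A M, (Module.Flat.of_linearEquiv eI.symm :
      Module.Flat (A ⧸ I) (M ⧸ (I • (⊤ : Submodule A M))))⟩

end Groth.Agent.S4847
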