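import Groth.Statements.S4855
import Groth.Agent.Desc62.ProperFlatGeneral
import Groth.Agent.Desc62.UnitFlat

set_option autoImplicit false
universe u
open CategoryTheory AlgebraicGeometry
open EGA43

open Groth.Agent

namespace Groth.Agent.S4855

open CategoryTheory.Limits in
/-- Let f : X ⟶ Y be a proper morphism of finite presentation such that the map O_Y → f_* O_X is
injective (on sections over every open subset of Y). Then f is flat if and only if the first
projection X ×_Y X ⟶ X is flat. -/
theorem result {X Y : Scheme.{u}} (f : X ⟶ Y)
    [IsProper f] [LocallyOfFinitePresentation f] (hinj : ∀ V : Y.Opens, Function.Injective (f.app V)) :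
    Flat f ↔ Flat (pullback.fst f f) := by
  constructor
  · intro h
    infer_instance
  intro h
  rw [Flat.iff_flat_stalkMap]
  intro x
  have hFP : CohB1.IsFP (Coh.structureModule X) := LimTop61.isFP_structureModule' X
  obtain ⟨σ, -⟩ := hFP.exists_quasicoherentData
  refine (Desc62.isFlatOverAt_structureModule_iff f x).1 (Desc62.isFlatOverAt_of_proper f _ σ.isQuasicoherent hFP x f
    (fun V s hV hs => ⟨V, hV, le_rfl, by rw [show s = 0 from hinj V (hs.trans (map_zero _).symm), map_zero]⟩)
    fun x' _ => (Desc62.isFlatOverAt_pullback_structureModule_iff _ _ x').2 ?_)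
  have : Flat (pullback.snd f f) := by
    rw [← pullbackSymmetry_hom_comp_fst]; infer_instance
  exact Flat.stalkMap _ x'

end Groth.Agent.S4855
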