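import Groth.Statements.S4858

set_option autoImplicit false
universe u
open EGA43

namespace Groth.Agent.S4858

/-- Conditions a), a′), c), c′) (very dense subsets): for a subset X₀ of a topological space X the
following are equivalent: every nonempty locally closed subset of X meets X₀; every closed subset Z
of X equals the closure of Z ∩ X₀; the map U ↦ U ∩ X₀ is injective on open subsets of X; the map F ↦
F ∩ X₀ is injective on closed subsets of X. -/
theorem result {X : Type u} [TopologicalSpace X] (X₀ : Set X) :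
    [∀ Z : Set X, IsLocallyClosed Z → Z.Nonempty → (Z ∩ X₀).Nonempty,
      ∀ Z : Set X, IsClosed Z → closure (Z ∩ X₀) = Z,
      ∀ U V : Set X, IsOpen U → IsOpen V → U ∩ X₀ = V ∩ X₀ → U = V,
      ∀ F F' : Set X, IsClosed F → IsClosed F' → F ∩ X₀ = F' ∩ X₀ → F = F'].TFAE := by
  tfae_have 1 → 2 := by
    intro h Z hZ
    refine subset_antisymm (hZ.closure_subset_iff.mpr Set.inter_subset_left) ?_
    intro z hz
    by_contra hn
    have := h (Z ∩ (closure (Z ∩ X₀))ᶜ)
      (hZ.isLocallyClosed.inter isClosed_closure.isOpen_compl.isLocallyClosed) ⟨z, hz, hn⟩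
    obtain ⟨w, ⟨hw1, hw2⟩, hw3⟩ := this
    exact hw2 (subset_closure ⟨hw1, hw3⟩)
  tfae_have 2 → 4 := by
    intro h F F' hF hF' e
    rw [← h F hF, ← h F' hF', e]
  tfae_have 4 → 3 := by
    intro h U V hU hV e
    have := h Uᶜ Vᶜ hU.isClosed_compl hV.isClosed_compl (by
      ext x; constructor <;> rintro ⟨h1, h2⟩ <;> refine ⟨fun h3 => h1 ?_, h2⟩
      · exact (e.symm ▸ (show x ∈ V ∩ X₀ from ⟨h3, h2⟩)).1
      · exact (e ▸ (show x ∈ U ∩ X₀ from ⟨h3, h2⟩)).1)
    exact compl_injective this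
  tfae_have 3 → 1 := by
    intro h Z hZ hne
    obtain ⟨U, F, hU, hF, rfl⟩ := hZ
    by_contra hn
    rw [Set.not_nonempty_iff_eq_empty] at hn
    have := h (U ∩ Fᶜ) U (hU.inter hF.isOpen_compl) hU (by
      ext x; constructor
      · rintro ⟨⟨h1, -⟩, h2⟩; exact ⟨h1, h2⟩
      · rintro ⟨h1, h2⟩
        refine ⟨⟨h1, fun h3 => ?_⟩, h2⟩
        exact (Set.eq_empty_iff_forall_notMem.mp hn x) ⟨⟨h1, h3⟩, h2⟩)
    obtain ⟨x, hx1, hx2⟩ := hne
    rw [← this] at hx1
    exact hx1.2 hx2
  tfae_finish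

end Groth.Agent.S4858
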