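import Groth.Statements.S4859

set_option autoImplicit false
universe u
open EGA43

open TopologicalSpace Topology

namespace Groth.Agent.S4859

/-- Conditions a), a′), b) (quasi-homeomorphisms): for a continuous map f : X₀ → X the following are
equivalent: taking preimages is a bijection from the open subsets of X onto the open subsets of X₀;
taking preimages is a bijection from the closed subsets of X onto the closed subsets of X₀; the
topology of X₀ is induced from X through f and the image f(X₀) is very dense in X, in the sense that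
two open subsets of X with the same trace on f(X₀) coincide. -/
theorem result {X₀ X : Type u} [TopologicalSpace X₀] [TopologicalSpace X]
    (f : X₀ → X) (hf : Continuous f) :
    [Function.Bijective (fun U : TopologicalSpace.Opens X =>
        (⟨f ⁻¹' (U : Set X), U.isOpen.preimage hf⟩ : TopologicalSpace.Opens X₀)),
      Function.Bijective (fun F : TopologicalSpace.Closeds X =>
        (⟨f ⁻¹' (F : Set X), F.isClosed.preimage hf⟩ : TopologicalSpace.Closeds X₀)),
      Topology.IsInducing f ∧
        ∀ U V : Set X, IsOpen U → IsOpen V → U ∩ Set.range f = V ∩ Set.range f → U = V].TFAE := by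
  tfae_have 1 → 2 := by
    rintro ⟨hi, hs⟩
    constructor
    · intro F G e
      have e' : f ⁻¹' (F : Set X) = f ⁻¹' (G : Set X) := congrArg (fun C : Closeds X₀ => (C : Set X₀)) e
      have := @hi ⟨(F : Set X)ᶜ, F.isClosed.isOpen_compl⟩ ⟨(G : Set X)ᶜ, G.isClosed.isOpen_compl⟩
        (by ext x; simp only [Opens.coe_mk, Set.preimage_compl, e'])
      ext1
      exact compl_injective (congrArg (fun U : Opens X => (U : Set X)) this)
    · intro C
      obtain ⟨U, hU⟩ := hs ⟨(C : Set X₀)ᶜ, C.isClosed.isOpen_compl⟩
      refine ⟨⟨(U : Set X)ᶜ, U.isOpen.isClosed_compl⟩, ?_⟩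
      have hU' : f ⁻¹' (U : Set X) = (C : Set X₀)ᶜ := congrArg (fun V : Opens X₀ => (V : Set X₀)) hU
      ext1
      simp [hU']
  tfae_have 2 → 3 := by
    rintro ⟨hi, hs⟩
    refine ⟨⟨le_antisymm ?_ ?_⟩, ?_⟩
    · exact hf.le_induced
    · intro s hs'
      obtain ⟨F, hF⟩ := hs ⟨sᶜ, hs'.isClosed_compl⟩
      have hF' : f ⁻¹' (F : Set X) = sᶜ := congrArg (fun V : Closeds X₀ => (V : Set X₀)) hF
      exact isOpen_induced_iff.mpr ⟨(F : Set X)ᶜ, F.isClosed.isOpen_compl, by simp [hF']⟩
    · intro U V hU hV e
      have := @hi ⟨Uᶜ, hU.isClosed_compl⟩ ⟨Vᶜ, hV.isClosed_compl⟩ (by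
        ext x
        have hh : f x ∈ U ↔ f x ∈ V := by
          constructor
          · intro h; exact (e ▸ (show f x ∈ U ∩ Set.range f from ⟨h, x, rfl⟩)).1
          · intro h; exact (e.symm ▸ (show f x ∈ V ∩ Set.range f from ⟨h, x, rfl⟩)).1
        simp [hh])
      exact compl_injective (congrArg (fun U : Closeds X => (U : Set X)) this)
  tfae_have 3 → 1 := by
    rintro ⟨hind, h⟩
    constructor
    · intro U V e
      have e' : f ⁻¹' (U : Set X) = f ⁻¹' (V : Set X) := congrArg (fun C : Opens X₀ => (C : Set X₀)) e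
      ext1
      apply h _ _ U.isOpen V.isOpen
      rw [← Set.image_preimage_eq_inter_range, ← Set.image_preimage_eq_inter_range, e']
    · intro W
      obtain ⟨t, ht, e⟩ := hind.isOpen_iff.mp W.isOpen
      exact ⟨⟨t, ht⟩, Opens.ext e⟩
  tfae_finish

end Groth.Agent.S4859
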