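import Groth.Statements.S4869
import Groth.Agent.GrStage62.Core
import Groth.Agent.GrStage62.Model
import Groth.Agent.Stage62.Flat

set_option autoImplicit false
universe u
open TensorProduct
open EGA43

open Groth.Agent

namespace Groth.Agent.S4869

/-- Let A₀ be a commutative ring, (A_i) a directed system of A₀-algebras with colimit A, B₀ a finitely
presented A₀-algebra, J₀ a finitely generated ideal of B₀ and M₀ a finitely presented B₀-module; put
M = A ⊗_{A₀} M₀ and J = J₀B, and likewise M_i, J_i over each A_i. Then the associated graded module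
gr_J(M) = ⊕_k J^k M / J^{k+1} M is flat over A if and only if, for some index i, gr_{J_i}(M_i) is
flat over A_i. Flatness of the graded module is expressed through the equivalent condition that
every truncation M / J^k M (k ≥ 0) is flat (the pieces J^k M / J^{k+1} M are the kernels of the
surjections M / J^{k+1} M → M / J^k M), and J^k M is realised as the image of A ⊗_{A₀} J₀^k M₀ in A
⊗_{A₀} M₀. (The published statement also asserts that the canonical maps from gr_{J_i}(M_i) ⊗_{A_i}
A to gr_J(M) are then bijective; this row states only the equivalence.) -/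
theorem result {A₀ : Type u} [CommRing A₀]
    {ι : Type u} [Preorder ι] (G : ι → Type u) [∀ i, CommRing (G i)] [∀ i, Algebra A₀ (G i)]
    (g : ∀ i j, i ≤ j → G i →ₐ[A₀] G j)
    (A : Type u) [CommRing A] [Algebra A₀ A] [∀ i, Algebra (G i) A] [∀ i, IsScalarTower A₀ (G i) A]
    (hcolim : FlatCA.IsDirectedColimitRing G (fun i j h => (g i j h).toRingHom) A)
    {B₀ : Type u} [CommRing B₀] [Algebra A₀ B₀] [Algebra.FinitePresentation A₀ B₀]
    (J₀ : Ideal B₀) (hJ₀ : J₀.FG)
    (M₀ : Type u) [AddCommGroup M₀] [Module B₀ M₀] [Module A₀ M₀] [IsScalarTower A₀ B₀ M₀]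
    [Module.FinitePresentation B₀ M₀] :
    (∀ k : ℕ, Module.Flat A ((A ⊗[A₀] M₀) ⧸
        LinearMap.range (((J₀ ^ k • (⊤ : Submodule B₀ M₀)).restrictScalars A₀).subtype.baseChange A))) ↔
      ∃ i : ι, ∀ k : ℕ, Module.Flat (G i) ((G i ⊗[A₀] M₀) ⧸
        LinearMap.range (((J₀ ^ k • (⊤ : Submodule B₀ M₀)).restrictScalars A₀).subtype.baseChange (G i))) := by
  constructor
  · intro hA
    obtain ⟨R, B', _, _, J', M', _, _, _, _, hN, hft, hfin, hΦ⟩ :=
      GrStage62.exists_trunc_model (A₀ := A₀) J₀ hJ₀ (M₀ := M₀)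
    have hiff : ∀ (C : Type u) [CommRing C] [Algebra A₀ C] (k : ℕ),
        Module.Flat C ((C ⊗[A₀] M₀) ⧸
          LinearMap.range (((J₀ ^ k • (⊤ : Submodule B₀ M₀)).restrictScalars A₀).subtype.baseChange C)) ↔
        Module.Flat C (C ⊗[R] E4O.NormFlat.Trunc J' M' k) := by
      intro C _ _ k
      exact Module.Flat.equiv_iff (GrStage62.quotRangeEquiv C _ ≪≫ₗ
        (AlgebraTensorModule.congr (LinearEquiv.refl C C) (hΦ k).some).symm ≪≫ₗ
        AlgebraTensorModule.cancelBaseChange R A₀ C C (E4O.NormFlat.Trunc J' M' k))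
    obtain ⟨C, _, _, hC, ⟨χ⟩, hflat⟩ := GrStage62.exists_stage J' M' A fun k => (hiff A k).1 (hA k)
    haveI : Algebra.FinitePresentation R C := Algebra.FinitePresentation.of_finiteType.1 hC
    obtain ⟨i, ψ, -⟩ := Stage62.exists_algHom_stage (R := R) G (fun i j h => (g i j h).restrictScalars R) A hcolim χ
    letI : Algebra C (G i) := ψ.toRingHom.toAlgebra
    haveI : IsScalarTower R C (G i) := IsScalarTower.of_algebraMap_eq fun a => (ψ.commutes a).symm
    refine ⟨i, fun k => (hiff (G i) k).2 ?_⟩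
    haveI := hflat k
    exact Module.Flat.of_linearEquiv
      (AlgebraTensorModule.cancelBaseChange R C (G i) (G i) (E4O.NormFlat.Trunc J' M' k)).symm
  · rintro ⟨i, hi⟩ k
    haveI : Module.Flat (G i) (G i ⊗[A₀] (M₀ ⧸ (J₀ ^ k • (⊤ : Submodule B₀ M₀)).restrictScalars A₀)) :=
      (Module.Flat.equiv_iff (GrStage62.quotRangeEquiv (G i) _)).1 (hi k)
    exact Module.Flat.of_linearEquiv (GrStage62.quotRangeEquiv A _ ≪≫ₗ
      (AlgebraTensorModule.cancelBaseChange A₀ (G i) A A _).symm)

end Groth.Agent.S4869
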