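import Groth.Statements.S4877
import Groth.Agent.E4O.SepScheme
-- import your own Groth.Agent.* helpers here

set_option autoImplicit false
universe u
open CategoryTheory AlgebraicGeometry
open EGA43

namespace Groth.Agent.S4877

/-- Let k be a field, X a k-scheme, (f_i : Z_i ⟶ X) a schematically dominant family of morphisms and S'
an arbitrary k-scheme. Then the family of base changes Z_i ×_k S' ⟶ X ×_k S' is schematically
dominant. (Schematically dominant: a section of the structure sheaf over an open whose pullback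
along every member vanishes is zero.) -/
theorem result {k : Type u} [Field k] {X S' : Scheme.{u}}
    (p : X ⟶ Spec (CommRingCat.of k)) (q : S' ⟶ Spec (CommRingCat.of k))
    {ι : Type u} (Z : ι → Scheme.{u}) (f : ∀ i, Z i ⟶ X)
    (h : (∀ (V : (X).Opens) (t : Γ(X, V)), (∀ i, (f i).app V t = 0) → t = 0)) :
    (∀ (V : (Limits.pullback p q).Opens) (t : Γ(Limits.pullback p q, V)), (∀ i, (Limits.pullback.map (f i ≫ p) q p q (f i) (𝟙 S') (𝟙 _) (Category.comp_id _) ((Category.comp_id _).trans (Category.id_comp _).symm)).app V t = 0) → t = 0) := by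
  let M (i : ι) := Limits.pullback.map (f i ≫ p) q p q (f i) (𝟙 S') (𝟙 _) (Category.comp_id _)
    ((Category.comp_id _).trans (Category.id_comp _).symm)
  intro V₀ s hs
  change ∀ i, (M i).app V₀ s = 0 at hs
  refine TopCat.Presheaf.IsSheaf.section_ext (Limits.pullback p q).sheaf.property fun x hx => ?_
  obtain ⟨U, hU, hxU, -⟩ := exists_isAffineOpen_mem_and_subset (U := (⊤ : X.Opens))
    (x := Limits.pullback.fst p q x) trivial
  obtain ⟨V, hV, hxV, -⟩ := exists_isAffineOpen_mem_and_subset (U := (⊤ : S'.Opens))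
    (x := Limits.pullback.snd p q x) trivial
  let W : (Limits.pullback p q).Opens := Limits.pullback.fst p q ⁻¹ᵁ U ⊓ Limits.pullback.snd p q ⁻¹ᵁ V
  have hST : IsAffineOpen (⊤ : (Spec (CommRingCat.of k)).Opens) := isAffineOpen_top _
  have : IsAffine ((⊤ : (Spec (CommRingCat.of k)).Opens) : Scheme) := hST
  have : IsAffine (U : X.Opens).toScheme := hU
  have : IsAffine (V : S'.Opens).toScheme := hV
  have hW : IsAffineOpen W :=
    .of_isIso (Scheme.Hom.isPullback_resLE (IsPullback.of_hasPullback p q)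
      (show V ≤ q ⁻¹ᵁ ⊤ from le_top) (show U ≤ p ⁻¹ᵁ ⊤ from le_top) (UY := W) rfl).isoPullback.hom
  have hWU : W ≤ Limits.pullback.fst p q ⁻¹ᵁ U := inf_le_left
  obtain ⟨b, hb, hxb⟩ := hW.exists_basicOpen_le (V := V₀) ⟨x, hx⟩ ⟨hxU, hxV⟩
  refine ⟨(Limits.pullback p q).basicOpen b, hb, hxb, ?_⟩
  let s' := (Limits.pullback p q).presheaf.map (homOfLE hb).op s
  show s' = (Limits.pullback p q).presheaf.map (homOfLE hb).op 0
  rw [map_zero]
  -- write the section as a fraction
  have := hW.isLocalization_basicOpen b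
  let _ : Algebra Γ(X, U) Γ(Limits.pullback p q, W) := ((Limits.pullback.fst p q).appLE U W hWU).hom.toAlgebra
  obtain ⟨⟨t, ⟨_, n, rfl⟩⟩, ht⟩ := IsLocalization.surj (Submonoid.powers b) s'
  change s' * algebraMap Γ(Limits.pullback p q, W) Γ(Limits.pullback p q, (Limits.pullback p q).basicOpen b) (b ^ n) =
    algebraMap _ _ t at ht
  -- the family of modules on `U`
  let κ := Σ i, {P : (Z i).Opens // IsAffineOpen P ∧ P ≤ f i ⁻¹ᵁ U}
  let _ : ∀ j : κ, Algebra Γ(X, U) Γ(Z j.1, j.2.1) := fun j => ((f j.1).appLE U j.2.1 j.2.2.2).hom.toAlgebra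
  have hsep : Groth.Agent.E4O.Sep.SepMod Γ(X, U) fun j : κ => Algebra.linearMap Γ(X, U) Γ(Z j.1, j.2.1) := by
    intro c z hz
    have := hU.isLocalization_basicOpen c
    have h0 : X.presheaf.map (homOfLE (X.basicOpen_le c)).op z = 0 := by
      refine h _ _ fun i => ?_
      refine TopCat.Presheaf.IsSheaf.section_ext (Z i).sheaf.property fun y hy => ?_
      obtain ⟨P, hP, hyP, hPU⟩ := exists_isAffineOpen_mem_and_subset (U := f i ⁻¹ᵁ U)
        (x := y) (show y ∈ f i ⁻¹ᵁ U from X.basicOpen_le c hy)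
      let φ := (f i).appLE U P hPU
      have hPb : (Z i).basicOpen (φ.hom c) = P ⊓ f i ⁻¹ᵁ X.basicOpen c := by
        simp only [φ, Scheme.Hom.appLE, CommRingCat.hom_comp, RingHom.comp_apply, Scheme.basicOpen_res,
          Scheme.preimage_basicOpen]
      refine ⟨(Z i).basicOpen (φ.hom c), hPb.le.trans inf_le_right, hPb.ge ⟨hyP, hy⟩, ?_⟩
      let _ : Algebra Γ(X, U) Γ(Z i, P) := φ.hom.toAlgebra
      obtain ⟨m, hm⟩ := hz ⟨i, P, hP, hPU⟩
      change c ^ m • φ.hom z = 0 at hm
      rw [Algebra.smul_def] at hm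
      change φ.hom (c ^ m) * φ.hom z = 0 at hm
      have hu : IsUnit ((Z i).presheaf.map (homOfLE ((Z i).basicOpen_le (φ.hom c))).op (φ.hom c)) :=
        RingedSpace.isUnit_res_basicOpen _ _
      have h1 := congrArg ((Z i).presheaf.map (homOfLE ((Z i).basicOpen_le (φ.hom c))).op) hm
      rw [map_pow, map_mul, map_pow, map_zero, (hu.pow m).mul_right_eq_zero] at h1
      have h2 : (f i).appLE U ((Z i).basicOpen (φ.hom c)) (((Z i).basicOpen_le _).trans hPU) z = 0 := by
        rw [← h1]
        exact (congr($((Scheme.Hom.appLE_map (f i) hPU (homOfLE ((Z i).basicOpen_le (φ.hom c))).op)).hom z)).symm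
      show (Z i).presheaf.map (homOfLE (hPb.le.trans inf_le_right)).op
          ((f i).app (X.basicOpen c) (X.presheaf.map (homOfLE (X.basicOpen_le c)).op z)) =
        (Z i).presheaf.map (homOfLE (hPb.le.trans inf_le_right)).op 0
      rw [map_zero, ← h2]
      exact congr($(Scheme.Hom.map_appLE (f i) (hPb.le.trans inf_le_right)
        (homOfLE (X.basicOpen_le c)).op).hom z)
    obtain ⟨⟨_, m, rfl⟩, hm⟩ := (IsLocalization.map_eq_zero_iff (Submonoid.powers c) Γ(X, X.basicOpen c) z).1 h0
    exact ⟨m, hm⟩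
  have hR : IsField Γ(Spec (CommRingCat.of k), ⊤) :=
    MulEquiv.isField (Field.toIsField k) (Scheme.ΓSpecIso (CommRingCat.of k)).commRingCatIsoToRingEquiv.toMulEquiv
  have hpush := (isIso_pushoutSection_iff ..).1 (isIso_pushoutSection_of_isAffineOpen (IsPullback.of_hasPullback p q)
    (show V ≤ q ⁻¹ᵁ ⊤ from le_top) (show U ≤ p ⁻¹ᵁ ⊤ from le_top) (UY := W) rfl hST hV hU)
  have hstab := Groth.Agent.E4O.Sep.stableSep_of_isPushout hR hpush _ hsep b
    (t ⊗ₜ[Γ(X, U)] (1 : Γ(X, U))) fun j => ?_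
  · obtain ⟨m, hm⟩ := hstab
    have h1 := congrArg (TensorProduct.rid Γ(X, U) Γ(Limits.pullback p q, W)) hm
    rw [TensorProduct.smul_tmul', TensorProduct.rid_tmul, one_smul, map_zero, smul_eq_mul] at h1
    have h2 := congrArg (algebraMap _ Γ(Limits.pullback p q, (Limits.pullback p q).basicOpen b)) h1
    have hu : IsUnit (algebraMap Γ(Limits.pullback p q, W)
        Γ(Limits.pullback p q, (Limits.pullback p q).basicOpen b) b) := IsLocalization.Away.algebraMap_isUnit b
    rw [map_mul, map_pow, map_zero, (hu.pow m).mul_right_eq_zero, ← ht, map_pow,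
      (hu.pow n).mul_left_eq_zero] at h2
    exact h2
  · obtain ⟨i, P, hP, hPU⟩ := j
    let _ : Algebra Γ(X, U) Γ(Z i, P) := ((f i).appLE U P hPU).hom.toAlgebra
    let W' : (Limits.pullback (f i ≫ p) q).Opens :=
      Limits.pullback.fst (f i ≫ p) q ⁻¹ᵁ P ⊓ Limits.pullback.snd (f i ≫ p) q ⁻¹ᵁ V
    have : IsAffine (P : (Z i).Opens).toScheme := hP
    have hW' : IsAffineOpen W' :=
      .of_isIso (Scheme.Hom.isPullback_resLE (IsPullback.of_hasPullback (f i ≫ p) q)
        (show V ≤ q ⁻¹ᵁ ⊤ from le_top) (show P ≤ (f i ≫ p) ⁻¹ᵁ ⊤ from le_top) (UY := W') rfl).isoPullback.hom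
    have hpush' := (isIso_pushoutSection_iff ..).1 (isIso_pushoutSection_of_isAffineOpen
      (IsPullback.of_hasPullback (f i ≫ p) q)
      (show V ≤ q ⁻¹ᵁ ⊤ from le_top) (show P ≤ (f i ≫ p) ⁻¹ᵁ ⊤ from le_top) (UY := W') rfl hST hV hP)
    have hW'W : W' ≤ M i ⁻¹ᵁ W := by
      rintro y ⟨hy₁, hy₂⟩
      refine ⟨?_, ?_⟩
      · show Limits.pullback.fst p q (M i y) ∈ U
        rw [← Scheme.Hom.comp_apply, Limits.pullback.lift_fst, Scheme.Hom.comp_apply]
        exact hPU hy₁
      · show Limits.pullback.snd p q (M i y) ∈ V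
        rw [← Scheme.Hom.comp_apply, Limits.pullback.lift_snd, Category.comp_id]
        exact hy₂
    have e1 : (Limits.pullback.fst p q).appLE U W hWU ≫ (M i).appLE W W' hW'W =
        (f i).appLE U P hPU ≫ (Limits.pullback.fst (f i ≫ p) q).appLE P W' inf_le_left := by
      rw [Scheme.Hom.appLE_comp_appLE, Scheme.Hom.appLE_comp_appLE]
      simp only [M, Limits.pullback.lift_fst]
    have e2 : (Limits.pullback.snd p q).appLE V W inf_le_right ≫ (M i).appLE W W' hW'W =
        (Limits.pullback.snd (f i ≫ p) q).appLE V W' inf_le_right := by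
      rw [Scheme.Hom.appLE_comp_appLE]
      simp only [M, Limits.pullback.lift_snd, Category.comp_id]
    -- the square over `U` is a pushout
    have hsq : IsPushout ((Limits.pullback.fst p q).appLE U W hWU) ((f i).appLE U P hPU) ((M i).appLE W W' hW'W)
        ((Limits.pullback.fst (f i ≫ p) q).appLE P W' inf_le_left) := by
      refine (IsPushout.of_left ?_ e1.symm hpush).flip
      rw [Scheme.Hom.appLE_comp_appLE, e2]
      exact hpush'
    let _ : Algebra Γ(X, U) Γ(Limits.pullback (f i ≫ p) q, W') :=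
      ((Limits.pullback.fst p q).appLE U W hWU ≫ (M i).appLE W W' hW'W).hom.toAlgebra
    let _ : Algebra Γ(Limits.pullback p q, W) Γ(Limits.pullback (f i ≫ p) q, W') :=
      ((M i).appLE W W' hW'W).hom.toAlgebra
    let _ : Algebra Γ(Z i, P) Γ(Limits.pullback (f i ≫ p) q, W') :=
      ((Limits.pullback.fst (f i ≫ p) q).appLE P W' inf_le_left).hom.toAlgebra
    have : IsScalarTower Γ(X, U) Γ(Limits.pullback p q, W) Γ(Limits.pullback (f i ≫ p) q, W') :=
      .of_algebraMap_eq fun _ => rfl
    have : IsScalarTower Γ(X, U) Γ(Z i, P) Γ(Limits.pullback (f i ≫ p) q, W') :=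
      .of_algebraMap_eq fun a => congr($(e1).hom a)
    have hal : Algebra.IsPushout Γ(X, U) Γ(Limits.pullback p q, W) Γ(Z i, P)
        Γ(Limits.pullback (f i ≫ p) q, W') := CommRingCat.isPushout_iff_isPushout.mp hsq
    let Φ := (M i).appLE W W' hW'W
    have h0 : (Limits.pullback (f i ≫ p) q).presheaf.map
        (homOfLE ((Limits.pullback (f i ≫ p) q).basicOpen_le (Φ.hom b))).op (Φ.hom t) = 0 := by
      have hle : (Limits.pullback (f i ≫ p) q).basicOpen (Φ.hom b) ≤
          M i ⁻¹ᵁ (Limits.pullback p q).basicOpen b := by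
        simp only [Φ, Scheme.Hom.appLE, CommRingCat.hom_comp, RingHom.comp_apply, Scheme.basicOpen_res,
          Scheme.preimage_basicOpen]
        exact inf_le_right
      have h1 : (M i).appLE ((Limits.pullback p q).basicOpen b) _ hle s' = 0 := by
        have h2 : (M i).appLE V₀ _ (hle.trans ((M i).preimage_mono hb)) s = 0 := by
          simp only [Scheme.Hom.appLE, CommRingCat.hom_comp, RingHom.comp_apply, hs i, map_zero]
        rw [← h2]
        exact congr($(Scheme.Hom.map_appLE (M i) hle (homOfLE hb).op).hom s)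
      have h3 := congrArg ((M i).appLE ((Limits.pullback p q).basicOpen b) _ hle).hom ht
      rw [map_mul, show ((M i).appLE ((Limits.pullback p q).basicOpen b) _ hle).hom s' = 0 from h1, zero_mul] at h3
      rw [h3]
      have e3 : (M i).appLE W W' hW'W ≫ (Limits.pullback (f i ≫ p) q).presheaf.map
          (homOfLE ((Limits.pullback (f i ≫ p) q).basicOpen_le (Φ.hom b))).op =
          (Limits.pullback p q).presheaf.map (homOfLE ((Limits.pullback p q).basicOpen_le b)).op ≫
            (M i).appLE ((Limits.pullback p q).basicOpen b) _ hle := by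
        rw [Scheme.Hom.appLE_map, Scheme.Hom.map_appLE]
      exact congr($(e3).hom t)
    have := hW'.isLocalization_basicOpen (Φ.hom b)
    obtain ⟨⟨_, m, rfl⟩, hm⟩ := (IsLocalization.map_eq_zero_iff (Submonoid.powers (Φ.hom b))
      Γ(Limits.pullback (f i ≫ p) q, (Limits.pullback (f i ≫ p) q).basicOpen (Φ.hom b)) (Φ.hom t)).1 h0
    refine ⟨m, (Algebra.IsPushout.equiv Γ(X, U) Γ(Limits.pullback p q, W) Γ(Z i, P)
      Γ(Limits.pullback (f i ≫ p) q, W')).injective ?_⟩
    show (Algebra.IsPushout.equiv Γ(X, U) Γ(Limits.pullback p q, W) Γ(Z i, P)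
      Γ(Limits.pullback (f i ≫ p) q, W')) (b ^ m • (t ⊗ₜ[Γ(X, U)] ((f i).appLE U P hPU).hom 1)) = _
    rw [map_one, TensorProduct.smul_tmul', Algebra.IsPushout.equiv_tmul, map_one, mul_one, smul_eq_mul, map_mul,
      map_pow, map_zero]
    exact hm


end Groth.Agent.S4877
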