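import Groth.Statements.S4878
-- import your own Groth.Agent.* helpers here

set_option autoImplicit false
universe u
open TensorProduct
open EGA43

namespace Groth.Agent.S4878

/-- Let A be a commutative ring, (u_i : M → M_i) a family of A-linear maps whose kernels have zero
intersection, and N a projective A-module. Then the kernels of the maps u_i ⊗ 1 : M ⊗_A N → M_i ⊗_A
N have zero intersection. -/
theorem result {A : Type u} [CommRing A]
    {M : Type u} [AddCommGroup M] [Module A M] {ι : Type u} (M' : ι → Type u)
    [∀ i, AddCommGroup (M' i)] [∀ i, Module A (M' i)] (u : ∀ i, M →ₗ[A] M' i)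
    (hu : ⨅ i, LinearMap.ker (u i) = ⊥)
    (N : Type u) [AddCommGroup N] [Module A N] [Module.Projective A N] :
    ⨅ i, LinearMap.ker ((u i).rTensor N) = ⊥ := by
  classical
  rw [eq_bot_iff]
  intro z hz
  rw [Submodule.mem_iInf] at hz
  rw [Submodule.mem_bot]
  obtain ⟨s, hs⟩ := Module.projective_def'.1 ‹Module.Projective A N›
  have hinj : Function.Injective (LinearMap.lTensor M s) := by
    refine Function.LeftInverse.injective (g := LinearMap.lTensor M (Finsupp.linearCombination A id)) fun y => ?_
    rw [← LinearMap.comp_apply, ← LinearMap.lTensor_comp, hs, LinearMap.lTensor_id, LinearMap.id_apply]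
  apply hinj
  rw [map_zero]
  apply (TensorProduct.finsuppScalarRight A A M N).injective
  rw [map_zero]
  ext n
  have h : TensorProduct.finsuppScalarRight A A M N (LinearMap.lTensor M s z) n ∈ (⨅ i, LinearMap.ker (u i)) := by
    rw [Submodule.mem_iInf]
    intro i
    have key : ∀ y : M ⊗[A] N, u i (TensorProduct.finsuppScalarRight A A M N (LinearMap.lTensor M s y) n) =
        TensorProduct.finsuppScalarRight A A (M' i) N (LinearMap.lTensor (M' i) s ((u i).rTensor N y)) n := by
      intro y
      induction y using TensorProduct.induction_on with
      | zero => simp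
      | tmul a b => simp [TensorProduct.finsuppScalarRight_apply_tmul_apply]
      | add a b ha hb => simp [ha, hb]
    rw [LinearMap.mem_ker, key, LinearMap.mem_ker.1 (hz i), map_zero, map_zero]
    rfl
  simpa [hu] using h


end Groth.Agent.S4878
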