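import Groth.Statements.S4880
import Groth.Agent.E4O.FiniteClosure
-- import your own Groth.Agent.* helpers here

set_option autoImplicit false
universe u
open CategoryTheory AlgebraicGeometry
open EGA43

namespace Groth.Agent.S4880

/-- For a Noetherian irreducible scheme X the following are equivalent: a) the generic point of X is an
isolated point; b) the underlying set of X is finite; c) X has dimension at most 1 and finitely many
closed points. -/
theorem result (X : Scheme.{u}) [IsNoetherian X]
    [IrreducibleSpace X] :
    [IsOpen ({genericPoint X} : Set X),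
      Finite X,
      topologicalKrullDim X ≤ 1 ∧ {x : X | IsClosed ({x} : Set X)}.Finite].TFAE := by
  tfae_have 1 → 2 := by
    intro h
    obtain ⟨hfin, -⟩ := Groth.Agent.E4O.finite_closure_of_isOpen (genericPoint X) {genericPoint X} h rfl
      (fun y hy _ => hy)
    rw [genericPoint_closure] at hfin
    exact Set.finite_univ_iff.1 hfin
  tfae_have 2 → 1 := by
    intro h
    rw [← isClosed_compl_iff]
    have : ({genericPoint X} : Set X)ᶜ = ⋃ x ∈ ({genericPoint X} : Set X)ᶜ, closure {x} := by
      refine Set.Subset.antisymm (fun x hx => Set.mem_biUnion hx (subset_closure rfl))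
        (Set.iUnion₂_subset fun x hx y hy e => hx ?_)
      rw [Set.mem_singleton_iff] at e ⊢
      subst e
      exact (inseparable_iff_specializes_and.2
        ⟨specializes_iff_mem_closure.2 hy, genericPoint_specializes x⟩).eq
    rw [this]
    exact (Set.toFinite _).isClosed_biUnion fun _ _ => isClosed_closure
  tfae_have 1 → 3 := by
    intro h
    obtain ⟨hfin, hcl⟩ := Groth.Agent.E4O.finite_closure_of_isOpen (genericPoint X) {genericPoint X} h rfl
      (fun y hy _ => hy)
    rw [genericPoint_closure] at hfin
    have := Set.finite_univ_iff.1 hfin
    refine ⟨?_, Set.toFinite _⟩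
    rw [topologicalKrullDim]
    refine iSup_le fun l => ?_
    norm_cast
    by_contra! hl
    have hlt : ∀ i j : Fin (l.length + 1), i < j → l i < l j := fun i j hij => l.strictMono hij
    let i0 : Fin (l.length + 1) := ⟨0, by omega⟩
    let i1 : Fin (l.length + 1) := ⟨1, by omega⟩
    let i2 : Fin (l.length + 1) := ⟨2, by omega⟩
    have h01 := hlt i0 i1 (by simp [i0, i1, Fin.lt_def])
    have h12 := hlt i1 i2 (by simp [i1, i2, Fin.lt_def])
    obtain ⟨y, hy⟩ := QuasiSober.sober (l i1).isIrreducible (l i1).isClosed
    rcases eq_or_ne y (genericPoint X) with e | hne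
    · apply h12.not_ge
      intro z _
      show z ∈ ((l i1 : TopologicalSpace.IrreducibleCloseds X) : Set X)
      rw [← hy, e, genericPoint_closure]
      trivial
    · have hy' : IsClosed ({y} : Set X) := hcl y (genericPoint_specializes y) hne
      have h1 : ((l i1 : TopologicalSpace.IrreducibleCloseds X) : Set X) = {y} := hy.symm.trans hy'.closure_eq
      obtain ⟨z, hz⟩ := (l i0).isIrreducible.nonempty
      have hzy : z ∈ ({y} : Set X) := h1 ▸ h01.le hz
      rw [Set.mem_singleton_iff] at hzy
      subst hzy
      apply h01.not_ge
      intro w hw
      have hwz : w ∈ ({z} : Set X) := h1 ▸ hw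
      rw [Set.mem_singleton_iff] at hwz
      exact hwz ▸ hz
  tfae_have 3 → 2 := by
    rintro ⟨hd, hfin⟩
    refine Set.finite_univ_iff.1 ((hfin.insert (genericPoint X)).subset fun x _ => ?_)
    rcases eq_or_ne x (genericPoint X) with e | hne
    · exact Or.inl e
    · refine Or.inr (isClosed_of_closure_subset fun y hy => ?_)
      by_contra hyx
      rw [Set.mem_singleton_iff] at hyx
      let a : TopologicalSpace.IrreducibleCloseds X := ⟨closure {y}, isIrreducible_singleton.closure, isClosed_closure⟩
      let b : TopologicalSpace.IrreducibleCloseds X := ⟨closure {x}, isIrreducible_singleton.closure, isClosed_closure⟩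
      let c : TopologicalSpace.IrreducibleCloseds X :=
        ⟨closure {genericPoint X}, isIrreducible_singleton.closure, isClosed_closure⟩
      have hab : a < b := by
        refine lt_of_le_not_ge (fun w hw => closure_minimal (Set.singleton_subset_iff.2 hy) isClosed_closure hw) fun hh => hyx ?_
        exact (inseparable_iff_specializes_and.2 ⟨specializes_iff_mem_closure.2 (hh (subset_closure rfl)),
          specializes_iff_mem_closure.2 hy⟩).eq
      have hbc : b < c := by
        refine lt_of_le_not_ge (fun w _ => ?_) fun hh => hne ?_
        · show w ∈ closure {genericPoint X}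
          rw [genericPoint_closure]; trivial
        · exact (inseparable_iff_specializes_and.2 ⟨specializes_iff_mem_closure.2 (hh (subset_closure rfl)),
            genericPoint_specializes x⟩).eq
      have h2 := (Order.LTSeries.length_le_krullDim
        (((RelSeries.singleton _ a).snoc b hab).snoc c (by simpa using hbc))).trans hd
      simp at h2
  tfae_finish


end Groth.Agent.S4880
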