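import Groth.Statements.S4882
import Groth.Agent.E4O.QuasiHomeo

set_option autoImplicit false
universe u
open EGA43

namespace Groth.Agent.S4882

/-- Let X be a Jacobson space and Z a locally quasi-constructible subset of X, i.e. every point of X has
an open neighbourhood U such that U ∩ Z is a finite union of locally closed subsets of X. Then the
subspace Z is a Jacobson space, and a point of Z is closed in Z if and only if it is closed in X. -/
theorem result {X : Type u} [TopologicalSpace X] [JacobsonSpace X]
    (Z : Set X)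
    (hZ : ∀ x : X, ∃ U : Set X, IsOpen U ∧ x ∈ U ∧
      ∃ T : Set (Set X), T.Finite ∧ (∀ t ∈ T, IsLocallyClosed t) ∧ U ∩ Z = ⋃₀ T) :
    JacobsonSpace ↥Z ∧ ∀ z : ↥Z, IsClosed ({z} : Set ↥Z) ↔ IsClosed ({(z : X)} : Set X) := Groth.Agent.E4O.closedPoint_iff_of_isLQC (Groth.Agent.E4O.IsLQC.isLCClopen hZ)

end Groth.Agent.S4882
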