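import Groth.Statements.S4883
import Groth.Agent.E4O.FiniteClosure
-- import your own Groth.Agent.* helpers here

set_option autoImplicit false
universe u
open CategoryTheory AlgebraicGeometry
open EGA43

namespace Groth.Agent.S4883

/-- Let X be a Noetherian scheme. Then the set of points x of X whose closure is finite is very dense in
X: every nonempty locally closed subset of X contains a point with finite closure. -/
theorem result (X : Scheme.{u}) [IsNoetherian X]
    (Z : Set X) (hZ : IsLocallyClosed Z) (hne : Z.Nonempty) :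
    ∃ x ∈ Z, (closure ({x} : Set X)).Finite := by
  obtain ⟨U, F, hU, hF, rfl⟩ := hZ
  have : TopologicalSpace.NoetherianSpace X := inferInstance
  have : CompactSpace ↥U := isCompact_iff_compactSpace.1 (TopologicalSpace.NoetherianSpace.isCompact U)
  obtain ⟨⟨x, hxU⟩, hxF, hcl⟩ := (hF.preimage continuous_subtype_val).exists_closed_singleton
    (S := Subtype.val ⁻¹' F) (X := ↥U) (by obtain ⟨z, hzU, hzF⟩ := hne; exact ⟨⟨z, hzU⟩, hzF⟩)
  refine ⟨x, ⟨hxU, hxF⟩, (Groth.Agent.E4O.finite_closure_of_isOpen x U hU hxU fun y hyU hxy => ?_).1⟩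
  have h1 : (⟨x, hxU⟩ : ↥U) ⤳ ⟨y, hyU⟩ := Topology.IsInducing.subtypeVal.specializes_iff.1 hxy
  exact congrArg Subtype.val (Set.mem_singleton_iff.1 (h1.mem_closed hcl (Set.mem_singleton _)))


end Groth.Agent.S4883
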