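import Groth.Statements.S4884
import Groth.Agent.E4O.GeomUnibranchAscend
import Groth.Agent.Ega11.UnibranchPoints
import Groth.Agent.S0386
-- import your own Groth.Agent.* helpers here

set_option autoImplicit false
universe u
open CategoryTheory AlgebraicGeometry
open EGA43 Groth.Agent.E4O CategoryTheory.Limits
set_option linter.style.haveILetI false
set_option backward.isDefEq.respectTransparency.types false

namespace Groth.Agent.S4884

/-- Let f : X ⟶ Y be locally of finite presentation and x a point of X with y = f x. If O_{Y,y} is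
geometrically unibranch and f is normal at x — that is, f is flat at x and the fibre X_y is
geometrically normal at x: for every finite field extension K of k(y), the local rings of X_y
⊗_{k(y)} K at the points above x are integrally closed domains — then O_{X,x} is geometrically
unibranch. -/
theorem result {X Y : Scheme.{u}} (f : X ⟶ Y) [LocallyOfFinitePresentation f]
    (x : X) (hY : CAlg2.IsGeomUnibranch ↑(Y.presheaf.stalk (f x))) (hflat : (f.stalkMap x).hom.Flat)
    (hnorm : ∀ (K : Type u) [Field K] [Algebra (IsLocalRing.ResidueField ↑(Y.presheaf.stalk (f x))) K],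
      Module.Finite (IsLocalRing.ResidueField ↑(Y.presheaf.stalk (f x))) K →
      ∀ x' : ↥(FBase.bc (f.fiberToSpecResidueField (f x)) K),
        FBase.bcπ (f.fiberToSpecResidueField (f x)) K x' = f.asFiber x →
        IsDomain ↑((FBase.bc (f.fiberToSpecResidueField (f x)) K).presheaf.stalk x') ∧
          IsIntegrallyClosed ↑((FBase.bc (f.fiberToSpecResidueField (f x)) K).presheaf.stalk x')) :
    CAlg2.IsGeomUnibranch ↑(X.presheaf.stalk x) := by
  let y := f x
  obtain ⟨V, hV, hyV, -⟩ := exists_isAffineOpen_mem_and_subset (X := Y) (x := f x) (U := ⊤) trivial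
  obtain ⟨U, hU, hxU, hUsub⟩ := exists_isAffineOpen_mem_and_subset (X := X) (x := x)
    (U := ⟨_, S0386.result f⟩ ⊓ f ⁻¹ᵁ V) ⟨hflat, hyV⟩
  have e : U ≤ f ⁻¹ᵁ V := fun _ hz => (hUsub hz).2
  algebraize [(f.appLE V U e).hom]
  let f' := Spec.map (f.appLE V U e)
  have hf' : f' ≫ hV.fromSpec = hU.fromSpec ≫ f := hV.SpecMap_appLE_fromSpec f hU e
  haveI : Algebra.FinitePresentation Γ(Y, V) Γ(X, U) :=
    HasRingHomProperty.appLE @LocallyOfFinitePresentation f inferInstance ⟨V, hV⟩ ⟨U, hU⟩ e
  haveI : Flat (hU.fromSpec ≫ f) := by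
    rw [Flat.iff_flat_stalkMap]
    intro a
    have h1 : hU.fromSpec a ∈ U := by
      rw [← SetLike.mem_coe, ← hU.range_fromSpec]
      exact ⟨a, rfl⟩
    rw [Scheme.Hom.stalkMap_comp]
    exact RingHom.Flat.comp (hUsub h1).1
      (RingHom.Flat.of_bijective (asIso (hU.fromSpec.stalkMap a)).commRingCatIsoToRingEquiv.bijective)
  haveI : Flat f' := MorphismProperty.of_postcomp (W := @Flat) (W' := @IsOpenImmersion) f' hV.fromSpec
    inferInstance (hf' ▸ inferInstance)
  haveI : Module.Flat Γ(Y, V) Γ(X, U) := (HasRingHomProperty.Spec_iff (P := @Flat)).mp ‹Flat f'›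
  let Q := hU.primeIdealOf ⟨x, hxU⟩
  have hQx : hU.fromSpec Q = x := hU.fromSpec_primeIdealOf ⟨x, hxU⟩
  have hcomap : Q.asIdeal.comap (algebraMap Γ(Y, V) Γ(X, U)) = (hV.primeIdealOf ⟨f x, hyV⟩).asIdeal :=
    congrArg PrimeSpectrum.asIdeal (IsAffineOpen.comap_primeIdealOf_appLE (f := f) V hV U hU e hxU)
  have hNG : NG (Spec.map (CommRingCat.ofHom (algebraMap Γ(Y, V) Γ(X, U)))) Q := by
    have h1 : NG f x := (ng_iff_geomNormalAt f x).mpr hnorm
    have h2 : NG (f' ≫ hV.fromSpec) Q := by
      rw [hf', ng_comp_iff, hQx]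
      exact h1
    exact (ng_iff_of_isPullback (f' ≫ hV.fromSpec)
      ((IsPullback.of_id_fst (f := f')).paste_vert (IsKernelPair.id_of_mono hV.fromSpec)) Q).mpr h2
  letI := X.presheaf.algebra_section_stalk ⟨x, hxU⟩
  haveI : IsLocalization.AtPrime (X.presheaf.stalk x) Q.asIdeal := hU.isLocalization_stalk ⟨x, hxU⟩
  refine Ega11.UnibranchPoints.isGeomUnibranch_of_ringEquiv
    (IsLocalization.algEquiv Q.asIdeal.primeCompl (Localization.AtPrime Q.asIdeal) (X.presheaf.stalk x)).toRingEquiv ?_
  let P0 := Q.asIdeal.comap (algebraMap Γ(Y, V) Γ(X, U))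
  have hA : CAlg2.IsGeomUnibranch (Localization.AtPrime P0) := by
    letI := Y.presheaf.algebra_section_stalk ⟨f x, hyV⟩
    haveI : IsLocalization.AtPrime (Y.presheaf.stalk (f x)) (hV.primeIdealOf ⟨f x, hyV⟩).asIdeal :=
      hV.isLocalization_stalk ⟨f x, hyV⟩
    haveI : IsLocalization.AtPrime (Y.presheaf.stalk (f x)) P0 := by
      convert this using 2
    exact Ega11.UnibranchPoints.isGeomUnibranch_of_ringEquiv
      (IsLocalization.algEquiv P0.primeCompl (Y.presheaf.stalk (f x)) (Localization.AtPrime P0)).toRingEquiv hY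
  obtain ⟨⟨_, _⟩, hres⟩ := hA
  let A := Localization.AtPrime P0
  haveI : IsIntegrallyClosed (CAlg2.normRed A) :=
    integralClosure.isIntegrallyClosedOfFiniteExtension (FractionRing (CAlg2.red A))
  refine isGeomUnibranch_of_normalization Q.asIdeal (CAlg2.normRed A)
    ((algebraMap (CAlg2.red A) (CAlg2.normRed A)).comp (Ideal.Quotient.mk (nilradical A))) ?_ ?_ ?_ ?_ hNG
  · exact RingHom.IsIntegral.trans _ _ (RingHom.isIntegral_of_surjective _ Ideal.Quotient.mk_surjective)
      (algebraMap_isIntegral_iff.mpr inferInstance)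
  · intro a ha
    refine Ideal.Quotient.eq_zero_iff_mem.mp ?_
    apply IsFractionRing.injective (CAlg2.red A) (FractionRing (CAlg2.red A))
    rw [map_zero]
    exact congrArg Subtype.val (RingHom.mem_ker.mp ha)
  · intro a
    obtain ⟨⟨n, d⟩, h⟩ := IsLocalization.surj (nonZeroDivisors (CAlg2.red A)) a.1
    obtain ⟨n', rfl⟩ := Ideal.Quotient.mk_surjective n
    obtain ⟨d, hd⟩ := d
    obtain ⟨d', rfl⟩ := Ideal.Quotient.mk_surjective d
    refine ⟨n', d', fun h0 => nonZeroDivisors.ne_zero hd ?_, Subtype.ext h⟩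
    apply IsFractionRing.injective (CAlg2.red A) (FractionRing (CAlg2.red A))
    rw [map_zero]
    exact congrArg Subtype.val h0
  · intro a
    obtain ⟨n, x, hx⟩ := hres (IsLocalRing.maximalIdeal (CAlg2.normRed A)) (Ideal.Quotient.mk _ a)
    exact ⟨n, x, Ideal.Quotient.eq.mp ((map_pow _ _ _).trans hx.symm)⟩


end Groth.Agent.S4884
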