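import Groth.Statements.S4885
-- import your own Groth.Agent.* helpers here

set_option autoImplicit false
universe u
open EGA43

namespace Groth.Agent.S4885

/-- A quotient of a finite, finitely presented algebra is a directed colimit of finitely presented quotients. -/
theorem colimit_quotients {A P A' : Type u} [CommRing A] [CommRing P] [Algebra A P] [Module.Finite A P]
    [Algebra.FinitePresentation A P] [CommRing A'] [Algebra A A'] (φ : P →ₐ[A] A')
    (hsurj : Function.Surjective φ) :
    ∃ (ι : Type u) (_ : Preorder ι) (G : ι → Type u) (_ : ∀ i, CommRing (G i)) (_ : ∀ i, Algebra A (G i))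
      (g : ∀ i j, i ≤ j → G i →ₐ[A] G j) (_ : ∀ i, Algebra (G i) A') (_ : ∀ i, IsScalarTower A (G i) A'),
      FlatCA.IsDirectedColimitRing G (fun i j h => (g i j h).toRingHom) A' ∧
        ∀ i, Module.Finite A (G i) ∧ Algebra.FinitePresentation A (G i) := by
  classical
  have hJ : ∀ S : Finset (RingHom.ker φ),
      Ideal.span (Subtype.val '' (S : Set (RingHom.ker φ))) ≤ RingHom.ker φ :=
    fun S => Ideal.span_le.2 (by rintro _ ⟨a, -, rfl⟩; exact a.2)
  have hmono : ∀ S T : Finset (RingHom.ker φ), S ≤ T →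
      Ideal.span (Subtype.val '' (S : Set (RingHom.ker φ))) ≤ Ideal.span (Subtype.val '' (T : Set (RingHom.ker φ))) :=
    fun S T h => Ideal.span_mono (Set.image_mono (Finset.coe_subset.2 h))
  let inst : ∀ S : Finset (RingHom.ker φ),
      Algebra (P ⧸ Ideal.span (Subtype.val '' (S : Set (RingHom.ker φ)))) A' :=
    fun S => (Ideal.Quotient.liftₐ _ φ (fun z hz => hJ S hz)).toRingHom.toAlgebra
  have hsc : ∀ S : Finset (RingHom.ker φ),
      IsScalarTower A (P ⧸ Ideal.span (Subtype.val '' (S : Set (RingHom.ker φ)))) A' :=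
    fun S => IsScalarTower.of_algebraMap_eq' (RingHom.ext fun r => (AlgHom.commutes φ r).symm)
  refine ⟨Finset (RingHom.ker φ), inferInstance,
    fun S => P ⧸ Ideal.span (Subtype.val '' (S : Set (RingHom.ker φ))),
    inferInstance, inferInstance, fun S T h => Ideal.Quotient.factorₐ A (hmono S T h),
    inst, hsc,
    ⟨⟨fun S T => ⟨S ∪ T, Finset.subset_union_left, Finset.subset_union_right⟩⟩, ⟨∅⟩,
      fun S => Ideal.Quotient.ringHom_ext (RingHom.ext fun z => rfl),
      fun S T U h h' => Ideal.Quotient.ringHom_ext (RingHom.ext fun z => rfl),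
      fun S T h => Ideal.Quotient.ringHom_ext (RingHom.ext fun z => rfl), fun z => ?_, fun S z hz => ?_⟩,
    fun S => ⟨?_, ?_⟩⟩
  · obtain ⟨w, hw⟩ := hsurj z
    exact ⟨∅, Ideal.Quotient.mk _ w, hw⟩
  · obtain ⟨w, rfl⟩ := Ideal.Quotient.mk_surjective z
    have hw : w ∈ RingHom.ker φ := hz
    exact ⟨insert ⟨w, hw⟩ S, Finset.subset_insert _ _,
      Ideal.Quotient.eq_zero_iff_mem.2 (Ideal.subset_span ⟨⟨w, hw⟩, by simp, rfl⟩)⟩
  · exact Module.Finite.of_surjective (Ideal.Quotient.mkₐ A _).toLinearMap Ideal.Quotient.mk_surjective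
  · exact Algebra.FinitePresentation.quotient (Submodule.fg_span (S.finite_toSet.image _))

/-- Every finite algebra A' over a commutative ring A is a directed colimit (filtered inductive limit)
of A-algebras which are finite and of finite presentation over A. -/
theorem result (A A' : Type u) [CommRing A] [CommRing A']
    [Algebra A A'] [Module.Finite A A'] :
    ∃ (ι : Type u) (_ : Preorder ι) (G : ι → Type u) (_ : ∀ i, CommRing (G i)) (_ : ∀ i, Algebra A (G i))
      (g : ∀ i j, i ≤ j → G i →ₐ[A] G j) (_ : ∀ i, Algebra (G i) A') (_ : ∀ i, IsScalarTower A (G i) A'),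
      FlatCA.IsDirectedColimitRing G (fun i j h => (g i j h).toRingHom) A' ∧
        ∀ i, Module.Finite A (G i) ∧ Algebra.FinitePresentation A (G i) := by
  classical
  obtain ⟨n, x, hx⟩ := Module.Finite.exists_fin (R := A) (M := A')
  have hint : ∀ k, IsIntegral A (x k) := fun k => Algebra.IsIntegral.isIntegral (x k)
  choose p hp hpx using hint
  let I₀ : Ideal (MvPolynomial (Fin n) A) :=
    Ideal.span (Set.range fun k => Polynomial.aeval (MvPolynomial.X k : MvPolynomial (Fin n) A) (p k))
  have hI₀ : ∀ z ∈ I₀, MvPolynomial.aeval x z = 0 := by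
    intro z hz
    induction hz using Submodule.span_induction with
    | mem z hz =>
      obtain ⟨k, rfl⟩ := hz
      rw [← Polynomial.aeval_algHom_apply]
      simpa [Polynomial.aeval_def] using hpx k
    | zero => exact map_zero _
    | add y z _ _ h₁ h₂ => rw [map_add, h₁, h₂, add_zero]
    | smul r z _ h₁ => rw [smul_eq_mul, map_mul, h₁, mul_zero]
  have hft : Algebra.FiniteType A (MvPolynomial (Fin n) A ⧸ I₀) :=
    Algebra.FiniteType.of_surjective (Ideal.Quotient.mkₐ A I₀) Ideal.Quotient.mk_surjective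
  have hfp : Algebra.FinitePresentation A (MvPolynomial (Fin n) A ⧸ I₀) :=
    Algebra.FinitePresentation.quotient (Submodule.fg_span (Set.finite_range _))
  have hint' : Algebra.IsIntegral A (MvPolynomial (Fin n) A ⧸ I₀) := by
    refine ⟨fun z => ?_⟩
    obtain ⟨w, rfl⟩ := Ideal.Quotient.mk_surjective z
    induction w using MvPolynomial.induction_on with
    | C a => exact isIntegral_algebraMap (R := A) (A := MvPolynomial (Fin n) A ⧸ I₀) (x := a)
    | add y z hy hz => rw [map_add]; exact hy.add hz
    | mul_X y k hy =>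
      rw [map_mul]
      refine hy.mul ⟨p k, hp k, ?_⟩
      rw [← Polynomial.aeval_def, ← Ideal.Quotient.mkₐ_eq_mk A, Polynomial.aeval_algHom_apply]
      exact Ideal.Quotient.eq_zero_iff_mem.2 (Ideal.subset_span ⟨k, rfl⟩)
  have hfin : Module.Finite A (MvPolynomial (Fin n) A ⧸ I₀) := Algebra.IsIntegral.finite
  refine colimit_quotients (Ideal.Quotient.liftₐ I₀ (MvPolynomial.aeval x) hI₀) fun z => ?_
  have hz : z ∈ Submodule.span A (Set.range x) := hx ▸ Submodule.mem_top
  clear hx
  induction hz using Submodule.span_induction with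
  | mem z hz => obtain ⟨k, rfl⟩ := hz; exact ⟨Ideal.Quotient.mk _ (MvPolynomial.X k), by simp⟩
  | zero => exact ⟨0, map_zero _⟩
  | add y z _ _ h₁ h₂ =>
    obtain ⟨a, rfl⟩ := h₁
    obtain ⟨b, rfl⟩ := h₂
    exact ⟨a + b, map_add _ _ _⟩
  | smul r z _ h₁ =>
    obtain ⟨a, rfl⟩ := h₁
    exact ⟨r • a, map_smul _ _ _⟩

end Groth.Agent.S4885
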