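import Groth.Statements.S4890
import Groth.Agent.E4O.QuasiHomeo

set_option autoImplicit false
universe u
open EGA43

namespace Groth.Agent.S4890

/-- Let f : X → Y be a quasi-homeomorphism (U ↦ f⁻¹(U) is a bijection on open subsets) and Y' a locally
quasi-constructible subset of Y, i.e. every point of Y has an open neighbourhood whose trace on Y'
is a finite union of locally closed subsets; put X' = f⁻¹(Y'). Then Y' is quasi-compact if and only
if X' is, and Y' is a Noetherian space if and only if X' is. -/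
theorem result {X Y : Type u} [TopologicalSpace X]
    [TopologicalSpace Y] (f : X → Y) (hf : Continuous f)
    (hq : Function.Bijective (fun U : TopologicalSpace.Opens Y =>
      (⟨f ⁻¹' (U : Set Y), U.isOpen.preimage hf⟩ : TopologicalSpace.Opens X)))
    (Y' : Set Y)
    (hY' : ∀ y : Y, ∃ U : Set Y, IsOpen U ∧ y ∈ U ∧
      ∃ T : Set (Set Y), T.Finite ∧ (∀ t ∈ T, IsLocallyClosed t) ∧ U ∩ Y' = ⋃₀ T) :
    (IsCompact Y' ↔ IsCompact (f ⁻¹' Y')) ∧
      (TopologicalSpace.NoetherianSpace ↥Y' ↔ TopologicalSpace.NoetherianSpace ↥(f ⁻¹' Y')) := by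
  have h := Groth.Agent.E4O.isQHomeo_of_bijective hf hq
  have hY : Groth.Agent.E4O.IsLCClopen Y' := Groth.Agent.E4O.IsLQC.isLCClopen hY'
  exact ⟨(h.isCompact_preimage_iff hf hY).symm, (h.restrictPreimage hY).noetherianSpace_iff hf.restrictPreimage⟩

end Groth.Agent.S4890
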