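import Groth.Statements.S4891
import Groth.Agent.Helper62.FlatNilCrit
import Mathlib.RingTheory.Flat.FaithfullyFlat.Basic
-- import your own Groth.Agent.* helpers here

set_option autoImplicit false
universe u
open TensorProduct
open EGA43

namespace Groth.Agent.S4891

/-- Let A be a commutative ring, J a nilpotent ideal of A, B a commutative A-algebra and M a B-module.
If M is flat over A, M/JM is flat over B/JB, B/JB is flat over A/J and mM ≠ M for every maximal
ideal m of B containing JB, then B is flat over A. (Under the first two hypotheses M is also flat
over B; that implication is stated elsewhere and not repeated here.) -/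
theorem result {A B : Type u} [CommRing A] [CommRing B] [Algebra A B]
    (J : Ideal A) (hJ : IsNilpotent J) (M : Type u) [AddCommGroup M] [Module B M] [Module A M] [IsScalarTower A B M]
    (hc1 : Module.Flat A M)
    (hc2 : Module.Flat (B ⧸ J.map (algebraMap A B)) ((B ⧸ J.map (algebraMap A B)) ⊗[B] M))
    (hd1 : Module.Flat (A ⧸ J) ((A ⧸ J) ⊗[A] B))
    (hd2 : ∀ m : Ideal B, m.IsMaximal → J.map (algebraMap A B) ≤ m → (m • (⊤ : Submodule B M)) ≠ ⊤) :
    Module.Flat A B := by
  have hJB : IsNilpotent (J.map (algebraMap A B)) := by
    obtain ⟨n, hn⟩ := hJ
    exact ⟨n, by rw [← Ideal.map_pow, hn]; simp⟩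
  have hMB : Module.Flat B M := by
    refine Groth.Agent.FlatNilCrit62.flat_of_nilpotent_injective hJB M ?_
    let θ : J ⊗[A] M →ₗ[A] (J.map (algebraMap A B)) ⊗[B] M :=
      TensorProduct.lift
        { toFun := fun j =>
            { toFun := fun m => (⟨algebraMap A B j, Ideal.mem_map_of_mem _ j.2⟩ : J.map (algebraMap A B)) ⊗ₜ[B] m
              map_add' := fun m m' => TensorProduct.tmul_add _ m m'
              map_smul' := fun a m => by simp }
          map_add' := fun j j' => by
            ext m
            simp [← TensorProduct.add_tmul]
          map_smul' := fun a j => by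
            ext m
            simp [TensorProduct.smul_tmul', Algebra.smul_def] }
    have hsurj : Function.Surjective θ := by
      intro z
      induction z using TensorProduct.induction_on with
      | zero => exact ⟨0, map_zero _⟩
      | add a b ha hb =>
        obtain ⟨a', rfl⟩ := ha
        obtain ⟨b', rfl⟩ := hb
        exact ⟨a' + b', map_add _ _ _⟩
      | tmul x m =>
        obtain ⟨x, hx⟩ := x
        have key : ∀ y (hy : y ∈ Submodule.span B ((algebraMap A B) '' J)) (m : M),
            (⟨y, hy⟩ : J.map (algebraMap A B)) ⊗ₜ[B] m ∈ LinearMap.range θ := by
          intro y hy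
          induction hy using Submodule.span_induction with
          | mem y hy =>
            obtain ⟨j, hj, rfl⟩ := hy
            exact fun m => ⟨(⟨j, hj⟩ : J) ⊗ₜ[A] m, rfl⟩
          | zero => exact fun m => ⟨0, by rw [map_zero]; exact (TensorProduct.zero_tmul _ m).symm⟩
          | add y z hy hz h₁ h₂ =>
            intro m
            have := add_mem (h₁ m) (h₂ m)
            rw [← TensorProduct.add_tmul] at this
            exact this
          | smul b y hy h₁ =>
            intro m
            have := h₁ (b • m)
            rw [← TensorProduct.smul_tmul] at this
            exact this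
        exact key x hx m
    have hcomp : ∀ z, (TensorProduct.lid B M) ((J.map (algebraMap A B)).subtype.rTensor M (θ z)) =
        (TensorProduct.lid A M) (J.subtype.rTensor M z) := by
      intro z
      induction z using TensorProduct.induction_on with
      | zero => simp
      | add a b ha hb => simp [ha, hb]
      | tmul j m => simp [θ]
    intro a b hab
    obtain ⟨a, rfl⟩ := hsurj a
    obtain ⟨b, rfl⟩ := hsurj b
    have h1 := congrArg (TensorProduct.lid B M) hab
    rw [hcomp, hcomp] at h1
    exact congrArg θ (Module.Flat.rTensor_preserves_injective_linearMap J.subtype Subtype.val_injective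
      ((TensorProduct.lid A M).injective h1))
  have : Module.FaithfullyFlat B M :=
    ⟨fun {m} hm e => hd2 m hm (le_trans (fun x hx => by
      obtain ⟨n, hn⟩ := hJB
      exact hm.isPrime.mem_of_pow_mem n (by
        have := Ideal.pow_mem_pow hx n
        rw [hn, Submodule.zero_eq_bot, Submodule.mem_bot] at this
        simp [this])) le_rfl) e⟩
  rw [Module.Flat.iff_lTensor_preserves_injective_linearMap]
  intro N N' _ _ _ _ g hg
  have h2 : Function.Injective (g.baseChange B) := by
    rw [← Module.FaithfullyFlat.lTensor_injective_iff_injective B M]
    have h3 : ∀ z, (TensorProduct.AlgebraTensorModule.cancelBaseChange A B B M N')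
        (LinearMap.lTensor M (g.baseChange B) z) =
        LinearMap.lTensor M g ((TensorProduct.AlgebraTensorModule.cancelBaseChange A B B M N) z) := by
      intro z
      induction z using TensorProduct.induction_on with
      | zero => simp
      | add a b ha hb => simp [ha, hb]
      | tmul m y =>
        induction y using TensorProduct.induction_on with
        | zero => simp
        | add a b ha hb => rw [TensorProduct.tmul_add]; simp only [map_add]; rw [ha, hb]
        | tmul b n => simp
    intro a b hab
    have := congrArg (TensorProduct.AlgebraTensorModule.cancelBaseChange A B B M N') hab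
    rw [h3, h3] at this
    exact (TensorProduct.AlgebraTensorModule.cancelBaseChange A B B M N).injective
      (Module.Flat.lTensor_preserves_injective_linearMap g hg this)
  exact h2


end Groth.Agent.S4891
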