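import Groth.Statements.S4896
import Groth.Agent.E4O.RectDepthSemicont
import Groth.Agent.E4O.PdLocus
-- import your own Groth.Agent.* helpers here

set_option autoImplicit false
set_option linter.style.haveILetI false
universe u
open CategoryTheory AlgebraicGeometry
open EGA43

namespace Groth.Agent.S4896

/-- Let S be locally Noetherian, Jacobson and regular with equidimensional irreducible components, g : X
⟶ S locally of finite type and F a coherent O_X-module. For every point x of X the rectified depth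
prof*_x(F) = prof(F_x) + dim cl{x} is the unique n (a natural number or ∞) such that, for some open
neighbourhood U of x, prof(F_{x'}) = n for every point x' of U ∩ cl{x} which is closed in U. -/
theorem result {X S : Scheme.{u}} [IsLocallyNoetherian S] [JacobsonSpace S]
    (hreg : ∀ s : S, IsRegularLocalRing ↑(S.presheaf.stalk s))
    (h3 : ∀ S' ∈ irreducibleComponents (S : Type u), ∀ s ∈ S', IsClosed ({s} : Set S) →
      topologicalKrullDim (↥S' : Type u) = topologicalKrullDim ↥{t : S | t ∈ S' ∧ t ⤳ s})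
    (g : X ⟶ S) [LocallyOfFiniteType g] (F : X.Modules) (hF : Coh.IsCoh F) (x : X) :
    letI pstar : WithBot ℕ∞ :=
      ((LocCoh.depth ↑(X.presheaf.stalk x) ↑(F.presheaf.stalk x) : ℕ∞) : WithBot ℕ∞) +
        topologicalKrullDim ↥(closure ({x} : Set X))
    ∀ n : ℕ∞,
      (∃ U : X.Opens, x ∈ U ∧ ∀ x' : ↥U, (x' : X) ∈ closure ({x} : Set X) → IsClosed ({x'} : Set ↥U) →
        LocCoh.depth ↑(X.presheaf.stalk (x' : X)) ↑(F.presheaf.stalk (x' : X)) = n) ↔
      ((n : WithBot ℕ∞) = pstar) := by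
  intro n
  haveI : IsLocallyNoetherian X := LocallyOfFiniteType.isLocallyNoetherian g
  haveI : JacobsonSpace X := LocallyOfFiniteType.jacobsonSpace g
  obtain ⟨δS, hS, hS0⟩ := Groth.Agent.E4O.exists_dimFun
    (fun s => haveI := hreg s; Groth.Agent.E4O.isUniversallyCatenary_of_regular _) h3
  obtain ⟨δ, hδ, h0⟩ := Groth.Agent.E4O.exists_dimFun_lft g δS hS hS0
  let v : X → ℕ∞ := fun y => LocCoh.depth ↑(X.presheaf.stalk y) ↑(F.presheaf.stalk y) + ((δ y).toNat : ℕ∞)
  have hv : ∀ y : X, ((v y : ℕ∞) : WithBot ℕ∞) =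
      ((LocCoh.depth ↑(X.presheaf.stalk y) ↑(F.presheaf.stalk y) : ℕ∞) : WithBot ℕ∞) +
        topologicalKrullDim ↥(closure ({y} : Set X)) := fun y => by
    rw [Groth.Agent.Cyc90.topologicalKrullDim_closure hδ.2.2 h0]
    push_cast [v]
    rfl
  have hopen : ∀ m : ℕ, IsOpen {y : X | (m : ℕ∞) ≤ v y} := fun m => by
    convert Groth.Agent.E4O.isOpen_rectDepth hreg h3 g F hF m using 1
    ext y
    rw [Set.mem_ofPred_eq, Set.mem_ofPred_eq, ← hv, ← WithBot.coe_le_coe]
    rfl
  -- closed points of an open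
  have hclosed : ∀ (U : X.Opens) (x' : ↥U), IsClosed ({x'} : Set ↥U) → v x' =
      LocCoh.depth ↑(X.presheaf.stalk (x' : X)) ↑(F.presheaf.stalk (x' : X)) := by
    intro U x' hx'
    have h1 : (x' : X) ∈ closedPoints X := by
      have h2 := U.2.isOpenEmbedding_subtypeVal.preimage_closedPoints
      exact (h2.ge hx' :)
    show _ + ((δ x'.1).toNat : ℕ∞) = _
    rw [h0 _ h1]
    simp
  -- constancy near `x`
  have hconst : ∃ U : X.Opens, x ∈ U ∧ ∀ y ∈ U, y ∈ closure ({x} : Set X) → v y = v x := by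
    have hle : ∀ y ∈ closure ({x} : Set X), v y ≤ v x := fun y hy => by
      refine ENat.forall_natCast_le_iff_le.1 fun m hm => ?_
      exact (specializes_iff_mem_closure.2 hy).mem_open (hopen m) hm
    rcases eq_or_ne (v x) ⊤ with htop | htop
    · have hs : Subsingleton (F.presheaf.stalk x) := by
        haveI := hF.1
        haveI := hF.2
        haveI : Module.Finite (X.presheaf.stalk x) (F.presheaf.stalk x) := Groth.Agent.QC70.finite_stalk F x
        by_contra hne
        haveI := not_subsingleton_iff_nontrivial.1 hne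
        refine Groth.Agent.EGA4Alg4.depth_ne_top (A := X.presheaf.stalk x) (M := F.presheaf.stalk x) ?_
        simpa [v] using htop
      refine ⟨⟨_, Groth.Agent.E4O.isOpen_stalk_subsingleton F hF⟩, hs, fun y hy _ => ?_⟩
      haveI : Subsingleton (F.presheaf.stalk y) := hy
      rw [htop]
      show LocCoh.depth _ _ + _ = _
      rw [Groth.Agent.EGA4Alg4.depth_of_subsingleton, top_add]
    · obtain ⟨m, hm⟩ := ENat.ne_top_iff_exists.1 htop
      exact ⟨⟨_, hopen m⟩, hm.le, fun y hy hyx => le_antisymm (hle y hyx) (hm.ge.trans hy)⟩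
  obtain ⟨U₀, hxU₀, hU₀⟩ := hconst
  have hval : (n : WithBot ℕ∞) = ((LocCoh.depth ↑(X.presheaf.stalk x) ↑(F.presheaf.stalk x) : ℕ∞) : WithBot ℕ∞) +
      topologicalKrullDim ↥(closure ({x} : Set X)) ↔ n = v x := by rw [← hv, WithBot.coe_inj]
  constructor
  · rintro ⟨U, hxU, hU⟩
    refine hval.2 ?_
    obtain ⟨c, hc, hxc, hcc⟩ := Groth.Agent.E4O.exists_closed_in_open (U ⊓ U₀).2 (η := x) ⟨hxU, hxU₀⟩
    have hcU : IsClosed ({⟨c, hc.1⟩} : Set ↥U) := by
      convert hcc.preimage (continuous_subtype_val (p := fun y => y ∈ U)) using 1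
      ext y; simp [Subtype.ext_iff]
    rw [← hU ⟨c, hc.1⟩ hxc.mem_closure hcU, ← hclosed U ⟨c, hc.1⟩ hcU]
    exact hU₀ c hc.2 hxc.mem_closure
  · intro hn
    exact ⟨U₀, hxU₀, fun x' hx' hc => by rw [← hclosed U₀ x' hc, hU₀ x' x'.2 hx', hval.1 hn]⟩


end Groth.Agent.S4896
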