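import Groth.Statements.S4902
import Groth.Agent.E4O.InfDescent
-- import your own Groth.Agent.* helpers here

set_option autoImplicit false
set_option linter.style.haveILetI false
universe u
open CategoryTheory AlgebraicGeometry
open EGA43

namespace Groth.Agent.S4902

open CategoryTheory.Limits in
/-- Let Y be a locally Noetherian scheme, f : X ⟶ Y locally of finite type, F a coherent O_X-module and
x a point of X with y = f x, such that k(x) is a primary extension of k(y) (every element of k(x)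
separable algebraic over k(y) lies in k(y)). Let (φ_i : O_{Y,y} → A_i) be a family of local
homomorphisms into local rings such that, for every N, some finite intersection of the ideals
φ_i⁻¹(m_{A_i}^n) is contained in m_y^N; let Y_i = Spec A_i ⟶ Y be the induced Y-schemes and X_i = X
×_Y Y_i. If for every i there is a point of X_i above x and above the closed point of Y_i at which
the pullback of F is flat over Y_i, then F is f-flat at x. -/
theorem result {X Y : Scheme.{u}} [IsLocallyNoetherian Y]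
    (f : X ⟶ Y) [LocallyOfFiniteType f] (F : X.Modules) (hF : Coh.IsCoh F) (x : X)
    (hprim : letI := (f.residueFieldMap x).hom.toAlgebra
      ∀ a : ↑(X.residueField x), IsSeparable ↑(Y.residueField (f x)) a → a ∈ (f.residueFieldMap x).hom.range)
    {ι : Type u} (A : ι → Type u) [∀ i, CommRing (A i)] [∀ i, IsLocalRing (A i)]
    (φ : ∀ i, (Y.presheaf.stalk (f x) : Type u) →+* A i) [∀ i, IsLocalHom (φ i)]
    (htop : ∀ N : ℕ, ∃ s : Finset (ι × ℕ),
      ⨅ p ∈ s, Ideal.comap (φ p.1) (IsLocalRing.maximalIdeal (A p.1) ^ p.2) ≤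
        IsLocalRing.maximalIdeal ↑(Y.presheaf.stalk (f x)) ^ N) :
    letI g : ∀ i, Spec (CommRingCat.of (A i)) ⟶ Y :=
      fun i => Spec.map (CommRingCat.ofHom (φ i)) ≫ Y.fromSpecStalk (f x)
    (∀ i : ι, ∃ x' : ↥(pullback f (g i)), pullback.fst f (g i) x' = x ∧
      pullback.snd f (g i) x' = IsLocalRing.closedPoint (A i) ∧
      FlatMod.IsFlatOverAt (pullback.snd f (g i)) ((Scheme.Modules.pullback (pullback.fst f (g i))).obj F) x') →
    FlatMod.IsFlatOverAt f F x := by
  intro hflat
  classical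
  haveI : IsLocallyNoetherian X := LocallyOfFiniteType.isLocallyNoetherian f
  haveI hFP := Groth.Agent.Div89.isFP_of_isCoh hF
  obtain ⟨σ, -⟩ := hFP.exists_quasicoherentData
  haveI hqc : F.IsQuasicoherent := σ.isQuasicoherent
  letI : Module ↑(Y.presheaf.stalk (f x)) (F.presheaf.stalk x : Type u) := FlatMod.moduleStalkOver f F x
  letI : Algebra ↑(Y.presheaf.stalk (f x)) ↑(X.presheaf.stalk x) := (f.stalkMap x).hom.toAlgebra
  haveI : IsScalarTower ↑(Y.presheaf.stalk (f x)) ↑(X.presheaf.stalk x) (F.presheaf.stalk x : Type u) :=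
    IsScalarTower.of_algebraMap_smul fun _ _ => rfl
  haveI : Module.Finite ↑(X.presheaf.stalk x) (F.presheaf.stalk x : Type u) := Groth.Agent.E4O.finite_stalk_of_coh F hF x
  let O : Type u := Y.presheaf.stalk (f x)
  let m := IsLocalRing.maximalIdeal O
  show Module.Flat O (F.presheaf.stalk x : Type u)
  refine Groth.Agent.CAlg7.flat_of_forall_flat_mod_pow (S := ↑(X.presheaf.stalk x)) m
    ((Ideal.map_le_iff_le_comap.2 fun a ha => ?_).trans (IsLocalRing.jacobson_eq_maximalIdeal _ bot_ne_top).ge)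
    fun N hN => ?_
  · exact (IsLocalRing.mem_maximalIdeal _).2 fun h => (IsLocalRing.mem_maximalIdeal _).1 ha
      (isUnit_of_map_unit (f.stalkMap x).hom a h)
  obtain ⟨s, hs⟩ := htop N
  let I : Ideal O := ⨅ p ∈ s, Ideal.comap (φ p.1) (IsLocalRing.maximalIdeal (A p.1) ^ p.2)
  have hIN : I ≤ m ^ N := hs
  have hIm : I ≤ m := hIN.trans (Ideal.pow_le_self (by omega))
  have hpowI : ∃ M, m ^ M ≤ I := ⟨s.sup Prod.snd, le_iInf₂ fun p hp => by
    refine (Ideal.pow_le_pow_right (Finset.le_sup (f := Prod.snd) hp)).trans ?_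
    refine (Ideal.pow_right_mono (?_ : m ≤ Ideal.comap (φ p.1) (IsLocalRing.maximalIdeal _)) p.2).trans
      (Ideal.le_comap_pow (φ p.1) p.2)
    exact fun a ha => (IsLocalRing.mem_maximalIdeal _).2 fun h => (IsLocalRing.mem_maximalIdeal _).1 ha
      (isUnit_of_map_unit (φ p.1) a h)⟩
  haveI : Nontrivial (O ⧸ I) := Ideal.Quotient.nontrivial_iff.2 fun h =>
    (IsLocalRing.maximalIdeal.isMaximal O).ne_top (eq_top_iff.2 (h ▸ hIm))
  haveI : IsLocalRing (O ⧸ I) := IsLocalRing.of_surjective' (Ideal.Quotient.mk I) Ideal.Quotient.mk_surjective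
  haveI : IsArtinianRing (O ⧸ I) := by
    obtain ⟨M, hM⟩ := hpowI
    exact Groth.Agent.E4O.isArtinianRing_quotient_of_pow_le m M hM
  let b := Groth.Agent.E4O.infNbhd (f x) I
  let z := IsLocalRing.closedPoint (O ⧸ I)
  have hbz : b z = f x := Groth.Agent.E4O.infNbhd_closedPoint (f x) I
  obtain ⟨xB, hxB, hxBz⟩ := Scheme.Pullback.exists_preimage_pullback (f := f) (g := b) x z hbz.symm
  let fst := pullback.fst f b
  haveI : LocallyOfFiniteType (pullback.snd f b) := inferInstance
  haveI : IsLocallyNoetherian (pullback f b) := LocallyOfFiniteType.isLocallyNoetherian (pullback.snd f b)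
  let FB := (Scheme.Modules.pullback fst).obj F
  have hFB : Coh.IsCoh FB := Groth.Agent.E4O.isCoh_pullback fst F hF
  let f' := pullback.snd f b
  have hbij := Groth.Agent.E4O.residueFieldMap_bijective_of_preimmersion fst xB
  have hflatB : FlatMod.IsFlatOverAt f' FB xB := by
    let J := {p : ι × ℕ // p ∈ s ∧ p.2 ≠ 0}
    let T := fun p : J => A p.1.1 ⧸ (IsLocalRing.maximalIdeal (A p.1.1) ^ p.1.2)
    haveI : ∀ p : J, Nontrivial (T p) := fun p => Ideal.Quotient.nontrivial_iff.2 fun h =>
      (IsLocalRing.maximalIdeal.isMaximal (A p.1.1)).ne_top (eq_top_iff.2 (h ▸ Ideal.pow_le_self p.2.2))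
    haveI : ∀ p : J, IsLocalRing (T p) := fun p =>
      IsLocalRing.of_surjective' (Ideal.Quotient.mk _) Ideal.Quotient.mk_surjective
    let ψ : ∀ p : J, (O ⧸ I) →+* T p := fun p => Ideal.Quotient.lift I
      ((Ideal.Quotient.mk _).comp (φ p.1.1)) fun a ha => Ideal.Quotient.eq_zero_iff_mem.2
        ((iInf₂_le p.1 p.2.1 : I ≤ _) ha)
    refine Groth.Agent.E4O.isFlatOverAt_of_artinian_point_primary f' FB hFB xB ?_
      (fun p : J => Spec (CommRingCat.of (T p))) (fun p => Spec.map (CommRingCat.ofHom (ψ p)))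
      (fun p => IsLocalRing.closedPoint (T p)) ?_ ?_
    · exact Groth.Agent.E4O.primary_residue_transfer f b fst f' pullback.condition xB x hxB hbij
        (Groth.Agent.E4O.residueFieldMap_bijective_of_preimmersion b _) hprim
    · intro a ha
      obtain ⟨a, rfl⟩ := Ideal.Quotient.mk_surjective a
      refine Ideal.Quotient.eq_zero_iff_mem.2 ((Submodule.mem_iInf _).2 fun p => (Submodule.mem_iInf _).2 fun hp => ?_)
      show φ p.1 a ∈ IsLocalRing.maximalIdeal (A p.1) ^ p.2
      rcases Nat.eq_zero_or_pos p.2 with h0 | h0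
      · rw [h0, pow_zero, Ideal.one_eq_top]; trivial
      · exact Ideal.Quotient.eq_zero_iff_mem.1
          (Groth.Agent.E4O.eq_zero_of_germ_closedPoint (ψ ⟨p, hp, h0.ne'⟩) _ (ha ⟨p, hp, h0.ne'⟩))
    · intro p
      obtain ⟨x', hx, hy, hfl⟩ := hflat p.1.1
      haveI : IsLocalHom (Ideal.Quotient.mk (IsLocalRing.maximalIdeal (A p.1.1) ^ p.1.2)) :=
        IsLocalHom.of_surjective _ Ideal.Quotient.mk_surjective
      exact Groth.Agent.E4O.exists_flat_point_quotient f F hqc (φ p.1.1) I
        (Ideal.Quotient.mk (IsLocalRing.maximalIdeal (A p.1.1) ^ p.1.2)) (ψ p) rfl x x' hx hy hfl xB hxB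
  have key := Groth.Agent.E4O.flat_quotient_tensor_of_isFlatOverAt f F hqc x I xB hxB hflatB
  exact Groth.Agent.E4O.flat_quot_of_flat_quot_le I (m ^ N) hIN (F.presheaf.stalk x : Type u) key


end Groth.Agent.S4902
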