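import Groth.Statements.S4907
import Groth.Agent.E4O.RectDepth
import Groth.Agent.E4O.PdLocus
-- import your own Groth.Agent.* helpers here

set_option autoImplicit false
set_option linter.style.haveILetI false
universe u
open CategoryTheory AlgebraicGeometry
open EGA43

namespace Groth.Agent.S4907

/-- Let X be a regular biequidimensional scheme (Noetherian, regular local rings, finite dimension, all
irreducible components of dimension dim X, and dim T = dim cl{y} + codim(cl{y}, T) for every closed
irreducible T and point y of T) and F a coherent O_X-module. Then the rectified depth x ↦ prof(F_x)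
+ dim cl{x} is lower semicontinuous: for every integer n the set of x with prof(F_x) + dim cl{x} ≥ n
is open. -/
theorem result (X : Scheme.{u}) [IsNoetherian X]
    (hreg : ∀ x : X, IsRegularLocalRing ↑(X.presheaf.stalk x))
    (hfin : topologicalKrullDim X < ⊤)
    (hcomp : ∀ C ∈ irreducibleComponents (X : Type u), topologicalKrullDim ↥C = topologicalKrullDim X)
    (hchain : ∀ (y : X) (T : Set X), IsClosed T → IsIrreducible T → y ∈ T →
      topologicalKrullDim ↥T = topologicalKrullDim ↥(closure ({y} : Set X)) + topologicalKrullDim ↥{t : X | t ∈ T ∧ t ⤳ y})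
    (F : X.Modules) (hF : Coh.IsCoh F) (n : ℕ) :
    IsOpen {x : X | (n : WithBot ℕ∞) ≤
      ((LocCoh.depth ↑(X.presheaf.stalk x) ↑(F.presheaf.stalk x) : ℕ∞) : WithBot ℕ∞) +
        topologicalKrullDim ↥(closure ({x} : Set X))} := by
  classical
  haveI := hF.1
  haveI := hF.2
  obtain ⟨Dw, hDw⟩ : ∃ D : WithBot ℕ∞, topologicalKrullDim X = D := ⟨_, rfl⟩
  -- outside the support every bound holds
  have hout : ∀ x : X, Subsingleton (F.presheaf.stalk x) →
      projectiveDimension (ModuleCat.of (X.presheaf.stalk x) (F.presheaf.stalk x : Type u)) = ⊥ ∧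
        LocCoh.depth (X.presheaf.stalk x) (F.presheaf.stalk x : Type u) = ⊤ := fun x hs => by
    refine ⟨?_, ?_⟩
    · rw [projectiveDimension_eq_bot_iff, ModuleCat.isZero_iff_subsingleton]
      exact hs
    · rw [LocCoh.depth, LocCoh.idealDepth, if_pos (Subsingleton.elim _ _)]
  have hmem : ∀ x : X, ¬ Subsingleton (F.presheaf.stalk x) → ∃ D c d e k : ℕ, Dw = (D : WithBot ℕ∞) ∧
      topologicalKrullDim ↥(closure ({x} : Set X)) = (c : WithBot ℕ∞) ∧
      LocCoh.depth (X.presheaf.stalk x) (F.presheaf.stalk x : Type u) = d ∧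
      projectiveDimension (ModuleCat.of (X.presheaf.stalk x) (F.presheaf.stalk x : Type u)) = e ∧
      D = c + k ∧ d + e = k := fun x hx => by
    haveI := hreg x
    haveI : IsDomain (X.presheaf.stalk x) := Groth.Agent.CAlg1.isDomain_regular _
    haveI : Module.Finite (X.presheaf.stalk x) (F.presheaf.stalk x) := Groth.Agent.QC70.finite_stalk F x
    haveI : Nontrivial (F.presheaf.stalk x : Type u) := not_subsingleton_iff_nontrivial.1 hx
    obtain ⟨k, e, d, hk, hd, he, hde⟩ :=
      Groth.Agent.E4O.depth_add_pd_eq_dim (X.presheaf.stalk x) (F.presheaf.stalk x : Type u)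
    obtain ⟨c, hc⟩ : ∃ c : ℕ, topologicalKrullDim ↥(closure ({x} : Set X)) = (c : WithBot ℕ∞) := by
      have ht : topologicalKrullDim ↥(closure ({x} : Set X)) < ⊤ :=
        lt_of_le_of_lt (topologicalKrullDim_subspace_le X (closure {x})) hfin
      have hb : topologicalKrullDim ↥(closure ({x} : Set X)) ≠ ⊥ := by
        haveI : Nonempty ↥(closure ({x} : Set X)) := ⟨⟨x, subset_closure rfl⟩⟩
        unfold topologicalKrullDim
        haveI : Nonempty (TopologicalSpace.IrreducibleCloseds ↥(closure ({x} : Set X))) :=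
          ⟨⟨closure {⟨x, subset_closure rfl⟩}, isIrreducible_singleton.closure, isClosed_closure⟩⟩
        exact Order.krullDim_ne_bot_iff.2 ‹_›
      generalize topologicalKrullDim ↥(closure ({x} : Set X)) = C at ht hb ⊢
      induction C with
      | bot => exact absurd rfl hb
      | coe a =>
        induction a with
        | top => exact absurd rfl ht.ne
        | coe n => exact ⟨n, rfl⟩
    refine ⟨c + k, c, d, e, k, ?_, hc, hd, he, rfl, hde⟩
    rw [← hDw, ← Groth.Agent.E4O.dim_closure_add_ringKrullDim X x hcomp hchain, hc, hk, Nat.cast_add]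
  by_cases hD : ∃ D : ℕ, Dw = (D : WithBot ℕ∞) ∧ n ≤ D
  · obtain ⟨D, hD, hnD⟩ := hD
    convert Groth.Agent.E4O.isOpen_pd_stalk_le F hF (D - n) using 1
    ext x
    show _ ↔ _
    simp only [Set.mem_setOf_eq]
    by_cases hs : Subsingleton (F.presheaf.stalk x)
    · obtain ⟨h1, h2⟩ := hout x hs
      rw [h1, h2]
      refine iff_of_true ?_ bot_le
      have hne : Nonempty ↥(closure ({x} : Set X)) := ⟨⟨x, subset_closure rfl⟩⟩
      haveI : Nonempty (TopologicalSpace.IrreducibleCloseds ↥(closure ({x} : Set X))) :=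
        ⟨⟨closure {⟨x, subset_closure rfl⟩}, isIrreducible_singleton.closure, isClosed_closure⟩⟩
      have h3 : (0 : WithBot ℕ∞) ≤ topologicalKrullDim ↥(closure ({x} : Set X)) := Order.krullDim_nonneg
      calc (n : WithBot ℕ∞) ≤ ((⊤ : ℕ∞) : WithBot ℕ∞) := WithBot.coe_le_coe.2 le_top
        _ = ((⊤ : ℕ∞) : WithBot ℕ∞) + 0 := (add_zero _).symm
        _ ≤ _ := by gcongr
    · obtain ⟨D', c, d, e, k, hD', hc, hd, he, h4, h5⟩ := hmem x hs
      have hDD : D = D' := by exact_mod_cast hD.symm.trans hD'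
      rw [hc, hd, he]
      rw [show ((d : ℕ∞) : WithBot ℕ∞) + (c : WithBot ℕ∞) = ((d + c : ℕ) : WithBot ℕ∞) by push_cast; rfl]
      simp only [Nat.cast_le]
      omega
  · have hset : {x : X | (n : WithBot ℕ∞) ≤
        ((LocCoh.depth ↑(X.presheaf.stalk x) ↑(F.presheaf.stalk x) : ℕ∞) : WithBot ℕ∞) +
          topologicalKrullDim ↥(closure ({x} : Set X))} ⊆ {x : X | Subsingleton (F.presheaf.stalk x)} := by
      intro x hx
      by_contra hs
      obtain ⟨D', c, d, e, k, hD', hc, hd, he, h4, h5⟩ := hmem x hs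
      refine hD ⟨D', hD', ?_⟩
      simp only [Set.mem_setOf_eq, hc, hd] at hx
      rw [show ((d : ℕ∞) : WithBot ℕ∞) + (c : WithBot ℕ∞) = ((d + c : ℕ) : WithBot ℕ∞) by push_cast; rfl,
        Nat.cast_le] at hx
      omega
    have heq : {x : X | (n : WithBot ℕ∞) ≤
        ((LocCoh.depth ↑(X.presheaf.stalk x) ↑(F.presheaf.stalk x) : ℕ∞) : WithBot ℕ∞) +
          topologicalKrullDim ↥(closure ({x} : Set X))} = {x : X | Subsingleton (F.presheaf.stalk x)} := by
      refine Set.Subset.antisymm hset fun x hs => ?_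
      haveI : Nonempty (TopologicalSpace.IrreducibleCloseds ↥(closure ({x} : Set X))) :=
        ⟨⟨closure {⟨x, subset_closure rfl⟩}, isIrreducible_singleton.closure, isClosed_closure⟩⟩
      have h3 : (0 : WithBot ℕ∞) ≤ topologicalKrullDim ↥(closure ({x} : Set X)) := Order.krullDim_nonneg
      rw [Set.mem_ofPred_eq]
      rw [(hout x hs).2]
      calc (n : WithBot ℕ∞) ≤ ((⊤ : ℕ∞) : WithBot ℕ∞) := WithBot.coe_le_coe.2 le_top
        _ = ((⊤ : ℕ∞) : WithBot ℕ∞) + 0 := (add_zero _).symm
        _ ≤ _ := by gcongr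
    rw [heq]
    exact Groth.Agent.E4O.isOpen_stalk_subsingleton F hF


end Groth.Agent.S4907
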