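import Groth.Statements.S4908
import Groth.Agent.E4O.Separating
-- import your own Groth.Agent.* helpers here

set_option autoImplicit false
universe u
open CategoryTheory AlgebraicGeometry
open EGA43

namespace Groth.Agent.S4908

/-- Case Z_λ = X: let X be a scheme, u_i : F ⟶ G_i a family of homomorphisms of quasi-coherent
O_X-modules and g : X' ⟶ X a faithfully flat morphism. If the family (g^*u_i : g^*F ⟶ g^*G_i) is
separating — a section of g^*F over an open subset killed by every g^*u_i is zero — then the family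
(u_i) is separating. (The published statement allows homomorphisms into direct images (f_λ)_*G_λ
along morphisms f_λ : Z_λ ⟶ X; this row is the case Z_λ = X, to which the general case reduces.) -/
theorem result {X X' : Scheme.{u}} (F : X.Modules) [Coh.IsQCoh F] {ι : Type u}
    (G : ι → X.Modules) [∀ i, Coh.IsQCoh (G i)] (u : ∀ i, F ⟶ G i) (g : X' ⟶ X) [Flat g] [Surjective g]
    (h : (∀ (V : (X').Opens) (t : ↑(((Scheme.Modules.pullback g).obj F).presheaf.obj (Opposite.op V))), (∀ i, (Scheme.Modules.Hom.mapPresheaf ((Scheme.Modules.pullback g).map (u i))).app (Opposite.op V) t = 0) → t = 0)) :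
    (∀ (V : (X).Opens) (t : ↑((F).presheaf.obj (Opposite.op V))), (∀ i, (Scheme.Modules.Hom.mapPresheaf (u i)).app (Opposite.op V) t = 0) → t = 0) := by
  refine Groth.Agent.E4O.Sep.isSep_of_basis fun V₀ p hp => ?_
  obtain ⟨U, hU, hpU, hUV⟩ := exists_isAffineOpen_mem_and_subset hp
  refine ⟨U, hUV, hpU, fun t ht => ?_⟩
  by_contra ht0
  obtain ⟨m, hm, hle⟩ := Ideal.exists_le_maximal (LinearMap.ker (LinearMap.toSpanSingleton Γ(X, U) Γ(F, U) t))
    (fun e => ht0 (by
      have h1 : (1 : Γ(X, U)) ∈ LinearMap.ker (LinearMap.toSpanSingleton Γ(X, U) Γ(F, U) t) := e ▸ Submodule.mem_top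
      simpa [LinearMap.mem_ker, LinearMap.toSpanSingleton_apply] using h1))
  let q : PrimeSpectrum Γ(X, U) := ⟨m, hm.isPrime⟩
  obtain ⟨y, hy⟩ := g.surjective (hU.fromSpec q)
  have hyU : y ∈ g ⁻¹ᵁ U := by
    show g y ∈ U
    rw [hy]
    exact hU.range_fromSpec.le ⟨q, rfl⟩
  obtain ⟨W, hW, hyW, e⟩ := exists_isAffineOpen_mem_and_subset hyU
  let _ := (g.appLE U W e).hom.toAlgebra
  have : Module.Flat Γ(X, U) Γ(X', W) := g.flat_appLE hU hW e
  have h1 : (1 : Γ(X', W)) ⊗ₜ[Γ(X, U)] t = 0 := by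
    refine (Groth.Agent.E4O.Sep.sepOn_pullback_iff g u hU hW e).1 (h W) _ fun i => ?_
    show (1 : Γ(X', W)) ⊗ₜ[Γ(X, U)] (Groth.Agent.E4O.Sep.appL (u i) U t) = 0
    rw [show Groth.Agent.E4O.Sep.appL (u i) U t = 0 from ht i, TensorProduct.tmul_zero]
  let l := LinearMap.toSpanSingleton Γ(X, U) Γ(F, U) t
  have hex := Module.Flat.lTensor_exact Γ(X', W) (LinearMap.exact_subtype_ker_map l)
  obtain ⟨z, hz⟩ := (hex ((1 : Γ(X', W)) ⊗ₜ[Γ(X, U)] (1 : Γ(X, U)))).1 (by
    rw [LinearMap.lTensor_tmul]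
    simpa [l, LinearMap.toSpanSingleton_apply] using h1)
  obtain ⟨q', hq'⟩ : y ∈ Set.range hW.fromSpec := by rw [hW.range_fromSpec]; exact hyW
  have hq : PrimeSpectrum.comap (g.appLE U W e).hom q' = q := by
    apply hU.fromSpec.isOpenEmbedding.injective
    rw [← hy, ← hq']
    exact congr($(hU.SpecMap_appLE_fromSpec g hW e) q')
  have hmem : ∀ z : TensorProduct Γ(X, U) Γ(X', W) (LinearMap.ker l),
      (TensorProduct.rid Γ(X, U) Γ(X', W)) ((LinearMap.ker l).subtype.lTensor Γ(X', W) z) ∈ q'.asIdeal := by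
    intro z
    induction z using TensorProduct.induction_on with
    | zero => simp
    | add a b ha hb => rw [map_add, map_add]; exact q'.asIdeal.add_mem ha hb
    | tmul b a =>
      rw [LinearMap.lTensor_tmul, TensorProduct.rid_tmul, Algebra.smul_def]
      refine q'.asIdeal.mul_mem_right b ?_
      have ha : a.1 ∈ q.asIdeal := hle a.2
      rw [← hq] at ha
      exact ha
  have h2 := hmem z
  rw [hz, TensorProduct.rid_tmul, one_smul] at h2
  exact q'.2.ne_top ((Ideal.eq_top_iff_one _).2 h2)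


end Groth.Agent.S4908
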