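import Groth.Statements.S4909
import Groth.Agent.E4O.SepFlat
import Groth.Agent.E4O.SepScheme
-- import your own Groth.Agent.* helpers here

set_option autoImplicit false
universe u
open CategoryTheory AlgebraicGeometry
open EGA43

namespace Groth.Agent.S4909

/-- Case Z_λ = X: let X be a scheme, u_i : F ⟶ G_i a separating family of homomorphisms of
quasi-coherent O_X-modules (a section of F over an open subset killed by every u_i is zero) and g :
X' ⟶ X a flat morphism locally of finite presentation. Then the family (g^*u_i : g^*F ⟶ g^*G_i) is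
separating. (The published statement allows homomorphisms into direct images (f_λ)_*G_λ; this row is
the case Z_λ = X, to which the general case reduces.) -/
theorem result {X X' : Scheme.{u}} (F : X.Modules) [Coh.IsQCoh F] {ι : Type u}
    (G : ι → X.Modules) [∀ i, Coh.IsQCoh (G i)] (u : ∀ i, F ⟶ G i) (g : X' ⟶ X) [Flat g] [LocallyOfFinitePresentation g]
    (h : (∀ (V : (X).Opens) (t : ↑((F).presheaf.obj (Opposite.op V))), (∀ i, (Scheme.Modules.Hom.mapPresheaf (u i)).app (Opposite.op V) t = 0) → t = 0)) :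
    (∀ (V : (X').Opens) (t : ↑(((Scheme.Modules.pullback g).obj F).presheaf.obj (Opposite.op V))), (∀ i, (Scheme.Modules.Hom.mapPresheaf ((Scheme.Modules.pullback g).map (u i))).app (Opposite.op V) t = 0) → t = 0) := by
  haveI : F.IsQuasicoherent := inferInstanceAs (Coh.IsQCoh F)
  haveI : ∀ i, (G i).IsQuasicoherent := fun i => inferInstanceAs (Coh.IsQCoh (G i))
  have hsep : E4O.Sep.IsSep F G u := h
  suffices H : E4O.Sep.IsSep ((Scheme.Modules.pullback g).obj F) (fun i => (Scheme.Modules.pullback g).obj (G i))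
      (fun i => (Scheme.Modules.pullback g).map (u i)) from H
  refine E4O.Sep.isSep_of_basis fun V p hp => ?_
  obtain ⟨U, hU, hpU, -⟩ := exists_isAffineOpen_mem_and_subset (X := X) (x := g p) (U := ⊤) trivial
  obtain ⟨W, hW, hpW, hWV⟩ := exists_isAffineOpen_mem_and_subset (X := X') (x := p) (U := V ⊓ g ⁻¹ᵁ U) ⟨hp, hpU⟩
  have e : W ≤ g ⁻¹ᵁ U := fun _ hx => (hWV hx).2
  refine ⟨W, fun _ hx => (hWV hx).1, hpW, ?_⟩
  rw [E4O.Sep.sepOn_pullback_iff g u hU hW e]
  letI := (g.appLE U W e).hom.toAlgebra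
  haveI : Module.Flat Γ(X, U) Γ(X', W) :=
    (HasRingHomProperty.appLE @Flat g inferInstance ⟨U, hU⟩ ⟨W, hW⟩ e)
  haveI : Algebra.FinitePresentation Γ(X, U) Γ(X', W) :=
    (HasRingHomProperty.appLE @LocallyOfFinitePresentation g inferInstance ⟨U, hU⟩ ⟨W, hW⟩ e)
  exact fun z hz => E4O.Sep.separating_of_flat _ (E4O.Sep.sepMod_of_isSep hsep hU) z hz


end Groth.Agent.S4909
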