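import Groth.Statements.S4911
import Groth.Agent.E4O.SepScheme
-- import your own Groth.Agent.* helpers here

set_option autoImplicit false
universe u
open CategoryTheory AlgebraicGeometry
open EGA43

namespace Groth.Agent.S4911

open CategoryTheory.Limits in
/-- Case Z_λ = X: let k be a field, X a k-scheme, u_i : F ⟶ G_i a separating family of homomorphisms of
quasi-coherent O_X-modules (a section of F over an open subset killed by every u_i is zero) and S'
an arbitrary k-scheme. Then the family pulled back to X ×_k S' is separating. (The published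
statement allows homomorphisms into direct images (f_λ)_*G_λ; this row is the case Z_λ = X.) -/
theorem result {k : Type u} [Field k] {X S' : Scheme.{u}}
    (p : X ⟶ Spec (CommRingCat.of k)) (q : S' ⟶ Spec (CommRingCat.of k))
    (F : X.Modules) [Coh.IsQCoh F] {ι : Type u} (G : ι → X.Modules) [∀ i, Coh.IsQCoh (G i)] (u : ∀ i, F ⟶ G i)
    (h : (∀ (V : (X).Opens) (t : ↑((F).presheaf.obj (Opposite.op V))), (∀ i, (Scheme.Modules.Hom.mapPresheaf (u i)).app (Opposite.op V) t = 0) → t = 0)) :
    (∀ (V : (pullback p q).Opens) (t : ↑(((Scheme.Modules.pullback (pullback.fst p q)).obj F).presheaf.obj (Opposite.op V))), (∀ i, (Scheme.Modules.Hom.mapPresheaf ((Scheme.Modules.pullback (pullback.fst p q)).map (u i))).app (Opposite.op V) t = 0) → t = 0) := by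
  refine Groth.Agent.E4O.Sep.isSep_of_basis fun V₀ x hx => ?_
  obtain ⟨U, hU, hxU, -⟩ := exists_isAffineOpen_mem_and_subset (U := (⊤ : X.Opens))
    (x := pullback.fst p q x) trivial
  obtain ⟨V, hV, hxV, -⟩ := exists_isAffineOpen_mem_and_subset (U := (⊤ : S'.Opens))
    (x := pullback.snd p q x) trivial
  let W : (pullback p q).Opens := pullback.fst p q ⁻¹ᵁ U ⊓ pullback.snd p q ⁻¹ᵁ V
  have hST : IsAffineOpen (⊤ : (Spec (CommRingCat.of k)).Opens) := isAffineOpen_top _
  have : IsAffine (U : X.Opens).toScheme := hU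
  have : IsAffine (V : S'.Opens).toScheme := hV
  have : IsAffine ((⊤ : (Spec (CommRingCat.of k)).Opens) : Scheme) := hST
  have hW : IsAffineOpen W :=
    .of_isIso (Scheme.Hom.isPullback_resLE (IsPullback.of_hasPullback p q)
      (show V ≤ q ⁻¹ᵁ ⊤ from le_top) (show U ≤ p ⁻¹ᵁ ⊤ from le_top) (UY := W) rfl).isoPullback.hom
  obtain ⟨b, hb, hxb⟩ := hW.exists_basicOpen_le (V := V₀) ⟨x, hx⟩ ⟨hxU, hxV⟩
  have hWU : W ≤ pullback.fst p q ⁻¹ᵁ U := inf_le_left
  refine ⟨(pullback p q).basicOpen b, hb, hxb,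
    Groth.Agent.E4O.Sep.sepOn_pullback_basicOpen (pullback.fst p q) u hU hW hWU b ?_⟩
  have hiso := isIso_pushoutSection_of_isAffineOpen (IsPullback.of_hasPullback p q)
    (show V ≤ q ⁻¹ᵁ ⊤ from le_top) (show U ≤ p ⁻¹ᵁ ⊤ from le_top) (UY := W) rfl hST hV hU
  have hpush := (isIso_pushoutSection_iff ..).1 hiso
  have hR : IsField Γ(Spec (CommRingCat.of k), ⊤) :=
    MulEquiv.isField (Field.toIsField k) (Scheme.ΓSpecIso (CommRingCat.of k)).commRingCatIsoToRingEquiv.toMulEquiv
  exact Groth.Agent.E4O.Sep.stableSep_of_isPushout hR hpush _ (Groth.Agent.E4O.Sep.sepMod_of_isSep h hU)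


end Groth.Agent.S4911
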