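import Groth.Statements.S4912
import Groth.Agent.E4O.SepScheme
import Groth.Agent.E4O.SepArtinian
-- import your own Groth.Agent.* helpers here

set_option autoImplicit false
universe u
open CategoryTheory AlgebraicGeometry
open EGA43

namespace Groth.Agent.S4912

/-- Case Z_λ = X: let X be an Artinian scheme (Noetherian of dimension ≤ 0), u_i : F ⟶ G_i a separating
family of homomorphisms of quasi-coherent O_X-modules (a section of F over an open subset killed by
every u_i is zero) and g : X' ⟶ X a flat morphism; for instance X the spectrum of a field and g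
arbitrary. Then the family (g^*u_i) on X' is separating. (The published statement allows
homomorphisms into direct images (f_λ)_*G_λ; this row is the case Z_λ = X, to which the general case
reduces.) -/
theorem result {X X' : Scheme.{u}} [IsNoetherian X]
    (hX : topologicalKrullDim X ≤ 0) (F : X.Modules) [Coh.IsQCoh F] {ι : Type u}
    (G : ι → X.Modules) [∀ i, Coh.IsQCoh (G i)] (u : ∀ i, F ⟶ G i) (g : X' ⟶ X) [Flat g]
    (h : (∀ (V : (X).Opens) (t : ↑((F).presheaf.obj (Opposite.op V))), (∀ i, (Scheme.Modules.Hom.mapPresheaf (u i)).app (Opposite.op V) t = 0) → t = 0)) :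
    (∀ (V : (X').Opens) (t : ↑(((Scheme.Modules.pullback g).obj F).presheaf.obj (Opposite.op V))), (∀ i, (Scheme.Modules.Hom.mapPresheaf ((Scheme.Modules.pullback g).map (u i))).app (Opposite.op V) t = 0) → t = 0) := by
  have hclosed : ∀ x : X, IsClosed ({x} : Set X) := fun x => by
    refine isClosed_of_closure_subset fun y hy => ?_
    by_contra hne
    rw [Set.mem_singleton_iff] at hne
    let a : TopologicalSpace.IrreducibleCloseds X := ⟨closure {y}, isIrreducible_singleton.closure, isClosed_closure⟩
    let b : TopologicalSpace.IrreducibleCloseds X := ⟨closure {x}, isIrreducible_singleton.closure, isClosed_closure⟩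
    have hab : a < b := by
      refine lt_of_le_not_ge (fun w hw => closure_minimal (Set.singleton_subset_iff.2 hy) isClosed_closure hw)
        fun hh => hne ?_
      exact (inseparable_iff_specializes_and.2 ⟨specializes_iff_mem_closure.2 (hh (subset_closure rfl)),
        specializes_iff_mem_closure.2 hy⟩).eq
    have := (Order.LTSeries.length_le_krullDim ((RelSeries.singleton _ a).snoc b hab)).trans hX
    simp at this
    norm_cast at this
  have : T1Space X := ⟨hclosed⟩
  have hfin : Finite X := by
    refine Set.finite_univ_iff.1 ((TopologicalSpace.NoetherianSpace.finite_irreducibleComponents (α := X)).biUnion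
      (t := fun C => C) (fun C hC => ?_) |>.subset fun x _ => Set.mem_biUnion
        (irreducibleComponent_mem_irreducibleComponents x) mem_irreducibleComponent)
    obtain ⟨η, hη⟩ := QuasiSober.sober hC.1 (isClosed_of_mem_irreducibleComponents C hC)
    rw [← hη.def, (hclosed η).closure_eq]
    exact Set.finite_singleton η
  have : DiscreteTopology X := inferInstance
  refine Groth.Agent.E4O.Sep.isSep_of_basis fun V₀ y hy => ?_
  obtain ⟨U, hU, hxU, hUx⟩ := exists_isAffineOpen_mem_and_subset
    (U := (⟨{g y}, isOpen_discrete _⟩ : X.Opens)) (x := g y) (Set.mem_singleton _)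
  obtain ⟨W, hW, hyW, hWle⟩ := exists_isAffineOpen_mem_and_subset (U := g ⁻¹ᵁ U ⊓ V₀) (x := y) ⟨hxU, hy⟩
  have hsub : Subsingleton (PrimeSpectrum Γ(X, U)) := ⟨fun a b => hU.fromSpec.isOpenEmbedding.injective (by
    have ha : hU.fromSpec a ∈ U := hU.range_fromSpec.le ⟨a, rfl⟩
    have hb : hU.fromSpec b ∈ U := hU.range_fromSpec.le ⟨b, rfl⟩
    exact (Set.mem_singleton_iff.1 (hUx ha)).trans (Set.mem_singleton_iff.1 (hUx hb)).symm)⟩
  have : Nontrivial Γ(X, U) := by
    obtain ⟨q, -⟩ : g y ∈ Set.range hU.fromSpec := by rw [hU.range_fromSpec]; exact hxU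
    exact PrimeSpectrum.nontrivial q
  have : IsNoetherianRing Γ(X, U) := IsLocallyNoetherian.component_noetherian ⟨U, hU⟩
  have : IsLocalRing Γ(X, U) := by
    obtain ⟨m, hm⟩ := Ideal.exists_maximal Γ(X, U)
    exact IsLocalRing.of_unique_max_ideal ⟨m, hm, fun m' hm' =>
      congrArg PrimeSpectrum.asIdeal (hsub.elim ⟨m', hm'.isPrime⟩ ⟨m, hm.isPrime⟩)⟩
  have : Ring.KrullDimLE 0 Γ(X, U) := Ring.krullDimLE_zero_iff.2 fun I hI => by
    obtain ⟨m, hm, hIm⟩ := Ideal.exists_le_maximal I hI.ne_top
    rw [show I = m from congrArg PrimeSpectrum.asIdeal (hsub.elim ⟨I, hI⟩ ⟨m, hm.isPrime⟩)]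
    exact hm
  have : IsArtinianRing Γ(X, U) := IsNoetherianRing.isArtinianRing_of_krullDimLE_zero
  have e : W ≤ g ⁻¹ᵁ U := hWle.trans inf_le_left
  obtain ⟨b, hb, hyb⟩ := hW.exists_basicOpen_le (V := W) ⟨y, hyW⟩ hyW
  refine ⟨X'.basicOpen b, hb.trans (hWle.trans inf_le_right), hyb,
    Groth.Agent.E4O.Sep.sepOn_pullback_basicOpen g u hU hW e b ?_⟩
  let _ := (g.appLE U W e).hom.toAlgebra
  have : Module.Flat Γ(X, U) Γ(X', W) := g.flat_appLE hU hW e
  exact Groth.Agent.E4O.Sep.stableSep_of_flat_artinian Γ(X', W) _ (Groth.Agent.E4O.Sep.sepMod_of_isSep h hU)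


end Groth.Agent.S4912
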