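import Groth.Statements.S4914
import Groth.Agent.E4O.OpenAt

set_option autoImplicit false
open CategoryTheory AlgebraicGeometry
universe u v w
open EGA43

namespace Groth.Agent.S4914

/-- Let ψ : X → Y be a continuous map, x a point of X, and (Y_i) a locally finite covering of Y by
closed subsets. If for every index i with ψ x ∈ Y_i the restriction ψ⁻¹(Y_i) → Y_i of ψ is open at
x, then ψ is open at x. -/
theorem result {α : Type u} {β : Type v} {ι : Type w} [TopologicalSpace α]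
    [TopologicalSpace β] (ψ : α → β) (hψ : Continuous ψ) (x : α) (Y : ι → Set β) (hY : LocallyFinite Y)
    (hcl : ∀ i, IsClosed (Y i)) (hcov : ⋃ i, Y i = Set.univ)
    (h : ∀ i, ∀ hi : ψ x ∈ Y i, EGA43.IsOpenAt ((Y i).restrictPreimage ψ) ⟨x, hi⟩) :
    EGA43.IsOpenAt ψ x := by
  intro U hU
  have hfin : {i | ψ x ∈ Y i}.Finite := hY.point_finite _
  have h1 : (⋂ i ∈ {i | ψ x ∈ Y i}, (ψ '' U ∪ (Y i)ᶜ)) ∈ nhds (ψ x) := by
    rw [Filter.biInter_mem hfin]
    intro i hi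
    obtain ⟨u, hu, hsub⟩ := mem_nhds_subtype _ _ _ |>.1
      (h i hi _ (preimage_coe_mem_nhds_subtype.2 (mem_nhdsWithin_of_mem_nhds hU)))
    refine Filter.mem_of_superset hu fun b hb => ?_
    by_cases hbY : b ∈ Y i
    · obtain ⟨⟨a, ha'⟩, ha, hab⟩ := hsub (show (⟨b, hbY⟩ : ↥(Y i)) ∈ Subtype.val ⁻¹' u from hb)
      exact Or.inl ⟨a, ha, congrArg Subtype.val hab⟩
    · exact Or.inr hbY
  refine Filter.mem_of_superset (Filter.inter_mem h1 (hY.iInter_compl_mem_nhds hcl (ψ x))) ?_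
  rintro b ⟨hb1, hb2⟩
  obtain ⟨i, hi⟩ := Set.mem_iUnion.1 (hcov.symm ▸ Set.mem_univ b : b ∈ ⋃ i, Y i)
  by_cases hxi : ψ x ∈ Y i
  · rcases Set.mem_iInter₂.1 hb1 i hxi with h | h
    · exact h
    · exact absurd hi h
  · exact absurd hi (Set.mem_iInter₂.1 hb2 i hxi)

end Groth.Agent.S4914
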