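import Groth.Statements.S4917
import Groth.Agent.E4O.OpenDim
import Groth.Agent.E4O.FibreComp

set_option autoImplicit false
open CategoryTheory AlgebraicGeometry
universe u v w
open EGA43

namespace Groth.Agent.S4917

/-- Assume Y is a locally Noetherian scheme and X is an irreducible scheme, and consider a dominant
morphism f : X ⟶ Y that is locally of finite type. Fix a point x of X and write y = f x. If, for
every irreducible component of the fibre X_y that contains x, the morphism f is open at the generic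
point of that component, then f is equidimensional at x. -/
theorem result {X Y : Scheme.{u}} [IsLocallyNoetherian Y]
    [IrreducibleSpace X] (f : X ⟶ Y) [LocallyOfFiniteType f] [IsDominant f] (x : X)
    (h : ∀ z : ↥(f.fiber (f.base x)), f.asFiber x ∈ closure {z} →
      (∀ z' : ↥(f.fiber (f.base x)), z ∈ closure {z'} → z' = z) →
      EGA43.IsOpenAt f.base ((f.fiberι (f.base x)).base z)) :
    EGA43.IsEquidimAt f x := by
  let ξ := genericPoint X
  have hξ : ∀ z : X, ξ ⤳ z := genericPoint_specializes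
  let e := Groth.Agent.E4O.fdeg f ξ
  have hlow : ∀ z, Groth.Agent.E4O.IsFibreMax f z → e ≤ Groth.Agent.E4O.fdeg f z := fun z hz => by
    have := Groth.Agent.E4O.fdeg_le_fibreDimAt_of_specializes (f := f) (hξ z)
    rw [Groth.Agent.E4O.fibreDimAt_eq_fdeg hz] at this
    exact_mod_cast this
  have hx : FlatMor.fibreDimAt f x ≤ (e : ℕ) := by
    obtain ⟨z, hzx, hfz, hzmax, hd, -⟩ := Groth.Agent.E4O.exists_isFibreMax_specializes f x
    rw [hd]
    obtain ⟨w, rfl⟩ := Groth.Agent.E4O.exists_fiberι_eq f hfz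
    have hop := h w (specializes_iff_mem_closure.1
      ((Groth.Agent.E4O.specializes_fiberι_iff f _ w _).1 (by rwa [f.fiberι_asFiber]))) fun z' hz' =>
        (Groth.Agent.E4O.isFibreMax_fiberι_iff f _ w).1 hzmax z' (specializes_iff_mem_closure.2 hz')
    obtain ⟨ξ', hξ', -, hle⟩ := Groth.Agent.E4O.exists_fdeg_ge_of_isOpenAt hop
      ((hξ _).map f.continuous)
    exact_mod_cast hle.trans (Groth.Agent.E4O.fdeg_le (hξ ξ') hξ'.symm)
  obtain ⟨U, hxU, hU⟩ := Groth.Agent.E4O.exists_open_forall_fibreDimAt_le f x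
  refine ⟨e, U, hxU, fun Z hZ => ?_, fun x' Z hZ => ?_⟩
  · have hY : IrreducibleSpace Y := by
      refine (irreducibleSpace_def _).2 ?_
      rw [Set.top_eq_univ, ← f.denseRange.closure_range]
      exact ((IrreducibleSpace.isIrreducible_univ X).image f f.continuous.continuousOn |>.closure)
        |> fun h => by rwa [Set.image_univ] at h
    have huniv : (Set.univ : Set Y) ∈ irreducibleComponents Y := by
      rw [irreducibleComponents_eq_singleton]; rfl
    refine ⟨Set.univ, huniv, trivial, ?_⟩
    have hξU : ξ ∈ U := (hξ x).mem_open U.isOpen hxU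
    have hirrU : IrreducibleSpace U := by
      refine (irreducibleSpace_def _).2 ⟨⟨⟨ξ, hξU⟩, trivial⟩, fun u v hu hv h1 h2 => ?_⟩
      obtain ⟨a, -, ha⟩ := h1
      obtain ⟨b, -, hb⟩ := h2
      exact ⟨⟨ξ, hξU⟩, trivial, ((subtype_specializes_iff ⟨ξ, hξU⟩ a).2 (hξ _)).mem_open hu ha,
        ((subtype_specializes_iff ⟨ξ, hξU⟩ b).2 (hξ _)).mem_open hv hb⟩
    have hirr : IsIrreducible (Set.univ : Set ↥U) := hirrU.isIrreducible_univ
    obtain rfl : Z = Set.univ :=
      Set.eq_univ_of_univ_subset (hZ.2 hirr (Set.subset_univ _))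
    refine Set.eq_univ_of_univ_subset ?_
    rw [← f.denseRange.closure_range]
    refine closure_minimal ?_ isClosed_closure
    rintro _ ⟨t, rfl⟩
    exact ((hξ t).map f.continuous).mem_closed isClosed_closure
      (subset_closure ⟨⟨ξ, hξU⟩, trivial, rfl⟩)
  · obtain ⟨z, -, hzmax, hd⟩ := Groth.Agent.E4O.exists_of_mem_irreducibleComponents_fiber _ hZ
    rw [hd]
    let w := (U.ι ≫ f).fiberι _ z
    rw [Groth.Agent.E4O.fdeg_comp_openImmersion]
    have hmax : Groth.Agent.E4O.IsFibreMax f (U.ι w) := fun a ha hfa => by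
      have haU : a ∈ U := ha.mem_open U.isOpen w.2
      have := hzmax ⟨a, haU⟩ ((subtype_specializes_iff (⟨a, haU⟩ : U) w).2 ha) hfa
      exact congrArg Subtype.val this
    have h1 := (hU (U.ι w) w.2).trans hx
    rw [Groth.Agent.E4O.fibreDimAt_eq_fdeg hmax] at h1
    have h1' : Groth.Agent.E4O.fdeg f (U.ι w) ≤ e := by exact_mod_cast h1
    rw [le_antisymm h1' (hlow _ hmax)]

end Groth.Agent.S4917
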