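import Groth.Statements.S4918
import Groth.Agent.E4O.EquidimLocal

set_option autoImplicit false
open CategoryTheory AlgebraicGeometry
universe u v w
open EGA43

namespace Groth.Agent.S4918

/-- Assume Y is a locally Noetherian scheme and consider a morphism f : X ⟶ Y that is locally of finite
type. Given a point x of X with image y = f x, suppose both local rings O_{X,x} and O_{Y,y} are
equidimensional. Whenever f is open at the generic point of each irreducible component of the fibre
X_y that contains x, the morphism f is equidimensional at x. -/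
theorem result {X Y : Scheme.{u}} [IsLocallyNoetherian Y] (f : X ⟶ Y)
    [LocallyOfFiniteType f] (x : X) (hX : EGA4.IsEquidim (X.presheaf.stalk x))
    (hY : EGA4.IsEquidim (Y.presheaf.stalk (f.base x)))
    (h : ∀ z : ↥(f.fiber (f.base x)), f.asFiber x ∈ closure {z} →
      (∀ z' : ↥(f.fiber (f.base x)), z ∈ closure {z'} → z' = z) →
      EGA43.IsOpenAt f.base ((f.fiberι (f.base x)).base z)) :
    EGA43.IsEquidimAt f x := by
  refine Groth.Agent.E4O.isEquidimAt_of_isOpenAt_of_isEquidim f x hX fun z hzx hfz hzmax => ?_
  obtain ⟨w, rfl⟩ := Groth.Agent.E4O.exists_fiberι_eq f hfz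
  refine h w (specializes_iff_mem_closure.1
    ((Groth.Agent.E4O.specializes_fiberι_iff f _ w _).1 (by rwa [f.fiberι_asFiber]))) fun z' hz' => ?_
  exact (Groth.Agent.E4O.isFibreMax_fiberι_iff f _ w).1 hzmax z' (specializes_iff_mem_closure.2 hz')

end Groth.Agent.S4918
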