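import Groth.Statements.S4919
import Groth.Agent.E4O.OpenDim
import Groth.Agent.E4O.FibreComp

set_option autoImplicit false
open CategoryTheory AlgebraicGeometry
universe u v w
open EGA43

namespace Groth.Agent.S4919

/-- Let Y be an irreducible locally Noetherian scheme with generic point η, f : X ⟶ Y a morphism locally
of finite type, y a point of Y and Z an irreducible component of the fibre f⁻¹(y) (a maximal
irreducible subset of f⁻¹(y), with the topology induced from X) such that f is open at the generic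
point ζ of Z. Then there is an irreducible component X' of X containing Z and dominating Y such that
the local dimension of X' ∩ f⁻¹(y) at ζ equals dim Z, and dim Z = dim (X' ∩ f⁻¹(η)). (The published
statement writes the middle term as the dimension of the whole of X' ∩ f⁻¹(y); its proof yields only
the local dimension at the generic point of Z, and the global equality can fail: for the
endomorphism (a, b) ↦ (ab, b² − b) of the affine plane over a field, the fibre over the origin is
the line b = 0 together with the isolated point (0, 1), at which the map is étale, hence open; with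
Z that point, X' is the whole plane, X' ∩ f⁻¹(y) has dimension 1 and dim Z = 0. So the local form is
stated here.) -/
theorem result {X Y : Scheme.{u}} [IrreducibleSpace Y]
    [IsLocallyNoetherian Y] (f : X ⟶ Y) [LocallyOfFiniteType f] (y : Y) (Z : Set X)
    (hZy : Z ⊆ f.base ⁻¹' {y}) (hZ : IsIrreducible Z)
    (hZmax : ∀ Z' : Set X, IsIrreducible Z' → Z' ⊆ f.base ⁻¹' {y} → Z ⊆ Z' → Z' = Z)
    (hopen : ∀ ζ ∈ Z, Z ⊆ closure {ζ} → EGA43.IsOpenAt f.base ζ) :
    ∃ X' ∈ irreducibleComponents (X : Type u), Z ⊆ X' ∧ Dense (f.base '' X') ∧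
      (∀ ζ ∈ Z, Z ⊆ closure {ζ} → ∀ hζ : ζ ∈ X' ∩ f.base ⁻¹' {y},
        FlatMor.localDim ↥(X' ∩ f.base ⁻¹' {y}) ⟨ζ, hζ⟩ = topologicalKrullDim ↥Z) ∧
      topologicalKrullDim ↥Z = topologicalKrullDim ↥(X' ∩ f.base ⁻¹' {genericPoint Y}) := by
  obtain ⟨g, hg⟩ := QuasiSober.sober hZ.closure isClosed_closure
  have hgz : ∀ z ∈ Z, g ⤳ z := fun z hz => hg.specializes (subset_closure hz)
  have hgy : f g = y := by
    obtain ⟨z, hz⟩ := hZ.nonempty
    have h1 : f g ∈ closure ({y} : Set Y) :=
      closure_minimal (t := f ⁻¹' closure {y}) (fun w hw => subset_closure (hZy hw))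
        (isClosed_closure.preimage f.continuous) hg.mem
    have h2 : f g ⤳ y := (hZy hz : f z = y) ▸ (hgz z hz).map f.continuous
    exact (h2.antisymm (specializes_iff_mem_closure.2 h1)).eq
  have hirr : ∀ w, f w = y → IsIrreducible (closure {w} ∩ f ⁻¹' {y}) := fun w hw => by
    refine ⟨⟨w, subset_closure rfl, hw⟩, fun u v hu hv h1 h2 => ?_⟩
    obtain ⟨a, ⟨ha, -⟩, hau⟩ := h1
    obtain ⟨b, ⟨hb, -⟩, hbv⟩ := h2
    exact ⟨w, ⟨subset_closure rfl, hw⟩, (specializes_iff_mem_closure.2 ha).mem_open hu hau,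
      (specializes_iff_mem_closure.2 hb).mem_open hv hbv⟩
  have hT : closure {g} ∩ f ⁻¹' {y} = Z :=
    hZmax _ (hirr g hgy) Set.inter_subset_right fun z hz =>
      ⟨specializes_iff_mem_closure.1 (hgz z hz), hZy hz⟩
  have hgZ : g ∈ Z := hT.le ⟨subset_closure rfl, hgy⟩
  have hop := hopen g hgZ fun z hz => specializes_iff_mem_closure.1 (hgz z hz)
  have hmax : ∀ w, w ⤳ g → f w = f g → w = g := fun w hw hfw => by
    have h1 := hZmax _ (hirr w (hfw.trans hgy)) Set.inter_subset_right fun z hz =>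
      ⟨specializes_iff_mem_closure.1 (hw.trans (hgz z hz)), hZy hz⟩
    exact (hw.antisymm (hgz w (h1.le ⟨subset_closure rfl, hfw.trans hgy⟩))).eq
  have hη : genericPoint Y ⤳ f g := genericPoint_specializes _
  obtain ⟨ξ, hξ, hξg, hd⟩ := Groth.Agent.E4O.exists_fdeg_ge_of_isOpenAt hop hη
  obtain ⟨X', hX', hsub⟩ := exists_mem_irreducibleComponents_subset_of_isIrreducible
    (closure ({ξ} : Set X)) isIrreducible_singleton.closure
  obtain ⟨ξ', hξ'⟩ := QuasiSober.sober hX'.1 (isClosed_of_mem_irreducibleComponents X' hX')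
  have hξξ : ξ' ⤳ ξ := hξ'.specializes (hsub (subset_closure rfl))
  have hfξ : f ξ' = genericPoint Y :=
    ((hξ ▸ hξξ.map f.continuous).antisymm (genericPoint_specializes _)).eq
  have hd' : Groth.Agent.E4O.fdeg f ξ' = Groth.Agent.E4O.fdeg f g := by
    refine le_antisymm ?_ (hd.trans (Groth.Agent.E4O.fdeg_le hξξ (hfξ.trans hξ.symm)))
    have := Groth.Agent.E4O.fdeg_le_fibreDimAt_of_specializes (f := f) (hξξ.trans hξg)
    rw [Groth.Agent.E4O.fibreDimAt_eq_fdeg hmax] at this
    exact_mod_cast this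
  have hX'eq : X' = closure {ξ'} := hξ'.def.symm
  have hdimZ : topologicalKrullDim ↥Z = (Groth.Agent.E4O.fdeg f g : ℕ) := by
    rw [← hT, ← hgy, Groth.Agent.E4O.dim_fibreClosure]
  have hgX : closure {g} ⊆ X' := by
    rw [hX'eq]
    exact closure_minimal (Set.singleton_subset_iff.2
      (specializes_iff_mem_closure.1 (hξξ.trans hξg))) isClosed_closure
  refine ⟨X', hX', fun z hz => hgX (specializes_iff_mem_closure.1 (hgz z hz)), ?_, ?_, ?_⟩
  · refine Dense.mono (Set.singleton_subset_iff.2 ⟨ξ', hξ'.mem, hfξ⟩) ?_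
    exact dense_iff_closure_eq.2 (genericPoint_closure (α := Y))
  · intro ζ hζ hZζ hζm
    have hζg : ζ = g := ((specializes_iff_mem_closure.2 (hZζ hgZ)).antisymm (hgz ζ hζ)).eq
    subst hζg
    subst hgy
    rw [hdimZ]
    refine le_antisymm ?_ ?_
    · obtain ⟨U, hgU, hU⟩ := Groth.Agent.TopDim50.exists_localDim_eq (⟨ζ, rfl⟩ : ↥(f ⁻¹' {f ζ}))
      rw [← Groth.Agent.E4O.fibreDimAt_eq_fdeg hmax, Groth.Agent.E4O.fibreDimAt_eq_localDim, hU]
      let j : ↥(X' ∩ f ⁻¹' {f ζ}) → ↥(f ⁻¹' {f ζ}) := fun z => ⟨z.1, z.2.2⟩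
      have hj : Topology.IsEmbedding j := Topology.IsEmbedding.inclusion Set.inter_subset_right
      refine (Groth.Agent.TopDim50.localDim_le ⟨j ⁻¹' (U : Set _), U.isOpen.preimage hj.continuous⟩
        hgU).trans ?_
      rw [TopologicalSpace.Opens.coe_mk, Groth.Agent.E4O.dim_preimage_of_isEmbedding hj]
      exact Groth.Agent.TopDim50.dim_mono Set.inter_subset_left
    · refine le_iInf fun ⟨U, hU⟩ => ?_
      obtain ⟨O, hO, hOeq⟩ := isOpen_induced_iff.1 U.isOpen
      have hgO : ζ ∈ O := by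
        have h1 : (⟨ζ, hζm⟩ : ↥(X' ∩ f ⁻¹' {f ζ})) ∈ Subtype.val ⁻¹' O := by rw [hOeq]; exact hU
        exact h1
      rw [← hOeq, Groth.Agent.E4O.dim_preimage_of_isEmbedding Topology.IsEmbedding.subtypeVal,
        Subtype.range_coe, ← Groth.Agent.E4O.dim_open_inter_fibreClosure (f := f) ζ hO hgO]
      exact Groth.Agent.TopDim50.dim_mono fun z hz => ⟨hz.1, hgX hz.2.1, hz.2.2⟩
  · rw [hdimZ, hX'eq, ← hfξ, Groth.Agent.E4O.dim_fibreClosure, hd']

end Groth.Agent.S4919
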