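import Groth.Statements.S4920
import Groth.Agent.E4O.OpenDim
import Groth.Agent.E4O.FibreComp

set_option autoImplicit false
open CategoryTheory AlgebraicGeometry
universe u v w
open EGA43

namespace Groth.Agent.S4920

/-- Let Y be an irreducible locally Noetherian scheme with generic point η, f : X ⟶ Y a morphism locally
of finite type and y a point of Y such that f is open at every point of the fibre over y. For z in Y
write E(z) for the set of dimensions of the irreducible components of the fibre X_z. Then E(y) ⊆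
E(η), and consequently dim X_y ≤ dim X_η. -/
theorem result {X Y : Scheme.{u}} [IrreducibleSpace Y] [IsLocallyNoetherian Y]
    (f : X ⟶ Y) [LocallyOfFiniteType f] (y : Y) (h : ∀ x : X, f.base x = y → EGA43.IsOpenAt f.base x) :
    letI E : Y → Set (WithBot ℕ∞) := fun z =>
      (fun Z : Set ↥(f.fiber z) => topologicalKrullDim ↥Z) '' irreducibleComponents ↥(f.fiber z)
    E y ⊆ E (genericPoint Y) ∧
      topologicalKrullDim ↥(f.fiber y) ≤ topologicalKrullDim ↥(f.fiber (genericPoint Y)) := by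
  have key : ∀ x : X, f x = y → Groth.Agent.E4O.IsFibreMax f x →
      ∃ ξ : X, f ξ = genericPoint Y ∧ Groth.Agent.E4O.IsFibreMax f ξ ∧
        Groth.Agent.E4O.fdeg f ξ = Groth.Agent.E4O.fdeg f x := by
    intro x hx hmax
    obtain ⟨ξ, hξ, hξx, hd⟩ := Groth.Agent.E4O.exists_fdeg_ge_of_isOpenAt (h x hx)
      (genericPoint_specializes (f x))
    obtain ⟨ξ', hξ'ξ, hfξ', hmax', -, hd'⟩ := Groth.Agent.E4O.exists_isFibreMax_specializes f ξ
    refine ⟨ξ', hfξ'.trans hξ, hmax', le_antisymm ?_ (hd.trans hd')⟩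
    have := Groth.Agent.E4O.fdeg_le_fibreDimAt_of_specializes (f := f) (hξ'ξ.trans hξx)
    rw [Groth.Agent.E4O.fibreDimAt_eq_fdeg hmax] at this
    exact_mod_cast this
  refine ⟨?_, ?_⟩
  · rintro _ ⟨Z, hZ, rfl⟩
    obtain ⟨z, -, hzmax, hzd⟩ := Groth.Agent.E4O.exists_of_mem_irreducibleComponents_fiber f hZ
    obtain ⟨ξ, hξ, hξmax, hd⟩ := key _ (Groth.Agent.E4O.apply_fiberι f y z) hzmax
    obtain ⟨W, hW, hWd⟩ := Groth.Agent.E4O.exists_component_of_isFibreMax f hξ hξmax
    exact ⟨W, hW, by simp only; rw [hWd, hd]; exact hzd.symm⟩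
  · rw [Groth.Agent.E4O.dim_fiber_le_iff]
    intro x hx
    obtain ⟨z, -, hfz, hzmax, -, hle⟩ := Groth.Agent.E4O.exists_isFibreMax_specializes f x
    obtain ⟨ξ, hξ, -, hd⟩ := key z (hfz.trans hx) hzmax
    refine le_trans ?_ ((Groth.Agent.E4O.dim_fiber_le_iff f _ _).1 le_rfl ξ hξ)
    rw [hd]
    exact_mod_cast hle

end Groth.Agent.S4920
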