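import Groth.Statements.S4921
import Groth.Agent.E4O.OpenDim
import Groth.Agent.E4O.FibreComp
import Groth.Agent.S0403

set_option autoImplicit false
open CategoryTheory AlgebraicGeometry
universe u v w
open EGA43

namespace Groth.Agent.S4921

/-- Let Y be a locally Noetherian scheme, f : X ⟶ Y a proper morphism and y a point of Y such that f is
open at every point of the fibre over y. Then the function z ↦ dim X_z is constant on a
neighbourhood of y. -/
theorem result {X Y : Scheme.{u}} [IsLocallyNoetherian Y] (f : X ⟶ Y)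
    [IsProper f] (y : Y) (h : ∀ x : X, f.base x = y → EGA43.IsOpenAt f.base x) :
    ∃ V ∈ nhds y, ∀ z ∈ V, topologicalKrullDim ↥(f.fiber z) = topologicalKrullDim ↥(f.fiber y) := by
  have hclosed : ∀ c : WithBot ℕ∞, IsClosed {z : Y | ¬ topologicalKrullDim ↥(f.fiber z) ≤ c} :=
    fun c => (Groth.Agent.S0403.result f c).isClosed_compl
  let E : Set Y := {z : Y | topologicalKrullDim ↥(f.fiber y) ≤ topologicalKrullDim ↥(f.fiber z)}
  have hE : IsClosed E := by
    have : E = ⋂ c : {c // c < topologicalKrullDim ↥(f.fiber y)},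
        {z : Y | ¬ topologicalKrullDim ↥(f.fiber z) ≤ c.1} := by
      ext z
      simp only [E, Set.mem_setOf_eq, Set.mem_iInter, not_le]
      exact ⟨fun hz c => c.2.trans_le hz, fun hz => not_lt.1 fun hlt => lt_irrefl _ (hz ⟨_, hlt⟩)⟩
    rw [this]
    exact isClosed_iInter fun c => hclosed c.1
  have hgen : ∀ η, η ⤳ y → η ∈ E := by
    intro η hη
    refine (Groth.Agent.E4O.dim_fiber_le_iff f y _).2 fun x hx => ?_
    obtain ⟨z, -, hfz, -, -, hle⟩ := Groth.Agent.E4O.exists_isFibreMax_specializes f x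
    obtain ⟨ξ, hξ, -, hd⟩ := Groth.Agent.E4O.exists_fdeg_ge_of_isOpenAt (h z (hfz.trans hx))
      (η := η) (by rw [hfz, hx]; exact hη)
    refine le_trans ?_ ((Groth.Agent.E4O.dim_fiber_le_iff f η _).1 le_rfl ξ hξ)
    exact_mod_cast hle.trans hd
  have hEnhd : E ∈ nhds y := by
    refine Groth.Agent.E4O.mem_nhds_of_forall_generization (fun a => ?_) hgen
    obtain ⟨_, ⟨U, hU, rfl⟩, haU, -⟩ :=
      Y.isBasis_affineOpens.exists_subset_of_mem_open (Set.mem_univ a) isOpen_univ
    have : IsNoetherianRing Γ(Y, U) := IsLocallyNoetherian.component_noetherian ⟨U, hU⟩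
    have : TopologicalSpace.NoetherianSpace (U : Set Y) := noetherianSpace_of_isAffineOpen U hU
    refine ⟨U, U.isOpen.mem_nhds haU, U.isOpen, ?_⟩
    have hopen : IsOpen ((Subtype.val : ↥(U : Set Y) → Y) ⁻¹' E)ᶜ :=
      isOpen_compl_iff.2 (hE.preimage continuous_subtype_val)
    exact (IsRetrocompact.isConstructible hopen
      fun T hT hTo => TopologicalSpace.NoetherianSpace.isCompact _).of_compl
  refine ⟨_, Filter.inter_mem hEnhd ((Groth.Agent.S0403.result f
    (topologicalKrullDim ↥(f.fiber y))).mem_nhds (by exact le_refl (topologicalKrullDim ↥(f.fiber y)))), fun z hz => le_antisymm hz.2 hz.1⟩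

end Groth.Agent.S4921
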