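import Groth.Statements.S4922
import Groth.Agent.E4O.OpenMapDims2

set_option autoImplicit false
open CategoryTheory AlgebraicGeometry
universe u v w
open EGA43 TopologicalSpace Topology Groth.Agent.E4O

namespace Groth.Agent.S4922

/-- Let Y be a locally Noetherian scheme, f : X ⟶ Y an open morphism of finite type and y a point of Y.
If dim X_y = dim X_{η} for the generic point η of every irreducible component of Y containing y,
then z ↦ dim X_z is constant on a neighbourhood of y. -/
theorem result {X Y : Scheme.{u}} [IsLocallyNoetherian Y]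
    (f : X ⟶ Y) [LocallyOfFiniteType f] [QuasiCompact f] (hf : IsOpenMap f.base) (y : Y)
    (h : ∀ η : Y, y ∈ closure {η} → closure {η} ∈ irreducibleComponents (Y : Type u) →
      topologicalKrullDim ↥(f.fiber y) = topologicalKrullDim ↥(f.fiber η)) :
    ∃ V ∈ nhds y, ∀ z ∈ V, topologicalKrullDim ↥(f.fiber z) = topologicalKrullDim ↥(f.fiber y) := by
  obtain ⟨V, hV, hVs⟩ := exists_nhds_fibreDims_superset f hf y
  set c := topologicalKrullDim ↥(f.fiber y) with hc
  have hW : (f '' {x | FlatMor.fibreDimAt f x ≤ c}ᶜ)ᶜ ∈ nhds y := by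
    refine mem_nhds_of_forall_generization
      (isLocallyConstructible_compl (isLocallyConstructible_image_gt f c)) fun z hz => ?_
    rintro ⟨x, hx, rfl⟩
    obtain ⟨η, hη, hcomp⟩ := exists_component_generic_specializes (f x)
    obtain ⟨w, -, -, -, hdw, -⟩ := exists_isFibreMax_specializes f x
    have h1 := (dim_fiber_le_iff_fibreDims f η _).1 (h η (hη.trans hz).mem_closure hcomp).ge
      _ (fibreDims_subset f hf hη ⟨x, rfl, hdw⟩)
    rw [← hdw] at h1
    exact hx h1
  refine ⟨_, Filter.inter_mem hV hW, fun z hz =>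
    le_antisymm (dim_fiber_le_of_notMem_image f z c hz.2) ?_⟩
  rw [hc, dim_fiber_le_iff_fibreDims]
  exact fun d hd => (dim_fiber_le_iff_fibreDims f z _).1 le_rfl d (hVs z hz.1 hd)

end Groth.Agent.S4922
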