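import Groth.Statements.S4923
import Groth.Agent.E4O.OpenMapDims2

set_option autoImplicit false
open CategoryTheory AlgebraicGeometry
universe u v w
open EGA43 TopologicalSpace Topology Groth.Agent.E4O

namespace Groth.Agent.S4923

/-- Let Y be a locally Noetherian scheme, f : X ⟶ Y an open morphism of finite type and y a point of Y;
for z in Y let E(z) be the set of dimensions of the irreducible components of the fibre X_z. If E(y)
= E(η) for the generic point η of every irreducible component of Y containing y, then E is constant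
on a neighbourhood of y. -/
theorem result {X Y : Scheme.{u}}
    [IsLocallyNoetherian Y] (f : X ⟶ Y) [LocallyOfFiniteType f] [QuasiCompact f] (hf : IsOpenMap f.base) (y : Y) :
    letI E : Y → Set (WithBot ℕ∞) := fun z =>
      (fun Z : Set ↥(f.fiber z) => topologicalKrullDim ↥Z) '' irreducibleComponents ↥(f.fiber z)
    (∀ η : Y, y ∈ closure {η} → closure {η} ∈ irreducibleComponents (Y : Type u) → E y = E η) →
      ∃ V ∈ nhds y, ∀ z ∈ V, E z = E y := by
  intro h
  have hinj : Function.Injective fun d : ℕ => ((d : ℕ) : WithBot ℕ∞) :=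
    fun a b h => Nat.cast_inj.1 (WithBot.coe_inj.1 h)
  simp only [image_dim_components_eq] at h ⊢
  obtain ⟨V, hV, hVs⟩ := exists_nhds_fibreDims_superset f hf y
  have hW : (f '' {x | ∀ d ∈ fibreDims f y, FlatMor.fibreDimAt f x ≠ (d : ℕ)})ᶜ ∈ nhds y := by
    refine mem_nhds_of_forall_generization (isLocallyConstructible_compl
      (isLocallyConstructible_image_notMem f (finite_fibreDims f y))) fun z hz => ?_
    rintro ⟨x, hx, rfl⟩
    obtain ⟨η, hη, hcomp⟩ := exists_component_generic_specializes (f x)
    obtain ⟨w, -, -, -, hdw, -⟩ := exists_isFibreMax_specializes f x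
    have h1 := h η (hη.trans hz).mem_closure hcomp
    have h2 := fibreDims_subset f hf hη ⟨x, rfl, hdw⟩
    rw [← hinj.image_injective h1] at h2
    exact hx _ h2 hdw
  refine ⟨_, Filter.inter_mem hV hW, fun z hz => ?_⟩
  refine congrArg _ (Set.Subset.antisymm ?_ (hVs z hz.1))
  rintro d ⟨x, hx, hd⟩
  by_contra hc
  exact hz.2 ⟨x, fun d' hd' h' => hc (hinj (hd.symm.trans h') ▸ hd'), hx⟩

end Groth.Agent.S4923
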