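import Groth.Statements.S4924
import Groth.Agent.E4O.OpenMapDims2

set_option autoImplicit false
open CategoryTheory AlgebraicGeometry
universe u v w
open EGA43 TopologicalSpace Topology Groth.Agent.E4O

namespace Groth.Agent.S4924

/-- Let Y be a locally Noetherian scheme, f : X ⟶ Y an open morphism of finite type and y a point of Y.
Then there is an open neighbourhood U of the fibre f⁻¹(y) in X such that the function z ↦ dim (U ∩
f⁻¹(z)) is constant on a neighbourhood of y. -/
theorem result {X Y : Scheme.{u}} [IsLocallyNoetherian Y]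
    (f : X ⟶ Y) [LocallyOfFiniteType f] [QuasiCompact f] (hf : IsOpenMap f.base) (y : Y) :
    ∃ U : X.Opens, f.base ⁻¹' {y} ⊆ (U : Set X) ∧ ∃ V ∈ nhds y, ∀ z ∈ V,
      topologicalKrullDim ↥((U : Set X) ∩ f.base ⁻¹' {z}) = topologicalKrullDim ↥((U : Set X) ∩ f.base ⁻¹' {y}) := by
  obtain ⟨V, hV, hVs⟩ := exists_nhds_fibreDims_superset f hf y
  set c := topologicalKrullDim ↥(f.fiber y) with hc
  let U : X.Opens := ⟨{x | FlatMor.fibreDimAt f x ≤ c}, isOpen_fibreDimAt_le f c⟩
  have key : ∀ z ∈ V, topologicalKrullDim ↥((U : Set X) ∩ f ⁻¹' {z}) = c := by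
    intro z hz
    refine le_antisymm ((dim_inter_fibre_le_iff f U z c).2 fun x hx _ =>
      (fdeg_le_fibreDimAt specializes_rfl rfl).trans hx) ?_
    rw [hc, dim_fiber_le_iff_fibreDims]
    intro d hd
    have hdc : ((d : ℕ) : WithBot ℕ∞) ≤ c := (dim_fiber_le_iff_fibreDims f y c).1 le_rfl d hd
    obtain ⟨x, hx, hxd⟩ := hVs z hz hd
    have hxU : x ∈ U := hxd.trans_le hdc
    obtain ⟨w, hw, hfw, -, hdw, -⟩ := exists_isFibreMax_specializes f x
    rw [← hxd, hdw]
    exact le_dim_inter_fibre f U (hw.mem_open U.isOpen hxU) (hfw.trans hx)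
  exact ⟨U, fun x hx => (fibreDimAt_le_dim_fiber f x).trans (by rw [show f x = y from hx]),
    V, hV, fun z hz => (key z hz).trans (key y (mem_of_mem_nhds hV)).symm⟩

end Groth.Agent.S4924
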