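import Groth.Statements.S4926
import Groth.Agent.E4O.OpenAt

set_option autoImplicit false
open CategoryTheory AlgebraicGeometry
universe u v w
open EGA43
open CategoryTheory.Limits

namespace Groth.Agent.S4926

/-- Let f : X ⟶ Y and g : Y ⟶ Z be morphisms of schemes and x a point of X. If f ≫ g is universally open
at x, then g is universally open at the point f x. -/
theorem result {X Y Z : Scheme.{u}} (f : X ⟶ Y) (g : Y ⟶ Z) (x : X)
    (h : EGA43.IsUnivOpenAt (f ≫ g) x) : EGA43.IsUnivOpenAt g (f.base x) := by
  intro W w y' hy'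
  obtain ⟨z, hz1, hz2⟩ := Groth.Agent.E4O.exists_of_isPullback (IsPullback.of_hasPullback f (pullback.fst g w)) x y' hy'.symm
  have sq := (IsPullback.of_hasPullback f (pullback.fst g w)).paste_vert (IsPullback.of_hasPullback g w)
  have h1 := Groth.Agent.E4O.isOpenAt_of_isPullback h sq z hz1
  have e : ⇑(pullback.snd f (pullback.fst g w) ≫ pullback.snd g w) =
      ⇑(pullback.snd g w) ∘ ⇑(pullback.snd f (pullback.fst g w)) := by
    funext b; exact Scheme.Hom.comp_apply _ _ b
  rw [e] at h1
  exact hz2 ▸ Groth.Agent.E4O.isOpenAt_of_comp (pullback.snd f (pullback.fst g w)).continuous h1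

end Groth.Agent.S4926
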