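import Groth.Statements.S4928
import Groth.Agent.E4O.GenOpen
import Mathlib.AlgebraicGeometry.Stalk

set_option autoImplicit false
open CategoryTheory AlgebraicGeometry
universe u v w
open EGA43

namespace Groth.Agent.S4928

open CategoryTheory.Limits in
/-- Let f : X ⟶ Y be locally of finite presentation, x a point of X, y = f x, and f₁ : X ×_Y Spec
O_{Y,y} ⟶ Spec O_{Y,y} the base change of f to the local scheme of Y at y. Then for every point x₁
of X ×_Y Spec O_{Y,y} projecting to x, f is universally open at x if and only if f₁ is universally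
open at x₁. -/
theorem result {X Y : Scheme.{u}} (f : X ⟶ Y) [LocallyOfFinitePresentation f]
    (x : X) (x₁ : ↥(pullback f (Y.fromSpecStalk (f.base x))))
    (hx₁ : (pullback.fst f (Y.fromSpecStalk (f.base x))).base x₁ = x) :
    EGA43.IsUnivOpenAt f x ↔ EGA43.IsUnivOpenAt (pullback.snd f (Y.fromSpecStalk (f.base x))) x₁ := by
  refine ⟨fun h => Groth.Agent.E4O.isUnivOpenAt_of_isPullback h (IsPullback.of_hasPullback f _) x₁ hx₁,
    fun h => ?_⟩
  intro W w z hz
  rw [Groth.Agent.E4O.isOpenAt_iff_forall_exists_specializes]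
  intro w' hw'
  let t := pullback.snd f w z
  let j := W.fromSpecStalk t
  have hwt : f.base x = w t := by
    subst hz
    simp only [t, ← Scheme.Hom.comp_apply, pullback.condition]
  let k : Spec (W.presheaf.stalk t) ⟶ Spec (Y.presheaf.stalk (f.base x)) :=
    Spec.map (Y.presheaf.stalkSpecializes (specializes_of_eq hwt.symm) ≫ w.stalkMap t)
  have hk : k ≫ Y.fromSpecStalk (f.base x) = j ≫ w := by
    simp only [k, Spec.map_comp, Category.assoc, Scheme.SpecMap_stalkSpecializes_fromSpecStalk,
      Scheme.SpecMap_stalkMap_fromSpecStalk, j]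
  obtain ⟨s', hs'⟩ : w' ∈ Set.range j := by
    rw [Scheme.range_fromSpecStalk]
    exact hw'
  let f₁ := pullback.snd f (Y.fromSpecStalk (f.base x))
  have hj : j (IsLocalRing.closedPoint _) = t := Scheme.fromSpecStalk_closedPoint
  have hk0 : k (IsLocalRing.closedPoint _) = f₁ x₁ := by
    apply (Y.fromSpecStalk (f.base x)).isEmbedding.injective
    rw [← Scheme.Hom.comp_apply, hk, Scheme.Hom.comp_apply, hj, ← hwt]
    refine (congrArg f.base hx₁).symm.trans ?_
    simp only [f₁, ← Scheme.Hom.comp_apply, pullback.condition]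
  let a := pullback.fst f₁ k ≫ pullback.fst f (Y.fromSpecStalk (f.base x))
  have hc : a ≫ f = (pullback.snd f₁ k ≫ j) ≫ w := by
    simp only [a, Category.assoc]
    rw [pullback.condition, ← hk, ← pullback.condition_assoc]
  let e := pullback.lift a (pullback.snd f₁ k ≫ j) hc
  have he1 : e ≫ pullback.fst f w = a := pullback.lift_fst _ _ _
  have he2 : e ≫ pullback.snd f w = pullback.snd f₁ k ≫ j := pullback.lift_snd _ _ _
  have outer : IsPullback a (pullback.snd f₁ k) f (j ≫ w) :=
    hk ▸ (IsPullback.of_hasPullback f₁ k).paste_horiz (IsPullback.of_hasPullback f _)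
  rw [← he1] at outer
  have sq := IsPullback.of_right outer he2 (IsPullback.of_hasPullback f w)
  -- the point of the local base change over `z`
  obtain ⟨z₀, hz₀, hz₀'⟩ := Groth.Agent.E4O.exists_of_isPullback sq z (IsLocalRing.closedPoint _) hj.symm
  have hx₀ : pullback.fst f₁ k z₀ = x₁ := by
    apply (pullback.fst f (Y.fromSpecStalk (f.base x))).isEmbedding.injective
    show (pullback.fst f₁ k ≫ pullback.fst f (Y.fromSpecStalk (f.base x))) z₀ = _
    show a z₀ = _
    rw [← he1, Scheme.Hom.comp_apply, hz₀, hz, hx₁]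
  have hopen' := h _ k z₀ hx₀
  rw [Groth.Agent.E4O.isOpenAt_iff_forall_exists_specializes] at hopen'
  obtain ⟨u', hu'1, hu'2⟩ := hopen' s' (by rw [hz₀']; exact IsLocalRing.specializes_closedPoint s')
  refine ⟨e u', ?_, hz₀ ▸ hu'2.map e.continuous⟩
  rw [← Scheme.Hom.comp_apply, he2, Scheme.Hom.comp_apply, hu'1, hs']

end Groth.Agent.S4928
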