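import Groth.Statements.S4931
import Groth.Agent.E4O.DvrCrit

set_option autoImplicit false
open CategoryTheory AlgebraicGeometry
universe u v w
open EGA43
open CategoryTheory.Limits

namespace Groth.Agent.S4931

open CategoryTheory.Limits in
/-- Suppose Y is a locally Noetherian scheme and the morphism f : X ⟶ Y is locally of finite type. The
morphism f is universally open exactly when the following holds: given any discrete valuation ring A
together with any morphism g : Spec A ⟶ Y, each irreducible component of the fibre product X ×_Y
Spec A dominates Spec A (i.e. its image under the second projection is dense). -/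
theorem result {X Y : Scheme.{u}} [IsLocallyNoetherian Y] (f : X ⟶ Y)
    [LocallyOfFiniteType f] :
    UniversallyOpen f ↔
      ∀ (A : Type u) [CommRing A] [IsDomain A] [IsDiscreteValuationRing A] (g : Spec (CommRingCat.of A) ⟶ Y),
        ∀ Z ∈ irreducibleComponents (↥(pullback f g) : Type u), Dense ((pullback.snd f g).base '' Z) := by
  have := Groth.Agent.E4O.locallyOfFinitePresentation_of_isLocallyNoetherian f
  constructor
  · intro hu A _ _ _ g Z hZ
    refine Groth.Agent.E4O.components_dominate_of_isUnivOpenAt f g (fun x _ => ?_) Z hZ
    intro W w x' _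
    exact Groth.Agent.E4O.isOpenAt_of_isOpenMap (pullback.snd f w).isOpenMap x'
  · intro h
    refine ⟨fun X' Y' i₁ i₂ f' sq U hU => ?_⟩
    refine isOpen_iff_mem_nhds.2 ?_
    rintro _ ⟨a, ha, rfl⟩
    refine Groth.Agent.E4O.isOpenAt_of_isPullback ?_ sq.flip a rfl U (hU.mem_nhds ha)
    refine Groth.Agent.E4O.isUnivOpenAt_of_dvr f _ fun A _ _ _ g _ z _ _ => ?_
    exact Groth.Agent.E4O.mem_closure_of_components_dominate _ _ (genericPoint_spec _) (h A g) z

end Groth.Agent.S4931
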