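import Groth.Statements.S4933
import Groth.Agent.E4O.ValuationLift
import Groth.Agent.E4O.ForallOpens

set_option autoImplicit false
open CategoryTheory AlgebraicGeometry
universe u v w
open EGA43

namespace Groth.Agent.S4933

/-- Let f : X ⟶ Y be a morphism locally of finite type, x a point of X which is a maximal point of its
fibre X_y, y = f x. Consider: a) f is universally open at x; b) for every irreducible component Y₀
of Y containing y, with generic point η, there is an irreducible component Z of X containing x and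
dominating Y₀ such that dim_x(X_y) = dim_x(Z ∩ X_y) = dim(Z ∩ X_η); b') for every open neighbourhood
U of x and every generization y' of y one has dim(U ∩ X_{y'}) ≥ dim_x(X_y). Then a) implies b'), and
b') implies b). (Subsets of X carry the induced topology; dim_x(U ∩ X_y) = dim_x(X_y). The published
statement asserts moreover that b) implies b'); that implication can fail, because a generization y'
of y need not lie under any point of U ∩ Z: for the finite birational morphism from the affine plane
onto the surface obtained from it by identifying two rational points p and q, at x = p condition b)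
holds with all dimensions equal to 0, while for U the complement of a line L through q avoiding p
and y' the image of the generic point of L the set U ∩ X_{y'} is empty. So only a) ⇒ b') and b') ⇒
b) are stated here.) -/
theorem result {X Y : Scheme.{u}} (f : X ⟶ Y) [LocallyOfFiniteType f]
    (x : X) (hmax : ∀ x' : X, f.base x' = f.base x → x ∈ closure {x'} → x' = x) :
    (EGA43.IsUnivOpenAt f x → (∀ U : X.Opens, x ∈ U → ∀ y' : Y, y' ⤳ f.base x →
        FlatMor.fibreDimAt f x ≤ topologicalKrullDim ↥((U : Set X) ∩ f.base ⁻¹' {y'}))) ∧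
    ((∀ U : X.Opens, x ∈ U → ∀ y' : Y, y' ⤳ f.base x →
        FlatMor.fibreDimAt f x ≤ topologicalKrullDim ↥((U : Set X) ∩ f.base ⁻¹' {y'})) →
      (∀ Y₀ ∈ irreducibleComponents (Y : Type u), f.base x ∈ Y₀ →
        ∃ Z ∈ irreducibleComponents (X : Type u), ∃ hx : x ∈ Z, closure (f.base '' Z) = Y₀ ∧
          ∀ η : Y, closure ({η} : Set Y) = Y₀ →
            FlatMor.fibreDimAt f x = FlatMor.localDim ↥(Z ∩ f.base ⁻¹' {f.base x}) ⟨x, ⟨hx, rfl⟩⟩ ∧
            FlatMor.localDim ↥(Z ∩ f.base ⁻¹' {f.base x}) ⟨x, ⟨hx, rfl⟩⟩ =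
              topologicalKrullDim ↥(Z ∩ f.base ⁻¹' {η}))) := by
  have hmax' : Groth.Agent.E4O.IsFibreMax f x := fun x' h1 h2 =>
    hmax x' h2 (specializes_iff_mem_closure.1 h1)
  have hd : FlatMor.fibreDimAt f x = (Groth.Agent.E4O.fdeg f x : ℕ) :=
    Groth.Agent.E4O.fibreDimAt_eq_fdeg hmax'
  refine ⟨fun h U hxU y' hy' => ?_, fun h Y₀ hY₀ hyY₀ => ?_⟩
  · obtain ⟨ξ, hξ, hξx, hle⟩ := Groth.Agent.E4O.exists_fdeg_ge_of_isUnivOpenAt f h hy'
    rw [hd]
    refine le_trans ?_ (Groth.Agent.E4O.le_dim_inter_fibre f U (hξx.mem_open U.isOpen hxU) hξ)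
    exact_mod_cast hle
  · obtain ⟨θ, rfl, -⟩ := Groth.Agent.E4O.exists_eq_closure_of_mem_irreducibleComponents hY₀
    have hθ : θ ⤳ f x := specializes_iff_mem_closure.2 hyY₀
    obtain ⟨ξ, hξ, hξx, hle⟩ := Groth.Agent.E4O.exists_fdeg_ge_of_forall_opens' f hθ
      fun U hxU => hd ▸ h U hxU θ hθ
    obtain ⟨Z, hZ, hx, h1, h2, h3⟩ := Groth.Agent.E4O.exists_component_of_fdeg_ge f
      specializes_rfl rfl hd hξx (by rw [hξ]; exact hY₀) hle
    refine ⟨Z, hZ, hx, by rw [h1, hξ], fun η' hη' => ?_⟩
    obtain rfl : η' = f ξ := by rw [hξ]; exact (inseparable_iff_closure_eq.2 hη').eq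
    exact ⟨hd.trans h2.symm, h2.trans h3.symm⟩

end Groth.Agent.S4933
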