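import Groth.Statements.S4935
import Groth.Agent.E4O.Unibranch

set_option autoImplicit false
universe u
open EGA43

namespace Groth.Agent.S4935

/-- Let A be a unibranch local domain, B a domain containing A and integral over A, and 𝔫 a prime ideal
of B lying over the maximal ideal of A. Then Spec B_𝔫 → Spec A is surjective: for every prime ideal
𝔭 of A there is a prime ideal 𝔮 ⊆ 𝔫 of B with 𝔮 ∩ A = 𝔭. -/
theorem result {A B : Type u} [CommRing A] [IsDomain A]
    [IsLocalRing A] (hA : CAlg2.IsUnibranch A) [CommRing B] [IsDomain B] [Algebra A B]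
    (hinj : Function.Injective (algebraMap A B)) [Algebra.IsIntegral A B] (n : Ideal B) [n.IsPrime]
    (hn : n.comap (algebraMap A B) = IsLocalRing.maximalIdeal A) (p : Ideal A) [p.IsPrime] :
    ∃ q : Ideal B, q.IsPrime ∧ q ≤ n ∧ q.comap (algebraMap A B) = p := by
  exact Groth.Agent.E4O.exists_le_comap_eq_of_isIntegral_of_isUnibranch hA
    (by rw [(RingHom.injective_iff_ker_eq_bot _).1 hinj]; exact bot_le) n hn p

end Groth.Agent.S4935
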