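import Groth.Statements.S4937
import Groth.Agent.E4O.Unibranch
import Groth.Agent.E4O.GenOpen

set_option autoImplicit false
open CategoryTheory AlgebraicGeometry
universe u v w
open EGA43

namespace Groth.Agent.S4937

/-- Let X and Y be irreducible schemes and f : X ⟶ Y a dominant morphism which is locally of finite
presentation and locally quasi-finite. If x is a point of X whose image y = f x has unibranch local
ring O_{Y,y}, then f is open at x. (Stated for f locally of finite presentation, the class to which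
the openness criterion by lifting of generizations used in the published argument applies; the
published hypothesis is 'locally quasi-finite', which includes locally of finite type.) -/
theorem result {X Y : Scheme.{u}} [IrreducibleSpace X]
    [IrreducibleSpace Y] (f : X ⟶ Y) [LocallyOfFinitePresentation f] [LocallyQuasiFinite f] [IsDominant f]
    (x : X) (hy : CAlg2.IsUnibranch (Y.presheaf.stalk (f.base x))) : EGA43.IsOpenAt f.base x := by
  rw [Groth.Agent.E4O.isOpenAt_iff_forall_exists_specializes]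
  intro y' hy'
  obtain ⟨_, ⟨W, hW, rfl⟩, hfW, -⟩ :=
    Y.isBasis_affineOpens.exists_subset_of_mem_open (Set.mem_univ (f x)) isOpen_univ
  obtain ⟨_, ⟨V, hV, rfl⟩, hxV, hVW⟩ :=
    X.isBasis_affineOpens.exists_subset_of_mem_open (show x ∈ f ⁻¹' (W : Set Y) from hfW)
      (W.2.preimage f.continuous)
  replace hW : IsAffineOpen W := hW
  replace hV : IsAffineOpen V := hV
  let φ := f.appLE W V hVW
  have hsq : ∀ t, hW.fromSpec (Spec.map φ t) = f (hV.fromSpec t) := fun t => by
    rw [← Scheme.Hom.comp_apply, hW.SpecMap_appLE_fromSpec f hV hVW, Scheme.Hom.comp_apply]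
  let ξ := genericPoint X
  obtain ⟨ξV, hξV⟩ : ξ ∈ Set.range hV.fromSpec := by
    rw [hV.range_fromSpec]
    exact (genericPoint_specializes x).mem_open V.2 hxV
  have hξY : f ξ = genericPoint Y := by
    refine (IsGenericPoint.eq ?_ (genericPoint_spec Y))
    have := (genericPoint_spec X).image f.continuous
    rwa [Set.image_univ, f.denseRange.closure_range] at this
  have hξmin : ∀ t, ξV ⤳ t := fun t => by
    rw [← hV.fromSpec.isOpenEmbedding.isInducing.specializes_iff, hξV]
    exact genericPoint_specializes _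
  have hξmin' : ∀ t, Spec.map φ ξV ⤳ t := fun t => by
    rw [← hW.fromSpec.isOpenEmbedding.isInducing.specializes_iff, hsq, hξV, hξY]
    exact genericPoint_specializes _
  let 𝔮 := hV.primeIdealOf ⟨x, hxV⟩
  have h𝔮 : hV.fromSpec 𝔮 = x := hV.fromSpec_primeIdealOf ⟨x, hxV⟩
  have h𝔭 : Spec.map φ 𝔮 = hW.primeIdealOf ⟨f x, hfW⟩ := by
    apply hW.fromSpec.isOpenEmbedding.injective
    rw [hsq, h𝔮, hW.fromSpec_primeIdealOf ⟨f x, hfW⟩]
  obtain ⟨p₁, hp₁⟩ : y' ∈ Set.range hW.fromSpec := by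
    rw [hW.range_fromSpec]
    exact hy'.mem_open W.2 hfW
  have hp₁le : p₁.asIdeal ≤ (hW.primeIdealOf ⟨f x, hfW⟩).asIdeal := by
    refine (PrimeSpectrum.le_iff_specializes p₁ _).2 (hW.fromSpec.isOpenEmbedding.isInducing.specializes_iff.1 ?_)
    rw [hp₁, hW.fromSpec_primeIdealOf ⟨f x, hfW⟩]
    exact hy'
  have hqf : RingHom.QuasiFinite φ.hom := LocallyQuasiFinite.quasiFinite_appLE (f := f) hW hV hVW
  have hft : RingHom.FiniteType φ.hom := LocallyOfFiniteType.finiteType_appLE (f := f) hW hV hVW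
  algebraize [φ.hom]
  let I : Ideal Γ(X, V) := ξV.asIdeal
  have : Algebra.QuasiFinite Γ(Y, W) (Γ(X, V) ⧸ I) := inferInstance
  have hker : RingHom.ker (algebraMap Γ(Y, W) (Γ(X, V) ⧸ I)) ≤ nilradical Γ(Y, W) := by
    intro a ha
    rw [nilradical_eq_sInf]
    refine Submodule.mem_sInf.2 fun J hJ => ?_
    exact (PrimeSpectrum.le_iff_specializes _ ⟨J, hJ⟩).2 (hξmin' ⟨J, hJ⟩)
      (show algebraMap Γ(Y, W) Γ(X, V) a ∈ I from Ideal.Quotient.eq_zero_iff_mem.1 ha)
  have hqI : I ≤ 𝔮.asIdeal := (PrimeSpectrum.le_iff_specializes _ _).2 (hξmin 𝔮)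
  let q : Ideal (Γ(X, V) ⧸ I) := 𝔮.asIdeal.map (Ideal.Quotient.mk I)
  have hq : q.IsPrime :=
    Ideal.map_isPrime_of_surjective Ideal.Quotient.mk_surjective (by rwa [Ideal.mk_ker])
  have hqc : q.comap (algebraMap Γ(Y, W) (Γ(X, V) ⧸ I)) = (hW.primeIdealOf ⟨f x, hfW⟩).asIdeal := by
    rw [IsScalarTower.algebraMap_eq Γ(Y, W) Γ(X, V) (Γ(X, V) ⧸ I), ← Ideal.comap_comap]
    have hqq : q.comap (algebraMap Γ(X, V) (Γ(X, V) ⧸ I)) = 𝔮.asIdeal := by
      show (𝔮.asIdeal.map (Ideal.Quotient.mk I)).comap (Ideal.Quotient.mk I) = _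
      rw [Ideal.comap_map_of_surjective _ Ideal.Quotient.mk_surjective,
        ← RingHom.ker_eq_comap_bot, Ideal.mk_ker, sup_eq_left.2 hqI]
    rw [hqq]
    exact congrArg PrimeSpectrum.asIdeal h𝔭
  let _ := TopCat.Presheaf.algebra_section_stalk Y.presheaf ⟨f x, hfW⟩
  have := hW.isLocalization_stalk ⟨f x, hfW⟩
  obtain ⟨q₁, hq₁, hq₁q, hq₁p⟩ :=
    Groth.Agent.E4O.exists_le_comap_eq_of_quasiFiniteAt_of_isUnibranch hker q _ hqc
      (Y.presheaf.stalk (f x)) hy p₁.asIdeal hp₁le
  let q₀ : Spec Γ(X, V) := ⟨q₁.comap (Ideal.Quotient.mk I), inferInstance⟩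
  refine ⟨hV.fromSpec q₀, ?_, ?_⟩
  · rw [← hsq, ← hp₁]
    congr 1
    exact PrimeSpectrum.ext hq₁p
  · have hle : q₀.asIdeal ≤ 𝔮.asIdeal := by
      refine (Ideal.comap_mono hq₁q).trans (le_of_eq ?_)
      rw [Ideal.comap_map_of_surjective _ Ideal.Quotient.mk_surjective,
        ← RingHom.ker_eq_comap_bot, Ideal.mk_ker, sup_eq_left.2 hqI]
    have := ((PrimeSpectrum.le_iff_specializes q₀ 𝔮).1 hle).map hV.fromSpec.continuous
    exact h𝔮 ▸ this

end Groth.Agent.S4937
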