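import Groth.Statements.S4938
import Groth.Agent.E4O.ChevalleyOpen
import Groth.Agent.E4O.FibreSets

set_option autoImplicit false
open CategoryTheory AlgebraicGeometry
universe u v w
open EGA43

namespace Groth.Agent.S4938

/-- Let Y be a locally Noetherian scheme, f : X ⟶ Y a morphism locally of finite type, and y a
geometrically unibranch point of Y, lying on the unique irreducible component Y₀ of Y with generic
point η. The following are equivalent: a) f is universally open at every point of X_y; b) every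
point x of X_y lies on an irreducible component Z of X dominating Y₀ with dim_x(Z ∩ X_y) = dim(Z ∩
X_η); b'') for every open subset U of X, dim(U ∩ X_η) ≥ dim(U ∩ X_y); c) f is open at every point of
X_y. (The published statement assumes Y locally Noetherian only for c) and also lists b′), the
pointwise form of b″) (for every x in X_y and every open U ∋ x, dim(U ∩ X_η) ≥ dim_x(U ∩ X_y)); over
the spectrum of an infinite product of copies of a field, the inclusion of a non-open closed point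
satisfies b) and b″) but not a), so this row takes Y locally Noetherian throughout, and b′) is not
listed.) -/
theorem result {X Y : Scheme.{u}} [IsLocallyNoetherian Y] (f : X ⟶ Y)
    [LocallyOfFiniteType f] (y : Y) (hy : CAlg2.IsGeomUnibranch (Y.presheaf.stalk y)) :
    List.TFAE [∀ x : X, f.base x = y → EGA43.IsUnivOpenAt f x,
      ∀ x : X, f.base x = y → ∀ Y₀ ∈ irreducibleComponents (Y : Type u), y ∈ Y₀ →
        ∃ Z ∈ irreducibleComponents (X : Type u), ∃ hx : x ∈ Z, closure (f.base '' Z) = Y₀ ∧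
          ∀ η : Y, closure ({η} : Set Y) = Y₀ →
            FlatMor.localDim ↥(Z ∩ f.base ⁻¹' {f.base x}) ⟨x, ⟨hx, rfl⟩⟩ = topologicalKrullDim ↥(Z ∩ f.base ⁻¹' {η}),
      ∀ U : X.Opens, ∀ Y₀ ∈ irreducibleComponents (Y : Type u), y ∈ Y₀ → ∀ η : Y, closure ({η} : Set Y) = Y₀ →
        topologicalKrullDim ↥((U : Set X) ∩ f.base ⁻¹' {y}) ≤ topologicalKrullDim ↥((U : Set X) ∩ f.base ⁻¹' {η}),
      ∀ x : X, f.base x = y → EGA43.IsOpenAt f.base x] := by
  obtain ⟨η, hηy, hmin, hηc, hyη⟩ := Groth.Agent.E4O.exists_component_generic hy.1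
  tfae_have 1 → 4 := fun h x hx => Groth.Agent.E4O.isOpenAt_of_isUnivOpenAt (h x hx)
  tfae_have 4 → 2 := by
    intro h x hxy Y₀ hY₀ hyY₀
    obtain ⟨θ, rfl, hθ⟩ := Groth.Agent.E4O.exists_eq_closure_of_mem_irreducibleComponents hY₀
    obtain ⟨z, hzx, hfz, -, hd, -⟩ := Groth.Agent.E4O.exists_isFibreMax_specializes f x
    obtain ⟨ξ, hξ, hξz, hle⟩ := Groth.Agent.E4O.exists_fdeg_ge_of_isOpenAt (h z (hfz.trans hxy))
      (η := θ) (by rw [hfz, hxy]; exact specializes_iff_mem_closure.2 hyY₀)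
    obtain ⟨Z, hZ, hx, h1, h2, h3⟩ := Groth.Agent.E4O.exists_component_of_fdeg_ge f
      hzx hfz hd hξz (by rw [hξ]; exact hY₀) hle
    refine ⟨Z, hZ, hx, by rw [h1, hξ], fun η' hη' => ?_⟩
    obtain rfl : η' = f ξ := by rw [hξ]; exact (inseparable_iff_closure_eq.2 hη').eq
    exact h2.trans h3.symm
  tfae_have 2 → 1 := by
    intro h x hxy
    obtain ⟨z, hzx, hfz, hzmax, -, -⟩ := Groth.Agent.E4O.exists_isFibreMax_specializes f x
    refine Groth.Agent.E4O.isUnivOpenAt_of_specializes_fibre hzx hfz ?_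
    have hzy : f z = y := hfz.trans hxy
    obtain ⟨Z, hZ, hx, h1, h2⟩ := h z hzy _ hηc hyη
    obtain ⟨ξ, hξZ, hξη, -, hdim⟩ :=
      Groth.Agent.E4O.exists_generic_of_component_dominating f hZ h1
    have hξz : ξ ⤳ z := specializes_iff_mem_closure.2 (hξZ ▸ hx)
    refine Groth.Agent.E4O.isUnivOpenAt_of_geomUnibranch f hzmax hξz
      (fun y' hy' => hξη.symm ▸ hmin y' (hzy ▸ hy')) ?_ (hzy.symm ▸ hy)
    have := Groth.Agent.E4O.le_localDim_inter_fibre f
      (isClosed_of_mem_irreducibleComponents Z hZ) (x := z) specializes_rfl rfl hx rfl hx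
    rw [h2 η rfl, hdim] at this
    exact_mod_cast this
  tfae_have 4 → 3 := by
    intro h U Y₀ hY₀ hyY₀ θ hθ
    rw [Groth.Agent.E4O.dim_inter_fibre_le_iff f U y]
    intro x hxU hxy
    obtain ⟨ξ, hξ, hξx, hle⟩ := Groth.Agent.E4O.exists_fdeg_ge_of_isOpenAt (h x hxy) (η := θ) (by
      show θ ⤳ f.base x
      rw [hxy]; exact specializes_iff_mem_closure.2 (hθ.symm ▸ hyY₀))
    refine le_trans ?_ (Groth.Agent.E4O.le_dim_inter_fibre f U (hξx.mem_open U.isOpen hxU) hξ)
    exact_mod_cast hle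
  tfae_have 3 → 2 := by
    intro h x hxy Y₀ hY₀ hyY₀
    obtain ⟨θ, rfl, hθ⟩ := Groth.Agent.E4O.exists_eq_closure_of_mem_irreducibleComponents hY₀
    obtain ⟨z, hzx, hfz, -, hd, -⟩ := Groth.Agent.E4O.exists_isFibreMax_specializes f x
    obtain ⟨ξ, hξ, hξz, hle⟩ := Groth.Agent.E4O.exists_fdeg_ge_of_forall_opens f (x := z) hY₀
      fun U hzU => (Groth.Agent.E4O.le_dim_inter_fibre f U hzU (hfz.trans hxy)).trans
        (h U _ hY₀ hyY₀ θ rfl)
    obtain ⟨Z, hZ, hx, h1, h2, h3⟩ := Groth.Agent.E4O.exists_component_of_fdeg_ge f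
      hzx hfz hd hξz (by rw [hξ]; exact hY₀) hle
    refine ⟨Z, hZ, hx, by rw [h1, hξ], fun η' hη' => ?_⟩
    obtain rfl : η' = f ξ := by rw [hξ]; exact (inseparable_iff_closure_eq.2 hη').eq
    exact h2.trans h3.symm
  tfae_finish

end Groth.Agent.S4938
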