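import Groth.Statements.S4943
import Groth.Agent.E4O.CodimFibre

set_option autoImplicit false
open CategoryTheory AlgebraicGeometry
universe u v w
open EGA43 TopologicalSpace Topology Groth.Agent.E4O

namespace Groth.Agent.S4943

/-- Let Y be an irreducible locally Noetherian scheme, f : X ⟶ Y a morphism locally of finite type which
is equidimensional at the point x, y = f x and e = dim_x(X_y). Let X' be an irreducible closed
subset of X containing x, with generic point x', and n a natural number such that codim(X', X) ≤ n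
(the codimension being dim O_{X,x'}) and dim_x(X' ∩ X_y) ≤ e − n. Then codim(X', X) = n, dim_x(X' ∩
X_y) = e − n, and the restriction of f to X' with its reduced subscheme structure is equidimensional
at x. -/
theorem result {X Y : Scheme.{u}} [IrreducibleSpace Y]
    [IsLocallyNoetherian Y] (f : X ⟶ Y) [LocallyOfFiniteType f] (x : X) (hf : EGA43.IsEquidimAt f x)
    (X' : TopologicalSpace.Closeds X) (x' : X) (hx' : closure ({x'} : Set X) = (X' : Set X)) (hx : x ∈ X') (n : ℕ)
    (hcodim : ringKrullDim (X.presheaf.stalk x') ≤ n)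
    (hdim : FlatMor.localDim ↥((X' : Set X) ∩ f.base ⁻¹' {f.base x}) ⟨x, ⟨hx, rfl⟩⟩ + n ≤ FlatMor.fibreDimAt f x) :
    ringKrullDim (X.presheaf.stalk x') = n ∧
      FlatMor.localDim ↥((X' : Set X) ∩ f.base ⁻¹' {f.base x}) ⟨x, ⟨hx, rfl⟩⟩ + n = FlatMor.fibreDimAt f x ∧
      ∀ w : ↥(Scheme.IdealSheafData.vanishingIdeal X').subscheme,
        (Scheme.IdealSheafData.vanishingIdeal X').subschemeι.base w = x →
        EGA43.IsEquidimAt ((Scheme.IdealSheafData.vanishingIdeal X').subschemeι ≫ f) w := by
  obtain ⟨e, he, -, -⟩ := exists_of_isEquidimAt f hf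
  obtain ⟨z, hzK, hzx, hfz, hd, hmax⟩ := exists_max_fdeg_closed f (K := (X' : Set X)) X'.isClosed hx
  have hx'X : x' ∈ (X' : Set X) := hx' ▸ subset_closure rfl
  have hsp : ∀ t ∈ (X' : Set X), x' ⤳ t := fun t ht => specializes_iff_mem_closure.2 (hx'.symm ▸ ht)
  rw [hd, he] at hdim
  have hdim' : fdeg f z + n ≤ e := by exact_mod_cast hdim
  obtain ⟨hh, hsum, hcomp⟩ := codim_eq_of_isEquidimAt f (n := n) hf he (hsp x hx) hcodim
    fun t h1 h2 h3 => (Nat.add_le_add_right
      (hmax t (hx' ▸ specializes_iff_mem_closure.1 h1) h2) n).trans hdim'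
  have hle : fdeg f x' ≤ fdeg f z := hmax x' hx'X (hsp x hx)
  have heq : fdeg f z = fdeg f x' := by omega
  refine ⟨hh, ?_, fun w hw => ?_⟩
  · rw [hd, he]
    exact_mod_cast (by omega : fdeg f z + n = e)
  · let i := (Scheme.IdealSheafData.vanishingIdeal X').subschemeι
    have hr : Set.range i = (X' : Set X) := SchBasics.range_vanishingIdeal_subschemeι X'
    refine isEquidimAt_of_forall_generic (i ≫ f) w (fdeg f x') ?_ fun ξ hξ hξmax => ?_
    · rw [fibreDimAt_comp_closedImmersion i f w hr hw, hd, heq]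
    · obtain ⟨v, hv⟩ := hr.ge hx'X
      have hvξ : v ⤳ ξ := by
        rw [← i.isClosedEmbedding.isInducing.specializes_iff, hv]
        exact hsp _ (hr.le ⟨ξ, rfl⟩)
      rw [← hξmax v hvξ, fdeg_comp_closedImmersion, Scheme.Hom.comp_apply, hv]
      exact ⟨rfl, hcomp⟩

end Groth.Agent.S4943
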