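import Groth.Statements.S4945
import Groth.Agent.E4O.QuasiSectionScheme
import Groth.Agent.E4O.ChevalleyOpen
import Groth.Agent.E4O.FibreSets

set_option autoImplicit false
open CategoryTheory AlgebraicGeometry
universe u v w
open EGA43

namespace Groth.Agent.S4945

/-- Let Y be an irreducible locally Noetherian scheme with generic point η, f : X ⟶ Y a morphism locally
of finite type and y a geometrically unibranch point of Y. The following are equivalent: a) f is
universally open at every point of X_y; b) f is open at every point of X_y; c) for every maximal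
point z of X_y there is an irreducible component Z of X containing z and dominating Y with dim_z(Z ∩
X_y) = dim(Z ∩ X_η); d) for every point x closed in X_y there are an irreducible reduced scheme T
and an immersion T ⟶ X with image containing x such that T ⟶ Y is quasi-finite and dominant. -/
theorem result {X Y : Scheme.{u}} [IrreducibleSpace Y]
    [IsLocallyNoetherian Y] (f : X ⟶ Y) [LocallyOfFiniteType f] (y : Y) (hy : CAlg2.IsGeomUnibranch (Y.presheaf.stalk y)) :
    List.TFAE [∀ x : X, f.base x = y → EGA43.IsUnivOpenAt f x,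
      ∀ x : X, f.base x = y → EGA43.IsOpenAt f.base x,
      ∀ z : X, ∀ hzy : f.base z = y, (∀ z' : X, f.base z' = y → z ∈ closure {z'} → z' = z) →
        ∃ Z ∈ irreducibleComponents (X : Type u), ∃ hz : z ∈ Z, Dense (f.base '' Z) ∧
          FlatMor.localDim ↥(Z ∩ f.base ⁻¹' {y}) ⟨z, ⟨hz, hzy⟩⟩ = topologicalKrullDim ↥(Z ∩ f.base ⁻¹' {genericPoint Y}),
      ∀ x : X, f.base x = y → (∀ x' : X, f.base x' = y → x ⤳ x' → x' = x) →
        ∃ (T : Scheme.{u}) (i : T ⟶ X), IsImmersion i ∧ IrreducibleSpace ↥T ∧ IsReduced T ∧ x ∈ Set.range i.base ∧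
        LocallyOfFiniteType (i ≫ f) ∧ LocallyQuasiFinite (i ≫ f) ∧ QuasiCompact (i ≫ f) ∧ IsDominant (i ≫ f)] := by
  have hη : ∀ y' : Y, genericPoint Y ⤳ y' := genericPoint_specializes
  have huniv : closure ({genericPoint Y} : Set Y) = Set.univ :=
    Set.eq_univ_of_forall fun y' => specializes_iff_mem_closure.1 (hη y')
  have hcompY : closure ({genericPoint Y} : Set Y) ∈ irreducibleComponents (Y : Type u) := by
    rw [huniv, irreducibleComponents_eq_singleton]; rfl
  have : LocallyOfFinitePresentation f :=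
    Groth.Agent.E4O.locallyOfFinitePresentation_of_isLocallyNoetherian f
  tfae_have 1 → 2 := fun h x hx => Groth.Agent.E4O.isOpenAt_of_isUnivOpenAt (h x hx)
  tfae_have 2 → 3 := by
    intro h z hzy hzmax
    have hmax : Groth.Agent.E4O.IsFibreMax f z := fun x' h1 h2 =>
      hzmax x' (h2.trans hzy) (specializes_iff_mem_closure.1 h1)
    obtain ⟨ξ, hξ, hξz, hle⟩ := Groth.Agent.E4O.exists_fdeg_ge_of_isOpenAt (h z hzy) (hη _)
    obtain ⟨Z, hZ, hz, h1, h2, h3⟩ := Groth.Agent.E4O.exists_component_of_fdeg_ge f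
      specializes_rfl rfl (Groth.Agent.E4O.fibreDimAt_eq_fdeg hmax) hξz (by rw [hξ]; exact hcompY) hle
    refine ⟨Z, hZ, hz, dense_iff_closure_eq.2 (by rw [h1, hξ, huniv]), ?_⟩
    subst hzy
    rw [← hξ]
    exact h2.trans h3.symm
  tfae_have 3 → 1 := by
    intro h x hxy
    obtain ⟨z, hzx, hfz, hzmax, -, -⟩ := Groth.Agent.E4O.exists_isFibreMax_specializes f x
    refine Groth.Agent.E4O.isUnivOpenAt_of_specializes_fibre hzx hfz ?_
    have hzy : f z = y := hfz.trans hxy
    obtain ⟨Z, hZ, hz, h1, h2⟩ := h z hzy fun z' hz' hzz' =>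
      hzmax z' (specializes_iff_mem_closure.2 hzz') (hz'.trans hzy.symm)
    obtain ⟨ξ, hξZ, hξη, -, hdim⟩ := Groth.Agent.E4O.exists_generic_of_component_dominating f hZ
      (η := genericPoint Y) (by rw [huniv]; exact h1.closure_eq)
    have hξz : ξ ⤳ z := specializes_iff_mem_closure.2 (hξZ ▸ hz)
    refine Groth.Agent.E4O.isUnivOpenAt_of_geomUnibranch f hzmax hξz
      (fun y' _ => hξη.symm ▸ hη y') ?_ (hzy.symm ▸ hy)
    have := Groth.Agent.E4O.le_localDim_inter_fibre f
      (isClosed_of_mem_irreducibleComponents Z hZ) (x := z) specializes_rfl rfl hz hzy hz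
    rw [h2, hdim] at this
    exact_mod_cast this
  tfae_have 2 → 4 := by
    intro h x hxy hclosed
    obtain ⟨z, hzx, hfz, -, hd, -⟩ := Groth.Agent.E4O.exists_isFibreMax_specializes f x
    obtain ⟨ξ, hξ, hξz, hle⟩ :=
      Groth.Agent.E4O.exists_fdeg_ge_of_isOpenAt (h z (hfz.trans hxy)) (hη _)
    exact Groth.Agent.E4O.exists_quasiSection f (fun x' h1 h2 => hclosed x' (h1.trans hxy) h2)
      (hξz.trans hzx) (fun y' _ => hξ.symm ▸ hη y') (hξ.symm ▸ huniv)
      (by rw [hd]; exact_mod_cast hle) (hxy.symm ▸ hy)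
  tfae_have 4 → 2 := by
    intro h
    suffices hall : ∀ y', y' ⤳ y → ∀ x : X, f x = y → x ∈ closure (f ⁻¹' {y'}) from
      fun x hx => Groth.Agent.E4O.isOpenAt_iff_forall_mem_closure.2 fun y' hy' =>
        hall y' (hx ▸ hy') x hx
    intro y' hy'
    let S : Set ↥(f.fiber y) := f.fiberι y ⁻¹' closure (f ⁻¹' {y'})
    suffices hcl : closedPoints ↥(f.fiber y) ⊆ S by
      intro x hx
      obtain ⟨z, rfl⟩ := Groth.Agent.E4O.exists_fiberι_eq f hx
      have : closure (closedPoints ↥(f.fiber y)) ⊆ S :=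
        closure_minimal hcl (isClosed_closure.preimage (f.fiberι y).continuous)
      rw [closure_closedPoints] at this
      exact this (Set.mem_univ z)
    intro c hc
    obtain ⟨T, i, hi, hT, hTr, ⟨t, ht⟩, hft, hqf, hqc, hdom⟩ := h (f.fiberι y c)
      (Groth.Agent.E4O.apply_fiberι f y c) fun x' hx' hsp => by
        obtain ⟨c', rfl⟩ := Groth.Agent.E4O.exists_fiberι_eq f hx'
        have := ((Groth.Agent.E4O.specializes_fiberι_iff f y c c').1 hsp).mem_closed hc rfl
        rw [Set.mem_singleton_iff.1 this]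
    let g := i ≫ f
    have : LocallyOfFiniteType g := hft
    have : IsIntegral T := isIntegral_of_irreducibleSpace_of_isReduced T
    have hgen : g (genericPoint T) = genericPoint Y := by
      refine ((inseparable_iff_closure_eq.2 ?_).eq)
      rw [huniv]
      refine Set.eq_univ_of_univ_subset ((dense_iff_closure_eq.1 hdom.denseRange).ge.trans ?_)
      refine closure_minimal ?_ isClosed_closure
      rintro _ ⟨s, rfl⟩
      exact specializes_iff_mem_closure.1 ((genericPoint_specializes s).map g.continuous)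
    obtain ⟨C, ⟨q, rfl⟩, hC⟩ := Groth.Agent.E4O.exists_chart g t
    have := hC ‹_›
    have : IsIntegral (Spec (CommRingCat.of C.B)) := by
      have : Nonempty (Spec (CommRingCat.of C.B)) := ⟨(q : PrimeSpectrum C.B)⟩
      exact isIntegral_of_isOpenImmersion C.e
    have : IsDomain C.B := (affine_isIntegral_iff (CommRingCat.of C.B)).1 ‹_›
    let b : PrimeSpectrum C.B := ⟨⊥, Ideal.isPrime_bot⟩
    have hb : C.pt b = genericPoint T := by
      obtain ⟨r, hr⟩ := (genericPoint_specializes (C.pt q)).mem_open C.isOpen_range ⟨q, rfl⟩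
      exact (((C.specializes_iff b r).2 bot_le).trans (hr ▸ specializes_rfl)).antisymm
        (genericPoint_specializes _) |>.eq
    have hker : RingHom.ker (algebraMap C.A C.B) ≤ nilradical C.A := by
      rw [nilradical_eq_sInf]
      refine le_sInf fun p' hp' => ?_
      have hle : (PrimeSpectrum.comap (algebraMap C.A C.B) b).asIdeal ≤ p' :=
        (C.specializesY_iff _ ⟨p', hp'⟩).1 (by rw [← C.apply, hb, hgen]; exact hη _)
      exact (RingHom.ker_eq_comap_bot (algebraMap C.A C.B)).le.trans hle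
    have hqfB : LocallyQuasiFinite (Spec.map (CommRingCat.ofHom (algebraMap C.A C.B))) := by
      have : LocallyQuasiFinite (Spec.map (CommRingCat.ofHom (algebraMap C.A C.B)) ≫ C.j) := by
        rw [← C.comm]
        have : LocallyQuasiFinite g := hqf
        infer_instance
      exact LocallyQuasiFinite.of_comp _ C.j
    rw [HasRingHomProperty.Spec_iff (P := @LocallyQuasiFinite)] at hqfB
    have : Algebra.QuasiFinite C.A C.B := RingHom.quasiFinite_algebraMap.1 hqfB
    have hxy : g (C.pt q) = y := by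
      show (i ≫ f) (C.pt q) = y
      rw [Scheme.Hom.comp_apply, ht, Groth.Agent.E4O.apply_fiberι]
    rw [C.apply] at hxy
    obtain ⟨p', rfl⟩ := (hxy.symm ▸ hy' : y' ⤳ C.ptY _).mem_open
      C.isOpenEmbedding_ptY.isOpen_range ⟨_, rfl⟩
    obtain ⟨a, ha⟩ : ∃ _ : Algebra C.A (Y.presheaf.stalk y),
        IsLocalization.AtPrime (Y.presheaf.stalk y) (q.asIdeal.under C.A) := by
      rw [← hxy]
      exact Groth.Agent.E4O.exists_isLocalization_stalk C.j
        (PrimeSpectrum.comap (algebraMap C.A C.B) q)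
    obtain ⟨q₁, hq₁, hq₁q, hq₁p⟩ := Groth.Agent.E4O.exists_le_comap_eq_of_quasiFiniteAt_of_isUnibranch
      hker q.asIdeal (q.asIdeal.under C.A) rfl (Y.presheaf.stalk y) hy.1 p'.asIdeal
      ((C.specializesY_iff _ _).1 (hxy.symm ▸ hy'))
    have hgq : g (C.pt ⟨q₁, hq₁⟩) = C.ptY p' := by
      rw [C.apply]; exact congrArg C.ptY (PrimeSpectrum.ext hq₁p)
    show f.fiberι y c ∈ closure (f ⁻¹' {C.ptY p'})
    rw [← ht]
    refine ((((C.specializes_iff ⟨q₁, hq₁⟩ q).2 hq₁q)).map i.continuous).mem_closed isClosed_closure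
      (subset_closure ?_)
    exact (Scheme.Hom.comp_apply i f _).symm.trans hgq
  tfae_finish

end Groth.Agent.S4945
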