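import Groth.Statements.S4946
import Groth.Agent.E4O.QuasiSectionEquidim

set_option autoImplicit false
open CategoryTheory AlgebraicGeometry
universe u v w
open EGA43 TopologicalSpace Topology Groth.Agent.E4O

namespace Groth.Agent.S4946

/-- Let Y be an irreducible locally Noetherian scheme which is regular of dimension 1 (all local rings
regular of dimension at most 1), f : X ⟶ Y a morphism locally of finite type and y a point of Y.
Then the following are equivalent: d) every irreducible component of X meeting the fibre X_y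
dominates Y; e) for every point x closed in X_y and every irreducible component X_i of X containing
x, there are an irreducible reduced scheme T and an immersion T ⟶ X with image containing x and
contained in X_i, such that T ⟶ Y is quasi-finite and dominant. -/
theorem result {X Y : Scheme.{u}} [IrreducibleSpace Y]
    [IsLocallyNoetherian Y] (hY : ∀ y : Y, IsRegularLocalRing (Y.presheaf.stalk y) ∧ ringKrullDim (Y.presheaf.stalk y) ≤ 1)
    (f : X ⟶ Y) [LocallyOfFiniteType f] (y : Y) :
    (∀ Z ∈ irreducibleComponents (X : Type u), (Z ∩ f.base ⁻¹' {y}).Nonempty → Dense (f.base '' Z)) ↔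
      ∀ x : X, f.base x = y → (∀ x' : X, f.base x' = y → x ⤳ x' → x' = x) →
        ∀ Xi ∈ irreducibleComponents (X : Type u), x ∈ Xi →
          ∃ (T : Scheme.{u}) (i : T ⟶ X), IsImmersion i ∧ IrreducibleSpace ↥T ∧ IsReduced T ∧ x ∈ Set.range i.base ∧
            Set.range i.base ⊆ Xi ∧
            LocallyOfFiniteType (i ≫ f) ∧ LocallyQuasiFinite (i ≫ f) ∧ QuasiCompact (i ≫ f) ∧ IsDominant (i ≫ f) := by
  constructor
  · intro hd x hfx hcl Xi hXi hxXi
    let K : Closeds X := ⟨Xi, isClosed_of_mem_irreducibleComponents Xi hXi⟩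
    let ι := (Scheme.IdealSheafData.vanishingIdeal K).subschemeι
    have hr : Set.range ι = Xi := SchBasics.range_vanishingIdeal_subschemeι K
    obtain ⟨w, rfl⟩ := hr.ge hxXi
    obtain ⟨ξ, hξ, -⟩ := E4O.exists_eq_closure_of_mem_irreducibleComponents hXi
    obtain ⟨v, hv⟩ := hr.ge (hξ ▸ subset_closure rfl : ξ ∈ Xi)
    have hgen : ∀ t, v ⤳ t := fun t => by
      rw [← ι.isClosedEmbedding.isInducing.specializes_iff, hv]
      exact specializes_iff_mem_closure.2 (hξ ▸ hr.le ⟨t, rfl⟩)
    have hη : closure {f (ι v)} = Set.univ := by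
      rw [← closure_image_closure_singleton f (ι v), hv, ← hξ]
      exact (hd Xi hXi ⟨ι w, hxXi, hfx⟩).closure_eq
    obtain ⟨z, hz, hfz, hzd, -, hzmax⟩ := exists_fibreDimAt_eq (ι ≫ f) w
    have hdeg : fdeg (ι ≫ f) z ≤ fdeg (ι ≫ f) v := by
      by_cases heq : (ι ≫ f) v = (ι ≫ f) z
      · exact fdeg_le (hgen z) heq
      · obtain ⟨C, ⟨q, rfl⟩, hC⟩ := exists_chart (ι ≫ f) z
        have := hC ‹_›
        have : IsNoetherianRing C.B := Algebra.FiniteType.isNoetherianRing C.A _
        obtain ⟨m, rfl⟩ := (hgen (C.pt q)).mem_open C.isOpenEmbedding_pt.isOpen_range ⟨q, rfl⟩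
        have hmq : m ≤ q := (C.specializes_iff _ _).1 (hgen (C.pt q))
        have hlt : m < q := lt_of_le_of_ne hmq fun h => heq (h ▸ rfl)
        have h1 : (1 : ℕ∞) ≤ relHeight m q := by
          rw [relHeight_eq hmq]
          exact le_trans le_add_self (Order.height_add_one_le
            (a := (⟨m, Set.self_mem_Ici⟩ : Set.Ici m)) (b := ⟨q, hmq⟩) hlt)
        have h2 : relHeight (PrimeSpectrum.comap (algebraMap C.A C.B) m)
            (PrimeSpectrum.comap (algebraMap C.A C.B) q) ≤ 1 := by
          refine (relHeight_le_height _ _).trans ?_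
          have h3 := (hY (C.ptY (PrimeSpectrum.comap (algebraMap C.A C.B) q))).2
          rw [C.ringKrullDim_stalkY] at h3
          exact_mod_cast h3
        have h4 := (add_le_add h1 le_rfl).trans
          ((C.relHeight_add_fdeg_le m q hmq).trans (add_le_add h2 le_rfl))
        norm_cast at h4
        omega
    have heq : EGA43.IsEquidimAt (ι ≫ f) w := by
      refine isEquidimAt_of_forall_generic (ι ≫ f) w (fdeg (ι ≫ f) v) ?_ fun t _ htmax => ?_
      · rw [hzd]; exact_mod_cast hdeg
      · rw [← htmax v (hgen t)]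
        refine ⟨rfl, ?_⟩
        rw [Scheme.Hom.comp_apply, hη]
        exact ⟨IrreducibleSpace.isIrreducible_univ Y, fun _ _ _ => Set.subset_univ _⟩
    have hclw : ∀ w', (ι ≫ f) w' = (ι ≫ f) w → w ⤳ w' → w' = w := fun w' h1 h2 =>
      ι.isClosedEmbedding.injective (hcl (ι w') ((h1 : f (ι w') = f (ι w)).trans hfx)
        (h2.map ι.continuous))
    obtain ⟨B, hB, i, hi, ⟨t, ht⟩, h1, h2, h3⟩ :=
      exists_quasiSection_of_isEquidimAt (fdeg (ι ≫ f) z) (ι ≫ f) w heq hzd hclw
    refine ⟨Spec B, i ≫ ι, inferInstance, inferInstance, inferInstance, ⟨t, ?_⟩, ?_, inferInstance, ?_⟩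
    · rw [Scheme.Hom.comp_apply, ht]
    · rintro _ ⟨a, rfl⟩
      exact hr.le ⟨i a, rfl⟩
    · rw [Category.assoc]
      exact ⟨h1, h2, h3⟩
  · intro h Z hZ ⟨z, hzZ, hfz⟩
    obtain ⟨z₀, rfl⟩ := exists_fiberι_eq f hfz
    obtain ⟨c, hc, hcc⟩ := nonempty_inter_closedPoints (Z := closure ({z₀} : Set ↥(f.fiber y)))
      ⟨z₀, subset_closure rfl⟩ isClosed_closure.isLocallyClosed
    have hsp : f.fiberι y z₀ ⤳ f.fiberι y c :=
      (specializes_fiberι_iff f y _ _).2 (specializes_iff_mem_closure.2 hc)
    obtain ⟨T, i, -, -, -, -, hsub, -, -, -, hdom⟩ := h (f.fiberι y c) (apply_fiberι f y c)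
      (fun x' hx' hcx' => by
        obtain ⟨c', rfl⟩ := exists_fiberι_eq f hx'
        have h1 : c' ∈ closure {c} :=
          specializes_iff_mem_closure.1 ((specializes_fiberι_iff f y _ _).1 hcx')
        rw [(mem_closedPoints_iff.1 hcc).closure_eq, Set.mem_singleton_iff] at h1
        rw [h1]) Z hZ (hsp.mem_closed (isClosed_of_mem_irreducibleComponents Z hZ) hzZ)
    refine hdom.denseRange.mono ?_
    rintro _ ⟨a, rfl⟩
    exact ⟨i a, hsub ⟨a, rfl⟩, rfl⟩

end Groth.Agent.S4946
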