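import Groth.Statements.S4947
import Groth.Agent.E4O.RegularOrd
import Mathlib.RingTheory.DiscreteValuationRing.Basic
import Mathlib.RingTheory.AlgebraicIndependent.Basic
import Mathlib.FieldTheory.IntermediateField.Adjoin.Defs

set_option autoImplicit false
universe u
open EGA43 IsLocalRing MvPolynomial Groth.Agent.E4O.RegularOrd

namespace Groth.Agent.S4947

/-- Let A be a regular local ring which is not a field, K its fraction field and k its residue field.
Then there is a discrete valuation ring V between A and K, with fraction field K, dominating A,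
whose residue field is a purely transcendental extension of k: for some ring map from k compatible
with A → V there is an algebraically independent family generating the residue field of V as a field
over k. -/
theorem result (A : Type u) [CommRing A] [IsRegularLocalRing A]
    (hA : ¬ IsField A) :
    ∃ (V : Subalgebra A (FractionRing A)) (_ : IsDomain V) (_ : IsDiscreteValuationRing V), IsFractionRing V (FractionRing A) ∧
      (IsLocalRing.maximalIdeal V).comap (algebraMap A V) = IsLocalRing.maximalIdeal A ∧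
      ∃ (φ : IsLocalRing.ResidueField A →+* IsLocalRing.ResidueField V),
        φ.comp (IsLocalRing.residue A) = (IsLocalRing.residue V).comp (algebraMap A V) ∧
        letI := φ.toAlgebra
        ∃ (ι : Type u) (t : ι → IsLocalRing.ResidueField V), AlgebraicIndependent (IsLocalRing.ResidueField A) t ∧
          IntermediateField.adjoin (IsLocalRing.ResidueField A) (Set.range t) = ⊤ := by
  classical
  have hdom : IsDomain A := CAlg1.isDomain_regular A
  obtain ⟨e, x, hx, hq⟩ := exists_params A hA
  let K := FractionRing A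
  let ι : A →+* K := algebraMap A K
  have hι : Function.Injective ι := IsFractionRing.injective A K
  have hι0 : ∀ {a : A}, a ≠ 0 → ι a ≠ 0 := fun {a} ha => (map_ne_zero_iff ι hι).2 ha
  have hxne : x 0 ≠ 0 := x_zero_ne_zero hx hq
  have hx1 : ord (x 0) = 1 := ord_x_zero hx hq
  have hxn : ∀ n, ord (x 0 ^ n) = n := ord_pow hx hq
  have hmul : ∀ {a b : A}, a ≠ 0 → b ≠ 0 → ord (a * b) = ord a + ord b := fun ha hb => ord_mul hx hq ha hb
  have mem_pow_of : ∀ {a b : A}, b ≠ 0 → (a = 0 ∨ ord b ≤ ord a) → a ∈ maximalIdeal A ^ ord b := by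
    intro a b hb h
    rcases eq_or_ne a 0 with rfl | ha
    · exact zero_mem _
    · exact (mem_pow_iff ha _).2 (h.resolve_left ha)
  -- the valuation ring of the order valuation
  let V : Subalgebra A K :=
    { carrier := {z | ∃ a b : A, b ≠ 0 ∧ z = ι a / ι b ∧ a ∈ maximalIdeal A ^ ord b}
      mul_mem' := by
        rintro _ _ ⟨a, b, hb, rfl, hab⟩ ⟨a', b', hb', rfl, hab'⟩
        refine ⟨a * a', b * b', mul_ne_zero hb hb', by rw [map_mul, map_mul, div_mul_div_comm], ?_⟩
        rw [hmul hb hb', pow_add]
        exact Ideal.mul_mem_mul hab hab'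
      add_mem' := by
        rintro _ _ ⟨a, b, hb, rfl, hab⟩ ⟨a', b', hb', rfl, hab'⟩
        refine ⟨a * b' + b * a', b * b', mul_ne_zero hb hb', ?_, ?_⟩
        · rw [map_mul, map_add, map_mul, map_mul, div_add_div _ _ (hι0 hb) (hι0 hb')]
        · rw [hmul hb hb', pow_add]
          exact add_mem (Ideal.mul_mem_mul hab (mem_pow_of hb' (.inr le_rfl)))
            (Ideal.mul_mem_mul (mem_pow_of hb (.inr le_rfl)) hab')
      algebraMap_mem' := fun r => ⟨r, 1, one_ne_zero, by rw [map_one, div_one],
        by rw [ord_one, pow_zero, Ideal.one_eq_top]; trivial⟩ }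
  have hVdom : IsDomain V := inferInstance
  have hmemV : ∀ {a b : A}, a ≠ 0 → b ≠ 0 → (ι a / ι b ∈ V ↔ ord b ≤ ord a) := by
    intro a b ha hb
    refine ⟨?_, fun h => ⟨a, b, hb, rfl, mem_pow_of hb (.inr h)⟩⟩
    rintro ⟨a', b', hb', heq, hmem⟩
    rw [div_eq_div_iff (hι0 hb) (hι0 hb'), ← map_mul, ← map_mul, hι.eq_iff] at heq
    have ha' : a' ≠ 0 := fun h => mul_ne_zero ha hb' (by rw [heq, h, zero_mul])
    have h1 := congrArg ord heq
    rw [hmul ha hb', hmul ha' hb] at h1
    have := (mem_pow_iff ha' _).1 hmem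
    omega
  have hunit : ∀ {a b : A}, a ≠ 0 → b ≠ 0 → ∀ hv : ι a / ι b ∈ V,
      (IsUnit (⟨_, hv⟩ : V) ↔ ord a = ord b) := by
    intro a b ha hb hv
    constructor
    · intro hu
      obtain ⟨w, hw⟩ := isUnit_iff_exists_inv.1 hu
      have h1 : ι a / ι b * w.1 = 1 := congrArg Subtype.val hw
      have h2 : w.1 = ι b / ι a := by
        rw [eq_div_iff (hι0 ha)]
        calc w.1 * ι a = (ι a / ι b * w.1) * ι b := by
              rw [mul_comm (ι a / ι b), mul_assoc, div_mul_cancel₀ _ (hι0 hb)]
          _ = ι b := by rw [h1, one_mul]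
      have h3 : ι b / ι a ∈ V := h2 ▸ w.2
      have := (hmemV ha hb).1 hv
      have := (hmemV hb ha).1 h3
      omega
    · intro h
      refine isUnit_iff_exists_inv.2 ⟨⟨ι b / ι a, (hmemV hb ha).2 h.le⟩, Subtype.ext ?_⟩
      show ι a / ι b * (ι b / ι a) = 1
      rw [div_mul_div_comm, mul_comm (ι a), div_self (mul_ne_zero (hι0 hb) (hι0 ha))]
  have hrep : ∀ v : V, v ≠ 0 → ∃ a b : A, a ≠ 0 ∧ b ≠ 0 ∧ v.1 = ι a / ι b ∧ ord b ≤ ord a := by
    rintro ⟨_, a, b, hb, rfl, hab⟩ hv
    have ha : a ≠ 0 := fun h => hv (Subtype.ext (by show ι a / ι b = 0; rw [h, map_zero, zero_div]))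
    exact ⟨a, b, ha, hb, rfl, (mem_pow_iff ha _).1 hab⟩
  let π : V := algebraMap A V (x 0)
  have hπval : π.1 = ι (x 0) / ι 1 := by rw [map_one, div_one]; rfl
  have hπu : ¬ IsUnit π := by
    intro h
    have hv : ι (x 0) / ι 1 ∈ V := hπval ▸ π.2
    have := (hunit hxne one_ne_zero hv).1 (by rwa [show (⟨_, hv⟩ : V) = π from Subtype.ext hπval.symm])
    rw [hx1, ord_one] at this
    exact one_ne_zero this
  have hπirr : Irreducible π := by
    refine ⟨hπu, fun y z hyz => ?_⟩
    have hπ0 : π ≠ 0 := fun h => hι0 hxne (congrArg Subtype.val h)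
    obtain ⟨a, b, ha, hb, hy, hab⟩ := hrep y fun h => hπ0 (by rw [hyz, h, zero_mul])
    obtain ⟨a', b', ha', hb', hz, hab'⟩ := hrep z fun h => hπ0 (by rw [hyz, h, mul_zero])
    have h1 : ι (x 0) / ι 1 = ι a / ι b * (ι a' / ι b') := by
      rw [← hπval, hyz, ← hy, ← hz]; rfl
    rw [div_mul_div_comm, ← map_mul, ← map_mul,
      div_eq_div_iff (hι0 one_ne_zero) (hι0 (mul_ne_zero hb hb')), ← map_mul, ← map_mul,
      hι.eq_iff] at h1
    have h2 := congrArg ord h1
    rw [hmul hxne (mul_ne_zero hb hb'), hmul (mul_ne_zero ha ha') one_ne_zero, hmul hb hb',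
      hmul ha ha', hx1, ord_one] at h2
    rcases (by omega : ord a = ord b ∨ ord a' = ord b') with h | h
    · left
      rw [show y = (⟨_, (hmemV ha hb).2 hab⟩ : V) from Subtype.ext hy]
      exact (hunit ha hb _).2 h
    · right
      rw [show z = (⟨_, (hmemV ha' hb').2 hab'⟩ : V) from Subtype.ext hz]
      exact (hunit ha' hb' _).2 h
  have hdvr : IsDiscreteValuationRing V := by
    refine IsDiscreteValuationRing.ofHasUnitMulPowIrreducibleFactorization ⟨π, hπirr, fun {v} hv => ?_⟩
    obtain ⟨a, b, ha, hb, hval, hab⟩ := hrep v hv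
    refine ⟨ord a - ord b, ?_⟩
    set n := ord a - ord b
    have hbn : b * x 0 ^ n ≠ 0 := mul_ne_zero hb (pow_ne_zero _ hxne)
    have hord : ord a = ord (b * x 0 ^ n) := by rw [hmul hb (pow_ne_zero _ hxne), hxn]; omega
    refine ⟨((hunit ha hbn ((hmemV ha hbn).2 hord.ge)).2 hord).unit, Subtype.ext ?_⟩
    show (π ^ n).1 * (ι a / ι (b * x 0 ^ n)) = v.1
    rw [SubmonoidClass.coe_pow, hπval, map_one, div_one, hval, map_mul, map_pow,
      mul_div_assoc', mul_comm (ι b), mul_div_mul_left _ _ (pow_ne_zero n (hι0 hxne))]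
  have hfrac : IsFractionRing V K := by
    refine IsFractionRing.of_field V K fun z => ?_
    obtain ⟨a, b, -, rfl⟩ := IsFractionRing.div_surjective (A := A) z
    exact ⟨algebraMap A V a, algebraMap A V b, rfl⟩
  have hres : ∀ a : A, residue V (algebraMap A V a) = 0 ↔ a ∈ maximalIdeal A := by
    intro a
    rcases eq_or_ne a 0 with rfl | ha
    · simp
    · rw [residue_eq_zero_iff, mem_maximalIdeal, mem_nonunits_iff]
      have hv : ι a / ι 1 ∈ V := by rw [map_one, div_one]; exact (algebraMap A V a).2
      have heq : algebraMap A V a = (⟨_, hv⟩ : V) := Subtype.ext (by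
        show ι a = ι a / ι 1
        rw [map_one, div_one])
      rw [heq, hunit ha one_ne_zero hv, ord_one, ord_eq_zero_iff ha, not_not]
  have hcomap : (maximalIdeal V).comap (algebraMap A V) = maximalIdeal A := by
    ext a
    rw [Ideal.mem_comap, ← residue_eq_zero_iff, hres]
  let φ : ResidueField A →+* ResidueField V := Ideal.Quotient.lift (maximalIdeal A)
    ((residue V).comp (algebraMap A V)) fun a ha => (hres a).2 ha
  have hφ : φ.comp (residue A) = (residue V).comp (algebraMap A V) := RingHom.ext fun a => rfl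
  refine ⟨V, hVdom, hdvr, hfrac, hcomap, φ, hφ, ?_⟩
  let _ : Algebra (ResidueField A) (ResidueField V) := φ.toAlgebra
  -- the ratios `x i / x 0`
  have hyV : ∀ i, ι (x i) / ι (x 0) ∈ V := fun i =>
    ⟨x i, x 0, hxne, rfl, by rw [hx1, pow_one]; exact mem_maximalIdeal_x hx i⟩
  let y : Fin (e + 1) → V := fun i => ⟨_, hyV i⟩
  let ev : MvPolynomial (Fin (e + 1)) A →+* V := eval₂Hom (algebraMap A V) y
  have hev : ∀ {n : ℕ} {F : MvPolynomial (Fin (e + 1)) A}, F.IsHomogeneous n →
      (ev F).1 = ι (eval x F) / ι (x 0) ^ n := by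
    intro n F hF
    rw [eq_div_iff (pow_ne_zero _ (hι0 hxne))]
    conv_lhs => rw [F.as_sum]
    conv_rhs => rw [F.as_sum]
    rw [map_sum, map_sum, map_sum, AddSubmonoidClass.coe_finsetSum, Finset.sum_mul]
    refine Finset.sum_congr rfl fun d hd => ?_
    have hdeg : ∑ i, d i = n := by
      have := hF (mem_support_iff.1 hd)
      rw [Finsupp.weight_apply, Finsupp.sum_fintype] at this
      · simpa using this
      · simp
    rw [eval₂Hom_monomial, eval_monomial, map_mul, ← hdeg, ← Finset.prod_pow_eq_pow_sum,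
      Finsupp.prod_fintype _ _ (fun i => pow_zero _), Finsupp.prod_fintype _ _ (fun i => pow_zero _),
      map_prod, MulMemClass.coe_mul, SubmonoidClass.coe_finsetProd, mul_assoc, ← Finset.prod_mul_distrib]
    refine congrArg₂ (· * ·) rfl (Finset.prod_congr rfl fun i _ => ?_)
    rw [SubmonoidClass.coe_pow, map_pow, ← mul_pow, div_mul_cancel₀ _ (hι0 hxne)]
  have hev0 : ∀ {n : ℕ} {F : MvPolynomial (Fin (e + 1)) A}, F.IsHomogeneous n →
      residue V (ev F) = 0 → eval x F ∈ maximalIdeal A ^ (n + 1) := by
    intro n F hF h0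
    rcases eq_or_ne (eval x F) 0 with h | hne
    · rw [h]; exact zero_mem _
    have hv : ι (eval x F) / ι (x 0 ^ n) ∈ V := by rw [map_pow, ← hev hF]; exact (ev F).2
    have heq : ev F = (⟨_, hv⟩ : V) := Subtype.ext (by
      show _ = ι (eval x F) / ι (x 0 ^ n)
      rw [hev hF, map_pow])
    rw [residue_eq_zero_iff, mem_maximalIdeal, mem_nonunits_iff, heq,
      hunit hne (pow_ne_zero _ hxne) hv, hxn] at h0
    have := (hmemV hne (pow_ne_zero _ hxne)).1 hv
    rw [hxn] at this
    rw [mem_pow_iff hne]
    omega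
  let t : ULift.{u} (Fin e) → ResidueField V := fun i => residue V (y i.down.succ)
  refine ⟨ULift.{u} (Fin e), t, ?_, ?_⟩
  · rw [algebraicIndependent_iff]
    intro P hP
    let σ : (ULift.{u} (Fin e) →₀ ℕ) → (Fin (e + 1) →₀ ℕ) := fun d =>
      Finsupp.cons (P.totalDegree - d.degree) (d.equivMapDomain Equiv.ulift)
    choose c hc using fun d => residue_surjective (P.coeff d)
    let F : MvPolynomial (Fin (e + 1)) A := ∑ d ∈ P.support, monomial (σ d) (c d)
    have hF : F.IsHomogeneous P.totalDegree := by
      refine IsHomogeneous.sum _ _ _ fun d hd => isHomogeneous_monomial _ ?_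
      have h1 : d.degree ≤ P.totalDegree := le_totalDegree hd
      rw [Finsupp.degree_eq_sum, Fin.sum_univ_succ, Finsupp.cons_zero]
      simp only [σ, Finsupp.cons_succ, Finsupp.equivMapDomain_apply]
      rw [Equiv.sum_comp (Equiv.ulift.symm) (fun i => d i), ← Finsupp.degree_eq_sum]
      omega
    have hy0 : y 0 = 1 := Subtype.ext (div_self (hι0 hxne))
    have hcomm : residue V (ev F) = aeval t P := by
      conv_rhs => rw [P.as_sum]
      rw [map_sum, map_sum, map_sum]
      refine Finset.sum_congr rfl fun d _ => ?_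
      rw [eval₂Hom_monomial, map_mul, aeval_monomial,
        show residue V (algebraMap A V (c d)) = φ (residue A (c d)) from rfl, hc,
        Finsupp.prod_fintype _ _ (fun i => pow_zero _), Finsupp.prod_fintype _ _ (fun i => pow_zero _)]
      refine congrArg₂ (· * ·) rfl ?_
      rw [map_prod, Fin.prod_univ_succ, Finsupp.cons_zero, hy0, one_pow, map_one, one_mul]
      simp only [σ, Finsupp.cons_succ, Finsupp.equivMapDomain_apply]
      rw [← Equiv.prod_comp (Equiv.ulift.symm) (fun i => t i ^ d i)]
      exact Finset.prod_congr rfl fun i _ => map_pow _ _ _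
    have hmem := hev0 hF (hcomm.trans hP)
    ext d
    rw [MvPolynomial.coeff_zero]
    by_contra hd
    have hσ : Function.Injective σ := fun a b hab => by
      have h1 := congrArg Finsupp.tail hab
      simp only [σ, Finsupp.tail_cons] at h1
      exact (Finsupp.equivCongrLeft Equiv.ulift).injective h1
    have hcoef : F.coeff (σ d) = c d := by
      simp only [F, coeff_sum, coeff_monomial, hσ.eq_iff, Finset.sum_ite_eq', mem_support_iff,
        ne_eq, hd, not_false_eq_true, if_true]
    have h2 := hq _ F hF (by rw [hx]; exact hmem) (σ d)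
    rw [hx, hcoef, ← residue_eq_zero_iff, hc] at h2
    exact hd h2
  · rw [eq_top_iff]
    intro r _
    obtain ⟨v, rfl⟩ := residue_surjective r
    set L := IntermediateField.adjoin (ResidueField A) (Set.range t)
    have hAL : ∀ a : A, residue V (algebraMap A V a) ∈ L := fun a =>
      L.algebraMap_mem (residue A a)
    have hyL : ∀ i, residue V (y i) ∈ L := fun i => by
      refine Fin.cases ?_ (fun j => ?_) i
      · rw [show y 0 = 1 from Subtype.ext (div_self (hι0 hxne)), map_one]; exact one_mem L
      · exact IntermediateField.subset_adjoin _ _ ⟨⟨j⟩, rfl⟩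
    have hL : ∀ F : MvPolynomial (Fin (e + 1)) A, residue V (ev F) ∈ L := by
      intro F
      induction F using MvPolynomial.induction_on with
      | C a => rw [eval₂Hom_C]; exact hAL a
      | add p q hp hq =>
        rw [RingHom.map_add ev p q, RingHom.map_add (residue V) (ev p) (ev q)]
        exact add_mem hp hq
      | mul_X p i hp =>
        rw [RingHom.map_mul ev p _, eval₂Hom_X', RingHom.map_mul (residue V) (ev p) _]
        exact mul_mem hp (hyL i)
    rcases eq_or_ne (residue V v) 0 with h0 | h0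
    · rw [h0]; exact zero_mem L
    obtain ⟨a, b, ha, hb, hv, hab⟩ := hrep v fun h => h0 (by rw [h, map_zero])
    have hord : ord a = ord b := by
      by_contra hne
      refine h0 ((residue_eq_zero_iff _).2 fun hu => hne ?_)
      rw [show v = (⟨_, (hmemV ha hb).2 hab⟩ : V) from Subtype.ext hv] at hu
      exact (hunit ha hb _).1 hu
    obtain ⟨G, hG, hGb, hGc⟩ := exists_form hx hb
    obtain ⟨F, hF, hFa, -⟩ := exists_form hx ha
    rw [hord] at hF
    have hne : residue V (ev G) ≠ 0 := fun h => eval_notMem hx hq hG hGc (hev0 hG h)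
    have heq : v * ev G = ev F := Subtype.ext (by
      rw [MulMemClass.coe_mul, hev hG, hev hF, hv, hGb, hFa, div_mul_div_comm,
        mul_comm (ι a) (ι b), mul_div_mul_left _ _ (hι0 hb)])
    have : residue V v = residue V (ev F) / residue V (ev G) := by
      rw [eq_div_iff hne, ← map_mul, heq]
    rw [this]
    exact div_mem (hL F) (hL G)

end Groth.Agent.S4947
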