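import Groth.Statements.S4949
import Groth.Agent.CM62.Criterion

set_option autoImplicit false
open CategoryTheory AlgebraicGeometry
universe u v w
open EGA43

open Groth.Agent

namespace Groth.Agent.S4949

/-- Let f : X ⟶ Y be a morphism locally of finite presentation and x a point of X. The following are
equivalent: a) f is flat at x and the fibre X_{f x} is Cohen–Macaulay at x; b) there are an open
neighbourhood U of x, a natural number n and a Y-morphism g from U to affine n-space over Y which is
locally quasi-finite and such that U is g-flat at x. (The published statement asks for g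
quasi-finite, that is of finite type with finite fibres, hence quasi-compact; this row asks only
that g be locally quasi-finite, g being automatically locally of finite type here — the condition
the proof of b) ⇒ a) uses.) -/
theorem result {X Y : Scheme.{u}} (f : X ⟶ Y)
    [LocallyOfFinitePresentation f] (x : X) :
    MoreMor.IsCMAt f x ↔ ∃ (n : ℕ) (U : X.Opens) (hx : x ∈ U) (g : (U : Scheme.{u}) ⟶ 𝔸(ULift.{u} (Fin n); Y)),
      g ≫ (𝔸(ULift.{u} (Fin n); Y) ↘ Y) = U.ι ≫ f ∧ LocallyQuasiFinite g ∧ (g.stalkMap ⟨x, hx⟩).hom.Flat := by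
  constructor
  · intro h
    obtain ⟨z, -, -, hd, -, -⟩ := E4O.exists_fibreDimAt_eq f x
    obtain ⟨U, g, hxU, hg, hqf, hfl⟩ := CM62.exists_flat_qf_toAffineSpace f x _ hd h
    exact ⟨_, U, hxU, g, hg, hqf, Flat.stalkMap g _⟩
  · rintro ⟨n, U, hx, g, hg, hqf, hfl⟩
    have : LocallyOfFiniteType (g ≫ (𝔸(ULift.{u} (Fin n); Y) ↘ Y)) := by rw [hg]; infer_instance
    have : LocallyOfFiniteType g :=
      locallyOfFiniteType_of_comp g (𝔸(ULift.{u} (Fin n); Y) ↘ Y)
    exact CM62.isCMAt_of_comp f g hg ⟨x, hx⟩ (g.quasiFiniteAt _) hfl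

end Groth.Agent.S4949
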