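import Groth.Statements.S4951
-- import your own Groth.Agent.* helpers here

set_option autoImplicit false
universe u
open EGA43

namespace Groth.Agent.S4951

/-- Let X be a locally Noetherian topological space in which every irreducible closed subset has a
unique generic point (X quasi-sober and T₀), and Z a closed nowhere dense subset of X such that for
every point x of Z the set of generizations of x distinct from x is connected (possibly empty). If X
is connected, then X − Z is connected. (Uniqueness of generic points, automatic for the underlying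
space of a scheme, is needed: in the four-point space {u, v, z₁, z₂} whose open sets are ∅, {u},
{v}, {u, v} and the whole space, the closed nowhere dense set Z = {z₁, z₂} satisfies the hypothesis,
since z₂ is a generization of z₁ and conversely, yet X − Z = {u, v} is not connected.) -/
theorem result {X : Type u} [TopologicalSpace X]
    [QuasiSober X] [T0Space X] (hloc : ∀ x : X, ∃ U ∈ nhds x, TopologicalSpace.NoetherianSpace ↥U) [ConnectedSpace X]
    (Z : Set X) (hZ : IsClosed Z) (hZn : IsNowhereDense Z)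
    (hgen : ∀ x ∈ Z, IsPreconnected ({x' : X | x' ⤳ x} \ {x})) :
    IsConnected Zᶜ := by
  obtain ⟨hne, hdense⟩ : (Zᶜ).Nonempty ∧ Dense Zᶜ := by
    have hd : Dense Zᶜ := (interior_eq_empty_iff_dense_compl).1 (by
      have : interior (closure Z) = ∅ := hZn
      rwa [hZ.closure_eq] at this)
    exact ⟨hd.nonempty, hd⟩
  refine ⟨hne, ?_⟩
  intro A B hA hB hAB hA' hB'
  by_contra hemp
  rw [Set.not_nonempty_iff_eq_empty] at hemp
  have key : ∀ S : Set X, IsOpen S → ∀ x ∈ closure S, ∃ η ∈ S, η ⤳ x := by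
    intro S hS x hx
    obtain ⟨N, hN, hNn⟩ := hloc x
    obtain ⟨W, hWN, hW, hxW⟩ := mem_nhds_iff.1 hN
    have hxSW : x ∈ closure (S ∩ W) := by
      have := hW.inter_closure (t := S) ⟨hxW, hx⟩
      rwa [Set.inter_comm] at this
    have hind : Topology.IsInducing
        (fun y : ↥(S ∩ W) => (⟨y.1, hWN y.2.2⟩ : ↥N)) :=
      Topology.IsInducing.of_comp (g := Subtype.val) (by fun_prop) continuous_subtype_val
        Topology.IsInducing.subtypeVal
    have : TopologicalSpace.NoetherianSpace ↥(S ∩ W) := hind.noetherianSpace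
    have hfin := TopologicalSpace.NoetherianSpace.finite_irreducibleComponents (α := ↥(S ∩ W))
    have hcov : S ∩ W ⊆ ⋃ C ∈ irreducibleComponents ↥(S ∩ W), closure (Subtype.val '' C) := fun y hy =>
      Set.mem_biUnion (irreducibleComponent_mem_irreducibleComponents (⟨y, hy⟩ : ↥(S ∩ W)))
        (subset_closure ⟨⟨y, hy⟩, mem_irreducibleComponent, rfl⟩)
    have hx' := closure_minimal hcov (hfin.isClosed_biUnion fun _ _ => isClosed_closure) hxSW
    obtain ⟨C, hC, hxC⟩ := Set.mem_iUnion₂.1 hx'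
    obtain ⟨η, hη⟩ := QuasiSober.sober ((hC.1.image _ continuous_subtype_val.continuousOn).closure) isClosed_closure
    obtain ⟨c, hc⟩ := hC.1.nonempty
    refine ⟨η, ?_, hη.specializes hxC⟩
    exact (hη.specializes (subset_closure ⟨c, hc, rfl⟩)).mem_open hS c.2.1
  let U₁ := Zᶜ ∩ A
  let U₂ := Zᶜ ∩ B
  have hU₁ : IsOpen U₁ := hZ.isOpen_compl.inter hA
  have hU₂ : IsOpen U₂ := hZ.isOpen_compl.inter hB
  have hcov : ∀ y : X, y ∈ closure U₁ ∪ closure U₂ := fun y => by
    rw [← closure_union]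
    exact closure_mono (fun w hw => (hAB hw).elim (fun h => Or.inl ⟨hw, h⟩) (fun h => Or.inr ⟨hw, h⟩)) (hdense y)
  have hdisj : ∀ y ∈ Zᶜ, y ∈ closure U₁ → y ∈ closure U₂ → False := by
    intro y hy h₁ h₂
    rcases hAB hy with h | h
    · obtain ⟨w, hw, hwU⟩ := mem_closure_iff.1 h₂ (Zᶜ ∩ A) (hZ.isOpen_compl.inter hA) ⟨hy, h⟩
      exact Set.eq_empty_iff_forall_notMem.1 hemp w ⟨hwU.1, hw.2, hwU.2⟩
    · obtain ⟨w, hw, hwU⟩ := mem_closure_iff.1 h₁ (Zᶜ ∩ B) (hZ.isOpen_compl.inter hB) ⟨hy, h⟩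
      exact Set.eq_empty_iff_forall_notMem.1 hemp w ⟨hwU.1, hwU.2, hw.2⟩
  obtain ⟨p, -, hp₁, hp₂⟩ := isPreconnected_closed_iff.1 isPreconnected_univ (closure U₁) (closure U₂)
    isClosed_closure isClosed_closure (fun y _ => hcov y)
    (by obtain ⟨a, ha⟩ := hA'; exact ⟨a, trivial, subset_closure ha⟩)
    (by obtain ⟨b, hb⟩ := hB'; exact ⟨b, trivial, subset_closure hb⟩)
  let T := closure U₁ ∩ closure U₂
  have hT : IsClosed T := isClosed_closure.inter isClosed_closure
  let C := irreducibleComponent (⟨p, hp₁, hp₂⟩ : ↥T)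
  obtain ⟨x, hx⟩ := QuasiSober.sober
    ((isIrreducible_irreducibleComponent (x := (⟨p, hp₁, hp₂⟩ : ↥T))).image _ continuous_subtype_val.continuousOn)
    (hT.isClosedEmbedding_subtypeVal.isClosedMap _ isClosed_irreducibleComponent)
  have hxT : x ∈ T := by
    obtain ⟨c, -, hc⟩ := hx.mem
    exact hc ▸ c.2
  have hmax : ∀ t ∈ T, t ⤳ x → t = x := by
    intro t ht htx
    have hsub : C ⊆ closure {(⟨t, ht⟩ : ↥T)} := fun c hc => by
      rw [← specializes_iff_mem_closure, ← Topology.IsInducing.subtypeVal.specializes_iff]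
      exact htx.trans (hx.specializes ⟨c, hc, rfl⟩)
    have heq := eq_irreducibleComponent (isIrreducible_singleton.closure.isPreirreducible) hsub
    have htC : (⟨t, ht⟩ : ↥T) ∈ C := by
      show _ ∈ irreducibleComponent _
      rw [← heq]; exact subset_closure rfl
    exact (inseparable_iff_specializes_and.2 ⟨htx, hx.specializes ⟨_, htC, rfl⟩⟩).eq
  have hxZ : x ∈ Z := by
    by_contra h
    exact hdisj x h hxT.1 hxT.2
  obtain ⟨η₁, hη₁, hs₁⟩ := key U₁ hU₁ x hxT.1
  obtain ⟨η₂, hη₂, hs₂⟩ := key U₂ hU₂ x hxT.2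
  obtain ⟨g, ⟨hgx, hgne⟩, hg⟩ := isPreconnected_closed_iff.1 (hgen x hxZ) (closure U₁) (closure U₂)
    isClosed_closure isClosed_closure (fun y _ => hcov y)
    ⟨η₁, ⟨hs₁, fun e => hη₁.1 (Set.mem_singleton_iff.1 e ▸ hxZ)⟩, subset_closure hη₁⟩
    ⟨η₂, ⟨hs₂, fun e => hη₂.1 (Set.mem_singleton_iff.1 e ▸ hxZ)⟩, subset_closure hη₂⟩
  exact hgne (hmax g hg hgx)


end Groth.Agent.S4951
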