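import Groth.Statements.S4955
import Groth.Agent.E4O.SectionCompOpen
-- import your own Groth.Agent.* helpers here

set_option autoImplicit false
open CategoryTheory AlgebraicGeometry
universe u v w
open EGA43

namespace Groth.Agent.S4955

/-- Let f : X ⟶ Y be a morphism of finite presentation with a section g, X_y^0 the connected component
of f⁻¹(y) containing g y, X^0 their union, and suppose every X_y^0 is geometrically irreducible over
κ(y). Let x₀ be a point of X^0 and y₀ = f x₀, and suppose y ↦ dim X_y^0 is constant on a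
neighbourhood of y₀. Then there is an open neighbourhood U of y₀ such that f is universally open at
every point of X^0 lying over U; and if moreover Y is reduced and the fibre over y₀ is geometrically
reduced at x₀, then f is flat at x₀. -/
theorem result {X Y : Scheme.{u}} (f : X ⟶ Y)
    [LocallyOfFinitePresentation f] [QuasiCompact f] [QuasiSeparated f] (g : Y ⟶ X) (hg : g ≫ f = 𝟙 Y)
    (hirr : ∀ y : Y, (∀ (K : Type u) [Field K] [Algebra (IsLocalRing.ResidueField (Y.presheaf.stalk y)) K],
        IsIrreducible ((FBase.bcπ (f.fiberToSpecResidueField y) K ≫ f.fiberι y).base ⁻¹' connectedComponentIn (f.base ⁻¹' {y}) (g.base y))))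
    (x₀ : X) (hx₀ : x₀ ∈ MoreMor.sectionComponents f g)
    (hconst : ∃ V ∈ nhds (f.base x₀), ∀ z ∈ V, topologicalKrullDim ↥(connectedComponentIn (f.base ⁻¹' {z}) (g.base z)) = topologicalKrullDim ↥(connectedComponentIn (f.base ⁻¹' {(f.base x₀)}) (g.base (f.base x₀)))) :
    (∃ U : Y.Opens, f.base x₀ ∈ U ∧ ∀ x ∈ MoreMor.sectionComponents f g, f.base x ∈ U → EGA43.IsUnivOpenAt f x) ∧
      (IsReduced Y → FBase.IsGeomReducedAt (f.fiberToSpecResidueField (f.base x₀)) (f.asFiber x₀) →
        (f.stalkMap x₀).hom.Flat) := by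
  obtain ⟨V, hV, hc⟩ := hconst
  have hirr' : ∀ y, E4O.GeomIrredComp f g y := fun y K _ _ => hirr y K
  have hVy : f.base x₀ ∈ interior V := mem_interior_iff_mem_nhds.mpr hV
  have hdim : ∀ z ∈ interior V, FlatMor.fibreDimAt f (g z) = FlatMor.fibreDimAt f (g (f.base x₀)) := fun z hz => by
    rw [← E4O.dim_component_eq_fibreDimAt f g hg (hirr' z).isIrreducible,
      ← E4O.dim_component_eq_fibreDimAt f g hg (hirr' (f.base x₀)).isIrreducible]
    exact hc z (interior_subset hz)
  refine ⟨⟨⟨interior V, isOpen_interior⟩, hVy, fun x hx hxU => ?_⟩, fun _ hred => ?_⟩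
  · exact E4O.isUnivOpenAt_of_dim_component_const f g hg hx (fun z _ => hirr' z)
      (E4O.fibreDimAt_le_of_dim_component_const f g hg (fun y => (hirr' y).isIrreducible) hc hxU)
  · exact E4O.flat_stalkMap_of_dim_const_fp f g hg hx₀ ((hirr' _).stableIrredAt hg) isOpen_interior hVy
      (fun z hz => (hdim z hz).ge) hred


end Groth.Agent.S4955
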