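import Groth.Statements.S4957
import Groth.Agent.E4O.SectionProper
import Groth.Agent.E4O.SectionCompDim
import Groth.Agent.E4O.BaseChangeDim
-- import your own Groth.Agent.* helpers here

set_option autoImplicit false
open CategoryTheory AlgebraicGeometry
universe u v w
open EGA43

namespace Groth.Agent.S4957

/-- Let f : X ⟶ Y be a separated morphism of finite presentation with a section g : Y ⟶ X, and X_z^0 the
connected component of f⁻¹(z) containing g z. Let y be a point such that X_y^0, as an open subscheme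
of the fibre X_y, is proper over κ(y). Then for every generization y' of y one has dim X_{y'}^0 ≤
dim X_y^0. -/
theorem result {X Y : Scheme.{u}} (f : X ⟶ Y) [IsSeparated f]
    [LocallyOfFinitePresentation f] [QuasiCompact f] [QuasiSeparated f] (g : Y ⟶ X) (hg : g ≫ f = 𝟙 Y) (y : Y)
    (hop : IsOpen ((f.fiberι y).base ⁻¹' connectedComponentIn (f.base ⁻¹' {y}) (g.base y)))
    (hprop : IsProper (Scheme.Opens.ι (⟨(f.fiberι y).base ⁻¹' connectedComponentIn (f.base ⁻¹' {y}) (g.base y), hop⟩ : (f.fiber y).Opens) ≫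
      f.fiberToSpecResidueField y))
    (y' : Y) (hy' : y' ⤳ y) :
    topologicalKrullDim ↥(connectedComponentIn (f.base ⁻¹' {y'}) (g.base y')) ≤ topologicalKrullDim ↥(connectedComponentIn (f.base ⁻¹' {y}) (g.base y)) := by
  obtain ⟨T, a, b, hb, hab, hr⟩ := E4O.properTrace_of_isProper f _ y hop hprop
  have hT : E4O.ProperTrace f (MoreMor.sectionComponents f g) y := by
    refine ⟨T, a, b, hb, hab, hr.trans ?_⟩
    show connectedComponentIn (f ⁻¹' {y}) (g y) ∩ f ⁻¹' {y} = _
    rw [← E4O.sectionComponents_inter_fibre f g y, Set.inter_assoc, Set.inter_self]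
  obtain ⟨U, hy, T', a', b', hb', hab', hr'⟩ := E4O.exists_properOn_sectionComponents f g hg y hT
  let C := connectedComponentIn (f ⁻¹' {y'}) (g y')
  have hC : ∀ x ∈ closure C, f x = y' → x ∈ C := by
    intro x hx hxy
    obtain ⟨w, rfl⟩ := (f.range_fiberι y').ge hxy
    have hcl := (E4O.isClopen_fiberι_preimage_component f (E4O.section_apply f g hg y')).isClosed
    rw [← closure_subset_iff_isClosed, (f.fiberι y').isEmbedding.isInducing.closure_eq_preimage_closure_image,
      Set.image_preimage_eq_inter_range, f.range_fiberι,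
      Set.inter_eq_left.2 (connectedComponentIn_subset _ _)] at hcl
    exact hcl hx
  have hCeq : C = f ⁻¹' {y'} ∩ closure C :=
    Set.Subset.antisymm (fun x hx => ⟨connectedComponentIn_subset (f ⁻¹' {y'}) (g y') hx, subset_closure hx⟩)
      (fun x hx => hC x hx.2 hx.1)
  show topologicalKrullDim ↥C ≤ _
  rw [hCeq]
  refine E4O.dim_fibre_inter_closed_le f y' isClosed_closure fun ξ hξ hξy => ?_
  obtain ⟨t, rfl⟩ := hr'.ge (show ξ ∈ MoreMor.sectionComponents f g ∩ f ⁻¹' (U : Set Y) from
    ⟨((E4O.sectionComponents_inter_fibre f g y').ge (hC ξ hξ hξy)).1,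
      (show f ξ ∈ U by rw [hξy]; exact hy'.mem_open U.2 hy)⟩)
  have hsp : b' t ⤳ ⟨y, hy⟩ := by
    rw [← U.ι.isOpenEmbedding.isInducing.specializes_iff]
    show U.ι (b' t) ⤳ y
    rw [← Scheme.Hom.comp_apply, ← hab', Scheme.Hom.comp_apply, hξy]
    exact hy'
  obtain ⟨t', htt, ht'⟩ := hsp.mem_closed (b'.isClosedMap _ (isClosed_closure (s := {t})))
    ⟨t, subset_closure rfl, rfl⟩
  have hxy : f (a' t') = y := by
    rw [← Scheme.Hom.comp_apply, hab', Scheme.Hom.comp_apply, ht']; rfl
  have hxC : a' t' ∈ connectedComponentIn (f ⁻¹' {y}) (g y) :=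
    (E4O.sectionComponents_inter_fibre f g y).le ⟨(hr'.le ⟨t', rfl⟩).1, hxy⟩
  obtain ⟨z, -, hzx, hfz, hle⟩ :=
    E4O.exists_fdeg_ge_between f ((specializes_iff_mem_closure.2 htt).map a'.continuous)
  exact (Nat.mono_cast hle).trans (E4O.fdeg_le_dim_component f
    (E4O.mem_connectedComponentIn_of_specializes f hxC hzx (hfz.trans hxy)))


end Groth.Agent.S4957
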