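import Groth.Statements.S4958
import Groth.Agent.E4O.EquidimLocal

set_option autoImplicit false
open CategoryTheory AlgebraicGeometry
universe u v w
open EGA43

namespace Groth.Agent.S4958

/-- Let Y be an irreducible locally Noetherian scheme with generic point η, f : X ⟶ Y a morphism of
finite type and y a point of Y whose local ring O_{Y,y} is universally catenary. Suppose that dim
O_{X,z} = dim O_{Y,y} for every maximal point z of the fibre X_y. For z' in Y let E(z') be the set
of dimensions of the irreducible components of X_{z'}. Then E(y) ⊆ E(η), and hence dim X_y ≤ dim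
X_η. -/
theorem result {X Y : Scheme.{u}} [IrreducibleSpace Y]
    [IsLocallyNoetherian Y] (f : X ⟶ Y) [LocallyOfFiniteType f] [QuasiCompact f] (y : Y)
    (hcat : CAlg.IsUniversallyCatenary (Y.presheaf.stalk y))
    (hb : ∀ z : X, f.base z = y → (∀ z' : X, f.base z' = y → z ∈ closure {z'} → z' = z) →
      ringKrullDim (X.presheaf.stalk z) = ringKrullDim (Y.presheaf.stalk y)) :
    letI E : Y → Set (WithBot ℕ∞) := fun z =>
      (fun Z : Set ↥(f.fiber z) => topologicalKrullDim ↥Z) '' irreducibleComponents ↥(f.fiber z)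
    E y ⊆ E (genericPoint Y) ∧
      topologicalKrullDim ↥(f.fiber y) ≤ topologicalKrullDim ↥(f.fiber (genericPoint Y)) := by
  have key : ∀ z : X, f z = y → Groth.Agent.E4O.IsFibreMax f z →
      ∃ ξ : X, f ξ = genericPoint Y ∧ Groth.Agent.E4O.IsFibreMax f ξ ∧
        Groth.Agent.E4O.fdeg f ξ = Groth.Agent.E4O.fdeg f z := by
    intro z hzy hzmax
    have hz := hb z hzy fun z' h1 h2 =>
      hzmax z' (specializes_iff_mem_closure.2 h2) (h1.trans hzy.symm)
    obtain ⟨C, ⟨q, rfl⟩, hC⟩ := Groth.Agent.E4O.exists_chart f z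
    have := hC ‹_›
    have : IsNoetherianRing C.B := Algebra.FiniteType.isNoetherianRing C.A _
    obtain ⟨m, hmq, hm, hh⟩ := Groth.Agent.E4O.exists_minimal_relHeight_eq q
    rw [C.ringKrullDim_stalk, ← hzy, C.apply, C.ringKrullDim_stalkY, WithBot.coe_inj] at hz
    have h1 := C.relHeight_add_fdeg_le m q hmq
    have h5 := Groth.Agent.E4O.relHeight_le_height (PrimeSpectrum.comap (algebraMap C.A C.B) m)
      (PrimeSpectrum.comap (algebraMap C.A C.B) q)
    have h6 := Groth.Agent.E4O.relHeight_add_le_height (B := C.A)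
      (m := PrimeSpectrum.comap (algebraMap C.A C.B) m)
      (q := PrimeSpectrum.comap (algebraMap C.A C.B) q) (Ideal.comap_mono hmq)
    have h7 : Groth.Agent.E4O.fdeg f (C.pt m) ≤ Groth.Agent.E4O.fdeg f (C.pt q) := by
      have := Groth.Agent.E4O.fdeg_le_fibreDimAt_of_specializes (f := f)
        ((C.specializes_iff m q).2 hmq)
      rw [Groth.Agent.E4O.fibreDimAt_eq_fdeg hzmax] at this
      exact_mod_cast this
    obtain ⟨d, hd⟩ := Groth.Agent.E4O.height_lt_top (PrimeSpectrum.comap (algebraMap C.A C.B) q)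
    obtain ⟨a, ha⟩ := Groth.Agent.E4O.relHeight_lt_top (PrimeSpectrum.comap (algebraMap C.A C.B) m)
      (PrimeSpectrum.comap (algebraMap C.A C.B) q)
    obtain ⟨b, hb'⟩ := Groth.Agent.E4O.height_lt_top (PrimeSpectrum.comap (algebraMap C.A C.B) m)
    rw [hh, hz, hd, ha] at h1
    rw [hd, ha] at h5
    rw [hd, ha, hb'] at h6
    norm_cast at h1 h5 h6
    have hb0 : b = 0 := by omega
    rw [hb0] at hb'
    have hp₀ : IsMin (PrimeSpectrum.comap (algebraMap C.A C.B) m) :=
      PrimeSpectrum.isMin_iff.2 (Ideal.height_eq_zero_iff.1 (by exact_mod_cast hb'))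
    have hmax := (C.isMin_iff m).1 hm
    refine ⟨C.pt m, ?_, fun a ha _ => hmax a ha, le_antisymm h7 (by omega)⟩
    obtain ⟨t, ht⟩ := (genericPoint_specializes (f (C.pt m))).mem_open
      C.isOpenEmbedding_ptY.isOpen_range ⟨_, (C.apply m).symm⟩
    have hle : t ≤ PrimeSpectrum.comap (algebraMap C.A C.B) m :=
      (C.specializesY_iff t (PrimeSpectrum.comap (algebraMap C.A C.B) m)).1 (by
        rw [← C.apply]
        show C.ptY t ⤳ _
        rw [ht]
        exact genericPoint_specializes _)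
    rw [C.apply, ← ht]
    exact congrArg C.ptY (le_antisymm (hp₀ hle) hle)
  refine ⟨?_, (Groth.Agent.E4O.dim_fiber_le_iff f y _).2 fun x hxy => ?_⟩
  · rintro _ ⟨Z, hZ, rfl⟩
    obtain ⟨z, -, hzmax, hd⟩ := Groth.Agent.E4O.exists_of_mem_irreducibleComponents_fiber f hZ
    obtain ⟨ξ, hξ, hξmax, hdeg⟩ := key _ (Groth.Agent.E4O.apply_fiberι f y z) hzmax
    obtain ⟨W, hW, hWd⟩ := Groth.Agent.E4O.exists_component_of_isFibreMax f hξ hξmax
    exact ⟨W, hW, by show topologicalKrullDim ↥W = _; rw [hWd, hdeg]; exact hd.symm⟩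
  · obtain ⟨z, -, hfz, hzmax, -, hle⟩ := Groth.Agent.E4O.exists_isFibreMax_specializes f x
    obtain ⟨ξ, hξ, -, hdeg⟩ := key z (hfz.trans hxy) hzmax
    refine le_trans ?_ ((Groth.Agent.E4O.dim_fiber_le_iff f (genericPoint Y) _).1 le_rfl ξ hξ)
    rw [hdeg]
    exact_mod_cast hle

end Groth.Agent.S4958
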