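import Groth.Statements.S4959
-- import your own Groth.Agent.* helpers here

set_option autoImplicit false
open CategoryTheory AlgebraicGeometry
universe u v w
open EGA43

namespace Groth.Agent.S4959

open CategoryTheory.Limits in
/-- Let f : X ⟶ Y be a morphism of schemes and g : Y' ⟶ Y a surjective morphism which is either proper,
or flat and quasi-compact. If the base change f' : X ×_Y Y' ⟶ Y' is universally submersive (all of
its base changes are topological quotient maps), then f is universally submersive. -/
theorem result {X Y Y' : Scheme.{u}} (f : X ⟶ Y) (g : Y' ⟶ Y) [Surjective g]
    (hg : IsProper g ∨ (Flat g ∧ QuasiCompact g))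
    (h : MorphismProperty.universally (topologically @Topology.IsQuotientMap) (pullback.snd f g)) :
    MorphismProperty.universally (topologically @Topology.IsQuotientMap) f := by
  have : (topologically @Topology.IsQuotientMap).RespectsIso :=
    topologically_respectsIso _ (fun e => e.isQuotientMap) (fun _ _ h₁ h₂ => h₂.comp h₁)
  refine MorphismProperty.universally_mk' _ f fun {T} t _ => ?_
  let T' := pullback t g
  let t' : T' ⟶ Y' := pullback.snd t g
  have hq : Topology.IsQuotientMap (pullback.fst t g).base := by
    rcases hg with hg | ⟨hg1, hg2⟩
    · exact (pullback.fst t g).isClosedMap.isQuotientMap (pullback.fst t g).continuous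
        (pullback.fst t g).surjective
    · exact Flat.isQuotientMap_of_surjective _
  let W := pullback t' (pullback.snd f g)
  let a : W ⟶ T' := pullback.fst t' (pullback.snd f g)
  have ha : Topology.IsQuotientMap a.base :=
    h _ _ _ (IsPullback.of_hasPullback t' (pullback.snd f g))
  let b : W ⟶ pullback t f := pullback.lift (a ≫ pullback.fst t g)
    (pullback.snd t' (pullback.snd f g) ≫ pullback.fst f g) (by
      simp only [Category.assoc]
      rw [pullback.condition, pullback.condition, pullback.condition_assoc])
  have hb : b ≫ pullback.fst t f = a ≫ pullback.fst t g := pullback.lift_fst _ _ _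
  have h1 : Topology.IsQuotientMap (b ≫ pullback.fst t f).base := by
    rw [hb]
    exact hq.comp ha
  exact Topology.IsQuotientMap.of_comp b.continuous (pullback.fst t f).continuous h1


end Groth.Agent.S4959
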