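import Groth.Statements.S4962
import Groth.Agent.Sk62.Open
import Groth.Agent.S0386

set_option autoImplicit false
open CategoryTheory AlgebraicGeometry
universe u v w
open EGA43

open Groth.Agent

namespace Groth.Agent.S4962

/-- Let f : X ⟶ Y be a morphism locally of finite presentation and k a natural number. The set of points
x of X such that f is flat at x and the local ring at x of the fibre of f through x satisfies
Serre's condition (S_k) is open in X. -/
theorem result {X Y : Scheme.{u}} (f : X ⟶ Y) [LocallyOfFinitePresentation f]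
    (k : ℕ) :
    IsOpen {x : X | (f.stalkMap x).hom.Flat ∧ LocCoh.HasSk k ((f.fiber (f.base x)).presheaf.stalk (f.asFiber x)) ((f.fiber (f.base x)).presheaf.stalk (f.asFiber x))} := by
  let U : X.Opens := ⟨{x : X | (f.stalkMap x).hom.Flat}, S0386.result f⟩
  have : Flat (U.ι ≫ f) := Flat.of_stalkMap _ fun x => by
    rw [Scheme.Hom.stalkMap_comp]
    exact (RingHom.Flat.respectsIso.cancel_right_isIso _ _).2 x.2
  convert U.isOpen.isOpenMap_subtype_val _ (Sk62.isOpen_hasSk (U.ι ≫ f) k) using 1
  ext x
  constructor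
  · rintro ⟨hfl, hsk⟩
    exact ⟨⟨x, hfl⟩, (Sk62.hasSk_openImmersion_comp_iff U.ι f k ⟨x, hfl⟩).2 hsk, rfl⟩
  · rintro ⟨a, ha, rfl⟩
    exact ⟨a.2, (Sk62.hasSk_openImmersion_comp_iff U.ι f k a).1 ha⟩

end Groth.Agent.S4962
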