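import Groth.Statements.S4964
import Groth.Agent.LC16.FibreModProper

set_option autoImplicit false
open CategoryTheory AlgebraicGeometry
universe u v w
open EGA43

namespace Groth.Agent.S4964

/-- Let f : X ⟶ Y be a proper morphism of finite presentation and F a finitely presented O_X-module
which is f-flat; for y in Y write F_y for the restriction of F to the fibre X_y. Let Φ be a finite
set of natural numbers. Then the set of points y of Y such that the closure in X_y of every
associated point of F_y has dimension in Φ is open in Y. In particular (Φ = {k}), the set of y such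
that every associated point of F_y has closure of dimension k is open. -/
theorem result {X Y : Scheme.{u}} (f : X ⟶ Y) [IsProper f]
    [LocallyOfFinitePresentation f] (F : X.Modules) (hF : CohB1.IsFP F) (hflat : FlatMod.IsFlatOver f F) (Φ : Finset ℕ) :
    IsOpen {y : Y | ∀ z ∈ AssSch.Ass ((Scheme.Modules.pullback (f.fiberι y)).obj F), ∃ n ∈ Φ,
      topologicalKrullDim ↥(closure ({z} : Set ↥(f.fiber y))) = (n : WithBot ℕ∞)} := by
  haveI := hF
  convert Groth.Agent.LC16.FibreModProper.isOpen_forall_fiber f
    (Groth.Agent.LC16.FibreModOpen.isOpen_assDims f F hflat (↑Φ : Set ℕ)) using 1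
  ext y
  constructor
  · intro h w z hz hfz h0
    obtain ⟨a, rfl⟩ := Groth.Agent.E4O.exists_fiberι_eq f (hfz.trans (Groth.Agent.E4O.apply_fiberι f y w))
    obtain ⟨n, hn, hd⟩ := h a ((Groth.Agent.LC16.FibreModOpen.mem_ass_fibre_iff f F _ a).2 h0)
    rw [Groth.Agent.E4O.dim_closure_fiber] at hd
    have : Groth.Agent.E4O.fdeg f (f.fiberι y a) = n := by exact_mod_cast hd
    rw [this]
    exact hn
  · intro h a ha
    exact ⟨_, h a _ specializes_rfl rfl ((Groth.Agent.LC16.FibreModOpen.mem_ass_fibre_iff f F _ a).1 ha),
      Groth.Agent.E4O.dim_closure_fiber f _ a⟩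

end Groth.Agent.S4964
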