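import Groth.Statements.S4966
import Groth.Agent.LC16.FibreModProper

set_option autoImplicit false
open CategoryTheory AlgebraicGeometry
universe u v w
open EGA43

namespace Groth.Agent.S4966

/-- Let f : X ⟶ Y be a proper morphism of finite presentation and F a finitely presented O_X-module
which is f-flat; for y in Y write F_y for the restriction of F to the fibre X_y. Let Φ be a finite
set of natural numbers. Then the set of points y of Y such that F_y has no embedded associated point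
and the set of dimensions of the irreducible components of Supp(F_y) is exactly Φ is open in Y. -/
theorem result {X Y : Scheme.{u}} (f : X ⟶ Y) [IsProper f]
    [LocallyOfFinitePresentation f] (F : X.Modules) (hF : CohB1.IsFP F) (hflat : FlatMod.IsFlatOver f F) (Φ : Finset ℕ) :
    IsOpen {y : Y | AssSch.NoEmbedded ((Scheme.Modules.pullback (f.fiberι y)).obj F) ∧
      (fun Z : Set ↥{z : ↥(f.fiber y) | Nontrivial (((Scheme.Modules.pullback (f.fiberι y)).obj F).presheaf.stalk z)} => topologicalKrullDim ↥Z) '' irreducibleComponents ↥{z : ↥(f.fiber y) | Nontrivial (((Scheme.Modules.pullback (f.fiberι y)).obj F).presheaf.stalk z)} =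
        (fun n : ℕ => (n : WithBot ℕ∞)) '' (Φ : Set ℕ)} := by
  haveI := hF
  classical
  have h : IsOpen (({y : Y | ∀ w : ↥(f.fiber y), f.fiberι y w ∈ {x : X | ∀ z, z ⤳ x → f z = f x →
        Groth.Agent.LC16.FibreMod.fd f F z = 0 →
        z ∉ Groth.Agent.LC16.FibreModOpen.Big f F (Groth.Agent.E4O.fdeg f z + 1)}} ∩
      {y : Y | ∀ w : ↥(f.fiber y), f.fiberι y w ∈ {x : X | ∀ z, z ⤳ x → f z = f x →
        Groth.Agent.LC16.FibreMod.fd f F z = 0 → Groth.Agent.E4O.fdeg f z ∈ (↑Φ : Set ℕ)}}) ∩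
      ⋂ n ∈ (↑Φ : Set ℕ), {y : Y | ∃ z, f z = y ∧ Groth.Agent.LC16.FibreMod.fd f F z = 0 ∧
        Groth.Agent.E4O.fdeg f z = n ∧ z ∉ Groth.Agent.LC16.FibreModOpen.Big f F (n + 1)}) :=
    ((Groth.Agent.LC16.FibreModProper.isOpen_forall_fiber f
      (Groth.Agent.LC16.FibreModOpen.isOpen_noEmbedded f F hflat)).inter
      (Groth.Agent.LC16.FibreModProper.isOpen_forall_fiber f
        (Groth.Agent.LC16.FibreModOpen.isOpen_assDims f F hflat (↑Φ : Set ℕ)))).inter
      (Φ.finite_toSet.isOpen_biInter fun n _ =>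
        Groth.Agent.LC16.FibreModProper.isOpen_exists_component f F hflat n)
  convert h using 1
  ext y
  simp only [Set.mem_setOf_eq, Set.mem_inter_iff, Set.mem_iInter, Set.ext_iff, Set.mem_image,
    Groth.Agent.LC16.FibreModProper.exists_component_iff f F y]
  constructor
  · rintro ⟨hne, hdim⟩
    have hmax : ∀ z, f z = y → Groth.Agent.LC16.FibreMod.fd f F z = 0 →
        z ∉ Groth.Agent.LC16.FibreModOpen.Big f F (Groth.Agent.E4O.fdeg f z + 1) := by
      intro z hz h0
      obtain ⟨a, rfl⟩ := Groth.Agent.E4O.exists_fiberι_eq f hz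
      refine ((Groth.Agent.LC16.FibreModProper.mem_maxAss_iff f F y a).1
        ⟨(Groth.Agent.LC16.FibreModOpen.mem_ass_fibre_iff f F y a).2 h0, fun b hb hba => ?_⟩).2
      exact (hne a ((Groth.Agent.LC16.FibreModOpen.mem_ass_fibre_iff f F y a).2 h0) b hb hba).symm
    refine ⟨⟨fun w z _ hfz h0 => hmax z (hfz.trans (Groth.Agent.E4O.apply_fiberι f y w)) h0,
      fun w z _ hfz h0 => ?_⟩, fun n hn => ?_⟩
    · obtain ⟨n, hn, hd⟩ := (hdim _).1 ⟨_, rfl, z, hfz.trans (Groth.Agent.E4O.apply_fiberι f y w),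
        h0, rfl, hmax z (hfz.trans (Groth.Agent.E4O.apply_fiberι f y w)) h0⟩
      have : n = Groth.Agent.E4O.fdeg f z := by exact_mod_cast hd
      rw [← this]
      exact hn
    · obtain ⟨m, hm, hz⟩ := (hdim _).2 ⟨n, hn, rfl⟩
      have : n = m := by exact_mod_cast hm
      subst this
      exact hz
  · rintro ⟨⟨h1, h2⟩, h3⟩
    refine ⟨fun a ha b hb hba => ?_, fun d => ⟨?_, ?_⟩⟩
    · by_contra hne
      have hsp := (Groth.Agent.E4O.specializes_fiberι_iff f y b a).2 hba
      have hfe : f (f.fiberι y b) = f (f.fiberι y a) := by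
        rw [Groth.Agent.E4O.apply_fiberι, Groth.Agent.E4O.apply_fiberι]
      exact h1 a _ specializes_rfl rfl ((Groth.Agent.LC16.FibreModOpen.mem_ass_fibre_iff f F y a).1 ha)
        ⟨_, Groth.Agent.LC16.FibreModOpen.mem_support_of_fd_ne_top f F
          (by rw [(Groth.Agent.LC16.FibreModOpen.mem_ass_fibre_iff f F y b).1 hb]; exact ENat.zero_ne_top),
          hsp, hfe, Groth.Agent.E4O.fdeg_lt hsp hfe
            fun e => hne ((Groth.Agent.E4O.isEmbedding_fiberι f y).injective e).symm⟩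
    · rintro ⟨n, rfl, z, hz, h0, hn, -⟩
      obtain ⟨a, rfl⟩ := Groth.Agent.E4O.exists_fiberι_eq f hz
      exact ⟨n, hn ▸ h2 a _ specializes_rfl rfl h0, rfl⟩
    · rintro ⟨n, hn, rfl⟩
      exact ⟨n, rfl, h3 n hn⟩

end Groth.Agent.S4966
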