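import Groth.Statements.S4967
import Groth.Agent.E4O.FibModOpen
-- import your own Groth.Agent.* helpers here

set_option autoImplicit false
open CategoryTheory AlgebraicGeometry
universe u v w
open EGA43

namespace Groth.Agent.S4967

/-- Let f : X ⟶ Y be a proper morphism of finite presentation and F a finitely presented O_X-module
which is f-flat; for y in Y write F_y for the restriction of F to the fibre X_y. Let k be a natural
number. Then the set of points y of Y such that F_y has codepth at most k, i.e. at every point x of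
X_y the stalk of F_y has support dimension at most its depth plus k over the local ring of X_y at x,
is open in Y (equivalently, y ↦ coprof(F_y) is upper semicontinuous). -/
theorem result {X Y : Scheme.{u}} (f : X ⟶ Y) [IsProper f]
    [LocallyOfFinitePresentation f] (F : X.Modules) (hF : CohB1.IsFP F) (hflat : FlatMod.IsFlatOver f F) (k : ℕ) :
    IsOpen {y : Y | ∀ x : ↥(f.fiber y), Module.supportDim ((f.fiber y).presheaf.stalk x) (((Scheme.Modules.pullback (f.fiberι y)).obj F).presheaf.stalk x) ≤
      ((LocCoh.depth ((f.fiber y).presheaf.stalk x) (((Scheme.Modules.pullback (f.fiberι y)).obj F).presheaf.stalk x) : ℕ∞) : WithBot ℕ∞) + k} := by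
  show IsOpen {y : Y | ∀ x : ↥(f.fiber y), E4O.FibMod.fdimM f F y x ≤ ((E4O.FibMod.fdepthM f F y x : ℕ∞) : WithBot ℕ∞) + k}
  have heq : {y : Y | ∀ x : ↥(f.fiber y), E4O.FibMod.fdimM f F y x ≤ ((E4O.FibMod.fdepthM f F y x : ℕ∞) : WithBot ℕ∞) + k} =
      (f '' {x : X | E4O.FibMod.mdim f F x ≤ ((E4O.FibMod.mdepth f F x : ℕ∞) : WithBot ℕ∞) + k}ᶜ)ᶜ := by
    ext y
    constructor
    · rintro h ⟨x, hx, rfl⟩
      exact hx (h (f.asFiber x))
    · intro h x
      obtain ⟨h1, h2, -⟩ := E4O.FibMod.invariants_asFiber f F y x
      rw [h1, h2]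
      by_contra hx
      exact h ⟨f.fiberι y x, hx, E4O.apply_fiberι f y x⟩
  rw [heq]
  exact (f.isClosedMap _ (E4O.FibMod.isOpen_codepth_le f F hF hflat k).isClosed_compl).isOpen_compl


end Groth.Agent.S4967
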