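import Groth.Statements.S4971
import Mathlib.RingTheory.Nakayama
-- import your own Groth.Agent.* helpers here

set_option autoImplicit false
universe u
open EGA43

namespace Groth.Agent.S4971

/-- Let B be a Noetherian local ring, M, N, P three B-modules with N finitely generated, u : M → N and v
: N → P linear maps with v ∘ u = 0, and t an element of the maximal ideal of B which is P-regular.
If the induced sequence M/tM → N/tN → P/tP is exact, then M → N → P is exact. -/
theorem result {B : Type u} [CommRing B] [IsNoetherianRing B] [IsLocalRing B]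
    {M N P : Type u} [AddCommGroup M] [Module B M] [AddCommGroup N] [Module B N] [Module.Finite B N]
    [AddCommGroup P] [Module B P] (u : M →ₗ[B] N) (v : N →ₗ[B] P) (huv : v ∘ₗ u = 0) (t : B)
    (ht : t ∈ IsLocalRing.maximalIdeal B) (hreg : IsSMulRegular P t)
    (hu : (Ideal.span {t} • ⊤ : Submodule B M) ≤ (Ideal.span {t} • ⊤ : Submodule B N).comap u)
    (hv : (Ideal.span {t} • ⊤ : Submodule B N) ≤ (Ideal.span {t} • ⊤ : Submodule B P).comap v)
    (hex : LinearMap.ker ((Ideal.span {t} • ⊤ : Submodule B N).mapQ (Ideal.span {t} • ⊤ : Submodule B P) v hv) ≤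
      LinearMap.range ((Ideal.span {t} • ⊤ : Submodule B M).mapQ (Ideal.span {t} • ⊤ : Submodule B N) u hu)) :
    LinearMap.ker v ≤ LinearMap.range u := by
  have hfg : (LinearMap.ker v).FG := IsNoetherian.noetherian _
  refine Submodule.le_of_le_smul_of_le_jacobson_bot hfg
    (I := Ideal.span {t}) ?_ ?_
  · rw [IsLocalRing.jacobson_eq_maximalIdeal _ bot_ne_top]
    exact (Ideal.span_singleton_le_iff_mem _).2 ht
  · intro x hx
    have h1 : Submodule.Quotient.mk x ∈
        LinearMap.ker ((Ideal.span {t} • ⊤ : Submodule B N).mapQ (Ideal.span {t} • ⊤ : Submodule B P) v hv) := by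
      rw [LinearMap.mem_ker, Submodule.mapQ_apply, LinearMap.mem_ker.1 hx]
      exact Submodule.Quotient.mk_zero _
    obtain ⟨mq, hm⟩ := hex h1
    obtain ⟨m, rfl⟩ := Submodule.Quotient.mk_surjective _ mq
    rw [Submodule.mapQ_apply, Submodule.Quotient.eq, Submodule.ideal_span_singleton_smul,
      Submodule.mem_smul_pointwise_iff_exists] at hm
    obtain ⟨n, -, hn⟩ := hm
    have hn0 : n ∈ LinearMap.ker v := by
      rw [LinearMap.mem_ker]
      apply hreg
      show t • v n = t • 0
      rw [smul_zero, ← map_smul, hn, map_sub, LinearMap.mem_ker.1 hx,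
        show v (u m) = (v ∘ₗ u) m from rfl, huv]
      simp
    refine Submodule.mem_sup.2 ⟨u m, ⟨m, rfl⟩, -(t • n), neg_mem ?_, ?_⟩
    · exact Submodule.smul_mem_smul (Ideal.mem_span_singleton_self t) hn0
    · rw [hn]; abel


end Groth.Agent.S4971
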