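import Groth.Statements.S4972
import Groth.Agent.E4O.BaseChangeDim
import Groth.Agent.E4O.ValDim

set_option autoImplicit false
open CategoryTheory AlgebraicGeometry
universe u v w
open EGA43 Limits TopologicalSpace Topology Groth.Agent.E4O

namespace Groth.Agent.S4972

/-- Let f : X ⟶ S be a morphism of finite type, (g_i : Y_i ⟶ S) a family of universally open morphisms
and (u_i : Y_i ⟶ X) a family of S-morphisms. For s in S let Z(s) be the closure, in the fibre f⁻¹(s)
(with the topology induced from X), of the union of the sets u_i(Y_i) ∩ f⁻¹(s) (the images of the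
fibres of the Y_i over s), and let d(s) = dim Z(s). Then for every point s of S and every
generization s' of s one has d(s) ≤ d(s'). -/
theorem result {X S : Scheme.{u}} (f : X ⟶ S) [LocallyOfFiniteType f]
    [QuasiCompact f] {ι : Type u} (Y : ι → Scheme.{u}) (g : ∀ i, Y i ⟶ S) [∀ i, UniversallyOpen (g i)]
    (v : ∀ i, Y i ⟶ X) (hv : ∀ i, v i ≫ f = g i) (s s' : S) (hs : s' ⤳ s) :
    letI d : S → WithBot ℕ∞ := fun t =>
      topologicalKrullDim ↥(f.base ⁻¹' {t} ∩ closure ((⋃ i, Set.range (v i).base) ∩ f.base ⁻¹' {t}))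
    d s ≤ d s' := by
  have key : ∀ z, f z = s → z ∈ closure ((⋃ i, Set.range (v i)) ∩ f ⁻¹' {s}) →
      ∃ ξ, f ξ = s' ∧ ξ ∈ closure ((⋃ i, Set.range (v i)) ∩ f ⁻¹' {s'}) ∧
        fdeg f z ≤ fdeg f ξ := by
    intro z hz hzE
    obtain ⟨V, _, _, _, w, hη, hc⟩ := exists_valuationRing_hom hs
    let η : Spec (CommRingCat.of V) := (⟨⊥, Ideal.isPrime_bot⟩ : PrimeSpectrum V)
    let c : Spec (CommRingCat.of V) := IsLocalRing.closedPoint V
    have hηc : η ⤳ c := IsLocalRing.specializes_closedPoint _
    let p := pullback.fst f w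
    let q := pullback.snd f w
    have hsq : IsPullback p q f w := IsPullback.of_hasPullback f w
    let E : Set X := ⋃ i, Set.range (v i)
    let T : Set (pullback f w : Scheme.{u}) := q ⁻¹' {η} ∩ p ⁻¹' E
    -- points of the special fibre over `E` lie in the closure of `T`
    have step : q ⁻¹' {c} ∩ p ⁻¹' E ⊆ closure T := by
      rintro a ⟨hqa, hpa⟩
      obtain ⟨i, y, hy⟩ := Set.mem_iUnion.1 hpa
      let r₁ := pullback.fst (v i) p
      let r₂ := pullback.snd (v i) p
      have hbig : IsPullback r₁ (r₂ ≫ q) (g i) w := by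
        rw [← hv i]
        exact (IsPullback.of_hasPullback (v i) p).paste_vert hsq
      have : UniversallyOpen (r₂ ≫ q) := MorphismProperty.of_isPullback hbig inferInstance
      obtain ⟨b, -, hb⟩ := Scheme.Pullback.exists_preimage_pullback (f := v i) (g := p) y a hy
      have hb1 : b ∈ (r₂ ≫ q) ⁻¹' closure {η} := by
        show (r₂ ≫ q) b ∈ closure {η}
        rw [Scheme.Hom.comp_apply, show r₂ b = a from hb, show q a = c from hqa]
        exact hηc.mem_closure
      have hb2 := (r₂ ≫ q).isOpenMap.preimage_closure_subset_closure_preimage hb1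
      rw [show a = r₂ b from hb.symm]
      refine map_mem_closure r₂.continuous hb2 fun t ht => ⟨?_, ?_⟩
      · show q (r₂ t) = η
        rw [← Scheme.Hom.comp_apply]
        exact ht
      · show p (r₂ t) ∈ E
        rw [← Scheme.Hom.comp_apply, ← pullback.condition, Scheme.Hom.comp_apply]
        exact Set.mem_iUnion.2 ⟨i, _, rfl⟩
    -- a point of the special fibre above `z`
    obtain ⟨a, hpa, hqa, hdeg⟩ := exists_fdeg_eq_of_isPullback hsq z c (hz.trans hc.symm)
    have ha : a ∈ closure T := by
      obtain ⟨m, -, hmo, -, hm⟩ := exists_fibre_map_flat hsq c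
      obtain ⟨a₀, rfl⟩ := exists_fiberι_eq q hqa
      refine closure_minimal step isClosed_closure ?_
      have hzE' : m a₀ ∈ closure (f.fiberι (w c) ⁻¹' E) := by
        rw [(isEmbedding_fiberι f (w c)).isInducing.closure_eq_preimage_closure_image,
          Set.mem_preimage, Set.image_preimage_eq_inter_range, Scheme.Hom.range_fiberι, hm, hpa,
          show w c = s from hc]
        exact hzE
      refine map_mem_closure (q.fiberι c).continuous
        (hmo.preimage_closure_subset_closure_preimage hzE') fun t ht => ⟨apply_fiberι q c t, ?_⟩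
      show p (q.fiberι c t) ∈ E
      rw [← hm]
      exact ht
    obtain ⟨ξ, hqξ, hξa, hξT⟩ :=
      exists_specializes_mem_closure_of_subset_fibre q (T := T) Set.inter_subset_left ha
    refine ⟨p ξ, ?_, ?_, ?_⟩
    · rw [← Scheme.Hom.comp_apply, hsq.w, Scheme.Hom.comp_apply, hqξ]
      exact hη
    · refine map_mem_closure p.continuous hξT fun t ht => ⟨ht.2, ?_⟩
      show f (p t) = s'
      rw [← Scheme.Hom.comp_apply, hsq.w, Scheme.Hom.comp_apply, show q t = η from ht.1]
      exact hη
    · calc fdeg f z = fdeg q a := hdeg.symm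
        _ ≤ fdeg q ξ := fdeg_le_of_specializes_of_valuationRing q hξa hqa
        _ ≤ fdeg f (p ξ) := fdeg_le_of_isPullback hsq ξ
  refine dim_fibre_inter_closed_le f s isClosed_closure fun z hzE hz => ?_
  obtain ⟨ξ, hξ, hξE, hle⟩ := key z hz hzE
  have h1 : ((fdeg f z : ℕ) : WithBot ℕ∞) ≤ (fdeg f ξ : ℕ) := by exact_mod_cast hle
  refine h1.trans ?_
  rw [← dim_fibreClosure (f := f) ξ, hξ]
  refine TopDim50.dim_mono ?_
  rintro t ⟨ht, hts⟩
  exact ⟨hts, closure_minimal (Set.singleton_subset_iff.2 hξE) isClosed_closure ht⟩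

end Groth.Agent.S4972
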