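import Groth.Statements.S4973
-- import your own Groth.Agent.* helpers here

set_option autoImplicit false
open CategoryTheory AlgebraicGeometry
universe u v w
open EGA43

namespace Groth.Agent.S4973

open CategoryTheory.Limits in
/-- Let Y₀ and Y be integral schemes, g : Y ⟶ Y₀ a dominant morphism, f₀ : X₀ ⟶ Y₀ a dominant morphism
whose fibre over the generic point of Y₀ is irreducible, and X'₀ an irreducible component of X₀
meeting that generic fibre (it is unique), regarded as a reduced closed subscheme of X₀. If X = X₀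
×_{Y₀} Y is an integral scheme, then the morphism X'₀ ×_{Y₀} Y ⟶ X induced by the inclusion of X'₀
is an isomorphism. -/
theorem result {X₀ Y₀ Y : Scheme.{u}} [IsIntegral Y₀] [IsIntegral Y]
    (g : Y ⟶ Y₀) [IsDominant g] (f₀ : X₀ ⟶ Y₀) [IsDominant f₀]
    (hirr : IsIrreducible (f₀.base ⁻¹' {genericPoint Y₀}))
    (C : TopologicalSpace.Closeds X₀) (hC : (C : Set X₀) ∈ irreducibleComponents (X₀ : Type u))
    (hCη : ((C : Set X₀) ∩ f₀.base ⁻¹' {genericPoint Y₀}).Nonempty) [IsIntegral (pullback f₀ g)]
    (e₁ : ((Scheme.IdealSheafData.vanishingIdeal C).subschemeι ≫ f₀) ≫ 𝟙 Y₀ =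
      (Scheme.IdealSheafData.vanishingIdeal C).subschemeι ≫ f₀) (e₂ : g ≫ 𝟙 Y₀ = 𝟙 Y ≫ g) :
    IsIso (pullback.map ((Scheme.IdealSheafData.vanishingIdeal C).subschemeι ≫ f₀) g f₀ g
      (Scheme.IdealSheafData.vanishingIdeal C).subschemeι (𝟙 Y) (𝟙 Y₀) e₁ e₂) := by
  let i := (Scheme.IdealSheafData.vanishingIdeal C).subschemeι
  let h := pullback.map (i ≫ f₀) g f₀ g i (𝟙 Y) (𝟙 Y₀) e₁ e₂
  have hf' : h ≫ pullback.fst f₀ g = pullback.fst (i ≫ f₀) g ≫ i := pullback.lift_fst _ _ _
  have hs' : h ≫ pullback.snd f₀ g = pullback.snd (i ≫ f₀) g :=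
    (pullback.lift_snd _ _ _).trans (Category.comp_id _)
  haveI : IsClosedImmersion h := by
    refine MorphismProperty.of_isPullback (P := @IsClosedImmersion) (f := pullback.fst f₀ g) (g := i)
      (f' := pullback.fst (i ≫ f₀) g) (g' := h) ?_ inferInstance
    refine IsPullback.of_bot ?_ hf'.symm (IsPullback.of_hasPullback f₀ g)
    rw [hs']
    exact IsPullback.of_hasPullback _ _
  let P := pullback f₀ g
  -- the fibre over the generic point lies in `C`
  have hfib : f₀.base ⁻¹' {genericPoint Y₀} ⊆ (C : Set X₀) := by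
    obtain ⟨z, hzC, hz⟩ := hCη
    obtain ⟨c, hc⟩ : ∃ c, IsGenericPoint c (C : Set X₀) :=
      QuasiSober.sober hC.1 C.isClosed
    have hcz : c ⤳ z := hc.specializes hzC
    have hfc : f₀.base c = genericPoint Y₀ :=
      ((genericPoint_specializes (f₀.base c)).antisymm
        (Set.mem_singleton_iff.1 hz ▸ hcz.map f₀.continuous)).eq.symm
    have hCC' : (C : Set X₀) ⊆ closure (f₀.base ⁻¹' {genericPoint Y₀}) := by
      rw [← hc.def]
      exact closure_mono (Set.singleton_subset_iff.2 hfc)
    exact subset_closure.trans (hC.2 (hirr.closure : IsIrreducible _) hCC')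
  obtain ⟨z, -, hz⟩ := hCη
  have hg : g (genericPoint Y) = genericPoint Y₀ := by
    have hd : closure (Set.range g.base) = Set.univ := g.denseRange.closure_range
    have hy : genericPoint Y₀ ∈ closure (Set.range g.base) := hd ▸ Set.mem_univ _
    refine ((genericPoint_spec Y).image g.continuous).eq ?_
    rw [Set.image_univ, hd]
    exact genericPoint_spec Y₀
  obtain ⟨q, hq1, hq2⟩ := Scheme.Pullback.exists_preimage_pullback (f := f₀) (g := g) z (genericPoint Y)
    ((Set.mem_singleton_iff.1 hz).trans hg.symm)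
  have hξ : (pullback.snd f₀ g) (genericPoint P) = genericPoint Y := by
    refine ((genericPoint_specializes _).antisymm ?_).eq.symm
    exact hq2 ▸ (genericPoint_specializes q).map (pullback.snd f₀ g).continuous
  have hξC : (pullback.fst f₀ g) (genericPoint P) ∈ (C : Set X₀) := by
    refine hfib ?_
    show f₀ (pullback.fst f₀ g (genericPoint P)) = genericPoint Y₀
    rw [← Scheme.Hom.comp_apply, pullback.condition, Scheme.Hom.comp_apply, hξ, hg]
  have hξr : genericPoint P ∈ Set.range h.base := by
    rw [show Set.range h.base = _ from Scheme.Pullback.range_map ..]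
    refine ⟨?_, ⟨pullback.snd f₀ g (genericPoint P), rfl⟩⟩
    rw [Set.mem_preimage, Scheme.IdealSheafData.range_subschemeι,
      Scheme.IdealSheafData.coe_support_vanishingIdeal]
    exact hξC
  haveI : Surjective h := ⟨fun x => h.isClosedEmbedding.isClosed_range.closure_subset_iff.2
    (Set.singleton_subset_iff.2 hξr) ((genericPoint_specializes x).mem_closure)⟩
  exact isIso_of_isClosedImmersion_of_surjective h


end Groth.Agent.S4973
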