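import Groth.Statements.S4974
import Groth.Agent.E4O.QuasiSectionEquidim
import Groth.Agent.E4O.LocalFinite
import Mathlib.RingTheory.ZariskisMainTheorem

set_option autoImplicit false
open CategoryTheory AlgebraicGeometry
universe u v w
open EGA43 Groth.Agent.E4O

namespace Groth.Agent.S4974

/-- Consider a complete Noetherian local domain A and put Y = Spec A. Suppose f : X ⟶ Y is locally of
finite type, and take a point x ∈ X mapping to the closed point of Y, where f is equidimensional at
x and x is closed in the fibre containing it. Then one can find a local domain A' that contains A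
and is finite as an A-algebra, together with a Y-morphism h : Spec A' ⟶ X that is an immersion and
has x in its image. -/
theorem result {A : Type u} [CommRing A] [IsDomain A]
    [IsNoetherianRing A] [IsLocalRing A] [IsAdicComplete (IsLocalRing.maximalIdeal A) A] {X : Scheme.{u}}
    (f : X ⟶ Spec (CommRingCat.of A)) [LocallyOfFiniteType f] (x : X) (hx : f.base x = IsLocalRing.closedPoint A)
    (hf : EGA43.IsEquidimAt f x) (hcl : ∀ x' : X, f.base x' = f.base x → x ⤳ x' → x' = x) :
    ∃ (A' : Type u) (_ : CommRing A') (_ : IsDomain A') (_ : IsLocalRing A') (_ : Algebra A A') (_ : Module.Finite A A'),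
      Function.Injective (algebraMap A A') ∧
      ∃ h : Spec (CommRingCat.of A') ⟶ X, h ≫ f = Spec.map (CommRingCat.ofHom (algebraMap A A')) ∧
        IsImmersion h ∧ x ∈ Set.range h.base := by
  obtain ⟨e, he, -, -⟩ := exists_of_isEquidimAt f hf
  obtain ⟨B, hB, i, hi, ⟨t, ht⟩, hqf, -, hdom⟩ :=
    exists_quasiSection_of_isEquidimAt e f x hf he hcl
  obtain ⟨φ, hφ⟩ := Spec.map_surjective (i ≫ f)
  let _ : Algebra A B := φ.hom.toAlgebra
  have hft : φ.hom.FiniteType :=
    (HasRingHomProperty.Spec_iff (P := @LocallyOfFiniteType) (φ := φ)).1 (hφ.symm ▸ inferInstance)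
  have : Algebra.FiniteType A B := hft
  have hq' : φ.hom.QuasiFinite :=
    (HasRingHomProperty.Spec_iff (P := @LocallyQuasiFinite) (φ := φ)).1 (hφ.symm ▸ hqf)
  have : Algebra.QuasiFinite A B := hq'
  let q : PrimeSpectrum B := t
  obtain ⟨C, hC, r, hr, hbij⟩ :=
    Algebra.QuasiFiniteAt.exists_fg_and_exists_notMem_and_awayMap_bijective (R := A) (S := B) q.asIdeal
  have : Module.Finite A C := ⟨(Submodule.fg_top _).mpr hC⟩
  have hloc : IsLocalRing C := isLocalRing_of_finite_henselian (A := A)
  have hqm : (q.asIdeal.comap (algebraMap C B)).IsMaximal := by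
    refine Ideal.isMaximal_of_isIntegral_of_isMaximal_comap (R := A) _ ?_
    have h1 : q.asIdeal.comap (algebraMap A B) = IsLocalRing.maximalIdeal A := by
      have h2 : (Spec.map φ) t = IsLocalRing.closedPoint A := by
        rw [hφ, Scheme.Hom.comp_apply, ht, hx]
      exact congrArg PrimeSpectrum.asIdeal h2
    rw [Ideal.comap_comap, ← IsScalarTower.algebraMap_eq A C B, h1]
    infer_instance
  have hru : IsUnit r := by
    by_contra hu
    exact hr ((IsLocalRing.eq_maximalIdeal hqm).ge hu)
  have hfin : Module.Finite A B := by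
    have htop : ∀ b : B, b ∈ C := fun b => by
      obtain ⟨c', hc'⟩ := hbij.2 (algebraMap B _ b)
      have hunit : Function.Surjective (algebraMap C (Localization.Away r)) := by
        exact (IsLocalization.atUnit C (Localization.Away r) r hru).surjective
      obtain ⟨c, rfl⟩ := hunit c'
      rw [Localization.awayMap, IsLocalization.Away.map, IsLocalization.map_eq] at hc'
      have hinj : Function.Injective (algebraMap B (Localization.Away (C.val.toRingHom r))) := by
        refine IsLocalization.injective (M := Submonoid.powers (C.val.toRingHom r))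
          (Localization.Away (C.val.toRingHom r)) (Submonoid.powers_le.2 ?_)
        exact mem_nonZeroDivisors_of_ne_zero fun h => hr (by
          rw [show r.1 = 0 from h]; exact q.asIdeal.zero_mem)
      rw [← hinj hc']
      exact c.2
    exact Module.Finite.of_surjective C.val.toLinearMap fun b => ⟨⟨b, htop b⟩, rfl⟩
  have hlocB : IsLocalRing B := isLocalRing_of_finite_henselian (A := A)
  refine ⟨B, inferInstance, inferInstance, hlocB, inferInstance, hfin, ?_, i, hφ.symm, hi, t, ht⟩
  rw [injective_iff_map_eq_zero]
  intro a ha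
  by_contra hne
  have hd : Dense (Set.range (Spec.map φ)) := hφ ▸ hdom.denseRange
  obtain ⟨_, hmem, s, rfl⟩ := hd.inter_open_nonempty _ (PrimeSpectrum.basicOpen a).isOpen
    ⟨(⟨⊥, Ideal.isPrime_bot⟩ : PrimeSpectrum A), fun h => hne h⟩
  exact hmem (show algebraMap A B a ∈ (s : PrimeSpectrum B).asIdeal by
    rw [ha]; exact (s : PrimeSpectrum B).asIdeal.zero_mem)

end Groth.Agent.S4974
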