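import Groth.Statements.S4975
import Groth.Agent.E4O.SectionCompConst
import Groth.Agent.E4O.SectionCompNhd
-- import your own Groth.Agent.* helpers here

set_option autoImplicit false
open CategoryTheory AlgebraicGeometry
universe u v w
open EGA43

namespace Groth.Agent.S4975

/-- Let f : X ⟶ Y be a morphism locally of finite type with Y locally Noetherian, g : Y ⟶ X a section of
f, X_y^0 the connected component of f⁻¹(y) containing g y, and X^0 ⊆ X their union. Suppose every
X_y^0 is geometrically integral over κ(y) (its preimage in X_y ⊗ K is irreducible and has reduced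
local rings, for every field extension K of κ(y)). Then y ↦ dim X_y^0 is locally constant on Y if
and only if f is universally open at every point of X^0; and when this holds, X^0 is open in X. (The
published statement also lists, as a further equivalent condition, flatness of the base change of f
to the reduced closed subscheme Y_red at the points of X^0; that condition is not stated here.) -/
theorem result {X Y : Scheme.{u}}
    [IsLocallyNoetherian Y] (f : X ⟶ Y) [LocallyOfFiniteType f] (g : Y ⟶ X) (hg : g ≫ f = 𝟙 Y)
    (hint : ∀ y : Y, (∀ (K : Type u) [Field K] [Algebra (IsLocalRing.ResidueField (Y.presheaf.stalk y)) K],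
        IsIrreducible ((FBase.bcπ (f.fiberToSpecResidueField y) K ≫ f.fiberι y).base ⁻¹' connectedComponentIn (f.base ⁻¹' {y}) (g.base y)) ∧
        ∀ x' : ↥(FBase.bc (f.fiberToSpecResidueField y) K),
          (FBase.bcπ (f.fiberToSpecResidueField y) K ≫ f.fiberι y).base x' ∈ connectedComponentIn (f.base ⁻¹' {y}) (g.base y) →
          _root_.IsReduced ((FBase.bc (f.fiberToSpecResidueField y) K).presheaf.stalk x'))) :
    (IsLocallyConstant (fun y : Y => topologicalKrullDim ↥(connectedComponentIn (f.base ⁻¹' {y}) (g.base y))) ↔ ∀ x ∈ MoreMor.sectionComponents f g, EGA43.IsUnivOpenAt f x) ∧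
      (IsLocallyConstant (fun y : Y => topologicalKrullDim ↥(connectedComponentIn (f.base ⁻¹' {y}) (g.base y))) → IsOpen (MoreMor.sectionComponents f g)) := by
  have := E4O.locallyOfFinitePresentation_of_isLocallyNoetherian f
  have hirr' : ∀ y, E4O.GeomIrredComp f g y := fun y K _ _ => (hint y K).1
  have hred : ∀ y, ∀ c ∈ connectedComponentIn (f.base ⁻¹' {y}) (g.base y),
      FBase.IsGeomReducedAt (f.fiberToSpecResidueField (f.base c)) (f.asFiber c) := by
    intro y c hc
    obtain rfl : f.base c = y := connectedComponentIn_subset (f.base ⁻¹' {y}) (g.base y) hc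
    intro K _ _ x' hx'
    refine (hint (f.base c) K).2 x' ?_
    show f.fiberι _ (FBase.bcπ _ K x') ∈ _
    have hx'' : FBase.bcπ (f.fiberToSpecResidueField (f c)) K x' = f.asFiber c := hx'
    rw [hx'', f.fiberι_asFiber]
    exact hc
  have hfun : ∀ {y : Y}, IsLocallyConstant (fun y : Y => topologicalKrullDim ↥(connectedComponentIn (f.base ⁻¹' {y}) (g.base y))) →
      ∀ z, z ⤳ y → FlatMor.fibreDimAt f (g y) ≤ FlatMor.fibreDimAt f (g z) := fun {y} hl =>
    E4O.fibreDimAt_le_of_dim_component_const f g hg (fun y => (hirr' y).isIrreducible)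
      (V := {z | topologicalKrullDim ↥(connectedComponentIn (f.base ⁻¹' {z}) (g.base z)) =
        topologicalKrullDim ↥(connectedComponentIn (f.base ⁻¹' {y}) (g.base y))}) (fun z hz => hz)
      (by rw [(hl.isOpen_fiber _).interior_eq]; exact rfl)
  have hopen : IsLocallyConstant (fun y : Y => topologicalKrullDim ↥(connectedComponentIn (f.base ⁻¹' {y}) (g.base y))) →
      ∀ x ∈ MoreMor.sectionComponents f g, EGA43.IsUnivOpenAt f x := fun hl x hx =>
    E4O.isUnivOpenAt_of_dim_component_const f g hg hx (fun z _ => hirr' z) (hfun hl)
  refine ⟨⟨hopen, fun hu => ?_⟩, fun hl => ?_⟩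
  · refine (IsLocallyConstant.iff_eventually_eq _).mpr fun y => ?_
    obtain ⟨ξ, hξ, hC, hop, hd⟩ := E4O.exists_generic_univOpen f g hg (hirr' y).isIrreducible
      (fun ξ hξ _ => hu ξ (by
        obtain rfl : f.base ξ = y := connectedComponentIn_subset (f.base ⁻¹' {y}) (g.base y) hξ
        exact hξ))
    obtain ⟨V, hV, hc⟩ := E4O.exists_nhd_dim_component_eq f g hg (fun y => (hirr' y).isIrreducible) hd fun y' hy' =>
      E4O.le_fibreDimAt_of_geomReduced f g hg (fun y => (hirr' y).isIrreducible) hξ hC hop
        (hred y _ (mem_connectedComponentIn (E4O.section_apply f g hg y))) hy'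
    exact Filter.mem_of_superset hV hc
  · rw [← interior_eq_iff_isOpen]
    refine interior_subset.antisymm fun x hx => ?_
    have hmem : ∀ c ∈ connectedComponentIn (f.base ⁻¹' {f.base x}) (g.base (f.base x)),
        c ∈ MoreMor.sectionComponents f g := fun c hc => by
      show c ∈ connectedComponentIn _ _
      rw [show f.base c = f.base x from connectedComponentIn_subset (f.base ⁻¹' {f.base x}) _ hc]
      exact hc
    exact E4O.mem_interior_sectionComponents f g hg (y := f.base x) (hred _)
      (E4O.flatAlongComp_of_isUnivOpenAt f g fun c hc => ⟨hopen hl c (hmem c hc), hred _ c hc⟩) hx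


end Groth.Agent.S4975
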