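import Groth.Statements.S4977
import Groth.Agent.E4O.ComponentProper
import Groth.Agent.E4O.ComponentClopen
-- import your own Groth.Agent.* helpers here

set_option autoImplicit false
open CategoryTheory AlgebraicGeometry
universe u v w
open EGA43

namespace Groth.Agent.S4977

open CategoryTheory.Limits in
/-- Let Y be a locally Noetherian scheme, y a point of Y, f : X ⟶ Y a separated morphism of finite type,
and Z a locally constructible subset of X such that: (i) for every generization y' of y, Z ∩ f⁻¹(y')
is a connected component of the fibre f⁻¹(y') and is geometrically connected over κ(y'); (ii) Z ∩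
f⁻¹(y), an open and closed subscheme of the fibre X_y, is proper over κ(y); (iii) Z is universally
submersive onto f(Z): for every morphism h : Y' ⟶ Y, writing p and f' for the two projections of X
×_Y Y', a subset E of h⁻¹(f(Z)) is open in h⁻¹(f(Z)) as soon as f'⁻¹(E) ∩ p⁻¹(Z) is open in p⁻¹(Z)
(induced topologies). Then Z is proper over Y at y: there is an open neighbourhood U of y such that
Z ∩ f⁻¹(U) is closed in f⁻¹(U) and, with its reduced subscheme structure, proper over U. -/
theorem result {X Y : Scheme.{u}} [IsLocallyNoetherian Y] (y : Y)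
    (f : X ⟶ Y) [IsSeparated f] [LocallyOfFiniteType f] [QuasiCompact f] (Z : Set X)
    (hZ : Topology.IsLocallyConstructible Z)
    (h1 : ∀ y' : Y, y' ⤳ y → (∃ x ∈ Z, f.base x = y' ∧ Z ∩ f.base ⁻¹' {y'} = connectedComponentIn (f.base ⁻¹' {y'}) x) ∧
      ∀ (K : Type u) [Field K] [Algebra (IsLocalRing.ResidueField (Y.presheaf.stalk y')) K],
        _root_.IsPreconnected ((FBase.bcπ (f.fiberToSpecResidueField y') K ≫ f.fiberι y').base ⁻¹' Z))
    (hop : IsOpen ((f.fiberι y).base ⁻¹' Z))
    (h2 : IsProper (Scheme.Opens.ι (⟨(f.fiberι y).base ⁻¹' Z, hop⟩ : (f.fiber y).Opens) ≫ f.fiberToSpecResidueField y))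
    (h3 : ∀ (Y' : Scheme.{u}) (h : Y' ⟶ Y) (E : Set Y'), E ⊆ h.base ⁻¹' (f.base '' Z) →
      (∃ W : Set ↥(pullback f h), IsOpen W ∧
        W ∩ (pullback.fst f h).base ⁻¹' Z = (pullback.snd f h).base ⁻¹' E ∩ (pullback.fst f h).base ⁻¹' Z) →
      ∃ V : Set Y', IsOpen V ∧ V ∩ h.base ⁻¹' (f.base '' Z) = E) :
    ∃ U : Y.Opens, y ∈ U ∧ ∃ hC : IsClosed ((f ⁻¹ᵁ U).ι.base ⁻¹' Z),
      IsProper ((Scheme.IdealSheafData.vanishingIdeal
        (⟨(f ⁻¹ᵁ U).ι.base ⁻¹' Z, hC⟩ : TopologicalSpace.Closeds ↥(f ⁻¹ᵁ U))).subschemeι ≫ (f ∣_ U)) := by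
  have hcond : E4O.ComponentHyp f Z y := by
    refine ⟨fun y' hy' => ?_, fun A _ _ _ g hg => ?_, fun A _ _ _ g hg P hP htr hne => ?_⟩
    · obtain ⟨⟨x, -, hx, hc⟩, -⟩ := h1 y' hy'
      have e : (f.fiberι y') ⁻¹' Z =
          (f.fiberι y') ⁻¹' connectedComponentIn (f ⁻¹' {y'}) x := by
        rw [show connectedComponentIn (f ⁻¹' {y'}) x = Z ∩ f ⁻¹' {y'} from hc.symm]
        ext w
        exact ⟨fun h => ⟨h, (f.range_fiberι y').le ⟨w, rfl⟩⟩, fun h => h.1⟩
      rw [e]
      exact E4O.isClopen_fiberι_preimage_component f hx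
    · let η := genericPoint (Spec (CommRingCat.of A))
      have hη : g η ⤳ y := (((genericPoint_spec (Spec (CommRingCat.of A))).specializes trivial).map g.continuous).trans hg
      let f' := CategoryTheory.Limits.pullback.snd f g
      let p := CategoryTheory.Limits.pullback.fst f g
      let σ := Spec.map (g.residueFieldMap η)
      have hσ : σ ≫ Y.fromSpecResidueField (g η) = (Spec (CommRingCat.of A)).fromSpecResidueField η ≫ g :=
        Scheme.Hom.SpecMap_residueFieldMap_fromSpecResidueField _ _
      let t := f.fiberToSpecResidueField (g η)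
      let m : f'.fiber η ⟶ f.fiber (g η) := CategoryTheory.Limits.pullback.lift (f'.fiberι η ≫ p)
        (f'.fiberToSpecResidueField η ≫ σ) (by
          rw [Category.assoc, CategoryTheory.Limits.pullback.condition, ← Category.assoc, Scheme.Hom.fiber_fac,
            Category.assoc, Category.assoc, hσ])
      have hm1 : m ≫ f.fiberι (g η) = f'.fiberι η ≫ p := CategoryTheory.Limits.pullback.lift_fst _ _ _
      have hm2 : m ≫ t = f'.fiberToSpecResidueField η ≫ σ := CategoryTheory.Limits.pullback.lift_snd _ _ _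
      have H : IsPullback m (f'.fiberToSpecResidueField η) t σ := by
        refine IsPullback.of_right (h₁₂ := f.fiberι (g η)) (v₁₃ := f) (h₂₂ := Y.fromSpecResidueField (g η))
          ?_ hm2 (IsPullback.of_hasPullback f (Y.fromSpecResidueField (g η)))
        rw [hm1, hσ]
        exact (IsPullback.of_hasPullback f' _).paste_horiz (IsPullback.of_hasPullback f g)
      letI : Algebra (IsLocalRing.ResidueField (Y.presheaf.stalk (g η)))
          ((Spec (CommRingCat.of A)).residueField η) := (g.residueFieldMap η).hom.toAlgebra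
      have hK := (h1 (g η) hη).2 ((Spec (CommRingCat.of A)).residueField η)
      have e : (f'.fiberι η) ⁻¹' (p ⁻¹' Z) = Scheme.Hom.homeomorph H.isoPullback.hom ⁻¹'
          ((CategoryTheory.Limits.pullback.fst t σ ≫ f.fiberι (g η)) ⁻¹' Z) := by
        ext w
        show p (f'.fiberι η w) ∈ Z ↔
          (CategoryTheory.Limits.pullback.fst t σ ≫ f.fiberι (g η)) (H.isoPullback.hom w) ∈ Z
        rw [← Scheme.Hom.comp_apply, ← hm1, ← Scheme.Hom.comp_apply H.isoPullback.hom,
          H.isoPullback_hom_fst_assoc]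
      have hpre : _root_.IsPreconnected ((f'.fiberι η) ⁻¹' (p ⁻¹' Z)) := by
        rw [e, ← Homeomorph.image_symm]
        exact IsPreconnected.image hK _ (Homeomorph.continuous _).continuousOn
      have := hpre.image _ (f'.fiberι η).continuous.continuousOn
      rwa [Set.image_preimage_eq_inter_range, f'.range_fiberι] at this
    · by_contra hemp
      obtain ⟨x₀, hx₀, hx₀'⟩ := hne
      have hall : ∀ x, CategoryTheory.Limits.pullback.fst f g x ∈ Z → (x ∈ P ↔
          CategoryTheory.Limits.pullback.snd f g x = IsLocalRing.closedPoint A) := by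
        intro x hx
        constructor
        · intro hxP
          rcases E4O.eq_closedPoint_or_eq_genericPoint (A := A)
            (CategoryTheory.Limits.pullback.snd f g x) with h | h
          · exact h
          · exact absurd ⟨x, hxP, hx, h⟩ hemp
        · exact fun h => (htr.ge ⟨hx, h⟩).1
      have hs : g (IsLocalRing.closedPoint A) ∈ f.base '' Z := by
        obtain ⟨⟨x, hxZ, hx, -⟩, -⟩ := h1 _ hg
        exact ⟨x, hxZ, hx⟩
      obtain ⟨V, hV, hVE⟩ := h3 _ g {IsLocalRing.closedPoint A} (Set.singleton_subset_iff.2 hs)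
        ⟨P, hP, Set.ext fun x => and_congr_left fun hx => hall x hx⟩
      have hη : genericPoint (Spec (CommRingCat.of A)) ∈ V ∩ g.base ⁻¹' (f.base '' Z) := by
        refine ⟨((genericPoint_spec (Spec (CommRingCat.of A))).specializes trivial).mem_open hV
          (hVE.ge rfl).1, _, hx₀, ?_⟩
        show f (CategoryTheory.Limits.pullback.fst f g x₀) = g _
        rw [← Scheme.Hom.comp_apply, CategoryTheory.Limits.pullback.condition, Scheme.Hom.comp_apply, hx₀']
      exact E4O.genericPoint_ne_closedPoint (A := A) (hVE.le hη)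
  obtain ⟨U, hy, hU⟩ := hcond.exists_properOn (E4O.properTrace_of_isProper f Z y hop h2) hZ
  exact ⟨U, hy, hU.isProper⟩


end Groth.Agent.S4977
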