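import Groth.Statements.S4980
import Groth.Agent.E4O.SpecLength
-- import your own Groth.Agent.* helpers here

set_option autoImplicit false
set_option linter.style.haveILetI false
open CategoryTheory AlgebraicGeometry
universe u v w
open EGA43

namespace Groth.Agent.S4980

/-- Let A be a discrete valuation ring, Y = Spec A with closed point y and generic point y', f : X ⟶ Y a
proper morphism and F a coherent O_X-module which is f-flat; write F_y, F_{y'} for the restrictions
of F to the two fibres and suppose F_y has no embedded associated point. Then the sum, over the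
maximal points z' of Supp(F_{y'}), of the lengths of the stalks (F_{y'})_{z'} is at most the sum,
over the maximal points z of Supp(F_y), of the lengths of the stalks (F_y)_z (lengths over the local
rings of the fibres). -/
theorem result {A : Type u} [CommRing A] [IsDomain A]
    [IsDiscreteValuationRing A] {X : Scheme.{u}} (f : X ⟶ Spec (CommRingCat.of A)) [IsProper f] (F : X.Modules)
    (hF : Coh.IsCoh F) (hflat : FlatMod.IsFlatOver f F)
    (hemb : AssSch.NoEmbedded ((Scheme.Modules.pullback (f.fiberι (IsLocalRing.closedPoint A))).obj F)) :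
    letI y : ↥(Spec (CommRingCat.of A)) := IsLocalRing.closedPoint A
    letI y' : ↥(Spec (CommRingCat.of A)) := genericPoint (Spec (CommRingCat.of A))
    ∑ᶠ z' : {v : ↥(f.fiber y') // Nontrivial (((Scheme.Modules.pullback (f.fiberι y')).obj F).presheaf.stalk v) ∧
        ∀ w : ↥(f.fiber y'), Nontrivial (((Scheme.Modules.pullback (f.fiberι y')).obj F).presheaf.stalk w) → v ∈ closure {w} → w = v},
        Module.length ((f.fiber y').presheaf.stalk z'.1) (((Scheme.Modules.pullback (f.fiberι y')).obj F).presheaf.stalk z'.1) ≤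
      ∑ᶠ z : {v : ↥(f.fiber y) // Nontrivial (((Scheme.Modules.pullback (f.fiberι y)).obj F).presheaf.stalk v) ∧
        ∀ w : ↥(f.fiber y), Nontrivial (((Scheme.Modules.pullback (f.fiberι y)).obj F).presheaf.stalk w) → v ∈ closure {w} → w = v},
        Module.length ((f.fiber y).presheaf.stalk z.1) (((Scheme.Modules.pullback (f.fiberι y)).obj F).presheaf.stalk z.1) := by
  let y : ↥(Spec (CommRingCat.of A)) := IsLocalRing.closedPoint A
  let y' : ↥(Spec (CommRingCat.of A)) := genericPoint (Spec (CommRingCat.of A))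
  classical
  haveI : F.IsQuasicoherent := hF.1
  haveI : IsLocallyNoetherian X := LocallyOfFiniteType.isLocallyNoetherian f
  haveI : ∀ s, LocallyOfFiniteType (f.fiberToSpecResidueField s) := fun s =>
    MorphismProperty.pullback_snd (P := @LocallyOfFiniteType) _ _ inferInstance
  haveI : ∀ s, IsLocallyNoetherian (f.fiber s) := fun s =>
    LocallyOfFiniteType.isLocallyNoetherian (f.fiberToSpecResidueField s)
  let G := fun s : ↥(Spec (CommRingCat.of A)) => (Scheme.Modules.pullback (f.fiberι s)).obj F
  have hG : ∀ s, Coh.IsCoh (G s) := fun s => by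
    haveI := hF.2
    exact ⟨QCPull72.isQuasicoherent_pullback _ F, QCPull72.isFiniteType_pullback _ F⟩
  -- the maximal points of the supports are associated, hence finitely many
  have hfin : ∀ s, {v : ↥(f.fiber s) | Nontrivial ((G s).presheaf.stalk v) ∧
      ∀ w : ↥(f.fiber s), Nontrivial ((G s).presheaf.stalk w) → v ∈ closure {w} → w = v}.Finite := by
    intro s
    haveI := E4O.noetherianSpace_fiber f s
    refine (Div89.finite_assPoints_inter (G s) (hG s) ⊤ (TopologicalSpace.NoetherianSpace.isCompact _)).subset fun v hv => ⟨trivial, ?_⟩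
    exact FBase64.AssSheaf.maximal_of_mem_ass (G s) (hG s).1 v hv.1
      fun w hw hwv => hv.2 w hw (specializes_iff_mem_closure.1 hwv)
  let S' := {v : ↥(f.fiber y') // Nontrivial ((G y').presheaf.stalk v) ∧
      ∀ w : ↥(f.fiber y'), Nontrivial ((G y').presheaf.stalk w) → v ∈ closure {w} → w = v}
  let S := {v : ↥(f.fiber y) // Nontrivial ((G y).presheaf.stalk v) ∧
      ∀ w : ↥(f.fiber y), Nontrivial ((G y).presheaf.stalk w) → v ∈ closure {w} → w = v}
  haveI : Fintype S' := (hfin y').fintype
  haveI : Fintype S := (hfin y).fintype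
  -- each maximal generic point specialises to a maximal point of the closed fibre
  have hchoose : ∀ v : S', ∃ z : S, f.fiberι y' v.1 ⤳ f.fiberι y z.1 := by
    intro v
    obtain ⟨z, hvz, hz⟩ := E4O.exists_ass_closed_fibre f F hF hflat v.2.1 v.2.2
    refine ⟨⟨z, FBase64.AssSheaf.nontrivial_stalk_of_mem_ass _ z hz, fun w hw hwz => ?_⟩, hvz⟩
    obtain ⟨a, ha, haw⟩ := FBase64.AssSheaf.exists_ass_specializes (G y) (hG y).1 w hw
    have hwz' : w ⤳ z := specializes_iff_mem_closure.2 hwz
    obtain rfl := hemb z hz a ha (haw.trans hwz')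
    exact (hwz'.antisymm haw).eq
  choose ζ hζ using hchoose
  show ∑ᶠ v : S', _ ≤ ∑ᶠ z : S, _
  rw [finsum_eq_sum_of_fintype, finsum_eq_sum_of_fintype, ← Finset.sum_fiberwise Finset.univ ζ]
  refine Finset.sum_le_sum fun z _ => ?_
  let x := f.fiberι y z.1
  let B := X.presheaf.stalk x
  let M := F.presheaf.stalk x
  haveI : Module.Finite B M := FDesc60.finite_stalk_of_isCoh F hF x
  let T := {v : S' // ζ v = z}
  have hT : ∀ v : T, f.fiberι y' v.1.1 ⤳ x := fun v => by
    have := hζ v.1
    rwa [v.2] at this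
  rw [← Finset.sum_subtype (p := fun v => ζ v = z) (Finset.univ.filter fun v => ζ v = z) (fun v => by simp)
    (fun v : S' => Module.length ((f.fiber y').presheaf.stalk v.1) ((G y').presheaf.stalk v.1)) |>.symm]
  rw [E4O.length_fibre_stalk f F y z.1]
  obtain ⟨ϖ, hϖ, hϖ0, hϖu⟩ := E4O.exists_maximalIdeal_stalk_closedPoint A (f x) (E4O.apply_fiberι f y z.1)
  let τ : B := f.stalkMap x ϖ
  rw [hϖ, Ideal.map_span, Set.image_singleton]
  have hreg : IsSMulRegular M τ := by
    letI := FlatMod.moduleStalkOver f F x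
    haveI : Module.Flat ((Spec (CommRingCat.of A)).presheaf.stalk (f x)) M := hflat x
    exact Module.Flat.isSMulRegular_of_nonZeroDivisors (R := (Spec (CommRingCat.of A)).presheaf.stalk (f x)) hϖ0
  have hτ : τ ∈ IsLocalRing.maximalIdeal B := by
    have h2 : (IsLocalRing.maximalIdeal _).map (f.stalkMap x).hom ≤ IsLocalRing.maximalIdeal B :=
      ((IsLocalRing.local_hom_TFAE (f.stalkMap x).hom).out 0 2).1 (f.toLRSHom.prop x)
    exact h2 (Ideal.mem_map_of_mem _ (hϖ ▸ Ideal.mem_span_singleton_self ϖ))
  letI : ∀ v : T, Algebra B (X.presheaf.stalk (f.fiberι y' v.1.1)) := fun v =>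
    (X.presheaf.stalkSpecializes (hT v)).hom.toAlgebra
  letI : ∀ v : T, Module B (F.presheaf.stalk (f.fiberι y' v.1.1)) := fun v =>
    Module.compHom _ (X.presheaf.stalkSpecializes (hT v)).hom
  haveI : ∀ v : T, IsScalarTower B (X.presheaf.stalk (f.fiberι y' v.1.1)) (F.presheaf.stalk (f.fiberι y' v.1.1)) :=
    fun v => .of_algebraMap_smul fun r m => rfl
  haveI : ∀ v : T, IsLocalization.AtPrime (X.presheaf.stalk (f.fiberι y' v.1.1)) (E4O.genPrime (hT v)) :=
    fun v => E4O.isLocalization_stalkSpecializes (hT v)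
  refine le_trans (le_of_eq (Finset.sum_congr rfl fun v _ => E4O.length_generic_stalk f F v.1.1)) ?_
  refine E4O.sum_length_localized_le hτ (fun v : T => E4O.genPrime (hT v))
    (fun v : T => X.presheaf.stalk (f.fiberι y' v.1.1)) (fun v : T => F.presheaf.stalk (f.fiberι y' v.1.1))
    Finset.univ ?_ ?_ M hreg ?_ (fun v => E4O.specializeLin F (hT v))
    (fun v _ => E4O.isLocalizedModule_specializeLin F hF.1 (hT v))
  · intro v _ w _ hle
    have hsp : v.1.1 ⤳ w.1.1 := (f.fiberι y').isEmbedding.isInducing.specializes_iff.1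
      (E4O.specializes_of_genPrime_le (hT v) (hT w) hle)
    exact Subtype.ext (Subtype.ext (w.1.2.2 v.1.1 v.1.2.1 (specializes_iff_mem_closure.1 hsp)))
  · intro v _ hmem
    have hne : f (f.fiberι y' v.1.1) ≠ f x := by
      rw [E4O.apply_fiberι, E4O.apply_fiberι]
      exact E4O.genericPoint_ne_closedPoint
    have h2 := Scheme.Hom.stalkSpecializes_stalkMap_apply f _ x (hT v) ϖ
    have h3 := (hϖu _ ((hT v).map f.continuous) hne).map (f.stalkMap (f.fiberι y' v.1.1)).hom
    exact (IsLocalRing.mem_maximalIdeal _).1 hmem (h2 ▸ h3)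
  · intro v _ m a ha
    haveI := E4O.isLocalizedModule_specializeLin F hF.1 (hT v)
    obtain ⟨n, hn⟩ := E4O.exists_pow_smul_eq_zero
      ((FBase64.AssSheaf.maximal_iff_isFiniteLength F hF _).1
        (E4O.maximal_of_maximal_generic f F hF v.1.2.2))
      (show (X.presheaf.stalkSpecializes (hT v)).hom a ∈ IsLocalRing.maximalIdeal _ from ha)
    obtain ⟨u, hu⟩ := IsLocalizedModule.exists_of_eq (S := (E4O.genPrime (hT v)).primeCompl)
      (f := E4O.specializeLin F (hT v)) (x₁ := a ^ n • m) (x₂ := 0) (by
        rw [map_smul, map_zero, ← algebraMap_smul (X.presheaf.stalk (f.fiberι y' v.1.1)) (a ^ n), map_pow]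
        exact hn _)
    refine ⟨u.1, u.2, n, ?_⟩
    rw [mul_smul]
    simpa [Submonoid.smul_def] using hu


end Groth.Agent.S4980
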