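import Groth.Statements.S4981
import Groth.Agent.E4O.DvrLift
import Groth.Agent.E4O.DvrExt
import Groth.Agent.E4O.DvrCrit
import Groth.Agent.E4O.GenOpen
-- import your own Groth.Agent.* helpers here

set_option autoImplicit false
open CategoryTheory AlgebraicGeometry
universe u v w
open EGA43

namespace Groth.Agent.S4981

/-- Let Y be a locally Noetherian scheme, f : X ⟶ Y a morphism locally of finite type, y a point of Y
and x a point of the fibre X_y. Then f is universally open at x if and only if the following holds: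
for every complete discrete valuation ring A with algebraically closed residue field k, every
morphism g : Spec A ⟶ Y sending the closed point to y, and every Y-morphism u₀ : Spec k ⟶ X with
image x, there exist a discrete valuation ring B which is a finite A-algebra through a local
homomorphism φ : A → B, and a Y-morphism u : Spec B ⟶ X, such that the restriction of u to the
closed point Spec κ(B) equals u₀ composed with the morphism Spec κ(B) ⟶ Spec k. -/
theorem result {X Y : Scheme.{u}} [IsLocallyNoetherian Y]
    (f : X ⟶ Y) [LocallyOfFiniteType f] (x : X) :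
    EGA43.IsUnivOpenAt f x ↔
      ∀ (A : Type u) [CommRing A] [IsDomain A] [IsDiscreteValuationRing A]
        [IsAdicComplete (IsLocalRing.maximalIdeal A) A] [IsAlgClosed (IsLocalRing.ResidueField A)]
        (g : Spec (CommRingCat.of A) ⟶ Y), g.base (IsLocalRing.closedPoint A) = f.base x →
        ∀ u₀ : Spec (CommRingCat.of (IsLocalRing.ResidueField A)) ⟶ X,
          u₀ ≫ f = Spec.map (CommRingCat.ofHom (IsLocalRing.residue A)) ≫ g → x ∈ Set.range u₀.base →
          ∃ (B : CommRingCat.{u}) (_ : IsDomain B) (_ : IsDiscreteValuationRing B) (φ : A →+* B)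
            (_ : IsLocalHom φ) (v : Spec B ⟶ X),
            φ.Finite ∧ v ≫ f = Spec.map (CommRingCat.ofHom φ) ≫ g ∧
            Spec.map (CommRingCat.ofHom (IsLocalRing.ResidueField.map φ)) ≫ u₀ =
              Spec.map (CommRingCat.ofHom (IsLocalRing.residue B)) ≫ v := by
  have := Groth.Agent.E4O.locallyOfFinitePresentation_of_isLocallyNoetherian f
  constructor
  · intro h A _ _ _ _ _ g hg u₀ hu₀ hx
    let k := IsLocalRing.ResidueField A
    let z₀ : Spec (CommRingCat.of k) ⟶ Limits.pullback f g :=
      Limits.pullback.lift u₀ (Spec.map (CommRingCat.ofHom (IsLocalRing.residue A))) hu₀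
    let c : Spec (CommRingCat.of k) := IsLocalRing.closedPoint k
    have hsub : Subsingleton (Spec (CommRingCat.of k)) :=
      inferInstanceAs (Subsingleton (PrimeSpectrum k))
    have hz1 : Limits.pullback.fst f g (z₀ c) = x := by
      rw [← Scheme.Hom.comp_apply, Limits.pullback.lift_fst]
      obtain ⟨c', hc'⟩ := hx
      rw [Subsingleton.elim c c']
      exact hc'
    have hz2 : Limits.pullback.snd f g (z₀ c) = IsLocalRing.closedPoint A := by
      rw [← Scheme.Hom.comp_apply, Limits.pullback.lift_snd]
      exact IsLocalRing.comap_closedPoint (IsLocalRing.residue A)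
    have hop := Groth.Agent.E4O.isOpenAt_iff_forall_exists_specializes.1 (h _ g (z₀ c) hz1)
    obtain ⟨ξ, hξ, hξz⟩ := hop (genericPoint (Spec (CommRingCat.of A))) (genericPoint_specializes _)
    obtain ⟨_, ⟨V, hV, rfl⟩, hzV, -⟩ := (Limits.pullback f g).isBasis_affineOpens.exists_subset_of_mem_open
      (Set.mem_univ (z₀ c)) isOpen_univ
    replace hV : IsAffineOpen V := hV
    have hrange : Set.range z₀.base ⊆ Set.range hV.fromSpec.base := by
      rintro _ ⟨c', rfl⟩
      rw [Subsingleton.elim c' c, hV.range_fromSpec]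
      exact hzV
    let l := IsOpenImmersion.lift hV.fromSpec z₀ hrange
    let α := Spec.preimage (hV.fromSpec ≫ Limits.pullback.snd f g)
    let ψ := Spec.preimage l
    let C := Γ(Limits.pullback f g, V)
    let _ : Algebra A C := α.hom.toAlgebra
    have hα : Spec.map α = hV.fromSpec ≫ Limits.pullback.snd f g := Spec.map_preimage _
    have hψ : Spec.map ψ ≫ hV.fromSpec = z₀ := by
      rw [Spec.map_preimage]
      exact IsOpenImmersion.lift_fac _ _ _
    have hft : LocallyOfFiniteType (Spec.map α) := by rw [hα]; infer_instance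
    have : Algebra.FiniteType A C :=
      ((HasRingHomProperty.Spec_iff (P := @LocallyOfFiniteType)).1 hft : α.hom.FiniteType)
    have hψα : ψ.hom.comp (algebraMap A C) = IsLocalRing.residue A := by
      have : α ≫ ψ = CommRingCat.ofHom (IsLocalRing.residue A) := by
        apply Spec.map_injective
        rw [Spec.map_comp, hα, ← Category.assoc, hψ, Limits.pullback.lift_snd]
      exact congrArg CommRingCat.Hom.hom this
    have hψs : Function.Surjective ψ.hom := fun t => by
      obtain ⟨a, rfl⟩ := IsLocalRing.residue_surjective t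
      exact ⟨algebraMap A C a, congr($hψα a)⟩
    let q : Ideal C := RingHom.ker ψ.hom
    have : q.IsMaximal := RingHom.ker_isMaximal_of_surjective _ hψs
    have hq : q.under A = IsLocalRing.maximalIdeal A := by
      rw [Ideal.under_def, RingHom.comap_ker, hψα, IsLocalRing.ker_residue]
    have hc : hV.fromSpec (Spec.map ψ c) = z₀ c := by
      rw [← Scheme.Hom.comp_apply, hψ]
    have hξV : ξ ∈ V := hξz.mem_open V.isOpen hzV
    obtain ⟨p, hp⟩ : ξ ∈ Set.range hV.fromSpec := by rw [hV.range_fromSpec]; exact hξV
    have hpq : p ⤳ Spec.map ψ c :=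
      hV.fromSpec.isOpenEmbedding.isInducing.specializes_iff.1 (by rw [hp, hc]; exact hξz)
    change PrimeSpectrum C at p
    have hpA : p.asIdeal.under A = ⊥ := by
      have h1 : (Spec.map α) p = genericPoint (Spec (CommRingCat.of A)) := by
        rw [hα, Scheme.Hom.comp_apply, hp, hξ]
      have hb : genericPoint (Spec (CommRingCat.of A)) = (⟨⊥, Ideal.isPrime_bot⟩ : PrimeSpectrum A) :=
        IsGenericPoint.eq (genericPoint_spec _) (by
          show closure {(⟨⊥, Ideal.isPrime_bot⟩ : PrimeSpectrum A)} = Set.univ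
          rw [PrimeSpectrum.closure_singleton]
          exact PrimeSpectrum.zeroLocus_bot)
      exact congrArg PrimeSpectrum.asIdeal (h1.trans hb)
    have hle : p.asIdeal ≤ q := by
      have h1 := (PrimeSpectrum.le_iff_specializes p (Spec.map ψ c : PrimeSpectrum C)).2 hpq
      have hcb : (c : PrimeSpectrum k).asIdeal = ⊥ := Ideal.eq_bot_of_prime _
      intro t ht
      have h2 : ψ.hom t ∈ (c : PrimeSpectrum k).asIdeal := h1 ht
      rw [hcb, Ideal.mem_bot] at h2
      exact h2
    obtain ⟨B, _, _, φ, _, θ, hfin, hθ, hθq⟩ :=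
      Groth.Agent.E4O.exists_dvr_lift A C q hq p.asIdeal hle hpA
    refine ⟨B, inferInstance, inferInstance, φ, inferInstance,
      Spec.map (CommRingCat.ofHom θ) ≫ hV.fromSpec ≫ Limits.pullback.fst f g, hfin, ?_, ?_⟩
    · have e : α ≫ CommRingCat.ofHom θ = CommRingCat.ofHom φ := CommRingCat.hom_ext hθ
      rw [Category.assoc, Category.assoc, Limits.pullback.condition, ← e, Spec.map_comp, hα]
      simp only [Category.assoc]
    · have e : ψ ≫ CommRingCat.ofHom (IsLocalRing.ResidueField.map φ) =
          CommRingCat.ofHom θ ≫ CommRingCat.ofHom (IsLocalRing.residue B) := by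
        ext t
        obtain ⟨a, ha⟩ := IsLocalRing.residue_surjective (ψ.hom t)
        have hmem : t - algebraMap A C a ∈ q := by
          rw [RingHom.mem_ker, map_sub, ← RingHom.comp_apply, hψα, ha, sub_self]
        rw [← hθq, Ideal.mem_comap, map_sub] at hmem
        have h3 : IsLocalRing.residue B (θ t) = IsLocalRing.residue B (θ (algebraMap A C a)) :=
          Ideal.Quotient.eq.2 hmem
        show IsLocalRing.ResidueField.map φ (ψ.hom t) = IsLocalRing.residue B (θ t)
        rw [h3, ← ha, IsLocalRing.ResidueField.map_residue, ← RingHom.comp_apply θ, hθ]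
      have hu : u₀ = Spec.map ψ ≫ hV.fromSpec ≫ Limits.pullback.fst f g := by
        rw [← Category.assoc, hψ, Limits.pullback.lift_fst]
      rw [hu, ← Category.assoc, ← Spec.map_comp, e, Spec.map_comp, Category.assoc]
  · intro h
    refine Groth.Agent.E4O.isUnivOpenAt_of_dvr f x fun A₀ _ _ _ g₀ hg₀ z hz1 hz2 => ?_
    let Ω := AlgebraicClosure ((Limits.pullback f g₀).residueField z)
    let zΩ : Spec (CommRingCat.of Ω) ⟶ Limits.pullback f g₀ :=
      Spec.map (CommRingCat.ofHom (algebraMap ((Limits.pullback f g₀).residueField z) Ω)) ≫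
        (Limits.pullback f g₀).fromSpecResidueField z
    have hzΩ : ∀ t, zΩ t = z := fun t => by
      rw [Scheme.Hom.comp_apply]; exact Scheme.fromSpecResidueField_apply _ _
    let ρ := Spec.preimage (zΩ ≫ Limits.pullback.snd f g₀)
    have hρ : Spec.map ρ = zΩ ≫ Limits.pullback.snd f g₀ := Spec.map_preimage _
    have hsub : Subsingleton (Spec (CommRingCat.of Ω)) :=
      inferInstanceAs (Subsingleton (PrimeSpectrum Ω))
    have hρm : ∀ a ∈ IsLocalRing.maximalIdeal A₀, ρ.hom a = 0 := by
      intro a ha
      let t : Spec (CommRingCat.of Ω) := IsLocalRing.closedPoint Ω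
      have h1 : Spec.map ρ t = IsLocalRing.closedPoint A₀ := by
        rw [hρ, Scheme.Hom.comp_apply, hzΩ, hz2]
      have h2 : ((PrimeSpectrum.comap ρ.hom (t : PrimeSpectrum Ω)).asIdeal) = IsLocalRing.maximalIdeal A₀ :=
        congrArg PrimeSpectrum.asIdeal h1
      have h3 : ρ.hom a ∈ (t : PrimeSpectrum Ω).asIdeal := h2.ge ha
      have hcb : (t : PrimeSpectrum Ω).asIdeal = ⊥ := Ideal.eq_bot_of_prime _
      rwa [hcb, Ideal.mem_bot] at h3
    let j : IsLocalRing.ResidueField A₀ →+* Ω := Ideal.Quotient.lift _ ρ.hom hρm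
    have : IsAdicComplete (IsLocalRing.maximalIdeal Ω) Ω := by
      rw [IsLocalRing.maximalIdeal_eq_bot]; infer_instance
    obtain ⟨A, _, _, _, f₁, π, hf₁, hA, hflat, hπ, hker, hcomm⟩ :=
      Groth.Agent.Cohen12.exists_flat_lift (A := A₀) Ω j
    obtain ⟨ϖ, hϖ⟩ := IsDiscreteValuationRing.exists_irreducible A₀
    have hmk : IsLocalRing.maximalIdeal A = RingHom.ker π :=
      (IsLocalRing.eq_maximalIdeal (RingHom.ker_isMaximal_of_surjective π hπ)).symm
    have hm : IsLocalRing.maximalIdeal A = Ideal.span {f₁ ϖ} := by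
      rw [hmk, hker, hϖ.maximalIdeal_eq, Ideal.map_span, Set.image_singleton]
    have hinj : Function.Injective f₁ := by
      algebraize [f₁]
      have : Module.Flat A₀ A := hflat
      have : Module.FaithfullyFlat A₀ A := Module.FaithfullyFlat.of_flat_of_isLocalHom
      exact FaithfulSMul.algebraMap_injective A₀ A
    obtain ⟨_, _⟩ := Groth.Agent.FlatMor68.CompleteDVR.isDVR_of_complete A (f₁ ϖ) hm fun n e => by
      rw [← map_pow, ← map_zero f₁] at e
      exact pow_ne_zero n hϖ.ne_zero (hinj e)
    let eΩ : Ω ≃+* IsLocalRing.ResidueField A :=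
      (RingHom.quotientKerEquivOfSurjective hπ).symm.trans (Ideal.quotEquivOfEq hmk.symm)
    have : IsAlgClosed (IsLocalRing.ResidueField A) := IsAlgClosed.of_ringEquiv Ω _ eΩ
    have heπ : ∀ a, eΩ (π a) = IsLocalRing.residue A a := fun a => by
      show Ideal.quotEquivOfEq hmk.symm ((RingHom.quotientKerEquivOfSurjective hπ).symm (π a)) = _
      rw [← RingHom.quotientKerEquivOfSurjective_apply_mk hπ a, RingEquiv.symm_apply_apply]
      rfl
    let u₀ : Spec (CommRingCat.of (IsLocalRing.ResidueField A)) ⟶ X :=
      Spec.map (CommRingCat.ofHom eΩ.toRingHom) ≫ zΩ ≫ Limits.pullback.fst f g₀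
    let g : Spec (CommRingCat.of A) ⟶ Y := Spec.map (CommRingCat.ofHom f₁) ≫ g₀
    have hg : g.base (IsLocalRing.closedPoint A) = f.base x := by
      show g (IsLocalRing.closedPoint A) = f x
      rw [Scheme.Hom.comp_apply]
      exact (congrArg g₀ (IsLocalRing.comap_closedPoint f₁)).trans hg₀
    have eρ : ρ ≫ CommRingCat.ofHom eΩ.toRingHom =
        CommRingCat.ofHom f₁ ≫ CommRingCat.ofHom (IsLocalRing.residue A) := by
      ext a
      show eΩ (ρ.hom a) = IsLocalRing.residue A (f₁ a)
      rw [← heπ, hcomm]
      rfl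
    have hu₀ : u₀ ≫ f = Spec.map (CommRingCat.ofHom (IsLocalRing.residue A)) ≫ g := by
      simp only [u₀, g, Category.assoc]
      rw [Limits.pullback.condition, ← Category.assoc zΩ, ← hρ, ← Spec.map_comp_assoc,
        ← Spec.map_comp_assoc, eρ]
    have hx : x ∈ Set.range u₀.base := ⟨IsLocalRing.closedPoint _, by
      show u₀ _ = x
      rw [Scheme.Hom.comp_apply, Scheme.Hom.comp_apply, hzΩ, hz1]⟩
    obtain ⟨B, _, _, φ, _, v, hfin, hv, hcompat⟩ := h A g hg u₀ hu₀ hx
    have hφ : Function.Injective φ := by
      rw [RingHom.injective_iff_ker_eq_bot]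
      by_contra hne
      have : (RingHom.ker φ).IsPrime := RingHom.ker_isPrime φ
      have : (RingHom.ker φ).IsMaximal := Ideal.IsPrime.isMaximal this hne
      let _ := Ideal.Quotient.field (RingHom.ker φ)
      let _ : Algebra (A ⧸ RingHom.ker φ) B := (RingHom.kerLift φ).toAlgebra
      have hfinB : (RingHom.kerLift φ).Finite := RingHom.Finite.of_comp_finite
        (f := Ideal.Quotient.mk (RingHom.ker φ)) (by
          rw [show (RingHom.kerLift φ).comp (Ideal.Quotient.mk (RingHom.ker φ)) = φ from RingHom.ext fun a => RingHom.kerLift_mk φ a]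
          exact hfin)
      exact IsDiscreteValuationRing.not_isField (B : Type _)
        (have : Algebra.IsIntegral (A ⧸ RingHom.ker φ) B := algebraMap_isIntegral_iff.1 hfinB.to_isIntegral
         isField_of_isIntegral_of_isField' (R := A ⧸ RingHom.ker φ) (S := (B : Type _))
          (Ideal.Quotient.field (RingHom.ker φ)).toIsField)
    let w : Spec B ⟶ Limits.pullback f g₀ := Limits.pullback.lift v
      (Spec.map (CommRingCat.ofHom φ) ≫ Spec.map (CommRingCat.ofHom f₁))
      (by rw [hv]; simp only [g, Category.assoc])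
    have hw : Spec.map (CommRingCat.ofHom (IsLocalRing.residue B)) ≫ w =
        Spec.map (CommRingCat.ofHom (IsLocalRing.ResidueField.map φ)) ≫
          Spec.map (CommRingCat.ofHom eΩ.toRingHom) ≫ zΩ := by
      apply Limits.pullback.hom_ext
      · simp only [w, Category.assoc, Limits.pullback.lift_fst]
        exact hcompat.symm
      · simp only [w, Category.assoc, Limits.pullback.lift_snd]
        rw [← hρ, ← Spec.map_comp, ← Spec.map_comp, ← Spec.map_comp, ← Spec.map_comp, eρ]
        congr 1
    have hwc : w (IsLocalRing.closedPoint B) = z := by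
      let t : Spec (CommRingCat.of (IsLocalRing.ResidueField B)) := IsLocalRing.closedPoint _
      have := congrArg (fun m : _ ⟶ Limits.pullback f g₀ => m t) hw
      simp only [Scheme.Hom.comp_apply, hzΩ] at this
      rw [← this]
      exact congrArg w (IsLocalRing.comap_closedPoint (IsLocalRing.residue B)).symm
    refine ((genericPoint_specializes _).map w.continuous).mem_closed isClosed_closure
      (subset_closure ?_) |> (hwc ▸ ·)
    show Limits.pullback.snd f g₀ (w (genericPoint (Spec B))) = genericPoint (Spec (CommRingCat.of A₀))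
    rw [← Scheme.Hom.comp_apply, Limits.pullback.lift_snd, ← Spec.map_comp]
    have hgen : ∀ {R : CommRingCat.{u}} [IsDomain R],
        genericPoint (Spec R) = (⟨⊥, Ideal.isPrime_bot⟩ : PrimeSpectrum R) := fun {R} _ =>
      IsGenericPoint.eq (genericPoint_spec _) (by
        show closure {(⟨⊥, Ideal.isPrime_bot⟩ : PrimeSpectrum R)} = Set.univ
        rw [PrimeSpectrum.closure_singleton]
        exact PrimeSpectrum.zeroLocus_bot)
    rw [hgen (R := B), hgen (R := CommRingCat.of A₀)]
    refine PrimeSpectrum.ext ?_
    show (⊥ : Ideal B).comap (φ.comp f₁) = ⊥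
    rw [← RingHom.ker_eq_comap_bot,
      (RingHom.injective_iff_ker_eq_bot (φ.comp f₁)).1 (by rw [RingHom.coe_comp]; exact hφ.comp hinj)]


end Groth.Agent.S4981
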