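import Groth.Statements.S4982
import Groth.Agent.LC16.FibreModOpen

set_option autoImplicit false
open CategoryTheory AlgebraicGeometry
universe u v w
open EGA43

namespace Groth.Agent.S4982

/-- Let f : X ⟶ Y be a morphism locally of finite presentation and F a finitely presented O_X-module
which is f-flat; for x in X write F_{f x} for the restriction of F to the fibre of f through x. Let
Φ be a finite set of natural numbers. Then the set of points x such that every associated point of
F_{f x} specializing to x has closure (in the fibre) of dimension belonging to Φ is open in X. In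
particular (Φ = {k}), the set of x such that every associated point of F_{f x} specializing to x has
closure of dimension k is open. -/
theorem result {X Y : Scheme.{u}} (f : X ⟶ Y) [LocallyOfFinitePresentation f]
    (F : X.Modules) (hF : CohB1.IsFP F) (hflat : FlatMod.IsFlatOver f F) (Φ : Finset ℕ) :
    IsOpen {x : X | ∀ z ∈ AssSch.Ass ((Scheme.Modules.pullback (f.fiberι (f.base x))).obj F), f.asFiber x ∈ closure {z} →
      ∃ n ∈ Φ, topologicalKrullDim ↥(closure ({z} : Set ↥(f.fiber (f.base x)))) = (n : WithBot ℕ∞)} := by
  haveI := hF
  convert Groth.Agent.LC16.FibreModOpen.isOpen_assDims f F hflat (↑Φ : Set ℕ) using 1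
  ext x
  constructor
  · intro h z hz hfz h0
    obtain ⟨a, rfl⟩ := Groth.Agent.E4O.exists_fiberι_eq f hfz
    obtain ⟨n, hn, hd⟩ := h a ((Groth.Agent.LC16.FibreModOpen.mem_ass_fibre_iff f F _ a).2 h0)
      (specializes_iff_mem_closure.1 (by
        rw [← Groth.Agent.E4O.specializes_fiberι_iff f (f x), f.fiberι_asFiber]; exact hz))
    rw [Groth.Agent.E4O.dim_closure_fiber] at hd
    have : Groth.Agent.E4O.fdeg f (f.fiberι (f x) a) = n := by exact_mod_cast hd
    rw [this]
    exact hn
  · intro h a ha hax
    have hs := (Groth.Agent.E4O.specializes_fiberι_iff f (f x) a (f.asFiber x)).2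
      (specializes_iff_mem_closure.2 hax)
    rw [f.fiberι_asFiber] at hs
    exact ⟨_, h _ hs (Groth.Agent.E4O.apply_fiberι f _ a)
      ((Groth.Agent.LC16.FibreModOpen.mem_ass_fibre_iff f F _ a).1 ha),
      Groth.Agent.E4O.dim_closure_fiber f _ a⟩

end Groth.Agent.S4982
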