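import Groth.Statements.S4983
import Groth.Agent.LC16.FibreModOpen

set_option autoImplicit false
open CategoryTheory AlgebraicGeometry
universe u v w
open EGA43

namespace Groth.Agent.S4983

/-- Let f : X ⟶ Y be a morphism locally of finite presentation and F a finitely presented O_X-module
which is f-flat; for x in X write F_{f x} for the restriction of F to the fibre of f through x. Then
the set of points x which lie on no embedded associated cycle of F_{f x} — every associated point of
F_{f x} specializing to x is not a specialization of another associated point — is open in X. -/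
theorem result {X Y : Scheme.{u}} (f : X ⟶ Y) [LocallyOfFinitePresentation f]
    (F : X.Modules) (hF : CohB1.IsFP F) (hflat : FlatMod.IsFlatOver f F) :
    IsOpen {x : X | ∀ z ∈ AssSch.Ass ((Scheme.Modules.pullback (f.fiberι (f.base x))).obj F), f.asFiber x ∈ closure {z} →
      ∀ z' ∈ AssSch.Ass ((Scheme.Modules.pullback (f.fiberι (f.base x))).obj F), z ∈ closure {z'} → z' = z} := by
  haveI := hF
  convert Groth.Agent.LC16.FibreModOpen.isOpen_noEmbedded f F hflat using 1
  ext x
  constructor
  · intro h z hz hfz h0
    rintro ⟨v, hvs, hv, hfv, hd⟩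
    obtain ⟨w, hw, hfw, hw0⟩ := Groth.Agent.LC16.FibreModOpen.exists_fd_eq_zero f F hvs
    obtain ⟨a, rfl⟩ := Groth.Agent.E4O.exists_fiberι_eq f hfz
    obtain ⟨b, rfl⟩ := Groth.Agent.E4O.exists_fiberι_eq f ((hfw.trans hfv).trans hfz)
    have hba : b ⤳ a := (Groth.Agent.E4O.specializes_fiberι_iff f (f x) b a).1 (hw.trans hv)
    have hax : a ⤳ f.asFiber x := by
      rw [← Groth.Agent.E4O.specializes_fiberι_iff f (f x), f.fiberι_asFiber]; exact hz
    have := h a ((Groth.Agent.LC16.FibreModOpen.mem_ass_fibre_iff f F _ a).2 h0)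
      (specializes_iff_mem_closure.1 hax) b
      ((Groth.Agent.LC16.FibreModOpen.mem_ass_fibre_iff f F _ b).2 hw0)
      (specializes_iff_mem_closure.1 hba)
    subst this
    have h1 := Groth.Agent.E4O.fdeg_le (f := f) hv hfv
    have h2 := Groth.Agent.E4O.fdeg_le (f := f) hw hfw
    omega
  · intro h a ha hax b hb hab
    by_contra hne
    have hs := (Groth.Agent.E4O.specializes_fiberι_iff f (f x) a (f.asFiber x)).2
      (specializes_iff_mem_closure.2 hax)
    rw [f.fiberι_asFiber] at hs
    have hba := (Groth.Agent.E4O.specializes_fiberι_iff f (f x) b a).2 (specializes_iff_mem_closure.2 hab)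
    have hfba : f (f.fiberι (f x) b) = f (f.fiberι (f x) a) := by
      rw [Groth.Agent.E4O.apply_fiberι, Groth.Agent.E4O.apply_fiberι]
    refine h _ hs (Groth.Agent.E4O.apply_fiberι f _ a)
      ((Groth.Agent.LC16.FibreModOpen.mem_ass_fibre_iff f F _ a).1 ha)
      ⟨_, Groth.Agent.LC16.FibreModOpen.mem_support_of_fd_ne_top f F
        (by rw [(Groth.Agent.LC16.FibreModOpen.mem_ass_fibre_iff f F _ b).1 hb]; exact ENat.zero_ne_top),
        hba, hfba, ?_⟩
    exact Groth.Agent.E4O.fdeg_lt hba hfba
      fun e => hne ((Groth.Agent.E4O.isEmbedding_fiberι f (f x)).injective e)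

end Groth.Agent.S4983
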