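import Groth.Statements.S4986
import Groth.Agent.E4O.FourCond

set_option autoImplicit false
open CategoryTheory AlgebraicGeometry
universe u v w
open EGA43 TopologicalSpace Topology Groth.Agent.E4O

namespace Groth.Agent.S4986

/-- Let Y be locally Noetherian, f : X ⟶ Y of finite type, x ∈ X, y = f x, X' an irreducible closed
subset containing x with its reduced structure, Y' the closure of f(X') with its reduced structure
and generic point η', and A, B, A', B' the local rings of Y at y, of X at x, of Y' at y and of X' at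
x. Suppose dim B = dim A + dim(B ⊗ κ(y)). Then X' satisfies the four conditions (i) dim A' = dim A,
(ii) dim_x(X' ∩ X_y) = dim_x(X_y), (iii) X' equidimensional over Y' at x, (iv) dim B' = dim A' +
dim(B' ⊗ κ(y)), if and only if dim B' = dim B. -/
theorem result {X Y : Scheme.{u}} [IsLocallyNoetherian Y] (f : X ⟶ Y)
    [LocallyOfFiniteType f] [QuasiCompact f] (x : X) (X' : TopologicalSpace.Closeds X) (hirr : IsIrreducible (X' : Set X))
    (hx : x ∈ X') (w : ↥(Scheme.IdealSheafData.vanishingIdeal X').subscheme)
    (hw : (Scheme.IdealSheafData.vanishingIdeal X').subschemeι.base w = x)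
    (v : ↥(Scheme.IdealSheafData.vanishingIdeal
      (⟨closure (f.base '' (X' : Set X)), isClosed_closure⟩ : TopologicalSpace.Closeds Y)).subscheme)
    (hv : (Scheme.IdealSheafData.vanishingIdeal
      (⟨closure (f.base '' (X' : Set X)), isClosed_closure⟩ : TopologicalSpace.Closeds Y)).subschemeι.base v = f.base x)
    (η' : Y) (hη' : closure ({η'} : Set Y) = closure (f.base '' (X' : Set X))) :
    letI ιX := (Scheme.IdealSheafData.vanishingIdeal X').subschemeι
    letI dA := ringKrullDim (Y.presheaf.stalk (f.base x))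
    letI dB := ringKrullDim (X.presheaf.stalk x)
    letI dA' := ringKrullDim ((Scheme.IdealSheafData.vanishingIdeal
      (⟨closure (f.base '' (X' : Set X)), isClosed_closure⟩ : TopologicalSpace.Closeds Y)).subscheme.presheaf.stalk v)
    letI dB' := ringKrullDim ((Scheme.IdealSheafData.vanishingIdeal X').subscheme.presheaf.stalk w)
    letI dBk := ringKrullDim ((f.fiber (f.base x)).presheaf.stalk (f.asFiber x))
    letI dB'k := ringKrullDim (((ιX ≫ f).fiber ((ιX ≫ f).base w)).presheaf.stalk ((ιX ≫ f).asFiber w))
    letI e' := topologicalKrullDim ↥((X' : Set X) ∩ f.base ⁻¹' {η'})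
    dB = dA + dBk →
      ((dA' = dA ∧ FlatMor.localDim ↥((X' : Set X) ∩ f.base ⁻¹' {f.base x}) ⟨x, ⟨hx, rfl⟩⟩ = FlatMor.fibreDimAt f x ∧
        FlatMor.fibreDimAt (ιX ≫ f) w = e' ∧ dB' = dA' + dB'k) ↔ dB' = dB) := by
  obtain ⟨ξ, hξ⟩ := QuasiSober.sober hirr X'.isClosed
  have hξη : f ξ = η' := by
    have h1 : closure ({f ξ} : Set Y) = closure {η'} := by
      rw [hη', ← closure_image_closure_singleton f ξ, show closure {ξ} = (X' : Set X) from hξ]
    exact (inseparable_iff_closure_eq.2 h1).eq
  obtain ⟨a, b, a', b', bk, bk', D, D', d, e', hA, hB, hA', hB', hk, hk', hD, hD', he', h1, h2, h3,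
    h4, h5, h6, h7, h8⟩ := exists_dim_data f
      (Scheme.IdealSheafData.vanishingIdeal X').subschemeι
      (Scheme.IdealSheafData.vanishingIdeal
        (⟨closure (f.base '' (X' : Set X)), isClosed_closure⟩ : TopologicalSpace.Closeds Y)).subschemeι
      (ξ := ξ) (η' := η')
      ((SchBasics.range_vanishingIdeal_subschemeι X').trans hξ.symm)
      ((SchBasics.range_vanishingIdeal_subschemeι _).trans hη'.symm) hξη w hw v hv
  have hX : closure ({ξ} : Set X) = (X' : Set X) := hξ
  rw [hX] at he'
  have hloc := fibreDimAt_comp_closedImmersion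
    (Scheme.IdealSheafData.vanishingIdeal X').subschemeι f w
    (SchBasics.range_vanishingIdeal_subschemeι X') hw
  rw [hD'] at hloc
  simp only [hA, hA', hB, hB', hk, hk', hD, hD', he', ← hloc]
  norm_cast
  omega

end Groth.Agent.S4986
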