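import Groth.Statements.S4991
import Groth.Agent.Unr55.SmoothStalkCor

set_option autoImplicit false
universe u
open CategoryTheory CategoryTheory.Limits AlgebraicGeometry TopologicalSpace
open Unram17

namespace Groth.Agent.S4991

set_option backward.isDefEq.respectTransparency.types false in
/-- Let Y be locally Noetherian and f : X ⟶ Y locally of finite type, smooth on an open neighbourhood of
a point x with image y. Then the local ring of X at x is regular if and only if the local ring of Y
at y is regular. -/
theorem result {X Y : Scheme.{u}} (f : X ⟶ Y)
    [IsLocallyNoetherian Y] [LocallyOfFiniteType f] (x : ↥X)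
    (hx : ∃ U : X.Opens, x ∈ U ∧ Smooth (U.ι ≫ f)) :
    IsRegularLocalRing ↑(X.presheaf.stalk x) ↔ IsRegularLocalRing ↑(Y.presheaf.stalk (f.base x)) := by
  have : LocallyOfFinitePresentation f := inferInstance
  exact Unr55.isRegularLocalRing_stalk_iff_of_smooth f x ((Unr55.exists_smooth_iff f x).mp hx)

end Groth.Agent.S4991
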