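import Groth.Statements.S4992
import Groth.Agent.Unr55.SmoothRank

set_option autoImplicit false
universe u
open CategoryTheory CategoryTheory.Limits AlgebraicGeometry TopologicalSpace
open Unram17

set_option backward.isDefEq.respectTransparency.types false

namespace Groth.Agent.S4992

/-- Let f : X ⟶ Y and g : Y ⟶ Z be smooth. For every point x of X, the local dimension at x of the fibre
of f ≫ g through x equals the local dimension at x of the fibre of f through x plus the local
dimension at f(x) of the fibre of g through f(x). -/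
theorem result {X Y Z : Scheme.{u}} (f : X ⟶ Y) (g : Y ⟶ Z) [Smooth f] [Smooth g]
    (x : ↥X) :
    FlatMor.fibreDimAt (f ≫ g) x = FlatMor.fibreDimAt f x + FlatMor.fibreDimAt g (f.base x) := by
  open Groth.Agent.Unr55.SmoothRank in
  obtain ⟨h1, h2, h3⟩ := exists_fibreDimAt_eq f x
  open Groth.Agent.Unr55.SmoothRank in
  obtain ⟨k1, k2, k3⟩ := exists_fibreDimAt_eq g (f x)
  open Groth.Agent.Unr55.SmoothRank in
  obtain ⟨m1, m2, m3⟩ := exists_fibreDimAt_eq (f ≫ g) x
  let A := Z.presheaf.stalk (g (f x))
  let B := Y.presheaf.stalk (f x)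
  let C := X.presheaf.stalk x
  let : Algebra B C := (f.stalkMap x).hom.toAlgebra
  let : Algebra A B := (g.stalkMap (f x)).hom.toAlgebra
  let : Algebra A C := ((f ≫ g).stalkMap x).hom.toAlgebra
  have : IsScalarTower A B C := IsScalarTower.of_algebraMap_eq' (by
    change ((f ≫ g).stalkMap x).hom = _
    rw [Scheme.Hom.stalkMap_comp]
    rfl)
  have : Algebra.FormallySmooth B C :=
    Scheme.Hom.mem_smoothLocus.1 (by rw [f.smoothLocus_eq_top]; trivial)
  rw [h3, k3, m3]
  exact_mod_cast Groth.Agent.Unr55.SmoothRank.finrank_eq_add (A := A) (B := B) (C := C)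

end Groth.Agent.S4992
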