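import Groth.Statements.S4993
import Groth.Agent.Unr55.SmoothRank
import Groth.Agent.SpPts86.LocPMore

set_option autoImplicit false
universe u
open CategoryTheory CategoryTheory.Limits AlgebraicGeometry TopologicalSpace
open Unram17

set_option backward.isDefEq.respectTransparency.types false

namespace Groth.Agent.S4993

/-- Let f : Y ⟶ S and h : X ⟶ S be smooth and let g : X ⟶ Y satisfy g ≫ f = h. Then g is an open
immersion if and only if g is a monomorphism and, for every point x of X, the local dimension at
g(x) of the fibre of f through g(x) equals the local dimension at x of the fibre of h through x. -/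
theorem result {X Y S : Scheme.{u}} (f : Y ⟶ S) (h : X ⟶ S)
    [Smooth f] [Smooth h] (g : X ⟶ Y) (w : g ≫ f = h) :
    IsOpenImmersion g ↔ Mono g ∧ ∀ x : ↥X, FlatMor.fibreDimAt f (g.base x) = FlatMor.fibreDimAt h x := by
  subst w
  have key : ∀ x : X, FormallyUnramified g →
      ((g.stalkMap x).hom.FormallyEtale ↔
        FlatMor.fibreDimAt f (g.base x) = FlatMor.fibreDimAt (g ≫ f) x) := by
    intro x hg
    obtain ⟨k1, k2, k3⟩ := Groth.Agent.Unr55.SmoothRank.exists_fibreDimAt_eq f (g x)
    obtain ⟨m1, m2, m3⟩ := Groth.Agent.Unr55.SmoothRank.exists_fibreDimAt_eq (g ≫ f) x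
    let A := S.presheaf.stalk (f (g x))
    let B := Y.presheaf.stalk (g x)
    let C := X.presheaf.stalk x
    let : Algebra B C := (g.stalkMap x).hom.toAlgebra
    let : Algebra A B := (f.stalkMap (g x)).hom.toAlgebra
    let : Algebra A C := ((g ≫ f).stalkMap x).hom.toAlgebra
    have : IsScalarTower A B C := IsScalarTower.of_algebraMap_eq' (by
      change ((g ≫ f).stalkMap x).hom = _
      rw [Scheme.Hom.stalkMap_comp]
      rfl)
    have : Algebra.FormallySmooth A C :=
      Scheme.Hom.mem_smoothLocus.1 (show x ∈ (g ≫ f).smoothLocus by rw [(g ≫ f).smoothLocus_eq_top]; trivial)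
    have : Algebra.FormallyUnramified B C := FormallyUnramified.stalkMap g x
    have : Module.Free C Ω[C⁄A] := m1
    have : Module.Finite C Ω[C⁄A] := m2
    rw [k3, m3]
    exact (Groth.Agent.Unr55.SmoothRank.formallyEtale_iff_finrank_eq (A := A) (B := B) (C := C)).trans
      (by norm_cast)
  constructor
  · intro hg
    refine ⟨inferInstance, fun x => (key x inferInstance).1 ?_⟩
    have : IsIso (g.stalkMap x) := inferInstance
    let : Algebra (Y.presheaf.stalk (g x)) (X.presheaf.stalk x) := (g.stalkMap x).hom.toAlgebra
    exact Algebra.FormallyEtale.of_equiv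
      (AlgEquiv.ofBijective (Algebra.ofId (Y.presheaf.stalk (g x)) (X.presheaf.stalk x))
        (ConcreteCategory.bijective_of_isIso (g.stalkMap x)))
  · rintro ⟨hm, hd⟩
    have hu : FormallyUnramified g := inferInstance
    have : LocallyOfFinitePresentation g := Groth.Agent.SpPts86.lfp_of_comp g f
    have hloc : ∀ x : X, ∃ U : X.Opens, x ∈ U ∧ Etale (U.ι ≫ g) := fun x => by
      have he := (key x hu).2 (hd x)
      refine (Groth.Agent.Unr55.exists_smooth_and_formallyUnramified_iff g x).2 ⟨?_, FormallyUnramified.stalkMap g x⟩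
      let := (g.stalkMap x).hom.toAlgebra
      have : Algebra.FormallyEtale (Y.presheaf.stalk (g x)) (X.presheaf.stalk x) := he
      exact (inferInstance : Algebra.FormallySmooth (Y.presheaf.stalk (g x)) (X.presheaf.stalk x))
    choose U hxU hU using hloc
    have : Etale g := (IsZariskiLocalAtSource.iff_of_iSup_eq_top (P := @Etale) U
      (eq_top_iff.2 fun x _ => TopologicalSpace.Opens.mem_iSup.2 ⟨x, hxU x⟩)).2 hU
    exact IsOpenImmersion.of_flat_of_mono g

end Groth.Agent.S4993
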