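import Groth.Statements.S4996
import Groth.Agent.CAlg5.GeomRegular
import Groth.Agent.VarGal.SmoothGeomReg

set_option autoImplicit false
universe u
open Unram17

namespace Groth.Agent.S4996

open TensorProduct in
/-- Let B be a finitely presented algebra over a commutative ring A. Then B is smooth over A if and only
if B is flat over A and every fibre ring κ(p) ⊗_A B, p a prime of A, is geometrically regular over
the residue field κ(p), i.e. stays a regular ring after base change to any finite extension of κ(p). -/
theorem result (A B : Type u) [CommRing A] [CommRing B]
    [Algebra A B] [Algebra.FinitePresentation A B] :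
    Algebra.Smooth A B ↔
      Module.Flat A B ∧ ∀ (p : Ideal A) [p.IsPrime], CAlg.IsGeometricallyRegular p.ResidueField (p.Fiber B) := by
  constructor
  · intro hs
    refine ⟨inferInstance, fun p _ => ?_⟩
    refine CAlg5.isGeometricallyRegular_of_smooth p.ResidueField p.ResidueField (p.Fiber B) ?_
    intro l _ _ _
    have : IsRegularRing l := inferInstance
    exact IsRegularRing.of_ringEquiv (Algebra.TensorProduct.rid p.ResidueField p.ResidueField l).toRingEquiv.symm
  · rintro ⟨_, hreg⟩
    refine Algebra.Smooth.of_formallySmooth_fiber fun p _ => ?_
    have : Algebra.FinitePresentation p.ResidueField (p.Fiber B) := inferInstance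
    refine Algebra.smoothLocus_eq_univ_iff.mp (Set.eq_univ_iff_forall.mpr fun q => ?_)
    refine VarGal.isSmoothAt_of_regular_baseChange (k := p.ResidueField) (p.Fiber B) q.asIdeal ?_
    intro L _ _ hL P _ _
    have := hreg p L hL
    exact IsRegularRing.isRegularLocalRing_localization P

end Groth.Agent.S4996
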