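import Groth.Statements.S4998
import Mathlib.RingTheory.Etale.Field

set_option autoImplicit false
universe u
open Unram17

namespace Groth.Agent.S4998

/-- Let A be an algebra of finite type over a field k. Then A is formally unramified over k if and only
if A is finite over k and every element of A has separable minimal polynomial over k (equivalently,
A is a finite product of finite separable extensions of k). -/
theorem result (k A : Type u) [Field k] [CommRing A]
    [Algebra k A] [Algebra.FiniteType k A] :
    Algebra.FormallyUnramified k A ↔ Module.Finite k A ∧ Algebra.IsSeparable k A := by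
  constructor
  · intro _
    haveI hfin : Module.Finite k A := Algebra.FormallyUnramified.finite_of_free k A
    haveI := Algebra.FormallyEtale.of_formallyUnramified_of_field k A
    obtain ⟨I, _, Ai, _, _, e, hAi⟩ := (Algebra.FormallyEtale.iff_exists_algEquiv_prod k A).mp ‹_›
    classical
    letI : Fintype I := Fintype.ofFinite I
    refine ⟨hfin, ⟨fun x => ?_⟩⟩
    let P : Polynomial k := ∏ q ∈ Finset.univ.image (fun i => minpoly k (e x i)), q
    have hint : ∀ i, IsSeparable k (e x i) := fun i => Algebra.IsSeparable.isSeparable k _
    have hP : P.Separable := by
      refine Polynomial.separable_prod' ?_ ?_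
      · intro q hq r hr hne
        simp only [Finset.mem_image, Finset.mem_univ, true_and] at hq hr
        obtain ⟨i, rfl⟩ := hq
        obtain ⟨j, rfl⟩ := hr
        refine (minpoly.irreducible (hint i).isIntegral).isRelPrime_iff_not_dvd.mpr ?_ |>.isCoprime
        intro hd
        exact hne (Polynomial.eq_of_monic_of_associated (minpoly.monic (hint i).isIntegral)
          (minpoly.monic (hint j).isIntegral)
          ((minpoly.irreducible (hint i).isIntegral).associated_of_dvd
            (minpoly.irreducible (hint j).isIntegral) hd))
      · intro q hq
        simp only [Finset.mem_image, Finset.mem_univ, true_and] at hq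
        obtain ⟨i, rfl⟩ := hq
        exact hint i
    refine Polynomial.Separable.of_dvd hP (minpoly.dvd k x ?_)
    apply e.injective
    rw [map_zero, ← Polynomial.aeval_algHom_apply]
    funext i
    have h0 : Polynomial.aeval (e x i) P = 0 := by
      rw [map_prod]
      exact Finset.prod_eq_zero (Finset.mem_image_of_mem _ (Finset.mem_univ i)) (minpoly.aeval k _)
    rw [Pi.zero_apply, ← h0]
    exact (Polynomial.aeval_algHom_apply (Pi.evalAlgHom k Ai i) (e x) P).symm
  · rintro ⟨_, hsep⟩
    rw [Algebra.formallyUnramified_iff]
    refine subsingleton_of_forall_eq 0 fun ω => ?_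
    have hz : ∀ x : A, KaehlerDifferential.D k A x = 0 := by
      intro x
      obtain ⟨a, b, hab⟩ := (hsep.isSeparable' x : IsSeparable k x)
      have h1 := congrArg (Polynomial.aeval x) hab
      rw [map_add, map_mul, map_mul, minpoly.aeval, mul_zero, zero_add, map_one] at h1
      have h2 : Polynomial.aeval x (Polynomial.derivative (minpoly k x)) • KaehlerDifferential.D k A x = 0 := by
        rw [← Derivation.map_aeval, minpoly.aeval, map_zero]
      calc KaehlerDifferential.D k A x = (1 : A) • KaehlerDifferential.D k A x := (one_smul _ _).symm
        _ = 0 := by rw [← h1, mul_smul, h2, smul_zero]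
    have hmem : ω ∈ Submodule.span A (Set.range (KaehlerDifferential.D k A)) := by
      rw [KaehlerDifferential.span_range_derivation]; trivial
    induction hmem using Submodule.span_induction with
    | mem z hz' => obtain ⟨x, rfl⟩ := hz'; exact hz x
    | zero => rfl
    | add x y _ _ hx hy => rw [hx, hy, add_zero]
    | smul c x _ hx => rw [hx, smul_zero]

end Groth.Agent.S4998
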