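import Groth.Statements.S4999
import Groth.Agent.SchBasics.GenSmoothPts

set_option autoImplicit false
universe u
open Unram17

namespace Groth.Agent.S4999

/-- Let A be an algebra of finite type over a field k. Then A is smooth over k if and only if the module
of differentials of A over k is projective (locally free) and, at every minimal prime p of A, the
local ring A_p is geometrically reduced over k, which for this Artinian local ring says that A_p is
a field and a separable (not necessarily algebraic) extension of k. -/
theorem result (k A : Type u) [Field k] [CommRing A]
    [Algebra k A] [Algebra.FiniteType k A] :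
    Algebra.Smooth k A ↔
      Module.Projective A (KaehlerDifferential k A) ∧
        ∀ (p : Ideal A) [p.IsPrime], p ∈ minimalPrimes A →
          Algebra.IsGeometricallyReduced k (Localization.AtPrime p) := by
  have : IsNoetherianRing A := Algebra.FiniteType.isNoetherianRing k A
  have : Algebra.FinitePresentation k A := Algebra.FinitePresentation.of_finiteType.mp ‹_›
  constructor
  · intro hs
    refine ⟨inferInstance, fun p _ hp => (SchBasics.isSmoothAt_minimal_iff p hp).mp ?_⟩
    exact Set.eq_univ_iff_forall.mp (Algebra.smoothLocus_eq_univ (R := k) (A := A)) ⟨p, ‹_›⟩
  · rintro ⟨hproj, h⟩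
    refine ⟨Algebra.smoothLocus_eq_univ_iff.mp (Set.eq_univ_iff_forall.mpr fun q => ?_), ‹_›⟩
    let R := Localization.AtPrime q.asIdeal
    have : Algebra.FormallyEtale A R := .of_isLocalization q.asIdeal.primeCompl
    let eΩ := KaehlerDifferential.tensorKaehlerEquivOfFormallyEtale k A R
    have : Module.Projective R (Ω[R⁄k]) := Module.Projective.of_equiv eΩ
    have : Module.Finite R (Ω[R⁄k]) := Module.Finite.of_surjective eΩ.toLinearMap eΩ.surjective
    have : Module.Free R (Ω[R⁄k]) := Module.free_of_flat_of_isLocalRing
    exact SchBasics.isSmoothAt_of_free_kaehler q.asIdeal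
      fun p _ hp => (SchBasics.isSmoothAt_minimal_iff p hp).mpr (h p hp)

end Groth.Agent.S4999
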