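import Groth.Agent.An92.Nrm.RegIdeal
-- Template for statement S5003 (row 5002; see the milestone table for weights).
-- Copy to Groth/Agent/S5003.lean and replace the sorry. The statement below is byte-identical to the frozen
-- statement Nrm16.GrothFrozen.S5003 (Groth/Statements/S5003.lean; the theorem Nrm16.isRegularImmersion_regular_iff_quasi);
-- the grader kernel-checks Groth.Agent.S5003.result against that frozen type. Keep the theorem IN THIS FILE
-- (a `result` declared elsewhere and merely imported here is not credited); helpers may live anywhere
-- under Groth/Agent/.

set_option autoImplicit false
universe u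
open CategoryTheory CategoryTheory.Limits AlgebraicGeometry TopologicalSpace
namespace Nrm16
end Nrm16
open Nrm16

namespace Groth.Agent.S5003

/-- Let X be a locally Noetherian scheme and j : Y ⟶ X a morphism. Then j is a regular immersion if and
only if j is a quasi-regular immersion. -/
theorem result {X Y : Scheme.{u}} [IsLocallyNoetherian X] (j : Y ⟶ X) :
    RegImm.IsRegularImmersion RegImm.Kind.regular j ↔ RegImm.IsRegularImmersion RegImm.Kind.quasi j := by
  exact An92.Nrm.isRegularImmersion_regular_iff_quasi j

end Groth.Agent.S5003
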