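import Groth.Agent.An92.Nrm.RegIdeal
-- Template for statement S5004 (row 5003; see the milestone table for weights).
-- Copy to Groth/Agent/S5004.lean and replace the sorry. The statement below is byte-identical to the frozen
-- statement Nrm16.GrothFrozen.S5004 (Groth/Statements/S5004.lean; the theorem Nrm16.isRegularIdeal_regular_of_quasi);
-- the grader kernel-checks Groth.Agent.S5004.result against that frozen type. Keep the theorem IN THIS FILE
-- (a `result` declared elsewhere and merely imported here is not credited); helpers may live anywhere
-- under Groth/Agent/.

set_option autoImplicit false
universe u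
open CategoryTheory CategoryTheory.Limits AlgebraicGeometry TopologicalSpace
namespace Nrm16
end Nrm16
open Nrm16

namespace Groth.Agent.S5004

/-- On a locally Noetherian scheme, every quasi-regular (quasi-coherent) ideal sheaf is a regular ideal
sheaf. -/
theorem result {X : Scheme.{u}} [IsLocallyNoetherian X] (I : X.IdealSheafData)
    (h : RegImm.IsRegularIdeal RegImm.Kind.quasi I) : RegImm.IsRegularIdeal RegImm.Kind.regular I := by
  exact An92.Nrm.isRegularIdeal_regular_of_quasi I h

end Groth.Agent.S5004
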