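import Groth.Statements.S5006
import Mathlib

set_option autoImplicit false
universe u
open Nrm16

namespace Groth.Agent.S5006

/-- Let A be a commutative ring, I a finitely generated ideal and p a prime ideal containing I. Then
some basic open neighbourhood of p in Spec A is contained in the closed set V(I) (so that V(I) ⟶
Spec A is a local homeomorphism onto an open set near p) if and only if there is an integer n > 0
with I^n A_p = I^(n+1) A_p in the local ring at p. Affine form. -/
theorem result (A : Type u) [CommRing A] (I : Ideal A) (hI : I.FG)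
    (p : Ideal A) [p.IsPrime] (hp : I ≤ p) :
    (∃ f : A, f ∉ p ∧ ∀ q : Ideal A, q.IsPrime → f ∉ q → I ≤ q) ↔
      ∃ n : ℕ, 0 < n ∧
        (I ^ n).map (algebraMap A (Localization.AtPrime p)) =
          (I ^ (n + 1)).map (algebraMap A (Localization.AtPrime p)) := by
  constructor
  · rintro ⟨f, hf, h⟩
    have hle : I.map (algebraMap A (Localization.AtPrime p)) ≤ nilradical (Localization.AtPrime p) := by
      rw [nilradical_eq_sInf, le_sInf_iff]
      intro Q hQ
      have : Q.IsPrime := hQ
      rw [Ideal.map_le_iff_le_comap]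
      refine h _ inferInstance fun hfQ => ?_
      exact this.ne_top (Ideal.eq_top_of_isUnit_mem _ hfQ
        (IsLocalization.map_units (Localization.AtPrime p) (⟨f, hf⟩ : p.primeCompl)))
    obtain ⟨n, hn⟩ := Ideal.exists_pow_le_of_le_radical_of_fg hle (hI.map _)
    refine ⟨n + 1, by omega, ?_⟩
    have h0 : ∀ m, n ≤ m → (I.map (algebraMap A (Localization.AtPrime p))) ^ m = ⊥ := fun m hm =>
      le_bot_iff.1 (le_trans (Ideal.pow_le_pow_right hm) hn)
    rw [Ideal.map_pow, Ideal.map_pow, h0 _ (by omega), h0 _ (by omega)]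
  · rintro ⟨n, hn0, hn⟩
    have hJ : (I ^ n).map (algebraMap A (Localization.AtPrime p)) = ⊥ := by
      refine Submodule.eq_bot_of_le_smul_of_le_jacobson_bot
        (I.map (algebraMap A (Localization.AtPrime p))) _ ((Ideal.FG.pow hI).map _) ?_ ?_
      · rw [smul_eq_mul, ← Ideal.map_mul, ← pow_succ', hn]
      · rw [IsLocalRing.jacobson_eq_maximalIdeal _ bot_ne_top,
          ← Localization.AtPrime.map_eq_maximalIdeal]
        exact Ideal.map_mono hp
    obtain ⟨s, hs⟩ := Ideal.FG.pow (n := n) hI
    have hann : ∀ x ∈ s, ∃ f : A, f ∉ p ∧ f * x = 0 := fun x hx => by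
      have : algebraMap A (Localization.AtPrime p) x = 0 := by
        rw [← Ideal.mem_bot, ← hJ]
        exact Ideal.mem_map_of_mem _ (hs ▸ Submodule.subset_span hx)
      obtain ⟨⟨f, hf⟩, hfx⟩ := (IsLocalization.map_eq_zero_iff p.primeCompl _ x).1 this
      exact ⟨f, hf, hfx⟩
    choose! f hf hfx using hann
    refine ⟨∏ x ∈ s, f x, fun h => ?_, fun q hq hfq => ?_⟩
    · obtain ⟨x, hx, hxp⟩ := Ideal.IsPrime.prod_mem_iff.1 h
      exact hf x hx hxp
    · refine hq.le_of_pow_le (n := n) ?_
      rw [← hs, Submodule.span_le]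
      intro x hx
      have : f x * x ∈ q := by rw [hfx x hx]; exact q.zero_mem
      exact (hq.mem_or_mem this).resolve_left fun h => hfq
        (Ideal.IsPrime.prod_mem_iff.2 ⟨x, hx, h⟩)

end Groth.Agent.S5006
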