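import Groth.Statements.S5007
import Groth.Agent.SchBasics.UnramAt

set_option autoImplicit false
universe u
open CategoryTheory CategoryTheory.Limits AlgebraicGeometry TopologicalSpace
open Unram17

namespace Groth.Agent.S5007

/-- Let g : Y ⟶ S and h : X ⟶ S be locally of finite presentation and f : X ⟶ Y a morphism over S. Then
f is (formally) unramified if and only if for every point s of S the base change of f along the
fibre Y_s ⟶ Y, which is the fibre map X_s ⟶ Y_s, is (formally) unramified. -/
theorem result {X Y S : Scheme.{u}} (g : Y ⟶ S) (h : X ⟶ S)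
    [LocallyOfFinitePresentation g] [LocallyOfFinitePresentation h] (f : X ⟶ Y) (w : f ≫ g = h) :
    FormallyUnramified f ↔ ∀ s : ↥S, FormallyUnramified (pullback.snd f (g.fiberι s)) := by
  refine ⟨fun _ s => MorphismProperty.pullback_snd _ _ ‹_›, fun H => ?_⟩
  have : LocallyOfFinitePresentation (f ≫ g) := w ▸ ‹LocallyOfFinitePresentation h›
  have : LocallyOfFiniteType f := locallyOfFiniteType_of_comp f g
  have key : ∀ x : X, ∃ U : X.Opens, x ∈ U ∧ FormallyUnramified (U.ι ≫ f) := fun x => by
    obtain ⟨s, hs⟩ : ∃ s, x ∈ Set.range (h.fiberι s) := ⟨h x, by rw [Scheme.Hom.range_fiberι]; rfl⟩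
    obtain ⟨x', rfl⟩ := hs
    rw [Groth.Agent.SchBasics.exists_formallyUnramified_iff_stalkMap,
      Groth.Agent.SchBasics.formallyUnramified_stalkMap_iff_fiber g h f w s x']
    have hp := Groth.Agent.SchBasics.isPullback_fiberMapOver g h f w s
    have : FormallyUnramified (CohIII.fiberMapOver f h g w s) := by
        rw [← IsPullback.isoPullback_hom_snd hp.flip,
          MorphismProperty.cancel_left_of_respectsIso (P := @FormallyUnramified)]
        exact H s
    exact FormallyUnramified.stalkMap _ x'
  choose U hx hU using key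
  rw [IsZariskiLocalAtSource.iff_of_iSup_eq_top (P := @FormallyUnramified) U]
  · exact hU
  · exact eq_top_iff.mpr fun x _ => TopologicalSpace.Opens.mem_iSup.mpr ⟨x, hx x⟩

end Groth.Agent.S5007
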