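import Groth.Statements.S5010
import Groth.Agent.PPH.Basic

set_option autoImplicit false
universe u
open PP16

namespace Groth.Agent.S5010

open Groth.Agent.PPH

theorem gen (k : Type u) [Field k] (r n : ℕ) (L : Type u) [Field L]
    [Algebra (MvPolynomial (Fin r) k) L] [Algebra k L] [IsScalarTower k (MvPolynomial (Fin r) k) L]
    [IsFractionRing (MvPolynomial (Fin r) k) L] :
    let χ : MvPolynomial (Fin r) L →ₐ[L] P n k L := MvPolynomial.aeval fun i : Fin r =>
      dn n k L (algebraMap (MvPolynomial (Fin r) k) L (MvPolynomial.X i)) -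
        algebraMap L (P n k L) (algebraMap (MvPolynomial (Fin r) k) L (MvPolynomial.X i))
    Function.Surjective χ ∧ RingHom.ker χ.toRingHom =
      (Ideal.span (Set.range (MvPolynomial.X : Fin r → MvPolynomial (Fin r) L))) ^ (n + 1) := by
  intro _
  let B := MvPolynomial (Fin r) k
  let U := Ideal.span (Set.range (MvPolynomial.X : Fin r → MvPolynomial (Fin r) L))
  let χ : MvPolynomial (Fin r) L →ₐ[L] P n k L := MvPolynomial.aeval fun i : Fin r =>
    dn n k L (algebraMap B L (MvPolynomial.X i)) -
      algebraMap L (P n k L) (algebraMap B L (MvPolynomial.X i))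
  have hX : ∀ i, χ (MvPolynomial.X i) = delta n k L (algebraMap B L (MvPolynomial.X i)) :=
    fun i => MvPolynomial.aeval_X _ i
  suffices key : ∀ (Q : Type u) [CommRing Q] [Algebra L Q] (q : MvPolynomial (Fin r) L →ₐ[L] Q),
      Function.Surjective q → RingHom.ker q.toRingHom = U ^ (n + 1) →
      Function.Surjective χ ∧ RingHom.ker χ.toRingHom = U ^ (n + 1) from
    key (MvPolynomial (Fin r) L ⧸ U ^ (n + 1)) (Ideal.Quotient.mkₐ L (U ^ (n + 1)))
      (Ideal.Quotient.mkₐ_surjective L _) (Ideal.Quotient.mkₐ_ker L _)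
  intro Q _ _ q hq hker
  let : Algebra k Q := ((algebraMap L Q).comp (algebraMap k L)).toAlgebra
  have : IsScalarTower k L Q := IsScalarTower.of_algebraMap_eq' rfl
  let J : Ideal Q := U.map q.toRingHom
  have hJn : J ^ (n + 1) = ⊥ := by
    change (U.map q.toRingHom) ^ (n + 1) = ⊥
    rw [← Ideal.map_pow, ← hker, eq_bot_iff, Ideal.map_le_iff_le_comap]
    exact fun x hx => by simpa using hx
  let f₀ : B →ₐ[k] Q := MvPolynomial.aeval fun i =>
    q (MvPolynomial.C (algebraMap B L (MvPolynomial.X i)) + MvPolynomial.X i)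
  let g₀ : B →ₐ[k] Q := (IsScalarTower.toAlgHom k L Q).comp (IsScalarTower.toAlgHom k B L)
  have hJ₀ : ∀ b, f₀ b - g₀ b ∈ J := by
    intro b
    refine Ideal.Quotient.eq.mp ?_
    refine AlgHom.congr_fun (φ₁ := (Ideal.Quotient.mkₐ k _).comp f₀)
      (φ₂ := (Ideal.Quotient.mkₐ k _).comp g₀) (MvPolynomial.algHom_ext fun i => ?_) b
    refine Ideal.Quotient.eq.mpr ?_
    change f₀ (MvPolynomial.X i) - algebraMap L Q (algebraMap B L (MvPolynomial.X i)) ∈ _
    have hX' : f₀ (MvPolynomial.X i) =
        q (MvPolynomial.C (algebraMap B L (MvPolynomial.X i)) + MvPolynomial.X i) :=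
      MvPolynomial.aeval_X _ i
    rw [hX', map_add, ← MvPolynomial.algebraMap_eq, AlgHom.commutes, add_sub_cancel_left]
    exact Ideal.mem_map_of_mem _ (Ideal.subset_span ⟨i, rfl⟩)
  have hu : ∀ s : nonZeroDivisors B, IsUnit (f₀ (s : B)) := by
    intro s
    have h1 : IsNilpotent (f₀ (s : B) - g₀ (s : B)) := ⟨n + 1, by
      have := Ideal.pow_mem_pow (hJ₀ s) (n + 1)
      rwa [hJn, Submodule.mem_bot] at this⟩
    have h2 : IsUnit (g₀ (s : B)) := (IsLocalization.map_units L s).map (algebraMap L Q)
    have := h1.isUnit_add_left_of_commute h2 (Commute.all _ _)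
    simpa using this
  let f : L →ₐ[k] Q := IsLocalization.liftAlgHom (M := nonZeroDivisors B) (f := f₀) hu
  have hf : ∀ b, f (algebraMap B L b) = f₀ b := fun b => IsLocalization.lift_eq _ b
  have hJ : ∀ x, f x - algebraMap L Q x ∈ J := by
    intro x
    refine Ideal.Quotient.eq.mp ?_
    refine RingHom.congr_fun (f := (Ideal.Quotient.mk J).comp f.toRingHom)
      (g := (Ideal.Quotient.mk J).comp (algebraMap L Q))
      (IsLocalization.ringHom_ext (nonZeroDivisors B) (RingHom.ext fun b => Ideal.Quotient.eq.mpr ?_)) x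
    change f (algebraMap B L b) - _ ∈ J
    rw [hf]
    exact hJ₀ b
  let ψ : P n k L →ₐ[L] Q := desc n f hJ hJn
  have hcomp : ψ.comp χ = q := by
    refine MvPolynomial.algHom_ext fun i => ?_
    change ψ (χ (MvPolynomial.X i)) = q (MvPolynomial.X i)
    rw [hX, desc_delta, hf, show f₀ (MvPolynomial.X i) = _ from MvPolynomial.aeval_X _ i, map_add,
      ← MvPolynomial.algebraMap_eq, AlgHom.commutes, add_sub_cancel_left]
  have hχker : U ^ (n + 1) ≤ RingHom.ker χ.toRingHom := by
    have hle : U ≤ (augIdeal n k L).comap χ.toRingHom := by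
      rw [Ideal.span_le]
      rintro _ ⟨i, rfl⟩
      change χ (MvPolynomial.X i) ∈ augIdeal n k L
      rw [hX]
      exact delta_mem n k L _
    intro x hx
    have h := Ideal.le_comap_pow χ.toRingHom (n + 1) (Ideal.pow_right_mono hle (n + 1) hx)
    rw [augIdeal_pow] at h
    exact RingHom.mem_ker.mpr ((Submodule.mem_bot _).mp (Ideal.mem_comap.mp h))
  have hs : ∀ x, ∃ y, χ y = dn n k L x := by
    intro x
    have hpoly : ∀ b : B, ∃ y, χ y = dn n k L (algebraMap B L b) := by
      intro b
      induction b using MvPolynomial.induction_on with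
      | C a =>
        refine ⟨algebraMap L _ (algebraMap k L a), ?_⟩
        rw [AlgHom.commutes]
        rw [show (MvPolynomial.C a : B) = algebraMap k B a from rfl,
          ← IsScalarTower.algebraMap_apply k B L, AlgHom.commutes,
          ← IsScalarTower.algebraMap_apply k L (P n k L)]
      | add p s hp hs =>
        obtain ⟨y, hy⟩ := hp; obtain ⟨y', hy'⟩ := hs
        exact ⟨y + y', by rw [map_add, map_add, map_add, hy, hy']⟩
      | mul_X p i hp =>
        obtain ⟨y, hy⟩ := hp
        refine ⟨y * (algebraMap L _ (algebraMap B L (MvPolynomial.X i)) + MvPolynomial.X i), ?_⟩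
        rw [map_mul, map_mul, map_mul, map_add, AlgHom.commutes, hX, hy]
        simp [delta]
    obtain ⟨⟨b, s⟩, hbs⟩ := IsLocalization.surj (nonZeroDivisors B) x
    obtain ⟨y, hy⟩ := hpoly b
    obtain ⟨w, hw⟩ := hpoly s
    obtain ⟨v, hv⟩ : ∃ v, q v * q w = 1 := by
      have : IsUnit (q w) := by
        rw [← AlgHom.congr_fun hcomp w]
        change IsUnit (ψ (χ w))
        rw [hw, desc_dn, hf]
        exact hu s
      obtain ⟨c, hc⟩ := this.exists_left_inv
      obtain ⟨v, rfl⟩ := hq c
      exact ⟨v, hc⟩
    refine ⟨v * y, ?_⟩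
    have h1 : χ (v * w) = 1 := by
      have : v * w - 1 ∈ U ^ (n + 1) := by
        rw [← hker]; simp [RingHom.mem_ker, hv]
      have := hχker this
      simpa [RingHom.mem_ker, sub_eq_zero] using this
    calc χ (v * y) = χ v * (dn n k L x * χ w) := by
          rw [map_mul, hy, hw, ← map_mul (dn n k L), hbs]
      _ = dn n k L x * χ (v * w) := by rw [map_mul]; ring
      _ = dn n k L x := by rw [h1, mul_one]
  have hχs : Function.Surjective χ := by
    have : χ.range = ⊤ := eq_top_of_dn_mem fun b => hs b
    exact AlgHom.range_eq_top χ |>.mp this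
  refine ⟨hχs, le_antisymm (fun x hx => ?_) hχker⟩
  rw [← hker, RingHom.mem_ker]
  change q x = 0
  rw [← AlgHom.congr_fun hcomp x]
  change ψ (χ x) = 0
  rw [show χ x = 0 from RingHom.mem_ker.mp hx, map_zero]

/-- Let k be a field and K the field of fractions of the polynomial ring k[T_1, ..., T_r]. For every n,
the K-algebra map from the polynomial ring K[U_1, ..., U_r] to the ring of principal parts of order
n of K over k (a K-algebra through the first factor) that sends U_i to d^n(T_i) − T_i · 1 is
surjective, and its kernel is the (n+1)-st power of the ideal generated by the U_i. -/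
theorem result (k : Type u) [Field k] (r n : ℕ) :
    Function.Surjective
        (MvPolynomial.aeval (R := FractionRing (MvPolynomial (Fin r) k))
          (S₁ := PP16.P n k (FractionRing (MvPolynomial (Fin r) k)))
          (fun i : Fin r =>
            PP16.dn n k (FractionRing (MvPolynomial (Fin r) k))
                (algebraMap (MvPolynomial (Fin r) k) (FractionRing (MvPolynomial (Fin r) k)) (MvPolynomial.X i)) -
              algebraMap (FractionRing (MvPolynomial (Fin r) k)) (PP16.P n k (FractionRing (MvPolynomial (Fin r) k)))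
                (algebraMap (MvPolynomial (Fin r) k) (FractionRing (MvPolynomial (Fin r) k)) (MvPolynomial.X i)))) ∧
      RingHom.ker
          (MvPolynomial.aeval (R := FractionRing (MvPolynomial (Fin r) k))
            (S₁ := PP16.P n k (FractionRing (MvPolynomial (Fin r) k)))
            (fun i : Fin r =>
              PP16.dn n k (FractionRing (MvPolynomial (Fin r) k))
                  (algebraMap (MvPolynomial (Fin r) k) (FractionRing (MvPolynomial (Fin r) k)) (MvPolynomial.X i)) -
                algebraMap (FractionRing (MvPolynomial (Fin r) k)) (PP16.P n k (FractionRing (MvPolynomial (Fin r) k)))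
                  (algebraMap (MvPolynomial (Fin r) k) (FractionRing (MvPolynomial (Fin r) k)) (MvPolynomial.X i)))).toRingHom =
        (Ideal.span (Set.range (MvPolynomial.X : Fin r → MvPolynomial (Fin r) (FractionRing (MvPolynomial (Fin r) k))))) ^ (n + 1) := by
  exact gen k r n (FractionRing (MvPolynomial (Fin r) k))

end Groth.Agent.S5010
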