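import Groth.Statements.S5012
import Groth.Agent.SchBasics.GenSmoothPts

set_option autoImplicit false
universe u
open Unram17

namespace Groth.Agent.S5012

/-- Let A be an algebra of finite type over a field k. Then Spec A has a dense open subset consisting of
points at which A is smooth over k if and only if, for every minimal prime p of A, the local ring
A_p is geometrically reduced over k (that is, A_p is a field and a separable extension of k). -/
theorem result (k A : Type u) [Field k] [CommRing A] [Algebra k A]
    [Algebra.FiniteType k A] :
    (∃ U : TopologicalSpace.Opens (PrimeSpectrum A), Dense (U : Set (PrimeSpectrum A)) ∧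
        ∀ p ∈ U, Algebra.IsSmoothAt k p.asIdeal) ↔
      ∀ (p : Ideal A) [p.IsPrime], p ∈ minimalPrimes A →
        Algebra.IsGeometricallyReduced k (Localization.AtPrime p) := by
  refine SchBasics.exists_dense_open_smooth_iff.trans ⟨fun h p _ hp => ?_, fun h p _ hp => ?_⟩
  · exact (SchBasics.isSmoothAt_minimal_iff p hp).mp (h p hp)
  · exact (SchBasics.isSmoothAt_minimal_iff p hp).mpr (h p hp)

end Groth.Agent.S5012
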