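import Groth.Statements.S5014
import Groth.Agent.S2789

set_option autoImplicit false
universe u
open Unram17

namespace Groth.Agent.S5014

/-- Let C be a smooth algebra over a commutative ring A, equipped with an A-algebra map from the
polynomial ring in r variables (images s_i of the variables), and let q be a prime of C. Then C is
etale at q over the polynomial ring if and only if the differentials of the s_i are linearly
independent and generate the module of differentials of the local ring C_q over A, i.e. form a basis
of it. -/
theorem result (A C : Type u) [CommRing A] [CommRing C]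
    [Algebra A C] [Algebra.Smooth A C] (r : ℕ) [Algebra (MvPolynomial (Fin r) A) C]
    [IsScalarTower A (MvPolynomial (Fin r) A) C] (q : Ideal C) [q.IsPrime] :
    Algebra.IsEtaleAt (MvPolynomial (Fin r) A) q ↔
      LinearIndependent (Localization.AtPrime q)
          (fun i : Fin r => KaehlerDifferential.D A (Localization.AtPrime q)
            (algebraMap C (Localization.AtPrime q) (algebraMap (MvPolynomial (Fin r) A) C (MvPolynomial.X i)))) ∧
        Submodule.span (Localization.AtPrime q)
          (Set.range fun i : Fin r => KaehlerDifferential.D A (Localization.AtPrime q)
            (algebraMap C (Localization.AtPrime q) (algebraMap (MvPolynomial (Fin r) A) C (MvPolynomial.X i)))) = ⊤ := by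
  classical
  let B := MvPolynomial (Fin r) A
  let Cq := Localization.AtPrime q
  have hs : Algebra.IsSmoothAt A q :=
    Set.eq_univ_iff_forall.mp (Algebra.smoothLocus_eq_univ (R := A) (A := C)) ⟨q, ‹_›⟩
  have h := S2789.result A B C q
  rw [and_iff_left hs, and_iff_right hs] at h
  rw [h]
  let b := (KaehlerDifferential.mvPolynomialBasis A (Fin r)).baseChange Cq
  let v : Fin r → Ω[Cq⁄A] := fun i => KaehlerDifferential.D A Cq
    (algebraMap C Cq (algebraMap B C (MvPolynomial.X i)))
  have hb : ∀ i, KaehlerDifferential.mapBaseChange A B Cq (b i) = v i := by
    intro i
    simp only [b, v, Module.Basis.baseChange_apply, KaehlerDifferential.mvPolynomialBasis_apply,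
      ← IsScalarTower.algebraMap_apply]
    exact (KaehlerDifferential.mapBaseChange_tmul A B Cq _ _).trans
      (by rw [one_smul, KaehlerDifferential.map_D])
  have hf : KaehlerDifferential.mapBaseChange A B Cq =
      (Fintype.linearCombination Cq v) ∘ₗ b.equivFun.toLinearMap := by
    refine b.ext fun i => ?_
    rw [hb]
    simp [Fintype.linearCombination_apply, Finsupp.single_apply, ite_smul]
  rw [hf, LinearMap.coe_comp, LinearEquiv.coe_coe, Function.Bijective.of_comp_iff _ b.equivFun.bijective]
  change Function.Bijective (Fintype.linearCombination Cq v) ↔
    LinearIndependent Cq v ∧ Submodule.span Cq (Set.range v) = ⊤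
  rw [linearIndependent_iff_injective_fintypeLinearCombination, ← Fintype.range_linearCombination,
    LinearMap.range_eq_top]
  rfl

end Groth.Agent.S5014
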