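import Groth.Statements.S5015
import Groth.Agent.SchBasics.DerZero

set_option backward.isDefEq.respectTransparency false

set_option autoImplicit false
universe u
open CategoryTheory CategoryTheory.Limits AlgebraicGeometry TopologicalSpace
open Unram17

namespace Groth.Agent.S5015

/-- Let g : Y ⟶ S and h : X ⟶ S be morphisms and f : X ⟶ Y with f ≫ g = h. Given sheaves of
differentials of Y over S and of X over S (universal derivations dY, dX) and the canonical map c
from the pullback of the former to the latter (the O_X-linear map carrying the pullback of dY s to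
dX of the pullback of s), f is formally unramified if and only if c is an epimorphism of
O_X-modules. -/
theorem result {X Y S : Scheme.{u}} (g : Y ⟶ S) (h : X ⟶ S)
    (f : X ⟶ Y) (w : f ≫ g = h)
    (ΩY : Y.Modules) (dY : OmegaSh.Der g ΩY) (hY : OmegaSh.IsUniversal dY)
    (ΩX : X.Modules) (dX : OmegaSh.Der h ΩX) (hX : OmegaSh.IsUniversal dX)
    (c : (Scheme.Modules.pullback f).obj ΩY ⟶ ΩX) (hc : OmegaSh.IsDiffCompat f dY dX c) :
    FormallyUnramified f ↔ Epi c := by
  subst w
  refine ⟨fun _ => ?_, fun _ => SchBasics.formallyUnramified_of_der fun F D W a => ?_⟩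
  · refine Preadditive.epi_of_cancel_zero _ fun {F} β hβ => ?_
    let D : OmegaSh.Der f F :=
      { d := fun {W} => (β.app W.unop).hom.comp (dX.app W.unop)
        d_mul := fun a b => (dX.postcomp β.val).d_mul a b
        d_map := fun i a => (dX.postcomp β.val).d_map i a
        d_app := fun {V} s => by
          show β.app _ (dX.app (f ⁻¹ᵁ V.unop) (f.app V.unop s)) = 0
          rw [← hc V.unop s]
          exact congr($(congrArg (fun φ => Scheme.Modules.Hom.app φ (f ⁻¹ᵁ V.unop)) hβ)
            (OmegaSh.pullSect f ΩY V.unop (dY.app V.unop s))) }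
    refine (hX F (dX.postcomp β.val)).unique rfl ?_
    refine PresheafOfModules.Derivation.ext (funext fun W => AddMonoidHom.ext fun a => ?_)
    exact (SchBasics.der_app_eq_zero D W.unop a).symm
  · let D' : OmegaSh.Der (f ≫ g) F :=
      { d := fun {W} => D.app W.unop
        d_mul := fun a b => D.d_mul a b
        d_map := fun i a => D.d_map i a
        d_app := fun {V} s => by
          show D.app _ ((f ≫ g).app V.unop s) = 0
          rw [Scheme.Hom.comp_app]
          exact D.d_app (X := Opposite.op (g ⁻¹ᵁ V.unop)) (g.app V.unop s) }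
    obtain ⟨β, hβ, -⟩ := hX F D'
    have hval : ∀ W' a', β.app W' (dX.app W' a') = D.app W' a' := fun W' a' =>
      congrArg (fun E : OmegaSh.Der (f ≫ g) F => E.app W' a') hβ
    let adj := Scheme.Modules.pullbackPushforwardAdjunction f
    have hz : adj.homEquiv ΩY F (c ≫ β) = 0 := by
      refine (hY _ (dY.postcomp (0 : ΩY ⟶ (Scheme.Modules.pushforward f).obj F).val)).unique ?_ rfl
      refine PresheafOfModules.Derivation.ext (funext fun V => AddMonoidHom.ext fun s => ?_)
      refine Eq.trans (?_ : _ = β.app (f ⁻¹ᵁ V.unop) (dX.app _ (f.app V.unop s))) ?_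
      · rw [← hc V.unop s, Adjunction.homEquiv_unit]
        rfl
      · rw [hval]
        exact D.d_app (X := V) s
    have h0 : c ≫ β = 0 := by
      have := congrArg (adj.homEquiv ΩY F).symm hz
      rwa [Equiv.symm_apply_apply, Adjunction.homEquiv_counit, Functor.map_zero, zero_comp] at this
    rw [← hval W a, Limits.zero_of_epi_comp c h0]
    rfl

end Groth.Agent.S5015
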