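import Groth.Statements.S5017
import Groth.Agent.S3042
import Groth.Agent.S9501
import Groth.Agent.SpPts86.MonoField
import Mathlib.AlgebraicGeometry.Fiber
import Mathlib.AlgebraicGeometry.Morphisms.Preimmersion

set_option autoImplicit false
universe u
open CategoryTheory CategoryTheory.Limits AlgebraicGeometry TopologicalSpace
open Unram17

namespace Groth.Agent.S5017

/-- Let f : X ⟶ Y be locally of finite type. Then f is a monomorphism if and only if, for every point x
of X with image y, x is the only point of its fibre and the canonical map from the residue field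
κ(y) to the quotient of the local ring of X at x by the extension of the maximal ideal at y is
bijective (each nonempty fibre is Spec κ(y)). -/
theorem result {X Y : Scheme.{u}} (f : X ⟶ Y) [LocallyOfFiniteType f] :
    Mono f ↔ ∀ x : ↥X,
      (∀ x' : ↥X, f.base x' = f.base x → x' = x) ∧
        Function.Bijective
          (Ideal.quotientMap
            ((IsLocalRing.maximalIdeal ↑(Y.presheaf.stalk (f.base x))).map (f.stalkMap x).hom)
            (f.stalkMap x).hom Ideal.le_comap_map) := by
  have hkey : ∀ (y : Y) (z : f.fiber y),
      (Function.Bijective (Ideal.quotientMap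
            ((IsLocalRing.maximalIdeal ↑(Y.presheaf.stalk (f.base (f.fiberι y z)))).map (f.stalkMap (f.fiberι y z)).hom)
            (f.stalkMap (f.fiberι y z)).hom Ideal.le_comap_map)) ↔
        Function.Surjective ((f.fiberToSpecResidueField y).stalkMap z).hom := by
    intro y z
    obtain ⟨hs, hk⟩ := Groth.Agent.S9501.result f y z
    have e := Scheme.Hom.stalkMap_congr_hom _ _ (f.fiber_fac y) z
    rw [Scheme.Hom.stalkMap_comp, Scheme.Hom.stalkMap_comp] at e
    have hcomp : Function.Surjective ((f.fiberι y).stalkMap z).hom →
        (Function.Surjective (f.stalkMap (f.fiberι y z) ≫ (f.fiberι y).stalkMap z).hom ↔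
          Function.Surjective ((f.fiberToSpecResidueField y).stalkMap z).hom) := by
      intro _
      rw [e]
      constructor
      · intro h b
        obtain ⟨r, hr⟩ := h b
        exact ⟨_, hr⟩
      · intro h b
        obtain ⟨c, rfl⟩ := h b
        obtain ⟨d, rfl⟩ := (Y.fromSpecResidueField y).stalkMap_surjective _ c
        obtain ⟨d', rfl⟩ := (ConcreteCategory.bijective_of_isIso
          ((Y.presheaf.stalkCongr (.of_eq (congrArg (fun φ => φ.base z) (f.fiber_fac y)))).hom)).surjective d
        exact ⟨d', rfl⟩
    rw [← hcomp hs]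
    set φ := (f.stalkMap (f.fiberι y z)).hom
    set ψ := ((f.fiberι y).stalkMap z).hom
    rw [CommRingCat.hom_comp]
    constructor
    · intro hb b
      obtain ⟨a, rfl⟩ := hs b
      obtain ⟨r, hr⟩ := hb.surjective (Ideal.Quotient.mk _ a)
      obtain ⟨r, rfl⟩ := Ideal.Quotient.mk_surjective r
      rw [Ideal.quotientMap_mk, Ideal.Quotient.eq] at hr
      refine ⟨r, ?_⟩
      rw [← hk, RingHom.mem_ker, map_sub, sub_eq_zero] at hr
      exact hr
    · intro h
      refine ⟨?_, ?_⟩
      · have : Nontrivial (X.presheaf.stalk (f.fiberι y z) ⧸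
            (IsLocalRing.maximalIdeal (Y.presheaf.stalk (f.base (f.fiberι y z)))).map φ) :=
          Ideal.Quotient.nontrivial_iff.mpr (hk ▸ RingHom.ker_ne_top ψ)
        letI := Ideal.Quotient.field (IsLocalRing.maximalIdeal (Y.presheaf.stalk (f.base (f.fiberι y z))))
        exact RingHom.injective _
      · intro b
        obtain ⟨a, rfl⟩ := Ideal.Quotient.mk_surjective b
        obtain ⟨r, hr⟩ := h (ψ a)
        refine ⟨Ideal.Quotient.mk _ r, ?_⟩
        rw [Ideal.quotientMap_mk, Ideal.Quotient.eq, ← hk, RingHom.mem_ker, map_sub, sub_eq_zero]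
        exact hr
  have hpt : ∀ (y : Y) (x : X), f.base x = y → ∃ z : f.fiber y, f.fiberι y z = x := fun y x h => by
    have : x ∈ Set.range (f.fiberι y) := by rw [Scheme.Hom.range_fiberι]; exact h
    exact this
  rw [Groth.Agent.S3042.result X Y f]
  constructor
  · intro h x
    obtain ⟨z, hz⟩ := hpt _ x rfl
    have hm : Mono (f.fiberToSpecResidueField (f x)) := h (f x)
    have : Nonempty ↥(f.fiber (f x)) := ⟨z⟩
    haveI hiso : IsIso (f.fiberToSpecResidueField (f x)) :=
      @Groth.Agent.SpPts86.isIso_of_mono_spec_field (Y.residueField (f x)) _ (f.fiber (f x)) (f.fiberToSpecResidueField (f x)) hm ‹_›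
    refine ⟨fun x' hx' => ?_, ?_⟩
    · obtain ⟨z', hz'⟩ := hpt (f x) x' hx'
      refine hz'.symm.trans (Eq.trans ?_ hz)
      exact congrArg _ ((f.fiberToSpecResidueField (f x)).isOpenEmbedding.injective (Subsingleton.elim _ _))
    · have h1 := (hkey (f x) z).mpr (ConcreteCategory.bijective_of_isIso _).surjective
      revert h1
      rw [hz]
      exact id
  · intro h y
    suffices IsOpenImmersion (f.fiberToSpecResidueField y) by infer_instance
    have hsub : Subsingleton ↥(f.fiber y) := ⟨fun a b => by
      refine (f.fiberι y).isEmbedding.injective ((h (f.fiberι y b)).1 _ ?_)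
      have ha : f.fiberι y a ∈ Set.range (f.fiberι y) := ⟨a, rfl⟩
      have hb : f.fiberι y b ∈ Set.range (f.fiberι y) := ⟨b, rfl⟩
      rw [Scheme.Hom.range_fiberι] at ha hb
      exact ha.trans hb.symm⟩
    rw [IsOpenImmersion.iff_isIso_stalkMap]
    refine ⟨.of_continuous_injective_isOpenMap (f.fiberToSpecResidueField y).continuous
      (fun a b _ => Subsingleton.elim a b) (fun s _ => ?_), fun z => ?_⟩
    · haveI : Subsingleton ↥(Spec (Y.residueField y)) := inferInstance
      exact isOpen_discrete _
    · refine (ConcreteCategory.isIso_iff_bijective _).mpr ⟨?_, (hkey y z).mp (h _).2⟩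
      haveI : IsField ((Spec (Y.residueField y)).presheaf.stalk (f.fiberToSpecResidueField y z)) := by
        let e := (AlgebraicGeometry.Spec.stalkIso (Y.residueField y) (f.fiberToSpecResidueField y z)).commRingCatIsoToRingEquiv
        refine MulEquiv.isField ?_ e.toMulEquiv
        letI : Field (Y.residueField y) := inferInstance
        exact ((IsLocalization.atUnits (Y.residueField y) (f.fiberToSpecResidueField y z).asIdeal.primeCompl
          (S := Localization.AtPrime (f.fiberToSpecResidueField y z).asIdeal) (fun r hr => isUnit_iff_ne_zero.mpr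
            fun h0 => hr (h0 ▸ Ideal.zero_mem _))).symm.toMulEquiv.isField (Field.toIsField _))
      letI := this.toField
      exact RingHom.injective _

end Groth.Agent.S5017
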