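import Groth.Statements.S5021
import Groth.Agent.SchBasics.KaehlerNhd
import Groth.Agent.SchBasics.ConormalSplit
import Groth.Agent.SchBasics.ClosedChart
import Groth.Agent.FlatMor68.LocFree
import Groth.Agent.S1488

set_option backward.isDefEq.respectTransparency false
open scoped TensorProduct

set_option autoImplicit false
universe u
open CategoryTheory CategoryTheory.Limits AlgebraicGeometry TopologicalSpace
open Unram17

namespace Groth.Agent.S5021

/-- Let f : X ⟶ Y be smooth and j : X' ⟶ X a quasi-compact immersion such that j ≫ f is smooth. Then for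
every point x of X' there are an open neighbourhood U of x and an integer n with the conormal sheaf
of j free of rank n on U, and the local dimension at j(x) of the fibre of f through j(x) equals the
local dimension at x of the fibre of j ≫ f through x plus n. (The published statement allows any
immersion j; this row assumes j quasi-compact, the case in which the conormal sheaf used here is
known to be the conormal sheaf of j.) -/
theorem result {X' X Y : Scheme.{u}} (f : X ⟶ Y) [Smooth f]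
    (j : X' ⟶ X) [IsImmersion j] [QuasiCompact j] [Smooth (j ≫ f)] (x : ↥X') :
    ∃ (U : X'.Opens) (n : ℕ), x ∈ U ∧ Nonempty ((Omega.conormal j).restrict U.ι ≅ FlatMod.freeMod (↑U) n) ∧
      FlatMor.fibreDimAt f (j.base x) = FlatMor.fibreDimAt (j ≫ f) x + (n : WithBot ℕ∞) := by
  have hfs : MoreMor.IsFormallySmoothHom (j ≫ f) := ((S1488.result (j ≫ f)).1 ‹_›).2
  haveI : (ClSub.idealMod j.ker).IsQuasicoherent := Omega57.isQuasicoherent_idealMod j.ker
  haveI : (Omega.conormal j).IsQuasicoherent := QCPull72.isQuasicoherent_pullback j _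
  have hsmooth : ∀ {A B : Scheme.{u}} (g : A ⟶ B) [Smooth g] (a : A), (g.stalkMap a).hom.FormallySmooth :=
    fun {A B} g _ a => g.smoothLocus_eq_top.ge (trivial : a ∈ (⊤ : A.Opens))
  -- charts adapted to a point
  have hloc : FlatMod.IsFinLocFree (Omega.conormal j) := by
    refine FlatMor68.LocFree.isFinLocFree_of_projective_sections _ fun p => ?_
    obtain ⟨V₀, hV₀, hpV₀, -⟩ := exists_isAffineOpen_mem_and_subset (X := Y) (x := f (j p)) (U := ⊤) trivial
    obtain ⟨T1, a, hpT1, -, hT1⟩ := SchBasics.exists_kaehler_free_nhd f (j p) (hsmooth f _) hV₀ hpV₀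
    obtain ⟨W, hW, hV, hpW, hWT, hsurj⟩ := SchBasics.exists_closed_chart_le j (z := p)
      (T1 ⊓ f ⁻¹ᵁ V₀) ⟨hpT1, hpV₀⟩
    have eW : W ≤ f ⁻¹ᵁ V₀ := fun y hy => (hWT hy).2
    have eV : j ⁻¹ᵁ W ≤ (j ≫ f) ⁻¹ᵁ V₀ := fun y hy => eW hy
    obtain ⟨e⟩ := SchBasics.exists_conormal_split j hfs hW hV hsurj hV₀ eW eV
    letI := (f.appLE V₀ W eW).hom.toAlgebra
    letI := ((j ≫ f).appLE V₀ (j ⁻¹ᵁ W) eV).hom.toAlgebra
    letI := (j.app W).hom.toAlgebra
    obtain ⟨cB⟩ := hT1 W hW (fun y hy => (hWT hy).1) eW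
    let bB := Module.Basis.ofEquivFun cB
    let bG := Algebra.TensorProduct.basis Γ(X', j ⁻¹ᵁ W) bB
    haveI := Module.Free.of_basis bG
    haveI := Module.Finite.of_basis bG
    refine ⟨j ⁻¹ᵁ W, hV, hpW, ?_, ?_⟩
    · refine Module.Projective.of_split (e.symm.toLinearMap.comp (LinearMap.inl _ _ _))
        ((LinearMap.fst _ _ _).comp e.toLinearMap) (LinearMap.ext fun z => by simp)
    · exact Module.Finite.of_surjective ((LinearMap.fst _ _ _).comp e.toLinearMap)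
        (Prod.fst_surjective.comp e.surjective)
  obtain ⟨U₃, n, hxU₃, ⟨i₃⟩⟩ := hloc x
  obtain ⟨V₀, hV₀, hxV₀, -⟩ := exists_isAffineOpen_mem_and_subset (X := Y) (x := f (j x)) (U := ⊤) trivial
  obtain ⟨T1, a, hxT1, ha, hT1⟩ := SchBasics.exists_kaehler_free_nhd f (j x) (hsmooth f _) hV₀ hxV₀
  obtain ⟨T2, b, hxT2, hb, hT2⟩ := SchBasics.exists_kaehler_free_nhd (j ≫ f) x (hsmooth (j ≫ f) _) hV₀ hxV₀
  obtain ⟨P₀, hP₀, hP₀e⟩ := j.isEmbedding.isInducing.isOpen_iff.1 (U₃ ⊓ T2).2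
  obtain ⟨W, hW, hV, hxW, hWT, hsurj⟩ := SchBasics.exists_closed_chart_le j (z := x)
    (T1 ⊓ f ⁻¹ᵁ V₀ ⊓ ⟨P₀, hP₀⟩) ⟨⟨hxT1, hxV₀⟩, hP₀e.ge ⟨hxU₃, hxT2⟩⟩
  have eW : W ≤ f ⁻¹ᵁ V₀ := fun y hy => (hWT hy).1.2
  have eV : j ⁻¹ᵁ W ≤ (j ≫ f) ⁻¹ᵁ V₀ := fun y hy => eW hy
  have hle : j ⁻¹ᵁ W ≤ U₃ ⊓ T2 := fun y hy => hP₀e.le (hWT hy).2
  obtain ⟨e⟩ := SchBasics.exists_conormal_split j hfs hW hV hsurj hV₀ eW eV
  letI := (f.appLE V₀ W eW).hom.toAlgebra
  letI := ((j ≫ f).appLE V₀ (j ⁻¹ᵁ W) eV).hom.toAlgebra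
  letI := (j.app W).hom.toAlgebra
  obtain ⟨cB⟩ := hT1 W hW (fun y hy => (hWT hy).1.1) eW
  obtain ⟨cC⟩ := hT2 (j ⁻¹ᵁ W) hV (hle.trans inf_le_right) eV
  obtain ⟨cN⟩ := Var76.OmegaRegular.sections_free i₃ (hle.trans inf_le_left)
  haveI : Nontrivial Γ(X', j ⁻¹ᵁ W) := (X'.presheaf.germ (j ⁻¹ᵁ W) x hxW).hom.domain_nontrivial
  let bG := Algebra.TensorProduct.basis Γ(X', j ⁻¹ᵁ W) (Module.Basis.ofEquivFun cB)
  haveI := Module.Free.of_equiv cC.symm
  haveI := Module.Free.of_equiv cN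
  haveI := Module.Finite.equiv cC.symm
  haveI := Module.Finite.equiv cN
  have h1 := e.finrank_eq
  rw [Module.finrank_eq_card_basis bG, Module.finrank_prod, ← cN.finrank_eq, cC.finrank_eq,
    Module.finrank_fin_fun, Module.finrank_fin_fun, Fintype.card_fin] at h1
  refine ⟨U₃, n, hxU₃, ⟨i₃⟩, ?_⟩
  rw [show FlatMor.fibreDimAt f (j.base x) = (a : WithBot ℕ∞) from ha, hb, h1, Nat.cast_add, add_comm]

end Groth.Agent.S5021
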