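import Groth.Statements.S5022
import Groth.Agent.SchBasics.SmoothOmega
import Mathlib.RingTheory.Smooth.Flat
set_option backward.isDefEq.respectTransparency false

set_option autoImplicit false
universe u
open CategoryTheory CategoryTheory.Limits AlgebraicGeometry TopologicalSpace
open Unram17

namespace Groth.Agent.S5022

/-- Let f : X ⟶ Y be locally of finite presentation, (Ω', d) a sheaf of differentials of X over Y (d
universal) and x a point of X. Then f is smooth at x if and only if the stalk map at x is flat and
there are an open neighbourhood U of x and an integer n with Ω' free of rank n on U and n equal to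
the local dimension at x of the fibre of f through x. -/
theorem result {X Y : Scheme.{u}} (f : X ⟶ Y)
    [LocallyOfFinitePresentation f] (Ω' : X.Modules) (d : OmegaSh.Der f Ω') (hd : OmegaSh.IsUniversal d) (x : ↥X) :
    x ∈ f.smoothLocus ↔
      (f.stalkMap x).hom.Flat ∧
        ∃ (U : X.Opens) (n : ℕ), x ∈ U ∧ Nonempty (Ω'.restrict U.ι ≅ FlatMod.freeMod (↑U) n) ∧
          FlatMor.fibreDimAt f x = (n : WithBot ℕ∞) := by
  refine ⟨fun h => ⟨?_, SchBasics.exists_free_nhd_of_formallySmooth_stalk hd x h⟩,
    fun ⟨hflat, U, n, hx, ⟨i⟩, hdim⟩ => SchBasics.mem_smoothLocus_of_free hd x hflat U n hx i hdim⟩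
  obtain ⟨V, hV, U, hU, e, hxU, hs⟩ := exists_smooth_of_formallySmooth_stalk f x h
  have hflat : (f.appLE V U e).hom.Flat := hs.flat
  haveI : IsAffine U := hU
  haveI : IsAffine V := hV
  haveI : Flat (f.resLE V U e) := by
    rw [HasRingHomProperty.iff_of_isAffine (P := @Flat)]
    exact (RingHom.Flat.respectsIso.arrow_mk_iso_iff (arrowResLEAppIso f V U e)).2 hflat
  haveI : Flat (U.ι ≫ f) := by
    rw [← Scheme.Hom.resLE_comp_ι f e]
    infer_instance
  let y : (U : Scheme) := ⟨x, hxU⟩
  have h1 : ((U.ι ≫ f).stalkMap y).hom.Flat := Flat.stalkMap _ _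
  rw [Scheme.Hom.stalkMap_comp] at h1
  haveI : IsIso (U.ι.stalkMap y) := inferInstance
  exact (RingHom.Flat.respectsIso.cancel_right_isIso _ _).1 h1

end Groth.Agent.S5022
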