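import Groth.Statements.S5024
import Groth.Agent.SchBasics.SmoothChart
import Groth.Agent.Hensel20.SerreEquiv

set_option autoImplicit false
universe u
open CategoryTheory CategoryTheory.Limits AlgebraicGeometry TopologicalSpace
open Unram17

namespace Groth.Agent.S5024

/-- Let Y be locally Noetherian and f : X ⟶ Y locally of finite type, smooth on an open neighbourhood of
a point x with image y. Then for every n the local ring of X at x has Serre's property (S_n),
respectively (R_n), if and only if the local ring of Y at y has it. -/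
theorem result {X Y : Scheme.{u}} (f : X ⟶ Y)
    [IsLocallyNoetherian Y] [LocallyOfFiniteType f] (x : ↥X)
    (hx : ∃ U : X.Opens, x ∈ U ∧ Smooth (U.ι ≫ f)) (n : ℕ) :
    (LocCoh.HasSk n ↑(X.presheaf.stalk x) ↑(X.presheaf.stalk x) ↔
        LocCoh.HasSk n ↑(Y.presheaf.stalk (f.base x)) ↑(Y.presheaf.stalk (f.base x))) ∧
      (LocCoh.HasRk n ↑(X.presheaf.stalk x) ↔ LocCoh.HasRk n ↑(Y.presheaf.stalk (f.base x))) := by
  obtain ⟨A, B, _, _, _, _, _, _, q, _, ⟨e⟩, ⟨e'⟩⟩ := SchBasics.exists_smooth_chart f x hx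
  obtain ⟨hS, hR⟩ := SchBasics.hasSk_hasRk_iff_of_smooth (A := A) q n
  have : IsNoetherianRing (Localization.AtPrime q) :=
    IsLocalization.isNoetherianRing q.primeCompl _ inferInstance
  have : IsNoetherianRing (Localization.AtPrime (q.under A)) :=
    IsLocalization.isNoetherianRing (q.under A).primeCompl _ inferInstance
  have := isNoetherianRing_of_ringEquiv _ e.symm
  have := isNoetherianRing_of_ringEquiv _ e'.symm
  exact ⟨⟨fun h => Hensel20.hasSk_of_ringEquiv e'.symm n (hS.1 (Hensel20.hasSk_of_ringEquiv e n h)),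
      fun h => Hensel20.hasSk_of_ringEquiv e.symm n (hS.2 (Hensel20.hasSk_of_ringEquiv e' n h))⟩,
    ⟨fun h => Hensel20.hasRk_of_ringEquiv e'.symm n (hR.1 (Hensel20.hasRk_of_ringEquiv e n h)),
      fun h => Hensel20.hasRk_of_ringEquiv e.symm n (hR.2 (Hensel20.hasRk_of_ringEquiv e' n h))⟩⟩

end Groth.Agent.S5024
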