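import Groth.Statements.S5029
import Groth.Agent.EGAProj74.VectorBundle
import Groth.Agent.Props58.LocFree.Affine
import Groth.Agent.CAlg1.SymAlg
import Mathlib.AlgebraicGeometry.Morphisms.Smooth
set_option backward.isDefEq.respectTransparency.types false

set_option autoImplicit false
universe u
open CategoryTheory CategoryTheory.Limits AlgebraicGeometry TopologicalSpace
open Unram17

namespace Groth.Agent.S5029

/-- Let S be a scheme and E a quasi-coherent O_S-module that is finite locally free. If A is a
quasi-coherent O_S-algebra which is the symmetric algebra of E (through j : E ⟶ A), then the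
structure morphism of the relative spectrum of A, i.e. of the vector bundle V(E), is smooth. -/
theorem result {S : Scheme.{u}} (E : S.Modules) (hE : Coh.IsQCoh E)
    (hlf : FlatMod.IsFinLocFree E) (A : RelSpec.QCAlg S) (j : E ⟶ A.toModule) (hA : RelSpec.IsSymAlg E A j) :
    Smooth A.π := by
  refine (IsZariskiLocalAtSource.iff_of_openCover A.glueData.cover).mpr fun U => ?_
  change Smooth (A.ι U.1 U.2 ≫ A.π)
  rw [A.ι_π]
  have hE' : E.IsQuasicoherent := hE
  have hfin : Module.Finite Γ(S, U.1) Γ(E, U.1) := by
    have := Props58.LocFree.isFiniteType_of_isFinLocFree hlf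
    exact QC70.finite_sections_of_isFiniteType E U.2
  have := Props58.LocFree.projective_sections hlf U.2
  obtain ⟨e, he, -⟩ := EGAProj74.exists_symAlg_equiv hE' hA U.1 U.2
  have hsm : Algebra.Smooth Γ(S, U.1) (SymmetricAlgebra Γ(S, U.1) Γ(E, U.1)) :=
    CAlg1.smooth_symmetricAlgebra_iff.2 ⟨hfin, this⟩
  have hψ : (A.str.app (Opposite.op U.1)).hom.Smooth := by
    rw [show (A.str.app (Opposite.op U.1)).hom =
      e.symm.toRingHom.comp (algebraMap Γ(S, U.1) (SymmetricAlgebra Γ(S, U.1) Γ(E, U.1))) from
      RingHom.ext fun r => (e.symm_apply_eq.2 (he r).symm).symm]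
    exact (RingHom.smooth_algebraMap.2 hsm).comp
      (RingHom.Smooth.respectsIso.1 (RingHom.id _) e.symm
        (RingHom.Smooth.id _))
  have : Smooth (Spec.map (A.str.app (Opposite.op U.1))) :=
    (HasRingHomProperty.Spec_iff (P := @Smooth)).mpr hψ
  infer_instance

end Groth.Agent.S5029
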