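import Groth.Statements.S5034
import Groth.Agent.Hensel20.MonicCriteria

set_option autoImplicit false
universe u
open Hensel

namespace Groth.Agent.S5034

/-- a') implies a): let R be a local ring such that for every monic polynomial F over R the quotient
ring R[T]/(F) is isomorphic, as a ring, to a finite product of local rings. Then R is henselian. -/
theorem result (R : Type u) [CommRing R] [IsLocalRing R]
    (h : ∀ F : Polynomial R, F.Monic →
      ∃ (ι : Type u) (_ : Fintype ι) (A : ι → Type u) (_ : ∀ i, CommRing (A i)),
        (∀ i, IsLocalRing (A i)) ∧ Nonempty (AdjoinRoot F ≃+* (∀ i, A i))) :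
    HenselianLocalRing R := by
  have hI : IsLocalRing.maximalIdeal R ≤ Ideal.jacobson ⊥ :=
    (IsLocalRing.jacobson_eq_maximalIdeal ⊥ bot_ne_top).ge
  have := Hensel20.henselianRing_of_hasFactorLift hI
    (Hensel20.hasFactorLift_of_adjoinRoot hI fun f hf b hb => by
      obtain ⟨ι, _, A, _, hA, ⟨φ⟩⟩ := h f hf
      exact Hensel20.exists_idem_of_pi_local hA φ hb)
  exact Hensel20.henselianLocalRing_of_henselianRing R

end Groth.Agent.S5034
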