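import Groth.Statements.S5042
import Groth.Agent.Henz21.GRingJ2
import Groth.Agent.Hensel20.CatenaryLimit
import Groth.Agent.Henz21.FaithfullyFlat
-- import your own Groth.Agent.* helpers here

set_option autoImplicit false
universe u
open Hensel

namespace Groth.Agent.S5042

/-- The henselization S of an excellent local ring R is excellent. -/
theorem result (R S : Type u) [CommRing R] [IsLocalRing R]
    [CommRing S] [IsLocalRing S] [Algebra R S] [IsLocalHom (algebraMap R S)] [Hensel.IsHenselization R S]
    (h : EGA4.IsExcellent R) : EGA4.IsExcellent S := by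
  have : IsNoetherianRing R := h.1
  have hG := CAlg1.GR.isGRing_henselization (S := S) h.2.2.1
  exact ⟨hG.1, Hensel20.isUniversallyCatenary_of_equiv (Henz21.henselizationEquiv (R := R) S) h.2.1,
    hG, Henz21.isJ2_of_isGRing S hG⟩

end Groth.Agent.S5042
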