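import Groth.Statements.S5045
import Groth.Agent.Unr55.GlueConn
-- import your own Groth.Agent.* helpers here

set_option autoImplicit false
open CategoryTheory AlgebraicGeometry
universe u
open Unram

namespace Groth.Agent.S5045

/-- Let X and Y be locally Noetherian schemes with X connected and all local rings of Y geometrically
unibranch, and let f : X ⟶ Y be flat with geometrically reduced fibres. Then for every closed subset
T of X whose image is nowhere dense in Y, the complement of T in X is connected. -/
theorem result {X Y : Scheme.{u}} [IsLocallyNoetherian X]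
    [IsLocallyNoetherian Y] [ConnectedSpace ↥X] (hY : ∀ y : Y, CAlg2.IsGeomUnibranch (Y.presheaf.stalk y))
    (f : X ⟶ Y) [Flat f] [GeometricallyReduced f]
    (T : Set ↥X) (hT : IsClosed T) (hT' : interior (closure (f.base '' T)) = ∅) :
    IsConnected Tᶜ := by
  refine Unr55.isConnected_of_local Tᶜ fun x => Unr55.isConnected_inter_of_fromSpecStalk x _ ?_
  let A := Y.presheaf.stalk (f x)
  let B := X.presheaf.stalk x
  let : Algebra A B := (f.stalkMap x).hom.toAlgebra
  have : Module.Flat A B := Flat.stalkMap f x
  have : IsLocalHom (algebraMap A B) := inferInstanceAs (IsLocalHom (f.stalkMap x).hom)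
  obtain ⟨hG, hgen⟩ := Unr55.isConnected_generic (A := A) (B := B) (hY (f x))
    (Unr55.stalkMap_fiber_isGeometricallyReduced f x)
  have hp : (nilradical A).IsPrime := (Ideal.Quotient.isDomain_iff_prime _).1 (hY (f x)).1.1
  let η₀ : PrimeSpectrum A := ⟨nilradical A, hp⟩
  have hη : Y.fromSpecStalk (f x) η₀ ∉ closure (f.base '' T) := by
    refine Unr55.notMem_of_maximal_of_interior_eq_empty isClosed_closure hT' _ fun z hz => ?_
    have hzr : z ∈ Set.range (Y.fromSpecStalk (f x)) := by
      rw [Scheme.range_fromSpecStalk]
      exact hz.trans (Scheme.range_fromSpecStalk.le (Set.mem_range_self η₀))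
    obtain ⟨p, rfl⟩ := hzr
    have hp' : p ⤳ η₀ := (Y.fromSpecStalk (f x)).isEmbedding.isInducing.specializes_iff.1 hz
    refine congrArg _ (PrimeSpectrum.ext (le_antisymm ?_ (nilradical_le_prime p.asIdeal)))
    exact (PrimeSpectrum.le_iff_specializes p η₀).2 hp'
  refine hG.subset_closure (fun q hq hqT => hη (subset_closure ⟨X.fromSpecStalk x q, hqT, ?_⟩))
    fun q _ => ?_
  · show f (X.fromSpecStalk x q) = _
    rw [← Scheme.Hom.comp_apply, ← Scheme.SpecMap_stalkMap_fromSpecStalk, Scheme.Hom.comp_apply]
    exact congrArg _ (PrimeSpectrum.ext hq)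
  · obtain ⟨g, hg, hgq⟩ := hgen q
    exact hgq.mem_closed isClosed_closure (subset_closure hg)

end Groth.Agent.S5045
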