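import Groth.Statements.S5046
import Groth.Agent.Unr55.GlueConn
-- import your own Groth.Agent.* helpers here

set_option autoImplicit false
open CategoryTheory AlgebraicGeometry
universe u
open Unram

namespace Groth.Agent.S5046

/-- Let A be a Noetherian local domain of Krull dimension at least 2 which is geometrically unibranch, X
a connected locally Noetherian scheme and f : X ⟶ Spec A a flat morphism. Then for every closed
subset T of X lying over the closed point of Spec A, the complement of T in X is connected. -/
theorem result (A : Type u) [CommRing A]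
    [IsNoetherianRing A] [IsLocalRing A] [IsDomain A] (hA : CAlg2.IsGeomUnibranch A) (hdim : 2 ≤ ringKrullDim A)
    {X : Scheme.{u}} [IsLocallyNoetherian X] [ConnectedSpace ↥X] (f : X ⟶ Spec (CommRingCat.of A)) [Flat f]
    (T : Set ↥X) (hT : IsClosed T) (hTy : ∀ x ∈ T, f.base x = IsLocalRing.closedPoint A) :
    IsConnected Tᶜ := by
  refine Unr55.isConnected_of_local Tᶜ fun x => Unr55.isConnected_inter_of_fromSpecStalk x _ ?_
  let B := X.presheaf.stalk x
  let c := IsLocalRing.closedPoint A
  have hmax : ∀ z : PrimeSpectrum A, c ⤳ z → z = c := fun z hz => PrimeSpectrum.ext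
    ((IsLocalRing.maximalIdeal.isMaximal A).eq_of_le z.isPrime.ne_top
      ((PrimeSpectrum.le_iff_specializes c z).2 hz)).symm
  by_cases hx : f.base x = c
  · let ψ : CommRingCat.of A ⟶ B := Spec.preimage (X.fromSpecStalk x ≫ f)
    have hψ : Spec.map ψ = X.fromSpecStalk x ≫ f := Spec.map_preimage _
    let : Algebra A B := ψ.hom.toAlgebra
    have : Module.Flat A B := by
      have : Flat (Spec.map ψ) := hψ ▸ inferInstance
      exact (HasRingHomProperty.Spec_iff (P := @Flat)).1 this
    have hcomap : ∀ q : PrimeSpectrum B,
        PrimeSpectrum.comap (algebraMap A B) q = f.base (X.fromSpecStalk x q) := fun q => by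
      show Spec.map ψ q = _
      rw [hψ]
      exact Scheme.Hom.comp_apply _ _ _
    have : IsLocalHom (algebraMap A B) := ((IsLocalRing.local_hom_TFAE (algebraMap A B)).out 0 4).2 (by
      have := hcomap (IsLocalRing.closedPoint B)
      rw [Scheme.fromSpecStalk_closedPoint, hx] at this
      exact congrArg PrimeSpectrum.asIdeal this)
    have hne : ∀ q : PrimeSpectrum B, PrimeSpectrum.comap (algebraMap A B) q ≠ c →
        X.fromSpecStalk x q ∈ Tᶜ := fun q hq hqT => hq ((hcomap q).trans (hTy _ hqT))
    have hgen : ∀ q : PrimeSpectrum B, ∃ g : PrimeSpectrum B,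
        PrimeSpectrum.comap (algebraMap A B) g ≠ c ∧ g ⤳ q := fun q => by
      obtain ⟨g, hgq, hg⟩ := Unr55.exists_generic_specializes (A := A) q
      refine ⟨g, fun h => ?_, (PrimeSpectrum.le_iff_specializes g q).1 hgq⟩
      have h0 : IsLocalRing.maximalIdeal A = ⊥ := (congrArg PrimeSpectrum.asIdeal h).symm.trans hg
      rw [ringKrullDim_eq_zero_of_isField (IsLocalRing.isField_iff_maximalIdeal_eq.2 h0)] at hdim
      exact absurd hdim (by decide)
    refine _root_.IsConnected.subset_closure ⟨?_, Unr55.isPreconnected_punctured (B := B) hA hdim⟩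
      hne fun q _ => ?_
    · obtain ⟨g, hg, -⟩ := hgen (IsLocalRing.closedPoint B)
      exact ⟨g, hg⟩
    · obtain ⟨g, hg, hgq⟩ := hgen q
      exact hgq.mem_closed isClosed_closure (subset_closure hg)
  · have hall : (X.fromSpecStalk x) ⁻¹' Tᶜ = Set.univ := Set.eq_univ_of_forall fun q hqT => hx (by
      have hqx : X.fromSpecStalk x q ⤳ x := Scheme.range_fromSpecStalk.le (Set.mem_range_self q)
      have := hqx.map f.continuous
      rw [hTy _ hqT] at this
      exact hmax _ this)
    rw [hall]
    have hirr : ConnectedSpace (PrimeSpectrum B) := by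
      refine (Groth.Agent.CAlg6.connectedSpace_iff_idempotent _).2 ⟨inferInstance, fun e he => ?_⟩
      rcases IsLocalRing.isUnit_or_isUnit_one_sub_self e with hu | hu
      · exact Or.inr (hu.mul_left_cancel (he.eq.trans (mul_one e).symm))
      · exact Or.inl (hu.mul_left_cancel (b := e) (c := 0)
          (by rw [sub_mul, one_mul, he.eq, sub_self, mul_zero]))
    exact @isConnected_univ (PrimeSpectrum B) _ hirr

end Groth.Agent.S5046
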