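import Groth.Statements.S5050
import Mathlib

set_option autoImplicit false
universe u v
open CInt

namespace Groth.Agent.S5050

/-- Let A be a Noetherian ring, N a finitely generated A-module, E and F submodules of N and Q an ideal
of A. For every natural number k there is h > 0 with E ⊓ (F ⊔ Q^h N) ≤ (E ⊓ F) ⊔ Q^k N. -/
theorem result {A : Type u} [CommRing A] [IsNoetherianRing A] {N : Type v} [AddCommGroup N]
    [Module A N] [Module.Finite A N] (E F : Submodule A N) (Q : Ideal A) (k : ℕ) :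
    ∃ h : ℕ, 0 < h ∧ E ⊓ (F ⊔ Q ^ h • (⊤ : Submodule A N)) ≤ (E ⊓ F) ⊔ Q ^ k • (⊤ : Submodule A N) := by
  obtain ⟨c, hc⟩ := Ideal.exists_pow_inf_eq_pow_smul Q (E.map F.mkQ)
  refine ⟨c + k + 1, by omega, fun x hx => ?_⟩
  obtain ⟨hxE, hx'⟩ := hx
  have h1 : F.mkQ x ∈ Q ^ (c + k + 1) • (⊤ : Submodule A (N ⧸ F)) := by
    obtain ⟨y, hy, z, hz, rfl⟩ := Submodule.mem_sup.1 hx'
    have : F.mkQ z ∈ (Q ^ (c + k + 1) • (⊤ : Submodule A N)).map F.mkQ :=
      Submodule.mem_map_of_mem hz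
    rw [Submodule.map_smul'', Submodule.map_top, Submodule.range_mkQ] at this
    rwa [map_add, show F.mkQ y = 0 by simpa using hy, zero_add]
  have h2 : F.mkQ x ∈ Q ^ k • E.map F.mkQ := by
    have : F.mkQ x ∈ Q ^ (c + k + 1) • (⊤ : Submodule A (N ⧸ F)) ⊓ E.map F.mkQ :=
      ⟨h1, Submodule.mem_map_of_mem hxE⟩
    rw [hc _ (by omega)] at this
    exact (Submodule.smul_mono (Ideal.pow_le_pow_right (by omega)) inf_le_right) this
  rw [← Submodule.map_smul''] at h2
  obtain ⟨z, hz, hzx⟩ := h2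
  have hzE : z ∈ E := Submodule.smul_le_right hz
  refine Submodule.mem_sup.2 ⟨x - z, ⟨E.sub_mem hxE hzE, ?_⟩, z,
    Submodule.smul_mono le_rfl le_top hz, by abel⟩
  exact (Submodule.Quotient.eq F).1 hzx.symm

end Groth.Agent.S5050
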