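import Groth.Statements.S5057
import Mathlib.AlgebraicGeometry.IdealSheaf.Subscheme
import Mathlib.AlgebraicGeometry.Morphisms.Finite
-- import your own Groth.Agent.* helpers here

set_option autoImplicit false
open CategoryTheory CategoryTheory.Limits AlgebraicGeometry
universe u
open Hensel

namespace Groth.Agent.S5057

/-- Let i : S₀ ⟶ S be a closed immersion such that for every finite morphism g : S' ⟶ S every
open-closed subset of S' ×_S S₀ is the inverse image under the first projection of exactly one
open-closed subset of S'. Then for every finite morphism g : S' ⟶ S, every open subset of S'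
containing the image of S' ×_S S₀ is all of S'. -/
theorem result {S S₀ : Scheme.{u}} (i : S₀ ⟶ S) [IsClosedImmersion i]
    (ha : ∀ (S' : Scheme.{u}) (g : S' ⟶ S), IsFinite g →
      ∀ V : Set ↥(pullback g i), IsClopen V → ∃! U : Set ↥S', IsClopen U ∧ (pullback.fst g i).base ⁻¹' U = V)
    {S' : Scheme.{u}} (g : S' ⟶ S) [IsFinite g] (U : Set ↥S') (hU : IsOpen U)
    (hU₀ : Set.range (pullback.fst g i).base ⊆ U) : U = Set.univ := by
  let Z : TopologicalSpace.Closeds S' := ⟨Uᶜ, hU.isClosed_compl⟩
  let ι := (Scheme.IdealSheafData.vanishingIdeal Z).subschemeι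
  have hι : Set.range ι.base = Uᶜ := by
    rw [Scheme.IdealSheafData.range_subschemeι, Scheme.IdealSheafData.coe_support_vanishingIdeal]
    rfl
  have hfin : IsFinite (ι ≫ g) := inferInstance
  have hempty : IsEmpty ↥(pullback (ι ≫ g) i) := ⟨fun y => by
    let φ : pullback (ι ≫ g) i ⟶ pullback g i :=
      pullback.lift (pullback.fst _ _ ≫ ι) (pullback.snd _ _) (by rw [Category.assoc]; exact pullback.condition)
    have h1 : φ ≫ pullback.fst g i = pullback.fst _ _ ≫ ι := pullback.lift_fst _ _ _
    have h2 : (pullback.fst g i).base (φ.base y) ∈ U := hU₀ ⟨_, rfl⟩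
    have h3 : ι.base ((pullback.fst (ι ≫ g) i).base y) ∈ U := by
      have := congrArg (fun ψ => ψ.base y) h1
      exact this ▸ h2
    have h4 : ι.base ((pullback.fst (ι ≫ g) i).base y) ∈ Set.range ι.base := ⟨_, rfl⟩
    rw [hι] at h4
    exact h4 h3⟩
  obtain ⟨W, hW, huniq⟩ := ha _ (ι ≫ g) hfin ∅ isClopen_empty
  have e1 := huniq ∅ ⟨isClopen_empty, rfl⟩
  have e2 := huniq Set.univ ⟨isClopen_univ, Subsingleton.elim _ _⟩
  have hZ : IsEmpty ↥(Scheme.IdealSheafData.vanishingIdeal Z).subscheme :=
    Set.univ_eq_empty_iff.mp (e2.trans e1.symm)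
  rw [← Set.compl_empty_iff, ← hι]
  exact Set.range_eq_empty _

end Groth.Agent.S5057
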