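import Groth.Statements.S5058
import Groth.Agent.LimTop61.FgSubalgLimit
import Groth.Agent.Approx60.ImmStage
import Groth.Agent.Henz21.Unique
import Groth.Agent.Hensel20.StageNoeth
-- import your own Groth.Agent.* helpers here

set_option autoImplicit false
open CategoryTheory CategoryTheory.Limits AlgebraicGeometry
universe u
open Hensel

namespace Groth.Agent.S5058

/-- Let A be a henselian local ring and f : X ⟶ Spec A a morphism of finite presentation. Then there
exist a Noetherian henselian local ring A₀, a local ring homomorphism φ : A₀ → A, a morphism of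
finite type f₀ : X₀ ⟶ Spec A₀ and a cartesian square exhibiting X as the base change of X₀ along
Spec φ. -/
theorem result (A : Type u) [CommRing A] [HenselianLocalRing A]
    {X : Scheme.{u}} (f : X ⟶ Spec (CommRingCat.of A)) [LocallyOfFinitePresentation f] [QuasiCompact f] [QuasiSeparated f] :
    ∃ (A₀ : Type u) (_ : CommRing A₀) (_ : HenselianLocalRing A₀) (_ : IsNoetherianRing A₀) (φ : A₀ →+* A) (_ : IsLocalHom φ)
      (X₀ : Scheme.{u}) (f₀ : X₀ ⟶ Spec (CommRingCat.of A₀)) (g : X ⟶ X₀),
      LocallyOfFiniteType f₀ ∧ QuasiCompact f₀ ∧ IsPullback g f f₀ (Spec.map (CommRingCat.ofHom φ)) := by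
  classical
  let Z : CommRingCat.{u} := CommRingCat.of (ULift.{u} ℤ)
  let A' : CommRingCat.{u} := CommRingCat.of A
  letI : Algebra Z A' := ((Int.castRingHom A).comp (ULift.ringEquiv.toRingHom : ULift.{u} ℤ →+* ℤ)).toAlgebra
  let D := LimTop61.subalgSpec Z A'
  let c := LimTop61.subalgCone Z A'
  have hc : IsLimit c := LimTop61.isLimitSubalgCone Z A'
  haveI : IsDirectedOrder (LimTop61.FgSubalg Z A') := ⟨fun S T => ⟨⟨S.1 ⊔ T.1, S.2.sup T.2⟩,
    le_sup_left (a := S.1), le_sup_right (a := S.1)⟩⟩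
  haveI : Nonempty (LimTop61.FgSubalg Z A') := ⟨⟨⊥, Subalgebra.fg_bot⟩⟩
  haveI : IsFiltered (LimTop61.FgSubalg Z A') := isFiltered_of_directed_le_nonempty _
  haveI : IsCofiltered (LimTop61.FgSubalg Z A')ᵒᵖ := isCofiltered_op_of_isFiltered _
  obtain ⟨j, X₁, f₁, g₁, hl, hqc, -, hpb⟩ :=
    @Approx60.S0591 _ _ _ D c hc _ _ _ X f ‹LocallyOfFinitePresentation f› ‹QuasiCompact f› ‹QuasiSeparated f›
  let A₁ := j.unop.1
  haveI : Algebra.FiniteType Z A₁ := ⟨(Subalgebra.fg_top _).mpr j.unop.2⟩
  haveI : IsNoetherianRing Z := isNoetherianRing_of_ringEquiv ℤ (ULift.ringEquiv.symm : ℤ ≃+* ULift.{u} ℤ)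
  haveI : IsNoetherianRing A₁ := Algebra.FiniteType.isNoetherianRing Z A₁
  let v : A₁ →+* A := A₁.val.toRingHom
  let p := (IsLocalRing.maximalIdeal A).comap v
  have hu : ∀ y : p.primeCompl, IsUnit (v y) := fun y => IsLocalRing.notMem_maximalIdeal.mp y.2
  let l : Localization.AtPrime p →+* A := IsLocalization.lift hu
  haveI hlloc : IsLocalHom l := ⟨fun x hx => by
    obtain ⟨a, s, rfl⟩ := IsLocalization.exists_mk'_eq p.primeCompl x
    rw [IsLocalization.AtPrime.isUnit_mk'_iff]
    intro ha
    have h := IsLocalization.lift_mk'_spec (g := v) (hg := hu) (S := Localization.AtPrime p) a (l (IsLocalization.mk' _ a s)) s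
    have h2 : IsUnit (v a) := by rw [h.mp rfl]; exact (hu s).mul hx
    exact ha h2⟩
  haveI : IsNoetherianRing (Localization.AtPrime p) :=
    IsLocalization.isNoetherianRing p.primeCompl _ inferInstance
  let H := Henz21.Henselization (Localization.AtPrime p)
  haveI hN : IsNoetherianRing H := Hensel20.isNoetherianRing_H
  have hU := (Henz21.Henselization.isHenselization (Localization.AtPrime p)).universal
  obtain ⟨φ, hφ, -⟩ := hU A l hlloc
  haveI hφl : IsLocalHom φ := by
    refine ((IsLocalRing.local_hom_TFAE φ).out 0 2).mpr ?_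
    rw [← Henz21.henselization_map_maximalIdeal (R := Localization.AtPrime p) (S := H), Ideal.map_map, hφ]
    exact ((IsLocalRing.local_hom_TFAE l).out 0 2).mp hlloc
  let ι : A₁ →+* H := (algebraMap (Localization.AtPrime p) H).comp (algebraMap A₁ (Localization.AtPrime p))
  have hι : φ.comp ι = v := by
    rw [← RingHom.comp_assoc, hφ]
    exact IsLocalization.lift_comp hu
  let ιS : Spec (CommRingCat.of H) ⟶ D.obj j := Spec.map (CommRingCat.ofHom ι)
  have hfac : Spec.map (CommRingCat.ofHom φ) ≫ ιS = c.π.app j := by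
    show Spec.map (CommRingCat.ofHom φ) ≫ Spec.map (CommRingCat.ofHom ι) = _
    rw [← Spec.map_comp, ← CommRingCat.ofHom_comp, hι]
    rfl
  have hw : g₁ ≫ f₁ = (f ≫ Spec.map (CommRingCat.ofHom φ)) ≫ ιS := by
    rw [hpb.w, Category.assoc, hfac]
    rfl
  refine ⟨H, inferInstance, inferInstance, hN, φ, hφl, pullback f₁ ιS, pullback.snd _ _,
    pullback.lift g₁ (f ≫ Spec.map (CommRingCat.ofHom φ)) hw, inferInstance, inferInstance, ?_⟩
  refine IsPullback.of_right ?_ (pullback.lift_snd _ _ _) (IsPullback.of_hasPullback f₁ ιS)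
  rw [pullback.lift_fst, hfac]
  exact hpb

end Groth.Agent.S5058
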