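import Groth.Statements.S5066
import Groth.Agent.Henz21.IntegralPair
import Groth.Agent.Hens22.EtaleLift
import Groth.Agent.Hens22.Stability
import Groth.Agent.EtAlg23.HenselBasic
-- import your own Groth.Agent.* helpers here

set_option autoImplicit false
universe u
open Hensel

namespace Groth.Agent.S5066

/-- Case of a local ring, affine étale schemes: a local ring A with maximal ideal m is henselian if and
only if, for every finite A-algebra C and every étale A-algebra E, composing with the projection C →
C/mC is a bijection from the set of A-algebra homomorphisms E → C onto the set of A-algebra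
homomorphisms E → C/mC. -/
theorem result (A : Type u) [CommRing A] [IsLocalRing A] :
    HenselianLocalRing A ↔
      ∀ (C : Type u) [CommRing C] [Algebra A C] [Module.Finite A C] (E : Type u) [CommRing E] [Algebra A E] [Algebra.Etale A E],
        Function.Bijective (fun φ : E →ₐ[A] C =>
          (Ideal.Quotient.mkₐ A (Ideal.map (algebraMap A C) (IsLocalRing.maximalIdeal A))).comp φ) := by
  constructor
  · intro hA C _ _ _ E _ _ _
    haveI := Henz21.henselianRing_of_isIntegral (IsLocalRing.maximalIdeal A) C
    refine (Function.bijective_iff_existsUnique _).mpr fun σ => ?_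
    exact Hens22.existsUnique_lift (Ideal.map (algebraMap A C) (IsLocalRing.maximalIdeal A)) E σ
  · intro h
    haveI : HenselianRing A (IsLocalRing.maximalIdeal A) :=
      Hens22.henselianRing_of_lift _ (by rw [IsLocalRing.jacobson_eq_maximalIdeal _ bot_ne_top])
        fun S _ _ _ σ => by
          have he : Ideal.map (algebraMap A A) (IsLocalRing.maximalIdeal A) = IsLocalRing.maximalIdeal A :=
            Ideal.map_id _
          obtain ⟨f, hf⟩ := (h A S).2 ((Ideal.quotientEquivAlgOfEq A he.symm).toAlgHom.comp σ)
          refine ⟨f, AlgHom.ext fun s => ?_⟩
          have := congrArg (Ideal.quotientEquivAlgOfEq A he) (DFunLike.congr_fun hf s)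
          have hh : ∀ y, Ideal.quotientEquivAlgOfEq A he (Ideal.quotientEquivAlgOfEq A he.symm y) = y := fun y => by
            obtain ⟨x, rfl⟩ := Ideal.Quotient.mk_surjective y
            rfl
          exact this.trans (hh _)
    exact EtAlg23.henselianLocalRing_of_henselianRing A

end Groth.Agent.S5066
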