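import Groth.Prelude.Def_RegImm
import Groth.Prelude.Def_EGA4b
import Groth.Prelude.Def_Pi1
import Mathlib.RingTheory.RegularLocalRing.Defs
import Mathlib.RingTheory.LocalRing.RingHom.Basic
import Mathlib.RingTheory.Flat.Basic
import Groth.Agent.CAlg9.CIT.TransReg

set_option autoImplicit false
universe u
open CInt

namespace Groth.Agent.S5068

/-- Suppose A and C are Noetherian local rings joined by a flat local homomorphism A → C whose closed
fibre C/m_A C is a regular local ring, and consider a local ring B obtained as a quotient of C by an
ideal J (encoded as a surjective C-algebra B, with J taken to be the kernel). The ideal J admits a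
generating sequence that is transversally regular relative to A (each term a non-zero-divisor modulo
the previous ones, and every partial quotient C/(f_1, …, f_j) A-flat) exactly when two things hold:
B is A-flat, and B/m_A B is a complete intersection (meaning its completion is a regular local ring
divided by a regular sequence). -/
theorem result (A C B : Type u) [CommRing A] [IsLocalRing A]
    [IsNoetherianRing A] [CommRing C] [IsLocalRing C] [IsNoetherianRing C] [Algebra A C] [IsLocalHom (algebraMap A C)]
    [Module.Flat A C] (hreg : IsRegularLocalRing (EGA4.FibRing A C))
    [CommRing B] [IsLocalRing B] [Algebra C B] [Algebra A B] [IsScalarTower A C B] [IsLocalHom (algebraMap A B)]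
    (hsurj : Function.Surjective (algebraMap C B)) :
    (∃ rs : List C, Ideal.ofList rs = RingHom.ker (algebraMap C B) ∧ RegImm.IsTransRegularSeq A C rs) ↔
      (Module.Flat A B ∧ Pi1.IsCompleteIntersection (EGA4.FibRing A B)) := by
  exact CAlg9.CIT.transReg_iff A C B hreg hsurj

end Groth.Agent.S5068
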