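import Groth.Statements.S5069
import Mathlib.RingTheory.HopkinsLevitzki
-- import your own Groth.Agent.* helpers here

set_option autoImplicit false
universe u v
open Hensel

namespace Groth.Agent.S5069

/-- First assertion, phrased for the images of the inductive system: let B be a Noetherian commutative
ring and (C_i) a family of Artinian subrings of B, directed under inclusion, whose union is B. Then
B is an Artinian ring. -/
theorem result (B : Type u) [CommRing B] [IsNoetherianRing B]
    {ι : Type v} [Nonempty ι] (C : ι → Subring B) (hdir : Directed (fun a b => a ≤ b) C)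
    (hart : ∀ i, IsArtinianRing ↥(C i)) (hcov : ∀ b : B, ∃ i, b ∈ C i) : IsArtinianRing B := by
  refine isArtinianRing_iff_krullDimLE_zero.mpr ?_
  refine Ring.krullDimLE_zero_iff.mpr fun p hp => ?_
  rw [Ideal.Quotient.maximal_ideal_iff_isField_quotient]
  refine IsField.mk ⟨0, 1, zero_ne_one⟩ mul_comm fun {a} ha => ?_
  obtain ⟨x, rfl⟩ := Ideal.Quotient.mk_surjective a
  obtain ⟨i, hi⟩ := hcov x
  haveI := hart i
  have hP : (p.comap (C i).subtype).IsMaximal := inferInstance
  obtain ⟨y, z, hz, hyz⟩ := hP.exists_inv (x := ⟨x, hi⟩) (fun hx => ha (Ideal.Quotient.eq_zero_iff_mem.mpr hx))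
  refine ⟨Ideal.Quotient.mk p (y : B), ?_⟩
  rw [← map_mul, ← map_one (Ideal.Quotient.mk p), Ideal.Quotient.eq]
  have h1 : (y : B) * x + z = 1 := congrArg Subtype.val hyz
  have : x * (y : B) - 1 = -(z : B) := by rw [← h1]; ring
  rw [this]
  exact p.neg_mem hz

end Groth.Agent.S5069
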