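import Groth.Prelude.Def_EGA4b
import Groth.Prelude.Def_Coh
import Mathlib.AlgebraicGeometry.IdealSheaf.Subscheme
import Mathlib.AlgebraicGeometry.Noetherian
import Mathlib.RingTheory.RegularLocalRing.Defs
import Mathlib.RingTheory.KrullDimension.Basic
import Mathlib.LinearAlgebra.Dimension.Finrank
import Mathlib.Algebra.BigOperators.Group.Finset.Basic
import Groth.Prelude.Def_FlatMod2
import Groth.Agent.CAlg9.NFlat.Connected

set_option autoImplicit false
open CategoryTheory AlgebraicGeometry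
universe u
namespace CInt
end CInt
open CInt

namespace Groth.Agent.S5070

/-- Let X be a locally Noetherian scheme, Y the closed subscheme defined by an ideal sheaf, assumed
regular and connected, and F a coherent O_X-module which is normally flat along Y (at every point y
of Y, every I_y^h F_y / I_y^(h+1) F_y is flat over O_{Y,y}). Then there is a single sequence of
natural numbers R such that for every y in Y, if n is the dimension of O_{Y,y}, then for all h the
length of m^h F_y / m^(h+1) F_y over the residue field (m the maximal ideal of O_{X,y}) equals the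
sum over r ≤ h of C(r+n-1, r) R(h-r): the Poincaré series of gr_m(F_y) is R(T)(1-T)^(-n). -/
theorem result {X : Scheme.{u}} [IsLocallyNoetherian X]
    (𝓘 : X.IdealSheafData) [ConnectedSpace ↥𝓘.subscheme]
    (hreg : ∀ y : ↥𝓘.subscheme, IsRegularLocalRing ↑(𝓘.subscheme.presheaf.stalk y))
    (F : X.Modules) (hF : Coh.IsCoh F)
    (hnf : ∀ y : ↥𝓘.subscheme, EGA4.IsNormallyFlat (RingHom.ker (𝓘.subschemeι.stalkMap y).hom) ↑(F.presheaf.stalk (𝓘.subschemeι y))) :
    ∃ R : ℕ → ℕ, ∀ (y : ↥𝓘.subscheme) (n : ℕ), ringKrullDim ↑(𝓘.subscheme.presheaf.stalk y) = n →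
      ∀ h : ℕ, Module.finrank (↑(X.presheaf.stalk (𝓘.subschemeι y)) ⧸ IsLocalRing.maximalIdeal ↑(X.presheaf.stalk (𝓘.subschemeι y)))
          (↥(IsLocalRing.maximalIdeal ↑(X.presheaf.stalk (𝓘.subschemeι y)) ^ h • (⊤ : Submodule ↑(X.presheaf.stalk (𝓘.subschemeι y)) ↑(F.presheaf.stalk (𝓘.subschemeι y)))) ⧸
            (IsLocalRing.maximalIdeal ↑(X.presheaf.stalk (𝓘.subschemeι y)) • (⊤ : Submodule ↑(X.presheaf.stalk (𝓘.subschemeι y)) ↥(IsLocalRing.maximalIdeal ↑(X.presheaf.stalk (𝓘.subschemeι y)) ^ h • (⊤ : Submodule ↑(X.presheaf.stalk (𝓘.subschemeι y)) ↑(F.presheaf.stalk (𝓘.subschemeι y))))))) =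
        ∑ r ∈ Finset.range (h + 1), Nat.choose (r + n - 1) r * R (h - r) := by
  obtain ⟨R, hR⟩ := CAlg9.NFlat.Connected.exists_mu_const 𝓘 F hF hnf
  refine ⟨R, fun y n hn h => ?_⟩
  obtain ⟨U, hyU⟩ := Div89.exists_affine_mem (𝓘.subschemeι y)
  have : IsNoetherianRing Γ(X, U.1) := IsLocallyNoetherian.component_noetherian U
  have := ZClos93.finite_sections_of_coh hF U
  letI := Div89.stalkAlg U.1 (𝓘.subschemeι y) hyU
  letI := Div89.stalkModule F U.1 (𝓘.subschemeι y) hyU
  have := Div89.isScalarTower_stalk F U.1 (𝓘.subschemeι y) hyU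
  have := Div89.primeAt_isPrime U (𝓘.subschemeι y) hyU
  have := Div89.isLocalization_stalk U (𝓘.subschemeι y) hyU
  have := Div89.isLocalizedModule_germLin F hF.1 U (𝓘.subschemeι y) hyU
  let O := X.presheaf.stalk (𝓘.subschemeι y)
  let N := F.presheaf.stalk (𝓘.subschemeι y)
  have : Module.Finite O N := Module.Finite.of_isLocalizedModule
    (Div89.primeAt U (𝓘.subschemeι y) hyU).primeCompl (Div89.germLin F U.1 (𝓘.subschemeι y) hyU)
  let K := RingHom.ker (𝓘.subschemeι.stalkMap y).hom
  let e : (O ⧸ K) ≃+* 𝓘.subscheme.presheaf.stalk y :=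
    RingHom.quotientKerEquivOfSurjective (𝓘.subschemeι.stalkMap_surjective y)
  have := hreg y
  have : IsRegularLocalRing (O ⧸ K) := IsRegularLocalRing.of_ringEquiv e.symm
  have hn' : ringKrullDim (O ⧸ K) = n := (ringKrullDim_eq_of_ringEquiv e).trans hn
  refine ((S2892.result O K n hn' N).1 (hnf y) h).trans (Finset.sum_congr rfl fun r _ => congrArg _ ?_)
  rw [← congrFun (hR y) (h - r), CAlg9.NFlat.Connected.mu,
    IsLocalRing.spanFinrank_eq_finrank_quotient _ (IsNoetherian.noetherian _)]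
  exact (LinearEquiv.extendScalarsOfSurjective (S := O ⧸ IsLocalRing.maximalIdeal O) Ideal.Quotient.mk_surjective
    (CAlg9.NFlat.quotQuot _ (IsLocalRing.le_maximalIdeal (RingHom.ker_ne_top _)))).finrank_eq

end Groth.Agent.S5070
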