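import Groth.Prelude.Def_RegImm
import Mathlib.RingTheory.Flat.Basic
import Mathlib.Algebra.Module.LocalizedModule.Basic
import Mathlib.RingTheory.Ideal.Operations
import Mathlib.Algebra.Algebra.RestrictScalars
import Groth.Agent.QReg14.BaseChange
import Groth.Agent.EGA4Alg4.QuasiReg
import Groth.Agent.EGA4H10.FlatLocal
import Groth.Agent.CAlg8.NilFlat

namespace CInt
end CInt

set_option autoImplicit false
universe u
open CInt

namespace Groth.Agent.S5071

theorem flat_restrictScalars (A B M : Type u) [CommRing A] [CommRing B] [Algebra A B] [AddCommGroup M] [Module B M]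
    [Module A M] [IsScalarTower A B M] (h : Module.Flat A M) : Module.Flat A (RestrictScalars A B M) := by
  let e : RestrictScalars A B M ≃ₗ[A] M :=
    { RestrictScalars.addEquiv A B M with
      map_smul' := fun a x => by
        show RestrictScalars.addEquiv A B M (a • x) = a • RestrictScalars.addEquiv A B M x
        rw [RestrictScalars.addEquiv_map_smul, algebraMap_smul] }
  exact Module.Flat.of_linearEquiv e

/-- Let B be an A-algebra and J an ideal of B generated by a sequence which is transversally regular
relative to A. Then for n < m the module J^n/J^m is flat over A, and for every prime q of B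
containing J the localisation (J^n)_q is flat over A (modules regarded as A-modules by restriction
of scalars). -/
theorem result (A B : Type u) [CommRing A] [CommRing B] [Algebra A B]
    (rs : List B) (hrs : RegImm.IsTransRegularSeq A B rs) (n m : ℕ) (hnm : n < m) :
    Module.Flat A (RestrictScalars A B
      (↥(Ideal.ofList rs ^ n) ⧸ (Submodule.comap (Ideal.ofList rs ^ n).subtype (Ideal.ofList rs ^ m)))) ∧
      ∀ (q : Ideal B) [q.IsPrime], Ideal.ofList rs ≤ q →
        Module.Flat A (RestrictScalars A B (LocalizedModule q.primeCompl ↥(Ideal.ofList rs ^ n))) := by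
  obtain ⟨hreg, hflat⟩ := hrs
  have hB : Module.Flat A B := by
    have h0 := hflat 0 (Nat.zero_le _)
    exact Module.Flat.of_linearEquiv
      ((Submodule.quotEquivOfEqBot (Ideal.ofList (rs.take 0)) (by simp)).restrictScalars A).symm
  let f : Fin rs.length → B := fun i => rs.get i
  have hf : List.ofFn f = rs := List.ofFn_get rs
  have hspan : Ideal.span (Set.range f) = Ideal.ofList rs := by
    rw [Ideal.ofList]; exact congrArg Ideal.span (Set.ext fun x => by simp [f, List.mem_iff_get])
  have hq := EGA4Alg4.isQuasiRegular_of_isWeaklyRegular _ f (by rw [hf]; exact hreg)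
  have : Module.Flat A (B ⧸ Ideal.span (Set.range f)) := by
    rw [hspan]
    have := hflat rs.length le_rfl
    rwa [List.take_length] at this
  have hpow : ∀ k, Module.Flat A (B ⧸ Ideal.ofList rs ^ k) := fun k => by
    rw [← hspan]; exact QReg14.flat_quotient_pow f hq k
  let J := Ideal.ofList rs
  have hJn : Module.Flat A ↥(J ^ n) := by
    have := hpow n
    exact CAlg8.NilFlat.flat_kernel ((J ^ n).subtype.restrictScalars A) ((J ^ n).mkQ.restrictScalars A)
      Subtype.val_injective (Submodule.mkQ_surjective _) (LinearMap.exact_subtype_mkQ (J ^ n))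
  refine ⟨flat_restrictScalars A B _ ?_, fun q _ _ => flat_restrictScalars A B _ ?_⟩
  · have := hpow n
    have := hpow m
    let g : (B ⧸ J ^ m) →ₗ[A] B ⧸ J ^ n :=
      (Ideal.Quotient.factorₐ A (Ideal.pow_le_pow_right hnm.le)).toLinearMap
    let ι : (↥(J ^ n) ⧸ Submodule.comap (J ^ n).subtype (J ^ m)) →ₗ[B] B ⧸ J ^ m :=
      Submodule.mapQ _ _ (J ^ n).subtype le_rfl
    have hι : Function.Injective ι := by
      rw [← LinearMap.ker_eq_bot, Submodule.ker_mapQ, Submodule.mkQ_map_self]
    refine CAlg8.NilFlat.flat_kernel (ι.restrictScalars A) g hι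
      (Ideal.Quotient.factor_surjective (Ideal.pow_le_pow_right hnm.le)) fun y => ?_
    obtain ⟨y, rfl⟩ := Ideal.Quotient.mk_surjective y
    show Ideal.Quotient.mk (J ^ n) y = 0 ↔ _
    rw [Ideal.Quotient.eq_zero_iff_mem]
    constructor
    · exact fun h => ⟨Submodule.Quotient.mk ⟨y, h⟩, rfl⟩
    · rintro ⟨z, hz⟩
      obtain ⟨z, rfl⟩ := Submodule.Quotient.mk_surjective _ z
      have h1 : (z : B) - y ∈ J ^ m := Ideal.Quotient.eq.1 hz
      have := sub_mem z.2 (Ideal.pow_le_pow_right hnm.le h1)
      rwa [sub_sub_cancel] at this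
  · exact EGA4H10.flat_localizedModule ↥(J ^ n) q.primeCompl

end Groth.Agent.S5071
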