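import Groth.Statements.S5072
import Groth.Agent.Henz21.StrictMap
-- import your own Groth.Agent.* helpers here

set_option autoImplicit false
open scoped TensorProduct
universe u
open Hensel

namespace Groth.Agent.S5072

/-- Case of a local ring A and a local finite A-algebra B: let S be a strict henselization of A and T a
strict henselization of B. Then there is a maximal ideal q of B ⊗_A S such that T is isomorphic, as
a B-algebra, to the local ring (B ⊗_A S)_q. -/
theorem result (A B S T : Type u) [CommRing A] [IsLocalRing A]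
    [CommRing B] [IsLocalRing B] [Algebra A B] [Module.Finite A B]
    [CommRing S] [IsLocalRing S] [Algebra A S] [IsLocalHom (algebraMap A S)] [Hensel.IsStrictHenselization A S]
    [CommRing T] [IsLocalRing T] [Algebra B T] [IsLocalHom (algebraMap B T)] [Hensel.IsStrictHenselization B T] :
    ∃ (q : Ideal (B ⊗[A] S)) (_ : q.IsMaximal), Nonempty (Localization.AtPrime q ≃ₐ[B] T) := by
  haveI : IsLocalHom (algebraMap A B) := Groth.Agent.Henz21.isLocalHom_of_isIntegral
  letI : Algebra A T := ((algebraMap B T).comp (algebraMap A B)).toAlgebra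
  haveI : IsScalarTower A B T := IsScalarTower.of_algebraMap_eq' rfl
  have hT := ‹Hensel.IsStrictHenselization B T›
  haveI := hT.henselian
  haveI := hT.isSepClosure
  haveI : IsSepClosed (IsLocalRing.ResidueField T) :=
    IsSepClosure.sep_closed (IsLocalRing.ResidueField B)
  haveI : IsLocalHom ((algebraMap B T).comp (algebraMap A B)) := RingHom.isLocalHom_comp _ _
  obtain ⟨g, hg, hgl⟩ := Groth.Agent.Henz21.exists_map_of_strictHenselization (Ash := S)
    ((algebraMap B T).comp (algebraMap A B))
  let α : S →ₐ[A] T := { g with commutes' := RingHom.congr_fun hg }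
  haveI : IsLocalHom α.toRingHom := hgl
  obtain ⟨hsur, hQ, hker⟩ := Groth.Agent.Henz21.baseChangeMap_strict (A := A) (S := B) (B' := B)
    (Ash := S) (Ssh := T) α
    (fun x => ⟨x, 1, by simp, by simp⟩)
    (fun b hb => ⟨1, by simp, by simp at hb; simp [hb]⟩)
  set φ := Groth.Agent.Henz21.baseChangeMap (S := B) (B' := B) α
  set Q := (IsLocalRing.maximalIdeal T).comap φ.toRingHom
  letI : Algebra (B ⊗[A] S) T := φ.toRingHom.toAlgebra
  haveI : IsLocalization Q.primeCompl T := (isLocalization_iff _ _).mpr
    ⟨fun y => IsLocalRing.notMem_maximalIdeal.mp y.2, fun y => by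
      obtain ⟨z, hz⟩ := hsur y
      exact ⟨(z, 1), by simp only [OneMemClass.coe_one, map_one, mul_one]; exact hz.symm⟩,
    fun {x y} hxy => by
      obtain ⟨w, hw, h⟩ := hker (x - y) (by rw [map_sub]; exact sub_eq_zero.mpr hxy)
      exact ⟨⟨w, hw⟩, sub_eq_zero.mp (by rw [← mul_sub]; exact h)⟩⟩
  let e := IsLocalization.algEquiv Q.primeCompl (Localization.AtPrime Q) T
  refine ⟨Q, hQ, ⟨AlgEquiv.ofRingEquiv (f := e.toRingEquiv) fun b => ?_⟩⟩
  rw [IsScalarTower.algebraMap_apply B (B ⊗[A] S) (Localization.AtPrime Q)]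
  refine (e.commutes _).trans ?_
  show φ (b ⊗ₜ 1) = _
  rw [Groth.Agent.Henz21.baseChangeMap_tmul, map_one, mul_one]
  rfl

end Groth.Agent.S5072
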