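import Groth.Statements.S5073
import Groth.Agent.CAlg5.WeakAss

set_option autoImplicit false
universe u
open EGA418

namespace Groth.Agent.S5073

/-- Let A be a Noetherian local ring, p a prime ideal and x an element of A. Then there is an element x'
of A whose image in A_p equals that of x and which belongs to no minimal prime ideal of A not
contained in p. -/
theorem result (A : Type u) [CommRing A] [IsNoetherianRing A] [IsLocalRing A]
    (p : Ideal A) [p.IsPrime] (x : A) :
    ∃ x' : A, algebraMap A (Localization.AtPrime p) x' = algebraMap A (Localization.AtPrime p) x ∧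
      ∀ q ∈ minimalPrimes A, ¬ q ≤ p → x' ∉ q := by
  classical
  let φ := algebraMap A (Localization.AtPrime p)
  set Q : Finset (Ideal A) := (minimalPrimes.finite_of_isNoetherianRing A).toFinset.filter (fun q => ¬ q ≤ p) with hQ
  have hmin : ∀ q ∈ Q, q ∈ minimalPrimes A := fun q hq => by simpa [hQ] using (Finset.mem_filter.1 hq).1
  have hnp : ∀ q ∈ Q, ¬ q ≤ p := fun q hq => (Finset.mem_filter.1 hq).2
  have hex : ∀ q ∈ Q, ∃ a, a ∉ q ∧ φ a = 0 ∧ ∀ q' ∈ Q, q' ≠ q → a ∈ q' := by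
    intro q hq
    have hqp : q.IsPrime := (hmin q hq).1.1
    obtain ⟨r, hr, hrp⟩ := SetLike.not_le_iff_exists.1 (hnp q hq)
    obtain ⟨s, hs, n, hn⟩ := (CAlg5.mem_minimalPrimes_iff_mul_pow (I := (⊥ : Ideal A)) (p := q)).1 (hmin q hq) |>.2 r hr
    have hnot : ¬ (Q.erase q).inf id ≤ q := by
      intro hle
      obtain ⟨q', hq', hle'⟩ := hqp.inf_le'.1 hle
      obtain ⟨hne, hq'Q⟩ := Finset.mem_erase.1 hq'
      exact hne (le_antisymm hle' ((hmin q hq).2 ⟨(hmin q' hq'Q).1.1, bot_le⟩ hle'))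
    obtain ⟨w, hw, hwq⟩ := SetLike.not_le_iff_exists.1 hnot
    refine ⟨s * w, hqp.mul_notMem hs hwq, ?_, fun q' hq' hne => ?_⟩
    · have h0 : φ s * φ (r ^ n) = 0 := by rw [← map_mul, Ideal.mem_bot.1 hn, map_zero]
      have hu : IsUnit (φ (r ^ n)) := IsLocalization.map_units (Localization.AtPrime p)
        (⟨r ^ n, p.primeCompl.pow_mem hrp n⟩ : p.primeCompl)
      rw [map_mul, hu.mul_left_eq_zero.1 h0, zero_mul]
    · exact Ideal.mul_mem_left _ _ ((Finset.inf_le (f := id) (Finset.mem_erase.2 ⟨hne, hq'⟩)) hw)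
  choose a ha hza hmem using hex
  refine ⟨x + ∑ q ∈ Q.attach, if x ∈ q.1 then a q.1 q.2 else 0, ?_, ?_⟩
  · change φ _ = φ x
    rw [map_add, map_sum, Finset.sum_eq_zero fun q _ => ?_, add_zero]
    split_ifs
    · exact hza q.1 q.2
    · exact map_zero φ
  intro q hq hqp hx'
  have hqQ : q ∈ Q := by simp [hQ, hq, hqp]
  rw [← Finset.add_sum_erase _ _ (Finset.mem_attach Q ⟨q, hqQ⟩)] at hx'
  have hrest : (∑ c ∈ Q.attach.erase ⟨q, hqQ⟩, if x ∈ c.1 then a c.1 c.2 else 0) ∈ q := by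
    refine sum_mem fun c hc => ?_
    split_ifs
    · exact hmem c.1 c.2 q hqQ fun h => (Finset.mem_erase.1 hc).1 (Subtype.ext h.symm)
    · exact zero_mem _
  rw [← add_assoc, Ideal.add_mem_iff_left _ hrest] at hx'
  by_cases hxq : x ∈ q
  · rw [if_pos hxq, Ideal.add_mem_iff_right _ hxq] at hx'
    exact ha q hqQ hx'
  · rw [if_neg hxq, add_zero] at hx'
    exact hxq hx'

end Groth.Agent.S5073
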