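import Groth.Statements.S5076
import Mathlib.RingTheory.Unramified.LocalRing
import Mathlib.RingTheory.Localization.AtPrime.Extension

set_option autoImplicit false
universe u
open Unram

namespace Groth.Agent.S5076

/-- Let A be a local ring with maximal ideal m, C a finite A-algebra, r a maximal ideal of C, and u an
element of C which lies in every maximal ideal of C other than r, does not lie in r, and whose image
generates C_r modulo m C_r as an A-algebra. Let B = A[u] be the A-subalgebra of C generated by u and
n the inverse image of r in B. Then the canonical homomorphism B_n → C_r is bijective. -/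
theorem result (A C : Type u) [CommRing A] [IsLocalRing A]
    [CommRing C] [Algebra A C] [Module.Finite A C] (r : Ideal C) [r.IsMaximal] (u : C)
    (hu₁ : ∀ r' : Ideal C, r'.IsMaximal → r' ≠ r → u ∈ r') (hu₂ : u ∉ r)
    (hu₃ : Subalgebra.toSubmodule (Algebra.adjoin A {algebraMap C (Localization.AtPrime r) u}) ⊔
        Submodule.restrictScalars A (Ideal.map (algebraMap A (Localization.AtPrime r)) (IsLocalRing.maximalIdeal A)) = ⊤) :
    Function.Bijective (Localization.localRingHom (Ideal.comap (Algebra.adjoin A ({u} : Set C)).val.toRingHom r) r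
      (Algebra.adjoin A ({u} : Set C)).val.toRingHom rfl) := by
  classical
  let B := Algebra.adjoin A ({u} : Set C)
  let nB : Ideal B := Ideal.comap B.val.toRingHom r
  have : Module.Finite B C := Module.Finite.of_restrictScalars_finite A B C
  have : nB.IsMaximal := Ideal.isMaximal_comap_of_isIntegral_of_isMaximal r
  have : r.LiesOver nB := ⟨rfl⟩
  have : Algebra.IsIntegral A B := ⟨fun x ↦
    (isIntegral_algHom_iff B.val Subtype.val_injective).mp (Algebra.IsIntegral.isIntegral (R := A) _)⟩
  have : FaithfulSMul B C := (faithfulSMul_iff_algebraMap_injective _ _).mpr Subtype.val_injective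
  have hq : nB.primesOver C = {r} := by
    ext r'
    refine ⟨fun ⟨hr', hr''⟩ ↦ ?_, fun h ↦ h ▸ ⟨inferInstance, inferInstance⟩⟩
    have : r'.IsMaximal := Ideal.isMaximal_of_isIntegral_of_isMaximal_comap r' (show (r'.under B).IsMaximal from hr''.over ▸ (inferInstance : nB.IsMaximal))
    by_contra hne
    have h1 : (⟨u, Algebra.subset_adjoin rfl⟩ : B) ∈ nB := by
      rw [hr''.over]
      exact hu₁ r' ‹_› hne
    exact hu₂ h1
  refine ⟨Localization.localRingHom_injective_of_primesOver_eq_singleton (p := nB) hq, ?_⟩
  let := Localization.AtPrime.algebraOfLiesOver nB r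
  have := Localization.finite_of_primesOver_eq_singleton (p := nB) hq
  suffices Function.Surjective
      (Algebra.linearMap (Localization.AtPrime nB) (Localization.AtPrime r)) by
    intro z
    obtain ⟨w, hw⟩ := this z
    refine ⟨w, ?_⟩
    rw [← hw, Algebra.linearMap_apply, Localization.AtPrime.IsLiesOverAlgebra.algebraMap_eq]
    rfl
  rw [← LinearMap.range_eq_top, ← top_le_iff]
  apply Submodule.le_of_le_smul_of_le_jacobson_bot Module.Finite.fg_top
    (IsLocalRing.maximalIdeal_le_jacobson _)
  rw [Ideal.smul_top_eq_map]
  intro z _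
  obtain ⟨a, ha, b, hb, rfl⟩ := Submodule.mem_sup.mp (hu₃.ge (Submodule.mem_top : z ∈ _))
  refine add_mem (Submodule.mem_sup_left ?_) (Submodule.mem_sup_right ?_)
  · have h1 : Algebra.adjoin A {algebraMap C (Localization.AtPrime r) u} ≤
        ((IsScalarTower.toAlgHom A C (Localization.AtPrime r)).comp B.val).range := by
      rw [Algebra.adjoin_le_iff, Set.singleton_subset_iff]
      exact ⟨⟨u, Algebra.subset_adjoin rfl⟩, rfl⟩
    obtain ⟨y, rfl⟩ := h1 ha
    refine ⟨algebraMap B (Localization.AtPrime nB) y, ?_⟩
    rw [Algebra.linearMap_apply, Localization.AtPrime.IsLiesOverAlgebra.algebraMap_eq,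
      Localization.localRingHom_to_map]
    rfl
  · rw [Submodule.restrictScalars_mem] at hb ⊢
    refine Ideal.map_le_iff_le_comap.mpr (fun a ha ↦ ?_) hb
    rw [Ideal.mem_comap, IsScalarTower.algebraMap_apply A (Localization.AtPrime nB)]
    refine Ideal.mem_map_of_mem _ ?_
    rw [IsScalarTower.algebraMap_apply A B,
      IsLocalization.AtPrime.to_map_mem_maximal_iff _ nB]
    exact (IsLocalRing.eq_maximalIdeal
      (Ideal.isMaximal_comap_of_isIntegral_of_isMaximal (R := A) nB)).ge ha

end Groth.Agent.S5076
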