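import Groth.Statements.S5077
import Groth.Agent.Unr55.Monogenic
import Mathlib.RingTheory.Unramified.Locus
import Mathlib.RingTheory.Nakayama
import Mathlib.RingTheory.IntegralClosure.IsIntegralClosure.Basic
import Mathlib.FieldTheory.Minpoly.Field

set_option autoImplicit false
universe u
open Unram

namespace Groth.Agent.S5077

/-- Let A be a local ring and B a finite A-algebra generated by a single element u. Then there is a
monic polynomial F with coefficients in A such that F(u) = 0 and F'(u) does not belong to any
maximal ideal n of B at which B is unramified over A. -/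
theorem result (A B : Type u) [CommRing A] [IsLocalRing A]
    [CommRing B] [Algebra A B] [Module.Finite A B] (u : B) (hu : Algebra.adjoin A ({u} : Set B) = ⊤) :
    ∃ F : Polynomial A, F.Monic ∧ Polynomial.aeval u F = 0 ∧
      ∀ (n : Ideal B) [n.IsMaximal], Algebra.IsUnramifiedAt A n → Polynomial.aeval u (Polynomial.derivative F) ∉ n := by
  classical
  let m := IsLocalRing.maximalIdeal A
  let mB := m.map (algebraMap A B)
  let := Ideal.Quotient.field m
  let ub : B ⧸ mB := Ideal.Quotient.mk mB u
  have : Module.Finite (A ⧸ m) (B ⧸ mB) := Module.Finite.of_restrictScalars_finite A _ _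
  have hub : IsIntegral (A ⧸ m) ub := Algebra.IsIntegral.isIntegral _
  have hred : ∀ g : Polynomial A, Polynomial.aeval ub (g.map (Ideal.Quotient.mk m)) =
      Ideal.Quotient.mk mB (Polynomial.aeval u g) := fun g ↦ by
    rw [← Ideal.Quotient.algebraMap_eq, Polynomial.aeval_map_algebraMap]
    exact Polynomial.aeval_algHom_apply (Ideal.Quotient.mkₐ A mB) u g
  let d := (minpoly (A ⧸ m) ub).natDegree
  obtain ⟨G, hGmap, hGdeg, hG⟩ := Polynomial.lifts_and_natDegree_eq_and_monic
    (Polynomial.map_surjective _ Ideal.Quotient.mk_surjective (minpoly (A ⧸ m) ub))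
    (minpoly.monic hub)
  have hGu : Polynomial.aeval u G ∈ mB := by
    rw [← Ideal.Quotient.eq_zero_iff_mem, ← hred, hGmap, minpoly.aeval]
  let N : Submodule A B := Submodule.span A (Set.range fun i : Fin d ↦ u ^ (i : ℕ))
  have hN : N = ⊤ := by
    rw [eq_top_iff]
    apply Submodule.le_of_le_smul_of_le_jacobson_bot Module.Finite.fg_top
      (IsLocalRing.maximalIdeal_le_jacobson _)
    intro b _
    rw [Ideal.smul_top_eq_map]
    obtain ⟨g, rfl⟩ := Groth.Agent.Unr55.aeval_surjective_of_adjoin u hu b
    rw [← Polynomial.modByMonic_add_div g G, map_add, map_mul]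
    refine add_mem (Submodule.mem_sup_left ?_) (Submodule.mem_sup_right
      (Ideal.mul_mem_right _ _ hGu))
    rw [Polynomial.aeval_eq_sum_range]
    refine sum_mem fun i hi ↦ ?_
    rcases eq_or_ne ((g %ₘ G).coeff i) 0 with h0 | h0
    · simp [h0]
    refine N.smul_mem _ (Submodule.subset_span ⟨⟨i, ?_⟩, rfl⟩)
    have h1 := Polynomial.le_degree_of_ne_zero h0
    have h2 := Polynomial.degree_modByMonic_lt g hG
    rw [Polynomial.degree_eq_natDegree hG.ne_zero, hGdeg] at h2
    exact_mod_cast h1.trans_lt h2
  obtain ⟨c, hc⟩ := Submodule.mem_span_range_iff_exists_fun A |>.mp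
    (show u ^ d ∈ N from hN ▸ Submodule.mem_top)
  let R : Polynomial A := ∑ i : Fin d, Polynomial.C (c i) * Polynomial.X ^ (i : ℕ)
  have hRdeg : R.degree < d := Polynomial.degree_sum_fin_lt _
  let F := Polynomial.X ^ d - R
  have hF : F.Monic := Polynomial.monic_X_pow_sub hRdeg
  have hFdeg : F.degree = d := by
    rw [Polynomial.degree_sub_eq_left_of_degree_lt] <;> simp [hRdeg]
  have hFu : Polynomial.aeval u F = 0 := by
    simp [F, R, ← Algebra.smul_def, hc]
  refine ⟨F, hF, hFu, fun n _ hn hmem ↦ ?_⟩
  let J : Ideal B := Ideal.span {Polynomial.aeval u F.derivative} ⊔ mB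
  have hJ : Module.annihilator B (KaehlerDifferential A B) ≤ J := by
    refine Groth.Agent.Unr55.annihilator_le u hu J fun g hg ↦ ?_
    have hr : (g %ₘ F).map (Ideal.Quotient.mk m) = 0 := by
      by_contra h0
      have h1 := minpoly.degree_le_of_ne_zero (A ⧸ m) ub h0 (by
        rw [hred, ← map_zero (Ideal.Quotient.mk mB)]
        congr 1
        have h2 := congrArg (Polynomial.aeval u) (Polynomial.modByMonic_add_div g F)
        rwa [map_add, map_mul, hFu, zero_mul, add_zero, hg] at h2)
      have h2 := (Polynomial.degree_map_le (f := Ideal.Quotient.mk m)).trans_lt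
        (Polynomial.degree_modByMonic_lt g hF)
      rw [hFdeg] at h2
      rw [Polynomial.degree_eq_natDegree (minpoly.ne_zero hub)] at h1
      exact (h2.trans_le h1).false
    rw [← Polynomial.modByMonic_add_div g F, Polynomial.derivative_add,
      Polynomial.derivative_mul, map_add, map_add, map_mul, map_mul, hFu, zero_mul, add_zero]
    refine add_mem (Submodule.mem_sup_right ?_)
      (Submodule.mem_sup_left (Ideal.mul_mem_right _ _ (Ideal.mem_span_singleton_self _)))
    rw [Polynomial.aeval_eq_sum_range]
    refine sum_mem fun i _ ↦ ?_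
    rw [Polynomial.coeff_derivative, Algebra.smul_def, map_mul]
    refine Ideal.mul_mem_right _ _ (Ideal.mul_mem_right _ _ (Ideal.mem_map_of_mem _ ?_))
    rw [← Ideal.Quotient.eq_zero_iff_mem, ← Polynomial.coeff_map, hr, Polynomial.coeff_zero]
  have hle : Module.annihilator B (KaehlerDifferential A B) ≤ n :=
    hJ.trans (sup_le (Ideal.span_le.mpr (Set.singleton_subset_iff.mpr hmem))
      (Ideal.map_le_iff_le_comap.mpr ((IsLocalRing.eq_maximalIdeal
        (Ideal.isMaximal_comap_of_isIntegral_of_isMaximal n)).ge)))
  have hn' : (⟨n, inferInstance⟩ : PrimeSpectrum B) ∈ Algebra.unramifiedLocus A B := hn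
  rw [Algebra.unramifiedLocus_eq_compl_support, Module.support_eq_zeroLocus] at hn'
  exact hn' hle

end Groth.Agent.S5077
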