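import Groth.Statements.S5078
import Mathlib.RingTheory.Finiteness.Cardinality
import Mathlib.Algebra.Module.Projective
-- import your own Groth.Agent.* helpers here

set_option autoImplicit false
universe u v
open Hensel

namespace Groth.Agent.S5078

/-- Let A be a ring, I an ideal such that A is I-adically separated and complete, and M a finitely
generated projective A-module. Then M is I-adically separated and complete. -/
theorem result {A : Type u} [CommRing A] (I : Ideal A) [IsAdicComplete I A]
    (M : Type v) [AddCommGroup M] [Module A M] [Module.Finite A M] [Module.Projective A M] :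
    IsAdicComplete I M := by
  obtain ⟨n, p, hp⟩ := Module.Finite.exists_fin' A M
  obtain ⟨q, hq⟩ := Module.projective_lifting_property p LinearMap.id hp
  have hpq : ∀ x, p (q x) = x := LinearMap.congr_fun hq
  have hsm : ∀ (k : ℕ) (i : Fin n) (x : M), x ∈ (I ^ k • ⊤ : Submodule A M) → q x i ∈ I ^ k := fun k i x hx => by
    have := Submodule.mem_map_of_mem (f := (LinearMap.proj i).comp q) hx
    rw [Submodule.map_smul''] at this
    simpa using Submodule.smul_mono le_rfl le_top this
  have hI : ∀ (k : ℕ), (I ^ k • ⊤ : Submodule A A) = I ^ k := fun k => by simp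
  refine { haus' := ?_, prec' := ?_ }
  · intro x hx
    rw [← hpq x]
    have : q x = 0 := funext fun i => IsHausdorff.haus (inferInstance : IsHausdorff I A) _ fun k => by
      rw [SModEq.zero, hI]
      exact hsm k i x (SModEq.zero.mp (hx k))
    rw [this, map_zero]
  · intro f hf
    have hc : ∀ (i : Fin n) {k l : ℕ}, k ≤ l → q (f k) i ≡ q (f l) i [SMOD (I ^ k • ⊤ : Submodule A A)] := by
      intro i k l hkl
      rw [SModEq.sub_mem, hI, ← Pi.sub_apply, ← map_sub]
      exact hsm k i _ (SModEq.sub_mem.mp (hf hkl))
    choose L hL using fun i => IsPrecomplete.prec (inferInstance : IsPrecomplete I A) (hc i)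
    refine ⟨p L, fun k => SModEq.sub_mem.mpr ?_⟩
    have e : f k - p L = p (∑ i, (q (f k) i - L i) • fun j => if i = j then (1 : A) else 0) := by
      have h := pi_eq_sum_univ (q (f k) - L)
      simp only [Pi.sub_apply] at h
      rw [← h, map_sub, hpq]
    rw [e, map_sum]
    refine Submodule.sum_mem _ fun i _ => ?_
    rw [map_smul]
    exact Submodule.smul_mem_smul (by simpa [SModEq.sub_mem, hI] using hL i k) trivial

end Groth.Agent.S5078
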