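import Groth.Statements.S5081
import Groth.Agent.Unr55.Monogenic

set_option autoImplicit false
universe u
open Unram

namespace Groth.Agent.S5081

/-- Let B be a finite A-algebra generated by a single element u and F a polynomial with coefficients in
A such that F(u) = 0. Then the ideal generated by F'(u) is contained in the annihilator of the
module of differentials of B over A, and equals it when the kernel of the surjection A[T] → B
sending T to u is generated by F. -/
theorem result (A B : Type u) [CommRing A] [CommRing B] [Algebra A B]
    [Module.Finite A B] (u : B) (hu : Algebra.adjoin A ({u} : Set B) = ⊤) (F : Polynomial A) (hF : Polynomial.aeval u F = 0) :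
    Ideal.span {Polynomial.aeval u (Polynomial.derivative F)} ≤ Module.annihilator B (KaehlerDifferential A B) ∧
      (RingHom.ker (Polynomial.aeval u : Polynomial A →ₐ[A] B) = Ideal.span {F} →
        Module.annihilator B (KaehlerDifferential A B) = Ideal.span {Polynomial.aeval u (Polynomial.derivative F)}) := by
  refine ⟨Ideal.span_le.mpr (Set.singleton_subset_iff.mpr
    (Groth.Agent.Unr55.derivative_mem_annihilator u hu hF)), fun hker ↦ ?_⟩
  refine le_antisymm (Groth.Agent.Unr55.annihilator_le u hu _ fun g hg ↦ ?_)
    (Ideal.span_le.mpr (Set.singleton_subset_iff.mpr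
      (Groth.Agent.Unr55.derivative_mem_annihilator u hu hF)))
  obtain ⟨h, rfl⟩ := Ideal.mem_span_singleton'.mp (hker ▸ (RingHom.mem_ker).mpr hg)
  rw [Polynomial.derivative_mul, map_add, map_mul, map_mul, hF, mul_zero, zero_add]
  exact Ideal.mul_mem_left _ _ (Ideal.mem_span_singleton_self _)

end Groth.Agent.S5081
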