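import Groth.Statements.S5082
import Groth.Agent.Mero90.Div
import Groth.Agent.Mero90.Regular

set_option autoImplicit false
universe u
open CategoryTheory CategoryTheory.Limits AlgebraicGeometry TopologicalSpace
open Mero

namespace Groth.Agent.S5082

/-- Let A be a Noetherian local ring. Then the group of divisors of Spec A is trivial (every divisor
equals the unit divisor, divisors being written multiplicatively) if and only if A has depth 0, that
is, if and only if every element of the maximal ideal of A is a zero-divisor. -/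
theorem result (A : Type u) [CommRing A] [IsNoetherianRing A] [IsLocalRing A] :
    (∀ D : Mero.Divisor (Spec (CommRingCat.of A)), D = 1) ↔ LocCoh.depth A A = 0 := by
  let R := CommRingCat.of A
  let c : ↥(Spec R) := IsLocalRing.closedPoint A
  have hsp : ∀ y : ↥(Spec R), y ⤳ c := fun y => IsLocalRing.specializes_closedPoint y
  have hU : ∀ V : (Spec R).Opens, c ∈ V → ∀ y, y ∈ V := fun V h y => (hsp y).mem_open V.isOpen h
  letI := AlgebraicGeometry.StructureSheaf.stalkAlgebra (R := A) c
  haveI : IsLocalization.AtPrime ((Spec.structureSheaf A).presheaf.stalk c)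
      (IsLocalRing.maximalIdeal A) := AlgebraicGeometry.StructureSheaf.IsLocalization.to_stalk A c
  let e : A ≃+* (Spec R).presheaf.stalk c :=
    (IsLocalization.atUnits A (IsLocalRing.maximalIdeal A).primeCompl
      (S := (Spec.structureSheaf A).presheaf.stalk c)
      (fun a ha => not_not.mp fun hn => ha hn)).toRingEquiv
  have he : ∀ r : A, (Spec R).presheaf.germ ⊤ c trivial ((Scheme.ΓSpecIso R).inv r) = e r :=
    fun r => rfl
  have nzd : ∀ {S T : Type u} [CommRing S] [CommRing T] (f : S ≃+* T) {s : S},
      s ∈ nonZeroDivisors S → f s ∈ nonZeroDivisors T := by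
    intro S T _ _ f s hs
    rw [mem_nonZeroDivisors_iff_right] at hs ⊢
    intro t ht
    have := hs (f.symm t) (by rw [← f.symm_apply_apply s, ← map_mul, ht, map_zero])
    simpa using congrArg f this
  rw [Mero90.depth_eq_zero_iff]
  constructor
  · intro h r hr hreg
    let s : Γ(Spec R, ⊤) := (Scheme.ΓSpecIso R).inv r
    have hs : s ∈ Mero.regSub (Spec R) ⊤ := by
      rw [Mero90.regSub_eq_nonZeroDivisors (isAffineOpen_top _)]
      exact nzd (Scheme.ΓSpecIso R).symm.commRingCatIsoToRingEquiv hreg
    have hD := congrArg (fun D : Mero.Divisor (Spec R) => D.1 c)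
      (h (Mero.div (Mero90.fracUnit ⟨s, hs⟩ 1)))
    simp only [Mero.div, Mero90.germOf_fracUnit] at hD
    have hu := (Mero90.cls_eq_one_iff _ _).mp hD
    have : IsUnit ((Spec R).presheaf.germ ⊤ c trivial s) := by
      refine hu.isUnit ?_
      change IsUnit ((Spec R).presheaf.germ ⊤ c trivial 1)
      rw [map_one]; exact isUnit_one
    rw [he] at this
    exact (IsLocalRing.mem_maximalIdeal r).mp hr ((isUnit_map_iff e r).mp this)
  · intro h D
    refine Subtype.ext (funext fun y => ?_)
    obtain ⟨V, hcV, a, b, hD⟩ := Mero90.exists_cls D c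
    have hu : ∀ t : Mero.regSub (Spec R) V, ∀ y, ∀ hy : y ∈ V,
        IsUnit ((Spec R).presheaf.germ V y hy t.1) := fun t y hy => by
      rw [← Mero90.germ_stalkSpecializes (hsp y) hcV]
      refine IsUnit.map _ ?_
      by_contra hn
      obtain ⟨r, hr⟩ := e.surjective ((Spec R).presheaf.germ V c hcV t.1)
      rw [← hr] at hn
      refine h r ?_ ?_
      · exact (IsLocalRing.mem_maximalIdeal r).mpr fun hu => hn (hu.map e)
      · have := nzd e.symm (t.2 ⟨c, hcV⟩)
        change e.symm ((Spec R).presheaf.germ V c hcV t.1) ∈ _ at this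
        rwa [← hr, RingEquiv.symm_apply_apply] at this
    rw [hD ⟨y, hU V hcV y⟩]
    exact (Mero90.cls_eq_one_iff _ _).mpr ((associated_one_iff_isUnit.mpr (hu b y _)).trans
      (associated_one_iff_isUnit.mpr (hu a y _)).symm)

end Groth.Agent.S5082
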