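import Groth.Statements.S5085
import Groth.Agent.Mero90.Regular

set_option autoImplicit false
universe u
open CategoryTheory CategoryTheory.Limits AlgebraicGeometry TopologicalSpace
open Mero

namespace Groth.Agent.S5085

/-- Let X be a scheme, U an open subset and V an open subset of U which is schematically dense in U (for
every open W ⊆ U, restriction of functions from W to W ∩ V is injective). Then restriction of
sections of the sheaf of meromorphic functions K_X from U to V is injective: the canonical map from
meromorphic functions to pseudo-functions is injective. -/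
theorem result (X : Scheme.{u}) (U V : X.Opens) (hVU : V ≤ U)
    (hV : ∀ W : X.Opens, W ≤ U →
      Function.Injective ⇑(X.presheaf.map (homOfLE (inf_le_left : W ⊓ V ≤ W)).op)) :
    Function.Injective ⇑((Mero.kmod X).presheaf.map (homOfLE hVU).op) := by
  intro s t hst
  refine Mero90.kext fun x => ?_
  obtain ⟨W, hxW, hWU, a, b, hw⟩ := Mero90.exists_frac (s - t) x
  have ha : a = 0 := by
    apply hV W hWU
    rw [map_zero]
    apply TopCat.Presheaf.section_ext X.sheaf
    intro y hy
    change X.presheaf.germ _ y hy _ = X.presheaf.germ _ y hy 0
    rw [map_zero]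
    refine (TopCat.Presheaf.germ_res_apply X.presheaf _ _ _ a).trans
      (Mero90.mk'_eq_zero ((hw ⟨y, hy.1⟩).symm.trans ?_))
    have := congrArg (fun w => w.1 ⟨y, hy.2⟩) hst
    exact sub_eq_zero.mpr this
  have h0 := hw ⟨x.1, hxW⟩
  rw [ha, map_zero, IsLocalization.mk'_zero] at h0
  exact sub_eq_zero.mp h0

end Groth.Agent.S5085
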