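import Groth.Statements.S5089
import Groth.Agent.Mero90.Dense

set_option autoImplicit false
universe u
open CategoryTheory CategoryTheory.Limits AlgebraicGeometry TopologicalSpace
open Mero

namespace Groth.Agent.S5089

/-- Case b): let X be a reduced scheme whose set of irreducible components is locally finite (every
point has an open neighbourhood meeting only finitely many irreducible components). Then every
invertible O_X-module is isomorphic to O_X(D) for some divisor D on X; in other words the canonical
homomorphism Div(X) → Pic(X) is surjective. -/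
theorem result (X : Scheme.{u}) [IsReduced X]
    (hX : ∀ x : ↥X, ∃ W : X.Opens, x ∈ W ∧
      {Z : Set ↥X | Z ∈ irreducibleComponents ↥X ∧ (Z ∩ (W : Set ↥X)).Nonempty}.Finite)
    (L : X.Modules) (hL : PicF.IsInvertible L) :
    ∃ D : Mero.Divisor X, Nonempty (L ≅ Mero.divMod D) := by
  obtain ⟨s, hs⟩ := Mero90.hasRegularMero_of_isReduced hX hL
  obtain ⟨D, hD⟩ := Mero90.exists_isDivOfMero hL s hs
  obtain ⟨φ, -⟩ := Mero90.exists_iso_divMod hL s hs D hD
  exact ⟨D, ⟨φ⟩⟩

end Groth.Agent.S5089
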