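import Mathlib.AlgebraicGeometry.Noetherian
import Mathlib.RingTheory.KrullDimension.Basic
import Mathlib.RingTheory.UniqueFactorizationDomain.Basic
import Mathlib.RingTheory.Nilpotent.Defs
import Mathlib.AlgebraicGeometry.Stalk
import Groth.Agent.Div89.UFD

set_option autoImplicit false
universe u
open CategoryTheory CategoryTheory.Limits AlgebraicGeometry TopologicalSpace
namespace Div21
end Div21
open Div21

namespace Groth.Agent.S5090

section

open Groth.Agent.Div89

variable {X : Scheme.{u}}

lemma exists_affine_mem (x : X) : ∃ U : X.affineOpens, x ∈ U.1 := by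
  obtain ⟨U, hU, hx, -⟩ := X.isBasis_affineOpens.exists_subset_of_mem_open
    (show x ∈ (⊤ : X.Opens) from trivial) isOpen_univ
  obtain ⟨V, hV, rfl⟩ := hU
  exact ⟨⟨V, hV⟩, hx⟩

lemma comap_maximal_prime (U : X.affineOpens) {x ζ : X} (hx : x ∈ U.1) (h : ζ ⤳ x) :
    ((IsLocalRing.maximalIdeal ↑(X.presheaf.stalk ζ)).comap
        (X.presheaf.stalkSpecializes h).hom).comap (X.presheaf.germ U.1 x hx).hom =
      primeAt U ζ (mem_affine_of_specializes h hx) := by
  have hζ := mem_affine_of_specializes h hx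
  rw [Ideal.comap_comap, ← CommRingCat.hom_comp, TopCat.Presheaf.germ_stalkSpecializes]
  let _ := stalkAlg U.1 ζ hζ
  have := isLocalization_stalk U ζ hζ
  exact IsLocalization.AtPrime.under_maximalIdeal (X.presheaf.stalk ζ) (primeAt U ζ hζ)

lemma height_comap_maximal (U : X.affineOpens) {x ζ : X} (hx : x ∈ U.1) (h : ζ ⤳ x) :
    ((IsLocalRing.maximalIdeal ↑(X.presheaf.stalk ζ)).comap
        (X.presheaf.stalkSpecializes h).hom).height = ringKrullDim ↑(X.presheaf.stalk ζ) := by
  let _ := stalkAlg U.1 x hx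
  have := isLocalization_stalk U x hx
  rw [ringKrullDim_stalk_eq_height U ζ (mem_affine_of_specializes h hx),
    ← comap_maximal_prime U hx h, ← IsLocalization.height_under (primeAt U x hx).primeCompl]
  rfl

lemma exists_gen (x : X) (p : Ideal ↑(X.presheaf.stalk x)) [hp : p.IsPrime] :
    ∃ (ζ : X) (h : ζ ⤳ x),
      (IsLocalRing.maximalIdeal ↑(X.presheaf.stalk ζ)).comap (X.presheaf.stalkSpecializes h).hom = p ∧
        ringKrullDim ↑(X.presheaf.stalk ζ) = p.height := by
  obtain ⟨U, hx⟩ := exists_affine_mem x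
  let _ := stalkAlg U.1 x hx
  have hl := isLocalization_stalk U x hx
  obtain ⟨ζ, hζ, hζp⟩ := exists_point U (p.comap (X.presheaf.germ U.1 x hx).hom)
  have hle : primeAt U ζ hζ ≤ primeAt U x hx := by
    rw [hζp]
    refine le_trans (Ideal.comap_mono (IsLocalRing.le_maximalIdeal hp.ne_top)) ?_
    exact (IsLocalization.AtPrime.under_maximalIdeal (X.presheaf.stalk x) (primeAt U x hx)).le
  have h := (specializes_iff_primeAt_le U hx hζ).2 hle
  refine ⟨ζ, h, ?_, ?_⟩
  · have := (comap_maximal_prime U hx h).trans hζp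
    have e := congrArg (Ideal.map (algebraMap Γ(X, U.1) (X.presheaf.stalk x))) this
    exact (IsLocalization.map_under (primeAt U x hx).primeCompl _ _).symm.trans
      (e.trans (IsLocalization.map_under (primeAt U x hx).primeCompl _ _))
  · rw [← height_comap_maximal U hx h]
    congr 2
    have := (comap_maximal_prime U hx h).trans hζp
    have e := congrArg (Ideal.map (algebraMap Γ(X, U.1) (X.presheaf.stalk x))) this
    exact (IsLocalization.map_under (primeAt U x hx).primeCompl _ _).symm.trans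
      (e.trans (IsLocalization.map_under (primeAt U x hx).primeCompl _ _))

theorem isDomain_ufm {R : Type u} [CommRing R] [IsLocalRing R] [IsNoetherianRing R]
    (hdim : ∃ q : Ideal R, q.IsPrime ∧ q ≠ IsLocalRing.maximalIdeal R)
    (h : ∀ p : Ideal R, p.IsPrime → p.height = 1 →
      ∃ t, t ∈ nonZeroDivisors R ∧ p = Ideal.span {t}) :
    ∃ _ : IsDomain R, UniqueFactorizationMonoid R := by
  classical
  -- a prime of height one
  obtain ⟨q, hq, hqm⟩ := hdim
  have hfin : (minimalPrimes R).Finite := (⊥ : Ideal R).finite_minimalPrimes_of_isNoetherianRing R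
  have hnsub : ¬ ((IsLocalRing.maximalIdeal R : Set R) ⊆ ⋃ P ∈ hfin.toFinset, (P : Set R)) := by
    intro hsub
    rw [show (⋃ P ∈ hfin.toFinset, (P : Set R)) =
      ⋃ P ∈ ((hfin.toFinset : Finset (Ideal R)) : Set (Ideal R)), ((id P : Ideal R) : Set R) from rfl,
      Ideal.subset_union_prime (f := id) ⊥ ⊥ (fun P hP _ _ => (hfin.mem_toFinset.1 hP).1.1)] at hsub
    obtain ⟨P, hP, hle⟩ := hsub
    have hPm : (IsLocalRing.maximalIdeal R) = P :=
      le_antisymm hle (IsLocalRing.le_maximalIdeal (hfin.mem_toFinset.1 hP).1.1.ne_top)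
    have hqle : q ≤ P := hPm ▸ IsLocalRing.le_maximalIdeal hq.ne_top
    exact hqm (le_antisymm (IsLocalRing.le_maximalIdeal hq.ne_top)
      (hPm ▸ (hfin.mem_toFinset.1 hP).2 ⟨hq, bot_le⟩ hqle))
  obtain ⟨a, ham, ha⟩ := Set.not_subset.1 hnsub
  obtain ⟨p, hp, -⟩ := Ideal.exists_minimalPrimes_le
    (show Ideal.span {a} ≤ IsLocalRing.maximalIdeal R from
      (Ideal.span_singleton_le_iff_mem _).2 ham)
  have hpp : p.IsPrime := hp.1.1
  have hap : a ∈ p := hp.1.2 (Ideal.mem_span_singleton_self a)
  have hle1 : p.height ≤ 1 := Ideal.height_le_one_of_isPrincipal_of_mem_minimalPrimes _ p hp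
  have hp0 : p.height ≠ 0 := by
    rw [Ne, Ideal.height_eq_zero_iff]
    intro hmin
    exact ha (Set.mem_biUnion (hfin.mem_toFinset.2 hmin) hap)
  obtain ⟨t, ht, hpt⟩ := h p hpp (le_antisymm hle1 (Order.one_le_iff_pos.2 (pos_iff_ne_zero.2 hp0)))
  -- the minimal prime below it vanishes
  obtain ⟨q0, hq0, hq0p⟩ := Ideal.exists_minimalPrimes_le (bot_le : (⊥ : Ideal R) ≤ p)
  have htq : t ∉ q0 := by
    intro htq
    have : p = q0 := le_antisymm (hpt ▸ (Ideal.span_singleton_le_iff_mem _).2 htq) hq0p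
    apply hp0
    rw [Ideal.height_eq_zero_iff, this]
    exact hq0
  have hbot : q0 = ⊥ := by
    refine Submodule.eq_bot_of_le_smul_of_le_jacobson_bot (Ideal.span {t}) q0
      ((isNoetherianRing_iff_ideal_fg R).1 inferInstance q0) ?_ ?_
    · intro x hx
      obtain ⟨y, rfl⟩ := Ideal.mem_span_singleton'.1 (hpt ▸ hq0p hx)
      rw [mul_comm]
      exact Submodule.smul_mem_smul (Ideal.mem_span_singleton_self t)
        ((hq0.1.1.mem_or_mem hx).resolve_right htq)
    · exact le_trans ((Ideal.span_singleton_le_iff_mem _).2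
        (IsLocalRing.le_maximalIdeal hpp.ne_top (hpt ▸ Ideal.mem_span_singleton_self t)))
        (IsLocalRing.maximalIdeal_le_jacobson _)
  have hdom : IsDomain R := by
    have hb : (⊥ : Ideal R).IsPrime := hbot ▸ hq0.1.1
    exact IsDomain.of_bot_isPrime R
  refine ⟨hdom, UniqueFactorizationMonoid.iff_exists_prime_mem_of_isPrime.2 fun Q hQ hQp => ?_⟩
  obtain ⟨b, hbQ, hb⟩ := Q.exists_mem_ne_zero_of_ne_bot hQ
  obtain ⟨P, hP, hPQ⟩ := Ideal.exists_minimalPrimes_le
    (show Ideal.span {b} ≤ Q from (Ideal.span_singleton_le_iff_mem _).2 hbQ)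
  have hPp : P.IsPrime := hP.1.1
  have hbP : b ∈ P := hP.1.2 (Ideal.mem_span_singleton_self b)
  have hP0 : P.height ≠ 0 := by
    rw [Ne, Ideal.height_eq_zero_iff_eq_bot]
    intro hP0
    exact hb (by simpa [hP0] using hbP)
  obtain ⟨s, hs, hPs⟩ := h P hPp (le_antisymm
    (Ideal.height_le_one_of_isPrincipal_of_mem_minimalPrimes _ P hP)
    (Order.one_le_iff_pos.2 (pos_iff_ne_zero.2 hP0)))
  exact ⟨s, hPQ (hPs ▸ Ideal.mem_span_singleton_self s),
    (Ideal.span_singleton_prime (nonZeroDivisors.ne_zero hs)).1 (hPs ▸ hPp)⟩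

lemma isDomain_of_specializes {x y : X} (h : x ⤳ y) [IsDomain ↑(X.presheaf.stalk y)] :
    IsDomain ↑(X.presheaf.stalk x) := by
  obtain ⟨U, hy⟩ := exists_affine_mem y
  have hx : x ∈ U.1 := mem_affine_of_specializes h hy
  let _ := stalkAlg U.1 x hx
  let _ := stalkAlg U.1 y hy
  have := isLocalization_stalk U x hx
  have := isLocalization_stalk U y hy
  let _ := (X.presheaf.stalkSpecializes h).hom.toAlgebra
  have : IsScalarTower Γ(X, U.1) (X.presheaf.stalk y) (X.presheaf.stalk x) :=
    IsScalarTower.of_algebraMap_eq' (by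
      change (X.presheaf.germ U.1 x hx).hom =
        (X.presheaf.stalkSpecializes h).hom.comp (X.presheaf.germ U.1 y hy).hom
      rw [← CommRingCat.hom_comp, TopCat.Presheaf.germ_stalkSpecializes])
  have hl := IsLocalization.isLocalization_of_submonoid_le (X.presheaf.stalk y) (X.presheaf.stalk x)
    (primeAt U y hy).primeCompl (primeAt U x hx).primeCompl
    (fun a ha hc => ha ((specializes_iff_primeAt_le U hy hx).1 h hc))
  refine IsLocalization.isDomain_of_le_nonZeroDivisors _ (M := (primeAt U x hx).primeCompl.map (algebraMap Γ(X, U.1) (X.presheaf.stalk y))) ?_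
  rintro _ ⟨a, ha, rfl⟩
  refine mem_nonZeroDivisors_of_ne_zero fun h0 => ?_
  refine (IsLocalization.map_units (X.presheaf.stalk x) (⟨a, ha⟩ : (primeAt U x hx).primeCompl)).ne_zero ?_
  rw [IsScalarTower.algebraMap_apply Γ(X, U.1) (X.presheaf.stalk y) (X.presheaf.stalk x)]
  exact (congrArg _ h0).trans (map_zero _)

lemma isOpen_singleton_of [IsLocallyNoetherian X] (x : X) (hmin : ∀ y, y ⤳ x → y = x)
    (hmax : ∀ y, x ⤳ y → y = x) : IsOpen ({x} : Set ↥X) := by
  classical
  obtain ⟨U, hx⟩ := exists_affine_mem x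
  have : IsNoetherianRing Γ(X, U.1) := IsLocallyNoetherian.component_noetherian U
  set P := primeAt U x hx with hP
  have hfin : (minimalPrimes Γ(X, U.1)).Finite :=
    (⊥ : Ideal Γ(X, U.1)).finite_minimalPrimes_of_isNoetherianRing _
  have hex : ∀ Q ∈ hfin.toFinset.erase P, ∃ a, a ∈ Q ∧ a ∉ P := by
    intro Q hQ
    obtain ⟨hne, hQ⟩ := Finset.mem_erase.1 hQ
    by_contra hc
    push Not at hc
    have : Q.IsPrime := (hfin.mem_toFinset.1 hQ).1.1
    obtain ⟨y, hy, hyQ⟩ := exists_point U Q
    obtain rfl := hmin y ((specializes_iff_primeAt_le U hx hy).2 (hyQ ▸ hc))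
    exact hne hyQ.symm
  choose! a ha haP using hex
  let f := ∏ Q ∈ hfin.toFinset.erase P, a Q
  have hfP : f ∉ P := fun hf => by
    obtain ⟨Q, hQ, hQa⟩ := (primeAt_isPrime U x hx).prod_mem_iff.1 hf
    exact haP Q hQ hQa
  have heq : ({x} : Set X) = X.basicOpen f := by
    ext y
    constructor
    · rintro rfl; exact (mem_basicOpen_iff_notMem U y hx f).2 hfP
    · intro hy
      have hyU : y ∈ U.1 := X.basicOpen_le f hy
      have hfy := (mem_basicOpen_iff_notMem U y hyU f).1 hy
      obtain ⟨Q, hQ, hQy⟩ := Ideal.exists_minimalPrimes_le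
        (bot_le : (⊥ : Ideal Γ(X, U.1)) ≤ primeAt U y hyU)
      by_cases hQP : Q = P
      · exact hmax y ((specializes_iff_primeAt_le U hyU hx).2 (by rw [hQP] at hQy; exact hQy))
      · exact absurd (hQy (Q.mem_of_dvd (Finset.dvd_prod_of_mem _ (Finset.mem_erase.2
          ⟨hQP, hfin.mem_toFinset.2 hQ⟩)) (ha Q (Finset.mem_erase.2 ⟨hQP, hfin.mem_toFinset.2 hQ⟩)))) hfy
  rw [heq]
  exact (X.basicOpen f).isOpen

lemma stalk_ufm_or_primes [IsLocallyNoetherian X] (x : X) :
    (∃ q : Ideal ↑(X.presheaf.stalk x), q.IsPrime ∧ q ≠ IsLocalRing.maximalIdeal _) ∨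
      ∀ y, y ⤳ x → y = x := by
  obtain ⟨U, hx⟩ := exists_affine_mem x
  by_cases h : ∀ y, y ⤳ x → y = x
  · exact Or.inr h
  push Not at h
  obtain ⟨y, hy, hne⟩ := h
  refine Or.inl ⟨_, Ideal.comap_isPrime (X.presheaf.stalkSpecializes hy).hom
    (IsLocalRing.maximalIdeal _), fun he => hne ?_⟩
  refine primeAt_inj U (mem_affine_of_specializes hy hx) hx ?_
  rw [← comap_maximal_prime U hx hy, he]
  let _ := stalkAlg U.1 x hx
  have := isLocalization_stalk U x hx
  exact IsLocalization.AtPrime.under_maximalIdeal (X.presheaf.stalk x) (primeAt U x hx)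

end


/-- Equivalence of conditions a'') and c): let X be a locally Noetherian scheme which is reduced at each
of its isolated points (for every point x such that {x} is open, the local ring O_{X,x} is reduced).
Then the following are equivalent. (a'') Every integral closed subscheme of X of codimension 1 is
regularly immersed in X: for every point ζ whose local ring has dimension 1 and every specialization
x of ζ, the ideal of O_{X,x} defining the closure of ζ with its reduced structure (the preimage of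
the maximal ideal of O_{X,ζ} under the specialization map) is generated by one non-zero-divisor of
O_{X,x}. (c) X is locally factorial: every local ring of X is a unique factorisation domain. -/
theorem result (X : Scheme.{u}) [IsLocallyNoetherian X]
    (hred : ∀ x : ↥X, IsOpen ({x} : Set ↥X) → IsReduced ↑(X.presheaf.stalk x)) :
    (∀ ζ : ↥X, ringKrullDim ↑(X.presheaf.stalk ζ) = 1 → ∀ (x : ↥X) (h : ζ ⤳ x),
        ∃ t : ↑(X.presheaf.stalk x), t ∈ nonZeroDivisors ↑(X.presheaf.stalk x) ∧
          (IsLocalRing.maximalIdeal ↑(X.presheaf.stalk ζ)).comap (X.presheaf.stalkSpecializes h).hom =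
            Ideal.span {t}) ↔
      ∀ x : ↥X, ∃ _ : IsDomain ↑(X.presheaf.stalk x), UniqueFactorizationMonoid ↑(X.presheaf.stalk x) := by
  constructor
  · intro h
    have key : ∀ x : X,
        (∃ q : Ideal ↑(X.presheaf.stalk x), q.IsPrime ∧ q ≠ IsLocalRing.maximalIdeal _) →
        ∃ _ : IsDomain ↑(X.presheaf.stalk x), UniqueFactorizationMonoid ↑(X.presheaf.stalk x) := by
      intro x hx
      refine isDomain_ufm hx fun p hp hp1 => ?_
      obtain ⟨ζ, hζ, hζp, hd⟩ := exists_gen x p
      rw [hp1] at hd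
      exact hζp ▸ h ζ (by exact_mod_cast hd) x hζ
    intro x
    rcases stalk_ufm_or_primes x with hx | hx
    · exact key x hx
    have hdom : IsDomain ↑(X.presheaf.stalk x) := by
      by_cases hmax : ∀ y, x ⤳ y → y = x
      · have := hred x (isOpen_singleton_of x hx hmax)
        have hsub : ∀ q : Ideal ↑(X.presheaf.stalk x), q.IsPrime → q = IsLocalRing.maximalIdeal _ := by
          intro q hq
          obtain ⟨ζ, hζ, hζp, -⟩ := exists_gen x q
          obtain rfl := hx ζ hζ
          rw [← hζp, TopCat.Presheaf.stalkSpecializes_refl]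
          exact Ideal.comap_id _
        have hnil : nilradical ↑(X.presheaf.stalk x) = IsLocalRing.maximalIdeal _ := by
          rw [nilradical_eq_sInf]
          exact le_antisymm (sInf_le (IsLocalRing.maximalIdeal.isMaximal _).isPrime)
            (le_sInf fun q hq => (hsub q hq).ge)
        rw [nilradical_eq_zero] at hnil
        exact (IsLocalRing.isField_iff_maximalIdeal_eq.2 hnil.symm).isDomain
      · push Not at hmax
        obtain ⟨y, hxy, hne⟩ := hmax
        have hyp : ∃ q : Ideal ↑(X.presheaf.stalk y), q.IsPrime ∧ q ≠ IsLocalRing.maximalIdeal _ :=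
          (stalk_ufm_or_primes y).resolve_right fun hy => hne (hy x hxy).symm
        obtain ⟨_, -⟩ := key y hyp
        exact isDomain_of_specializes hxy
    refine ⟨hdom, UniqueFactorizationMonoid.iff_exists_prime_mem_of_isPrime.2 fun Q hQ hQp => ?_⟩
    exfalso
    obtain ⟨ζ, hζ, hζp, -⟩ := exists_gen x Q
    obtain ⟨ζ', hζ', hζp', -⟩ := exists_gen x (⊥ : Ideal ↑(X.presheaf.stalk x))
    obtain rfl := hx ζ hζ
    obtain rfl := hx ζ' hζ'
    exact hQ (hζp.symm.trans hζp')
  · intro h ζ hζ x hx
    obtain ⟨_, _⟩ := h x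
    obtain ⟨U, hxU⟩ := exists_affine_mem x
    have hht := height_comap_maximal U hxU hx
    rw [hζ] at hht
    have hht' : ((IsLocalRing.maximalIdeal ↑(X.presheaf.stalk ζ)).comap
        (X.presheaf.stalkSpecializes hx).hom).height = 1 := by exact_mod_cast hht
    have hne : (IsLocalRing.maximalIdeal ↑(X.presheaf.stalk ζ)).comap
        (X.presheaf.stalkSpecializes hx).hom ≠ ⊥ := fun h0 => by
      rw [h0, Ideal.height_bot] at hht'
      exact zero_ne_one hht'
    have hpr := Ideal.comap_isPrime (X.presheaf.stalkSpecializes hx).hom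
      (IsLocalRing.maximalIdeal ↑(X.presheaf.stalk ζ))
    obtain ⟨t, htm, ht⟩ := hpr.exists_mem_prime_of_ne_bot hne
    have := (Ideal.span_singleton_prime ht.ne_zero).2 ht
    exact ⟨t, mem_nonZeroDivisors_of_ne_zero ht.ne_zero,
      (Groth.Agent.Div89.eq_of_le_of_height_eq_one hht'
        ((Ideal.span_singleton_le_iff_mem _).2 htm) (by simpa using ht.ne_zero)).symm⟩

end Groth.Agent.S5090
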