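import Groth.Agent.An92.Rat.SchDenseOps
-- Template for statement S5091 (row 5090; see the milestone table for weights).
-- Copy to Groth/Agent/S5091.lean and replace the sorry. The statement below is byte-identical to the frozen
-- statement Div21.GrothFrozen.S5091 (Groth/Statements/S5091.lean; the theorem Div21.isSchematicallyDense_iff_depth_ge_one);
-- the grader kernel-checks Groth.Agent.S5091.result against that frozen type. Keep the theorem IN THIS FILE
-- (a `result` declared elsewhere and merely imported here is not credited); helpers may live anywhere
-- under Groth/Agent/.

set_option autoImplicit false
universe u
open CategoryTheory CategoryTheory.Limits AlgebraicGeometry TopologicalSpace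
namespace Div21
end Div21
open Div21

namespace Groth.Agent.S5091

/-- Let X be a locally Noetherian scheme, Y a closed subset and U = X − Y, with j : U → X the inclusion.
Then O_X → j_*O_U is injective — restriction of functions from every open V to V ∩ U is injective,
i.e. U is schematically dense in X — if and only if the local ring of X at every point of Y has
depth at least 1. -/
theorem result (X : Scheme.{u}) [IsLocallyNoetherian X] (U : X.Opens) :
    CInt.IsSchematicallyDense U ↔
      ∀ x : ↥X, x ∉ U → (1 : ℕ∞) ≤ LocCoh.depth ↑(X.presheaf.stalk x) ↑(X.presheaf.stalk x) := by
  exact An92.Rat.schDense_iff_depth U

end Groth.Agent.S5091
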