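import Groth.Statements.S5097
import Groth.Agent.Mero90.Div

set_option autoImplicit false
universe u
open CategoryTheory CategoryTheory.Limits AlgebraicGeometry TopologicalSpace
open Mero

namespace Groth.Agent.S5097

/-- Injectivity of the canonical homomorphism from divisors to invertible fractional ideals: let X be a
scheme and D, D' two divisors on X such that, over every open subset U, a section t of the sheaf of
meromorphic functions lies in O_X(D) (t_x · g ∈ O_{X,x} for a representative g of the germ of D at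
x, for all x in U) if and only if it lies in O_X(D'). Then D = D'. -/
theorem result (X : Scheme.{u}) (D D' : Mero.Divisor X)
    (h : ∀ (U : X.Opens) (t : Γ(Mero.kmod X, U)),
      (∀ x : ↥U, Mero.DivCond D x.1 (t.1 x)) ↔ (∀ x : ↥U, Mero.DivCond D' x.1 (t.1 x))) :
    D = D' := by
  refine Subtype.ext (funext fun x => ?_)
  obtain ⟨V, hx, a, b, hD⟩ := Mero90.exists_cls D x
  obtain ⟨W, hx', a', b', hD'⟩ := Mero90.exists_cls D' x
  let f := Mero90.fracUnit a b
  let f' := Mero90.fracUnit a' b'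
  have hf : ∀ y : V, D.1 y.1 = Mero.germOf f y := fun y =>
    (hD y).trans (Mero90.germOf_fracUnit a b y).symm
  have hf' : ∀ y : W, D'.1 y.1 = Mero.germOf f' y := fun y =>
    (hD' y).trans (Mero90.germOf_fracUnit a' b' y).symm
  have cond : ∀ (U : X.Opens) (g : (Γ(Mero.kmod X, U))ˣ) (E : Mero.Divisor X),
      (∀ y : U, E.1 y.1 = Mero.germOf g y) →
      ∀ y : U, Mero.DivCond E y.1 (g⁻¹.1.1 y) := fun U g E hE y => by
    rw [Mero90.mk_regUnit_mul_cls E _ _ (hE y)]
    refine ⟨1, (map_one _).trans (congrArg Units.val (inv_mul_cancel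
      (Units.map (Mero.evalK X U y).toMonoidHom g))).symm⟩
  have h1 := (h V f⁻¹.1).mp (cond V f D hf) ⟨x, hx⟩
  have h2 := (h W f'⁻¹.1).mpr (cond W f' D' hf') ⟨x, hx'⟩
  obtain ⟨c, hc⟩ := h1 _ (hf' ⟨x, hx'⟩)
  obtain ⟨d, hd⟩ := h2 _ (hf ⟨x, hx⟩)
  rw [hf ⟨x, hx⟩, hf' ⟨x, hx'⟩]
  refine QuotientGroup.eq.mpr ?_
  have hc' : algebraMap (X.presheaf.stalk x) (Mero.KStalk X x) c =
      (((Units.map (Mero.evalK X V ⟨x, hx⟩).toMonoidHom f)⁻¹ *
        Units.map (Mero.evalK X W ⟨x, hx'⟩).toMonoidHom f' : (Mero.KStalk X x)ˣ) :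
          Mero.KStalk X x) := hc.trans (by rw [← map_inv, Units.val_mul]; rfl)
  have hd' : algebraMap (X.presheaf.stalk x) (Mero.KStalk X x) d =
      (((Units.map (Mero.evalK X W ⟨x, hx'⟩).toMonoidHom f')⁻¹ *
        Units.map (Mero.evalK X V ⟨x, hx⟩).toMonoidHom f : (Mero.KStalk X x)ˣ) :
          Mero.KStalk X x) := hd.trans (by rw [← map_inv, Units.val_mul]; rfl)
  have hcd : c * d = 1 := by
    apply Mero.algebraMap_KStalk_injective x
    rw [map_mul, map_one, hc', hd', ← Units.val_mul]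
    rw [show ∀ u v : (Mero.KStalk X x)ˣ, u⁻¹ * v * (v⁻¹ * u) = 1 from fun u v => by group,
      Units.val_one]
  refine ⟨⟨c, d, hcd, (mul_comm d c).trans hcd⟩, Units.ext ?_⟩
  rw [Units.coe_map, Units.val_mul]
  exact hc

end Groth.Agent.S5097
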