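import Groth.Statements.S5098
import Groth.Agent.Mero90.Div

set_option autoImplicit false
universe u
open CategoryTheory CategoryTheory.Limits AlgebraicGeometry TopologicalSpace
open Mero

namespace Groth.Agent.S5098

/-- General form, for divisors on a scheme that need not be integral: let X be a locally Noetherian
scheme and D a divisor on X. If the germ of D is effective (resp. trivial) at every point x whose
local ring O_{X,x} has depth 1, then D is effective (resp. D is the unit divisor, in the
multiplicative notation used here). -/
theorem result (X : Scheme.{u}) [IsLocallyNoetherian X] (D : Mero.Divisor X) :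
    ((∀ x : ↥X, LocCoh.depth ↑(X.presheaf.stalk x) ↑(X.presheaf.stalk x) = 1 → Mero.IsEffectiveAt D x) →
        Mero.IsEffective D) ∧
      ((∀ x : ↥X, LocCoh.depth ↑(X.presheaf.stalk x) ↑(X.presheaf.stalk x) = 1 → D.1 x = 1) → D = 1) := by
  have key : ∀ E : Mero.Divisor X,
      (∀ x : ↥X, LocCoh.depth ↑(X.presheaf.stalk x) ↑(X.presheaf.stalk x) = 1 →
        Mero.IsEffectiveAt E x) → Mero.IsEffective E := by
    intro E h x
    by_contra hx
    obtain ⟨z, -, hz, hmin⟩ :=
      Mero90.exists_minimal_generization (fun y => ¬ Mero.IsEffectiveAt E y) x hx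
    exact hz (h z (Mero90.depth_eq_one_of_not_effective E z hz
      fun w hw hne => not_not.mp (hmin w hw hne)))
  refine ⟨key D, fun h => Subtype.ext (funext fun x => ?_)⟩
  exact (Mero90.effective_and_inv_iff D x).mpr
    ⟨key D (fun y hy => ((Mero90.effective_and_inv_iff D y).mp (h y hy)).1) x,
      key D⁻¹ (fun y hy => ((Mero90.effective_and_inv_iff D y).mp (h y hy)).2) x⟩

end Groth.Agent.S5098
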