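import Groth.Statements.S5099
import Groth.Agent.Mero90.Div

set_option autoImplicit false
universe u
open CategoryTheory CategoryTheory.Limits AlgebraicGeometry TopologicalSpace
open Mero

namespace Groth.Agent.S5099

/-- General form, for divisors on a scheme that need not be integral: let X be a locally Noetherian
scheme, D a divisor on X and x a maximal point of the support of D (a point at which the germ of D
is not trivial and none of whose proper generizations has that property). Then the local ring of X
at x has depth 1. -/
theorem result (X : Scheme.{u}) [IsLocallyNoetherian X] (D : Mero.Divisor X)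
    (x : ↥X) (hx : x ∈ Mero.supp D) (hmax : ∀ z : ↥X, z ∈ Mero.supp D → z ⤳ x → z = x) :
    LocCoh.depth ↑(X.presheaf.stalk x) ↑(X.presheaf.stalk x) = 1 := by
  by_contra hd
  apply hx
  rw [Mero90.effective_and_inv_iff]
  have hgen : ∀ z, z ⤳ x → z ≠ x → D.1 z = 1 := fun z hz hne => by
    by_contra h
    exact hne (hmax z h hz)
  constructor
  · by_contra he
    exact hd (Mero90.depth_eq_one_of_not_effective D x he fun z hz hne =>
      ((Mero90.effective_and_inv_iff D z).mp (hgen z hz hne)).1)
  · by_contra he
    exact hd (Mero90.depth_eq_one_of_not_effective D⁻¹ x he fun z hz hne =>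
      ((Mero90.effective_and_inv_iff D z).mp (hgen z hz hne)).2)

end Groth.Agent.S5099
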