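import Groth.Prelude.Def_C1
import Groth.Prelude.Def_Pic
import Groth.Prelude.Def_Pi1
import Groth.Prelude.Def_Coh
import Mathlib.AlgebraicGeometry.Noetherian
import Mathlib.AlgebraicGeometry.OrderOfVanishing
import Mathlib.AlgebraicGeometry.FunctionField
import Groth.Agent.S16086
import Groth.Agent.Amp73.GlobGen

set_option autoImplicit false
universe u
open CategoryTheory CategoryTheory.Limits AlgebraicGeometry TopologicalSpace
namespace Div21
end Div21
open Div21

namespace Groth.Agent.S5103

/-- For an integral scheme (the canonical homomorphism Pic(X) → Cl(X) to the group of codimension-1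
cycle classes is injective): let X be a normal locally Noetherian integral scheme, L an invertible
O_X-module and s a nonzero rational section of L (a nonzero element of the fibre of L at the generic
point). If the Weil divisor of s is principal — there is a nonzero rational function f whose order
of vanishing at every point of codimension 1 (coheight 1 in the specialization order) equals the
order of s there — then L is isomorphic to O_X. -/
theorem result (X : Scheme.{u}) [IsIntegral X] [IsLocallyNoetherian X]
    (hX : Pi1.IsNormalScheme X) (L : X.Modules) (hL : PicF.IsInvertible L)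
    (s : Cyc.secFibre L (genericPoint ↥X)) (hs : s ≠ 0) (f : ↑X.functionField) (hf : f ≠ 0)
    (h : ∀ x : ↥X, Order.coheight x = 1 →
      Cyc.secOrdAt L (genericPoint ↥X) x (genericPoint_specializes x) s = Scheme.ord f x) :
    Nonempty (L ≅ Coh.structureModule X) := by
  open Div89.Ref1 in
  obtain ⟨o, ho, ho'⟩ := exists_unit_section (X := X)
  refine (S16086.result X hX L (Coh.structureModule X)
    (Div89.Ref1.isRef1_of_framed (Amp73.isCoh_of_isInvertible hL)
      (fun x => Div89.Ref1.isReflexiveAt_of_framed (Div89.Ref1.framed_of_isInvertible hL x))
      (Div89.Ref1.framed_of_isInvertible hL _))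
    Div89.Ref1.isRef1_structureModule s hs (Submodule.Quotient.mk o)
    (fun h0 => ho ((Div89.Ref1.secFibre_mk_bijective (Coh.structureModule X)).1 h0))).2
    ⟨f, hf, fun x hc => ?_⟩
  rw [h x hc]
  exact ((add_eq_right).2 (ho' x hc)).symm

end Groth.Agent.S5103
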