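import Groth.Statements.S5104
import Groth.Agent.Rat23.DefinedAt

set_option autoImplicit false
universe u
open CategoryTheory CategoryTheory.Limits AlgebraicGeometry TopologicalSpace
open Rat20

namespace Groth.Agent.S5104

open CategoryTheory Limits AlgebraicGeometry TopologicalSpace

theorem finite_irreducibleComponents {X P : Type u} [TopologicalSpace X] [TopologicalSpace P] {j : P → X}
    (hj : Topology.IsOpenEmbedding j) {W : Set X} (hr : Set.range j ⊆ W)
    (hfin : {Z : Set X | Z ∈ irreducibleComponents X ∧ (Z ∩ W).Nonempty}.Finite) :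
    (irreducibleComponents P).Finite := by
  refine (hfin.image fun C => j ⁻¹' C).subset fun Z hZ => ?_
  obtain ⟨C, hC, hsub⟩ := exists_mem_irreducibleComponents_subset_of_isIrreducible (j '' Z)
    (hZ.1.image _ hj.continuous.continuousOn)
  obtain ⟨z, hz⟩ := hZ.1.nonempty
  refine ⟨C, ⟨hC, j z, hsub ⟨z, hz, rfl⟩, hr ⟨z, rfl⟩⟩, ?_⟩
  have hle : Z ⊆ j ⁻¹' C := fun a ha => hsub ⟨a, ha, rfl⟩
  exact Set.Subset.antisymm (hZ.2 ⟨⟨z, hle hz⟩, hC.1.isPreirreducible.preimage hj⟩ hle) hle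

theorem exists_ext' {A : Type u} [CommRing A] {X Y S : Scheme.{u}} (pX : X ⟶ S) (pY : Y ⟶ S) [IsSeparated pY]
    (j : Spec (CommRingCat.of A) ⟶ X) [IsOpenImmersion j] {T : S.Opens} (hT : IsAffineOpen T)
    {VY : Y.Opens} (hVY : IsAffineOpen VY) (hVT : VY ≤ pY ⁻¹ᵁ T)
    (hfp : (pY.appLE T VY hVT).hom.FinitePresentation)
    (hjT : Set.range (j ≫ pX) ⊆ (T : Set S)) (U : X.Opens) (h : (U : Scheme.{u}) ⟶ Y)
    (hh : h ≫ pY = U.ι ≫ pX) (p : PrimeSpectrum A) (O : CommRingCat.{u}) (φ : CommRingCat.of A ⟶ O)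
    (hloc : letI := φ.hom.toAlgebra; IsLocalization.AtPrime O p.asIdeal)
    (hl : IsLocalRing O) (w : Spec O ⟶ Y) (hw : w ≫ pY = Spec.map φ ≫ j ≫ pX)
    (hwV : w (IsLocalRing.closedPoint O) ∈ VY)
    (hwh : ∀ (Z : Scheme.{u}) (a : Z ⟶ Spec O) (b : Z ⟶ (U : Scheme.{u})),
      a ≫ Spec.map φ ≫ j = b ≫ U.ι → a ≫ w = b ≫ h)
    (t : A) (ht : t ∈ nonZeroDivisors A) (htU : ∀ q : PrimeSpectrum A, t ∉ q.asIdeal → j q ∈ U) :
    ∃ (V : X.Opens) (v : (V : Scheme.{u}) ⟶ Y), j p ∈ V ∧ v ≫ pY = V.ι ≫ pX ∧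
      X.homOfLE (inf_le_right : U ⊓ V ≤ V) ≫ v = X.homOfLE (inf_le_left : U ⊓ V ≤ U) ≫ h := by
  letI := φ.hom.toAlgebra
  haveI := hloc
  haveI := hl
  exact Groth.Agent.Rat23.exists_extension_affine pX pY j hT hVY hVT hfp hjT U h hh p O w hw hwV hwh t ht htU

/-- Let X be an S-scheme which is locally Noetherian, or reduced with locally finite set of irreducible
components; let Y be separated and locally of finite presentation over S, U a schematically dense
open subset of X, h : U → Y an S-morphism (a pseudo-S-morphism ω of X into Y) and x a point of X.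
Then ω is defined at x — some S-morphism from an open neighbourhood V of x to Y agrees with h on U ∩
V — if and only if the restriction of ω to Spec O_{X,x} is everywhere defined — some S-morphism Spec
O_{X,x} → Y agrees with h after pulling back to Spec O_{X,x} ×_X U. (The published statement does
not assume Y separated over S and compares morphisms only on some schematically dense open; this row
assumes Y separated over S, where the two readings agree.) -/
theorem result {X Y S : Scheme.{u}} (pX : X ⟶ S) (pY : Y ⟶ S)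
    [IsSeparated pY] [LocallyOfFinitePresentation pY]
    (hX : IsLocallyNoetherian X ∨ (IsReduced X ∧ ∀ x : ↥X, ∃ W : X.Opens, x ∈ W ∧
      {Z : Set ↥X | Z ∈ irreducibleComponents ↥X ∧ (Z ∩ (W : Set ↥X)).Nonempty}.Finite))
    (U : X.Opens) (hU : CInt.IsSchematicallyDense U) (h : (U : Scheme.{u}) ⟶ Y) (hh : h ≫ pY = U.ι ≫ pX)
    (x : ↥X) :
    (∃ (V : X.Opens) (v : (V : Scheme.{u}) ⟶ Y), x ∈ V ∧ v ≫ pY = V.ι ≫ pX ∧
        X.homOfLE (inf_le_right : U ⊓ V ≤ V) ≫ v = X.homOfLE (inf_le_left : U ⊓ V ≤ U) ≫ h) ↔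
      ∃ w : Spec (X.presheaf.stalk x) ⟶ Y, w ≫ pY = X.fromSpecStalk x ≫ pX ∧
        pullback.fst (X.fromSpecStalk x) U.ι ≫ w = pullback.snd (X.fromSpecStalk x) U.ι ≫ h := by
  constructor
  · rintro ⟨V, v, hxV, hv, hvh⟩
    refine ⟨V.fromSpecStalkOfMem x hxV ≫ v, ?_, ?_⟩
    · rw [Category.assoc, hv, Scheme.Opens.fromSpecStalkOfMem_ι_assoc]
    · let a := pullback.fst (X.fromSpecStalk x) U.ι ≫ V.fromSpecStalkOfMem x hxV
      let b := pullback.snd (X.fromSpecStalk x) U.ι
      have hab : a ≫ V.ι = b ≫ U.ι := by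
        simp only [a, b, Category.assoc, Scheme.Opens.fromSpecStalkOfMem_ι, pullback.condition]
      have hr : Set.range (a ≫ V.ι) ⊆ Set.range (U ⊓ V).ι := by
        rintro _ ⟨z, rfl⟩
        rw [Scheme.Opens.range_ι]
        refine ⟨?_, ?_⟩
        · rw [hab]; exact (b z).2
        · exact (a z).2
      let l := IsOpenImmersion.lift (U ⊓ V).ι (a ≫ V.ι) hr
      have hl : l ≫ (U ⊓ V).ι = a ≫ V.ι := IsOpenImmersion.lift_fac _ _ _
      have ha : l ≫ X.homOfLE (inf_le_right : U ⊓ V ≤ V) = a := by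
        rw [← cancel_mono V.ι, Category.assoc, Scheme.homOfLE_ι, hl]
      have hb : l ≫ X.homOfLE (inf_le_left : U ⊓ V ≤ U) = b := by
        rw [← cancel_mono U.ι, Category.assoc, Scheme.homOfLE_ι, hl, hab]
      rw [← Category.assoc]
      show a ≫ v = b ≫ h
      rw [← ha, ← hb, Category.assoc, Category.assoc, hvh]
  · rintro ⟨w, hw, hwh⟩
    let y := w (IsLocalRing.closedPoint (X.presheaf.stalk x))
    obtain ⟨T, hT, hyT, -⟩ := exists_isAffineOpen_mem_and_subset (X := S) (x := pY y) (U := ⊤) trivial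
    obtain ⟨VY, hVY, hyV, hVT⟩ := exists_isAffineOpen_mem_and_subset (X := Y) (x := y) (U := pY ⁻¹ᵁ T) hyT
    have hxT : pX x ∈ T := by
      have e : pY (w (IsLocalRing.closedPoint (X.presheaf.stalk x))) =
          pX (X.fromSpecStalk x (IsLocalRing.closedPoint (X.presheaf.stalk x))) :=
        congrArg (fun m : Spec (X.presheaf.stalk x) ⟶ S => m (IsLocalRing.closedPoint _)) hw
      rw [Scheme.fromSpecStalk_closedPoint] at e
      rw [← e]; exact hyT
    obtain ⟨W₀, hxW₀, hW₀⟩ : ∃ W₀ : X.Opens, x ∈ W₀ ∧ (IsLocallyNoetherian X ∨ (IsReduced X ∧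
        {Z : Set ↥X | Z ∈ irreducibleComponents ↥X ∧ (Z ∩ (W₀ : Set ↥X)).Nonempty}.Finite)) := by
      rcases hX with h1 | ⟨h1, h2⟩
      · exact ⟨⊤, trivial, Or.inl h1⟩
      · obtain ⟨W₀, hx0, hfin⟩ := h2 x
        exact ⟨W₀, hx0, Or.inr ⟨h1, hfin⟩⟩
    obtain ⟨W, hW, hxW, hWsub⟩ := exists_isAffineOpen_mem_and_subset (X := X) (x := x)
      (U := W₀ ⊓ pX ⁻¹ᵁ T) ⟨hxW₀, hxT⟩
    let j : Spec (CommRingCat.of ↑Γ(X, W)) ⟶ X := hW.fromSpec
    have hjW : Set.range j = (W : Set ↥X) := hW.range_fromSpec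
    have hcond : IsNoetherian (Spec (CommRingCat.of ↑Γ(X, W))) ∨ (IsReduced (Spec (CommRingCat.of ↑Γ(X, W))) ∧
        (irreducibleComponents (Spec (CommRingCat.of ↑Γ(X, W)))).Finite) := by
      rcases hW₀ with h1 | ⟨h1, h2⟩
      · have : IsNoetherianRing Γ(X, W) := IsLocallyNoetherian.component_noetherian ⟨W, hW⟩
        exact Or.inl inferInstance
      · exact Or.inr ⟨isReduced_of_isOpenImmersion j, finite_irreducibleComponents j.isOpenEmbedding
          (hjW.le.trans fun z hz => (hWsub hz).1) h2⟩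
    obtain ⟨t, ht, htU⟩ := Groth.Agent.An92.Rat.exists_nzd_of_schDense hcond (j ⁻¹ᵁ U)
      (Groth.Agent.Rat23.schDense_preimage_openImm j hU)
    let e := (Scheme.ΓSpecIso (CommRingCat.of ↑Γ(X, W))).commRingCatIsoToRingEquiv
    have hloc := hW.isLocalization_stalk ⟨x, hxW⟩
    have hfs : Spec.map (X.presheaf.germ W x hxW) ≫ j = X.fromSpecStalk x :=
      hW.fromSpecStalk_eq_fromSpecStalk hxW
    have he : t = (Scheme.ΓSpecIso (CommRingCat.of ↑Γ(X, W))).inv (e t) := (e.symm_apply_apply t).symm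
    obtain ⟨V, v, hV, hv, hvh⟩ := exists_ext' pX pY j hT hVY (fun z hz => hVT hz)
      (pY.finitePresentation_appLE hT hVY _)
      (fun z hz => by
        obtain ⟨q, rfl⟩ := hz
        exact (hWsub (hjW.le ⟨q, rfl⟩)).2)
      U h hh (hW.primeIdealOf ⟨x, hxW⟩) (X.presheaf.stalk x) (X.presheaf.germ W x hxW) hloc inferInstance w
      (hw.trans ((congrArg (· ≫ pX) hfs.symm).trans (Category.assoc _ _ _))) hyV
      (fun Z a b hab => by
        rw [hfs] at hab
        calc a ≫ w = pullback.lift a b hab ≫ pullback.fst (X.fromSpecStalk x) U.ι ≫ w :=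
              (pullback.lift_fst_assoc _ _ _ _).symm
          _ = pullback.lift a b hab ≫ pullback.snd (X.fromSpecStalk x) U.ι ≫ h := by rw [hwh]
          _ = b ≫ h := pullback.lift_snd_assoc _ _ _ _)
      (e t) (by
        rw [mem_nonZeroDivisors_iff_right]
        intro z hz
        refine e.symm.injective ?_
        rw [map_zero]
        refine (mem_nonZeroDivisors_iff_right.1 ht) _ ?_
        rw [← e.symm_apply_apply t, ← map_mul, hz, map_zero])
      (fun q hq => by
        refine htU ?_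
        rw [he, basicOpen_eq_of_affine]
        exact hq)
    refine ⟨V, v, ?_, hv, hvh⟩
    have hx : j (hW.primeIdealOf ⟨x, hxW⟩) = x := hW.fromSpec_primeIdealOf ⟨x, hxW⟩
    exact hx ▸ hV

end Groth.Agent.S5104
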