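import Groth.Prelude.Def_C1
import Groth.Prelude.Def_Pic
import Groth.Prelude.Def_Pi1
import Mathlib.AlgebraicGeometry.Noetherian
import Mathlib.AlgebraicGeometry.FunctionField
import Mathlib.RingTheory.UniqueFactorizationDomain.Basic
import Groth.Agent.An92.WeilPar.Factorial

set_option autoImplicit false
universe u
open CategoryTheory CategoryTheory.Limits AlgebraicGeometry TopologicalSpace
namespace Div21
end Div21
open Div21

namespace Groth.Agent.S5105

/-- For an integral scheme (X is locally factorial exactly when the canonical map Pic(X) → Cl(X) is a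
bijection; in the presence of (i), being bijective means that each codimension-1 cycle arises as the
Weil divisor of some rational section of an invertible module): suppose X is an integral scheme that
is normal and locally Noetherian. Then these two conditions are equivalent: (1) whenever Z is a
function from the points of X to the integers that is zero away from the points of codimension 1
(coheight 1) and whose support is locally finite, one can find an invertible O_X-module L together
with a nonzero rational section s of L (a nonzero element of the generic fibre of L) such that, at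
each point of codimension 1, the order of s equals the value Z takes there; (2) each local ring of X
is a unique factorisation domain. -/
theorem result (X : Scheme.{u}) [IsIntegral X]
    [IsLocallyNoetherian X] (hX : Pi1.IsNormalScheme X) :
    (∀ Z : ↥X → ℤ, (∀ x : ↥X, Order.coheight x ≠ 1 → Z x = 0) →
        (∀ x : ↥X, ∃ W : X.Opens, x ∈ W ∧ {z : ↥X | z ∈ W ∧ Z z ≠ 0}.Finite) →
        ∃ (L : X.Modules) (_ : PicF.IsInvertible L) (s : Cyc.secFibre L (genericPoint ↥X)), s ≠ 0 ∧
          ∀ x : ↥X, Order.coheight x = 1 →
            Cyc.secOrdAt L (genericPoint ↥X) x (genericPoint_specializes x) s = Z x) ↔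
      ∀ x : ↥X, UniqueFactorizationMonoid ↑(X.presheaf.stalk x) := by
  have toD : ∀ Z : X → ℤ, (∀ x : X, ∃ W : X.Opens, x ∈ W ∧ {z : X | z ∈ W ∧ Z z ≠ 0}.Finite) →
      ∀ x : X, ∃ N ∈ nhds x, (N ∩ Function.support Z).Finite := fun Z hZ x => by
    obtain ⟨W, hx, hW⟩ := hZ x
    exact ⟨W, W.2.mem_nhds hx, hW.subset fun z hz => ⟨hz.1, hz.2⟩⟩
  constructor
  · intro h x
    refine An92.WeilPar.ufm_of_framed hX x fun Z hZ1 hZf => ?_
    obtain ⟨L, hL, s, hs, hsZ⟩ := h Z hZ1 hZf
    obtain ⟨v, rfl⟩ := Submodule.Quotient.mk_surjective _ s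
    have hv : v ≠ 0 := fun h0 => hs (by rw [h0, Submodule.Quotient.mk_zero])
    obtain ⟨W, hx, e, he, φ, hφ, rfl⟩ :=
      Div89.Ref1.exists_coord (Div89.Ref1.framed_of_isInvertible hL x) hv
    exact ⟨φ, hφ, fun y hc hy => (hsZ y hc).symm.trans
      (Div89.Ref1.sord_frame he _ (hy.mem_open W.2 hx) hc φ hφ)⟩
  · intro h Z hZ1 hZf
    have hD := toD Z hZf
    obtain ⟨s, hs, hsD⟩ := Div89.Ref1.exists_section_divisor hX hD
    refine ⟨_, Mero90.isInvertible_of_frames fun x => ?_, Submodule.Quotient.mk s,
      fun h0 => hs ((Div89.Ref1.secFibre_mk_bijective (Div89.Ref1.divMod Z hX)).1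
        (h0.trans (Submodule.Quotient.mk_zero _).symm)),
      fun x hc => hsD x hc⟩
    haveI := h x
    obtain ⟨W, hx, e, he⟩ := An92.WeilPar.framed_of_ufm hX Z hD hZ1 x
    exact ⟨W, hx, e, he⟩

end Groth.Agent.S5105
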