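import Groth.Statements.S5108
import Groth.Agent.Subtr56.PurW.Wrap
import Groth.Agent.Subtr56.PurW.Nhd

set_option autoImplicit false
universe u
open CategoryTheory CategoryTheory.Limits AlgebraicGeometry TopologicalSpace
open Pur21

namespace Groth.Agent.S5108

/-- Let X and Y be locally Noetherian schemes, g : X → Y a morphism, y a closed point of Y and Y' = Y −
{y}; suppose that the restriction g⁻¹(Y') → Y' of g is an open immersion and that the local ring
O_{Y,y} satisfies condition (W): every open subset U of the punctured spectrum of O_{Y,y} which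
contains no irreducible component of the punctured spectrum and whose inclusion into the punctured
spectrum is an affine morphism is itself affine. Then for every irreducible component Z of the fibre
g⁻¹(y), with generic point z (a point over y with no proper generization over y), either Z has
codimension ≤ 1 in X (dim O_{X,z} ≤ 1) or z is isolated in Z (some open neighbourhood of z contains
no other point of Z). The morphism g is not assumed locally of finite type. (The published statement
adds that, when the component is locally of finite type over the residue field of y, the second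
alternative forces it to be a single point; this row omits that clause.) -/
theorem result {X Y : Scheme.{u}}
    [IsLocallyNoetherian X] [IsLocallyNoetherian Y] (g : X ⟶ Y) (y : ↥Y) (Y' : Y.Opens)
    (hY' : (Y' : Set ↥Y) = {y}ᶜ) [IsOpenImmersion (g ∣_ Y')]
    (hW : (∀ U : (Spec (Y.presheaf.stalk y)).Opens, ∀ hU : U ≤ FEt.puncturedSpec ↑(Y.presheaf.stalk y),
        (∀ T ∈ irreducibleComponents ↥(FEt.puncturedSpec ↑(Y.presheaf.stalk y)), ¬ Subtype.val '' T ⊆ (U : Set _)) →
        IsAffineHom ((Spec (Y.presheaf.stalk y)).homOfLE hU) → IsAffineOpen U))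
    (z : ↥X) (hz : g z = y) (hmax : ∀ z' : ↥X, g z' = y → z' ⤳ z → z' = z) :
    ringKrullDim ↑(X.presheaf.stalk z) ≤ 1 ∨
      ∃ O : X.Opens, z ∈ O ∧ ∀ z' : ↥X, z' ∈ O → g z' = y → z ⤳ z' → z' = z := by
  by_cases hiso : ∃ O : X.Opens, z ∈ O ∧ ∀ z' : ↥X, z' ∈ O → g z' = y → z ⤳ z' → z' = z
  · exact Or.inr hiso
  left
  push Not at hiso
  obtain ⟨Y₀, hY₀, hy, -⟩ := exists_isAffineOpen_mem_and_subset (x := y) (U := ⊤) trivial
  obtain ⟨O, hO, hzO, hOY⟩ :=
    exists_isAffineOpen_mem_and_subset (x := z) (U := g ⁻¹ᵁ Y₀) (show g z ∈ Y₀ by rw [hz]; exact hy)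
  obtain ⟨q, hqO, hq, hzq, hne⟩ := hiso O hzO
  let G : X.Opens := O ⊓ g ⁻¹ᵁ Y'
  haveI : IsOpenImmersion (G.ι ≫ g) := by
    rw [← Scheme.homOfLE_ι X (show G ≤ g ⁻¹ᵁ Y' from inf_le_right), Category.assoc,
      ← morphismRestrict_ι]
    infer_instance
  refine Groth.Agent.Subtr56.PurW.dim_le_one_of_cond g y hY₀ hy hO hOY G
    (fun x hx _ hne' => ⟨hx, ?_⟩) hW hzO hqO hz hq hzq hne (fun z' _ h1 h2 => hmax z' h1 h2)
  show g x ∈ (Y' : Set ↥Y)
  rw [hY']
  exact hne'

end Groth.Agent.S5108
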