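import Groth.Statements.S5109
import Groth.Agent.Subtr56.PurW.Wrap
import Groth.Agent.Subtr56.PurW.Nhd

set_option autoImplicit false
universe u
open CategoryTheory CategoryTheory.Limits AlgebraicGeometry TopologicalSpace
open Pur21

namespace Groth.Agent.S5109

/-- Let X and Y be locally Noetherian schemes with X irreducible, g : X → Y a morphism locally of finite
type, and V the largest open subset of X on which g is a local isomorphism. Suppose that for every
point y of Y the local ring O_{Y,y} satisfies the following condition (W): every open subset of its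
punctured spectrum which contains no irreducible component of the punctured spectrum and whose
inclusion is affine is itself affine. Then every irreducible component of T = X − V either has
codimension ≤ 1 in X or has its generic point z isolated in the fibre g⁻¹(g(z)): for every point z
with no open neighbourhood on which g is a local isomorphism, and maximal with this property under
generization, either dim O_{X,z} ≤ 1 or some open neighbourhood of z meets the fibre through z only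
in z. -/
theorem result {X Y : Scheme.{u}}
    [IsLocallyNoetherian X] [IsLocallyNoetherian Y] [IrreducibleSpace ↥X] (g : X ⟶ Y) [LocallyOfFiniteType g]
    (hW : ∀ y : ↥Y, (∀ U : (Spec (Y.presheaf.stalk y)).Opens, ∀ hU : U ≤ FEt.puncturedSpec ↑(Y.presheaf.stalk y),
        (∀ T ∈ irreducibleComponents ↥(FEt.puncturedSpec ↑(Y.presheaf.stalk y)), ¬ Subtype.val '' T ⊆ (U : Set _)) →
        IsAffineHom ((Spec (Y.presheaf.stalk y)).homOfLE hU) → IsAffineOpen U))
    (z : ↥X) (hz : ¬ ∃ W : X.Opens, z ∈ W ∧ IsLocalIso (W.ι ≫ g))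
    (hmax : ∀ z' : ↥X, (¬ ∃ W : X.Opens, z' ∈ W ∧ IsLocalIso (W.ι ≫ g)) → z' ⤳ z → z' = z) :
    ringKrullDim ↑(X.presheaf.stalk z) ≤ 1 ∨
      ∃ O : X.Opens, z ∈ O ∧ ∀ z' : ↥X, z' ∈ O → g z' = g z → z' = z := by
  by_cases hiso : ∃ O : X.Opens, z ∈ O ∧ ∀ z' : ↥X, z' ∈ O → g z' = g z → z' = z
  · exact Or.inr hiso
  left
  push Not at hiso
  let V : X.Opens := sSup {W : X.Opens | IsLocalIso (W.ι ≫ g)}
  have hV : ∀ x, x ∈ V ↔ ∃ W : X.Opens, x ∈ W ∧ IsLocalIso (W.ι ≫ g) := fun x => by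
    simp only [V, Opens.mem_sSup]
    exact ⟨fun ⟨W, h1, h2⟩ => ⟨W, h2, h1⟩, fun ⟨W, h1, h2⟩ => ⟨W, h2, h1⟩⟩
  have hmax' : ∀ z' ∈ (V : Set ↥X)ᶜ, z' ⤳ z → z' = z := fun z' h1 h2 =>
    hmax z' (fun h => h1 ((hV z').2 h)) h2
  obtain ⟨N, hzN, hN⟩ := Groth.Agent.Subtr56.PurW.exists_nhd_closed V.isOpen.isClosed_compl hmax'
  obtain ⟨Y₀, hY₀, hy, -⟩ := exists_isAffineOpen_mem_and_subset (x := g z) (U := ⊤) trivial
  obtain ⟨O, hO, hzO, hON⟩ :=
    exists_isAffineOpen_mem_and_subset (x := z) (U := N ⊓ g ⁻¹ᵁ Y₀) ⟨hzN, hy⟩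
  let G : X.Opens := O ⊓ V
  have hiso' : ∀ x ∈ V, IsIso (g.stalkMap x) := fun x hx => by
    obtain ⟨W, hxW, hW'⟩ := (hV x).1 hx
    haveI := hW'
    exact Groth.Agent.Subtr56.PurW.isIso_stalkMap_of_mem g hxW
  haveI : IsLocalIso (G.ι ≫ g) :=
    Groth.Agent.Subtr56.PurW.isLocalIso_of_forall g fun x hx => (hV x).1 hx.2
  have hinj : ∀ x₁ x₂, x₁ ∈ G → x₂ ∈ G → g x₁ = g x₂ → x₁ = x₂ := fun x₁ x₂ h₁ h₂ he => by
    haveI := hiso' x₁ h₁.2
    haveI := hiso' x₂ h₂.2
    haveI := hiso' (genericPoint ↥X) ((genericPoint_specializes x₁).mem_open V.isOpen h₁.2)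
    exact Groth.Agent.Subtr56.PurW.eq_of_common_generization g hO h₁.1 h₂.1
      (genericPoint_specializes x₁) (genericPoint_specializes x₂) he
      (ConcreteCategory.bijective_of_isIso _).2 (ConcreteCategory.bijective_of_isIso _).2
      (ConcreteCategory.bijective_of_isIso _).1
  haveI : IsOpenImmersion (G.ι ≫ g) :=
    Groth.Agent.Subtr56.PurW.isOpenImmersion_of_isLocalIso_of_injective _
      fun a b h => Subtype.ext (hinj a.1 b.1 a.2 b.2 h)
  have hG : ∀ x ∈ O, g x ⤳ g z → g x ≠ g z → x ∈ G := fun x hxO h1 h2 => by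
    refine ⟨hxO, ?_⟩
    by_contra hxV
    exact h2 (h1.antisymm ((hN x (hON hxO).1 hxV).map g.continuous)).eq
  have hzV : z ∉ V := fun h => hz ((hV z).1 h)
  have hmin : ∀ z' ∈ O, g z' = g z → z' ⤳ z → z' = z := fun z' _ h1 h2 => by
    by_cases h : z' ∈ V
    · haveI := hiso' z' h
      exact Groth.Agent.Subtr56.PurW.eq_of_stalkMap_surjective g h2 h1
        (ConcreteCategory.bijective_of_isIso _).2
    · exact hmax' z' h h2
  obtain ⟨q, hqO, hq, hne, hqV⟩ : ∃ q, q ∈ O ∧ g q = g z ∧ q ≠ z ∧ q ∉ V := by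
    by_cases hw : ∃ w, w ∈ G ∧ g w = g z
    · obtain ⟨w, hwG, hw⟩ := hw
      let O' : X.Opens := O ⊓ ⟨(closure {w})ᶜ, isClosed_closure.isOpen_compl⟩
      have hzO' : z ∈ O' := ⟨hzO, fun hzw => by
        have := hmin w hwG.1 hw (specializes_iff_mem_closure.2 hzw)
        exact hzV (this ▸ hwG.2)⟩
      obtain ⟨q, hqO', hq, hne⟩ := hiso O' hzO'
      exact ⟨q, hqO'.1, hq, hne, fun hqV => hqO'.2
        ((hinj q w ⟨hqO'.1, hqV⟩ hwG (hq.trans hw.symm)) ▸ subset_closure rfl)⟩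
    · obtain ⟨q, hqO, hq, hne⟩ := hiso O hzO
      exact ⟨q, hqO, hq, hne, fun hqV => hw ⟨q, ⟨hqO, hqV⟩, hq⟩⟩
  exact Groth.Agent.Subtr56.PurW.dim_le_one_of_cond g (g z) hY₀ hy hO (fun x hx => (hON hx).2) G
    hG (hW (g z)) hzO hqO rfl hq (hN q (hON hqO).1 hqV) hne hmin

end Groth.Agent.S5109
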