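import Groth.Prelude.Def_ParaF
import Groth.Prelude.Def_Pi1
import Mathlib.AlgebraicGeometry.Noetherian
import Mathlib.AlgebraicGeometry.OrderOfVanishing
import Mathlib.AlgebraicGeometry.FunctionField
import Mathlib.RingTheory.KrullDimension.Basic
import Groth.Agent.An92.WeilPar.Parafactorial

set_option autoImplicit false
universe u
open CategoryTheory CategoryTheory.Limits AlgebraicGeometry TopologicalSpace
namespace Div21
end Div21
open Div21

namespace Groth.Agent.S5112

/-- The implication from (b) to (a), for an integral scheme (a normal locally Noetherian scheme is the
disjoint union of its integral components): let X be a normal locally Noetherian integral scheme and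
S a subset of X. A codimension-1 cycle Z (an integer-valued function on points, zero off the points
of codimension 1, i.e. of coheight 1, with locally finite support) is principal at a point x when
there is a nonzero rational function whose order at every codimension-1 point generizing x is the
value of Z there (the trace of Z on Spec O_{X,x} is a principal divisor). Suppose (b): for every
point x of X which is not a generization of a point of S (the closure of x does not meet S) and
whose local ring has dimension at least 2, the local ring O_{X,x} is parafactorial. Then (a): every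
codimension-1 cycle which is principal at all points of S is principal at every point of X (it is
locally principal). (The published statement asserts that (a) and (b) are equivalent. The
implication from (a) to (b) fails: on the quotient of the real 2-sphere x² + y² + z² = 1 by (x, y,
z) ↦ (−x, −y, z), a normal Noetherian integral surface with exactly two singular points and divisor
class group of order 2, take S to be one singular point; every cycle principal there is principal
everywhere, while the local ring at the other singular point has dimension 2 and is not
parafactorial. This row states the implication from (b) to (a), which the published argument does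
prove.) -/
theorem result (X : Scheme.{u}) [IsIntegral X]
    [IsLocallyNoetherian X] (hX : Pi1.IsNormalScheme X) (S : Set ↥X)
    (hpar : ∀ x : ↥X, closure {x} ∩ S = ∅ → (2 : WithBot ℕ∞) ≤ ringKrullDim ↑(X.presheaf.stalk x) →
        ParaF.IsParafactorialLocalRing ↑(X.presheaf.stalk x))
    (Z : ↥X → ℤ) (hZ : ∀ x : ↥X, Order.coheight x ≠ 1 → Z x = 0)
    (hZfin : ∀ x : ↥X, ∃ W : X.Opens, x ∈ W ∧ {z : ↥X | z ∈ W ∧ Z z ≠ 0}.Finite)
    (hS : ∀ s : ↥X, s ∈ S →
        ∃ f : ↑X.functionField, f ≠ 0 ∧ ∀ x' : ↥X, Order.coheight x' = 1 → x' ⤳ s → Z x' = Scheme.ord f x')
    (x : ↥X) :
    ∃ f : ↑X.functionField, f ≠ 0 ∧ ∀ x' : ↥X, Order.coheight x' = 1 → x' ⤳ x → Z x' = Scheme.ord f x' := by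
  have hD : ∀ y : X, ∃ N ∈ nhds y, (N ∩ Function.support Z).Finite := fun y => by
    obtain ⟨W, hy, hW⟩ := hZfin y
    exact ⟨W, W.2.mem_nhds hy, hW.subset fun z hz => ⟨hz.1, hz.2⟩⟩
  open Div89 in
  have hall := An92.WeilPar.framed_all hX Z hD (fun y hy hnot => hpar y (Set.eq_empty_iff_forall_notMem.2
    fun s hs => hnot ?_) hy) x
  · obtain ⟨f, hf, h⟩ := (An92.WeilPar.framed_iff hX hD x).1 hall
    exact ⟨f, hf, h⟩
  · obtain ⟨f, hf, h⟩ := hS s hs.2
    exact (An92.WeilPar.framed_iff hX hD y).2
      ⟨f, hf, fun z hc hzy => h z hc (hzy.trans (specializes_iff_mem_closure.2 hs.1))⟩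

end Groth.Agent.S5112
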