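import Groth.Statements.S5114
import Groth.Agent.S0504
import Groth.Agent.Sga84.FiniteSigma
import Groth.Agent.Unr55.FinitePart
import Mathlib.RingTheory.Henselian

set_option autoImplicit false
universe u
open SGA1

namespace Groth.Agent.S5114

open AlgebraicGeometry CategoryTheory CategoryTheory.Limits in
theorem result (A : Type u) [CommRing A]
    [IsNoetherianRing A] [IsLocalRing A] [IsAdicComplete (IsLocalRing.maximalIdeal A) A]
    {S' : Scheme.{u}} (g : S' ⟶ Spec (CommRingCat.of A)) [LocallyOfFiniteType g] [QuasiCompact g]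
    [Surjective g]
    (hfin : (g.base ⁻¹' {IsLocalRing.closedPoint A}).Finite)
    (hsp : ∀ t : S', ∃ s' : S', g.base s' = IsLocalRing.closedPoint A ∧ t ⤳ s') :
    SGA1.UnivSubmersive g := by
  classical
  have : HenselianLocalRing A := { is_henselian := fun f hf a₀ h₁ h₂ => HenselianRing.is_henselian (R := A) (I := IsLocalRing.maximalIdeal A) f hf a₀ h₁ (h₂.map _) }
  have hus : ∀ {X Y : Scheme.{u}} (m : X ⟶ Y), IsFinite m → Surjective m → SGA1.UnivSubmersive m := by
    intro X Y m hm hs A' B' i₁ i₂ m' h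
    have hm' : IsFinite m' := MorphismProperty.of_isPullback (P := @IsFinite) h.flip hm
    have hs' : Surjective m' := MorphismProperty.of_isPullback (P := @Surjective) h.flip hs
    exact (m'.isClosedMap).isQuotientMap m'.continuous m'.surjective
  -- the finite pieces
  have key : ∀ s' : S', g.base s' = IsLocalRing.closedPoint A → ∃ (Z : Scheme.{u}) (h : Z ⟶ S'), IsFinite (h ≫ g) ∧ ∀ t, t ⤳ s' → t ∈ Set.range h := by
    intro s' hs'
    obtain ⟨U, hU, hs'U, -⟩ := exists_isAffineOpen_mem_and_subset (X := S') (x := s') (U := ⊤) trivial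
    let B := Γ(S', U)
    obtain ⟨φ, hφ⟩ := Spec.map_surjective (hU.fromSpec ≫ g)
    have hlft : LocallyOfFiniteType (Spec.map φ) := by rw [hφ]; infer_instance
    have hft : φ.hom.FiniteType := (HasRingHomProperty.Spec_iff (P := @LocallyOfFiniteType)).mp hlft
    algebraize [φ.hom]
    obtain ⟨e, he, hfinB, hnot⟩ := Groth.Agent.S0504.result A B
    let q := hU.primeIdealOf ⟨s', hs'U⟩
    have hq : hU.fromSpec q = s' := hU.fromSpec_primeIdealOf _
    have hqm : q.asIdeal.under A = IsLocalRing.maximalIdeal A := by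
      have : Spec.map φ q = IsLocalRing.closedPoint A := by
        rw [hφ, Scheme.Hom.comp_apply, hq]; exact hs'
      exact congrArg PrimeSpectrum.asIdeal this
    have hqe : e ∉ q.asIdeal := by
      intro heq
      let I := Ideal.span ({e} : Set B)
      have hI : I ≤ q.asIdeal := (Ideal.span_singleton_le_iff_mem _).mpr heq
      let qb : Ideal (B ⧸ I) := q.asIdeal.map (Ideal.Quotient.mk I)
      have hqb : qb.comap (Ideal.Quotient.mk I) = q.asIdeal := by
        rw [Ideal.comap_map_of_surjective _ Ideal.Quotient.mk_surjective, ← RingHom.ker_eq_comap_bot, Ideal.mk_ker, sup_eq_left.mpr hI]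
      have : qb.IsPrime := Ideal.map_isPrime_of_surjective Ideal.Quotient.mk_surjective (by rwa [Ideal.mk_ker])
      have : qb.LiesOver (IsLocalRing.maximalIdeal A) := ⟨by
        show _ = qb.comap (algebraMap A (B ⧸ I))
        rw [show algebraMap A (B ⧸ I) = (Ideal.Quotient.mk I).comp (algebraMap A B) from rfl, ← Ideal.comap_comap, hqb]
        exact hqm.symm⟩
      refine hnot qb this ?_
      have : Algebra.QuasiFiniteAt A q.asIdeal := by
        have h1 : g.QuasiFiniteAt (hU.fromSpec q) := Groth.Agent.Unr55.quasiFiniteAt_of_finite_preimage g _ (by rw [hq, hs']; exact hfin)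
        rw [← Scheme.Hom.quasiFiniteAt_comp_iff_of_isOpenImmersion, ← hφ] at h1
        let := Localization.AtPrime.algebraOfLiesOver (q.asIdeal.under A) q.asIdeal
        have h2 : Algebra.QuasiFinite (Localization.AtPrime (q.asIdeal.under A)) (Localization.AtPrime q.asIdeal) := by
          rw [← RingHom.quasiFinite_algebraMap]
          exact (RingHom.QuasiFinite.respectsIso.arrow_mk_iso_iff (Scheme.arrowStalkMapSpecIso ..)).mp h1
        exact .trans _ (Localization.AtPrime (q.asIdeal.under A)) _
      exact Algebra.QuasiFiniteAt.of_surjectiveOnStalks q.asIdeal (Ideal.Quotient.mkₐ A I)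
        (RingHom.surjectiveOnStalks_of_surjective Ideal.Quotient.mk_surjective) qb hqb.symm
    let J := Ideal.span ({1 - e} : Set B)
    refine ⟨Spec (CommRingCat.of (B ⧸ J)), Spec.map (CommRingCat.ofHom (Ideal.Quotient.mk J)) ≫ hU.fromSpec, ?_, ?_⟩
    · rw [Category.assoc, ← hφ, ← Spec.map_comp, IsFinite.SpecMap_iff]
      exact RingHom.finite_algebraMap.mpr hfinB
    · intro t ht
      have htU : t ∈ U := ht.mem_open U.2 hs'U
      let r := hU.primeIdealOf ⟨t, htU⟩
      have hrt : hU.fromSpec r = t := hU.fromSpec_primeIdealOf _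
      have hrq : r.asIdeal ≤ q.asIdeal := (PrimeSpectrum.le_iff_specializes r q).mpr
        (hU.fromSpec.isOpenEmbedding.isInducing.specializes_iff.mp (by
          show hU.fromSpec r ⤳ hU.fromSpec q
          rw [hrt, hq]; exact ht))
      have hJ : J ≤ r.asIdeal := by
        rw [Ideal.span_singleton_le_iff_mem]
        refine (r.isPrime.mem_or_mem (show e * (1 - e) ∈ r.asIdeal by rw [mul_sub, mul_one, he.eq, sub_self]; exact zero_mem _)).resolve_left fun h => hqe (hrq h)
      obtain ⟨w, hw⟩ : r ∈ Set.range (PrimeSpectrum.comap (Ideal.Quotient.mk J)) := by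
        rw [range_comap_of_surjective _ _ Ideal.Quotient.mk_surjective, Ideal.mk_ker]
        exact hJ
      refine ⟨w, ?_⟩
      rw [Scheme.Hom.comp_apply, show Spec.map (CommRingCat.ofHom (Ideal.Quotient.mk J)) w = r from hw, hrt]
  choose Z h hfinh hrange using key
  let ι := {s' : S' // g.base s' = IsLocalRing.closedPoint A}
  have : Finite ι := hfin.to_subtype
  let H : (∐ fun i : ι => Z i.1 i.2) ⟶ S' := Sigma.desc fun i => h i.1 i.2
  have hHfin : IsFinite (H ≫ g) := by
    rw [show H ≫ g = Sigma.desc fun i : ι => h i.1 i.2 ≫ g from Sigma.hom_ext _ _ fun i => by rw [Sigma.ι_desc_assoc, Sigma.ι_desc]]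
    have : ∀ i : ι, IsFinite (h i.1 i.2 ≫ g) := fun i => hfinh _ _
    exact Groth.Agent.FiniteSigma84.isFinite_sigmaDesc _
  have hHs : Surjective H := ⟨fun t => by
    obtain ⟨s', hs', ht⟩ := hsp t
    obtain ⟨z, hz⟩ := hrange s' hs' t ht
    exact ⟨Sigma.ι (fun i : ι => Z i.1 i.2) ⟨s', hs'⟩ z, by rw [← Scheme.Hom.comp_apply, Sigma.ι_desc]; exact hz⟩⟩
  have hHg := hus (H ≫ g) hHfin inferInstance
  intro X' Y' i₁ i₂ g' hpb
  have hpb' := (IsPullback.of_hasPullback H i₁).paste_vert hpb.flip
  have hq := hHg _ _ _ hpb'.flip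
  exact Topology.IsQuotientMap.of_comp (pullback.snd H i₁).continuous g'.continuous hq

end Groth.Agent.S5114
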