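import Groth.Statements.S5115
import Groth.Agent.Unr55.Et.UHEquiv
import Groth.Agent.S0415

set_option autoImplicit false
universe u
open EtBase

namespace Groth.Agent.S5115

open AlgebraicGeometry CategoryTheory CategoryTheory.Limits in
/-- Let g : S' ⟶ S be faithfully flat (flat and surjective), quasi-compact and radicial (universally
injective). Then base change along g is an equivalence from the category of schemes etale over S to
the category of schemes etale over S'. -/
theorem result {S S' : Scheme.{u}} (g : S' ⟶ S)
    [Flat g] [Surjective g] [QuasiCompact g] [UniversallyInjective g] :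
    (EtCoh.bc g).IsEquivalence := by
  have hg : FlatMor.IsUnivHomeo g := fun _ _ _ _ _ h =>
    Groth.Agent.Unr55.EtGlue.isHomeomorph_of_isPullback h (Groth.Agent.Unr55.isUnivHomeo_of_flat g)
  obtain ⟨_, _, _⟩ := (Groth.Agent.S0415.result g).1 hg
  exact Groth.Agent.Unr55.EtGlue.bc_isEquivalence_of_isIntegralHom g

end Groth.Agent.S5115
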