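import Groth.Statements.S5117
import Groth.Agent.FEt83.FieldSplit

set_option autoImplicit false
universe u
open Pi1

namespace Groth.Agent.S5117

set_option backward.isDefEq.respectTransparency.types false in
open AlgebraicGeometry CategoryTheory CategoryTheory.Limits Groth.Agent.FEt83 in
/-- (ii bis) ⇒ (i), over a field. Let k be a field with algebraic closure k̄, X a quasi-compact and
quasi-separated k-scheme such that X ×_k k̄ is connected, and X' a connected finite etale cover of
X. If the induced cover X' ×_k k̄ → X ×_k k̄ admits a section, then X' is isomorphic over X to X ×_k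
S' for some finite etale k-scheme S'. (The published statement allows the spectrum of an Artinian
local ring with residue field k as base and asks only that X be quasi-compact; this row takes a
field and X quasi-compact and quasi-separated.) -/
theorem result (k : Type u) [Field k] {X : Scheme.{u}}
    (f : X ⟶ Spec (CommRingCat.of k)) [CompactSpace X] [QuasiSeparatedSpace X]
    [ConnectedSpace ↥(pullback f (Spec.map (CommRingCat.ofHom (algebraMap k (AlgebraicClosure k)))))]
    (X' : FEt.Cat X) [ConnectedSpace X'.left]
    (σ : pullback f (Spec.map (CommRingCat.ofHom (algebraMap k (AlgebraicClosure k)))) ⟶ X'.left)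
    (hσ : σ ≫ X'.hom = pullback.fst f (Spec.map (CommRingCat.ofHom (algebraMap k (AlgebraicClosure k))))) :
    ∃ S' : FEt.Cat (Spec (CommRingCat.of k)), Nonempty ((FEt.restrict f).obj S' ≅ X') := by
  obtain ⟨A, T, c, hc⟩ := exists_constant_hom f X' σ hσ
  have : Surjective T.left := by
    refine ⟨Set.range_eq_univ.mp ?_⟩
    obtain ⟨_, _⟩ := isFinite_left T
    refine IsClopen.eq_univ ⟨T.left.isClosedMap.isClosed_range, T.left.isOpenMap.isOpen_range⟩ ?_
    exact ⟨_, c (Classical.arbitrary _), rfl⟩
  exact exists_quotient (liftsClopens_of_geomConnected f) T

end Groth.Agent.S5117
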