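import Groth.Statements.S5118
import Groth.Agent.Sga84.Kummer

set_option autoImplicit false
universe u
open SGA1t

namespace Groth.Agent.S5118

open Polynomial in
theorem result (A : Type u) [CommRing A] (n : ℕ) (hn : 1 ≤ n) :
    Algebra.Etale A (AdjoinRoot ((X : A[X]) ^ n - 1)) ↔ IsUnit ((n : ℕ) : A) := by
  exact ⟨fun h => haveI := h; Sga84.isUnit_of_etale_roots A n, Sga84.etale_roots_of_isUnit A n hn⟩

end Groth.Agent.S5118
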