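import Groth.Statements.S5124
import Groth.Agent.Eff84.Stalk

set_option autoImplicit false
universe u
open SGA1

namespace Groth.Agent.S5124

open AlgebraicGeometry CategoryTheory CategoryTheory.Limits in
/-- Let g : S' ⟶ S be universally submersive and of finite presentation, D a descent datum relative to g
(functor-of-points form, for the one-member family g) whose underlying S'-scheme is etale and of
finite presentation (quasi-compact and quasi-separated) over S', and a a point of S. Then there is
an open neighbourhood U of a over which the induced descent datum (relative to S' ×_S U ⟶ U) is the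
canonical datum of some etale U-scheme if and only if the descent datum induced over Spec O_{S,a}
(relative to S' ×_S Spec O_{S,a} ⟶ Spec O_{S,a}) is the canonical datum of some etale scheme over
Spec O_{S,a}. -/
theorem result {S S' : Scheme.{u}} (g : S' ⟶ S) (hg : SGA1.UnivSubmersive g)
    [LocallyOfFinitePresentation g] [QuasiCompact g] [QuasiSeparated g]
    (D : Desc.SchDDFam (fun _ : PUnit.{1} => g)) [Etale (D.obj PUnit.unit).hom]
    [QuasiCompact (D.obj PUnit.unit).hom] [QuasiSeparated (D.obj PUnit.unit).hom] (a : S) :
    (∃ W : S.Opens, a ∈ W ∧ (∃ U : Over (W : Scheme.{u}), Etale U.hom ∧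
        Nonempty ((Desc.toDDFam (fun _ : PUnit.{1} => pullback.snd g W.ι)).obj U ≅
          (Desc.pullDDFam (f := fun _ : PUnit.{1} => g) (f' := fun _ : PUnit.{1} => pullback.snd g W.ι)
        (α := id) (p := W.ι) (p' := fun _ => pullback.fst g W.ι) (fun _ => pullback.condition)).obj D))) ↔
      (∃ U : Over (Spec (S.presheaf.stalk a)), Etale U.hom ∧
        Nonempty ((Desc.toDDFam (fun _ : PUnit.{1} => pullback.snd g (S.fromSpecStalk a))).obj U ≅
          (Desc.pullDDFam (f := fun _ : PUnit.{1} => g) (f' := fun _ : PUnit.{1} => pullback.snd g (S.fromSpecStalk a))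
        (α := id) (p := (S.fromSpecStalk a)) (p' := fun _ => pullback.fst g (S.fromSpecStalk a)) (fun _ => pullback.condition)).obj D)) := by
  let D' := (Desc.SchDDFam.toSchDD g).obj D
  have : Etale D'.obj.hom := ‹_›
  have : QuasiCompact D'.obj.hom := ‹_›
  have : QuasiSeparated D'.obj.hom := ‹_›
  constructor
  · rintro ⟨W, ha, hW⟩
    exact (Eff84.exists_fam_iff_effAt D _).mpr (((Eff84.exists_fam_iff_effAt D W.ι).mp hW).comp
      (W.fromSpecStalkOfMem a ha) (Scheme.Opens.fromSpecStalkOfMem_ι W a ha))
  · intro h
    obtain ⟨W, ha, hW⟩ := Eff84.exists_effAt_nhd hg a ((Eff84.exists_fam_iff_effAt D _).mp h)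
    exact ⟨W, ha, (Eff84.exists_fam_iff_effAt D W.ι).mpr hW⟩

end Groth.Agent.S5124
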