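import Groth.Statements.S5125
import Groth.Agent.S5123
import Groth.Agent.Eff84.Stalk

set_option autoImplicit false
universe u
open SGA1

namespace Groth.Agent.S5125

open AlgebraicGeometry CategoryTheory CategoryTheory.Limits in
/-- Let g : S' ⟶ S be universally submersive and of finite presentation, and D a descent datum relative
to g (functor-of-points form, for the one-member family g) whose underlying S'-scheme is etale and
of finite presentation (quasi-compact and quasi-separated) over S'. Then D is the canonical datum of
some etale S-scheme if and only if for every point a of S the descent datum induced over Spec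
O_{S,a} is the canonical datum of some etale scheme over Spec O_{S,a}. -/
theorem result {S S' : Scheme.{u}} (g : S' ⟶ S) (hg : SGA1.UnivSubmersive g)
    [LocallyOfFinitePresentation g] [QuasiCompact g] [QuasiSeparated g]
    (D : Desc.SchDDFam (fun _ : PUnit.{1} => g)) [Etale (D.obj PUnit.unit).hom]
    [QuasiCompact (D.obj PUnit.unit).hom] [QuasiSeparated (D.obj PUnit.unit).hom] :
    (∃ U : Over S, Etale U.hom ∧ Nonempty ((Desc.toDDFam (fun _ : PUnit.{1} => g)).obj U ≅ D)) ↔
      ∀ a : S, (∃ U : Over (Spec (S.presheaf.stalk a)), Etale U.hom ∧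
        Nonempty ((Desc.toDDFam (fun _ : PUnit.{1} => pullback.snd g (S.fromSpecStalk a))).obj U ≅
          (Desc.pullDDFam (f := fun _ : PUnit.{1} => g) (f' := fun _ : PUnit.{1} => pullback.snd g (S.fromSpecStalk a))
        (α := id) (p := (S.fromSpecStalk a)) (p' := fun _ => pullback.fst g (S.fromSpecStalk a)) (fun _ => pullback.condition)).obj D)) := by
  let D' := (Desc.SchDDFam.toSchDD g).obj D
  have : Etale D'.obj.hom := ‹_›
  have : QuasiCompact D'.obj.hom := ‹_›
  have : QuasiSeparated D'.obj.hom := ‹_›
  constructor
  · rintro ⟨U, het, hiso⟩ a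
    obtain ⟨U', π, hπ, rfl⟩ := Eff84.exists_isQuot_of_iso ((Eff84.nonempty_fam_iff U D).mp hiso)
    obtain ⟨π₁, hπ₁⟩ := Eff84.exists_isQuot_pull (S.fromSpecStalk a) pullback.condition hπ
    exact ⟨Over.mk (pullback.snd U'.hom (S.fromSpecStalk a)),
      inferInstanceAs (Etale (pullback.snd U'.hom (S.fromSpecStalk a))),
      (Eff84.nonempty_fam_iff (g := pullback.snd g (S.fromSpecStalk a)) _ _).mpr hπ₁.nonempty_iso⟩
  · intro h
    choose W ha hW using fun a => Eff84.exists_effAt_nhd hg a ((Eff84.exists_fam_iff_effAt D _).mp (h a))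
    exact (S5123.result g hg D W (eq_top_iff.mpr fun a _ => TopologicalSpace.Opens.mem_iSup.mpr ⟨a, ha a⟩)).mpr
      fun a => (Eff84.exists_fam_iff_effAt D (W a).ι).mpr (hW a)

end Groth.Agent.S5125
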