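import Groth.Statements.S5127
import Groth.Agent.Eff84.Completion
import Groth.Agent.Eff84.Gonflement

set_option autoImplicit false
universe u
open SGA1

namespace Groth.Agent.S5127

open AlgebraicGeometry CategoryTheory CategoryTheory.Limits in
/-- Let S be locally Noetherian, g : S' ⟶ S universally submersive and of finite presentation, and D a
descent datum relative to g (functor-of-points form, for the one-member family g) whose underlying
S'-scheme is etale, separated and of finite presentation over S'. Then D is the canonical datum of
some etale S-scheme if and only if, for every complete Noetherian local ring B with algebraically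
closed residue field and every morphism q : Spec B ⟶ S, the descent datum induced over Spec B
(relative to S' ×_S Spec B ⟶ Spec B) is the canonical datum of some etale B-scheme. -/
theorem result {S S' : Scheme.{u}} [IsLocallyNoetherian S]
    (g : S' ⟶ S) (hg : SGA1.UnivSubmersive g) [LocallyOfFinitePresentation g] [QuasiCompact g] [QuasiSeparated g]
    (D : Desc.SchDDFam (fun _ : PUnit.{1} => g)) [Etale (D.obj PUnit.unit).hom]
    [QuasiCompact (D.obj PUnit.unit).hom] [IsSeparated (D.obj PUnit.unit).hom] :
    (∃ U : Over S, Etale U.hom ∧ Nonempty ((Desc.toDDFam (fun _ : PUnit.{1} => g)).obj U ≅ D)) ↔ ∀ (B : Type u) [CommRing B] [IsNoetherianRing B] [IsLocalRing B]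
      [IsAdicComplete (IsLocalRing.maximalIdeal B) B] [IsAlgClosed (IsLocalRing.ResidueField B)]
      (q : Spec (CommRingCat.of B) ⟶ S), (∃ U : Over (Spec (CommRingCat.of B)), Etale U.hom ∧
        Nonempty ((Desc.toDDFam (fun _ : PUnit.{1} => pullback.snd g q)).obj U ≅
          (Desc.pullDDFam (f := fun _ : PUnit.{1} => g) (f' := fun _ : PUnit.{1} => pullback.snd g q)
        (α := id) (p := q) (p' := fun _ => pullback.fst g q) (fun _ => pullback.condition)).obj D)) := by
  constructor
  · intro h B _ _ _ _ _ q
    exact (Eff84.exists_fam_iff_effAt D _).mpr (Eff84.effAt_of_exists_fam D h _)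
  · intro h
    have : Etale ((Desc.SchDDFam.toSchDD g).obj D).obj.hom := ‹_›
    have : QuasiCompact ((Desc.SchDDFam.toSchDD g).obj D).obj.hom := ‹_›
    have : IsSeparated ((Desc.SchDDFam.toSchDD g).obj D).obj.hom := ‹_›
    refine Eff84.exists_fam_of_forall_stalk D hg fun a => ?_
    obtain ⟨B, _, _, _, _, _, _, _⟩ := Eff84.exists_complete_algClosed (S.presheaf.stalk a)
    obtain ⟨hfl, hsurj⟩ := Eff84.fpqc_SpecMap (S.presheaf.stalk a)
      B
    let r : Spec (CommRingCat.of B) ⟶ Spec (S.presheaf.stalk a) :=
      Spec.map (CommRingCat.ofHom (algebraMap (S.presheaf.stalk a) B))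
    have : Flat r := hfl
    have : Surjective r := hsurj
    exact Eff84.effAt_of_fpqc hg r
      ((Eff84.exists_fam_iff_effAt D _).mp
        (h B (Spec.map (CommRingCat.ofHom (algebraMap (S.presheaf.stalk a) B)) ≫ S.fromSpecStalk a)))

end Groth.Agent.S5127
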