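import Groth.Statements.S5134
import Groth.Agent.Sga84.FFDesc
import Groth.Agent.QCPull72.Sections
import Groth.Agent.Props58.LocFree.FP

set_option autoImplicit false
open CategoryTheory AlgebraicGeometry
universe u
open SGA1

namespace Groth.Agent.S5134

theorem result {S S' : Scheme.{u}} (g : S' ⟶ S) [Flat g] [Surjective g] [QuasiCompact g]
    (F : S.Modules) (hF : Coh.IsQCoh F)
    (h : CohB1.IsFP ((Scheme.Modules.pullback g).obj F)) : CohB1.IsFP F := by
  classical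
  have : F.IsQuasicoherent := hF
  let κ := {U : S.Opens // IsAffineOpen U}
  refine Groth.Agent.Props58.LocFree.isFP_of_sections F (fun k : κ => k.1)
    (TopologicalSpace.IsOpenCover.mk (top_le_iff.mp fun x _ => TopologicalSpace.Opens.mem_iSup.mpr ?_)) (fun k => k.2) fun ⟨U, hU⟩ => ?_
  · obtain ⟨U, hU, hx, -⟩ := exists_isAffineOpen_mem_and_subset (X := S) (x := x) (U := ⊤) trivial
    exact ⟨⟨U, hU⟩, hx⟩
  obtain ⟨s, hs, hcov⟩ := isCompact_and_isOpen_iff_finite_and_eq_biUnion_affineOpens.mp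
    ⟨g.isCompact_preimage hU.isCompact, (g ⁻¹ᵁ U).2⟩
  have : Finite s := hs.to_subtype
  have hle : ∀ i : s, i.1.1 ≤ g ⁻¹ᵁ U := fun i x hx => by
    show x ∈ ((g ⁻¹ᵁ U : S'.Opens) : Set S')
    exact hcov.symm ▸ Set.mem_iUnion₂.mpr ⟨i.1, i.2, hx⟩
  let T : s → Type u := fun i => Γ(S', i.1.1)
  letI : ∀ i : s, CommRing (T i) := fun i => inferInstanceAs (CommRing Γ(S', i.1.1))
  letI : ∀ i : s, Algebra Γ(S, U) (T i) := fun i => (g.appLE U i.1.1 (hle i)).hom.toAlgebra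
  have : ∀ i : s, Module.Flat Γ(S, U) (T i) := fun i => g.flat_appLE hU i.1.2 (hle i)
  refine Groth.Agent.FFDesc84.finitePresentation_of_forall T ?_ Γ(F, U) fun i => ?_
  · intro p
    obtain ⟨x, hx⟩ := g.surjective (hU.fromSpec p)
    have hxU : x ∈ ((g ⁻¹ᵁ U : S'.Opens) : Set S') := by
      show g x ∈ U
      rw [hx]; exact hU.opensRange_fromSpec.le ⟨p, rfl⟩
    obtain ⟨V, hV, hxV⟩ := Set.mem_iUnion₂.mp (show x ∈ _ from hcov ▸ hxU)
    refine ⟨⟨V, hV⟩, V.2.primeIdealOf ⟨x, hxV⟩, hU.fromSpec.isOpenEmbedding.injective ?_⟩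
    refine Eq.trans ?_ hx
    change (Spec.map (g.appLE U V.1 (hle ⟨V, hV⟩)) ≫ hU.fromSpec) _ = _
    rw [hU.SpecMap_appLE_fromSpec g V.2, Scheme.Hom.comp_apply, V.2.fromSpec_primeIdealOf]
  · have hfp : CohB1.IsFP ((Scheme.Modules.pullback g).obj F) := h
    have := Groth.Agent.Props58.LocFree.finitePresentation_sections _ (hM := hfp) i.1.2
    exact Module.FinitePresentation.of_equiv (Groth.Agent.QCPull72.sectionsPullbackEquiv g F hU i.1.2 (hle i))

end Groth.Agent.S5134
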