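import Groth.Statements.S5141
import Groth.Agent.Fib44.Equiv
-- import your own Groth.Agent.* helpers here

set_option autoImplicit false
open CategoryTheory
universe u v u₂ v₂
open FibCat

namespace Groth.Agent.S5141

set_option backward.isDefEq.respectTransparency false in
set_option backward.isDefEq.respectTransparency.types false in
open CategoryTheory.Functor in

/-- In the sharper form given by its proof: for an equivalence F : 𝒳 ⟶ 𝒴 over C, a morphism φ of 𝒳 is
cartesian (over its image in C) if and only if F φ is; in particular an equivalence over C is a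
cartesian functor. -/
theorem result {C : Type u} [Category.{v} C]
    {𝒳 𝒴 : BasedCategory.{v₂, u₂} C} (F : 𝒳 ⥤ᵇ 𝒴) (hF : FibCat.IsEquivOver F) {a b : 𝒳.obj} (φ : a ⟶ b) :
    𝒴.p.IsCartesian (𝒳.p.map φ) (F.toFunctor.map φ) ↔ 𝒳.p.IsCartesian (𝒳.p.map φ) φ := by
  have := Fib44.full_of_isEquivOver hF
  have := Fib44.faithful_of_isEquivOver hF
  constructor
  · intro h
    refine { universal_property := fun {z} ψ hψ => ?_ }
    have hz : 𝒳.p.obj z = 𝒳.p.obj a := IsHomLift.domain_eq 𝒳.p (𝒳.p.map φ) ψ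
    let c := IsCartesian.map 𝒴.p (𝒳.p.map φ) (F.map φ) (F.map ψ)
    have hc : c ≫ F.map φ = F.map ψ := IsCartesian.fac 𝒴.p (𝒳.p.map φ) (F.map φ) (F.map ψ)
    refine ⟨F.toFunctor.preimage c, ⟨?_, F.toFunctor.map_injective ?_⟩, fun t ⟨ht, hte⟩ => ?_⟩
    · rw [← BasedFunctor.isHomLift_iff F, F.toFunctor.map_preimage]
      exact IsCartesian.map_isHomLift 𝒴.p (𝒳.p.map φ) (F.map φ) (F.map ψ)
    · rw [Functor.map_comp, F.toFunctor.map_preimage, hc]
    · apply F.toFunctor.map_injective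
      rw [F.toFunctor.map_preimage]
      exact IsCartesian.map_uniq 𝒴.p (𝒳.p.map φ) (F.map φ) (F.map ψ) (F.map t)
        (by rw [← Functor.map_comp, hte])
  · intro h
    refine { universal_property := fun {z'} ψ' hψ' => ?_ }
    obtain ⟨z, e, he⟩ := Fib44.essSurjOver_of_isEquivOver hF z'
    have hz : 𝒴.p.obj z' = 𝒳.p.obj a := IsHomLift.domain_eq 𝒴.p (𝒳.p.map φ) ψ'
    have he' : 𝒴.p.IsHomLift (𝟙 (𝒳.p.obj a)) e.hom := Fib44.lift_id_of_eq _ hz he
    let ψ := F.toFunctor.preimage (e.hom ≫ ψ')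
    have : 𝒳.p.IsHomLift (𝒳.p.map φ) ψ := by
      rw [← BasedFunctor.isHomLift_iff F, F.toFunctor.map_preimage]
      exact IsHomLift.comp_lift_id_left 𝒴.p (𝒳.p.map φ) ψ' e.hom
    let c := IsCartesian.map 𝒳.p (𝒳.p.map φ) φ ψ
    have : 𝒴.p.IsHomLift (𝟙 (𝒳.p.obj a)) (F.map c) := inferInstance
    refine ⟨e.inv ≫ F.map c, ⟨inferInstance, ?_⟩, fun t ⟨ht, hte⟩ => ?_⟩
    · rw [Category.assoc, ← Functor.map_comp,
        IsCartesian.fac 𝒳.p (𝒳.p.map φ) φ ψ, F.toFunctor.map_preimage, Iso.inv_hom_id_assoc]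
    · rw [Iso.eq_inv_comp, ← F.toFunctor.map_preimage (e.hom ≫ t)]
      congr 1
      have : 𝒳.p.IsHomLift (𝟙 (𝒳.p.obj a)) (F.toFunctor.preimage (e.hom ≫ t)) := by
        rw [← BasedFunctor.isHomLift_iff F, F.toFunctor.map_preimage]
        infer_instance
      refine IsCartesian.map_uniq 𝒳.p (𝒳.p.map φ) φ ψ _ (F.toFunctor.map_injective ?_)
      rw [Functor.map_comp, F.toFunctor.map_preimage, F.toFunctor.map_preimage, Category.assoc, hte]

end Groth.Agent.S5141
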