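import Groth.Statements.S5142
import Groth.Agent.Fib44.Fp2
-- import your own Groth.Agent.* helpers here

set_option autoImplicit false
open CategoryTheory
universe u v u₂ v₂
open FibCat

namespace Groth.Agent.S5142

set_option backward.isDefEq.respectTransparency false
set_option backward.isDefEq.respectTransparency.types false

/-- A morphism of the fibre product 𝒳 ×_C 𝒴 of two categories over C is cartesian if and only if its two
components are cartesian (each over its image in C). The fibre product is taken as the 2-fibre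
product over C of the two structure functors, whose objects are pairs over one object of C together
with an isomorphism of C lying over an identity. -/
theorem result {C : Type u} [Category.{v} C] {𝒳 𝒴 : BasedCategory.{v₂, u₂} C}
    {x y : (FibCat.fp (FibCat.toSelf 𝒳) (FibCat.toSelf 𝒴)).obj} (φ : x ⟶ y) :
    (FibCat.fp (FibCat.toSelf 𝒳) (FibCat.toSelf 𝒴)).p.IsCartesian
        ((FibCat.fp (FibCat.toSelf 𝒳) (FibCat.toSelf 𝒴)).p.map φ) φ ↔
      𝒳.p.IsCartesian (𝒳.p.map φ.hom.fst) φ.hom.fst ∧ 𝒴.p.IsCartesian (𝒴.p.map φ.hom.snd) φ.hom.snd := by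
  let P := FibCat.fp (FibCat.toSelf 𝒳) (FibCat.toSelf 𝒴)
  have hR : P.p.IsHomLift (P.p.map φ) φ := inferInstance
  have h1 := (Fib44.fp_isHomLift_iff (P.p.map φ) φ).mp hR
  have h2 := Fib44.fp_isHomLift_snd (P.p.map φ) φ
  constructor
  · intro hφ
    suffices h : 𝒳.p.IsCartesian (P.p.map φ) φ.hom.fst ∧
        𝒴.p.IsCartesian (P.p.map φ) φ.hom.snd by
      obtain ⟨ha, hb⟩ := h
      exact ⟨Fib44.isCartesian_self_of_isCartesian 𝒳.p (P.p.map φ) φ.hom.fst,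
        Fib44.isCartesian_self_of_isCartesian 𝒴.p (P.p.map φ) φ.hom.snd⟩
    constructor
    · refine { universal_property := fun {z} ψ hψ => ?_ }
      have hψ' : 𝒳.p.IsHomLift (P.p.map φ) ψ := hψ
      have hz : 𝒳.p.obj z = 𝒳.p.obj x.obj.fst := IsHomLift.domain_eq 𝒳.p (P.p.map φ) ψ
      let w : P.obj := Fib44.selfMk z x.obj.snd ((Fib44.fp_proj_snd x).trans hz.symm)
      let ψ' : w ⟶ y := Fib44.fpHom ψ φ.hom.snd (Fib44.self_w (x := w) (y := y) ψ φ.hom.snd (P.p.map φ))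
      have : P.p.IsHomLift (P.p.map φ) ψ' := (Fib44.fp_isHomLift_iff _ _).mpr hψ'
      obtain ⟨χ, ⟨hχ, hc⟩, hu⟩ :=
        Functor.IsCartesian.universal_property (p := P.p) (f := P.p.map φ) (φ := φ) ψ'
      refine ⟨χ.hom.fst, ⟨(Fib44.fp_isHomLift_iff _ χ).mp hχ, congrArg (fun k => k.hom.fst) hc⟩,
        fun τ ⟨hτ, hτc⟩ => ?_⟩
      have hτ' : 𝒳.p.IsHomLift (𝟙 (P.p.obj x)) τ := hτ
      have : 𝒴.p.IsHomLift (𝟙 (P.p.obj x)) (𝟙 x.obj.snd) := IsHomLift.id (Fib44.fp_proj_snd x)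
      exact congrArg (fun k => k.hom.fst) (hu
        (Fib44.fpHom (x := w) (y := x) τ (𝟙 _) (Fib44.self_w (x := w) (y := x) τ (𝟙 x.obj.snd) (𝟙 (P.p.obj x))))
        ⟨(Fib44.fp_isHomLift_iff _ _).mpr hτ', Fib44.fp_hom_ext hτc (Category.id_comp _)⟩)
    · refine { universal_property := fun {z} ψ hψ => ?_ }
      have hz : 𝒴.p.obj z = 𝒳.p.obj x.obj.fst := IsHomLift.domain_eq 𝒴.p (P.p.map φ) ψ
      let w : P.obj := Fib44.selfMk x.obj.fst z hz
      let ψ' : w ⟶ y := Fib44.fpHom φ.hom.fst ψ (Fib44.self_w (x := w) (y := y) φ.hom.fst ψ (P.p.map φ))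
      have : P.p.IsHomLift (P.p.map φ) ψ' := (Fib44.fp_isHomLift_iff _ _).mpr h1
      obtain ⟨χ, ⟨hχ, hc⟩, hu⟩ :=
        Functor.IsCartesian.universal_property (p := P.p) (f := P.p.map φ) (φ := φ) ψ'
      refine ⟨χ.hom.snd, ⟨Fib44.fp_isHomLift_snd _ χ, congrArg (fun k => k.hom.snd) hc⟩,
        fun τ ⟨hτ, hτc⟩ => ?_⟩
      have : 𝒳.p.IsHomLift (𝟙 (P.p.obj x)) (𝟙 x.obj.fst) := IsHomLift.id rfl
      exact congrArg (fun k => k.hom.snd) (hu
        (Fib44.fpHom (x := w) (y := x) (𝟙 _) τ (Fib44.self_w (x := w) (y := x) (𝟙 x.obj.fst) τ (𝟙 (P.p.obj x))))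
        ⟨(Fib44.fp_isHomLift_iff _ _).mpr this, Fib44.fp_hom_ext (Category.id_comp _) hτc⟩)
  · rintro ⟨ha, hb⟩
    have ha' := Fib44.isCartesian_of_isCartesian_self 𝒳.p (P.p.map φ) φ.hom.fst ha
    have hb' := Fib44.isCartesian_of_isCartesian_self 𝒴.p (P.p.map φ) φ.hom.snd hb
    refine { universal_property := fun {z} ψ hψ => ?_ }
    have := (Fib44.fp_isHomLift_iff (P.p.map φ) ψ).mp hψ
    have := Fib44.fp_isHomLift_snd (P.p.map φ) ψ
    let c := Functor.IsCartesian.map 𝒳.p (P.p.map φ) φ.hom.fst ψ.hom.fst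
    let d := Functor.IsCartesian.map 𝒴.p (P.p.map φ) φ.hom.snd ψ.hom.snd
    refine ⟨Fib44.fpHom c d (Fib44.self_w c d (𝟙 (P.p.obj x))),
      ⟨(Fib44.fp_isHomLift_iff _ _).mpr (inferInstanceAs (𝒳.p.IsHomLift (𝟙 (P.p.obj x)) c)),
      Fib44.fp_hom_ext (Functor.IsCartesian.fac 𝒳.p (P.p.map φ) φ.hom.fst _)
        (Functor.IsCartesian.fac 𝒴.p (P.p.map φ) φ.hom.snd _)⟩, ?_⟩
    rintro χ ⟨hχ, hc⟩
    have := (Fib44.fp_isHomLift_iff (𝟙 (P.p.obj x)) χ).mp hχ
    have := Fib44.fp_isHomLift_snd (𝟙 (P.p.obj x)) χ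
    exact Fib44.fp_hom_ext
      (Functor.IsCartesian.map_uniq 𝒳.p (P.p.map φ) φ.hom.fst ψ.hom.fst χ.hom.fst
        (congrArg (fun k => k.hom.fst) hc))
      (Functor.IsCartesian.map_uniq 𝒴.p (P.p.map φ) φ.hom.snd ψ.hom.snd χ.hom.snd
        (congrArg (fun k => k.hom.snd) hc))

end Groth.Agent.S5142
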