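import Groth.Statements.S5143
import Groth.Agent.Fib44.Fp2
-- import your own Groth.Agent.* helpers here

set_option autoImplicit false
open CategoryTheory
universe u v u₂ v₂
open FibCat

namespace Groth.Agent.S5143

set_option backward.isDefEq.respectTransparency false
set_option backward.isDefEq.respectTransparency.types false

/-- The fibre product over C of two fibred (resp. prefibred) categories over C is fibred (resp.
prefibred); fibred and prefibred are Mathlib's notions for the structure functors, and the fibre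
product is the 2-fibre product over C of the two structure functors. -/
theorem result {C : Type u} [Category.{v} C] {𝒳 𝒴 : BasedCategory.{v₂, u₂} C} :
    (𝒳.p.IsFibered → 𝒴.p.IsFibered → (FibCat.fp (FibCat.toSelf 𝒳) (FibCat.toSelf 𝒴)).p.IsFibered) ∧
      (𝒳.p.IsPreFibered → 𝒴.p.IsPreFibered → (FibCat.fp (FibCat.toSelf 𝒳) (FibCat.toSelf 𝒴)).p.IsPreFibered) := by
  have hs : ∀ (𝒵 : BasedCategory.{v₂, u₂} C) ⦃a b : 𝒵.obj⦄ (φ : a ⟶ b),
      (FibCat.selfOver C).p.IsStronglyCartesian (𝒵.p.map φ) ((FibCat.toSelf 𝒵).map φ) :=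
    fun 𝒵 a b φ => Fib44.based_isSC Fib44.selfOver_isFibGrpd _ (𝒵.p.map φ) φ
  refine ⟨fun _ _ => Fib44.isFibered_fp (fun a b φ _ => hs 𝒳 φ) (fun a b φ _ => hs 𝒴 φ),
    fun _ _ => ⟨fun {x V} f => ?_⟩⟩
  obtain ⟨x', a, ha⟩ := CategoryTheory.IsPreFibered.exists_isCartesian 𝒳.p (a := x.obj.fst) rfl f
  obtain ⟨y', b, hb⟩ := CategoryTheory.IsPreFibered.exists_isCartesian 𝒴.p (Fib44.fp_proj_snd x) f
  have hd : 𝒴.p.obj y' = 𝒳.p.obj x' :=
    (IsHomLift.domain_eq 𝒴.p f b).trans (IsHomLift.domain_eq 𝒳.p f a).symm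
  refine ⟨Fib44.selfMk x' y' hd, Fib44.fpHom a b (Fib44.self_w (x := Fib44.selfMk x' y' hd) (y := x) a b f), ?_⟩
  have h1 : (FibCat.fp (FibCat.toSelf 𝒳) (FibCat.toSelf 𝒴)).p.IsHomLift f
      (Fib44.fpHom (x := Fib44.selfMk x' y' hd) (y := x) a b (Fib44.self_w (x := Fib44.selfMk x' y' hd) (y := x) a b f)) :=
    (Fib44.fp_isHomLift_iff f _).mpr ha.toIsHomLift
  refine { universal_property := fun {z} ψ hψ => ?_ }
  have := (Fib44.fp_isHomLift_iff f ψ).mp hψ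
  have := Fib44.fp_isHomLift_snd f ψ
  let c := Functor.IsCartesian.map 𝒳.p f a ψ.hom.fst
  let d := Functor.IsCartesian.map 𝒴.p f b ψ.hom.snd
  refine ⟨Fib44.fpHom c d (Fib44.self_w (x := z) (y := Fib44.selfMk x' y' hd) c d (𝟙 V)),
    ⟨(Fib44.fp_isHomLift_iff _ _).mpr (inferInstanceAs (𝒳.p.IsHomLift (𝟙 V) c)),
    Fib44.fp_hom_ext (Functor.IsCartesian.fac 𝒳.p f a _) (Functor.IsCartesian.fac 𝒴.p f b _)⟩, ?_⟩
  rintro χ ⟨hχ, hc⟩
  have := (Fib44.fp_isHomLift_iff (𝟙 V) χ).mp hχ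
  have := Fib44.fp_isHomLift_snd (𝟙 V) χ
  exact Fib44.fp_hom_ext
    (Functor.IsCartesian.map_uniq 𝒳.p f a ψ.hom.fst χ.hom.fst (congrArg (fun k => k.hom.fst) hc))
    (Functor.IsCartesian.map_uniq 𝒴.p f b ψ.hom.snd χ.hom.snd (congrArg (fun k => k.hom.snd) hc))

end Groth.Agent.S5143
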