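import Groth.Statements.S5153
import Groth.Agent.S0335

set_option autoImplicit false
universe u
open AlgebraicGeometry
open LocCoh

namespace Groth.Agent.S5153

/-- Let X be a locally Noetherian scheme and Y = X − U a closed subset such that depth O_{X,x} ≥ 2 for
every x ∈ Y. Then the inclusion U → X induces a bijection on sets of connected components. -/
theorem result (X : Scheme.{u}) [IsLocallyNoetherian X] (U : X.Opens) (h : ∀ x : X, x ∉ (U : Set X) → (2 : ℕ∞) ≤ LocCoh.depth (X.presheaf.stalk x) (X.presheaf.stalk x)) : Function.Bijective (Continuous.connectedComponentsMap (continuous_subtype_val : Continuous (fun x : U => (x : X)))) := by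
  classical
  let cc : U → ConnectedComponents {x : X // x ∈ U} := fun y => ConnectedComponents.mk y
  let Good : X → Prop := fun x => (∃ y : U, (y : X) ⤳ x) ∧
    ∀ y z : U, (y : X) ⤳ x → (z : X) ⤳ x → cc y = cc z
  have spec : ∀ y z : U, (y : X) ⤳ (z : X) → cc y = cc z := fun y z hyz =>
    (ConnectedComponents.coe_eq_coe'.2
      (((subtype_specializes_iff y z).2 hyz).mem_closed isClosed_connectedComponent
        mem_connectedComponent)).symm
  -- the core step
  have core : ∀ x : X, (∀ y : X, y ⤳ x → y ≠ x → Good y) → Good x := by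
    intro x hx
    by_cases hxU : x ∈ (U : Set X)
    · exact ⟨⟨⟨x, hxU⟩, specializes_rfl⟩,
        fun y z hy hz => (spec y ⟨x, hxU⟩ hy).trans (spec z ⟨x, hxU⟩ hz).symm⟩
    let φ : PrimeSpectrum (X.presheaf.stalk x) → X := fun p => X.fromSpecStalk x p
    let m : Ideal (X.presheaf.stalk x) := IsLocalRing.maximalIdeal _
    have hφ : Topology.IsEmbedding φ := (X.fromSpecStalk x).isEmbedding
    have hle : ∀ p q : PrimeSpectrum (X.presheaf.stalk x), p ≤ q → φ p ⤳ φ q := fun p q hpq =>
      ((PrimeSpectrum.le_iff_specializes p q).1 hpq).map hφ.continuous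
    have hto : ∀ p, φ p ⤳ x := fun p => by
      have h1 : φ p ∈ Set.range (X.fromSpecStalk x) := ⟨p, rfl⟩
      rwa [Scheme.range_fromSpecStalk] at h1
    have hgood : ∀ p : PrimeSpectrum (X.presheaf.stalk x), p.asIdeal ≠ m → Good (φ p) := by
      intro p hp
      refine hx _ (hto p) fun he => hp ?_
      have h1 : φ (IsLocalRing.closedPoint _) = x := Scheme.fromSpecStalk_closedPoint
      rw [hφ.injective (he.trans h1.symm)]
      rfl
    have hlift : ∀ y : U, (y : X) ⤳ x →
        ∃ p : PrimeSpectrum (X.presheaf.stalk x), φ p = y ∧ p.asIdeal ≠ m := by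
      intro y hy
      have h1 : (y : X) ∈ Set.range (X.fromSpecStalk x) := by
        rw [Scheme.range_fromSpecStalk]; exact hy
      obtain ⟨p, hp⟩ := h1
      refine ⟨p, hp, fun he => hxU ?_⟩
      have h2 : p = IsLocalRing.closedPoint (X.presheaf.stalk x) := PrimeSpectrum.ext he
      rw [h2, Scheme.fromSpecStalk_closedPoint] at hp
      rw [hp]; exact y.2
    have hconn := Groth.Agent.S0335.result (X.presheaf.stalk x) (h x hxU)
    refine ⟨?_, fun y z hy hz => ?_⟩
    · obtain ⟨p, hp⟩ := hconn.1
      obtain ⟨w, hw⟩ := (hgood p hp).1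
      exact ⟨w, hw.trans (hto p)⟩
    obtain ⟨p, hpy, hpm⟩ := hlift y hy
    obtain ⟨q, hqz, hqm⟩ := hlift z hz
    let M : Set (PrimeSpectrum (X.presheaf.stalk x)) :=
      {η | η.asIdeal ∈ minimalPrimes (X.presheaf.stalk x)}
    have hMfin : M.Finite := (minimalPrimes.finite_of_isNoetherianRing _).preimage
      (fun a _ b _ e => PrimeSpectrum.ext e)
    have hmin : ∀ r : PrimeSpectrum (X.presheaf.stalk x), ∃ η ∈ M, η ≤ r := by
      intro r
      obtain ⟨I, hI, hIr⟩ := Ideal.exists_minimalPrimes_le (I := ⊥) (J := r.asIdeal) bot_le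
      exact ⟨⟨I, hI.1.1⟩, hI, hIr⟩
    have hne : ∀ η r : PrimeSpectrum (X.presheaf.stalk x),
        η ≤ r → r.asIdeal ≠ m → η.asIdeal ≠ m := by
      intro η r hηr hr he
      exact hr (le_antisymm (IsLocalRing.le_maximalIdeal r.isPrime.ne_top)
        (he ▸ (hηr : η.asIdeal ≤ r.asIdeal)))
    let Mt : Set (PrimeSpectrum (X.presheaf.stalk x)) :=
      {η ∈ M | ∀ w : U, (w : X) ⤳ φ η → cc w = cc y}
    obtain ⟨η, hηM, hηp⟩ := hmin p
    have hηt : η ∈ Mt := ⟨hηM, fun w hw => (hgood p hpm).2 w y (hw.trans (hle _ _ hηp))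
      (specializes_of_eq hpy.symm)⟩
    obtain ⟨η', hη'M, hη'q⟩ := hmin q
    obtain ⟨w', hw'⟩ := (hgood η' (hne _ _ hη'q hqm)).1
    have hw'z : cc w' = cc z :=
      (hgood q hqm).2 w' z (hw'.trans (hle _ _ hη'q)) (specializes_of_eq hqz.symm)
    by_cases hη't : η' ∈ Mt
    · exact (hw'z.symm.trans (hη't.2 w' hw')).symm
    exfalso
    have hcl : ∀ N : Set (PrimeSpectrum (X.presheaf.stalk x)), N ⊆ M →
        IsClosed (⋃ a ∈ N, closure {a}) :=
      fun N hN => (hMfin.subset hN).isClosed_biUnion fun _ _ => isClosed_closure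
    have hmem : ∀ (N : Set (PrimeSpectrum (X.presheaf.stalk x))) a b, a ∈ N → a ≤ b →
        b ∈ ⋃ a ∈ N, closure {a} := fun N a b ha hab => Set.mem_biUnion ha
      (specializes_iff_mem_closure.1 ((PrimeSpectrum.le_iff_specializes a b).1 hab))
    obtain ⟨r, hrm, hr1, hr2⟩ := isPreconnected_closed_iff.1 hconn.2
      (⋃ a ∈ Mt, closure {a}) (⋃ a ∈ M \ Mt, closure {a}) (hcl _ (fun _ ha => ha.1))
      (hcl _ (fun _ ha => ha.1))
      (fun r _ => by
        obtain ⟨a, ha, har⟩ := hmin r
        by_cases hat : a ∈ Mt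
        · exact Or.inl (hmem _ a r hat har)
        · exact Or.inr (hmem _ a r ⟨ha, hat⟩ har))
      ⟨p, hpm, hmem _ η p hηt hηp⟩ ⟨q, hqm, hmem _ η' q ⟨hη'M, hη't⟩ hη'q⟩
    obtain ⟨a, ha, har⟩ := Set.mem_iUnion₂.1 hr1
    obtain ⟨b, hb, hbr⟩ := Set.mem_iUnion₂.1 hr2
    have har' : φ a ⤳ φ r := (specializes_iff_mem_closure.2 har).map hφ.continuous
    have hbr' : φ b ⤳ φ r := (specializes_iff_mem_closure.2 hbr).map hφ.continuous
    have hale : a ≤ r := (PrimeSpectrum.le_iff_specializes a r).2
      (specializes_iff_mem_closure.2 har)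
    obtain ⟨wa, hwa⟩ := (hgood a (hne _ _ hale hrm)).1
    exact hb.2 ⟨hb.1, fun w hw => ((hgood r hrm).2 w wa (hw.trans hbr') (hwa.trans har')).trans
      (ha.2 wa hwa)⟩
  -- every point is good
  have good : ∀ x : X, Good x := by
    intro x
    let φ : PrimeSpectrum (X.presheaf.stalk x) → X := fun p => X.fromSpecStalk x p
    have hφ : Topology.IsEmbedding φ := (X.fromSpecStalk x).isEmbedding
    have key : ∀ n : ℕ∞, ∀ p : PrimeSpectrum (X.presheaf.stalk x), p.asIdeal.height = n →
        Good (φ p) := by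
      intro n
      induction n using WellFoundedLT.induction with
      | ind n ih =>
        intro p hp
        refine core _ fun y hy hne => ?_
        have h0 : φ p ∈ Set.range (X.fromSpecStalk x) := ⟨p, rfl⟩
        rw [Scheme.range_fromSpecStalk] at h0
        have h1 : y ∈ Set.range (X.fromSpecStalk x) := by
          rw [Scheme.range_fromSpecStalk]; exact hy.trans h0
        obtain ⟨q, rfl⟩ := h1
        have h2 : q ⤳ p := hφ.isInducing.specializes_iff.1 hy
        have h3 : q.asIdeal < p.asIdeal :=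
          lt_of_le_of_ne ((PrimeSpectrum.le_iff_specializes q p).2 h2)
          fun he => hne (congrArg φ (PrimeSpectrum.ext he))
        exact ih q.asIdeal.height (hp ▸ Ideal.height_strict_mono_of_isPrime h3) q rfl
    have h1 := key _ (IsLocalRing.closedPoint (X.presheaf.stalk x)) rfl
    have h2 : φ (IsLocalRing.closedPoint _) = x := Scheme.fromSpecStalk_closedPoint
    rwa [h2] at h1
  let f : X → ConnectedComponents {x : X // x ∈ U} := fun x => cc (good x).1.choose
  have hf : ∀ (x : X) (y : U), (y : X) ⤳ x → f x = cc y := fun x y hy =>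
    (good x).2 _ y (good x).1.choose_spec hy
  have htrans : ∀ x y : X, y ⤳ x → f x = f y := fun x y hy =>
    hf x _ ((good y).1.choose_spec.trans hy)
  have hlc : IsLocallyConstant f := by
    rw [IsLocallyConstant.iff_exists_open]
    intro x
    obtain ⟨_, ⟨W, hW, rfl⟩, hxW, -⟩ :=
      X.isBasis_affineOpens.exists_subset_of_mem_open (Set.mem_univ x) isOpen_univ
    have : IsNoetherianRing Γ(X, W) := IsLocallyNoetherian.component_noetherian ⟨W, hW⟩
    have : TopologicalSpace.NoetherianSpace W := noetherianSpace_of_isAffineOpen W hW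
    have : QuasiSober {y : X // y ∈ W} := W.2.isOpenEmbedding_subtypeVal.quasiSober
    let x' : W := ⟨x, hxW⟩
    let Z : Set W := ⋃ S ∈ {S ∈ irreducibleComponents W | x' ∉ S}, S
    have hZ : IsClosed Z :=
      ((TopologicalSpace.NoetherianSpace.finite_irreducibleComponents).subset
        fun _ hS => hS.1).isClosed_biUnion fun S hS => isClosed_of_mem_irreducibleComponents S hS.1
    refine ⟨Subtype.val '' Zᶜ, W.2.isOpenEmbedding_subtypeVal.isOpenMap _ hZ.isOpen_compl,
      ⟨x', ?_, rfl⟩, ?_⟩
    · intro hx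
      obtain ⟨S, hS, hxS⟩ := Set.mem_iUnion₂.1 hx
      exact hS.2 hxS
    rintro _ ⟨y, hy, rfl⟩
    have hxS : x' ∈ irreducibleComponent y := by
      by_contra hc
      exact hy (Set.mem_iUnion₂.2 ⟨_, ⟨irreducibleComponent_mem_irreducibleComponents y, hc⟩,
        mem_irreducibleComponent⟩)
    obtain ⟨η, hη⟩ :=
      QuasiSober.sober (isIrreducible_irreducibleComponent (x := y)) isClosed_irreducibleComponent
    have h1 : (η : X) ⤳ (y : X) := (hη.specializes mem_irreducibleComponent).map continuous_subtype_val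
    have h2 : (η : X) ⤳ x := (hη.specializes hxS).map continuous_subtype_val
    exact (htrans _ _ h1).trans (htrans _ _ h2).symm
  constructor
  · intro a b hab
    obtain ⟨u, rfl⟩ := ConnectedComponents.surjective_coe a
    obtain ⟨v, rfl⟩ := ConnectedComponents.surjective_coe b
    rw [Continuous.connectedComponentsMap_mk, Continuous.connectedComponentsMap_mk,
      ConnectedComponents.coe_eq_coe'] at hab
    have h1 := hlc.apply_eq_of_isPreconnected isPreconnected_connectedComponent hab
      mem_connectedComponent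
    rw [hf _ u specializes_rfl, hf _ v specializes_rfl] at h1
    exact h1
  · intro c
    obtain ⟨x, rfl⟩ := ConnectedComponents.surjective_coe c
    obtain ⟨y, hy⟩ := (good x).1
    refine ⟨cc y, ?_⟩
    rw [Continuous.connectedComponentsMap_mk]
    exact (ConnectedComponents.coe_eq_coe'.2
      (hy.mem_closed isClosed_connectedComponent mem_connectedComponent)).symm


end Groth.Agent.S5153
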