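import Groth.Statements.S5157
import Groth.Agent.InjHull18.Criterion
import Groth.Agent.InjHull18.Change


set_option autoImplicit false
universe u
open Matlis

namespace Groth.Agent.S5157

/-- Let A be a Noetherian local ring, a an ideal with A/a local (i.e. a ≠ A) and E an injective hull of
the residue field of A. Then the annihilator of a in E, E[a] = {e | a e = 0}, is an injective hull
of the residue field of A/a over A/a. -/
theorem result (A : Type u) [CommRing A] [IsLocalRing A] [IsNoetherianRing A] (a : Ideal A) [IsLocalRing (A ⧸ a)] (E : Type u) [AddCommGroup E] [Module A E] (f : IsLocalRing.ResidueField A →ₗ[A] E) (hf : InjHull.IsInjectiveHull f) : ∃ g : IsLocalRing.ResidueField (A ⧸ a) →ₗ[A ⧸ a] (LocCoh.torsionBy a E), InjHull.IsInjectiveHull g := by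
  have hm : ∀ r : A, Ideal.Quotient.mk a r ∈ IsLocalRing.maximalIdeal (A ⧸ a) ↔
      r ∈ IsLocalRing.maximalIdeal A := fun r => by
    have hmax : ((IsLocalRing.maximalIdeal (A ⧸ a)).comap (Ideal.Quotient.mk a)).IsMaximal :=
      Ideal.comap_isMaximal_of_surjective _ Ideal.Quotient.mk_surjective
    rw [← IsLocalRing.eq_maximalIdeal hmax]
    rfl
  let one' : A ⧸ IsLocalRing.maximalIdeal A := Ideal.Quotient.mk _ 1
  let x₀ : E := f one'
  have hx0 : x₀ ∈ LocCoh.torsionBy (IsLocalRing.maximalIdeal A) E :=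
    (InjHull18.torsionBy_eq_range (m := IsLocalRing.maximalIdeal A) (f := f) hf.toIsEssentialInj).ge ⟨_, rfl⟩
  have hne : x₀ ≠ 0 := fun h => by
    have h1 : one' = 0 := hf.injective (h.trans (map_zero f).symm)
    have h2 : (1 : A) ∈ IsLocalRing.maximalIdeal A := Ideal.Quotient.eq_zero_iff_mem.1 h1
    exact (IsLocalRing.maximalIdeal.isMaximal A).ne_top ((Ideal.eq_top_iff_one _).2 h2)
  have hxa : x₀ ∈ LocCoh.torsionBy a E := (Submodule.mem_torsionBySet_iff _ _).2 fun ⟨r, hr⟩ =>
    (Submodule.mem_torsionBySet_iff _ _).1 hx0 ⟨r, (hm r).1 (by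
      rw [Ideal.Quotient.eq_zero_iff_mem.2 hr]; exact zero_mem _)⟩
  refine Exists.imp (fun g h => h.1) (InjHull18.exists_hull_of_socle (IsLocalRing.maximalIdeal (A ⧸ a))
    (InjHull18.injective_torsionBySet hf.isInjective a) (E := ↥(LocCoh.torsionBy a E)) (fun x => ?_)
    (x₀ := ⟨x₀, hxa⟩) (fun h => hne (congrArg Subtype.val h))
    ((Submodule.mem_torsionBySet_iff _ _).2 ?_) fun x hx => ?_)
  · obtain ⟨n, hn⟩ := InjHull18.isPowerTorsion_hull (m := IsLocalRing.maximalIdeal A) (f := f) hf (x : E)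
    refine ⟨n, fun b hb => ?_⟩
    have h1 : IsLocalRing.maximalIdeal (A ⧸ a) =
        (IsLocalRing.maximalIdeal A).map (Ideal.Quotient.mk a) := by
      refine le_antisymm (fun b hb => ?_) (Ideal.map_le_iff_le_comap.2 fun r hr => (hm r).2 hr)
      obtain ⟨r, rfl⟩ := Ideal.Quotient.mk_surjective b
      exact Ideal.mem_map_of_mem _ ((hm r).1 hb)
    rw [h1, ← Ideal.map_pow, Ideal.mem_map_iff_of_surjective _ Ideal.Quotient.mk_surjective] at hb
    obtain ⟨r, hr, rfl⟩ := hb
    exact Subtype.ext (hn r hr)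
  · rintro ⟨b, hb⟩
    obtain ⟨r, rfl⟩ := Ideal.Quotient.mk_surjective b
    exact Subtype.ext ((Submodule.mem_torsionBySet_iff _ _).1 hx0 ⟨r, (hm r).1 hb⟩)
  · have h1 : (x : E) ∈ LinearMap.range f := by
      refine (InjHull18.torsionBy_eq_range (m := IsLocalRing.maximalIdeal A) (f := f) hf.toIsEssentialInj).le
        ((Submodule.mem_torsionBySet_iff _ _).2 fun ⟨r, hr⟩ => ?_)
      exact congrArg Subtype.val ((Submodule.mem_torsionBySet_iff _ _).1 hx ⟨_, (hm r).2 hr⟩)
    obtain ⟨c, hc⟩ := h1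
    obtain ⟨r, rfl⟩ := IsLocalRing.residue_surjective c
    refine Submodule.mem_span_singleton.2 ⟨Ideal.Quotient.mk a r, Subtype.ext ?_⟩
    rw [← hc]
    exact (map_smul f r one').symm.trans (congrArg f (show r • one' = _ by
      simp only [one', ← Ideal.Quotient.mk_eq_mk]
      rw [← Submodule.Quotient.mk_smul, smul_eq_mul, mul_one]
      rfl))

end Groth.Agent.S5157
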