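import Groth.Statements.S5167
import Groth.Agent.LC15.CritDepth
import Groth.Agent.CAlg1.CohenHom

set_option autoImplicit false
universe u
open LocCoh

namespace Groth.Agent.S5167

/-- Let A be a Noetherian local ring which is a quotient of a regular local ring, m its maximal ideal, M
a finite A-module and n ≥ 0. Then H^i_m(M) is of finite length for all i ≤ n if and only if
depth(M_p) > n − dim(A/p) for every prime p ≠ m. -/
theorem result (R : Type u) [CommRing R] [IsRegularLocalRing R] (A : Type u) [CommRing A] [IsLocalRing A] [IsNoetherianRing A] (π : R →+* A) (hπ : Function.Surjective π) (M : Type u) [AddCommGroup M] [Module A M] [Module.Finite A M] (n : ℕ) : (∀ i : ℕ, i ≤ n → IsFiniteLength A (LocCoh.H (IsLocalRing.maximalIdeal A) i M)) ↔ ∀ p : PrimeSpectrum A, p.asIdeal ≠ IsLocalRing.maximalIdeal A → ∀ e : ℕ, ringKrullDim (A ⧸ p.asIdeal) = e → (n : ℕ∞) < LocCoh.depth (Localization.AtPrime p.asIdeal) (LocalizedModule p.asIdeal.primeCompl M) + e := by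
  haveI : IsRegularRing R := Groth.Agent.CAlg1.isRegularRing_of_isRegularLocalRing R
  haveI := Groth.Agent.CAlg1.isRegularRing_of_isRegularLocalRing R
  have hne : ∀ p : PrimeSpectrum A, p.asIdeal ≠ IsLocalRing.maximalIdeal A ↔
      ¬ IsLocalRing.maximalIdeal A ≤ p.asIdeal := fun p => by
    rw [not_iff_not]
    exact ⟨fun h => h.ge, fun h => le_antisymm (IsLocalRing.le_maximalIdeal p.isPrime.ne_top) h⟩
  have hc : ∀ p : PrimeSpectrum A, ringKrullDim (A ⧸ p.asIdeal) =
      SGA2.relCodim (IsLocalRing.maximalIdeal A) p := fun p => by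
    haveI : IsLocalRing (A ⧸ p.asIdeal) :=
      IsLocalRing.of_surjective' _ Ideal.Quotient.mk_surjective
    rw [Groth.Agent.LC15.CritDepth.relCodim_eq_htq,
      sup_eq_left.mpr (IsLocalRing.le_maximalIdeal p.isPrime.ne_top),
      ← IsLocalRing.maximalIdeal_height_eq_ringKrullDim]
    rcases Ideal.map_eq_top_or_isMaximal_of_surjective (Ideal.Quotient.mk p.asIdeal)
      Ideal.Quotient.mk_surjective (IsLocalRing.maximalIdeal.isMaximal A) with h | h
    · have h1 := congrArg (Ideal.comap (Ideal.Quotient.mk p.asIdeal)) h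
      rw [Ideal.comap_map_of_surjective _ Ideal.Quotient.mk_surjective, ← RingHom.ker_eq_comap_bot,
        Ideal.mk_ker, sup_eq_left.mpr (IsLocalRing.le_maximalIdeal p.isPrime.ne_top),
        Ideal.comap_top] at h1
      exact absurd h1 (IsLocalRing.maximalIdeal.isMaximal A).ne_top
    · rw [Groth.Agent.LC17.htq, IsLocalRing.eq_maximalIdeal h]
  have hfin : ∀ i, IsFiniteLength A (LocCoh.H (IsLocalRing.maximalIdeal A) i M) ↔
      Module.Finite A (LocCoh.H (IsLocalRing.maximalIdeal A) i M) := fun i => by
    constructor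
    · intro h
      haveI := (isFiniteLength_iff_isNoetherian_isArtinian.1 h).1
      infer_instance
    · intro h
      obtain ⟨k, hk⟩ := Groth.Agent.LC15.exists_pow_smul_H_eq_zero (IsLocalRing.maximalIdeal A)
        (i := i) (M := M)
      have h0 : (IsLocalRing.maximalIdeal A ^ k • ⊤ :
          Submodule A (LocCoh.H (IsLocalRing.maximalIdeal A) i M)) = ⊥ :=
        le_bot_iff.mp (Submodule.smul_le.mpr fun a ha y _ => (Submodule.mem_bot A).mpr (hk a ha y))
      exact (Groth.Agent.LC16.MatlisBasic.isFiniteLength_quot_pow k).of_injective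
        (f := (Submodule.quotEquivOfEqBot _ h0).symm.toLinearMap) (LinearEquiv.injective _)
  simp only [hfin]
  rw [Groth.Agent.LC15.CritDepth.finite_iff π hπ]
  constructor
  · intro h p hp e he
    have h1 := h p ((hne p).1 hp)
    rwa [show SGA2.relCodim (IsLocalRing.maximalIdeal A) p = (e : ℕ∞) from
      WithBot.coe_inj.mp ((hc p).symm.trans he)] at h1
  · intro h p hp
    cases he : SGA2.relCodim (IsLocalRing.maximalIdeal A) p with
    | top => simp
    | coe e => exact h p ((hne p).2 hp) e ((hc p).trans (by rw [he]; rfl))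

end Groth.Agent.S5167
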