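import Groth.Statements.S5174
import Groth.Agent.LC16.ExtRep

set_option autoImplicit false
universe u
open CategoryTheory Opposite
open LocCoh

namespace Groth.Agent.S5174

/-- Affine case with Z = X. Let A be a Noetherian ring, J an ideal, G any A-module and n ≥ 0 with
Ext^{n−1}_A(F', G) = 0 for all finite F' supported in V(J). Then for every finite A-module F with
Supp F ⊆ V(J) there is an A-linear isomorphism Ext^n_A(F, G) ≅ Hom_A(F, H^n_J(G)). (Existence of the
isomorphism is asserted; in the source it is the canonical one expressing that Ext^n_A(−, G), left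
exact on such F, is represented by H^n_J(G).) -/
theorem result (A : Type u) [CommRing A] [IsNoetherianRing A] (J : Ideal A) (G : Type u) [AddCommGroup G] [Module A G] (n : ℕ) (hvan : ∀ (F' : Type u) [AddCommGroup F'] [Module A F'], Module.Finite A F' → Module.support A F' ⊆ PrimeSpectrum.zeroLocus (J : Set A) → ∀ i : ℕ, i + 1 = n → Subsingleton (((Ext A (ModuleCat.{u} A) i).obj (op (ModuleCat.of A F'))).obj (ModuleCat.of A G))) (F : Type u) [AddCommGroup F] [Module A F] [Module.Finite A F] (hF : Module.support A F ⊆ PrimeSpectrum.zeroLocus (J : Set A)) : Nonempty ((((Ext A (ModuleCat.{u} A) n).obj (op (ModuleCat.of A F))).obj (ModuleCat.of A G)) ≃ₗ[A] (F →ₗ[A] LocCoh.H J n G)) := by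
  have hv : Groth.Agent.LC16.ExtRep.Vanish J n G := fun F' _ _ hfin ht i hi =>
    (Groth.Agent.LC15.extEquiv (ModuleCat.of A F') (ModuleCat.of A G) i).toEquiv.subsingleton_congr.1
      (hvan F' hfin (Groth.Agent.LC16.ExtRep.support_subset (F := F') ht) i hi)
  obtain ⟨e⟩ := Groth.Agent.LC16.ExtRep.nonempty_equiv hv F hF
  exact ⟨(Groth.Agent.LC15.extEquiv (ModuleCat.of A F) (ModuleCat.of A G) n).trans e⟩

end Groth.Agent.S5174
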