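import Groth.Statements.S5175
import Groth.Agent.InjHull18.Coext
import Mathlib.RingTheory.SimpleModule.InjectiveProjective
import Mathlib.LinearAlgebra.Dual.Lemmas


set_option autoImplicit false
universe u
open Matlis

namespace Groth.Agent.S5175

/-- Let k₀ be a field and A a Noetherian local k₀-algebra with [k : k₀] finite, k the residue field.
Then the topological dual A' = colim_n Hom_{k₀}(A/m^n, k₀), i.e. the submodule of Hom_{k₀}(A, k₀) of
forms killing some power of m (A acting through the source), is an injective hull of k (it is the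
dualizing module of A). -/
theorem result (k₀ : Type u) [Field k₀] (A : Type u) [CommRing A] [IsLocalRing A] [IsNoetherianRing A] [Algebra k₀ A] [Module.Finite k₀ (A ⧸ IsLocalRing.maximalIdeal A)] : ∃ f : IsLocalRing.ResidueField A →ₗ[A] ↥(⨆ n : ℕ, Submodule.torsionBySet A ((ModuleCat.coextendScalars (algebraMap k₀ A)).obj (ModuleCat.of k₀ k₀)) ((IsLocalRing.maximalIdeal A ^ n : Ideal A) : Set A)), InjHull.IsInjectiveHull f := by
  have hT : Module.Injective A (InjHull18.Coext k₀ A k₀) :=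
    InjHull18.injective_coext k₀ A k₀ (Module.injective_of_isSemisimpleRing k₀ k₀)
  let m := IsLocalRing.maximalIdeal A
  let _ : Field (A ⧸ m) := Ideal.Quotient.field m
  let one' : A ⧸ m := Ideal.Quotient.mk m 1
  have hone : one' ≠ 0 := fun h => (IsLocalRing.maximalIdeal.isMaximal A).ne_top
    ((Ideal.eq_top_iff_one m).2 (Ideal.Quotient.eq_zero_iff_mem.1 h))
  obtain ⟨χ, hχ⟩ : ∃ χ : (A ⧸ m) →ₗ[k₀] k₀, χ one' ≠ 0 := by
    by_contra h
    push Not at h
    exact hone ((Module.forall_dual_apply_eq_zero_iff k₀ one').1 h)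
  let π : A →ₗ[k₀] A ⧸ m := (Ideal.Quotient.mkₐ k₀ m).toLinearMap
  let ψ : InjHull18.Coext k₀ A k₀ := InjHull18.ofHom (χ ∘ₗ π)
  have hψ : ∀ b ∈ m, b • ψ = 0 := fun b hb => (InjHull18.smul_eq_zero_iff_toHom _ _).2 fun x => by
    show χ (Ideal.Quotient.mk m (x * b)) = 0
    rw [Ideal.Quotient.eq_zero_iff_mem.2 (m.mul_mem_left x hb), map_zero]
  have hψH := (InjHull18.mem_iSup_torsion (J := m) (x := ψ)).2
    ⟨1, fun b hb => hψ b (by simpa using hb)⟩
  refine (InjHull18.exists_hull_of_socle m (InjHull18.injective_gamma hT m)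
    (InjHull18.isPowerTorsion_gamma m) (x₀ := ⟨ψ, hψH⟩) (fun h => hχ ?_)
    ((Submodule.mem_torsionBySet_iff _ _).2 fun b => Subtype.ext (hψ b.1 b.2))
    fun φ hφ => ?_).imp fun g h => h.1
  · exact LinearMap.congr_fun (congrArg InjHull18.toHom (congrArg Subtype.val h)) 1
  · have h1 : ∀ x ∈ m, InjHull18.toHom φ.1 x = 0 := fun x hx => by
      have h2 := (InjHull18.smul_eq_zero_iff_toHom x φ.1).1 (congrArg Subtype.val
        ((Submodule.mem_torsionBySet_iff _ _).1 hφ ⟨x, hx⟩)) 1
      rwa [one_mul] at h2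
    let Φ : (A ⧸ m) →ₗ[k₀] ((A ⧸ m) →ₗ[k₀] k₀) :=
      (LinearMap.mul k₀ (A ⧸ m)).compr₂ χ
    have hΦinj : Function.Injective Φ := by
      refine (injective_iff_map_eq_zero Φ).2 fun z hz => ?_
      by_contra hz0
      refine hχ ?_
      have h2 : χ (z * z⁻¹) = 0 := LinearMap.congr_fun hz z⁻¹
      rwa [mul_inv_cancel₀ hz0] at h2
    have hrank : Module.finrank k₀ ((A ⧸ m) →ₗ[k₀] k₀) = Module.finrank k₀ (A ⧸ m) :=
      Subspace.dual_finrank_eq
    obtain ⟨z, hz⟩ := (LinearMap.injective_iff_surjective_of_finrank_eq_finrank hrank.symm).1 hΦinj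
      ((m.restrictScalars k₀).liftQ (InjHull18.toHom φ.1) h1)
    obtain ⟨c, rfl⟩ := Ideal.Quotient.mk_surjective z
    refine Submodule.mem_span_singleton.2 ⟨c, Subtype.ext (InjHull18.toHom_injective
      (LinearMap.ext fun x => ?_))⟩
    have h3 := LinearMap.congr_fun hz (Ideal.Quotient.mk m x)
    show χ (Ideal.Quotient.mk m (x * c)) = _
    rw [mul_comm x c, map_mul]
    exact h3

end Groth.Agent.S5175
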