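import Groth.Statements.S5176
import Groth.Agent.Depth22.Supp
-- import your own Groth.Agent.* helpers here

set_option autoImplicit false
universe u
open CategoryTheory CategoryTheory.Limits AlgebraicGeometry Opposite
open EtDepth

namespace Groth.Agent.S5176

/-- For an abelian sheaf. Let X be a scheme, j : U → X and k : V → X open immersions with U ⊆ V, so that
the closed complement Z of V is contained in the closed complement Y of U, F an abelian sheaf on the
small étale site of X and n ≥ 0. If the Y-étale depth of F is ≥ n (the local cohomology sheaves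
H^p_Y(F) vanish for p < n), then the Z-étale depth of F is ≥ n. -/
theorem result {X U V : Scheme.{u}} (j : U ⟶ X) [IsOpenImmersion j] [EtCoh.BCCont j] (k : V ⟶ X) [IsOpenImmersion k] [EtCoh.BCCont k] (hUV : Set.range j.base ⊆ Set.range k.base) (F : EtCoh.Ab X) (n : ℕ) (h : EtDepth.DepthGE j F n) : EtDepth.DepthGE k F n := by
  induction n generalizing F with
  | zero => exact Depth22.depthGE_zero k F
  | succ n ih =>
    have hm := Depth22.mono_of_depthGE j h
    obtain ⟨S, hS, rfl, hI, h2, -⟩ := Depth22.exists_shortExact j F hm
    exact (Depth22.depthGE_succ_iff k hS (Depth22.mono_unitApp_of_le j k hUV _ h2)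
      (Depth22.mono_unitApp_of_le j k hUV _ hm) n).2 (ih _ ((Depth22.depthGE_succ_iff j hS h2 hm n).1 h))

end Groth.Agent.S5176
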