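import Groth.Statements.S5181
import Groth.Agent.Depth22.ClopenFEt
-- import your own Groth.Agent.* helpers here

set_option autoImplicit false
universe u
open CategoryTheory CategoryTheory.Limits AlgebraicGeometry Opposite
open EtDepth

namespace Groth.Agent.S5181

/-- Last assertion, in the cases of depth ≥ 1 and depth ≥ 2. Let X be a scheme and j : U → X an open
immersion with closed complement Y; for X' étale over X write U' = X' ×_X U. Then (a) the Y-étale
depth of X is ≥ 1, i.e. the local cohomology sheaf H^0_Y(Z/ℓ) vanishes for every prime ℓ, if and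
only if for every scheme X' étale over X the restriction functor from finite étale covers of X' to
finite étale covers of U' is faithful; and (b) the Y-étale depth of X is ≥ 2, i.e. H^0_Y(Z/ℓ) and
H^1_Y(Z/ℓ) vanish for every prime ℓ, if and only if for every scheme X' étale over X that
restriction functor is full and faithful. (The case of depth ≥ 3 versus equivalences is the
prelude's definition of homotopic depth ≥ 3.) -/
theorem result {X U : Scheme.{u}} (j : U ⟶ X) [IsOpenImmersion j] [EtCoh.BCCont j] : ((∀ ℓ : ℕ, ℓ.Prime → EtDepth.DepthGE j (EtCoh.const X (ZMod ℓ)) 1) ↔ ∀ (X' : Scheme.{u}) (g : X' ⟶ X) [Etale g], (FEt.restrict (pullback.snd j g)).Faithful) ∧ ((∀ ℓ : ℕ, ℓ.Prime → EtDepth.DepthGE j (EtCoh.const X (ZMod ℓ)) 2) ↔ ∀ (X' : Scheme.{u}) (g : X' ⟶ X) [Etale g], (FEt.restrict (pullback.snd j g)).Full ∧ (FEt.restrict (pullback.snd j g)).Faithful) := by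
  have key1 : ∀ ℓ : ℕ, ℓ.Prime → (EtDepth.DepthGE j (EtCoh.const X (ZMod ℓ)) 1 ↔ Depth22.NoClopenOff j) := by
    intro ℓ hℓ
    have := Fact.mk hℓ.one_lt
    exact Depth22.depthGE_one_iff_noClopenOff j (AddCommGrpCat.of (ULift.{u + 1} (ZMod ℓ)))
  have key2 : ∀ ℓ : ℕ, ℓ.Prime → (EtDepth.DepthGE j (EtCoh.const X (ZMod ℓ)) 2 ↔
      Depth22.NoClopenOff j ∧ Depth22.ClopenExtends j) := by
    intro ℓ hℓ
    have := Fact.mk hℓ.one_lt
    have : NeZero ℓ := ⟨hℓ.ne_zero⟩
    exact Depth22.depthGE_two_iff_clopenExtends j (AddCommGrpCat.of (ULift.{u + 1} (ZMod ℓ)))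
  rw [← Depth22.noClopenOff_iff, ← Depth22.clopenExtends_iff]
  exact ⟨⟨fun h => (key1 2 Nat.prime_two).1 (h 2 Nat.prime_two), fun h ℓ hℓ => (key1 ℓ hℓ).2 h⟩,
    ⟨fun h => (key2 2 Nat.prime_two).1 (h 2 Nat.prime_two), fun h ℓ hℓ => (key2 ℓ hℓ).2 h⟩⟩

end Groth.Agent.S5181
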