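import Groth.Agent.EGA4H10.NFDepth
-- Template for statement S5182 (row 5181; see the milestone table for weights).
-- Copy to Groth/Agent/S5182.lean and replace the sorry. The statement below is byte-identical to the frozen
-- statement CInt.GrothFrozen.S5182 (Groth/Statements/S5182.lean; the theorem CInt.weaklyRegular_on_powers_of_normallyFlat);
-- the grader kernel-checks Groth.Agent.S5182.result against that frozen type. Keep the theorem IN THIS FILE
-- (a `result` declared elsewhere and merely imported here is not credited); helpers may live anywhere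
-- under Groth/Agent/.

set_option autoImplicit false
universe u
namespace CInt
end CInt
open CInt

namespace Groth.Agent.S5182

/-- In the local algebraic form to which its proof reduces. Let A be a Noetherian local ring, J a proper
ideal such that A is normally flat along J, i.e. every J^k/J^{k+1} is a flat (equivalently free)
A/J-module, and f_1, …, f_r elements of A whose images form a weakly regular sequence on A/J (each
f_i a non-zero-divisor on A/J modulo the preceding ones). Then for every k ≥ 0 the f_i form a weakly
regular sequence on the A-module J^k and on the A-module J^k/J^{k+1}; in particular (k = 0) on A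
itself, so that they are regular on the Rees algebra ⊕ J^k and on the associated graded ring ⊕
J^k/J^{k+1}. -/
theorem result (A : Type u) [CommRing A] [IsLocalRing A] [IsNoetherianRing A] (J : Ideal A) (hJ : J ≠ ⊤) (hflat : ∀ k : ℕ, Module.Flat (A ⧸ J) (↥(J ^ k) ⧸ (J • (⊤ : Submodule A ↥(J ^ k))))) (fs : List A) (hreg : RingTheory.Sequence.IsWeaklyRegular (A ⧸ J) fs) (k : ℕ) : RingTheory.Sequence.IsWeaklyRegular (↥(J ^ k)) fs ∧ RingTheory.Sequence.IsWeaklyRegular (↥(J ^ k) ⧸ (J • (⊤ : Submodule A ↥(J ^ k)))) fs := by
  have hN : EGA4.IsNormallyFlat J ↥(J ^ k) := fun n => by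
    let p : Submodule A A := J ^ k
    let e0 : ↥(J ^ n • (⊤ : Submodule A p)) ≃ₗ[A] ↥(J ^ (n + k)) :=
      (Submodule.equivSubtypeMap p (J ^ n • (⊤ : Submodule A p))).trans (LinearEquiv.ofEq _ _ (by
        rw [Submodule.map_smul'', Submodule.map_top, Submodule.range_subtype, smul_eq_mul, pow_add]))
    let e : EGA4H10.Piece J ↥(J ^ k) n ≃ₗ[A] ↥(J ^ (n + k)) ⧸ (J • (⊤ : Submodule A ↥(J ^ (n + k)))) :=
      Submodule.Quotient.equiv _ _ e0 (by
        rw [Submodule.map_smul'', Submodule.map_top, LinearEquiv.range])
    let e' := LinearEquiv.extendScalarsOfSurjective (S := A ⧸ J) Ideal.Quotient.mk_surjective e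
    have := hflat (n + k)
    exact Module.Flat.of_linearEquiv e'
  have := hflat k
  exact ⟨EGA4H10.isWeaklyRegular_of_isNormallyFlat hJ hN hreg,
    EGA4H10.isWeaklyRegular_of_flat_quotient _ hreg⟩

end Groth.Agent.S5182
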