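import Groth.Agent.E4O.BaseChangeDim
import Groth.Agent.Cyc90.FlatRelDim
import Groth.Agent.RelGCI94.CountCI
import Groth.Agent.EGA4H10.Equidim
import Groth.Agent.CAlg9.Node.Fibral
import Groth.Statements.S5196
-- import your own Groth.Agent.* helpers here

set_option autoImplicit false
set_option backward.isDefEq.respectTransparency.types false
universe u
open CategoryTheory CategoryTheory.Limits AlgebraicGeometry Opposite
open EtDepth

namespace Groth.Agent.S5196

open IsLocalRing

section
variable {A A' : Type u} [CommRing A] [CommRing A'] [IsLocalRing A] [IsLocalRing A'] [IsNoetherianRing A]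
  [IsNoetherianRing A'] [Algebra A A'] [Module.FaithfullyFlat A A']

/-- The dimension of a quotient by an extended prime, for zero dimensional closed fibre. -/
theorem dim_quotient_map
    (hfib : ∀ q : Ideal A', ∀ _ : q.IsPrime, q.comap (algebraMap A A') = maximalIdeal A → q = maximalIdeal A')
    (p : Ideal A) [hp : p.IsPrime] :
    ringKrullDim (A' ⧸ p.map (algebraMap A A')) = ringKrullDim (A ⧸ p) ∧
      p.map (algebraMap A A') ≠ ⊤ := by
  let I := p.map (algebraMap A A')
  have hI : I ≠ ⊤ := fun h => hp.ne_top (by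
    rw [← Ideal.comap_map_eq_self_of_faithfullyFlat (B := A') p]
    exact (congrArg (Ideal.comap _) h).trans Ideal.comap_top)
  refine ⟨?_, hI⟩
  have hloc : IsLocalHom (algebraMap A A') := by
    refine ((local_hom_TFAE _).out 0 2).2 ?_
    refine le_maximalIdeal fun h => (maximalIdeal.isMaximal A).ne_top ?_
    rw [← Ideal.comap_map_eq_self_of_faithfullyFlat (B := A') (maximalIdeal A), h, Ideal.comap_top]
  have : Nontrivial (A ⧸ p) := Ideal.Quotient.nontrivial_iff.2 hp.ne_top
  have : Nontrivial (A' ⧸ I) := Ideal.Quotient.nontrivial_iff.2 hI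
  have : IsLocalRing (A ⧸ p) := IsLocalRing.of_surjective' _ Ideal.Quotient.mk_surjective
  have : IsLocalRing (A' ⧸ I) := IsLocalRing.of_surjective' _ Ideal.Quotient.mk_surjective
  have : Module.Flat (A ⧸ p) (A' ⧸ I) := RingHom.flat_algebraMap_iff.1 (CAlg9.Node.flat_quotientMap' p)
  have hmap : (maximalIdeal (A ⧸ p)).map (algebraMap (A ⧸ p) (A' ⧸ I)) =
      ((maximalIdeal A).map (algebraMap A A')).map (Ideal.Quotient.mk I) := by
    rw [← IsLocalRing.map_maximalIdeal_of_surjective _ (Ideal.Quotient.mk_surjective (I := p)),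
      Ideal.map_map, Ideal.map_map]
    rfl
  have : IsLocalHom (algebraMap (A ⧸ p) (A' ⧸ I)) := by
    refine ((local_hom_TFAE _).out 0 2).2 ?_
    rw [hmap, ← IsLocalRing.map_maximalIdeal_of_surjective _ (Ideal.Quotient.mk_surjective (I := I))]
    exact Ideal.map_mono (map_maximalIdeal_le (algebraMap A A'))
  rw [RelGCI94.ringKrullDim_eq_add_of_flat (R := A ⧸ p) (S := A' ⧸ I)]
  let J := (maximalIdeal (A ⧸ p)).map (algebraMap (A ⧸ p) (A' ⧸ I))
  have : Nontrivial ((A' ⧸ I) ⧸ J) := Ideal.Quotient.nontrivial_iff.2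
    (ne_top_of_le_ne_top (maximalIdeal.isMaximal _).ne_top (map_maximalIdeal_le _))
  have : Ring.KrullDimLE 0 ((A' ⧸ I) ⧸ J) := by
    refine Ring.krullDimLE_zero_iff.2 fun q hq => ?_
    let ψ : A' →+* (A' ⧸ I) ⧸ J := (Ideal.Quotient.mk J).comp (Ideal.Quotient.mk I)
    have hψ : Function.Surjective ψ := Ideal.Quotient.mk_surjective.comp Ideal.Quotient.mk_surjective
    have hq' : (q.comap ψ).IsPrime := Ideal.comap_isPrime _ _
    have e := hfib (q.comap ψ) hq' (((maximalIdeal.isMaximal A).eq_of_le
      (Ideal.comap_isPrime _ _).ne_top fun a ha => ?_).symm)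
    · have hmax : (q.comap ψ).IsMaximal := by rw [e]; infer_instance
      exact Ideal.map_comap_of_surjective _ hψ q ▸ Ideal.IsMaximal.map_of_surjective_of_ker_le hψ
        (fun z hz => by simp [RingHom.mem_ker.1 hz])
    · have h0 : ψ (algebraMap A A' a) = 0 := Ideal.Quotient.eq_zero_iff_mem.2
        (hmap.ge (Ideal.mem_map_of_mem _ (Ideal.mem_map_of_mem _ ha)))
      show ψ (algebraMap A A' a) ∈ q
      rw [h0]
      exact q.zero_mem
  have h0 : ringKrullDim ((A' ⧸ I) ⧸ J) = 0 :=
    le_antisymm (Ring.krullDimLE_iff.1 this) ringKrullDim_nonneg_of_nontrivial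
  rw [h0, add_zero]

end


/-- Let A → A' be a faithfully flat homomorphism of Noetherian local rings whose fibre over the closed
point of Spec A is the single closed point of Spec A' (the only prime of A' over m_A is m_{A'}), f :
X → Spec A a morphism locally of finite type, X' = X ×_A A' with projections h : X' → X and f' : X'
→ Spec A'. For a point x' of X' put x = h(x'), s = f(x), s' = f'(x'). Then trdeg(κ(x')/κ(s')) ≤
trdeg(κ(x)/κ(s)) and dim A'/p_{s'} ≤ dim A/p_s, so that δ(x') ≤ δ(x) for δ(x) = trdeg(κ(x)/κ(s)) +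
dim cl(s), with equality exactly when both inequalities are equalities; and for every point x of X
there is a point x' of X' over x for which both are equalities. -/
theorem result (A A' : Type u) [CommRing A] [CommRing A'] [IsLocalRing A] [IsLocalRing A'] [IsNoetherianRing A] [IsNoetherianRing A'] [Algebra A A'] [Module.FaithfullyFlat A A'] (hfib : ∀ q : Ideal A', ∀ _ : q.IsPrime, q.comap (algebraMap A A') = IsLocalRing.maximalIdeal A → q = IsLocalRing.maximalIdeal A') (X : Scheme.{u}) (f : X ⟶ (Spec (CommRingCat.of A))) [LocallyOfFiniteType f] : (∀ x' : ↥(pullback f (Spec.map (CommRingCat.ofHom (algebraMap A A')))), @Algebra.trdeg ↑((Spec (CommRingCat.of A')).residueField ((pullback.snd f (Spec.map (CommRingCat.ofHom (algebraMap A A')))).base x')) ↑((pullback f (Spec.map (CommRingCat.ofHom (algebraMap A A')))).residueField x') _ _ ((pullback.snd f (Spec.map (CommRingCat.ofHom (algebraMap A A')))).residueFieldMap x').hom.toAlgebra ≤ @Algebra.trdeg ↑((Spec (CommRingCat.of A)).residueField (f.base ((pullback.fst f (Spec.map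 (CommRingCat.ofHom (algebraMap A A')))).base x'))) ↑(X.residueField ((pullback.fst f (Spec.map (CommRingCat.ofHom (algebraMap A A')))).base x')) _ _ (f.residueFieldMap ((pullback.fst f (Spec.map (CommRingCat.ofHom (algebraMap A A')))).base x')).hom.toAlgebra ∧ ringKrullDim (A' ⧸ ((pullback.snd f (Spec.map (CommRingCat.ofHom (algebraMap A A')))).base x').asIdeal) ≤ ringKrullDim (A ⧸ (f.base ((pullback.fst f (Spec.map (CommRingCat.ofHom (algebraMap A A')))).base x')).asIdeal)) ∧ (∀ x : X, ∃ x' : ↥(pullback f (Spec.map (CommRingCat.ofHom (algebraMap A A')))), (pullback.fst f (Spec.map (CommRingCat.ofHom (algebraMap A A')))).base x' = x ∧ @Algebra.trdeg ↑((Spec (CommRingCat.of A')).residueField ((pullback.snd f (Spec.map (CommRingCat.ofHom (algebraMap A A')))).base x')) ↑((pullback f (Spec.map (CommRingCat.ofHom (algebraMap A A')))).residueField x') _ _ ((pullback.snd f (Spec.map (CommRingCat.ofHom (algebraMap A A')))).residueFieldMap x').hom.toAlgebra = @Algebra.trdeg ↑((Spec (CommRingCat.of A)).residueField (f.base ((pullback.fst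 f (Spec.map (CommRingCat.ofHom (algebraMap A A')))).base x'))) ↑(X.residueField ((pullback.fst f (Spec.map (CommRingCat.ofHom (algebraMap A A')))).base x')) _ _ (f.residueFieldMap ((pullback.fst f (Spec.map (CommRingCat.ofHom (algebraMap A A')))).base x')).hom.toAlgebra ∧ ringKrullDim (A' ⧸ ((pullback.snd f (Spec.map (CommRingCat.ofHom (algebraMap A A')))).base x').asIdeal) = ringKrullDim (A ⧸ (f.base ((pullback.fst f (Spec.map (CommRingCat.ofHom (algebraMap A A')))).base x')).asIdeal)) := by
  let h := Spec.map (CommRingCat.ofHom (algebraMap A A'))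
  have hsq := IsPullback.of_hasPullback f h
  constructor
  · intro x'
    have hs : (f (pullback.fst f h x')) = h (pullback.snd f h x') :=
      congrArg (fun k : pullback f h ⟶ _ => k x') (pullback.condition (f := f) (g := h))
    refine ⟨?_, ?_⟩
    · rw [Cyc90.trdeg_residueField_eq_fdeg (pullback.snd f h) x',
        Cyc90.trdeg_residueField_eq_fdeg f (pullback.fst f h x')]
      exact Nat.cast_le.2 (E4O.fdeg_le_of_isPullback hsq x')
    · let q : PrimeSpectrum A' := pullback.snd f h x'
      have e : (f (pullback.fst f h x')).asIdeal = q.asIdeal.comap (algebraMap A A') :=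
        congrArg PrimeSpectrum.asIdeal hs
      refine le_trans (ringKrullDim_le_of_surjective
        (Ideal.Quotient.factor (Ideal.map_le_iff_le_comap.2 e.le)) (Ideal.Quotient.factor_surjective _))
        (dim_quotient_map hfib (f (pullback.fst f h x')).asIdeal).1.le
  · intro x
    let p : Ideal A := (f x).asIdeal
    have hp : p.IsPrime := (f x).2
    obtain ⟨hdim, hI⟩ := dim_quotient_map (A' := A') hfib p
    let I := p.map (algebraMap A A')
    have : Nontrivial (A' ⧸ I) := Ideal.Quotient.nontrivial_iff.2 hI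
    have : IsLocalRing (A' ⧸ I) := IsLocalRing.of_surjective' _ Ideal.Quotient.mk_surjective
    obtain ⟨q, hq, hqdim⟩ := EGA4H10.exists_minimal_dim_eq (A' ⧸ I)
    let q' := q.comap (Ideal.Quotient.mk I)
    have := hq.1.1
    have hq' : q'.IsPrime := Ideal.comap_isPrime _ _
    have hq'min : q' ∈ I.minimalPrimes := by
      rw [Ideal.minimalPrimes_eq_comap]
      exact ⟨q, hq, rfl⟩
    have hcom : p = q'.comap (algebraMap A A') := by
      refine le_antisymm (Ideal.map_le_iff_le_comap.1 hq'min.1.2) ?_
      by_contra hlt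
      have hle : p ≤ q'.comap (algebraMap A A') := Ideal.map_le_iff_le_comap.1 hq'min.1.2
      have : q'.LiesOver (q'.comap (algebraMap A A')) := ⟨rfl⟩
      obtain ⟨P, hP, hPp, hPl⟩ := q'.exists_ideal_le_liesOver_of_le (p := p)
        (q := q'.comap (algebraMap A A')) hle
      have hPI : I ≤ P := Ideal.map_le_iff_le_comap.2 hPl.over.le
      have hqP := hq'min.2 ⟨hPp, hPI⟩ hP
      exact hlt ((Ideal.comap_mono hqP).trans hPl.over.ge)
    let y' : ↥(Spec (CommRingCat.of A')) := (⟨q', hq'⟩ : PrimeSpectrum A')
    obtain ⟨a, ha, ha', hdeg⟩ := E4O.exists_fdeg_eq_of_isPullback hsq x y' (PrimeSpectrum.ext hcom)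
    refine ⟨a, ha, ?_, ?_⟩
    · rw [Cyc90.trdeg_residueField_eq_fdeg (pullback.snd f h) a,
        Cyc90.trdeg_residueField_eq_fdeg f (pullback.fst f h a)]
      exact congrArg _ (hdeg.trans (congrArg _ ha.symm))
    · have e1 : ((pullback.snd f h) a).asIdeal = q' := congrArg PrimeSpectrum.asIdeal ha'
      have e2 : (f (pullback.fst f h a)).asIdeal = p := congrArg (fun z => (f z).asIdeal) ha
      refine ((ringKrullDim_eq_of_ringEquiv (Ideal.quotEquivOfEq e1)).trans ?_).trans
        (ringKrullDim_eq_of_ringEquiv (Ideal.quotEquivOfEq e2)).symm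
      refine Eq.trans ?_ (hqdim.trans hdim)
      exact ringKrullDim_eq_of_ringEquiv (RingEquiv.ofBijective
        (Ideal.quotientMap q (Ideal.Quotient.mk I) le_rfl)
        ⟨Ideal.quotientMap_injective, Ideal.quotientMap_surjective Ideal.Quotient.mk_surjective⟩)

end Groth.Agent.S5196
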