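import Groth.Agent.Depth22.DeltaCodim
import Groth.Agent.Cyc90.FlatRelDim
import Groth.Statements.S5198
-- import your own Groth.Agent.* helpers here

set_option autoImplicit false
set_option backward.isDefEq.respectTransparency.types false
universe u
open CategoryTheory CategoryTheory.Limits AlgebraicGeometry Opposite
open EtDepth

namespace Groth.Agent.S5198

/-- Over affine bases. Let A → A' be a faithfully flat homomorphism of Noetherian rings with A
Cohen–Macaulay and A' catenary, T = V(I) ⊆ Spec A and T' = V(I') ⊆ Spec A' closed subsets with T'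
mapping into T, f : X → Spec A locally of finite type, X' = X ×_A A' with projections h : X' → X and
f' : X' → Spec A'. For a point x' of X' put x = h(x'), s = f(x), s' = f'(x'), and let δ_T(x) =
trdeg(κ(x)/κ(s)) + codim(cl(s) ∩ T, cl(s)), δ_{T'}(x') likewise, assuming cl(s') meets T' (so both
codimensions are finite). Then δ_T(x) − δ_{T'}(x') ≤ dim h_{x'}^{-1}(x), the dimension of the local
ring at x' of the fibre of h over x; written additively with the five quantities pinned to natural
numbers. (The published statement assumes A and A' only catenary. In that generality it fails: for a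
two-dimensional catenary Noetherian local domain A whose completion A' has a one-dimensional
irreducible component, with T and T' the closed points, X = Spec A and x' the generic point of that
component, the left side is 2 and the right side is 1. The published proof uses additivity of
codimension inside the preimage of cl(s) in Spec A', which needs the irreducible components of Spec
A' through a point not to have smaller local dimension than Spec A at the image point; flatness
gives this when A is Cohen–Macaulay, the hypothesis this row takes, and A is then catenary.) -/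
theorem result (A A' : Type u) [CommRing A] [CommRing A'] [IsNoetherianRing A] [IsNoetherianRing A'] (hcm : LocCoh.IsCohenMacaulayRing A) (hcat' : CAlg.IsCatenary A') [Algebra A A'] [Module.FaithfullyFlat A A'] (I : Ideal A) (I' : Ideal A') (hTT : ∀ q : PrimeSpectrum A', I' ≤ q.asIdeal → I ≤ q.asIdeal.comap (algebraMap A A')) (X : Scheme.{u}) (f : X ⟶ (Spec (CommRingCat.of A))) [LocallyOfFiniteType f] (x' : ↥(pullback f (Spec.map (CommRingCat.ofHom (algebraMap A A'))))) (r r' a b e : ℕ) (hr : @Algebra.trdeg ↑((Spec (CommRingCat.of A)).residueField (f.base ((pullback.fst f (Spec.map (CommRingCat.ofHom (algebraMap A A')))).base x'))) ↑(X.residueField ((pullback.fst f (Spec.map (CommRingCat.ofHom (algebraMap A A')))).base x')) _ _ (f.residueFieldMap ((pullback.fst f (Spec.map (CommRingCat.ofHom (algebraMap A A')))).base x')).hom.toAlgebra = r) (hr' : @Algebra.trdeg ↑((Spec (CommRingCat.of A')).residueField ((pullback.snd f (Spec.map (CommRingCat.ofHom (algebraMap A A')))).base x')) ↑((pullback f (Spec.map (CommRingCat.ofHom (algebraMap A A')))).residueField x') _ _ ((pullback.snd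 f (Spec.map (CommRingCat.ofHom (algebraMap A A')))).residueFieldMap x').hom.toAlgebra = r') (ha : SGA2.relCodim I (f.base ((pullback.fst f (Spec.map (CommRingCat.ofHom (algebraMap A A')))).base x')) = a) (hb : SGA2.relCodim I' ((pullback.snd f (Spec.map (CommRingCat.ofHom (algebraMap A A')))).base x') = b) (he : ringKrullDim ↑(CInt.fiberStalk (pullback.fst f (Spec.map (CommRingCat.ofHom (algebraMap A A')))) x') = (e : WithBot ℕ∞)) : r + a ≤ r' + b + e := by
  let φ := Spec.map (CommRingCat.ofHom (algebraMap A A'))
  have : LocallyOfFiniteType (pullback.snd f φ) :=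
    MorphismProperty.of_isPullback (IsPullback.of_hasPullback f φ) inferInstance
  have hr1 : E4O.fdeg f (pullback.fst f φ x') = r :=
    Nat.cast_injective ((Cyc90.trdeg_residueField_eq_fdeg f (pullback.fst f φ x')).symm.trans hr)
  have hr2 : E4O.fdeg (pullback.snd f φ) x' = r' :=
    Nat.cast_injective ((Cyc90.trdeg_residueField_eq_fdeg (pullback.snd f φ) x').symm.trans hr')
  let s' : PrimeSpectrum A' := pullback.snd f φ x'
  let s : PrimeSpectrum A := f (pullback.fst f φ x')
  have hss : s'.asIdeal.comap (algebraMap A A') = s.asIdeal :=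
    (congrArg PrimeSpectrum.asIdeal
      (congrArg (fun k : pullback f φ ⟶ _ => k x') (pullback.condition (f := f) (g := φ)))).symm
  obtain ⟨P, hP, hPs', hPc, -, hPh⟩ := EGA4H10.exists_minimal_over s.asIdeal s.asIdeal le_rfl s'.asIdeal hss
  let P' : PrimeSpectrum A' := ⟨P, hP⟩
  have hne : Nonempty {q : PrimeSpectrum A' // s' ≤ q ∧ I' ≤ q.asIdeal} := by
    by_contra hno
    have := not_nonempty_iff.1 hno
    have hb' : SGA2.relCodim I' s' = (b : ℕ∞) := hb
    rw [SGA2.relCodim, iInf_of_empty] at hb'
    exact ENat.natCast_ne_top b hb'.symm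
  obtain ⟨⟨q', hsq, hIq⟩, hq'⟩ := ENat.exists_eq_iInf
    (fun q : {q : PrimeSpectrum A' // s' ≤ q ∧ I' ≤ q.asIdeal} => Order.height (⟨q.1, q.2.1⟩ : Set.Ici s'))
  have hb1 : LC17.htq s'.asIdeal q'.asIdeal = (b : ℕ∞) := by
    rw [← LC16.RelCodim.height_ici s' q' hsq]
    exact hq'.trans hb
  have ha1 := LC16.RelCodim.relCodim_le (I := I) s (PrimeSpectrum.comap (algebraMap A A') q')
    (show s.asIdeal ≤ q'.asIdeal.comap (algebraMap A A') from hss ▸ Ideal.comap_mono hsq) (hTT q' hIq)
  rw [show SGA2.relCodim I s = (a : ℕ∞) from ha] at ha1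
  have hc1 := Depth22.DeltaCodim.htq_le_htq_minimal hcm hcat' (P := P') (q := q')
    (le_trans (show P' ≤ s' from hPs') hsq) (hPh.trans (congrArg Ideal.height hPc.symm))
  rw [Depth22.DeltaCodim.htq_eq_add hcat' (show P' ≤ s' from hPs') hsq, hb1,
    show P'.asIdeal.comap (algebraMap A A') = s.asIdeal from hPc] at hc1
  have hd := Depth22.DeltaCodim.add_fdeg_le f x' P' hPs' hPc e he
  rw [hr1, hr2] at hd
  obtain ⟨k, hk⟩ := LC17.exists_htq_eq (p := P) (q := s'.asIdeal) hPs'
  rw [show LC17.htq P'.asIdeal (pullback.snd f φ x').asIdeal = (k : ℕ∞) from hk] at hd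
  have h1 := ha1.trans (hc1.trans_eq (congrArg (· + (b : ℕ∞)) hk))
  have h1' : a ≤ k + b := by exact_mod_cast h1
  have h2' : k + r ≤ e + r' := by exact_mod_cast hd
  omega

end Groth.Agent.S5198
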