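import Groth.Statements.S5212
import Mathlib.LinearAlgebra.Charpoly.BaseChange
import Mathlib.RingTheory.LocalRing.ResidueField.Fiber
import Mathlib.LinearAlgebra.Determinant


set_option autoImplicit false
universe u
open GrpQ

namespace Groth.Agent.S5212
open TensorProduct in
theorem isUnit_iff_norm {K B : Type*} [Field K] [CommRing B] [Algebra K B] [Module.Finite K B]
    (x : B) : IsUnit x ↔ IsUnit (Algebra.norm K x) := by
  refine ⟨fun h => h.map _, fun h => ?_⟩
  rw [Algebra.norm_apply, ← LinearMap.isUnit_iff_isUnit_det, Module.End.isUnit_iff] at h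
  obtain ⟨y, hy⟩ := h.2 1
  exact IsUnit.of_mul_eq_one y hy

open TensorProduct in
theorem norm_one_tmul {A A' K : Type*} [CommRing A] [CommRing A'] [Algebra A A']
    [Module.Free A A'] [Module.Finite A A'] [CommRing K] [Algebra A K] (a : A') :
    Algebra.norm K (1 ⊗ₜ[A] a : K ⊗[A] A') = algebraMap A K (Algebra.norm A a) := by
  rw [Algebra.norm_apply, Algebra.norm_apply, ← LinearMap.det_baseChange, Algebra.baseChange_lmul]


/-- For `A'` finite and free as an `A`-module, a prime `p` of `A` and `a ∈ A'`, the element `a` belongs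
to some prime of `A'` lying over `p` if and only if its norm belongs to `p`. (The published
statement allows `A'` projective of constant rank over `A`; this row takes `A'` free, where the norm
is the determinant of multiplication.) -/
theorem result {A A' : Type u} [CommRing A] [CommRing A'] [Algebra A A']
    [Module.Free A A'] [Module.Finite A A'] (p : Ideal A) [p.IsPrime] (a : A') :
    (∃ q : Ideal A', q.IsPrime ∧ q.LiesOver p ∧ a ∈ q) ↔ Algebra.norm A a ∈ p := by
  have key : Algebra.norm A a ∈ p ↔
      ¬ IsUnit (1 ⊗ₜ[A] a : p.Fiber A') := by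
    rw [isUnit_iff_norm (K := p.ResidueField), norm_one_tmul, isUnit_iff_ne_zero, not_not,
      Ideal.algebraMap_residueField_eq_zero]
  rw [key]
  constructor
  · rintro ⟨q, hq, hqp, haq⟩ hu
    have e : PrimeSpectrum.comap (algebraMap A A') ⟨q, hq⟩ = ⟨p, inferInstance⟩ :=
      PrimeSpectrum.ext hqp.over.symm
    set Q := PrimeSpectrum.preimageEquivFiber A A' ⟨p, inferInstance⟩ ⟨⟨q, hq⟩, e⟩ with hQ
    have h := congr(($((PrimeSpectrum.preimageEquivFiber A A' ⟨p, inferInstance⟩).symm_apply_apply
      ⟨⟨q, hq⟩, e⟩)).1.asIdeal)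
    have hmem : (1 ⊗ₜ[A] a : p.Fiber A') ∈ Q.asIdeal := by
      rw [← hQ] at h
      exact h.ge haq
    exact Q.isPrime.ne_top (Ideal.eq_top_of_isUnit_mem _ hmem hu)
  · intro hnu
    obtain ⟨m, hm, ham⟩ := exists_max_ideal_of_mem_nonunits hnu
    refine ⟨m.comap (Algebra.TensorProduct.includeRight :
        A' →ₐ[A] p.Fiber A'), Ideal.IsPrime.comap _, ⟨?_⟩, ham⟩
    refine (Ideal.LiesOver.over (P := m) (p := p)).trans ?_
    ext x
    simp [Ideal.under, Algebra.TensorProduct.algebraMap_apply]

end Groth.Agent.S5212
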