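import Groth.Statements.S5213
import Mathlib.LinearAlgebra.Determinant
import Mathlib.LinearAlgebra.Pi
import Mathlib.LinearAlgebra.Matrix.Nondegenerate
import Mathlib.RingTheory.LocalRing.Basic
import Mathlib.LinearAlgebra.InvariantBasisNumber

set_option autoImplicit false
universe u
open GrpQ

namespace Groth.Agent.S5213
theorem avoid {B M : Type*} [CommRing B] [IsLocalRing B] [Infinite (IsLocalRing.ResidueField B)]
    [AddCommGroup M] [Module B M] {ι : Type*} (s : Finset ι) (W : ι → Submodule B M)
    (N : Submodule B M) (h : ∀ i ∈ s, ¬ N ≤ W i) : ∃ x ∈ N, ∀ i ∈ s, x ∉ W i := by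
  classical
  induction s using Finset.induction with
  | empty => exact ⟨0, N.zero_mem, by simp⟩
  | insert a s ha ih =>
    obtain ⟨x, hxN, hx⟩ := ih fun i hi => h i (Finset.mem_insert_of_mem hi)
    obtain ⟨y, hyN, hy⟩ := SetLike.not_le_iff_exists.mp (h a (Finset.mem_insert_self a s))
    let bad : ι → Set (IsLocalRing.ResidueField B) := fun i =>
      {c | ∃ b : B, IsLocalRing.residue B b = c ∧ x + b • y ∈ W i}
    have hbad : ∀ i ∈ insert a s, (bad i).Subsingleton := by
      rintro i hi _ ⟨b, rfl, hb⟩ _ ⟨b', rfl, hb'⟩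
      by_contra hne
      have hu : IsUnit (b - b') :=
        (IsLocalRing.residue_ne_zero_iff_isUnit _).mp (by rwa [map_sub, sub_ne_zero])
      have hyW : y ∈ W i := by
        have := (W i).smul_mem ↑hu.unit⁻¹ ((W i).sub_mem hb hb')
        rwa [show (x + b • y) - (x + b' • y) = (b - b') • y by rw [sub_smul]; abel, smul_smul,
          IsUnit.val_inv_mul, one_smul] at this
      rcases Finset.mem_insert.mp hi with rfl | hi'
      · exact hy hyW
      · exact hx i hi' (by simpa using (W i).sub_mem hb ((W i).smul_mem b hyW))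
    have hfin : (⋃ i ∈ insert a s, bad i).Finite :=
      Set.Finite.biUnion (Finset.finite_toSet _) fun i hi => (hbad i hi).finite
    obtain ⟨c, hc⟩ := hfin.infinite_compl.nonempty
    obtain ⟨b, rfl⟩ := IsLocalRing.residue_surjective c
    refine ⟨x + b • y, N.add_mem hxN (N.smul_mem _ hyN), fun i hi hW => hc ?_⟩
    exact Set.mem_biUnion hi ⟨b, rfl, hW⟩


/-- Let `B` be a local ring with infinite residue field, `A` a semi-local ring, `B → A` a ring map
carrying the maximal ideal of `B` into the Jacobson radical of `A`, `M` a finite free `A`-module and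
`N` a `B`-submodule of `M` generating `M` as an `A`-module. Then `N` contains a basis of `M` over
`A`. -/
theorem result {B A M : Type u} [CommRing B] [CommRing A]
    [IsLocalRing B] [Infinite (IsLocalRing.ResidueField B)] [Algebra B A]
    [Finite (MaximalSpectrum A)]
    (hBA : (IsLocalRing.maximalIdeal B).map (algebraMap B A) ≤ (⊥ : Ideal A).jacobson)
    [AddCommGroup M] [Module A M] [Module B M] [IsScalarTower B A M]
    [Module.Free A M] [Module.Finite A M]
    (N : Submodule B M) (hN : Submodule.span A (N : Set M) = ⊤) :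
    ∃ b : Module.Basis (Fin (Module.finrank A M)) A M, ∀ i, b i ∈ N := by
  classical
  rcases subsingleton_or_nontrivial A with hA | hA
  · have : Subsingleton M := Module.subsingleton A M
    refine ⟨(Module.Basis.ofRepr
      { toFun := fun _ => 0, invFun := fun _ => 0, map_add' := by simp, map_smul' := by simp,
        left_inv := fun _ => Subsingleton.elim _ _, right_inv := fun _ => Subsingleton.elim _ _ }), fun i => ?_⟩
    exact (Subsingleton.elim _ (0 : M)).symm ▸ N.zero_mem
  set r := Module.finrank A M
  set e := Module.finBasis A M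
  let _ : Fintype (MaximalSpectrum A) := Fintype.ofFinite _
  let φ : ∀ m : MaximalSpectrum A, M →ₗ[A] (Fin r → A ⧸ m.asIdeal) := fun m =>
    ((Algebra.linearMap A (A ⧸ m.asIdeal)).compLeft (Fin r)).comp e.equivFun.toLinearMap
  have hφ : ∀ m, Function.Surjective (φ m) := fun m v => by
    choose a ha using fun i => Ideal.Quotient.mk_surjective (v i)
    exact ⟨e.equivFun.symm a, funext fun i => by
      simp only [φ, LinearMap.comp_apply, LinearEquiv.coe_coe, LinearEquiv.apply_symm_apply,
        LinearMap.compLeft_apply, Function.comp_apply, Algebra.linearMap_apply,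
        Ideal.Quotient.algebraMap_eq, ha]⟩
  have step : ∀ l ≤ r, ∃ v : Fin l → M, (∀ i, v i ∈ N) ∧
      ∀ m : MaximalSpectrum A, LinearIndependent (A ⧸ m.asIdeal) fun i => φ m (v i) := by
    intro l
    induction l with
    | zero => exact fun _ => ⟨Fin.elim0, fun i => i.elim0, fun _ => linearIndependent_empty_type⟩
    | succ l ih =>
      intro hl
      obtain ⟨v, hvN, hv⟩ := ih (Nat.le_of_succ_le hl)
      let W : MaximalSpectrum A → Submodule A M := fun m =>
        ((Submodule.span (A ⧸ m.asIdeal) (Set.range fun i => φ m (v i))).restrictScalars A).comap (φ m)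
      obtain ⟨x, hxN, hx⟩ := avoid Finset.univ (fun m => (W m).restrictScalars B) N fun m _ hle => by
        let _ := Ideal.Quotient.field m.asIdeal
        have htop : W m = ⊤ := top_le_iff.mp (hN ▸ Submodule.span_le.mpr hle)
        have hS : Submodule.span (A ⧸ m.asIdeal) (Set.range fun i => φ m (v i)) = ⊤ := by
          refine Submodule.eq_top_iff'.mpr fun w => ?_
          obtain ⟨z, rfl⟩ := hφ m w
          exact (htop.ge (Submodule.mem_top (x := z)) :)
        have h1 := finrank_range_le_card (R := A ⧸ m.asIdeal) (fun i => φ m (v i))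
        rw [Set.finrank, hS, finrank_top, Module.finrank_fin_fun, Fintype.card_fin] at h1
        omega
      refine ⟨Fin.cons x v, fun i => Fin.cases hxN hvN i, fun m => ?_⟩
      let _ := Ideal.Quotient.field m.asIdeal
      have : (fun i => φ m ((Fin.cons x v : Fin (l + 1) → M) i)) =
          Fin.cons (φ m x) (fun i => φ m (v i)) := by
        funext i; refine Fin.cases ?_ ?_ i <;> simp
      rw [this, linearIndependent_finCons]
      exact ⟨hv m, hx m (Finset.mem_univ _)⟩
  obtain ⟨v, hvN, hv⟩ := step r le_rfl
  have hu : IsUnit (e.det v) := by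
    by_contra hnu
    obtain ⟨I, hI, hmem⟩ := exists_max_ideal_of_mem_nonunits hnu
    let m : MaximalSpectrum A := ⟨I, hI⟩
    let _ := Ideal.Quotient.field m.asIdeal
    have h0 : (algebraMap A (A ⧸ m.asIdeal)) (e.det v) = 0 := Ideal.Quotient.eq_zero_iff_mem.mpr hmem
    rw [Module.Basis.det_apply, RingHom.map_det, ← Matrix.det_transpose] at h0
    refine absurd h0 ?_
    rw [← Ne, ← isUnit_iff_ne_zero, ← Matrix.isUnit_iff_isUnit_det, ← Matrix.linearIndependent_rows_iff_isUnit]
    exact hv m
  obtain ⟨hli, hspan⟩ := (e.is_basis_iff_det).mpr hu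
  exact ⟨Module.Basis.mk hli hspan.ge, fun i => by rw [Module.Basis.mk_apply]; exact hvN i⟩

end Groth.Agent.S5213
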