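import Groth.Statements.S5224
import Groth.Agent.SpPts86.QuotSpace
import Groth.Agent.FlatMor66.FlatDescentSource
import Groth.Agent.Alg80.FPDescentScheme

set_option autoImplicit false
open CategoryTheory CategoryTheory.Limits AlgebraicGeometry
universe u
open GrpQ

namespace Groth.Agent.S5224

/-- For the fppf topology: let `s, t : R ⇉ U` be an equivalence relation of schemes over `S` with `s`
faithfully flat and locally of finite presentation. A morphism `q : U ⟶ Y` over `S` is a faithfully
flat, locally finitely presented quotient with kernel pair `R` if and only if `q` identifies `h_Y`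
with the fppf quotient sheaf `U/R`. -/
theorem result {S : Scheme.{u}} {R U Y : Over S} (s t : R ⟶ U)
    [IsEquivalenceRelation s t]
    [Flat s.left] [Surjective s.left] [LocallyOfFinitePresentation s.left]
    (q : U ⟶ Y) :
    (IsKernelPair q s t ∧ Flat q.left ∧ Surjective q.left ∧ LocallyOfFinitePresentation q.left) ↔
      QuotSh.IsQuotient Scheme.fppfPrecoverage s t q := by
  constructor
  · rintro ⟨hk, h1, h2, h3⟩
    exact Grpd80.isQuotient_fppf s t q (IsPullback.flip hk) ((SpFP87.fppfSurj_iff _).mpr ⟨h2, h1, h3⟩)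
  · rintro ⟨w, hq⟩
    obtain ⟨e⟩ := IsEquivalenceRelation.nonempty_equivalenceRelation (p₁ := s) (p₂ := t)
    have hEq : AlgSp.IsEqvRel s t := by
      refine ⟨fun T a b ht hs => e.right_cancellation a b hs ht, fun T => ⟨fun a => ?_, ?_, ?_⟩⟩
      · exact ⟨a ≫ e.r, by rw [Category.assoc, e.reflexivity₂, Category.comp_id],
          by rw [Category.assoc, e.reflexivity₁, Category.comp_id]⟩
      · rintro a b ⟨r, ha, hb⟩
        exact ⟨r ≫ e.s, by rw [Category.assoc, e.symmetry₂, hb], by rw [Category.assoc, e.symmetry₁, ha]⟩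
      · rintro a b d ⟨r, ha, hb⟩ ⟨r', hb', hd⟩
        obtain ⟨l, hl₁, hl₂⟩ := PullbackCone.IsLimit.lift' e.isLimit r' r (hb'.trans hb.symm)
        exact ⟨l ≫ e.t, by rw [Category.assoc, e.transitivity₂, reassoc_of% hl₂, ha],
          by rw [Category.assoc, e.transitivity₁, reassoc_of% hl₁, hd]⟩
    let iM := QuotSh.repIsoUliftYoneda Scheme.fppfPrecoverage Y
    let d := QuotSh.quotDesc Scheme.fppfPrecoverage q w ≫ iM.hom
    have hd : SpPts86.quotMap s t ≫ d = (AlgSp.yon S).map q := by
      show ((QuotSh.repIsoUliftYoneda Scheme.fppfPrecoverage U).inv ≫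
        QuotSh.quotπ Scheme.fppfPrecoverage s t) ≫ QuotSh.quotDesc Scheme.fppfPrecoverage q w ≫ iM.hom = _
      rw [Category.assoc, ← Category.assoc (QuotSh.quotπ Scheme.fppfPrecoverage s t)]
      rw [show QuotSh.quotπ Scheme.fppfPrecoverage s t ≫ QuotSh.quotDesc Scheme.fppfPrecoverage q w =
        QuotSh.repMap Scheme.fppfPrecoverage q from coequalizer.π_desc _ _]
      rw [Grpd80.repMap_comp_iso, Iso.inv_hom_id_assoc]
    have : IsIso (QuotSh.quotDesc Scheme.fppfPrecoverage q w) := hq
    have sq0 : IsPullback ((AlgSp.yon S).map t) ((AlgSp.yon S).map s) ((AlgSp.yon S).map q)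
        ((AlgSp.yon S).map q) :=
      IsPullback.of_iso (SpPts86.quotMap_kernelPair hEq) (Iso.refl _) (Iso.refl _) (Iso.refl _) (asIso d)
        (by simp) (by simp) (by simp [hd]) (by simp [hd])
    have sq : IsPullback t s q q := IsPullback.of_map (AlgSp.yon S) w.symm sq0
    refine ⟨IsPullback.flip sq, ?_⟩
    obtain ⟨W, c, l, hc, hl⟩ := SpPts86.locLift_quotMap s t Y (inv d)
    obtain ⟨l, rfl⟩ := (AlgSp.yon S).map_surjective l
    have hlc : l ≫ q = c := (AlgSp.yon S).map_injective (by
      rw [Functor.map_comp, ← hd, ← Category.assoc, hl, Category.assoc, IsIso.inv_hom_id, Category.comp_id])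
    obtain ⟨hc1, hc2, hc3⟩ := (SpFP87.fppfSurj_iff _).mp hc
    have sqL := sq.map (Over.forget S)
    have hk : IsPullback (pullback.fst l.left t.left ≫ 𝟙 _) (pullback.snd l.left t.left ≫ s.left)
        c.left q.left := by
      rw [Category.comp_id, show c.left = l.left ≫ q.left by rw [← hlc]; rfl]
      exact (IsPullback.of_hasPullback l.left t.left).paste_vert sqL
    rw [Category.comp_id] at hk
    have : Surjective (pullback.snd l.left t.left ≫ s.left) := MorphismProperty.of_isPullback hk hc1
    have : Flat (pullback.snd l.left t.left ≫ s.left) := MorphismProperty.of_isPullback hk hc2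
    have : LocallyOfFinitePresentation (pullback.snd l.left t.left ≫ s.left) :=
      MorphismProperty.of_isPullback hk hc3
    have hs' : IsPullback (pullback.fst t.left s.left) (pullback.snd t.left s.left) t.left s.left :=
      IsPullback.of_hasPullback _ _
    have ht1 : Flat t.left ∧ LocallyOfFinitePresentation t.left := by
      have hsy : IsIso e.s.left := by
        have h : e.s ≫ e.s = 𝟙 R := e.right_cancellation _ _
          (by rw [Category.assoc, e.symmetry₁, e.symmetry₂, Category.id_comp])
          (by rw [Category.assoc, e.symmetry₂, e.symmetry₁, Category.id_comp])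
        have : IsIso e.s := ⟨e.s, h, h⟩
        exact inferInstanceAs (IsIso ((Over.forget S).map e.s))
      rw [← e.symmetry₁, Over.comp_left]
      exact ⟨inferInstance, inferInstance⟩
    have := ht1.1
    have := ht1.2
    have hf : Flat (pullback.fst l.left t.left ≫ c.left) := inferInstance
    have hp : LocallyOfFinitePresentation (pullback.fst l.left t.left ≫ c.left) := inferInstance
    rw [hk.w] at hf hp
    refine ⟨FlatMor66.flat_of_comp_surjective (pullback.snd l.left t.left ≫ s.left) q.left,
      ⟨fun y => ?_⟩, Alg80.lfp_of_comp (pullback.snd l.left t.left ≫ s.left) q.left⟩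
    obtain ⟨x, hx⟩ := c.left.surjective y
    exact ⟨l.left x, by rw [← Scheme.Hom.comp_apply, ← Over.comp_left, hlc, hx]⟩

end Groth.Agent.S5224
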