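import Groth.Statements.S5226
import Groth.Agent.Topos46.SubQuot
-- import your own Groth.Agent.* helpers here

set_option autoImplicit false
open CategoryTheory CategoryTheory.Limits
universe w v₁ u₁
open ShfCat

namespace Groth.Agent.S5226

open Groth.Agent.Topos46

/-- For sheaves of sets on a site with sheafification: if `R ⇉ X` is an equivalence relation with
(universally effective) quotient `X/R` and `Y ⊆ X` is a subsheaf with induced relation `R_Y`, then
the canonical map `Y/R_Y ⟶ X/R` is a monomorphism. Here `R_Y` is built as the iterated pullback of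
`R` along `Y ⟶ X` on both sides. -/
theorem result {C : Type u₁} [Category.{v₁} C]
    (J : GrothendieckTopology C) [HasSheafify J (Type w)]
    {R X Y : Sheaf J (Type w)} {p₁ p₂ : R ⟶ X} (e : UniversallyEffectiveEquivalenceRelation p₁ p₂)
    (ι : Y ⟶ X) [Mono ι]
    [HasCoequalizer (pullback.fst (pullback.fst p₁ ι ≫ p₂) ι ≫ pullback.snd p₁ ι)
      (pullback.snd (pullback.fst p₁ ι ≫ p₂) ι)]
    (g : coequalizer (pullback.fst (pullback.fst p₁ ι ≫ p₂) ι ≫ pullback.snd p₁ ι)
      (pullback.snd (pullback.fst p₁ ι ≫ p₂) ι) ⟶ e.B)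
    (hg : coequalizer.π _ _ ≫ g = ι ≫ e.π) :
    Mono g := by
  refine ⟨fun {W} a b hab => ?_⟩
  obtain ⟨W', k, hk, y, y', hy, hy'⟩ := exists_epi_lift₂
    (coequalizer.π (pullback.fst (pullback.fst p₁ ι ≫ p₂) ι ≫ pullback.snd p₁ ι)
      (pullback.snd (pullback.fst p₁ ι ≫ p₂) ι))
    (coequalizer.π (pullback.fst (pullback.fst p₁ ι ≫ p₂) ι ≫ pullback.snd p₁ ι)
      (pullback.snd (pullback.fst p₁ ι ≫ p₂) ι)) a b
  obtain ⟨r, hr₁, hr₂⟩ := exists_rel e (x := y ≫ ι) (y := y' ≫ ι) (by
    rw [Category.assoc, Category.assoc, ← hg, reassoc_of% hy, reassoc_of% hy', hab])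
  let t : W' ⟶ pullback (pullback.fst p₁ ι ≫ p₂) ι :=
    pullback.lift (pullback.lift r y hr₁) y' (by rw [pullback.lift_fst_assoc, hr₂])
  have h := t ≫= coequalizer.condition
    (pullback.fst (pullback.fst p₁ ι ≫ p₂) ι ≫ pullback.snd p₁ ι)
    (pullback.snd (pullback.fst p₁ ι ≫ p₂) ι)
  simp only [t, Category.assoc, pullback.lift_fst_assoc, pullback.lift_snd_assoc, hy, hy'] at h
  exact (cancel_epi k).1 h

end Groth.Agent.S5226
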