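import Groth.Statements.S5228
import Groth.Agent.Comod33.AvgSplit
import Groth.Agent.S12925
-- import your own Groth.Agent.* helpers here

set_option autoImplicit false
universe w u
open HopfRep

namespace Groth.Agent.S5228

/-- Over an affine base, in comodule form: for a representation `V` of a diagonalizable group `D(M)`
over a commutative ring `k` (a `k[M]`-comodule), every sub-representation which is a direct summand
as a `k`-module is a direct summand as a representation. (The published statement: a short exact
sequence of quasi-coherent `D(M)`-modules that splits as a sequence of modules splits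
equivariantly.) -/
theorem result {k : Type u} [CommRing k] {M : Type u} [CommGroup M]
    (V : Type w) [AddCommGroup V] [Module k V] [HopfRep.Comod k (MonoidAlgebra k M) V]
    (W : Submodule k V) (hW : HopfRep.IsSubcomod (k := k) (A := MonoidAlgebra k M) W)
    (hsplit : ∃ W' : Submodule k V, IsCompl W W') :
    ∃ W'' : Submodule k V, HopfRep.IsSubcomod (k := k) (A := MonoidAlgebra k M) W'' ∧ IsCompl W W'' := by
  obtain ⟨α, hα, h1⟩ := Groth.Agent.S12925.isComodHom_coeff_one k M
  exact Comod33.Avg.exists_isCompl_of_integral α hα h1 V W hW hsplit

end Groth.Agent.S5228
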