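import Groth.Statements.S5230
import Groth.Agent.GrpQ80.QuasiPoint

set_option autoImplicit false
open CategoryTheory CategoryTheory.Limits AlgebraicGeometry
universe u
open GrpQ

namespace Groth.Agent.S5230

/-- Let `T` be affine Noetherian, `X, Y, Z` of finite type over `T` with `X` quasi-projective over `T`,
`u : Y ⟶ X` and `v : Y ⟶ Z` morphisms over `T`, and `z ∈ v(Y)` a point closed in its fibre over `T`
at whose preimages `v` is flat. Then some closed subscheme `F ⊆ X` has `u(u⁻¹(F) ∩ v⁻¹(z))` finite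
and nonempty, with `v` restricted to `u⁻¹(F)` flat at the points over `z`. -/
theorem result {T X Y Z : Scheme.{u}} [IsAffine T] [IsNoetherian T]
    (pX : X ⟶ T) (pY : Y ⟶ T) (pZ : Z ⟶ T)
    [LocallyOfFiniteType pY] [QuasiCompact pY] [LocallyOfFiniteType pZ] [QuasiCompact pZ]
    (hX : RelProj.IsQuasiProjective pX)
    (u : Y ⟶ X) (v : Y ⟶ Z) (hu : u ≫ pX = pY) (hv : v ≫ pZ = pY)
    (z : Z) (hz : z ∈ Set.range v.base)
    (hzc : ∀ z' : Z, z' ∈ closure ({z} : Set Z) → pZ.base z' = pZ.base z → z' = z)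
    (hflat : ∀ y : Y, v.base y = z → (v.stalkMap y).hom.Flat) :
    ∃ (F : Scheme.{u}) (i : F ⟶ X), IsClosedImmersion i ∧
      (u.base '' ((u.base ⁻¹' Set.range i.base) ∩ v.base ⁻¹' {z})).Finite ∧
      (u.base '' ((u.base ⁻¹' Set.range i.base) ∩ v.base ⁻¹' {z})).Nonempty ∧
      ∀ y' : ↥(pullback i u), v.base ((pullback.snd i u).base y') = z →
        ((pullback.snd i u ≫ v).stalkMap y').hom.Flat := by
  have hpX : LocallyOfFiniteType pX := hX.1
  have : QuasiCompact pX := hX.2.1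
  obtain ⟨L, hL⟩ := hX.2.2
  have hzc' : closure ({z} : Set Z) ∩ pZ ⁻¹' {pZ z} = {z} :=
    Set.eq_singleton_iff_unique_mem.2 ⟨⟨subset_closure rfl, rfl⟩, fun z' h => hzc z' h.1 h.2⟩
  let e := pullback.snd (𝟙 X) u
  obtain ⟨y₀, hy₀⟩ := hz
  obtain ⟨F, i, hi, hfin, hne, hfl⟩ := GrpQ80.QuasiPoint.exists_cut_fibre pX pY pZ L
    ((Amp73.isRelAmple_iff_isAmple pX).1 hL) u v hu hv z hzc'
    ⟨Set.univ, isClosed_univ⟩ X (𝟙 X) (by simp) ⟨inv e y₀, by
      rw [← Scheme.Hom.comp_apply, IsIso.inv_hom_id_assoc]; exact hy₀⟩ fun y hy =>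
      (Unr55.stalkMap_iff_of_square RingHom.Flat.respectsIso v (e ≫ v) e (𝟙 Z) (by simp) y).1
        (hflat _ (by rw [← Scheme.Hom.comp_apply]; exact hy))
  have hset : u.base '' ((u.base ⁻¹' Set.range i.base) ∩ v.base ⁻¹' {z}) =
      (fun y : ↥(pullback i u) => i (pullback.fst i u y)) '' {y | (pullback.snd i u ≫ v) y = z} := by
    ext x
    constructor
    · rintro ⟨y, ⟨⟨a, ha⟩, hy⟩, rfl⟩
      obtain ⟨p, hp₁, hp₂⟩ := Scheme.Pullback.exists_preimage_pullback (f := i) (g := u) a y ha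
      exact ⟨p, by rw [Set.mem_setOf_eq, Scheme.Hom.comp_apply, hp₂]; exact hy, by
        show i _ = _; rw [hp₁]; exact ha⟩
    · rintro ⟨p, hp, rfl⟩
      have h : u (pullback.snd i u p) = i (pullback.fst i u p) := by
        rw [← Scheme.Hom.comp_apply, ← pullback.condition]; rfl
      exact ⟨pullback.snd i u p, ⟨⟨_, h.symm⟩, hp⟩, h⟩
  refine ⟨F, i, hi, hset ▸ hfin, ?_, fun y hy => hfl y hy⟩
  rw [hset]
  obtain ⟨p, hp⟩ := hne
  exact ⟨_, p, hp, rfl⟩

end Groth.Agent.S5230
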