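import Groth.Statements.S5231
import Mathlib.CategoryTheory.Limits.FunctorCategory.EpiMono
-- import your own Groth.Agent.* helpers here

set_option autoImplicit false
open CategoryTheory
universe w v₁ u₁
open ShfCat

namespace Groth.Agent.S5231



/-- (iii) ⇒ (i): a morphism `f` of sheaves of sets on a site is a monomorphism (resp. an epimorphism) as
soon as, for every object `S`, the morphisms `T ⟶ S` over which the restriction of `f` to the
induced site `C/T` is a monomorphism (resp. an epimorphism) form a covering sieve. No sheafification
is assumed. (The published statement also treats isomorphisms in the same way; that case is left out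
here.) -/
theorem result {C : Type u₁} [Category.{v₁} C]
    (J : GrothendieckTopology C) {F G : Sheaf J (Type w)} (f : F ⟶ G) :
    ((∀ S : C, ∃ R : Sieve S, R ∈ J S ∧ ∀ ⦃T : C⦄ (g : T ⟶ S), R g →
        Mono ((J.overPullback (Type w) T).map f)) → Mono f) ∧
    ((∀ S : C, ∃ R : Sieve S, R ∈ J S ∧ ∀ ⦃T : C⦄ (g : T ⟶ S), R g →
        Epi ((J.overPullback (Type w) T).map f)) → Epi f) := by
  constructor
  · intro h
    refine (sheafToPresheaf J (Type w)).mono_of_mono_map
      ((NatTrans.mono_iff_mono_app _).2 fun ⟨S⟩ => ?_)
    rw [mono_iff_injective]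
    intro s t hst
    obtain ⟨R, hR, hm⟩ := h S
    refine (((isSheaf_iff_isSheaf_of_type _ _).1 F.property).isSeparated R hR).ext fun T g hg => ?_
    have := hm g hg
    have hinj := (mono_iff_injective _).1 ((NatTrans.mono_iff_mono_app _).1
      (inferInstance : Mono ((sheafToPresheaf (J.over T) (Type w)).map
        ((J.overPullback (Type w) T).map f))) (Opposite.op (Over.mk (𝟙 T))))
    refine hinj ?_
    change f.hom.app _ (F.obj.map g.op s) = f.hom.app _ (F.obj.map g.op t)
    rw [f.hom.naturality_apply, f.hom.naturality_apply]
    exact congrArg _ hst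
  · intro h
    refine ⟨fun {H} a b hab => ?_⟩
    ext ⟨S⟩ s
    obtain ⟨R, hR, he⟩ := h S
    refine (((isSheaf_iff_isSheaf_of_type _ _).1 H.property).isSeparated R hR).ext fun T g hg => ?_
    have := he g hg
    have e := (cancel_epi ((J.overPullback (Type w) T).map f)).1
      (by rw [← Functor.map_comp, ← Functor.map_comp, hab] :
        (J.overPullback (Type w) T).map f ≫ (J.overPullback (Type w) T).map a =
          (J.overPullback (Type w) T).map f ≫ (J.overPullback (Type w) T).map b)
    have e' : a.hom.app (Opposite.op T) = b.hom.app (Opposite.op T) :=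
      congr_app (congrArg (fun q => q.hom) e) (Opposite.op (Over.mk (𝟙 T)))
    change H.obj.map g.op (a.hom.app _ s) = H.obj.map g.op (b.hom.app _ s)
    rw [← a.hom.naturality_apply, ← b.hom.naturality_apply]
    exact ConcreteCategory.congr_hom e' _

end Groth.Agent.S5231
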