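import Groth.Statements.S5232
import Groth.Agent.SpPts86.ImmDescent
import Groth.Agent.Grpd80.QuotSheaf

set_option autoImplicit false
open CategoryTheory CategoryTheory.Limits AlgebraicGeometry
universe u
open GrpQ

namespace Groth.Agent.S5232

/-- On the big fppf site of a scheme `S`, in the case where the local representing objects are affine
over the cover (so that the canonical descent datum is effective): if `Z` is an fppf sheaf over `S`
and, for an fppf cover `S' ⟶ S`, the sheaf `Z ×_S S'` is represented over `S'` by a scheme affine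
over `S'`, then `Z` is represented by a scheme affine over `S`. -/
theorem result {S S' : Scheme.{u}} (f : S' ⟶ S)
    [Flat f] [Surjective f] [LocallyOfFinitePresentation f]
    (Z : QuotSh.Sh Scheme.fppfPrecoverage S)
    (T' : Over S) (a : T' ⟶ Over.mk f) [IsAffineHom a.left]
    (φ : QuotSh.rep Scheme.fppfPrecoverage T' ≅ Z ⨯ QuotSh.rep Scheme.fppfPrecoverage (Over.mk f))
    (hφ : φ.hom ≫ prod.snd = QuotSh.repMap Scheme.fppfPrecoverage a) :
    ∃ T : Over S, IsAffineHom T.hom ∧ Nonempty (QuotSh.rep Scheme.fppfPrecoverage T ≅ Z) := by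
  let o : Over S := Over.mk (𝟙 S)
  let G := (AlgSp.yon S).obj o
  let ho : IsTerminal o := Over.mkIdTerminal
  have hG : IsTerminal G := IsTerminal.isTerminalObj (AlgSp.yon S) o ho
  let g : (AlgSp.yon S).obj (Over.mk f) ⟶ G := (AlgSp.yon S).map (ho.from _)
  let aZ : Z ⟶ G := hG.from Z
  have hlift : Groth.Agent.SpFP87.LocLift g := by
    intro T x
    obtain ⟨x, rfl⟩ := (AlgSp.yon S).map_surjective x
    have hq : Groth.Agent.SpFP87.fppfSurj (ho.from (Over.mk f)).left := by
      have h : (ho.from (Over.mk f)).left = f := by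
        simpa [o] using Over.w (ho.from (Over.mk f))
      rw [h]
      exact (Groth.Agent.SpFP87.fppfSurj_iff _).mpr ⟨inferInstance, inferInstance, inferInstance⟩
    refine ⟨_, pullback.fst x (ho.from (Over.mk f)),
      (AlgSp.yon S).map (pullback.snd x (ho.from (Over.mk f))),
      MorphismProperty.of_isPullback (P := Groth.Agent.SpFP87.fppfSurj)
        ((IsPullback.of_hasPullback x (ho.from (Over.mk f))).map (Over.forget S)).flip hq, ?_⟩
    rw [← Functor.map_comp, ← Functor.map_comp, pullback.condition]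
  let iT := QuotSh.repIsoUliftYoneda Scheme.fppfPrecoverage T'
  let iS := QuotSh.repIsoUliftYoneda Scheme.fppfPrecoverage (Over.mk f)
  let φ' : (AlgSp.yon S).obj T' ≅ Z ⨯ (AlgSp.yon S).obj (Over.mk f) :=
    iT.symm ≪≫ φ ≪≫ prod.mapIso (Iso.refl Z) iS
  have hsnd : φ'.hom ≫ prod.snd = (AlgSp.yon S).map a := by
    have h1 := Groth.Agent.Grpd80.repMap_comp_iso a
    rw [← hφ] at h1
    simp only [φ', Iso.trans_hom, Iso.symm_hom, prod.mapIso_hom, Category.assoc, prod.map_snd]
    rw [← cancel_epi iT.hom, Iso.hom_inv_id_assoc]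
    simpa [iT, iS] using h1
  have sq : IsPullback (φ'.hom ≫ prod.fst) ((AlgSp.yon S).map a) aZ g := by
    refine IsPullback.of_iso (IsPullback.of_is_product
      (c := BinaryFan.mk (prod.fst : Z ⨯ (AlgSp.yon S).obj (Over.mk f) ⟶ Z) prod.snd)
      (prodIsProd _ _) hG) φ'.symm (Iso.refl _) (Iso.refl _) (Iso.refl _)
      ?_ ?_ (hG.hom_ext _ _) (hG.hom_ext _ _)
    · simp
    · simp [← hsnd]
  have hrep := Groth.Agent.SpPts86.repWith_isAffineHom_of_cover hlift sq
  let V := hrep.rep.pullback (𝟙 G)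
  have hV := hrep.rep.isPullback (𝟙 G)
  have hVa : IsAffineHom (hrep.rep.snd (𝟙 G)).left := hrep.property_snd _
  have : IsIso (hrep.rep.fst (𝟙 G)) := hV.isIso_fst_of_isIso
  refine ⟨V, ?_, ⟨QuotSh.repIsoUliftYoneda Scheme.fppfPrecoverage V ≪≫ asIso (hrep.rep.fst (𝟙 G))⟩⟩
  have hw : (hrep.rep.snd (𝟙 G)).left = V.hom := by
    simpa [o] using Over.w (hrep.rep.snd (𝟙 G))
  rw [← hw]
  exact hVa

end Groth.Agent.S5232
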