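import Groth.Statements.S5233
import Groth.Agent.Grpd80.SubDescent

set_option autoImplicit false
open CategoryTheory CategoryTheory.Limits AlgebraicGeometry
universe u
open GrpQ

namespace Groth.Agent.S5233

/-- For schemes, with (M) the faithfully flat quasi-compact morphisms and (N) the closed immersions: if
`π : X ⟶ X'` is flat, surjective and quasi-compact (so `X' = X/R` for its kernel pair `R ⇉ X`), then
`Y' ↦ π⁻¹(Y')` is a bijection from closed subschemes of `X'` onto the closed subschemes of `X`
stable under `R`. -/
theorem result {X X' : Scheme.{u}} (π : X ⟶ X')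
    [Flat π] [Surjective π] [QuasiCompact π] :
    Set.BijOn (Subobject.pullback π).obj
      {Y' : Subobject X' | IsClosedImmersion Y'.arrow}
      {Y : Subobject X | IsClosedImmersion Y.arrow ∧
        (Subobject.pullback (pullback.fst π π)).obj Y = (Subobject.pullback (pullback.snd π π)).obj Y} := by
  have := Unr55.isClosedImmersion.{u}
  exact Grpd80.bijOn_pullback π @IsClosedImmersion (fun f h => inferInstance)
    (fun f h => Grpd80.isIndQuasiAffineHom_of_lqf f)

end Groth.Agent.S5233
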