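import Groth.Statements.S5234
import Groth.Agent.SpPts86.Props

set_option autoImplicit false
open CategoryTheory CategoryTheory.Limits AlgebraicGeometry MonoidalCategory
universe u
open RedSub

namespace Groth.Agent.S5234

open CartesianMonoidalCategory SemiCartesianMonoidalCategory in
/-- (ii) ⇔ (iii), for schemes with the fppf topology: let `G` be an `S`-group scheme which is faithfully
flat and locally of finite presentation over `S`, acting on `X` so that `X` is formally principal
homogeneous. Then `X` is a torsor (its structure map is faithfully flat and locally of finite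
presentation) if and only if `X` has a point over some faithfully flat, locally finitely presented
`S' ⟶ S`. -/
theorem result {S : Scheme.{u}} {G X : Over S} [GrpObj G]
    (a : AlgGrp.Action G X)
    [Flat G.hom] [Surjective G.hom] [LocallyOfFinitePresentation G.hom]
    (hX : IsIso (lift a.act (snd G X))) :
    RedSub.IsTorsor a ↔
      ∃ S' : Over S, Surjective S'.hom ∧ Flat S'.hom ∧ LocallyOfFinitePresentation S'.hom ∧
        Nonempty (S' ⟶ X) := by
  constructor
  · rintro ⟨h1, h2, h3, _⟩
    exact ⟨X, h1, h2, h3, ⟨𝟙 X⟩⟩
  · rintro ⟨S', s1, s2, s3, ⟨p⟩⟩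
    haveI := hX
    set hh := lift a.act (snd G X) with hhdef
    let e : G ⊗ S' ⟶ X ⊗ S' := lift ((G ◁ p) ≫ a.act) (snd G S')
    let e' : X ⊗ S' ⟶ G ⊗ S' :=
      lift (lift (fst X S') (snd X S' ≫ p) ≫ inv hh ≫ fst G X) (snd X S')
    have h1 : e ≫ e' = 𝟙 _ := by
      apply CartesianMonoidalCategory.hom_ext
      · have k : lift (e ≫ fst X S') (e ≫ snd X S' ≫ p) = (G ◁ p) ≫ hh := by
          apply CartesianMonoidalCategory.hom_ext <;> simp [e, hhdef]
        simp only [e', Category.assoc, lift_fst, Category.id_comp]
        rw [← Category.assoc, comp_lift, k, Category.assoc, IsIso.hom_inv_id_assoc]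
        simp
      · simp [e, e']
    have h2 : e' ≫ e = 𝟙 _ := by
      apply CartesianMonoidalCategory.hom_ext
      · have k : e' ≫ (G ◁ p) = lift (fst X S') (snd X S' ≫ p) ≫ inv hh := by
          apply CartesianMonoidalCategory.hom_ext
          · simp [e']
          · have q : inv hh ≫ snd G X = snd X X := by
              rw [IsIso.inv_comp_eq]; simp [hhdef]
            simp [e', q]
        have q : inv hh ≫ a.act = fst X X := by
          rw [IsIso.inv_comp_eq]; simp [hhdef]
        simp only [e, Category.assoc, lift_fst, Category.id_comp]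
        rw [← Category.assoc, k, Category.assoc, q, lift_fst]
      · simp [e, e']
    have : IsIso e := ⟨e', h1, h2⟩
    have : IsIso e.left := inferInstanceAs (IsIso ((Over.forget S).map e))
    have hsq : e.left ≫ pullback.snd X.hom S'.hom = pullback.snd G.hom S'.hom := by
      have hc := congrArg CommaMorphism.left (lift_snd ((G ◁ p) ≫ a.act) (snd G S'))
      exact hc
    have key : ∀ (P : MorphismProperty Scheme.{u}) [P.RespectsIso] [P.IsStableUnderBaseChange],
        P.DescendsAlong Groth.Agent.SpFP87.fppfSurj → P G.hom → P X.hom := by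
      intro P _ _ hP hG
      refine MorphismProperty.of_pullback_snd_of_descendsAlong (Q := Groth.Agent.SpFP87.fppfSurj)
        (g := S'.hom) ?_ ?_
      · exact ⟨⟨s1, s2⟩, s3⟩
      · rw [← P.cancel_left_of_respectsIso e.left (pullback.snd X.hom S'.hom)]
        rw [hsq]; exact P.pullback_snd _ _ hG
    refine ⟨?_, key _ SpPts86.flat_descends ‹_›, key _ SpPts86.lfp_descends ‹_›, hX⟩
    haveI : Surjective (p.left ≫ X.hom) := by rw [Over.w p]; exact s1
    exact Surjective.of_comp p.left X.hom

end Groth.Agent.S5234
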