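import Groth.Statements.S5249
import Groth.Agent.RedPts82.OpenClosed
-- import your own Groth.Agent.* helpers here

set_option autoImplicit false
open CategoryTheory MonoidalCategory CartesianMonoidalCategory MonObj GrpObj AlgebraicGeometry
universe u
open SGA3x

namespace Groth.Agent.S5249

/-- Let G be an S-group smooth and affine over S, i : H ⟶ G a subgroup scheme of multiplicative type (H
of multiplicative type and of finite type), j : Z ⟶ G the centralizer and k : N ⟶ G the normalizer
of H in G. Then Z ⟶ G factors through N by a morphism which is an open and closed immersion: the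
centralizer is an open and closed subgroup scheme of the normalizer. -/
theorem result {S : Scheme.{u}} (H G Z N : Over S) [GrpObj H] [GrpObj G] [GrpObj Z] [GrpObj N]
    (hH : SGA3x.IsMultTypeFT H) (hG : Smooth G.hom) (hGa : IsAffineHom G.hom) (i : H ⟶ G) [IsMonHom i] [Mono i]
    (j : Z ⟶ G) (k : N ⟶ G) (hj : Red.IsCentralizerOf i j) (hk : Red.IsNormalizerOf i k) :
    ∃ f : Z ⟶ N, f ≫ k = j ∧ IsOpenImmersion f.left ∧ IsClosedImmersion f.left := by
  have hH' := RedPts82.isMultType_of_isMultTypeFT hH
  obtain ⟨Z', _, j', ⟨hj'h, hj'm, hj'⟩, hc, hsm⟩ := RedPts82.exists_smooth_centralizer hH' i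
  obtain ⟨hjh, hjm, hjp⟩ := hj
  obtain ⟨hkh, hkm, hkp⟩ := hk
  -- the given centralizer is the closed one
  obtain ⟨a, ha⟩ := (hj' Z j).mpr ((hjp Z j).mp ⟨𝟙 _, Category.id_comp _⟩)
  obtain ⟨b, hb⟩ := (hjp Z' j').mpr ((hj' Z' j').mp ⟨𝟙 _, Category.id_comp _⟩)
  haveI : IsIso a := ⟨b, by rw [← cancel_mono j, Category.assoc, hb, ha, Category.id_comp],
    by rw [← cancel_mono j', Category.assoc, ha, hb, Category.id_comp]⟩
  haveI : IsIso a.left := inferInstanceAs (IsIso ((Over.forget S).map a))
  haveI : IsClosedImmersion j.left := by rw [← ha, Over.comp_left]; infer_instance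
  haveI : LocallyOfFinitePresentation j.left := by
    haveI : LocallyOfFinitePresentation Z.hom := by rw [← Over.w a]; infer_instance
    haveI : LocallyOfFinitePresentation (j.left ≫ G.hom) := by rw [Over.w j]; infer_instance
    exact Groth.Agent.LimDesc62.lfp_of_comp j.left G.hom
  obtain ⟨f, hf⟩ := (hkp Z j).mpr fun X' x h => by
    have e := (hjp Z j).mp ⟨𝟙 _, Category.id_comp _⟩ X' x h
    exact ⟨⟨h, mul_inv_eq_iff_eq_mul.mpr e⟩, h, by rw [_root_.mul_assoc, ← e, inv_mul_cancel_left]⟩
  haveI : IsClosedImmersion f.left := by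
    haveI : IsClosedImmersion (f.left ≫ k.left) := by
      rw [← Over.comp_left, hf]; infer_instance
    haveI : IsSeparated k.left := by
      haveI : Mono k := hkm
      haveI : Mono k.left := (Over.forget S).map_mono k
      infer_instance
    exact IsClosedImmersion.of_comp f.left k.left
  haveI : LocallyOfFinitePresentation f.left := by
    haveI : Mono k.left := (Over.forget S).map_mono k
    have hsq : Limits.pullback.snd j.left k.left = (Limits.pullback.fst j.left k.left) ≫ f.left := by
      rw [← cancel_mono k.left, Category.assoc, ← Over.comp_left, hf, Limits.pullback.condition]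
    let l : Z.left ⟶ Limits.pullback j.left k.left := Limits.pullback.lift (𝟙 _) f.left (by
      rw [Category.id_comp, ← Over.comp_left, hf])
    haveI : IsIso l := ⟨Limits.pullback.fst _ _, Limits.pullback.lift_fst _ _ _, by
      apply Limits.pullback.hom_ext
      · rw [Category.assoc, Limits.pullback.lift_fst, Category.comp_id, Category.id_comp]
      · rw [Category.assoc, Limits.pullback.lift_snd, Category.id_comp, hsq]⟩
    haveI : LocallyOfFinitePresentation (Limits.pullback.snd j.left k.left) :=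
      MorphismProperty.pullback_snd (P := @LocallyOfFinitePresentation) _ _ ‹_›
    rw [← Limits.pullback.lift_snd (f := j.left) (g := k.left) (𝟙 _) f.left (by
      rw [Category.id_comp, ← Over.comp_left, hf])]
    show LocallyOfFinitePresentation (l ≫ _)
    infer_instance
  refine ⟨f, hf, RedPts82.isOpenImmersion_of_lifts f fun T _ J hJ g ⟨z, hz⟩ => ?_, ‹_›⟩
  suffices hc : ∃ w, w ≫ j = g ≫ k by
    obtain ⟨w, hw⟩ := hc
    exact ⟨w, by rw [← cancel_mono k, Category.assoc, hf, hw]⟩
  refine (hjp T (g ≫ k)).mpr fun X' x h => ?_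
  have hn := (hkp T (g ≫ k)).mp ⟨g, rfl⟩
  have h0 := (hjp _ (RedPts82.redMap T J ≫ g ≫ k)).mp
    ⟨z, by rw [← hf, reassoc_of% hz]⟩
  obtain ⟨S', p, hp, hs, hqc, hloc⟩ := hH'
  choose U₀ hU₀ M hM he using hloc
  choose W hW hsW hWU using fun s' => exists_isAffineOpen_mem_and_subset (hU₀ s')
  refine RedPts82.hom_ext_of_cover p W hsW _ _ fun s' Y _ y => ?_
  obtain ⟨e⟩ := he s'
  haveI : IsAffine (W s' : Scheme.{u}) := hW s'
  let φ : (W s' : Scheme.{u}) ⟶ S := (W s').ι ≫ p
  obtain ⟨c, hc, hcm, hsurj⟩ := RedPts82.exists_ds_cover_mono (S'.homOfLE (hWU s'))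
    ((U₀ s').ι ≫ p) φ (by simp [φ]) e
  haveI : Mono ((Over.pullback φ).map i) := inferInstance
  obtain ⟨t, ht⟩ := hsurj Y (RedPts82.ofBase φ (y ≫ h))
  obtain ⟨v, hv⟩ := RedPts82.exists_red_map φ (y ≫ x) J
  have hJ' : J.map (y ≫ x).left.appTop.hom * J.map (y ≫ x).left.appTop.hom = ⊥ := by
    rw [← Ideal.map_mul, hJ, Ideal.map_bot]
  have h1 := RedPts82.rigid_centralizer (c ≫ (Over.pullback φ).map i) hJ'
    (RedPts82.ofBase φ ((y ≫ x) ≫ g ≫ k)) (fun Y' m t' => by
      obtain ⟨⟨h', e'⟩, -⟩ := hn _ ((Over.map φ).map m ≫ y ≫ x) (RedPts82.toBase φ (t' ≫ c))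
      obtain ⟨t'', ht''⟩ := hsurj Y' (RedPts82.ofBase φ h')
      refine ⟨t'', RedPts82.toBase_injective φ ?_⟩
      simp only [← Category.assoc, RedPts82.toBase_mul, RedPts82.toBase_inv,
        RedPts82.toBase_comp_map]
      rw [RedPts82.toBase_comp φ m, RedPts82.toBase_ofBase, ht'', RedPts82.toBase_ofBase]
      simp only [Category.assoc] at e' ⊢
      exact e') (fun Y' m t' => by
      have e' := h0 _ ((Over.map φ).map m ≫ v) (RedPts82.toBase φ (t' ≫ c))
      apply RedPts82.toBase_injective φ
      simp only [← Category.assoc, RedPts82.toBase_mul, RedPts82.toBase_comp_map]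
      rw [RedPts82.toBase_comp φ, RedPts82.toBase_ofBase]
      simp only [Functor.map_comp, Category.assoc, reassoc_of% hv] at e' ⊢
      exact e') (𝟙 Y) t
  have h2 := congrArg (RedPts82.toBase φ) h1
  simp only [← Category.assoc, RedPts82.toBase_mul, RedPts82.toBase_comp_map, ht,
    RedPts82.toBase_ofBase, Category.id_comp] at h2
  simp only [MonObj.comp_mul, Category.assoc] at h2 ⊢
  exact h2

end Groth.Agent.S5249
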