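import Groth.Statements.S5255
import Groth.Agent.RedPts82.CentralNormal
import Groth.Agent.RedPts82.Transporter
-- import your own Groth.Agent.* helpers here

set_option autoImplicit false
open CategoryTheory MonoidalCategory CartesianMonoidalCategory MonObj GrpObj AlgebraicGeometry
universe u
open SGA3x

namespace Groth.Agent.S5255

/-- Let K be an S-group locally of finite type over S whose fibres are connected, and i : H ⟶ K a
subgroup scheme of multiplicative type and of finite type which is normal in K. Then H is central in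
K: for every S-scheme X, every X-point of K commutes with (the image of) every X-point of H. -/
theorem result {S : Scheme.{u}} (K H : Over S) [GrpObj K] [GrpObj H]
    [LocallyOfFiniteType K.hom] (hconn : ∀ s : S, ConnectedSpace ↥(Limits.pullback K.hom (S.fromSpecResidueField s)))
    (i : H ⟶ K) [IsMonHom i] [Mono i] (hH : SGA3x.IsMultTypeFT H) (hn : AlgGrp.IsNormalHom i) :
    ∀ (X : Over S) (k : X ⟶ K) (h : X ⟶ H), k * (h ≫ i) = (h ≫ i) * k := by
  have hH' := RedPts82.isMultType_of_isMultTypeFT hH
  haveI := RedPts82.isMultType_isAffineHom hH'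
  haveI : LocallyOfFinitePresentation H.hom := by
    haveI : MorphismProperty.DescendsAlong (@LocallyOfFinitePresentation : MorphismProperty Scheme.{u})
        Unr55.fpqc.{u} := by
      unfold Unr55.fpqc; infer_instance
    exact RedPts82.isMultTypeFT_prop (@LocallyOfFinitePresentation) hH
      fun U M _ hM => RedPts82.lfp_DS_of_fg U M hM
  haveI := SGA3a.isClosedImmersion_diag H
  obtain ⟨θ, hθ⟩ := hn (K ⊗ H) (fst K H) (snd K H)
  have hθ' : ∀ {X : Over S} (k : X ⟶ K) (h : X ⟶ H),
      (lift k h ≫ θ) ≫ i = k * (h ≫ i) * k⁻¹ := fun k h => by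
    rw [Category.assoc, ← hθ]
    simp only [MonObj.comp_mul, GrpObj.comp_inv, lift_fst, lift_snd_assoc]
  -- the centralizer
  obtain ⟨C, c, hc, hC, hfp⟩ := RedPts82.exists_transporter_fp
    (RedPts82.isEssentiallyFree_of_isMultType hH') (lift θ (snd K H)) (lift (𝟙 H) (𝟙 H))
  have hC' : ∀ (X : Over S) (g : X ⟶ K), (∃ z : X ⟶ C, z ≫ c = g) ↔
      ∀ (X' : Over S) (x : X' ⟶ X) (h : X' ⟶ H), (x ≫ g) * (h ≫ i) = (h ≫ i) * (x ≫ g) := by
    intro X g
    refine (hC X g).trans (forall_congr' fun X' => forall_congr' fun x => forall_congr' fun a => ?_)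
    simp only [comp_lift, Category.comp_id, lift_snd]
    constructor
    · rintro ⟨w, hw⟩
      have e1 := congrArg (· ≫ fst H H) hw
      have e2 := congrArg (· ≫ snd H H) hw
      simp only [lift_fst, lift_snd] at e1 e2
      rw [← mul_inv_eq_iff_eq_mul, ← hθ', e1, ← e2]
    · intro e
      refine ⟨a, ?_⟩
      have : lift (x ≫ g) a ≫ θ = a := by
        rw [← cancel_mono i, hθ', mul_inv_eq_iff_eq_mul]
        exact e
      rw [this]
  haveI : LocallyOfFinitePresentation c.left := by
    refine hfp inferInstance ?_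
    rw [Over.lift_left]
    show LocallyOfFinitePresentation (Limits.pullback.diagonal H.hom)
    haveI : LocallyOfFinitePresentation
        (Limits.pullback.diagonal H.hom ≫ Limits.pullback.fst H.hom H.hom) := by
      rw [Limits.pullback.diagonal_fst]; infer_instance
    exact LimDesc62.lfp_of_comp _ (Limits.pullback.fst H.hom H.hom)
  haveI : IsOpenImmersion c.left := RedPts82.isOpenImmersion_of_lifts c fun T _ J hJ g ⟨z, hz⟩ =>
    (hC' T g).mpr fun X' x h => RedPts82.centralizes_of_congr hH' i hJ g
      (fun Z z' t => hn Z (z' ≫ g) t)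
      (fun Z z' t => (hC' _ _).mp ⟨z, hz⟩ Z z' t) x h
  -- the fibres are connected
  haveI : Surjective c.left := ⟨fun x => by
    let s := K.hom x
    let R : Over S := Over.mk (S.fromSpecResidueField s)
    obtain ⟨z₀, hz₀⟩ := (hC' R 1).mpr fun X' x h => by simp
    let e : Spec (S.residueField s) ⟶ Limits.pullback K.hom (S.fromSpecResidueField s) :=
      Limits.pullback.lift (1 : R ⟶ K).left (𝟙 _) (by rw [Category.id_comp]; exact Over.w (1 : R ⟶ K))
    let p : Limits.pullback K.hom (S.fromSpecResidueField s) ⟶ K.left := Limits.pullback.fst _ _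
    have hclopen : IsClopen (p.base ⁻¹' Set.range c.left.base) :=
      ⟨c.left.isClosedEmbedding.isClosed_range.preimage p.continuous,
        c.left.isOpenEmbedding.isOpen_range.preimage p.continuous⟩
    haveI := hconn s
    rcases isClopen_iff.mp hclopen with h | h
    · refine absurd h (Set.nonempty_iff_ne_empty.mp ⟨e (IsLocalRing.closedPoint _), ?_⟩)
      refine ⟨z₀.left (IsLocalRing.closedPoint _), ?_⟩
      show c.left (z₀.left _) = p (e _)
      rw [← Scheme.Hom.comp_apply, ← Scheme.Hom.comp_apply, Limits.pullback.lift_fst, ← Over.comp_left,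
        hz₀]
    · obtain ⟨y, hy, -⟩ := Scheme.Pullback.exists_preimage_pullback (f := K.hom)
        (g := S.fromSpecResidueField s) x (IsLocalRing.closedPoint _)
        (S.fromSpecResidueField_apply s (IsLocalRing.closedPoint _)).symm
      obtain ⟨w, hw⟩ : y ∈ p.base ⁻¹' Set.range c.left.base := h ▸ Set.mem_univ y
      exact ⟨w, hw.trans hy⟩⟩
  haveI : IsIso c.left := (isIso_iff_isOpenImmersion_and_surjective c.left).mpr ⟨‹_›, ‹_›⟩
  haveI : IsIso c := by
    haveI : IsIso ((Over.forget S).map c) := ‹IsIso c.left›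
    exact isIso_of_reflects_iso c (Over.forget S)
  intro X k h
  have := (hC' K (𝟙 K)).mp ⟨inv c, IsIso.inv_hom_id c⟩ X k h
  rwa [Category.comp_id] at this

end Groth.Agent.S5255
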