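import Groth.Statements.S5256
import Groth.Agent.RedPts82.TrivialLocal

set_option autoImplicit false
open CategoryTheory MonoidalCategory CartesianMonoidalCategory MonObj GrpObj AlgebraicGeometry
universe u
open SGA3x

namespace Groth.Agent.S5256

/-- Let u : H ⟶ G be a homomorphism of S-groups, with H of multiplicative type and of finite type and G
of finite presentation over S (locally of finite presentation, quasi-compact and quasi-separated).
If for every s ∈ S the homomorphism u_s : H_s ⟶ G_s induced on the fibres at s is central (every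
point of G_s commutes with the image of every point of H_s), then u is central. -/
theorem result {S : Scheme.{u}} (H G : Over S) [GrpObj H] [GrpObj G]
    (hH : SGA3x.IsMultTypeFT H) [LocallyOfFinitePresentation G.hom] [QuasiCompact G.hom] [QuasiSeparated G.hom]
    (u : H ⟶ G) [IsMonHom u]
    (hfib : ∀ (s : S) (X : Over (Spec (S.residueField s))) (g : X ⟶ Red.bc (S.fromSpecResidueField s) G)
      (h : X ⟶ Red.bc (S.fromSpecResidueField s) H),
      g * (h ≫ (Over.pullback (S.fromSpecResidueField s)).map u) = (h ≫ (Over.pullback (S.fromSpecResidueField s)).map u) * g) :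
    ∀ (X : Over S) (g : X ⟶ G) (h : X ⟶ H), g * (h ≫ u) = (h ≫ u) * g := by
  obtain ⟨S', f, hf, hs, hqc, hloc⟩ := hH
  have hloc' : TwC.Locally S TwC.Topology.fpqc (fun S' f => ∃ (M : Type) (_ : AddCommGroup M),
      Nonempty (Grp.mk (Red.bc f H) ≅ Grp.mk (Red.DS S' M))) := by
    refine ⟨S', f, hf, hs, hqc, fun s' => ?_⟩
    obtain ⟨U, hU, M, hM, -, e⟩ := hloc s'
    exact ⟨U, hU, M, hM, e⟩
  intro X g h
  refine (((RedPts82.conjAct_eq_iff u h g).mp ?_)).symm
  refine RedPts82.trivial_of_locally hloc' (RedPts82.conjAct u) (RedPts82.conjAct_assoc u)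
    (RedPts82.conjAct_one u) (fun _ => ⊤) (fun _ => trivial) ?_ X h g
  intro W _ φ _ _ M _ actW hact hone hfix
  haveI : LocallyOfFinitePresentation (Red.bc φ G).hom :=
    MorphismProperty.pullback_snd (P := @LocallyOfFinitePresentation) _ _ ‹_›
  refine fun Y t p => RedPts82.fixed_of_fibres actW hact hone (fun q hq Z hZ hqZ hunit => ?_) Y t p
  intro Y' y t' p'
  haveI := hZ
  haveI := hq
  -- the point `Z` lies over the spectrum of a field
  let ψ : Γ(W, ⊤) →+* Γ(Z.left, ⊤) := Z.hom.appTop.hom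
  obtain ⟨K, hK, ρ, χ, hχ⟩ : ∃ (K : Type u) (_ : Field K) (ρ : Γ(W, ⊤) →+* K)
      (χ : K →+* Γ(Z.left, ⊤)), χ.comp ρ = ψ := by
    have hker : q ≤ RingHom.ker ψ := (Ideal.map_eq_bot_iff_le_ker _).mp hqZ
    refine ⟨FractionRing (Γ(W, ⊤) ⧸ q), inferInstance,
      (algebraMap _ _).comp (Ideal.Quotient.mk q),
      IsLocalization.lift (M := nonZeroDivisors (Γ(W, ⊤) ⧸ q))
        (g := Ideal.Quotient.lift q ψ hker) ?_, ?_⟩
    · rintro ⟨v, hv⟩
      obtain ⟨r, rfl⟩ := Ideal.Quotient.mk_surjective v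
      exact hunit r fun hr => nonZeroDivisors.ne_zero hv (Ideal.Quotient.eq_zero_iff_mem.mpr hr)
    · rw [← RingHom.comp_assoc, IsLocalization.lift_comp, Ideal.Quotient.lift_comp_mk]
  let γ : Spec (.of K) ⟶ S := Spec.map (CommRingCat.ofHom ρ) ≫ W.isoSpec.inv ≫ φ
  let s := ((Scheme.SpecToEquivOfField K S) γ).1
  let θ : Z.left ⟶ Spec (S.residueField s) := Z.left.toSpecΓ ≫ Spec.map (CommRingCat.ofHom χ) ≫
    Spec.map ((Scheme.SpecToEquivOfField K S) γ).2
  have hθ : θ ≫ S.fromSpecResidueField s = Z.hom ≫ φ := by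
    have h1 : Spec.map ((Scheme.SpecToEquivOfField K S) γ).2 ≫ S.fromSpecResidueField s = γ :=
      (Scheme.SpecToEquivOfField K S).symm_apply_apply γ
    simp only [θ, Category.assoc, h1, γ]
    rw [← Spec.map_comp_assoc, ← CommRingCat.ofHom_comp, hχ]
    simp only [ψ, CommRingCat.ofHom_hom, ← Scheme.toSpecΓ_naturality_assoc,
      Scheme.toSpecΓ_isoSpec_inv_assoc]
  refine hfix Y' t' p' fun g' => (RedPts82.conjAct_eq_iff u g' _).mpr ?_
  let X₀ : Over (Spec (S.residueField s)) := Over.mk (y.left ≫ θ)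
  have hw : (X₀.hom ≫ S.fromSpecResidueField s) = ((Over.map φ).obj Y').hom := by
    show (y.left ≫ θ) ≫ _ = Y'.hom ≫ φ
    rw [Category.assoc, hθ, ← Category.assoc, Over.w y]
  let α : (Over.map (S.fromSpecResidueField s)).obj X₀ ≅ (Over.map φ).obj Y' :=
    Over.isoMk (Iso.refl _) (by simpa using hw.symm)
  have h1 := congrArg (RedPts82.toBase (S.fromSpecResidueField s))
    (hfib s X₀ (RedPts82.ofBase _ (α.hom ≫ RedPts82.toBase φ p')) (RedPts82.ofBase _ (α.hom ≫ g')))
  simp only [RedPts82.toBase_mul, RedPts82.toBase_comp_map, RedPts82.toBase_ofBase,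
    Category.assoc] at h1
  rw [← cancel_epi α.hom, MonObj.comp_mul, MonObj.comp_mul]
  exact h1.symm

end Groth.Agent.S5256
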