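import Groth.Statements.S5263
import Groth.Agent.RedPts82.HomFiniteMult
import Groth.Agent.RedPts82.Extension

set_option autoImplicit false
open CategoryTheory MonoidalCategory CartesianMonoidalCategory MonObj GrpObj AlgebraicGeometry
universe u
open SGA3x

namespace Groth.Agent.S5263

/-- Let G and H be S-groups of multiplicative type which are finite over S. Then the functor of group
homomorphisms from G to H is representable by an S-scheme which is finite and etale over S (with its
universal family of homomorphisms). -/
theorem result {S : Scheme.{u}} (G H : Over S) [GrpObj G] [GrpObj H]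
    (hG : SGA3x.IsMultTypeFT G) [IsFinite G.hom] (hH : SGA3x.IsMultTypeFT H) [IsFinite H.hom] :
    ∃ (A : Over S) (υ : G ⊗ A ⟶ H), AutFam.RepresentsHom G H A υ ∧ IsFinite A.hom ∧ Etale A.hom := by
  haveI : MorphismProperty.DescendsAlong (@Flat : MorphismProperty Scheme.{u}) Groth.Agent.Unr55.fpqc.{u} :=
    Groth.Agent.RedPts82.flat_descends_fpqc
  haveI : MorphismProperty.DescendsAlong (@LocallyOfFinitePresentation : MorphismProperty Scheme.{u})
      Groth.Agent.Unr55.fpqc.{u} := by
    unfold Groth.Agent.Unr55.fpqc; infer_instance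
  haveI : Flat G.hom :=
    Groth.Agent.RedPts82.isMultTypeFT_prop @Flat hG fun U M _ _ => Groth.Agent.RedPts82.flat_DS_hom U M
  haveI : LocallyOfFinitePresentation G.hom :=
    Groth.Agent.RedPts82.isMultTypeFT_prop @LocallyOfFinitePresentation hG fun U M _ hM =>
      Groth.Agent.RedPts82.lfp_DS_of_fg U M hM
  obtain ⟨A, υ, hA, hAaff, hAlft, -⟩ := Groth.Agent.RedPts82.HomFF.exists_homGrpScheme G H
  haveI := hAlft inferInstance
  obtain ⟨h1, h2⟩ := Groth.Agent.RedPts82.HomFF.finite_etale_homScheme hG hH hA
  exact ⟨A, υ, hA, h1, h2⟩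

end Groth.Agent.S5263
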