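import Groth.Statements.S5268
import Groth.Agent.Const38.Components
import Groth.Agent.Props58.Comp

set_option autoImplicit false
open CategoryTheory MonoidalCategory CartesianMonoidalCategory MonObj GrpObj AlgebraicGeometry
universe u
open SGA3x CategoryTheory.Limits

namespace Groth.Agent.S5268

/-- Let S be a locally Noetherian scheme all of whose local rings are geometrically unibranch, and P a
quasi-isotrivial twisted constant S-scheme (etale-locally on S isomorphic to a constant scheme).
Then every connected component of P is open, and as an open subscheme of P it is finite over S. -/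
theorem result {S : Scheme.{u}} [IsLocallyNoetherian S]
    (hS : ∀ s : S, CAlg2.IsGeomUnibranch (S.presheaf.stalk s))
    (P : Over S) (hP : TwC.IsTwConst TwC.Topology.etale P) (x : P.left) :
    ∃ U : P.left.Opens, (U : Set P.left) = connectedComponent x ∧ IsFinite (U.ι ≫ P.hom) := by
  let s := P.hom x
  have hu : ∀ y : S, ∀ Z ∈ irreducibleComponents S, ∀ Z' ∈ irreducibleComponents S,
      y ∈ Z → y ∈ Z' → Z = Z' := fun y Z hZ Z' hZ' h h' => by
    have := (hS y).1.1
    exact (SchBasics.nilradical_stalk_isPrime_iff y).mp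
      ((Ideal.Quotient.isDomain_iff_prime _).mp inferInstance) Z hZ Z' hZ' h h'
  have hfin : ∀ y : S, ∃ U : TopologicalSpace.Opens S, y ∈ U ∧ (irreducibleComponents U).Finite := fun y => by
    obtain ⟨U, hU, hyU, -⟩ := exists_isAffineOpen_mem_and_subset (U := (⊤ : S.Opens)) (x := y) trivial
    have : IsAffine (U : Scheme.{u}) := hU
    have : IsNoetherian (U : Scheme.{u}) := {}
    have : TopologicalSpace.NoetherianSpace ↥(U : Scheme.{u}) := inferInstance
    exact ⟨U, hyU, TopologicalSpace.NoetherianSpace.finite_irreducibleComponents (α := ↥(U : Scheme.{u}))⟩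
  have hZ : irreducibleComponent s ∈ irreducibleComponents S := irreducibleComponent_mem_irreducibleComponents s
  let S0 : S.Opens := ⟨irreducibleComponent s, Props58.isOpen_irreducibleComponent hu hfin hZ⟩
  have : IrreducibleSpace ↥(S0 : Scheme.{u}) :=
    have : IrreducibleSpace ↥(irreducibleComponent s) := Subtype.irreducibleSpace isIrreducible_irreducibleComponent
    inferInstanceAs (IrreducibleSpace ↥(irreducibleComponent s))
  have : IsClosedImmersion S0.ι := IsClosedImmersion.of_isPreimmersion _ (by
    rw [Scheme.Opens.range_ι]; exact isClosed_irreducibleComponent)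
  have hS0 : ∀ y : (S0 : Scheme.{u}), CAlg2.IsGeomUnibranch ((S0 : Scheme.{u}).presheaf.stalk y) := fun y =>
    Unr55.EtComp.isGeomUnibranch_stalk S0.ι y ⟨⊤, trivial, inferInstance⟩ (hS _)
  let P0 : Over (S0 : Scheme.{u}) := Red.bc S0.ι P
  have hP0 : TwC.IsTwConst TwC.Topology.etale P0 := fun y => by
    obtain ⟨S', g, hg, hy, I, ⟨e⟩⟩ := hP (S0.ι y)
    obtain ⟨y', hy'⟩ := hy
    obtain ⟨z, hz, -⟩ := Scheme.Pullback.exists_preimage_pullback (f := S0.ι) (g := g) y y' hy'.symm
    obtain ⟨e', -⟩ := Const38.exists_triv (a := pullback.fst S0.ι g) (b := S0.ι) (c := pullback.snd S0.ι g)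
      (d := g) pullback.condition e
    exact ⟨_, pullback.fst S0.ι g, inferInstance, ⟨z, hz⟩, I, ⟨e'⟩⟩
  obtain ⟨x0, hx0, -⟩ := Scheme.Pullback.exists_preimage_pullback (f := P.hom) (g := S0.ι) x
    ⟨s, mem_irreducibleComponent⟩ rfl
  obtain ⟨l, ⟨hl, hx0l⟩, -⟩ := Const38.existsUnique_generic hS0 hP0 x0
  let U0 : P0.left.Opens := ⟨closure {l}, Const38.isOpen_closure_generic hS0 hP0 l hl⟩
  obtain ⟨hUfin, -, -⟩ := Const38.finite_component hS0 hP0 l hl U0 rfl
  let j : P0.left ⟶ P.left := pullback.fst P.hom S0.ι
  have : IsOpenImmersion j := MorphismProperty.pullback_fst _ _ (inferInstance : IsOpenImmersion S0.ι)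
  have : IsClosedImmersion j := MorphismProperty.pullback_fst _ _ (inferInstance : IsClosedImmersion S0.ι)
  refine ⟨j ''ᵁ U0, ?_, ?_⟩
  · show j '' closure {l} = connectedComponent x
    have hclopen : IsClopen (j '' closure ({l} : Set P0.left)) :=
      ⟨j.isClosedEmbedding.isClosedMap _ isClosed_closure,
        j.isOpenEmbedding.isOpenMap _ U0.2⟩
    have hmem : x ∈ j '' closure ({l} : Set P0.left) := ⟨x0, hx0l, hx0⟩
    refine Set.Subset.antisymm ?_ (hclopen.connectedComponent_subset hmem)
    exact IsPreconnected.subset_connectedComponent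
      ((isIrreducible_singleton.closure.image j j.continuous.continuousOn).isConnected.isPreconnected) hmem
  · have h : (j ''ᵁ U0).ι ≫ P.hom = (j.isoImage U0).inv ≫ (U0.ι ≫ P0.hom) ≫ S0.ι := by
      rw [Iso.eq_inv_comp, ← Category.assoc, Scheme.Hom.isoImage_hom_ι, Category.assoc, Category.assoc]
      exact congrArg (U0.ι ≫ ·) pullback.condition
    rw [h]
    infer_instance

end Groth.Agent.S5268
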