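import Groth.Statements.S5278
import Mathlib.AlgebraicGeometry.Morphisms.QuasiFinite
import Mathlib.AlgebraicGeometry.Morphisms.UniversallyOpen

set_option autoImplicit false
open CategoryTheory AlgebraicGeometry
universe u
open SGA3x

namespace Groth.Agent.S5278

/-- Let X be a connected scheme, f : X' ⟶ X a finite etale morphism and x a point of X. Then every
connected component of X' meets the fibre of f over x; equivalently the map from the connected
components of the fibre (or of the geometric fibre) to those of X' is surjective. -/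
theorem result {X X' : Scheme.{u}} [ConnectedSpace X] (f : X' ⟶ X)
    [IsFinite f] [Etale f] (x : X) (c : X') :
    ∃ x' : X', f.base x' = x ∧ x' ∈ connectedComponent c := by
  classical
  have hfin : (f.base ⁻¹' {x}).Finite := f.finite_preimage_singleton x
  have hne : ∀ U : Set X', IsClopen U → U.Nonempty → ∃ y ∈ U, f.base y = x := by
    intro U hU hne
    have h1 : IsClopen (f.base '' U) := ⟨f.isClosedMap _ hU.1, f.isOpenMap _ hU.2⟩
    have h2 : f.base '' U = Set.univ := h1.eq_univ (hne.image _)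
    exact (Set.ext_iff.1 h2 x).2 trivial
  have hex : ∃ n : ℕ, ∃ U : Set X', IsClopen U ∧ c ∈ U ∧ (U ∩ f.base ⁻¹' {x}).ncard = n :=
    ⟨_, Set.univ, isClopen_univ, Set.mem_univ c, rfl⟩
  obtain ⟨U, hU, hcU, hn⟩ := Nat.find_spec hex
  have hpre : _root_.IsPreconnected U := by
    rw [isPreconnected_iff_preconnectedSpace, preconnectedSpace_iff_clopen]
    intro s hs
    have himg : ∀ s : Set U, IsClopen s → IsClopen (Subtype.val '' s) := fun s hs =>
      ⟨hU.1.isClosedEmbedding_subtypeVal.isClosedMap _ hs.1, hU.2.isOpenEmbedding_subtypeVal.isOpenMap _ hs.2⟩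
    by_contra hcon
    obtain ⟨hs1, hs2⟩ : s.Nonempty ∧ sᶜ.Nonempty := by
      rw [not_or, ← Ne, ← Set.nonempty_iff_ne_empty] at hcon
      exact ⟨hcon.1, Set.nonempty_compl.2 hcon.2⟩
    have main : ∀ t : Set U, IsClopen t → tᶜ.Nonempty → (⟨c, hcU⟩ : U) ∈ t → False := by
      intro t ht htc hct
      obtain ⟨y, ⟨y', hy', rfl⟩, hyx⟩ := hne _ (himg _ ht.compl) (htc.image _)
      have hlt : (Subtype.val '' t ∩ f.base ⁻¹' {x}).ncard < (U ∩ f.base ⁻¹' {x}).ncard := by
        refine Set.ncard_lt_ncard ⟨Set.inter_subset_inter_left _ (Subtype.coe_image_subset U t), fun h => ?_⟩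
          (hfin.subset Set.inter_subset_right)
        obtain ⟨⟨z, hz, hzy⟩, -⟩ := h ⟨y'.2, hyx⟩
        exact hy' (Subtype.val_injective hzy ▸ hz)
      have := Nat.find_le (h := hex) ⟨Subtype.val '' t, himg t ht, ⟨_, hct, rfl⟩, rfl⟩
      omega
    rcases Classical.em ((⟨c, hcU⟩ : U) ∈ s) with hc | hc
    · exact main s hs hs2 hc
    · exact main sᶜ hs.compl (by rwa [compl_compl]) hc
  obtain ⟨y, hy, hyx⟩ := hne U hU ⟨c, hcU⟩
  exact ⟨y, hyx, hpre.subset_connectedComponent hcU hy⟩

end Groth.Agent.S5278
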