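import Groth.Statements.S5283
import Groth.Agent.SGA3a.ContainRep
import Groth.Agent.LimTop61.Diag

set_option autoImplicit false
open CategoryTheory MonoidalCategory CartesianMonoidalCategory MonObj GrpObj AlgebraicGeometry
universe u
open SGA3x

namespace Groth.Agent.S5283

/-- Let X be an S-group which is smooth and of finite presentation over S with connected fibres, Y an
S-group of finite presentation over S and i : Y ⟶ X a homomorphism which is a monomorphism. Then the
functor on S-schemes whose value at S' ⟶ S is a point when X ×_S S' ⟶ X factors through Y and empty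
otherwise is representable by a closed subscheme of S whose immersion is of finite presentation. -/
theorem result {S : Scheme.{u}} (X Y : Over S) [GrpObj X] [GrpObj Y]
    [Smooth X.hom] [QuasiCompact X.hom] [QuasiSeparated X.hom]
    (hconn : ∀ s : S, ConnectedSpace ↥(Limits.pullback X.hom (S.fromSpecResidueField s)))
    [LocallyOfFinitePresentation Y.hom] [QuasiCompact Y.hom] [QuasiSeparated Y.hom]
    (i : Y ⟶ X) [IsMonHom i] [Mono i] :
    ∃ (T : Scheme.{u}) (t : T ⟶ S), IsClosedImmersion t ∧ LocallyOfFinitePresentation t ∧
      ∀ (S' : Scheme.{u}) (g : S' ⟶ S), (∃ g' : S' ⟶ T, g' ≫ t = g) ↔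
        ∃ l : Limits.pullback X.hom g ⟶ Y.left, l ≫ i.left = Limits.pullback.fst X.hom g := by
  have : Mono i.left := (Over.forget S).map_mono i
  have : LocallyOfFiniteType X.hom := inferInstance
  have : LocallyOfFinitePresentation (i.left ≫ X.hom) := by rw [Over.w]; infer_instance
  have : LocallyOfFinitePresentation i.left :=
    LimTop61.locallyOfFinitePresentation_of_comp i.left X.hom
  obtain ⟨T, t, h1, h2, h3⟩ := SGA3a.exists_contain_subgroup X Y i hconn
  refine ⟨T, t, h1, h2, fun S' g => (h3 S' g).trans ⟨fun h => h _ _ _ Limits.pullback.condition, ?_⟩⟩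
  rintro ⟨l, hl⟩ W a b w
  exact ⟨Limits.pullback.lift a b w ≫ l, by rw [Category.assoc, hl, Limits.pullback.lift_fst]⟩

end Groth.Agent.S5283
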