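import Groth.Statements.S5284
import Groth.Agent.RedPts82.FreeOrbit
import Groth.Agent.RedPts82.FixedPts
-- import your own Groth.Agent.* helpers here

set_option autoImplicit false
open CategoryTheory MonoidalCategory CartesianMonoidalCategory MonObj GrpObj AlgebraicGeometry
universe u
open SGA3x

namespace Groth.Agent.S5284

/-- Let G be an S-group of multiplicative type (fpqc-locally on S isomorphic, as a group, to
diagonalisable groups D(M), M allowed to vary and taken in Type 0) acting on an S-scheme X which is
affine over S, the action being free (a point g of G fixing a point x of X is the unit). Then the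
graph morphism G ×_S X ⟶ X ×_S X, (g, x) ↦ (g·x, x), is a closed immersion; and for every section σ
of X over S the orbit morphism G ⟶ X, g ↦ g·σ, is a closed immersion. -/
theorem result {S : Scheme.{u}} (G X : Over S) [GrpObj G]
    (hG : TwC.Locally S TwC.Topology.fpqc (fun S' f => ∃ (M : Type) (_ : AddCommGroup M), Nonempty (Grp.mk (Red.bc f G) ≅ Grp.mk (Red.DS S' M)))) (hX : IsAffineHom X.hom) (a : AlgGrp.Action G X)
    (hfree : ∀ (Y : Over S) (g : Y ⟶ G) (x : Y ⟶ X), lift g x ≫ a.act = x → g = 1) :
    IsClosedImmersion (lift a.act (snd G X)).left ∧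
      ∀ σ : 𝟙_ (Over S) ⟶ X, IsClosedImmersion (a.orbitMap σ).left := by
  have hgraph : IsClosedImmersion (lift a.act (snd G X)).left :=
    RedPts82.isClosedImmersion_graph hG a.act
      (fun Z h h' p => RedPts82.action_assoc a.act a.mul_act h h' p) fun Z h p => hfree Z h p
  refine ⟨hgraph, fun σ => ?_⟩
  let jG : G ⟶ G ⊗ X := lift (𝟙 G) (toUnit G ≫ σ)
  let jX : X ⟶ X ⊗ X := lift (𝟙 X) (toUnit X ≫ σ)
  have w : jG ≫ lift a.act (snd G X) = a.orbitMap σ ≫ jX := by
    simp only [jG, jX, AlgGrp.Action.orbitMap, comp_lift, Category.assoc, lift_snd, Category.comp_id,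
      comp_toUnit_assoc]
  have hpb : IsPullback jG (a.orbitMap σ) (lift a.act (snd G X)) jX := by
    refine ⟨⟨w⟩, ⟨Limits.PullbackCone.IsLimit.mk _ (fun s => s.fst ≫ fst G X) (fun s => ?_)
      (fun s => ?_) (fun s m h1 _ => ?_)⟩⟩
    · have h2 := congrArg (· ≫ snd X X) s.condition
      simp only [jX, Category.assoc, lift_snd, comp_toUnit_assoc] at h2
      apply CartesianMonoidalCategory.hom_ext
      · simp [jG]
      · simp [jG, h2]
    · have h1 := congrArg (· ≫ fst X X) s.condition
      have h2 := congrArg (· ≫ snd X X) s.condition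
      simp only [jX, Category.assoc, lift_fst, lift_snd, comp_toUnit_assoc, Category.comp_id] at h1 h2
      simp only [AlgGrp.Action.orbitMap, comp_lift_assoc, Category.comp_id, Category.assoc,
        comp_toUnit_assoc]
      rw [← h2, ← comp_lift_assoc, lift_fst_snd, Category.id_comp]
      exact h1
    · simp [← h1, jG]
  exact MorphismProperty.of_isPullback (P := @IsClosedImmersion) (hpb.map (Over.forget S)) hgraph

end Groth.Agent.S5284
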