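import Groth.Statements.S5289
import Groth.Agent.RedPts82.AvgConj

set_option autoImplicit false
open CategoryTheory MonoidalCategory CartesianMonoidalCategory MonObj GrpObj AlgebraicGeometry
universe u
open SGA3x

namespace Groth.Agent.S5289

/-- Let S = Spec R be affine, J an ideal of R with J² = 0 and S₀ = Spec (R/J); let G be an arbitrary
S-group and i : H ⟶ G, i' : H' ⟶ G two sub-group-schemes (homomorphisms which are immersions) of
multiplicative type (fpqc-locally on S isomorphic, as groups, to diagonalisable groups D(M), M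
allowed to vary and taken in Type 0), such that H ×_S S₀ and H' ×_S S₀ coincide as subgroups of G
×_S S₀. Then there is an S-point g of G whose restriction to S₀ is the unit and which conjugates H
onto H': int(g) ∘ i factors through i' by an isomorphism H ≅ H'. -/
theorem result {R : Type u} [CommRing R] (J : Ideal R) (hJ : J ^ 2 = ⊥)
    (G H H' : Over (Spec (CommRingCat.of R))) [GrpObj G] [GrpObj H] [GrpObj H']
    (hH : TwC.Locally (Spec (CommRingCat.of R)) TwC.Topology.fpqc (fun S' f => ∃ (M : Type) (_ : AddCommGroup M), Nonempty (Grp.mk (Red.bc f H) ≅ Grp.mk (Red.DS S' M))))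
    (hH' : TwC.Locally (Spec (CommRingCat.of R)) TwC.Topology.fpqc (fun S' f => ∃ (M : Type) (_ : AddCommGroup M), Nonempty (Grp.mk (Red.bc f H') ≅ Grp.mk (Red.DS S' M))))
    (i : H ⟶ G) [IsMonHom i] [IsImmersion i.left] (i' : H' ⟶ G) [IsMonHom i'] [IsImmersion i'.left]
    (h0 : ∃ ψ : Red.bc (Spec.map (CommRingCat.ofHom (Ideal.Quotient.mk J))) H ≅ Red.bc (Spec.map (CommRingCat.ofHom (Ideal.Quotient.mk J))) H',
      ψ.hom ≫ (Over.pullback (Spec.map (CommRingCat.ofHom (Ideal.Quotient.mk J)))).map i' = (Over.pullback (Spec.map (CommRingCat.ofHom (Ideal.Quotient.mk J)))).map i) :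
    ∃ g : 𝟙_ (Over (Spec (CommRingCat.of R))) ⟶ G, toUnit (Over.mk (Spec.map (CommRingCat.ofHom (Ideal.Quotient.mk J))) : Over (Spec (CommRingCat.of R))) ≫ g = 1 ∧ SGA3x.ConjBy i i' g := by
  obtain ⟨_, J', hsq, hnil, ⟨e⟩⟩ := RedPts82.exists_base_red J
  have hred : toUnit _ = e.hom ≫ RedPts82.redMap _ J' := toUnit_unique _ _
  haveI : Mono i := Over.mono_of_mono_left i
  haveI : Mono i' := Over.mono_of_mono_left i'
  obtain ⟨χ, hχ⟩ := h0
  have hn : IsNilpotent J' := ⟨2, by rw [pow_two]; exact hsq hJ⟩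
  let f := Spec.map (CommRingCat.ofHom (Ideal.Quotient.mk J))
  have hχ' : χ.inv ≫ (Over.pullback f).map i = (Over.pullback f).map i' := by
    rw [Iso.inv_comp_eq, hχ]
  -- points over the closed subscheme
  have key : ∀ (A B : Over (Spec (CommRingCat.of R))) (a : A ⟶ G) (b : B ⟶ G)
      (c : Red.bc f A ⟶ Red.bc f B), c ≫ (Over.pullback f).map b = (Over.pullback f).map a →
      ∀ (X : Over (Spec (CommRingCat.of R))) (_ : X ⟶ Over.mk f) (k : X ⟶ A),
        ∃ k' : X ⟶ B, k ≫ a = k' ≫ b := by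
    intro A B a b c hc X x k
    let X₀ : Over (Spec (CommRingCat.of (R ⧸ J))) := Over.mk x.left
    let α : (Over.map f).obj X₀ ≅ X := Over.isoMk (Iso.refl _) (by simpa [X₀] using (Over.w x).symm)
    refine ⟨α.inv ≫ RedPts82.toBase f (RedPts82.ofBase f (α.hom ≫ k) ≫ c), ?_⟩
    rw [Category.assoc, ← RedPts82.toBase_comp_map, Category.assoc, hc, RedPts82.toBase_comp_map,
      RedPts82.toBase_ofBase, Category.assoc, Iso.inv_hom_id_assoc]
  obtain ⟨ψ, _, hψ⟩ := RedPts82.exists_iso_of_conj_mod hH hH' i i' hn 1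
    (fun X x => by
      simp only [MonObj.comp_one, _root_.one_mul, inv_one, _root_.mul_one]
      exact ⟨key H H' i i' χ.hom hχ X (x ≫ e.inv), key H' H i' i χ.inv hχ' X (x ≫ e.inv)⟩)
  obtain ⟨g, hg, h⟩ := RedPts82.exists_conj_lift_sq hH i (ψ.hom ≫ i') (𝟙_ _) (hsq hJ) 1
    (by simpa using hψ)
  refine ⟨g, ?_, ψ, ?_⟩
  · rw [hred, Category.assoc, hg, MonObj.comp_one, MonObj.comp_one]
  · simpa using h H (toUnit H) (𝟙 H)

end Groth.Agent.S5289
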