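import Groth.Statements.S5290
import Groth.Agent.RedPts82.CentralRigid
-- import your own Groth.Agent.* helpers here

set_option autoImplicit false
open CategoryTheory MonoidalCategory CartesianMonoidalCategory MonObj GrpObj AlgebraicGeometry
universe u
open SGA3x

namespace Groth.Agent.S5290

/-- Let S = Spec R be affine, J a nilpotent ideal of R and S₀ = Spec (R/J); let G be an arbitrary
S-group and i : H ⟶ G, i' : H' ⟶ G two sub-group-schemes (homomorphisms which are immersions) of
multiplicative type (fpqc-locally on S isomorphic, as groups, to diagonalisable groups D(M), M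
allowed to vary and taken in Type 0), with H central in G (every point of G commutes with every
point of H). If H ×_S S₀ and H' ×_S S₀ coincide as subgroups of G ×_S S₀, then H = H' as subgroups
of G: there is an isomorphism H ≅ H' compatible with i and i'. -/
theorem result {R : Type u} [CommRing R] (J : Ideal R) (hJ : IsNilpotent J)
    (G H H' : Over (Spec (CommRingCat.of R))) [GrpObj G] [GrpObj H] [GrpObj H']
    (hH : TwC.Locally (Spec (CommRingCat.of R)) TwC.Topology.fpqc (fun S' f => ∃ (M : Type) (_ : AddCommGroup M), Nonempty (Grp.mk (Red.bc f H) ≅ Grp.mk (Red.DS S' M))))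
    (hH' : TwC.Locally (Spec (CommRingCat.of R)) TwC.Topology.fpqc (fun S' f => ∃ (M : Type) (_ : AddCommGroup M), Nonempty (Grp.mk (Red.bc f H') ≅ Grp.mk (Red.DS S' M))))
    (i : H ⟶ G) [IsMonHom i] [IsImmersion i.left] (i' : H' ⟶ G) [IsMonHom i'] [IsImmersion i'.left]
    (hc : ∀ (X : Over (Spec (CommRingCat.of R))) (g : X ⟶ G) (h : X ⟶ H), g * (h ≫ i) = (h ≫ i) * g)
    (h0 : ∃ ψ : Red.bc (Spec.map (CommRingCat.ofHom (Ideal.Quotient.mk J))) H ≅ Red.bc (Spec.map (CommRingCat.ofHom (Ideal.Quotient.mk J))) H',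
      ψ.hom ≫ (Over.pullback (Spec.map (CommRingCat.ofHom (Ideal.Quotient.mk J)))).map i' = (Over.pullback (Spec.map (CommRingCat.ofHom (Ideal.Quotient.mk J)))).map i) :
    ∃ φ : H ≅ H', φ.hom ≫ i' = i := by
  obtain ⟨ψ, hψ⟩ := h0
  let e := Scheme.ΓSpecIso (CommRingCat.of R)
  haveI : Mono i.left := inferInstance
  haveI : Mono i'.left := inferInstance
  haveI : Mono i := Over.mono_of_mono_left i
  haveI : Mono i' := Over.mono_of_mono_left i'
  refine RedPts82.exists_iso_of_central hH hH' i i' hc _ (J.map e.inv.hom) ?_ (fun Z _ hZ => ?_)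
    fun X p => ⟨fun h => RedPts82.points_of_bc_iso _ i i' ψ.hom hψ p h, fun h =>
      RedPts82.points_of_bc_iso _ i' i ψ.inv (by rw [Iso.inv_comp_eq, hψ]) p h⟩
  · obtain ⟨n, hn⟩ := hJ
    exact ⟨n, by rw [← Ideal.map_pow, hn]; exact Ideal.map_bot⟩
  · let g : R →+* Γ(Z.left, ⊤) := Z.hom.appTop.hom.comp e.inv.hom
    have hg : ∀ a ∈ J, g a = 0 := fun a ha => by
      have := Ideal.mem_map_of_mem Z.hom.appTop.hom (Ideal.mem_map_of_mem e.inv.hom ha)
      rw [hZ] at this
      exact this
    refine ⟨Over.homMk (Z.left.toSpecΓ ≫ Spec.map (CommRingCat.ofHom (Ideal.Quotient.lift J g hg))) ?_⟩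
    show (_ ≫ _) ≫ Spec.map _ = Z.hom
    apply ext_of_isAffine
    rw [Category.assoc, ← Spec.map_comp, Scheme.Hom.comp_appTop, Scheme.toSpecΓ_appTop,
      ← CommRingCat.ofHom_comp, Ideal.Quotient.lift_comp_mk, Scheme.ΓSpecIso_naturality]
    exact CommRingCat.hom_ext (RingHom.ext fun r => congrArg Z.hom.appTop.hom
      (e.commRingCatIsoToRingEquiv.symm_apply_apply r))

end Groth.Agent.S5290
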