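import Groth.Statements.S5295
import Groth.Agent.Cent38.Main
import Groth.Agent.S5256
import Groth.Agent.Const38.AgreeUnit
import Groth.Agent.RedPts82.MultBc

set_option autoImplicit false
open CategoryTheory MonoidalCategory CartesianMonoidalCategory MonObj GrpObj AlgebraicGeometry
universe u
open SGA3x

namespace Groth.Agent.S5295

/-- Let u : H ⟶ G be a homomorphism of S-groups, with H of multiplicative type and of finite type and G
of finite presentation over S (locally of finite presentation, quasi-compact, quasi-separated) with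
connected fibres, and let s ∈ S be a point such that u_s : H_s ⟶ G_s is central. Then there is an
open neighbourhood U of s such that the homomorphism H|_U ⟶ G|_U induced by u is central: for every
S-scheme X lying over U, every X-point of G commutes with the image of every X-point of H. -/
theorem result {S : Scheme.{u}} (H G : Over S) [GrpObj H] [GrpObj G]
    (hH : SGA3x.IsMultTypeFT H) [LocallyOfFinitePresentation G.hom] [QuasiCompact G.hom] [QuasiSeparated G.hom]
    (hconn : ∀ t : S, ConnectedSpace ↥(Limits.pullback G.hom (S.fromSpecResidueField t)))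
    (u : H ⟶ G) [IsMonHom u] (s : S)
    (hs : ∀ (X : Over (Spec (S.residueField s))) (g : X ⟶ Red.bc (S.fromSpecResidueField s) G)
      (h : X ⟶ Red.bc (S.fromSpecResidueField s) H),
      g * (h ≫ (Over.pullback (S.fromSpecResidueField s)).map u) = (h ≫ (Over.pullback (S.fromSpecResidueField s)).map u) * g) :
    ∃ U : S.Opens, s ∈ U ∧ ∀ (X : Over S) (q : X ⟶ Over.mk U.ι) (g : X ⟶ G) (h : X ⟶ H),
      g * (h ≫ u) = (h ≫ u) * g := by
  have hconn' : ∀ t, _root_.IsConnected (G.hom.base ⁻¹' {t}) := fun t => by
    haveI : ConnectedSpace ↥(G.hom.fiber t) := hconn t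
    rw [← Scheme.Hom.range_fiberι]
    exact isConnected_range (G.hom.fiberι t).continuous
  have hc : ∀ (K : Type u) [Field K] (p : Spec (CommRingCat.of K) ⟶ S),
      ConnectedSpace ↥(Limits.pullback G.hom p) := fun K _ p => by
    haveI := Const38.irreducibleSpace_bc hconn' K p
    infer_instance
  let U : S.Opens := ⟨_, Cent38.isOpen_centLocus hH hc u⟩
  refine ⟨U, ?_, ?_⟩
  · intro X q g h
    obtain ⟨α, -⟩ := RedPts82.exists_over_iso (S.fromSpecResidueField s) q.left (Over.w q)
    have e := congrArg (RedPts82.toBase (S.fromSpecResidueField s))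
      (hs _ (RedPts82.ofBase _ (α.hom ≫ g)) (RedPts82.ofBase _ (α.hom ≫ h)))
    simp only [RedPts82.toBase_mul, RedPts82.toBase_comp_map, RedPts82.toBase_ofBase, Category.assoc] at e
    rw [← cancel_epi α.hom, MonObj.comp_mul, MonObj.comp_mul]
    exact e
  have hH' : SGA3x.IsMultTypeFT (Red.bc U.ι H) := RedPts82.isMultTypeFT_bc U.ι hH
  haveI : LocallyOfFinitePresentation (Red.bc U.ι G).hom :=
    MorphismProperty.pullback_snd (P := @LocallyOfFinitePresentation) _ _ ‹_›
  haveI : QuasiCompact (Red.bc U.ι G).hom :=
    MorphismProperty.pullback_snd (P := @QuasiCompact) _ _ ‹_›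
  haveI : QuasiSeparated (Red.bc U.ι G).hom :=
    MorphismProperty.pullback_snd (P := @QuasiSeparated) _ _ ‹_›
  have h1 := Groth.Agent.S5256.result (Red.bc U.ι H) (Red.bc U.ι G) hH' ((Over.pullback U.ι).map u)
    (fun t X g h => by
      apply RedPts82.toBase_injective ((U : Scheme.{u}).fromSpecResidueField t)
      rw [RedPts82.toBase_mul, RedPts82.toBase_mul, RedPts82.toBase_comp_map]
      apply RedPts82.toBase_injective U.ι
      rw [RedPts82.toBase_mul, RedPts82.toBase_mul, RedPts82.toBase_comp_map]
      refine (Cent38.cent_residue_iff U.ι t).mpr (t.2 : Cent38.Cent (S.fromSpecResidueField t.1) u) _ ?_ _ _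
      exact Over.homMk X.hom (Category.assoc _ _ _).symm)
  intro X q g h
  obtain ⟨α, -⟩ := RedPts82.exists_over_iso U.ι q.left (Over.w q)
  have e := congrArg (RedPts82.toBase U.ι) (h1 _ (RedPts82.ofBase U.ι (α.hom ≫ g)) (RedPts82.ofBase U.ι (α.hom ≫ h)))
  simp only [RedPts82.toBase_mul, RedPts82.toBase_comp_map, RedPts82.toBase_ofBase, Category.assoc] at e
  rw [← cancel_epi α.hom, MonObj.comp_mul, MonObj.comp_mul]
  exact e

end Groth.Agent.S5295
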