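import Groth.Statements.S5297
import Groth.Agent.RedPts82.AvgConj

set_option autoImplicit false
open CategoryTheory MonoidalCategory CartesianMonoidalCategory MonObj GrpObj AlgebraicGeometry
universe u
open SGA3x

namespace Groth.Agent.S5297

/-- In the lifting form that formal smoothness of the transporter means. Let S = Spec R be affine, J a
nilpotent ideal of R and S₀ = Spec (R/J); let G be an S-group smooth over S, k : K ⟶ G a
sub-group-scheme (a homomorphism which is an immersion) with K smooth over S or of multiplicative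
type, H an S-group of multiplicative type (fpqc-locally on S isomorphic, as a group, to
diagonalisable groups D(M), M allowed to vary and taken in Type 0), u : H ⟶ G a homomorphism, and g₀
an S₀-valued point of G such that int(g₀) ∘ u takes the points of H defined over S₀-schemes into K.
Then g₀ lifts to an S-point g of G such that int(g) ∘ u factors through K on all points. -/
theorem result {R : Type u} [CommRing R] (J : Ideal R) (hJ : IsNilpotent J)
    (G K H : Over (Spec (CommRingCat.of R))) [GrpObj G] [GrpObj K] [GrpObj H] (hG : Smooth G.hom)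
    (k : K ⟶ G) [IsMonHom k] [IsImmersion k.left]
    (hK : Smooth K.hom ∨ TwC.Locally (Spec (CommRingCat.of R)) TwC.Topology.fpqc (fun S' f => ∃ (M : Type) (_ : AddCommGroup M), Nonempty (Grp.mk (Red.bc f K) ≅ Grp.mk (Red.DS S' M))))
    (hH : TwC.Locally (Spec (CommRingCat.of R)) TwC.Topology.fpqc (fun S' f => ∃ (M : Type) (_ : AddCommGroup M), Nonempty (Grp.mk (Red.bc f H) ≅ Grp.mk (Red.DS S' M))))
    (u : H ⟶ G) [IsMonHom u] (g₀ : (Over.mk (Spec.map (CommRingCat.ofHom (Ideal.Quotient.mk J))) : Over (Spec (CommRingCat.of R))) ⟶ G)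
    (h0 : ∀ (X : Over (Spec (CommRingCat.of R))) (p : X ⟶ (Over.mk (Spec.map (CommRingCat.ofHom (Ideal.Quotient.mk J))) : Over (Spec (CommRingCat.of R)))) (h : X ⟶ H),
      ∃ x : X ⟶ K, (p ≫ g₀) * (h ≫ u) * (p ≫ g₀)⁻¹ = x ≫ k) :
    ∃ g : 𝟙_ (Over (Spec (CommRingCat.of R))) ⟶ G, toUnit (Over.mk (Spec.map (CommRingCat.ofHom (Ideal.Quotient.mk J))) : Over (Spec (CommRingCat.of R))) ≫ g = g₀ ∧
      ∀ (X : Over (Spec (CommRingCat.of R))) (h : X ⟶ H), ∃ x : X ⟶ K, (toUnit X ≫ g) * (h ≫ u) * (toUnit X ≫ g)⁻¹ = x ≫ k := by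
  obtain ⟨_, J', hsq, hnil, ⟨e⟩⟩ := RedPts82.exists_base_red J
  have hred : toUnit _ = e.hom ≫ RedPts82.redMap _ J' := toUnit_unique _ _
  haveI := hG
  haveI : Mono k := Over.mono_of_mono_left k
  let T₀ := RedPts82.redObj (𝟙_ _) J'
  obtain ⟨w₀, hw₀⟩ := h0 (T₀ ⊗ H) (fst _ _ ≫ e.inv) (snd _ _)
  have hw₀' : ∀ (Z : Over (Spec (CommRingCat.of R))) (x : Z ⟶ T₀) (a : Z ⟶ H),
      (lift x a ≫ w₀) ≫ k = (x ≫ e.inv ≫ g₀) * (a ≫ u) * (x ≫ e.inv ≫ g₀)⁻¹ := fun Z x a => by
    rw [Category.assoc, ← hw₀]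
    simp only [MonObj.comp_mul, GrpObj.comp_inv, lift_fst_assoc, lift_snd_assoc, Category.assoc]
  have hm₀ : RedPts82.IsRelMul w₀ := fun Z x a a' => by
    rw [← cancel_mono k, MonObj.mul_comp _ _ k, hw₀', hw₀', hw₀', MonObj.mul_comp _ _ u]
    group
  obtain ⟨w, hw, hwm⟩ : ∃ w : 𝟙_ _ ⊗ H ⟶ K,
      (RedPts82.redMap (𝟙_ _) J' ▷ H) ≫ w = w₀ ∧ RedPts82.IsRelMul w := by
    rcases hK with hK | hK
    · haveI := hK
      exact RedPts82.exists_hom_lift hH _ (hnil hJ) w₀ hm₀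
    · exact RedPts82.exists_mult_hom_lift hH hK _ (hnil hJ) w₀ hm₀
  let v := lift (toUnit H) (𝟙 H) ≫ w
  haveI : IsMonHom v := RedPts82.isMonHom_of_relMul hwm
  obtain ⟨g, hg, h⟩ := RedPts82.exists_conj_lift_nil hH u (v ≫ k) (𝟙_ _) (hnil hJ) (e.inv ≫ g₀)
    (fun Z x a => by
      rw [← hw₀', ← hw, lift_whiskerRight_assoc,
        toUnit_unique (x ≫ RedPts82.redMap (𝟙_ _) J') (toUnit Z)]
      simp [v, comp_lift_assoc])
  refine ⟨g, ?_, fun X a => ⟨a ≫ v, ?_⟩⟩
  · rw [hred, Category.assoc, hg, Iso.hom_inv_id_assoc]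
  · rw [Category.assoc]
    exact h X (toUnit X) a

end Groth.Agent.S5297
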