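import Groth.Statements.S5306
import Groth.Agent.RedPts82.ConjTrans

set_option autoImplicit false
open CategoryTheory MonoidalCategory CartesianMonoidalCategory MonObj GrpObj AlgebraicGeometry
universe u
open SGA3x

namespace Groth.Agent.S5306

/-- (ii) ⇒ (i): Let G be an S-group smooth and affine over S and i₁ : H₁ ⟶ G, i₂ : H₂ ⟶ G two subgroup
schemes of multiplicative type (and of finite type). Suppose that for every s ∈ S, writing s̄ for
the spectrum of an algebraic closure of κ(s), there is a point g of G with values in s̄ such that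
int(g)(H₁) = H₂ on points over s̄. Then H₁ and H₂ are conjugate locally for the etale topology:
every point of S is in the image of an etale S' ⟶ S over which some S'-point of G ×_S S' conjugates
H₁ ×_S S' onto H₂ ×_S S'. -/
theorem result {S : Scheme.{u}} (H₁ H₂ G : Over S) [GrpObj H₁] [GrpObj H₂] [GrpObj G]
    (h₁ : SGA3x.IsMultTypeFT H₁) (h₂ : SGA3x.IsMultTypeFT H₂) (hG : Smooth G.hom) (hGa : IsAffineHom G.hom)
    (i₁ : H₁ ⟶ G) [IsMonHom i₁] [Mono i₁] (i₂ : H₂ ⟶ G) [IsMonHom i₂] [Mono i₂]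
    (hgeom : ∀ s : S, ∃ g : Over.mk (Red.geomPt s) ⟶ G, ∀ (X : Over S) (p : X ⟶ Over.mk (Red.geomPt s)),
      (∀ a : X ⟶ H₁, ∃ b : X ⟶ H₂, (p ≫ g) * (a ≫ i₁) * (p ≫ g)⁻¹ = b ≫ i₂) ∧
      (∀ b : X ⟶ H₂, ∃ a : X ⟶ H₁, (p ≫ g)⁻¹ * (b ≫ i₂) * (p ≫ g) = a ≫ i₁)) :
    TwC.Locally S TwC.Topology.etale (fun S' f => ∃ g : 𝟙_ (Over S') ⟶ Red.bc f G,
      SGA3x.ConjBy ((Over.pullback f).map i₁) ((Over.pullback f).map i₂) g) := by
  haveI := hG
  haveI := hGa
  haveI : IsSeparated G.hom := inferInstance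
  obtain ⟨hc₁, hp₁⟩ := RedPts82.closed_lfp_of_mono h₁ i₁
  obtain ⟨hc₂, hp₂⟩ := RedPts82.closed_lfp_of_mono h₂ i₂
  obtain ⟨C, c, hc, hsm, hC⟩ := RedPts82.exists_smooth_transporterEQ
    (RedPts82.isMultType_of_isMultTypeFT h₁) (RedPts82.isMultType_of_isMultTypeFT h₂) i₁ i₂
  intro s
  obtain ⟨g₀, hg₀⟩ := hgeom s
  obtain ⟨z₀, -⟩ := (hC _ g₀).mpr ⟨fun X x h => (hg₀ X x).1 h, fun X x h => by
    obtain ⟨a, ha⟩ := (hg₀ X x).2 h
    exact ⟨a, by rw [GrpObj.comp_inv, _root_.inv_inv]; exact ha⟩⟩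
  have hpt : Red.geomPt s (IsLocalRing.closedPoint _) = s := by
    exact (Scheme.Hom.comp_apply _ _ _).trans (Scheme.fromSpecResidueField_apply _ _)
  obtain ⟨S', f, hf, hsf, ⟨z⟩⟩ := RedPts82.exists_etale_points (C := C) s
    ⟨z₀.left (IsLocalRing.closedPoint _), by
      rw [← Scheme.Hom.comp_apply, Over.w z₀]; exact hpt⟩
  refine ⟨S', f, hf, hsf, ?_⟩
  let p : (Over.map f).obj (𝟙_ (Over S')) ⟶ Over.mk f :=
    Over.homMk (𝟙 _) ((Category.id_comp _).trans (Category.id_comp _).symm)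
  let g := RedPts82.ofBase f (p ≫ z ≫ c)
  obtain ⟨k₁, k₂⟩ := (hC _ (p ≫ z ≫ c)).mp ⟨p ≫ z, Category.assoc _ _ _⟩
  haveI : Mono ((Over.pullback f).map i₁) := inferInstance
  haveI : Mono ((Over.pullback f).map i₂) := inferInstance
  have hg : ∀ X : Over S', RedPts82.toBase f (toUnit X ≫ g) = (Over.map f).map (toUnit X) ≫ p ≫ z ≫ c :=
    fun X => by rw [RedPts82.toBase_comp, RedPts82.toBase_ofBase]
  obtain ⟨a, ha⟩ := k₁ _ ((Over.map f).map (toUnit (Red.bc f H₁))) (RedPts82.toBase f (𝟙 _))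
  obtain ⟨b, hb⟩ := k₂ _ ((Over.map f).map (toUnit (Red.bc f H₂))) (RedPts82.toBase f (𝟙 _))
  have ha' : RedPts82.ofBase f a ≫ (Over.pullback f).map i₂ =
      (toUnit _ ≫ g) * (Over.pullback f).map i₁ * (toUnit _ ≫ g)⁻¹ := by
    apply RedPts82.toBase_injective f
    rw [RedPts82.toBase_mul, RedPts82.toBase_mul, RedPts82.toBase_inv, hg, RedPts82.toBase_comp_map,
      RedPts82.toBase_ofBase, ← ha, ← RedPts82.toBase_comp_map, Category.id_comp]
  have hb' : RedPts82.ofBase f b ≫ (Over.pullback f).map i₁ =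
      (toUnit _ ≫ g)⁻¹ * (Over.pullback f).map i₂ * (toUnit _ ≫ g) := by
    apply RedPts82.toBase_injective f
    rw [RedPts82.toBase_mul, RedPts82.toBase_mul, RedPts82.toBase_inv, hg, RedPts82.toBase_comp_map,
      RedPts82.toBase_ofBase, ← hb, ← RedPts82.toBase_comp_map, Category.id_comp]
    simp only [GrpObj.comp_inv, _root_.inv_inv]
  refine ⟨g, ⟨RedPts82.ofBase f a, RedPts82.ofBase f b, ?_, ?_⟩, ha'.symm⟩
  · rw [← cancel_mono ((Over.pullback f).map i₁), Category.assoc, hb', MonObj.comp_mul,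
      MonObj.comp_mul, GrpObj.comp_inv, comp_toUnit_assoc, ha', Category.id_comp]
    group
  · rw [← cancel_mono ((Over.pullback f).map i₂), Category.assoc, ha', MonObj.comp_mul,
      MonObj.comp_mul, GrpObj.comp_inv, comp_toUnit_assoc, hb', Category.id_comp]
    group

end Groth.Agent.S5306
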