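import Groth.Statements.S5308
import Groth.Agent.SGA3a.TwConst
import Groth.Agent.Desc59.DescImm
import Mathlib.AlgebraicGeometry.Morphisms.UniversallyOpen

set_option autoImplicit false
open CategoryTheory MonoidalCategory CartesianMonoidalCategory MonObj GrpObj AlgebraicGeometry
universe u
open SGA3x

namespace Groth.Agent.S5308

/-- (i) ⇒ (ii). Let R be a commutative twisted constant S-group which is isotrivial (it becomes a
constant group over the open and closed pieces of one finite etale surjective S' ⟶ S). Then R is a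
union of open and closed subschemes which are quasi-compact, indeed finite, over S: every point of R
has an open and closed neighbourhood U in R with U ⟶ S finite. -/
theorem result {S : Scheme.{u}} (R : Over S) [GrpObj R]
    (hcomm : ∀ (X : Over S) (a b : X ⟶ R), a * b = b * a) (hR : TwC.IsTwConstGrp TwC.Topology.finiteEtale R) (x : R.left) :
    ∃ U : R.left.Opens, x ∈ U ∧ IsClosed (U : Set R.left) ∧ IsFinite (U.ι ≫ R.hom) := by
  obtain ⟨S', f, hf, he, hs, hloc⟩ := hR
  have hR' : TwC.IsTwConst TwC.Topology.fpqc R := by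
    refine ⟨S', f, inferInstance, hs, fun V hV => ⟨f ⁻¹ᵁ V, f.isSpectralMap.2 V.2 hV.isCompact,
      Set.image_preimage_eq _ f.surjective⟩, fun s' => ?_⟩
    obtain ⟨U, hU, -, M, _, e, -⟩ := hloc s'
    exact ⟨U, hU, M, ⟨e⟩⟩
  let q := Limits.pullback.fst R.hom f
  let r := Limits.pullback.snd R.hom f
  have : IsFinite q := inferInstanceAs (IsFinite (Limits.pullback.fst R.hom f))
  have : Etale q := MorphismProperty.pullback_fst _ _ he
  have : Surjective q := MorphismProperty.pullback_fst _ _ hs
  obtain ⟨x', hx'⟩ := q.surjective x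
  obtain ⟨U, hU, hUc, M, _, e, -⟩ := hloc (r.base x')
  let a := U.ι ≫ f
  let P : Limits.pullback R.hom a ⟶ Limits.pullback R.hom f :=
    Limits.pullback.lift (Limits.pullback.fst R.hom a) (Limits.pullback.snd R.hom a ≫ U.ι)
      (by rw [Category.assoc]; exact Limits.pullback.condition)
  have hP : IsPullback P (Limits.pullback.snd R.hom a) r U.ι :=
    IsPullback.of_right (by
      rw [show P ≫ Limits.pullback.fst R.hom f = Limits.pullback.fst R.hom a from Limits.pullback.lift_fst _ _ _]
      exact IsPullback.of_hasPullback R.hom a) (Limits.pullback.lift_snd _ _ _) (IsPullback.of_hasPullback R.hom f)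
  have : IsOpenImmersion P := MorphismProperty.of_isPullback hP.flip inferInstance
  have : IsClosedImmersion U.ι := by
    refine IsClosedImmersion.of_isPreimmersion U.ι ?_
    rw [Scheme.Opens.range_ι]; exact hUc
  have : IsClosedImmersion P := MorphismProperty.of_isPullback hP.flip inferInstance
  have : IsIso e.hom.left := inferInstanceAs (IsIso ((Over.forget _).mapIso e).hom)
  have hx'U : x' ∈ Set.range P.base := by
    rw [Desc59.range_baseChange hP.flip, Scheme.Opens.range_ι]; exact hU
  obtain ⟨y, hy⟩ := hx'U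
  obtain ⟨⟨m, t⟩, hm⟩ := (sigmaMk (fun _ : M => U.toScheme)).surjective (e.hom.left.base y)
  let ιm : U.toScheme ⟶ ∐ fun _ : M => U.toScheme := Limits.Sigma.ι (fun _ : M => U.toScheme) m
  have : IsClosedImmersion ιm := by
    refine IsClosedImmersion.of_isPreimmersion ιm ⟨?_⟩
    have : (Set.range ιm.base)ᶜ = ⋃ i ∈ {i | i ≠ m}, Set.range (Limits.Sigma.ι (fun _ : M => U.toScheme) i).base := by
      ext p
      obtain ⟨⟨i, w⟩, rfl⟩ := (sigmaMk (fun _ : M => U.toScheme)).surjective p
      rw [sigmaMk_mk]
      simp only [Set.mem_compl_iff, Set.mem_range, Set.mem_iUnion, Set.mem_setOf_eq, exists_prop]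
      constructor
      · intro h
        exact ⟨i, fun hi => h (by subst hi; exact ⟨w, rfl⟩), w, rfl⟩
      · rintro ⟨j, hj, v, hv⟩ ⟨u, hu⟩
        exact hj ((congrArg Sigma.fst ((sigmaι_eq_iff _ _ _ _ _).1 hv)).trans
          (congrArg Sigma.fst ((sigmaι_eq_iff _ _ _ _ _).1 hu)).symm)
    rw [this]
    exact isOpen_biUnion fun i _ => (Limits.Sigma.ι (fun _ : M => U.toScheme) i).isOpenEmbedding.isOpen_range
  let c : U.toScheme ⟶ R.left := ιm ≫ e.inv.left ≫ P ≫ q
  have : IsIso e.inv.left := inferInstanceAs (IsIso ((Over.forget _).mapIso e).inv)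
  have : Flat q := inferInstance
  have hco : IsOpenMap c.base := by
    exact q.isOpenMap.comp ((P.isOpenEmbedding.isOpenMap).comp
      ((e.inv.left.isOpenEmbedding.isOpenMap).comp ιm.isOpenEmbedding.isOpenMap))
  have hcc : IsClosedMap c.base := (inferInstance : IsFinite c) |> fun _ => c.isClosedMap
  let W : R.left.Opens := ⟨Set.range c.base, hco.isOpen_range⟩
  have hWc : IsClosed (W : Set R.left) := hcc.isClosed_range
  have hc : c ≫ R.hom = U.ι ≫ f := by
    have h1 : e.inv.left ≫ Limits.pullback.snd R.hom a = Limits.Sigma.desc fun _ : M => 𝟙 U.toScheme := Over.w e.inv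
    have h2 : q ≫ R.hom = r ≫ f := Limits.pullback.condition
    simp only [c, Category.assoc]
    rw [h2, ← Category.assoc P r, hP.w, Category.assoc, ← Category.assoc e.inv.left, h1, ← Category.assoc ιm,
      show ιm ≫ _ = 𝟙 U.toScheme from Limits.Sigma.ι_desc _ _, Category.id_comp]
  have hqc : QuasiCompact (W.ι ≫ R.hom) := by
    refine ⟨fun V hV hVc => ?_⟩
    have hqc' : QuasiCompact (c ≫ R.hom) := hc ▸ inferInstance
    have h1 := ((c ≫ R.hom).isSpectralMap.2 hV hVc).image c.continuous
    refine W.ι.isOpenEmbedding.isEmbedding.isCompact_iff.2 ?_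
    convert h1 using 1
    ext p
    constructor
    · rintro ⟨v, hv, rfl⟩
      obtain ⟨u, hu⟩ := v.2
      have hvV : R.hom.base v.1 ∈ V := hv
      refine ⟨u, ?_, hu⟩
      show R.hom.base (c.base u) ∈ V
      rw [hu]; exact hvV
    · rintro ⟨u, hu, rfl⟩
      exact ⟨⟨c.base u, u, rfl⟩, hu, rfl⟩
  have : IsClosedImmersion W.ι := by
    refine IsClosedImmersion.of_isPreimmersion W.ι ?_
    rw [Scheme.Opens.range_ι]; exact hWc
  refine ⟨W, ⟨t, ?_⟩, hWc, SGA3a.TwConst.isFinite_of_isTwConst R hR' W.ι⟩
  show q.base (P.base (e.inv.left.base (ιm.base t))) = x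
  rw [show ιm.base t = e.hom.left.base y from Eq.trans (sigmaMk_mk (fun _ : M => U.toScheme) m t).symm hm, ← Scheme.Hom.comp_apply e.hom.left,
    ← Over.comp_left, e.hom_inv_id]
  show q.base (P.base y) = x
  rw [hy, hx']

end Groth.Agent.S5308
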