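import Groth.Statements.S5309
import Groth.Agent.Cent38.KrullFam

set_option autoImplicit false
open CategoryTheory MonoidalCategory CartesianMonoidalCategory MonObj GrpObj AlgebraicGeometry
universe u
open CategoryTheory.Limits
open SGA3x

namespace Groth.Agent.S5309

set_option maxHeartbeats 2000000 in
/-- Let S be a Noetherian scheme, f : X ⟶ S quasi-finite (locally quasi-finite, of finite type), and
(X_i) an increasing filtered family of subschemes of X (immersions x_i : X_i ⟶ X indexed by a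
directed preorder, x_i factoring through x_j for i ≤ j) such that for every s ∈ S and every n ≥ 0
there is an index i for which the base change of x_i to Spec (O_{S,s}/𝔪_s^(n+1)) is an isomorphism
onto X ×_S Spec (O_{S,s}/𝔪_s^(n+1)). Then x_i is an isomorphism for some i. -/
theorem result {S X : Scheme.{u}} [IsNoetherian S] (f : X ⟶ S)
    [LocallyQuasiFinite f] [LocallyOfFiniteType f] [QuasiCompact f]
    {D : Type u} [Preorder D] [IsDirected D (fun a b => a ≤ b)] [Nonempty D]
    (Xi : D → Scheme.{u}) (x : ∀ i, Xi i ⟶ X) (hx : ∀ i, IsImmersion (x i))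
    (hmono : ∀ i j, i ≤ j → ∃ t : Xi i ⟶ Xi j, t ≫ x j = x i)
    (h : ∀ (s : S) (n : ℕ), ∃ i : D,
      IsIso (pullback.snd (x i) (pullback.fst f
        (Spec.map (CommRingCat.ofHom (Ideal.Quotient.mk (IsLocalRing.maximalIdeal (S.presheaf.stalk s) ^ (n + 1)))) ≫ S.fromSpecStalk s)))) :
    ∃ i : D, IsIso (x i) := by
  classical
  haveI : IsNoetherian X :=
    haveI := LocallyOfFiniteType.isLocallyNoetherian f
    haveI : CompactSpace X := QuasiCompact.compactSpace_of_compactSpace f
    {}
  -- every thickened point factors through some member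
  have hfac : ∀ (p : X) (n : ℕ), ∃ (i : D)
      (k : Spec (CommRingCat.of (X.presheaf.stalk p ⧸ IsLocalRing.maximalIdeal (X.presheaf.stalk p) ^ (n + 1))) ⟶ Xi i),
      k ≫ x i = Spec.map (CommRingCat.ofHom (Ideal.Quotient.mk _)) ≫ X.fromSpecStalk p := by
    intro p n
    obtain ⟨i, hi⟩ := h (f p) n
    let q := Ideal.quotientMap (IsLocalRing.maximalIdeal (X.presheaf.stalk p) ^ (n + 1)) (f.stalkMap p).hom
      (show IsLocalRing.maximalIdeal (S.presheaf.stalk (f p)) ^ (n + 1) ≤
          (IsLocalRing.maximalIdeal (X.presheaf.stalk p) ^ (n + 1)).comap (f.stalkMap p).hom from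
        Ideal.map_le_iff_le_comap.mp (by
          rw [Ideal.map_pow]
          refine Ideal.pow_right_mono ?_ _
          exact Ideal.map_le_iff_le_comap.mpr fun a ha => (IsLocalRing.mem_maximalIdeal _).mpr fun hu =>
            (IsLocalRing.mem_maximalIdeal a).mp ha (isUnit_of_map_unit (f.stalkMap p).hom a hu)))
    let g := Spec.map (CommRingCat.ofHom (Ideal.Quotient.mk (IsLocalRing.maximalIdeal (X.presheaf.stalk p) ^ (n + 1)))) ≫
      X.fromSpecStalk p
    have hg : g ≫ f = Spec.map (CommRingCat.ofHom q) ≫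
        Spec.map (CommRingCat.ofHom (Ideal.Quotient.mk (IsLocalRing.maximalIdeal (S.presheaf.stalk (f p)) ^ (n + 1)))) ≫
          S.fromSpecStalk (f p) := by
      simp only [g, Category.assoc]
      rw [← Scheme.SpecMap_stalkMap_fromSpecStalk, ← Spec.map_comp_assoc, ← Spec.map_comp_assoc]
      congr 2
    let T := Spec.map (CommRingCat.ofHom (Ideal.Quotient.mk (IsLocalRing.maximalIdeal (S.presheaf.stalk (f p)) ^ (n + 1)))) ≫
      S.fromSpecStalk (f p)
    haveI : IsIso (pullback.snd (x i) (pullback.fst f T)) := hi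
    refine ⟨i, pullback.lift g (Spec.map (CommRingCat.ofHom q)) hg ≫ inv (pullback.snd (x i) (pullback.fst f T)) ≫
      pullback.fst (x i) (pullback.fst f T), ?_⟩
    rw [Category.assoc, Category.assoc, pullback.condition, IsIso.inv_hom_id_assoc, pullback.lift_fst]
    rfl
  -- eventually every point is reached
  have hrange : ∀ i j, i ≤ j → Set.range (x i) ⊆ Set.range (x j) := by
    intro i j hij
    obtain ⟨t, ht⟩ := hmono i j hij
    rintro _ ⟨z, rfl⟩
    exact ⟨t z, by rw [← Scheme.Hom.comp_apply, ht]⟩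
  have hcov : ∀ C : TopologicalSpace.Closeds X, ∃ i, (C : Set X) ⊆ Set.range (x i) := by
    intro C
    induction C using WellFoundedLT.induction with
    | ind C ih =>
      by_cases hne : (C : Set X).Nonempty
      swap
      · exact ⟨Classical.arbitrary D, by rw [Set.not_nonempty_iff_eq_empty.mp hne]; exact Set.empty_subset _⟩
      by_cases hirr : IsPreirreducible (C : Set X)
      · let gp := (IsIrreducible.genericPoint ⟨hne, hirr⟩)
        have hgp : closure ({gp} : Set X) = C := by
          rw [IsIrreducible.genericPoint_closure_eq]; exact C.isClosed.closure_eq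
        obtain ⟨i, k, hk⟩ := hfac gp 0
        have hgpi : gp ∈ Set.range (x i) := by
          haveI : Nontrivial (X.presheaf.stalk gp ⧸ IsLocalRing.maximalIdeal (X.presheaf.stalk gp) ^ (0 + 1)) :=
            Ideal.Quotient.nontrivial_iff.mpr (by simpa using (IsLocalRing.maximalIdeal.isMaximal (X.presheaf.stalk gp)).ne_top)
          let L := X.presheaf.stalk gp
          let mQ : Spec (CommRingCat.of (L ⧸ IsLocalRing.maximalIdeal L ^ (0 + 1))) ⟶ Spec L :=
            Spec.map (CommRingCat.ofHom (Ideal.Quotient.mk _))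
          obtain ⟨z⟩ : Nonempty (PrimeSpectrum (L ⧸ IsLocalRing.maximalIdeal L ^ (0 + 1))) := inferInstance
          have hz : mQ z = IsLocalRing.closedPoint L := by
            refine PrimeSpectrum.ext ((IsLocalRing.maximalIdeal.isMaximal L).eq_of_le ?_ ?_).symm
            · exact (PrimeSpectrum.comap (Ideal.Quotient.mk _) z).isPrime.ne_top
            · intro a ha
              show Ideal.Quotient.mk (IsLocalRing.maximalIdeal L ^ (0 + 1)) a ∈ z.asIdeal
              rw [Ideal.Quotient.eq_zero_iff_mem.mpr (by simpa using ha)]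
              exact zero_mem _
          refine ⟨k z, ?_⟩
          rw [← Scheme.Hom.comp_apply, hk]
          show (mQ ≫ X.fromSpecStalk gp) z = gp
          rw [Scheme.Hom.comp_apply, hz, Scheme.fromSpecStalk_closedPoint]
        haveI := hx i
        obtain ⟨O, K, hO, hK, hOK⟩ := (x i).isLocallyClosed_range
        rw [hOK] at hgpi
        have hCK : (C : Set X) ⊆ K := by
          rw [← hgp]; exact closure_minimal (Set.singleton_subset_iff.mpr hgpi.2) hK
        let C' : TopologicalSpace.Closeds X := ⟨(C : Set X) ∩ Oᶜ, C.isClosed.inter hO.isClosed_compl⟩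
        have hlt : C' < C := by
          refine lt_of_le_of_ne (fun z hz => hz.1) fun e => ?_
          have : gp ∈ C' := by rw [e]; show gp ∈ (C : Set X); rw [← hgp]; exact subset_closure rfl
          exact this.2 hgpi.1
        obtain ⟨j, hj⟩ := ih C' hlt
        obtain ⟨l, hil, hjl⟩ := exists_ge_ge i j
        refine ⟨l, fun z hz => ?_⟩
        by_cases hzO : z ∈ O
        · exact hrange i l hil (hOK ▸ ⟨hzO, hCK hz⟩)
        · exact hrange j l hjl (hj ⟨hz, hzO⟩)
      · rw [isPreirreducible_iff_isClosed_union_isClosed] at hirr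
        push Not at hirr
        obtain ⟨Z₁, Z₂, hZ₁, hZ₂, hsub, h₁, h₂⟩ := hirr
        let C₁ : TopologicalSpace.Closeds X := ⟨(C : Set X) ∩ Z₁, C.isClosed.inter hZ₁⟩
        let C₂ : TopologicalSpace.Closeds X := ⟨(C : Set X) ∩ Z₂, C.isClosed.inter hZ₂⟩
        obtain ⟨i₁, hi₁⟩ := ih C₁ (lt_of_le_of_ne (fun z hz => hz.1) fun e =>
          h₁ fun z hz => (show z ∈ C₁ by rw [e]; exact hz).2)
        obtain ⟨i₂, hi₂⟩ := ih C₂ (lt_of_le_of_ne (fun z hz => hz.1) fun e =>
          h₂ fun z hz => (show z ∈ C₂ by rw [e]; exact hz).2)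
        obtain ⟨l, h₁l, h₂l⟩ := exists_ge_ge i₁ i₂
        exact ⟨l, fun z hz => (hsub hz).elim (fun hz' => hrange _ _ h₁l (hi₁ ⟨hz, hz'⟩))
          (fun hz' => hrange _ _ h₂l (hi₂ ⟨hz, hz'⟩))⟩
  obtain ⟨i₀, hi₀⟩ := hcov ⊤
  have hcl : ∀ i, i₀ ≤ i → IsClosedImmersion (x i) := fun i hi => by
    haveI := hx i
    refine IsClosedImmersion.of_isPreimmersion _ ?_
    rw [Set.eq_univ_of_forall fun z => hrange _ _ hi (hi₀ (Set.mem_univ z))]
    exact isClosed_univ
  -- on affine opens
  have haff : ∀ U : X.affineOpens, ∃ i, i₀ ≤ i ∧ (x i).ker.ideal U = ⊥ := by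
    intro U
    haveI : IsNoetherianRing Γ(X, U) := IsLocallyNoetherian.component_noetherian U
    haveI : Nonempty {i : D // i₀ ≤ i} := ⟨⟨i₀, le_rfl⟩⟩
    haveI : IsDirected {i : D // i₀ ≤ i} (fun a b => a ≤ b) := ⟨fun a b => by
      obtain ⟨c, hac, hbc⟩ := exists_ge_ge a.1 b.1
      exact ⟨⟨c, a.2.trans hac⟩, hac, hbc⟩⟩
    obtain ⟨⟨i, hi⟩, hbot⟩ := Groth.Agent.Cent38.exists_eq_bot_of_krull (fun i : {i : D // i₀ ≤ i} => (x i.1).ker.ideal U)
      (fun i j hij => by
        obtain ⟨t, ht⟩ := hmono i.1 j.1 hij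
        show (x i.1).ker.ideal U ≥ (x j.1).ker.ideal U
        rw [← ht]
        exact Scheme.Hom.le_ker_comp t (x j.1) U)
      (fun P n => by
        let p : X := U.2.fromSpec P
        have hpU : p ∈ U.1 := by
          rw [← SetLike.mem_coe, ← U.2.range_fromSpec]
          exact ⟨P, rfl⟩
        obtain ⟨i, k, hk⟩ := hfac p n
        obtain ⟨l, hil, h0l⟩ := exists_ge_ge i i₀
        obtain ⟨t, ht⟩ := hmono i l hil
        refine ⟨⟨l, h0l⟩, fun a ha => ?_⟩
        haveI := hcl l h0l
        rw [Scheme.Hom.ker_apply, RingHom.mem_ker] at ha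
        let φ : Γ(X, U) ⟶ CommRingCat.of (X.presheaf.stalk p ⧸ IsLocalRing.maximalIdeal (X.presheaf.stalk p) ^ (n + 1)) :=
          X.presheaf.germ U.1 p hpU ≫ CommRingCat.ofHom (Ideal.Quotient.mk _)
        have hg : Spec.map φ ≫ U.2.fromSpec = (k ≫ t) ≫ x l := by
          rw [Category.assoc, ht, hk, ← U.2.fromSpecStalk_eq_fromSpecStalk hpU, IsAffineOpen.fromSpecStalk,
            Spec.map_comp, Category.assoc]
          rfl
        have hφ : φ a = 0 := by
          have e : ⊤ ≤ (Spec.map φ ≫ U.2.fromSpec) ⁻¹ᵁ U.1 := by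
            rw [Scheme.Hom.comp_preimage, IsAffineOpen.fromSpec_preimage_self]
            exact le_rfl
          have key : ∀ g', g' = (k ≫ t) ≫ x l → ∀ e' : ⊤ ≤ g' ⁻¹ᵁ U.1, g'.appLE U.1 ⊤ e' a = 0 := by
            rintro _ rfl e'
            rw [Scheme.Hom.comp_appLE, CommRingCat.comp_apply, ha, map_zero]
          have h1 := key _ hg e
          have h2 : (Spec.map φ ≫ U.2.fromSpec).appLE U.1 ⊤ e = φ ≫ (Scheme.ΓSpecIso _).inv := by
            rw [Scheme.Hom.appLE, Scheme.Hom.comp_app, IsAffineOpen.fromSpec_app_self, Scheme.ΓSpecIso_inv_naturality]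
            simp only [Category.assoc, ← Scheme.Hom.appLE_eq_app, Scheme.Hom.map_appLE, Scheme.Hom.appLE_map]
            rfl
          rw [h2] at h1
          exact (map_eq_zero_iff _ (Scheme.ΓSpecIso _).commRingCatIsoToRingEquiv.symm.injective).mp h1
        letI := (X.presheaf.germ U.1 p hpU).hom.toAlgebra
        haveI : IsLocalization.AtPrime (X.presheaf.stalk p) P.asIdeal := U.2.isLocalization_stalk' P hpU
        have h3 : X.presheaf.germ U.1 p hpU a ∈
            (P.asIdeal ^ (n + 1)).map (algebraMap Γ(X, U) (X.presheaf.stalk p)) := by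
          rw [Ideal.map_pow, IsLocalization.AtPrime.map_eq_maximalIdeal P.asIdeal (X.presheaf.stalk p)]
          exact Ideal.Quotient.eq_zero_iff_mem.mp hφ
        obtain ⟨s, hs, hsa⟩ := (IsLocalization.algebraMap_mem_map_algebraMap_iff P.asIdeal.primeCompl _ _ _).mp h3
        exact ⟨s, hs, hsa⟩)
    exact ⟨i, hi, hbot⟩
  choose g hg₀ hg using haff
  obtain ⟨T, hT⟩ := isCompact_univ.elim_finite_subcover (fun U : X.affineOpens => (U.1 : Set X))
    (fun U => U.1.2) fun z _ => by
      obtain ⟨U, hU, hzU, -⟩ := exists_isAffineOpen_mem_and_subset (x := z) (U := (⊤ : X.Opens)) trivial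
      exact Set.mem_iUnion.mpr ⟨⟨U, hU⟩, hzU⟩
  obtain ⟨l, hl⟩ := Finset.exists_le (insert i₀ (T.image g))
  haveI := hcl l (hl _ (Finset.mem_insert_self _ _))
  refine ⟨l, IsClosedImmersion.isIso_iff_ker_eq_bot.mpr
    (Scheme.IdealSheafData.ext_of_iSup_eq_top (fun U : T => U.1) ?_ fun U => ?_)⟩
  · refine eq_top_iff.mpr fun z _ => ?_
    obtain ⟨U, hU, hzU⟩ := Set.mem_iUnion₂.mp (hT (Set.mem_univ z))
    exact TopologicalSpace.Opens.mem_iSup.mpr ⟨⟨U, hU⟩, hzU⟩
  · obtain ⟨t, ht⟩ := hmono (g U.1) l (hl _ (Finset.mem_insert_of_mem (Finset.mem_image_of_mem _ U.2)))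
    refine le_antisymm ?_ (by simp)
    rw [Scheme.IdealSheafData.ideal_bot]
    show (x l).ker.ideal U.1 ≤ ⊥
    rw [← hg U.1, ← ht]
    exact Scheme.Hom.le_ker_comp t (x l) U.1

end Groth.Agent.S5309
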