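import Groth.Statements.S5310
import Groth.Agent.SGA3a.GrpLocus

set_option autoImplicit false
universe u
open CategoryTheory CategoryTheory.Limits MonoidalCategory CartesianMonoidalCategory MonObj GrpObj AlgebraicGeometry
open SGA3

namespace Groth.Agent.S5310

/-- Let u : G → H be a homomorphism of S-group schemes, with G or H flat over S and G or H locally of
finite presentation over S. Let P be one of the properties 'flat and locally of finite
presentation', 'smooth', 'etale', and let V be the largest open subscheme of G on which the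
restriction of u has P. Then the image U of V in S is open and V is an open subgroup scheme of G
over U: V contains the unit point of every fibre of G that it meets, V is stable under the inversion
of G, and the product of a point of G ×_S G whose two projections lie in V lies in V. -/
theorem result (S : Scheme.{u}) (G H : Over S) [GrpObj G] [GrpObj H]
    (u : G ⟶ H) [IsMonHom u]
    (hfl : Flat G.hom ∨ Flat H.hom) (hfp : LocallyOfFinitePresentation G.hom ∨ LocallyOfFinitePresentation H.hom)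
    (P : MorphismProperty Scheme.{u})
    (hP : (∀ (X Y : Scheme.{u}) (f : X ⟶ Y), P f ↔ (Flat f ∧ LocallyOfFinitePresentation f)) ∨
      (∀ (X Y : Scheme.{u}) (f : X ⟶ Y), P f ↔ Smooth f) ∨ (∀ (X Y : Scheme.{u}) (f : X ⟶ Y), P f ↔ Etale f))
    (V : G.left.Opens) (hV : P (V.ι ≫ u.left)) (hmax : ∀ W : G.left.Opens, P (W.ι ≫ u.left) → W ≤ V) :
    IsOpen (G.hom.base '' (V : Set G.left)) ∧
    (∀ g ∈ V, ∀ p : ↥(𝟙_ (Over S)).left, (𝟙_ (Over S)).hom.base p = G.hom.base g → η[G].left.base p ∈ V) ∧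
    (∀ g ∈ V, ι[G].left.base g ∈ V) ∧
    (∀ z : ↥(G ⊗ G).left, (fst G G).left.base z ∈ V → (snd G G).left.base z ∈ V → μ[G].left.base z ∈ V) := by
  have hflV : Flat (V.ι ≫ G.hom) ∧ LocallyOfFinitePresentation (V.ι ≫ G.hom) := by
    have hVu : Flat (V.ι ≫ u.left) ∧ LocallyOfFinitePresentation (V.ι ≫ u.left) := by
      rcases hP with h | h | h
      · exact (h _ _ _).1 hV
      · have := (h _ _ _).1 hV; exact ⟨inferInstance, inferInstance⟩
      · have := (h _ _ _).1 hV; exact ⟨inferInstance, inferInstance⟩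
    obtain ⟨_, _⟩ := hVu
    have e : V.ι ≫ G.hom = (V.ι ≫ u.left) ≫ H.hom := by rw [Category.assoc, Over.w]
    exact ⟨hfl.elim (fun _ => inferInstance) (fun _ => by rw [e]; infer_instance),
      hfp.elim (fun _ => inferInstance) (fun _ => by rw [e]; infer_instance)⟩
  obtain ⟨_, _⟩ := hflV
  let T : Over S := Over.mk (V.ι ≫ G.hom)
  let ψ : T ⟶ G := Over.homMk V.ι rfl
  have : IsOpenImmersion ψ.left := inferInstanceAs (IsOpenImmersion V.ι)
  have hT : SGA3a.NearLocus.FlatFP T.hom :=
    ⟨(inferInstance : Flat (V.ι ≫ G.hom)), (inferInstance : LocallyOfFinitePresentation (V.ι ≫ G.hom))⟩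
  obtain ⟨P₀, hst, hd, hPP⟩ : ∃ P₀ : MorphismProperty Scheme.{u}, P₀.IsStableUnderBaseChange ∧
      SGA3a.NearLocus.DescPt.{u} P₀ SGA3a.NearLocus.FlatFP ⊤ ∧ ∀ (X Y : Scheme.{u}) (f : X ⟶ Y), P₀ f ↔ P f := by
    rcases hP with h | h | h
    · exact ⟨_, inferInstance, SGA3a.NearLocus.descPt_flatFP, fun X Y f => (h X Y f).symm⟩
    · exact ⟨_, inferInstance, SGA3a.NearLocus.descPt_smooth, fun X Y f => (h X Y f).symm⟩
    · exact ⟨_, inferInstance, SGA3a.NearLocus.descPt_etale, fun X Y f => (h X Y f).symm⟩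
  have hmem : ∀ x : G.left, SGA3a.NearLocus.Near P₀ u.left x ↔ x ∈ V := fun x =>
    (SGA3a.NearLocus.near_congr hPP).trans (SGA3a.NearLocus.near_iff_mem_of_max u.left hV hmax x)
  have hunit : ∀ g ∈ V, η[G].left.base (G.hom.base g) ∈ V := fun g hg =>
    (hmem _).1 ((SGA3a.GrpLocus.near_unit_iff hd u trivial ψ hT ⟨g, hg⟩).2 ((hmem _).2 hg))
  refine ⟨?_, fun g hg p hp => ?_, fun g hg => ?_, fun z h1 h2 => ?_⟩
  · have h := (Scheme.Hom.isOpenMap (V.ι ≫ G.hom)).isOpen_range
    rwa [Scheme.Hom.comp_base, TopCat.coe_comp, Set.range_comp, Scheme.Opens.range_ι] at h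
  · obtain rfl : p = G.hom.base g := hp
    exact hunit g hg
  · exact (hmem _).1 ((SGA3a.GrpLocus.near_unit_iff_inv hd u trivial ψ hT ⟨g, hg⟩).1 ((hmem _).2 (hunit g hg)))
  · exact (hmem _).1 ((SGA3a.GrpLocus.near_mul_of_mem hd u trivial ψ hT z ⟨⟨_, h1⟩, rfl⟩).1 ((hmem _).2 h2))

end Groth.Agent.S5310
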