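import Groth.Statements.S5311
import Groth.Agent.SGA3a.GrpLocus

set_option autoImplicit false
universe u
open CategoryTheory CategoryTheory.Limits MonoidalCategory CartesianMonoidalCategory MonObj GrpObj AlgebraicGeometry
open SGA3

namespace Groth.Agent.S5311

/-- Let u : G → H be a homomorphism of S-group schemes with G or H universally open over S, and let V be
the largest open subscheme of G on which the restriction of u is universally open. Then the image U
of V in S is open and V is an open subgroup scheme of G over U: V contains the unit point of every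
fibre of G that it meets, V is stable under the inversion of G, and the product of a point of G ×_S
G whose two projections lie in V lies in V. -/
theorem result (S : Scheme.{u}) (G H : Over S) [GrpObj G] [GrpObj H]
    (u : G ⟶ H) [IsMonHom u] (hG : UniversallyOpen G.hom ∨ UniversallyOpen H.hom)
    (V : G.left.Opens) (hV : UniversallyOpen (V.ι ≫ u.left))
    (hmax : ∀ W : G.left.Opens, UniversallyOpen (W.ι ≫ u.left) → W ≤ V) :
    IsOpen (G.hom.base '' (V : Set G.left)) ∧
    (∀ g ∈ V, ∀ p : ↥(𝟙_ (Over S)).left, (𝟙_ (Over S)).hom.base p = G.hom.base g → η[G].left.base p ∈ V) ∧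
    (∀ g ∈ V, ι[G].left.base g ∈ V) ∧
    (∀ z : ↥(G ⊗ G).left, (fst G G).left.base z ∈ V → (snd G G).left.base z ∈ V → μ[G].left.base z ∈ V) := by
  have hT' : UniversallyOpen (V.ι ≫ G.hom) := by
    rcases hG with h | h
    · infer_instance
    · have e : V.ι ≫ G.hom = (V.ι ≫ u.left) ≫ H.hom := by rw [Category.assoc, Over.w]
      rw [e]; infer_instance
  let T : Over S := Over.mk (V.ι ≫ G.hom)
  let ψ : T ⟶ G := Over.homMk V.ι rfl
  have : IsOpenImmersion ψ.left := inferInstanceAs (IsOpenImmersion V.ι)
  have hT : UniversallyOpen T.hom := hT'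
  have hd : SGA3a.NearLocus.DescPt.{u} @UniversallyOpen @UniversallyOpen ⊤ := SGA3a.NearLocus.descPt_universallyOpen
  have hmem : ∀ x : G.left, SGA3a.NearLocus.Near @UniversallyOpen u.left x ↔ x ∈ V :=
    SGA3a.NearLocus.near_iff_mem_of_max u.left hV hmax
  have hunit : ∀ g ∈ V, η[G].left.base (G.hom.base g) ∈ V := fun g hg =>
    (hmem _).1 ((SGA3a.GrpLocus.near_unit_iff hd u trivial ψ hT ⟨g, hg⟩).2 ((hmem _).2 hg))
  refine ⟨?_, fun g hg p hp => ?_, fun g hg => ?_, fun z h1 h2 => ?_⟩
  · have h := (Scheme.Hom.isOpenMap (V.ι ≫ G.hom)).isOpen_range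
    rwa [Scheme.Hom.comp_base, TopCat.coe_comp, Set.range_comp, Scheme.Opens.range_ι] at h
  · obtain rfl : p = G.hom.base g := hp
    exact hunit g hg
  · exact (hmem _).1 ((SGA3a.GrpLocus.near_unit_iff_inv hd u trivial ψ hT ⟨g, hg⟩).1 ((hmem _).2 (hunit g hg)))
  · exact (hmem _).1 ((SGA3a.GrpLocus.near_mul_of_mem hd u trivial ψ hT z ⟨⟨_, h1⟩, rfl⟩).1 ((hmem _).2 h2))

end Groth.Agent.S5311
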