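import Groth.Statements.S5317
import Groth.Agent.SGA3a.GrpFibreFlat
import Groth.Agent.Sga84.Epi

set_option autoImplicit false
universe u
open CategoryTheory CategoryTheory.Limits MonoidalCategory CartesianMonoidalCategory MonObj GrpObj AlgebraicGeometry
open SGA3

namespace Groth.Agent.S5317

/-- Let u : G → H be a homomorphism of S-group schemes which is universally injective (for instance a
monomorphism), with G flat and locally of finite presentation over S and H locally of finite type
over S. Then the set U of points s of S such that u_s : G_s → H_s is an open immersion is open in S,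
and the restriction of u over every open of S contained in U is an open immersion. -/
theorem result (S : Scheme.{u}) (G H : Over S) [GrpObj G] [GrpObj H]
    (u : G ⟶ H) [IsMonHom u] [UniversallyInjective u.left]
    [Flat G.hom] [LocallyOfFinitePresentation G.hom] [LocallyOfFiniteType H.hom] :
    IsOpen {s : S | IsOpenImmersion ((Over.pullback (S.fromSpecResidueField s)).map u).left} ∧
    ∀ W : S.Opens, (W : Set S) ⊆ {s : S | IsOpenImmersion ((Over.pullback (S.fromSpecResidueField s)).map u).left} → IsOpenImmersion ((G.hom ⁻¹ᵁ W).ι ≫ u.left) := by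
  have key : ∀ s : S, IsOpenImmersion ((Over.pullback (S.fromSpecResidueField s)).map u).left ↔
      SGA3a.NearLocus.Near (@Etale) u.left (η[G].left.base s) := fun s => by
    rw [← SGA3a.GrpLocus.etale_fibre_iff u]
    refine ⟨fun _ => inferInstance, fun _ => ?_⟩
    have : UniversallyInjective ((Over.pullback (S.fromSpecResidueField s)).map u).left :=
      MorphismProperty.of_isPullback (SGA3a.GrpLocus.isPullback_pullback_map (S.fromSpecResidueField s) u) ‹_›
    exact Sga84.isOpenImmersion_of_etale _
  simp only [key]
  refine ⟨(SGA3a.NearLocus.isOpen_setOf_near (P := (@Etale : MorphismProperty Scheme.{u})) u.left).preimage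
    η[G].left.continuous, fun W hW => ?_⟩
  have : UniversallyInjective (G.hom ⁻¹ᵁ W).ι := inferInstance
  have : UniversallyInjective ((G.hom ⁻¹ᵁ W).ι ≫ u.left) :=
    MorphismProperty.comp_mem _ _ _ ‹UniversallyInjective (G.hom ⁻¹ᵁ W).ι› ‹_›
  have : Etale ((G.hom ⁻¹ᵁ W).ι ≫ u.left) := SGA3a.NearLocus.of_forall_near _ fun x =>
    (SGA3a.NearLocus.near_comp_iff _ u.left x).2
      ((SGA3a.GrpLocus.near_iff_near_unit' u SGA3a.NearLocus.descPt_etale x.1).2 (hW x.2))
  exact Sga84.isOpenImmersion_of_etale _

end Groth.Agent.S5317
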