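import Groth.Statements.S5318
import Groth.Agent.SGA3a.ArtinianPt
import Groth.Agent.SGA3a.GrpFibreFlat
import Groth.Agent.AlgGrp79.Pullback

set_option autoImplicit false
universe u
open CategoryTheory CategoryTheory.Limits MonoidalCategory CartesianMonoidalCategory MonObj GrpObj AlgebraicGeometry
open SGA3

namespace Groth.Agent.S5318

/-- (ii) ⟺ (iii) and, for G locally of finite presentation over S, (ii) ⟺ (iv): let G be an S-group
scheme. The unit section of G is an open immersion if and only if G is locally of finite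
presentation over S on some open containing the unit section and every fibre G_s is unramified
(formally unramified and locally of finite presentation) over κ(s). If G is locally of finite
presentation over S, the unit section is an open immersion if and only if G is unramified over S. -/
theorem result (S : Scheme.{u}) (G : Over S) [GrpObj G] :
    (IsOpenImmersion η[G].left ↔
      ((∃ W : G.left.Opens, (∀ p : ↥(𝟙_ (Over S)).left, η[G].left.base p ∈ W) ∧ LocallyOfFinitePresentation (W.ι ≫ G.hom)) ∧
        ∀ s : S, FormallyUnramified (G.hom.fiberToSpecResidueField s) ∧ LocallyOfFinitePresentation (G.hom.fiberToSpecResidueField s))) ∧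
    (LocallyOfFinitePresentation G.hom → (IsOpenImmersion η[G].left ↔ FormallyUnramified G.hom)) := by
  have hid : η[G].left ≫ G.hom = 𝟙 S := Over.w η[G]
  have hfu : ∀ s : S, ∃ w, (pullback.fst G.hom (S.fromSpecResidueField s)).base w = η[G].left.base s := fun s => by
    have hs : G.hom.base (η[G].left.base s) = s := by rw [← Scheme.Hom.comp_apply, hid]; rfl
    obtain ⟨w, hw, -⟩ := Scheme.Pullback.exists_preimage_pullback (f := G.hom) (g := S.fromSpecResidueField s)
      (η[G].left.base s) (default : Spec (S.residueField s)) (hs.trans (Scheme.fromSpecResidueField_apply s _).symm)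
    exact ⟨w, hw⟩
  refine ⟨⟨fun h => ?_, fun ⟨⟨W, hW, hWp⟩, hfib⟩ => ?_⟩, fun _ => ⟨fun h => ?_, fun h => ?_⟩⟩
  · let W := η[G].left.opensRange
    have hWp : LocallyOfFinitePresentation (W.ι ≫ G.hom) := by
      have e : W.ι ≫ G.hom = η[G].left.isoOpensRange.inv ≫ η[G].left ≫ G.hom := by
        rw [Scheme.Hom.isoOpensRange_inv_comp_assoc]
      rw [e, hid]
      exact (MorphismProperty.cancel_left_of_respectsIso @LocallyOfFinitePresentation _ _).2
        (inferInstanceAs (LocallyOfFinitePresentation (𝟙 S)))
    refine ⟨⟨W, fun p => ⟨p, rfl⟩, hWp⟩, fun s => ?_⟩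
    let Gs := SGA3a.bcO (S.fromSpecResidueField s) G
    let iGs : GrpObj Gs := Functor.grpObjObj
    have hsq : IsPullback (SGA3a.prO (S.fromSpecResidueField s) G) Gs.hom G.hom (S.fromSpecResidueField s) :=
      IsPullback.of_hasPullback G.hom _
    obtain ⟨w, hw⟩ := hfu s
    have hwW : (SGA3a.prO (S.fromSpecResidueField s) G).base w ∈ W := ⟨s, hw.symm⟩
    have hl : LocallyOfFiniteType Gs.hom := @SGA3a.LftFieldDesc.locallyOfFiniteType_of_near _ _ Gs iGs w
      (SGA3a.NearLocus.near_map hsq ⟨W, hwW, inferInstance⟩)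
    have hp : LocallyOfFinitePresentation Gs.hom := inferInstance
    refine ⟨SGA3a.NearLocus.of_forall_near (P := (@FormallyUnramified : MorphismProperty Scheme.{u})) Gs.hom fun x => ?_, hp⟩
    have hn : SGA3a.NearLocus.Near @FormallyUnramified Gs.hom w := by
      refine SGA3a.NearLocus.near_map hsq ⟨W, hwW, ?_⟩
      have e : W.ι ≫ G.hom = η[G].left.isoOpensRange.inv ≫ η[G].left ≫ G.hom := by
        rw [Scheme.Hom.isoOpensRange_inv_comp_assoc]
      rw [e, hid]
      exact (MorphismProperty.cancel_left_of_respectsIso @FormallyUnramified _ _).2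
        (inferInstanceAs (FormallyUnramified (𝟙 S)))
    have hd := @SGA3a.NearLocus.descPt_formallyUnramified.{u}
    have hR : LocallyOfFinitePresentation (toUnit Gs).left := by rw [Over.toUnit_left]; exact hp
    rw [← Over.toUnit_left] at hn ⊢
    rw [SGA3a.GrpLocus.near_iff_near_unit hd (toUnit Gs) hR,
      show Gs.hom.base x = Gs.hom.base w from Subsingleton.elim (α := PrimeSpectrum (S.residueField s)) _ _,
      ← SGA3a.GrpLocus.near_iff_near_unit hd (toUnit Gs) hR]
    exact hn
  · let W₂ : G.left.Opens :=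
      W ⊓ ⟨{x | SGA3a.NearLocus.Near @FormallyUnramified G.hom x}, SGA3a.NearLocus.isOpen_setOf_near G.hom⟩
    have hmem : ∀ s : S, η[G].left.base s ∈ W₂ := fun s => by
      refine ⟨hW s, ?_⟩
      obtain ⟨w, hw⟩ := hfu s
      have hwW : (pullback.fst G.hom (S.fromSpecResidueField s)).base w ∈ W := by rw [hw]; exact hW s
      have hsq := (isPullback_morphismRestrict (pullback.fst G.hom (S.fromSpecResidueField s)) W).paste_vert
        (IsPullback.of_hasPullback G.hom (S.fromSpecResidueField s))
      have hFU : FormallyUnramified (pullback.snd G.hom (S.fromSpecResidueField s)) := (hfib s).1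
      have h1 := SGA3a.NearLocus.descPt_formallyUnramified hsq trivial hWp ⟨w, hwW⟩
        ((SGA3a.NearLocus.near_comp_iff (pullback.fst G.hom (S.fromSpecResidueField s) ⁻¹ᵁ W).ι _ ⟨w, hwW⟩).2 (SGA3a.NearLocus.near_of_prop hFU w))
      show SGA3a.NearLocus.Near @FormallyUnramified G.hom _
      rw [← hw]
      have h2 := (SGA3a.NearLocus.near_comp_iff W.ι G.hom _).1 h1
      rwa [← Scheme.Hom.comp_apply, morphismRestrict_ι] at h2
    have h1 : FormallyUnramified (W₂.ι ≫ G.hom) :=
      SGA3a.NearLocus.of_forall_near _ fun x => (SGA3a.NearLocus.near_comp_iff W₂.ι G.hom x).2 x.2.2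
    have h2 : LocallyOfFinitePresentation (W₂.ι ≫ G.hom) := by
      rw [← Scheme.homOfLE_ι G.left (inf_le_left : W₂ ≤ W), Category.assoc]; infer_instance
    let σ : S ⟶ W₂ := IsOpenImmersion.lift W₂.ι η[G].left (by
      rw [Scheme.Opens.range_ι]; rintro _ ⟨s, rfl⟩; exact hmem s)
    have hσ : σ ≫ W₂.ι ≫ G.hom = 𝟙 S := by rw [IsOpenImmersion.lift_fac_assoc]; exact hid
    have : Etale (σ ≫ W₂.ι ≫ G.hom) := by rw [hσ]; infer_instance
    have : Etale σ := Etale.of_comp σ (W₂.ι ≫ G.hom)
    have : Mono (σ ≫ W₂.ι ≫ G.hom) := by rw [hσ]; infer_instance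
    have : Mono σ := mono_of_mono σ (W₂.ι ≫ G.hom)
    have hσo : IsOpenImmersion σ := IsOpenImmersion.of_flat_of_mono σ
    have : IsOpenImmersion (σ ≫ W₂.ι) := inferInstance
    rwa [IsOpenImmersion.lift_fac] at this
  · have := (AlgGrp79.prop_diagonal_iff_unit (P := @IsOpenImmersion) G).2 h
    infer_instance
  · exact AlgGrp79.prop_diagonal_iff_unit (P := @IsOpenImmersion) G |>.1 inferInstance

end Groth.Agent.S5318
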