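import Groth.Statements.S5319
import Groth.Agent.SGA3a.GrpFibreLocus

set_option autoImplicit false
universe u
open CategoryTheory CategoryTheory.Limits MonoidalCategory CartesianMonoidalCategory MonObj GrpObj AlgebraicGeometry
open SGA3

namespace Groth.Agent.S5319

/-- Let u : G → H be a homomorphism of S-group schemes which is locally of finite type, with every fibre
G_s locally of finite type over κ(s), and let i : K → G be the kernel of u (the square i, u, unit of
H is cartesian). The following are equivalent: u is locally quasi-finite; every fibre u_s : G_s →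
H_s is locally quasi-finite; K is locally quasi-finite over S; every fibre of K over S is a discrete
space. -/
theorem result (S : Scheme.{u}) (G H : Over S) [GrpObj G] [GrpObj H] (u : G ⟶ H) [IsMonHom u]
    [LocallyOfFiniteType u.left] (hG : ∀ s : S, LocallyOfFiniteType (G.hom.fiberToSpecResidueField s)) (K : Over S) [GrpObj K] (i : K ⟶ G) [IsMonHom i] (hK : AlgGrp.IsKernel i u) :
    (LocallyQuasiFinite u.left ↔ ∀ s : S, LocallyQuasiFinite ((Over.pullback (S.fromSpecResidueField s)).map u).left) ∧
    (LocallyQuasiFinite u.left ↔ LocallyQuasiFinite K.hom) ∧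
    (LocallyQuasiFinite u.left ↔ ∀ s : S, DiscreteTopology ↥(K.hom.base ⁻¹' {s})) := by
  have hd := @SGA3a.NearLocus.descPt_locallyQuasiFinite.{u}
  have hk : LocallyQuasiFinite u.left ↔ LocallyQuasiFinite K.hom :=
    SGA3a.GrpLocus.prop_iff_kernel hd u ‹_› i hK
  refine ⟨SGA3a.GrpLocus.prop_iff_forall_fibre hd u ‹_›, hk, hk.trans ?_⟩
  have hp : IsPullback i.left (toUnit K).left u.left η[H].left := IsPullback.map (Over.forget S) hK
  rw [Over.toUnit_left] at hp
  have : LocallyOfFiniteType K.hom := MorphismProperty.of_isPullback hp ‹_›
  rw [locallyQuasiFinite_iff_isDiscrete_preimage_singleton]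
  exact forall_congr' fun s => isDiscrete_iff_discreteTopology

end Groth.Agent.S5319
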