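import Groth.Statements.S5326
import Groth.Agent.CAlg6.TopFactor
import Groth.Agent.CAlg6.NeutralCons
import Groth.Agent.FlatMor67.IsoLocus
import Groth.Agent.ConsPts12.Cons
-- import your own Groth.Agent.* helpers here

set_option autoImplicit false
universe u
open CategoryTheory CategoryTheory.Limits MonoidalCategory CartesianMonoidalCategory MonObj GrpObj AlgebraicGeometry
open SGA3

namespace Groth.Agent.S5326

/-- Let G be an S-group scheme locally of finite presentation over S, and suppose the neutral component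
subfunctor of G is representable: there is a monomorphism i : G⁰ → G of S-schemes such that a point
g : T → G factors through i exactly when the image of the underlying map of g lies in the union of
the neutral components of the fibres G_s. Then i is an open immersion and G⁰ is quasi-compact over
S. -/
theorem result (S : Scheme.{u}) (G : Over S) [GrpObj G]
    [LocallyOfFinitePresentation G.hom] (G0 : Over S) (i : G0 ⟶ G) [Mono i]
    (hrep : ∀ (T : Over S) (g : T ⟶ G), (∃ z : T ⟶ G0, z ≫ i = g) ↔ Set.range g.left.base ⊆ SGA3x.neutralSet G) :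
    IsOpenImmersion i.left ∧ QuasiCompact G0.hom := by
  haveI : Mono i.left := inferInstanceAs (Mono ((Over.forget S).map i))
  have h : ∀ (T : Scheme.{u}) (g : T ⟶ G.left), (∃ z, z ≫ i.left = g) ↔ Set.range g ⊆ SGA3x.neutralSet G := by
    intro T g
    refine Iff.trans ?_ (hrep (Over.mk (g ≫ G.hom)) (Over.homMk g rfl))
    constructor
    · rintro ⟨z, hz⟩
      exact ⟨Over.homMk z (by
        show z ≫ G0.hom = g ≫ G.hom
        rw [← hz, Category.assoc, Over.w i]), Over.OverMorphism.ext hz⟩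
    · rintro ⟨z, hz⟩
      exact ⟨z.left, congrArg CommaMorphism.left hz⟩
  haveI := CAlg6.TopFactor.etale _ i.left (CAlg6.NeutralCons.isIndConstructible G) h
  haveI : IsOpenImmersion i.left := IsOpenImmersion.of_flat_of_mono i.left
  have hr : Set.range i.left = SGA3x.neutralSet G := CAlg6.TopFactor.range_eq _ i.left h
  refine ⟨inferInstance, ?_⟩
  choose V hsV hV P m C hP1 hP2 hm hC heq hrange using CAlg6.NeutralCons.exists_local G
  refine quasiCompact_iff_forall_isAffineOpen.2 fun A hA => ?_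
  have key : IsCompact (SGA3x.neutralSet G ∩ G.hom ⁻¹' (A : Set S)) := by
    have hloc : ∀ s ∈ (A : Set S), ∃ B : Set S, IsOpen B ∧ s ∈ B ∧ IsCompact B ∧ B ⊆ (V s : Set S) ∧ B ⊆ A := fun s hs => by
      obtain ⟨_, ⟨B, hB, rfl⟩, hsB, hBA⟩ := S.isBasis_affineOpens.exists_subset_of_mem_open
        (show s ∈ ((V s ⊓ A : S.Opens) : Set S) from ⟨hsV s, hs⟩) (V s ⊓ A).isOpen
      exact ⟨B, B.isOpen, hsB, hB.isCompact, fun x hx => (hBA hx).1, fun x hx => (hBA hx).2⟩
    choose B hBo hsB hBc hBV hBA using hloc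
    obtain ⟨t, ht⟩ := hA.isCompact.elim_finite_subcover (fun s : (A : Set S) => B s.1 s.2) (fun s => hBo _ _)
      (fun x hx => Set.mem_iUnion.2 ⟨⟨x, hx⟩, hsB x hx⟩)
    have : SGA3x.neutralSet G ∩ G.hom ⁻¹' (A : Set S) =
        ⋃ s ∈ t, m s.1 '' (C s.1 ∩ (m s.1 ≫ G.hom) ⁻¹' B s.1 s.2) := by
      ext x
      simp only [Set.mem_iUnion, exists_prop]
      constructor
      · rintro ⟨hx, hxA⟩
        obtain ⟨s, hst, hxs⟩ := Set.mem_iUnion₂.1 (ht hxA)
        obtain ⟨q, hq, rfl⟩ := (heq s.1).ge ⟨hx, hBV _ _ hxs⟩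
        exact ⟨s, hst, q, ⟨hq, hxs⟩, rfl⟩
      · rintro ⟨s, -, q, ⟨hq, hqB⟩, rfl⟩
        exact ⟨((heq s.1).le ⟨q, hq, rfl⟩).1, hBA _ _ hqB⟩
    rw [this]
    refine t.isCompact_biUnion fun s _ => IsCompact.image ?_ (m s.1).continuous
    haveI := hP1 s.1
    haveI := hP2 s.1
    let Bo : S.Opens := ⟨B s.1 s.2, hBo _ _⟩
    haveI : IsAffine (V s.1).toScheme := hV s.1
    haveI : CompactSpace (P s.1) := hP1 s.1
    let mV : P s.1 ⟶ (V s.1).toScheme := IsOpenImmersion.lift (V s.1).ι (m s.1 ≫ G.hom) (by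
      rw [Scheme.Opens.range_ι]
      rintro _ ⟨q, rfl⟩
      exact hrange s.1 ⟨q, rfl⟩)
    haveI : QuasiCompact mV := quasiCompact_of_compactSpace mV
    have hpre : (m s.1 ≫ G.hom) ⁻¹' B s.1 s.2 = mV ⁻¹' ((V s.1).ι ⁻¹' (Bo : Set S)) := by
      rw [← Set.preimage_comp, ← TopCat.coe_comp, ← Scheme.Hom.comp_base, IsOpenImmersion.lift_fac]
      rfl
    have hBop : IsCompact ((m s.1 ≫ G.hom) ⁻¹' B s.1 s.2) := by
      rw [hpre]
      refine mV.isSpectralMap.2 (Bo.isOpen.preimage (V s.1).ι.continuous) ?_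
      rw [(V s.1).ι.isOpenEmbedding.isInducing.isCompact_iff, Set.image_preimage_eq_of_subset]
      · exact hBc _ _
      · rw [Scheme.Opens.range_ι]; exact hBV _ _
    obtain ⟨T, hTf, hTa, hTc⟩ := ConsPts12.exists_finite_affine_cover (P s.1) hBop
    have h2 : C s.1 ∩ (m s.1 ≫ G.hom) ⁻¹' B s.1 s.2 =
        ⋃ U ∈ T, U.ι '' (U.ι ⁻¹' (C s.1 ∩ (m s.1 ≫ G.hom) ⁻¹' B s.1 s.2)) := by
      ext x
      simp only [Set.mem_iUnion, exists_prop]
      refine ⟨fun hx => ?_, fun ⟨U, _, y, hy, hyx⟩ => hyx ▸ hy⟩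
      obtain ⟨U, hU, hxU⟩ := Set.mem_iUnion₂.1 (hTc hx.2)
      exact ⟨U, hU, ⟨x, hxU⟩, hx, rfl⟩
    rw [h2]
    refine hTf.isCompact_biUnion fun U hU => IsCompact.image ?_ U.ι.continuous
    haveI : IsAffine U.toScheme := hTa U hU
    refine FlatMor67.IsoLocus.isCompact_of_isConstructible_of_isAffine ?_
    have hl : Topology.IsLocallyConstructible (C s.1 ∩ (m s.1 ≫ G.hom) ⁻¹' B s.1 s.2) :=
      (hC s.1).inter (IsRetrocompact.isLocallyConstructible
        (Bo.isOpen.preimage (m s.1 ≫ G.hom).continuous)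
        (fun K hK hKo => QuasiSeparatedSpace.inter_isCompact _ K (Bo.isOpen.preimage (m s.1 ≫ G.hom).continuous) hBop hKo hK))
    exact (hl.preimage_of_isOpenEmbedding U.ι.isOpenEmbedding).isConstructible
  have himg : i.left '' (G0.hom ⁻¹' (A : Set S)) = SGA3x.neutralSet G ∩ G.hom ⁻¹' (A : Set S) := by
    rw [← Over.w i, Scheme.Hom.comp_base, TopCat.coe_comp, Set.preimage_comp, Set.image_preimage_eq_range_inter, hr]
  rw [← himg] at key
  exact i.left.isOpenEmbedding.isInducing.isCompact_iff.2 key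

end Groth.Agent.S5326
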