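import Groth.Statements.S5329
import Groth.Agent.SGA3a.GrpDim
import Groth.Agent.E4O.OpenMapDims
import Groth.Agent.ConsProp93.DimScheme
import Groth.Agent.ConsProp93.Approx

set_option autoImplicit false
universe u
open CategoryTheory CategoryTheory.Limits MonoidalCategory CartesianMonoidalCategory MonObj GrpObj AlgebraicGeometry
open SGA3

namespace Groth.Agent.S5329

/-- Let G be an S-group scheme locally of finite type over S. Then (i) s ↦ dim G_s is upper
semicontinuous on S; (ii) if G is locally of finite presentation over S, this function is locally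
constructible: every point of S has an open neighbourhood V on which it takes finitely many values
and on which each of its level sets is constructible. (The published statement is for an S-scheme
locally of finite type with a section ε such that dim G_s = dim_{ε(s)} G_s for all s; this row takes
the case of a group scheme, where that condition holds.) -/
theorem result (S : Scheme.{u}) (G : Over S) [GrpObj G] [LocallyOfFiniteType G.hom] :
    UpperSemicontinuous (fun s : S => topologicalKrullDim ↥(G.hom.base ⁻¹' {s})) ∧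
    (LocallyOfFinitePresentation G.hom → ∀ s : S, ∃ V : S.Opens, s ∈ V ∧
      ((fun t : S => topologicalKrullDim ↥(G.hom.base ⁻¹' {t})) '' (V : Set S)).Finite ∧
      ∀ d : WithBot ℕ∞, Topology.IsConstructible {t : V | topologicalKrullDim ↥(G.hom.base ⁻¹' {(t : S)}) = d}) := by
  have hf : ∀ t : S, topologicalKrullDim ↥(G.hom.base ⁻¹' {t}) = FlatMor.fibreDimAt G.hom (η[G].left.base t) :=
    SGA3a.dim_fibre_eq_fibreDimAt_unit G
  have hsec : ∀ t : S, G.hom.base (η[G].left.base t) = t := fun t => by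
    rw [← Scheme.Hom.comp_apply, Over.w η[G]]; rfl
  refine ⟨fun t c hc => ?_, fun hlfp s => ?_⟩
  · simp only [hf] at hc ⊢
    exact IsOpen.mem_nhds ((E4O.isOpen_fibreDimAt_lt G.hom c).preimage η[G].left.continuous) hc
  obtain ⟨V, hV, hsV, -⟩ := exists_isAffineOpen_mem_and_subset (U := (⊤ : S.Opens)) (x := s) trivial
  obtain ⟨W, hW, hsW, hWV⟩ := exists_isAffineOpen_mem_and_subset (U := G.hom ⁻¹ᵁ V)
    (x := η[G].left.base s) (by show G.hom.base _ ∈ V; rw [hsec]; exact hsV)
  let c := FlatMor.fibreDimAt G.hom (η[G].left.base s)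
  let O : S.Opens := V ⊓ η[G].left ⁻¹ᵁ W ⊓
    ⟨η[G].left.base ⁻¹' {x | FlatMor.fibreDimAt G.hom x ≤ c},
      (E4O.isOpen_fibreDimAt_le G.hom c).preimage η[G].left.continuous⟩
  obtain ⟨V', hV', hsV', hV'O⟩ := exists_isAffineOpen_mem_and_subset (U := O) (x := s)
    ⟨⟨hsV, hsW⟩, (le_refl c : FlatMor.fibreDimAt G.hom (η[G].left.base s) ≤ c)⟩
  refine ⟨V', hsV', ?_, fun d => ?_⟩
  · obtain ⟨z, -, -, hz, -, -⟩ := E4O.exists_fibreDimAt_eq G.hom (η[G].left.base s)
    refine ((Finset.range (E4O.fdeg G.hom z + 1)).finite_toSet.image (fun n : ℕ => (n : WithBot ℕ∞))).subset ?_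
    rintro _ ⟨t, ht, rfl⟩
    obtain ⟨z', -, -, hz', -, -⟩ := E4O.exists_fibreDimAt_eq G.hom (η[G].left.base t)
    have hle : FlatMor.fibreDimAt G.hom (η[G].left.base t) ≤ c := (hV'O ht).2
    rw [show c = (E4O.fdeg G.hom z : ℕ) from hz, hz'] at hle
    exact ⟨E4O.fdeg G.hom z', Finset.mem_range.2 (Nat.lt_succ_of_le (by exact_mod_cast hle)),
      (hz'.symm.trans (hf t).symm)⟩
  · let f1 := G.hom.resLE V W hWV
    have : IsAffine W := hW
    have : IsAffine V := hV
    have : LocallyOfFinitePresentation f1 := inferInstance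
    have : QuasiCompact f1 := inferInstance
    have : QuasiSeparated f1 := inferInstance
    have hP2 : ConsPropPair.IsConsPair.{u} (fun X Y T a b => topologicalKrullDim ↥X ∈ ({d} : Set (WithBot ℕ∞))) :=
      ⟨fun X X' Y Y' T T' gX gY gX' gY' eX eY h _ _ _ _ _ _ _ _ hx hy => (ConsProp93.isCons_dim {d}).1 gX gX' eX h hx,
        fun X Y S u v _ _ _ _ _ _ => (ConsProp93.isCons_dim {d}).2 u⟩
    have hL := ConsProp93.isLocallyConstructible_locusPair hP2 f1 f1
    have hle : V' ≤ V := fun t ht => (hV'O ht).1.1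
    have key : ∀ t : ↥V', topologicalKrullDim ↥(f1.fiber ((S.homOfLE hle).base t)) =
        topologicalKrullDim ↥(G.hom.base ⁻¹' {(t : S)}) := fun t => by
      rw [IsHomeomorph.topologicalKrullDim_eq _ (f1.fiberHomeo _).isHomeomorph]
      have ht : ((S.homOfLE hle).base t).1 = (t : S) := by
        rw [← Scheme.Opens.ι_apply, ← Scheme.Hom.comp_apply, Scheme.homOfLE_ι]; rfl
      have hmem : ∀ x : W, x ∈ f1.base ⁻¹' {(S.homOfLE hle).base t} ↔ G.hom.base x.1 = (t : S) := fun x => by
        rw [← ht]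
        exact ⟨fun h => (Scheme.Hom.coe_resLE_apply G.hom hWV x).symm.trans (congrArg Subtype.val h),
          fun h => Subtype.ext ((Scheme.Hom.coe_resLE_apply G.hom hWV x).trans h)⟩
      rw [← SGA3a.dim_open_inter_fibre G W ⟨_, (hV'O t.2).1.2, hsec t⟩]
      let g : ↥(f1.base ⁻¹' {(S.homOfLE hle).base t}) → ↥((W : Set G.left) ∩ G.hom.base ⁻¹' {(t : S)}) :=
        fun x => ⟨W.ι.base (Subtype.val x), (show {p // p ∈ W} from Subtype.val x).2, (hmem (Subtype.val x)).1 x.2⟩
      refine IsHomeomorph.topologicalKrullDim_eq g (isHomeomorph_iff_exists_inverse.2 ⟨by fun_prop,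
        fun y => ⟨⟨y.1, y.2.1⟩, (hmem ⟨y.1, y.2.1⟩).2 y.2.2⟩, fun x => rfl, fun y => rfl, by fun_prop⟩)
    have hL' := hL.preimage_of_isOpenEmbedding (S.homOfLE hle).isOpenEmbedding
    have : IsAffine V' := hV'
    have : CompactSpace ↥V' := isCompact_iff_compactSpace.1 hV'.isCompact
    refine (congrArg Topology.IsConstructible (Set.ext fun t => ?_)).mpr hL'.isConstructible
    show topologicalKrullDim _ = d ↔ topologicalKrullDim ↥(f1.fiber ((S.homOfLE hle).base t)) ∈ ({d} : Set (WithBot ℕ∞))
    rw [key t]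
    rfl

end Groth.Agent.S5329
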