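import Groth.Statements.S5333
import Mathlib.AlgebraicGeometry.Morphisms.Separated
import Mathlib.AlgebraicGeometry.Morphisms.Immersion
import Mathlib.AlgebraicGeometry.IdealSheaf.Subscheme
import Mathlib.AlgebraicGeometry.PullbackCarrier

set_option autoImplicit false
universe u
open CategoryTheory CategoryTheory.Limits MonoidalCategory CartesianMonoidalCategory MonObj GrpObj AlgebraicGeometry
open SGA3

namespace Groth.Agent.S5333

lemma isReduced_subscheme_vanishingIdeal {X : Scheme.{u}} (Z : TopologicalSpace.Closeds X) :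
    IsReduced (Scheme.IdealSheafData.vanishingIdeal Z).subscheme := by
  let I := Scheme.IdealSheafData.vanishingIdeal Z
  have h : ∀ U, IsReduced (I.subschemeCover.openCover.X U) := by
    intro U'
    let U : X.affineOpens := U'
    have h1 : _root_.IsReduced (Γ(X, U) ⧸ I.ideal U) := by
      rw [← Ideal.isRadical_iff_quotient_reduced]
      simp only [I, Scheme.IdealSheafData.vanishingIdeal_ideal]
      exact PrimeSpectrum.isRadical_vanishingIdeal _
    exact (affine_isReduced_iff (.of <| Γ(X, U) ⧸ I.ideal U)).2 h1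
  exact IsReduced.of_openCover _ I.subschemeCover.openCover

theorem result (X S : Scheme.{u}) (f : X ⟶ S) :
    (IsSeparated f ↔ ∀ (T : Scheme.{u}) [IsReduced T] (g₁ g₂ : T ⟶ X) (U : T.Opens), g₁ ≫ f = g₂ ≫ f →
      Dense (U : Set T) → U.ι ≫ g₁ = U.ι ≫ g₂ → g₁ = g₂) ∧
    (IsSeparated f ↔ ∀ x₁ x₂ : X, f.base x₁ = f.base x₂ →
      ∃ V : X.Opens, x₁ ∈ V ∧ x₂ ∈ V ∧ IsSeparated (V.ι ≫ f)) := by
  have mk : IsClosed (Set.range (pullback.diagonal f).base) → IsSeparated f := fun h =>
    ⟨IsClosedImmersion.of_isPreimmersion _ h⟩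
  refine ⟨⟨fun hf T _ g₁ g₂ U hg hd hU => ?_, fun H => mk ?_⟩,
    ⟨fun hf x₁ x₂ _ => ⟨⊤, trivial, trivial, inferInstance⟩, fun H => mk ?_⟩⟩
  · have : IsDominant U.ι := ⟨by
      show Dense (Set.range U.ι.base)
      rwa [Scheme.Opens.range_ι]⟩
    exact ext_of_isDominant_of_isSeparated f hg U.ι hU
  · set d := pullback.diagonal f with hd
    let Z : TopologicalSpace.Closeds ↥(pullback f f) :=
      ⟨closure (Set.range d.base), isClosed_closure⟩
    let T := (Scheme.IdealSheafData.vanishingIdeal Z).subscheme
    let j : T ⟶ pullback f f := (Scheme.IdealSheafData.vanishingIdeal Z).subschemeι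
    have hT : IsReduced T := isReduced_subscheme_vanishingIdeal Z
    have hj : Set.range j.base = closure (Set.range d.base) := by
      refine (Scheme.IdealSheafData.range_subschemeι _).trans ?_
      simp [Z]
    let U : T.Opens := j ⁻¹ᵁ d.coborderRange
    have hco : closure (Set.range d.base) ∩ (d.coborderRange : Set ↥(pullback f f)) =
        Set.range d.base := closure_inter_coborder
    have hU : ∀ t, t ∈ U ↔ j.base t ∈ Set.range d.base := by
      intro t
      rw [← hco]
      exact ⟨fun ht => ⟨hj.le ⟨t, rfl⟩, ht⟩, fun ht => ht.2⟩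
    have hdense : Dense (U : Set T) := by
      have h1 : (U : Set T) = j.base ⁻¹' (Set.range d.base) := Set.ext hU
      intro t
      rw [h1, j.isEmbedding.isInducing.closure_eq_preimage_closure_image,
        Set.mem_preimage, Set.image_preimage_eq_inter_range, hj,
        Set.inter_eq_left.2 subset_closure]
      exact hj.le ⟨t, rfl⟩
    have hsurj : Surjective (pullback.snd d (U.ι ≫ j)) := by
      constructor
      intro u
      obtain ⟨x, hx⟩ := (hU (U.ι.base u)).1 u.2
      obtain ⟨z, _, hz⟩ := Scheme.Pullback.exists_preimage_pullback (f := d) (g := U.ι ≫ j) x u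
        (by simpa using hx)
      exact ⟨z, hz⟩
    have hci : IsClosedImmersion (pullback.snd d (U.ι ≫ j)) :=
      IsClosedImmersion.of_isPreimmersion _ (by rw [hsurj.1.range_eq]; exact isClosed_univ)
    have hiso := isIso_of_isClosedImmersion_of_surjective (pullback.snd d (U.ι ≫ j))
    have hfac : (inv (pullback.snd d (U.ι ≫ j)) ≫ pullback.fst d (U.ι ≫ j)) ≫ d = U.ι ≫ j := by
      rw [Category.assoc, pullback.condition, IsIso.inv_hom_id_assoc]
    have heq : j ≫ pullback.fst f f = j ≫ pullback.snd f f := by
      refine H T _ _ U (by simp [pullback.condition]) hdense ?_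
      rw [← Category.assoc, ← Category.assoc, ← hfac]
      simp [hd]
    have hjd : j = (j ≫ pullback.fst f f) ≫ d := by
      apply pullback.hom_ext
      · simp [hd]
      · simp [hd, heq]
    have : closure (Set.range d.base) ⊆ Set.range d.base := by
      rw [← hj, hjd]
      simp only [Scheme.Hom.comp_base, TopCat.coe_comp]
      exact Set.range_comp_subset_range _ _
    exact isClosed_of_closure_subset this
  · set d := pullback.diagonal f with hd
    refine isClosed_of_closure_subset fun z hz => ?_
    obtain ⟨V, hV1, hV2, hVs⟩ := H ((pullback.fst f f).base z) ((pullback.snd f f).base z) (by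
      rw [← Scheme.Hom.comp_apply, pullback.condition]; rfl)
    let e : pullback (V.ι ≫ f) (V.ι ≫ f) ⟶ pullback f f :=
      pullback.map _ _ _ _ V.ι V.ι (𝟙 S) (by simp) (by simp)
    have he : IsOpenImmersion e := inferInstance
    have hr : Set.range e.base =
        (pullback.fst f f).base ⁻¹' (V : Set X) ∩ (pullback.snd f f).base ⁻¹' (V : Set X) := by
      simp [e, Scheme.Pullback.range_map]
    have hcomm : pullback.diagonal (V.ι ≫ f) ≫ e = V.ι ≫ d := by
      apply pullback.hom_ext
      · simp [e, hd, pullback.map]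
        erw [pullback.lift_fst]
        simp
      · simp [e, hd, pullback.map]
        erw [pullback.lift_snd]
        simp
    have hz' : z ∈ Set.range e.base := hr ▸ ⟨hV1, hV2⟩
    obtain ⟨z', rfl⟩ := hz'
    have h1 : z' ∈ closure (e.base ⁻¹' (Set.range d.base)) := by
      rw [← e.isOpenEmbedding.isOpenMap.preimage_closure_eq_closure_preimage e.continuous]
      exact hz
    have h2 : e.base ⁻¹' (Set.range d.base) ⊆ Set.range (pullback.diagonal (V.ι ≫ f)).base := by
      rintro w ⟨x, hx⟩
      have hxV : x ∈ V := by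
        have h3 : e.base w ∈ Set.range e.base := ⟨w, rfl⟩
        rw [hr, ← hx] at h3
        have := h3.1
        simp only [Set.mem_preimage, SetLike.mem_coe, hd, ← Scheme.Hom.comp_apply,
          pullback.diagonal_fst] at this
        exact this
      refine ⟨⟨x, hxV⟩, e.isOpenEmbedding.injective ?_⟩
      rw [← hx]
      exact congrArg (fun φ : (V : Scheme.{u}) ⟶ pullback f f => φ.base ⟨x, hxV⟩) hcomm
    have h4 : IsClosed (Set.range (pullback.diagonal (V.ι ≫ f)).base) :=
      (pullback.diagonal (V.ι ≫ f)).isClosedEmbedding.isClosed_range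
    obtain ⟨w, hw⟩ := closure_minimal h2 h4 h1
    refine ⟨V.ι.base w, ?_⟩
    rw [← hw, ← Scheme.Hom.comp_apply, ← hcomm]
    rfl

end Groth.Agent.S5333
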