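import Groth.Statements.S5335
import Groth.Agent.SGA3a.ArtinianPt
import Groth.Agent.SGA3a.QuotDiag
import Groth.Agent.FlatMor66.Thickening
import Mathlib.AlgebraicGeometry.Morphisms.UniversallyOpen

set_option autoImplicit false
universe u
open CategoryTheory CategoryTheory.Limits MonoidalCategory CartesianMonoidalCategory MonObj GrpObj AlgebraicGeometry
open SGA3

namespace Groth.Agent.S5335

/-- Let A be a local artinian ring and f : X' → X, g : Y' → Y two quasi-compact dominant morphisms of
schemes over A. Then the product morphism f ×_A g : X' ×_A Y' → X ×_A Y is dominant (and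
quasi-compact). -/
theorem result (A : Type u) [CommRing A] [IsArtinianRing A] [IsLocalRing A] (X X' Y Y' : Over (Spec (CommRingCat.of A)))
    (f : X' ⟶ X) (g : Y' ⟶ Y) [QuasiCompact f.left] [QuasiCompact g.left]
    (hf : DenseRange f.left.base) (hg : DenseRange g.left.base) :
    DenseRange (f ⊗ₘ g).left.base ∧ QuasiCompact (f ⊗ₘ g).left := by
  have key : ∀ Z : Over (Spec (CommRingCat.of A)), UniversallyOpen Z.hom := fun Z => by
    have hS : Surjective (SGA3a.resPt A) := (SGA3a.isFiniteOrderThickening_resPt A).1.2
    have : IsClosedImmersion (SGA3a.resPt A) := (SGA3a.isFiniteOrderThickening_resPt A).1.1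
    have := FlatMor66.universallyOpen_of_surjective_closedImmersion (SGA3a.resPt A)
    have : Surjective (pullback.fst Z.hom (SGA3a.resPt A)) :=
      MorphismProperty.pullback_fst (P := @Surjective) _ _ hS
    have : UniversallyOpen (pullback.fst Z.hom (SGA3a.resPt A) ≫ Z.hom) := by
      rw [pullback.condition]; infer_instance
    exact FlatMor66.universallyOpen_of_comp_surjective (pullback.fst Z.hom (SGA3a.resPt A)) Z.hom
  have hr := SGA3a.QuotDiag.isPullback_whiskerRight_fst Y' f
  have hl := SGA3a.QuotDiag.isPullback_whiskerLeft_snd X g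
  have h1 : DenseRange (f ▷ Y').left.base := by
    have : UniversallyOpen (fst X Y').left := by
      have := key Y'
      show UniversallyOpen (pullback.fst X.hom Y'.hom)
      infer_instance
    refine (hf.preimage (fst X Y').left.isOpenMap).mono fun z hz => ?_
    obtain ⟨t, ht⟩ := hz
    obtain ⟨z', -, hz'⟩ := Scheme.exists_preimage_of_isPullback hr t z ht
    exact ⟨z', hz'⟩
  have h2 : DenseRange (X ◁ g).left.base := by
    have : UniversallyOpen (snd X Y).left := by
      have := key X
      show UniversallyOpen (pullback.snd X.hom Y.hom)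
      infer_instance
    refine (hg.preimage (snd X Y).left.isOpenMap).mono fun z hz => ?_
    obtain ⟨t, ht⟩ := hz
    obtain ⟨z', -, hz'⟩ := Scheme.exists_preimage_of_isPullback hl t z ht
    exact ⟨z', hz'⟩
  have : QuasiCompact (f ▷ Y').left := MorphismProperty.of_isPullback hr ‹QuasiCompact f.left›
  have : QuasiCompact (X ◁ g).left := MorphismProperty.of_isPullback hl ‹QuasiCompact g.left›
  rw [MonoidalCategory.tensorHom_def, Over.comp_left]
  refine ⟨?_, inferInstance⟩
  rw [Scheme.Hom.comp_base, TopCat.coe_comp]
  exact DenseRange.comp h2 h1 (X ◁ g).left.continuous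

end Groth.Agent.S5335
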