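import Groth.Statements.S5337
import Groth.Agent.SGA3a.GrpFibreLocus

set_option autoImplicit false
universe u
open CategoryTheory CategoryTheory.Limits MonoidalCategory CartesianMonoidalCategory MonObj GrpObj AlgebraicGeometry
open SGA3

namespace Groth.Agent.S5337

/-- Quasi-finite, unramified, smooth and etale cases: let A be a local artinian ring, G an A-group
scheme which is flat and locally of finite type over A, and u : G → H a homomorphism of A-group
schemes. If u is locally quasi-finite (resp. unramified, that is formally unramified and locally of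
finite presentation, resp. smooth, resp. etale) on some nonempty open subscheme of G, then u is
locally quasi-finite (resp. unramified, resp. smooth, resp. etale). (Here u is automatically locally
of finite type.) -/
theorem result (A : Type u) [CommRing A] [IsArtinianRing A] [IsLocalRing A] (G H : Over (Spec (CommRingCat.of A))) [GrpObj G] [GrpObj H]
    [Flat G.hom] [LocallyOfFiniteType G.hom] (u : G ⟶ H) [IsMonHom u] (W : G.left.Opens) (hW : (W : Set G.left).Nonempty) :
    (LocallyQuasiFinite (W.ι ≫ u.left) → LocallyQuasiFinite u.left) ∧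
    (FormallyUnramified (W.ι ≫ u.left) → LocallyOfFinitePresentation (W.ι ≫ u.left) →
      FormallyUnramified u.left ∧ LocallyOfFinitePresentation u.left) ∧
    (Smooth (W.ι ≫ u.left) → Smooth u.left) ∧ (Etale (W.ι ≫ u.left) → Etale u.left) := by
  have : LocallyOfFinitePresentation G.hom := inferInstance
  have hflat : SGA3a.NearLocus.FlatFP G.hom := ⟨‹_›, this⟩
  have : LocallyOfFiniteType (u.left ≫ H.hom) := by rw [Over.w u]; infer_instance
  have : LocallyOfFiniteType u.left := locallyOfFiniteType_of_comp u.left H.hom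
  obtain ⟨a, ha⟩ := hW
  have hsub : Subsingleton ↥(Spec (CommRingCat.of A)) := inferInstanceAs (Subsingleton (PrimeSpectrum A))
  have hpt : ∀ x : G.left, G.hom.base a = G.hom.base x := fun x => Subsingleton.elim _ _
  refine ⟨fun h => ?_, fun h h' => ?_, fun h => ?_, fun h => ?_⟩
  · exact SGA3a.NearLocus.of_forall_near _ fun x => (SGA3a.GrpLocus.near_iff_near_unit
      SGA3a.NearLocus.descPt_locallyQuasiFinite u ‹_› x).2 (Subsingleton.elim (G.hom.base a) (G.hom.base x) ▸
      (SGA3a.GrpLocus.near_iff_near_unit SGA3a.NearLocus.descPt_locallyQuasiFinite u ‹_› a).1 ⟨W, ha, h⟩)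
  · have hp : LocallyOfFinitePresentation u.left := SGA3a.NearLocus.of_forall_near _ fun x =>
      (SGA3a.GrpLocus.near_iff_of_hom_eq SGA3a.NearLocus.descPt_lfp u trivial hflat a x (hpt x)).1 ⟨W, ha, h'⟩
    refine ⟨SGA3a.NearLocus.of_forall_near _ fun x => (SGA3a.GrpLocus.near_iff_near_unit
      SGA3a.NearLocus.descPt_formallyUnramified u hp x).2 (hpt x ▸
      (SGA3a.GrpLocus.near_iff_near_unit SGA3a.NearLocus.descPt_formallyUnramified u hp a).1 ⟨W, ha, h⟩), hp⟩
  · exact SGA3a.NearLocus.of_forall_near _ fun x =>
      (SGA3a.GrpLocus.near_iff_of_hom_eq SGA3a.NearLocus.descPt_smooth u trivial hflat a x (hpt x)).1 ⟨W, ha, h⟩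
  · exact SGA3a.NearLocus.of_forall_near _ fun x =>
      (SGA3a.GrpLocus.near_iff_of_hom_eq SGA3a.NearLocus.descPt_etale u trivial hflat a x (hpt x)).1 ⟨W, ha, h⟩

end Groth.Agent.S5337
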