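import Groth.Statements.S5339
import Groth.Agent.SGA3a.ArtinianPt
import Groth.Agent.SGA3a.GrpFibreLocus

set_option autoImplicit false
universe u
open CategoryTheory CategoryTheory.Limits MonoidalCategory CartesianMonoidalCategory MonObj GrpObj AlgebraicGeometry
open SGA3

namespace Groth.Agent.S5339

/-- Let A be a local artinian ring and G a flat A-group scheme (not assumed locally of finite type). If
G is locally quasi-finite and locally of finite type (resp. unramified, resp. smooth, resp. etale)
over A on some nonempty open subscheme, then G is locally quasi-finite and locally of finite type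
(resp. unramified, resp. smooth, resp. etale) over A. -/
theorem result (A : Type u) [CommRing A] [IsArtinianRing A] [IsLocalRing A] (G : Over (Spec (CommRingCat.of A))) [GrpObj G] [Flat G.hom]
    (W : G.left.Opens) (hW : (W : Set G.left).Nonempty) :
    (LocallyQuasiFinite (W.ι ≫ G.hom) → LocallyOfFiniteType (W.ι ≫ G.hom) → LocallyQuasiFinite G.hom ∧ LocallyOfFiniteType G.hom) ∧
    (FormallyUnramified (W.ι ≫ G.hom) → LocallyOfFinitePresentation (W.ι ≫ G.hom) →
      FormallyUnramified G.hom ∧ LocallyOfFinitePresentation G.hom) ∧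
    (Smooth (W.ι ≫ G.hom) → Smooth G.hom) ∧ (Etale (W.ι ≫ G.hom) → Etale G.hom) := by
  have hflat : Flat (toUnit G).left := by rw [Over.toUnit_left]; infer_instance
  obtain ⟨a, ha⟩ := hW
  have hlft : LocallyOfFiniteType (W.ι ≫ G.hom) → LocallyOfFiniteType G.hom := fun h =>
    SGA3a.locallyOfFiniteType_of_near_artinian G a ⟨W, ha, h⟩
  have hpt : ∀ x : G.left, G.hom.base a = G.hom.base x := fun x => Subsingleton.elim (α := PrimeSpectrum A) _ _
  have hu : ∀ {P R : MorphismProperty Scheme.{u}} [P.IsStableUnderBaseChange] [IsZariskiLocalAtSource P],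
      SGA3a.NearLocus.DescPt P ⊤ R → R (toUnit G).left → P (W.ι ≫ G.hom) → P G.hom := by
    intro P R _ _ hd hR h
    refine SGA3a.NearLocus.of_forall_near _ fun x => ?_
    rw [← Over.toUnit_left] at h ⊢
    rw [SGA3a.GrpLocus.near_iff_near_unit hd (toUnit G) hR, ← hpt,
      ← SGA3a.GrpLocus.near_iff_near_unit hd (toUnit G) hR]
    exact ⟨W, ha, h⟩
  have hq : ∀ {P : MorphismProperty Scheme.{u}} [P.IsStableUnderBaseChange] [IsZariskiLocalAtSource P],
      SGA3a.NearLocus.DescPt P SGA3a.NearLocus.FlatFP ⊤ → LocallyOfFinitePresentation G.hom →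
        P (W.ι ≫ G.hom) → P G.hom := by
    intro P _ _ hd hp h
    refine SGA3a.NearLocus.of_forall_near _ fun x => ?_
    rw [← Over.toUnit_left] at h ⊢
    exact (SGA3a.GrpLocus.near_iff_of_hom_eq hd (toUnit G) trivial ⟨‹Flat G.hom›, hp⟩ a x (hpt x)).1 ⟨W, ha, h⟩
  refine ⟨fun h h' => ?_, fun h h' => ?_, fun h => ?_, fun h => ?_⟩
  · have := hlft h'
    exact ⟨hu SGA3a.NearLocus.descPt_locallyQuasiFinite (by rw [Over.toUnit_left]; infer_instance) h, this⟩
  · have := hlft inferInstance
    have hp : LocallyOfFinitePresentation G.hom := inferInstance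
    exact ⟨hu SGA3a.NearLocus.descPt_formallyUnramified (by rw [Over.toUnit_left]; infer_instance) h, hp⟩
  · have := hlft inferInstance
    exact hq SGA3a.NearLocus.descPt_smooth inferInstance h
  · have := hlft inferInstance
    exact hq SGA3a.NearLocus.descPt_etale inferInstance h

end Groth.Agent.S5339
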