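import Groth.Statements.S5343
import Mathlib.RingTheory.Ideal.IdempotentFG
import Mathlib.RingTheory.Spectrum.Prime.Topology
import Mathlib.Algebra.Module.Projective

set_option autoImplicit false
universe u
open CategoryTheory CategoryTheory.Limits MonoidalCategory CartesianMonoidalCategory MonObj GrpObj AlgebraicGeometry
open SGA3

namespace Groth.Agent.S5343

theorem result (R B : Type u) [CommRing R] [CommRing B] [Algebra R B] [Module.Projective R B] :
    IsClopen (Set.range (PrimeSpectrum.comap (algebraMap R B))) := by
  classical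
  obtain ⟨σ, hσ⟩ := (Module.projective_def.1 ‹Module.Projective R B›)
  set a : B →₀ R := σ 1 with ha
  set I : Ideal R := Ideal.span (a '' (a.support : Set B)) with hI
  have hone : (1 : B) = ∑ i ∈ a.support, a i • i := by
    conv_lhs => rw [← hσ 1]
    simp [Finsupp.linearCombination_apply, Finsupp.sum, ha]
  have haI : ∀ i, a i ∈ I := by
    intro i
    by_cases hi : i ∈ a.support
    · exact Ideal.subset_span ⟨i, hi, rfl⟩
    · simp [Finsupp.notMem_support_iff.1 hi]
  have hexp : ∀ b : B, b = ∑ i ∈ a.support, a i • (i * b) := by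
    intro b
    conv_lhs => rw [← one_mul b, hone, Finset.sum_mul]
    exact Finset.sum_congr rfl fun i _ => by simp [Algebra.smul_mul_assoc]
  have hcoord : ∀ (b : B) (j : B), σ b j ∈ I := by
    intro b j
    have := congrArg (fun t => σ t j) (hexp b)
    simp only [map_sum, map_smul, Finsupp.coe_finsetSum, Finset.sum_apply, Finsupp.smul_apply,
      smul_eq_mul] at this
    rw [this]
    exact Submodule.sum_mem _ fun i _ => I.mul_mem_right _ (haI i)
  have hidem : IsIdempotentElem I := by
    refine le_antisymm Ideal.mul_le_right ?_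
    rw [hI, Ideal.span_le]
    rintro _ ⟨j, _, rfl⟩
    have := congrArg (fun t => σ t j) hone
    simp only [map_sum, map_smul, Finsupp.coe_finsetSum, Finset.sum_apply, Finsupp.smul_apply,
      smul_eq_mul, ← ha] at this
    rw [this]
    exact Submodule.sum_mem _ fun i _ => Ideal.mul_mem_mul (haI i) (hcoord i j)
  have hfg : I.FG := ⟨a.support.image a, by rw [Finset.coe_image]⟩
  obtain ⟨e, he, hIe⟩ := (Ideal.isIdempotentElem_iff_of_fg I hfg).1 hidem
  have hrange : Set.range (PrimeSpectrum.comap (algebraMap R B)) =
      (PrimeSpectrum.basicOpen e : Set (PrimeSpectrum R)) := by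
    ext p
    rw [PrimeSpectrum.mem_range_comap_iff, SetLike.mem_coe, PrimeSpectrum.mem_basicOpen]
    constructor
    · intro h hep
      have hIp : I ≤ p.asIdeal := by
        rw [hIe]; exact (Ideal.span_singleton_le_iff_mem _).2 hep
      have h1 : (1 : B) ∈ p.asIdeal.map (algebraMap R B) := by
        rw [hone]
        refine Submodule.sum_mem _ fun i _ => ?_
        rw [Algebra.smul_def]
        exact Ideal.mul_mem_right _ _ (Ideal.mem_map_of_mem _ (hIp (haI i)))
      apply p.isPrime.ne_top
      rw [Ideal.eq_top_iff_one, ← h, Ideal.mem_comap, map_one]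
      exact h1
    · intro hep
      refine le_antisymm (fun x hx => ?_) Ideal.le_comap_map
      have hlin : ∀ b ∈ p.asIdeal.map (algebraMap R B), ∀ j, σ b j ∈ p.asIdeal := by
        intro b hb
        rw [← Submodule.restrictScalars_mem R, ← Ideal.smul_top_eq_map] at hb
        refine Submodule.smul_induction_on hb (fun r hr m _ j => ?_) (fun x y hx hy j => ?_)
        · rw [map_smul]; exact p.asIdeal.mul_mem_right _ hr
        · rw [map_add]; exact p.asIdeal.add_mem (hx j) (hy j)
      obtain ⟨i, hi⟩ : ∃ i, a i ∉ p.asIdeal := by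
        by_contra hall
        push Not at hall
        apply hep
        have : I ≤ p.asIdeal := by
          rw [hI, Ideal.span_le]; rintro _ ⟨j, _, rfl⟩; exact hall j
        exact this (hIe ▸ Ideal.mem_span_singleton_self e)
      have := hlin _ (Ideal.mem_comap.1 hx) i
      rw [Algebra.algebraMap_eq_smul_one, map_smul, Finsupp.smul_apply, smul_eq_mul, ← ha] at this
      exact (p.isPrime.mem_or_mem this).resolve_right hi
  rw [hrange]
  refine ⟨?_, PrimeSpectrum.isOpen_basicOpen⟩
  rw [PrimeSpectrum.basicOpen_eq_zeroLocus_of_mul_add e (1 - e) (by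
    rw [mul_sub, _root_.mul_one, he.eq, sub_self]) (add_sub_cancel e 1)]
  exact PrimeSpectrum.isClosed_zeroLocus _

end Groth.Agent.S5343
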