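import Groth.Statements.S5345
import Groth.Agent.SGA3a.GrpBC
import Groth.Agent.SGA3a.GrpComp

set_option autoImplicit false
universe u
open CategoryTheory CategoryTheory.Limits MonoidalCategory CartesianMonoidalCategory MonObj GrpObj AlgebraicGeometry
open SGA3

namespace Groth.Agent.S5345

/-- Let A be a local artinian ring and G an A-group scheme locally of finite type. Then every connected
component of G, in particular the connected component of the unit, is quasi-compact (so the open
subscheme it carries is of finite type over A). (The published statement also asserts that the
components are irreducible and of equal dimension; this row states only their quasi-compactness.) -/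
theorem result (A : Type u) [CommRing A] [IsArtinianRing A] [IsLocalRing A] (G : Over (Spec (CommRingCat.of A))) [GrpObj G] [LocallyOfFiniteType G.hom]
    (g : G.left) : IsCompact (connectedComponent g) := by
  open Groth.Agent.SGA3a in
  let f := resPt A
  letI : GrpObj (bcO f G) := Functor.grpObjObj
  let e := (isHomeomorph_prO f G).homeomorph
  have h := (isCompact_connectedComponent (bcO f G) (e.symm g)).image e.continuous
  rw [← connectedComponentIn_univ, e.image_connectedComponentIn (Set.mem_univ _), Set.image_univ, e.surjective.range_eq, connectedComponentIn_univ] at h
  rwa [e.apply_symm_apply] at h

end Groth.Agent.S5345
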