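import Groth.Statements.S5346
import Groth.Agent.SGA3a.ArtinianPt
import Groth.Agent.SGA3a.GrpFibreLocus
import Groth.Agent.FlatMor66.Deform

set_option autoImplicit false
universe u
open CategoryTheory CategoryTheory.Limits MonoidalCategory CartesianMonoidalCategory MonObj GrpObj AlgebraicGeometry
open SGA3

namespace Groth.Agent.S5346

/-- Let A be a local artinian ring with residue field k and i : Spec k → Spec A the closed point. (i) If
X is an A-scheme whose base change X ⊗_A k is locally of finite type (resp. of finite type) over k,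
then X is locally of finite type (resp. of finite type) over A. (ii) If u : X → Y is a morphism of
A-schemes whose base change u ⊗_A k is an immersion (resp. a closed immersion), then u is an
immersion (resp. a closed immersion). -/
theorem result (A : Type u) [CommRing A] [IsArtinianRing A] [IsLocalRing A] (X Y : Over (Spec (CommRingCat.of A))) (u : X ⟶ Y) :
    letI i : Spec (CommRingCat.of (IsLocalRing.ResidueField A)) ⟶ (Spec (CommRingCat.of A)) := Spec.map (CommRingCat.ofHom (IsLocalRing.residue A))
    (LocallyOfFiniteType (pullback.snd X.hom i) → LocallyOfFiniteType X.hom) ∧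
    (LocallyOfFiniteType (pullback.snd X.hom i) → QuasiCompact (pullback.snd X.hom i) → QuasiCompact X.hom) ∧
    (IsImmersion ((Over.pullback i).map u).left → IsImmersion u.left) ∧
    (IsClosedImmersion ((Over.pullback i).map u).left → IsClosedImmersion u.left) := by
  have hT := SGA3a.isFiniteOrderThickening_resPt A
  have hX : IsPullback (SGA3a.prO (SGA3a.resPt A) X) (pullback.snd X.hom (SGA3a.resPt A)) X.hom (SGA3a.resPt A) :=
    IsPullback.of_hasPullback X.hom _
  have hu := SGA3a.GrpLocus.isPullback_pullback_map (SGA3a.resPt A) u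
  have hY : IsPullback (pullback.fst Y.hom (SGA3a.resPt A)) (pullback.snd Y.hom (SGA3a.resPt A)) Y.hom (SGA3a.resPt A) :=
    IsPullback.of_hasPullback Y.hom _
  have hTY : MoreMor.IsFiniteOrderThickening (pullback.fst Y.hom (SGA3a.resPt A)) :=
    FlatMor66.deform_thickening hT hY
  refine ⟨fun h => (FlatMor66.locallyOfFiniteType_iff _ _ _ _ hT hX).1 h, fun _ h => ⟨fun U hU hc => ?_⟩,
    fun h => ?_, fun h => ?_⟩
  · have : CompactSpace ↥(SGA3a.bcO (SGA3a.resPt A) X).left :=
      QuasiCompact.compactSpace_of_compactSpace (pullback.snd X.hom (SGA3a.resPt A))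
    have : CompactSpace X.left := (SGA3a.isHomeomorph_prO (SGA3a.resPt A) X).homeomorph.compactSpace
    by_cases hne : U.Nonempty
    · have hU' : U = Set.univ :=
        (Set.univ_subset_iff.1 fun x _ => by obtain ⟨y, hy⟩ := hne; exact Subsingleton.elim (α := PrimeSpectrum A) y x ▸ hy)
      rw [hU', Set.preimage_univ]; exact isCompact_univ
    · simp [Set.not_nonempty_iff_eq_empty.1 hne]
  · have := h
    have : LocallyOfFiniteType u.left := (FlatMor66.locallyOfFiniteType_iff _ _ _ _ hTY hu).1 inferInstance
    exact (FlatMor66.isImmersion_iff _ _ _ _ hTY.1 hu).1 h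
  · have := h
    have : LocallyOfFiniteType u.left := (FlatMor66.locallyOfFiniteType_iff _ _ _ _ hTY hu).1 inferInstance
    exact (FlatMor66.isClosedImmersion_iff _ _ _ _ hTY.1 hu).1 h

end Groth.Agent.S5346
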