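import Groth.Statements.S5352
import Groth.Agent.SGA3a.AbelianCat
import Groth.Agent.AlgGrp79.AffineQuot

set_option autoImplicit false
universe u
open CategoryTheory CategoryTheory.Limits MonoidalCategory CartesianMonoidalCategory MonObj GrpObj AlgebraicGeometry
open SGA3

namespace Groth.Agent.S5352

/-- Let k be a field. The category of commutative affine algebraic k-groups (commutative group objects
in k-schemes whose underlying scheme is affine and of finite type over k, as a full subcategory of
commutative group objects over Spec k) is an abelian category. -/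
theorem result (k : Type u) [Field k] :
    Nonempty (Abelian (ObjectProperty.FullSubcategory
      (fun G : CommGrp (Over (Spec (CommRingCat.of k))) => LocallyOfFiniteType G.X.hom ∧ QuasiCompact G.X.hom ∧ IsAffine G.X.left))) := by
  refine SGA3a.AbelianCat.nonempty_abelian ⟨fun A h => ⟨h.1, h.2.1⟩, ?_, ?_, ?_, ?_⟩
  · exact ⟨inferInstanceAs (LocallyOfFiniteType (𝟙 (Spec (CommRingCat.of k)))),
      inferInstanceAs (QuasiCompact (𝟙 (Spec (CommRingCat.of k)))), inferInstanceAs (IsAffine (Spec (CommRingCat.of k)))⟩
  · rintro A B ⟨_, _, _⟩ ⟨_, _, _⟩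
    exact ⟨inferInstanceAs (LocallyOfFiniteType (pullback.fst A.X.hom B.X.hom ≫ A.X.hom)),
      inferInstanceAs (QuasiCompact (pullback.fst A.X.hom B.X.hom ≫ A.X.hom)),
      inferInstanceAs (IsAffine (pullback A.X.hom B.X.hom))⟩
  · rintro A B i _ hi ⟨_, _, _⟩
    exact ⟨by rw [← Over.w i]; infer_instance, by rw [← Over.w i]; infer_instance, isAffine_of_isAffineHom i.left⟩
  · rintro A B i hi1 hi ⟨_, _, _⟩
    haveI := hi1
    haveI := hi
    have hN : AlgGrp.IsNormalHom i := fun T g n => ⟨n, by rw [_root_.mul_comm g, mul_inv_cancel_right]⟩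
    obtain ⟨Q, hQ, q, hq, hQa, hQft, hflat, hsurj, hK⟩ := AlgGrp79.AffineQuot.exists_quotient i hN
    haveI : IsLocallyNoetherian Q.left := LocallyOfFiniteType.isLocallyNoetherian Q.hom
    haveI : LocallyOfFiniteType q.left := by
      have : LocallyOfFiniteType (q.left ≫ Q.hom) := by rw [Over.w]; infer_instance
      exact locallyOfFiniteType_of_comp q.left Q.hom
    have hc : AlgGrp79.IsCov q := ⟨hflat, hsurj, LocallyOfFinitePresentation.iff_locallyOfFiniteType.2 inferInstance⟩
    haveI := SGA3a.AbelianCat.isCommMonObj_of_cov q hc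
    exact ⟨⟨Q⟩, q, hq, ⟨inferInstance, inferInstance, hQa⟩, hc, hK⟩

end Groth.Agent.S5352
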