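import Groth.Statements.S5361
import Groth.Agent.SGA3a.Transporter
import Groth.Agent.CAlg6.GenDerived
import Groth.Agent.S0351
-- import your own Groth.Agent.* helpers here
set_option autoImplicit false
universe u
open CategoryTheory CategoryTheory.Limits MonoidalCategory CartesianMonoidalCategory MonObj GrpObj AlgebraicGeometry
open SGA3

namespace Groth.Agent.S5361

open Groth.Agent.CAlg6 in
/-- the part of the claim over a test object, when the subgroup is closed there -/
theorem factor_of_closed {k : Type u} [Field k] {G X Γ : Over (Spec (CommRingCat.of k))} [GrpObj G] [GrpObj Γ]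
    (f : X ⟶ G) (i : Γ ⟶ G) [IsMonHom i] [IsClosedImmersion i.left] (hf : ∃ f' : X ⟶ Γ, f' ≫ i = f)
    (hmin : ∀ (Γ' : Over (Spec (CommRingCat.of k))) (_ : GrpObj Γ') (i' : Γ' ⟶ G), IsMonHom i' → IsClosedImmersion i'.left →
        (∃ f'' : X ⟶ Γ', f'' ≫ i' = f) → ∃ j : Γ ⟶ Γ', j ≫ i' = i)
    {S : Scheme.{u}} (σ : S ⟶ Spec (CommRingCat.of k)) (Γ' : Over S) [GrpObj Γ'] (i' : Γ' ⟶ Red.bc σ G) [IsMonHom i']
    (h' : ∃ f'' : Red.bc σ X ⟶ Γ', f'' ≫ i' = (Over.pullback σ).map f)
    (X' : Over (Spec (CommRingCat.of k))) (c : X' ⟶ Over.mk σ)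
    (hcl : IsClosedImmersion (pullback.snd (pullback.snd i'.left ((Over.pullback σ).map i).left) (Γ ◁ c).left)) :
    Set.range (Γ ◁ c).left ⊆ Set.range (pullback.snd i'.left ((Over.pullback σ).map i).left) ∧
      ∀ (T : Over (Spec (CommRingCat.of k))) (a : T ⟶ Γ) (x : T ⟶ X'),
        ∃ l, l ≫ pullback.snd i'.left ((Over.pullback σ).map i).left = (lift a (x ≫ c)).left := by
  let Xs : Over (Spec (CommRingCat.of k)) := Over.mk σ
  let y₀ := pullback.snd i'.left ((Over.pullback σ).map i).left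
  let K' : Over (Spec (CommRingCat.of k)) := Over.mk (pullback.snd y₀ (Γ ◁ c).left ≫ (Γ ⊗ X').hom)
  let y : K' ⟶ Γ ⊗ X' := Over.homMk (pullback.snd y₀ (Γ ◁ c).left) rfl
  haveI : IsClosedImmersion y.left := hcl
  obtain ⟨T, t, ht, hT⟩ := SGA3a.exists_transporter (SGA3a.isEssentiallyFree_of_field X'.hom) (𝟙 (Γ ⊗ X')) y
  haveI := ht
  -- the condition at a point of `X'`
  let e : ∀ {W : Over (Spec (CommRingCat.of k))} (x : W ⟶ X'),
      (Over.map σ).obj (Over.mk (x ≫ c).left) ⟶ W := fun x => Over.homMk (𝟙 _) (by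
    show 𝟙 _ ≫ _ = (x ≫ c).left ≫ σ
    rw [Category.id_comp]; exact (Over.w (x ≫ c)).symm)
  let P : ∀ {W : Over (Spec (CommRingCat.of k))}, (W ⟶ X') → (W ⟶ G) → Prop := fun {W} x a =>
    ∃ z : Over.mk (x ≫ c).left ⟶ Γ', z ≫ i' = GrpWord.phi σ (Over.mk (x ≫ c).left) (e x ≫ a)
  have Pone : ∀ {W : Over (Spec (CommRingCat.of k))} (x : W ⟶ X'), P x 1 := fun x =>
    ⟨1, by rw [MonObj.comp_one, map_one, MonObj.one_comp]⟩
  have Pmul : ∀ {W : Over (Spec (CommRingCat.of k))} (x : W ⟶ X') (a b : W ⟶ G), P x a → P x b → P x (a * b) := by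
    rintro W x a b ⟨z, hz⟩ ⟨z', hz'⟩
    exact ⟨z * z', by rw [MonObj.comp_mul, map_mul, MonObj.mul_comp, hz, hz']⟩
  have Pinv : ∀ {W : Over (Spec (CommRingCat.of k))} (x : W ⟶ X') (a : W ⟶ G), P x a → P x a⁻¹ := by
    rintro W x a ⟨z, hz⟩
    exact ⟨z⁻¹, by rw [GrpObj.comp_inv, map_inv, GrpObj.inv_comp, hz]⟩
  have key : ∀ {W : Over (Spec (CommRingCat.of k))} (a : W ⟶ Γ) (x : W ⟶ X'),
      (∃ z : W ⟶ K', z ≫ y = lift a x) ↔ P x (a ≫ i) := by
    intro W a x
    have hw : ((GrpWord.phiE σ (Over.mk (x ≫ c).left) Γ) (e x ≫ a)).left = (lift a x ≫ Γ ◁ c).left := by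
      apply pullback.hom_ext
      · rw [GrpWord.phiE_fst]
        show 𝟙 _ ≫ a.left = (lift a x ≫ Γ ◁ c).left ≫ (fst Γ (Over.mk σ)).left
        rw [← Over.comp_left, Category.assoc, whiskerLeft_fst, lift_fst, Category.id_comp]
      · show _ = (lift a x ≫ Γ ◁ c).left ≫ (snd Γ (Over.mk σ)).left
        rw [← Over.comp_left, Category.assoc, whiskerLeft_snd, lift_snd_assoc]
        exact Over.w ((GrpWord.phiE σ (Over.mk (x ≫ c).left) Γ) (e x ≫ a))
    have hq : GrpWord.phi σ (Over.mk (x ≫ c).left) (e x ≫ a ≫ i) =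
        GrpWord.phiE σ _ Γ (e x ≫ a) ≫ (Over.pullback σ).map i := by
      rw [GrpWord.phi_apply, ← Category.assoc, GrpWord.phiE_comp]
    constructor
    · rintro ⟨z, hz⟩
      have hz' : z.left ≫ pullback.snd y₀ (Γ ◁ c).left = (lift a x).left := congrArg Over.Hom.left hz
      have h2 : (z.left ≫ pullback.fst y₀ (Γ ◁ c).left) ≫ y₀ = (lift a x ≫ Γ ◁ c).left := by
        rw [Category.assoc, pullback.condition, ← Category.assoc, hz', Over.comp_left]
      refine ⟨Over.homMk (z.left ≫ pullback.fst y₀ (Γ ◁ c).left ≫ pullback.fst i'.left _) ?_, ?_⟩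
      · rw [← Over.w i', Category.assoc, Category.assoc, pullback.condition_assoc, Over.w]
        rw [← Category.assoc, ← Category.assoc, h2, ← hw]
        exact Over.w _
      · rw [hq]
        apply Over.OverMorphism.ext
        show (z.left ≫ pullback.fst y₀ (Γ ◁ c).left ≫ pullback.fst i'.left _) ≫ i'.left = _
        rw [Category.assoc, Category.assoc, pullback.condition, Over.comp_left, hw, ← h2]
        simp only [Category.assoc]; rfl
    · rintro ⟨z, hz⟩
      rw [hq] at hz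
      have hz' : z.left ≫ i'.left = (lift a x ≫ Γ ◁ c).left ≫ ((Over.pullback σ).map i).left := by
        rw [← hw]; exact congrArg Over.Hom.left hz
      refine ⟨Over.homMk (pullback.lift (pullback.lift z.left (lift a x ≫ Γ ◁ c).left hz') (lift a x).left
        (by rw [pullback.lift_snd, Over.comp_left])) ?_, ?_⟩
      · show _ ≫ pullback.snd y₀ (Γ ◁ c).left ≫ (Γ ⊗ X').hom = _
        rw [← Category.assoc, pullback.lift_snd, Over.w]
      · apply Over.OverMorphism.ext
        exact pullback.lift_snd _ _ _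
  have hT' : ∀ (S' : Over (Spec (CommRingCat.of k))) (g : S' ⟶ Γ), (∃ z : S' ⟶ T, z ≫ t = g) ↔
      ∀ (S'' : Over (Spec (CommRingCat.of k))) (s : S'' ⟶ S') (x : S'' ⟶ X'), P x ((s ≫ g) ≫ i) := fun S' g =>
    (hT S' g).trans (forall_congr' fun S'' => forall_congr' fun s => forall_congr' fun x => by
      rw [← key, Category.comp_id]
      exact ⟨fun ⟨z, hz⟩ => ⟨z, hz.symm⟩, fun ⟨z, hz⟩ => ⟨z, hz.symm⟩⟩)
  haveI : Mono t := Over.mono_of_mono_left t
  have h1 : ∃ z, z ≫ t = (1 : 𝟙_ _ ⟶ Γ) := (hT' _ _).2 fun S'' s x => by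
    rw [MonObj.comp_one, MonObj.one_comp]; exact Pone x
  have hinv : ∃ z, z ≫ t = t⁻¹ := (hT' _ _).2 fun S'' s x => by
    rw [GrpObj.comp_inv, GrpObj.inv_comp]
    exact Pinv x _ ((hT' _ t).1 ⟨𝟙 _, Category.id_comp _⟩ S'' s x)
  have hmul : ∃ z, z ≫ t = (fst T T ≫ t) * (snd T T ≫ t) := (hT' _ _).2 fun S'' s x => by
    rw [MonObj.comp_mul, MonObj.mul_comp, ← Category.assoc s, ← Category.assoc s]
    exact Pmul x _ _ ((hT' _ t).1 ⟨𝟙 _, Category.id_comp _⟩ S'' (s ≫ fst T T) x)
      ((hT' _ t).1 ⟨𝟙 _, Category.id_comp _⟩ S'' (s ≫ snd T T) x)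
  letI gT : GrpObj T := SGA3a.grpObjOfMono t h1 hmul hinv
  haveI : IsMonHom t := SGA3a.isMonHom_grpObjOfMono t h1 hmul hinv
  haveI : IsClosedImmersion (t ≫ i).left := inferInstanceAs (IsClosedImmersion (t.left ≫ i.left))
  obtain ⟨f', hf'⟩ := hf
  obtain ⟨f₁, hf₁⟩ := h'
  obtain ⟨w, hw⟩ := (hT' _ f').2 fun S'' s x => by
    refine ⟨GrpWord.phiE σ (Over.mk (x ≫ c).left) X (e x ≫ s) ≫ f₁, ?_⟩
    rw [Category.assoc, hf₁, Category.assoc, hf', GrpWord.phi_apply, ← GrpWord.phiE_comp, Category.assoc]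
  obtain ⟨j, hj⟩ := hmin T gT (t ≫ i) inferInstance inferInstance ⟨w, by rw [← Category.assoc, hw, hf']⟩
  haveI : Mono i := Over.mono_of_mono_left i
  have hjt : j ≫ t = 𝟙 Γ := by rw [← cancel_mono i, Category.assoc, hj, Category.id_comp]
  have all : ∀ (W : Over (Spec (CommRingCat.of k))) (a : W ⟶ Γ) (x : W ⟶ X'),
      ∃ l, l ≫ pullback.snd i'.left ((Over.pullback σ).map i).left = (lift a (x ≫ c)).left := fun W a x => by
    obtain ⟨z, hz⟩ := (key a x).2 (by
      have := (hT' _ a).1 ⟨a ≫ j, by rw [Category.assoc, hjt, Category.comp_id]⟩ W (𝟙 W) x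
      rwa [Category.id_comp] at this)
    refine ⟨z.left ≫ pullback.fst y₀ (Γ ◁ c).left, ?_⟩
    rw [Category.assoc, pullback.condition, ← Category.assoc]
    show (z ≫ y).left ≫ (Γ ◁ c).left = _
    rw [hz, ← Over.comp_left, lift_whiskerLeft]
  refine ⟨?_, all⟩
  rintro _ ⟨p, rfl⟩
  obtain ⟨l, hl⟩ := all (Γ ⊗ X') (fst Γ X') (snd Γ X')
  refine ⟨l p, ?_⟩
  rw [← Scheme.Hom.comp_apply, hl, ← lift_whiskerLeft, lift_fst_snd, Category.id_comp]

/-- Let G be a group scheme over a field k, X a geometrically reduced k-scheme, f : X → G a k-morphism,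
and i : Γ → G the smallest closed subgroup scheme of G through which f factors (the subgroup
generated by f). Then for every k-scheme S, the base change Γ_S → G_S is the smallest subgroup
scheme of G_S through which f_S factors: for every homomorphism i' : Γ' → G_S of S-group schemes
which is an immersion (not necessarily closed) such that f_S factors through i', Γ_S → G_S factors
through i'. -/
theorem result (k : Type u) [Field k] (G X : Over (Spec (CommRingCat.of k))) [GrpObj G]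
    [GeometricallyReduced X.hom] (f : X ⟶ G) (Γ : Over (Spec (CommRingCat.of k))) [GrpObj Γ] (i : Γ ⟶ G) [IsMonHom i] [IsClosedImmersion i.left]
    (hf : ∃ f' : X ⟶ Γ, f' ≫ i = f)
    (hmin : ∀ (Γ' : Over (Spec (CommRingCat.of k))) (_ : GrpObj Γ') (i' : Γ' ⟶ G), IsMonHom i' → IsClosedImmersion i'.left →
        (∃ f'' : X ⟶ Γ', f'' ≫ i' = f) → ∃ j : Γ ⟶ Γ', j ≫ i' = i)
    (S : Scheme.{u}) (σ : S ⟶ (Spec (CommRingCat.of k))) :
    ∀ (Γ' : Over S) (_ : GrpObj Γ') (i' : Γ' ⟶ Red.bc σ G), IsMonHom i' → IsImmersion i'.left →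
      (∃ f'' : Red.bc σ X ⟶ Γ', f'' ≫ i' = (Over.pullback σ).map f) →
      ∃ j : Red.bc σ Γ ⟶ Γ', j ≫ i' = (Over.pullback σ).map i := by
  open Groth.Agent.CAlg6 in
  intro Γ' gΓ' i' hi'm hi' h'
  haveI := hi'm
  haveI := hi'
  let Gs : Over S := Red.bc σ G
  let iS := ((Over.pullback σ).map i)
  let y₀ := pullback.snd i'.left iS.left
  haveI : IsImmersion y₀ := MorphismProperty.pullback_snd _ _ ‹_›
  have hfib : Function.Surjective y₀ := by
    intro p
    let s : S := pullback.snd Γ.hom σ p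
    let r := S.fromSpecResidueField s
    let X' : Over (Spec (CommRingCat.of k)) := Over.mk (r ≫ σ)
    let c : X' ⟶ Over.mk σ := Over.homMk r rfl
    let Gr : Over (Spec (CommRingCat.of (S.residueField s))) := (Over.pullback r).obj Gs
    let Γr : Over (Spec (CommRingCat.of (S.residueField s))) := (Over.pullback r).obj Γ'
    letI : GrpObj Gr := GrpWord.bcGrp r
    letI : GrpObj Γr := GrpWord.bcGrp r
    let ir : Γr ⟶ Gr := (Over.pullback r).map i'
    haveI : IsMonHom ir := (inferInstance : IsMonHom ((Over.pullback r).map i'))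
    haveI : IsImmersion ir.left := GenDerived.isImmersion_bc r i'
    haveI : IsClosedImmersion ir.left := Groth.Agent.S0351.result (S.residueField s) Γr Gr ir
    have hw : ((Γ ◁ c).left ≫ iS.left) ≫ Gs.hom = (snd Γ X').left ≫ r := by
      rw [Category.assoc, Over.w iS]
      show (Γ ◁ c).left ≫ (snd Γ (Over.mk σ)).left = (snd Γ X').left ≫ c.left
      rw [← Over.comp_left, ← Over.comp_left, whiskerLeft_snd]
    let q : (Γ ⊗ X').left ⟶ Gr.left := pullback.lift ((Γ ◁ c).left ≫ iS.left) (snd Γ X').left hw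
    have hcl : IsClosedImmersion (pullback.snd y₀ (Γ ◁ c).left) := by
      haveI : IsImmersion (pullback.snd y₀ (Γ ◁ c).left) := MorphismProperty.pullback_snd _ _ ‹_›
      refine IsClosedImmersion.of_isPreimmersion _ ?_
      have e : Set.range (pullback.snd y₀ (Γ ◁ c).left) = q ⁻¹' Set.range ir.left := by
        rw [Scheme.Pullback.range_snd, Scheme.Pullback.range_snd]
        ext z
        have hz : pullback.fst Gs.hom r (q z) = iS.left ((Γ ◁ c).left z) := by
          rw [← Scheme.Hom.comp_apply, pullback.lift_fst]; rfl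
        simp only [Set.mem_preimage, ir, GenDerived.mem_range_bc_iff r i' (q z)]
        rw [← hz]
      rw [e]
      exact ir.left.isClosedEmbedding.isClosed_range.preimage q.continuous
    obtain ⟨hr, -⟩ := factor_of_closed f i hf hmin σ Γ' i' h' X' c hcl
    have hrange : p ∈ Set.range (Γ ◁ c).left := by
      rw [Over.whiskerLeft_left, Scheme.Pullback.range_map]
      refine ⟨⟨pullback.fst Γ.hom σ p, rfl⟩, IsLocalRing.closedPoint _, Scheme.fromSpecResidueField_apply _ _⟩
    exact hr hrange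
  haveI : IsClosedImmersion y₀ :=
    IsClosedImmersion.of_isPreimmersion _ (by rw [hfib.range_eq]; exact isClosed_univ)
  obtain ⟨-, hall⟩ := factor_of_closed f i hf hmin σ Γ' i' h' (Over.mk σ) (𝟙 _)
    (MorphismProperty.pullback_snd _ _ ‹_›)
  obtain ⟨l, hl⟩ := hall (Γ ⊗ Over.mk σ) (fst _ _) (snd _ _)
  rw [Category.comp_id, lift_fst_snd, Over.id_left] at hl
  refine ⟨Over.homMk (l ≫ pullback.fst i'.left iS.left) ?_, ?_⟩
  · rw [← Over.w i', Category.assoc, pullback.condition_assoc, Over.w, ← Category.assoc]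
    exact (congrArg (· ≫ (Red.bc σ Γ).hom) hl).trans (Category.id_comp _)
  · apply Over.OverMorphism.ext
    show (l ≫ pullback.fst i'.left iS.left) ≫ i'.left = iS.left
    rw [Category.assoc, pullback.condition, ← Category.assoc]
    exact (congrArg (· ≫ iS.left) hl).trans (Category.id_comp _)

end Groth.Agent.S5361
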