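import Groth.Statements.S5362
import Groth.Agent.AlgGrp79.GenSubgroup
import Groth.Agent.CAlg6.GrpSolv
import Groth.Agent.SGA3a.SubGrpOfMono
import Groth.Agent.S18825
-- import your own Groth.Agent.* helpers here

set_option autoImplicit false
universe u
open CategoryTheory CategoryTheory.Limits MonoidalCategory CartesianMonoidalCategory MonObj GrpObj AlgebraicGeometry
open SGA3

namespace Groth.Agent.S5362

/-- Let G be a group scheme locally of finite type over a field k, and a : A → G, b : B → G two closed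
subgroup schemes which are smooth and of finite type over k, such that B normalizes A (conjugating a
point of A by a point of B gives a point of A). Let i : Γ → G be the smallest closed subgroup scheme
of G through which both a and b factor. Then Γ is reduced and its underlying set is A·B, the image
of A ×_k B under (x, y) ↦ a(x) b(y). -/
theorem result (k : Type u) [Field k] (G A B : Over (Spec (CommRingCat.of k))) [GrpObj G] [GrpObj A] [GrpObj B]
    [LocallyOfFiniteType G.hom] (a : A ⟶ G) [IsMonHom a] [IsClosedImmersion a.left] (b : B ⟶ G) [IsMonHom b]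
    [IsClosedImmersion b.left] [Smooth A.hom] [QuasiCompact A.hom] [Smooth B.hom] [QuasiCompact B.hom]
    (hN : ∀ (T : Over (Spec (CommRingCat.of k))) (y : T ⟶ B) (x : T ⟶ A), ∃ x' : T ⟶ A, (y ≫ b) * (x ≫ a) * (y ≫ b)⁻¹ = x' ≫ a)
    (Γ : Over (Spec (CommRingCat.of k))) [GrpObj Γ] (i : Γ ⟶ G) [IsMonHom i] [IsClosedImmersion i.left]
    (ha : ∃ a' : A ⟶ Γ, a' ≫ i = a) (hb : ∃ b' : B ⟶ Γ, b' ≫ i = b)
    (hmin : ∀ (Γ' : Over (Spec (CommRingCat.of k))) (_ : GrpObj Γ') (i' : Γ' ⟶ G), IsMonHom i' → IsClosedImmersion i'.left →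
        (∃ a'' : A ⟶ Γ', a'' ≫ i' = a) → (∃ b'' : B ⟶ Γ', b'' ≫ i' = b) → ∃ j : Γ ⟶ Γ', j ≫ i' = i) :
    IsReduced Γ.left ∧ Set.range i.left.base = Set.range ((a ⊗ₘ b) ≫ μ[G]).left.base := by
  open Groth.Agent.AlgGrp79 in
  obtain ⟨a', ha'⟩ := ha
  obtain ⟨b', hb'⟩ := hb
  have : IsSeparated G.hom := isSeparated_grp G
  have := Over.mono_of_mono_left a
  have := Over.mono_of_mono_left b
  have := Over.mono_of_mono_left i
  -- A ⋊ B as a subgroup of G × B
  let w : A ⊗ B ⟶ G := (fst A B ≫ a) * (snd A B ≫ b)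
  let t : A ⊗ B ⟶ G ⊗ B := lift w (snd A B)
  have hmono : Mono t := ⟨fun {Z} p q h => by
    have h2 : p ≫ snd A B = q ≫ snd A B := by simpa [t] using congrArg (· ≫ snd G B) h
    have h1 : p ≫ w = q ≫ w := by simpa [t] using congrArg (· ≫ fst G B) h
    simp only [w, MonObj.comp_mul] at h1
    rw [← Category.assoc p (snd A B) b, ← Category.assoc q (snd A B) b, h2] at h1
    refine CartesianMonoidalCategory.hom_ext _ _ ?_ h2
    rw [← cancel_mono a, Category.assoc, Category.assoc]
    exact mul_right_cancel h1⟩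
  have key : ∀ {Z : Over (Spec (CommRingCat.of k))} (x : Z ⟶ A) (y : Z ⟶ B), lift x y ≫ w = (x ≫ a) * (y ≫ b) := fun x y => by
    simp only [w, MonObj.comp_mul, lift_fst_assoc, lift_snd_assoc]
  have h1 : ∃ z, z ≫ t = (1 : 𝟙_ _ ⟶ G ⊗ B) := ⟨lift 1 1, by
    ext
    · simp only [Category.assoc, t, lift_fst, key, MonObj.one_comp, _root_.mul_one]
    · simp only [Category.assoc, t, lift_snd, MonObj.one_comp]⟩
  have hinv : ∃ z, z ≫ t = t⁻¹ := by
    obtain ⟨x', hx'⟩ := hN _ ((snd A B)⁻¹) ((fst A B)⁻¹)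
    refine ⟨lift x' (snd A B)⁻¹, ?_⟩
    ext
    · simp only [Category.assoc, t, lift_fst, key, GrpObj.inv_comp, ← hx']
      simp only [w, GrpObj.inv_comp]
      group
    · simp only [Category.assoc, t, lift_snd, GrpObj.inv_comp]
  have hmul : ∃ z, z ≫ t = (fst _ _ ≫ t) * (snd _ _ ≫ t) := by
    obtain ⟨x', hx'⟩ := hN _ (fst (A ⊗ B) (A ⊗ B) ≫ snd A B) (snd (A ⊗ B) (A ⊗ B) ≫ fst A B)
    refine ⟨lift ((fst (A ⊗ B) (A ⊗ B) ≫ fst A B) * x') ((fst (A ⊗ B) (A ⊗ B) ≫ snd A B) * (snd (A ⊗ B) (A ⊗ B) ≫ snd A B)), ?_⟩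
    ext
    · simp only [Category.assoc, t, lift_fst, key, MonObj.mul_comp, ← hx', MonObj.comp_mul, w]
      group
    · simp only [Category.assoc, t, lift_snd, MonObj.mul_comp]
  let P : Over (Spec (CommRingCat.of k)) := Over.mk (A ⊗ B).hom
  let tP : P ⟶ G ⊗ B := t
  let wP : P ⟶ G := w
  haveI : Mono tP := hmono
  letI gP : GrpObj P := SGA3a.grpObjOfMono tP h1 hmul hinv
  haveI : IsMonHom tP := SGA3a.isMonHom_grpObjOfMono tP h1 hmul hinv
  have ht : tP ≫ fst G B = wP := lift_fst _ _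
  haveI : IsMonHom wP := by rw [← ht]; infer_instance
  haveI : QuasiCompact P.hom → QuasiCompact wP.left := fun _ => by
    have : QuasiCompact (wP.left ≫ G.hom) := by rw [Over.w]; infer_instance
    exact QuasiCompact.of_comp wP.left G.hom
  haveI : Smooth (A ⊗ B).hom := CAlg6.GrpSolv.smooth_tensor A B
  haveI : IsReduced (A ⊗ B).left := isReduced_of_smooth (A ⊗ B).hom
  haveI : QuasiCompact (A ⊗ B).hom := by
    show QuasiCompact (Limits.pullback.fst A.hom B.hom ≫ A.hom)
    exact MorphismProperty.comp_mem _ _ _ (MorphismProperty.pullback_fst _ _ ‹_›) ‹_›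
  haveI : QuasiCompact w.left := by
    have : QuasiCompact (w.left ≫ G.hom) := by rw [Over.w]; infer_instance
    exact QuasiCompact.of_comp w.left G.hom
  let K : Over (Spec (CommRingCat.of k)) := Over.mk (w.left.imageι ≫ G.hom)
  let iK : K ⟶ G := Over.homMk w.left.imageι rfl
  let gK : A ⊗ B ⟶ K := Over.homMk w.left.toImage (by
    show w.left.toImage ≫ w.left.imageι ≫ G.hom = _
    rw [← Category.assoc, Scheme.Hom.toImage_imageι, Over.w])
  have hgi : gK ≫ iK = w := by ext1; exact w.left.toImage_imageι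
  haveI : IsClosedImmersion iK.left := inferInstanceAs (IsClosedImmersion w.left.imageι)
  haveI : IsSchemeTheoreticallyDominant gK.left := schDominant_toImage w.left
  haveI : QuasiCompact gK.left := inferInstanceAs (QuasiCompact w.left.toImage)
  haveI : LocallyOfFiniteType (A ⊗ B).hom := inferInstance
  haveI : LocallyOfFiniteType P.hom := inferInstanceAs (LocallyOfFiniteType (A ⊗ B).hom)
  haveI : QuasiCompact wP.left := ‹QuasiCompact w.left›
  haveI : IsSchemeTheoreticallyDominant (gK : P ⟶ K).left := ‹IsSchemeTheoreticallyDominant gK.left›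
  obtain ⟨hK, hsurj⟩ := Groth.Agent.S18825.result k P G K wP iK gK hgi
  have := Over.mono_of_mono_left iK
  obtain ⟨_, _⟩ := exists_grpObj_closed iK hK.1 hK.2
  obtain ⟨j, hj⟩ := hmin K inferInstance iK inferInstance inferInstance
    ⟨lift (𝟙 A) 1 ≫ gK, by rw [Category.assoc, hgi, key, MonObj.one_comp, _root_.mul_one, Category.id_comp]⟩
    ⟨lift 1 (𝟙 B) ≫ gK, by rw [Category.assoc, hgi, key, MonObj.one_comp, _root_.one_mul, Category.id_comp]⟩
  obtain ⟨m, hm⟩ := exists_lift_of_dominant gK iK i ((fst A B ≫ a') * (snd A B ≫ b')) (by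
    rw [MonObj.mul_comp, Category.assoc, Category.assoc, ha', hb', hgi])
  let e : K ≅ Γ := ⟨m, j, by rw [← cancel_mono iK, Category.assoc, hj, hm, Category.id_comp],
    by rw [← cancel_mono i, Category.assoc, hm, hj, Category.id_comp]⟩
  haveI : IsSchemeTheoreticallyDominant w.left.toImage := schDominant_toImage _
  haveI : IsReduced ((Over.forget (Spec (CommRingCat.of k))).obj K) := (IsSchemeTheoreticallyDominant.isReduced w.left.toImage : AlgebraicGeometry.IsReduced w.left.image)
  have hje : Function.Surjective m.left.base := fun x => ⟨j.left.base x, by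
    show (j ≫ m).left.base x = x
    rw [show j ≫ m = 𝟙 Γ from e.inv_hom_id]; rfl⟩
  refine ⟨isReduced_of_isOpenImmersion ((Over.forget _).mapIso e).inv, ?_⟩
  have hw : ((a ⊗ₘ b) ≫ μ[G]) = w := by rw [MonObj.mul_eq_mul, MonObj.comp_mul, tensorHom_fst, tensorHom_snd]
  rw [hw, ← hgi, ← hm]
  ext x
  constructor
  · rintro ⟨y, rfl⟩
    obtain ⟨z, rfl⟩ := hje y
    obtain ⟨v, rfl⟩ := hsurj.surj z
    exact ⟨v, rfl⟩
  · rintro ⟨v, rfl⟩
    exact ⟨m.left.base (gK.left.base v), rfl⟩

end Groth.Agent.S5362
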