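import Groth.Statements.S5365
import Groth.Agent.CAlg6.GrpWordField
-- import your own Groth.Agent.* helpers here

set_option autoImplicit false
universe u
open CategoryTheory CategoryTheory.Limits MonoidalCategory CartesianMonoidalCategory MonObj GrpObj AlgebraicGeometry
open SGA3

namespace Groth.Agent.S5365

/-- Let G be a group scheme locally of finite type over a field k, a : A → G and b : B → G two closed
subgroup schemes which are geometrically reduced over k, and i : Γ → G the commutator subgroup
scheme (A, B), the smallest closed subgroup scheme through which (x, y) ↦ a(x) b(y) a(x)⁻¹ b(y)⁻¹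
factors. Suppose either (a) A and B are normal in G and of finite type over k, or (b) A is connected
and B is of finite type over k. Then Γ is of finite type over k, and in case (b) Γ is connected.
(The published statement also asserts that this subgroup represents the fppf sheaf generated by
commutators and describes its neutral component; this row states only the finiteness and
connectedness assertions.) -/
theorem result (k : Type u) [Field k] (G A B : Over (Spec (CommRingCat.of k))) [GrpObj G] [GrpObj A] [GrpObj B]
    [LocallyOfFiniteType G.hom]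
    (a : A ⟶ G) [IsMonHom a] [IsClosedImmersion a.left] (b : B ⟶ G) [IsMonHom b] [IsClosedImmersion b.left]
    [GeometricallyReduced A.hom] [GeometricallyReduced B.hom] [QuasiCompact B.hom]
    (hcase : (AlgGrp.IsNormalHom a ∧ AlgGrp.IsNormalHom b ∧ QuasiCompact A.hom) ∨ ConnectedSpace A.left)
    (Γ : Over (Spec (CommRingCat.of k))) [GrpObj Γ] (i : Γ ⟶ G) [IsMonHom i] [IsClosedImmersion i.left]
    (hf : ∃ f' : A ⊗ B ⟶ Γ, f' ≫ i = (((fst A B) ≫ a) * ((snd A B) ≫ b) * ((fst A B) ≫ a)⁻¹ * ((snd A B) ≫ b)⁻¹))
    (hmin : ∀ (Γ' : Over (Spec (CommRingCat.of k))) (_ : GrpObj Γ') (i' : Γ' ⟶ G), IsMonHom i' → IsClosedImmersion i'.left →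
        (∃ f'' : A ⊗ B ⟶ Γ', f'' ≫ i' = (((fst A B) ≫ a) * ((snd A B) ≫ b) * ((fst A B) ≫ a)⁻¹ * ((snd A B) ≫ b)⁻¹)) → ∃ j : Γ ⟶ Γ', j ≫ i' = i) :
    QuasiCompact Γ.hom ∧ (ConnectedSpace A.left → ConnectedSpace Γ.left) := by
  open Groth.Agent.CAlg6.GrpWord in
  obtain ⟨N, hcl, hmax, hirr⟩ := exists_bound_comm_field a b hcase
  have : LocallyOfFiniteType A.hom := by rw [← Over.w a]; infer_instance
  have : LocallyOfFiniteType B.hom := by rw [← Over.w b]; infer_instance
  have hAqc : QuasiCompact A.hom := by
    rcases hcase with h | h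
    · exact h.2.2
    · obtain ⟨A₀, _, incl, -, -, -, hr, -, hcpt⟩ := Groth.Agent.Grp57.exists_identityComponent (G := A)
      rw [PreconnectedSpace.connectedComponent_eq_univ] at hr
      have : CompactSpace A.left := ⟨hr ▸ isCompact_range incl.left.continuous⟩
      exact (quasiCompact_iff_compactSpace _).2 this
  have : LocallyOfFiniteType (A ⊗ B).hom := lft_tensor A B
  have : QuasiCompact (A ⊗ B).hom := qc_tensor A B
  have : GeometricallyReduced (A ⊗ B).hom := geomRed_tensor A B
  have hr : Set.range i.left = WSet (cmap a b) N :=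
    range_eq_wset (cmap a b) (unitWord_cmap a b) N hcl hmax Γ i hf hmin
  refine ⟨?_, fun h => ?_⟩
  · have hc : IsCompact (WSet (cmap a b) N) := by
      rw [wset_eq_iUnion]
      refine isCompact_iUnion fun ε => ?_
      have := qc_pow (A ⊗ B) N
      have : CompactSpace (CAlg6.GrpWord.pow (A ⊗ B) N).left :=
        (quasiCompact_iff_compactSpace (CAlg6.GrpWord.pow (A ⊗ B) N).hom).1 this
      exact isCompact_range (Scheme.Hom.continuous _)
    rw [← hr] at hc
    have : CompactSpace Γ.left := ⟨by
      rw [i.left.isClosedEmbedding.isInducing.isCompact_iff, Set.image_univ]; exact hc⟩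
    exact (quasiCompact_iff_compactSpace _).2 this
  · have h' := hirr h
    rw [← hr] at h'
    have hc := h'.isConnected
    rw [← Set.image_univ] at hc
    rw [connectedSpace_iff_univ]
    exact ⟨⟨η[Γ].left (IsLocalRing.closedPoint k), trivial⟩,
      i.left.isClosedEmbedding.isInducing.isPreconnected_image.1 hc.isPreconnected⟩

end Groth.Agent.S5365
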