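import Groth.Statements.S5369
import Groth.Agent.SGA3a.QuotDiag

set_option autoImplicit false
universe u
open CategoryTheory CategoryTheory.Limits MonoidalCategory CartesianMonoidalCategory MonObj GrpObj AlgebraicGeometry
open SGA3

namespace Groth.Agent.S5369

/-- Let u : G' → G be a monomorphism of S-group schemes and p : G → G'' a morphism of S-schemes which is
covering for the fpqc topology (some Z → G'' which is flat, surjective, with every affine open of
G'' the image of a quasi-compact open of Z, factors through p) and such that the square (g, h) ↦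
g·u(h), first projection G ×_S G' → G, p, p is cartesian, so that G'' represents the fpqc quotient
sheaf G/G'. Let ε'' be the composite of the unit section of G with p. Then the square formed by u,
the structure morphism G' → S, p and ε'' is cartesian; u is an immersion; and G'' is separated over
S if and only if u is a closed immersion, if and only if ε'' is a closed immersion. -/
theorem result (S : Scheme.{u}) (G G' G'' : Over S) [GrpObj G] [GrpObj G']
    (u : G' ⟶ G) [IsMonHom u] [Mono u] (p : G ⟶ G'')
    (hcov : (∃ (Z : Scheme.{u}) (q : Z ⟶ G''.left) (r : Z ⟶ G.left), r ≫ p.left = q ∧ Surjective q ∧ Flat q ∧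
        ∀ V : G''.left.Opens, IsAffineOpen V → ∃ W : Z.Opens, IsCompact (W : Set Z) ∧ q.base '' (W : Set Z) = (V : Set G''.left)))
    (hsq : IsPullback ((G ◁ u) ≫ μ[G]) (fst G G') p p) :
    IsPullback u (toUnit G') p (η[G] ≫ p) ∧ IsImmersion u.left ∧
    (IsSeparated G''.hom ↔ IsClosedImmersion u.left) ∧ (IsClosedImmersion u.left ↔ IsClosedImmersion (η[G] ≫ p).left) := by
  have hcomp : ∀ {T : Over S} (z : T ⟶ G ⊗ G'),
      z ≫ (G ◁ u) ≫ μ[G] = (z ≫ fst G G') * ((z ≫ snd G G') ≫ u) := fun z => by
    rw [Hom.mul_def, ← Category.assoc]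
    congr 1
    ext : 1 <;> simp
  have w : u ≫ p = toUnit G' ≫ η[G] ≫ p := by
    have h : (lift (1 : G' ⟶ G) (𝟙 G') ≫ (G ◁ u) ≫ μ[G]) ≫ p = (lift (1 : G' ⟶ G) (𝟙 G') ≫ fst G G') ≫ p := by
      rw [Category.assoc, hsq.w, Category.assoc]
    rw [hcomp, lift_fst, lift_snd, Category.id_comp, _root_.one_mul, Hom.one_def, Category.assoc] at h
    exact h
  have hpb : IsPullback u (toUnit G') p (η[G] ≫ p) := by
    have hc : ∀ s : PullbackCone p (η[G] ≫ p), s.fst ≫ p = (1 : s.pt ⟶ G) ≫ p := fun s => by
      rw [s.condition, Hom.one_def, toUnit_unique s.snd (toUnit _), Category.assoc]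
    have key : ∀ s : PullbackCone p (η[G] ≫ p), (hsq.lift s.fst 1 (hc s) ≫ snd G G') ≫ u = s.fst := fun s => by
      have e1 := hsq.lift_fst s.fst 1 (hc s)
      have e2 := hsq.lift_snd s.fst 1 (hc s)
      rw [hcomp, e2, _root_.one_mul] at e1
      exact e1
    refine IsPullback.of_isLimit' ⟨w⟩ (PullbackCone.IsLimit.mk _
      (fun s => hsq.lift s.fst 1 (hc s) ≫ snd G G') key (fun s => toUnit_unique _ _) fun s m h₁ h₂ => ?_)
    rw [← cancel_mono u, h₁, key]
  have hpbl : IsPullback u.left (toUnit G').left p.left (η[G] ≫ p).left := hpb.map (Over.forget S)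
  have hid : IsIso ((η[G] ≫ p).left ≫ G''.hom) := by rw [Over.w]; exact inferInstanceAs (IsIso (𝟙 S))
  have hεi : IsImmersion (η[G] ≫ p).left := IsImmersion.of_comp _ G''.hom
  have h1 : IsSeparated G''.hom → IsClosedImmersion (η[G] ≫ p).left := fun _ =>
    IsClosedImmersion.of_comp _ G''.hom
  have h2 : IsClosedImmersion (η[G] ≫ p).left → IsClosedImmersion u.left := fun h =>
    MorphismProperty.of_isPullback (P := @IsClosedImmersion) hpbl.flip h
  have hp : SGA3a.QuotCover.IsCov p.left := SGA3a.QuotCover.IsCov.mk p.left hcov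
  have h3 : IsClosedImmersion u.left → IsClosedImmersion (η[G] ≫ p).left := fun h =>
    hp.descend @IsClosedImmersion Unr55.isClosedImmersion hpbl.flip h
  have h4 : IsClosedImmersion u.left → IsSeparated G''.hom := fun h => by
    refine SGA3a.QuotDiag.isSeparated_of_isClosedImmersion_graph p hp ?_
    let θ : G ⊗ G ≅ G ⊗ G :=
      { hom := lift μ[G] (fst G G)
        inv := lift (snd G G) ((snd G G)⁻¹ * fst G G)
        hom_inv_id := CartesianMonoidalCategory.hom_ext _ _ (by simp) (by
          rw [Category.assoc, lift_snd, MonObj.comp_mul, GrpObj.comp_inv, lift_fst, lift_snd, Category.id_comp]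
          have : μ[G] = fst G G * snd G G := by rw [Hom.mul_def, lift_fst_snd, Category.id_comp]
          rw [this]; group)
        inv_hom_id := CartesianMonoidalCategory.hom_ext _ _ (by
          rw [Category.assoc, lift_fst, ← Hom.mul_def, mul_inv_cancel_left, Category.id_comp]) (by simp) }
    have hk : (hsq.isoPullback.hom ≫ lift (pullback.fst p p) (pullback.snd p p)) = (G ◁ u) ≫ θ.hom := by
      apply CartesianMonoidalCategory.hom_ext
      · rw [Category.assoc, lift_fst, hsq.isoPullback_hom_fst, Category.assoc, lift_fst]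
      · rw [Category.assoc, lift_snd, hsq.isoPullback_hom_snd, Category.assoc, lift_snd, whiskerLeft_fst]
    have e : (lift (pullback.fst p p) (pullback.snd p p)).left =
        hsq.isoPullback.inv.left ≫ (G ◁ u).left ≫ θ.hom.left := by
      rw [← Over.comp_left, ← Over.comp_left, ← hk, Iso.inv_hom_id_assoc]
    rw [e]
    have : IsClosedImmersion (G ◁ u).left :=
      MorphismProperty.of_isPullback (P := @IsClosedImmersion) (SGA3a.QuotDiag.isPullback_whiskerLeft_snd G u) h
    have : IsIso θ.hom.left := inferInstanceAs (IsIso ((Over.forget S).mapIso θ).hom)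
    have : IsIso hsq.isoPullback.inv.left := inferInstanceAs (IsIso ((Over.forget S).mapIso hsq.isoPullback.symm).hom)
    infer_instance
  exact ⟨hpb, MorphismProperty.of_isPullback (P := @IsImmersion) hpbl.flip hεi,
    ⟨fun hs => h2 (h1 hs), h4⟩, ⟨h3, h2⟩⟩

end Groth.Agent.S5369
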