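import Groth.Statements.S5370
import Groth.Agent.SGA3a.QuotDiag

set_option autoImplicit false
universe u
open CategoryTheory CategoryTheory.Limits MonoidalCategory CartesianMonoidalCategory MonObj GrpObj AlgebraicGeometry
open SGA3

namespace Groth.Agent.S5370

/-- Let u : G' → G be a monomorphism of S-group schemes and p : G → G'' a morphism of S-schemes which is
covering for the fpqc topology (some Z → G'' which is flat, surjective, with every affine open of
G'' the image of a quasi-compact open of Z, factors through p) and such that the square (g, h) ↦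
g·u(h), first projection G ×_S G' → G, p, p is cartesian, so that G'' represents the fpqc quotient
sheaf G/G'. Then: (ix) if G is reduced, G'' is reduced; (xi) G' is flat over S if and only if p is
flat, and in that case G'' is flat over S if and only if G is flat over S. -/
theorem result (S : Scheme.{u}) (G G' G'' : Over S) [GrpObj G] [GrpObj G']
    (u : G' ⟶ G) [IsMonHom u] [Mono u] (p : G ⟶ G'')
    (hcov : (∃ (Z : Scheme.{u}) (q : Z ⟶ G''.left) (r : Z ⟶ G.left), r ≫ p.left = q ∧ Surjective q ∧ Flat q ∧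
        ∀ V : G''.left.Opens, IsAffineOpen V → ∃ W : Z.Opens, IsCompact (W : Set Z) ∧ q.base '' (W : Set Z) = (V : Set G''.left)))
    (hsq : IsPullback ((G ◁ u) ≫ μ[G]) (fst G G') p p) :
    (IsReduced G.left → IsReduced G''.left) ∧
    (Flat G'.hom ↔ Flat p.left) ∧ (Flat p.left → (Flat G''.hom ↔ Flat G.hom)) := by
  have hcomp : ∀ {T : Over S} (z : T ⟶ G ⊗ G'),
      z ≫ (G ◁ u) ≫ μ[G] = (z ≫ fst G G') * ((z ≫ snd G G') ≫ u) := fun z => by
    rw [Hom.mul_def, ← Category.assoc]
    congr 1
    ext : 1 <;> simp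
  have w : u ≫ p = toUnit G' ≫ η[G] ≫ p := by
    have h : (lift (1 : G' ⟶ G) (𝟙 G') ≫ (G ◁ u) ≫ μ[G]) ≫ p = (lift (1 : G' ⟶ G) (𝟙 G') ≫ fst G G') ≫ p := by
      rw [Category.assoc, hsq.w, Category.assoc]
    rw [hcomp, lift_fst, lift_snd, Category.id_comp, _root_.one_mul, Hom.one_def, Category.assoc] at h
    exact h
  have hpb : IsPullback u (toUnit G') p (η[G] ≫ p) := by
    have hc : ∀ s : PullbackCone p (η[G] ≫ p), s.fst ≫ p = (1 : s.pt ⟶ G) ≫ p := fun s => by
      rw [s.condition, Hom.one_def, toUnit_unique s.snd (toUnit _), Category.assoc]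
    have key : ∀ s : PullbackCone p (η[G] ≫ p), (hsq.lift s.fst 1 (hc s) ≫ snd G G') ≫ u = s.fst := fun s => by
      have e1 := hsq.lift_fst s.fst 1 (hc s)
      have e2 := hsq.lift_snd s.fst 1 (hc s)
      rw [hcomp, e2, _root_.one_mul] at e1
      exact e1
    refine IsPullback.of_isLimit' ⟨w⟩ (PullbackCone.IsLimit.mk _
      (fun s => hsq.lift s.fst 1 (hc s) ≫ snd G G') key (fun s => toUnit_unique _ _) fun s m h₁ h₂ => ?_)
    rw [← cancel_mono u, h₁, key]
  have hpbl : IsPullback u.left (toUnit G').left p.left (η[G] ≫ p).left := hpb.map (Over.forget S)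
  have hp : SGA3a.QuotCover.IsCov p.left := SGA3a.QuotCover.IsCov.mk p.left hcov
  have hsq' : IsPullback ((G ◁ u) ≫ μ[G]).left (fst G G').left p.left p.left := hsq.map (Over.forget S)
  have hG : IsPullback (snd G G').left (fst G G').left G'.hom G.hom := (IsPullback.of_hasPullback G.hom G'.hom).flip
  refine ⟨fun h => hp.isReduced, ⟨fun h => ?_, fun h => ?_⟩, fun h => ⟨fun h2 => ?_, fun h2 => ?_⟩⟩
  · exact hp.descend @Flat Sga84.flat_descendsAlong hsq' (MorphismProperty.of_isPullback (P := @Flat) hG h)
  · have h1 : Flat (toUnit G').left := MorphismProperty.of_isPullback (P := @Flat) hpbl h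
    have : IsIso (𝟙_ (Over S)).hom := inferInstanceAs (IsIso (𝟙 S))
    rw [← Over.w (toUnit G')]
    infer_instance
  · rw [← Over.w p]; infer_instance
  · have : Flat (p.left ≫ G''.hom) := by rw [Over.w]; exact h2
    exact hp.flat_of_comp G''.hom

end Groth.Agent.S5370
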