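import Groth.Statements.S5371
import Groth.Agent.SGA3a.QuotDiag

set_option autoImplicit false
universe u
open CategoryTheory CategoryTheory.Limits MonoidalCategory CartesianMonoidalCategory MonObj GrpObj AlgebraicGeometry
open SGA3

namespace Groth.Agent.S5371

/-- Let u : G' → G be a monomorphism of S-group schemes and p : G → G'' a morphism of S-schemes which is
covering for the fpqc topology (some Z → G'' which is flat, surjective, with every affine open of
G'' the image of a quasi-compact open of Z, factors through p) and such that the square (g, h) ↦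
g·u(h), first projection G ×_S G' → G, p, p is cartesian, so that G'' represents the fpqc quotient
sheaf G/G'. (xii) G' is flat and locally of finite presentation over S if and only if p is
surjective, flat and locally of finite presentation; in that case, if G is locally of finite
presentation (resp. locally of finite type, of finite type, smooth, etale, unramified, locally
quasi-finite) over S, so is G''. (xiii) If G' is flat and of finite presentation over S then p is of
finite presentation, and G is of finite presentation over S if and only if G'' is. -/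
theorem result (S : Scheme.{u}) (G G' G'' : Over S) [GrpObj G] [GrpObj G']
    (u : G' ⟶ G) [IsMonHom u] [Mono u] (p : G ⟶ G'')
    (hcov : (∃ (Z : Scheme.{u}) (q : Z ⟶ G''.left) (r : Z ⟶ G.left), r ≫ p.left = q ∧ Surjective q ∧ Flat q ∧
        ∀ V : G''.left.Opens, IsAffineOpen V → ∃ W : Z.Opens, IsCompact (W : Set Z) ∧ q.base '' (W : Set Z) = (V : Set G''.left)))
    (hsq : IsPullback ((G ◁ u) ≫ μ[G]) (fst G G') p p) :
    ((Flat G'.hom ∧ LocallyOfFinitePresentation G'.hom) ↔
      (Surjective p.left ∧ Flat p.left ∧ LocallyOfFinitePresentation p.left)) ∧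
    (Flat p.left → LocallyOfFinitePresentation p.left →
      (LocallyOfFinitePresentation G.hom → LocallyOfFinitePresentation G''.hom) ∧
      (LocallyOfFiniteType G.hom → LocallyOfFiniteType G''.hom) ∧
      (LocallyOfFiniteType G.hom → QuasiCompact G.hom → QuasiCompact G''.hom) ∧
      (Smooth G.hom → Smooth G''.hom) ∧ (Etale G.hom → Etale G''.hom) ∧
      (FormallyUnramified G.hom → LocallyOfFinitePresentation G.hom → FormallyUnramified G''.hom) ∧
      (LocallyQuasiFinite G.hom → LocallyOfFiniteType G.hom → LocallyQuasiFinite G''.hom)) ∧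
    (Flat G'.hom → LocallyOfFinitePresentation G'.hom → QuasiCompact G'.hom → QuasiSeparated G'.hom →
      QuasiCompact p.left ∧ QuasiSeparated p.left ∧ LocallyOfFinitePresentation p.left ∧
      ((LocallyOfFinitePresentation G.hom ∧ QuasiCompact G.hom ∧ QuasiSeparated G.hom) ↔
        (LocallyOfFinitePresentation G''.hom ∧ QuasiCompact G''.hom ∧ QuasiSeparated G''.hom))) := by
  have hcomp : ∀ {T : Over S} (z : T ⟶ G ⊗ G'),
      z ≫ (G ◁ u) ≫ μ[G] = (z ≫ fst G G') * ((z ≫ snd G G') ≫ u) := fun z => by
    rw [Hom.mul_def, ← Category.assoc]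
    congr 1
    ext : 1 <;> simp
  have w : u ≫ p = toUnit G' ≫ η[G] ≫ p := by
    have h : (lift (1 : G' ⟶ G) (𝟙 G') ≫ (G ◁ u) ≫ μ[G]) ≫ p = (lift (1 : G' ⟶ G) (𝟙 G') ≫ fst G G') ≫ p := by
      rw [Category.assoc, hsq.w, Category.assoc]
    rw [hcomp, lift_fst, lift_snd, Category.id_comp, _root_.one_mul, Hom.one_def, Category.assoc] at h
    exact h
  have hpb : IsPullback u (toUnit G') p (η[G] ≫ p) := by
    have hc : ∀ s : PullbackCone p (η[G] ≫ p), s.fst ≫ p = (1 : s.pt ⟶ G) ≫ p := fun s => by
      rw [s.condition, Hom.one_def, toUnit_unique s.snd (toUnit _), Category.assoc]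
    have key : ∀ s : PullbackCone p (η[G] ≫ p), (hsq.lift s.fst 1 (hc s) ≫ snd G G') ≫ u = s.fst := fun s => by
      have e1 := hsq.lift_fst s.fst 1 (hc s)
      have e2 := hsq.lift_snd s.fst 1 (hc s)
      rw [hcomp, e2, _root_.one_mul] at e1
      exact e1
    refine IsPullback.of_isLimit' ⟨w⟩ (PullbackCone.IsLimit.mk _
      (fun s => hsq.lift s.fst 1 (hc s) ≫ snd G G') key (fun s => toUnit_unique _ _) fun s m h₁ h₂ => ?_)
    rw [← cancel_mono u, h₁, key]
  have hpbl : IsPullback u.left (toUnit G').left p.left (η[G] ≫ p).left := hpb.map (Over.forget S)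
  have hp : SGA3a.QuotCover.IsCov p.left := SGA3a.QuotCover.IsCov.mk p.left hcov
  have : Surjective p.left := hp.surjective
  have hsq' : IsPullback ((G ◁ u) ≫ μ[G]).left (fst G G').left p.left p.left := hsq.map (Over.forget S)
  have hG : IsPullback (snd G G').left (fst G G').left G'.hom G.hom := (IsPullback.of_hasPullback G.hom G'.hom).flip
  have : IsIso (𝟙_ (Over S)).hom := inferInstanceAs (IsIso (𝟙 S))
  have hpf : Flat G'.hom → Flat p.left := fun h =>
    hp.descend @Flat Sga84.flat_descendsAlong hsq' (MorphismProperty.of_isPullback (P := @Flat) hG h)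
  have hpl : LocallyOfFinitePresentation G'.hom → LocallyOfFinitePresentation p.left := fun h =>
    hp.descend @LocallyOfFinitePresentation inferInstance hsq'
      (MorphismProperty.of_isPullback (P := @LocallyOfFinitePresentation) hG h)
  have hback : ∀ (P : MorphismProperty Scheme.{u}) [P.IsStableUnderBaseChange] [P.RespectsIso],
      P p.left → P G'.hom := fun P _ _ h => by
    have h1 : P (toUnit G').left := MorphismProperty.of_isPullback hpbl h
    rwa [← Over.w (toUnit G'), P.cancel_right_of_respectsIso]
  refine ⟨⟨fun h => ⟨inferInstance, hpf h.1, hpl h.2⟩, fun h => ⟨hback @Flat h.2.1, hback @LocallyOfFinitePresentation h.2.2⟩⟩,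
    fun hf hl => ?_, fun hf hl hq hs => ?_⟩
  · have e : p.left ≫ G''.hom = G.hom := Over.w p
    refine ⟨fun h => ?_, fun h => ?_, fun h h' => ?_, fun h => ?_, fun h => ?_, fun h h' => ?_, fun h h' => ?_⟩
    · have : LocallyOfFinitePresentation (p.left ≫ G''.hom) := e.symm ▸ h
      exact Unr55.locallyOfFinitePresentation_of_fppf_comp p.left G''.hom
    · have : LocallyOfFiniteType (p.left ≫ G''.hom) := e.symm ▸ h
      exact Unr55.locallyOfFiniteType_of_fppf_comp p.left G''.hom
    · have : QuasiCompact (p.left ≫ G''.hom) := e.symm ▸ h'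
      exact SGA3a.QuotCover.quasiCompact_of_comp p.left G''.hom
    · have : Smooth (p.left ≫ G''.hom) := e.symm ▸ h
      exact Unr55.smooth_of_fppf_comp p.left G''.hom
    · have : Etale (p.left ≫ G''.hom) := e.symm ▸ h
      exact SGA3a.QuotCover.etale_of_comp p.left G''.hom
    · have : FormallyUnramified (p.left ≫ G''.hom) := e.symm ▸ h
      exact SGA3a.QuotCover.formallyUnramified_of_comp p.left G''.hom
    · have : LocallyQuasiFinite (p.left ≫ G''.hom) := e.symm ▸ h
      have : LocallyOfFiniteType (p.left ≫ G''.hom) := e.symm ▸ h'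
      exact SGA3a.QuotCover.locallyQuasiFinite_of_comp p.left G''.hom
  · have hqc : QuasiCompact p.left := hp.descend @QuasiCompact Unr55.quasiCompact hsq'
      (MorphismProperty.of_isPullback (P := @QuasiCompact) hG hq)
    have hqs : QuasiSeparated p.left := hp.descend @QuasiSeparated Unr55.quasiSeparated hsq'
      (MorphismProperty.of_isPullback (P := @QuasiSeparated) hG hs)
    have := hpl hl
    have := hpf hf
    have e : p.left ≫ G''.hom = G.hom := Over.w p
    refine ⟨hqc, hqs, hpl hl, ⟨?_, ?_⟩⟩
    · rintro ⟨a, b, c⟩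
      have : LocallyOfFinitePresentation (p.left ≫ G''.hom) := e.symm ▸ a
      have : QuasiCompact (p.left ≫ G''.hom) := e.symm ▸ b
      have : QuasiSeparated (p.left ≫ G''.hom) := e.symm ▸ c
      exact ⟨Unr55.locallyOfFinitePresentation_of_fppf_comp p.left G''.hom,
        SGA3a.QuotCover.quasiCompact_of_comp p.left G''.hom,
        SGA3a.QuotCover.quasiSeparated_of_comp p.left G''.hom⟩
    · rintro ⟨a, b, c⟩
      rw [← e]
      exact ⟨inferInstance, inferInstance, inferInstance⟩

end Groth.Agent.S5371
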