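import Groth.Statements.S5374
import Groth.Agent.CAlg6.GenEssFree
-- import your own Groth.Agent.* helpers here

set_option autoImplicit false
universe u
open CategoryTheory CategoryTheory.Limits MonoidalCategory CartesianMonoidalCategory MonObj GrpObj AlgebraicGeometry
open SGA3

namespace Groth.Agent.S5374

/-- The transporter of two morphisms; the centralizer of a morphism is the case u = v: let S be an
integral scheme, G an S-group scheme of finite presentation, Y an S-scheme of finite presentation
and u, v : Y → G two morphisms of S-schemes. Then there is a nonempty open subscheme S' of S such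
that, after base change to S', the transporter of u into v (points g with g u(y) g⁻¹ = v(y) for all
points y of Y after any base change) is represented by a closed subscheme of G_{S'} of finite
presentation over S'. (The published statement also treats, over the same open, the transporter and
the strict transporter of two subschemes and the normalizer of a subscheme; this row treats the
transporter of two morphisms only.) -/
theorem result (S : Scheme.{u}) [IsIntegral S] (G Y : Over S) [GrpObj G]
    [LocallyOfFinitePresentation G.hom] [QuasiCompact G.hom] [QuasiSeparated G.hom]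
    [LocallyOfFinitePresentation Y.hom] [QuasiCompact Y.hom] [QuasiSeparated Y.hom] (u v : Y ⟶ G) :
    ∃ U : S.Opens, (U : Set S).Nonempty ∧
      ∃ (T : Over (U : Scheme.{u})) (t : T ⟶ Red.bc U.ι G), IsClosedImmersion t.left ∧
        LocallyOfFinitePresentation T.hom ∧ QuasiCompact T.hom ∧ QuasiSeparated T.hom ∧
        ∀ (S' : Over (U : Scheme.{u})) (g : S' ⟶ Red.bc U.ι G), (∃ z : S' ⟶ T, z ≫ t = g) ↔
          ∀ (S'' : Over (U : Scheme.{u})) (s : S'' ⟶ S') (y : S'' ⟶ Red.bc U.ι Y),
            (s ≫ g) * (y ≫ (Over.pullback U.ι).map u) * (s ≫ g)⁻¹ = y ≫ (Over.pullback U.ι).map v := by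
  open Groth.Agent Groth.Agent.CAlg6 in
  obtain ⟨U₁, hU₁, hsep⟩ := GenEssFree.exists_open_separated G
  obtain ⟨U, hU, hle, hess⟩ := GenEssFree.exists_open_essFree Y.hom U₁ hU₁
  refine ⟨U, ⟨_, hU⟩, ?_⟩
  let X : Over (U : Scheme.{u}) := Red.bc U.ι G
  let Z : Over (U : Scheme.{u}) := Red.bc U.ι Y
  letI : GrpObj X := GrpWord.bcGrp U.ι
  haveI : IsSeparated X.hom := hsep U hle
  haveI : LocallyOfFinitePresentation X.hom := MorphismProperty.pullback_snd _ _ ‹_›
  haveI : QuasiCompact X.hom := MorphismProperty.pullback_snd _ _ ‹_›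
  haveI : QuasiSeparated X.hom := MorphismProperty.pullback_snd _ _ ‹_›
  haveI : QuasiCompact Z.hom := MorphismProperty.pullback_snd _ _ ‹_›
  haveI := SGA3a.isClosedImmersion_diag X
  haveI := GrpWord.lfp_tensor X X
  haveI : LocallyOfFinitePresentation (lift (𝟙 X) (𝟙 X)).left := by
    have : LocallyOfFinitePresentation ((lift (𝟙 X) (𝟙 X)).left ≫ (X ⊗ X).hom) := by rw [Over.w]; infer_instance
    exact LimTop61.locallyOfFinitePresentation_of_comp _ (X ⊗ X).hom
  let uU : Z ⟶ X := (Over.pullback U.ι).map u
  let vU : Z ⟶ X := (Over.pullback U.ι).map v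
  obtain ⟨T, t, ht, htf, hT⟩ := GenEssFree.exists_transporter_lfp (G := X) (X := Z) (Y := X) (P := X ⊗ X) hess
    (lift (fst X Z * (snd X Z ≫ uU) * (fst X Z)⁻¹) (snd X Z ≫ vU)) (lift (𝟙 X) (𝟙 X))
  haveI := ht
  haveI := htf
  refine ⟨T, t, ht, by rw [← Over.w t]; infer_instance, by rw [← Over.w t]; infer_instance,
    by rw [← Over.w t]; infer_instance, fun S' g => (hT S' g).trans
      (forall_congr' fun S'' => forall_congr' fun s => forall_congr' fun y => ?_)⟩
  simp only [comp_lift, Category.comp_id, MonObj.comp_mul, GrpObj.comp_inv, lift_fst, lift_snd_assoc]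
  refine ⟨fun ⟨x', hx'⟩ => ?_, fun e => ⟨y ≫ vU, by rw [e]⟩⟩
  have e1 := congrArg (· ≫ fst X X) hx'
  have e2 := congrArg (· ≫ snd X X) hx'
  simp only [lift_fst, lift_snd] at e1 e2
  exact e1.trans e2.symm

end Groth.Agent.S5374
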