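import Groth.Statements.S5377
import Mathlib.Algebra.Category.Ring.FilteredColimits
import Mathlib.RingTheory.RingHom.FaithfullyFlat
import Mathlib.RingTheory.Flat.EquationalCriterion
import Mathlib.CategoryTheory.Limits.ConcreteCategory.Filtered

set_option autoImplicit false
universe u
open CategoryTheory CategoryTheory.Limits MonoidalCategory CartesianMonoidalCategory MonObj GrpObj AlgebraicGeometry
open SGA3

namespace Groth.Agent.S5377

/-- Let (C_i → A_i)_i be a filtered direct system of homomorphisms of commutative rings, each of which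
is faithfully flat. Then the induced homomorphism colim C_i → colim A_i is faithfully flat. -/
theorem result (J : Type u) [SmallCategory J] [IsFiltered J]
    (C A : J ⥤ CommRingCat.{u}) (φ : C ⟶ A) (h : ∀ j : J, (φ.app j).hom.FaithfullyFlat) :
    (colimMap φ).hom.FaithfullyFlat := by
  classical
  have hne : Nonempty J := IsFiltered.nonempty
  -- simultaneous lifts of finite families
  have lift : ∀ (F : J ⥤ CommRingCat.{u}) {ι₀ : Type} [Fintype ι₀] (x : ι₀ → (colimit F : CommRingCat.{u})) (j0 : J),
      ∃ (j : J) (_ : j0 ⟶ j) (y : ι₀ → F.obj j), ∀ i, colimit.ι F j (y i) = x i := by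
    intro F ι₀ _ x j0
    choose j y hy using fun i => Concrete.colimit_exists_rep F (x i)
    obtain ⟨k, hk⟩ := IsFiltered.sup_objs_exists (insert j0 (Finset.univ.image j))
    let g : ∀ i, j i ⟶ k := fun i => (hk (Finset.mem_insert_of_mem (Finset.mem_image_of_mem j (Finset.mem_univ i)))).some
    refine ⟨k, (hk (Finset.mem_insert_self _ _)).some, fun i => F.map (g i) (y i), fun i => ?_⟩
    rw [← ConcreteCategory.comp_apply, colimit.w, hy]
  have nat : ∀ j (c : C.obj j), (colimMap φ).hom (colimit.ι C j c) = colimit.ι A j (φ.app j c) := fun j c => by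
    rw [← ConcreteCategory.comp_apply, ← ConcreteCategory.comp_apply]
    exact congrArg (fun f : C.obj j ⟶ colimit A => f c) (ι_colimMap φ j)
  have natmap : ∀ {j k : J} (g : j ⟶ k) (c : C.obj j), φ.app k (C.map g c) = A.map g (φ.app j c) := fun g c => by
    rw [← ConcreteCategory.comp_apply, ← ConcreteCategory.comp_apply]
    exact congrArg (fun f : C.obj _ ⟶ A.obj _ => f c) (φ.naturality g)
  unfold RingHom.FaithfullyFlat
  letI : Algebra (colimit C : CommRingCat.{u}) (colimit A : CommRingCat.{u}) := (colimMap φ).hom.toAlgebra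
  have hflat : Module.Flat (colimit C : CommRingCat.{u}) (colimit A : CommRingCat.{u}) := by
    refine Module.Flat.iff_forall_isTrivialRelation.2 fun {l f x} hfx => ?_
    obtain ⟨j₁, -, c, hc⟩ := lift C f hne.some
    obtain ⟨j₂, g, a, ha⟩ := lift A x j₁
    have h0 : colimit.ι A j₂ (∑ i, φ.app j₂ (C.map g (c i)) * a i) = colimit.ι A j₂ 0 := by
      rw [map_sum, map_zero, ← hfx]
      refine Finset.sum_congr rfl fun i _ => ?_
      rw [map_mul, ha, ← nat, ← ConcreteCategory.comp_apply (C.map g), colimit.w, hc]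
      rfl
    obtain ⟨k, e, he⟩ := ((colimit.isColimit A).eq_iff' _ _).1 h0
    rw [map_zero, map_sum] at he
    have he' : ∑ i, φ.app k (C.map (g ≫ e) (c i)) * A.map e (a i) = 0 := by
      refine Eq.trans (Finset.sum_congr rfl fun i _ => ?_) he
      rw [map_mul, natmap, natmap, A.map_comp, ConcreteCategory.comp_apply]
    letI : Algebra (C.obj k) (A.obj k) := (φ.app k).hom.toAlgebra
    have : Module.Flat (C.obj k) (A.obj k) := (h k).flat
    obtain ⟨n, b, y, hxy, hb⟩ := Module.Flat.isTrivialRelation_of_sum_smul_eq_zero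
      (f := fun i => C.map (g ≫ e) (c i)) (x := fun i => A.map e (a i)) he'
    refine ⟨n, fun i m => colimit.ι C k (b i m), fun m => colimit.ι A k (y m), fun i => ?_, fun m => ?_⟩
    · have h1 := congrArg (colimit.ι A k) (hxy i)
      rw [← ConcreteCategory.comp_apply, colimit.w, ha, map_sum] at h1
      refine h1.trans (Finset.sum_congr rfl fun m _ => ?_)
      rw [Algebra.smul_def, Algebra.smul_def, map_mul]
      exact congrArg (· * _) (nat k _).symm
    · have h1 := congrArg (colimit.ι C k) (hb m)
      rw [map_zero, map_sum] at h1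
      refine Eq.trans (Finset.sum_congr rfl fun i _ => ?_) h1
      rw [map_mul, ← ConcreteCategory.comp_apply (C.map (g ≫ e)), colimit.w, hc]
  refine { toFlat := hflat, submodule_ne_top := fun m hm htop => ?_ }
  have h1 : (1 : (colimit A : CommRingCat.{u})) ∈ Ideal.map (algebraMap (colimit C : CommRingCat.{u}) (colimit A : CommRingCat.{u})) m := by
    rw [Ideal.smul_top_eq_map] at htop
    have : (1 : (colimit A : CommRingCat.{u})) ∈
        (Ideal.map (algebraMap (colimit C : CommRingCat.{u}) (colimit A : CommRingCat.{u})) m).restrictScalars (colimit C : CommRingCat.{u}) := by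
      rw [htop]; trivial
    exact this
  obtain ⟨n, p, q, hpq⟩ : ∃ (n : ℕ) (p : Fin n → m) (q : Fin n → (colimit A : CommRingCat.{u})),
      ∑ i, q i * algebraMap (colimit C : CommRingCat.{u}) (colimit A : CommRingCat.{u}) (p i).1 = 1 := by
    rw [Ideal.map, Ideal.span, Submodule.mem_span_set'] at h1
    obtain ⟨n, q, g, hg⟩ := h1
    choose p hp hpe using fun i => (g i).2
    refine ⟨n, fun i => ⟨p i, hp i⟩, q, Eq.trans (Finset.sum_congr rfl fun i _ => ?_) hg⟩
    rw [hpe]; rfl
  obtain ⟨j₁, -, c, hc⟩ := lift C (fun i => (p i).1) hne.some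
  obtain ⟨j₂, g, a, ha⟩ := lift A q j₁
  have h2 : colimit.ι A j₂ (∑ i, a i * φ.app j₂ (C.map g (c i))) = colimit.ι A j₂ 1 := by
    rw [map_sum, map_one, ← hpq]
    refine Finset.sum_congr rfl fun i _ => ?_
    rw [map_mul, ha, ← nat, ← ConcreteCategory.comp_apply (C.map g), colimit.w, hc]
    rfl
  obtain ⟨k, e, he⟩ := ((colimit.isColimit A).eq_iff' _ _).1 h2
  rw [map_one, map_sum] at he
  have he' : ∑ i, A.map e (a i) * φ.app k (C.map (g ≫ e) (c i)) = 1 := by
    refine Eq.trans (Finset.sum_congr rfl fun i _ => ?_) he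
    rw [map_mul, natmap, natmap, A.map_comp, ConcreteCategory.comp_apply]
  letI : Algebra (C.obj k) (A.obj k) := (φ.app k).hom.toAlgebra
  have : Module.FaithfullyFlat (C.obj k) (A.obj k) := h k
  let mk : Ideal (C.obj k) := m.comap (colimit.ι C k).hom
  have hmk : mk = ⊤ := by
    rw [← Ideal.comap_map_eq_self_of_faithfullyFlat (B := A.obj k) mk]
    rw [show Ideal.map (algebraMap (C.obj k) (A.obj k)) mk = ⊤ from ?_, Ideal.comap_top]
    rw [Ideal.eq_top_iff_one, ← he']
    refine Ideal.sum_mem _ fun i _ => Ideal.mul_mem_left _ _ (Ideal.mem_map_of_mem (algebraMap (C.obj k) (A.obj k)) ?_)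
    change colimit.ι C k (C.map (g ≫ e) (c i)) ∈ m
    rw [← ConcreteCategory.comp_apply, colimit.w, hc]
    exact (p i).2
  have : (1 : (colimit C : CommRingCat.{u})) ∈ m := by
    have h3 : (1 : C.obj k) ∈ mk := by rw [hmk]; trivial
    simpa [mk] using h3
  exact hm.ne_top ((Ideal.eq_top_iff_one m).2 this)

end Groth.Agent.S5377
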