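import Groth.Statements.S5378
import Groth.Agent.CAlg6.AffHom
import Groth.Agent.SGA3a.Affinization
import Groth.Agent.GrpFG58.Affine
-- import your own Groth.Agent.* helpers here

set_option autoImplicit false
universe u
open CategoryTheory CategoryTheory.Limits MonoidalCategory CartesianMonoidalCategory MonObj GrpObj AlgebraicGeometry
open SGA3

namespace Groth.Agent.S5378

/-- Let k be a field, G a k-group scheme of finite type, G' an affine k-group scheme (not necessarily of
finite type) and u : G → G' a homomorphism. Then u factors as a homomorphism p : G → C which is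
surjective and flat (C is the quotient of G by the kernel of u) followed by a homomorphism i : C →
G' which is a closed immersion; in particular C is affine. If moreover u induces an injective map on
global sections, then i is an isomorphism (so G' is of finite type and u is faithfully flat). -/
theorem result (k : Type u) [Field k] (G G' : Over (Spec (CommRingCat.of k))) [GrpObj G] [GrpObj G']
    [LocallyOfFiniteType G.hom] [QuasiCompact G.hom] [IsAffine G'.left] (u : G ⟶ G') [IsMonHom u] :
    ∃ (C : Over (Spec (CommRingCat.of k))) (_ : GrpObj C) (p : G ⟶ C) (i : C ⟶ G'), IsMonHom p ∧ IsMonHom i ∧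
      p ≫ i = u ∧ Surjective p.left ∧ Flat p.left ∧ IsClosedImmersion i.left ∧ IsAffine C.left ∧
      (Function.Injective u.left.appTop.hom → IsIso i) := by
  obtain ⟨Q, _, q, hq, hQ, hQlft, hqf, hqs, hqlfp, hqi⟩ := SGA3a.Affinization.exists_affinization k G
  haveI : IsAffine (Spec (CommRingCat.of k)) := inferInstance
  let vl : Q.left ⟶ G'.left :=
    Q.left.toSpecΓ ≫ Spec.map (u.left.appTop ≫ inv q.left.appTop) ≫ G'.left.isoSpec.inv
  have hvl : q.left ≫ vl = u.left := by
    simp only [vl]
    rw [← Category.assoc, Scheme.toSpecΓ_naturality, Category.assoc, ← Spec.map_comp_assoc, Category.assoc,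
      IsIso.inv_hom_id, Category.comp_id, ← Category.assoc, ← Scheme.toSpecΓ_naturality, Category.assoc,
      ← Scheme.isoSpec_hom, Iso.hom_inv_id, Category.comp_id]
  haveI hepi : Epi q.left := Flat.epi_of_flat_of_surjective q.left
  let v : Q ⟶ G' := Over.homMk vl (by
    rw [← cancel_epi q.left, ← Category.assoc, hvl, Over.w u, Over.w q])
  have hqv : q ≫ v = u := by
    apply Over.OverMorphism.ext
    exact hvl
  haveI : QuasiCompact q.left := by
    haveI : QuasiCompact (q.left ≫ Q.hom) := by rw [Over.w]; infer_instance
    haveI : QuasiSeparated Q.hom := inferInstance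
    exact QuasiCompact.of_comp q.left Q.hom
  haveI : IsMonHom (q ≫ v) := by rw [hqv]; infer_instance
  haveI : IsMonHom v := GrpFG58.isMonHom_of_comp_cov q (SGA3a.QuotCover.IsCov.mk q.left
    ⟨_, q.left, 𝟙 _, Category.id_comp _, hqs, hqf, fun V hV =>
      ⟨q.left ⁻¹ᵁ V, q.left.isCompact_preimage hV.isCompact, Set.image_preimage_eq _ q.left.surjective⟩⟩) v
  obtain ⟨C, hC, p, i, hp, hi, hpi, hps, hpf, hic, hCa, hinj⟩ := CAlg6.AffHom.exists_factor v
  refine ⟨C, hC, q ≫ p, i, inferInstance, hi, ?_, ?_, ?_, hic, hCa, fun h => hinj ?_⟩
  · rw [Category.assoc, hpi, hqv]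
  · rw [Over.comp_left]; infer_instance
  · rw [Over.comp_left]; infer_instance
  · have e : u.left.appTop = v.left.appTop ≫ q.left.appTop := by
      rw [← Scheme.Hom.comp_appTop]
      exact congrArg Scheme.Hom.appTop hvl.symm
    intro a b hab
    apply h
    rw [e]
    exact congrArg q.left.appTop.hom hab

end Groth.Agent.S5378
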