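import Groth.Statements.S5380
import Groth.Agent.SGA3a.FlatRegMod

set_option autoImplicit false
universe u
open CategoryTheory CategoryTheory.Limits MonoidalCategory CartesianMonoidalCategory MonObj GrpObj AlgebraicGeometry
open SGA3

namespace Groth.Agent.S5380

/-- Let R be a discrete valuation ring with uniformizer π, A a flat commutative R-algebra and M an
A-module which is flat over R. Suppose that M/πM is a flat module over A/πA and that M ⊗_R K is a
flat module over A ⊗_R K, K the fraction field of R (equivalently, M[1/π] is flat over A[1/π], the
form used here). Then M is a flat A-module. -/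
theorem result (R : Type u) [CommRing R] [IsDomain R] [IsDiscreteValuationRing R]
    (π : R) (hπ : Irreducible π) (A : Type u) [CommRing A] [Algebra R A] [Module.Flat R A]
    (M : Type u) [AddCommGroup M] [Module A M] [Module R M] [IsScalarTower R A M] [Module.Flat R M]
    (h1 : Module.Flat (A ⧸ Ideal.span {algebraMap R A π}) (M ⧸ (Ideal.span {algebraMap R A π} • (⊤ : Submodule A M))))
    (h2 : Module.Flat (Localization.Away (algebraMap R A π)) (LocalizedModule (Submonoid.powers (algebraMap R A π)) M)) :
    Module.Flat A M := by
  have key : ∀ (N : Type u) [AddCommGroup N] [Module R N] [Module.Flat R N] (x : N), π • x = 0 → x = 0 := by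
    intro N _ _ _ x hx
    have hi : Function.Injective (LinearMap.mulLeft R π) := fun a b h => mul_left_cancel₀ hπ.ne_zero h
    have h := Module.Flat.lTensor_preserves_injective_linearMap (M := N) _ hi
    have h2 : (LinearMap.mulLeft R π).lTensor N (x ⊗ₜ[R] (1 : R)) = 0 := by
      rw [LinearMap.lTensor_tmul, LinearMap.mulLeft_apply, show π * 1 = π • (1 : R) by simp,
        TensorProduct.tmul_smul, TensorProduct.smul_tmul', hx, TensorProduct.zero_tmul]
    have := congrArg (TensorProduct.rid R N) (h (h2.trans (map_zero _).symm))
    simpa using this
  refine Groth.Agent.SGA3a.flat_of_flat_mod_of_flat_away (algebraMap R A π) M (fun a ha => ?_) (fun m hm => ?_) h1 h2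
  · exact key A a (by rw [Algebra.smul_def]; exact ha)
  · exact key M m (by rw [← algebraMap_smul A π m]; exact hm)

end Groth.Agent.S5380
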