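import Groth.Statements.S5381
import Mathlib.RingTheory.Flat.TorsionFree
import Mathlib.AlgebraicGeometry.Morphisms.Flat

set_option autoImplicit false
universe u
open CategoryTheory CategoryTheory.Limits MonoidalCategory CartesianMonoidalCategory MonObj GrpObj AlgebraicGeometry
open SGA3

namespace Groth.Agent.S5381

/-- For S the spectrum of a Dedekind domain R: let X be a scheme which is flat, quasi-compact and
quasi-separated over R. Then the ring of global sections Γ(X, O_X) is a flat R-module. (The
published remark takes S locally noetherian and regular of dimension 1 and also observes, when S is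
local with closed point s and uniformizer π, that Γ(X, O_X)/πΓ(X, O_X) → Γ(X_s, O_{X_s}) is
injective; this row takes S the spectrum of a Dedekind domain and omits the injectivity.) -/
theorem result (R : Type u) [CommRing R] [IsDedekindDomain R]
    (X : Scheme.{u}) (f : X ⟶ Spec (CommRingCat.of R)) [Flat f] [QuasiCompact f] [QuasiSeparated f] :
    letI := ((Scheme.ΓSpecIso (CommRingCat.of R)).inv ≫ f.appTop).hom.toAlgebra
    Module.Flat R Γ(X, ⊤) := by
  letI := ((Scheme.ΓSpecIso (CommRingCat.of R)).inv ≫ f.appTop).hom.toAlgebra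
  suffices Module.IsTorsionFree R Γ(X, ⊤) from inferInstance
  rw [Module.isTorsionFree_iff_smul_eq_zero]
  intro r s hrs
  rcases eq_or_ne r 0 with hr | hr
  · exact Or.inl hr
  right
  obtain ⟨J, U, hU, haff⟩ : ∃ (J : Type u) (U : J → X.Opens), iSup U = ⊤ ∧ ∀ i, IsAffineOpen (U i) :=
    ⟨_, fun i : X.affineCover.I₀ => (X.affineCover.f i).opensRange, X.affineCover.iSup_opensRange,
      fun i => isAffineOpen_opensRange _⟩
  apply X.sheaf.eq_of_locally_eq' U ⊤ (fun i => homOfLE le_top) hU.ge
  intro i
  refine Eq.trans ?_ (map_zero (X.presheaf.map (homOfLE le_top).op).hom).symm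
  have hflat : (f.appLE ⊤ (U i) le_top).hom.Flat :=
    HasRingHomProperty.appLE @Flat f ‹_› ⟨⊤, isAffineOpen_top _⟩ ⟨U i, haff i⟩ le_top
  letI := (f.appLE ⊤ (U i) le_top).hom.toAlgebra
  have : Module.Flat Γ(Spec (CommRingCat.of R), ⊤) Γ(X, U i) := hflat
  let r' := (Scheme.ΓSpecIso (CommRingCat.of R)).inv r
  have hr' : IsRegular r' := by
    have hinj : Function.Injective (Scheme.ΓSpecIso (CommRingCat.of R)).inv :=
      (Scheme.ΓSpecIso (CommRingCat.of R)).symm.commRingCatIsoToRingEquiv.injective
    have : IsDomain Γ(Spec (CommRingCat.of R), ⊤) :=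
      MulEquiv.isDomain R (Scheme.ΓSpecIso (CommRingCat.of R)).commRingCatIsoToRingEquiv.toMulEquiv
    exact IsRegular.of_ne_zero fun h => hr (hinj (h.trans (map_zero _).symm))
  have hreg : IsSMulRegular Γ(X, U i) r' := Module.Flat.isSMulRegular_of_isRegular hr'
  have key : ∀ y : Γ(X, U i), r' • y = 0 → y = 0 := fun y hy => hreg (hy.trans (smul_zero r').symm)
  refine key (X.presheaf.map (homOfLE le_top).op s) ?_
  have h0 := congrArg (X.presheaf.map (homOfLE (le_top : U i ≤ ⊤)).op) hrs
  rw [map_zero] at h0
  rw [Algebra.smul_def] at h0 ⊢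
  refine Eq.trans ?_ h0
  rw [map_mul]
  rfl

end Groth.Agent.S5381
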