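import Groth.Statements.S5383
import Groth.Agent.CAlg6.UnibranchOpen
-- import your own Groth.Agent.* helpers here

set_option autoImplicit false
universe u
open CategoryTheory CategoryTheory.Limits MonoidalCategory CartesianMonoidalCategory MonObj GrpObj AlgebraicGeometry
open SGA3

namespace Groth.Agent.S5383

/-- (i) let A ⊆ B be domains with B integral over A, and q a prime of B such that the local ring of A at
p = q ∩ A is unibranch; then Spec B → Spec A is open at q (it maps neighbourhoods of q to
neighbourhoods of p). (ii) Let f : X → Y be a dominant morphism of irreducible schemes which is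
locally of finite type, x a point of X isolated in its fibre (f quasi-finite at x) such that the
local ring of Y at f(x) is unibranch; then f is open at x. -/
theorem result :
    (∀ (A B : Type u) [CommRing A] [IsDomain A] [CommRing B] [IsDomain B] [Algebra A B],
      Function.Injective (algebraMap A B) → Algebra.IsIntegral A B →
      ∀ q : PrimeSpectrum B, CAlg2.IsUnibranch (Localization.AtPrime (q.asIdeal.comap (algebraMap A B))) →
        EGA43.IsOpenAt (PrimeSpectrum.comap (algebraMap A B)) q) ∧
    (∀ (X Y : Scheme.{u}) (f : X ⟶ Y) [IrreducibleSpace X] [IrreducibleSpace Y] [LocallyOfFiniteType f],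
      DenseRange f.base → ∀ x : X, (nhdsWithin x (f.base ⁻¹' {f.base x})) = pure x →
        CAlg2.IsUnibranch (Y.presheaf.stalk (f.base x)) → EGA43.IsOpenAt f.base x) := by
  open Groth.Agent.CAlg6 in
  refine ⟨fun A B _ _ _ _ _ hinj hint q hq => ?_, fun X Y f _ _ _ hdense x hx hy => ?_⟩
  · haveI := hint
    haveI : FaithfulSMul A B := (faithfulSMul_iff_algebraMap_injective _ _).2 hinj
    exact UnibranchOpen.isOpenAt_of_isIntegral q (PrimeSpectrum.comap (algebraMap A B) q) rfl hq (RingHom.id _)
      Function.surjective_id (fun z hz => by rw [show z = 0 from hz]; exact zero_mem _)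
  · have hqfx : f.QuasiFiniteAt x := by
      rw [Scheme.Hom.quasiFiniteAt_iff_isOpen_singleton_asFiber, ← (f.fiberHomeo (f x)).isOpen_image]
      simp only [Set.image_singleton, Scheme.Hom.asFiber, Homeomorph.apply_symm_apply]
      rw [isOpen_singleton_iff_nhds_eq_pure, nhds_subtype_eq_comap_nhdsWithin]
      erw [hx]
      rw [Filter.comap_pure]
      simp only [Set.preimage, Set.mem_singleton_iff]
      rw [← Filter.principal_singleton]
      congr 1
      ext z
      simp [Subtype.ext_iff]
    obtain ⟨_, ⟨W, hW, rfl⟩, hfW, -⟩ :=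
      Y.isBasis_affineOpens.exists_subset_of_mem_open (Set.mem_univ (f x)) isOpen_univ
    obtain ⟨_, ⟨V, hV, rfl⟩, hxV, hVW⟩ :=
      X.isBasis_affineOpens.exists_subset_of_mem_open (show x ∈ f ⁻¹' (W : Set Y) from hfW)
        (W.2.preimage f.continuous)
    replace hW : IsAffineOpen W := hW
    replace hV : IsAffineOpen V := hV
    let φ := f.appLE W V hVW
    have hsq : ∀ t, hW.fromSpec (Spec.map φ t) = f (hV.fromSpec t) := fun t => by
      rw [← Scheme.Hom.comp_apply, hW.SpecMap_appLE_fromSpec f hV hVW, Scheme.Hom.comp_apply]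
    let 𝔮 := hV.primeIdealOf ⟨x, hxV⟩
    let P₀ := hW.primeIdealOf ⟨f x, hfW⟩
    have h𝔮 : hV.fromSpec 𝔮 = x := hV.fromSpec_primeIdealOf ⟨x, hxV⟩
    have h𝔭 : Spec.map φ 𝔮 = P₀ := by
      apply hW.fromSpec.isOpenEmbedding.injective
      rw [hsq, h𝔮, hW.fromSpec_primeIdealOf ⟨f x, hfW⟩]
    obtain ⟨ξV, hξV⟩ : genericPoint X ∈ Set.range hV.fromSpec := by
      rw [hV.range_fromSpec]
      exact (genericPoint_specializes x).mem_open V.2 hxV
    have hξY : f (genericPoint X) = genericPoint Y := by
      refine (IsGenericPoint.eq ?_ (genericPoint_spec Y))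
      have := (genericPoint_spec X).image f.continuous
      rwa [Set.image_univ, hdense.closure_range] at this
    have hmin : ∀ t, ξV ⤳ t := fun t => by
      rw [← hV.fromSpec.isOpenEmbedding.isInducing.specializes_iff, hξV]
      exact genericPoint_specializes _
    have hmin' : ∀ t, Spec.map φ ξV ⤳ t := fun t => by
      rw [← hW.fromSpec.isOpenEmbedding.isInducing.specializes_iff, hsq, hξV, hξY]
      exact genericPoint_specializes _
    have hnilX : nilradical Γ(X, V) = ξV.asIdeal := le_antisymm (nilradical_le_prime _) fun a ha => by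
      rw [nilradical_eq_sInf]
      exact Submodule.mem_sInf.2 fun J hJ => (PrimeSpectrum.le_iff_specializes _ ⟨J, hJ⟩).2 (hmin ⟨J, hJ⟩) ha
    have hnilY : nilradical Γ(Y, W) = (Spec.map φ ξV).asIdeal := le_antisymm (nilradical_le_prime _) fun a ha => by
      rw [nilradical_eq_sInf]
      exact Submodule.mem_sInf.2 fun J hJ => (PrimeSpectrum.le_iff_specializes _ ⟨J, hJ⟩).2 (hmin' ⟨J, hJ⟩) ha
    haveI hpX : (nilradical Γ(X, V)).IsPrime := hnilX ▸ ξV.2
    haveI hpY : (nilradical Γ(Y, W)).IsPrime := hnilY ▸ (Spec.map φ ξV).2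
    let A := Γ(Y, W)
    let B := Γ(X, V)
    let A₁ := A ⧸ nilradical A
    let D := B ⧸ nilradical B
    let π : A →+* A₁ := Ideal.Quotient.mk _
    let ρ : B →+* D := Ideal.Quotient.mk _
    letI : Algebra A B := φ.hom.toAlgebra
    have hAD : nilradical A ≤ RingHom.ker (ρ.comp φ.hom) := fun a ha => by
      rw [RingHom.mem_ker, RingHom.comp_apply, Ideal.Quotient.eq_zero_iff_mem]
      exact mem_nilradical.2 ((mem_nilradical.1 ha).map φ.hom)
    let ψ : A₁ →+* D := Ideal.Quotient.lift _ (ρ.comp φ.hom) hAD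
    have hψ : ψ.comp π = ρ.comp φ.hom := Ideal.Quotient.lift_comp_mk _ _ _
    letI : Algebra A₁ D := ψ.toAlgebra
    haveI : IsScalarTower A A₁ D := IsScalarTower.of_algebraMap_eq fun a => rfl
    have hinj : Function.Injective (algebraMap A₁ D) := by
      rw [injective_iff_map_eq_zero]
      intro z hz
      obtain ⟨a, rfl⟩ := Ideal.Quotient.mk_surjective z
      rw [Ideal.Quotient.eq_zero_iff_mem, hnilY]
      show φ.hom a ∈ ξV.asIdeal
      rw [← hnilX]
      exact Ideal.Quotient.eq_zero_iff_mem.1 hz
    haveI : Algebra.FiniteType A B :=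
      HasRingHomProperty.appLE (P := @LocallyOfFiniteType) f ‹_› ⟨W, hW⟩ ⟨V, hV⟩ hVW
    haveI : Algebra.FiniteType A D :=
      Algebra.FiniteType.of_surjective (Ideal.Quotient.mkₐ A (nilradical B)) Ideal.Quotient.mk_surjective
    haveI : Algebra.FiniteType A₁ D := Algebra.FiniteType.of_restrictScalars_finiteType A A₁ D
    let Q : PrimeSpectrum D := ⟨𝔮.asIdeal.map ρ, Ideal.map_isPrime_of_surjective Ideal.Quotient.mk_surjective
      (by rw [Ideal.mk_ker]; exact nilradical_le_prime _)⟩
    haveI : Q.asIdeal.IsPrime := Q.2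
    have hQc : Q.asIdeal.comap ρ = 𝔮.asIdeal := by
      show (𝔮.asIdeal.map ρ).comap ρ = _
      rw [Ideal.comap_map_of_surjective _ Ideal.Quotient.mk_surjective, ← RingHom.ker_eq_comap_bot, Ideal.mk_ker,
        sup_eq_left.2 (nilradical_le_prime _)]
    haveI : Algebra.QuasiFiniteAt A 𝔮.asIdeal :=
      (Scheme.Hom.QuasiFiniteAt.quasiFiniteAt hqfx hV hW hVW hxV : (φ.hom).QuasiFiniteAt 𝔮.asIdeal)
    haveI : Algebra.QuasiFiniteAt A Q.asIdeal := by
      have hM : 𝔮.asIdeal.primeCompl.map (Ideal.Quotient.mk (nilradical B)) = Q.asIdeal.primeCompl := by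
        ext z
        constructor
        · rintro ⟨b, hb, rfl⟩ h
          exact hb (hQc.le h)
        · intro hz
          obtain ⟨b, rfl⟩ := Ideal.Quotient.mk_surjective z
          exact ⟨b, fun h => hz (Ideal.mem_map_of_mem ρ h), rfl⟩
      haveI : IsLocalization (𝔮.asIdeal.primeCompl.map (Ideal.Quotient.mk (nilradical B)))
          (Localization.AtPrime Q.asIdeal) := by rw [hM]; infer_instance
      let m : Localization.AtPrime 𝔮.asIdeal →+* Localization.AtPrime Q.asIdeal :=
        IsLocalization.map _ (Ideal.Quotient.mk (nilradical B)) 𝔮.asIdeal.primeCompl.le_comap_map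
      let mA : Localization.AtPrime 𝔮.asIdeal →ₐ[A] Localization.AtPrime Q.asIdeal :=
        ⟨m, fun a => (congrArg m (IsScalarTower.algebraMap_apply A B (Localization.AtPrime 𝔮.asIdeal) a)).trans
          ((IsLocalization.map_eq _ _).trans
            (IsScalarTower.algebraMap_apply A D (Localization.AtPrime Q.asIdeal) a).symm)⟩
      exact Algebra.QuasiFinite.of_surjective_algHom mA (IsLocalization.map_surjective_of_surjective
        𝔮.asIdeal.primeCompl _ _ Ideal.Quotient.mk_surjective)
    haveI : Algebra.QuasiFiniteAt A₁ Q.asIdeal := Algebra.QuasiFinite.of_restrictScalars A A₁ _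
    let p : PrimeSpectrum A₁ := PrimeSpectrum.comap (algebraMap A₁ D) Q
    have hp : p.asIdeal.comap π = P₀.asIdeal := by
      rw [← h𝔭]
      show (Q.asIdeal.comap ψ).comap π = 𝔮.asIdeal.comap φ.hom
      rw [Ideal.comap_comap, hψ, ← Ideal.comap_comap, hQc]
    let _ := TopCat.Presheaf.algebra_section_stalk Y.presheaf ⟨f x, hfW⟩
    haveI := hW.isLocalization_stalk ⟨f x, hfW⟩
    have hM' : P₀.asIdeal.primeCompl.map π = p.asIdeal.primeCompl := by
      ext z
      constructor
      · rintro ⟨a, ha, rfl⟩ h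
        exact ha (hp.le h)
      · intro hz
        obtain ⟨a, rfl⟩ := Ideal.Quotient.mk_surjective z
        exact ⟨a, fun h => hz (hp.ge h), rfl⟩
    haveI : IsLocalization (P₀.asIdeal.primeCompl.map π) (Localization.AtPrime p.asIdeal) := by
      rw [hM']; infer_instance
    let χ : Y.presheaf.stalk (f x) →+* Localization.AtPrime p.asIdeal :=
      IsLocalization.map (M := P₀.asIdeal.primeCompl) _ π P₀.asIdeal.primeCompl.le_comap_map
    have hker : RingHom.ker χ ≤ nilradical _ := fun z hz => by
      obtain ⟨a, s, rfl⟩ := IsLocalization.exists_mk'_eq P₀.asIdeal.primeCompl z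
      rw [RingHom.mem_ker, IsLocalization.map_mk', IsLocalization.mk'_eq_zero_iff] at hz
      obtain ⟨⟨c, hc⟩, hc'⟩ := hz
      have ha : π a = 0 := (mul_eq_zero.1 hc').resolve_left fun h0 => by
        rw [hM'] at hc
        exact hc (by rw [show c = 0 from h0]; exact zero_mem _)
      rw [mem_nilradical, IsLocalization.mk'_eq_mul_mk'_one]
      exact (Commute.all _ _).isNilpotent_mul_right
        ((show IsNilpotent a from Ideal.Quotient.eq_zero_iff_mem.1 ha).map _)
    have key := UnibranchOpen.isOpenAt_of_quasiFiniteAt (A := A₁) hinj Q p rfl hy χ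
      (IsLocalization.map_surjective_of_surjective P₀.asIdeal.primeCompl _ _ Ideal.Quotient.mk_surjective) hker
    -- transfer along the reductions
    intro U hU
    let hπ : PrimeSpectrum A₁ → ↥(Spec A) := PrimeSpectrum.comap π
    have hsurj : Function.Surjective hπ := fun t => by
      refine ⟨⟨t.asIdeal.map π, Ideal.map_isPrime_of_surjective Ideal.Quotient.mk_surjective
        (by rw [Ideal.mk_ker]; exact nilradical_le_prime _)⟩, PrimeSpectrum.ext ?_⟩
      show (t.asIdeal.map π).comap π = t.asIdeal
      rw [Ideal.comap_map_of_surjective _ Ideal.Quotient.mk_surjective, ← RingHom.ker_eq_comap_bot, Ideal.mk_ker,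
        sup_eq_left.2 (nilradical_le_prime _)]
    have hopen : IsOpenMap hπ := fun O hO => by
      obtain ⟨O', hO', rfl⟩ := (PrimeSpectrum.comap_isInducing_of_surjective _ π Ideal.Quotient.mk_surjective).isOpen_iff.1 hO
      show IsOpen (hπ '' (hπ ⁻¹' O'))
      rwa [Set.image_preimage_eq _ hsurj]
    have h1 : (fun t => hV.fromSpec (PrimeSpectrum.comap ρ t)) ⁻¹' U ∈ nhds Q := by
      refine (hV.fromSpec.continuous.comp (PrimeSpectrum.continuous_comap ρ)).continuousAt.preimage_mem_nhds ?_
      show U ∈ nhds (hV.fromSpec (PrimeSpectrum.comap ρ Q))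
      rwa [show PrimeSpectrum.comap ρ Q = 𝔮 from PrimeSpectrum.ext hQc, h𝔮]
    have h2 := (hW.fromSpec.isOpenEmbedding.isOpenMap.comp hopen).image_mem_nhds (key _ h1)
    have h3 : hW.fromSpec (hπ (PrimeSpectrum.comap (algebraMap A₁ D) Q)) = f x := by
      rw [show hπ (PrimeSpectrum.comap (algebraMap A₁ D) Q) = P₀ from PrimeSpectrum.ext hp,
        hW.fromSpec_primeIdealOf ⟨f x, hfW⟩]
    simp only [Function.comp_apply] at h2
    rw [h3] at h2
    refine Filter.mem_of_superset h2 ?_
    rintro _ ⟨_, ⟨t, ht, rfl⟩, rfl⟩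
    refine ⟨_, ht, ?_⟩
    rw [← hsq]
    show _ = hW.fromSpec (hπ (PrimeSpectrum.comap (algebraMap A₁ D) t))
    congr 1

end Groth.Agent.S5383
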