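import Groth.Statements.S5384
import Groth.Agent.SGA3a.GrpBC
import Groth.Agent.S0351

set_option autoImplicit false
universe u
open CategoryTheory CategoryTheory.Limits MonoidalCategory CartesianMonoidalCategory MonObj GrpObj AlgebraicGeometry
open SGA3

namespace Groth.Agent.S5384

/-- Let A be a local artinian ring, G an A-group scheme and u : H → G a homomorphism of A-group schemes
which is an immersion (a subgroup scheme; no finiteness is assumed). Then u is a closed immersion. -/
theorem result (A : Type u) [CommRing A] [IsArtinianRing A] [IsLocalRing A] (G H : Over (Spec (CommRingCat.of A))) [GrpObj G] [GrpObj H]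
    (u : H ⟶ G) [IsMonHom u] [IsImmersion u.left] : IsClosedImmersion u.left := by
  let f := Groth.Agent.SGA3a.resPt A
  let u₀ := (Over.pullback f).map u
  let : GrpObj ((Over.pullback f).obj G) := Functor.grpObjObj
  let : GrpObj ((Over.pullback f).obj H) := Functor.grpObjObj
  have : IsMonHom u₀ := inferInstance
  have sq : IsPullback u₀.left (Groth.Agent.SGA3a.prO f H) (Groth.Agent.SGA3a.prO f G) u.left := by
    refine IsPullback.of_right ?_ (Groth.Agent.SGA3a.prO_naturality f u) (IsPullback.of_hasPullback G.hom f).flip
    have hu : u₀.left ≫ pullback.snd G.hom f = pullback.snd H.hom f := Over.w u₀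
    rw [hu, Over.w u]
    exact (IsPullback.of_hasPullback H.hom f).flip
  have : IsImmersion u₀.left := MorphismProperty.of_isPullback sq.flip inferInstance
  have h0 := Groth.Agent.S0351.result _ _ _ u₀
  have hG := Groth.Agent.SGA3a.isHomeomorph_prO f G
  have hH := Groth.Agent.SGA3a.isHomeomorph_prO f H
  refine IsClosedImmersion.of_isPreimmersion u.left ?_
  have e : Set.range u.left = Groth.Agent.SGA3a.prO f G '' Set.range u₀.left := by
    ext x
    constructor
    · rintro ⟨y, rfl⟩
      obtain ⟨z, rfl⟩ := hH.surjective y
      exact ⟨u₀.left z, ⟨z, rfl⟩, congrArg (fun k : _ ⟶ G.left => k z) sq.w⟩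
    · rintro ⟨_, ⟨z, rfl⟩, rfl⟩
      exact ⟨_, (congrArg (fun k : _ ⟶ G.left => k z) sq.w).symm⟩
  rw [e]
  exact hG.isClosedMap _ u₀.left.isClosedEmbedding.isClosed_range

end Groth.Agent.S5384
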