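import Groth.Statements.S5387
import Groth.Agent.Grp57.Unit
import Mathlib.AlgebraicGeometry.AlgClosed.Basic

set_option autoImplicit false
universe u
open CategoryTheory CategoryTheory.Limits MonoidalCategory CartesianMonoidalCategory MonObj GrpObj AlgebraicGeometry
open SGA3

namespace Groth.Agent.S5387

/-- Let k be an algebraically closed field, G a group scheme locally of finite type over k and x a
closed point of G. Then the local ring of G at x is isomorphic to the local ring of G at the unit
point (an isomorphism is induced by a translation; this row asserts the existence of an isomorphism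
of rings). -/
theorem result (k : Type u) [Field k] [IsAlgClosed k] (G : Over (Spec (CommRingCat.of k))) [GrpObj G]
    [LocallyOfFiniteType G.hom] (pt : ↥(𝟙_ (Over (Spec (CommRingCat.of k)))).left) (x : G.left) (hx : IsClosed ({x} : Set G.left)) :
    Nonempty (G.left.presheaf.stalk (η[G].left.base pt) ≅ G.left.presheaf.stalk x) := by
  let a : 𝟙_ (Over (Spec (CommRingCat.of k))) ⟶ G :=
    Over.homMk (pointOfClosedPoint G.hom x hx) (pointOfClosedPoint_comp G.hom x hx)
  have : IsIso (GrpObj.mulRight a).hom.left := ((Over.forget _).mapIso (GrpObj.mulRight a)).isIso_hom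
  let f := (GrpObj.mulRight a).hom.left
  have h : f (η[G].left.base pt) = x := by
    have hpt : pt = IsLocalRing.closedPoint k := Subsingleton.elim (α := PrimeSpectrum k) _ _
    subst hpt
    exact (Groth.Agent.Grp57.translate_unitPt a).trans (pointOfClosedPoint_apply G.hom x hx _)
  exact ⟨(asIso (f.stalkMap (η[G].left.base pt))).symm ≪≫ eqToIso (by rw [h])⟩

end Groth.Agent.S5387
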