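import Groth.Statements.S5389
import Groth.Agent.SGA3a.FpqcLocus

set_option autoImplicit false
universe u
open CategoryTheory CategoryTheory.Limits MonoidalCategory CartesianMonoidalCategory MonObj GrpObj AlgebraicGeometry
open SGA3

namespace Groth.Agent.S5389

/-- Let P be a property of morphisms of schemes which is local on the target for the fpqc topology
(stable under base change, Zariski-local on the target, and descending along flat surjective
quasi-compact morphisms). Let u : G → H be a homomorphism of S-group schemes with G flat and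
universally open over S, W the largest open subscheme of H over which the restriction of u has P,
and V = u⁻¹(W). Then the image U of V in S is open and V is an open subgroup scheme of G over U: V
contains the unit point of every fibre of G that it meets, V is stable under the inversion of G, and
the product of a point of G ×_S G whose two projections lie in V lies in V. -/
theorem result (P : MorphismProperty Scheme.{u}) [P.IsStableUnderBaseChange] [IsZariskiLocalAtTarget P]
    [P.DescendsAlong (@Flat ⊓ @Surjective ⊓ @QuasiCompact)]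
    (S : Scheme.{u}) (G H : Over S) [GrpObj G] [GrpObj H] (u : G ⟶ H) [IsMonHom u] [Flat G.hom] [UniversallyOpen G.hom]
    (W : H.left.Opens) (hW : P (u.left ∣_ W)) (hmax : ∀ W' : H.left.Opens, P (u.left ∣_ W') → W' ≤ W) :
    letI V : G.left.Opens := u.left ⁻¹ᵁ W
    IsOpen (G.hom.base '' (V : Set G.left)) ∧
    (∀ g ∈ V, ∀ p : ↥(𝟙_ (Over S)).left, (𝟙_ (Over S)).hom.base p = G.hom.base g → η[G].left.base p ∈ V) ∧
    (∀ g ∈ V, ι[G].left.base g ∈ V) ∧
    (∀ z : ↥(G ⊗ G).left, (fst G G).left.base z ∈ V → (snd G G).left.base z ∈ V → μ[G].left.base z ∈ V) := by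
  have hsq₁ : IsPullback (snd G G).left (G ◁ u).left u.left (snd G H).left := by
    refine IsPullback.map (Over.forget S) (f := snd G G) (g := G ◁ u) (h := u) (i := snd G H) ?_
    refine IsPullback.of_isLimit' ⟨(whiskerLeft_snd G u).symm⟩
      (PullbackCone.IsLimit.mk _ (fun s => lift (s.snd ≫ fst G H) s.fst) (fun s => lift_snd _ _)
        (fun s => CartesianMonoidalCategory.hom_ext _ _ ?_ ?_) fun s m h₁ h₂ => CartesianMonoidalCategory.hom_ext _ _ ?_ ?_)
    · simp
    · simp [s.condition]
    · rw [lift_fst, ← h₂]; simp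
    · rw [lift_snd, ← h₁]
  let b : G ⊗ H ⟶ H := (u ▷ H) ≫ μ[H]
  have hb : b = (fst G H ≫ u) * snd G H := by
    simp only [b, Hom.mul_def]; congr 1
  have wb : μ[G] ≫ u = (G ◁ u) ≫ b := by
    rw [IsMonHom.mul_hom (f := u)]
    simp [b, tensorHom_def']
  have hsq₂ : IsPullback μ[G].left (G ◁ u).left u.left b.left := by
    refine IsPullback.map (Over.forget S) (f := μ[G]) (g := G ◁ u) (h := u) (i := b) ?_
    refine IsPullback.of_isLimit' ⟨wb⟩
      (PullbackCone.IsLimit.mk _ (fun s => lift (s.snd ≫ fst G H) ((s.snd ≫ fst G H)⁻¹ * s.fst)) (fun s => ?_)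
        (fun s => CartesianMonoidalCategory.hom_ext _ _ ?_ ?_) fun s m h₁ h₂ => CartesianMonoidalCategory.hom_ext _ _ ?_ ?_)
    · rw [← Hom.mul_def, mul_inv_cancel_left]
    · simp
    · rw [Category.assoc, whiskerLeft_snd, lift_snd_assoc, MonObj.mul_comp, GrpObj.inv_comp, s.condition,
        show s.snd ≫ b = s.snd ≫ ((fst G H ≫ u) * snd G H) from congrArg _ hb, MonObj.comp_mul, Category.assoc]
      group
    · rw [lift_fst, ← h₂]; simp
    · rw [lift_snd, ← h₁, ← h₂, Hom.mul_def]
      have : m ≫ μ[G] = (m ≫ fst G G) * (m ≫ snd G G) := by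
        rw [Hom.mul_def, ← comp_lift, lift_fst_snd, Category.comp_id]
      rw [← Hom.mul_def, this]
      simp
  let φ : G ⊗ H ≅ G ⊗ H :=
    { hom := lift (fst G H) b
      inv := lift (fst G H) ((fst G H ≫ u)⁻¹ * snd G H)
      hom_inv_id := CartesianMonoidalCategory.hom_ext _ _ (by simp) (by
        simp [MonObj.comp_mul, GrpObj.comp_inv, hb])
      inv_hom_id := CartesianMonoidalCategory.hom_ext _ _ (by simp) (by
        simp [MonObj.comp_mul, GrpObj.comp_inv, hb]) }
  have hφ : IsIso φ.hom.left := inferInstanceAs (IsIso ((Over.forget S).mapIso φ).hom)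
  have hbφ : b = φ.hom ≫ snd G H := (lift_snd _ _).symm
  have hF : Flat (snd G H).left := MorphismProperty.pullback_snd (P := @Flat) _ _ inferInstance
  have hO : UniversallyOpen (snd G H).left := MorphismProperty.pullback_snd (P := @UniversallyOpen) _ _ inferInstance
  have hFb : Flat b.left := by rw [hbφ, Over.comp_left]; infer_instance
  have hOb : IsOpenMap b.left.base := by
    have : UniversallyOpen b.left := by rw [hbφ, Over.comp_left]; infer_instance
    exact b.left.isOpenMap
  have hOa : IsOpenMap (snd G H).left.base := (snd G H).left.isOpenMap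
  have heq : (snd G H).left ⁻¹ᵁ W = b.left ⁻¹ᵁ W :=
    le_antisymm (SGA3a.FpqcLocus.le_preimage P hsq₂ hOb hmax (SGA3a.FpqcLocus.restrict_preimage P hsq₁ hW))
      (SGA3a.FpqcLocus.le_preimage P hsq₁ hOa hmax (SGA3a.FpqcLocus.restrict_preimage P hsq₂ hW))
  have key : ∀ z : ↥(G ⊗ G).left, (snd G G).left.base z ∈ u.left ⁻¹ᵁ W ↔ μ[G].left.base z ∈ u.left ⁻¹ᵁ W := by
    intro z
    change u.left.base ((snd G G).left.base z) ∈ W ↔ u.left.base (μ[G].left.base z) ∈ W
    rw [← Scheme.Hom.comp_apply, ← Scheme.Hom.comp_apply, hsq₁.w, hsq₂.w]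
    exact SetLike.ext_iff.1 heq ((G ◁ u).left.base z)
  have one_mem : ∀ g ∈ u.left ⁻¹ᵁ W, η[G].left.base ((toUnit G).left.base g) ∈ u.left ⁻¹ᵁ W := by
    intro g hg
    have e1 : lift ι[G] (𝟙 G) ≫ μ[G] = toUnit G ≫ η[G] := GrpObj.left_inv G
    have := (key ((lift ι[G] (𝟙 G)).left.base g)).1 (by
      rw [← Scheme.Hom.comp_apply, ← Over.comp_left, lift_snd]; exact hg)
    rwa [← Scheme.Hom.comp_apply, ← Over.comp_left, e1, Over.comp_left, Scheme.Hom.comp_apply] at this
  refine ⟨G.hom.isOpenMap _ (u.left ⁻¹ᵁ W).2, fun g hg p hp => ?_, fun g hg => ?_, fun z _ hz => (key z).1 hz⟩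
  · have : p = (toUnit G).left.base g := by
      have : IsIso (𝟙_ (Over S)).hom := inferInstanceAs (IsIso (𝟙 S))
      apply (𝟙_ (Over S)).hom.homeomorph.injective
      change (𝟙_ (Over S)).hom.base p = (𝟙_ (Over S)).hom.base ((toUnit G).left.base g)
      rw [hp, ← Scheme.Hom.comp_apply, Over.w]
    rw [this]
    exact one_mem g hg
  · have e1 : lift ι[G] (toUnit G ≫ η[G]) ≫ μ[G] = ι[G] := MonObj.lift_comp_one_right _ _
    have := (key ((lift ι[G] (toUnit G ≫ η[G])).left.base g)).1 (by
      rw [← Scheme.Hom.comp_apply, ← Over.comp_left, lift_snd, Over.comp_left, Scheme.Hom.comp_apply]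
      exact one_mem g hg)
    rwa [← Scheme.Hom.comp_apply, ← Over.comp_left, e1] at this

end Groth.Agent.S5389
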