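import Groth.Statements.S5391
import Groth.Agent.CAlg6.QuasiSec
-- import your own Groth.Agent.* helpers here

set_option autoImplicit false
universe u
open CategoryTheory CategoryTheory.Limits MonoidalCategory CartesianMonoidalCategory MonObj GrpObj AlgebraicGeometry
open SGA3

namespace Groth.Agent.S5391

/-- Let f : X → S be a morphism locally of finite presentation, s a point of S and x a point of the
fibre X_s = f⁻¹(s) which is closed in it. Suppose f is universally open at the generic point z of
some irreducible component Z of the fibre X_s containing x, with the local dimension of X_s at x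
equal to dim Z. Then there are an affine scheme S', an etale morphism w : S' → S, a finite
surjective morphism of finite presentation π : S'' → S', and a morphism h : S'' → X with h f = π w,
such that exactly one point s'' of S'' lies over s, h(s'') = x, and h induces an isomorphism κ(x) ≅
κ(s''). -/
theorem result (X S : Scheme.{u}) (f : X ⟶ S) [LocallyOfFinitePresentation f]
    (s : S) (x : X) (hxs : f.base x = s) (hx : IsClosed ((Subtype.val : ↥(f.base ⁻¹' {s}) → X) ⁻¹' {x}))
    (Z : Set ↥(f.base ⁻¹' {s})) (hZ : Z ∈ irreducibleComponents ↥(f.base ⁻¹' {s})) (hxZ : x ∈ (Subtype.val '' Z))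
    (z : X) (hz : z ∈ Subtype.val '' Z ∧ Subtype.val '' Z ⊆ closure {z}) (hopen : EGA43.IsUnivOpenAt f z)
    (hdim : FlatMor.localDim ↥(f.base ⁻¹' {s}) ⟨x, hxs⟩ = topologicalKrullDim ↥Z) :
    ∃ (S' S'' : Scheme.{u}) (_ : IsAffine S') (w : S' ⟶ S) (π : S'' ⟶ S') (h : S'' ⟶ X),
      Etale w ∧ IsFinite π ∧ Surjective π ∧ LocallyOfFinitePresentation π ∧ h ≫ f = π ≫ w ∧
      ∃ s'' : S'', (π ≫ w).base ⁻¹' {s} = {s''} ∧ h.base s'' = x ∧ IsIso (h.residueFieldMap s'') := by
  subst hxs
  obtain ⟨⟨z', hz'Z, rfl⟩, hsub⟩ := hz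
  have hzx : z'.1 ⤳ x := specializes_iff_mem_closure.2 (hsub hxZ)
  have hZc : IsClosed Z := isClosed_of_mem_irreducibleComponents Z hZ
  have hpre : Z = (Subtype.val : ↥(f.base ⁻¹' {f.base x}) → X) ⁻¹' closure {z'.1} := by
    refine Set.Subset.antisymm (fun w hw => hsub ⟨w, hw, rfl⟩) fun w hw => ?_
    have h : w ∈ closure ({z'} : Set ↥(f.base ⁻¹' {f.base x})) := by
      rw [closure_subtype, Set.image_singleton]; exact hw
    exact closure_minimal (Set.singleton_subset_iff.2 hz'Z) hZc h
  have hz'x : f.base z'.1 = f.base x := z'.2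
  have h1 : topologicalKrullDim ↥Z = (Groth.Agent.E4O.fdeg f z'.1 : ℕ) :=
    ((Groth.Agent.E4O.dim_set_congr hpre).trans
      ((Groth.Agent.E4O.dim_preimage_of_isEmbedding Topology.IsEmbedding.subtypeVal _).trans
        (Groth.Agent.E4O.dim_set_congr (by rw [Subtype.range_coe])))).trans
      ((Groth.Agent.E4O.dim_set_congr (congrArg (fun t => closure {z'.1} ∩ f.base ⁻¹' {t}) hz'x.symm)).trans
        (Groth.Agent.E4O.dim_fibreClosure (f := f) z'.1))
  refine Groth.Agent.CAlg6.QuasiSec.main f (fun x' hfx' hxx' => ?_) hzx hz'x hopen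
    (((Groth.Agent.E4O.fibreDimAt_eq_localDim f x).trans (hdim.trans h1)).le)
  have h2 : (⟨x', hfx'⟩ : ↥(f.base ⁻¹' {f.base x})) ∈ closure {⟨x, rfl⟩} := by
    rw [closure_subtype, Set.image_singleton]; exact specializes_iff_mem_closure.1 hxx'
  have h3 := closure_minimal (t := (Subtype.val : ↥(f.base ⁻¹' {f.base x}) → X) ⁻¹' {x})
    (Set.singleton_subset_iff.2 rfl) hx h2
  exact h3

end Groth.Agent.S5391
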