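import Groth.Statements.S5392
import Groth.Agent.S5283
-- import your own Groth.Agent.* helpers here

set_option autoImplicit false
universe u
open CategoryTheory CategoryTheory.Limits MonoidalCategory CartesianMonoidalCategory MonObj GrpObj AlgebraicGeometry
open SGA3

namespace Groth.Agent.S5392

/-- Let X be an S-group scheme which is smooth and of finite presentation over S with connected fibres,
Y an S-group scheme of finite presentation over S and i : Y → X a homomorphism which is a
monomorphism. Then there is a closed immersion t : T → S, locally of finite presentation, such that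
a morphism g : S' → S factors through t exactly when the base change of i along g is an isomorphism. -/
theorem result (S : Scheme.{u}) (X Y : Over S) [GrpObj X] [GrpObj Y]
    [Smooth X.hom] [QuasiCompact X.hom] [QuasiSeparated X.hom]
    (hconn : ∀ s : S, _root_.IsConnected (X.hom.base ⁻¹' {s}))
    [LocallyOfFinitePresentation Y.hom] [QuasiCompact Y.hom] [QuasiSeparated Y.hom]
    (i : Y ⟶ X) [IsMonHom i] [Mono i] :
    ∃ (T : Scheme.{u}) (t : T ⟶ S), IsClosedImmersion t ∧ LocallyOfFinitePresentation t ∧
      ∀ (S' : Scheme.{u}) (g : S' ⟶ S),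
        (∃ g' : S' ⟶ T, g' ≫ t = g) ↔ IsIso ((Over.pullback g).map i) := by
  have hconn' : ∀ s : S, ConnectedSpace ↥(Limits.pullback X.hom (S.fromSpecResidueField s)) := fun s => by
    haveI : ConnectedSpace ↥(X.hom.base ⁻¹' {s}) := isConnected_iff_connectedSpace.mp (hconn s)
    exact (X.hom.fiberHomeo s).symm.surjective.connectedSpace (X.hom.fiberHomeo s).symm.continuous
  obtain ⟨T, t, h1, h2, h3⟩ := Groth.Agent.S5283.result X Y hconn' i
  refine ⟨T, t, h1, h2, fun S' g => (h3 S' g).trans ⟨?_, fun h => ?_⟩⟩
  · rintro ⟨l, hl⟩
    have hw : l ≫ Y.hom = Limits.pullback.snd X.hom g ≫ g := by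
      rw [← Over.w i, ← Category.assoc, hl, Limits.pullback.condition]
    let r : (Over.pullback g).obj X ⟶ (Over.pullback g).obj Y :=
      Over.homMk (Limits.pullback.lift l (Limits.pullback.snd X.hom g) hw) (Limits.pullback.lift_snd _ _ _)
    have hr : r ≫ (Over.pullback g).map i = 𝟙 _ := by
      apply Over.OverMorphism.ext
      refine Limits.pullback.hom_ext ?_ ?_
      · simp [r]
        erw [Limits.pullback.lift_fst, Limits.pullback.lift_fst_assoc]
        exact hl
      · simp [r]
        erw [Limits.pullback.lift_snd, Limits.pullback.lift_snd]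
    haveI : IsSplitEpi ((Over.pullback g).map i) := ⟨⟨⟨r, hr⟩⟩⟩
    haveI : Mono ((Over.pullback g).map i) := inferInstance
    exact isIso_of_mono_of_isSplitEpi _
  · haveI := h
    have e : ((Over.pullback g).map i).left ≫ Limits.pullback.fst X.hom g =
        Limits.pullback.fst Y.hom g ≫ i.left := by
      simp
      exact Limits.pullback.lift_fst _ _ _
    refine ⟨(inv ((Over.pullback g).map i)).left ≫ Limits.pullback.fst Y.hom g, ?_⟩
    rw [Category.assoc, ← e, ← Category.assoc, ← Over.comp_left, IsIso.inv_hom_id]
    exact Category.id_comp _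

end Groth.Agent.S5392
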