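import Groth.Statements.S5393
import Groth.Agent.CAlg6.NormOpen
-- import your own Groth.Agent.* helpers here

set_option autoImplicit false
universe u
open CategoryTheory CategoryTheory.Limits MonoidalCategory CartesianMonoidalCategory MonObj GrpObj AlgebraicGeometry
open SGA3

namespace Groth.Agent.S5393

/-- Let G be an S-group scheme locally of finite presentation and quasi-separated over S, H an S-group
scheme smooth and of finite presentation over S with connected fibres, u : H → G a homomorphism
which is a monomorphism, n : N → G the normalizer of H in G (a closed subgroup scheme) and j : H → N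
the homomorphism with j n = u. The following are equivalent: (i) j is an open immersion; (ii) H
represents the neutral component of N: a point g : T → N factors through j exactly when the image of
its underlying map lies in the union of the neutral components of the fibres of N; (iii) for every s
in S, the fibre j_s : H_s → N_s is an open immersion whose image is the neutral component of N_s.
(The published statement asks H only to be smooth over S with connected fibres; this row also asks H
quasi-compact and quasi-separated over S, the hypotheses under which the normalizer is shown to be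
representable.) -/
theorem result (S : Scheme.{u}) (G H N : Over S) [GrpObj G] [GrpObj H] [GrpObj N]
    [LocallyOfFinitePresentation G.hom] [QuasiSeparated G.hom] [Smooth H.hom] [QuasiCompact H.hom] [QuasiSeparated H.hom]
    (hconn : ∀ s : S, _root_.IsConnected (H.hom.base ⁻¹' {s})) (u : H ⟶ G) [IsMonHom u] [Mono u]
    (n : N ⟶ G) [IsClosedImmersion n.left] (hN : Red.IsNormalizerOf u n) (j : H ⟶ N) [IsMonHom j] (hj : j ≫ n = u) :
    (IsOpenImmersion j.left ↔
      ∀ (T : Over S) (g : T ⟶ N), (∃ h : T ⟶ H, h ≫ j = g) ↔ Set.range g.left.base ⊆ SGA3x.neutralSet N) ∧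
    (IsOpenImmersion j.left ↔
      ∀ s : S, IsOpenImmersion ((Over.pullback (S.fromSpecResidueField s)).map j).left ∧
        j.left.base '' (H.hom.base ⁻¹' {s}) = SGA3x.neutralSet N ∩ N.hom.base ⁻¹' {s}) := by
  have hlfp : LocallyOfFinitePresentation N.hom := Groth.Agent.CAlg6.NormOpen.lfp_of_isNormalizerOf hconn u n hN
  haveI : Mono j := by
    haveI : Mono (j ≫ n) := hj.symm ▸ (inferInstance : Mono u)
    exact mono_of_mono j n
  -- the open immersion gives both fibre and points descriptions
  have h12 : IsOpenImmersion j.left → ∀ (T : Over S) (g : T ⟶ N),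
      (∃ h : T ⟶ H, h ≫ j = g) ↔ Set.range g.left.base ⊆ SGA3x.neutralSet N := by
    intro hopen T g
    rw [← Groth.Agent.CAlg6.NormOpen.range_eq j hconn]
    constructor
    · rintro ⟨h, rfl⟩
      rw [Over.comp_left]
      rintro _ ⟨t, rfl⟩
      exact ⟨h.left t, rfl⟩
    · intro hg
      refine ⟨Over.homMk (IsOpenImmersion.lift j.left g.left hg) ?_, ?_⟩
      · rw [← Over.w j, IsOpenImmersion.lift_fac_assoc]; exact Over.w g
      · ext1
        rw [Over.comp_left]
        exact IsOpenImmersion.lift_fac _ _ _
  have h13 : IsOpenImmersion j.left →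
      ∀ s : S, IsOpenImmersion ((Over.pullback (S.fromSpecResidueField s)).map j).left ∧
        j.left.base '' (H.hom.base ⁻¹' {s}) = SGA3x.neutralSet N ∩ N.hom.base ⁻¹' {s} := by
    intro hopen s
    refine ⟨MorphismProperty.of_isPullback (P := @IsOpenImmersion)
      (Groth.Agent.CAlg6.NormOpen.isPullback_prO j (S.fromSpecResidueField s)) hopen, ?_⟩
    rw [← Groth.Agent.CAlg6.NormOpen.range_eq j hconn]
    ext y
    constructor
    · rintro ⟨x, hx, rfl⟩
      exact ⟨⟨x, rfl⟩, congr($(Over.w j) x).trans hx⟩
    · rintro ⟨⟨x, rfl⟩, hx⟩
      exact ⟨x, congr($(Over.w j) x).symm.trans hx, rfl⟩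
  refine ⟨⟨h12, fun h2 => ?_⟩, ⟨h13, fun h3 => ?_⟩⟩
  · exact Groth.Agent.CAlg6.NormOpen.isOpenImmersion_of_fibres j fun s =>
      Groth.Agent.CAlg6.NormOpen.isOpenImmersion_fibre j hconn (fun T g hg => (h2 T g).2 hg)
        (K := S.residueField s) (S.fromSpecResidueField s)
  · exact Groth.Agent.CAlg6.NormOpen.isOpenImmersion_of_fibres j fun s => (h3 s).1

end Groth.Agent.S5393
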