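import Groth.Statements.S5395
import Mathlib.Topology.Constructible
import Mathlib.Topology.LocallyClosed
import Mathlib.Topology.JacobsonSpace

set_option autoImplicit false
universe u
open CategoryTheory CategoryTheory.Limits MonoidalCategory CartesianMonoidalCategory MonObj GrpObj AlgebraicGeometry
open SGA3

namespace Groth.Agent.S5395

/-- Let k be an algebraically closed field, G a group scheme locally of finite type over k, and A, B two
ind-constructible subsets of G. Let A·B be the image under the multiplication of the set of points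
of G ×_k G whose two projections lie in A and B. Then every closed point z of G lying in A·B is the
product of a closed point of G ×_k G whose two projections lie in A and B (and are then closed
points): the rational points of A·B are the products of rational points of A and of B. -/
theorem result (k : Type u) [Field k] [IsAlgClosed k] (G : Over (Spec (CommRingCat.of k))) [GrpObj G]
    [LocallyOfFiniteType G.hom] (A B : Set G.left) (hA : ProCons.IsIndConstructible A) (hB : ProCons.IsIndConstructible B)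
    (z : G.left) (hz : IsClosed ({z} : Set G.left))
    (hzAB : z ∈ μ[G].left.base '' {w : ↥(G ⊗ G).left | (fst G G).left.base w ∈ A ∧ (snd G G).left.base w ∈ B}) :
    ∃ w : ↥(G ⊗ G).left, IsClosed ({w} : Set ↥(G ⊗ G).left) ∧ (fst G G).left.base w ∈ A ∧ (snd G G).left.base w ∈ B ∧
      μ[G].left.base w = z := by
  have hcons : ∀ {X : Type u} [TopologicalSpace X] (s : Set X), Topology.IsConstructible s →
      (∀ x ∈ s, ∃ L, IsLocallyClosed L ∧ x ∈ L ∧ L ⊆ s) ∧ (∀ x ∉ s, ∃ L, IsLocallyClosed L ∧ x ∈ L ∧ L ⊆ sᶜ) := by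
    intro X _ s hs
    induction hs using Topology.IsConstructible.empty_union_induction with
    | open_retrocompact U hUo _ =>
      exact ⟨fun x hx => ⟨U, hUo.isLocallyClosed, hx, subset_rfl⟩,
        fun x hx => ⟨Uᶜ, hUo.isClosed_compl.isLocallyClosed, hx, subset_rfl⟩⟩
    | union s hs t ht h₁ h₂ =>
      refine ⟨fun x hx => ?_, fun x hx => ?_⟩
      · rcases hx with hx | hx
        · obtain ⟨L, a, b, c⟩ := h₁.1 x hx
          exact ⟨L, a, b, c.trans Set.subset_union_left⟩
        · obtain ⟨L, a, b, c⟩ := h₂.1 x hx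
          exact ⟨L, a, b, c.trans Set.subset_union_right⟩
      · obtain ⟨L, a, b, c⟩ := h₁.2 x (fun h => hx (Or.inl h))
        obtain ⟨M, a', b', c'⟩ := h₂.2 x (fun h => hx (Or.inr h))
        exact ⟨L ∩ M, a.inter a', ⟨b, b'⟩, fun y hy h => h.elim (c hy.1) (c' hy.2)⟩
    | compl s hs h₁ => exact ⟨h₁.2, fun x hx => by simpa using h₁.1 x (not_not.1 hx)⟩
  have hind : ∀ (E : Set G.left), ProCons.IsIndConstructible E → ∀ x ∈ E, ∃ L, IsLocallyClosed L ∧ x ∈ L ∧ L ⊆ E := by
    intro E hE x hx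
    obtain ⟨U, hU, hxU, S, hS, hES⟩ := hE x
    have hxS : (⟨x, hxU⟩ : U) ∈ ⋃₀ S := hES ▸ hx
    obtain ⟨T, hT, hxT⟩ := hxS
    obtain ⟨V, hVn, hV, hVc⟩ := hS T hT ⟨x, hxU⟩
    obtain ⟨L, hL, hxL, hLT⟩ := (hcons _ hVc).1 ⟨_, mem_of_mem_nhds hVn⟩ hxT
    refine ⟨Subtype.val '' (Subtype.val '' L), ?_, ⟨⟨x, hxU⟩, ⟨_, hxL, rfl⟩, rfl⟩, ?_⟩
    · refine (hL.image hV.isOpenEmbedding_subtypeVal.isInducing ?_).image hU.isOpenEmbedding_subtypeVal.isInducing ?_
      · rw [Subtype.range_coe]; exact hV.isLocallyClosed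
      · rw [Subtype.range_coe]; exact hU.isLocallyClosed
    · rintro y ⟨w, ⟨v, hv, rfl⟩, rfl⟩
      have : (v : U) ∈ (Subtype.val ⁻¹' E : Set U) := hES.symm ▸ ⟨T, hT, hLT hv⟩
      exact this
  obtain ⟨w, ⟨hwA, hwB⟩, hwz⟩ := hzAB
  obtain ⟨LA, hLA, hwLA, hLAA⟩ := hind A hA _ hwA
  obtain ⟨LB, hLB, hwLB, hLBB⟩ := hind B hB _ hwB
  have : JacobsonSpace ↥(Spec (CommRingCat.of k)) := inferInstance
  have hl : LocallyOfFiniteType (G ⊗ G).hom :=
    inferInstanceAs (LocallyOfFiniteType (pullback.fst G.hom G.hom ≫ G.hom))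
  have : JacobsonSpace ↥(G ⊗ G).left := LocallyOfFiniteType.jacobsonSpace (G ⊗ G).hom
  let E : Set ↥(G ⊗ G).left := (fst G G).left.base ⁻¹' LA ∩ (snd G G).left.base ⁻¹' LB ∩ μ[G].left.base ⁻¹' {z}
  have hE : IsLocallyClosed E :=
    ((hLA.preimage (fst G G).left.continuous).inter (hLB.preimage (snd G G).left.continuous)).inter
      (hz.isLocallyClosed.preimage μ[G].left.continuous)
  obtain ⟨v, ⟨⟨hvA, hvB⟩, hvz⟩, hv⟩ := nonempty_inter_closedPoints (Z := E) ⟨w, ⟨hwLA, hwLB⟩, hwz⟩ hE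
  exact ⟨v, hv, hLAA hvA, hLBB hvB, hvz⟩

end Groth.Agent.S5395
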