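import Groth.Statements.S5397
import Groth.Agent.CAlg6.HomogGlobal
-- import your own Groth.Agent.* helpers here

set_option autoImplicit false
universe u
open CategoryTheory CategoryTheory.Limits MonoidalCategory CartesianMonoidalCategory MonObj GrpObj AlgebraicGeometry
open SGA3

namespace Groth.Agent.S5397

/-- Let G be an S-group scheme locally of finite presentation over S and universally open over S on some
open containing the unit section, acting on an S-scheme X so that G ×_S X → X ×_S X, (g, x) ↦ (gx,
x), is surjective, and suppose every fibre X_s is a quasi-separated and connected space. Then X is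
separated over S; and if there is an open subscheme V of X, quasi-compact over S, meeting every
nonempty fibre X_s, then X is quasi-compact over S. (The published statement concludes that X is
quasi-compact over S without the open V; for a local scheme S whose punctured spectrum is not
quasi-compact, the trivial group acting on the disjoint union of the closed point and the punctured
spectrum satisfies every hypothesis and is not quasi-compact over S, so the open V is required
here.) -/
theorem result (S : Scheme.{u}) (G X : Over S) [GrpObj G]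
    [LocallyOfFinitePresentation G.hom]
    (hGo : ∃ W : G.left.Opens, (∀ p : ↥(𝟙_ (Over S)).left, η[G].left.base p ∈ W) ∧ UniversallyOpen (W.ι ≫ G.hom))
    (a : AlgGrp.Action G X) (hΦ : Surjective (lift a.act (snd G X)).left)
    (hqs : ∀ s : S, QuasiSeparatedSpace ↥(X.hom.base ⁻¹' {s}))
    (hconn : ∀ s : S, _root_.IsPreconnected (X.hom.base ⁻¹' {s})) :
    IsSeparated X.hom ∧
    ((∃ V : X.left.Opens, QuasiCompact (V.ι ≫ X.hom) ∧
        ∀ s : S, (X.hom.base ⁻¹' {s}).Nonempty → ((V : Set X.left) ∩ X.hom.base ⁻¹' {s}).Nonempty) →
      QuasiCompact X.hom) := by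
  classical
  obtain ⟨W, hW, hWo⟩ := hGo
  refine ⟨CAlg6.HomogGlobal.isSeparated_of_maximal_mem a hΦ W hW (fun s => ?_), fun ⟨V, hV, hmeet⟩ =>
    CAlg6.HomogGlobal.quasiCompact_of_meets a hΦ hqs hconn V hmeet⟩
  by_cases hne : (X.hom ⁻¹' {s}).Nonempty
  · obtain ⟨x, hx⟩ := hne
    obtain ⟨w, -, -, hws, hgen⟩ := CAlg6.HomogConn.exists_translate a hΦ (hqs s) (hconn s) x hx
    obtain ⟨_, ⟨U', hU', rfl⟩, hwU, -⟩ :=
      X.left.isBasis_affineOpens.exists_subset_of_mem_open (Set.mem_univ (a.act.left w)) isOpen_univ
    let U : X.left.Opens := U'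
    have hU : IsAffineOpen U := hU'
    have : IsAffine U.toScheme := hU
    refine ⟨U, ?_, fun z hz hmax => ?_⟩
    · have : IsSeparated ((U.ι ≫ X.hom) ≫ terminal.from S) := inferInstance
      exact IsSeparated.of_comp (U.ι ≫ X.hom) (terminal.from S)
    · rw [← hmax _ (hgen z hz) hws]; exact hwU
  · refine ⟨⊥, ?_, fun z hz _ => absurd ⟨z, hz⟩ hne⟩
    have : IsAffine (⊥ : X.left.Opens).toScheme := isAffineOpen_bot X.left
    have : IsSeparated (((⊥ : X.left.Opens).ι ≫ X.hom) ≫ terminal.from S) := inferInstance
    exact IsSeparated.of_comp ((⊥ : X.left.Opens).ι ≫ X.hom) (terminal.from S)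

end Groth.Agent.S5397
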