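import Groth.Statements.S5414
import Groth.Agent.SGA3a.AffineDimOne

set_option autoImplicit false
universe u
open CategoryTheory MonoidalCategory CartesianMonoidalCategory MonObj GrpObj AlgebraicGeometry CategoryTheory.Limits
open SGA3x

namespace Groth.Agent.S5414

/-- Let S be a locally Noetherian scheme of dimension at most 1, X and Y two S-schemes locally of finite
type over S and u : X → Y an S-morphism which is quasi-finite (quasi-compact, locally quasi-finite)
and separated. Suppose that for every point s of S the morphism u_s : X_s → Y_s induced on the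
fibres over s is finite. Then u is affine. (The published statement takes S of dimension 1; this row
allows dimension at most 1, which its proof covers.) -/
theorem result (S : Scheme.{u}) [IsLocallyNoetherian S] (hdim : topologicalKrullDim ↥S ≤ 1)
    (X Y : Over S) [LocallyOfFiniteType X.hom] [LocallyOfFiniteType Y.hom] (u : X ⟶ Y)
    [QuasiCompact u.left] [LocallyQuasiFinite u.left] [IsSeparated u.left]
    (hfin : ∀ s : S, IsFinite ((Over.pullback (S.fromSpecResidueField s)).map u).left) :
    IsAffineHom u.left := by
  rw [IsZariskiLocalAtTarget.iff_of_iSup_eq_top (P := @IsAffineHom) (U := fun V : Y.left.affineOpens => (V : Y.left.Opens)) (iSup_affineOpens_eq_top _)]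
  intro V
  have hV : IsAffineOpen V.1 := V.2
  have : IsLocallyNoetherian Y.left := LocallyOfFiniteType.isLocallyNoetherian Y.hom
  have hY : IsNoetherian (Scheme.Opens.toScheme V.1) := { toCompactSpace := isCompact_iff_compactSpace.1 hV.isCompact }
  have hu : LocallyOfFiniteType u.left := by
    have : LocallyOfFiniteType (u.left ≫ Y.hom) := by rw [Over.w]; infer_instance
    exact locallyOfFiniteType_of_comp u.left Y.hom
  let f := u.left ∣_ V.1
  have : IsSeparated f := IsZariskiLocalAtTarget.restrict (P := @IsSeparated) ‹_› V.1
  have : LocallyOfFiniteType f := IsZariskiLocalAtTarget.restrict (P := @LocallyOfFiniteType) hu V.1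
  have : LocallyQuasiFinite f := IsZariskiLocalAtTarget.restrict (P := @LocallyQuasiFinite) ‹_› V.1
  have : QuasiCompact f := IsZariskiLocalAtTarget.restrict (P := @QuasiCompact) ‹_› V.1
  obtain ⟨T, j, π, _, _, _, _, hjπ⟩ := Groth.Agent.LimTop61.exists_openImmersion_finite f
  have : IsLocallyNoetherian T := LocallyOfFiniteType.isLocallyNoetherian π
  have : CompactSpace T := QuasiCompact.compactSpace_of_compactSpace π
  have : AlgebraicGeometry.IsNoetherian T := { }
  have : IsAffineHom j := Groth.Agent.SGA3a.AffineDimOne.isAffineHom_openImmersion hdim j π (V.1.ι ≫ Y.hom) fun s => by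
    rw [hjπ]
    let φ := S.fromSpecResidueField s
    let a : pullback (V.1.ι ≫ Y.hom) φ ⟶ pullback Y.hom φ :=
      pullback.map _ _ _ _ V.1.ι (𝟙 _) (𝟙 _) (by simp) (by simp)
    have hsq : pullback.fst (V.1.ι ≫ Y.hom) φ ≫ V.1.ι = a ≫ pullback.fst Y.hom φ := (pullback.lift_fst _ _ _).symm
    have h₁ := (IsPullback.of_hasPullback f (pullback.fst (V.1.ι ≫ Y.hom) φ)).paste_horiz
      (isPullback_morphismRestrict u.left V.1).flip
    have h₀ : IsFinite (pullback.snd u.left (pullback.fst Y.hom φ)) := by
      have h := Groth.Agent.RedPts82.isPullback_bc_map u φ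
      rw [← IsPullback.isoIsPullback_hom_snd _ _ (IsPullback.of_hasPullback u.left (pullback.fst Y.hom φ)) h]
      have := hfin s
      infer_instance
    rw [hsq] at h₁
    exact MorphismProperty.of_isPullback (P := @IsFinite)
      (IsPullback.of_right' h₁ (IsPullback.of_hasPullback u.left (pullback.fst Y.hom φ))) h₀
  show IsAffineHom f
  rw [← hjπ]; infer_instance

end Groth.Agent.S5414
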