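import Groth.Statements.S5415
import Groth.Agent.AlgGrp79.Pullback
import Groth.Agent.AlgGrp79.FiniteKernelHom
import Groth.Agent.Unr55.DescProps

set_option autoImplicit false
universe u
open CategoryTheory MonoidalCategory CartesianMonoidalCategory MonObj GrpObj AlgebraicGeometry CategoryTheory.Limits
open SGA3x

namespace Groth.Agent.S5415

/-- Let G be an S-group scheme of finite presentation over S, p : G → G'' a homomorphism which is
surjective, flat and locally of finite presentation onto an S-group scheme G'' proper and of finite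
presentation over S, and i : G' → G its kernel, with G' flat and of finite presentation over S. Let
H be an S-group scheme which is of finite presentation over S, or locally of finite presentation
over a locally Noetherian S, and u : G → H a homomorphism. If the restriction u ∘ i of u to G' is
proper, then u is proper. -/
theorem result (S : Scheme.{u}) (G G' G'' : Over S) [GrpObj G] [GrpObj G'] [GrpObj G'']
    [QuasiCompact G.hom] [QuasiSeparated G.hom] [LocallyOfFinitePresentation G.hom]
    [IsProper G''.hom] [LocallyOfFinitePresentation G''.hom]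
    [Flat G'.hom] [QuasiCompact G'.hom] [QuasiSeparated G'.hom] [LocallyOfFinitePresentation G'.hom]
    (p : G ⟶ G'') [IsMonHom p] [Surjective p.left] [Flat p.left] [LocallyOfFinitePresentation p.left]
    (i : G' ⟶ G) [IsMonHom i] (hker : AlgGrp.IsKernel i p)
    (H : Over S) [GrpObj H] [LocallyOfFinitePresentation H.hom]
    (hH : (QuasiCompact H.hom ∧ QuasiSeparated H.hom) ∨ IsLocallyNoetherian S)
    (u : G ⟶ H) [IsMonHom u] (hu : IsProper (i ≫ u).left) : IsProper u.left := by
  have := Groth.Agent.Unr55.isProper.{u}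
  let φ : G ⟶ H ⊗ G'' := lift u p
  let c : H ⊗ G ⟶ H ⊗ G'' := H ◁ p
  let a : G ⊗ G' ⟶ G := fst G G' * (snd G G' ≫ i)
  let σ : G ⊗ H ≅ H ⊗ G := ⟨lift ((fst G H ≫ u) * snd G H) (fst G H), lift (snd H G) ((snd H G ≫ u)⁻¹ * fst H G),
    by ext1 <;> simp [MonObj.comp_mul, GrpObj.comp_inv],
    by ext1 <;> simp [MonObj.comp_mul, GrpObj.comp_inv]⟩
  let b : G ⊗ G' ⟶ H ⊗ G := (G ◁ (i ≫ u)) ≫ σ.hom
  have hip : i ≫ p = 1 := by rw [hker.w, Hom.one_def]
  have hb₁ : b ≫ fst H G = (fst G G' ≫ u) * (snd G G' ≫ i ≫ u) := by
    simp [b, σ, MonObj.comp_mul]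
  have hb₂ : b ≫ snd H G = fst G G' := by simp [b, σ]
  have sq : IsPullback a b φ c := by
    refine ⟨⟨?_⟩, ⟨PullbackCone.IsLimit.mk _ ?_ ?_ ?_ ?_⟩⟩
    · ext1
      · simp only [φ, c, Category.assoc, lift_fst, whiskerLeft_fst, hb₁, a, MonObj.mul_comp]
      · simp only [φ, c, Category.assoc, lift_snd, whiskerLeft_snd, reassoc_of% hb₂, a, MonObj.mul_comp, hip,
          MonObj.comp_one, _root_.mul_one]
    · intro s
      have h2 := s.condition =≫ snd H G''
      simp only [φ, c, Category.assoc, lift_snd, whiskerLeft_snd] at h2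
      exact lift (s.snd ≫ snd H G) (Classical.choose (Groth.Agent.AlgGrp79.exists_ker_of_comp_one hker
        ((s.snd ≫ snd H G)⁻¹ * s.fst) (by rw [MonObj.mul_comp, GrpObj.inv_comp, h2, Category.assoc, inv_mul_cancel])))
    · intro s
      have h2 := s.condition =≫ snd H G''
      simp only [φ, c, Category.assoc, lift_snd, whiskerLeft_snd] at h2
      simp only [a, MonObj.comp_mul, lift_fst, lift_snd_assoc]
      rw [Classical.choose_spec (Groth.Agent.AlgGrp79.exists_ker_of_comp_one hker
        ((s.snd ≫ snd H G)⁻¹ * s.fst) (by rw [MonObj.mul_comp, GrpObj.inv_comp, h2, Category.assoc, inv_mul_cancel])),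
        mul_inv_cancel_left]
    · intro s
      have h1 := s.condition =≫ fst H G''
      have h2 := s.condition =≫ snd H G''
      simp only [φ, c, Category.assoc, lift_fst, whiskerLeft_fst] at h1
      simp only [φ, c, Category.assoc, lift_snd, whiskerLeft_snd] at h2
      ext1
      · simp only [Category.assoc, hb₁, MonObj.comp_mul, lift_fst_assoc, lift_snd_assoc]
        rw [← Category.assoc _ i u, Classical.choose_spec (Groth.Agent.AlgGrp79.exists_ker_of_comp_one hker
          ((s.snd ≫ snd H G)⁻¹ * s.fst) (by rw [MonObj.mul_comp, GrpObj.inv_comp, h2, Category.assoc, inv_mul_cancel])),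
          MonObj.mul_comp, GrpObj.inv_comp, Category.assoc, h1, mul_inv_cancel_left]
      · simp only [Category.assoc, hb₂, lift_fst]
    · intro s m hm1 hm2
      haveI : Mono i := Groth.Agent.AlgGrp79.mono_of_isKernel hker
      have e2 : m ≫ fst G G' = s.snd ≫ snd H G := by rw [← hm2, Category.assoc, hb₂]
      ext1
      · rw [e2, lift_fst]
      · have h2 := s.condition =≫ snd H G''
        simp only [φ, c, Category.assoc, lift_snd, whiskerLeft_snd] at h2
        rw [lift_snd, ← cancel_mono i, Classical.choose_spec (Groth.Agent.AlgGrp79.exists_ker_of_comp_one hker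
          ((s.snd ≫ snd H G)⁻¹ * s.fst) (by rw [MonObj.mul_comp, GrpObj.inv_comp, h2, Category.assoc, inv_mul_cancel])), ← hm1]
        simp only [a, MonObj.comp_mul, e2, Category.assoc, inv_mul_cancel_left]
  haveI hσ : IsIso σ.hom.left := ((Over.forget _).mapIso σ).isIso_hom
  haveI : IsProper (G ◁ (i ≫ u)).left := MorphismProperty.of_isPullback
    (Groth.Agent.AlgGrp79.isPullback_left (Groth.Agent.AlgGrp79.whiskerLeft_isPullback G (i ≫ u))).flip hu
  have hbp : IsProper b.left := by
    show IsProper ((G ◁ (i ≫ u)).left ≫ σ.hom.left)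
    infer_instance
  have hp' := Groth.Agent.AlgGrp79.isPullback_left (Groth.Agent.AlgGrp79.whiskerLeft_isPullback H p)
  haveI : QuasiCompact p.left := by
    haveI : QuasiCompact (p.left ≫ G''.hom) := by rw [Over.w]; infer_instance
    exact QuasiCompact.of_comp p.left G''.hom
  haveI hφ : IsProper φ.left := MorphismProperty.of_isPullback_of_descendsAlong (P := @IsProper)
    (Q := Groth.Agent.Unr55.fpqc) (Groth.Agent.AlgGrp79.isPullback_left sq).flip
    ⟨⟨MorphismProperty.of_isPullback hp'.flip ‹Surjective p.left›, MorphismProperty.of_isPullback hp'.flip ‹Flat p.left›⟩,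
      MorphismProperty.of_isPullback hp'.flip ‹QuasiCompact p.left›⟩ hbp
  have hfst : IsProper (fst H G'').left :=
    MorphismProperty.pullback_fst (P := @IsProper) _ _ ‹IsProper G''.hom›
  have e : φ.left ≫ (fst H G'').left = u.left := by rw [← Over.comp_left, lift_fst]
  rw [← e]
  infer_instance

end Groth.Agent.S5415
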