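import Groth.Statements.S5425
import Groth.Agent.Unip38.Criterion
import Groth.Agent.Unip38.LieSplit
import Groth.Agent.Unip38.UnitsConst
import Groth.Agent.Unip38.LieUnipotent
import Groth.Agent.S7951

set_option autoImplicit false
universe u
open TensorProduct
open SGA3t2b

namespace Groth.Agent.S5425

/-- (i) ⟺ (iv) ⟺ (v): let k be a field of characteristic p > 0 with algebraic closure k̄, and A a
finitely generated commutative Hopf algebra over k with no idempotents other than 0 and 1 (a
connected affine algebraic group G). Then the following are equivalent: (i) G is unipotent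
(fixed-vector form); (iv) G_{k̄} contains no closed subgroup isomorphic to μ_p; (v) the Lie algebra
of G is a unipotent p-Lie algebra: for every ε-derivation D : A → k some p^n-fold convolution power
of D (n > 0) vanishes. -/
theorem result (k : Type u) [Field k] (p : ℕ) [Fact p.Prime] [CharP k p] (A : Type u) [CommRing A] [HopfAlgebra k A]
    [Algebra.FiniteType k A] (hconn : ∀ e : A, IsIdempotentElem e → e = 0 ∨ e = 1) :
    (HopfRep.IsUnipotent k A ↔
      ¬ ∃ φ : (AlgebraicClosure k ⊗[k] A) →ₐc[AlgebraicClosure k]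
        MonoidAlgebra (AlgebraicClosure k) (Multiplicative (ZMod p)), Function.Surjective φ) ∧
    (HopfRep.IsUnipotent k A ↔
      ∀ D : LieHopf.Lie k A, ∃ n : ℕ, 0 < n ∧
        LieHopf.convPow (D.toLinearMap.restrictScalars k ∘ₗ LinearMap.id) (p ^ n) = 0) := by
  let kb := AlgebraicClosure k
  haveI : CharP kb p := charP_of_injective_algebraMap (algebraMap k kb).injective p
  have hconn' : ∀ e : kb ⊗[k] A, IsIdempotentElem e → e = 0 ∨ e = 1 :=
    fun e he => Unip38.idem_baseChange_trivial (Bialgebra.counitAlgHom k A) hconn kb e he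
  have h1 : HopfRep.IsUnipotent k A → ¬ ∃ φ : (kb ⊗[k] A) →ₐc[kb] MonoidAlgebra kb (Multiplicative (ZMod p)),
      Function.Surjective φ := fun hU ⟨φ, hφ⟩ =>
    Unip38.no_mu_of_isUnipotent (Comod33.isUnipotent_baseChange hU kb) (Fact.out : p.Prime).one_lt φ hφ
  have h2 : (¬ ∃ φ : (kb ⊗[k] A) →ₐc[kb] MonoidAlgebra kb (Multiplicative (ZMod p)), Function.Surjective φ) →
      HopfRep.IsUnipotent k A := fun h =>
    (S7951.result k kb A).2 (Unip38.isUnipotent_of_no_mu_p p hconn' h)
  refine ⟨⟨h1, h2⟩, fun hU D => Unip38.exists_convPow_eq_zero p hU D, fun hv => h2 ?_⟩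
  rintro ⟨φ, hφ⟩
  refine Unip38.no_mu_of_nilpotent p (fun η hη V _ _ _ _ => ?_) φ hφ
  let D : LieHopf.Lie k A := Derivation.mk'
    ({ toFun := fun a => (η a : k), map_add' := η.map_add, map_smul' := η.map_smul } : A →ₗ[k] LieHopf.K k A)
    fun a b => hη a b
  obtain ⟨n, -, hn⟩ := hv D
  have hpow : ∀ m, Comod33.dact (A := A) (V := V) (LieHopf.convPow η m) = Comod33.dact (A := A) (V := V) η ^ m := by
    intro m
    induction m with
    | zero => exact LinearMap.ext fun v => Comod33.dact_counit v
    | succ m ih =>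
      refine LinearMap.ext fun v => ?_
      rw [pow_succ, Module.End.mul_apply, ← ih, Comod33.dact_dact]
      rfl
  refine ⟨p ^ n, ?_⟩
  rw [← hpow, show LieHopf.convPow η (p ^ n) = 0 from hn, Comod33.dact_zero]

end Groth.Agent.S5425
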