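import Groth.Statements.S5427
import Groth.Agent.RedPts82.Points
import Mathlib.RingTheory.SimpleModule.Basic
import Mathlib.RingTheory.Int.Basic
import Mathlib.RingTheory.ZMod
import Mathlib.Data.ZMod.QuotientRing

set_option autoImplicit false
universe u
open CategoryTheory MonoidalCategory CartesianMonoidalCategory MonObj GrpObj AlgebraicGeometry CategoryTheory.Limits
open Red

open Groth.Agent.RedPts82

namespace Groth.Agent.S5427

theorem exists_prime_quot (M : Type) [AddCommGroup M] [AddGroup.FG M] [Nontrivial M] :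
    ∃ (r : ℕ) (_ : r.Prime) (f : M →+ ZMod r), Function.Surjective f := by
  have : Module.Finite ℤ M := Module.Finite.iff_addGroup_fg.mpr ‹_›
  obtain ⟨N, hN, -⟩ := (eq_top_or_exists_le_coatom (⊥ : Submodule ℤ M)).resolve_left bot_ne_top
  have : IsSimpleModule ℤ (M ⧸ N) := isSimpleModule_iff_isCoatom.mpr hN
  obtain ⟨I, hI, ⟨e⟩⟩ := isSimpleModule_iff_quot_maximal.mp this
  obtain ⟨n, rfl⟩ : ∃ n : ℤ, I = Ideal.span {n} :=
    ⟨_, (Submodule.IsPrincipal.span_singleton_generator I).symm⟩
  have hn0 : n ≠ 0 := by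
    rintro rfl
    rw [Ideal.span_singleton_eq_bot.mpr rfl] at hI
    exact Int.not_isField ((Ideal.Quotient.maximal_ideal_iff_isField_quotient _).mp hI |>
      fun h => (RingEquiv.quotientBot ℤ).symm.toMulEquiv.isField h)
  have hp : Prime n := (Ideal.span_singleton_prime hn0).mp hI.isPrime
  refine ⟨n.natAbs, Int.prime_iff_natAbs_prime.mp hp,
    ((Int.quotientSpanEquivZMod n).toAddEquiv.toAddMonoidHom.comp e.toAddEquiv.toAddMonoidHom).comp
      N.mkQ.toAddMonoidHom, ?_⟩
  exact ((Int.quotientSpanEquivZMod n).surjective.comp e.surjective).comp N.mkQ_surjective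


/-- Let S be a scheme and G = D_S(M) a diagonalizable S-group of finite type, M a non-trivial finitely
generated commutative group. Then there are a prime number r and a closed subgroup of G isomorphic
to (μ_r)_S: a homomorphism of S-groups D_S(ℤ/r) → D_S(M) which is a closed immersion. -/
theorem result (S : Scheme.{u}) (M : Type) [AddCommGroup M] [AddGroup.FG M] [Nontrivial M] :
    ∃ (r : ℕ) (_ : r.Prime) (j : Red.DS S (ZMod r) ⟶ Red.DS S M), IsMonHom j ∧ IsClosedImmersion j.left := by
  obtain ⟨r, hr, f, hf⟩ := exists_prime_quot M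
  refine ⟨r, hr, Red.DSmap S f, inferInstance, ?_⟩
  have hsurj : Function.Surjective (MonoidAlgebra.mapDomainAlgHom (ULift.{u} ℤ) (ULift.{u} ℤ)
      (AddMonoidHom.toMultiplicative f)) := by
    intro x
    induction x using MonoidAlgebra.induction_on with
    | of m =>
      obtain ⟨m', hm'⟩ := hf (Multiplicative.toAdd m)
      refine ⟨MonoidAlgebra.of _ _ (Multiplicative.ofAdd m'), ?_⟩
      simp [hm']
    | add a b ha hb =>
      obtain ⟨a', rfl⟩ := ha
      obtain ⟨b', rfl⟩ := hb
      exact ⟨a' + b', map_add _ _ _⟩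
    | smul c a ha =>
      obtain ⟨a', rfl⟩ := ha
      exact ⟨c • a', map_smul _ _ _⟩
  have : IsClosedImmersion (Red.diagMap (ULift.{u} ℤ) f).left :=
    IsClosedImmersion.spec_of_surjective _ hsurj
  exact MorphismProperty.overPullbackMap (P := @IsClosedImmersion)
    (Limits.IsTerminal.from specULiftZIsTerminal S) (Red.diagMap (ULift.{u} ℤ) f) this

end Groth.Agent.S5427
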