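import Groth.Statements.S5445
import Groth.Agent.Roots36.Exists

set_option autoImplicit false
open RootD

namespace Groth.Agent.S5445

/-- A system of positive roots of a root datum contains exactly one system of simple roots (simple
systems in the sense of conditions on roots only: linearly independent, every root a non-negative or
non-positive integer combination). -/
theorem result {ι M N : Type*} [AddCommGroup M] [AddCommGroup N]
    (P : RootPairing ι ℤ M N) [Finite ι] (S : Set ι) (hS : RootD.IsPosSys P S) :
    ∃! Δ : Set ι, RootD.IsSimpleSys P Δ ∧ Δ ⊆ S := by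
  have := Fintype.ofFinite ι
  obtain ⟨Δ, hΔ, hpos⟩ := Roots36.exists_simple_of_closed P (Roots36.IsPosSys.isClosedSub hS)
    hS.cover fun i hi => hS.disjoint hi
  refine ⟨Δ, ⟨hΔ, fun i hi => hpos ▸ Roots36.simple_mem_posOf hΔ hi⟩, ?_⟩
  rintro Δ' ⟨hΔ', hsub⟩
  refine Roots36.simple_eq_of_posOf_eq hΔ' hΔ ?_
  rw [hpos]
  refine (Roots36.posOf_subset_of_closed hΔ' (Roots36.IsPosSys.isClosedSub hS) hsub).antisymm
    fun k hk => ?_
  by_contra hk'
  exact hS.disjoint hk (Roots36.posOf_subset_of_closed hΔ' (Roots36.IsPosSys.isClosedSub hS) hsub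
    ((Roots36.neg_posOf_iff hΔ').mpr hk'))

end Groth.Agent.S5445
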