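import Groth.Statements.S5446
import Groth.Agent.Roots36.Cone
import Groth.Agent.Roots36.Exists

set_option autoImplicit false
open RootD

namespace Groth.Agent.S5446

/-- If the roots indexed by Δ are indivisible and linearly independent and every root is, up to sign, a
non-negative rational combination of them (some positive multiple is a non-negative integer
combination), then Δ is a system of simple roots: every root is, up to sign, a non-negative integer
combination of Δ. -/
theorem result {ι M N : Type*} [AddCommGroup M] [AddCommGroup N]
    (P : RootPairing ι ℤ M N) [Finite ι] (Δ : Set ι)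
    (hind : ∀ i ∈ Δ, RootD.IsIndiv P i) (hli : LinearIndepOn ℤ P.root Δ)
    (hcone : ∀ k : ι, ∃ n : ℕ, 0 < n ∧
      (n • P.root k ∈ RootD.natSpan P Δ ∨ n • (-P.root k) ∈ RootD.natSpan P Δ)) :
    RootD.IsSimpleSys P Δ := by
  have := Fintype.ofFinite ι
  classical
  obtain ⟨Δ₀, h₀⟩ := Roots36.exists_isSimpleSys P
  exact Roots36.isSimpleSys_of_cone h₀ hind hli hcone

end Groth.Agent.S5446
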