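import Groth.Statements.S5447
import Groth.Agent.Roots36.Cone
import Groth.Agent.Roots36.Exists

set_option autoImplicit false
open RootD

namespace Groth.Agent.S5447

/-- If every root can be written in exactly one way as an integer combination of the roots indexed by Δ
with coefficients all of the same sign, then these roots are linearly independent (so Δ is a system
of simple roots) and indivisible. -/
theorem result {ι M N : Type*} [AddCommGroup M] [AddCommGroup N]
    (P : RootPairing ι ℤ M N) [Finite ι] (Δ : Set ι)
    (h : ∀ k : ι, ∃! c : ι →₀ ℤ, (↑c.support ⊆ Δ ∧ ((∀ j, 0 ≤ c j) ∨ (∀ j, c j ≤ 0)) ∧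
      Finsupp.linearCombination ℤ P.root c = P.root k)) :
    RootD.IsSimpleSys P Δ ∧ ∀ i ∈ Δ, RootD.IsIndiv P i := by
  have := Fintype.ofFinite ι
  classical
  obtain ⟨Δ₀, h₀⟩ := Roots36.exists_isSimpleSys P
  have hΔ := Roots36.isSimpleSys_of_unique h₀ h
  exact ⟨hΔ, fun i hi => Roots36.isIndiv_simple hΔ hi⟩

end Groth.Agent.S5447
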