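import Groth.Statements.S5449
import Groth.Agent.Roots36.PosSys

set_option autoImplicit false
open RootD

namespace Groth.Agent.S5449

/-- For a system of simple roots Δ, the roots that are non-negative integer combinations of Δ form a
system of positive roots; and a system of positive roots S contains Δ if and only if S is that set. -/
theorem result {ι M N : Type*} [AddCommGroup M] [AddCommGroup N]
    (P : RootPairing ι ℤ M N) [Finite ι] (Δ : Set ι) (hΔ : RootD.IsSimpleSys P Δ)
    (S : Set ι) (hS : RootD.IsPosSys P S) :
    RootD.IsPosSys P (RootD.posOf P Δ) ∧ (Δ ⊆ S ↔ S = RootD.posOf P Δ) := by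
  have := Fintype.ofFinite ι
  refine ⟨Roots36.isPosSys_posOf hΔ, fun h => ?_, fun h i hi => h ▸ Roots36.simple_mem_posOf hΔ hi⟩
  have hsub := Roots36.posOf_subset_of_closed hΔ (Roots36.IsPosSys.isClosedSub hS) h
  refine (hsub.antisymm fun k hk => ?_).symm
  by_contra hk'
  exact hS.disjoint hk (hsub ((Roots36.neg_posOf_iff hΔ).mpr hk'))

end Groth.Agent.S5449
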