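import Groth.Statements.S5450
import Groth.Agent.Roots36.PosSys

set_option autoImplicit false
open RootD

namespace Groth.Agent.S5450

/-- A positive root (relative to a system of simple roots Δ) is simple if and only if it is not the sum
of two positive roots. -/
theorem result {ι M N : Type*} [AddCommGroup M] [AddCommGroup N]
    (P : RootPairing ι ℤ M N) [Finite ι] (Δ : Set ι) (hΔ : RootD.IsSimpleSys P Δ)
    (k : ι) (hk : k ∈ RootD.posOf P Δ) :
    k ∈ Δ ↔ ¬ ∃ i j : ι, i ∈ RootD.posOf P Δ ∧ j ∈ RootD.posOf P Δ ∧ P.root k = P.root i + P.root j := by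
  have := Fintype.ofFinite ι
  rw [Roots36.mem_simple_iff hΔ]
  exact ⟨fun h => h.2, fun h => ⟨hk, h⟩⟩

end Groth.Agent.S5450
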