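import Groth.Statements.S5451
import Groth.Agent.Roots36.Combi
import Groth.Agent.Roots36.Exists

set_option autoImplicit false
open RootD

namespace Groth.Agent.S5451

/-- If a root is a positive integer combination of roots α_i, then it can be reached from 0 by
successively adding roots taken among the α_i in such a way that every partial sum is a root. -/
theorem result {ι M N : Type*} [AddCommGroup M] [AddCommGroup N]
    (P : RootPairing ι ℤ M N) [Finite ι] {n : ℕ} (a : Fin n → ι) (m : Fin n → ℕ)
    (hm : ∀ i, 0 < m i) (k : ι) (hk : P.root k = ∑ i, m i • P.root (a i)) :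
    ∃ (l : ℕ) (b : Fin l → Fin n), 0 < l ∧
      (∀ p : Fin l, ∃ j : ι, P.root j = ∑ q ∈ Finset.univ.filter (fun q : Fin l => q.val ≤ p.val), P.root (a (b q))) ∧
      P.root k = ∑ q, P.root (a (b q)) := by
  have := Fintype.ofFinite ι
  classical
  suffices H : ∀ (s : ℕ) (c : Fin n → ℕ) (k : ι), ∑ i, c i = s → P.root k = ∑ i, c i • P.root (a i) →
      ∃ (l : ℕ) (b : Fin l → Fin n), 0 < l ∧
      (∀ p : Fin l, ∃ j : ι, P.root j = ∑ q ∈ Finset.univ.filter (fun q : Fin l => q.val ≤ p.val), P.root (a (b q))) ∧
      P.root k = ∑ q, P.root (a (b q)) from H _ m k rfl hk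
  intro s
  induction s using Nat.strongRecOn with
  | ind s ih =>
    intro c k hs hk
    have h2 : (2 : ℤ) = ∑ i, (c i : ℤ) * P.pairing (a i) k := by
      have h := congrArg (P.coroot' k) hk
      rw [map_sum, P.root_coroot'_eq_pairing, P.pairing_same] at h
      simpa [map_nsmul, P.root_coroot'_eq_pairing] using h
    obtain ⟨i, -, hi⟩ : ∃ i ∈ Finset.univ, 0 < (c i : ℤ) * P.pairing (a i) k := by
      by_contra hcon
      push Not at hcon
      have := Finset.sum_nonpos hcon
      lia
    have hci : 0 < c i := by
      rcases Nat.eq_zero_or_pos (c i) with e | e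
      · simp [e] at hi
      · exact e
    have hpi : 0 < P.pairing (a i) k := (mul_pos_iff_of_pos_left (by exact_mod_cast hci)).mp hi
    by_cases hik : a i = k
    · refine ⟨1, fun _ => i, Nat.one_pos, fun p => ⟨k, ?_⟩, by simp [hik]⟩
      have e : Finset.univ.filter (fun q : Fin 1 => q.val ≤ p.val) = Finset.univ := by
        ext q; simp [show q = p from Subsingleton.elim _ _]
      simp [e, hik]
    · have hint : 0 < P.pairingIn ℤ (a i) k := by
        rw [Roots36.pairing_eq_cast] at hpi; simpa using hpi
      obtain ⟨k', hk'⟩ := Roots36.sub_root_mem (Roots36.pairingIn_pos_symm hint) (Ne.symm hik)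
      let c' := Function.update c i (c i - 1)
      have hsum : ∑ j, c' j + 1 = ∑ j, c j := by
        rw [← Finset.add_sum_erase _ c (Finset.mem_univ i), ← Finset.add_sum_erase _ c' (Finset.mem_univ i)]
        have : ∑ j ∈ Finset.univ.erase i, c' j = ∑ j ∈ Finset.univ.erase i, c j :=
          Finset.sum_congr rfl fun j hj => Function.update_of_ne (Finset.ne_of_mem_erase hj) _ _
        rw [this, show c' i = c i - 1 from Function.update_self _ _ _]
        lia
      have hk2 : P.root k' = ∑ j, c' j • P.root (a j) := by
        rw [hk', hk, ← Finset.add_sum_erase _ _ (Finset.mem_univ i),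
          ← Finset.add_sum_erase _ (fun j => c' j • P.root (a j)) (Finset.mem_univ i)]
        have : ∑ j ∈ Finset.univ.erase i, c' j • P.root (a j) =
            ∑ j ∈ Finset.univ.erase i, c j • P.root (a j) :=
          Finset.sum_congr rfl fun j hj => by
            rw [show c' j = c j from Function.update_of_ne (Finset.ne_of_mem_erase hj) _ _]
        rw [this, show c' i = c i - 1 from Function.update_self _ _ _]
        conv_lhs => rw [← Nat.succ_pred_eq_of_pos hci, succ_nsmul]
        rw [show (c i).pred = c i - 1 from rfl]
        abel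
      obtain ⟨l, b, hl, hp, hb⟩ := ih (∑ j, c' j) (by lia) c' k' rfl hk2
      refine ⟨l + 1, Fin.snoc b i, Nat.succ_pos l, fun p => ?_, ?_⟩
      · refine Fin.lastCases ?_ (fun p => ?_) p
        · refine ⟨k, ?_⟩
          have e : Finset.univ.filter (fun q : Fin (l + 1) => q.val ≤ (Fin.last l).val) = Finset.univ := by
            ext q; simpa using Nat.le_of_lt_succ q.isLt
          rw [e, Fin.sum_univ_castSucc]
          simp only [Fin.snoc_castSucc, Fin.snoc_last, ← hb, hk']
          simp
        · obtain ⟨j, hj⟩ := hp p
          refine ⟨j, ?_⟩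
          rw [hj]
          rw [Finset.sum_filter, Finset.sum_filter, Fin.sum_univ_castSucc]
          simp only [Fin.snoc_castSucc, Fin.snoc_last, Fin.val_castSucc, Fin.val_last]
          rw [if_neg (by have := p.isLt; lia), add_zero]
      · rw [Fin.sum_univ_castSucc]
        simp only [Fin.snoc_castSucc, Fin.snoc_last, ← hb, hk']
        simp

end Groth.Agent.S5451
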