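import Groth.Statements.S5452
import Groth.Agent.Roots36.Exists

set_option autoImplicit false
open RootPairing
open scoped Pointwise
open RootD

namespace Groth.Agent.S5452

/-- The Weyl group of a root datum acts faithfully on the set of roots. -/
theorem result {ι M N : Type*} [AddCommGroup M] [AddCommGroup N]
    (P : RootPairing ι ℤ M N) [Finite ι] :
    Function.Injective P.weylGroupToPerm := by
  have := Fintype.ofFinite ι
  obtain ⟨Δ, hΔ⟩ := Roots36.exists_isSimpleSys P
  refine (injective_iff_map_eq_one P.weylGroupToPerm).mpr fun g hg => ?_
  apply Subtype.ext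
  exact Roots36.eq_one_of_fix_index hΔ g.2 fun i => Equiv.congr_fun hg i

end Groth.Agent.S5452
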