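import Groth.Statements.S5457
import Groth.Agent.Roots36.Basic

set_option autoImplicit false
open RootD

namespace Groth.Agent.S5457

/-- Given a translation-invariant partial order (pulled back along an additive map to an ordered abelian
group) for which every root is > 0 or < 0, the roots > 0 form a system of positive roots. -/
theorem result {ι M N : Type*} [AddCommGroup M] [AddCommGroup N]
    (P : RootPairing ι ℤ M N) [Finite ι] {G : Type*} [AddCommGroup G] [PartialOrder G]
    [IsOrderedAddMonoid G] (φ : M →+ G) (hφ : ∀ i : ι, 0 < φ (P.root i) ∨ φ (P.root i) < 0) :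
    RootD.IsPosSys P {i : ι | 0 < φ (P.root i)} := by
  refine ⟨fun i hi => ?_, fun i => ?_, fun k n hn hk => ?_⟩
  · simp only [Set.mem_ofPred_eq, ← Roots36.neg.eq_def, Roots36.root_neg, map_neg] at hi ⊢
    intro h
    exact lt_irrefl _ (lt_trans hi (neg_pos.mp h))
  · simp only [Set.mem_ofPred_eq]
    rcases hφ i with h | h
    · exact Or.inl h
    · right; rw [← Roots36.neg.eq_def, Roots36.root_neg, map_neg]; exact neg_pos.mpr h
  · have hnn : 0 ≤ φ (n • P.root k) := by
      revert hk
      generalize n • P.root k = y
      intro hk
      induction hk using AddSubmonoid.closure_induction with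
      | mem y hy => obtain ⟨i, hi, rfl⟩ := hy; exact le_of_lt hi
      | zero => simp
      | add a b _ _ ha hb => rw [map_add]; exact add_nonneg ha hb
    rcases hφ k with h | h
    · exact h
    · exfalso
      rw [map_nsmul] at hnn
      exact lt_irrefl _ ((nsmul_neg h hn.ne').trans_le hnn)

end Groth.Agent.S5457
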