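import Groth.Statements.S5459
import Groth.Agent.Roots36.Combi
import Groth.Agent.Roots36.Exists

set_option autoImplicit false
open RootD

namespace Groth.Agent.S5459

/-- A closed set of roots containing each root or its opposite is, for a suitable system of simple roots
Δ and a subset Δ' ⊆ Δ, the set of roots lying in ℕΔ ∪ (-ℕΔ'). -/
theorem result {ι M N : Type*} [AddCommGroup M] [AddCommGroup N]
    (P : RootPairing ι ℤ M N) [Finite ι] (P' : Set ι)
    (hP2 : ∀ i : ι, i ∈ P' ∨ P.reflectionPerm i i ∈ P') (hcl : RootD.IsClosedSub P P') :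
    ∃ Δ Δ' : Set ι, RootD.IsSimpleSys P Δ ∧ Δ' ⊆ Δ ∧
      P' = RootD.posOf P Δ ∪ {k : ι | -P.root k ∈ RootD.natSpan P Δ'} := by
  have := Fintype.ofFinite ι
  classical
  obtain ⟨Δ, hΔ, hsub⟩ := Roots36.exists_simple_of_closed_cover P hcl hP2
  exact ⟨Δ, _, hΔ, fun i hi => hi.1, Roots36.closed_superset_eq hΔ hcl hsub⟩

end Groth.Agent.S5459
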