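import Groth.Statements.S5460
import Groth.Agent.Roots36.Functional

set_option autoImplicit false
open RootD

namespace Groth.Agent.S5460

/-- A set of roots R' is the trace on R of a vector subspace (every root with a positive multiple in the
span of R' lies in R') if and only if R' is the set of roots in the span of a subset Δ' of some
system of simple roots Δ. -/
theorem result {ι M N : Type*} [AddCommGroup M] [AddCommGroup N]
    (P : RootPairing ι ℤ M N) [Finite ι] (R' : Set ι) :
    (∀ k : ι, (∃ n : ℕ, 0 < n ∧ n • P.root k ∈ Submodule.span ℤ (P.root '' R')) → k ∈ R') ↔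
      ∃ Δ Δ' : Set ι, RootD.IsSimpleSys P Δ ∧ Δ' ⊆ Δ ∧ R' = RootD.inSpan P Δ' := by
  have := Fintype.ofFinite ι
  classical
  constructor
  · intro hsat
    obtain ⟨f, hf⟩ := Roots36.exists_functional_saturated R' hsat
    obtain ⟨g, hg⟩ := Roots36.exists_functional_ne_zero P
    let S : Set ι := {k | 0 < f (P.root k) ∨ (f (P.root k) = 0 ∧ 0 < g (P.root k))}
    have hcl : RootD.IsClosedSub P S := by
      intro i j k hi hj h
      change _ ∨ _
      rw [h, map_add, map_add]
      rcases hi with hi | ⟨hi, hi'⟩ <;> rcases hj with hj | ⟨hj, hj'⟩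
      · left; linarith
      · left; linarith
      · left; linarith
      · right; exact ⟨by linarith, by linarith⟩
    have hcov : ∀ i, i ∈ S ∨ Roots36.neg P i ∈ S := fun i => by
      simp only [S, Set.mem_ofPred_eq, Roots36.root_neg, map_neg]
      rcases lt_trichotomy (f (P.root i)) 0 with h | h | h
      · right; left; linarith
      · rcases lt_or_gt_of_ne (hg i) with h' | h'
        · right; right; exact ⟨by linarith, by linarith⟩
        · left; right; exact ⟨h, h'⟩
      · left; left; exact h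
    have hdis : ∀ i ∈ S, Roots36.neg P i ∉ S := fun i hi => by
      simp only [S, Set.mem_ofPred_eq, Roots36.root_neg, map_neg] at hi ⊢
      rintro (h | ⟨h, h'⟩) <;> rcases hi with hi | ⟨hi, hi'⟩ <;> linarith
    obtain ⟨Δ, hΔ, hpos⟩ := Roots36.exists_simple_of_closed P hcl hcov hdis
    refine ⟨Δ, {i | i ∈ Δ ∧ i ∈ R'}, hΔ, fun i hi => hi.1, ?_⟩
    have hval : ∀ k, f (P.root k) = ∑ j, (Roots36.coef hΔ k j : ℚ) * f (P.root j) := fun k => by
      conv_lhs => rw [Roots36.root_eq_comb hΔ k, Roots36.comb, map_sum]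
      exact Finset.sum_congr rfl fun j _ => by rw [map_zsmul, zsmul_eq_mul]
    have hnn : ∀ j ∈ Δ, 0 ≤ f (P.root j) := fun j hj => by
      have : j ∈ S := hpos ▸ Roots36.simple_mem_posOf hΔ hj
      rcases this with h | ⟨h, _⟩ <;> linarith
    have key : ∀ k ∈ RootD.posOf P Δ,
        k ∈ R' ↔ ∀ j ∉ ({i | i ∈ Δ ∧ i ∈ R'} : Set ι), Roots36.coef hΔ k j = 0 := by
      intro k hk
      have hterm : ∀ j ∈ Finset.univ, 0 ≤ (Roots36.coef hΔ k j : ℚ) * f (P.root j) := fun j _ => by
        by_cases hj : j ∈ Δ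
        · exact mul_nonneg (by exact_mod_cast (Roots36.posOf_iff hΔ).mp hk j) (hnn j hj)
        · simp [Roots36.coef_eq_zero hΔ hj]
      rw [← hf k, hval, Finset.sum_eq_zero_iff_of_nonneg hterm]
      refine ⟨fun h j hj => ?_, fun h j _ => ?_⟩
      · by_contra hne
        have := (mul_eq_zero.mp (h j (Finset.mem_univ j))).resolve_left (by exact_mod_cast hne)
        exact hj ⟨by by_contra hjΔ; exact hne (Roots36.coef_eq_zero hΔ hjΔ), (hf j).mp this⟩
      · by_cases hj : j ∈ ({i | i ∈ Δ ∧ i ∈ R'} : Set ι)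
        · rw [(hf j).mpr hj.2, mul_zero]
        · rw [h j hj, Int.cast_zero, zero_mul]
    ext k
    rw [RootD.inSpan, Set.mem_ofPred_eq,
      Roots36.inSpan_iff hΔ (Δ' := {i | i ∈ Δ ∧ i ∈ R'}) fun i hi => hi.1]
    rcases Roots36.posOf_or_neg hΔ k with hk | hk
    · exact key k hk
    · have h1 := key _ hk
      rw [← hf, Roots36.root_neg, map_neg, neg_eq_zero, hf] at h1
      simpa [Roots36.coef_neg] using h1
  · rintro ⟨Δ, Δ', hΔ, hsub, rfl⟩ k ⟨n, hn, hk⟩
    rw [RootD.inSpan, Set.mem_ofPred_eq, Roots36.inSpan_iff hΔ hsub,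
      ← Roots36.nsmul_inSpan_iff hΔ hsub hn]
    refine Submodule.span_le.mpr ?_ hk
    rintro _ ⟨j, hj, rfl⟩
    exact hj

end Groth.Agent.S5460
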