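import Groth.Statements.S5461
import Groth.Agent.Roots36.Functional

set_option autoImplicit false
open RootD

namespace Groth.Agent.S5461

/-- If R' is the trace of a vector subspace on the roots, every system of simple roots Δ' of the root
datum with roots R' is contained in a system of simple roots Δ of the whole datum, and R' is the set
of roots in the span of Δ'. -/
theorem result {ι M N : Type*} [AddCommGroup M] [AddCommGroup N]
    (P : RootPairing ι ℤ M N) [Finite ι] (R' : Set ι)
    (hsat : ∀ k : ι, (∃ n : ℕ, 0 < n ∧ n • P.root k ∈ Submodule.span ℤ (P.root '' R')) → k ∈ R')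
    (Δ' : Set ι) (hΔ'R : Δ' ⊆ R') (hli : LinearIndepOn ℤ P.root Δ')
    (hgen : ∀ k ∈ R', P.root k ∈ RootD.natSpan P Δ' ∨ -P.root k ∈ RootD.natSpan P Δ') :
    ∃ Δ : Set ι, RootD.IsSimpleSys P Δ ∧ Δ' ⊆ Δ ∧ R' = RootD.inSpan P Δ' := by
  have := Fintype.ofFinite ι
  classical
  obtain ⟨f, hf⟩ := Roots36.exists_functional_saturated R' hsat
  let S : Set ι := {k | 0 < f (P.root k) ∨ (f (P.root k) = 0 ∧ P.root k ∈ RootD.natSpan P Δ')}
  have hcl : RootD.IsClosedSub P S := by
    intro i j k hi hj h
    change _ ∨ _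
    rw [h, map_add]
    rcases hi with hi | ⟨hi, hi'⟩ <;> rcases hj with hj | ⟨hj, hj'⟩
    · left; linarith
    · left; linarith
    · left; linarith
    · right; exact ⟨by linarith, add_mem hi' hj'⟩
  have hcov : ∀ i, i ∈ S ∨ Roots36.neg P i ∈ S := fun i => by
    simp only [S, Set.mem_ofPred_eq, Roots36.root_neg, map_neg]
    rcases lt_trichotomy (f (P.root i)) 0 with h | h | h
    · right; left; linarith
    · rcases hgen i ((hf i).mp h) with h' | h'
      · left; right; exact ⟨h, h'⟩
      · right; right; exact ⟨by linarith, h'⟩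
    · left; left; exact h
  have hcomb : ∀ (c c' : ι → ℤ), (∀ j ∉ Δ', c j = 0) → (∀ j ∉ Δ', c' j = 0) →
      Roots36.comb P c = Roots36.comb P c' → c = c' := by
    intro c c' hc hc' h
    funext j
    by_cases hj : j ∈ Δ'
    · have hsum : ∑ x ∈ Finset.univ.filter (· ∈ Δ'), (c x - c' x) • P.root x = 0 := by
        have h0 : Roots36.comb P (c - c') = 0 := by rw [Roots36.comb_sub, h, sub_self]
        rw [← h0]
        exact Finset.sum_subset (Finset.subset_univ _) fun x _ hx => by
          simp only [Finset.mem_filter, Finset.mem_univ, true_and] at hx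
          simp [hc x hx, hc' x hx]
      have := linearIndepOn_iff'.mp hli (Finset.univ.filter (· ∈ Δ')) (fun x => c x - c' x)
        (fun x hx => by simpa using hx) hsum j (by simp [hj])
      lia
    · rw [hc j hj, hc' j hj]
  have hdis : ∀ i ∈ S, Roots36.neg P i ∉ S := by
    intro i hi hi'
    simp only [S, Set.mem_ofPred_eq, Roots36.root_neg, map_neg] at hi hi'
    rcases hi with hi | ⟨hi, h1⟩ <;> rcases hi' with hi' | ⟨hi', h2⟩
    · linarith
    · linarith
    · linarith
    · obtain ⟨c, hc, hc', he⟩ := Roots36.natSpan_iff.mp h1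
      obtain ⟨b, hb, hb', hbe⟩ := Roots36.natSpan_iff.mp h2
      have h0 : c + b = 0 := hcomb _ _ (fun j hj => by simp [hc' j hj, hb' j hj]) (fun _ _ => rfl)
        (by rw [Roots36.comb_add, ← he, ← hbe, add_neg_cancel, Roots36.comb_zero])
      refine P.ne_zero i ?_
      rw [he, show c = 0 from funext fun j => by
        have := congrFun h0 j; have := hc j; have := hb j
        simp only [Pi.add_apply, Pi.zero_apply] at *; lia, Roots36.comb_zero]
  obtain ⟨Δ, hΔ, hpos⟩ := Roots36.exists_simple_of_closed P hcl hcov hdis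
  have hsub : Δ' ⊆ Δ := by
    intro i hi
    have hiS : i ∈ S := Or.inr ⟨(hf i).mpr (hΔ'R hi), AddSubmonoid.subset_closure ⟨i, hi, rfl⟩⟩
    rw [Roots36.mem_simple_iff hΔ, hpos]
    refine ⟨hiS, ?_⟩
    rintro ⟨a, b, ha, hb, he⟩
    have h0 : f (P.root a) + f (P.root b) = 0 := by rw [← map_add, ← he]; exact (hf i).mpr (hΔ'R hi)
    rcases ha with ha | ⟨-, ha⟩
    · rcases hb with hb | ⟨hb, -⟩ <;> linarith
    rcases hb with hb | ⟨-, hb⟩
    · have : 0 ≤ f (P.root a) := by
        obtain ⟨c, hc, hc', hce⟩ := Roots36.natSpan_iff.mp ha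
        rw [hce, Roots36.comb, map_sum]
        refine Finset.sum_nonneg fun j _ => ?_
        by_cases hj : j ∈ Δ'
        · rw [map_zsmul, (hf j).mpr (hΔ'R hj), smul_zero]
        · simp [hc' j hj]
      linarith
    obtain ⟨c, hc, hc', hce⟩ := Roots36.natSpan_iff.mp ha
    obtain ⟨d, hd, hd', hde⟩ := Roots36.natSpan_iff.mp hb
    have hcd := hcomb (c + d) (Pi.single i 1) (fun j hj => by simp [hc' j hj, hd' j hj])
      (fun j hj => Pi.single_eq_of_ne (fun e => hj (by rw [e]; exact hi)) 1)
      (by rw [Roots36.comb_add, ← hce, ← hde, ← he, Roots36.comb_single, one_smul])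
    have hzero : ∀ j, j ≠ i → c j = 0 ∧ d j = 0 := fun j hj => by
      have := congrFun hcd j; have := hc j; have := hd j
      rw [Pi.single_eq_of_ne hj] at *
      simp only [Pi.add_apply] at *; lia
    have h1 := congrFun hcd i
    rw [Pi.single_eq_same, Pi.add_apply] at h1
    have := hc i
    have := hd i
    rcases (show c i = 0 ∨ d i = 0 by lia) with e | e
    · refine P.ne_zero a ?_
      rw [hce, show c = 0 from funext fun j => ?_, Roots36.comb_zero]
      rcases eq_or_ne j i with rfl | hj
      · exact e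
      · exact (hzero j hj).1
    · refine P.ne_zero b ?_
      rw [hde, show d = 0 from funext fun j => ?_, Roots36.comb_zero]
      rcases eq_or_ne j i with rfl | hj
      · exact e
      · exact (hzero j hj).2
  refine ⟨Δ, hΔ, hsub, Set.Subset.antisymm (fun k hk => ?_) fun k hk => ?_⟩
  · change P.root k ∈ Submodule.span ℤ (P.root '' Δ')
    have hle : (RootD.natSpan P Δ' : Set M) ⊆ Submodule.span ℤ (P.root '' Δ') :=
      AddSubmonoid.closure_le (S := (Submodule.span ℤ (P.root '' Δ')).toAddSubmonoid).mpr
        Submodule.subset_span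
    rcases hgen k hk with h | h
    · exact hle h
    · exact (Submodule.neg_mem_iff _).mp (hle h)
  · exact hsat k ⟨1, one_pos, by
      rw [one_nsmul]; exact Submodule.span_mono (Set.image_mono hΔ'R) hk⟩

end Groth.Agent.S5461
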