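import Groth.Statements.S5462
import Groth.Agent.Roots36.Dominant
import Groth.Agent.Roots36.Exists

set_option autoImplicit false
open RootPairing
open scoped Pointwise
open RootD

namespace Groth.Agent.S5462

/-- For Δ' contained in a system of simple roots Δ, the subgroup of the Weyl group generated by the
reflections in Δ' preserves the set of positive roots not lying in the span of Δ'. -/
theorem result {ι M N : Type*} [AddCommGroup M] [AddCommGroup N]
    (P : RootPairing ι ℤ M N) [Finite ι] (Δ Δ' : Set ι) (hΔ : RootD.IsSimpleSys P Δ) (hsub : Δ' ⊆ Δ)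
    (g : P.Aut) (hg : g ∈ Subgroup.closure ((fun i : ι => Equiv.reflection P i) '' Δ'))
    (k : ι) (hk : k ∈ RootD.posOf P Δ) (hk' : k ∉ RootD.inSpan P Δ') :
    g • k ∈ RootD.posOf P Δ ∧ g • k ∉ RootD.inSpan P Δ' := by
  have := Fintype.ofFinite ι
  classical
  have hiff : ∀ l, l ∈ RootD.inSpan P Δ' ↔ ∀ j ∉ Δ', Roots36.coef hΔ l j = 0 :=
    fun l => Roots36.inSpan_iff hΔ hsub
  rw [hiff] at hk'
  push Not at hk'
  obtain ⟨j, hj, hne⟩ := hk'
  have he := Roots36.coef_smul_of_mem_subW hΔ hsub hg k j hj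
  refine ⟨Roots36.posOf_of_coef_pos hΔ (j := j) ?_, fun h => hne (he ▸ (hiff _).mp h j hj)⟩
  rw [he]
  exact lt_of_le_of_ne ((Roots36.posOf_iff hΔ).mp hk j) hne.symm

end Groth.Agent.S5462
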