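import Groth.Statements.S5463
import Groth.Agent.Roots36.Dominant
import Groth.Agent.Roots36.Exists

set_option autoImplicit false
open RootPairing
open scoped Pointwise
open RootD

namespace Groth.Agent.S5463

/-- An element w of the Weyl group belongs to the subgroup generated by the reflections in Δ' ⊆ Δ (Δ a
system of simple roots) if and only if w(α) - α lies in the rational span of Δ' for every root α. -/
theorem result {ι M N : Type*} [AddCommGroup M] [AddCommGroup N]
    (P : RootPairing ι ℤ M N) [Finite ι] (Δ Δ' : Set ι) (hΔ : RootD.IsSimpleSys P Δ)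
    (hsub : Δ' ⊆ Δ) (g : P.Aut) (hg : g ∈ P.weylGroup) :
    g ∈ Subgroup.closure ((fun i : ι => Equiv.reflection P i) '' Δ') ↔
      ∀ k : ι, ∃ n : ℕ, 0 < n ∧ n • (P.root (g • k) - P.root k) ∈ Submodule.span ℤ (P.root '' Δ') := by
  have := Fintype.ofFinite ι
  classical
  have hc : ∀ k, P.root (g • k) - P.root k =
      Roots36.comb P (Roots36.coef hΔ (g • k) - Roots36.coef hΔ k) := fun k => by
    rw [Roots36.comb_sub, ← Roots36.root_eq_comb, ← Roots36.root_eq_comb]
  constructor
  · intro h k
    refine ⟨1, one_pos, ?_⟩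
    rw [one_nsmul, hc]
    exact Roots36.comb_mem_span fun j hj => by
      rw [Pi.sub_apply, Roots36.coef_smul_of_mem_subW hΔ hsub h k j hj, sub_self]
  · intro h
    refine Roots36.mem_subW_of_moves hΔ hg fun k j hj => ?_
    obtain ⟨n, hn, hmem⟩ := h k
    obtain ⟨c, hc', he⟩ := Roots36.exists_comb_of_mem_span hmem
    rw [hc, ← natCast_zsmul, ← Roots36.comb_smul] at he
    have := congrFun (Roots36.comb_inj hΔ (fun x hx => by simp [Roots36.coef_eq_zero hΔ hx])
      (fun x hx => hc' x fun h => hx (hsub h)) he) j
    rw [hc' j hj] at this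
    simp [hn.ne'] at this
    lia

end Groth.Agent.S5463
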