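import Groth.Statements.S5464
import Groth.Agent.Roots36.Functional

set_option autoImplicit false
open RootD

namespace Groth.Agent.S5464

/-- Given an indivisible root α and a root γ not proportional to it, there is a system of simple roots
containing α and a simple root β of it with γ = aα + bβ, a, b ∈ ℕ. -/
theorem result {ι M N : Type*} [AddCommGroup M] [AddCommGroup N]
    (P : RootPairing ι ℤ M N) [Finite ι] (i k : ι) (hα : RootD.IsIndiv P i)
    (hli : LinearIndependent ℤ ![P.root i, P.root k]) :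
    ∃ Δ : Set ι, RootD.IsSimpleSys P Δ ∧ i ∈ Δ ∧
      ∃ j ∈ Δ, ∃ a b : ℕ, P.root k = a • P.root i + b • P.root j := by
  have := Fintype.ofFinite ι
  classical
  obtain ⟨f, hf⟩ := Roots36.exists_functional_span (P := P) {i, k}
  obtain ⟨h, hh, hhk⟩ : ∃ h : M →+ ℚ, (∀ l, h (P.root l) = 0 ↔
      ∃ n : ℕ, 0 < n ∧ n • P.root l ∈ Submodule.span ℤ (P.root '' {i})) ∧ 0 < h (P.root k) := by
    obtain ⟨h, hh⟩ := Roots36.exists_functional_span (P := P) {i}
    have hne : h (P.root k) ≠ 0 := fun e => by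
      obtain ⟨n, hn, hmem⟩ := (hh k).mp e
      rw [Set.image_singleton, Submodule.mem_span_singleton] at hmem
      obtain ⟨a, ha⟩ := hmem
      have := (LinearIndependent.pair_iff.mp hli a (-(n : ℤ)) (by rw [ha]; simp)).2
      lia
    rcases lt_or_gt_of_ne hne with hlt | hgt
    · exact ⟨-h, fun l => by simp [hh l], by simpa using hlt⟩
    · exact ⟨h, hh, hgt⟩
  obtain ⟨g, hg, hgi⟩ : ∃ g : M →+ ℚ, (∀ l, g (P.root l) ≠ 0) ∧ 0 < g (P.root i) := by
    obtain ⟨g, hg⟩ := Roots36.exists_functional_span (P := P) (∅ : Set ι)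
    have hne : ∀ l, g (P.root l) ≠ 0 := fun l e => by
      obtain ⟨n, hn, hmem⟩ := (hg l).mp e
      rw [Set.image_empty, Submodule.span_empty, Submodule.mem_bot] at hmem
      exact P.ne_zero l (Roots36.nsmul_cancel P hn.ne' (hmem.trans (smul_zero _).symm))
    rcases lt_or_gt_of_ne (hne i) with hlt | hgt
    · exact ⟨-g, fun l => by simp [hne l], by simpa using hlt⟩
    · exact ⟨g, hne, hgt⟩
  have hfi : f (P.root i) = 0 :=
    (hf i).mpr ⟨1, one_pos, by rw [one_nsmul]; exact Submodule.subset_span ⟨i, by simp, rfl⟩⟩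
  have hfk : f (P.root k) = 0 :=
    (hf k).mpr ⟨1, one_pos, by rw [one_nsmul]; exact Submodule.subset_span ⟨k, by simp, rfl⟩⟩
  have hhi : h (P.root i) = 0 :=
    (hh i).mpr ⟨1, one_pos, by rw [one_nsmul]; exact Submodule.subset_span ⟨i, by simp, rfl⟩⟩
  let S : Set ι := {l | 0 < f (P.root l) ∨ (f (P.root l) = 0 ∧
    (0 < h (P.root l) ∨ (h (P.root l) = 0 ∧ 0 < g (P.root l))))}
  have memS : ∀ l, l ∈ S ↔ 0 < f (P.root l) ∨ (f (P.root l) = 0 ∧
    (0 < h (P.root l) ∨ (h (P.root l) = 0 ∧ 0 < g (P.root l)))) := fun _ => Iff.rfl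
  have hcl : RootD.IsClosedSub P S := by
    intro a b c ha hb hc
    rw [memS] at ha hb ⊢
    rw [hc, map_add, map_add, map_add]
    grind
  have hcov : ∀ l, l ∈ S ∨ Roots36.neg P l ∈ S := fun l => by
    have := hg l
    simp only [memS, Roots36.root_neg, map_neg, neg_eq_zero, neg_pos]
    grind
  have hdis : ∀ l ∈ S, Roots36.neg P l ∉ S := fun l hl hl' => by
    simp only [memS, Roots36.root_neg, map_neg, neg_eq_zero, neg_pos] at hl hl'
    grind
  obtain ⟨Δ, hΔ, hpos⟩ := Roots36.exists_simple_of_closed P hcl hcov hdis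
  have hiS : i ∈ RootD.posOf P Δ := by rw [hpos, memS]; exact Or.inr ⟨hfi, Or.inr ⟨hhi, hgi⟩⟩
  have hkS : k ∈ RootD.posOf P Δ := by rw [hpos, memS]; exact Or.inr ⟨hfk, Or.inl hhk⟩
  have hiΔ : i ∈ Δ := by
    refine (Roots36.mem_simple_iff hΔ).mpr ⟨hiS, ?_⟩
    rintro ⟨a, b, ha, hb, he⟩
    rw [hpos, memS] at ha hb
    have e1 := congrArg f he
    have e2 := congrArg h he
    rw [map_add, hfi] at e1
    rw [map_add, hhi] at e2
    have hfa : f (P.root a) = 0 ∧ f (P.root b) = 0 := by grind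
    have hha : h (P.root a) = 0 ∧ h (P.root b) = 0 := by grind
    have hga : 0 < g (P.root a) ∧ 0 < g (P.root b) := by grind
    have key : ∀ c, h (P.root c) = 0 → 0 < g (P.root c) → ∃ z : ℤ, 1 ≤ z ∧ P.root c = z • P.root i := by
      intro c hc hgc
      obtain ⟨n, hn, hmem⟩ := (hh c).mp hc
      rw [Set.image_singleton, Submodule.mem_span_singleton] at hmem
      obtain ⟨z, hz⟩ := hmem
      have hdep : ¬ LinearIndependent ℤ ![P.root i, P.root c] := fun hli' => by
        have := (LinearIndependent.pair_iff.mp hli' z (-(n : ℤ)) (by rw [hz]; simp)).2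
        lia
      have hgneg : ∀ z : ℤ, P.root c = z • P.root i → 1 ≤ z := fun z hz => by
        rw [hz, map_zsmul, zsmul_eq_mul] at hgc
        by_contra hlt
        push Not at hlt
        have : (z : ℚ) ≤ 0 := by exact_mod_cast (show z ≤ 0 by lia)
        nlinarith
      have half : ∀ z : ℤ, z = 2 ∨ z = -2 → P.root i = z • P.root c → False := by
        rintro z (rfl | rfl) hz
        · exact hα c hz.symm
        · exact hα (Roots36.neg P c) (by rw [Roots36.root_neg, hz, smul_neg, neg_smul])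
      rcases Roots36.proportional_cases hdep with H | H | H | H | H | H
      · exact ⟨1, le_rfl, by rw [H, one_smul]⟩
      · exact ⟨-1, hgneg _ (by rw [H]; simp), by rw [H]; simp⟩
      · exact ⟨2, by norm_num, H⟩
      · exact ⟨-2, hgneg _ H, H⟩
      · exact (half 2 (Or.inl rfl) H).elim
      · exact (half (-2) (Or.inr rfl) H).elim
    obtain ⟨za, hza, hea⟩ := key a hha.1 hga.1
    obtain ⟨zb, hzb, heb⟩ := key b hha.2 hga.2
    have := Roots36.zsmul_root_inj P (a := za + zb) (b := 1) (i := i)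
      (by rw [add_smul, ← hea, ← heb, one_smul, he])
    lia
  have hc0 := (Roots36.posOf_iff hΔ).mp hkS
  obtain ⟨j, hji, hj⟩ : ∃ j, j ≠ i ∧ Roots36.coef hΔ k j ≠ 0 := by
    by_contra hn
    push Not at hn
    rcases Roots36.eq_or_eq_two_of_coef_supported hΔ hiΔ hkS hn with rfl | h2
    · have := (LinearIndependent.pair_iff.mp hli 1 (-1) (by simp)).2; lia
    · have := (LinearIndependent.pair_iff.mp hli 2 (-1) (by rw [h2]; simp)).2; lia
  have hjΔ : j ∈ Δ := by by_contra hn; exact hj (Roots36.coef_eq_zero hΔ hn)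
  have hplane : ∀ l, Roots36.coef hΔ k l ≠ 0 → f (P.root l) = 0 := by
    intro l hl
    have hs : ∑ x, (Roots36.coef hΔ k x : ℚ) * f (P.root x) = 0 := by
      rw [← hfk]
      conv_rhs => rw [Roots36.root_eq_comb hΔ k, Roots36.comb, map_sum]
      exact Finset.sum_congr rfl fun x _ => by rw [map_zsmul, zsmul_eq_mul]
    have hnn : ∀ x ∈ Finset.univ, 0 ≤ (Roots36.coef hΔ k x : ℚ) * f (P.root x) := fun x _ => by
      by_cases hx : x ∈ Δ
      · refine mul_nonneg (by exact_mod_cast hc0 x) ?_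
        have := Roots36.simple_mem_posOf hΔ hx
        rw [hpos, memS] at this
        grind
      · simp [Roots36.coef_eq_zero hΔ hx]
    have := (Finset.sum_eq_zero_iff_of_nonneg hnn).mp hs l (Finset.mem_univ l)
    exact (mul_eq_zero.mp this).resolve_left (by exact_mod_cast hl)
  have hsupp : ∀ l, l ≠ i → l ≠ j → Roots36.coef hΔ k l = 0 := by
    intro l hli' hlj
    by_contra hl
    have hlΔ : l ∈ Δ := by by_contra hn; exact hl (Roots36.coef_eq_zero hΔ hn)
    obtain ⟨n, hn, hm⟩ := (hf j).mp (hplane j hj)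
    obtain ⟨n', hn', hm'⟩ := (hf l).mp (hplane l hl)
    rw [Set.image_pair, Submodule.mem_span_pair] at hm hm'
    obtain ⟨a, b, hab⟩ := hm
    obtain ⟨a', b', hab'⟩ := hm'
    have e : Roots36.comb P (Pi.single j (b' * n) - Pi.single l (b * n')) =
        Roots36.comb P (Pi.single i (b' * a - b * a')) := by
      simp only [Roots36.comb_sub, Roots36.comb_single, mul_smul, natCast_zsmul, ← hab, ← hab']
      module
    have hc1 := Roots36.comb_inj hΔ (fun x hx => by
      simp [show x ≠ j from fun e => hx (e ▸ hjΔ), show x ≠ l from fun e => hx (e ▸ hlΔ)])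
      (fun x hx => by simp [show x ≠ i from fun e => hx (e ▸ hiΔ)]) e
    have h1 := congrFun hc1 j
    simp [hji, Ne.symm hlj] at h1
    have hb' : b' = 0 := h1.resolve_right hn.ne'
    have e' : Roots36.comb P (Pi.single l (n' : ℤ)) = Roots36.comb P (Pi.single i a') := by
      simp only [Roots36.comb_single, natCast_zsmul, ← hab', hb', zero_smul, add_zero]
    have h2 := congrFun (Roots36.comb_inj hΔ (fun x hx => by
      simp [show x ≠ l from fun e => hx (e ▸ hlΔ)])
      (fun x hx => by simp [show x ≠ i from fun e => hx (e ▸ hiΔ)]) e') l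
    simp [hli'] at h2
    lia
  have hce : Roots36.coef hΔ k =
      Pi.single i (Roots36.coef hΔ k i) + Pi.single j (Roots36.coef hΔ k j) := by
    funext l
    rcases eq_or_ne l i with rfl | h1
    · simp [hji.symm]
    rcases eq_or_ne l j with rfl | h2
    · simp [h1]
    simp [h1, h2, hsupp l h1 h2]
  refine ⟨Δ, hΔ, hiΔ, j, hjΔ, (Roots36.coef hΔ k i).toNat, (Roots36.coef hΔ k j).toNat, ?_⟩
  conv_lhs => rw [Roots36.root_eq_comb hΔ k, hce, Roots36.comb_add, Roots36.comb_single, Roots36.comb_single]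
  rw [← natCast_zsmul, ← natCast_zsmul, Int.toNat_of_nonneg (hc0 i), Int.toNat_of_nonneg (hc0 j)]

end Groth.Agent.S5464
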