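import Groth.Statements.S5465
import Groth.Agent.Roots36.Combi
import Groth.Agent.Roots36.Exists

set_option autoImplicit false
open RootD

namespace Groth.Agent.S5465

/-- A map from the roots to an abelian group that is odd and additive on pairs of roots whose sum is a
root extends uniquely to a homomorphism on the lattice generated by the roots. -/
theorem result {ι M N : Type*} [AddCommGroup M] [AddCommGroup N]
    (P : RootPairing ι ℤ M N) [Finite ι] {G : Type*} [AddCommGroup G] (f : ι → G)
    (hneg : ∀ i : ι, f (P.reflectionPerm i i) = -f i)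
    (hadd : ∀ i j k : ι, P.root k = P.root i + P.root j → f k = f i + f j) :
    ∃! φ : Submodule.span ℤ (Set.range P.root) →+ G,
      ∀ i : ι, φ ⟨P.root i, Submodule.subset_span (Set.mem_range_self i)⟩ = f i := by
  have := Fintype.ofFinite ι
  classical
  obtain ⟨Δ, hΔ⟩ := Roots36.exists_isSimpleSys P
  have hex : ∀ x : Submodule.span ℤ (Set.range P.root),
      ∃ c : ι → ℤ, (∀ j ∉ Δ, c j = 0) ∧ (x : M) = Roots36.comb P c := by
    intro x
    refine Roots36.exists_comb_of_mem_span ?_
    refine (Submodule.span_le.mpr ?_) x.2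
    rintro _ ⟨l, rfl⟩
    rw [Roots36.root_eq_comb hΔ l]
    exact Roots36.comb_mem_span fun j hj => Roots36.coef_eq_zero hΔ hj
  choose c hc0 hce using hex
  let φ : Submodule.span ℤ (Set.range P.root) →+ G := AddMonoidHom.mk' (fun x => ∑ j, c x j • f j)
    (fun x y => by
      have : c (x + y) = c x + c y := Roots36.comb_inj hΔ (hc0 _)
        (fun j hj => by simp [hc0 x j hj, hc0 y j hj])
        (by rw [Roots36.comb_add, ← hce, ← hce, ← hce]; rfl)
      simp [this, add_smul, Finset.sum_add_distrib])
  have hpos : ∀ l ∈ RootD.posOf P Δ, f l = ∑ j, Roots36.coef hΔ l j • f j := by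
    intro l hl
    refine Roots36.posOf_induction hΔ (p := fun l => f l = ∑ j, Roots36.coef hΔ l j • f j) ?_ ?_ hl
    · intro i hi
      simp [Roots36.coef_simple hΔ hi, Pi.single_apply, ite_smul]
    · intro a _ i hi b _ he ih
      rw [hadd a i b he, ih, Roots36.coef_add hΔ he, Roots36.coef_simple hΔ hi]
      simp [add_smul, Finset.sum_add_distrib, Pi.single_apply, ite_smul]
  have hall : ∀ l, f l = ∑ j, Roots36.coef hΔ l j • f j := fun l => by
    rcases Roots36.posOf_or_neg hΔ l with h | h
    · exact hpos l h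
    · have := hpos _ h
      rw [hneg, Roots36.coef_neg] at this
      simpa [neg_smul] using this
  have hφ : ∀ l, φ ⟨P.root l, Submodule.subset_span (Set.mem_range_self l)⟩ = f l := fun l => by
    rw [hall l]
    change ∑ j, c _ j • f j = _
    rw [Roots36.coef_eq hΔ (hc0 _) (hce ⟨P.root l, Submodule.subset_span (Set.mem_range_self l)⟩)]
  refine ⟨φ, hφ, fun ψ hψ => ?_⟩
  ext ⟨x, hx⟩
  induction hx using Submodule.span_induction with
  | mem y hy => obtain ⟨l, rfl⟩ := hy; rw [hψ, hφ]
  | zero => exact (map_zero ψ).trans (map_zero φ).symm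
  | add a b ha hb h1 h2 =>
    exact (map_add ψ ⟨a, ha⟩ ⟨b, hb⟩).trans ((congrArg₂ (· + ·) h1 h2).trans (map_add φ ⟨a, ha⟩ ⟨b, hb⟩).symm)
  | smul r a ha h1 =>
    exact (map_zsmul ψ r ⟨a, ha⟩).trans ((congrArg (r • ·) h1).trans (map_zsmul φ r ⟨a, ha⟩).symm)

end Groth.Agent.S5465
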