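import Groth.Statements.S5467
import Groth.Agent.Roots36.Combi
import Groth.Agent.Roots36.Exists

set_option autoImplicit false
open RootD

namespace Groth.Agent.S5467

/-- For an indivisible positive non-simple root α there is a simple root β with (β^v, α) > 0 such that
s_β(α) is positive; its order relative to Δ is then smaller than that of α by (β^v, α). -/
theorem result {ι M N : Type*} [AddCommGroup M] [AddCommGroup N]
    (P : RootPairing ι ℤ M N) [Finite ι] (Δ : Set ι) (hΔ : RootD.IsSimpleSys P Δ)
    (k : ι) (hk : k ∈ RootD.posOf P Δ) (hkΔ : k ∉ Δ) (hind : RootD.IsIndiv P k) :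
    ∃ i ∈ Δ, 0 < P.pairing k i ∧ P.reflectionPerm i k ∈ RootD.posOf P Δ := by
  have := Fintype.ofFinite ι
  classical
  obtain ⟨i, hi, -, hki⟩ := Roots36.exists_simple_pairing_pos hΔ hk
  refine ⟨i, hi, by rw [Roots36.pairing_eq_cast]; simpa using hki, ?_⟩
  exact Roots36.reflect_posOf hΔ hi hk
    (Roots36.exists_coef_ne_of_not_prop hΔ hi hk (fun e => hkΔ (e ▸ hi)) hind)

end Groth.Agent.S5467
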