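import Groth.Statements.S5468
import Groth.Agent.Roots36.Combi
import Groth.Agent.Roots36.Exists

set_option autoImplicit false
open RootD

namespace Groth.Agent.S5468

/-- Two roots whose reflections are distinct and commute are orthogonal. -/
theorem result {ι M N : Type*} [AddCommGroup M] [AddCommGroup N]
    (P : RootPairing ι ℤ M N) [Finite ι] (i j : ι)
    (hne : P.reflection i ≠ P.reflection j) (hc : Commute (P.reflection i) (P.reflection j)) :
    P.IsOrthogonal i j := by
  have := Fintype.ofFinite ι
  classical
  rw [Roots36.isOrthogonal_iff]
  by_contra h0
  have happ : P.reflection i (P.reflection j (P.root i)) = P.reflection j (P.reflection i (P.root i)) :=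
    LinearEquiv.congr_fun hc.eq (P.root i)
  rw [RootPairing.reflection_apply_self, P.reflection_apply_root, map_sub, map_smul,
    RootPairing.reflection_apply_self, P.reflection_apply_root, map_neg, P.reflection_apply_root] at happ
  simp only [Roots36.pairing_eq_cast, Int.cast_id, smul_sub, smul_smul] at happ
  have hz : (P.pairingIn ℤ i j * P.pairingIn ℤ j i) • P.root i +
      (-(2 * P.pairingIn ℤ i j)) • P.root j = 0 := by
    linear_combination (norm := module) happ
  have hdep : ¬ LinearIndependent ℤ ![P.root i, P.root j] := fun hli => by
    have := (LinearIndependent.pair_iff.mp hli _ _ hz).2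
    lia
  have conv : ∀ {a b : ι}, RootPairing.Equiv.reflection P a = RootPairing.Equiv.reflection P b →
      P.reflection a = P.reflection b := fun {a b} e =>
    LinearEquiv.ext fun m => by
      rw [← RootPairing.Equiv.reflection_smul, e, RootPairing.Equiv.reflection_smul]
  rcases Roots36.proportional_cases hdep with H | H | H | H | H | H
  · exact hne (by rw [P.root.injective H])
  · exact hne (conv (Roots36.reflection_eq_of_smul (P := P) (t := (-1 : ℤ)) (by rw [H]; simp))).symm
  · exact hne (conv (Roots36.reflection_eq_of_smul (P := P) H)).symm
  · exact hne (conv (Roots36.reflection_eq_of_smul (P := P) H)).symm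
  · exact hne (conv (Roots36.reflection_eq_of_smul (P := P) H))
  · exact hne (conv (Roots36.reflection_eq_of_smul (P := P) H))

end Groth.Agent.S5468
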