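import Groth.Statements.S5469
import Groth.Agent.Roots36.Combi
import Groth.Agent.Roots36.Exists

set_option autoImplicit false
open RootPairing
open scoped Pointwise
open RootD

namespace Groth.Agent.S5469

/-- Two non-orthogonal roots of equal length (for the canonical form ℓ(x) = Σ_{u ∈ R^v} (u, x)²) are
conjugate under the Weyl group. -/
theorem result {ι M N : Type*} [AddCommGroup M] [AddCommGroup N]
    (P : RootPairing ι ℤ M N) [Finite ι] [Fintype ι] (i j : ι) (hno : ¬ P.IsOrthogonal i j)
    (hl : P.RootForm (P.root i) (P.root i) = P.RootForm (P.root j) (P.root j)) :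
    ∃ g : P.Aut, g ∈ P.weylGroup ∧ g • i = j := by
  classical
  have hlen : Roots36.len P i = Roots36.len P j := by
    have h1 := Roots36.cast_len (P := P) i
    have h2 := Roots36.cast_len (P := P) j
    simp only [Int.cast_id] at h1 h2
    rw [h1, h2, hl]
  have := Roots36.isTorsionFree_M P
  have hne : P.pairingIn ℤ i j ≠ 0 := fun h => hno (Roots36.isOrthogonal_iff.mpr h)
  have heq : P.pairingIn ℤ i j = P.pairingIn ℤ j i := by
    have := Roots36.len_mul_pairingIn (P := P) i j
    rw [hlen] at this
    exact mul_left_cancel₀ (Roots36.len_pos' (P := P) j).ne' this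
  have h2 := P.pairingIn_pairingIn_mem_set_of_isCrystallographic i j
  simp only [Set.mem_insert_iff, Set.mem_singleton_iff, Prod.mk.injEq] at h2
  have hsmul : ∀ z : ℤ, P.pairingIn ℤ i j = z → P.root (RootPairing.Equiv.reflection P j • i) =
      P.root i - z • P.root j := fun z hz => by
    rw [Roots36.reflection_smul_index, Roots36.root_reflectionPerm_int, hz]
  rcases (show P.pairingIn ℤ i j = 1 ∨ P.pairingIn ℤ i j = -1 ∨ P.pairingIn ℤ i j = 2 ∨
      P.pairingIn ℤ i j = -2 by lia) with e | e | e | e
  · refine ⟨RootPairing.Equiv.reflection P j * RootPairing.Equiv.reflection P i *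
      RootPairing.Equiv.reflection P j, mul_mem (mul_mem (P.reflection_mem_weylGroup j)
        (P.reflection_mem_weylGroup i)) (P.reflection_mem_weylGroup j), P.root.injective ?_⟩
    rw [mul_smul, mul_smul, Roots36.root_smul, Roots36.root_smul, hsmul 1 e]
    simp [RootPairing.reflection_apply, Roots36.pairing_eq_cast, e, heq ▸ e, two_smul]
  · refine ⟨RootPairing.Equiv.reflection P i * RootPairing.Equiv.reflection P j,
      mul_mem (P.reflection_mem_weylGroup i) (P.reflection_mem_weylGroup j), P.root.injective ?_⟩
    rw [mul_smul, Roots36.root_smul, hsmul (-1) e]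
    simp [RootPairing.reflection_apply, Roots36.pairing_eq_cast, heq ▸ e, two_smul]
  · exact ⟨1, one_mem _, by rw [one_smul]; exact (P.pairingIn_two_two_iff ℤ i j).mp ⟨e, heq ▸ e⟩⟩
  · refine ⟨RootPairing.Equiv.reflection P i, P.reflection_mem_weylGroup i, P.root.injective ?_⟩
    rw [Roots36.reflection_self_smul, Roots36.root_neg,
      (P.pairingIn_neg_two_neg_two_iff ℤ i j).mp ⟨e, heq ▸ e⟩, neg_neg]

end Groth.Agent.S5469
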