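import Groth.Statements.S5470
import Groth.Agent.Roots36.Combi
import Groth.Agent.Roots36.Exists
import Groth.Agent.S5469

set_option autoImplicit false
open RootPairing
open scoped Pointwise
open RootD

namespace Groth.Agent.S5470

/-- In an irreducible root datum the Weyl group acts transitively on the roots of any given length. -/
theorem result {ι M N : Type*} [AddCommGroup M] [AddCommGroup N]
    (P : RootPairing ι ℤ M N) [Finite ι] [Fintype ι] [Nonempty ι]
    (hirr : ∀ R' : Set ι, RootD.IsClosedSub P R' → RootD.IsSymmSub P R' → RootD.IsClosedSub P R'ᶜ →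
      RootD.IsSymmSub P R'ᶜ → R' = ∅ ∨ R' = Set.univ)
    (i j : ι) (hl : P.RootForm (P.root i) (P.root i) = P.RootForm (P.root j) (P.root j)) :
    ∃ g : P.Aut, g ∈ P.weylGroup ∧ g • i = j := by
  classical
  obtain ⟨g, hg, hne⟩ := Roots36.exists_smul_pairing_ne (Roots36.linked_of_irreducible (P := P) hirr i j)
  have hlen : P.RootForm (P.root (g • i)) (P.root (g • i)) = P.RootForm (P.root j) (P.root j) := by
    rw [← hl, ← Roots36.cast_len, ← Roots36.cast_len, Roots36.len_smul_index]
  obtain ⟨g', hg', h'⟩ := S5469.result P (g • i) j (fun h => hne (Roots36.isOrthogonal_iff.mp h)) hlen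
  exact ⟨g' * g, mul_mem hg' hg, by rw [mul_smul, h']⟩

end Groth.Agent.S5470
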