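import Groth.Statements.S5471
import Groth.Agent.Roots36.Combi
import Groth.Agent.Roots36.Exists

set_option autoImplicit false
open RootPairing
open scoped Pointwise
open RootD

namespace Groth.Agent.S5471

/-- In a reduced irreducible root datum the ratios of squared root lengths to the minimal one form one
of the sets {1}, {1, 2}, {1, 3}. -/
theorem result {ι M N : Type*} [AddCommGroup M] [AddCommGroup N]
    (P : RootPairing ι ℤ M N) [Finite ι] [Fintype ι] [Nonempty ι] [P.IsReduced]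
    (hirr : ∀ R' : Set ι, RootD.IsClosedSub P R' → RootD.IsSymmSub P R' → RootD.IsClosedSub P R'ᶜ →
      RootD.IsSymmSub P R'ᶜ → R' = ∅ ∨ R' = Set.univ)
    (i₀ : ι) (hmin : ∀ i : ι, P.RootForm (P.root i₀) (P.root i₀) ≤ P.RootForm (P.root i) (P.root i)) :
    (∀ i : ι, P.RootForm (P.root i) (P.root i) = P.RootForm (P.root i₀) (P.root i₀) ∨
        P.RootForm (P.root i) (P.root i) = 2 * P.RootForm (P.root i₀) (P.root i₀) ∨
        P.RootForm (P.root i) (P.root i) = 3 * P.RootForm (P.root i₀) (P.root i₀)) ∧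
      ¬ ((∃ i : ι, P.RootForm (P.root i) (P.root i) = 2 * P.RootForm (P.root i₀) (P.root i₀)) ∧
          ∃ j : ι, P.RootForm (P.root j) (P.root j) = 3 * P.RootForm (P.root i₀) (P.root i₀)) := by
  classical
  have hlen : ∀ x, P.RootForm (P.root x) (P.root x) = Roots36.len P x := fun x => by
    rw [← Roots36.cast_len]; rfl
  simp only [hlen] at hmin ⊢
  have := Roots36.isTorsionFree_M P
  have key : ∀ x y, ∃ a b : ℤ, Roots36.len P x * a = Roots36.len P y * b ∧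
      ((a = 1 ∧ b = 1) ∨ (a = 2 ∧ b = 1) ∨ (a = 1 ∧ b = 2) ∨ (a = 3 ∧ b = 1) ∨ (a = 1 ∧ b = 3)) := by
    intro x y
    obtain ⟨g, hg, hne⟩ := Roots36.exists_smul_pairing_ne (Roots36.linked_of_irreducible (P := P) hirr x y)
    have h1 := Roots36.len_mul_pairingIn (P := P) (g • x) y
    rw [Roots36.len_smul_index] at h1
    have h2 := P.pairingIn_pairingIn_mem_set_of_isCrystal_of_isRed (g • x) y
    simp only [Set.mem_insert_iff, Set.mem_singleton_iff, Prod.mk.injEq] at h2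
    rcases h2 with ⟨e, e'⟩ | ⟨e, e'⟩ | ⟨e, e'⟩ | ⟨e, e'⟩ | ⟨e, e'⟩ | ⟨e, e'⟩ | ⟨e, e'⟩ | ⟨e, e'⟩ | ⟨e, e'⟩ | ⟨e, e'⟩ | ⟨e, e'⟩ | ⟨e, e'⟩ | ⟨e, e'⟩
    · exact absurd e hne
    all_goals rw [e, e'] at h1
    all_goals first
      | exact ⟨1, 1, by lia, by lia⟩
      | exact ⟨2, 1, by lia, by lia⟩
      | exact ⟨1, 2, by lia, by lia⟩
      | exact ⟨3, 1, by lia, by lia⟩
      | exact ⟨1, 3, by lia, by lia⟩
  have hp := Roots36.len_pos' (P := P) i₀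
  refine ⟨fun i => ?_, fun h => ?_⟩
  · obtain ⟨a, b, h1, h2⟩ := key i i₀
    have := hmin i
    rcases h2 with ⟨rfl, rfl⟩ | ⟨rfl, rfl⟩ | ⟨rfl, rfl⟩ | ⟨rfl, rfl⟩ | ⟨rfl, rfl⟩ <;> lia
  · obtain ⟨⟨i, hi⟩, j, hj⟩ := h
    obtain ⟨a, b, h1, h2⟩ := key i j
    rw [hi, hj] at h1
    rcases h2 with ⟨rfl, rfl⟩ | ⟨rfl, rfl⟩ | ⟨rfl, rfl⟩ | ⟨rfl, rfl⟩ | ⟨rfl, rfl⟩ <;> lia

end Groth.Agent.S5471
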