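import Groth.Statements.S5472
import Groth.Agent.Roots36.Dominant
import Groth.Agent.Roots36.Exists

set_option autoImplicit false
open RootPairing
open scoped Pointwise
open RootD

namespace Groth.Agent.S5472

/-- Let Δ be a system of simple roots (root-only sense), γ a positive root and α, β simple roots with
(γ, α^v) > 0 and (γ, β^v) ≥ 0 (equivalently: the order of s_α(γ) along Δ is smaller than that of γ,
and the order of s_β(γ) is at most that of γ). Then for every w in the group generated by s_α and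
s_β the order of w(γ) along Δ is at most that of γ, and strictly smaller unless w ∈ {1, s_β}. The
order is the sum of the coefficients along Δ; the conclusion is stated for the coefficient vector c
of γ - w(γ) along Δ: its coefficient sum is ≥ 0, and > 0 unless w = 1 or w = s_β. -/
theorem result {ι M N : Type*} [AddCommGroup M] [AddCommGroup N]
    (P : RootPairing ι ℤ M N) [Finite ι] (Δ : Set ι) (hΔ : RootD.IsSimpleSys P Δ)
    (k i j : ι) (hk : k ∈ RootD.posOf P Δ) (hi : i ∈ Δ) (hj : j ∈ Δ)
    (hα : 0 < P.pairing k i) (hβ : 0 ≤ P.pairing k j)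
    (g : P.Aut) (hg : g ∈ Subgroup.closure {Equiv.reflection P i, Equiv.reflection P j})
    (c : ι →₀ ℤ) (hc : ↑c.support ⊆ Δ)
    (hck : Finsupp.linearCombination ℤ P.root c = P.root k - P.root (g • k)) :
    0 ≤ c.sum (fun _ a => a) ∧ (g ≠ 1 → g ≠ Equiv.reflection P j → 0 < c.sum (fun _ a => a)) := by
  have := Fintype.ofFinite ι
  classical
  have hsubset : ({i, j} : Set ι) ⊆ Δ := Set.insert_subset_iff.mpr ⟨hi, Set.singleton_subset_iff.mpr hj⟩
  have hg' : g ∈ Roots36.subW P ({i, j} : Set ι) := by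
    rwa [Roots36.subW, Set.image_pair]
  obtain ⟨L, hL1, hL2, hL3⟩ := Roots36.exists_telescope hΔ hsubset hg'
  let C : List (ι × ι) → ι → ℤ := fun L => (L.map fun p => P.pairing k p.1 • Roots36.coef hΔ p.2).sum
  have hC : ∀ L : List (ι × ι), (∀ x ∉ Δ, C L x = 0) ∧
      Roots36.comb P (C L) = (L.map fun p => P.coroot' p.1 (P.root k) • P.root p.2).sum ∧
      ∑ x, C L x = (L.map fun p => P.pairing k p.1 * Roots36.ht hΔ p.2).sum := by
    intro L
    induction L with
    | nil => simp [C]
    | cons p L ih =>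
      have hcons : C (p :: L) = P.pairing k p.1 • Roots36.coef hΔ p.2 + C L := by simp [C]
      refine ⟨fun x hx => ?_, ?_, ?_⟩
      · rw [hcons, Pi.add_apply, ih.1 x hx, Pi.smul_apply, Roots36.coef_eq_zero hΔ hx, smul_zero,
          add_zero]
      · rw [hcons, Roots36.comb_add, ih.2.1, Roots36.comb_smul, ← Roots36.root_eq_comb,
          List.map_cons, List.sum_cons, P.root_coroot'_eq_pairing]
      · simp only [hcons, List.map_cons, List.sum_cons, Pi.add_apply, Pi.smul_apply,
          Finset.sum_add_distrib, ih.2.2, smul_eq_mul, ← Finset.mul_sum]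
        rfl
  have hcC : (⇑c : ι → ℤ) = C L := by
    refine Roots36.comb_inj hΔ (fun x hx => ?_) (hC L).1 ?_
    · by_contra hne; exact hx (hc (Finsupp.mem_support_iff.mpr hne))
    · rw [(hC L).2.1, ← hL2, ← Roots36.root_smul, ← hck, Finsupp.linearCombination_apply,
        Finsupp.sum_fintype _ (fun x a => a • P.root x) (fun _ => zero_smul ℤ _)]
      rfl
  have hsum : c.sum (fun _ a => a) = (L.map fun p => P.pairing k p.1 * Roots36.ht hΔ p.2).sum := by
    rw [← (hC L).2.2, ← hcC, Finsupp.sum_fintype _ (fun _ a => a) (fun _ => rfl)]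
  have hterm : ∀ p ∈ L, 0 ≤ P.pairing k p.1 * Roots36.ht hΔ p.2 := fun p hp => by
    refine mul_nonneg ?_ (Roots36.ht_pos hΔ (hL1 p hp).2).le
    rcases (hL1 p hp).1 with e | e
    · rw [e]; exact hα.le
    · rw [Set.mem_singleton_iff.mp e]; exact hβ
  rw [hsum]
  have hterm' : ∀ x ∈ L.map (fun p => P.pairing k p.1 * Roots36.ht hΔ p.2), 0 ≤ x := by
    intro x hx
    obtain ⟨p, hp, rfl⟩ := List.mem_map.mp hx
    exact hterm p hp
  refine ⟨List.sum_nonneg hterm', fun hne1 hnej => ?_⟩
  by_cases hex : ∃ p ∈ L, p.1 = i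
  · obtain ⟨p, hp, hpi⟩ := hex
    have hpos : 0 < P.pairing k p.1 * Roots36.ht hΔ p.2 := by
      rw [hpi]; exact mul_pos hα (Roots36.ht_pos hΔ (hL1 p hp).2)
    refine lt_of_lt_of_le hpos (List.single_le_sum hterm' _ ?_)
    exact List.mem_map_of_mem hp
  · exfalso
    push Not at hex
    have hle : Roots36.subW P {a | ∃ p ∈ L, p.1 = a} ≤
        Subgroup.zpowers (RootPairing.Equiv.reflection P j) := by
      refine (Subgroup.closure_le _).mpr ?_
      rintro _ ⟨a, ⟨p, hp, rfl⟩, rfl⟩
      rcases (hL1 p hp).1 with e | e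
      · exact absurd e (hex p hp)
      · rw [Set.mem_singleton_iff.mp e]; exact Subgroup.mem_zpowers _
    obtain ⟨z, hz⟩ := hle hL3
    have hsq := Roots36.reflection_sq (P := P) j
    rcases Int.even_or_odd z with ⟨t, rfl⟩ | ⟨t, rfl⟩
    · exact hne1 (by rw [← hz]; simp [hsq, ← two_mul, zpow_mul, zpow_ofNat, sq])
    · exact hnej (by rw [← hz]; simp [zpow_add, zpow_mul, zpow_ofNat, sq, hsq])

end Groth.Agent.S5472
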