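import Groth.Statements.S5473
import Groth.Agent.Roots36.Form

set_option autoImplicit false
open RootD

namespace Groth.Agent.S5473

/-- If a linear map f and its transpose g induce bijections from the roots of R' onto the roots of R and
from the coroots of R onto the coroots of R' respectively (a morphism of root data in the
two-bijection sense), then the two bijections correspond: the coroot of α' is g applied to the
coroot of f(α'). -/
theorem result {ι M N ι' M' N' : Type*} [AddCommGroup M] [AddCommGroup N] [AddCommGroup M'] [AddCommGroup N']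
    (P : RootPairing ι ℤ M N) (P' : RootPairing ι' ℤ M' N') [Finite ι] [Finite ι']
    (f : M' →ₗ[ℤ] M) (g : N →ₗ[ℤ] N') (hfg : ∀ (m' : M') (n : N), P.toLinearMap (f m') n = P'.toLinearMap m' (g n))
    (e : ι' ≃ ι) (he : ∀ i' : ι', f (P'.root i') = P.root (e i'))
    (e' : ι ≃ ι') (he' : ∀ i : ι, g (P.coroot i) = P'.coroot (e' i)) :
    ∀ i' : ι', g (P.coroot (e i')) = P'.coroot i' := by
  have := Fintype.ofFinite ι
  classical
  have := Fintype.ofFinite ι'
  have := Roots36.isTorsionFree_N P'
  let σ : ι' ≃ ι' := e.trans e'
  have hp : ∀ a b, P'.pairingIn ℤ a (σ b) = P.pairingIn ℤ (e a) (e b) := fun a b => by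
    have := hfg (P'.root a) (P.coroot (e b))
    rw [he, he'] at this
    change P.pairing (e a) (e b) = P'.pairing a (σ b) at this
    simpa [Roots36.pairing_eq_cast] using this.symm
  intro i'
  have hl : Roots36.len P (e i') = Roots36.len P' i' := by
    simp only [Roots36.len, Roots36.bz]
    rw [← e.sum_comp, ← σ.sum_comp (fun k => P'.pairingIn ℤ i' k * P'.pairingIn ℤ i' k)]
    simp [hp]
  have hpol : g (P.Polarization (P.root (e i'))) = P'.Polarization (P'.root i') := by
    rw [RootPairing.Polarization_apply, RootPairing.Polarization_apply, map_sum, ← e.sum_comp,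
      ← σ.sum_comp (fun k => P'.coroot' k (P'.root i') • P'.coroot k)]
    refine Finset.sum_congr rfl fun k _ => ?_
    rw [map_zsmul, he', RootPairing.root_coroot'_eq_pairing, RootPairing.root_coroot'_eq_pairing,
      Roots36.pairing_eq_cast, Roots36.pairing_eq_cast, hp]
    rfl
  apply smul_right_injective N' (Roots36.len_pos' (P := P') i').ne'
  have h1 := congrArg g (P.rootForm_self_smul_coroot (e i'))
  rw [← Roots36.cast_len, map_nsmul, hpol, ← P'.rootForm_self_smul_coroot, ← Roots36.cast_len,
    Int.cast_id, Int.cast_id, hl, map_zsmul] at h1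
  exact h1

end Groth.Agent.S5473
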