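import Groth.Statements.S5474
import Groth.Agent.Roots36.Rank

set_option autoImplicit false
open RootD

namespace Groth.Agent.S5474

/-- Every morphism between semisimple root data is an isogeny (injective on weight lattices with finite
cokernel). -/
theorem result {ι M N ι' M' N' : Type*} [AddCommGroup M] [AddCommGroup N] [AddCommGroup M'] [AddCommGroup N']
    (P : RootPairing ι ℤ M N) (P' : RootPairing ι' ℤ M' N') [Finite ι] [Finite ι']
    [Module.Finite ℤ M] [Module.Finite ℤ N] [Module.Finite ℤ M'] [Module.Finite ℤ N']
    (hss : Module.finrank ℤ (Submodule.span ℤ (Set.range P.root)) = Module.finrank ℤ M)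
    (hss' : Module.finrank ℤ (Submodule.span ℤ (Set.range P'.root)) = Module.finrank ℤ M')
    (f : RootPairing.Hom P' P) :
    Function.Injective f.weightMap ∧ Finite (M ⧸ LinearMap.range f.weightMap) := by
  have := Fintype.ofFinite ι
  classical
  have := Fintype.ofFinite ι'
  have : Module.Free ℤ M := Roots36.free_M P
  have hinj : Function.Injective f.weightMap := by
    rw [← LinearMap.ker_eq_bot, eq_bot_iff, ← ((Roots36.finrank_ker_coroot P').2).mp hss']
    intro x hx
    rw [LinearMap.mem_ker] at hx
    simp only [Submodule.mem_iInf, LinearMap.mem_ker]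
    intro i
    have h1 := LinearMap.congr_fun
      (RootPairing.Hom.weight_coweight_transpose_apply P' P (P.coroot (f.indexEquiv i)) f) x
    rw [RootPairing.Hom.coroot_coweightMap_apply, f.indexEquiv.symm_apply_apply] at h1
    simp [hx] at h1
    exact h1.symm
  refine ⟨hinj, ?_⟩
  have hsub : Submodule.span ℤ (Set.range P.root) ≤ LinearMap.range f.weightMap := by
    refine Submodule.span_le.mpr ?_
    rintro _ ⟨i, rfl⟩
    refine ⟨P'.root (f.indexEquiv.symm i), ?_⟩
    rw [RootPairing.Hom.root_weightMap_apply, Equiv.apply_symm_apply]
  exact Submodule.finiteQuotientOfFreeOfRankEq (LinearMap.range f.weightMap)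
    (le_antisymm (Submodule.finrank_le _) (hss ▸ Submodule.finrank_mono hsub))

end Groth.Agent.S5474
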