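import Groth.Statements.S5475
import Groth.Agent.Roots36.Combi
import Groth.Agent.Roots36.Exists

set_option autoImplicit false
open RootD

namespace Groth.Agent.S5475

/-- In an adjoint root datum every indivisible root is an indivisible element of the weight lattice. -/
theorem result {ι M N : Type*} [AddCommGroup M] [AddCommGroup N]
    (P : RootPairing ι ℤ M N) [Finite ι] (had : Submodule.span ℤ (Set.range P.root) = ⊤)
    (i : ι) (hind : RootD.IsIndiv P i) (m : M) (n : ℤ) (h : n • m = P.root i) : n = 1 ∨ n = -1 := by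
  have := Fintype.ofFinite ι
  classical
  obtain ⟨Δ, hΔ⟩ := Roots36.exists_isSimpleSys P
  obtain ⟨g, hg, δ, hδ, rfl⟩ := Roots36.exists_subW_smul hΔ hind
  have hm : g⁻¹ • m ∈ Submodule.span ℤ (P.root '' Δ) := by
    have hle : Submodule.span ℤ (Set.range P.root) ≤ Submodule.span ℤ (P.root '' Δ) :=
      Submodule.span_le.mpr fun x ⟨k, hk⟩ => by
        rw [← hk, Roots36.root_eq_comb hΔ k]
        exact Roots36.comb_mem_span fun j hj => Roots36.coef_eq_zero hΔ hj
    exact hle (had ▸ Submodule.mem_top)
  obtain ⟨c, hc, he⟩ := Roots36.exists_comb_of_mem_span hm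
  have h1 : Roots36.coef hΔ δ = n • c := by
    refine Roots36.coef_eq hΔ (fun j hj => by simp [hc j hj]) ?_
    rw [Roots36.comb_smul, ← he, ← Roots36.smul_smulR, h, Roots36.root_smul, inv_smul_smul]
  have h2 := congrFun h1 δ
  rw [Roots36.coef_simple hΔ hδ, Pi.single_eq_same, Pi.smul_apply, smul_eq_mul] at h2
  exact Int.eq_one_or_neg_one_of_mul_eq_one h2.symm

end Groth.Agent.S5475
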