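import Groth.Statements.S5477
import Groth.Agent.Roots36.Combi
import Groth.Agent.Roots36.Exists

set_option autoImplicit false
open RootPairing
open scoped Pointwise
open RootD

namespace Groth.Agent.S5477

/-- An automorphism of a root datum acting trivially on the radical (u(m) - m in the rational span of
the roots for all m) is determined by its action on the roots: if it fixes every root it is the
identity. -/
theorem result {ι M N : Type*} [AddCommGroup M] [AddCommGroup N]
    (P : RootPairing ι ℤ M N) [Finite ι] (u : P.Aut)
    (hs : ∀ m : M, ∃ n : ℕ, 0 < n ∧ n • (u • m - m) ∈ Submodule.span ℤ (Set.range P.root))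
    (hfix : ∀ i : ι, u • i = i) : u = 1 := by
  have := Fintype.ofFinite ι
  classical
  refine Roots36.aut_ext fun m => ?_
  rw [one_smul]
  obtain ⟨n, hn, hmem⟩ := hs m
  have h0 : n • (u • m - m) = 0 := by
    refine Roots36.eq_zero_of_coroot'_eq_zero hmem fun i => ?_
    rw [map_nsmul, map_sub]
    conv_lhs => enter [2, 1]; rw [← hfix i, Roots36.coroot'_smul]
    rw [sub_self, smul_zero]
  exact sub_eq_zero.mp (Roots36.nsmul_cancel P hn.ne' (h0.trans (smul_zero _).symm))

end Groth.Agent.S5477
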