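import Groth.Statements.S5478
import Groth.Agent.Roots36.Combi
import Groth.Agent.Roots36.Exists

set_option autoImplicit false
open RootPairing
open scoped Pointwise
open RootD

namespace Groth.Agent.S5478

/-- The group of automorphisms of a root datum that act trivially on the radical is finite. -/
theorem result {ι M N : Type*} [AddCommGroup M] [AddCommGroup N]
    (P : RootPairing ι ℤ M N) [Finite ι] :
    Set.Finite {u : P.Aut | ∀ m : M, ∃ n : ℕ, 0 < n ∧ n • (u • m - m) ∈ Submodule.span ℤ (Set.range P.root)} := by
  have := Fintype.ofFinite ι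
  classical
  refine Set.Finite.of_finite_image (f := fun u : P.Aut => fun i : ι => u • i) (Set.toFinite _) ?_
  intro u hu v hv he
  refine Roots36.aut_ext fun m => ?_
  obtain ⟨a, ha, hua⟩ := hu m
  obtain ⟨b, hb, hvb⟩ := hv m
  have hmem : (a * b) • (u • m - v • m) ∈ Submodule.span ℤ (Set.range P.root) := by
    rw [show u • m - v • m = (u • m - m) - (v • m - m) by abel, smul_sub]
    refine sub_mem ?_ ?_
    · rw [mul_comm, mul_smul]; exact Submodule.smul_of_tower_mem _ b hua
    · rw [mul_smul]; exact Submodule.smul_of_tower_mem _ a hvb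
  have h0 : (a * b) • (u • m - v • m) = 0 := by
    refine Roots36.eq_zero_of_coroot'_eq_zero hmem fun i => ?_
    have h1 := Roots36.coroot'_smul u (u⁻¹ • i) m
    have h2 := Roots36.coroot'_smul v (u⁻¹ • i) m
    have hev : u • (u⁻¹ • i) = v • (u⁻¹ • i) := congrFun he _
    rw [← hev] at h2
    simp only [smul_inv_smul] at h1 h2
    rw [map_nsmul, map_sub, h1, h2, sub_self, smul_zero]
  exact sub_eq_zero.mp (Roots36.nsmul_cancel P (Nat.mul_pos ha hb).ne' (h0.trans (smul_zero _).symm))

end Groth.Agent.S5478
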