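import Groth.Statements.S5479
import Groth.Agent.Roots36.PosSys

set_option autoImplicit false
open RootPairing
open scoped Pointwise
open RootD

namespace Groth.Agent.S5479

/-- Aut(R) is the semidirect product of the Weyl group by the stabiliser E_Δ of a system of simple
roots: every automorphism is uniquely w · e with w ∈ W and e(Δ) = Δ. -/
theorem result {ι M N : Type*} [AddCommGroup M] [AddCommGroup N]
    (P : RootPairing ι ℤ M N) [Finite ι] (Δ : Set ι) (hΔ : RootD.IsSimpleSys P Δ) (u : P.Aut) :
    ∃! w : P.weylGroup, (fun i : ι => ((w : P.Aut)⁻¹ * u) • i) '' Δ = Δ := by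
  have := Fintype.ofFinite ι
  obtain ⟨w, hw, he⟩ := Roots36.exists_smul_simple_eq hΔ (Roots36.isSimpleSys_smul u hΔ)
  refine ⟨⟨w, hw⟩, ?_, ?_⟩
  · show (fun i : ι => (w⁻¹ * u) • i) '' Δ = Δ
    have : (fun i : ι => (w⁻¹ * u) • i) = (w⁻¹ • ·) ∘ (u • ·) := by
      funext i; exact mul_smul _ _ i
    rw [this, Set.image_comp, ← he, Set.image_image]
    simp
  · rintro ⟨v, hv⟩ hve
    apply Subtype.ext
    have h1 : (fun i : ι => (w⁻¹ * v) • i) '' Δ = Δ := by
      have : (fun i : ι => (w⁻¹ * v) • i) = (w⁻¹ • ·) ∘ (v • ·) := by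
        funext i; exact mul_smul _ _ i
      rw [this, Set.image_comp]
      have h2 : (v • ·) '' Δ = (u • ·) '' Δ := by
        conv_lhs => rw [← hve]
        rw [Set.image_image]
        apply Set.image_congr'
        intro a
        exact ((mul_smul v (v⁻¹ * u) a).symm.trans (by rw [mul_inv_cancel_left]))
      rw [h2, ← he, Set.image_image]
      simp
    have := Roots36.eq_one_of_image_simple hΔ (mul_mem (inv_mem hw) hv) h1
    exact (inv_mul_eq_one.mp this).symm

end Groth.Agent.S5479
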