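import Groth.Statements.S5480
import Groth.Agent.Roots36.PMorph

set_option autoImplicit false
open RootD

namespace Groth.Agent.S5480

/-- For a p-morphism of reduced root data with root bijection u and radicial exponents q: (a) for all
roots α, β one has q(s_α(β)) = q(β) and u(s_α(β)) = s_{u(α)}(u(β)); (b) the exponents are invariant
under the Weyl group, q(w(α)) = q(α); (c) there is an isomorphism ū from the Weyl group of the first
datum to that of the second with ū(s_α) = s_{u(α)} and u(w(α)) = ū(w)(u(α)) for every Weyl group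
element w and every root α. -/
theorem result {ι M N ι' M' N' : Type*} [AddCommGroup M] [AddCommGroup N] [AddCommGroup M'] [AddCommGroup N']
    (P : RootPairing ι ℤ M N) (P' : RootPairing ι' ℤ M' N') [Finite ι] [Finite ι'] [P.IsReduced] [P'.IsReduced]
    (p : ℕ) (hp : 0 < p) (f : M' →ₗ[ℤ] M) (g : N →ₗ[ℤ] N')
    (hfg : ∀ (m' : M') (n : N), P.toLinearMap (f m') n = P'.toLinearMap m' (g n))
    (u : ι ≃ ι') (q : ι → ℕ) (hq : ∀ i, ∃ e : ℕ, q i = p ^ e)
    (hroot : ∀ i : ι, f (P'.root (u i)) = (q i : ℤ) • P.root i)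
    (hcoroot : ∀ i : ι, g (P.coroot i) = (q i : ℤ) • P'.coroot (u i)) :
    (∀ i j : ι, q (P.reflectionPerm i j) = q j ∧ u (P.reflectionPerm i j) = P'.reflectionPerm (u i) (u j)) ∧
      (∀ w ∈ P.weylGroup, ∀ i : ι, q (w • i) = q i) ∧
      ∃ ubar : P.weylGroup ≃* P'.weylGroup,
        (∀ i : ι, ubar (RootPairing.weylGroup.ofIdx P i) = RootPairing.weylGroup.ofIdx P' (u i)) ∧
        ∀ (w : P.weylGroup) (i : ι), u ((w : P.Aut) • i) = ((ubar w : P'.weylGroup) : P'.Aut) • u i := by
  have := Fintype.ofFinite ι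
  classical
  have := Fintype.ofFinite ι'
  let S : Roots36.Scaling P P' :=
    { f := f, g := g, u := u, q := fun i => (q i : ℤ)
      qpos := fun i => by obtain ⟨e, he⟩ := hq i; simp [he, hp]
      transpose := hfg, root_map := hroot, coroot_map := hcoroot }
  obtain ⟨Δ', hΔ'⟩ := Roots36.exists_isSimpleSys P'
  obtain ⟨Δ, hΔ⟩ := Roots36.exists_isSimpleSys P
  have huniq : ∀ a b : P'.weylGroup, (∀ i, (a : P'.Aut) • u i = (b : P'.Aut) • u i) → a = b := by
    intro a b h
    refine Subtype.ext (inv_mul_eq_one.mp (Roots36.eq_one_of_fix_index hΔ'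
      (mul_mem (inv_mem a.2) b.2) fun k => ?_))
    obtain ⟨i, rfl⟩ := u.surjective k
    rw [mul_smul, ← h, inv_smul_smul]
  refine ⟨fun i j => ⟨Int.ofNat.inj (S.reflect i j).1, (S.reflect i j).2⟩,
    fun w hw i => Int.ofNat.inj ((S.smul_mem hw).1 i), ?_⟩
  choose w' hw' hwu using fun w : P.weylGroup => (S.smul_mem w.2).2
  let φ : P.weylGroup →* P'.weylGroup := MonoidHom.mk' (fun w => ⟨w' w, hw' w⟩) fun a b =>
    huniq _ _ fun i => by
      have h : u ((a : P.Aut) • (b : P.Aut) • i) = w' (a * b) • u i := by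
        rw [← mul_smul]; exact hwu (a * b) i
      rw [Subgroup.coe_mul, mul_smul, ← h]
      exact (hwu a _).trans (congrArg (w' a • ·) (hwu b i))
  have hφ : ∀ (w : P.weylGroup) (i : ι), u ((w : P.Aut) • i) = (φ w : P'.Aut) • u i := hwu
  have hbij : Function.Bijective φ := by
    refine ⟨(injective_iff_map_eq_one φ).mpr fun w hw => Subtype.ext
      (Roots36.eq_one_of_fix_index hΔ w.2 fun i => u.injective ?_), fun a => ?_⟩
    · rw [hφ, hw]; exact one_smul _ _
    · obtain ⟨w, hw, h⟩ := S.exists_preimage a.2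
      exact ⟨⟨w, hw⟩, huniq _ _ fun i => (hφ ⟨w, hw⟩ i).symm.trans (h i)⟩
  refine ⟨MulEquiv.ofBijective φ hbij, fun i => huniq _ _ fun k => ?_, hφ⟩
  exact (hφ _ k).symm.trans (S.reflect i k).2

end Groth.Agent.S5480
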