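import Groth.Statements.S5481
import Groth.Agent.Roots36.PMorph

set_option autoImplicit false
open RootD

namespace Groth.Agent.S5481

/-- The root bijection u of a p-morphism of reduced root data carries systems of simple roots onto
systems of simple roots and systems of positive roots onto systems of positive roots, bijectively. -/
theorem result {ι M N ι' M' N' : Type*} [AddCommGroup M] [AddCommGroup N] [AddCommGroup M'] [AddCommGroup N']
    (P : RootPairing ι ℤ M N) (P' : RootPairing ι' ℤ M' N') [Finite ι] [Finite ι'] [P.IsReduced] [P'.IsReduced]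
    (p : ℕ) (hp : 0 < p) (f : M' →ₗ[ℤ] M) (g : N →ₗ[ℤ] N')
    (hfg : ∀ (m' : M') (n : N), P.toLinearMap (f m') n = P'.toLinearMap m' (g n))
    (u : ι ≃ ι') (q : ι → ℕ) (hq : ∀ i, ∃ e : ℕ, q i = p ^ e)
    (hroot : ∀ i : ι, f (P'.root (u i)) = (q i : ℤ) • P.root i)
    (hcoroot : ∀ i : ι, g (P.coroot i) = (q i : ℤ) • P'.coroot (u i)) (Δ : Set ι) :
    (RootD.IsSimpleSys P Δ ↔ RootD.IsSimpleSys P' (u '' Δ)) ∧
      (RootD.IsPosSys P Δ ↔ RootD.IsPosSys P' (u '' Δ)) := by
  have := Fintype.ofFinite ι
  classical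
  have := Fintype.ofFinite ι'
  let S : Roots36.Scaling P P' :=
    { f := f, g := g, u := u, q := fun i => (q i : ℤ)
      qpos := fun i => by obtain ⟨e, he⟩ := hq i; simp [he, hp]
      transpose := hfg, root_map := hroot, coroot_map := hcoroot }
  refine ⟨⟨S.isSimpleSys_image, S.isSimpleSys_preimage⟩, fun h => ?_, fun h => ?_⟩
  · obtain ⟨D, hD, rfl⟩ := Roots36.exists_simple_of_closed P (Roots36.IsPosSys.isClosedSub h) h.cover
      fun i hi => h.disjoint hi
    rw [show u '' RootD.posOf P D = RootD.posOf P' (u '' D) from (S.posOf_image hD).symm]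
    exact Roots36.isPosSys_posOf (S.isSimpleSys_image hD)
  · obtain ⟨D', hD', he⟩ := Roots36.exists_simple_of_closed P' (Roots36.IsPosSys.isClosedSub h) h.cover
      fun i hi => h.disjoint hi
    obtain ⟨D, rfl⟩ : ∃ D, u '' D = D' := ⟨u ⁻¹' D', u.image_preimage D'⟩
    have hD := S.isSimpleSys_preimage hD'
    have : Δ = RootD.posOf P D :=
      u.injective.image_injective (he.symm.trans (S.posOf_image hD))
    rw [this]
    exact Roots36.isPosSys_posOf hD

end Groth.Agent.S5481
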