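import Groth.Statements.S5482
import Groth.Agent.Roots36.Combi
import Groth.Agent.Roots36.Exists

set_option autoImplicit false
open RootD

namespace Groth.Agent.S5482

/-- If the roots are partitioned into two closed symmetric subsets R', R'', then with Δ' = Δ ∩ R', Δ'' =
Δ ∩ R'' for a system of simple roots Δ one has R' = R_{Δ'}, R'' = R_{Δ''}, and Δ' is orthogonal to
Δ''. -/
theorem result {ι M N : Type*} [AddCommGroup M] [AddCommGroup N]
    (P : RootPairing ι ℤ M N) [Finite ι] (Δ : Set ι) (hΔ : RootD.IsSimpleSys P Δ) (R' : Set ι)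
    (hc : RootD.IsClosedSub P R') (hs : RootD.IsSymmSub P R') (hc' : RootD.IsClosedSub P R'ᶜ)
    (hs' : RootD.IsSymmSub P R'ᶜ) :
    R' = RootD.inSpan P (Δ ∩ R') ∧ R'ᶜ = RootD.inSpan P (Δ \ R') ∧
      ∀ i ∈ Δ ∩ R', ∀ j ∈ Δ \ R', P.IsOrthogonal i j := by
  have := Fintype.ofFinite ι
  classical
  have horth : ∀ i ∈ R', ∀ j ∉ R', P.pairingIn ℤ i j = 0 := fun i hi j hj => by
    by_contra h; exact hj (Roots36.mem_of_partition hc hs hc' hs' hi h)
  have key : ∀ k ∈ RootD.posOf P Δ, ∀ j, Roots36.coef hΔ k j ≠ 0 → (j ∈ R' ↔ k ∈ R') := by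
    intro k hk
    refine Roots36.posOf_induction hΔ
      (p := fun k => ∀ j, Roots36.coef hΔ k j ≠ 0 → (j ∈ R' ↔ k ∈ R')) ?_ ?_ hk
    · intro i hi j hj
      rw [Roots36.coef_simple hΔ hi] at hj
      obtain rfl : j = i := by by_contra hne; exact hj (Pi.single_eq_of_ne hne 1)
      rfl
    · intro m hm i hi x hx he ih j hj
      rw [Roots36.coef_add hΔ he, Pi.add_apply, Roots36.coef_simple hΔ hi, Pi.single_apply] at hj
      rcases Roots36.partition_add_mem hc hs hc' hs' he with ⟨h1, h2, h3⟩ | ⟨h1, h2, h3⟩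
      · by_cases e : j = i
        · simp [e, h2, h3]
        · rw [if_neg e, add_zero] at hj
          simp [ih j hj, h1, h3]
      · by_cases e : j = i
        · simp [e, h2, h3]
        · rw [if_neg e, add_zero] at hj
          simp [ih j hj, h1, h3]
  have key' : ∀ k j, Roots36.coef hΔ k j ≠ 0 → (j ∈ R' ↔ k ∈ R') := by
    intro k j hj
    rcases Roots36.posOf_or_neg hΔ k with hk | hk
    · exact key k hk j hj
    · have := key _ hk j (by rw [Roots36.coef_neg]; simpa using hj)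
      rw [this]
      exact ⟨fun h => Roots36.neg_neg_index (P := P) k ▸ hs h, fun h => hs h⟩
  have hiff : ∀ (D : Set ι), D ⊆ Δ → ∀ l, l ∈ RootD.inSpan P D ↔ ∀ j ∉ D, Roots36.coef hΔ l j = 0 :=
    fun D hD l => Roots36.inSpan_iff hΔ hD
  have hex : ∀ k, ∃ j ∈ Δ, Roots36.coef hΔ k j ≠ 0 := fun k => by
    obtain ⟨j, hj⟩ : ∃ j, Roots36.coef hΔ k j ≠ 0 := by
      by_contra hn; push Not at hn; exact Roots36.coef_ne_zero hΔ k (funext hn)
    exact ⟨j, by by_contra hn; exact hj (Roots36.coef_eq_zero hΔ hn), hj⟩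
  refine ⟨?_, ?_, fun i hi j hj => Roots36.isOrthogonal_iff.mpr (horth i hi.2 j hj.2)⟩
  · ext k
    rw [hiff _ Set.inter_subset_left]
    refine ⟨fun hk j hj => ?_, fun h => ?_⟩
    · by_contra hne
      exact hj ⟨by by_contra hn; exact hne (Roots36.coef_eq_zero hΔ hn), (key' k j hne).mpr hk⟩
    · obtain ⟨j, -, hj⟩ := hex k
      exact (key' k j hj).mp (Classical.not_not.mp fun hn => hj (h j fun h' => hn h'.2))
  · ext k
    rw [hiff _ (fun x hx => hx.1)]
    refine ⟨fun hk j hj => ?_, fun h hk => ?_⟩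
    · by_contra hne
      exact hj ⟨by by_contra hn; exact hne (Roots36.coef_eq_zero hΔ hn),
        fun h' => hk ((key' k j hne).mp h')⟩
    · obtain ⟨j, -, hj⟩ := hex k
      exact hj (h j fun h' => h'.2 ((key' k j hj).mpr hk))

end Groth.Agent.S5482
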