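import Groth.Statements.S5483
import Groth.Agent.Roots36.Combi
import Groth.Agent.Roots36.Exists

set_option autoImplicit false
open RootD

namespace Groth.Agent.S5483

/-- If a system of simple roots Δ is the disjoint union of two mutually orthogonal subsets Δ', Δ'', then
R_{Δ'} and R_{Δ''} partition the set of roots. -/
theorem result {ι M N : Type*} [AddCommGroup M] [AddCommGroup N]
    (P : RootPairing ι ℤ M N) [Finite ι] (Δ Δ' : Set ι) (hΔ : RootD.IsSimpleSys P Δ)
    (hsub : Δ' ⊆ Δ) (horth : ∀ i ∈ Δ', ∀ j ∈ Δ \ Δ', P.IsOrthogonal i j) (k : ι) :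
    (k ∈ RootD.inSpan P Δ' ∨ k ∈ RootD.inSpan P (Δ \ Δ')) ∧
      ¬ (k ∈ RootD.inSpan P Δ' ∧ k ∈ RootD.inSpan P (Δ \ Δ')) := by
  have := Fintype.ofFinite ι
  classical
  have hiff : ∀ (D : Set ι), D ⊆ Δ → ∀ l, l ∈ RootD.inSpan P D ↔ ∀ j ∉ D, Roots36.coef hΔ l j = 0 :=
    fun D hD l => Roots36.inSpan_iff hΔ hD
  simp only [hiff Δ' hsub, hiff (Δ \ Δ') fun _ hx => hx.1]
  refine ⟨?_, fun ⟨h1, h2⟩ => Roots36.coef_ne_zero hΔ k (funext fun j => ?_)⟩
  · have key : ∀ l ∈ RootD.posOf P Δ, (∀ j ∉ Δ', Roots36.coef hΔ l j = 0) ∨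
        (∀ j ∉ Δ \ Δ', Roots36.coef hΔ l j = 0) := by
      intro l hl
      refine Roots36.posOf_induction hΔ (p := fun l => (∀ j ∉ Δ', Roots36.coef hΔ l j = 0) ∨
        (∀ j ∉ Δ \ Δ', Roots36.coef hΔ l j = 0)) ?_ ?_ hl
      · intro i hi
        rw [Roots36.coef_simple hΔ hi]
        by_cases h : i ∈ Δ'
        · exact Or.inl fun j hj => Pi.single_eq_of_ne (fun e => hj (by rw [e]; exact h)) 1
        · exact Or.inr fun j hj => Pi.single_eq_of_ne (fun e => hj (by rw [e]; exact ⟨hi, h⟩)) 1
      · intro m hm i hi x hx he ih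
        have hmix : ∀ A B : Set ι, i ∈ B → i ∉ A → (∀ a ∈ A, P.pairingIn ℤ a i = 0) →
            (∀ j ∉ A, Roots36.coef hΔ m j = 0) → False := by
          intro A B _ hiA horth' hA
          have hmi : P.pairingIn ℤ m i = 0 := by
            rw [Roots36.pairingIn_eq_sum hΔ]
            refine Finset.sum_eq_zero fun j _ => ?_
            by_cases hj : j ∈ A
            · rw [horth' j hj, mul_zero]
            · rw [hA j hj, zero_mul]
          have hxi : P.pairingIn ℤ x i = 2 := by
            rw [Roots36.pairingIn_eq_sum hΔ, Roots36.coef_add hΔ he, Roots36.coef_simple hΔ hi]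
            simp only [Pi.add_apply, add_mul, Finset.sum_add_distrib, ← Roots36.pairingIn_eq_sum hΔ, hmi]
            simp [Pi.single_apply]
          have hc := Roots36.coef_reflect hΔ hi x
          rw [hxi, Roots36.coef_add hΔ he, Roots36.coef_simple hΔ hi] at hc
          have h2 := congrFun hc i
          simp [hA i hiA] at h2
          obtain ⟨a, ha⟩ : ∃ a, Roots36.coef hΔ m a ≠ 0 := by
            by_contra hn; push Not at hn; exact Roots36.coef_ne_zero hΔ m (funext hn)
          have hai : a ≠ i := fun e => ha (e ▸ hA i hiA)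
          have h3 := congrFun hc a
          simp [hai] at h3
          have hma := (Roots36.posOf_iff hΔ).mp hm a
          rcases Roots36.coef_sign hΔ (P.reflectionPerm i x) with hs | hs
          · have := hs i; lia
          · have := hs a; lia
        rcases ih with ih | ih
        · by_cases h : i ∈ Δ'
          · refine Or.inl fun j hj => ?_
            rw [Roots36.coef_add hΔ he, Pi.add_apply, ih j hj, Roots36.coef_simple hΔ hi,
              Pi.single_eq_of_ne (fun e => hj (by rw [e]; exact h)) 1, add_zero]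
          · exact (hmix Δ' (Δ \ Δ') ⟨hi, h⟩ h (fun a ha =>
              Roots36.isOrthogonal_iff.mp (horth a ha i ⟨hi, h⟩)) ih).elim
        · by_cases h : i ∈ Δ'
          · exact (hmix (Δ \ Δ') Δ' h (fun h' => h'.2 h) (fun a ha =>
              Roots36.pairingIn_eq_zero_symm (Roots36.isOrthogonal_iff.mp (horth i h a ha))) ih).elim
          · refine Or.inr fun j hj => ?_
            rw [Roots36.coef_add hΔ he, Pi.add_apply, ih j hj, Roots36.coef_simple hΔ hi,
              Pi.single_eq_of_ne (fun e => hj (by rw [e]; exact ⟨hi, h⟩)) 1, add_zero]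
    rcases Roots36.posOf_or_neg hΔ k with hk | hk
    · exact key k hk
    · simpa [Roots36.coef_neg] using key _ hk
  · by_cases hj : j ∈ Δ'
    · exact h2 j fun h => h.2 hj
    · exact h1 j hj

end Groth.Agent.S5483
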