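import Groth.Statements.S5484
import Groth.Agent.Roots36.Form
import Mathlib.Analysis.Matrix.PosDef
import Mathlib.Data.Real.StarOrdered
import Mathlib.LinearAlgebra.Matrix.ToLinearEquiv

set_option autoImplicit false
open RootD

namespace Groth.Agent.S5484

open Classical in
/-- Every principal minor of the Cartan matrix (a_{α,β} = (α^v, β), α, β simple) is strictly positive. -/
theorem result {ι M N : Type*} [AddCommGroup M] [AddCommGroup N]
    (P : RootPairing ι ℤ M N) [Finite ι] (Δ : Finset ι) (hΔ : RootD.IsSimpleSys P (↑Δ : Set ι))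
    (Δ' : Finset ι) (hsub : Δ' ⊆ Δ) :
    0 < Matrix.det (Matrix.of fun (a b : ↥Δ') => P.pairing (b : ι) (a : ι)) := by
  have := Fintype.ofFinite ι
  classical
  let A : Matrix ↥Δ' ↥Δ' ℤ := Matrix.of fun a b => Roots36.bz P a b
  let B : Matrix ↥Δ' ι ℝ := Matrix.of fun a k => (P.pairingIn ℤ a k : ℝ)
  have hA : A.map (Int.castRingHom ℝ) = B * B.conjTranspose := by
    ext a b
    simp [A, B, Matrix.mul_apply, Roots36.bz]
  have h0 : 0 ≤ A.det := by
    have h := (Matrix.posSemidef_self_mul_conjTranspose B).det_nonneg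
    rw [← hA, ← RingHom.mapMatrix_apply, ← RingHom.map_det] at h
    simpa using h
  have hne : A.det ≠ 0 := by
    rw [Ne, ← Matrix.exists_mulVec_eq_zero_iff]
    rintro ⟨x, hx, hAx⟩
    let c : ι → ℤ := fun i => if h : i ∈ Δ' then x ⟨i, h⟩ else 0
    have hcne : c ≠ 0 := fun h => hx (funext fun a => by
      have := congrFun h (a : ι)
      simpa [c] using this)
    have hc : ∀ i, i ∉ (↑Δ : Set ι) → c i = 0 := fun i hi => dif_neg fun h => hi (hsub h)
    have hq := Roots36.quad_pos hΔ hc hcne
    refine absurd hq (not_lt.mpr (le_of_eq ?_))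
    have hs : ∀ F : ι → ℤ, (∀ i ∉ Δ', F i = 0) → ∑ a, F a = ∑ a : ↥Δ', F a := fun F hF => by
      rw [Finset.sum_coe_sort Δ' F]
      exact (Finset.sum_subset (Finset.subset_univ _) fun i _ hi => hF i hi).symm
    rw [hs _ (fun i hi => Finset.sum_eq_zero fun b _ => by simp [c, hi])]
    refine Finset.sum_eq_zero fun a _ => ?_
    rw [hs _ (fun i hi => by simp [c, hi])]
    have := congrFun hAx a
    simp only [Matrix.mulVec, dotProduct, Pi.zero_apply, A, Matrix.of_apply] at this
    rw [← mul_zero (c a), ← this, Finset.mul_sum]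
    refine Finset.sum_congr rfl fun b _ => ?_
    simp [c]
    ring
  have e : Matrix.diagonal (fun a : ↥Δ' => Roots36.len P a) *
      Matrix.of (fun (a b : ↥Δ') => P.pairing (b : ι) (a : ι)) = (2 : ℤ) • A := by
    ext a b
    simp [A, Matrix.diagonal_mul, Roots36.pairing_eq_cast, ← Roots36.two_mul_bz, Roots36.bz_comm]
  have hd := congrArg Matrix.det e
  rw [Matrix.det_mul, Matrix.det_diagonal, Matrix.det_smul] at hd
  have hpos : 0 < (2 : ℤ) ^ Fintype.card ↥Δ' * A.det :=
    mul_pos (pow_pos two_pos _) (lt_of_le_of_ne h0 (Ne.symm hne))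
  rw [← hd] at hpos
  exact (mul_pos_iff_of_pos_left (Finset.prod_pos fun a _ => Roots36.len_pos' _)).mp hpos

end Groth.Agent.S5484
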