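import Groth.Statements.S5486
import Groth.Agent.Roots36.Combi
import Groth.Agent.Roots36.Exists

set_option autoImplicit false
open RootD

namespace Groth.Agent.S5486

/-- For orthogonal roots α, β, the sum α + β is a root if and only if the difference α - β is. -/
theorem result {ι M N : Type*} [AddCommGroup M] [AddCommGroup N]
    (P : RootPairing ι ℤ M N) [Finite ι] (i j : ι) (h : P.IsOrthogonal i j) :
    P.root i + P.root j ∈ Set.range P.root ↔ P.root i - P.root j ∈ Set.range P.root := by
  have := Fintype.ofFinite ι
  classical
  have hji : P.pairing i j = 0 := h.1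
  have key : ∀ (s : ι), P.pairing i j = 0 → (P.root s = P.root i + P.root j →
      P.root (P.reflectionPerm j s) = P.root i - P.root j) ∧ (P.root s = P.root i - P.root j →
      P.root (P.reflectionPerm j s) = P.root i + P.root j) := fun s _ => by
    constructor <;> intro e <;>
      simp [P.root_reflectionPerm, e, RootPairing.reflection_apply, hji, two_smul] <;> abel
  exact ⟨fun ⟨s, hs⟩ => ⟨_, (key s hji).1 hs⟩, fun ⟨s, hs⟩ => ⟨_, (key s hji).2 hs⟩⟩

end Groth.Agent.S5486
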