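import Groth.Statements.S5487
import Groth.Agent.Roots36.Combi
import Groth.Agent.Roots36.Exists

set_option autoImplicit false
open RootD

namespace Groth.Agent.S5487

/-- For non-orthogonal roots α, β one has ℓ(α) ℓ(α^v) = ℓ(β) ℓ(β^v), where ℓ is the canonical quadratic
form of the datum and of its dual. -/
theorem result {ι M N : Type*} [AddCommGroup M] [AddCommGroup N]
    (P : RootPairing ι ℤ M N) [Finite ι] [Fintype ι] (i j : ι) (h : ¬ P.IsOrthogonal i j) :
    P.RootForm (P.root i) (P.root i) * P.CorootForm (P.coroot i) (P.coroot i) =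
      P.RootForm (P.root j) (P.root j) * P.CorootForm (P.coroot j) (P.coroot j) := by
  classical
  have h1 := Roots36.len_mul_pairingIn (P := P) i j
  have h2 := Roots36.len_mul_pairingIn (P := P.flip) i j
  have hf : ∀ a b, P.flip.pairingIn ℤ a b = P.pairingIn ℤ b a := fun a b => by
    apply FaithfulSMul.algebraMap_injective ℤ ℤ
    simp only [RootPairing.algebraMap_pairingIn]
    rfl
  rw [hf, hf] at h2
  have hl : ∀ a, P.RootForm (P.root a) (P.root a) = Roots36.len P a := fun a => by
    rw [← Roots36.cast_len]; rfl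
  have hl' : ∀ a, P.CorootForm (P.coroot a) (P.coroot a) = Roots36.len P.flip a := fun a => by
    change P.flip.RootForm (P.flip.root a) (P.flip.root a) = _
    rw [← Roots36.cast_len]; rfl
  rw [hl, hl, hl', hl']
  have hne : P.pairingIn ℤ i j ≠ 0 := fun e => h (Roots36.isOrthogonal_iff.mpr e)
  have hne' : P.pairingIn ℤ j i ≠ 0 := fun e => hne (Roots36.pairingIn_eq_zero_symm e)
  apply mul_left_cancel₀ (mul_ne_zero hne hne')
  linear_combination -(Roots36.len P.flip i * P.pairingIn ℤ i j) * h1 - (Roots36.len P j * P.pairingIn ℤ i j) * h2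

end Groth.Agent.S5487
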