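import Groth.Statements.S5489
import Groth.Agent.Roots36.Combi
import Groth.Agent.Roots36.Exists

set_option autoImplicit false
open RootD

namespace Groth.Agent.S5489

/-- If a root α, distinct from roots α_1, ..., α_n, is a non-negative rational combination of them, then
some α_l with non-zero coefficient has (α^v, α_l) > 0 and α - α_l a root. -/
theorem result {ι M N : Type*} [AddCommGroup M] [AddCommGroup N]
    (P : RootPairing ι ℤ M N) [Finite ι] {n : ℕ} (a : Fin n → ι) (m : Fin n → ℕ)
    (k : ι) (hne : ∀ l, a l ≠ k) (c : ℕ) (hc : 0 < c) (hk : c • P.root k = ∑ l, m l • P.root (a l)) :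
    ∃ l : Fin n, m l ≠ 0 ∧ 0 < P.pairing (a l) k ∧ P.root k - P.root (a l) ∈ Set.range P.root := by
  have := Fintype.ofFinite ι
  classical
  have h2 : (c : ℤ) * 2 = ∑ l, (m l : ℤ) * P.pairing (a l) k := by
    have h := congrArg (P.coroot' k) hk
    simpa [map_sum, map_nsmul, P.root_coroot'_eq_pairing] using h
  obtain ⟨l, -, hl⟩ : ∃ l ∈ Finset.univ, 0 < (m l : ℤ) * P.pairing (a l) k := by
    by_contra hcon
    push Not at hcon
    have := Finset.sum_nonpos hcon
    lia
  have hml : 0 < (m l : ℤ) := by
    rcases Nat.eq_zero_or_pos (m l) with e | e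
    · simp [e] at hl
    · exact_mod_cast e
  have hp := (mul_pos_iff_of_pos_left hml).mp hl
  have hint : 0 < P.pairingIn ℤ (a l) k := by rw [Roots36.pairing_eq_cast] at hp; simpa using hp
  obtain ⟨j, hj⟩ := Roots36.sub_root_mem (Roots36.pairingIn_pos_symm hint) (Ne.symm (hne l))
  exact ⟨l, by exact_mod_cast hml.ne', hp, j, hj⟩

end Groth.Agent.S5489
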