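import Groth.Statements.S5491
import Groth.Agent.Roots36.Combi
import Groth.Agent.Roots36.Exists

set_option autoImplicit false
open RootD

namespace Groth.Agent.S5491

open Classical in
/-- With ρ^v the half-sum of the positive coroots, the order (height) of any root α relative to the
simple system equals (ρ^v, α); equivalently 2·height(α) = Σ_{β > 0} (β^v, α). -/
theorem result {ι M N : Type*} [AddCommGroup M] [AddCommGroup N]
    (P : RootPairing ι ℤ M N) [Finite ι] [Fintype ι] [P.IsReduced] (b : P.Base) (i : ι) :
    2 * b.height i = ∑ j, if b.IsPos j then P.pairing i j else 0 := by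
  classical
  have hΔ := Roots36.base_isSimpleSys b
  have hind : ∀ j, RootD.IsIndiv P j := fun j k hk => by
    have := Roots36.isAddTorsionFree_M P
    refine RootPairing.nsmul_notMem_range_root (n := 2) (P := P) (i := k) ⟨j, ?_⟩
    rw [← hk, ← natCast_zsmul]
    norm_num
  have e : (∑ j, if b.IsPos j then P.pairing i j else 0) =
      ∑ k ∈ Finset.univ.filter (fun k => k ∈ RootD.posOf P (b.support : Set ι) ∧ RootD.IsIndiv P k),
        P.pairingIn ℤ i k := by
    rw [Finset.sum_filter]
    refine Finset.sum_congr rfl fun k _ => ?_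
    simp [Roots36.isPos_iff_posOf, hind k, Roots36.pairing_eq_cast]
  rw [e, Finset.sum_congr rfl fun k _ => Roots36.pairingIn_eq_sum hΔ i k, Finset.sum_comm,
    Roots36.height_eq_ht, Roots36.ht, Finset.mul_sum]
  refine Finset.sum_congr rfl fun l _ => ?_
  rw [← Finset.mul_sum]
  by_cases hl : l ∈ (b.support : Set ι)
  · rw [(Roots36.sum_pairingIn_indiv_posOf hΔ hl).2, mul_comm]
  · simp [Roots36.coef_eq_zero hΔ hl]

end Groth.Agent.S5491
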