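import Groth.Statements.S5492
import Groth.Agent.Roots36.PosSys

set_option autoImplicit false
open RootD

namespace Groth.Agent.S5492

/-- Off-diagonal entries of the Cartan matrix of a system of simple roots are non-positive: (α^v, β) ≤ 0
for distinct simple roots α, β. -/
theorem result {ι M N : Type*} [AddCommGroup M] [AddCommGroup N]
    (P : RootPairing ι ℤ M N) [Finite ι] (Δ : Set ι) (hΔ : RootD.IsSimpleSys P Δ) (i j : ι)
    (hi : i ∈ Δ) (hj : j ∈ Δ) (hij : i ≠ j) : P.pairing j i ≤ 0 := by
  have := Fintype.ofFinite ι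
  have h : P.pairingIn ℤ j i ≤ 0 := by
    by_contra hc
    obtain ⟨k, hk⟩ := Roots36.sub_root_mem (lt_of_not_ge hc) (Ne.symm hij)
    have he : Roots36.coef hΔ k = Roots36.coef hΔ j - Roots36.coef hΔ i :=
      Roots36.coef_eq hΔ (fun l hl => by simp [Roots36.coef_eq_zero hΔ hl])
        (by rw [Roots36.comb_sub, ← Roots36.root_eq_comb hΔ, ← Roots36.root_eq_comb hΔ, hk])
    rw [Roots36.coef_simple hΔ hi, Roots36.coef_simple hΔ hj] at he
    rcases Roots36.coef_sign hΔ k with hs | hs
    · have := hs i; rw [he] at this; simp [hij] at this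
    · have := hs j; rw [he] at this; simp [Ne.symm hij] at this
  rw [Roots36.pairing_eq_cast]
  simpa using h

end Groth.Agent.S5492
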