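import Groth.Statements.S5494
import Groth.Agent.Roots36.Combi
import Groth.Agent.Roots36.Exists

set_option autoImplicit false
open RootD

namespace Groth.Agent.S5494

/-- If a system of simple roots has no partition into two non-empty orthogonal subsets, then any two
roots are linked by a chain of roots with consecutive members non-orthogonal. -/
theorem result {ι M N : Type*} [AddCommGroup M] [AddCommGroup N]
    (P : RootPairing ι ℤ M N) [Finite ι] (Δ : Set ι) (hΔ : RootD.IsSimpleSys P Δ)
    (hconn : ∀ Δ' : Set ι, Δ' ⊆ Δ → (∀ i ∈ Δ', ∀ j ∈ Δ \ Δ', P.IsOrthogonal i j) → Δ' = ∅ ∨ Δ' = Δ)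
    (i j : ι) : Relation.ReflTransGen (fun a b : ι => ¬ P.IsOrthogonal a b) i j := by
  have := Fintype.ofFinite ι
  classical
  have key : ∀ k, ∃ d ∈ Δ, Roots36.Linked P k d := by
    intro k
    obtain ⟨d, hd⟩ : ∃ d, Roots36.coef hΔ k d * P.pairingIn ℤ d k ≠ 0 := by
      by_contra hn
      push Not at hn
      have := Roots36.pairingIn_eq_sum hΔ k k
      simp [Finset.sum_eq_zero fun d _ => hn d] at this
    have hdΔ : d ∈ Δ := by
      by_contra hn; exact hd (by rw [Roots36.coef_eq_zero hΔ hn, zero_mul])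
    exact ⟨d, hdΔ, Roots36.linked_symm (Roots36.linked_step (right_ne_zero_of_mul hd))⟩
  have conn : ∀ d ∈ Δ, ∀ e ∈ Δ, Roots36.Linked P d e := by
    intro d hd e he
    rcases hconn {x | x ∈ Δ ∧ Roots36.Linked P d x} (fun x hx => hx.1)
      (fun x hx y hy => by
        by_contra hno
        exact hy.2 ⟨hy.1, Relation.ReflTransGen.tail hx.2 hno⟩) with h | h
    · have : d ∈ ({x | x ∈ Δ ∧ Roots36.Linked P d x} : Set ι) := ⟨hd, Relation.ReflTransGen.refl⟩
      rw [h] at this; exact this.elim
    · have : e ∈ ({x | x ∈ Δ ∧ Roots36.Linked P d x} : Set ι) := by rw [h]; exact he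
      exact this.2
  obtain ⟨d, hd, h1⟩ := key i
  obtain ⟨e, he, h2⟩ := key j
  exact (h1.trans (conn d hd e he)).trans (Roots36.linked_symm h2)

end Groth.Agent.S5494
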