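import Groth.Statements.S5495
import Groth.Agent.Roots36.Combi
import Groth.Agent.Roots36.Exists

set_option autoImplicit false
open RootD

namespace Groth.Agent.S5495

/-- If α is an indivisible root and kα is a root for a rational k, then k is an integer. -/
theorem result {ι M N : Type*} [AddCommGroup M] [AddCommGroup N]
    (P : RootPairing ι ℤ M N) [Finite ι] (i j : ι) (hind : RootD.IsIndiv P i) (a b : ℤ) (hb : b ≠ 0)
    (h : b • P.root j = a • P.root i) : b ∣ a := by
  have := Fintype.ofFinite ι
  classical
  have hdep : ¬ LinearIndependent ℤ ![P.root i, P.root j] := fun hli => by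
    have := LinearIndependent.pair_iff.mp hli a (-b) (by rw [neg_smul, h, add_neg_cancel])
    exact hb (neg_eq_zero.mp this.2)
  rcases Roots36.proportional_cases hdep with H | H | H | H | H | H
  · rw [H] at h; exact ⟨1, by rw [Roots36.zsmul_root_inj P h.symm]; ring⟩
  · rw [H, smul_neg, ← neg_smul] at h; exact ⟨-1, by rw [Roots36.zsmul_root_inj P h.symm]; ring⟩
  · rw [H, smul_smul] at h; exact ⟨2, Roots36.zsmul_root_inj P h.symm⟩
  · rw [H, smul_smul] at h; exact ⟨-2, Roots36.zsmul_root_inj P h.symm⟩
  · exact absurd H.symm (hind j)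
  · exact absurd (by rw [Roots36.root_neg, smul_neg, H, neg_smul]) (hind (Roots36.neg P j))

end Groth.Agent.S5495
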