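import Groth.Statements.S5496
import Groth.Agent.Roots36.Coxeter
import Groth.Agent.Roots36.Exists
import Mathlib.GroupTheory.SpecificGroups.Dihedral

set_option autoImplicit false
open RootPairing
open scoped Pointwise
open RootD

namespace Groth.Agent.S5496

/-- For non-proportional roots α, β let n be the least integer n > 0 with (s_α s_β)^n(α) = α and (s_α
s_β)^n(β) = β. Then the subgroup W_{α,β} generated by s_α and s_β is presented by s_α² = s_β² = (s_α
s_β)^n = 1; equivalently it has exactly 2n elements. -/
theorem result {ι M N : Type*} [AddCommGroup M] [AddCommGroup N]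
    (P : RootPairing ι ℤ M N) [Finite ι] (i j : ι) (hli : LinearIndependent ℤ ![P.root i, P.root j])
    (n : ℕ) (hn : IsLeast {m : ℕ | 0 < m ∧ ((Equiv.reflection P i * Equiv.reflection P j) ^ m) • i = i ∧
      ((Equiv.reflection P i * Equiv.reflection P j) ^ m) • j = j} n) :
    Nat.card (Subgroup.closure ({Equiv.reflection P i, Equiv.reflection P j} : Set P.Aut)) = 2 * n := by
  have := Fintype.ofFinite ι
  classical
  set a := Equiv.reflection P i
  set b := Equiv.reflection P j
  set c := a * b
  have ha : a * a = 1 := Roots36.reflection_sq i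
  have hb : b * b = 1 := Roots36.reflection_sq j
  obtain ⟨⟨hn0, hni, hnj⟩, hleast⟩ := hn
  have h4 : P.pairingIn ℤ i j * P.pairingIn ℤ j i ≠ 4 := by
    have := Roots36.isTorsionFree_M P
    have := Roots36.isTorsionFree_N P
    exact fun h => (P.coxeterWeightIn_eq_four_iff_not_linearIndependent ℤ).mp h hli
  have hmove : ∀ g ∈ Subgroup.closure ({a, b} : Set P.Aut), ∀ m : M, ∃ A B : ℤ,
      g • m - m = A • P.root i + B • P.root j := by
    intro g hg
    induction hg using Subgroup.closure_induction with
    | mem x hx =>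
      intro m
      rcases hx with rfl | rfl
      · exact ⟨-P.coroot' i m, 0, by
          rw [RootPairing.Equiv.reflection_smul, RootPairing.reflection_apply]; simp⟩
      · exact ⟨0, -P.coroot' j m, by
          rw [RootPairing.Equiv.reflection_smul, RootPairing.reflection_apply]; simp⟩
    | one => exact fun m => ⟨0, 0, by simp⟩
    | mul x y _ _ hx hy =>
      intro m
      obtain ⟨A, B, h⟩ := hy m
      obtain ⟨A', B', h'⟩ := hx (y • m)
      refine ⟨A + A', B + B', ?_⟩
      rw [mul_smul, ← sub_add_sub_cancel _ (y • m), h, h']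
      module
    | inv x _ hx =>
      intro m
      obtain ⟨A, B, h⟩ := hx (x⁻¹ • m)
      refine ⟨-A, -B, ?_⟩
      rw [smul_inv_smul] at h
      rw [← neg_sub, h]
      module
  have hfix : c ^ n = 1 := by
    refine Roots36.aut_ext fun m => ?_
    obtain ⟨A, B, h⟩ := hmove (c ^ n) (pow_mem (mul_mem (Subgroup.subset_closure (by simp))
      (Subgroup.subset_closure (by simp))) n) m
    have hz : ∀ k, (c ^ n) • k = k → A * P.pairingIn ℤ i k + B * P.pairingIn ℤ j k = 0 := by
      intro k hk
      have := congrArg (P.coroot' k) h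
      rw [map_sub, map_add, map_zsmul, map_zsmul] at this
      conv_lhs at this => enter [1, 1]; rw [← hk]
      rw [Roots36.coroot'_smul, sub_self, RootPairing.root_coroot'_eq_pairing,
        RootPairing.root_coroot'_eq_pairing] at this
      simpa [Roots36.pairing_eq_cast] using this.symm
    have h1 := hz i hni
    have h2 := hz j hnj
    rw [Roots36.pairingIn_self] at h1 h2
    have hA : A * (4 - P.pairingIn ℤ i j * P.pairingIn ℤ j i) = 0 := by
      linear_combination 2 * h1 - P.pairingIn ℤ j i * h2
    have hA0 : A = 0 := (mul_eq_zero.mp hA).resolve_right (sub_ne_zero.mpr h4.symm)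
    have hB0 : B = 0 := by rw [hA0] at h2; lia
    rw [hA0, hB0, zero_smul, zero_smul, add_zero, sub_eq_zero] at h
    rw [h, one_smul]
  have hord : orderOf c = n := by
    refine le_antisymm (Nat.le_of_dvd hn0 (orderOf_dvd_of_pow_eq_one hfix)) (hleast ⟨?_, ?_, ?_⟩)
    · exact orderOf_pos_iff.mpr (isOfFinOrder_iff_pow_eq_one.mpr ⟨n, hn0, hfix⟩)
    all_goals rw [pow_orderOf_eq_one, one_smul]
  have hne1 : ∀ k : ι, Equiv.reflection P k ≠ (1 : P.Aut) := by
    intro k h
    have := congrArg (fun g : P.Aut => g • P.root k) h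
    simp only [one_smul, RootPairing.Equiv.reflection_smul, RootPairing.reflection_apply_self] at this
    refine P.ne_zero k (Roots36.zsmul_cancel P two_ne_zero ?_)
    rw [smul_zero, two_smul]
    exact neg_eq_iff_add_eq_zero.mp this
  have hnotr : ∀ z : ℤ, c ^ z ≠ a := by
    intro z hz
    have hc := Commute.zpow_self c z
    rw [hz] at hc
    have h3 : b = a * b * a := by
      have h1 := hc.eq
      rwa [show a * c = b from by rw [← mul_assoc, ha, one_mul]] at h1
    have hsq : c ^ (2 : ℤ) = 1 := by
      rw [zpow_two, show c * c = a * b * a * b from (mul_assoc _ _ _).symm, ← h3, hb]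
    rcases Int.even_or_odd' z with ⟨m, rfl | rfl⟩
    · rw [zpow_mul, hsq, one_zpow] at hz
      exact hne1 i hz.symm
    · rw [zpow_add, zpow_mul, hsq, one_zpow, one_mul, zpow_one] at hz
      exact hne1 j (mul_eq_left.mp hz)
  have : NeZero n := ⟨hn0.ne'⟩
  let F : DihedralGroup n → P.Aut := fun g => match g with
    | .r k => c ^ (k.val : ℤ)
    | .sr k => c ^ (k.val : ℤ) * a
  have hmod : ∀ z : ℤ, c ^ z = c ^ ((z : ZMod n).val : ℤ) := fun z => by
    rw [ZMod.val_intCast, ← hord, zpow_mod_orderOf]
  have hinjc : ∀ k l : ZMod n, c ^ (k.val : ℤ) = c ^ (l.val : ℤ) → k = l := by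
    intro k l h
    simp only [zpow_natCast] at h
    exact ZMod.val_injective n (pow_injOn_Iio_orderOf (x := c)
      (by rw [Set.mem_Iio, hord]; exact ZMod.val_lt k) (by rw [Set.mem_Iio, hord]; exact ZMod.val_lt l) h)
  have hinj : Function.Injective F := by
    rintro (k | k) (l | l) h <;> simp only [F] at h
    · rw [hinjc k l h]
    · refine absurd ?_ (hnotr (-(l.val : ℤ) + (k.val : ℤ)))
      rw [zpow_add, h, ← mul_assoc, zpow_neg, inv_mul_cancel, one_mul]
    · refine absurd ?_ (hnotr (-(k.val : ℤ) + (l.val : ℤ)))
      rw [zpow_add, ← h, ← mul_assoc, zpow_neg, inv_mul_cancel, one_mul]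
    · rw [hinjc k l (mul_right_cancel h)]
  have hrange : Set.range F = (Subgroup.closure ({a, b} : Set P.Aut) : Set P.Aut) := by
    refine Set.Subset.antisymm ?_ fun g hg => ?_
    · have hca : c ∈ Subgroup.closure ({a, b} : Set P.Aut) :=
        mul_mem (Subgroup.subset_closure (by simp)) (Subgroup.subset_closure (by simp))
      rintro _ ⟨k | k, rfl⟩
      · exact zpow_mem hca _
      · exact mul_mem (zpow_mem hca _) (Subgroup.subset_closure (by simp))
    · obtain ⟨v, hv, rfl⟩ : ∃ v : List P.Aut, (∀ x ∈ v, x = a ∨ x = b) ∧ v.prod = g := by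
        induction hg using Subgroup.closure_induction with
        | mem x hx => exact ⟨[x], by simpa using hx, by simp⟩
        | one => exact ⟨[], by simp, rfl⟩
        | mul x y _ _ hx hy =>
          obtain ⟨v, hv, rfl⟩ := hx
          obtain ⟨w, hw, rfl⟩ := hy
          exact ⟨v ++ w, fun z hz => (List.mem_append.mp hz).elim (hv z) (hw z), List.prod_append⟩
        | inv x _ hx =>
          obtain ⟨v, hv, rfl⟩ := hx
          refine ⟨v.reverse, fun z hz => hv z (List.mem_reverse.mp hz), ?_⟩
          rw [List.prod_inv_reverse, List.map_congr_left (g := id) (fun z hz => by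
            rcases hv z hz with rfl | rfl
            · exact inv_eq_of_mul_eq_one_right ha
            · exact inv_eq_of_mul_eq_one_right hb), List.map_id]
      obtain ⟨z, h | h⟩ := Roots36.involution_word_form ha hb hv
      · exact ⟨.r (z : ZMod n), by rw [h]; exact (hmod z).symm⟩
      · exact ⟨.sr (z : ZMod n), by rw [h]; exact congrArg (· * a) (hmod z).symm⟩
  have e : Nat.card (Set.range F) = Nat.card (DihedralGroup n) := Nat.card_range_of_injective hinj
  rw [hrange] at e
  exact e.trans DihedralGroup.nat_card

end Groth.Agent.S5496
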