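import Groth.Statements.S5499
import Groth.Agent.Roots36.Ratio
import Groth.Agent.S5465

set_option autoImplicit false
open RootD

namespace Groth.Agent.S5499

/-- For an irreducible datum, where long(α) = ℓ(α)/ℓ(α₀) with ℓ(α₀) minimal: there is a unique
homomorphism u : Γ_0(R) → M^v with u(α) = long(α) α^v for every root α. -/
theorem result {ι M N : Type*} [AddCommGroup M] [AddCommGroup N]
    (P : RootPairing ι ℤ M N) [Finite ι] [Fintype ι]
    (hirr : ∀ R' : Set ι, RootD.IsClosedSub P R' → RootD.IsSymmSub P R' → RootD.IsClosedSub P R'ᶜ →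
      RootD.IsSymmSub P R'ᶜ → R' = ∅ ∨ R' = Set.univ)
    (i₀ : ι) (hmin : ∀ i : ι, P.RootForm (P.root i₀) (P.root i₀) ≤ P.RootForm (P.root i) (P.root i)) :
    ∃! u : Submodule.span ℤ (Set.range P.root) →+ N, ∀ i : ι,
      u ⟨P.root i, Submodule.subset_span (Set.mem_range_self i)⟩ =
        (P.RootForm (P.root i) (P.root i) / P.RootForm (P.root i₀) (P.root i₀)) • P.coroot i := by
  classical
  have hlen : ∀ x, P.RootForm (P.root x) (P.root x) = Roots36.len P x := fun x => by
    rw [← Roots36.cast_len]; rfl
  have hd := Roots36.dvd_len_of_min hirr (i₀ := i₀) (fun i => by simpa [hlen] using hmin i)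
  refine S5465.result P
    (fun i => (P.RootForm (P.root i) (P.root i) / P.RootForm (P.root i₀) (P.root i₀)) • P.coroot i)
    (fun i => ?_) (fun i j k h => ?_)
  · simp [RootPairing.coroot_reflectionPerm, RootPairing.coreflection_apply_self]
  · have := Roots36.isTorsionFree_N P
    apply smul_right_injective N (Roots36.len_pos' (P := P) i₀).ne'
    have key : ∀ x, Roots36.len P i₀ • ((P.RootForm (P.root x) (P.root x) /
        P.RootForm (P.root i₀) (P.root i₀)) • P.coroot x) = 2 • P.Polarization (P.root x) := fun x => by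
      rw [smul_smul, hlen, hlen, Int.mul_ediv_cancel' (hd x), ← hlen, P.rootForm_self_smul_coroot]
    dsimp only
    rw [smul_add, key, key, key, h, map_add, smul_add]

end Groth.Agent.S5499
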