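import Groth.Statements.S5500
import Groth.Agent.Roots36.Combi

set_option autoImplicit false
open RootD

namespace Groth.Agent.S5500

/-- For a p-morphism between irreducible reduced root data there is a rational constant k with k ·
long(u(α)) = q(α)² · long(α) for every root α; stated as the proportionality q(α)² ℓ(α) ℓ'(u β) =
q(β)² ℓ(β) ℓ'(u α) of the canonical quadratic forms. -/
theorem result {ι M N ι' M' N' : Type*} [AddCommGroup M] [AddCommGroup N] [AddCommGroup M'] [AddCommGroup N']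
    (P : RootPairing ι ℤ M N) (P' : RootPairing ι' ℤ M' N') [Finite ι] [Finite ι'] [Fintype ι] [Fintype ι'] [P.IsReduced] [P'.IsReduced]
    (hirr : ∀ R₁ : Set ι, RootD.IsClosedSub P R₁ → RootD.IsSymmSub P R₁ → RootD.IsClosedSub P R₁ᶜ →
      RootD.IsSymmSub P R₁ᶜ → R₁ = ∅ ∨ R₁ = Set.univ)
    (hirr' : ∀ R₁ : Set ι', RootD.IsClosedSub P' R₁ → RootD.IsSymmSub P' R₁ → RootD.IsClosedSub P' R₁ᶜ →
      RootD.IsSymmSub P' R₁ᶜ → R₁ = ∅ ∨ R₁ = Set.univ)
    (p : ℕ) (hp : 0 < p) (f : M' →ₗ[ℤ] M) (g : N →ₗ[ℤ] N')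
    (hfg : ∀ (m' : M') (n : N), P.toLinearMap (f m') n = P'.toLinearMap m' (g n))
    (u : ι ≃ ι') (q : ι → ℕ) (hq : ∀ i, ∃ e : ℕ, q i = p ^ e)
    (hroot : ∀ i : ι, f (P'.root (u i)) = (q i : ℤ) • P.root i)
    (hcoroot : ∀ i : ι, g (P.coroot i) = (q i : ℤ) • P'.coroot (u i)) (i j : ι) :
    ((q i : ℤ) ^ 2 * P.RootForm (P.root i) (P.root i)) * P'.RootForm (P'.root (u j)) (P'.root (u j)) =
      ((q j : ℤ) ^ 2 * P.RootForm (P.root j) (P.root j)) * P'.RootForm (P'.root (u i)) (P'.root (u i)) := by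
  classical
  have hlen : ∀ x, P.RootForm (P.root x) (P.root x) = Roots36.len P x := fun x => by
    rw [← Roots36.cast_len]; rfl
  have hlen' : ∀ x, P'.RootForm (P'.root x) (P'.root x) = Roots36.len P' x := fun x => by
    rw [← Roots36.cast_len]; rfl
  simp only [hlen, hlen']
  have hq0 : ∀ x, (q x : ℤ) ≠ 0 := fun x => by
    obtain ⟨e, he⟩ := hq x
    simp [he, hp.ne']
  have hkey : ∀ a b, (q a : ℤ) * P.pairingIn ℤ a b = q b * P'.pairingIn ℤ (u a) (u b) := fun a b => by
    have := hfg (P'.root (u a)) (P.coroot b)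
    rw [hroot, hcoroot, map_smul, map_smul, LinearMap.smul_apply] at this
    simp only [smul_eq_mul] at this
    change (q a : ℤ) * P.pairing a b = q b * P'.pairing (u a) (u b) at this
    simpa [Roots36.pairing_eq_cast] using this
  induction Roots36.linked_of_irreducible (P := P) hirr i j with
  | refl => rfl
  | @tail b c _ hbc ih =>
    have hne : P.pairingIn ℤ b c ≠ 0 := fun h => hbc (Roots36.isOrthogonal_iff.mpr h)
    have hne' : P'.pairingIn ℤ (u b) (u c) ≠ 0 := fun h => by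
      have := hkey b c
      rw [h, mul_zero] at this
      exact hne ((mul_eq_zero.mp this).resolve_left (hq0 b))
    have hne'' : P'.pairingIn ℤ (u c) (u b) ≠ 0 := fun h => hne' (Roots36.pairingIn_eq_zero_symm h)
    have h1 := Roots36.len_mul_pairingIn (P := P) b c
    have h2 := Roots36.len_mul_pairingIn (P := P') (u b) (u c)
    have k1 := hkey b c
    have k2 := hkey c b
    have step : (q b : ℤ) ^ 2 * Roots36.len P b * Roots36.len P' (u c) =
        (q c : ℤ) ^ 2 * Roots36.len P c * Roots36.len P' (u b) := by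
      apply mul_left_cancel₀ (mul_ne_zero hne' hne'')
      linear_combination
        ((q b : ℤ) ^ 2 * Roots36.len P b * P'.pairingIn ℤ (u c) (u b) -
          (0 : ℤ)) * h2 +
        (q b : ℤ) * Roots36.len P' (u b) * P'.pairingIn ℤ (u c) (u b) *
          (Roots36.len P b * (-k2) + (0 : ℤ) * k1) -
        (q b : ℤ) * q c * Roots36.len P' (u b) * P'.pairingIn ℤ (u c) (u b) * h1 +
        (q c : ℤ) * Roots36.len P c * Roots36.len P' (u b) * P'.pairingIn ℤ (u c) (u b) * k1
    have hb0 : (q b : ℤ) ^ 2 * Roots36.len P b ≠ 0 :=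
      mul_ne_zero (pow_ne_zero 2 (hq0 b)) (Roots36.len_pos' b).ne'
    apply mul_left_cancel₀ hb0
    linear_combination ((q c : ℤ) ^ 2 * Roots36.len P c) * ih +
      ((q i : ℤ) ^ 2 * Roots36.len P i) * step

end Groth.Agent.S5500
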