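import Groth.Statements.S5501
import Groth.Agent.Roots36.Rank
import Mathlib.LinearAlgebra.RootSystem.Hom

set_option autoImplicit false
universe u v w
open RootD

namespace Groth.Agent.S5501

/-- Adjoint case; the simply connected case is dual: a semisimple root datum R is adjoint if and only if
every isogeny R' → R is an isomorphism. -/
theorem result {ι : Type u} {M : Type v} {N : Type w} [AddCommGroup M] [AddCommGroup N]
    (P : RootPairing ι ℤ M N) [Finite ι] [Module.Finite ℤ M] [Module.Finite ℤ N]
    (hss : Module.finrank ℤ (Submodule.span ℤ (Set.range P.root)) = Module.finrank ℤ M) :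
    Submodule.span ℤ (Set.range P.root) = ⊤ ↔
      ∀ (ι' : Type u) (M' N' : Type v) [AddCommGroup M'] [AddCommGroup N'] [Finite ι']
        [Module.Finite ℤ M'] [Module.Finite ℤ N'] (P' : RootPairing ι' ℤ M' N') (f : RootPairing.Hom P' P),
        Function.Injective f.weightMap → Finite (M ⧸ LinearMap.range f.weightMap) →
          Function.Bijective f.weightMap := by
  have := Fintype.ofFinite ι
  classical
  constructor
  · intro htop ι' M' N' _ _ _ _ _ P' f hinj _
    refine ⟨hinj, LinearMap.range_eq_top.mp (eq_top_iff.mpr (htop ▸ Submodule.span_le.mpr ?_))⟩
    rintro _ ⟨i, rfl⟩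
    exact ⟨P'.root (f.indexEquiv.symm i),
      by rw [RootPairing.Hom.root_weightMap_apply, Equiv.apply_symm_apply]⟩
  · intro h
    have := Roots36.isTorsionFree_M P
    have := Roots36.free_M P
    let M' := Submodule.span ℤ (Set.range P.root)
    let root' : ι ↪ M' := ⟨fun i => ⟨P.root i, Submodule.subset_span (Set.mem_range_self i)⟩,
      fun i j e => P.root.injective (congrArg Subtype.val e)⟩
    let res : N →ₗ[ℤ] Module.Dual ℤ M' := M'.subtype.dualMap ∘ₗ P.toLinearMap.flip
    have hres : ∀ (n : N) (x : M'), res n x = P.toLinearMap (x : M) n := fun _ _ => rfl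
    let P' : RootPairing ι ℤ M' (Module.Dual ℤ M') :=
      { toLinearMap := Module.Dual.eval ℤ M'
        root := root'
        coroot := ⟨fun i => res (P.coroot i), fun i j e => by
          refine P.coroot.injective ?_
          by_contra hne
          have hk : ∀ k, P.pairing k i = P.pairing k j := fun k =>
            LinearMap.congr_fun e (root' k)
          have hki := hk i
          have hkj := hk j
          rw [RootPairing.pairing_same] at hki hkj
          simp only [Roots36.pairing_eq_cast, Int.cast_id] at hki hkj hk
          have h2 : P.pairingIn ℤ i j = 2 ∧ P.pairingIn ℤ j i = 2 := ⟨hki.symm, hkj⟩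
          exact hne (congrArg P.coroot (P.root.injective ((P.pairingIn_two_two_iff ℤ i j).mp h2 ▸ rfl)))⟩
        root_coroot_two := fun i => P.root_coroot_two i
        reflectionPerm := P.reflectionPerm
        reflectionPerm_root := fun i j => Subtype.ext (P.reflectionPerm_root i j)
        reflectionPerm_coroot := fun i j => by
          have := congrArg res (P.reflectionPerm_coroot i j)
          rw [map_sub, map_smul] at this
          exact this }
    let f : RootPairing.Hom P' P :=
      { weightMap := M'.subtype
        coweightMap := res
        indexEquiv := _root_.Equiv.refl ι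
        weight_coweight_transpose := rfl
        root_weightMap := rfl
        coroot_coweightMap := rfl }
    have hfin : Finite (M ⧸ LinearMap.range f.weightMap) := by
      have e : LinearMap.range f.weightMap = M' := Submodule.range_subtype _
      rw [e]
      exact Submodule.finiteQuotientOfFreeOfRankEq M' hss
    have hb := h ι M' (Module.Dual ℤ M') P' f Subtype.val_injective hfin
    refine eq_top_iff.mpr fun m _ => ?_
    obtain ⟨x, hx⟩ := hb.2 m
    exact hx ▸ x.2

end Groth.Agent.S5501
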