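import Groth.Statements.S5502
import Groth.Agent.Roots36.Dual

set_option autoImplicit false
open RootD

namespace Groth.Agent.S5502

/-- If β = Σ_{α ∈ Δ} a_α α along a system of simple roots Δ, then ℓ(β) divides 2 a_α ℓ(α), and 2ℓ(β)
divides it when α^v is indivisible (ℓ the canonical quadratic form). -/
theorem result {ι M N : Type*} [AddCommGroup M] [AddCommGroup N]
    (P : RootPairing ι ℤ M N) [Finite ι] [Fintype ι] (Δ : Set ι) (hΔ : RootD.IsSimpleSys P Δ)
    (k : ι) (c : ι →₀ ℤ) (hc : ↑c.support ⊆ Δ) (hck : Finsupp.linearCombination ℤ P.root c = P.root k)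
    (i : ι) (hi : i ∈ Δ) :
    P.RootForm (P.root k) (P.root k) ∣ 2 * c i * P.RootForm (P.root i) (P.root i) ∧
      (RootD.IsIndiv P.flip i → 2 * P.RootForm (P.root k) (P.root k) ∣ 2 * c i * P.RootForm (P.root i) (P.root i)) := by
  classical
  have hlen : ∀ x, P.RootForm (P.root x) (P.root x) = Roots36.len P x := fun x => by
    rw [← Roots36.cast_len]; rfl
  rw [hlen, hlen]
  have hcc : Roots36.coef hΔ k = ⇑c := by
    refine Roots36.coef_eq hΔ (fun j hj => by_contra fun h => hj (hc (Finsupp.mem_support_iff.mpr h))) ?_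
    rw [← hck, Finsupp.linearCombination_apply,
      Finsupp.sum_fintype _ (fun i a => a • P.root i) (fun _ => zero_smul ℤ _)]
    rfl
  have hF := Roots36.isSimpleSys_flip hΔ
  let d := Roots36.coef hF k
  let E : ι → ℤ := ∑ x ∈ Finset.univ.filter (· ∈ Δ),
    Pi.single (Roots36.halfIdx P x) (c x * Roots36.len P x * Roots36.halfFac P x)
  have hE : ∀ l ∉ Roots36.halfIdx P '' Δ, E l = 0 := fun l hl => by
    simp only [E, Finset.sum_apply]
    refine Finset.sum_eq_zero fun x hx => Pi.single_eq_of_ne (fun e => hl ?_) _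
    exact ⟨x, (Finset.mem_filter.mp hx).2, e.symm⟩
  have heq : Roots36.comb P.flip (Roots36.len P k • d) = Roots36.comb P.flip E := by
    rw [Roots36.comb_smul, ← Roots36.root_eq_comb hF k]
    change Roots36.len P k • P.coroot k = _
    rw [Roots36.len_smul_coroot_eq_sum hΔ k, hcc]
    have hadd : ∀ (s : Finset ι) (v : ι → ι → ℤ),
        Roots36.comb P.flip (∑ x ∈ s, v x) = ∑ x ∈ s, Roots36.comb P.flip (v x) := fun s v => by
      induction s using Finset.induction_on with
      | empty => simp
      | insert a s ha ih => rw [Finset.sum_insert ha, Finset.sum_insert ha, Roots36.comb_add, ih]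
    rw [hadd, Finset.sum_filter]
    refine Finset.sum_congr rfl fun x _ => ?_
    split_ifs with hx
    · rw [Roots36.comb_single]
      change _ = _ • P.coroot (Roots36.halfIdx P x)
      conv_lhs => rw [(Roots36.half_spec hΔ hx).2.1, smul_smul]
    · rw [show c x = 0 from by_contra fun h => hx (hc (Finsupp.mem_support_iff.mpr h)), zero_mul, zero_smul]
  have h1 := congrFun (Roots36.comb_inj hF (fun l hl => by simp [d, Roots36.coef_eq_zero hF hl]) hE heq)
    (Roots36.halfIdx P i)
  have h2 : E (Roots36.halfIdx P i) = c i * Roots36.len P i * Roots36.halfFac P i := by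
    simp only [E, Finset.sum_apply]
    rw [Finset.sum_eq_single i]
    · rw [Pi.single_eq_same]
    · intro x hx hxi
      exact Pi.single_eq_of_ne (fun e => hxi (Roots36.halfIdx_injOn hΔ (Finset.mem_filter.mp hx).2 hi e.symm)) _
    · simp [hi]
  rw [h2, Pi.smul_apply, smul_eq_mul] at h1
  refine ⟨?_, fun hind => ?_⟩
  · rcases (Roots36.half_spec hΔ hi).2.2 with ⟨e, -⟩ | e <;> rw [e] at h1
    · exact ⟨2 * d (Roots36.halfIdx P i), by linarith⟩
    · exact ⟨d (Roots36.halfIdx P i), by linarith⟩
  · rw [Roots36.halfFac_eq_one hΔ hi hind] at h1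
    exact ⟨d (Roots36.halfIdx P i), by linarith⟩

end Groth.Agent.S5502
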