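import Groth.Statements.S5504
import Groth.Agent.Roots36.PosSys

set_option autoImplicit false
open RootPairing
open scoped Pointwise
open RootD

namespace Groth.Agent.S5504

/-- Stated for the group generated by the simple reflections (rather than for the abstractly presented
group): if w = s_{α_1} ⋯ s_{α_m} is a word of minimal length in the simple reflections, then w(α_m)
is a negative root. -/
theorem result {ι M N : Type*} [AddCommGroup M] [AddCommGroup N]
    (P : RootPairing ι ℤ M N) [Finite ι] (Δ : Set ι) (hΔ : RootD.IsSimpleSys P Δ)
    (l : List ι) (hl : ∀ a ∈ l, a ∈ Δ) (hne : l ≠ [])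
    (hmin : ∀ l' : List ι, (∀ a ∈ l', a ∈ Δ) →
      (l'.map fun a => Equiv.reflection P a).prod = (l.map fun a => Equiv.reflection P a).prod → l.length ≤ l'.length) :
    -P.root ((l.map fun a => Equiv.reflection P a).prod • l.getLast hne) ∈ RootD.natSpan P Δ := by
  have := Fintype.ofFinite ι
  have hd := List.dropLast_append_getLast hne
  have h := Roots36.reduced_last_not_posOf hΔ (l := l.dropLast) (i := l.getLast hne)
    (fun a ha => hl a (List.dropLast_subset l ha)) (hl _ (List.getLast_mem hne))
    (fun l' hl' he => by rw [hd] at he ⊢; exact hmin l' hl' he)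
  rw [hd] at h
  have h' := (Roots36.neg_posOf_iff hΔ).mpr h
  rw [← Roots36.root_neg]
  exact h'

end Groth.Agent.S5504
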