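import Groth.Statements.S5507
import Groth.Agent.Roots36.Form

set_option autoImplicit false
open RootD

namespace Groth.Agent.S5507

/-- For a system of simple roots Δ there are positive integers m_α (the lengths) such that the matrix
(m_α a_{α,β}) with a_{α,β} = (α^v, β) is symmetric and positive definite. -/
theorem result {ι M N : Type*} [AddCommGroup M] [AddCommGroup N]
    (P : RootPairing ι ℤ M N) [Finite ι] (Δ : Finset ι) (hΔ : RootD.IsSimpleSys P (↑Δ : Set ι)) :
    ∃ m : ↥Δ → ℤ, (∀ a, 0 < m a) ∧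
      (Matrix.of fun (a b : ↥Δ) => m a * P.pairing (b : ι) (a : ι)).IsSymm ∧
      (Matrix.of fun (a b : ↥Δ) => m a * P.pairing (b : ι) (a : ι)).PosDef := by
  have := Fintype.ofFinite ι
  classical
  refine ⟨fun a => Roots36.len P a, fun a => Roots36.len_pos' _, ?_, ?_⟩
  · ext a b
    simp [Roots36.pairing_eq_cast, Roots36.len_mul_pairingIn]
  have hsymm : (Matrix.of fun (a b : ↥Δ) => Roots36.len P a * P.pairing (b : ι) (a : ι)).IsHermitian := by
    ext a b
    simp [Roots36.pairing_eq_cast, Roots36.len_mul_pairingIn]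
  refine Matrix.PosDef.of_dotProduct_mulVec_pos hsymm fun x hx => ?_
  let c : ι → ℤ := fun i => if h : i ∈ Δ then x ⟨i, h⟩ else 0
  have hcne : c ≠ 0 := fun h => hx (funext fun a => by
    have := congrFun h (a : ι)
    simpa [c] using this)
  have hq := Roots36.quad_pos hΔ (c := c) (fun j hj => dif_neg (by simpa using hj)) hcne
  have hs : ∀ F : ι → ℤ, (∀ i ∉ Δ, F i = 0) → ∑ a, F a = ∑ a : ↥Δ, F a := fun F hF => by
    rw [Finset.sum_coe_sort Δ F]
    exact (Finset.sum_subset (Finset.subset_univ _) fun i _ hi => hF i hi).symm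
  rw [hs _ (fun i hi => Finset.sum_eq_zero fun b _ => by simp [c, hi])] at hq
  simp only [dotProduct, Matrix.mulVec, Finset.mul_sum]
  have key : ∀ a b : ↥Δ, star x a * ((Matrix.of fun (a b : ↥Δ) =>
      Roots36.len P a * P.pairing (b : ι) (a : ι)) a b * x b) =
      2 * (c a * c b * Roots36.bz P a b) := by
    intro a b
    rw [Roots36.bz_comm]
    simp [c, Roots36.pairing_eq_cast, ← Roots36.two_mul_bz]
    ring
  simp only [key, ← Finset.mul_sum]
  refine mul_pos two_pos ?_
  refine lt_of_lt_of_le hq (le_of_eq (Finset.sum_congr rfl fun a _ => ?_))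
  rw [hs _ (fun i hi => by simp [c, hi])]

end Groth.Agent.S5507
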