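import Groth.Statements.S5518
import Groth.Agent.RedPts82.SplitOrder

set_option autoImplicit false
open CategoryTheory MonoidalCategory CartesianMonoidalCategory MonObj GrpObj AlgebraicGeometry
universe u
open RedSub

namespace Groth.Agent.S5518
open Groth.Agent.RedPts82

/-- Let G be a split reductive S-group with big cell map c : Ω = G_a^{R_-} x_S T x_S G_a^{R_+} ⟶ G, and
f : Ω ⟶ H an S-morphism to an S-group scheme such that f(z) = f(x) f(y) whenever x, y, z are points
of Ω with c(z) = c(x) c(y). Then f extends uniquely to a homomorphism G ⟶ H: there is exactly one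
homomorphism of S-groups whose composite with c is f. (The published statement allows H to be any
fppf sheaf of groups.) -/
theorem result {S : Scheme.{u}} {G H : Over S} [GrpObj G] [GrpObj H] (D : Red.SplitRed G)
    (b : D.P.Base) {n m : ℕ} (eneg : Fin n → D.idx) (epos : Fin m → D.idx)
    (hneg : RedSub.Enumerates (RedSub.negRoots D.P b) eneg) (hpos : RedSub.Enumerates (RedSub.posRoots D.P b) epos)
    (f : RedSub.pow (Red.Ga S) n ⊗ (D.T ⊗ RedSub.pow (Red.Ga S) m) ⟶ H)
    (hf : ∀ (X : Over S) (x y z : X ⟶ RedSub.pow (Red.Ga S) n ⊗ (D.T ⊗ RedSub.pow (Red.Ga S) m)),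
      z ≫ RedSub.cellMap D eneg epos = (x ≫ RedSub.cellMap D eneg epos) * (y ≫ RedSub.cellMap D eneg epos) →
        z ≫ f = (x ≫ f) * (y ≫ f)) :
    ∃! g : G ⟶ H, IsMonHom g ∧ RedSub.cellMap D eneg epos ≫ g = f := by
  have := D.maximalTorus.1
  have := cellMap_isOpenImmersion D b eneg epos hneg hpos
  have hga : IsAffineHom (Red.Ga S).hom :=
    MorphismProperty.pullback_snd (P := (@IsAffineHom : MorphismProperty Scheme.{u})) _ _
      (inferInstanceAs (IsAffineHom (Spec.map (CommRingCat.ofHom (algebraMap ZU.{u}
        (SymmetricAlgebra ZU.{u} ZU.{u}))))))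
  have hpow : ∀ k, IsAffineHom (RedSub.pow (Red.Ga S) k).hom := fun k => by
    induction k with
    | zero => exact (inferInstance : IsAffineHom (𝟙 S))
    | succ k ih => exact affineHom_tensor hga ih
  refine exists_extend D.reductive
    (affineHom_tensor (hpow n) (affineHom_tensor (isTorus_isAffineHom D.maximalTorus.2.2.1) (hpow m)))
    (RedSub.cellMap D eneg epos) (fun X => ?_) f hf
  refine one_range_cell (i := D.i) (un := fun k => D.u (eneg k)) (up := fun k => D.u (epos k))
    (fun k => ?_) (fun k => ?_) inferInstance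
  · have := (D.rootHom (eneg k)).1
    rw [gaPt_zero]; exact MonObj.one_comp _
  · have := (D.rootHom (epos k)).1
    rw [gaPt_zero]; exact MonObj.one_comp _

end Groth.Agent.S5518
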