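import Groth.Statements.S5519
import Groth.Agent.RedPts82.BruhatCover

set_option autoImplicit false
open CategoryTheory MonoidalCategory CartesianMonoidalCategory MonObj GrpObj AlgebraicGeometry
universe u
open RedSub

namespace Groth.Agent.S5519

open Groth.Agent.RedPts82

/-- Let G be a split reductive S-group of semisimple rank 1 (every root is a or -a, with a positive for
the system of simple roots b), Ω ⟶ G its big cell map, and x an S-point of G_a whose coordinate
function is a unit (so u_a(x) is a section of U_a generating it). Then G = Ω ∪ u_a(x) Ω: every point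
of the underlying space of G is in the image of the big cell map or of its left translate by u_a(x). -/
theorem result {S : Scheme.{u}} {G : Over S} [GrpObj G] (D : Red.SplitRed G)
    (b : D.P.Base) {n m : ℕ} (eneg : Fin n → D.idx) (epos : Fin m → D.idx)
    (hneg : RedSub.Enumerates (RedSub.negRoots D.P b) eneg) (hpos : RedSub.Enumerates (RedSub.posRoots D.P b) epos)
    (a : D.idx) (ha : a ∈ RedSub.posRoots D.P b) (hR : ∀ c : D.idx, c = a ∨ c = D.P.reflectionPerm a a)
    (x : 𝟙_ (Over S) ⟶ Red.Ga S) (hx : IsUnit (Red.gaFn x)) (p : ↥G.left) :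
    p ∈ Set.range (RedSub.cellMap D eneg epos).left.base ∨
      p ∈ Set.range ((toUnit _ ≫ x ≫ D.u a) * RedSub.cellMap D eneg epos).left.base := by
  obtain ⟨l, hl⟩ := exists_baseChamber b
  choose nr hnr using D.refl
  have hA : ∀ c, Acts D (nr c) (RootPairing.Equiv.reflection D.P c) := fun c => acts_of_refl (hnr c)
  have haIs : b.IsPos a := (mem_posRoots_iff b a).mp ha
  have ha0 : 0 < l (D.P.root a) := (hl.pos_iff a).mpr haIs
  have hsupp : ∀ c ∈ b.support, c = a := fun c hc => by
    rcases hR c with h | h
    · exact h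
    · exfalso
      have h1 := (hl.pos_iff c).mpr (RootPairing.Base.isPos_of_mem_support hc)
      rw [h, show D.P.reflectionPerm a a = negIdx D a from rfl, root_negIdx, map_neg] at h1
      omega
  have haS : a ∈ b.support := by
    obtain ⟨c, hc, -⟩ := haIs.exists_mem_support_pos_pairingIn
    exact hsupp c hc ▸ hc
  obtain ⟨K, _, _, W, _, eK, g, q, rfl⟩ := exists_field_point (X := G) p
  obtain ⟨w, hw, u, hu, t, v, hv, hg⟩ := exists_decomp (fun c _ => hA c) hl eK g
  have hn := hA a
  have hN : ∀ L : List D.idx, (∀ c ∈ L, c = a) → (∃ τ : W ⟶ Red.DS S D.M, nword nr L W = tpt D τ) ∨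
      ∃ τ : W ⟶ Red.DS S D.M, nword nr L W = tpt D τ * np (nr a) W := by
    intro L hL
    induction L with
    | nil => exact Or.inl ⟨1, by rw [tpt_one, nword, List.map_nil, List.prod_nil, np, MonObj.comp_one]⟩
    | cons c L ih =>
      obtain rfl := hL c (by simp)
      have e : nword nr (c :: L) W = np (nr c) W * nword nr L W := by
        rw [nword, List.map_cons, List.prod_cons, np_mul]
      rcases ih (fun d hd => hL d (by simp [hd])) with ⟨τ, hτ⟩ | ⟨τ, hτ⟩
      · exact Or.inr ⟨_, by rw [e, hτ, hn.swap]⟩
      · obtain ⟨τ₂, hτ₂⟩ := (hn.mul hn).exists_torus (n' := 1) (by rw [Roots36.reflection_sq]; exact acts_one) W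
        refine Or.inl ⟨tw (RootPairing.Equiv.reflection D.P c) τ * τ₂, ?_⟩
        rw [e, hτ, ← _root_.mul_assoc, hn.swap, _root_.mul_assoc, ← np_mul, hτ₂,
          show np (1 : 𝟙_ (Over S) ⟶ G) W = 1 from MonObj.comp_one _, _root_.one_mul, tpt_mul]
  have big : ∀ {h : W ⟶ G}, InBig D l h → h.left q ∈ Set.range (RedSub.cellMap D eneg epos).left.base :=
    fun hh => by
      obtain ⟨c, hc⟩ := hl.exists_cellMap hneg hpos hh
      exact ⟨c.left q, congrArg (fun f : W ⟶ G => f.left q) hc⟩
  rcases hN w (fun c hc => hsupp c (hw c hc)) with ⟨τ, hτ⟩ | ⟨τ, hτ⟩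
  · refine Or.inl (big ⟨u, hu, t * τ, v, hv, ?_⟩)
    rw [hg, tpt_mul, show np (w.map nr).prod W = tpt D τ from hτ]
    group
  · obtain ⟨y, rfl⟩ := hl.toChamber.neg.exists_prod (ep := ![negIdx D a]) (fun i j _ => Subsingleton.elim i j)
      (by
        ext c
        simp only [Matrix.range_cons, Matrix.range_empty, Set.union_empty, Set.mem_singleton_iff,
          Set.mem_ofPred_eq, AddMonoidHom.neg_apply]
        refine ⟨fun h => by rw [h, root_negIdx, map_neg]; omega, fun h => ?_⟩
        rcases hR c with rfl | hc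
        · omega
        · exact hc) hu
    obtain ⟨k, hk⟩ := hn.inv.exists_moves b (negIdx D a)
    have h4 := hk.conj (X := W) (y 0)
    rw [np_inv, _root_.inv_inv, RootPairing.Equiv.reflection_inv,
      show RootPairing.Equiv.reflection D.P a • negIdx D a = a from D.P.reflectionPerm_self a a] at h4
    have e : g = np (nr a) W * (rp D a (cst W k * y 0) * tpt D (tw (RootPairing.Equiv.reflection D.P a)⁻¹ (t * τ)) * v) := by
      rw [hg, show np (w.map nr).prod W = tpt D τ * np (nr a) W from hτ, ← h4]
      simp only [List.ofFn_succ, List.ofFn_zero, List.prod_cons, List.prod_nil, _root_.mul_one,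
        Matrix.cons_val_zero]
      rw [show rp D (negIdx D a) (y 0) * tpt D t * (tpt D τ * np (nr a) W) * v =
        rp D (negIdx D a) (y 0) * (tpt D t * tpt D τ * np (nr a) W) * v by group, ← tpt_mul, hn.swap']
      group
    have hin : InBig D l (rp D a (cst W k * y 0) * tpt D (tw (RootPairing.Equiv.reflection D.P a)⁻¹ (t * τ)) * v) := by
      rw [show rp D a (cst W k * y 0) = tpt D (1 : W ⟶ Red.DS S D.M) * rp D a (cst W k * y 0) by
        rw [tpt_one, _root_.one_mul]]
      exact InBig.mul_up hv (InBig.mul_tpt (InBig.mul_up (rp_mem_up ha0 _) (tpt_inBig _)) _)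
    rcases inBig_or_translate hl haS hn eK (isUnit_gaFn x hx W).unit hin with h | h
    · rw [← e] at h
      exact Or.inl (big h)
    · rw [← e, IsUnit.unit_spec, ← point_rootHom] at h
      exact Or.inr (hl.mem_range_transl hneg hpos (x ≫ D.u a) h q)

end Groth.Agent.S5519
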