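import Groth.Statements.S5520
import Groth.Agent.RedPts82.BruhatCover

set_option autoImplicit false
open CategoryTheory MonoidalCategory CartesianMonoidalCategory MonObj GrpObj AlgebraicGeometry
universe u
open RedSub

namespace Groth.Agent.S5520

open Groth.Agent.RedPts82

/-- Let G be a split pinned reductive S-group (pinning D), Ω ⟶ G the big cell map of its system of
positive roots, and for each simple root a let x_a be an S-point of G_a with unit coordinate. Let
U_1 be the submonoid of G(S) generated by the sections u_a(x_a), a simple. Then the open sets u Ω, u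
∈ U_1, cover G. -/
theorem result {S : Scheme.{u}} {G : Over S} [GrpObj G] (D : Red.Pinning G)
    {n m : ℕ} (eneg : Fin n → D.idx) (epos : Fin m → D.idx)
    (hneg : RedSub.Enumerates (RedSub.negRoots D.P D.base) eneg) (hpos : RedSub.Enumerates (RedSub.posRoots D.P D.base) epos)
    (x : D.idx → (𝟙_ (Over S) ⟶ Red.Ga S)) (hx : ∀ a ∈ D.base.support, IsUnit (Red.gaFn (x a))) (p : ↥G.left) :
    ∃ w ∈ Submonoid.closure {g : 𝟙_ (Over S) ⟶ G | ∃ a ∈ D.base.support, g = x a ≫ D.u a},
      p ∈ Set.range ((toUnit _ ≫ w) * RedSub.cellMap D.toSplitRed eneg epos).left.base := by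
  obtain ⟨l, hl⟩ := exists_baseChamber (D := D.toSplitRed) D.base
  choose nr hnr using D.refl
  obtain ⟨K, _, _, W, _, eK, g, q, rfl⟩ := exists_field_point (X := G) p
  have hA : ∀ a ∈ D.base.support, Acts D.toSplitRed (nr a) (RootPairing.Equiv.reflection D.P a) :=
    fun a _ => acts_of_refl (hnr a)
  obtain ⟨w, hw, hin⟩ := exists_monoid_point hl hA (fun a => Red.gaFn (toUnit W ≫ x a))
    (fun a ha => isUnit_gaFn (x a) (hx a ha) W) (exists_decomp hA hl eK g)
  suffices h : ∃ w₀ ∈ Submonoid.closure {g : 𝟙_ (Over S) ⟶ G | ∃ a ∈ D.base.support, g = x a ≫ D.u a},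
      np w₀ W = w by
    obtain ⟨w₀, hw₀, rfl⟩ := h
    exact ⟨w₀, hw₀, hl.mem_range_transl hneg hpos w₀ hin q⟩
  clear hin
  induction hw using Submonoid.closure_induction with
  | mem v hv =>
    obtain ⟨a, ha, rfl⟩ := hv
    exact ⟨x a ≫ D.u a, Submonoid.subset_closure ⟨a, ha, rfl⟩, point_rootHom a (x a) W⟩
  | one => exact ⟨1, one_mem _, by rw [np, MonObj.comp_one]⟩
  | mul v v' _ _ hv hv' =>
    obtain ⟨a, ha, rfl⟩ := hv
    obtain ⟨c, hc, rfl⟩ := hv'
    exact ⟨a * c, mul_mem ha hc, np_mul a c W⟩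

end Groth.Agent.S5520
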