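import Groth.Statements.S5552
import Groth.Agent.RedPts82.BruhatCover

set_option autoImplicit false
open CategoryTheory MonoidalCategory CartesianMonoidalCategory MonObj GrpObj AlgebraicGeometry
universe u
open RedSub

namespace Groth.Agent.S5552

open Groth.Agent.RedPts82

/-- Let G be a split reductive S-group (splitting D, system of simple roots b, enumerations of the
negative and positive roots, S-points n_a realising the reflections), l a word in the roots with
Weyl element w and n_l = n_{a_1} ⋯ n_{a_k}, and e an enumeration of R_- ∩ w(R_-). Then the Bruhat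
cell map G_a^{R_- ∩ w(R_-)} x_S T x_S G_a^{R_+} ⟶ G, (y, t, x) ↦ ∏ u(y) · n_l · t · ∏ u(x), is an
immersion, and its image is contained and closed in the open translate n_l Ω of the big cell (it is
the subscheme B' N_w B of the source). -/
theorem result {S : Scheme.{u}} {G : Over S} [GrpObj G] (D : Red.SplitRed G)
    (b : D.P.Base) {n m : ℕ} (eneg : Fin n → D.idx) (epos : Fin m → D.idx)
    (hneg : RedSub.Enumerates (RedSub.negRoots D.P b) eneg) (hpos : RedSub.Enumerates (RedSub.posRoots D.P b) epos)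
    (nr : D.idx → (𝟙_ (Over S) ⟶ G)) (hnr : RedSub.RealisesReflections D nr) (l : List D.idx) {k : ℕ}
    (e : Fin k → D.idx) (he : RedSub.Enumerates (RedSub.negMeetNeg D.P b (RedSub.wordPerm D.P l)) e) :
    IsImmersion (RedSub.bruhatMap D nr l e epos).left ∧
      ∃ C : Set ↥G.left, IsClosed C ∧
        Set.range (RedSub.bruhatMap D nr l e epos).left.base =
          Set.range ((toUnit _ ≫ (l.map nr).prod) * RedSub.cellMap D eneg epos).left.base ∩ C := by
  classical
  obtain ⟨ch, hch⟩ := exists_baseChamber b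
  set N := (l.map nr).prod with hNdef
  set g₀ := Roots36.wprod D.P l with hg₀
  have hN : Acts D N g₀ := acts_prod l fun a _ => acts_of_realises hnr a
  choose c hc using fun j => hN.inv.exists_moves_unit b (e j)
  let e' : Fin k → D.idx := fun j => g₀⁻¹ • e j
  have hem : ∀ j, 0 < (-ch) (D.P.root (e' j)) := fun j =>
    ((hch.mem_negMeetNeg l (e j)).mp ((Set.ext_iff.mp he.2 (e j)).mp ⟨j, rfl⟩)).2
  have he' : Function.Injective e' := fun i j h => he.1 (MulAction.injective g₀⁻¹ h)
  have C := cellData_of_regular D ch hch.inj e' (Fin.elim0 : Fin 0 → D.idx) he' (fun i => i.elim0)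
    (fun j => by have := hem j; simp only [AddMonoidHom.neg_apply] at this; omega) (fun i => i.elim0)
  have hcst : ∀ {X X' : Over S} (f : X' ⟶ X) (r : Γ(S, ⊤)), f.left.appTop (cst X r) = cst X' r := fun f r => by
    rw [cst, cst, ← Over.w f, Scheme.Hom.comp_appTop]
    rfl
  let scal : (Fin k → Γ(S, ⊤)) → (RedSub.pow (Red.Ga S) k ⟶ RedSub.pow (Red.Ga S) k) := fun v =>
    powTuple fun j => gaPt (cst _ (v j) * Red.gaFn (powProj (Red.Ga S) k j))
  have hscal : ∀ v v', (∀ j, v j * v' j = 1) → scal v ≫ scal v' = 𝟙 _ := by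
    intro v v' hv
    refine powProj_ext fun j => gaFn_injective ?_
    simp only [scal, Category.id_comp, Category.assoc, powTuple_proj, comp_gaPt, gaFn_gaPt, map_mul]
    rw [← gaFn_comp, powTuple_proj, gaFn_gaPt, show (powTuple (fun i => gaPt (cst _ (v i) *
      Red.gaFn (powProj (Red.Ga S) k i)))).left.appTop (cst _ (v' j)) = cst _ (v' j) from
        hcst _ _, ← _root_.mul_assoc, cst, cst, ← map_mul, mul_comm (v' j) (v j), hv, map_one, _root_.one_mul]
  let sc : RedSub.pow (Red.Ga S) k ≅ RedSub.pow (Red.Ga S) k :=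
    ⟨scal fun j => (c j : Γ(S, ⊤)), scal fun j => (((c j)⁻¹ : Γ(S, ⊤)ˣ) : Γ(S, ⊤)),
      hscal _ _ fun j => (c j).mul_inv, hscal _ _ fun j => (c j).inv_mul⟩
  let ψ : RedSub.pow (Red.Ga S) k ⟶ G := sc.hom ≫ RedSub.prodMap (Red.Ga S) k fun j => D.u (e' j)
  have : IsIso sc.hom.left := inferInstanceAs (IsIso ((Over.forget S).mapIso sc).hom)
  have : IsClosedImmersion (RedSub.prodMap (Red.Ga S) k fun j => D.u (e' j)).left := C.neg.isClosedImmersion C.hG
  have hψ : IsClosedImmersion ψ.left := by rw [Over.comp_left]; infer_instance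
  have hψpt : ∀ {X : Over S} (z : X ⟶ RedSub.pow (Red.Ga S) k), z ≫ ψ = (np N X)⁻¹ *
      (List.ofFn fun j => rp D (e j) (Red.gaFn (z ≫ powProj (Red.Ga S) k j))).prod * np N X := by
    intro X z
    rw [show (np N X)⁻¹ * (List.ofFn fun j => rp D (e j) (Red.gaFn (z ≫ powProj (Red.Ga S) k j))).prod * np N X =
        np N⁻¹ X * (List.ofFn fun j => rp D (e j) (Red.gaFn (z ≫ powProj (Red.Ga S) k j))).prod * (np N⁻¹ X)⁻¹ by
      rw [np_inv, _root_.inv_inv], conj_list_prod]
    show z ≫ sc.hom ≫ _ = _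
    rw [← Category.assoc, prodMap_eq_list]
    refine congrArg (fun L => List.prod (List.ofFn L)) (funext fun j => ?_)
    rw [(hc j).conj]
    refine congrArg (rp D (e' j)) ?_
    simp only [sc, scal, Category.assoc, powTuple_proj, comp_gaPt, gaFn_gaPt, map_mul, hcst]
    rw [← gaFn_comp]
  have hψU : ψ ∈ Up D (-ch) (RedSub.pow (Red.Ga S) k) := by
    rw [show ψ = sc.hom ≫ RedSub.prodMap (Red.Ga S) k (fun j => D.u (e' j)) from rfl, prodMap_eq_list]
    exact prod_mem_up e' hem _
  obtain ⟨y, hy⟩ := hch.toChamber.neg.exists_prod hneg.1 (hch.range_neg hneg) hψU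
  let φ : RedSub.pow (Red.Ga S) k ⟶ RedSub.pow (Red.Ga S) n := powTuple fun j => gaPt (y j)
  have hφψ : φ ≫ RedSub.prodMap (Red.Ga S) n (fun j => D.u (eneg j)) = ψ := by
    rw [powTuple_prodMap, hy]
  have C₂ := cellData_of_regular D ch hch.inj eneg epos hneg.1 hpos.1
    (fun j => by
      have := (Set.ext_iff.mp (hch.range_neg hneg) (eneg j)).mp ⟨j, rfl⟩
      simp only [Set.mem_ofPred_eq, AddMonoidHom.neg_apply] at this
      omega)
    (fun j => (Set.ext_iff.mp (hch.range_pos hpos) (epos j)).mp ⟨j, rfl⟩)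
  have : IsClosedImmersion (RedSub.prodMap (Red.Ga S) n fun j => D.u (eneg j)).left :=
    C₂.neg.isClosedImmersion C₂.hG
  have hφ : IsClosedImmersion φ.left := by
    have : IsClosedImmersion (φ.left ≫ (RedSub.prodMap (Red.Ga S) n fun j => D.u (eneg j)).left) := by
      rw [← Over.comp_left, hφψ]; exact hψ
    exact IsClosedImmersion.of_comp φ.left (RedSub.prodMap (Red.Ga S) n fun j => D.u (eneg j)).left
  let φ' := φ ▷ (D.T ⊗ RedSub.pow (Red.Ga S) m)
  have hφ' : IsClosedImmersion φ'.left := by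
    rw [Over.whiskerRight_left]
    exact MorphismProperty.pullbackMap (P := @IsClosedImmersion) (i₁ := φ.left) (i₂ := 𝟙 _) hφ inferInstance
      (Over.w φ).symm (Category.id_comp _).symm
  have := cellMap_isOpenImmersion D b eneg epos hneg hpos
  have := openImmersion_transl N (RedSub.cellMap D eneg epos)
  have key : RedSub.bruhatMap D nr l e epos = φ' ≫ transl N (RedSub.cellMap D eneg epos) := by
    have hz : ∀ {X : Over S} (z : X ⟶ RedSub.pow (Red.Ga S) k ⊗ (D.T ⊗ RedSub.pow (Red.Ga S) m)),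
        z ≫ RedSub.bruhatMap D nr l e epos = z ≫ φ' ≫ transl N (RedSub.cellMap D eneg epos) := by
      intro X z
      rw [← Category.assoc z φ' _, transl_pt, bruhatMap_pt D nr l e epos z, cellMap_eq, cellS_pt]
      have e1 : ((z ≫ φ') ≫ fst _ _) ≫ RedSub.prodMap (Red.Ga S) n (fun j => D.u (eneg j)) =
          (z ≫ fst _ _) ≫ ψ := by
        simp only [φ', Category.assoc, whiskerRight_fst_assoc, hφψ]
      have e2 : (z ≫ φ') ≫ snd _ _ ≫ fst _ _ = z ≫ snd _ _ ≫ fst _ _ := by
        simp only [φ', Category.assoc, whiskerRight_snd_assoc]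
      have e3 : (z ≫ φ') ≫ snd _ _ ≫ snd _ _ = z ≫ snd _ _ ≫ snd _ _ := by
        simp only [φ', Category.assoc, whiskerRight_snd_assoc]
      rw [e1, e2, e3, hψpt, i_eq_tpt, prodMap_eq_list epos]
      simp only [nword, hNdef, Category.assoc]
      group
    simpa using hz (𝟙 _)
  refine ⟨?_, ?_⟩
  · rw [key, Over.comp_left]
    infer_instance
  · let j := transl N (RedSub.cellMap D eneg epos)
    refine ⟨(j.left.base '' (Set.range φ'.left.base)ᶜ)ᶜ, (j.left.isOpenEmbedding.isOpenMap _
      φ'.left.isClosedEmbedding.isClosed_range.isOpen_compl).isClosed_compl, ?_⟩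
    rw [key]
    ext p
    constructor
    · rintro ⟨z, rfl⟩
      refine ⟨⟨_, rfl⟩, ?_⟩
      rintro ⟨w, hw, hwe⟩
      exact hw ⟨z, (j.left.isOpenEmbedding.injective hwe).symm⟩
    · rintro ⟨⟨w, rfl⟩, hp⟩
      by_contra hn
      refine hp ⟨w, ?_, rfl⟩
      rintro ⟨z, rfl⟩
      exact hn ⟨z, rfl⟩

end Groth.Agent.S5552
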