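import Groth.Statements.S5566
import Groth.Agent.RedPts82.BruhatCover

set_option autoImplicit false
open CategoryTheory MonoidalCategory CartesianMonoidalCategory MonObj GrpObj AlgebraicGeometry
universe u
open RedSub

namespace Groth.Agent.S5566

open Groth.Agent.RedPts82

/-- Let G be a split reductive S-group (splitting D, system of simple roots b, big cell Ω ⟶ G), a a
simple root, u_a(x) a section of U_a with x of unit coordinate, and v = u_{-a}(y) any section of
U_{-a}. Then Ω · v ⊆ Ω ∪ u_a(x) · Ω. -/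
theorem result {S : Scheme.{u}} {G : Over S} [GrpObj G] (D : Red.SplitRed G)
    (b : D.P.Base) {n m : ℕ} (eneg : Fin n → D.idx) (epos : Fin m → D.idx)
    (hneg : RedSub.Enumerates (RedSub.negRoots D.P b) eneg) (hpos : RedSub.Enumerates (RedSub.posRoots D.P b) epos)
    (a : D.idx) (ha : a ∈ b.support) (x : 𝟙_ (Over S) ⟶ Red.Ga S) (hx : IsUnit (Red.gaFn x))
    (y : 𝟙_ (Over S) ⟶ Red.Ga S) :
    Set.range (RedSub.cellMap D eneg epos * (toUnit _ ≫ y ≫ D.u (D.P.reflectionPerm a a))).left.base ⊆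
      Set.range (RedSub.cellMap D eneg epos).left.base ∪
        Set.range ((toUnit _ ≫ x ≫ D.u a) * RedSub.cellMap D eneg epos).left.base := by
  obtain ⟨l, hl⟩ := exists_baseChamber b
  choose nr hnr using D.refl
  rintro _ ⟨p, rfl⟩
  obtain ⟨K, _, _, W, _, eK, z, q, rfl⟩ := exists_field_point p
  have e : z ≫ (RedSub.cellMap D eneg epos * (toUnit _ ≫ y ≫ D.u (D.P.reflectionPerm a a))) =
      (z ≫ RedSub.cellMap D eneg epos) * rp D (negIdx D a) (Red.gaFn (toUnit W ≫ y)) := by
    rw [MonObj.comp_mul, ← point_rootHom, comp_np]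
  show (z ≫ (RedSub.cellMap D eneg epos * (toUnit _ ≫ y ≫ D.u (D.P.reflectionPerm a a)))).left q ∈ _
  rw [e]
  rcases inBig_mul_neg hl ha (acts_of_refl (hnr a)) eK (isUnit_gaFn x hx W).unit
    (hl.inBig_cellMap hneg hpos z) (Red.gaFn (toUnit W ≫ y)) with h | h
  · obtain ⟨c, hc⟩ := hl.exists_cellMap hneg hpos h
    exact Or.inl ⟨c.left q, congrArg (fun f : W ⟶ G => f.left q) hc⟩
  · rw [IsUnit.unit_spec, ← point_rootHom] at h
    exact Or.inr (hl.mem_range_transl hneg hpos (x ≫ D.u a) h q)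

end Groth.Agent.S5566
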