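import Groth.Statements.S5577
import Groth.Agent.RedPts82.BruhatTorusKer

set_option autoImplicit false
open CategoryTheory MonoidalCategory CartesianMonoidalCategory MonObj GrpObj AlgebraicGeometry
universe u
open RedSub

namespace Groth.Agent.S5577

open Groth.Agent.RedPts82

/-- Let G be a split reductive S-group (splitting D, T ≅ D_S(M), system of simple roots b, big cell map
c : Ω ⟶ G), N = {m | (α*, m) = 0 for all coroots} and f : Ω ⟶ D_S(N) = T/T' the T-component followed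
by D_S(M) ⟶ D_S(N). Then f is generically multiplicative: there is an open V ⊆ Ω x_S Ω containing
the unit point such that for all points x, y of Ω with (x, y) in V there is a point z of Ω with c(z)
= c(x) c(y) and f(z) = f(x) f(y). -/
theorem result {S : Scheme.{u}} {G : Over S} [GrpObj G]
    (D : Red.SplitRed G) (b : D.P.Base) {n m : ℕ} (eneg : Fin n → D.idx) (epos : Fin m → D.idx)
    (hneg : RedSub.Enumerates (RedSub.negRoots D.P b) eneg) (hpos : RedSub.Enumerates (RedSub.posRoots D.P b) epos)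
    (N : AddSubgroup D.M) (hN : ∀ x : D.M, x ∈ N ↔ ∀ c : D.idx, D.P.coroot c x = 0) :
    ∃ V : Set ↥((RedSub.pow (Red.Ga S) n ⊗ (D.T ⊗ RedSub.pow (Red.Ga S) m)) ⊗ (RedSub.pow (Red.Ga S) n ⊗ (D.T ⊗ RedSub.pow (Red.Ga S) m))).left, IsOpen V ∧
      (∀ u₀ : 𝟙_ (Over S) ⟶ RedSub.pow (Red.Ga S) n ⊗ (D.T ⊗ RedSub.pow (Red.Ga S) m), u₀ ≫ RedSub.cellMap D eneg epos = 1 →
        Set.range (lift u₀ u₀).left.base ⊆ V) ∧
      ∀ (X : Over S) (x y : X ⟶ RedSub.pow (Red.Ga S) n ⊗ (D.T ⊗ RedSub.pow (Red.Ga S) m)), Set.range (lift x y).left.base ⊆ V →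
        ∃ z : X ⟶ RedSub.pow (Red.Ga S) n ⊗ (D.T ⊗ RedSub.pow (Red.Ga S) m),
          z ≫ RedSub.cellMap D eneg epos = (x ≫ RedSub.cellMap D eneg epos) * (y ≫ RedSub.cellMap D eneg epos) ∧
          z ≫ snd _ _ ≫ fst _ _ ≫ D.split.hom.hom.hom ≫ Red.DSmap S N.subtype =
            (x ≫ snd _ _ ≫ fst _ _ ≫ D.split.hom.hom.hom ≫ Red.DSmap S N.subtype) *
              (y ≫ snd _ _ ≫ fst _ _ ≫ D.split.hom.hom.hom ≫ Red.DSmap S N.subtype) := by
  obtain ⟨F, hF, hcell, -, -⟩ := exists_torusHom_cell hneg hpos (N := N) fun x hx c => (hN x).mp hx c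
  have : IsMonHom F := hF
  have hmul : ∀ {Z : Over S} (a c : Z ⟶ G), (a * c) ≫ F = (a ≫ F) * (c ≫ F) := fun a c => MonObj.mul_comp a c F
  have hinv : ∀ {Z : Over S} (a : Z ⟶ G), a⁻¹ ≫ F = (a ≫ F)⁻¹ := fun a => GrpObj.inv_comp a F
  have := openImmersion_cellMap hneg hpos
  let P : (RedSub.pow (Red.Ga S) n ⊗ (D.T ⊗ RedSub.pow (Red.Ga S) m)) ⊗
      (RedSub.pow (Red.Ga S) n ⊗ (D.T ⊗ RedSub.pow (Red.Ga S) m)) ⟶ G :=
    (fst _ _ ≫ RedSub.cellMap D eneg epos) * (snd _ _ ≫ RedSub.cellMap D eneg epos)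
  refine ⟨P.left.base ⁻¹' Set.range (RedSub.cellMap D eneg epos).left.base,
    (RedSub.cellMap D eneg epos).left.isOpenEmbedding.isOpen_range.preimage P.left.continuous,
    fun u₀ hu₀ => ?_, fun X x y hxy => ?_⟩
  · rintro _ ⟨p, rfl⟩
    refine one_range_cellMap eneg epos (𝟙_ (Over S)) ⟨p, ?_⟩
    have e : lift u₀ u₀ ≫ P = 1 := by
      simp only [P, MonObj.comp_mul, lift_fst_assoc, lift_snd_assoc, hu₀, _root_.mul_one]
    exact (congrArg (fun f : 𝟙_ (Over S) ⟶ G => f.left p) e).symm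
  · obtain ⟨z, hz⟩ := exists_factor_of_range (RedSub.cellMap D eneg epos) (lift x y ≫ P) (by
      rintro _ ⟨p, rfl⟩
      exact hxy ⟨p, rfl⟩)
    have e : lift x y ≫ P = (x ≫ RedSub.cellMap D eneg epos) * (y ≫ RedSub.cellMap D eneg epos) := by
      simp only [P, MonObj.comp_mul, lift_fst_assoc, lift_snd_assoc]
    rw [e] at hz
    refine ⟨z, hz, ?_⟩
    rw [← hcell z, ← hcell x, ← hcell y, ← Category.assoc z, hz, hmul, Category.assoc,
      Category.assoc]

end Groth.Agent.S5577
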