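import Groth.Statements.S5579
import Groth.Agent.Topos46.Local
-- import your own Groth.Agent.* helpers here

set_option autoImplicit false
open CategoryTheory CategoryTheory.Limits Opposite
universe u
open ToposFin

namespace Groth.Agent.S5579

open Groth.Agent.Topos46
attribute [local simp] prod.lift_fst prod.lift_snd pullback.lift_fst pullback.lift_snd pullback.lift_fst_assoc
  pullback.lift_snd_assoc

/-- For the topos of sheaves of sets on a small site: for two morphisms f : X -> Y and f' : X' -> Y'
over a common base S, if f and f' are quasi-compact (resp. quasi-separated, resp. coherent), then so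
is the product morphism f x_S f' : X x_S X' -> Y x_S Y'. -/
theorem result {C : Type u} [SmallCategory C] {J : GrothendieckTopology C}
    {X Y X' Y' S : ToposFin.Sh J} (f : X ⟶ Y) (f' : X' ⟶ Y') (a : Y ⟶ S) (a' : Y' ⟶ S) :
    (ToposFin.IsQCHom f → ToposFin.IsQCHom f' →
      ToposFin.IsQCHom (pullback.map (f ≫ a) (f' ≫ a') a a' f f' (𝟙 S) (Category.comp_id _) (Category.comp_id _))) ∧
    (ToposFin.IsQSHom f → ToposFin.IsQSHom f' →
      ToposFin.IsQSHom (pullback.map (f ≫ a) (f' ≫ a') a a' f f' (𝟙 S) (Category.comp_id _) (Category.comp_id _))) ∧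
    (ToposFin.IsCohHom f → ToposFin.IsCohHom f' →
      ToposFin.IsCohHom (pullback.map (f ≫ a) (f' ≫ a') a a' f f' (𝟙 S) (Category.comp_id _) (Category.comp_id _))) := by
  let m := pullback.map (f ≫ a) (f' ≫ a') a a' f f' (𝟙 S) (Category.comp_id _) (Category.comp_id _)
  let m₁ : pullback (f ≫ a) (f' ≫ a') ⟶ pullback a (f' ≫ a') :=
    pullback.lift (pullback.fst _ _ ≫ f) (pullback.snd _ _) (by simpa using pullback.condition)
  let m₂ : pullback a (f' ≫ a') ⟶ pullback a a' :=
    pullback.lift (pullback.fst _ _) (pullback.snd _ _ ≫ f') (by simpa using pullback.condition)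
  have hm : m = m₁ ≫ m₂ := by apply pullback.hom_ext <;> simp [m, m₁, m₂]
  have sq₁ : IsPullback (pullback.fst (f ≫ a) (f' ≫ a')) m₁ f (pullback.fst a (f' ≫ a')) := by
    refine IsPullback.of_bot ?_ (by simp [m₁]) (IsPullback.of_hasPullback a (f' ≫ a')).flip.flip
    simpa [m₁] using IsPullback.of_hasPullback (f ≫ a) (f' ≫ a')
  have sq₂ : IsPullback (pullback.snd a (f' ≫ a')) m₂ f' (pullback.snd a a') := by
    refine IsPullback.of_bot ?_ (by simp [m₂]) (IsPullback.of_hasPullback a a').flip
    simpa [m₂] using (IsPullback.of_hasPullback a (f' ≫ a')).flip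
  have hqc : ToposFin.IsQCHom f → ToposFin.IsQCHom f' → ToposFin.IsQCHom m := fun h h' => by
    rw [hm]
    exact isQCHom_comp (isQCHom_of_isPullback h sq₁) (isQCHom_of_isPullback h' sq₂)
  have hqs : ToposFin.IsQSHom f → ToposFin.IsQSHom f' → ToposFin.IsQSHom m := fun h h' => by
    rw [hm]
    exact isQSHom_comp (isQSHom_of_isPullback h sq₁) (isQSHom_of_isPullback h' sq₂)
  exact ⟨hqc, hqs, fun h h' => ⟨hqc h.1 h'.1, hqs h.2 h'.2⟩⟩

end Groth.Agent.S5579
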