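import Groth.Statements.S5580
import Groth.Agent.Topos46.Coprod
-- import your own Groth.Agent.* helpers here

set_option autoImplicit false
open CategoryTheory CategoryTheory.Limits Opposite
universe u
open ToposFin

namespace Groth.Agent.S5580

open Groth.Agent.Topos46

/-- Quasi-compact and coherent cases: for the topos of sheaves of sets on a small site: let (X_i) be a
finite family of objects with coproduct X (given as a colimit cofan) and f : X -> Y a morphism with
components f_i : X_i -> Y. Then f is quasi-compact (resp. coherent) if and only if every f_i is. -/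
theorem result {C : Type u} [SmallCategory C] {J : GrothendieckTopology C}
    {Y : ToposFin.Sh J} {n : ℕ} (X : Fin n → ToposFin.Sh J) (c : Cofan X) (hc : IsColimit c)
    (f : c.pt ⟶ Y) :
    (ToposFin.IsQCHom f ↔ ∀ i, ToposFin.IsQCHom (c.inj i ≫ f)) ∧
    (ToposFin.IsCohHom f ↔ ∀ i, ToposFin.IsCohHom (c.inj i ≫ f)) := by
  have hinj : ∀ i, ToposFin.IsCohHom (c.inj i) := fun i =>
    have := mono_cofan_inj hc i
    ⟨isQCHom_cofan_inj hc i, isQSHom_of_mono' _⟩
  refine ⟨⟨fun h i => isQCHom_comp (hinj i).1 h, isQCHom_of_finite_source (isEpiFam_inj hc)⟩, ?_⟩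
  exact ⟨fun h i => ⟨isQCHom_comp (hinj i).1 h.1, isQSHom_comp (hinj i).2 h.2⟩,
    fun h => ⟨isQCHom_of_finite_source (isEpiFam_inj hc) fun i => (h i).1,
      isQSHom_cofan hc fun i => (h i).2⟩⟩

end Groth.Agent.S5580
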