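import Groth.Statements.S5584
import Groth.Agent.Topos46.SiteQc
import Groth.Agent.S3070
-- import your own Groth.Agent.* helpers here

set_option autoImplicit false
open CategoryTheory CategoryTheory.Limits Opposite
universe u
open ToposFin

namespace Groth.Agent.S5584

open Groth.Agent.Topos46

/-- Let (C, J) be a small site with fibre products all of whose objects are quasi-compact, and X an
object of C with associated sheaf e(X). Then every morphism from a quasi-separated object G to e(X)
is quasi-separated, and for a second quasi-separated object H over e(X) the fibre product G x_{e(X)}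
H is quasi-separated. -/
theorem result {C : Type u} [SmallCategory C] [HasPullbacks C]
    (J : GrothendieckTopology C) (hC : ∀ X : C, ToposFin.IsQCSite J X) (X : C)
    {G H : ToposFin.Sh J} (g : G ⟶ ToposFin.eps J X) (h : H ⟶ ToposFin.eps J X) (hG : ToposFin.IsQS G)
    (hH : ToposFin.IsQS H) :
    ToposFin.IsQSHom g ∧ ToposFin.IsQS (pullback g h) := by
  have hE : ToposFin.HasQCGenerators J := fun Z => by
    obtain ⟨ι, F, π, hF, hπ⟩ := genBy_qc_eps hC Z
    exact ⟨ι, F, π, hF, isEpiFam_iff_epi_desc.1 hπ⟩
  have key : ∀ {G : ToposFin.Sh J} (g : G ⟶ ToposFin.eps J X), ToposFin.IsQS G → ToposFin.IsQSHom g := by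
    intro G g hG
    refine Groth.Agent.S3070.result hE g _ _ (isEpiFam_iff_epi_desc.1 (isEpiFam_rep g))
      (fun p => isQC_eps_of_isQCSite (hC p.1)) (fun p q => ?_) hG
    let e : pullback (p.2.1.1 ≫ g) (q.2.1.1 ≫ g) ≅ ToposFin.eps J (pullback p.2.1.2 q.2.1.2) :=
      pullback.congrHom p.2.2 q.2.2 ≪≫
        (isPullback_epsMap (IsPullback.of_hasPullback p.2.1.2 q.2.1.2)).isoPullback.symm
    exact isQS_of_isQSHom (isQSHom_of_mono' e.hom) (isCoherent_eps hC _).2
  refine ⟨key g hG, isQS_of_isQSHom (f := pullback.fst g h) ?_ hG⟩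
  exact isQSHom_of_isPullback (key h hH) (IsPullback.of_hasPullback g h).flip

end Groth.Agent.S5584
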