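import Groth.Statements.S5585
import Groth.Agent.Topos46.Algebraic
-- import your own Groth.Agent.* helpers here

set_option autoImplicit false
open CategoryTheory CategoryTheory.Limits Opposite
universe u
open ToposFin

namespace Groth.Agent.S5585

open Groth.Agent.Topos46

/-- For an algebraic topos of sheaves of sets on a small site and a morphism f : X -> Y: if Y is
quasi-separated (resp. coherent), then X is quasi-separated (resp. coherent) if and only if f is a
quasi-separated (resp. coherent) morphism. -/
theorem result {C : Type u} [SmallCategory C] {J : GrothendieckTopology C}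
    (hE : ToposFin.IsAlgebraic J) {X Y : ToposFin.Sh J} (f : X ⟶ Y) :
    (ToposFin.IsQS Y → (ToposFin.IsQS X ↔ ToposFin.IsQSHom f)) ∧
    (ToposFin.IsCoherent Y → (ToposFin.IsCoherent X ↔ ToposFin.IsCohHom f)) := by
  obtain ⟨S, hqc, hgen, hpb, heq⟩ := hE
  have hP := genBy_of_isGenerating hgen
  have key : ToposFin.IsQS X → ToposFin.IsQSHom f := fun h =>
    isQSHom_of_prod_qs hP hqc (fun K L hK hL => isQS_prod_mem hqc hgen hpb heq hK hL) f h
  refine ⟨fun hY => ⟨key, fun h => isQS_of_isQSHom h hY⟩, fun hY => ⟨fun h => ?_, fun h => ?_⟩⟩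
  · exact ⟨fun W s hW => hY.2 X W f s h.1 hW, key h.2⟩
  · exact ⟨isQC_source_of_isQCHom h.1 hY.1, isQS_of_isQSHom h.2 hY.2⟩

end Groth.Agent.S5585
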