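import Groth.Statements.S5586
import Groth.Agent.Topos46.Algebraic
import Groth.Agent.S5585
-- import your own Groth.Agent.* helpers here

set_option autoImplicit false
open CategoryTheory CategoryTheory.Limits Opposite
universe u
open ToposFin

namespace Groth.Agent.S5586

open Groth.Agent.Topos46

/-- Quasi-separated and coherent cases: for an algebraic topos of sheaves of sets on a small site: let f
: X -> Y be a morphism and (Y_i -> Y) a jointly epimorphic family. If the Y_i are quasi-separated
(resp. coherent), then f is quasi-separated (resp. coherent) if and only if every X x_Y Y_i is a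
quasi-separated (resp. coherent) object. -/
theorem result {C : Type u} [SmallCategory C]
    {J : GrothendieckTopology C} (hE : ToposFin.IsAlgebraic J) {X Y : ToposFin.Sh J} (f : X ⟶ Y)
    {ι : Type u} (Yi : ι → ToposFin.Sh J) (g : ∀ i, Yi i ⟶ Y)
    (hg : ∀ (Z : ToposFin.Sh J) (a b : Y ⟶ Z), (∀ i, g i ≫ a = g i ≫ b) → a = b) :
    ((∀ i, ToposFin.IsQS (Yi i)) → (ToposFin.IsQSHom f ↔ ∀ i, ToposFin.IsQS (pullback f (g i)))) ∧
    ((∀ i, ToposFin.IsCoherent (Yi i)) →
      (ToposFin.IsCohHom f ↔ ∀ i, ToposFin.IsCoherent (pullback f (g i)))) := by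
  have hg' : IsEpiFam g := fun Z a b => hg Z a b
  have hqcgen : GenBy (ToposFin.IsQC (J := J)) := by
    obtain ⟨S, hqc, hgen, -, -⟩ := id hE
    exact (genBy_of_isGenerating hgen).mono hqc
  constructor
  · intro hqs
    refine ⟨fun hf i => isQS_of_isQSHom (isQSHom_of_isPullback hf (IsPullback.of_hasPullback f (g i))) (hqs i),
      fun h => isQSHom_local_target hqcgen f hg' fun i => ?_⟩
    exact ((Groth.Agent.S5585.result hE (pullback.snd f (g i))).1 (hqs i)).1 (h i)
  · intro hcoh
    refine ⟨fun hf i => ⟨hf.1 _ _ (hcoh i).1,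
        isQS_of_isQSHom (isQSHom_of_isPullback hf.2 (IsPullback.of_hasPullback f (g i))) (hcoh i).2⟩,
      fun h => ?_⟩
    have key := fun i => ((Groth.Agent.S5585.result hE (pullback.snd f (g i))).2 (hcoh i)).1 (h i)
    exact ⟨isQCHom_local_target hqcgen f hg' fun i => (key i).1,
      isQSHom_local_target hqcgen f hg' fun i => (key i).2⟩

end Groth.Agent.S5586
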