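import Groth.Statements.S5587
import Groth.Agent.Topos46.Algebraic
import Groth.Agent.S3070
-- import your own Groth.Agent.* helpers here

set_option autoImplicit false
open CategoryTheory CategoryTheory.Limits Opposite
universe u
open ToposFin

namespace Groth.Agent.S5587

open Groth.Agent.Topos46

/-- For a locally coherent topos of sheaves of sets on a small site (given by a generating set of
quasi-compact objects stable under fibre products): a morphism f : X -> Y is quasi-separated if and
only if for every quasi-separated object Y' over Y the fibre product X x_Y Y' is quasi-separated. -/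
theorem result {C : Type u} [SmallCategory C]
    {J : GrothendieckTopology C} (S : Set (ToposFin.Sh J)) (hqc : ∀ K ∈ S, ToposFin.IsQC K)
    (hgen : ToposFin.IsGenerating S) (hpb : ToposFin.ClosedUnderPullbacks S) {X Y : ToposFin.Sh J} (f : X ⟶ Y) :
    ToposFin.IsQSHom f ↔
      ∀ (Y' : ToposFin.Sh J) (g : Y' ⟶ Y), ToposFin.IsQS Y' → ToposFin.IsQS (pullback f g) := by
  have hP := genBy_of_isGenerating hgen
  refine ⟨fun hf Y' g hY' =>
    isQS_of_isQSHom (isQSHom_of_isPullback hf (IsPullback.of_hasPullback f g)) hY', fun h => ?_⟩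
  obtain ⟨ι, F, π, hF, hπ⟩ := hP Y
  refine isQSHom_local_target (hP.mono hqc) f hπ fun i => ?_
  obtain ⟨κ, G, ρ, hG, hρ⟩ := hP (pullback f (π i))
  refine Groth.Agent.S3070.result (hasQCGenerators_of_genBy (hP.mono hqc)) _ G ρ
    (isEpiFam_iff_epi_desc.1 hρ) (fun k => hqc _ (hG k)) (fun a b => ?_)
    (h _ _ (isCoherent_mem hqc hgen hpb (hF i)).2)
  obtain ⟨P, p, q, hPS, sq⟩ :=
    hpb (ρ a ≫ pullback.snd f (π i)) (ρ b ≫ pullback.snd f (π i)) (hG a) (hG b) (hF i)
  exact isQS_of_isQSHom (isQSHom_of_mono' sq.isoPullback.inv) (isCoherent_mem hqc hgen hpb hPS).2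

end Groth.Agent.S5587
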