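import Groth.Statements.S5588
import Groth.Agent.Topos46.Fp
import Groth.Agent.Topos46.Algebraic
-- import your own Groth.Agent.* helpers here

set_option autoImplicit false
open CategoryTheory CategoryTheory.Limits Opposite
universe u
open ToposFin

namespace Groth.Agent.S5588

open Groth.Agent.Topos46

/-- (ii) implies (i), for the topos of sheaves of sets on a small site: let S be an isomorphism-closed
generating set of quasi-compact objects, stable under finite colimits and under fibre products. Then
S is the set of all coherent objects (so the topos is locally coherent), and every object X for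
which Hom(X, -) commutes with small filtered colimits is coherent. -/
theorem result {C : Type u} [SmallCategory C]
    {J : GrothendieckTopology C} (S : Set (ToposFin.Sh J)) (hqc : ∀ K ∈ S, ToposFin.IsQC K)
    (hiso : ∀ ⦃K L : ToposFin.Sh J⦄, K ∈ S → Nonempty (K ≅ L) → L ∈ S)
    (hgen : ToposFin.IsGenerating S) (hpb : ToposFin.ClosedUnderPullbacks S)
    (hcolim : ∀ (K : Type) [SmallCategory K] [FinCategory K] (D : K ⥤ ToposFin.Sh J),
      (∀ k, D.obj k ∈ S) → colimit D ∈ S) :
    (∀ X : ToposFin.Sh J, X ∈ S ↔ ToposFin.IsCoherent X) ∧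
    (∀ X : ToposFin.Sh J, ToposFin.IsFP X → ToposFin.IsCoherent X) := by
  have hP := genBy_of_isGenerating hgen
  have hcoh : ∀ K ∈ S, ToposFin.IsCoherent K := fun K hK => isCoherent_mem hqc hgen hpb hK
  have hcoeq : ∀ {A B : ToposFin.Sh J} (a b : A ⟶ B), A ∈ S → B ∈ S → coequalizer a b ∈ S :=
    fun a b hA hB => hcolim WalkingParallelPair (parallelPair a b) fun k => by cases k <;> assumption
  have hsigma : ∀ {n : ℕ} (W : Fin n → ToposFin.Sh J), (∀ k, W k ∈ S) → ∐ W ∈ S :=
    fun W hW => hcolim (Discrete (Fin _)) (Discrete.functor W) fun k => hW k.as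
  have hmem : ∀ X : ToposFin.Sh J, ToposFin.IsCoherent X → X ∈ S := by
    intro X hX
    obtain ⟨n, W, ρ, hW, hρ⟩ := hP.exists_finite_cover hX.1
    let p : ∐ W ⟶ X := Sigma.desc ρ
    have : Epi p := isEpiFam_iff_epi_desc.1 hρ
    have hp : IsEpiFam (F := fun _ : Unit => ∐ W) fun _ => p := isEpiFam_of_epi p
    have h0 := hsigma W hW
    obtain ⟨m, R, r, hR, hr⟩ := hP.exists_finite_cover (hX.2 _ _ p p (hqc _ h0) (hqc _ h0))
    let q : ∐ R ⟶ pullback p p := Sigma.desc r
    have : Epi q := isEpiFam_iff_epi_desc.1 hr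
    obtain ⟨d, hd⟩ := hp.exists_desc (fun _ => coequalizer.π (q ≫ pullback.fst p p) (q ≫ pullback.snd p p))
      fun _ _ => by
        rw [← cancel_epi q]
        simpa using coequalizer.condition (q ≫ pullback.fst p p) (q ≫ pullback.snd p p)
    refine hiso (hcoeq (q ≫ pullback.fst p p) (q ≫ pullback.snd p p) (hsigma R hR) h0) ⟨?_⟩
    exact
      { hom := coequalizer.desc p (by simp [pullback.condition])
        inv := d
        hom_inv_id := coequalizer.hom_ext (by simpa using hd ())
        inv_hom_id := by rw [← cancel_epi p, reassoc_of% hd (), coequalizer.π_desc, Category.comp_id] }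
  refine ⟨fun X => ⟨hcoh X, hmem X⟩, fun X hX => ?_⟩
  obtain ⟨X₀, X₁, a, b, i, p, h₀, h₁, hip⟩ := exists_retract_of_isFP (hP.mono hcoh) hX
  exact isCoherent_of_retract i p hip (hcoh _ (hcoeq a b (hmem _ h₁) (hmem _ h₀)))

end Groth.Agent.S5588
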