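import Groth.Statements.S5590
import Groth.Agent.Topos46.Inverse
import Groth.Agent.Topos46.Algebraic
import Groth.Agent.S3067
-- import your own Groth.Agent.* helpers here

set_option autoImplicit false
open CategoryTheory CategoryTheory.Limits Opposite
universe u
open ToposFin

namespace Groth.Agent.S5590

open Groth.Agent.Topos46

/-- Let f be a morphism of topoi of sheaves of sets on small sites, with inverse image functor F (left
adjoint, preserving finite limits); let S be a generating set of coherent objects of the target
topos and assume the source topos admits a generating family of quasi-compact objects. Then f is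
coherent, i.e. F carries quasi-compact objects to quasi-compact objects and quasi-separated objects
to quasi-separated objects, if and only if F(X) is coherent for every X in S. -/
theorem result {C D : Type u} [SmallCategory C] [SmallCategory D]
    {J : GrothendieckTopology C} {K : GrothendieckTopology D}
    (F : ToposFin.Sh K ⥤ ToposFin.Sh J) (R : ToposFin.Sh J ⥤ ToposFin.Sh K) (adj : F ⊣ R)
    [PreservesFiniteLimits F]
    (hE' : ToposFin.HasQCGenerators J)
    (S : Set (ToposFin.Sh K)) (hS : ∀ X ∈ S, ToposFin.IsCoherent X) (hgen : ToposFin.IsGenerating S) :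
    ((∀ X : ToposFin.Sh K, ToposFin.IsQC X → ToposFin.IsQC (F.obj X)) ∧
      (∀ X : ToposFin.Sh K, ToposFin.IsQS X → ToposFin.IsQS (F.obj X))) ↔
      ∀ X ∈ S, ToposFin.IsCoherent (F.obj X) := by
  refine ⟨fun h X hX => ⟨h.1 X (hS X hX).1, h.2 X (hS X hX).2⟩, fun h => ?_⟩
  have hqc : ∀ X : ToposFin.Sh K, ToposFin.IsQC X → ToposFin.IsQC (F.obj X) := fun X hX =>
    isQC_obj_of_gen adj (genBy_of_isGenerating hgen) (fun W hW => (h W hW).1) hX
  refine ⟨hqc, fun X hX => ?_⟩
  obtain ⟨ι, G, π, hG, hπ⟩ := genBy_of_isGenerating hgen X
  refine (Groth.Agent.S3067.result hE' (fun i => F.obj (G i)) (fun i => F.map (π i))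
    (isEpiFam_iff_epi_desc.1 (isEpiFam_map adj hπ)) (fun i => h _ (hG i))).2.2 fun i j => ?_
  have sq := (IsPullback.of_hasPullback (π i) (π j)).map F
  exact isQC_of_iso sq.isoPullback (hqc _ (hX _ _ _ _ (hS _ (hG i)).1 (hS _ (hG j)).1))

end Groth.Agent.S5590
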