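import Groth.Statements.S5593
import Groth.Agent.Unr55.SpecArrows

set_option autoImplicit false
open CategoryTheory CategoryTheory.Limits AlgebraicGeometry Opposite
universe u
open EtDesc

namespace Groth.Agent.S5593

theorem specializes {X : Scheme.{u}} {x x' : X} {R T : Type u} [CommRing R] [Algebra (X.presheaf.stalk x) R]
    [CommRing T] [IsLocalRing T] [Algebra (X.presheaf.stalk x') T] [IsLocalHom (algebraMap (X.presheaf.stalk x') T)]
    (g : Spec (CommRingCat.of T) ⟶ Spec (CommRingCat.of R))
    (hg : g ≫ Hens2.specOf X x R = Hens2.specOf X x' T) : x' ⤳ x := by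
  have h1 : Hens2.specOf X x' T (IsLocalRing.closedPoint T) = x' := by
    rw [Hens2.specOf, Scheme.Hom.comp_apply]
    rw [show Spec.map (CommRingCat.ofHom (algebraMap (X.presheaf.stalk x') T)) (IsLocalRing.closedPoint T) =
      IsLocalRing.closedPoint (X.presheaf.stalk x') from IsLocalRing.comap_closedPoint _, X.fromSpecStalk_closedPoint]
  rw [← hg, Scheme.Hom.comp_apply, Hens2.specOf, Scheme.Hom.comp_apply] at h1
  have hmem : x' ∈ Set.range (X.fromSpecStalk x) := ⟨_, h1⟩
  rwa [Scheme.range_fromSpecStalk] at hmem

theorem arrow_iff {X : Scheme.{u}} {x x' : X} (h : x' ⤳ x) {R T : Type u} [CommRing R] [Algebra (X.presheaf.stalk x) R]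
    [CommRing T] [Algebra (X.presheaf.stalk x') T] (ψ : R →+* T) :
    Spec.map (CommRingCat.ofHom ψ) ≫ Hens2.specOf X x R = Hens2.specOf X x' T ↔
      ψ.comp (algebraMap (X.presheaf.stalk x) R) =
        (algebraMap (X.presheaf.stalk x') T).comp (X.presheaf.stalkSpecializes h).hom := by
  unfold Hens2.specOf
  rw [← Scheme.SpecMap_stalkSpecializes_fromSpecStalk h, ← Category.assoc, ← Category.assoc, cancel_mono,
    ← Spec.map_comp, ← Spec.map_comp]
  refine ⟨fun e => congrArg CommRingCat.Hom.hom (Spec.map_injective e), fun e => congrArg Spec.map ?_⟩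
  ext1
  exact e


/-- Let X be a scheme, x, x' points of X with strict localisations Spec R -> X and Spec R' -> X (R, R'
strict henselisations of the local rings at x and x'). There is an X-morphism Spec R' -> Spec R,
i.e. the geometric point over x is a specialization of the one over x', if and only if x lies in the
closure of x'. -/
theorem result (X : Scheme.{u}) (x x' : X)
    (R : Type u) [CommRing R] [IsLocalRing R] [Algebra (X.presheaf.stalk x) R]
    [IsLocalHom (algebraMap (X.presheaf.stalk x) R)] [Hensel.IsStrictHenselization (X.presheaf.stalk x) R]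
    (R' : Type u) [CommRing R'] [IsLocalRing R'] [Algebra (X.presheaf.stalk x') R']
    [IsLocalHom (algebraMap (X.presheaf.stalk x') R')] [Hensel.IsStrictHenselization (X.presheaf.stalk x') R'] :
    (∃ g : Spec (CommRingCat.of R') ⟶ Spec (CommRingCat.of R), g ≫ Hens2.specOf X x R = Hens2.specOf X x' R') ↔
      x' ⤳ x := by
  constructor
  · rintro ⟨g, hg⟩
    exact specializes g hg
  intro h
  have := Hensel.IsStrictHenselization.henselian (R := X.presheaf.stalk x') (S := R')
  have : IsSepClosed (IsLocalRing.ResidueField R') :=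
    (Hensel.IsStrictHenselization.isSepClosure (R := X.presheaf.stalk x') (S := R')).1
  let α := (algebraMap (X.presheaf.stalk x') R').comp (X.presheaf.stalkSpecializes h).hom
  obtain ⟨χ, hχ⟩ := Unr55.SpecArrows.exists_extension R ((IsLocalRing.residue R').comp α)
  obtain ⟨ψ, ⟨hψ, -⟩, -⟩ := Unr55.SpecArrows.existsUnique_lift R α χ hχ
  exact ⟨Spec.map (CommRingCat.ofHom ψ), (arrow_iff h ψ).mpr hψ⟩

end Groth.Agent.S5593
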