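import Groth.Statements.S5594
import Groth.Agent.Unr55.SpecArrows

set_option autoImplicit false
open CategoryTheory CategoryTheory.Limits AlgebraicGeometry Opposite
universe u
open EtDesc

namespace Groth.Agent.S5594

theorem specializes {X : Scheme.{u}} {x x' : X} {R T : Type u} [CommRing R] [Algebra (X.presheaf.stalk x) R]
    [CommRing T] [IsLocalRing T] [Algebra (X.presheaf.stalk x') T] [IsLocalHom (algebraMap (X.presheaf.stalk x') T)]
    (g : Spec (CommRingCat.of T) ⟶ Spec (CommRingCat.of R))
    (hg : g ≫ Hens2.specOf X x R = Hens2.specOf X x' T) : x' ⤳ x := by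
  have h1 : Hens2.specOf X x' T (IsLocalRing.closedPoint T) = x' := by
    rw [Hens2.specOf, Scheme.Hom.comp_apply]
    rw [show Spec.map (CommRingCat.ofHom (algebraMap (X.presheaf.stalk x') T)) (IsLocalRing.closedPoint T) =
      IsLocalRing.closedPoint (X.presheaf.stalk x') from IsLocalRing.comap_closedPoint _, X.fromSpecStalk_closedPoint]
  rw [← hg, Scheme.Hom.comp_apply, Hens2.specOf, Scheme.Hom.comp_apply] at h1
  have hmem : x' ∈ Set.range (X.fromSpecStalk x) := ⟨_, h1⟩
  rwa [Scheme.range_fromSpecStalk] at hmem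

theorem arrow_iff {X : Scheme.{u}} {x x' : X} (h : x' ⤳ x) {R T : Type u} [CommRing R] [Algebra (X.presheaf.stalk x) R]
    [CommRing T] [Algebra (X.presheaf.stalk x') T] (ψ : R →+* T) :
    Spec.map (CommRingCat.ofHom ψ) ≫ Hens2.specOf X x R = Hens2.specOf X x' T ↔
      ψ.comp (algebraMap (X.presheaf.stalk x) R) =
        (algebraMap (X.presheaf.stalk x') T).comp (X.presheaf.stalkSpecializes h).hom := by
  unfold Hens2.specOf
  rw [← Scheme.SpecMap_stalkSpecializes_fromSpecStalk h, ← Category.assoc, ← Category.assoc, cancel_mono,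
    ← Spec.map_comp, ← Spec.map_comp]
  refine ⟨fun e => congrArg CommRingCat.Hom.hom (Spec.map_injective e), fun e => congrArg Spec.map ?_⟩
  ext1
  exact e


/-- Let X be a scheme, x, x' points of X with strict localisations Spec R -> X and Spec R' -> X, and ξ'
: Spec κ(R') -> Spec R' the closed point, a geometric point of X over x'. Then restricting along ξ'
is a bijection from the X-morphisms Spec R' -> Spec R (specialization arrows) onto the X-morphisms
from the geometric point Spec κ(R') to Spec R: injectivity and surjectivity are stated separately. -/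
theorem result (X : Scheme.{u}) (x x' : X)
    (R : Type u) [CommRing R] [IsLocalRing R] [Algebra (X.presheaf.stalk x) R]
    [IsLocalHom (algebraMap (X.presheaf.stalk x) R)] [Hensel.IsStrictHenselization (X.presheaf.stalk x) R]
    (R' : Type u) [CommRing R'] [IsLocalRing R'] [Algebra (X.presheaf.stalk x') R']
    [IsLocalHom (algebraMap (X.presheaf.stalk x') R')] [Hensel.IsStrictHenselization (X.presheaf.stalk x') R'] :
    (∀ g₁ g₂ : Spec (CommRingCat.of R') ⟶ Spec (CommRingCat.of R),
      g₁ ≫ Hens2.specOf X x R = Hens2.specOf X x' R' → g₂ ≫ Hens2.specOf X x R = Hens2.specOf X x' R' →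
      Spec.map (CommRingCat.ofHom (IsLocalRing.residue R')) ≫ g₁ =
        Spec.map (CommRingCat.ofHom (IsLocalRing.residue R')) ≫ g₂ → g₁ = g₂) ∧
    (∀ h : Spec (CommRingCat.of (IsLocalRing.ResidueField R')) ⟶ Spec (CommRingCat.of R),
      h ≫ Hens2.specOf X x R = Hens2.geomPt X x' R' →
      ∃ g : Spec (CommRingCat.of R') ⟶ Spec (CommRingCat.of R),
        g ≫ Hens2.specOf X x R = Hens2.specOf X x' R' ∧
        Spec.map (CommRingCat.ofHom (IsLocalRing.residue R')) ≫ g = h) := by
  have := Hensel.IsStrictHenselization.henselian (R := X.presheaf.stalk x') (S := R')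
  refine ⟨fun g₁ g₂ h₁ h₂ e => ?_, fun g₀ hg₀ => ?_⟩
  · have h := specializes g₁ h₁
    obtain ⟨φ₁, rfl⟩ := Spec.map_surjective g₁
    obtain ⟨φ₂, rfl⟩ := Spec.map_surjective g₂
    have hφ₁ := (arrow_iff h φ₁.hom).mp h₁
    have hφ₂ := (arrow_iff h φ₂.hom).mp h₂
    rw [← Spec.map_comp, ← Spec.map_comp] at e
    have e' : (IsLocalRing.residue R').comp φ₁.hom = (IsLocalRing.residue R').comp φ₂.hom :=
      congrArg CommRingCat.Hom.hom (Spec.map_injective e)
    obtain ⟨ψ, -, hu⟩ := Unr55.SpecArrows.existsUnique_lift R _ ((IsLocalRing.residue R').comp φ₁.hom)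
      (by rw [RingHom.comp_assoc, hφ₁])
    exact congrArg Spec.map (CommRingCat.hom_ext ((hu _ ⟨hφ₁, rfl⟩).trans (hu _ ⟨hφ₂, e'.symm⟩).symm))
  · have hpt : Hens2.geomPt X x' R' (IsLocalRing.closedPoint (IsLocalRing.ResidueField R')) = x' := by
      rw [Hens2.geomPt, Scheme.Hom.comp_apply, show Spec.map (CommRingCat.ofHom (IsLocalRing.residue R'))
        (IsLocalRing.closedPoint (IsLocalRing.ResidueField R')) = IsLocalRing.closedPoint R' from
          IsLocalRing.comap_closedPoint (IsLocalRing.residue R'), Hens2.specOf, Scheme.Hom.comp_apply,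
        show Spec.map (CommRingCat.ofHom (algebraMap (X.presheaf.stalk x') R')) (IsLocalRing.closedPoint R') =
          IsLocalRing.closedPoint (X.presheaf.stalk x') from IsLocalRing.comap_closedPoint _,
        X.fromSpecStalk_closedPoint]
    rw [← hg₀, Scheme.Hom.comp_apply, Hens2.specOf, Scheme.Hom.comp_apply] at hpt
    have h : x' ⤳ x := by
      have hmem : x' ∈ Set.range (X.fromSpecStalk x) := ⟨_, hpt⟩
      rwa [Scheme.range_fromSpecStalk] at hmem
    let α := (algebraMap (X.presheaf.stalk x') R').comp (X.presheaf.stalkSpecializes h).hom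
    obtain ⟨χ, rfl⟩ := Spec.map_surjective g₀
    have hχ : χ.hom.comp (algebraMap (X.presheaf.stalk x) R) = (IsLocalRing.residue R').comp α := by
      have e := hg₀
      unfold Hens2.geomPt Hens2.specOf at e
      rw [← Scheme.SpecMap_stalkSpecializes_fromSpecStalk h] at e
      simp only [← Category.assoc, cancel_mono, ← Spec.map_comp] at e
      exact congrArg CommRingCat.Hom.hom (Spec.map_injective e)
    obtain ⟨ψ, ⟨hψ, hψr⟩, -⟩ := Unr55.SpecArrows.existsUnique_lift R α χ.hom hχ
    refine ⟨Spec.map (CommRingCat.ofHom ψ), (arrow_iff h ψ).mpr hψ, ?_⟩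
    rw [← Spec.map_comp]
    exact congrArg Spec.map (CommRingCat.hom_ext hψr)

end Groth.Agent.S5594
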