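import Groth.Prelude.Def_SGA4b
import Mathlib.FieldTheory.IsSepClosed
import Groth.Agent.Unr55.Et.Stalk
import Mathlib.CategoryTheory.Sites.EpiMono

set_option autoImplicit false
open CategoryTheory CategoryTheory.Limits AlgebraicGeometry Opposite
universe u
namespace EtDesc
end EtDesc
open EtDesc

namespace Groth.Agent.S5596

/-- A morphism v : F -> G of etale sheaves of sets on a scheme X is a monomorphism (resp. an
epimorphism) if and only if for every geometric point ξ of X (a morphism from the spectrum of a
separably closed field) the map of stalks F_ξ -> G_ξ is injective (resp. surjective). -/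
theorem result {X : Scheme.{u}} {F G : EtDesc.Sh X} (v : F ⟶ G) :
    (Mono v ↔ ∀ (Ω : Type u) [Field Ω] [IsSepClosed Ω] (ξ : Spec (CommRingCat.of Ω) ⟶ X),
      Function.Injective (((Scheme.pointSmallEtale ξ).sheafFiber (A := Type (u + 1))).map v)) ∧
    (Epi v ↔ ∀ (Ω : Type u) [Field Ω] [IsSepClosed Ω] (ξ : Spec (CommRingCat.of Ω) ⟶ X),
      Function.Surjective (((Scheme.pointSmallEtale ξ).sheafFiber (A := Type (u + 1))).map v)) := by
  have : PreservesFilteredColimitsOfSize.{u, u} (forget (Type (u + 1))) :=
    preservesFilteredColimitsOfSize_shrink.{u, u + 1, u, u + 1} _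
  constructor
  · constructor
    · intro hv Ω _ _ ξ
      have : Mono v.hom := inferInstanceAs (Mono ((sheafToPresheaf _ _).map v))
      have : Presheaf.IsLocallyInjective X.smallEtaleTopology v.hom :=
        Presheaf.isLocallyInjective_of_injective _ _ fun U => by
          rw [← CategoryTheory.mono_iff_injective]
          infer_instance
      exact (Scheme.pointSmallEtale ξ).toPresheafFiber_map_injective v.hom
    · intro h
      have : Mono v.hom := by
        rw [NatTrans.mono_iff_mono_app]
        intro U
        rw [CategoryTheory.mono_iff_injective]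
        intro σ σ' hσ
        obtain ⟨U⟩ := U
        let S : Sieve U :=
          { arrows := fun V g => F.obj.map g.op σ = F.obj.map g.op σ'
            downward_closed := fun {V W g} hg k => by
              change F.obj.map (k ≫ g).op σ = F.obj.map (k ≫ g).op σ'
              rw [op_comp, Functor.map_comp]
              exact congrArg (F.obj.map k.op) hg }
        have hS : S ∈ X.smallEtaleTopology U := Unr55.EtSh.mem_topology fun x => by
          obtain ⟨K, _, _, η, t, ht⟩ := Unr55.EtSh.point_over U x
          have e : (Scheme.pointSmallEtale η).toPresheafFiber U t F.obj σ =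
              (Scheme.pointSmallEtale η).toPresheafFiber U t F.obj σ' := by
            refine h K η ?_
            refine ((Scheme.pointSmallEtale η).toPresheafFiber_naturality_apply v.hom U t σ).trans ?_
            refine Eq.trans ?_ ((Scheme.pointSmallEtale η).toPresheafFiber_naturality_apply v.hom U t σ').symm
            exact congrArg _ hσ
          obtain ⟨V, g, t', h1, h2⟩ := ((Scheme.pointSmallEtale η).toPresheafFiber_eq_iff' (P := F.obj) U t σ σ').1 e
          refine ⟨V, g, Unr55.EtSh.hom η t' default, h2, ?_⟩
          rw [← ht, ← h1]
          rfl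
        exact (((isSheaf_iff_isSheaf_of_type _ _).1 F.property) S hS).isSeparatedFor.ext fun V g hg => hg
      exact (sheafToPresheaf X.smallEtaleTopology (Type (u + 1))).mono_of_mono_map this
  · constructor
    · intro hv Ω _ _ ξ
      have : Sheaf.IsLocallySurjective v := (Sheaf.isLocallySurjective_iff_epi' (A := Type (u + 1)) v).2 hv
      exact (Scheme.pointSmallEtale ξ).toPresheafFiber_map_surjective v.hom
    · intro h
      have : Sheaf.IsLocallySurjective v := by
        refine ⟨fun {U} τ => Unr55.EtSh.mem_topology fun x => ?_⟩
        obtain ⟨K, _, _, η, t, ht⟩ := Unr55.EtSh.point_over U x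
        let Φ := Scheme.pointSmallEtale η
        obtain ⟨s, hs⟩ := h K η (Φ.toPresheafFiber U t G.obj τ)
        obtain ⟨V, t', σ, rfl⟩ := Φ.toPresheafFiber_jointly_surjective (P := F.obj) s
        replace hs := (Φ.toPresheafFiber_naturality_apply v.hom V t' σ).symm.trans hs
        obtain ⟨⟨W, w⟩, a, b, -⟩ := IsCofiltered.toIsCofilteredOrEmpty.cone_objs
          (C := (Scheme.pointSmallEtale η).fiber.Elements) ⟨U, t⟩ ⟨V, t'⟩
        have e : Φ.toPresheafFiber W w G.obj (G.obj.map a.val.op τ) =
            Φ.toPresheafFiber W w G.obj (v.hom.app (op W) (F.obj.map b.val.op σ)) := by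
          have hn : v.hom.app (op W) (F.obj.map b.val.op σ) = G.obj.map b.val.op (v.hom.app (op V) σ) :=
            NatTrans.naturality_apply v.hom b.val.op σ
          rw [hn]
          refine (Φ.toPresheafFiber_w_apply a.val w G.obj τ).trans ?_
          refine Eq.trans ?_ (Φ.toPresheafFiber_w_apply b.val w G.obj _).symm
          rw [show Φ.fiber.map a.val w = t from a.property, show Φ.fiber.map b.val w = t' from b.property]
          exact hs.symm
        obtain ⟨W', g, w', h1, h2⟩ := (Φ.toPresheafFiber_eq_iff' (P := G.obj) W w _ _).1 e
        refine ⟨W', g ≫ a.val, Unr55.EtSh.hom η w' default, ⟨F.obj.map g.op (F.obj.map b.val.op σ), ?_⟩, ?_⟩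
        · rw [op_comp, Functor.map_comp]
          exact (NatTrans.naturality_apply v.hom g.op _).trans h2.symm
        · exact ((congrArg (fun q => Unr55.EtSh.hom η q default)
            (congrArg ((Scheme.pointSmallEtale η).fiber.map a.val) h1)).trans
            (congrArg (fun q => Unr55.EtSh.hom η q default) a.property)).trans ht
      exact (Sheaf.isLocallySurjective_iff_epi' (A := Type (u + 1)) v).1 this

end Groth.Agent.S5596
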