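import Groth.Statements.S5597
import Groth.Agent.PCoh41.Approx

set_option autoImplicit false
universe w v u
open CategoryTheory CategoryTheory.Limits
open PCoh

namespace Groth.Agent.S5597

/-- Punctual site: let C be an abelian category and C₀ a strictly full additive subcategory,
quasi-stable under kernels of epimorphisms and quasi-liftable. If F is strictly n-pseudo-coherent
(bounded above, terms in C₀ from degree n on) and u : E ⟶ F is a quasi-isomorphism of cochain
complexes, then E receives a quasi-isomorphism from some strictly n-pseudo-coherent complex. -/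
theorem result {C : Type u} [Category.{v} C] [Abelian C]
    (P : ObjectProperty C) [P.IsClosedUnderIsomorphisms] [P.ContainsZero] (hsum : ∀ X Y : C, P X → P Y → P (X ⨯ Y))
    (hqs : PCoh.IsQuasiStableUnderKernels P) (hql : PCoh.IsQuasiLiftable P)
    (n : ℤ) (E F : CochainComplex C ℤ) (hF : PCoh.IsStrictPC P n F) (u : E ⟶ F) (hu : QuasiIso u) :
    ∃ (F' : CochainComplex C ℤ) (v : F' ⟶ E), PCoh.IsStrictPC P n F' ∧ QuasiIso v := by
  have hA : PCoh41.Add P := PCoh41.add_mk hsum
  obtain ⟨b, hb⟩ := hF.1
  obtain ⟨A⟩ := PCoh41.approx_of_quasiIso hA hqs hql u n (max b n) hF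
    (fun j hj => (PCoh41.isZero_homology_of_quasiIso u j).2
      (PCoh41.isZero_homology_of_isZero_X _ _ (hb j (by omega)))) (by omega)
  obtain ⟨L, v, hv, hL, -⟩ := PCoh41.qiso_of_app hA A (by omega)
  exact ⟨L, v, hL, hv⟩

end Groth.Agent.S5597
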