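import Groth.Statements.S5598
import Groth.Agent.PCoh41.Approx

set_option autoImplicit false
universe w v u
open CategoryTheory CategoryTheory.Limits
open PCoh

namespace Groth.Agent.S5598

/-- (i') ⇔ (ii') (punctual site): let C be an abelian category and C₀ a strictly full additive
subcategory, quasi-stable under kernels of epimorphisms and quasi-liftable. An object F of D(C) is
n-pseudo-coherent (isomorphic in D(C) to a strictly n-pseudo-coherent complex) if and only if there
are a strictly perfect complex E (bounded, all terms in C₀) and a morphism E ⟶ F of D(C) which is an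
n-isomorphism: an isomorphism on H^i for i > n and an epimorphism on H^n. -/
theorem result {C : Type u} [Category.{v} C] [Abelian C] [HasDerivedCategory.{w} C]
    (P : ObjectProperty C) [P.IsClosedUnderIsomorphisms] [P.ContainsZero] (hsum : ∀ X Y : C, P X → P Y → P (X ⨯ Y))
    (hqs : PCoh.IsQuasiStableUnderKernels P) (hql : PCoh.IsQuasiLiftable P)
    (n : ℤ) (F : DerivedCategory C) :
    (∃ E : CochainComplex C ℤ, PCoh.IsStrictPC P n E ∧ Nonempty (DerivedCategory.Q.obj E ≅ F)) ↔
      ∃ (E : CochainComplex C ℤ) (a b : ℤ) (α : DerivedCategory.Q.obj E ⟶ F),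
        (∀ i : ℤ, i < a ∨ b < i → IsZero (E.X i)) ∧ (∀ i : ℤ, P (E.X i)) ∧
        (∀ i : ℤ, n < i → IsIso ((DerivedCategory.homologyFunctor C i).map α)) ∧
        Epi ((DerivedCategory.homologyFunctor C n).map α) := by
  have hA : PCoh41.Add P := PCoh41.add_mk hsum
  let K := DerivedCategory.Q.objPreimage F
  let e : DerivedCategory.Q.obj K ≅ F := DerivedCategory.Q.objObjPreimageIso F
  constructor
  · intro h
    obtain ⟨b, hb⟩ := PCoh41.pcn_bound h
    obtain ⟨A⟩ := PCoh41.approx_of_pcn hA hqs hql K n (max b n) (PCoh41.pcn_iso e.symm h)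
      (fun j hj => (PCoh41.isZero_H_iff K j).1 ((hb j (by omega)).of_iso
        ((DerivedCategory.homologyFunctor C j).mapIso e))) (by omega)
    refine ⟨A.L, n, max b n, DerivedCategory.Q.map A.ℓ ≫ e.hom,
      fun i hi => hi.elim (A.hlow i) (A.hup i), A.hP, fun i hi => ?_, ?_⟩
    · have := (PCoh41.isIso_H_map_iff A.ℓ i).2 (((PCoh41.nqiso_iff _ n).1 A.hn).1 i hi)
      rw [Functor.map_comp]; infer_instance
    · have := (PCoh41.epi_H_map_iff A.ℓ n).2 (((PCoh41.nqiso_iff _ n).1 A.hn).2)
      rw [Functor.map_comp]; infer_instance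
  · rintro ⟨E, a, b, α, hE, hP, h1, h2⟩
    obtain ⟨Z, g, δ, hT⟩ := Pretriangulated.distinguished_cocone_triangle α
    have hac := (PCoh41.triangle_criterion _ hT n).2 ⟨h1, h2⟩
    exact PCoh41.pcn₂ hA hqs hql _ hT n
      ⟨E, ⟨⟨b, fun i hi => hE i (Or.inr hi)⟩, fun i _ => hP i⟩, ⟨Iso.refl _⟩⟩
      (PCoh41.pcn_of_acyclic hA (n - 1) n (by omega) (fun i hi => hac i (by omega)))

end Groth.Agent.S5598
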