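import Groth.Statements.S5606
import Groth.Agent.PCoh41.Devissage

set_option autoImplicit false
universe w v u
open CategoryTheory CategoryTheory.Limits
open PCoh

namespace Groth.Agent.S5606

/-- Let C be an abelian category, C₀ ⊆ C₁ strictly full additive subcategories with C₀ quasi-stable
under kernels of epimorphisms and quasi-liftable. If every object of C₁ is C₀-pseudo-coherent, then
C₁ is quasi-liftable in C and quasi-stable under kernels of epimorphisms. -/
theorem result {C : Type u} [Category.{v} C] [Abelian C] [HasDerivedCategory.{w} C]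
    (P : ObjectProperty C) [P.IsClosedUnderIsomorphisms] [P.ContainsZero] (hsum : ∀ X Y : C, P X → P Y → P (X ⨯ Y))
    (hqs : PCoh.IsQuasiStableUnderKernels P) (hql : PCoh.IsQuasiLiftable P)
    (P₁ : ObjectProperty C) [P₁.IsClosedUnderIsomorphisms] [P₁.ContainsZero]
    (hsum₁ : ∀ X Y : C, P₁ X → P₁ Y → P₁ (X ⨯ Y)) (hle : ∀ X : C, P X → P₁ X)
    (hpc : ∀ X : C, P₁ X → PCoh.IsPC P ((DerivedCategory.singleFunctor C 0).obj X)) :
    PCoh.IsQuasiLiftable P₁ ∧ PCoh.IsQuasiStableUnderKernels P₁ := by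
  have hA : PCoh41.Add P := PCoh41.add_mk hsum
  have hft : ∀ X, (∀ n, PCoh41.PObj P n X) → PCoh.IsOfFiniteType P X := fun X hX =>
    PCoh41.ft_of_pobj hqs le_rfl (hX 0)
  refine ⟨fun E F u hu hF => ?_, fun K hK hfin hP => ?_⟩
  · obtain ⟨E₀, g, hE₀, hg⟩ := PCoh41.ft_lift hql u (hft F (hpc F hF))
    exact ⟨E₀, g, hle _ hE₀, hg⟩
  · obtain ⟨c, hc⟩ := hfin
    have h1 : ∀ n, PCoh41.PObj P n (K.cycles 1) :=
      PCoh41.cycles_induction_nat K (fun X => ∀ n, PCoh41.PObj P n X)
        (fun h n => PCoh41.pobj_of_prop hA (hA.zero h) n)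
        (fun S hS h₂ h₃ n => by
          have := PCoh41.pobj₁ hA hqs hql S hS (n - 1) (h₂ _) (h₃ _)
          rwa [sub_add_cancel] at this)
        1 c hc (fun i _ => hK i) (fun i hi => hpc _ (hP i hi))
    have h0 : IsZero (K.cycles 0) :=
      (((K.exactAt_iff_isZero_homology 0).1 (hK 0))).of_iso
        (K.isoHomologyπ 0 0 (by simp) (K.shape 0 0 (by simp)))
    have hS := PCoh41.cyclesSC_shortExact K 0 1 rfl (hK 1)
    have := hS.epi_g
    have : Mono (PCoh41.cyclesSC K 0 1).g := hS.exact.mono_g (h0.eq_of_src _ _)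
    obtain ⟨E₀, π, hE₀, hπ⟩ := PCoh41.ft_of_iso
      (@asIso _ _ _ _ (PCoh41.cyclesSC K 0 1).g (isIso_of_mono_of_epi _)).symm (hft _ h1)
    exact ⟨E₀, π, hle _ hE₀, hπ⟩

end Groth.Agent.S5606
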