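import Groth.Statements.S5608
import Groth.Agent.PCoh41.Devissage

set_option autoImplicit false
universe w v u
open CategoryTheory CategoryTheory.Limits
open PCoh

namespace Groth.Agent.S5608

/-- Punctual site: let C be an abelian category and C₀ a strictly full additive subcategory,
quasi-liftable in C, whose objects are C₀-coherent (of C₀-finite type, and every morphism from an
object of C₀ into them has kernel of C₀-finite type). For F ∈ D(C) with bounded above cohomology and
n an integer: F is n-pseudo-coherent (isomorphic to a strictly n-pseudo-coherent complex) if and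
only if H^n(F) is of C₀-finite type and H^i(F) is C₀-coherent for every i > n. -/
theorem result {C : Type u} [Category.{v} C] [Abelian C] [HasDerivedCategory.{w} C]
    (P : ObjectProperty C) [P.IsClosedUnderIsomorphisms] [P.ContainsZero] (hsum : ∀ X Y : C, P X → P Y → P (X ⨯ Y))
    (hql : PCoh.IsQuasiLiftable P)
    (hcoh : ∀ (X E : C) (u : E ⟶ X), P X → P E → PCoh.IsOfFiniteType P (kernel u))
    (n : ℤ) (F : DerivedCategory C) (b : ℤ) (hb : ∀ i : ℤ, b < i → IsZero ((DerivedCategory.homologyFunctor C i).obj F)) :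
    (∃ E : CochainComplex C ℤ, PCoh.IsStrictPC P n E ∧ Nonempty (DerivedCategory.Q.obj E ≅ F)) ↔
      (PCoh.IsOfFiniteType P ((DerivedCategory.homologyFunctor C n).obj F) ∧
        ∀ i : ℤ, n < i → (PCoh.IsOfFiniteType P ((DerivedCategory.homologyFunctor C i).obj F) ∧
          ∀ (E : C) (u : E ⟶ (DerivedCategory.homologyFunctor C i).obj F), P E → PCoh.IsOfFiniteType P (kernel u))) := by
  have hA : PCoh41.Add P := PCoh41.add_mk hsum
  have hqs : PCoh.IsQuasiStableUnderKernels P := by
    intro K hK hfin hP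
    have hS : (K.sc' 0 1 2).Exact := (K.exactAt_iff' 0 1 2 (by simp) (by simp)).1 (hK 1)
    have : Mono (K.sc' 0 1 2).f := ((K.sc' 0 0 1).exact_iff_mono (K.shape 0 0 (by simp))).1
      ((K.exactAt_iff' 0 0 1 (by simp) (by simp)).1 (hK 0))
    exact PCoh41.ft_kernel_of_precoh (K.sc' 0 1 2) hS this (PCoh41.ft_of_prop (hP 1 le_rfl))
      (fun E u hE => hcoh _ E u (hP 2 (by omega)) hE)
  have hsub : ∀ {X Y : C} (f : X ⟶ Y), Mono f → PCoh41.Precoh P Y → PCoh41.Precoh P X :=
    fun f _ h E u hE => PCoh41.ft_of_iso (kernelCompMono u f) (h E (u ≫ f) hE)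
  have hres : ∀ (k : ℕ) (X : C), PCoh.IsOfFiniteType P X → PCoh41.Precoh P X →
      PCoh41.PObj P (-(k : ℤ)) X := by
    intro k
    induction k with
    | zero => intro X h _; simpa using PCoh41.pobj_zero_of_ft hA hql h
    | succ k ih =>
      intro X h hX
      obtain ⟨E₀, π, hE₀, hπ⟩ := h
      let S := ShortComplex.mk (kernel.ι π) π (kernel.condition π)
      have hS : S.ShortExact := ShortComplex.ShortExact.mk (ShortComplex.exact_kernel π)
      exact PCoh41.pobj₃ hA hqs hql S hS _
        (PCoh41.pcn_mono (by push_cast; omega)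
          (ih _ (hX E₀ π hE₀) (hsub (kernel.ι π) inferInstance (fun E u hE => hcoh _ E u hE₀ hE))))
        (PCoh41.pobj_of_prop hA hE₀ _)
  constructor
  · rintro ⟨E, ⟨⟨c, hc⟩, hP⟩, ⟨e⟩⟩
    have hz : ∀ i, n ≤ i → PCoh.IsOfFiniteType P (E.cycles i) := fun i hi => by
      refine PCoh41.ft_kernel_of_precoh
        (ShortComplex.mk (E.iCycles i) (E.d i (i + 1)) (E.iCycles_d _ _)) ?_
        (inferInstanceAs (Mono (E.iCycles i))) (PCoh41.ft_of_prop (hP i hi))
        (fun E' u hE' => hcoh _ E' u (hP (i + 1) (by omega)) hE')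
      exact ShortComplex.exact_of_f_is_kernel _ (E.cyclesIsKernel i (i + 1) (by simp))
    let eH := fun i => (PCoh41.hIso E i).symm ≪≫ (DerivedCategory.homologyFunctor C i).mapIso e
    refine ⟨PCoh41.ft_of_epi (E.homologyπ n ≫ (eH n).hom) (hz n le_rfl), fun i hi => ?_⟩
    refine ⟨PCoh41.ft_of_epi (E.homologyπ i ≫ (eH i).hom) (hz i hi.le), ?_⟩
    have h : PCoh41.Precoh P (E.homology i) :=
      PCoh41.precoh_cokernel hA hql
        (ShortComplex.mk (E.toCycles (i - 1) i) (E.homologyπ i) (E.toCycles_comp_homologyπ _ _))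
        (ShortComplex.exact_of_g_is_cokernel _ (E.homologyIsCokernel (i - 1) i (by simp)))
        (inferInstanceAs (Epi (E.homologyπ i))) (PCoh41.ft_of_prop (hP (i - 1) (by omega)))
        (hsub (E.iCycles i) inferInstance (fun E' u hE' => hcoh _ E' u (hP i hi.le) hE'))
    exact hsub (eH i).inv inferInstance h
  · rintro ⟨h1, h2⟩
    refine PCoh41.pcn_of_homology hA hqs hql n F b hb (fun i hi => ?_)
    rcases eq_or_lt_of_le hi with rfl | hi'
    · rw [sub_self]; exact PCoh41.pobj_zero_of_ft hA hql h1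
    · exact PCoh41.pcn_mono (by omega) (hres (i - n).toNat _ (h2 i hi').1 (h2 i hi').2)

end Groth.Agent.S5608
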