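import Groth.Statements.S5611
import Groth.Agent.DR39.Perf

set_option autoImplicit false
universe u
open CategoryTheory CategoryTheory.Limits
attribute [local instance] HasDerivedCategory.standard
open DRing

namespace Groth.Agent.S5611

/-- For the punctual topos ringed by a commutative ring A: let K ∈ D(A) and m ≤ n. Then K has perfect
amplitude in [m, n], that is K is isomorphic in D(A) to a complex of finite projective modules
vanishing outside [m, n], if and only if K is (m - 1)-pseudo-coherent and has tor amplitude in [m,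
n] (isomorphic to a complex of flat modules vanishing outside [m, n]). -/
theorem result {A : Type u} [CommRing A]
    (K : Dual.D A) (m n : ℤ) (hmn : m ≤ n) :
    (DRing.IsPseudoCoherent A (m - 1) K ∧ DRing.HasTorAmplitudeIn A m n K) ↔
      ∃ E : DRing.Cx A, DRing.VanishesOutside E m n ∧ DRing.TermwiseFiniteProjective E ∧
        Nonempty (DRing.toD E ≅ K) := by
  constructor
  · rintro ⟨hpc, h⟩
    obtain ⟨E, hv, hE, he⟩ := DR39.rep_FP_of_pc_of_ta hpc h
    exact ⟨E, (DR39.vanishesOutside_iff E m n).2 hv, hE, he⟩
  · rintro ⟨E, hv, hE, ⟨e⟩⟩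
    exact ⟨DR39.pc_of_rep_FP ⟨E, (DR39.vanishesAbove_iff E n).1 fun i hi => hv i (Or.inr hi), hE, ⟨e⟩⟩ _,
      E, hv, fun i => DR39.flat_of_FP (hE i), ⟨e⟩⟩

end Groth.Agent.S5611
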