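import Groth.Statements.S5612
import Groth.Agent.DR39.Balance
import Mathlib.Data.Int.Interval

set_option autoImplicit false
universe u
open CategoryTheory CategoryTheory.Limits
attribute [local instance] HasDerivedCategory.standard
open DRing

namespace Groth.Agent.S5612

/-- Let A be a commutative ring all of whose modules have finite tor dimension (for instance A of finite
global dimension) and K ∈ D(A). (i) K has finite tor dimension if and only if K has bounded
cohomology. (ii) K is perfect if and only if K has bounded cohomology and is pseudo-coherent. -/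
theorem result {A : Type u} [CommRing A]
    (hA : ∀ (M : Type u) [AddCommGroup M] [Module A M], DRing.HasFiniteTorDim A M) (K : Dual.D A) :
    (DRing.HasFiniteTorDimCx A K ↔ ∃ a b : ℤ, ∀ i : ℤ, i < a ∨ b < i → Subsingleton (Dual.HD A K i)) ∧
      (DRing.IsPerfect A K ↔
        (∃ a b : ℤ, ∀ i : ℤ, i < a ∨ b < i → Subsingleton (Dual.HD A K i)) ∧ DRing.IsPseudoCoherent' A K) := by
  have key : DRing.HasFiniteTorDimCx A K ↔
      ∃ a b : ℤ, ∀ i : ℤ, i < a ∨ b < i → Subsingleton (Dual.HD A K i) := by
    constructor
    · rintro ⟨a, b, h⟩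
      refine ⟨a, b, fun i hi => (DR39.isZero_HF_iff K i).1 ?_⟩
      rcases hi with hi | hi
      · exact DR39.TA.isZero_low h i hi
      · exact DR39.TA.acyc h i hi
    · rintro ⟨a, b, hab⟩
      choose d hd using fun i : ℤ => hA (Dual.HD A K i)
      let D : ℤ := ∑ i ∈ Finset.Icc a b, (d i : ℤ)
      refine ⟨a - D, b, DR39.ta_of_homology (c := a) (DR39.acyc_of_subsingleton fun i hi => hab i (Or.inr hi))
        (fun i hi => (DR39.isZero_HF_iff K i).2 (hab i (Or.inl hi))) fun i => ?_⟩
      by_cases hi : a ≤ i ∧ i ≤ b
      · have : (d i : ℤ) ≤ D := Finset.single_le_sum (f := fun j => (d j : ℤ)) (fun j _ => by simp)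
          (Finset.mem_Icc.2 hi)
        exact DR39.TA.mono ((DR39.hasTorDimLE_iff _ (d i)).1 (hd i)) (by omega) (by omega)
      · refine DR39.ta_of_isZero _ _ (Functor.map_isZero _ ?_)
        exact (DR39.isZero_HF_iff K i).2 (hab i (by omega))
  refine ⟨key, ?_⟩
  rw [DR39.perfect_iff, key, and_comm]

end Groth.Agent.S5612
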