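import Groth.Agent.An92.KZero.Basic
-- Template for statement S5613 (row 5612; see the milestone table for weights).
-- Copy to Groth/Agent/S5613.lean and replace the sorry. The statement below is byte-identical to the frozen
-- statement KZero.GrothFrozen.S5613 (Groth/Statements/S5613.lean; the theorem KZero.clTri_eq_zero_of_hasCoproduct_shifts);
-- the grader kernel-checks Groth.Agent.S5613.result against that frozen type. Keep the theorem IN THIS FILE
-- (a `result` declared elsewhere and merely imported here is not credited); helpers may live anywhere
-- under Groth/Agent/.

set_option autoImplicit false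
universe v u
open CategoryTheory CategoryTheory.Limits CategoryTheory.Pretriangulated
open KZero

namespace Groth.Agent.S5613

/-- Let C be a pretriangulated category, L an object of C and n an integer such that the coproduct ∐_{i
≥ 0} L⟦2ni⟧ exists in C. Then cl(L) = 0 in K₀(C). -/
theorem result {C : Type u} [Category.{v} C] [Preadditive C] [HasZeroObject C]
    [HasShift C ℤ] [∀ n : ℤ, (shiftFunctor C n).Additive] [Pretriangulated C]
    (L : C) (n : ℤ) [HasCoproduct (fun i : ℕ => (shiftFunctor C (2 * n * (i : ℤ))).obj L)] :
    KZero.clTri L = 0 := by
  exact An92.KZero.clTri_eq_zero_of_coproduct_shifts L (2 * n) (fun X => An92.KZero.clTri_shift_two_mul X n)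

end Groth.Agent.S5613
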