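import Groth.Agent.An92.KZero.Basic
-- Template for statement S5615 (row 5614; see the milestone table for weights).
-- Copy to Groth/Agent/S5615.lean and replace the sorry. The statement below is byte-identical to the frozen
-- statement KZero.GrothFrozen.S5615 (Groth/Statements/S5615.lean; the theorem KZero.closure_cl_image_eq_top_of_dense);
-- the grader kernel-checks Groth.Agent.S5615.result against that frozen type. Keep the theorem IN THIS FILE
-- (a `result` declared elsewhere and merely imported here is not credited); helpers may live anywhere
-- under Groth/Agent/.

set_option autoImplicit false
universe v u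
open CategoryTheory CategoryTheory.Limits
open KZero

namespace Groth.Agent.S5615

/-- Let A be an abelian category and S a dense set of objects, meaning that every set of objects which
contains S and which contains the third term of a short exact sequence as soon as it contains the
other two is all of A. Then K₀(A) is generated by the classes of the objects of S. -/
theorem result {A : Type u} [Category.{v} A] [Abelian A] (S : Set A)
    (hdense : ∀ T : Set A, S ⊆ T →
      (∀ X : ShortComplex A, X.ShortExact →
        (X.X₁ ∈ T → X.X₂ ∈ T → X.X₃ ∈ T) ∧ (X.X₁ ∈ T → X.X₃ ∈ T → X.X₂ ∈ T) ∧
          (X.X₂ ∈ T → X.X₃ ∈ T → X.X₁ ∈ T)) → T = Set.univ) :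
    AddSubgroup.closure (KZero.cl '' S) = (⊤ : AddSubgroup (KZero.K0 A)) := by
  exact An92.KZero.closure_cl_image_eq_top S hdense

end Groth.Agent.S5615
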