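import Groth.Statements.S5616
import Groth.Agent.CohDer42.ExtEff
import Mathlib.Algebra.Homology.DerivedCategory.Ext.Map

set_option autoImplicit false
universe w w' v v' u u'
open CategoryTheory CategoryTheory.Limits
open CohDer

namespace Groth.Agent.S5616
open Groth.Agent.CohDer42

/-- Let φ : A ⥤ B be an exact functor of abelian categories and M an object of A. The following are
equivalent: (i) for every L in A and every n, the map Ext^n_A(L, M) → Ext^n_B(φ L, φ M) induced by φ
is bijective; (ii) for every L the map Hom_A(L, M) → Hom_B(φ L, φ M) is bijective, and for every L,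
every n ≥ 1 and every x ∈ Ext^n_B(φ L, φ M) there is an epimorphism L' ⟶ L of A such that x
precomposed with its image under φ vanishes. -/
theorem result
    {A : Type u} [Category.{v} A] [Abelian A] [HasExt.{w} A]
    {B : Type u'} [Category.{v'} B] [Abelian B] [HasExt.{w'} B]
    (φ : A ⥤ B) [φ.Additive] [PreservesFiniteLimits φ] [PreservesFiniteColimits φ] (M : A) :
    (∀ (L : A) (n : ℕ), Function.Bijective (fun f : Abelian.Ext.{w} L M n => Abelian.Ext.mapExactFunctor φ f)) ↔
      ((∀ L : A, Function.Bijective (fun f : L ⟶ M => φ.map f)) ∧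
        ∀ (L : A) (n : ℕ), 1 ≤ n → ∀ x : Abelian.Ext.{w'} (φ.obj L) (φ.obj M) n,
          ∃ (L' : A) (p : L' ⟶ L), Epi p ∧ (Abelian.Ext.mk₀ (φ.map p)).comp x (zero_add n) = 0) := by
  constructor
  · intro h
    refine ⟨fun L => ?_, fun L n hn x => ?_⟩
    · have h0 := h L 0
      have key : (fun f : L ⟶ M => φ.map f) = Abelian.Ext.homEquiv₀ ∘
          (fun f : Abelian.Ext.{w} L M 0 => Abelian.Ext.mapExactFunctor φ f) ∘
            Abelian.Ext.homEquiv₀.symm := by
        funext f
        have e1 : ∀ {X Y : A} (g : X ⟶ Y), Abelian.Ext.homEquiv₀.{w} (Abelian.Ext.mk₀ g) = g :=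
          fun g => (Abelian.Ext.mk₀_bijective _ _).1 (Abelian.Ext.mk₀_homEquiv₀_apply _)
        have e2 : ∀ {X Y : B} (g : X ⟶ Y), Abelian.Ext.homEquiv₀.{w'} (Abelian.Ext.mk₀ g) = g :=
          fun g => (Abelian.Ext.mk₀_bijective _ _).1 (Abelian.Ext.mk₀_homEquiv₀_apply _)
        simp [Abelian.Ext.mapExactFunctor₀, e1, e2]
      rw [key]
      exact Abelian.Ext.homEquiv₀.bijective.comp (h0.comp Abelian.Ext.homEquiv₀.symm.bijective)
    · obtain ⟨k, rfl⟩ := Nat.exists_eq_add_of_le hn
      obtain ⟨y, rfl⟩ := (h L (1 + k)).2 x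
      have : ∀ (m : ℕ) (y : Abelian.Ext.{w} L M (1 + k)), m = k + 1 → ∃ (L' : A) (p : L' ⟶ L),
          Epi p ∧ (Abelian.Ext.mk₀ p).comp y (zero_add (1 + k)) = 0 := by
        intro m y hm
        revert y
        rw [add_comm 1 k]
        exact fun y => exists_epi_kill_ext y
      obtain ⟨L', p, hp, hy⟩ := this _ y rfl
      refine ⟨L', p, hp, ?_⟩
      rw [← Abelian.Ext.mapExactFunctor_mk₀, ← Abelian.Ext.mapExactFunctor_comp, hy,
        Abelian.Ext.mapExactFunctor_zero]
  · rintro ⟨h0, h1⟩
    have base : ∀ L : A, Function.Bijective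
        (fun f : Abelian.Ext.{w} L M 0 => Abelian.Ext.mapExactFunctor φ f) := fun L => by
      rw [Abelian.Ext.mapExactFunctor₀]
      exact Abelian.Ext.homEquiv₀.symm.bijective.comp ((h0 L).comp Abelian.Ext.homEquiv₀.bijective)
    intro L n
    induction n generalizing L with
    | zero => exact base L
    | succ n ih =>
      have hn : 1 + n = n + 1 := add_comm 1 n
      have hext : ∀ {L' : A} (p : L' ⟶ L) (_ : Epi p),
          (ShortComplex.mk (Limits.kernel.ι p) p (Limits.kernel.condition p)).ShortExact :=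
        fun p _ => { exact := ShortComplex.exact_kernel p }
      constructor
      · change Function.Injective (φ.mapExtAddHom L M (n + 1))
        rw [injective_iff_map_eq_zero]
        intro y hy
        obtain ⟨L', p, hp, hpy⟩ := exists_epi_kill_ext y
        have hS := hext p hp
        obtain ⟨y₁, rfl⟩ := Abelian.Ext.contravariant_sequence_exact₃ hS M y hpy hn
        replace hy : (hS.map_of_exact φ).extClass.comp (Abelian.Ext.mapExactFunctor φ y₁) hn = 0 := by
          rw [← Abelian.Ext.mapExactFunctor_extClass φ hS]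
          erw [← Abelian.Ext.mapExactFunctor_comp]
          exact hy
        obtain ⟨z, hz⟩ := Abelian.Ext.contravariant_sequence_exact₁ (hS.map_of_exact φ) (φ.obj M) _ hn hy
        obtain ⟨z₁, rfl⟩ := (ih _).2 z
        have e : (Abelian.Ext.mk₀ (Limits.kernel.ι p)).comp z₁ (zero_add n) = y₁ := by
          apply (ih _).1
          dsimp only
          rw [Abelian.Ext.mapExactFunctor_comp, Abelian.Ext.mapExactFunctor_mk₀]
          exact hz
        rw [← e]
        exact hS.extClass_comp_assoc z₁
      · intro x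
        obtain ⟨L', p, hp, hpx⟩ := h1 L (n + 1) (by omega) x
        have hS := hext p hp
        obtain ⟨u, hu⟩ := Abelian.Ext.contravariant_sequence_exact₃ (hS.map_of_exact φ) (φ.obj M) x hpx hn
        obtain ⟨u₁, rfl⟩ := (ih _).2 u
        refine ⟨hS.extClass.comp u₁ hn, ?_⟩
        dsimp only
        rw [Abelian.Ext.mapExactFunctor_comp, Abelian.Ext.mapExactFunctor_extClass]
        exact hu

end Groth.Agent.S5616
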