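import Groth.Statements.S5618
import Groth.Agent.PCoh41.Limit

set_option autoImplicit false
universe w v u
open CategoryTheory CategoryTheory.Limits
open PCoh

namespace Groth.Agent.S5618

/-- Second assertion (punctual site): let C be an abelian category and C₀ a strictly full additive
subcategory, quasi-stable under kernels of epimorphisms and quasi-liftable. If F ∈ D(C) is
pseudo-coherent and acyclic in degrees ≥ m, then F is isomorphic in D(C) to a strictly
pseudo-coherent complex E (all terms in C₀) with E^i = 0 for i ≥ m. -/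
theorem result {C : Type u} [Category.{v} C] [Abelian C] [HasDerivedCategory.{w} C]
    (P : ObjectProperty C) [P.IsClosedUnderIsomorphisms] [P.ContainsZero] (hsum : ∀ X Y : C, P X → P Y → P (X ⨯ Y))
    (hqs : PCoh.IsQuasiStableUnderKernels P) (hql : PCoh.IsQuasiLiftable P)
    (m : ℤ) (F : DerivedCategory C) (hF : PCoh.IsPC P F)
    (hac : ∀ i : ℤ, m ≤ i → IsZero ((DerivedCategory.homologyFunctor C i).obj F)) :
    ∃ E : CochainComplex C ℤ, (∀ i : ℤ, P (E.X i)) ∧ (∀ i : ℤ, m ≤ i → IsZero (E.X i)) ∧
      Nonempty (DerivedCategory.Q.obj E ≅ F) := by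
  have hA : PCoh41.Add P := PCoh41.add_mk hsum
  let K := DerivedCategory.Q.objPreimage F
  let e : DerivedCategory.Q.obj K ≅ F := DerivedCategory.Q.objObjPreimageIso F
  obtain ⟨L, u, hu, hP, hz⟩ := PCoh41.exists_qiso_all hA hqs hql K (m - 1)
    (fun k => PCoh41.pcn_iso e.symm (hF k))
    (fun j hj => (PCoh41.isZero_H_iff K j).1 ((hac j (by omega)).of_iso
      ((DerivedCategory.homologyFunctor C j).mapIso e)))
  exact ⟨L, hP, fun i hi => hz i (by omega), ⟨asIso (DerivedCategory.Q.map u) ≪≫ e⟩⟩

end Groth.Agent.S5618
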