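import Groth.Statements.S5622
import Groth.Agent.PCoh41.Perfect
import Groth.Agent.PCoh41.Sum

set_option autoImplicit false
universe w v u
open CategoryTheory CategoryTheory.Limits
open PCoh

namespace Groth.Agent.S5622

/-- Let C be an abelian category and C₀ a strictly full additive subcategory, liftable and stable under
kernels of epimorphisms, and a ≤ b. For F', F'' in D(C): (i) ⇒ (ii), where (i) says F' and F'' have
perfect amplitude in [a, b] (each isomorphic to a strictly perfect complex vanishing outside [a, b])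
and (ii) says F' ⊞ F'' does; and (ii) ⇒ (i) when C₀ is stable under direct factors. -/
theorem result {C : Type u} [Category.{v} C] [Abelian C] [HasDerivedCategory.{w} C]
    (P : ObjectProperty C) [P.IsClosedUnderIsomorphisms] [P.ContainsZero] (hsum : ∀ X Y : C, P X → P Y → P (X ⨯ Y))
    (hlift : ∀ (E F : C) (u : E ⟶ F), Epi u → P F → IsSplitEpi u)
    (hst : ∀ (E F : C) (u : E ⟶ F), Epi u → P E → P F → P (kernel u))
    (a b : ℤ) (hab : a ≤ b) (F' F'' : DerivedCategory C) [HasBinaryBiproduct F' F''] :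
    (((∃ E : CochainComplex C ℤ, (∀ i : ℤ, P (E.X i)) ∧ (∀ i : ℤ, i < a ∨ b < i → IsZero (E.X i)) ∧ Nonempty (DerivedCategory.Q.obj E ≅ F')) ∧ (∃ E : CochainComplex C ℤ, (∀ i : ℤ, P (E.X i)) ∧ (∀ i : ℤ, i < a ∨ b < i → IsZero (E.X i)) ∧ Nonempty (DerivedCategory.Q.obj E ≅ F''))) →
        (∃ E : CochainComplex C ℤ, (∀ i : ℤ, P (E.X i)) ∧ (∀ i : ℤ, i < a ∨ b < i → IsZero (E.X i)) ∧ Nonempty (DerivedCategory.Q.obj E ≅ (F' ⊞ F'')))) ∧
      ((∀ (E' E'' : C) [HasBinaryBiproduct E' E''], P (E' ⊞ E'') → P E' ∧ P E'') →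
        (∃ E : CochainComplex C ℤ, (∀ i : ℤ, P (E.X i)) ∧ (∀ i : ℤ, i < a ∨ b < i → IsZero (E.X i)) ∧ Nonempty (DerivedCategory.Q.obj E ≅ (F' ⊞ F''))) →
          (∃ E : CochainComplex C ℤ, (∀ i : ℤ, P (E.X i)) ∧ (∀ i : ℤ, i < a ∨ b < i → IsZero (E.X i)) ∧ Nonempty (DerivedCategory.Q.obj E ≅ F')) ∧ (∃ E : CochainComplex C ℤ, (∀ i : ℤ, P (E.X i)) ∧ (∀ i : ℤ, i < a ∨ b < i → IsZero (E.X i)) ∧ Nonempty (DerivedCategory.Q.obj E ≅ F''))) := by
  have hA : PCoh41.Add P := PCoh41.add_mk hsum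
  have : PreservesBinaryBiproducts (DerivedCategory.Q (C := C)) :=
    preservesBinaryBiproducts_of_preservesBiproducts _
  constructor
  · rintro ⟨⟨E, hPE, hE, ⟨e⟩⟩, E', hPE', hE', ⟨e'⟩⟩
    exact ⟨E ⊞ E', fun i => hA.ofIso (HomologicalComplex.biprodXIso E E' i).symm
        (hA.biprod (hPE i) (hPE' i)),
      fun i hi => ((biprod_isZero_iff _ _).2 ⟨hE i hi, hE' i hi⟩).of_iso
        (HomologicalComplex.biprodXIso E E' i),
      ⟨DerivedCategory.Q.mapBiprod E E' ≪≫ biprod.mapIso e e'⟩⟩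
  · rintro hthick ⟨W, hPW, hW, ⟨eW⟩⟩
    have hqs := PCoh41.qs_of_stable hA hst
    have hql := PCoh41.ql_of_lift hlift
    have hpc : ∀ m, PCoh41.PCn P m F' ∧ PCoh41.PCn P m F'' := fun m =>
      PCoh41.pcn_of_biprod hA hqs hql m F' F''
        ⟨W, ⟨⟨b, fun i hi => hW i (Or.inr hi)⟩, fun i _ => hPW i⟩, ⟨eW⟩⟩
    have hHW : ∀ i, i < a ∨ b < i →
        IsZero ((DerivedCategory.homologyFunctor C i).obj (F' ⊞ F'')) := fun i hi =>
      ((PCoh41.isZero_H_iff W i).2 (PCoh41.isZero_homology_of_isZero_X W i (hW i hi))).of_iso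
        ((DerivedCategory.homologyFunctor C i).mapIso eW).symm
    have hH' : ∀ i, i < a ∨ b < i → IsZero ((DerivedCategory.homologyFunctor C i).obj F') :=
      fun i hi => IsZero.of_mono
        ((DerivedCategory.homologyFunctor C i).map (biprod.inl : F' ⟶ F' ⊞ F'')) (hHW i hi)
    have hH'' : ∀ i, i < a ∨ b < i → IsZero ((DerivedCategory.homologyFunctor C i).obj F'') :=
      fun i hi => IsZero.of_mono
        ((DerivedCategory.homologyFunctor C i).map (biprod.inr : F'' ⟶ F' ⊞ F'')) (hHW i hi)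
    have rep : ∀ G, (∀ m, PCoh41.PCn P m G) →
        (∀ i, i < a ∨ b < i → IsZero ((DerivedCategory.homologyFunctor C i).obj G)) →
        ∃ L : CochainComplex C ℤ, (∀ i, P (L.X i)) ∧ (∀ i, b < i → IsZero (L.X i)) ∧
          L.IsGE a ∧ Nonempty (DerivedCategory.Q.obj L ≅ G) := by
      intro G hG hz
      let K := DerivedCategory.Q.objPreimage G
      let e : DerivedCategory.Q.obj K ≅ G := DerivedCategory.Q.objObjPreimageIso G
      have hK : ∀ i, i < a ∨ b < i → IsZero (K.homology i) := fun i hi =>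
        (PCoh41.isZero_H_iff K i).1 ((hz i hi).of_iso
          ((DerivedCategory.homologyFunctor C i).mapIso e))
      obtain ⟨L, u, hu, hP, hzL⟩ := PCoh41.exists_qiso_all hA hqs hql K b
        (fun m => PCoh41.pcn_iso e.symm (hG m)) (fun j hj => hK j (Or.inr hj))
      exact ⟨L, hP, hzL, (L.isGE_iff a).2 (fun i hi => (L.exactAt_iff_isZero_homology i).2
        ((PCoh41.isZero_homology_of_quasiIso u i).2 (hK i (Or.inl hi)))),
        ⟨asIso (DerivedCategory.Q.map u) ≪≫ e⟩⟩
    obtain ⟨L, hPL, hzL, hgL, ⟨eL⟩⟩ := rep F' (fun m => (hpc m).1) hH'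
    obtain ⟨M, hPM, hzM, hgM, ⟨eM⟩⟩ := rep F'' (fun m => (hpc m).2) hH''
    have hgLM : (L ⊞ M).IsGE a := by
      let e : DerivedCategory.Q.obj (L ⊞ M) ≅ F' ⊞ F'' :=
        DerivedCategory.Q.mapBiprod L M ≪≫ biprod.mapIso eL eM
      exact ((L ⊞ M).isGE_iff a).2 (fun i hi => ((L ⊞ M).exactAt_iff_isZero_homology i).2
        ((PCoh41.isZero_H_iff _ i).1 ((hHW i (Or.inl hi)).of_iso
          ((DerivedCategory.homologyFunctor C i).mapIso e))))
    have hop : P (L.opcycles a) ∧ P (M.opcycles a) := by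
      refine hthick _ _ (hA.ofIso ((CochainComplex.truncGEXIsoOpcycles (L ⊞ M) a) ≪≫
        PCoh41.opcyclesBiprodIso L M a) ?_)
      refine PCoh41.prop_first_term hA hlift hst a b _ (fun i hi => ?_) (fun i hi => ?_) W hPW hW
        (eW ≪≫ (DerivedCategory.Q.mapBiprod L M ≪≫ biprod.mapIso eL eM).symm ≪≫
          asIso (DerivedCategory.Q.map ((L ⊞ M).πTruncGE a)))
      · rcases hi with hi | hi
        · exact CochainComplex.isZero_of_isStrictlyGE _ a i hi
        · exact (((biprod_isZero_iff _ _).2 ⟨hzL i hi, hzM i hi⟩).of_iso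
            (CochainComplex.truncGEXIso (L ⊞ M) a i (by omega) ≪≫
              HomologicalComplex.biprodXIso L M i))
      · exact hA.ofIso ((HomologicalComplex.biprodXIso L M i).symm ≪≫
          (CochainComplex.truncGEXIso (L ⊞ M) a i hi).symm) (hA.biprod (hPL i) (hPM i))
    have fin : ∀ (L : CochainComplex C ℤ) (G : DerivedCategory C), L.IsGE a →
        P (L.opcycles a) → (∀ i, P (L.X i)) → (∀ i, b < i → IsZero (L.X i)) →
        (DerivedCategory.Q.obj L ≅ G) →
        ∃ E : CochainComplex C ℤ, (∀ i : ℤ, P (E.X i)) ∧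
          (∀ i : ℤ, i < a ∨ b < i → IsZero (E.X i)) ∧ Nonempty (DerivedCategory.Q.obj E ≅ G) := by
      intro L G hg hop hP hz e
      refine ⟨L.truncGE a, fun i => ?_, fun i hi => ?_,
        ⟨(asIso (DerivedCategory.Q.map (L.πTruncGE a))).symm ≪≫ e⟩⟩
      · rcases lt_trichotomy i a with h | h | h
        · exact hA.zero (CochainComplex.isZero_of_isStrictlyGE _ a i h)
        · subst h; exact hA.ofIso (CochainComplex.truncGEXIsoOpcycles L i).symm hop
        · exact hA.ofIso (CochainComplex.truncGEXIso L a i h).symm (hP i)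
      · rcases hi with hi | hi
        · exact CochainComplex.isZero_of_isStrictlyGE _ a i hi
        · exact (hz i hi).of_iso (CochainComplex.truncGEXIso L a i (by omega))
    exact ⟨fin L F' hgL hop.1 hPL hzL eL, fin M F'' hgM hop.2 hPM hzM eM⟩

end Groth.Agent.S5622
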