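import Groth.Statements.S5625
import Groth.Agent.QCPull72.Sections
import Groth.Agent.QCqs72.Basic
import Mathlib.CategoryTheory.Adjunction.Restrict
set_option autoImplicit false
universe u
open CategoryTheory AlgebraicGeometry
open QCohCat

namespace Groth.Agent.S5625

/-- Let f : X ⟶ Y be a morphism of quasi-compact quasi-separated schemes and Q_X, Q_Y coherators (right
adjoints of the inclusions QCoh ⥤ Mod) on X and Y. Then Q_Y ∘ f_* and f_* ∘ Q_X agree: the two
composite functors Mod(O_X) ⥤ Mod(O_Y) are naturally isomorphic (existence of a natural isomorphism;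
the source's isomorphism is the canonical one between two right adjoints of the same functor). -/
theorem result {X Y : Scheme.{u}} [CompactSpace X] [QuasiSeparatedSpace X]
    [CompactSpace Y] [QuasiSeparatedSpace Y] (f : X ⟶ Y)
    (QX : X.Modules ⥤ QCohCat.QCoh X) (adjX : (QCohCat.isQCoh X).ι ⊣ QX)
    (QY : Y.Modules ⥤ QCohCat.QCoh Y) (adjY : (QCohCat.isQCoh Y).ι ⊣ QY) :
    Nonempty ((QX ⋙ (QCohCat.isQCoh X).ι ⋙ Scheme.Modules.pushforward f) ≅
      (Scheme.Modules.pushforward f ⋙ QY ⋙ (QCohCat.isQCoh Y).ι)) := by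
  open CategoryTheory AlgebraicGeometry in
  haveI : QuasiSeparated f := inferInstance
  let L : QCohCat.QCoh Y ⥤ QCohCat.QCoh X :=
    ObjectProperty.lift (QCohCat.isQCoh X)
      (ObjectProperty.ι (QCohCat.isQCoh Y) ⋙ Scheme.Modules.pullback f)
      (fun M => by
        haveI : M.obj.IsQuasicoherent := M.property
        exact QCPull72.isQuasicoherent_pullback f M.obj)
  let R : QCohCat.QCoh X ⥤ QCohCat.QCoh Y :=
    ObjectProperty.lift (QCohCat.isQCoh Y)
      (ObjectProperty.ι (QCohCat.isQCoh X) ⋙ Scheme.Modules.pushforward f)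
      (fun M => by
        haveI : M.obj.IsQuasicoherent := M.property
        exact QCqs72.isQuasicoherent_pushforward (M := M.obj) f)
  let adjq : L ⊣ R := (Scheme.Modules.pullbackPushforwardAdjunction f).restrictFullyFaithful
    (ObjectProperty.fullyFaithfulι _) (ObjectProperty.fullyFaithfulι _) (Iso.refl _) (Iso.refl _)
  let a₁ : (QCohCat.isQCoh Y).ι ⋙ Scheme.Modules.pullback f ⊣ Scheme.Modules.pushforward f ⋙ QY :=
    adjY.comp (Scheme.Modules.pullbackPushforwardAdjunction f)
  let a₂ : (QCohCat.isQCoh Y).ι ⋙ Scheme.Modules.pullback f ⊣ QX ⋙ R :=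
    (adjq.comp adjX).ofNatIsoLeft (Iso.refl _)
  exact ⟨Functor.isoWhiskerRight (a₂.rightAdjointUniq a₁) (QCohCat.isQCoh Y).ι⟩

end Groth.Agent.S5625
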