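import Groth.Statements.S5639
import Groth.Agent.EnrSev52.Proj

set_option autoImplicit false
universe u
open CategoryTheory CategoryTheory.Limits AlgebraicGeometry
open Pic13

namespace Groth.Agent.S5639

/-- Let k be an algebraically closed field, P = P^N_k and F a coherent O_P-module none of whose
associated points is a closed point of P. Then H^0(P, F(-n)) = 0 for every integer n ≥ h^0(F), where
F(d) = F ⊗ O(d) and h^0(F) is the dimension of H^0(P, F) over k. -/
theorem result (k : Type u) [Field k] [IsAlgClosed k] (N : ℕ) (F : (CohB1.ProjSpace N k).Modules) (hF : Coh.IsCoh F)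
    (hass : ∀ x : ↥(CohB1.ProjSpace N k), Curv2.IsAssPoint F x → ¬ IsClosed ({x} : Set ↥(CohB1.ProjSpace N k)))
    (n : ℕ) (hn : Module.finrank k (Coh.HH (CohB1.ProjSpace N k) F 0) ≤ n) :
    Subsingleton (Coh.HH (CohB1.ProjSpace N k) (CohB1.tensorMod F (Twist.twistProjSpace N k (-(n : ℤ)))) 0) := by
  have : IsProper (CohB1.ProjSpace.toSpec N k) := Curves2.ProjLine.isProper_toSpec k N
  have : IsProper (CohB1.ProjSpace N k ↘ Spec (CommRingCat.of k)) := this
  let h : ℕ → ℕ := fun j =>
    Module.finrank k (Coh.HH (CohB1.ProjSpace N k) (CohB1.tensorMod F (Twist.twistProjSpace N k (-(j : ℤ)))) 0)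
  have key : ∀ j, h j ≤ Module.finrank k (Coh.HH (CohB1.ProjSpace N k) F 0) - j := by
    intro j
    induction j with
    | zero =>
      show Module.finrank k _ ≤ _
      rw [Nat.cast_zero, neg_zero, EnrSev52.finrank_tw_zero, Nat.sub_zero]
    | succ j ih =>
      have hdrop : h (j + 1) + 1 ≤ h j ∨ h j = 0 := by
        rcases Nat.eq_zero_or_pos (h j) with h0 | h0
        · exact Or.inr h0
        · exact Or.inl (EnrSev52.projSpace_drop k N F hF (by push_cast; ring) hass h0)
      rcases hdrop with h1 | h1
      · omega
      · have h2 : h (j + 1) = 0 := by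
          by_contra hne
          have h3 := EnrSev52.projSpace_mono k N F hF (a := -((j+1 : ℕ) : ℤ)) (b := -(j : ℤ)) (by push_cast; ring)
          change h (j + 1) ≤ h j at h3
          omega
        omega
  have h0 : h n = 0 := by
    have := key n
    omega
  have hco := Amp73.isCoh_tensorMod hF (Amp73.isCoh_of_isInvertible
    (Var76.Reg.isInvertible_twist (n := N) (A := k) (-(n : ℤ))))
  have : IsLocallyNoetherian (CohB1.ProjSpace N k) :=
    LocallyOfFiniteType.isLocallyNoetherian (CohB1.ProjSpace N k ↘ Spec (CommRingCat.of k))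
  have := Serre71.finite_hh_of_isProper k _ hco 0
  exact Module.finrank_zero_iff.1 h0

end Groth.Agent.S5639
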