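import Groth.Statements.S5641
import Mathlib
import Groth.Agent.NearGen2.GIMain

set_option autoImplicit false
set_option linter.style.haveILetI false
set_option linter.style.longLine false
universe u
open CategoryTheory CategoryTheory.Limits AlgebraicGeometry
open FlatMor

namespace Groth.Agent.S5641

/-- Let S be an integral Noetherian scheme and f : X ⟶ S a morphism of finite type. Then there are a
nonempty open subscheme V of S, an integral scheme S' and a finite flat surjective morphism h : S' ⟶
V such that every irreducible component of X' = X ×_S S', given its reduced closed-subscheme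
structure, is flat over S' with geometrically integral fibres. (Fibres over all points of S' are
nonempty here, which the published statement does not require; it is obtained by shrinking V once
more.) -/
theorem result {X S : Scheme.{u}} [IsNoetherian S] [IsIntegral S]
    (f : X ⟶ S) [LocallyOfFiniteType f] [QuasiCompact f] :
    ∃ (V : S.Opens) (S' : Scheme.{u}) (h : S' ⟶ (V : Scheme.{u})), (V : Set S).Nonempty ∧ IsIntegral S' ∧
      IsFinite h ∧ Flat h ∧ Surjective h ∧
      ∀ (Z : Scheme.{u}) (i : Z ⟶ pullback f (h ≫ V.ι)) [IsClosedImmersion i] [IsReduced Z],
        Set.range i.base ∈ irreducibleComponents ↥(pullback f (h ≫ V.ι)) →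
          Flat (i ≫ pullback.snd f (h ≫ V.ι)) ∧ GeometricallyIntegral (i ≫ pullback.snd f (h ≫ V.ι)) := by
  exact NearGen2.exists_giBase f

end Groth.Agent.S5641
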