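import Groth.Statements.S5656
import Groth.Agent.PolyMap50.Basic

set_option autoImplicit false
universe u
open W4sga6xxiii

namespace Groth.Agent.S5656

/-- Let G be an abelian group and G' ⊆ G a subgroup which is divisible by some prime number p (every
element of G' is p times an element of G') and such that G/G' is a torsion group. Then every
polynomial map f : G → ℚ (admitting binomial expansions f(Σ n_i x_i) = Σ_k Π_i C(n_i, k_i) y_k along
every finite sequence x) which takes only integer values is constant. -/
theorem result {G : Type u} [AddCommGroup G] (G' : AddSubgroup G)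
    (p : ℕ) (hp : p.Prime) (hdiv : ∀ x ∈ G', ∃ y ∈ G', p • y = x) (htor : ∀ x : G, ∃ n : ℤ, n ≠ 0 ∧ n • x ∈ G')
    (f : G → ℚ) (hf : W4sga6xxiii.IsPolyMap f) (hint : ∀ x, ∃ z : ℤ, f x = z) (x : G) : f x = f 0 := by
  exact PolyMap50.const_of_divisible G' p hp hdiv htor hf hint x

end Groth.Agent.S5656
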