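import Groth.Statements.S5658
import Mathlib
import Groth.Agent.CAlgH2.SLComm
import Groth.Agent.CAlgH2.SpreadOut

set_option autoImplicit false
set_option linter.style.haveILetI false
set_option linter.style.longLine false
universe u
open CAlg

namespace Groth.Agent.S5658


open Matrix CAlgH2.SpreadOut
open scoped commutatorElement

variable {S : Type u} [CommRing S] (q : Ideal S) [q.IsPrime] {n : ℕ}

theorem exists_matrix (M : Matrix (Fin n) (Fin n) (Localization.AtPrime q)) :
    ∃ h, ∃ hh : h ∉ q, ∃ M' : Matrix (Fin n) (Fin n) (Localization.Away h), M'.map (toLoc (R := S) q hh) = M := by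
  classical
  choose a ha using fun ij : Fin n × Fin n => IsLocalization.surj q.primeCompl (M ij.1 ij.2)
  let h : S := ∏ ij, ((a ij).2 : S)
  have hh : h ∉ q := show h ∈ q.primeCompl from prod_mem fun i _ => (a i).2.2
  have hu : ∀ ij, IsUnit (algebraMap S (Localization.Away h) ((a ij).2 : S)) := fun ij =>
    isUnit_of_dvd_unit (map_dvd _ (Finset.dvd_prod_of_mem (fun ij => ((a ij).2 : S)) (Finset.mem_univ ij))) (IsLocalization.Away.algebraMap_isUnit h)
  refine ⟨h, hh, Matrix.of fun i j => algebraMap S _ (a (i, j)).1 * ↑(hu (i, j)).unit⁻¹, ?_⟩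
  ext i j
  rw [Matrix.map_apply, Matrix.of_apply]
  apply (IsLocalization.map_units (Localization.AtPrime q) (a (i, j)).2).mul_left_inj.1
  rw [ha (i, j), ← toLoc_algebraMap (R := S) q hh ((a (i, j)).2 : S), ← map_mul, mul_assoc, IsUnit.val_inv_mul, mul_one,
    toLoc_algebraMap]

/-- the map on `GL` -/
noncomputable def mp {h : S} (hh : h ∉ q) : GL (Fin n) (Localization.Away h) →* GL (Fin n) (Localization.AtPrime q) :=
  Matrix.GeneralLinearGroup.map (toLoc (R := S) q hh).toRingHom

/-- the map on `GL` between localizations -/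
noncomputable def up {h h' : S} (hd : h ∣ h') : GL (Fin n) (Localization.Away h) →* GL (Fin n) (Localization.Away h') :=
  Matrix.GeneralLinearGroup.map (incl (R := S) hd).toRingHom

theorem mp_up {h h' : S} (hd : h ∣ h') (hh : h ∉ q) (hh' : h' ∉ q) (g : GL (Fin n) (Localization.Away h)) :
    mp q hh' (up hd g) = mp q hh g :=
  Units.ext (Matrix.ext fun i j => toLoc_comp_incl (R := S) q hd hh hh' _)

theorem exists_eq_up {h : S} (hh : h ∉ q) (g g' : GL (Fin n) (Localization.Away h)) (he : mp q hh g = mp q hh g') :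
    ∃ h', h' ∉ q ∧ ∃ hd : h ∣ h', up hd g = up hd g' := by
  classical
  obtain ⟨h', hh', hd, hk⟩ := exists_kill_finset (R := S) q hh
    (Finset.univ.image fun ij : Fin n × Fin n => (g : Matrix (Fin n) (Fin n) (Localization.Away h)) ij.1 ij.2 - (g' : Matrix (Fin n) (Fin n) (Localization.Away h)) ij.1 ij.2)
    (fun z hz => by
      obtain ⟨ij, -, rfl⟩ := Finset.mem_image.1 hz
      rw [map_sub, sub_eq_zero]
      exact congrArg (fun m : GL (Fin n) (Localization.AtPrime q) => (m : Matrix (Fin n) (Fin n) (Localization.AtPrime q)) ij.1 ij.2) he)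
  refine ⟨h', hh', hd, Units.ext (Matrix.ext fun i j => ?_)⟩
  have := hk _ (Finset.mem_image_of_mem _ (Finset.mem_univ (i, j)))
  rwa [map_sub, sub_eq_zero] at this

theorem exists_GL (g : GL (Fin n) (Localization.AtPrime q)) :
    ∃ h, ∃ hh : h ∉ q, ∃ g' : GL (Fin n) (Localization.Away h), mp q hh g' = g := by
  obtain ⟨h₁, hh₁, M₁, hM₁⟩ := exists_matrix q (g : Matrix (Fin n) (Fin n) (Localization.AtPrime q))
  obtain ⟨h₂, hh₂, M₂, hM₂⟩ := exists_matrix q ((g⁻¹ : GL (Fin n) (Localization.AtPrime q)) : Matrix (Fin n) (Fin n) (Localization.AtPrime q))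
  have h3 : h₁ * h₂ ∉ q := q.primeCompl.mul_mem hh₁ hh₂
  let A := M₁.map (incl (R := S) (dvd_mul_right h₁ h₂))
  let B := M₂.map (incl (R := S) (dvd_mul_left h₂ h₁))
  have hA : A.map (toLoc (R := S) q h3) = g := by
    rw [← hM₁]; exact Matrix.ext fun i j => toLoc_comp_incl (R := S) q (dvd_mul_right h₁ h₂) hh₁ h3 _
  have hB : B.map (toLoc (R := S) q h3) = ((g⁻¹ : GL (Fin n) (Localization.AtPrime q)) : Matrix (Fin n) (Fin n) (Localization.AtPrime q)) := by
    rw [← hM₂]; exact Matrix.ext fun i j => toLoc_comp_incl (R := S) q (dvd_mul_left h₂ h₁) hh₂ h3 _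
  have hdet : IsUnit (toLoc (R := S) q h3 A.det) := by
    rw [AlgHom.map_det]
    exact ((Matrix.isUnit_iff_isUnit_det _).1 (by rw [AlgHom.mapMatrix_apply, hA]; exact g.isUnit))
  obtain ⟨k, t, ht⟩ := IsLocalization.Away.surj (h₁ * h₂) A.det
  have htq : t ∉ q := by
    intro hmem
    refine absurd hmem ((IsLocalization.AtPrime.isUnit_to_map_iff (Localization.AtPrime q) q t).1 ?_)
    rw [← toLoc_algebraMap (R := S) q h3, ← ht, map_mul, map_pow, toLoc_algebraMap]
    exact hdet.mul ((IsLocalization.map_units (Localization.AtPrime q) (⟨h₁ * h₂, h3⟩ : q.primeCompl)).pow k)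
  let A' := A.map (incl (R := S) (dvd_mul_right (h₁ * h₂) t))
  have hu : IsUnit A' := by
    rw [Matrix.isUnit_iff_isUnit_det]
    show IsUnit ((incl (R := S) (dvd_mul_right (h₁ * h₂) t)).mapMatrix A).det
    rw [← AlgHom.map_det]
    have h1 := congrArg (incl (R := S) (dvd_mul_right (h₁ * h₂) t)) ht
    rw [map_mul, map_pow, incl_algebraMap, incl_algebraMap] at h1
    exact isUnit_of_mul_isUnit_left (h1 ▸ isUnit_of_dvd_unit (map_dvd _ (dvd_mul_left t (h₁ * h₂))) (IsLocalization.Away.algebraMap_isUnit (h₁ * h₂ * t)))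
  refine ⟨_, q.primeCompl.mul_mem h3 htq, hu.unit, Units.ext ?_⟩
  rw [← hA]
  exact Matrix.ext fun i j => toLoc_comp_incl (R := S) q (dvd_mul_right (h₁ * h₂) t) h3 (q.primeCompl.mul_mem h3 htq) _

theorem commutator_map {G H : Type*} [Group G] [Group H] (φ : G →* H) {x : G} (hx : x ∈ commutator G) :
    φ x ∈ commutator H := by
  have := Subgroup.mem_map_of_mem φ hx
  rw [commutator_def, Subgroup.map_commutator] at this
  exact Subgroup.commutator_mono le_top le_top this

/-- elements coming from commutators over some `S_h` -/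
def H : Subgroup (GL (Fin n) (Localization.AtPrime q)) where
  carrier := {g | ∃ h, ∃ hh : h ∉ q, ∃ g' ∈ commutator (GL (Fin n) (Localization.Away h)), mp q hh g' = g}
  one_mem' := ⟨1, fun h => Ideal.IsPrime.ne_top inferInstance ((Ideal.eq_top_iff_one q).2 h), 1, one_mem _, map_one _⟩
  inv_mem' := by
    rintro _ ⟨h, hh, g', hg', rfl⟩
    exact ⟨h, hh, g'⁻¹, inv_mem hg', map_inv _ _⟩
  mul_mem' := by
    rintro _ _ ⟨h₁, hh₁, a, ha, rfl⟩ ⟨h₂, hh₂, b, hb, rfl⟩
    have h3 : h₁ * h₂ ∉ q := q.primeCompl.mul_mem hh₁ hh₂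
    refine ⟨h₁ * h₂, h3, up (dvd_mul_right h₁ h₂) a * up (dvd_mul_left h₂ h₁) b,
      mul_mem (commutator_map _ ha) (commutator_map _ hb), ?_⟩
    rw [map_mul, mp_up q _ hh₁ h3, mp_up q _ hh₂ h3]

theorem commutator_le_H : commutator (GL (Fin n) (Localization.AtPrime q)) ≤ H q := by
  rw [commutator_eq_closure, Subgroup.closure_le]
  rintro _ ⟨a, b, rfl⟩
  obtain ⟨h₁, hh₁, a', rfl⟩ := exists_GL q a
  obtain ⟨h₂, hh₂, b', rfl⟩ := exists_GL q b
  have h3 : h₁ * h₂ ∉ q := q.primeCompl.mul_mem hh₁ hh₂
  refine ⟨h₁ * h₂, h3, ⁅up (dvd_mul_right h₁ h₂) a', up (dvd_mul_left h₂ h₁) b'⁆, ?_, ?_⟩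
  · rw [commutator_eq_closure]
    exact Subgroup.subset_closure (commutator_mem_commutatorSet _ _)
  · rw [map_commutatorElement, mp_up q _ hh₁ h3, mp_up q _ hh₂ h3]

theorem spread (q : Ideal S) [q.IsPrime] (lam mu : Sˣ) (hmu : (mu : S) = lam - 1) (g : GL (Fin n) S)
    (hg : (g : Matrix (Fin n) (Fin n) S).det = 1) :
    ∃ h, h ∉ q ∧ Matrix.GeneralLinearGroup.map (algebraMap S (Localization.Away h)) g ∈
      commutator (GL (Fin n) (Localization.Away h)) := by
  let gl := Matrix.GeneralLinearGroup.map (algebraMap S (Localization.AtPrime q)) g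
  have hgl : gl ∈ commutator (GL (Fin n) (Localization.AtPrime q)) := by
    refine CAlgH2.SLComm.mem_commutator_of_det_eq_one (Units.map (algebraMap S _).toMonoidHom lam)
      (Units.map (algebraMap S _).toMonoidHom mu) (by simp [hmu]) gl ?_
    show ((algebraMap S (Localization.AtPrime q)).mapMatrix (g : Matrix (Fin n) (Fin n) S)).det = 1
    rw [← RingHom.map_det, hg, map_one]
  obtain ⟨h, hh, g', hg', hgg⟩ := commutator_le_H q hgl
  have : mp q hh (Matrix.GeneralLinearGroup.map (algebraMap S (Localization.Away h)) g) = mp q hh g' := by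
    rw [hgg]
    exact Units.ext (Matrix.ext fun i j => toLoc_algebraMap (R := S) q hh _)
  obtain ⟨h', hh', hd, hup⟩ := exists_eq_up q hh _ _ this
  refine ⟨h', hh', ?_⟩
  have h5 : up hd (Matrix.GeneralLinearGroup.map (algebraMap S (Localization.Away h)) g) =
      Matrix.GeneralLinearGroup.map (algebraMap S (Localization.Away h')) g :=
    Units.ext (Matrix.ext fun i j => incl_algebraMap (R := S) hd _)
  rw [← h5, hup]
  exact commutator_map _ hg'

theorem exists_cover (A : Type u) [CommRing A] (p : Ideal A) [p.IsPrime] :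
    ∃ (A' : Type u) (_ : CommRing A') (_ : Algebra A A') (_ : Algebra.Etale A A') (q : Ideal A') (_ : q.IsPrime) (lam mu : A'ˣ),
      q.comap (algebraMap A A') = p ∧ (mu : A') = lam - 1 := by
  let κ := p.ResidueField
  have hκ : ∀ x, x ∉ p → algebraMap A κ x ≠ 0 := fun x hx h => hx (Ideal.algebraMap_residueField_eq_zero.1 h)
  by_cases h2 : (2 : A) ∈ p
  · have h3 : (3 : A) ∉ p := fun h => Ideal.IsPrime.ne_top inferInstance ((Ideal.eq_top_iff_one p).2 (by
      have := p.sub_mem h h2
      norm_num at this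
      exact this))
    let P : StandardEtalePair A :=
      { f := Polynomial.X ^ 2 + Polynomial.X + 1
        monic_f := by monicity!
        g := Polynomial.C 3
        cond := ⟨-(2 * Polynomial.X + 1), 4, 1, by simp [Polynomial.derivative_X_pow, map_ofNat]; ring⟩ }
    haveI : Algebra.Etale A P.Ring := inferInstance
    let F := AlgebraicClosure κ
    obtain ⟨r, hr⟩ := IsAlgClosed.exists_root ((Polynomial.X ^ 2 + Polynomial.X + 1 : Polynomial F))
      (by
        have : (Polynomial.X ^ 2 + Polynomial.X + 1 : Polynomial F).degree = 2 := by compute_degree!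
        rw [this]; exact two_ne_zero)
    have hmap : P.HasMap r := by
      refine ⟨?_, ?_⟩
      · simpa [P] using hr
      · rw [Polynomial.aeval_C]
        refine Ne.isUnit ?_
        rw [IsScalarTower.algebraMap_apply A κ F]
        exact fun h => hκ 3 h3 ((algebraMap κ F).injective (h.trans (map_zero _).symm))
    let φ := P.lift r hmap
    haveI : (RingHom.ker φ).IsPrime := RingHom.ker_isPrime φ
    obtain ⟨hX1, hX2⟩ := P.hasMap_X
    have hX1' : P.X ^ 2 + P.X + 1 = 0 := by simpa [P] using hX1
    have hlam : IsUnit P.X := IsUnit.of_mul_eq_one (-1 - P.X) (by linear_combination -hX1')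
    have hmu : IsUnit (P.X - 1) := by
      refine isUnit_of_mul_isUnit_left (y := -P.X - 2) ?_
      rw [show (P.X - 1) * (-P.X - 2) = 3 by linear_combination -hX1']
      simpa [P, map_ofNat] using hX2
    refine ⟨P.Ring, inferInstance, inferInstance, inferInstance, RingHom.ker φ, inferInstance, hlam.unit, hmu.unit, ?_, rfl⟩
    ext a
    rw [Ideal.mem_comap, RingHom.mem_ker, AlgHom.commutes, IsScalarTower.algebraMap_apply A κ F,
      map_eq_zero_iff _ (algebraMap κ F).injective, Ideal.algebraMap_residueField_eq_zero]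
  · let A' := Localization.Away (2 : A)
    haveI : Algebra.Etale A A' := Algebra.Etale.of_isLocalizationAway (2 : A)
    have hd : Disjoint (Submonoid.powers (2 : A) : Set A) p := by
      rw [Set.disjoint_left]
      rintro _ ⟨n, rfl⟩ h
      exact h2 (Ideal.IsPrime.mem_of_pow_mem inferInstance n h)
    have h2u : IsUnit (-2 : A') := by
      have := IsLocalization.Away.algebraMap_isUnit (S := A') (2 : A)
      rw [map_ofNat] at this
      exact this.neg
    refine ⟨A', inferInstance, inferInstance, inferInstance, p.map (algebraMap A A'),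
      IsLocalization.isPrime_of_isPrime_disjoint (Submonoid.powers (2 : A)) _ p inferInstance hd, -1, h2u.unit,
      IsLocalization.under_map_of_isPrime_disjoint (Submonoid.powers (2 : A)) _ inferInstance hd, ?_⟩
    simp; norm_num

/-- On the big étale site of a scheme the sheaf of commutator subgroups of Gl(n) is Sl(n) = Ker(det).
Concretely: let A be a commutative ring, n ≥ 0, s ∈ SL_n(A) and p a prime ideal of A. Then there are
an étale A-algebra A' with a prime ideal lying over p such that the image of s in GL_n(A') lies in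
the commutator subgroup of GL_n(A'). (The inclusion of commutators in SL_n being clear, this is the
content of the statement.) -/
theorem result (A : Type u) [CommRing A] (n : ℕ)
    (s : Matrix.SpecialLinearGroup (Fin n) A) (p : PrimeSpectrum A) :
    ∃ (A' : Type u) (_ : CommRing A') (_ : Algebra A A'), Algebra.Etale A A' ∧
      (∃ q : PrimeSpectrum A', q.asIdeal.comap (algebraMap A A') = p.asIdeal) ∧
      (Matrix.GeneralLinearGroup.map (algebraMap A A')) (Matrix.SpecialLinearGroup.toGL s) ∈
        commutator (Matrix.GeneralLinearGroup (Fin n) A') := by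
  obtain ⟨A', _, _, _, q, _, lam, mu, hq, hmu⟩ := exists_cover A p.asIdeal
  let g := Matrix.GeneralLinearGroup.map (algebraMap A A') (Matrix.SpecialLinearGroup.toGL s)
  obtain ⟨h, hh, hmem⟩ := spread q lam mu hmu g (by
    show ((algebraMap A A').mapMatrix (s : Matrix (Fin n) (Fin n) A)).det = 1
    rw [← RingHom.map_det, s.det_coe, map_one])
  haveI : Algebra.Etale A' (Localization.Away h) := Algebra.Etale.of_isLocalizationAway h
  haveI : Algebra.Etale A (Localization.Away h) := Algebra.Etale.comp A A' (Localization.Away h)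
  have hd : Disjoint (Submonoid.powers h : Set A') q := by
    rw [Set.disjoint_left]
    rintro _ ⟨k, rfl⟩ hk
    exact hh (Ideal.IsPrime.mem_of_pow_mem inferInstance k hk)
  refine ⟨Localization.Away h, inferInstance, inferInstance, inferInstance,
    ⟨⟨q.map (algebraMap A' (Localization.Away h)),
      IsLocalization.isPrime_of_isPrime_disjoint (Submonoid.powers h) _ q inferInstance hd⟩, ?_⟩, ?_⟩
  · have h1 := IsLocalization.under_map_of_isPrime_disjoint (Submonoid.powers h) (Localization.Away h) (I := q) inferInstance hd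
    show (q.map (algebraMap A' (Localization.Away h))).comap (algebraMap A (Localization.Away h)) = _
    rw [IsScalarTower.algebraMap_eq A A' (Localization.Away h), ← Ideal.comap_comap]
    exact (congrArg (Ideal.comap (algebraMap A A')) h1).trans hq
  · rw [IsScalarTower.algebraMap_eq A A' (Localization.Away h), Matrix.GeneralLinearGroup.map_comp]
    exact hmem

end Groth.Agent.S5658
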