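import Groth.Statements.S5659
import Mathlib
import Groth.Agent.S5658

set_option autoImplicit false
set_option linter.style.haveILetI false
set_option linter.style.longLine false
universe u
open CAlg

namespace Groth.Agent.S5659


open scoped LaurentPolynomial
open Matrix CAlgH2.SLComm

section Gm

variable {R : Type u} [CommRing R]

/-- Evaluation of a Laurent polynomial at a unit of an algebra. -/
noncomputable def ev {B : Type u} [CommRing B] [Algebra R B] (x : Bˣ) : R[T;T⁻¹] →ₐ[R] B :=
  { LaurentPolynomial.eval₂ (algebraMap R B) x with commutes' := fun r => LaurentPolynomial.eval₂_C (algebraMap R B) x r }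

theorem ev_C_mul_T {B : Type u} [CommRing B] [Algebra R B] (x : Bˣ) (r : R) (k : ℤ) :
    ev x (LaurentPolynomial.C r * LaurentPolynomial.T k) = algebraMap R B r * ((x ^ k : Bˣ) : B) :=
  LaurentPolynomial.eval₂_C_mul_T (algebraMap R B) x r k

theorem coeff_C_mul_T {A : Type u} [CommRing A] (a : A) (n k : ℤ) :
    (LaurentPolynomial.C a * LaurentPolynomial.T n).coeff k = if n = k then a else 0 := by
  rw [← LaurentPolynomial.single_eq_C_mul_T, AddMonoidAlgebra.coeff_single, Finsupp.single_apply]

theorem coeff_C_mul {A : Type u} [CommRing A] (a : A) (p : A[T;T⁻¹]) (k : ℤ) :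
    (LaurentPolynomial.C a * p).coeff k = a * p.coeff k := by
  induction p using LaurentPolynomial.induction_on' with
  | add p q hp hq => simp only [mul_add, AddMonoidAlgebra.coeff_add, Finsupp.add_apply, hp, hq]
  | C_mul_T n b =>
    rw [← mul_assoc, ← map_mul, coeff_C_mul_T, coeff_C_mul_T]
    split_ifs <;> simp

/-- The unit `T`. -/
noncomputable def Tu (A : Type u) [CommRing A] : A[T;T⁻¹]ˣ :=
  ⟨LaurentPolynomial.T 1, LaurentPolynomial.T (-1), by rw [← LaurentPolynomial.T_add]; simp,
    by rw [← LaurentPolynomial.T_add]; simp⟩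

theorem Tu_zpow (A : Type u) [CommRing A] (k : ℤ) : ((Tu A ^ k : A[T;T⁻¹]ˣ) : A[T;T⁻¹]) = LaurentPolynomial.T k := by
  induction k using Int.induction_on with
  | zero => simp
  | succ n ih => rw [_root_.zpow_add_one, Units.val_mul, ih]; exact (LaurentPolynomial.T_add _ _).symm
  | pred n ih =>
    rw [_root_.zpow_sub_one, Units.val_mul, ih]
    exact (LaurentPolynomial.T_add _ _).symm.trans (by rw [sub_eq_add_neg])

theorem coeff_ev_mul {L : Type u} [CommRing L] [Algebra R L] (u : Lˣ) (p : R[T;T⁻¹]) (k : ℤ) :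
    (ev (R := R) (Units.map (LaurentPolynomial.C : L →+* L[T;T⁻¹]).toMonoidHom u * Tu L) p : L[T;T⁻¹]).coeff k =
      algebraMap R L (p.coeff k) * ((u ^ k : Lˣ) : L) := by
  induction p using LaurentPolynomial.induction_on' with
  | add p q hp hq => simp only [map_add, AddMonoidAlgebra.coeff_add, Finsupp.add_apply, hp, hq, add_mul]
  | C_mul_T n b =>
    rw [ev_C_mul_T, (Commute.all (Units.map (LaurentPolynomial.C : L →+* L[T;T⁻¹]).toMonoidHom u) (Tu L)).mul_zpow,
      Units.val_mul, ← map_zpow, Tu_zpow]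
    change (LaurentPolynomial.C (algebraMap R L b) * (LaurentPolynomial.C ((u ^ n : Lˣ) : L) * LaurentPolynomial.T n)).coeff k = _
    rw [← mul_assoc, ← map_mul, coeff_C_mul_T, coeff_C_mul_T]
    by_cases h : n = k
    · subst h; rw [if_pos rfl, if_pos rfl]
    · rw [if_neg h, if_neg h, map_zero, zero_mul]

theorem gm_hom [ConnectedSpace (PrimeSpectrum R)] (χ : ∀ (B : Type u) [CommRing B] [Algebra R B], Bˣ →* Bˣ)
    (hχ : ∀ (B C : Type u) [CommRing B] [Algebra R B] [CommRing C] [Algebra R C] (φ : B →ₐ[R] C) (x : Bˣ),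
      χ C (Units.map (φ.toRingHom : B →* C) x) = Units.map (φ.toRingHom : B →* C) (χ B x)) :
    ∃ m : ℤ, ∀ (B : Type u) [CommRing B] [Algebra R B] (x : Bˣ), χ B x = x ^ m := by
  classical
  let a : R[T;T⁻¹] := χ R[T;T⁻¹] (Tu R)
  have hev : ∀ (B : Type u) [CommRing B] [Algebra R B] (x : Bˣ), (χ B x : B) = ev x a := by
    intro B _ _ x
    have h1 := hχ R[T;T⁻¹] B (ev x) (Tu R)
    have h2 : Units.map (((ev (R := R) x).toRingHom : R[T;T⁻¹] →+* B) : R[T;T⁻¹] →* B) (Tu R) = x := by
      refine Units.ext ?_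
      show ev x (LaurentPolynomial.T 1) = x
      have := ev_C_mul_T x (1 : R) 1
      simpa using this
    rw [h2] at h1
    rw [h1]
    rfl
  -- multiplicativity
  let L := R[T;T⁻¹]
  let S' : L[T;T⁻¹]ˣ := Units.map (LaurentPolynomial.C : L →+* L[T;T⁻¹]).toMonoidHom (Tu R)
  let T' : L[T;T⁻¹]ˣ := Tu L
  have hS : ∀ p : L, ev (R := R) S' p = LaurentPolynomial.C p := by
    intro p
    induction p using LaurentPolynomial.induction_on' with
    | add p q hp hq => simp only [map_add, hp, hq]
    | C_mul_T n b =>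
      rw [ev_C_mul_T, ← map_zpow, Units.coe_map, map_mul LaurentPolynomial.C]
      show algebraMap R L[T;T⁻¹] b * LaurentPolynomial.C ((Tu R ^ n : Lˣ) : L) = _
      rw [Tu_zpow]
      rfl
  have hT : ∀ (p : L) (k : ℤ), (ev (R := R) T' p : L[T;T⁻¹]).coeff k = LaurentPolynomial.C (p.coeff k) := by
    intro p k
    induction p using LaurentPolynomial.induction_on' with
    | add p q hp hq => simp only [map_add, AddMonoidAlgebra.coeff_add, Finsupp.add_apply, hp, hq]
    | C_mul_T n b =>
      rw [ev_C_mul_T, Tu_zpow, show algebraMap R L[T;T⁻¹] b = LaurentPolynomial.C (LaurentPolynomial.C b) from rfl, coeff_C_mul_T, coeff_C_mul_T]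
      split_ifs <;> simp
  have hST : ∀ (p : L) (k : ℤ), (ev (R := R) (S' * T') p : L[T;T⁻¹]).coeff k =
      LaurentPolynomial.C (p.coeff k) * LaurentPolynomial.T k := by
    intro p k
    rw [← Tu_zpow R k]
    exact coeff_ev_mul (Tu R) p k
  have hmul : ∀ k, a * LaurentPolynomial.C (a.coeff k) = LaurentPolynomial.C (a.coeff k) * LaurentPolynomial.T k := by
    intro k
    have h3 : ev (R := R) (S' * T') a = ev (R := R) S' a * ev (R := R) T' a := by
      rw [← hev, ← hev, ← hev, map_mul, Units.val_mul]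
    have h4 := congrArg (fun q : L[T;T⁻¹] => q.coeff k) h3
    simp only [hST, hS, coeff_C_mul, hT] at h4
    exact h4.symm
  have horth : ∀ l k, a.coeff l * a.coeff k = if k = l then a.coeff k else 0 := by
    intro l k
    have h5 := congrArg (fun q : L => q.coeff l) (hmul k)
    simp only [mul_comm a, coeff_C_mul, LaurentPolynomial.T_apply, mul_ite, mul_one, mul_zero] at h5
    rw [mul_comm, h5]
  haveI : Nontrivial R := PrimeSpectrum.nonempty_iff_nontrivial.1 inferInstance
  have hidem : ∀ k, a.coeff k = 0 ∨ a.coeff k = 1 := by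
    intro k
    have he : IsIdempotentElem (a.coeff k) := by
      have := horth k k
      rwa [if_pos rfl] at this
    rcases isClopen_iff.1 (PrimeSpectrum.isClopen_iff.2 ⟨a.coeff k, he, rfl⟩) with h | h
    · left
      have : PrimeSpectrum.basicOpen (a.coeff k) = ⊥ := SetLike.coe_injective h
      obtain ⟨j, hj⟩ := (PrimeSpectrum.basicOpen_eq_bot_iff _).1 this
      rw [← he.pow_succ_eq j, pow_succ, hj, zero_mul]
    · right
      have hu : IsUnit (a.coeff k) := by
        by_contra hnu
        obtain ⟨m, hm, hmem⟩ := exists_max_ideal_of_mem_nonunits hnu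
        have h9 : (⟨m, hm.isPrime⟩ : PrimeSpectrum R) ∈ (PrimeSpectrum.basicOpen (a.coeff k) : Set (PrimeSpectrum R)) := h ▸ trivial
        exact h9 hmem
      exact (IsIdempotentElem.iff_eq_one_of_isUnit hu).1 he
  obtain ⟨m, hm⟩ : ∃ m, a.coeff m = 1 := by
    by_contra hcon
    push Not at hcon
    have : a = 0 := LaurentPolynomial.ext fun k => ((hidem k).resolve_right (hcon k))
    exact (χ R[T;T⁻¹] (Tu R)).ne_zero this
  have ha : a = LaurentPolynomial.T m := by
    refine LaurentPolynomial.ext fun k => ?_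
    rw [LaurentPolynomial.T_apply]
    by_cases h : m = k
    · rw [if_pos h, ← h, hm]
    · rw [if_neg h]
      have := horth k m
      rw [hm, mul_one, if_neg h] at this
      exact this
  refine ⟨m, fun B _ _ x => Units.ext ?_⟩
  rw [hev B x, ha]
  have := ev_C_mul_T x (1 : R) m
  simpa using this

end Gm

theorem alpha_SL {R : Type u} [CommRing R] {B : Type u} [CommRing B] [Algebra R B] {n : ℕ}
    (α : ∀ (B : Type u) [CommRing B] [Algebra R B], (Matrix.GeneralLinearGroup (Fin n) B) →* Bˣ)
    (hα : ∀ (B C : Type u) [CommRing B] [Algebra R B] [CommRing C] [Algebra R C] (φ : B →ₐ[R] C)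
      (s : Matrix.GeneralLinearGroup (Fin n) B),
      α C (Matrix.GeneralLinearGroup.map φ.toRingHom s) = Units.map (φ.toRingHom : B →* C) (α B s))
    (s : Matrix.SpecialLinearGroup (Fin n) B) : α B (Matrix.SpecialLinearGroup.toGL s) = 1 := by
  refine Units.ext ?_
  rw [Units.val_one, ← sub_eq_zero]
  set z : B := (α B (Matrix.SpecialLinearGroup.toGL s) : B) - 1
  let I : Ideal B := LinearMap.ker (LinearMap.toSpanSingleton B B z)
  by_contra hz
  have hI : I ≠ ⊤ := by
    intro h
    have : (1 : B) ∈ I := h ▸ trivial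
    simp [I] at this
    exact hz this
  obtain ⟨p, hp, hIp⟩ := Ideal.exists_le_maximal I hI
  obtain ⟨A', _, _, het, ⟨q, hq⟩, hmem⟩ := Groth.Agent.S5658.result B n s ⟨p, hp.isPrime⟩
  letI : Algebra R A' := ((algebraMap B A').comp (algebraMap R B)).toAlgebra
  haveI : IsScalarTower R B A' := IsScalarTower.of_algebraMap_eq fun _ => rfl
  have h1 : α A' (Matrix.GeneralLinearGroup.map (algebraMap B A') (Matrix.SpecialLinearGroup.toGL s)) = 1 :=
    MonoidHom.mem_ker.1 (Abelianization.commutator_subset_ker (α A') hmem)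
  have h2 : algebraMap B A' z = 0 := by
    have h3 := hα B A' (IsScalarTower.toAlgHom R B A') (Matrix.SpecialLinearGroup.toGL s)
    have h4 : (IsScalarTower.toAlgHom R B A').toRingHom = algebraMap B A' := rfl
    rw [h4, h1] at h3
    have h5 := congrArg Units.val h3
    simp only [Units.val_one, Units.coe_map, MonoidHom.coe_coe] at h5
    rw [map_sub, map_one, ← h5, sub_self]
  haveI : Module.Flat B A' := inferInstance
  have hex : Function.Exact I.subtype (LinearMap.toSpanSingleton B B z) := LinearMap.exact_subtype_ker_map _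
  have h6 : (LinearMap.lTensor A' (LinearMap.toSpanSingleton B B z)) ((1 : A') ⊗ₜ (1 : B)) = 0 := by
    apply (TensorProduct.rid B A').injective
    rw [LinearMap.lTensor_tmul, TensorProduct.rid_tmul, map_zero, LinearMap.toSpanSingleton_apply, one_smul,
      Algebra.smul_def, h2, zero_mul]
  obtain ⟨w, hw⟩ := ((Module.Flat.lTensor_exact A' hex) _).1 h6
  have h7 : TensorProduct.rid B A' (LinearMap.lTensor A' I.subtype w) ∈ I.map (algebraMap B A') := by
    clear hw
    induction w with
    | zero => simp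
    | tmul x i =>
      rw [LinearMap.lTensor_tmul, TensorProduct.rid_tmul, Algebra.smul_def]
      exact Ideal.mul_mem_right _ _ (Ideal.mem_map_of_mem _ i.2)
    | add a b ha hb => rw [map_add, map_add]; exact add_mem ha hb
  rw [hw, TensorProduct.rid_tmul, one_smul] at h7
  exact q.isPrime.ne_top ((Ideal.eq_top_iff_one _).2
    ((Ideal.map_le_iff_le_comap.2 (hIp.trans hq.ge) : I.map (algebraMap B A') ≤ q.asIdeal) h7))

theorem exists_char {R : Type u} [CommRing R] [ConnectedSpace (PrimeSpectrum R)] {n : ℕ} (hn : 0 < n)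
    (α : ∀ (B : Type u) [CommRing B] [Algebra R B], (Matrix.GeneralLinearGroup (Fin n) B) →* Bˣ)
    (hα : ∀ (B C : Type u) [CommRing B] [Algebra R B] [CommRing C] [Algebra R C] (φ : B →ₐ[R] C)
      (s : Matrix.GeneralLinearGroup (Fin n) B),
      α C (Matrix.GeneralLinearGroup.map φ.toRingHom s) = Units.map (φ.toRingHom : B →* C) (α B s)) :
    ∃ m : ℤ, ∀ (B : Type u) [CommRing B] [Algebra R B] (s : Matrix.GeneralLinearGroup (Fin n) B),
      α B s = Matrix.GeneralLinearGroup.det s ^ m := by
  classical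
  let i₀ : Fin n := ⟨0, hn⟩
  obtain ⟨m, hm⟩ := gm_hom (R := R) (fun B _ _ => (α B).comp (dg.comp (MonoidHom.mulSingle (fun _ : Fin n => Bˣ) i₀))) (by
    intro B C _ _ _ _ φ x
    show α C (dg (Pi.mulSingle i₀ _)) = Units.map _ (α B (dg (Pi.mulSingle i₀ x)))
    rw [← hα B C φ]
    congr 1
    refine Units.ext ?_
    ext r s
    rw [GeneralLinearGroup.map_apply, dg_coe, dg_coe]
    by_cases hrs : r = s
    · subst hrs
      by_cases hr : r = i₀
      · subst hr; simp
      · simp [Pi.mulSingle_eq_of_ne hr]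
    · simp [hrs])
  refine ⟨m, fun B _ _ s => ?_⟩
  let d : GL (Fin n) B := dg (Pi.mulSingle i₀ (Matrix.GeneralLinearGroup.det s))
  have hdet : (d : Matrix (Fin n) (Fin n) B).det = (Matrix.GeneralLinearGroup.det s : B) := by
    rw [dg_coe, det_diagonal, ← Units.coe_prod, Finset.prod_pi_mulSingle']
    simp
  have h1 : ((s * d⁻¹ : GL (Fin n) B) : Matrix (Fin n) (Fin n) B).det = 1 := by
    have : Matrix.GeneralLinearGroup.det (s * d⁻¹) = 1 := by
      rw [map_mul, map_inv, show Matrix.GeneralLinearGroup.det d = Matrix.GeneralLinearGroup.det s from Units.ext hdet,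
        mul_inv_cancel]
    simpa using congrArg Units.val this
  have h2 := alpha_SL α hα (⟨_, h1⟩ : Matrix.SpecialLinearGroup (Fin n) B)
  rw [show Matrix.SpecialLinearGroup.toGL (⟨_, h1⟩ : Matrix.SpecialLinearGroup (Fin n) B) = s * d⁻¹ from Units.ext rfl,
    map_mul, map_inv, mul_inv_eq_one] at h2
  rw [h2]
  exact hm B _

/-- Every homomorphism of group sheaves Gl(n_1) × ⋯ × Gl(n_r) → G_m is (s_1, …, s_r) ↦ det(s_1)^{m_1} ⋯
det(s_r)^{m_r} with locally constant integers m_i uniquely determined by it. Concretely, over a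
commutative ring R whose prime spectrum is connected and for ranks n_i ≥ 1: every family of group
homomorphisms α_B : GL_{n_1}(B) × ⋯ × GL_{n_r}(B) → Bˣ, one for each commutative R-algebra B and
natural in B, is given by α_B(s) = Π_i det(s_i)^{m_i} for a unique m ∈ ℤ^r. (The published statement
allows ranks n_i ≥ 0; uniqueness of m_i needs n_i ≥ 1, since Gl(0) is trivial.) -/
theorem result (R : Type u) [CommRing R] [ConnectedSpace (PrimeSpectrum R)]
    (r : ℕ) (n : Fin r → ℕ) (hn : ∀ i, 0 < n i)
    (α : ∀ (B : Type u) [CommRing B] [Algebra R B], (∀ i, Matrix.GeneralLinearGroup (Fin (n i)) B) →* Bˣ)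
    (hα : ∀ (B C : Type u) [CommRing B] [Algebra R B] [CommRing C] [Algebra R C] (φ : B →ₐ[R] C)
      (s : ∀ i, Matrix.GeneralLinearGroup (Fin (n i)) B),
      α C (fun i => Matrix.GeneralLinearGroup.map φ.toRingHom (s i)) = Units.map (φ.toRingHom : B →* C) (α B s)) :
    ∃! m : Fin r → ℤ, ∀ (B : Type u) [CommRing B] [Algebra R B] (s : ∀ i, Matrix.GeneralLinearGroup (Fin (n i)) B),
      α B s = ∏ i, Matrix.GeneralLinearGroup.det (s i) ^ (m i) := by
  classical
  have hex : ∀ i, ∃ m : ℤ, ∀ (B : Type u) [CommRing B] [Algebra R B] (s : Matrix.GeneralLinearGroup (Fin (n i)) B),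
      α B (Pi.mulSingle i s) = Matrix.GeneralLinearGroup.det s ^ m := by
    intro i
    refine exists_char (hn i) (fun B _ _ => (α B).comp (MonoidHom.mulSingle (fun j => Matrix.GeneralLinearGroup (Fin (n j)) B) i)) ?_
    intro B C _ _ _ _ φ s
    show α C (Pi.mulSingle i _) = Units.map _ (α B (Pi.mulSingle i s))
    rw [← hα B C φ]
    congr 1
    funext j
    exact (Pi.apply_mulSingle (fun j => (Matrix.GeneralLinearGroup.map φ.toRingHom : GL (Fin (n j)) B →* GL (Fin (n j)) C))
      (fun j => map_one _) i s j).symm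
  choose m hm using hex
  refine ⟨m, fun B _ _ s => ?_, fun m' hm' => funext fun i => ?_⟩
  · conv_lhs => rw [← Finset.noncommProd_mulSingle s]
    rw [Finset.map_noncommProd, Finset.noncommProd_eq_prod]
    exact Finset.prod_congr rfl fun i _ => hm i B (s i)
  · haveI : Nontrivial R := PrimeSpectrum.nonempty_iff_nontrivial.1 inferInstance
    let i₀ : Fin (n i) := ⟨0, hn i⟩
    let t : GL (Fin (n i)) R[T;T⁻¹] := dg (Pi.mulSingle i₀ (Tu R))
    have ht : Matrix.GeneralLinearGroup.det t = Tu R := by
      refine Units.ext ?_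
      show (t : Matrix (Fin (n i)) (Fin (n i)) R[T;T⁻¹]).det = _
      rw [dg_coe, det_diagonal, ← Units.coe_prod, Finset.prod_pi_mulSingle']
      simp
    have h1 := hm i R[T;T⁻¹] t
    have h2 := hm' R[T;T⁻¹] (Pi.mulSingle i t)
    rw [Finset.prod_eq_single i (fun j _ hj => by rw [Pi.mulSingle_eq_of_ne hj, map_one, _root_.one_zpow])
      (fun h => absurd (Finset.mem_univ i) h), Pi.mulSingle_eq_same] at h2
    rw [h1, ht] at h2
    have h3 := congrArg (fun u : R[T;T⁻¹]ˣ => (u : R[T;T⁻¹]).coeff (m i)) h2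
    simp only [Tu_zpow, LaurentPolynomial.T_apply, if_true] at h3
    by_contra hne
    rw [if_neg hne] at h3
    exact one_ne_zero h3

end Groth.Agent.S5659
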