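import Groth.Statements.S5663
import Mathlib

set_option autoImplicit false
set_option linter.style.haveILetI false
set_option linter.style.longLine false
universe u
open TensorProduct
open CAlg

namespace Groth.Agent.S5663


theorem residue_step {A D : Type u} [CommRing A] [CommRing D] [Algebra A D] (p : Ideal A) [p.IsPrime] (x : D)
    (hx : x ⊗ₜ[A] (1 : D) = (1 : D) ⊗ₜ[A] x) :
    ∃ s, s ∉ p ∧ s • x ∈ LinearMap.range (Algebra.linearMap A D) ⊔ p • (⊤ : Submodule A D) := by
  let κ := p.ResidueField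
  let e : κ ⊗[A] D := 1 ⊗ₜ 1
  let b : κ ⊗[A] D := 1 ⊗ₜ x
  have hspan : b ∈ Submodule.span κ {e} := by
    by_contra hb
    obtain ⟨f, hfb, hfe⟩ := Submodule.exists_dual_map_eq_bot_of_notMem hb inferInstance
    have hfe' : f e = 0 := by
      have : f e ∈ (Submodule.span κ {e}).map f := Submodule.mem_map_of_mem (Submodule.mem_span_singleton_self e)
      rwa [hfe, Submodule.mem_bot] at this
    have he : e ≠ 0 := by
      intro h0
      apply hb
      rw [show b = b * e by simp [b, e], h0, mul_zero]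
      exact zero_mem _
    obtain ⟨g, hge, -⟩ := Submodule.exists_dual_map_eq_bot_of_notMem (p := (⊥ : Submodule κ (κ ⊗[A] D))) (by simpa using he) inferInstance
    let F : D →ₗ[A] κ := (f.restrictScalars A).comp (TensorProduct.mk A κ D 1)
    let G : D →ₗ[A] κ := (g.restrictScalars A).comp (TensorProduct.mk A κ D 1)
    have h := congrArg (TensorProduct.lift ((LinearMap.mul A κ).compl₁₂ F G)) hx
    simp only [TensorProduct.lift.tmul, LinearMap.compl₁₂_apply, LinearMap.mul_apply'] at h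
    change f b * g e = f e * g b at h
    rw [hfe', zero_mul, mul_eq_zero] at h
    exact h.elim hfb hge
  obtain ⟨c, hc⟩ := Submodule.mem_span_singleton.1 hspan
  obtain ⟨num, den, hden, hfr⟩ := IsFractionRing.div_surjective (A ⧸ p) c
  obtain ⟨a, rfl⟩ := Ideal.Quotient.mk_surjective num
  obtain ⟨s, rfl⟩ := Ideal.Quotient.mk_surjective den
  have hs : s ∉ p := fun h => nonZeroDivisors.ne_zero hden (Ideal.Quotient.eq_zero_iff_mem.2 h)
  have hsc : algebraMap A κ s * c = algebraMap A κ a := by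
    rw [← hfr, IsScalarTower.algebraMap_apply A (A ⧸ p) κ, IsScalarTower.algebraMap_apply A (A ⧸ p) κ a]
    exact mul_div_cancel₀ _ (IsFractionRing.to_map_ne_zero_of_mem_nonZeroDivisors hden)
  let y : D := s • x - algebraMap A D a
  have hy : (1 : κ) ⊗ₜ[A] y = 0 := by
    rw [TensorProduct.tmul_sub, sub_eq_zero, TensorProduct.tmul_smul, ← algebraMap_smul κ s ((1 : κ) ⊗ₜ[A] x),
      show (1 : κ) ⊗ₜ[A] x = c • e from hc.symm, smul_smul, hsc, algebraMap_smul, Algebra.algebraMap_eq_smul_one (A := D) a,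
      TensorProduct.tmul_smul]
  let T := (A ⧸ p) ⊗[A] D
  let i : T →ₗ[A ⧸ p] κ ⊗[A ⧸ p] T := TensorProduct.mk (A ⧸ p) κ T 1
  haveI : IsLocalizedModule (nonZeroDivisors (A ⧸ p)) i :=
    (isLocalizedModule_iff_isBaseChange (nonZeroDivisors (A ⧸ p)) κ i).2 (TensorProduct.isBaseChange _ _ _)
  have h0 : i ((1 : A ⧸ p) ⊗ₜ y) = 0 := by
    apply (TensorProduct.AlgebraTensorModule.cancelBaseChange A (A ⧸ p) κ κ D).injective
    rw [map_zero]
    show TensorProduct.AlgebraTensorModule.cancelBaseChange A (A ⧸ p) κ κ D ((1 : κ) ⊗ₜ ((1 : A ⧸ p) ⊗ₜ y)) = 0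
    rw [TensorProduct.AlgebraTensorModule.cancelBaseChange_tmul, one_smul, hy]
  obtain ⟨⟨d, hd⟩, hdy⟩ := (IsLocalizedModule.eq_zero_iff (nonZeroDivisors (A ⧸ p)) i).1 h0
  obtain ⟨t, rfl⟩ := Ideal.Quotient.mk_surjective d
  have ht : t ∉ p := fun h => nonZeroDivisors.ne_zero hd (Ideal.Quotient.eq_zero_iff_mem.2 h)
  have h1 : (t • y) ∈ p • (⊤ : Submodule A D) := by
    have h2 := congrArg (TensorProduct.quotTensorEquivQuotSMul D p) hdy
    rw [Submonoid.smul_def, TensorProduct.smul_tmul', smul_eq_mul, mul_one,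
      TensorProduct.quotTensorEquivQuotSMul_mk_tmul, map_zero, Submodule.Quotient.mk_eq_zero] at h2
    exact h2
  refine ⟨t * s, fun h => (Ideal.IsPrime.mem_or_mem inferInstance h).elim ht hs, ?_⟩
  rw [show (t * s) • x = algebraMap A D (t * a) + t • y by
    simp only [y, smul_sub, mul_smul, map_mul, Algebra.smul_def]; ring]
  exact Submodule.add_mem_sup ⟨t * a, rfl⟩ h1

/-- Let A be a Noetherian ring and B a finite A-algebra with A → B injective (a finite schematically
dominant morphism Spec B → Spec A). Define subalgebras B_0 = B and B_{i+1} = the equalizer of the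
two maps B_i ⇉ B_i ⊗_A B_i, b ↦ b ⊗ 1, 1 ⊗ b. Then B_m = A (the image of A) for some m; equivalently
Spec B → Spec A factors as a finite chain of finite morphisms Spec B_i → Spec B_{i+1} each of which
is an effective epimorphism (B_{i+1} is the equalizer of B_i ⇉ B_i ⊗_{B_{i+1}} B_i). The sequence is
given here as any family C of subalgebras satisfying the recursion. (The published statement is for
a finite morphism X → Y of schemes with Y Noetherian and O_Y → f_*O_X injective; this row is the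
affine case.) -/
theorem result (A B : Type u) [CommRing A] [CommRing B] [Algebra A B]
    [IsNoetherianRing A] [Module.Finite A B] (hinj : Function.Injective (algebraMap A B))
    (C : ℕ → Subalgebra A B) (h0 : C 0 = ⊤)
    (hstep : ∀ (i : ℕ) (b : B), b ∈ C (i + 1) ↔ ∃ hb : b ∈ C i,
      ((⟨b, hb⟩ : C i) ⊗ₜ[A] (1 : C i) : C i ⊗[A] C i) = (1 : C i) ⊗ₜ[A] (⟨b, hb⟩ : C i)) :
    ∃ m : ℕ, C m = ⊥ := by
  classical
  let P : Submodule A B := LinearMap.range (Algebra.linearMap A B)
  let N : ℕ → Submodule A B := fun j => Subalgebra.toSubmodule (C j)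
  have hanti : ∀ i j, i ≤ j → N j ≤ N i := by
    intro i j hij
    induction hij with
    | refl => exact le_rfl
    | step _ ih => exact fun b hb => ih ((hstep _ b).1 hb).fst
  let I : ℕ →o Ideal A := ⟨fun j => P.colon (N j : Set B), fun i j hij a ha => Submodule.mem_colon.2 fun x hx =>
    Submodule.mem_colon.1 ha x (hanti i j hij hx)⟩
  obtain ⟨i, hi⟩ := monotone_stabilizes_iff_noetherian.2 inferInstance I
  refine ⟨i, eq_bot_iff.2 fun x hx => ?_⟩
  by_cases htop : I i = ⊤
  · have h1 := Submodule.mem_colon.1 (show (1 : A) ∈ I i from htop ▸ trivial) x hx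
    rw [one_smul] at h1
    obtain ⟨a, rfl⟩ := h1
    exact Algebra.mem_bot.2 ⟨a, rfl⟩
  exfalso
  obtain ⟨m, hm, hIm⟩ := Ideal.exists_le_maximal _ htop
  haveI := hm.isPrime
  obtain ⟨p, hp, -⟩ := Ideal.exists_minimalPrimes_le (I := I i) (J := m) hIm
  haveI := hp.1.1
  -- a power of `p` kills `C i / A` near `p`
  let Ap := Localization.AtPrime p
  let J : Ideal A := ((I i).map (algebraMap A Ap)).comap (algebraMap A Ap)
  have hJ : ∀ a, a ∈ J ↔ ∃ s, s ∉ p ∧ s * a ∈ I i := by
    intro a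
    rw [Ideal.mem_comap, IsLocalization.algebraMap_mem_map_algebraMap_iff p.primeCompl]
    simp [Ideal.mem_primeCompl_iff]
  have hrad : p ≤ J.radical := by
    intro r hr
    have : algebraMap A Ap r ∈ ((I i).map (algebraMap A Ap)).radical := by
      rw [Ideal.radical_eq_sInf, Ideal.mem_sInf]
      rintro Q ⟨hQ1, hQ2⟩
      have h1 : Q.comap (algebraMap A Ap) ≤ p := by
        have := Ideal.comap_mono (f := algebraMap A Ap) (IsLocalRing.le_maximalIdeal hQ2.ne_top)
        rwa [show (IsLocalRing.maximalIdeal Ap).comap (algebraMap A Ap) = p from IsLocalization.AtPrime.under_maximalIdeal Ap p] at this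
      exact hp.2 ⟨hQ2.comap _, Ideal.map_le_iff_le_comap.1 hQ1⟩ h1 hr
    obtain ⟨n, hn⟩ := this
    exact ⟨n, by rw [Ideal.mem_comap, map_pow]; exact hn⟩
  obtain ⟨n, hn⟩ := Ideal.exists_pow_le_of_le_radical_of_fg hrad p.fg_of_isNoetherianRing
  -- descent step
  have step : ∀ (j : ℕ) (b : B), b ∈ N (j + 1) → ∃ s, s ∉ p ∧ s • b ∈ P ⊔ p • N j := by
    intro j b hb
    obtain ⟨hbj, hbb⟩ := (hstep j b).1 hb
    obtain ⟨s, hs, hsb⟩ := residue_step p (⟨b, hbj⟩ : C j) hbb
    refine ⟨s, hs, ?_⟩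
    have h3 := Submodule.mem_map_of_mem (f := (C j).val.toLinearMap) hsb
    rw [Submodule.map_sup, Submodule.map_smul''] at h3
    have h4 : (LinearMap.range (Algebra.linearMap A (C j))).map (C j).val.toLinearMap ≤ P := by
      rintro _ ⟨_, ⟨a, rfl⟩, rfl⟩
      exact ⟨a, rfl⟩
    have h5 : (⊤ : Submodule A (C j)).map (C j).val.toLinearMap ≤ N j := by
      rintro _ ⟨z, -, rfl⟩
      exact z.2
    exact (sup_le_sup h4 (smul_mono_right p h5) : _ ≤ P ⊔ p • N j) h3
  have iter : ∀ (l : ℕ) (b : B), b ∈ N (i + l) → ∃ s, s ∉ p ∧ s • b ∈ P ⊔ p ^ l • N i := by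
    intro l
    induction l with
    | zero =>
      intro b hb
      refine ⟨1, p.one_notMem, ?_⟩
      rw [one_smul, pow_zero, Ideal.one_eq_top, Submodule.top_smul]
      exact Submodule.mem_sup_right hb
    | succ l ih =>
      intro b hb
      obtain ⟨s, hs, hsb⟩ := step (i + l) b hb
      obtain ⟨u, hu, v, hv, huv⟩ := Submodule.mem_sup.1 hsb
      obtain ⟨t, ht, htv⟩ : ∃ t, t ∉ p ∧ t • v ∈ P ⊔ p ^ (l + 1) • N i := by
        refine Submodule.smul_induction_on hv (fun r hr w hw => ?_) (fun a b ha hb => ?_)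
        · obtain ⟨t, ht, htw⟩ := ih w hw
          refine ⟨t, ht, ?_⟩
          rw [smul_comm]
          obtain ⟨u', hu', v', hv', huv'⟩ := Submodule.mem_sup.1 htw
          rw [← huv', smul_add, pow_succ', Submodule.mul_smul]
          exact Submodule.add_mem_sup (P.smul_mem r hu') (Submodule.smul_mem_smul hr hv')
        · obtain ⟨t₁, ht₁, h₁⟩ := ha
          obtain ⟨t₂, ht₂, h₂⟩ := hb
          refine ⟨t₁ * t₂, fun h => (Ideal.IsPrime.mem_or_mem inferInstance h).elim ht₁ ht₂, ?_⟩
          rw [smul_add, mul_comm, mul_smul, ← mul_comm, mul_smul t₁ t₂ b]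
          exact add_mem (Submodule.smul_mem _ _ h₁) (Submodule.smul_mem _ _ h₂)
      refine ⟨t * s, fun h => (Ideal.IsPrime.mem_or_mem inferInstance h).elim ht hs, ?_⟩
      rw [mul_smul, ← huv, smul_add]
      exact add_mem (Submodule.mem_sup_left (P.smul_mem t hu)) htv
  have kill : ∀ b ∈ N (i + n), ∃ s, s ∉ p ∧ s • b ∈ P := by
    intro b hb
    obtain ⟨s, hs, hsb⟩ := iter n b hb
    obtain ⟨u, hu, v, hv, huv⟩ := Submodule.mem_sup.1 hsb
    obtain ⟨t, ht, htv⟩ : ∃ t, t ∉ p ∧ t • v ∈ P := by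
      refine Submodule.smul_induction_on hv (fun r hr w hw => ?_) (fun a b ha hb => ?_)
      · obtain ⟨t, ht, htr⟩ := (hJ r).1 (hn hr)
        exact ⟨t, ht, by rw [smul_smul]; exact Submodule.mem_colon.1 htr w hw⟩
      · obtain ⟨t₁, ht₁, h₁⟩ := ha
        obtain ⟨t₂, ht₂, h₂⟩ := hb
        refine ⟨t₁ * t₂, fun h => (Ideal.IsPrime.mem_or_mem inferInstance h).elim ht₁ ht₂, ?_⟩
        rw [smul_add, mul_comm, mul_smul, ← mul_comm, mul_smul t₁ t₂ b]
        exact add_mem (Submodule.smul_mem _ _ h₁) (Submodule.smul_mem _ _ h₂)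
    refine ⟨t * s, fun h => (Ideal.IsPrime.mem_or_mem inferInstance h).elim ht hs, ?_⟩
    rw [mul_smul, ← huv, smul_add]
    exact add_mem (P.smul_mem t hu) htv
  obtain ⟨G, hG⟩ := IsNoetherian.noetherian (N (i + n))
  choose σ hσ hσP using fun g : G => kill g.1 (hG ▸ Submodule.subset_span g.2)
  have hprod : ∏ g, σ g ∈ I (i + n) := by
    refine Submodule.mem_colon.2 fun b hb => ?_
    rw [← hG] at hb
    refine Submodule.span_induction (fun z hz => ?_) ?_ (fun a b _ _ ha hb => ?_) (fun r a _ ha => ?_) hb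
    · obtain ⟨c, hc⟩ := Finset.dvd_prod_of_mem σ (Finset.mem_univ (⟨z, hz⟩ : G))
      rw [hc, mul_comm, mul_smul]
      exact P.smul_mem c (hσP ⟨z, hz⟩)
    · rw [smul_zero]; exact zero_mem _
    · rw [smul_add]; exact add_mem ha hb
    · rw [smul_comm]; exact P.smul_mem r ha
  rw [← hi (i + n) (Nat.le_add_right i n)] at hprod
  exact (prod_mem (S := p.primeCompl) fun g _ => hσ g) (hp.1.2 hprod)

end Groth.Agent.S5663
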