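import Groth.Statements.S5666
import Groth.Agent.ExtReg38.Killed

set_option autoImplicit false
universe u
open CategoryTheory
open Dual

namespace Groth.Agent.S5666

/-- All degrees, for a module killed by `J`: let `A` be a commutative ring, `xs = (x_1, …, x_p)` a
sequence in `A` such that each `x_i` is a non-zero-divisor on `A/(x_1, …, x_{i-1})`, `J` the ideal
generated by the `x_i`, and `M` an `A`-module with `JM = 0`. Then for every `i`, `Ext^i_A(A/J, M)`
is isomorphic as an `A`-module to `M^(p choose i)` (so it vanishes for `i > p`). (Existence of an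
`A`-linear isomorphism only; the published one is `Ext^i_A(A/J, M) ≅ Hom_A(Λ^i(J/J^2), M)` with
`J/J^2` free of rank `p` over `A/J`.) -/
theorem result (A : Type u) [CommRing A] (xs : List A) (hreg : RingTheory.Sequence.IsWeaklyRegular A xs) (M : Type u) [AddCommGroup M] [Module A M] (hJM : Ideal.ofList xs • (⊤ : Submodule A M) = ⊥) (i : ℕ) : Nonempty (Abelian.Ext (ModuleCat.of A (A ⧸ Ideal.ofList xs)) (ModuleCat.of A M) i ≃ₗ[A] (Fin (xs.length.choose i) → M)) := by
  classical
  have hM : ∀ t ∈ Ideal.ofList xs, ∀ m : M, t • m = 0 := fun t ht m => by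
    have h := Submodule.smul_mem_smul ht (Submodule.mem_top (R := A) (x := m))
    rwa [hJM] at h
  obtain ⟨e, he⟩ := ExtReg38.hasClasses_regular (Ideal.ofList xs) xs hreg le_rfl i
  exact ⟨(LinearEquiv.ofBijective _ (he M hM)).symm⟩

end Groth.Agent.S5666
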