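import Groth.Statements.S5670
import Groth.Agent.FEt83.PushSections

set_option autoImplicit false
universe u
open Pi1

namespace Groth.Agent.S5670

set_option backward.isDefEq.respectTransparency.types false in
open CategoryTheory CategoryTheory.Limits AlgebraicGeometry in
/-- Let `f : X → Y` be a proper morphism of Noetherian schemes such that `O_Y → f_* O_X` is an
isomorphism (bijective on sections over every open of `Y`). Then for every connected finite étale
`Y'` over `Y`, the base change `X ×_Y Y'` is connected; equivalently, `f` induces a surjection on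
étale fundamental groups. -/
theorem result {X Y Y' : Scheme.{u}} (f : X ⟶ Y) [IsProper f] [IsNoetherian X] [IsNoetherian Y] (hf : ∀ U : Y.Opens, Function.Bijective (f.app U)) (g : Y' ⟶ Y) [IsFinite g] [Etale g] [ConnectedSpace Y'] : ConnectedSpace ↥(pullback f g) := by
  have hb : Function.Bijective (pullback.snd f g).appTop :=
    Groth.Agent.FEt83.appTop_bijective_of_app_bijective (IsPullback.of_hasPullback f g).flip hf
      ⟨inferInstance, inferInstance⟩
  have : PreconnectedSpace ↥(pullback f g) := preconnectedSpace_iff_clopen.mpr fun C hC => by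
    obtain ⟨e₀, he₀, hC₀⟩ := Groth.Agent.FEt83.exists_idempotent_of_isClopen C hC
    obtain ⟨e, rfl⟩ := hb.2 e₀
    have he : IsIdempotentElem e := hb.1 (by rw [map_mul]; exact he₀)
    have hcl : IsClopen (Y'.basicOpen e : Set Y') :=
      ⟨isOpen_compl_iff.mp ((Groth.Agent.FEt83.compl_basicOpen_of_idem he) ▸
        (Y'.basicOpen (1 - e)).2), (Y'.basicOpen e).2⟩
    rw [← hC₀, ← Scheme.preimage_basicOpen_top]
    rcases isClopen_iff.mp hcl with h | h
    · left; show _ ⁻¹' (Y'.basicOpen e : Set Y') = _; rw [h]; rfl
    · right; show _ ⁻¹' (Y'.basicOpen e : Set Y') = _; rw [h]; rfl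
  refine { toNonempty := ?_ }
  by_contra hP
  rw [not_nonempty_iff] at hP
  obtain ⟨y⟩ : Nonempty Y' := inferInstance
  have : Subsingleton Γ(pullback f g, ⊤) :=
    CommRingCat.subsingleton_of_isTerminal ((pullback f g).sheaf.isTerminalOfEqEmpty
      (TopologicalSpace.Opens.ext (Set.eq_empty_of_isEmpty _)))
  have h1 : (1 : Γ(Y', ⊤)) = 0 := hb.1 (Subsingleton.elim _ _)
  have := congrArg (Y'.presheaf.germ ⊤ y trivial) h1
  rw [map_one, map_zero] at this
  exact one_ne_zero this

end Groth.Agent.S5670
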