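import Groth.Statements.S5675
import Groth.Agent.DR39.TopWedge
import Groth.Agent.DR39.ReesShift

set_option autoImplicit false
universe u
open CategoryTheory
open Dual

namespace Groth.Agent.S5675

/-- Let `k` be a perfect field, `A` a regular affine `k`-algebra of dimension `n` — here: `A` finitely
generated and smooth over `k` with `Ω_{A/k}` of rank `n` at every prime — and `xs = (x_1, …, x_p)`,
`p ≤ n`, a sequence with each `x_i` a non-zero-divisor on `A/(x_1, …, x_{i-1})`, generating an ideal
`J` such that `A/J` is again a regular (smooth) affine `k`-algebra. Write `Ω^m` for `m`-th exterior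
powers of Kähler differentials. Then `Ext^p_A(Ω^(n-p)(A/J), Ω^n(A))` is isomorphic to `A/J` as an
`A`-module. (Existence of an `A`-linear isomorphism only; the published one is canonical and
compatible with localisation, its unit being the fundamental class of `J` in `A`.) -/
theorem result (k : Type u) [Field k] [PerfectField k] (A : Type u) [CommRing A] [Algebra k A] [Algebra.FiniteType k A] [Algebra.Smooth k A] (n : ℕ) (hn : ∀ q : PrimeSpectrum A, Module.rankAtStalk (Ω[A⁄k]) q = n) (xs : List A) (hreg : RingTheory.Sequence.IsWeaklyRegular A xs) (J : Ideal A) (hJ : Ideal.ofList xs = J) [Algebra.Smooth k (A ⧸ J)] (p : ℕ) (hp : xs.length = p) (hpn : p ≤ n) : Nonempty (Abelian.Ext (ModuleCat.of A ↥((⋀[A ⧸ J]^(n - p) (Ω[(A ⧸ J)⁄k])).restrictScalars A)) (ModuleCat.of A ↥(⋀[A]^n (Ω[A⁄k]))) p ≃ₗ[A] (A ⧸ J)) := by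
    subst hp
    let B := A ⧸ J
    obtain ⟨hinv, ⟨e⟩⟩ := DR39.nonempty_adjunction hn xs hreg J hJ hpn
    haveI := hinv
    haveI := DR39.invertible_top_of_rank (R := A) hn
    let N : Type u := ↥(⋀[B]^(n - xs.length) (Ω[B⁄k]))
    let T : Type u := ↥((⋀[B]^(n - xs.length) (Ω[B⁄k])).restrictScalars A)
    let L : Type u := ↥(⋀[A]^n (Ω[A⁄k]))
    let eT : T ≃ₗ[A] N := (Submodule.restrictScalarsEquiv A B _ (⋀[B]^(n - xs.length) (Ω[B⁄k]))).restrictScalars A
    have hkill : ∀ r ∈ xs, ∀ m : T, r • m = 0 := fun r hr m => eT.injective (by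
      rw [map_smul, map_zero, ← algebraMap_smul B r (eT m),
        show algebraMap A B r = 0 from Ideal.Quotient.eq_zero_iff_mem.2 (hJ ▸ Ideal.subset_span hr), zero_smul])
    have hLreg : RingTheory.Sequence.IsWeaklyRegular L xs :=
      ((TensorProduct.rid A L).isWeaklyRegular_congr xs).1 (hreg.isWeaklyRegular_lTensor)
    obtain ⟨e1⟩ := DR39.nonempty_ext_regular (N := T) xs L hLreg hkill
    let e2 : (L ⧸ (Ideal.ofList xs • (⊤ : Submodule A L))) ≃ₗ[A] N :=
      ((Submodule.quotEquivOfEq _ _ (by rw [hJ])).trans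
        (TensorProduct.quotTensorEquivQuotSMul L J).symm).trans (e.restrictScalars A)
    let e3 : (T →ₗ[A] (L ⧸ (Ideal.ofList xs • (⊤ : Submodule A L)))) ≃ₗ[A] (N →ₗ[A] N) :=
      eT.arrowCongr e2
    let e4 : B ≃ₗ[B] (N →ₗ[B] N) := LinearEquiv.ofBijective
      (LinearMap.lsmul B N) (Module.Invertible.toModuleEnd_bijective B N)
    exact ⟨e1.trans (e3.trans ((LinearMap.extendScalarsOfSurjectiveEquiv (R := A) (S := B)
      (Ideal.Quotient.mk_surjective : Function.Surjective (algebraMap A B))).trans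
      (e4.symm.restrictScalars A)))⟩

end Groth.Agent.S5675
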