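import Groth.Statements.S5678
import Groth.Agent.FGA29.TauSet

set_option autoImplicit false
set_option backward.isDefEq.respectTransparency.types false
universe u
open CategoryTheory CategoryTheory.Limits MonoidalCategory CartesianMonoidalCategory MonObj GrpObj AlgebraicGeometry
open FGA

namespace Groth.Agent.S5678

/-- Let S be a locally Noetherian scheme and G a commutative group scheme locally of finite type over S.
If the union of the connected components of the identity in the fibres of G is closed in G, then so
is the set of points x of G such that some power x^n, n ≥ 1, lies in that union. -/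
theorem result (S : Scheme.{u}) [IsLocallyNoetherian S] (G : Over S) [GrpObj G]
    [IsCommMonObj G] [LocallyOfFiniteType G.hom] (h0 : IsClosed (SGA3x.neutralSet G)) :
    IsClosed {x : ↥G.left | ∃ n : ℕ, 0 < n ∧ ((𝟙 G : G ⟶ G) ^ n).left.base x ∈ SGA3x.neutralSet G} := by
  haveI : IsLocallyNoetherian G.left := LocallyOfFiniteType.isLocallyNoetherian G.hom
  refine FGA29.Tau.isClosed_of_separation _ ?_ fun x hx => ⟨∅, isClosed_empty, id, fun z hz hxz => ?_⟩
  · rintro x y hxy ⟨n, hn, hx⟩
    exact ⟨n, hn, (hxy.map (FGA29.Tau.pw G n).continuous).mem_closed h0 hx⟩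
  · exact hx (hxz.mem_open (FGA29.Tau.isOpen_tau G) hz)

end Groth.Agent.S5678
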