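import Groth.Statements.S5680
import Groth.Agent.FGA29.RootLift
import Groth.Agent.Units47.Flat

set_option autoImplicit false
universe u
open CategoryTheory CategoryTheory.Limits AlgebraicGeometry
open FGA

namespace Groth.Agent.S5680

/-- Let A be an artinian local ring with maximal ideal m and ν ≥ 1 an integer with m^(ν+1) = 0; let X be
a scheme proper and flat over Spec A, n a natural number whose image in the residue field of A is
nonzero, L an invertible module on X and L' an invertible module on the closed subscheme X ×_A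
Spec(A/m^ν) whose n-th tensor power is isomorphic to the pullback of L. Then there is an invertible
module M on X whose n-th tensor power is isomorphic to L (existence of an isomorphism). -/
theorem result (A : Type u) [CommRing A] [IsArtinianRing A] [IsLocalRing A]
    (ν : ℕ) (hν : 1 ≤ ν) (hm : IsLocalRing.maximalIdeal A ^ (ν + 1) = ⊥)
    (X : Scheme.{u}) (f : X ⟶ Spec (CommRingCat.of A)) [IsProper f] [Flat f]
    (n : ℕ) (hn : (n : IsLocalRing.ResidueField A) ≠ 0)
    (L : X.Modules) (hL : PicF.IsInvertible L)
    (L' : (pullback f (Spec.map (CommRingCat.ofHom (Ideal.Quotient.mk (IsLocalRing.maximalIdeal A ^ ν))))).Modules)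
    (hL' : PicF.IsInvertible L')
    (hroot : Nonempty (CohB1.tensorPow L' n ≅
      (Scheme.Modules.pullback (pullback.fst f (Spec.map (CommRingCat.ofHom (Ideal.Quotient.mk (IsLocalRing.maximalIdeal A ^ ν)))))).obj L)) :
    ∃ M : X.Modules, PicF.IsInvertible M ∧ Nonempty (CohB1.tensorPow M n ≅ L) := by
  let φ₀ := Ideal.Quotient.mk (IsLocalRing.maximalIdeal A ^ ν)
  have hφ₀ : Function.Surjective φ₀ := Ideal.Quotient.mk_surjective
  have := Units47.isClosedImmersion_spec hφ₀
  let i := pullback.fst f (Spec.map (CommRingCat.ofHom φ₀))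
  have : IsClosedImmersion i := inferInstanceAs (IsClosedImmersion (pullback.fst _ _))
  have hne : IsLocalRing.maximalIdeal A ^ ν ≤ IsLocalRing.maximalIdeal A := Ideal.pow_le_self (by omega)
  have : Nontrivial (A ⧸ IsLocalRing.maximalIdeal A ^ ν) := by
    refine Ideal.Quotient.nontrivial_iff.2 fun h => ?_
    exact (IsLocalRing.maximalIdeal.isMaximal A).ne_top (top_le_iff.1 (h ▸ hne))
  have : Surjective (Spec.map (CommRingCat.ofHom φ₀)) := ⟨fun x => by
    refine ⟨Classical.arbitrary _, ?_⟩
    have : Subsingleton (PrimeSpectrum A) := inferInstance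
    exact Subsingleton.elim (α := PrimeSpectrum A) _ _⟩
  have : Surjective i := MorphismProperty.pullback_fst (P := @Surjective.{u}) _ _ this
  have hi : ∀ U : X.affineOpens, i.ker.ideal U ^ 2 = ⊥ := fun U => by
    have hk : i.ker.ideal U = (RingHom.ker φ₀).map (Units47.rU f U.1) := by
      ext b
      rw [Scheme.Hom.ker_apply, RingHom.mem_ker]
      exact Units47.app_iSub_eq_zero_iff f hφ₀ U b
    rw [hk, ← Ideal.map_pow, Ideal.mk_ker, ← pow_mul, Ideal.map_eq_bot_iff_le_ker]
    refine le_trans (le_of_le_of_eq (Ideal.pow_le_pow_right (by omega)) hm) bot_le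
  have hnA : IsUnit (n : A) := by
    refine IsLocalRing.notMem_maximalIdeal.1 fun h => hn ?_
    have := Ideal.Quotient.eq_zero_iff_mem.2 h
    rwa [map_natCast] at this
  have hnX : IsUnit (n : Γ(X, ⊤)) := by
    have := hnA.map (Units47.rU f ⊤)
    rwa [map_natCast] at this
  obtain ⟨m, rfl⟩ : ∃ m, n = m + 1 := Nat.exists_eq_succ_of_ne_zero fun h => hn (by rw [h, Nat.cast_zero])
  have : X.IsSeparated := ⟨by
    rw [← terminal.comp_from f]
    infer_instance⟩
  obtain ⟨φ⟩ := hroot
  exact FGA29.RootLift.exists_root_lift i hi hnX hL hL' φ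

end Groth.Agent.S5680
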