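import Groth.Statements.S5686
import Groth.Agent.FGA29.EtalePow
import Groth.Agent.S2794

set_option autoImplicit false
universe u
open CategoryTheory CategoryTheory.Limits AlgebraicGeometry
open FGA

namespace Groth.Agent.S5686

/-- Let S be a locally Noetherian scheme, f : X ⟶ S proper and flat, and suppose the relative Picard
functor of X over S (sheafified for the etale topology) is represented by an S-scheme P, locally of
finite type over S, through the family of maps φ. Let n be a natural number and m : P ⟶ P an
S-morphism such that for every S-scheme T and every invertible module L on X ×_S T, φ applied to the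
class of the n-th tensor power of L equals φ applied to the class of L followed by m (so m is the
n-th power map of the Picard scheme). Then m is etale at all points of P whose residue
characteristic is prime to n: the restriction of m to the open subset of P where n is invertible is
etale. (Local finite type of P over S is recorded as a hypothesis.) -/
theorem result {X S : Scheme.{u}} [IsLocallyNoetherian S] (f : X ⟶ S) [IsProper f] [Flat f]
    (P : Over S) [LocallyOfFiniteType P.hom] (φ : ∀ T : Over S, PicF.Cl (PicF.XT f T) → (T ⟶ P))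
    (hP : PicRel.IsRelPic f P φ) (n : ℕ) (m : P ⟶ P)
    (hm : ∀ (T : Over S) (L : (PicF.XT f T).Modules), PicF.IsInvertible L →
      φ T (PicF.cl (CohB1.tensorPow L n)) = φ T (PicF.cl L) ≫ m) :
    Etale ((P.left.basicOpen (n : Γ(P.left, ⊤))).ι ≫ m.left) := by
  haveI : IsLocallyNoetherian P.left := LocallyOfFiniteType.isLocallyNoetherian P.hom
  haveI : LocallyOfFiniteType (m.left ≫ P.hom) := by rw [Over.w m]; infer_instance
  haveI : LocallyOfFiniteType m.left := locallyOfFiniteType_of_comp m.left P.hom
  have key : ∀ p : P.left, p ∈ P.left.basicOpen (n : Γ(P.left, ⊤)) →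
      ∃ W : P.left.Opens, p ∈ W ∧ Etale (W.ι ≫ m.left) := by
    intro p hp
    have hn : IsUnit (n : P.left.presheaf.stalk p) := by
      have h := (P.left.mem_basicOpen _ p (show p ∈ (⊤ : P.left.Opens) from trivial)).1 hp
      rwa [map_natCast] at h
    refine (Groth.Agent.S2794.result m.left p).2 ?_
    intro A' _ _ _ h _ I hI hIm g₀ hg₀ hmax _
    obtain ⟨g, hg, hgI⟩ := Groth.Agent.FGA29.EtPow.exists_small_lift_pow f hP n m hm hn A' h I hI hIm g₀ hg₀ hmax
    refine ⟨g, ⟨hg, hgI⟩, fun g' hg' => ?_⟩
    letI := (m.left.stalkMap p).hom.toAlgebra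
    haveI : Algebra.EssFiniteType (P.left.presheaf.stalk (m.left p)) (P.left.presheaf.stalk p) :=
      LocallyOfFiniteType.stalkMap m.left p
    haveI : Algebra.FormallyUnramified (P.left.presheaf.stalk (m.left p)) (P.left.presheaf.stalk p) :=
      Groth.Agent.FGA29.EtPow.formallyUnramified_of_der
        (Groth.Agent.FGA29.EtPow.derivation_eq_zero f hP n m hm p hn)
    exact Groth.Agent.Unr55.ArtinCrit.unique_of_formallyUnramified
      (A := P.left.presheaf.stalk (m.left p)) hI hIm hg'.1 hg (hg'.2.trans hgI.symm)
  choose W hpW hW using key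
  refine IsZariskiLocalAtSource.of_iSup_eq_top (P := @Etale)
    (fun p : ↥(P.left.basicOpen (n : Γ(P.left, ⊤))) => (P.left.basicOpen (n : Γ(P.left, ⊤))).ι ⁻¹ᵁ W p.1 p.2)
    (top_le_iff.mp fun x _ => ?_) fun p => ?_
  · exact TopologicalSpace.Opens.mem_iSup.2 ⟨x, hpW x.1 x.2⟩
  · have hW' := hW p.1 p.2
    rw [← morphismRestrict_ι_assoc]
    infer_instance

end Groth.Agent.S5686
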