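import Groth.Statements.S5687
import Groth.Agent.FGA29.SmallLift
import Groth.Agent.S2793

set_option autoImplicit false
universe u
open CategoryTheory CategoryTheory.Limits AlgebraicGeometry
open FGA

namespace Groth.Agent.S5687

/-- Let S be a locally Noetherian scheme, f : X ⟶ S proper and flat, and P an S-scheme locally of finite
type over S representing the relative Picard functor of X over S sheafified for the etale topology.
Let s be a point of S such that the second cohomology group of the structure sheaf of the fibre X_s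
vanishes. Then there is an open neighbourhood U of s such that the inverse image of U in P is smooth
over S. (Local finite type of P over S is recorded as a hypothesis.) -/
theorem result {X S : Scheme.{u}} [IsLocallyNoetherian S] (f : X ⟶ S)
    [IsProper f] [Flat f] (P : Over S) [LocallyOfFiniteType P.hom] (hP : PicRel.RepresentedBy f P) (s : S)
    (h2 : Subsingleton (Coh.HH (pullback f (S.fromSpecResidueField s)) (Coh.structureModule _) 2)) :
    ∃ U : S.Opens, s ∈ U ∧ Smooth ((P.hom ⁻¹ᵁ U).ι ≫ P.hom) := by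
  obtain ⟨φ, hφ⟩ := hP
  obtain ⟨U, hsU, hU⟩ := Groth.Agent.FGA29.FibVanish.exists_nhd f 2 s h2
  refine ⟨U, hsU, ?_⟩
  have key : ∀ p : P.left, p ∈ P.hom ⁻¹ᵁ U → ∃ W : P.left.Opens, p ∈ W ∧ Smooth (W.ι ≫ P.hom) := by
    intro p hp
    refine (Groth.Agent.S2793.result P.hom p).2 ?_
    intro A' _ _ _ h _ I hI hIm g₀ hg₀ hmax _
    exact Groth.Agent.FGA29.SmLift.exists_small_lift f hφ (hU _ hp) A' h I hI hIm g₀ hg₀ hmax
  choose W hpW hW using key
  refine IsZariskiLocalAtSource.of_iSup_eq_top (P := @Smooth)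
    (fun p : ↥(P.hom ⁻¹ᵁ U) => (P.hom ⁻¹ᵁ U).ι ⁻¹ᵁ W p.1 p.2) (top_le_iff.mp fun x _ => ?_) fun p => ?_
  · exact TopologicalSpace.Opens.mem_iSup.2 ⟨x, hpW x.1 x.2⟩
  · have hW' := hW p.1 p.2
    have e : ((P.hom ⁻¹ᵁ U).ι ⁻¹ᵁ W p.1 p.2).ι ≫ (P.hom ⁻¹ᵁ U).ι ≫ P.hom =
        ((P.hom ⁻¹ᵁ U).ι ∣_ W p.1 p.2) ≫ (W p.1 p.2).ι ≫ P.hom :=
      (morphismRestrict_ι_assoc _ _ _).symm
    rw [e]
    infer_instance

end Groth.Agent.S5687
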