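import Groth.Statements.S5690
import Groth.Agent.Grpd80.QuotApi

set_option autoImplicit false
universe u
open CategoryTheory CategoryTheory.Limits AlgebraicGeometry
open FGA

namespace Groth.Agent.S5690

/-- Let (U, R, s, t, c) be a groupoid scheme over a scheme S whose source morphism s : R ⟶ U is finite
locally free (finite, flat and locally of finite presentation), and suppose every equivalence class
t(s⁻¹(x)), x a point of U, is contained in some affine open of U. Then there are a scheme Y and a
morphism q : U ⟶ Y with s ≫ q = t ≫ q which is a coequalizer of s and t in the category of schemes,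
affine, integral and surjective, whose fibres are the equivalence classes; and if (t, s) : R ⟶ U ×_S
U is a monomorphism then q is moreover finite, flat and locally of finite presentation and (t, s) :
R ⟶ U ×_Y U is an isomorphism. Only the sufficiency of the affine-class condition is stated (the
published statement is an equivalence: the quotient with these properties exists if and only if
every class lies in an affine open). -/
theorem result {S : Scheme.{u}} (G : Grpd.GroupoidScheme S)
    [IsFinite G.s] [Flat G.s] [LocallyOfFinitePresentation G.s]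
    (haff : ∀ x : ↥G.U, ∃ V : G.U.Opens, IsAffineOpen V ∧ G.t.base '' (G.s.base ⁻¹' {x}) ⊆ (V : Set ↥G.U)) :
    ∃ (Y : Scheme.{u}) (q : G.U ⟶ Y) (w : G.s ≫ q = G.t ≫ q),
      Nonempty (IsColimit (Cofork.ofπ q w)) ∧ IsAffineHom q ∧ IsIntegralHom q ∧ Surjective q ∧
      (∀ x x' : ↥G.U, q.base x = q.base x' ↔ ∃ r : ↥G.R, G.s.base r = x ∧ G.t.base r = x') ∧
      (Mono G.j → IsFinite q ∧ Flat q ∧ LocallyOfFinitePresentation q ∧
        IsIso (pullback.lift G.t G.s w.symm : G.R ⟶ pullback q q)) := by
  obtain ⟨Y, p, hp⟩ := Grpd80.exists_niceQuot G (Grpd80.classes_of_image haff)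
  refine ⟨Y, p, hp.w.symm, ?_, ?_, hp.integral, hp.surj, fun x x' => ?_, fun hj => ?_⟩
  · choose g hg hu using fun c : Cofork G.s G.t => hp.desc c.π c.condition.symm
    exact ⟨Cofork.IsColimit.mk _ g hg fun c m hm => hu c m hm⟩
  · have := hp.integral
    infer_instance
  · rw [eq_comm, hp.fibres]
    exact ⟨fun ⟨r, h1, h2⟩ => ⟨r, h2, h1⟩, fun ⟨r, h1, h2⟩ => ⟨r, h2, h1⟩⟩
  · obtain ⟨sq, h1, h2, h3⟩ := hp.mono hj
    refine ⟨h1, h2, h3, ?_⟩
    convert sq.isoPullback.isIso_hom using 1
    apply pullback.hom_ext <;> simp [pullback.lift_fst, pullback.lift_snd]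

end Groth.Agent.S5690
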