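import Groth.Statements.S5691
import Groth.Agent.FGA50.ProRep

set_option autoImplicit false
universe u
open CategoryTheory CategoryTheory.Limits
open FGA

namespace Groth.Agent.S5691

/-- Let C be a small category with finite limits all of whose objects are artinian (the subobjects of
each object satisfy the descending chain condition), and let F be a set-valued functor on C
preserving finite limits. Then F is strictly pro-representable: there are a small cofiltered
category J and a diagram D : J ⥤ C all of whose transition morphisms are epimorphisms such that F is
isomorphic to the colimit of the corepresentable functors Hom(D j, -). -/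
theorem result {C : Type u} [SmallCategory C]
    [HasFiniteLimits C] (hart : ∀ X : C, IsArtinianObject X) (F : C ⥤ Type u) [PreservesFiniteLimits F] :
    ∃ (J : Type u) (_ : SmallCategory J) (_ : IsCofiltered J) (D : J ⥤ C),
      (∀ ⦃j j' : J⦄ (a : j ⟶ j'), Epi (D.map a)) ∧ Nonempty (F ≅ colimit (D.op ⋙ coyoneda)) := by
  exact ⟨Groth.Agent.FGA50.Min F, inferInstance, Groth.Agent.FGA50.min_isCofiltered hart,
    Groth.Agent.FGA50.diag F, fun j j' a => j'.property.epi a.hom,
    Groth.Agent.FGA50.nonempty_iso_colimit hart⟩

end Groth.Agent.S5691
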