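import Groth.Statements.S5693
import Groth.Agent.FGA29.TauSet
import Groth.Agent.SpPts86.LocConstr
import Groth.Agent.Cons62.Basic

set_option autoImplicit false
set_option backward.isDefEq.respectTransparency.types false
universe u
open CategoryTheory CategoryTheory.Limits MonoidalCategory CartesianMonoidalCategory MonObj GrpObj AlgebraicGeometry
open FGA

namespace Groth.Agent.S5693

/-- Let S be a locally Noetherian scheme, G a commutative group scheme locally of finite type over S and
n ≥ 1 an integer. The set of points x of G for which n is the least positive integer such that the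
n-th power morphism sends x into the union of the connected components of the identity of the fibres
is locally constructible in G (the order function on the torsion-component set is locally
constructible). -/
theorem result (S : Scheme.{u}) [IsLocallyNoetherian S] (G : Over S) [GrpObj G]
    [IsCommMonObj G] [LocallyOfFiniteType G.hom] (n : ℕ) (hn : 0 < n) :
    Topology.IsLocallyConstructible {x : ↥G.left | ((𝟙 G : G ⟶ G) ^ n).left.base x ∈ SGA3x.neutralSet G ∧
      ∀ d : ℕ, 0 < d → d < n → ((𝟙 G : G ⟶ G) ^ d).left.base x ∉ SGA3x.neutralSet G} := by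
  haveI : IsLocallyNoetherian G.left := LocallyOfFiniteType.isLocallyNoetherian G.hom
  haveI : LocallyOfFinitePresentation G.hom := E4O.locallyOfFinitePresentation_of_isLocallyNoetherian G.hom
  haveI : QuasiSeparated G.hom := inferInstance
  have hN : ∀ d : ℕ, Topology.IsLocallyConstructible (FGA29.Tau.pw G d ⁻¹' SGA3x.neutralSet G) := fun d =>
    SpPts86.isLocallyConstructible_preimage _ (CAlg6.NeutralCons.isLocallyConstructible G)
  have e : {x : ↥G.left | ((𝟙 G : G ⟶ G) ^ n).left.base x ∈ SGA3x.neutralSet G ∧
      ∀ d : ℕ, 0 < d → d < n → ((𝟙 G : G ⟶ G) ^ d).left.base x ∉ SGA3x.neutralSet G} =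
      (FGA29.Tau.pw G n ⁻¹' SGA3x.neutralSet G) ∩
        ⋂ d : {d : ℕ // 0 < d ∧ d < n}, (FGA29.Tau.pw G d.1 ⁻¹' SGA3x.neutralSet G)ᶜ := by
    ext x
    simp [Set.mem_iInter]
  haveI : Finite {d : ℕ // 0 < d ∧ d < n} := ((Set.finite_lt_nat n).subset fun d hd => hd.2).to_subtype
  rw [e]
  exact (hN n).inter (.iInter fun d => Cons62.isLocallyConstructible_compl (hN d.1))

end Groth.Agent.S5693
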