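import Groth.Statements.S5705
import Groth.Agent.Csa25.AzuRing
-- import your own Groth.Agent.* helpers here

set_option autoImplicit false
universe u v
open TensorProduct
open Dix

namespace Groth.Agent.S5705

/-- Over a local base, where the Zariski-local conclusion becomes global. Let R be a local ring and A an
Azumaya algebra over R. Then every R-algebra automorphism u of A is inner, u(x) = a x a⁻¹ for some
unit a of A, and the unit a is determined up to multiplication by a unit of R. -/
theorem result (R : Type u) [CommRing R] [IsLocalRing R] (A : Type v) [Ring A] [Algebra R A] [IsAzumaya R A] (u : A ≃ₐ[R] A) : (∃ a : Aˣ, ∀ x : A, u x = (a : A) * x * (a⁻¹ : Aˣ)) ∧ (∀ a a' : Aˣ, (∀ x : A, u x = (a : A) * x * (a⁻¹ : Aˣ)) → (∀ x : A, u x = (a' : A) * x * (a'⁻¹ : Aˣ)) → ∃ c : Rˣ, (a' : A) = algebraMap R A (c : R) * (a : A)) := by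
  constructor
  · obtain ⟨f, hf, a, b, hab, hba, hu⟩ :=
      Groth.Agent.Csa25.exists_local_conj u (IsLocalRing.maximalIdeal R)
    obtain ⟨g, rfl⟩ : IsUnit f := IsLocalRing.notMem_maximalIdeal.1 hf
    refine ⟨⟨a, ((g⁻¹ : Rˣ) : R) • b, ?_, ?_⟩, fun x => ?_⟩
    · rw [mul_smul_comm, hab, smul_smul, Units.inv_mul, one_smul]
    · rw [smul_mul_assoc, hba, smul_smul, Units.inv_mul, one_smul]
    · rw [Units.eq_mul_inv_iff_mul_eq]
      exact hu x
  · intro a a' ha ha'
    obtain ⟨c, hc⟩ := (Groth.Agent.Azu26.mem_center_iff (R := R) (c := ((a' * a⁻¹ : Aˣ) : A))).1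
      (fun x => by
        have e : ∀ y, (a' : A) * y * (a'⁻¹ : Aˣ) = (a : A) * y * (a⁻¹ : Aˣ) :=
          fun y => (ha' y).symm.trans (ha y)
        have := e ((a⁻¹ : Aˣ) * x * (a : A))
        simp only [← mul_assoc, Units.mul_inv, one_mul] at this
        simp only [mul_assoc, Units.mul_inv, mul_one] at this
        rw [Units.val_mul]
        conv_rhs => rw [← this]
        simp only [mul_assoc, Units.inv_mul_cancel_left, Units.mul_inv, mul_one])
    obtain ⟨d, hd⟩ := (Groth.Agent.Azu26.mem_center_iff (R := R) (c := ((a * a'⁻¹ : Aˣ) : A))).1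
      (fun x => by
        have e : ∀ y, (a : A) * y * (a⁻¹ : Aˣ) = (a' : A) * y * (a'⁻¹ : Aˣ) :=
          fun y => (ha y).symm.trans (ha' y)
        have := e ((a'⁻¹ : Aˣ) * x * (a' : A))
        simp only [← mul_assoc, Units.mul_inv, one_mul] at this
        simp only [mul_assoc, Units.mul_inv, mul_one] at this
        rw [Units.val_mul]
        conv_rhs => rw [← this]
        simp only [mul_assoc, Units.inv_mul_cancel_left, Units.mul_inv, mul_one])
    have hcd : c * d = 1 := Groth.Agent.Azu26.algebraMap_injective (R := R) (A := A) (by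
      rw [map_mul, hc, hd, map_one, ← Units.val_mul, mul_assoc, inv_mul_cancel_left, mul_inv_cancel, Units.val_one])
    refine ⟨Units.mkOfMulEqOne c d hcd, ?_⟩
    show (a' : A) = algebraMap R A c * a
    rw [hc, ← Units.val_mul, inv_mul_cancel_right]

end Groth.Agent.S5705
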