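import Groth.Statements.S5719
import Groth.Agent.Csa25.AzuDescent
-- import your own Groth.Agent.* helpers here

set_option autoImplicit false
universe u v
open TensorProduct
open Dix

namespace Groth.Agent.S5719

/-- (i) ⇔ (ii), over an affine base. Let R be a commutative ring and A an R-algebra whose underlying
module is finite and projective (locally free of finite type). Then A ⊗_R A° → End_R(A) is bijective
with A faithful, i.e. A is an Azumaya algebra over R, if and only if every fibre κ(p) ⊗_R A, p a
prime ideal of R, is a central simple algebra over the residue field κ(p). -/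
theorem result (R : Type u) [CommRing R] (A : Type u) [Ring A] [Algebra R A] [Module.Finite R A] [Module.Projective R A] : IsAzumaya R A ↔ ∀ (p : Ideal R) [p.IsPrime], Algebra.IsCentral p.ResidueField (p.ResidueField ⊗[R] A) ∧ IsSimpleRing (p.ResidueField ⊗[R] A) := by
  constructor
  · intro h p hp
    haveI : IsAzumaya p.ResidueField (p.ResidueField ⊗[R] A) :=
      Groth.Agent.Azu26.isAzumaya_baseChange R p.ResidueField A
    exact ⟨Groth.Agent.Azu26.isCentral_of_field p.ResidueField (p.ResidueField ⊗[R] A), Groth.Agent.Azu26.isSimpleRing_of_field p.ResidueField (p.ResidueField ⊗[R] A)⟩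
  · intro h
    refine Groth.Agent.Csa25.isAzumaya_of_residual R A fun m hm => ?_
    obtain ⟨h1, h2⟩ := h m
    haveI := Groth.Agent.Csa25.isAzumaya_of_centralSimple m.ResidueField (m.ResidueField ⊗[R] A)
    letI := Ideal.Quotient.field m
    obtain ⟨e⟩ := Groth.Agent.Csa25.exists_cancel R (R ⧸ m) m.ResidueField A
    haveI : IsAzumaya m.ResidueField (m.ResidueField ⊗[R ⧸ m] ((R ⧸ m) ⊗[R] A)) :=
      IsAzumaya.of_AlgEquiv m.ResidueField _ _ e.symm
    exact Groth.Agent.Csa25.isAzumaya_of_faithfullyFlat (R ⧸ m) m.ResidueField ((R ⧸ m) ⊗[R] A)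

end Groth.Agent.S5719
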