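import Groth.Statements.S5723
import Groth.Agent.EGA73.RelAmpleEmb
import Groth.Agent.EGAProj74.SymAlgUnique

set_option autoImplicit false
universe u
open CategoryTheory CategoryTheory.Limits AlgebraicGeometry TopologicalSpace Opposite
open scoped HomogeneousIdeal
open EGA2

namespace Groth.Agent.S5723

/-- Let Y be a quasi-compact scheme, f : X → Y a morphism of finite type and L an invertible O_X-module.
If for some n > 0 the tensor power L^{⊗n} is very ample relative to f (isomorphic to i^*O_{P(E)}(1)
for a Y-immersion i into the projective bundle of a quasi-coherent O_Y-module E), then L is ample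
relative to f. (The converse, that f-ampleness makes all large tensor powers very ample, is the
other half of the published equivalence and is not stated here.) -/
theorem result {X Y : Scheme.{u}} [CompactSpace Y] (f : X ⟶ Y) [QuasiCompact f]
    [LocallyOfFiniteType f] (L : X.Modules) (hL : PicF.IsInvertible L) (n : ℕ) (hn : 0 < n)
    (h : RelProj.IsRelVeryAmple f (CohB1.tensorPow L n)) : RelAmple.IsRelAmple f L := by
  obtain ⟨E, hE, 𝒮, j, hj, P, p, chart, -, O1, lam, hO1, i, hi, rfl, ⟨e⟩⟩ := h
  have hn' := Amp73.isRelAmple_of_iso e.symm
    (EGA73.isRelAmple_pullback_twist_one (EGAProj74.isGenDegOne_grSym hE hj) hO1 i i.isEmbedding)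
  exact ⟨inferInstance, fun V => (Amp73.isAmple_tensorPow_iff (EGA73.isInvertible_restrict hL _) hn).2
    (Amp73.isAmple_of_iso (Amp73.powRestrict _ L n).symm (hn'.2 V))⟩


end Groth.Agent.S5723
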