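import Groth.Statements.S8260
import Groth.Agent.EGAProj74.RelBasic

set_option autoImplicit false
universe u
open CategoryTheory CategoryTheory.Limits AlgebraicGeometry Opposite TopologicalSpace
open scoped HomogeneousIdeal
open EGA2

namespace Groth.Agent.S8260

set_option backward.isDefEq.respectTransparency false in
/-- If the quasi-coherent positively graded O_Y-algebra 𝒮 is of finite type (over every affine open U of
Y the ring 𝒮(U) is a finitely generated O_Y(U)-algebra), then its relative homogeneous spectrum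
Proj(𝒮) is of finite type over Y. -/
theorem result {Y P : Scheme.{u}} (𝒮 : RelProj.QCGrAlg Y)
    (hft : ∀ (U : Y.Opens) (hU : IsAffineOpen U), (𝒮.str.app (op U)).hom.FiniteType)
    (p : P ⟶ Y)
    (chart : ∀ (U : Y.Opens) (hU : IsAffineOpen U), (((p ⁻¹ᵁ U : P.Opens) : Scheme.{u}) ≅ Proj (𝒮.deg U hU)))
    (hP : RelProj.IsRelProj 𝒮 p chart) : LocallyOfFiniteType p ∧ QuasiCompact p := by
  have key : ∀ (U : Y.Opens) (hU : IsAffineOpen U),
      LocallyOfFiniteType (Proj.toSpecZero (𝒮.deg U hU) ≫ Spec.map (𝒮.strZero U hU)) ∧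
      QuasiCompact (Proj.toSpecZero (𝒮.deg U hU) ≫ Spec.map (𝒮.strZero U hU)) := by
    intro U hU
    have h1 : (algebraMap (𝒮.deg U hU 0) (𝒮.presheaf.obj (op U))).comp (𝒮.strZero U hU).hom =
        (𝒮.str.app (op U)).hom := rfl
    have : Algebra.FiniteType (𝒮.deg U hU 0) (𝒮.presheaf.obj (op U)) :=
      RingHom.finiteType_algebraMap.mp (RingHom.FiniteType.of_comp_finiteType (h1.symm ▸ hft U hU))
    have h2 : (𝒮.strZero U hU).hom.FiniteType := by
      have e : (𝒮.strZero U hU).hom = (GradedRing.projZeroRingHom' (𝒮.deg U hU)).comp (𝒮.str.app (op U)).hom := by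
        refine RingHom.ext fun r => Subtype.ext ?_
        exact (DirectSum.decompose_of_mem_same (𝒮.deg U hU) (𝒮.str_mem U hU r)).symm
      rw [e]
      exact (RingHom.FiniteType.of_surjective _ (GradedRing.projZeroRingHom'_surjective _)).comp (hft U hU)
    have : LocallyOfFiniteType (Spec.map (𝒮.strZero U hU)) := HasRingHomProperty.Spec_iff.mpr h2
    exact ⟨inferInstance, inferInstance⟩
  exact ⟨EGAProj74.restrict_of_chart (Q := @LocallyOfFiniteType) hP fun U hU => (key U hU).1,
    EGAProj74.restrict_of_chart (Q := @QuasiCompact) hP fun U hU => (key U hU).2⟩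

end Groth.Agent.S8260
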