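import Groth.Statements.S5724
import Groth.Agent.EGA73.RelAmpleTwistD
import Groth.Agent.S12133
import Groth.Agent.S8260

set_option autoImplicit false
universe u
open CategoryTheory CategoryTheory.Limits AlgebraicGeometry TopologicalSpace Opposite
open scoped HomogeneousIdeal
open EGA2
open Groth.Agent.EGA73

namespace Groth.Agent.S5724

/-- Let Y be a quasi-compact scheme and 𝒮 a quasi-coherent graded O_Y-algebra of finite type (over every
affine open U of Y the ring 𝒮(U) is an algebra of finite type over the functions on U, through the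
structure map), and let f : X → Y be its relative homogeneous spectrum Proj(𝒮), given with its
charts over affine opens. Then there is an integer d > 0 such that the twisting sheaf O_X(d) — any
O_X-module given with chart identifications exhibiting it as O_X(d) — is invertible and ample
relative to f. (The published statement also records that f is of finite type; that assertion holds
for the relative homogeneous spectrum of any finite-type quasi-coherent graded algebra and is not
repeated in this row.) -/
theorem result {Y X : Scheme.{u}} [CompactSpace Y] (𝒮 : RelProj.QCGrAlg Y)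
    (hft : ∀ (U : Y.Opens) (hU : IsAffineOpen U), (𝒮.str.app (op U)).hom.FiniteType)
    (f : X ⟶ Y)
    (chart : ∀ (U : Y.Opens) (hU : IsAffineOpen U), ((f ⁻¹ᵁ U : X.Opens) : Scheme.{u}) ≅ Proj (𝒮.deg U hU))
    (hX : RelProj.IsRelProj 𝒮 f chart) :
    ∃ d : ℕ, 0 < d ∧ ∀ (L : X.Modules)
      (lam : ∀ (U : Y.Opens) (hU : IsAffineOpen U),
        L ⟶ (Scheme.Modules.pushforward (RelProj.emb f chart U hU)).obj (GrTwist.twist (𝒮.deg U hU) (d : ℤ))),
      RelProj.IsRelTwist 𝒮 f chart (d : ℤ) L lam → PicF.IsInvertible L ∧ RelAmple.IsRelAmple f L := by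
  obtain ⟨T, hT⟩ := (isCompact_univ (X := Y)).elim_finite_subcover (fun V : Y.affineOpens => (V.1 : Set Y))
    (fun V => V.1.isOpen) (fun x _ => by
      obtain ⟨_, ⟨V, hV, rfl⟩, hxV, -⟩ :=
        (Scheme.isBasis_affineOpens Y).exists_subset_of_mem_open (Set.mem_univ x) isOpen_univ
      exact Set.mem_iUnion.2 ⟨⟨V, hV⟩, hxV⟩)
  have hcov : ⨆ i : T, i.1.1 = ⊤ := eq_top_iff.2 fun x _ => by
    obtain ⟨V, hV, hxV⟩ := Set.mem_iUnion₂.1 (hT (Set.mem_univ x))
    exact Opens.mem_iSup.2 ⟨⟨V, hV⟩, hxV⟩
  obtain ⟨d, hd, h⟩ := Groth.Agent.S12133.result 𝒮 (fun i : T => i.1.1) (fun i => i.1.2) hcov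
    (fun i => hft i.1.1 i.1.2)
  refine ⟨d, hd, fun L lam hL => ?_⟩
  have hc : ∀ (U : Y.Opens) (hU : IsAffineOpen U), RelAmpleTwistD.CoveredBy 𝒮 d hU := fun U hU =>
    RelAmpleTwistD.coveredBy_of_cover hX (fun i : T => i.1.1) (fun i => i.1.2) hcov
      (fun i => RelAmpleTwistD.coveredBy_of_gen i.1.2 fun n hn => ((h i).1 n hn).le) hU
  have := (Groth.Agent.S8260.result 𝒮 hft f chart hX).2
  exact ⟨RelAmpleTwistD.isInvertible_of_coveredBy hL hc, RelAmpleTwistD.isRelAmple hd hL hc⟩

end Groth.Agent.S5724
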