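import Groth.Statements.S5725
import Groth.Agent.EGAProj74.Fundamental

set_option autoImplicit false
universe u
open CategoryTheory CategoryTheory.Limits AlgebraicGeometry TopologicalSpace Opposite
open scoped HomogeneousIdeal
open EGA2

namespace Groth.Agent.S5725

/-- Let q : X → Y be a quasi-compact morphism and L an invertible O_X-module. If L is very ample
relative to q (isomorphic to i^*O_{P(E)}(1) for a Y-immersion i : X → P(E) into the projective
bundle of a quasi-coherent O_Y-module E), then the canonical morphism q^*(q_*L) → L, the counit of
the adjunction between inverse and direct image, is an epimorphism. (The published statement also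
records that q_*L is quasi-coherent, which holds because q is then quasi-compact and separated, and
lists a further property, that the morphism into the projective bundle of q_*L attached to this
epimorphism is an immersion; with that property the converse holds. Those parts are not stated
here.) -/
theorem result {X Y : Scheme.{u}} (q : X ⟶ Y) [QuasiCompact q] (L : X.Modules)
    (hL : PicF.IsInvertible L) (h : RelProj.IsRelVeryAmple q L) :
    Epi ((Scheme.Modules.pullbackPushforwardAdjunction q).counit.app L) := by
  obtain ⟨E, hE, 𝒮, j, hj, P, p, chart, hP, O1, lam, hO1, i, hi, rfl, ⟨e⟩⟩ := h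
  obtain ⟨φ, hφ⟩ := EGAProj74.exists_canonical (chart := chart) (lam := lam) hE hj hO1 hP
  have := EGAProj74.epi_canonical (chart := chart) (lam := lam) hE hj hO1 hφ
  let γ : (Scheme.Modules.pullback (i ≫ p)).obj E ⟶ L :=
    (Scheme.Modules.pullbackComp i p).inv.app E ≫
      (Scheme.Modules.pullback i).map (((Scheme.Modules.pullbackPushforwardAdjunction p).homEquiv E O1).symm φ) ≫ e.inv
  have : (Scheme.Modules.pullback i).PreservesEpimorphisms :=
    Functor.preservesEpimorphisms_of_adjunction (Scheme.Modules.pullbackPushforwardAdjunction i)
  have hγ : Epi γ := inferInstance
  let adj := Scheme.Modules.pullbackPushforwardAdjunction (i ≫ p)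
  have : γ = (Scheme.Modules.pullback (i ≫ p)).map (adj.homEquiv E L γ) ≫ adj.counit.app L :=
    ((adj.homEquiv E L).symm_apply_apply γ).symm.trans (adj.homEquiv_counit (X := E) (Y := L) (g := adj.homEquiv E L γ))
  exact epi_of_epi_fac this.symm


end Groth.Agent.S5725
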