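import Groth.Statements.S5726
import Groth.Agent.EGA73.QuasiProjective
import Groth.Agent.EGAProj74.RelTwistMap
import Groth.Agent.EGAProj74.SelfModule

set_option autoImplicit false
universe u
open CategoryTheory CategoryTheory.Limits AlgebraicGeometry TopologicalSpace Opposite
open scoped HomogeneousIdeal
open EGA2
open Groth.Agent
open Groth.Agent.EGAProj74

namespace Groth.Agent.S5726

/-- Let Y be a scheme which is either quasi-compact and separated or Noetherian, q : X → Y a morphism of
finite type and L an invertible O_X-module which is very ample relative to q. Then there are a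
quasi-coherent graded O_Y-algebra 𝒮 generated by its degree-one part, that part being of finite
type, a relative homogeneous spectrum p : P → Y of 𝒮 (given with its charts over affine opens)
together with its twisting sheaf O_P(1) (given with its chart identifications), and an open
immersion i : X → P with dense image such that i ≫ p = q and L is isomorphic to i^*O_P(1). (The
published statement keeps the notation of the proposition it follows, in which q is of finite type;
without that hypothesis the conclusion fails, for instance for the affine space of countably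
infinite dimension over a field with the structure sheaf, which is an open subscheme of a projective
bundle over the field but is not of finite type.) -/
theorem result {X Y : Scheme.{u}}
    (hY : (CompactSpace Y ∧ Y.IsSeparated) ∨ AlgebraicGeometry.IsNoetherian Y) (q : X ⟶ Y) [QuasiCompact q] [LocallyOfFiniteType q]
    (L : X.Modules) (hL : PicF.IsInvertible L) (h : RelProj.IsRelVeryAmple q L) :
    ∃ (𝒮 : RelProj.QCGrAlg Y) (P : Scheme.{u}) (p : P ⟶ Y)
      (chart : ∀ (U : Y.Opens) (hU : IsAffineOpen U), ((p ⁻¹ᵁ U : P.Opens) : Scheme.{u}) ≅ Proj (𝒮.deg U hU))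
      (O1 : P.Modules)
      (lam : ∀ (U : Y.Opens) (hU : IsAffineOpen U),
        O1 ⟶ (Scheme.Modules.pushforward (RelProj.emb p chart U hU)).obj (GrTwist.twist (𝒮.deg U hU) 1))
      (i : X ⟶ P),
      𝒮.IsGenDegOne ∧ 𝒮.IsFTDeg 1 ∧ RelProj.IsRelProj 𝒮 p chart ∧ RelProj.IsRelTwist 𝒮 p chart 1 O1 lam ∧
        IsOpenImmersion i ∧ Dense (Set.range i.base) ∧ i ≫ p = q ∧
        Nonempty (L ≅ (Scheme.Modules.pullback i).obj O1) := by
  obtain ⟨_, hY'⟩ := EGA73.QuasiProjective.quasiSeparatedSpace_or
    (hY.imp id fun hN => @AlgebraicGeometry.IsNoetherian.noetherianSpace _ hN)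
  have := EGA73.QuasiProjective.quasiSeparated_of_isRelVeryAmple h
  obtain ⟨E, 𝒯, j, P, p, chart, O1, lam, i, hE, hEft, hj, hP, hO1, hi, hip, ⟨τ⟩⟩ :=
    EGA73.BundleExistence.exists_bundle_immersion q hY' hL
      (EGA73.QuasiProjective.exists_chart_of_isRelVeryAmple h)
  have := EGA73.QuasiProjective.isSeparated_bundle hE hEft hj hP
  have : QuasiCompact (i ≫ p) := hip ▸ inferInstance
  have : QuasiCompact i := QuasiCompact.of_comp i p
  obtain ⟨𝒬, φ', hgr, hirr, r, e, hgen', hft', hQ, hr, her, hep⟩ :=
    EGA73.ClosedRelProj.exists_graded_quotient (isGenDegOne_grSym hE hj)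
      (EGA73.PBundleClosed.isFTDeg_one_grSym hE hEft hj) hP i.imageι
  obtain ⟨O1', lam', hO1'⟩ := exists_isRelTwist (hP := hQ) (1 : ℤ)
  obtain ⟨σ⟩ := nonempty_pullback_twist_iso hr hP hQ hO1 hO1' (isGenDegOne_grSym hE hj)
  refine ⟨𝒬, relProj 𝒬, relProjTo 𝒬, relProjChart 𝒬, O1', lam', i.toImage ≫ e.hom, hgen', hft', hQ, hO1',
    inferInstance, ?_, ?_, ⟨?_⟩⟩
  · exact e.hom.homeomorph.surjective.denseRange.comp i.toImage.denseRange e.hom.continuous
  · rw [Category.assoc, hep, ← Category.assoc, Scheme.Hom.toImage_imageι, hip]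
  · refine τ ≪≫ (Scheme.Modules.pullbackCongr ?_).app O1 ≪≫
      ((Scheme.Modules.pullbackComp (i.toImage ≫ e.hom) r).app O1).symm ≪≫
      (Scheme.Modules.pullback (i.toImage ≫ e.hom)).mapIso σ
    rw [Category.assoc, her, Scheme.Hom.toImage_imageι]

end Groth.Agent.S5726
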