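import Groth.Statements.S5730
import Groth.Agent.EGA73.BundleTensor
import Groth.Agent.EGA73.RelTwistPow
import Groth.Agent.QCTens72.Basic

set_option autoImplicit false
universe u
open CategoryTheory CategoryTheory.Limits AlgebraicGeometry TopologicalSpace Opposite
open scoped HomogeneousIdeal
open EGA2
open Groth.Agent
open Groth.Agent.EGAProj74

namespace Groth.Agent.S5730

/-- Let E be a quasi-coherent O_Y-module and L an invertible O_Y-module, 𝒮 (with j : E → 𝒮) the graded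
symmetric algebra of E and 𝒯 (with k : E ⊗ L → 𝒯) that of E ⊗ L, and let p : P → Y, q : Q → Y be the
projective bundles P(E) = Proj(𝒮) and P(E ⊗ L) = Proj(𝒯) with their charts over affine opens. Then
there is an isomorphism i : P ≅ Q over Y such that, for every n ≥ 0 and all twisting sheaves O_P(n)
and O_Q(n) (modules given with their chart identifications), i^*O_Q(n) is isomorphic to O_P(n) ⊗
p^*(L^{⊗n}). (Existence of the isomorphisms only: the published statement names a canonical i and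
canonical identifications, and states the twist relation for every integer n; this row asserts
existence and the relation for n ≥ 0.) -/
theorem result {Y P Q : Scheme.{u}} (E : Y.Modules) (hE : Coh.IsQCoh E)
    (L : Y.Modules) (hL : PicF.IsInvertible L)
    (𝒮 : RelProj.QCGrAlg Y) (j : E ⟶ 𝒮.toModule) (hj : RelProj.IsGrSymAlg E 𝒮 j)
    (𝒯 : RelProj.QCGrAlg Y) (k : CohB1.tensorMod E L ⟶ 𝒯.toModule) (hk : RelProj.IsGrSymAlg (CohB1.tensorMod E L) 𝒯 k)
    (p : P ⟶ Y)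
    (chart : ∀ (U : Y.Opens) (hU : IsAffineOpen U), ((p ⁻¹ᵁ U : P.Opens) : Scheme.{u}) ≅ Proj (𝒮.deg U hU))
    (hP : RelProj.IsRelProj 𝒮 p chart) (q : Q ⟶ Y)
    (chartQ : ∀ (U : Y.Opens) (hU : IsAffineOpen U), ((q ⁻¹ᵁ U : Q.Opens) : Scheme.{u}) ≅ Proj (𝒯.deg U hU))
    (hQ : RelProj.IsRelProj 𝒯 q chartQ) :
    ∃ i : P ≅ Q, i.hom ≫ q = p ∧
      ∀ (n : ℕ) (OP : P.Modules)
        (lamP : ∀ (U : Y.Opens) (hU : IsAffineOpen U),
          OP ⟶ (Scheme.Modules.pushforward (RelProj.emb p chart U hU)).obj (GrTwist.twist (𝒮.deg U hU) (n : ℤ)))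
        (OQ : Q.Modules)
        (lamQ : ∀ (U : Y.Opens) (hU : IsAffineOpen U),
          OQ ⟶ (Scheme.Modules.pushforward (RelProj.emb q chartQ U hU)).obj (GrTwist.twist (𝒯.deg U hU) (n : ℤ))),
        RelProj.IsRelTwist 𝒮 p chart (n : ℤ) OP lamP → RelProj.IsRelTwist 𝒯 q chartQ (n : ℤ) OQ lamQ →
          Nonempty ((Scheme.Modules.pullback i.hom).obj OQ ≅
            CohB1.tensorMod OP ((Scheme.Modules.pullback p).obj (CohB1.tensorPow L n))) := by
  have hF : Coh.IsQCoh (CohB1.tensorMod E L) := by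
    have : E.IsQuasicoherent := hE
    have : L.IsQuasicoherent := Mero90.isQCoh_of_isInvertible hL
    exact QCTens72.isQuasicoherent_tensorMod E L
  obtain ⟨O1, lam1, hO1⟩ := exists_isRelTwist (hP := hP) (1 : ℤ)
  obtain ⟨OQ1, lamQ1, hOQ1⟩ := exists_isRelTwist (hP := hQ) (1 : ℤ)
  obtain ⟨φ, hφ⟩ := exists_canonical (lam := lam1) hE hj hO1 hP
  obtain ⟨ψ, hψ⟩ := exists_canonical (lam := lamQ1) hF hk hOQ1 hQ
  obtain ⟨i, hi, ⟨τ⟩⟩ := EGA73.BundleTensor.exists_iso hE hF hL hj hP hO1 hφ hk hQ hOQ1 hψ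
  refine ⟨i, hi, fun n OP lamP OQ lamQ h h' => ?_⟩
  obtain ⟨eP⟩ := EGA73.RelTwistPow.nonempty_iso_pow hP (isGenDegOne_grSym hE hj) hO1 n OP lamP h
  obtain ⟨eQ⟩ := EGA73.RelTwistPow.nonempty_iso_pow hQ (isGenDegOne_grSym hF hk) hOQ1 n OQ lamQ h'
  exact ⟨(Scheme.Modules.pullback i.hom).mapIso eQ ≪≫
    Amp73.pullPowIso i.hom (isInvertible_of_isGenDegOne hOQ1 (isGenDegOne_grSym hF hk)) n ≪≫
    Amp73.powIso τ n ≪≫ Amp73.powTens O1 _ n ≪≫
    EGA73.tensIso eP.symm (Amp73.pullPowIso p hL n).symm⟩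

end Groth.Agent.S5730
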