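import Groth.Statements.S5738
import Groth.Agent.FCompl13.Thick
import Groth.Agent.An92.FSch.Thick

set_option autoImplicit false
universe u
open FCompl

namespace Groth.Agent.S5738

open AlgebraicGeometry CategoryTheory in
/-- For formal schemes presented as adic systems of thickenings: a proper morphism of locally Noetherian
formal schemes is an adic one whose smallest level is proper, and the content is that every level is
then proper. Let (X_n) and (S_n) be locally Noetherian adic formal systems and f : (X_n) → (S_n) a
morphism of systems all of whose squares X_n → X_(n+1), S_n → S_(n+1) are cartesian. If X_0 → S_0 is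
proper, then X_n → S_n is proper for every n. -/
theorem result {𝔛 𝔖 : FSch.Sys.{u}} (f : 𝔛 ⟶ 𝔖)
    (h𝔛 : 𝔛.IsLocNoethFormal) (h𝔖 : 𝔖.IsLocNoethFormal) (hf : FSch.IsAdicHom f)
    [IsProper ((f : FSch.Hom 𝔛 𝔖).app 0)] (n : ℕ) :
    IsProper ((f : FSch.Hom 𝔛 𝔖).app n) := by
  have := Groth.Agent.An92.FSch.isClosedImmersion_toX h𝔖.1 n
  have := Groth.Agent.FCompl13.surjective_toX h𝔖.1 n
  refine Groth.Agent.FCompl13.isProper_of_thickening (fun U => ?_)
    (Groth.Agent.An92.FSch.isPullback_toX hf n)
  have := h𝔖.2.2 n
  have := IsLocallyNoetherian.component_noetherian U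
  exact IsNoetherian.noetherian _

end Groth.Agent.S5738
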