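import Groth.Statements.S5742
import Mathlib.AlgebraicGeometry.SpreadingOut
import Mathlib.RingTheory.Filtration

set_option autoImplicit false
set_option backward.isDefEq.respectTransparency.types false
universe u
open Coherent

namespace Groth.Agent.S5742

open AlgebraicGeometry CategoryTheory CategoryTheory.Limits in
/-- Let A be a Noetherian ring separated and complete for the I-adic topology, X proper over Spec A and
Y locally of finite type over Spec A; write X_n = X ×_A Spec(A/I^(n+1)). Two A-morphisms φ, ψ : X →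
Y whose restrictions to X_n coincide for every n are equal. (The published statement takes Y
separated and of finite type over A, which the surjectivity half needs; injectivity uses neither
separatedness nor quasi-compactness of Y. Together with the existence of an A-morphism inducing any
compatible system of morphisms X_n → Y_n, this is the bijectivity of f ↦ f̂ from A-morphisms X → Y
to morphisms of the completions.) -/
theorem result (A : Type u) [CommRing A] [IsNoetherianRing A]
    (I : Ideal A) [IsAdicComplete I A] {X Y : Scheme.{u}} (f : X ⟶ Spec (CommRingCat.of A))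
    (h : Y ⟶ Spec (CommRingCat.of A)) [IsProper f] [LocallyOfFiniteType h] (φ ψ : X ⟶ Y)
    (hφ : φ ≫ h = f) (hψ : ψ ≫ h = f)
    (e : ∀ n : ℕ, CohB1.thickι f I n ≫ φ = CohB1.thickι f I n ≫ ψ) : φ = ψ := by
  haveI : IsLocallyNoetherian X := LocallyOfFiniteType.isLocallyNoetherian f
  haveI : CompactSpace X := QuasiCompact.compactSpace_of_compactSpace f
  -- agreement on the spectrum of the local ring at a closed point
  have hclosed : ∀ x : X, IsClosed ({x} : Set X) → X.fromSpecStalk x ≫ φ = X.fromSpecStalk x ≫ ψ := by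
    intro x hx
    obtain ⟨α, hα⟩ := Spec.map_surjective (X.fromSpecStalk x ≫ f)
    have hm : I ≤ (IsLocalRing.maximalIdeal (X.presheaf.stalk x)).comap α.hom := by
      have h1 : (Spec.map α) (IsLocalRing.closedPoint (X.presheaf.stalk x)) = f x := by
        rw [hα, Scheme.Hom.comp_apply, Scheme.fromSpecStalk_closedPoint]
      have h2 : IsClosed ({f x} : Set (Spec (CommRingCat.of A))) := by
        rw [← Set.image_singleton]
        exact f.isClosedMap _ hx
      have h3 := (PrimeSpectrum.isClosed_singleton_iff_isMaximal _).mp h2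
      refine le_of_le_of_eq ((IsAdicComplete.le_jacobson_bot I).trans
        (sInf_le ⟨bot_le, h3⟩)) ?_
      rw [← h1]
      rfl
    have hn : ∀ n : ℕ, Spec.map (CommRingCat.ofHom (Ideal.Quotient.mk
        (IsLocalRing.maximalIdeal (X.presheaf.stalk x) ^ (n + 1)))) ≫ X.fromSpecStalk x ≫ φ =
        Spec.map (CommRingCat.ofHom (Ideal.Quotient.mk
        (IsLocalRing.maximalIdeal (X.presheaf.stalk x) ^ (n + 1)))) ≫ X.fromSpecStalk x ≫ ψ := by
      intro n
      have hle : I ^ (n + 1) ≤ (IsLocalRing.maximalIdeal (X.presheaf.stalk x) ^ (n + 1)).comap α.hom :=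
        (Ideal.pow_right_mono hm _).trans (Ideal.le_comap_pow _ _)
      let j : Spec (CommRingCat.of (X.presheaf.stalk x ⧸ IsLocalRing.maximalIdeal (X.presheaf.stalk x) ^ (n + 1))) ⟶
          CohB1.thick f I n :=
        pullback.lift (Spec.map (CommRingCat.ofHom (Ideal.Quotient.mk
            (IsLocalRing.maximalIdeal (X.presheaf.stalk x) ^ (n + 1)))) ≫ X.fromSpecStalk x)
          (Spec.map (CommRingCat.ofHom (Ideal.quotientMap
            (IsLocalRing.maximalIdeal (X.presheaf.stalk x) ^ (n + 1)) α.hom hle))) (by
            rw [Category.assoc, ← hα, ← Spec.map_comp, CohB1.specQuot, ← Spec.map_comp]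
            congr 1)
      have hj : j ≫ CohB1.thickι f I n = Spec.map (CommRingCat.ofHom (Ideal.Quotient.mk
            (IsLocalRing.maximalIdeal (X.presheaf.stalk x) ^ (n + 1)))) ≫ X.fromSpecStalk x :=
        pullback.lift_fst _ _ _
      have h' := congrArg (j ≫ ·) (e n)
      simp only [← Category.assoc, hj] at h'
      simpa only [Category.assoc] using h'
    obtain ⟨_, ⟨W, hW, rfl⟩, hyW, -⟩ :=
      Y.isBasis_affineOpens.exists_subset_of_mem_open (Set.mem_univ (φ x)) isOpen_univ
    have hxy : φ x = ψ x := by
      have hne : IsLocalRing.maximalIdeal (X.presheaf.stalk x) ^ (0 + 1) ≠ ⊤ := by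
        rw [pow_one]
        exact (IsLocalRing.maximalIdeal.isMaximal _).ne_top
      haveI := Ideal.Quotient.nontrivial_iff.mpr hne
      obtain ⟨z⟩ := (inferInstance : Nonempty (PrimeSpectrum
        (X.presheaf.stalk x ⧸ IsLocalRing.maximalIdeal (X.presheaf.stalk x) ^ (0 + 1))))
      have hz : Spec.map (CommRingCat.ofHom (Ideal.Quotient.mk
          (IsLocalRing.maximalIdeal (X.presheaf.stalk x) ^ (0 + 1)))) z =
          IsLocalRing.closedPoint (X.presheaf.stalk x) := by
        apply PrimeSpectrum.ext
        refine ((IsLocalRing.maximalIdeal.isMaximal _).eq_of_le (Ideal.IsPrime.ne_top inferInstance) ?_).symm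
        intro r hr
        show Ideal.Quotient.mk _ r ∈ z.asIdeal
        rw [Ideal.Quotient.eq_zero_iff_mem.mpr (by rwa [pow_one])]
        exact zero_mem _
      have h0 := congr($(hn 0) z)
      rw [Scheme.Hom.comp_apply, Scheme.Hom.comp_apply, Scheme.Hom.comp_apply, Scheme.Hom.comp_apply,
        hz] at h0
      rwa [Scheme.fromSpecStalk_closedPoint] at h0
    have key : ∀ χ : X ⟶ Y, χ x ∈ W → ∃ a : Γ(Y, W) ⟶ X.presheaf.stalk x,
        Spec.map a ≫ hW.fromSpec = X.fromSpecStalk x ≫ χ := by
      intro χ hχ
      have hr : Set.range (X.fromSpecStalk x ≫ χ) ⊆ Set.range hW.fromSpec := by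
        rw [hW.range_fromSpec]
        rintro _ ⟨z, rfl⟩
        have hz := (IsLocalRing.specializes_closedPoint z).mem_open
          ((W.2.preimage (X.fromSpecStalk x ≫ χ).continuous))
        refine hz ?_
        show χ (X.fromSpecStalk x _) ∈ W
        rwa [Scheme.fromSpecStalk_closedPoint]
      obtain ⟨a, ha⟩ := Spec.map_surjective (IsOpenImmersion.lift hW.fromSpec _ hr)
      exact ⟨a, by rw [ha, IsOpenImmersion.lift_fac]⟩
    obtain ⟨a, ha⟩ := key φ hyW
    obtain ⟨b, hb⟩ := key ψ (hxy ▸ hyW)
    suffices a = b by rw [← ha, ← hb, this]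
    ext w
    rw [← sub_eq_zero]
    have hmem : a.hom w - b.hom w ∈ ⨅ n : ℕ, IsLocalRing.maximalIdeal (X.presheaf.stalk x) ^ n := by
      rw [Ideal.mem_iInf]
      intro n
      have h' := hn n
      rw [← ha, ← hb, ← Category.assoc, ← Category.assoc, cancel_mono, ← Spec.map_comp, ← Spec.map_comp] at h'
      have h'' := congr($(Spec.map_injective h') w)
      simp only [CommRingCat.comp_apply, CommRingCat.hom_ofHom] at h''
      exact Ideal.pow_le_pow_right n.le_succ ((Ideal.Quotient.eq).mp h'')
    rw [Ideal.iInf_pow_eq_bot_of_isLocalRing _ (IsLocalRing.maximalIdeal.isMaximal _).ne_top] at hmem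
    exact hmem
  choose U hxU hU using fun (x : {x : X // IsClosed ({x} : Set X)}) =>
    spread_out_unique_of_isGermInjective' φ ψ (hclosed x.1 x.2)
  have hcov : ⨆ x, U x = ⊤ := by
    refine top_le_iff.mp fun z _ => ?_
    obtain ⟨c, hc, hcl⟩ := (isClosed_closure (s := ({z} : Set X))).exists_closed_singleton ⟨z, subset_closure rfl⟩
    have : c ∈ ⨆ x, U x := TopologicalSpace.Opens.mem_iSup.mpr ⟨⟨c, hcl⟩, hxU _⟩
    exact (specializes_iff_mem_closure.mpr hc).mem_open (⨆ x, U x).2 this
  refine (X.openCoverOfIsOpenCover U (TopologicalSpace.IsOpenCover.mk hcov)).hom_ext _ _ fun x => ?_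
  exact hU x

end Groth.Agent.S5742
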