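import Groth.Statements.S5744
import Groth.Agent.QC70.Finite
import Groth.Agent.QCqs72.Basic
import Mathlib.AlgebraicGeometry.Morphisms.Affine
import Mathlib.AlgebraicGeometry.Morphisms.Separated

set_option autoImplicit false
universe u
open Coherent

namespace Groth.Agent.S5744

open AlgebraicGeometry CategoryTheory in
/-- For the Čech complex of sheaves indexed by all ordered tuples with products as terms; over a finite
index type these terms are finite direct sums. Let X be a separated scheme, (U_i)_{i ∈ ι} a finite
family of affine opens covering X, and F a quasi-coherent O_X-module. Then for every p the degree-p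
term of the Čech complex of sheaves 𝔠(𝒰, F), the product over ordered (p+1)-tuples of the direct
images (j_{i_0…i_p})_*(F|_{U_{i_0…i_p}}), is a quasi-coherent O_X-module. -/
theorem result {X : Scheme.{u}} [X.IsSeparated] {ι : Type u}
    [Finite ι] (𝒰 : ι → X.Opens) (h𝒰 : ∀ i, IsAffineOpen (𝒰 i)) (hcov : ⨆ i, 𝒰 i = ⊤)
    (F : X.Modules) [Coh.IsQCoh F] (p : ℕ) :
    Coh.IsQCoh (((CechOX.cechSh 𝒰).obj F).X p) := by
  refine @Groth.Agent.QC70.isQuasicoherent_finite_product _ _ (inferInstanceAs (Finite (Fin (p + 1) → ι))) _ fun i => ?_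
  let U : Fin (p + 1) → X.Opens := fun a => 𝒰 (i a)
  let W : X.Opens := ∏ᶜ U
  have hW : IsAffineOpen W := by
    have he : W = ⨅ a, U a := le_antisymm
      (le_iInf fun a => leOfHom (Limits.Pi.π U a))
      (leOfHom (Limits.Pi.lift fun a => homOfLE (iInf_le U a)))
    rw [he]
    exact IsAffineOpen.iInf fun a => h𝒰 (i a)
  have : CompactSpace (W : Scheme.{u}) := isCompact_iff_compactSpace.mp hW.isCompact
  have : (F.restrict W.ι).IsQuasicoherent := inferInstance
  exact Groth.Agent.QCqs72.isQuasicoherent_pushforward (M := F.restrict W.ι) W.ι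

end Groth.Agent.S5744
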