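import Groth.Statements.S5750
import Groth.Agent.RB70.SerreVanish

set_option autoImplicit false
set_option backward.isDefEq.respectTransparency.types false
universe u
open Coherent

namespace Groth.Agent.S5750

open AlgebraicGeometry CategoryTheory in
/-- Let A be an Artinian local ring, i : X → P^r_A a closed immersion compatible with the structure
morphisms to Spec A, F a coherent O_X-module and F(n) = F ⊗ i^* O(n). If a polynomial P over ℚ
satisfies P(n) = χ_A(F(n)) = Σ_{j ≤ r} (-1)^j length_A H^j(X, F(n)) for every integer n (the Hilbert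
polynomial of F), then the leading coefficient of P is non-negative. -/
theorem result (A : Type u) [CommRing A]
    [IsArtinianRing A] [IsLocalRing A] (r : ℕ) (X : Scheme.{u}) [X.Over (Spec (CommRingCat.of A))]
    (i : X ⟶ CohB1.ProjSpace r A) [IsClosedImmersion i]
    (hi : i ≫ CohB1.ProjSpace.toSpec r A = X ↘ Spec (CommRingCat.of A)) (F : X.Modules) (hF : Coh.IsCoh F)
    (P : Polynomial ℚ)
    (hP : ∀ n : ℤ, ((Finset.range (r + 1)).sum fun j => (-1 : ℚ) ^ j *
        ((Module.length A (Coh.HH X (CohB1.tensorMod F
          ((Scheme.Modules.pullback i).obj (Twist.twistProjSpace r A n))) j)).toNat : ℚ)) = P.eval (n : ℚ)) :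
    0 ≤ P.leadingCoeff := by
  open Groth.Agent Filter in
    classical
    obtain ⟨N, hN⟩ := RB70.exists_vanishing_twist i F hF
    have hpos : ∀ n : ℕ, N ≤ (n : ℤ) → 0 ≤ P.eval (((n : ℤ)) : ℚ) := fun n hn => by
      rw [← hP, Finset.sum_eq_single 0 (fun j _ hj => by
        haveI := hN n hn j (Nat.one_le_iff_ne_zero.2 hj)
        rw [Module.length_eq_zero (R := A)]
        simp) (fun h => absurd (Finset.mem_range.2 (Nat.succ_pos r)) h)]
      simp
    by_contra hc
    by_cases hd : 0 < P.degree
    · have ht := (P.tendsto_atBot_of_leadingCoeff_nonpos hd (le_of_lt (not_le.1 hc))).comp tendsto_natCast_atTop_atTop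
      obtain ⟨M, hM⟩ := eventually_atTop.1 (ht.eventually (eventually_lt_atBot (0 : ℚ)))
      obtain ⟨K, hMK, hNK⟩ : ∃ K : ℕ, M ≤ K ∧ N ≤ (K : ℤ) := ⟨max M N.toNat, le_max_left _ _, by omega⟩
      have := hpos K hNK
      exact absurd this (not_le.2 (by simpa using hM K hMK))
    · rw [not_lt] at hd
      have e := Polynomial.eq_C_of_degree_le_zero hd
      have := hpos N.toNat (by omega)
      rw [e, Polynomial.eval_C] at this
      rw [e, Polynomial.leadingCoeff_C] at hc
      exact hc this

end Groth.Agent.S5750
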