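import Groth.Statements.S5753
import Groth.Agent.EGA4Alg4.Depth

set_option autoImplicit false
universe u
open EGA41

namespace Groth.Agent.S5753

/-- Let A be a Noetherian local ring with maximal ideal m and residue field k, and N a finitely
generated A-module. Then no element of m is N-regular (multiplication by it injective) if and only
if Hom_A(k, N) is nonzero. Applied to N = M/(x_1 M + ... + x_n M) for an M-regular sequence (x_i) in
m, this says that the sequence cannot be extended by an element of m if and only if Hom_A(k, M/(x_1
M + ... + x_n M)) ≠ 0. (The published statement allows an arbitrary module; for the direct sum N of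
the quotients of a two-dimensional regular local ring by all its height-one primes no element of m
is N-regular while Hom_A(k, N) = 0, and the published proof uses finiteness of the set of associated
primes, so N is taken finitely generated here.) -/
theorem result (A : Type u) [CommRing A]
    [IsLocalRing A] [IsNoetherianRing A] (N : Type u) [AddCommGroup N] [Module A N] [Module.Finite A N] :
    (∀ x ∈ IsLocalRing.maximalIdeal A, ¬ IsSMulRegular N x) ↔
      Nontrivial (IsLocalRing.ResidueField A →ₗ[A] N) := by
  rcases subsingleton_or_nontrivial N with hM | hM
  · refine iff_of_false (fun h => h 0 (zero_mem _) IsSMulRegular.zero) ?_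
    exact not_nontrivial _
  · rw [← EGA4Alg4.maximalIdeal_mem_assoc_iff, EGA4Alg4.maximalIdeal_mem_assoc_iff_nontrivial_hom]

end Groth.Agent.S5753
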