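import Groth.Statements.S5754
import Mathlib

set_option autoImplicit false
universe u
open EGA41

namespace Groth.Agent.S5754

/-- Let A be a Noetherian ring, M a finitely generated A-module and t an element of A which is
M-regular. For every associated prime p of M, every prime ideal minimal among those containing p +
tA is an associated prime of M/tM. -/
theorem result (A : Type u) [CommRing A]
    [IsNoetherianRing A] (M : Type u) [AddCommGroup M] [Module A M] [Module.Finite A M] (t : A)
    (ht : IsSMulRegular M t) (p : Ideal A) (hp : p ∈ associatedPrimes A M) (q : Ideal A)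
    (hq : q ∈ (p ⊔ Ideal.span {t}).minimalPrimes) : q ∈ associatedPrimes A (QuotSMulTop t M) := by
  let N : Submodule A M := Submodule.torsionBySet A M (p : Set A)
  have hN1 : Module.annihilator A N = p := by
    refine le_antisymm (fun a ha => ?_) (fun a ha => ?_)
    · obtain ⟨-, x, hx⟩ := isAssociatedPrime_iff.mp hp
      have hxN : x ∈ N := (Submodule.mem_torsionBySet_iff _ _).mpr fun b => by
        simpa using Submodule.mem_colon_singleton.mp (hx.le b.2)
      rw [hx, Submodule.mem_colon_singleton, Submodule.mem_bot]
      exact congrArg Subtype.val (Module.mem_annihilator.mp ha ⟨x, hxN⟩)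
    · exact Module.mem_annihilator.mpr fun x => Subtype.ext
        ((Submodule.mem_torsionBySet_iff _ _).mp x.2 ⟨a, ha⟩)
  have hinj : Function.Injective (QuotSMulTop.map t N.subtype) := by
    rw [injective_iff_map_eq_zero]
    intro x hx
    induction x using Submodule.Quotient.induction_on with | _ x
    rw [QuotSMulTop.map_apply_mk, Submodule.Quotient.mk_eq_zero,
      Submodule.mem_smul_pointwise_iff_exists] at hx
    obtain ⟨y, -, hy⟩ := hx
    have hyN : y ∈ N := (Submodule.mem_torsionBySet_iff _ _).mpr fun b => by
      refine ht ?_
      have h0 : (b : A) • (x : M) = 0 := (Submodule.mem_torsionBySet_iff _ _).mp x.2 b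
      change t • ((b : A) • y) = t • (0 : M)
      rw [smul_comm, hy, smul_zero]; exact h0
    rw [Submodule.Quotient.mk_eq_zero, show x = t • (⟨y, hyN⟩ : N) from Subtype.ext hy.symm]
    exact Submodule.smul_mem_pointwise_smul _ _ _ trivial
  refine associatedPrimes.subset_of_injective hinj ?_
  apply Module.associatedPrimes.minimalPrimes_annihilator_subset_associatedPrimes
  have hz : (Module.annihilator A (QuotSMulTop t N)).radical = (p ⊔ Ideal.span {t}).radical := by
    rw [← PrimeSpectrum.zeroLocus_eq_iff, ← Module.support_eq_zeroLocus, Module.support_quotSMulTop,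
      Module.support_eq_zeroLocus, hN1, PrimeSpectrum.zeroLocus_sup, PrimeSpectrum.zeroLocus_span]
  rwa [← Ideal.radical_minimalPrimes, hz, Ideal.radical_minimalPrimes]

end Groth.Agent.S5754
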