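import Groth.Statements.S5755
import Groth.Agent.EGA4Alg4.Depth

set_option autoImplicit false
universe u
open EGA41

namespace Groth.Agent.S5755

/-- A reduced Noetherian local ring A has depth 0 if and only if A is a field. -/
theorem result (A : Type u) [CommRing A] [IsLocalRing A]
    [IsNoetherianRing A] [IsReduced A] : LocCoh.depth A A = 0 ↔ IsField A := by
  rw [EGA4Alg4.depth_eq_zero_iff]
  constructor
  · intro h
    rw [IsLocalRing.isField_iff_maximalIdeal_eq]
    obtain ⟨-, c, hc⟩ := isAssociatedPrime_iff.mp h
    have hc0 : c ≠ 0 := by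
      rintro rfl
      exact h.isPrime.ne_top (hc.trans (by simp))
    by_cases hcm : c ∈ IsLocalRing.maximalIdeal A
    · exfalso
      rw [hc, Submodule.mem_colon_singleton, Submodule.mem_bot, smul_eq_mul] at hcm
      exact hc0 (IsReduced.eq_zero c ⟨2, by rw [pow_two, hcm]⟩)
    · rw [eq_bot_iff]
      intro x hx
      rw [hc, Submodule.mem_colon_singleton, Submodule.mem_bot, smul_eq_mul] at hx
      rw [IsLocalRing.mem_maximalIdeal, mem_nonunits_iff, not_not] at hcm
      exact Submodule.mem_bot A |>.mpr (hcm.mul_left_eq_zero.mp hx)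
  · intro h
    obtain ⟨p, hp⟩ := associatedPrimes.nonempty A A
    have h0 := IsLocalRing.isField_iff_maximalIdeal_eq.mp h
    have := IsLocalRing.le_maximalIdeal hp.isPrime.ne_top
    rw [h0, le_bot_iff] at this
    rw [h0]; exact this ▸ hp

end Groth.Agent.S5755
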