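import Groth.Statements.S5759
import Groth.Agent.EGA4Alg4.CMMod

set_option autoImplicit false
universe u
open EGA41

namespace Groth.Agent.S5759

/-- Let A be a Noetherian local ring and M a nonzero finitely generated A-module. Suppose that for every
sequence x_1, ..., x_r of elements of the maximal ideal which is part of a system of parameters for
M (i.e. dim(M/(x_1 M + ... + x_r M)) = dim(M) - r), every associated prime p of N = M/(x_1 M + ... +
x_r M) satisfies dim(A/p) = dim(N). Then M is a Cohen-Macaulay module. (The published convention
also counts the zero module as Cohen-Macaulay; this row assumes M nonzero.) -/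
theorem result (A : Type u) [CommRing A]
    [IsLocalRing A] [IsNoetherianRing A] (M : Type u) [AddCommGroup M] [Module A M] [Module.Finite A M]
    [Nontrivial M]
    (h : ∀ xs : List A, (∀ x ∈ xs, x ∈ IsLocalRing.maximalIdeal A) →
      Module.supportDim A (M ⧸ (Ideal.ofList xs • (⊤ : Submodule A M))) + xs.length = Module.supportDim A M →
        ∀ p ∈ associatedPrimes A (M ⧸ (Ideal.ofList xs • (⊤ : Submodule A M))),
          ringKrullDim (A ⧸ p) = Module.supportDim A (M ⧸ (Ideal.ofList xs • (⊤ : Submodule A M)))) :
    LocCoh.IsCohenMacaulayModule A M := by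
  obtain ⟨n, hn⟩ := EGA4Alg4.exists_supportDim_eq (A := A) (M := M)
  exact EGA4Alg4.isCohenMacaulayModule_of_forall_assoc n hn h

end Groth.Agent.S5759
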