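import Groth.Statements.S5760
import Groth.Agent.EGA4Alg4.CMMod

set_option autoImplicit false
universe u
open EGA41

namespace Groth.Agent.S5760

/-- Let A be a Noetherian local ring, M a nonzero finitely generated Cohen-Macaulay A-module, p a prime
ideal in the support of M and r the integer dim(M) - dim(M/pM). Then there exists an M-regular
sequence x_1, ..., x_r of elements of p; for every such sequence, dim(M/(x_1 M + ... + x_r M)) =
dim(M/pM) = dim(A/p), and p is a minimal element of the set of associated primes of M/(x_1 M + ... +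
x_r M). -/
theorem result (A : Type u) [CommRing A]
    [IsLocalRing A] [IsNoetherianRing A] (M : Type u) [AddCommGroup M] [Module A M] [Module.Finite A M]
    (hM : LocCoh.IsCohenMacaulayModule A M) (p : PrimeSpectrum A) (hp : p ∈ Module.support A M) (r : ℕ)
    (hr : Module.supportDim A (M ⧸ (p.asIdeal • (⊤ : Submodule A M))) + r = Module.supportDim A M) :
    (∃ xs : List A, xs.length = r ∧ (∀ x ∈ xs, x ∈ p.asIdeal) ∧ RingTheory.Sequence.IsWeaklyRegular M xs) ∧
      ∀ xs : List A, xs.length = r → (∀ x ∈ xs, x ∈ p.asIdeal) → RingTheory.Sequence.IsWeaklyRegular M xs →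
        Module.supportDim A (M ⧸ (Ideal.ofList xs • (⊤ : Submodule A M))) =
            Module.supportDim A (M ⧸ (p.asIdeal • (⊤ : Submodule A M))) ∧
          Module.supportDim A (M ⧸ (p.asIdeal • (⊤ : Submodule A M))) = ringKrullDim (A ⧸ p.asIdeal) ∧
          p.asIdeal ∈ associatedPrimes A (M ⧸ (Ideal.ofList xs • (⊤ : Submodule A M))) ∧
          ∀ q ∈ associatedPrimes A (M ⧸ (Ideal.ofList xs • (⊤ : Submodule A M))), q ≤ p.asIdeal → q = p.asIdeal := by
  have := EGA4Alg4.isCohenMacaulayModule_nontrivial hM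
  have hdim := EGA4Alg4.supportDim_quotient_prime hp
  rw [hdim] at hr ⊢
  refine ⟨EGA4Alg4.exists_isWeaklyRegular_in_prime r hM hp hr, fun xs hlen hmem hreg => ?_⟩
  have hm : ∀ x ∈ xs, x ∈ IsLocalRing.maximalIdeal A := fun x hx =>
    IsLocalRing.le_maximalIdeal p.2.ne_top (hmem x hx)
  have hCM := EGA4Alg4.isCohenMacaulayModule_quotient hM hreg hm
  have := EGA4Alg4.nontrivial_quotient_ofList (M := M) hm
  have : Nontrivial (A ⧸ p.asIdeal) := Ideal.Quotient.nontrivial_iff.mpr p.2.ne_top
  have h1 := Module.supportDim_add_length_eq_supportDim_of_isRegular xs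
    (EGA4Alg4.isRegular_of_isWeaklyRegular hreg hm)
  obtain ⟨a, ha⟩ := EGA4Alg4.exists_supportDim_eq (A := A)
    (M := M ⧸ (Ideal.ofList xs • (⊤ : Submodule A M)))
  obtain ⟨b, hb⟩ := EGA4Alg4.exists_supportDim_eq (A := A) (M := A ⧸ p.asIdeal)
  rw [Module.supportDim_quotient_eq_ringKrullDim] at hb
  rw [← hr, hlen, ha, hb] at h1
  have hab : a + r = b + r := by exact_mod_cast h1
  have heq : Module.supportDim A (M ⧸ (Ideal.ofList xs • (⊤ : Submodule A M))) =
      ringKrullDim (A ⧸ p.asIdeal) := by rw [ha, hb, show a = b by omega]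
  have hpN : p ∈ Module.support A (M ⧸ (Ideal.ofList xs • (⊤ : Submodule A M))) := by
    rw [Module.support_quotient]
    exact ⟨hp, SetLike.coe_subset_coe.mpr (EGA4Alg4.ofList_le hmem)⟩
  have hmin : ∀ q : Ideal A, q.IsPrime → Module.annihilator A (M ⧸ (Ideal.ofList xs • (⊤ : Submodule A M))) ≤ q →
      q ≤ p.asIdeal → q = p.asIdeal := by
    intro q hq hann hle
    by_contra hne
    have h3 := EGA4Alg4.ringKrullDim_quotient_lt (lt_of_le_of_ne hle hne)
    have h4 := EGA4Alg4.ringKrullDim_quotient_le_supportDim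
      (M := M ⧸ (Ideal.ofList xs • (⊤ : Submodule A M))) (p := ⟨q, hq⟩)
      (Module.mem_support_iff_of_finite.mpr hann)
    exact absurd (h4.trans heq.le) (not_le.mpr h3)
  refine ⟨heq, rfl, Module.associatedPrimes.minimalPrimes_annihilator_subset_associatedPrimes A _ ?_,
    fun q hq hle => hmin q hq.isPrime (Submodule.annihilator_top.symm.le.trans hq.annihilator_le) hle⟩
  refine ⟨⟨p.2, Module.mem_support_iff_of_finite.mp hpN⟩, fun q hq hle => ?_⟩
  exact (hmin q hq.1 hq.2 hle).ge

end Groth.Agent.S5760
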