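import Groth.Statements.S5763
import Groth.Agent.EGA4Alg4.IntegralDim

set_option autoImplicit false
universe u
open EGA41

namespace Groth.Agent.S5763

/-- Let ρ : A → B be a ring homomorphism making B an integral A-algebra. Then dim(B) ≤ dim(A), and if ρ
is injective then dim(B) = dim(A) (Krull dimensions). -/
theorem result (A B : Type u) [CommRing A] [CommRing B] [Algebra A B]
    [Algebra.IsIntegral A B] :
    ringKrullDim B ≤ ringKrullDim A ∧
      (Function.Injective (algebraMap A B) → ringKrullDim B = ringKrullDim A) := by
  exact ⟨EGA4Alg4.ringKrullDim_le_of_integral A B, EGA4Alg4.ringKrullDim_eq_of_integral A B⟩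

end Groth.Agent.S5763
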