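import Groth.Statements.S5776
import Groth.Agent.EGA4Alg4.RegPow

set_option autoImplicit false
universe u
open EGA41

namespace Groth.Agent.S5776

/-- Let A be a ring, M an A-module and (f_i)_{1 ≤ i ≤ n} an M-regular sequence of elements of A. Then
for any exponents v_i ≥ 1 the sequence (f_i ^ v_i) is again M-regular. -/
theorem result (A : Type u) [CommRing A] (M : Type u) [AddCommGroup M]
    [Module A M] (n : ℕ) (f : Fin n → A) (v : Fin n → ℕ) (hv : ∀ i, 1 ≤ v i)
    (hf : RingTheory.Sequence.IsWeaklyRegular M (List.ofFn f)) :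
    RingTheory.Sequence.IsWeaklyRegular M (List.ofFn fun i => f i ^ v i) := by
  have h := EGA4Alg4.isWeaklyRegular_pow (List.ofFn f) (List.ofFn v) (by simp)
    (by intro k hk; obtain ⟨i, rfl⟩ := List.mem_ofFn.mp hk; exact hv i) hf
  convert h using 1
  refine List.ext_getElem (by simp) fun i h1 h2 => ?_
  simp

end Groth.Agent.S5776
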