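import Groth.Statements.S5780
import Groth.Agent.EGA4Alg4.Depth

set_option autoImplicit false
universe u
open EGA41

namespace Groth.Agent.S5780

/-- Let A be a Noetherian local ring with maximal ideal m. If every element of m which is not in m² is a
zero divisor in A, then there is a nonzero c in A with c m = 0, i.e. m is an associated prime of A. -/
theorem result (A : Type u) [CommRing A]
    [IsLocalRing A] [IsNoetherianRing A]
    (h : ∀ a ∈ IsLocalRing.maximalIdeal A, a ∉ IsLocalRing.maximalIdeal A ^ 2 → ¬ IsSMulRegular A a) :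
    IsLocalRing.maximalIdeal A ∈ associatedPrimes A A := by
  by_contra hc
  set m := IsLocalRing.maximalIdeal A
  have hfin := associatedPrimes.finite A A
  have hne : ∀ p ∈ associatedPrimes A A, ¬ m ≤ p := fun p hp hle => hc (by
    rwa [le_antisymm hle (IsLocalRing.le_maximalIdeal hp.isPrime.ne_top)])
  by_cases hm : m = m ^ 2
  · -- then `m = ⊥`
    have hbot : m = ⊥ := Submodule.eq_bot_of_le_smul_of_le_jacobson_bot m m (IsNoetherian.noetherian m)
      (by rw [smul_eq_mul, ← pow_two, ← hm]) (IsLocalRing.maximalIdeal_le_jacobson _)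
    obtain ⟨p, hp⟩ := associatedPrimes.nonempty A A
    exact hne p hp (hbot ▸ bot_le)
  · have hsub : (m : Set A) ⊆ ↑(m ^ 2) ∪ ⋃ p ∈ associatedPrimes A A, (p : Set A) := by
      intro a ha
      by_cases h2 : a ∈ m ^ 2
      · exact Or.inl h2
      · right
        rw [biUnion_associatedPrimes_eq_compl_regular A]
        exact h a ha h2
    obtain ⟨x, hx, hx'⟩ : ∃ x ∈ m, x ∉ (↑(m ^ 2) ∪ ⋃ p ∈ associatedPrimes A A, (p : Set A)) := by
      classical
      have key := (Ideal.subset_union_prime (s := insert (m ^ 2) hfin.toFinset) (f := id) (m ^ 2) (m ^ 2)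
        (fun p hp hne1 _ => ?_) (I := m))
      · by_contra! hcon
        obtain ⟨i, hi, hle⟩ := key.mp (fun a ha => by
          rcases hcon a ha with h1 | h1
          · exact Set.mem_iUnion₂.mpr ⟨m ^ 2, by simp, h1⟩
          · simp only [Set.mem_iUnion] at h1 ⊢
            obtain ⟨p, hp, hap⟩ := h1
            exact ⟨p, by simp [hp], hap⟩)
        simp at hi
        rcases hi with rfl | hi
        · exact hm (le_antisymm hle (Ideal.pow_le_self two_ne_zero))
        · exact hne i hi hle
      · simp at hp
        exact (hp.resolve_left hne1).isPrime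
    exact hx' (hsub hx)

end Groth.Agent.S5780
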