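import Groth.Statements.S5790
import Mathlib

set_option autoImplicit false
universe u
open CategoryTheory
open EGA41

namespace Groth.Agent.S5790

/-- Suppose A is a Noetherian ring and consider any A-module M. Taking the supremum, over all prime
ideals p, of the injective dimension of M_p as an A_p-module yields the injective dimension of M;
put differently, for each n, the injective dimension of M is at most n exactly when, for every prime
p, the injective dimension of M_p over A_p is at most n. -/
theorem result (A : Type u) [CommRing A] [IsNoetherianRing A]
    (M : Type u) [AddCommGroup M] [Module A M] (n : ℕ) :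
    HasInjectiveDimensionLT (ModuleCat.of A M) (n + 1) ↔
      ∀ p : PrimeSpectrum A, HasInjectiveDimensionLT
        (ModuleCat.of (Localization.AtPrime p.asIdeal) (LocalizedModule p.asIdeal.primeCompl M)) (n + 1) := by
  refine (ModuleCat.hasInjectiveDimensionLE_iff_forall_primeSpectrum n (ModuleCat.of A M)).trans ?_
  refine forall_congr' fun p => ?_
  let e : ((ModuleCat.of A M).localizedModule p.asIdeal.primeCompl) ≅
      ModuleCat.of (Localization.AtPrime p.asIdeal) (LocalizedModule p.asIdeal.primeCompl M) :=
    (Shrink.linearEquiv (Localization.AtPrime p.asIdeal) (LocalizedModule p.asIdeal.primeCompl M)).toModuleIso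
  exact ⟨fun h => @hasInjectiveDimensionLT_of_iso _ _ _ _ _ e _ h,
    fun h => @hasInjectiveDimensionLT_of_iso _ _ _ _ _ e.symm _ h⟩

end Groth.Agent.S5790
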