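import Groth.Statements.S5792
import Groth.Agent.TopDim50.Basic

set_option autoImplicit false
universe u
open TopDim

namespace Groth.Agent.S5792

/-- For every topological space X one has dim(X) = sup_{x ∈ X} dim_x(X), the supremum of the local
combinatorial dimensions. -/
theorem result (X : Type u) [TopologicalSpace X] :
    topologicalKrullDim X = ⨆ x : X, FlatMor.localDim X x := by
  exact TopDim50.dim_eq_iSup_localDim

end Groth.Agent.S5792
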