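import Groth.Statements.S5807
import Groth.Agent.EGA4Alg4.Misc1

set_option autoImplicit false
universe u
open EGA41

namespace Groth.Agent.S5807

/-- Let A be a Noetherian ring which is a quotient of a regular ring B, and C an A-algebra of finite
type. Then every ring of fractions of C is a quotient of a regular ring. -/
theorem result (B A C : Type u) [CommRing B]
    [IsRegularRing B] [CommRing A] (π : B →+* A) (hπ : Function.Surjective π) [CommRing C] [Algebra A C]
    [Algebra.FiniteType A C] (S : Submonoid C) :
    ∃ (R : Type u) (_ : CommRing R) (_ : IsRegularRing R) (f : R →+* Localization S),
      Function.Surjective f := by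
    exact EGA4Alg4.Misc13.exists_isRegularRing_surjective B A C π hπ S

end Groth.Agent.S5807
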