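import Groth.Statements.S5821
import Groth.Agent.EGA4Alg4.CharHom

set_option autoImplicit false
universe u v
open EGA41

namespace Groth.Agent.S5821

/-- For a ring map A → B, an ideal K of B, C = B ⧸ K and the B-extension E = B ⧸ K² of C by K/K², if E
is A-trivial then its characteristic homomorphism Υ_{C/B/A} → K/K² is bijective (stated for every
C-linear χ satisfying the defining square, of which there is exactly one). -/
theorem result {A : Type u} {B : Type v} [CommRing A] [CommRing B] [Algebra A B]
    (K : Ideal B) (hK : (Exal.Ext.infinitesimal K).IsTrivialOver A)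
    (χ : ↥(EGA41.imperfection A B (B ⧸ K)) →ₗ[B ⧸ K] K.Cotangent)
    (hχ : (Exal.Ext.infinitesimal K).IsCharHom A χ) :
    Function.Bijective χ := by
    exact EGA4Alg4.Exal13.bijective_charHom_infinitesimal K hK χ hχ

end Groth.Agent.S5821
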