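import Groth.Statements.S5825


set_option autoImplicit false
universe u v w
open EGA41

namespace Groth.Agent.S5825

/-- Let A be a topological ring, M, N topological A-modules with the topologies deduced from that of A,
and u : M → N a continuous linear map with dense image (a formal epimorphism). Then u is a formal
bimorphism (dense image and inducing) if and only if, for every open ideal J of A, the induced map
M/JM → N/JN is bijective (injectivity and surjectivity are written out elementwise). -/
theorem result {A : Type u} {M : Type v} {N : Type w} [CommRing A]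
    [TopologicalSpace A] [AddCommGroup M] [Module A M] [TopologicalSpace M] [AddCommGroup N] [Module A N]
    [TopologicalSpace N] (hM : TopMod.IsDeduced A M) (hN : TopMod.IsDeduced A N) (u : M →L[A] N)
    (hu : DenseRange u) :
    IsDenseInducing u ↔
      ∀ J : Ideal A, IsOpen (J : Set A) →
        (∀ x : M, u x ∈ (J • ⊤ : Submodule A N) → x ∈ (J • ⊤ : Submodule A M)) ∧
          ∀ y : N, ∃ x : M, y - u x ∈ (J • ⊤ : Submodule A N) := by
  classical
  haveI := hM.1
  haveI := hN.1
  have hdense : ∀ (J : Ideal A), IsOpen (J : Set A) → ∀ y : N, ∃ x : M, y - u x ∈ (J • ⊤ : Submodule A N) := by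
    intro J hJ y
    have hV : {z : N | y - z ∈ (J • ⊤ : Submodule A N)} ∈ nhds y := by
      have hc : Continuous fun z : N => y - z := continuous_const.sub continuous_id
      refine hc.continuousAt.preimage_mem_nhds (t := ((J • ⊤ : Submodule A N) : Set N)) ?_
      simpa using hN.2.mem_of_mem hJ
    obtain ⟨_, ⟨hz, ⟨x, rfl⟩⟩⟩ := mem_closure_iff_nhds.1 (hu y) _ hV
    exact ⟨x, hz⟩
  constructor
  · intro h J hJ
    refine ⟨fun x hx => ?_, hdense J hJ⟩
    have h0 : ((J • ⊤ : Submodule A M) : Set M) ∈ Filter.comap u (nhds (0 : N)) := by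
      have := hM.2.mem_of_mem hJ
      rwa [h.toIsInducing.nhds_eq_comap, map_zero] at this
    obtain ⟨J', hJ', hsub⟩ := (hN.2.comap u).mem_iff.1 h0
    have hle : ∀ z ∈ (J • ⊤ : Submodule A N), ∃ m ∈ (J • ⊤ : Submodule A M), z - u m ∈ (J' • ⊤ : Submodule A N) := by
      intro z hz
      refine Submodule.smul_induction_on hz (fun a ha n _ => ?_) ?_
      · obtain ⟨x, hx⟩ := hdense J' hJ' n
        refine ⟨a • x, Submodule.smul_mem_smul ha trivial, ?_⟩
        rw [map_smul, ← smul_sub]
        exact Submodule.smul_mem _ _ hx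
      · rintro z z' ⟨m, hm, h1⟩ ⟨m', hm', h2⟩
        refine ⟨m + m', add_mem hm hm', ?_⟩
        rw [map_add, add_sub_add_comm]
        exact add_mem h1 h2
    obtain ⟨m, hm, hm'⟩ := hle _ hx
    have h3 : x - m ∈ (J • ⊤ : Submodule A M) := hsub (by
      show u (x - m) ∈ (J' • ⊤ : Submodule A N)
      rwa [map_sub])
    simpa using add_mem h3 hm
  · intro h
    refine ⟨Topology.isInducing_iff_nhds.2 fun x => le_antisymm (Filter.map_le_iff_le_comap.1 u.continuous.continuousAt) ?_, hu⟩
    intro S hS
    have hc : Continuous fun y : M => x + y := continuous_const.add continuous_id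
    have hS0 : (fun y : M => x + y) ⁻¹' S ∈ nhds (0 : M) :=
      hc.continuousAt.preimage_mem_nhds (by simpa using hS)
    obtain ⟨J, hJ, hJS⟩ := hM.2.mem_iff.1 hS0
    refine ⟨{z : N | z - u x ∈ (J • ⊤ : Submodule A N)}, ?_, fun y hy => ?_⟩
    · have hc : Continuous fun z : N => z - u x := continuous_id.sub continuous_const
      refine hc.continuousAt.preimage_mem_nhds (t := ((J • ⊤ : Submodule A N) : Set N)) ?_
      simpa using hN.2.mem_of_mem hJ
    · have h2 : y - x ∈ (J • ⊤ : Submodule A M) := (h J hJ).1 (y - x) (by simpa [map_sub] using hy)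
      simpa using hJS h2


end Groth.Agent.S5825
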