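import Groth.Statements.S5835
import Groth.Agent.Imp14.Basic
import Groth.Agent.Sep12.Basic

set_option autoImplicit false
universe v w
open scoped TensorProduct
open EGA41

namespace Groth.Agent.S5835

theorem eq_zero_of_separable {R F E : Type w} [Field R] [Field F] [Field E] [Algebra R F] [Algebra R E]
    [Algebra F E] [IsScalarTower R F E] (h : Algebra.IsGeometricallyReduced F E) :
    Function.Injective (KaehlerDifferential.mapBaseChange R F E) :=
  Imp14.injective_mapBaseChange_of_injective (R := ℤ) (Sep12.isGeometricallyReduced_iff_injective.1 h)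

/-- For fields k₀ ⊆ k ⊆ K ⊆ L, the map of imperfection modules Υ_{L/K/k₀} → Υ_{L/K/k} induced by
Ω_{K/k₀} → Ω_{K/k} is injective (k is k₀-admissible for the extension L of K) in each of the
following cases: L is separable over k; L is separable over K; k lies in k₀(K^p), p the
characteristic exponent. Separable means geometrically reduced (not necessarily algebraic). -/
theorem result {k : Type v} {k₀ K L : Type w}
    [Field k₀] [Field k] [Field K] [Field L] [Algebra k₀ k] [Algebra k₀ K] [Algebra k₀ L] [Algebra k K]
    [Algebra k L] [Algebra K L] [IsScalarTower k₀ k K] [IsScalarTower k₀ k L] [IsScalarTower k₀ K L]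
    [IsScalarTower k K L] (p : ℕ) [ExpChar K p]
    (h : Algebra.IsGeometricallyReduced k L ∨ Algebra.IsGeometricallyReduced K L ∨
      ∀ x : k, algebraMap k K x ∈ EGA41.pPowerSubalgebra p k₀ K) :
    ∀ z : L ⊗[K] Ω[K⁄k₀], z ∈ EGA41.imperfection k₀ K L →
      (KaehlerDifferential.map k₀ k K K).baseChange L z = 0 → z = 0 := by
  intro z hz hz'
  have hzero : ∀ _ : Algebra.IsGeometricallyReduced K L, z = 0 := fun hs =>
    eq_zero_of_separable hs (hz.trans (map_zero _).symm)
  rcases h with h1 | h2 | h3
  · -- `k` replaced by its image in `K`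
    let k' : IntermediateField k₀ K := (IsScalarTower.toAlgHom k₀ k K).fieldRange
    let e : k →+* k' := (algebraMap k K).codRestrict k' fun x => ⟨x, rfl⟩
    let _ : Algebra k k' := e.toAlgebra
    have : IsScalarTower k k' L := IsScalarTower.of_algebraMap_eq fun x => by
      rw [IsScalarTower.algebraMap_apply k K L]; rfl
    have hsurj : Function.Surjective (algebraMap k k') := fun ⟨y, x, hx⟩ => ⟨x, Subtype.ext hx⟩
    have hgr : Algebra.IsGeometricallyReduced k' L := by
      rw [Algebra.isGeometricallyReduced_field_iff]
      have : IsReduced (AlgebraicClosure k' ⊗[k] L) :=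
        FBase64.isReduced_tensor_of_geomReduced k L (AlgebraicClosure k')
      have hc : TensorProduct.CompatibleSMul k k' (AlgebraicClosure k') L := ⟨fun r m n => by
        obtain ⟨x, rfl⟩ := hsurj r
        rw [IsScalarTower.algebraMap_smul, IsScalarTower.algebraMap_smul, TensorProduct.smul_tmul]⟩
      have e' := Algebra.TensorProduct.equivOfCompatibleSMul k k' k' (AlgebraicClosure k') L
      exact isReduced_of_injective e'.toAlgHom e'.injective
    have hspan : z ∈ Submodule.span L
        (Set.range fun a : k' => (1 : L) ⊗ₜ[K] KaehlerDifferential.D k₀ K (algebraMap k' K a)) := by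
      have h0 : z ∈ LinearMap.ker ((KaehlerDifferential.map k₀ k K K).baseChange L) := hz'
      rw [Imp14.ker_map_baseChange_eq_span] at h0
      refine Submodule.span_mono ?_ h0
      rintro _ ⟨x, rfl⟩
      exact ⟨algebraMap k k' x, rfl⟩
    -- `z` comes from `L ⊗ Ω_{k'/k₀}`
    let m := Imp14.through k₀ k' K L
    have hm : ∀ a : k', m (1 ⊗ₜ KaehlerDifferential.D k₀ k' a) =
        (1 : L) ⊗ₜ[K] KaehlerDifferential.D k₀ K (algebraMap k' K a) := fun a => by
      simp only [m, Imp14.through_tmul, KaehlerDifferential.map_D]
    obtain ⟨w, rfl⟩ : z ∈ LinearMap.range m := by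
      refine Submodule.span_le.2 ?_ hspan
      rintro _ ⟨a, rfl⟩
      exact ⟨_, hm a⟩
    rw [eq_zero_of_separable hgr (a₁ := w) (a₂ := 0)
      (by rw [map_zero, ← Imp14.mapBaseChange_through (B := K)]; exact hz), map_zero]
  · exact hzero h2
  · rcases ‹ExpChar K p› with _ | hp
    · exact hzero (FBase64.isGeometricallyReduced_of_perfectField K L)
    · have hD : ∀ x ∈ EGA41.pPowerSubalgebra p k₀ K, KaehlerDifferential.D k₀ K x = 0 := by
        intro x hx
        induction hx using Algebra.adjoin_induction with
        | mem x hx =>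
          obtain ⟨y, rfl⟩ := hx
          rw [Derivation.leibniz_pow, ← Nat.cast_smul_eq_nsmul K, CharP.cast_eq_zero, zero_smul]
        | algebraMap a => exact Derivation.map_algebraMap _ a
        | add a b _ _ ha hb => rw [map_add, ha, hb, add_zero]
        | mul a b _ _ ha hb => rw [Derivation.leibniz, ha, hb, smul_zero, smul_zero, add_zero]
      have h0 : z ∈ LinearMap.ker ((KaehlerDifferential.map k₀ k K K).baseChange L) := hz'
      rw [Imp14.ker_map_baseChange_eq_span] at h0
      have : Submodule.span L
          (Set.range fun a : k => (1 : L) ⊗ₜ[K] KaehlerDifferential.D k₀ K (algebraMap k K a)) = ⊥ := by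
        rw [Submodule.span_eq_bot]
        rintro _ ⟨a, rfl⟩
        simp only [hD _ (h3 a), TensorProduct.tmul_zero]
      rw [this] at h0
      exact (Submodule.mem_bot L).1 h0

end Groth.Agent.S5835
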