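import Groth.Statements.S5836
import Groth.Agent.Imp14.Tower

set_option autoImplicit false
universe u u' u'' w
open scoped TensorProduct
open EGA41

namespace Groth.Agent.S5836

/-- For fields k ⊆ k' ⊆ k'' ⊆ K ⊆ L put Δ(L/K, a/b) = ker(Υ_{L/K/b} → Υ_{L/K/a}) ⊆ L ⊗_K Ω_{K/b}. Then 0
→ Δ(L/K, k'/k) → Δ(L/K, k''/k) → Δ(L/K, k''/k') → 0 is exact: stated as the surjectivity of the map
induced by L ⊗_K Ω_{K/k} → L ⊗_K Ω_{K/k'} (exactness on the left and in the middle hold by
construction), together with the resulting identity of ranks d(L/K, k''/k) = d(L/K, k''/k') + d(L/K,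
k'/k). -/
theorem result {k : Type u} {k' : Type u'} {k'' : Type u''} {K L : Type w}
    [Field k] [Field k'] [Field k''] [Field K] [Field L]
    [Algebra k k'] [Algebra k k''] [Algebra k' k''] [IsScalarTower k k' k'']
    [Algebra k K] [Algebra k' K] [Algebra k'' K] [IsScalarTower k k' K] [IsScalarTower k' k'' K]
    [IsScalarTower k k'' K] [Algebra K L] [Algebra k L] [Algebra k' L] [Algebra k'' L]
    [IsScalarTower k K L] [IsScalarTower k' K L] [IsScalarTower k'' K L] :
    (∀ w : L ⊗[K] Ω[K⁄k'], w ∈ EGA41.imperfection k' K L →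
        (KaehlerDifferential.map k' k'' K K).baseChange L w = 0 →
          ∃ z : L ⊗[K] Ω[K⁄k], z ∈ EGA41.imperfection k K L ∧
            (KaehlerDifferential.map k k'' K K).baseChange L z = 0 ∧
              (KaehlerDifferential.map k k' K K).baseChange L z = w) ∧
      Module.rank L ↥(EGA41.imperfection k K L ⊓
            LinearMap.ker ((KaehlerDifferential.map k k'' K K).baseChange L)) =
        Module.rank L ↥(EGA41.imperfection k' K L ⊓
              LinearMap.ker ((KaehlerDifferential.map k' k'' K K).baseChange L)) +
          Module.rank L ↥(EGA41.imperfection k K L ⊓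
              LinearMap.ker ((KaehlerDifferential.map k k' K K).baseChange L)) := by
  have : IsScalarTower k k' L := IsScalarTower.of_algebraMap_eq fun x => by
    rw [IsScalarTower.algebraMap_apply k K L, IsScalarTower.algebraMap_apply k k' K,
      ← IsScalarTower.algebraMap_apply k' K L]
  refine ⟨fun w hw hw' => ?_, ?_⟩
  · obtain ⟨z, hz, hzw⟩ := Imp14.exists_lift (R := k) (A := k') (B := K) (C := L) w hw
    refine ⟨z, hz, ?_, hzw⟩
    rw [← Imp14.map_baseChange_map (S := k'), hzw, hw']
  · let X := EGA41.imperfection k K L ⊓ LinearMap.ker ((KaehlerDifferential.map k k'' K K).baseChange L)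
    let Y := EGA41.imperfection k' K L ⊓ LinearMap.ker ((KaehlerDifferential.map k' k'' K K).baseChange L)
    let g := (KaehlerDifferential.map k k' K K).baseChange L
    have hg : ∀ x ∈ X, g x ∈ Y := fun x hx => by
      refine ⟨?_, ?_⟩
      · change KaehlerDifferential.mapBaseChange k' K L (g x) = 0
        rw [Imp14.mapBaseChange_baseChange_map,
          show KaehlerDifferential.mapBaseChange k K L x = 0 from hx.1, map_zero]
      · change (KaehlerDifferential.map k' k'' K K).baseChange L (g x) = 0
        rw [Imp14.map_baseChange_map]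
        exact hx.2
    let φ : X →ₗ[L] Y := g.restrict hg
    have hsurj : Function.Surjective φ := fun ⟨y, hy1, hy2⟩ => by
      obtain ⟨z, hz, hzw⟩ := Imp14.exists_lift (R := k) (A := k') (B := K) (C := L) y hy1
      refine ⟨⟨z, hz, ?_⟩, Subtype.ext hzw⟩
      change (KaehlerDifferential.map k k'' K K).baseChange L z = 0
      rw [← Imp14.map_baseChange_map (S := k'), hzw]
      exact hy2
    have hker : Module.rank L (LinearMap.ker φ) =
        Module.rank L ↥(EGA41.imperfection k K L ⊓ LinearMap.ker g) := by
      refine LinearEquiv.rank_eq ?_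
      refine
        { toFun := fun x => ⟨x.1.1, x.1.2.1, congrArg Subtype.val (x.2 : φ x.1 = 0)⟩
          map_add' := fun a b => rfl
          map_smul' := fun a b => rfl
          invFun := fun x => ⟨⟨x.1, x.2.1, by
            change (KaehlerDifferential.map k k'' K K).baseChange L x.1 = 0
            rw [← Imp14.map_baseChange_map (S := k'), show g x.1 = 0 from x.2.2, map_zero]⟩,
            Subtype.ext (x.2.2 : g x.1 = 0)⟩
          left_inv := fun x => rfl
          right_inv := fun x => rfl }
    have h := LinearMap.rank_eq_of_surjective (R := L) (M := ↥X) (M₁ := ↥Y) (f := φ) hsurj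
    rw [hker] at h
    exact h

end Groth.Agent.S5836
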