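import Groth.Statements.S5866
import Groth.Agent.RadPt58.Unibranch

set_option autoImplicit false
universe u
open RadPt

namespace Groth.Agent.S5866

open CategoryTheory AlgebraicGeometry in
/-- Let f : X → Y be a morphism of schemes which is integral and whose induced morphism of reduced
schemes is birational. Then Y is geometrically unibranch (at every point) if and only if X is
geometrically unibranch and f is radicial (universally injective). -/
theorem result {X Y : Scheme.{u}} (f : X ⟶ Y) [IsIntegralHom f] (hf : RadPt.IsBirational f) :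
    (∀ y : Y, CAlg2.IsGeomUnibranch (Y.presheaf.stalk y)) ↔
      ((∀ x : X, CAlg2.IsGeomUnibranch (X.presheaf.stalk x)) ∧ UniversallyInjective f) := by
  simp only [fun y => RadPt58.isGeomUnibranch_iff_isRadicialAt f hf y]
  constructor
  · intro h
    have h13 : UniversallyInjective f ↔ Function.Injective f ∧ ∀ x, (f.residueFieldMap x).hom.IsPurelyInseparable :=
      (tfae_universallyInjective f).out 0 2
    refine ⟨fun x => (h (f x)).2 x rfl, h13.2 ⟨fun x x' e => (h (f x)).1.1 x x' rfl e.symm, fun x => (h (f x)).1.2 x rfl⟩⟩
  · intro ⟨h₁, h₂⟩ y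
    obtain ⟨hinj, hp⟩ := ((tfae_universallyInjective f).out 0 2).1 h₂
    exact ⟨⟨fun x x' e e' => hinj (e.trans e'.symm), fun x _ => hp x⟩, fun x _ => h₁ x⟩

end Groth.Agent.S5866
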