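import Groth.Statements.S5869
import Groth.Agent.ZClos93.Coherence
-- import your own Groth.Agent.* helpers here

set_option autoImplicit false
universe u
open ZClos

namespace Groth.Agent.S5869

open CategoryTheory CategoryTheory.Limits AlgebraicGeometry in
/-- a) ⇔ b): for a Noetherian ring A with X = Spec A, the following are equivalent: a) for every prime
ideal q of A, writing B = A/q, the ring B^(1) (intersection of the localizations of B at its
height-one primes) is a finite B-algebra; b) for every finite A-module M and every subset Z of X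
stable under specialization such that, for every associated prime p of M not in Z and every prime p'
∈ Z containing p, the image of p' in A/p has height at least 2, the Z-closure H⁰_{X/Z} of the module
M~ is coherent. -/
theorem result (A : Type u) [CommRing A] [IsNoetherianRing A] :
    (∀ (q : Ideal A) [q.IsPrime], EGA4.HeightOneHullFinite (A ⧸ q)) ↔
      ∀ (M : Type u) [AddCommGroup M] [Module A M] [Module.Finite A M]
        (Z : Set (PrimeSpectrum A)), StableUnderSpecialization Z →
        (∀ x : PrimeSpectrum A, x.asIdeal ∈ associatedPrimes A M → x ∉ Z →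
          ∀ y ∈ Z, x.asIdeal ≤ y.asIdeal → (2 : ℕ∞) ≤ (y.asIdeal.map (Ideal.Quotient.mk x.asIdeal)).height) →
        Coh.IsCoh ((ZClos.H0 (X := Spec (CommRingCat.of A)) Z).obj (EGA4.tildeOf A M)) := by
  haveI : IsNoetherianRing (CommRingCat.of A) := ‹IsNoetherianRing A›
  refine ⟨fun h M _ _ _ Z hZ hM => ?_, fun h q hq => ?_⟩
  · refine (Groth.Agent.ZClos93.Coherence.isCoh_H0_tilde_iff (R := CommRingCat.of A) (Z := Z) _).mpr
      (Groth.Agent.ZClos93.Coherence.finite_Φ (R := CommRingCat.of A) hZ M fun P hP hPZ => ?_)
    exact ⟨@h P.asIdeal P.isPrime, fun y hy hle => hM P hP hPZ y hy hle⟩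
  · refine Groth.Agent.ZClos93.Coherence.heightOneHullFinite_of_isCoh (R := CommRingCat.of A) ⟨q, hq⟩
      fun Z hZ hc hPZ => ?_
    refine (Groth.Agent.ZClos93.Coherence.isCoh_H0_tilde_iff (R := CommRingCat.of A) (Z := Z) _).mp
      (h (A ⧸ q) Z hZ fun x hx _ y hy hle => ?_)
    have e : x.asIdeal = q := by
      obtain ⟨hxp, z, hz⟩ := isAssociatedPrime_iff.mp hx
      rcases eq_or_ne z 0 with rfl | hz0
      · exact absurd ((Ideal.eq_top_iff_one _).mpr (by rw [hz, Submodule.mem_colon_singleton]; simp)) hxp.ne_top
      · ext a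
        rw [hz, Submodule.mem_colon_singleton, Submodule.mem_bot, Algebra.smul_def,
          Ideal.Quotient.algebraMap_eq, mul_eq_zero, or_iff_left hz0, Ideal.Quotient.eq_zero_iff_mem]
    obtain rfl : x = ⟨q, hq⟩ := PrimeSpectrum.ext e
    exact hc y hy hle

end Groth.Agent.S5869
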