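import Groth.Statements.S5873
import Groth.Agent.FBase64.AssFibre.NoEmb

set_option autoImplicit false
universe u
open CategoryTheory AlgebraicGeometry
open Cons9

namespace Groth.Agent.S5873

/-- Let S be an integral Noetherian scheme with generic point η, f : X ⟶ S a morphism of finite type and
F a coherent O_X-module; for s in S write F_s for the pullback of F to the scheme-theoretic fibre
X_s. For an associated point x of F_η let Z_x denote the closure in X of the image of x, and (Z_x)_s
its trace on X_s (the preimage under X_s ⟶ X). Then there is an open neighbourhood U of η such that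
for every s in U: (a) the associated points of F_s are exactly the maximal points (those admitting
no proper generization inside the set) of the sets (Z_x)_s, for x running over the associated points
of F_η, so that the associated prime cycles of F_s are the irreducible components of the (Z_x)_s;
(b) for distinct associated points x, x' of F_η the maximal points of (Z_x)_s and of (Z_x')_s are
pairwise distinct; (c) for every associated point x of F_η and every maximal point z of (Z_x)_s, the
point z is a maximal associated point of F_s (no other associated point of F_s generizes it) if and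
only if x is a maximal associated point of F_η. -/
theorem result {X S : Scheme.{u}} [IsIntegral S] [IsNoetherian S]
    (f : X ⟶ S) [LocallyOfFiniteType f] [QuasiCompact f]
    (F : X.Modules) [Coh.IsQCoh F] (hF : CohB1.IsFP F) :
    ∃ U : S.Opens, genericPoint S ∈ U ∧ ∀ s ∈ U,
      (AssSch.Ass ((Scheme.Modules.pullback (f.fiberι s)).obj F) =
          ⋃ x ∈ AssSch.Ass ((Scheme.Modules.pullback (f.fiberι (genericPoint S))).obj F),
            {z : ↥(f.fiber s) | z ∈ ((f.fiberι s).base ⁻¹' closure {(f.fiberι (genericPoint S)).base x}) ∧ ∀ z' ∈ ((f.fiberι s).base ⁻¹' closure {(f.fiberι (genericPoint S)).base x}), z' ⤳ z → z' = z}) ∧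
      (∀ x ∈ AssSch.Ass ((Scheme.Modules.pullback (f.fiberι (genericPoint S))).obj F), ∀ x' ∈ AssSch.Ass ((Scheme.Modules.pullback (f.fiberι (genericPoint S))).obj F), x ≠ x' →
          Disjoint {z : ↥(f.fiber s) | z ∈ ((f.fiberι s).base ⁻¹' closure {(f.fiberι (genericPoint S)).base x}) ∧ ∀ z' ∈ ((f.fiberι s).base ⁻¹' closure {(f.fiberι (genericPoint S)).base x}), z' ⤳ z → z' = z}
            {z : ↥(f.fiber s) | z ∈ ((f.fiberι s).base ⁻¹' closure {(f.fiberι (genericPoint S)).base x'}) ∧ ∀ z' ∈ ((f.fiberι s).base ⁻¹' closure {(f.fiberι (genericPoint S)).base x'}), z' ⤳ z → z' = z}) ∧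
      (∀ x ∈ AssSch.Ass ((Scheme.Modules.pullback (f.fiberι (genericPoint S))).obj F),
        ∀ z ∈ {z : ↥(f.fiber s) | z ∈ ((f.fiberι s).base ⁻¹' closure {(f.fiberι (genericPoint S)).base x}) ∧ ∀ z' ∈ ((f.fiberι s).base ⁻¹' closure {(f.fiberι (genericPoint S)).base x}), z' ⤳ z → z' = z},
          ((∀ y ∈ AssSch.Ass ((Scheme.Modules.pullback (f.fiberι s)).obj F), y ⤳ z → y = z) ↔
            (∀ y ∈ AssSch.Ass ((Scheme.Modules.pullback (f.fiberι (genericPoint S))).obj F), y ⤳ x → y = x))) := by
  classical
  obtain ⟨U, hU, hη, h⟩ := Groth.Agent.FBase64.AssFibre.exists_nhd_ass f F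
    (Groth.Agent.ConsProp93.isCoh_of_isFP ‹_› hF)
  refine ⟨U, hU, fun s hs => ?_⟩
  obtain ⟨hA, -, hinj, hmax⟩ := h s hs
  have hgen : ∀ x, x ∈ AssSch.Ass ((Scheme.Modules.pullback (f.fiberι (genericPoint S))).obj F) ↔
      f.fiberι (genericPoint S) x ∈ Groth.Agent.FBase64.AssFibre.genAss f F := fun x => by
    rw [← hη]; exact (Groth.Agent.FBase64.AssFibre.mem_assFib_iff f F _ x).symm
  have hgen' : ∀ y ∈ Groth.Agent.FBase64.AssFibre.genAss f F,
      ∃ x ∈ AssSch.Ass ((Scheme.Modules.pullback (f.fiberι (genericPoint S))).obj F),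
        f.fiberι (genericPoint S) x = y := fun y hy => by
    obtain ⟨x, rfl⟩ := Groth.Agent.FBase64.AssFibre.exists_fiber_pt f hy.2
    exact ⟨x, (hgen x).mpr hy, rfl⟩
  have hmo := fun x z => (Groth.Agent.FBase64.AssFibre.minOver_iff_maximal f s x z).symm
  refine ⟨Set.ext fun z => ?_, fun x hx x' hx' hne => Set.disjoint_left.mpr fun z hz hz' => hne ?_,
    fun x hx z hz => ?_⟩
  · rw [← Groth.Agent.FBase64.AssFibre.mem_assFib_iff f F s z,
      hA _ (Groth.Agent.FBase64.AssTensor.fiberι_over f s z)]
    simp only [Set.mem_iUnion, Set.mem_setOf_eq, exists_prop]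
    constructor
    · rintro ⟨y, hy, hyz⟩
      obtain ⟨x, hx, rfl⟩ := hgen' y hy
      exact ⟨x, hx, (hmo _ z).mpr hyz⟩
    · rintro ⟨x, hx, hxz⟩
      exact ⟨_, (hgen x).mp hx, (hmo _ z).mp hxz⟩
  · exact (f.fiberι _).isEmbedding.injective
      (hinj _ ((hgen x).mp hx) _ ((hgen x').mp hx') _ ((hmo _ z).mp hz) ((hmo _ z).mp hz'))
  · have key := hmax _ ((hgen x).mp hx) _ ((hmo _ z).mp hz)
    constructor
    · intro hall y hy hyx
      refine (f.fiberι (genericPoint S)).isEmbedding.injective (key.mp ?_ _ ((hgen y).mp hy)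
        ((Groth.Agent.FBase64.AssFibre.fiberι_specializes f _).mpr hyx))
      rintro _ ⟨w, hw, rfl⟩ hwz
      rw [hall w hw ((Groth.Agent.FBase64.AssFibre.fiberι_specializes f s).mp hwz)]
    · intro hall y hy hyz
      refine (f.fiberι s).isEmbedding.injective (key.mpr ?_ _ ⟨y, hy, rfl⟩
        ((Groth.Agent.FBase64.AssFibre.fiberι_specializes f s).mpr hyz))
      intro w hw hwx
      obtain ⟨v, hv, rfl⟩ := hgen' w hw
      rw [hall v hv ((Groth.Agent.FBase64.AssFibre.fiberι_specializes f _).mp hwx)]

end Groth.Agent.S5873
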