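import Groth.Statements.S5877
import Groth.Agent.LimTop61.SubalgImm

set_option autoImplicit false
universe u
open CategoryTheory AlgebraicGeometry Opposite
open Lim8

namespace Groth.Agent.S5877

/-- Equivalence of a) and b): let Y be a quasi-compact quasi-separated scheme, f : X ⟶ Y a
quasi-separated morphism of finite type, C a quasi-coherent O_Y-algebra with relative spectrum
Spec(C) ⟶ Y, and g : X ⟶ Spec(C) a Y-morphism. The quasi-coherent sub-O_Y-algebras of C of finite
type form an increasing filtered family with union C; here such a sub-algebra is a quasi-coherent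
O_Y-algebra C' with a homomorphism C' ⟶ C that is injective on sections over every open, and with
C'(U) a finitely generated O_Y(U)-algebra for every affine open U of Y. Then g is an immersion if
and only if, for some quasi-coherent sub-algebra C' of C of finite type, the composite X ⟶ Spec(C) ⟶
Spec(C') is an immersion. -/
theorem result {X Y : Scheme.{u}}
    [CompactSpace Y] [QuasiSeparatedSpace Y]
    (f : X ⟶ Y) [LocallyOfFiniteType f] [QuasiCompact f] [QuasiSeparated f]
    (C : RelSpec.QCAlg Y) (g : X ⟶ C.spec) (hg : g ≫ C.π = f) :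
    IsImmersion g ↔
      ∃ (C' : RelSpec.QCAlg Y) (φ : C' ⟶ C),
        (∀ U : Y.Opens, Function.Injective (φ.hom.app (op U))) ∧
        (∀ U : Y.affineOpens, (C'.str.app (op (U : Y.Opens))).hom.FiniteType) ∧
        IsImmersion (g ≫ RelSpec.QCAlg.specMap φ) := by
  constructor
  · intro hgi
    have : CompactSpace X := QuasiCompact.compactSpace_of_compactSpace f
    obtain ⟨t, V, S, hS, hmain⟩ := Groth.Agent.LimTop61.exists_finite_sections hg
    obtain ⟨P, hP, hP'⟩ := Groth.Agent.AlgSub72.exists_fg_mem_all (F := C.toModule) t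
      (fun x => (V x).1) (fun x => Groth.Agent.AlgSub72.ofB C '' S x) (fun x _ => by
        obtain ⟨Q, hQ, hQP⟩ := Groth.Agent.SubMod72.exists_extension_qcqs (F := C.toModule)
          (V x).2.isCompact (Groth.Agent.SubMod72.fg_locSpan ((hS x).image (Groth.Agent.AlgSub72.ofB C)))
        refine ⟨Q, hQ, fun s hs => ?_⟩
        rw [hQP _ le_rfl]
        have h := Groth.Agent.SubMod72.self_mem_locSpan (le_refl (V x).1) hs
        rwa [Groth.Agent.QC70.res_self] at h)
    refine ⟨Groth.Agent.AlgSub72.algSub hP, Groth.Agent.AlgSub72.algSubι hP,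
      fun _ => Subtype.val_injective, fun U => Groth.Agent.AlgSub72.finiteType_str hP U.2,
      hmain _ _ fun x hx b hb => ?_⟩
    exact ⟨(⟨b, Groth.Agent.AlgSub72.closureAt_le C P _
      (Subring.subset_closure (Or.inr ⟨_, hP' x hx _ ⟨b, hb, rfl⟩, rfl⟩))⟩ :
      Groth.Agent.AlgSub72.algCarrier C P (V x).1), rfl⟩
  · rintro ⟨C', φ, -, -, h⟩
    exact IsImmersion.of_comp g (RelSpec.QCAlg.specMap φ)

end Groth.Agent.S5877
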