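import Groth.Statements.S5909
import Groth.Agent.E4O.Separating
-- import your own Groth.Agent.* helpers here

set_option autoImplicit false
universe u
open CategoryTheory AlgebraicGeometry
open EGA43

namespace Groth.Agent.S5909

/-- Case Z_λ = X: let X be a scheme, (u_i : F ⟶ G_i) a finite family (finite index set) of homomorphisms
of quasi-coherent O_X-modules which is separating (a section of F over an open subset killed by
every u_i is zero), and g : X' ⟶ X a flat morphism. Then the family (g^*u_i : g^*F ⟶ g^*G_i) is
separating. (The published statement allows a finite family of homomorphisms into direct images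
(f_λ)_*G_λ along quasi-compact morphisms f_λ; this row is the case Z_λ = X, to which the general
case reduces.) -/
theorem result {X X' : Scheme.{u}} (F : X.Modules) [Coh.IsQCoh F] {ι : Type u} [Finite ι]
    (G : ι → X.Modules) [∀ i, Coh.IsQCoh (G i)] (u : ∀ i, F ⟶ G i) (g : X' ⟶ X) [Flat g]
    (h : ∀ (V : (X).Opens) (t : ↑((F).presheaf.obj (Opposite.op V))), (∀ i, (Scheme.Modules.Hom.mapPresheaf (u i)).app (Opposite.op V) t = 0) → t = 0) :
    ∀ (V : (X').Opens) (t : ↑(((Scheme.Modules.pullback g).obj F).presheaf.obj (Opposite.op V))), (∀ i, (Scheme.Modules.Hom.mapPresheaf ((Scheme.Modules.pullback g).map (u i))).app (Opposite.op V) t = 0) → t = 0 := by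
  open scoped TensorProduct in
  refine Groth.Agent.E4O.Sep.isSep_of_basis fun V p hp => ?_
  obtain ⟨U, W, hU, hW, hpW, e⟩ := Groth.Agent.QCPull72.exists_affine_le g p
  obtain ⟨_, ⟨W', hW', rfl⟩, hpW', hle⟩ :=
    X'.isBasis_affineOpens.exists_subset_of_mem_open (show p ∈ W ⊓ V from ⟨hpW, hp⟩) (W ⊓ V).2
  have hleW : W' ≤ W := fun q hq => (hle hq).1
  have hleV : W' ≤ V := fun q hq => (hle hq).2
  refine ⟨W', hleV, hpW', ?_⟩
  refine (Groth.Agent.E4O.Sep.sepOn_pullback_iff g u hU hW' (hleW.trans e)).2 ?_
  let _ := (g.appLE U W' (hleW.trans e)).hom.toAlgebra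
  intro z hz
  have : Module.Flat Γ(X, U) Γ(X', W') := g.flat_appLE hU hW' (hleW.trans e)
  classical
  have := Fintype.ofFinite ι
  let P := LinearMap.pi fun i => Groth.Agent.E4O.Sep.appL (u i) U
  have hP : Function.Injective P := by
    rw [injective_iff_map_eq_zero]
    intro x hx
    exact h U x fun i => congrFun hx i
  apply Module.Flat.lTensor_preserves_injective_linearMap P hP
  rw [map_zero]
  apply (TensorProduct.piRight Γ(X, U) Γ(X, U) Γ(X', W') (fun i => Γ(G i, U))).injective
  rw [map_zero]
  funext i
  have : ∀ y : TensorProduct Γ(X, U) Γ(X', W') Γ(F, U),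
      (TensorProduct.piRight Γ(X, U) Γ(X, U) Γ(X', W') (fun i => Γ(G i, U))) (P.lTensor Γ(X', W') y) i =
        (Groth.Agent.E4O.Sep.appL (u i) U).lTensor Γ(X', W') y := by
    intro y
    induction y using TensorProduct.induction_on with
    | zero => simp
    | tmul a b => simp [P]
    | add a b ha hb => rw [map_add, map_add, Pi.add_apply, ha, hb, map_add]
  rw [this, hz i]
  rfl


end Groth.Agent.S5909
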