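import Groth.Statements.S5910
import Groth.Agent.E4O.SepFibresScheme
-- import your own Groth.Agent.* helpers here

set_option autoImplicit false
universe u
open CategoryTheory AlgebraicGeometry
open TensorProduct
open EGA43
open TensorProduct
set_option backward.isDefEq.respectTransparency.types false

namespace Groth.Agent.S5910

open CategoryTheory.Limits in
/-- Separating assertion: over an affine base and in the case Z_λ = X: let A be a commutative ring, p :
X ⟶ Spec A an A-scheme, F a quasi-coherent O_X-module, (G_i) quasi-coherent O_X-modules flat over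
Spec A and u_i : F ⟶ G_i homomorphisms. Let J be a nilpotent ideal of A all of whose successive
quotients J^k/J^{k+1} are free (A/J)-modules, and X₀ = X ×_{Spec A} Spec(A/J). If the family of
pullbacks of the u_i to X₀ is separating (a section of the pulled-back F over an open subset killed
by every member is zero), then (u_i) is separating. (The published statement has an arbitrary base
S, a nilpotent quasi-coherent ideal of O_S whose successive quotients are locally free over O_S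
modulo the ideal, homomorphisms into direct images (f_λ)_*G_λ, and the same assertion for
universally separating families; the assertion is local on S and on X, and this row is the case of
an affine base with free successive quotients and Z_λ = X.) -/
theorem result {X : Scheme.{u}} (A : CommRingCat.{u}) (p : X ⟶ Spec A)
    (J : Ideal ↑A) (hJ : IsNilpotent J) (hfree : ∀ k : ℕ, Module.Free (↑A ⧸ J) ((↑A ⧸ J) ⊗[↑A] ↥(J ^ k)))
    (F : X.Modules) [Coh.IsQCoh F] {ι : Type u} (G : ι → X.Modules) [∀ i, Coh.IsQCoh (G i)]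
    (hG : ∀ i, FlatMod.IsFlatOver p (G i)) (u : ∀ i, F ⟶ G i)
    (h0 : ∀ (V : (pullback p (Spec.map (CommRingCat.ofHom (Ideal.Quotient.mk J)))).Opens) (t : ↑(((Scheme.Modules.pullback (pullback.fst p (Spec.map (CommRingCat.ofHom (Ideal.Quotient.mk J))))).obj F).presheaf.obj (Opposite.op V))), (∀ i, (Scheme.Modules.Hom.mapPresheaf ((Scheme.Modules.pullback (pullback.fst p (Spec.map (CommRingCat.ofHom (Ideal.Quotient.mk J))))).map (u i))).app (Opposite.op V) t = 0) → t = 0) :
    ∀ (V : (X).Opens) (t : ↑((F).presheaf.obj (Opposite.op V))), (∀ i, (Scheme.Modules.Hom.mapPresheaf (u i)).app (Opposite.op V) t = 0) → t = 0 := by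
  refine Groth.Agent.E4O.Sep.isSep_of_basis fun V₀ x hx => ?_
  obtain ⟨U, hU, hxU, hUV⟩ := exists_isAffineOpen_mem_and_subset (U := V₀) hx
  refine ⟨U, hUV, hxU, ?_⟩
  haveI : ∀ i, (G i).IsQuasicoherent := fun i => ‹∀ i, Coh.IsQCoh (G i)› i
  haveI : F.IsQuasicoherent := ‹Coh.IsQCoh F›
  rw [← X.basicOpen_of_isUnit (isUnit_one (M := Γ(X, U)))]
  refine Groth.Agent.E4O.Sep.sepOn_basicOpen hU (1 : Γ(X, U)) fun z hz => ?_
  refine (?_ : Groth.Agent.E4O.Sep.SepMod Γ(X, U) fun i => Groth.Agent.E4O.Sep.appL (u i) U) 1 z hz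
  let q := Spec.map (CommRingCat.ofHom (Ideal.Quotient.mk J))
  have h1 := Groth.Agent.E4O.Sep.sepBC_of_isSep_pullback_fst (g := q) u h0 hU (isAffineOpen_top _)
    (isAffineOpen_top _) (show U ≤ p ⁻¹ᵁ ⊤ from le_top) (show ⊤ ≤ q ⁻¹ᵁ ⊤ from le_top)
  let R := Γ(Spec A, ⊤)
  let K := Γ(Spec (CommRingCat.of (↑A ⧸ J)), ⊤)
  let aR : ↑A →+* R := (Scheme.ΓSpecIso A).inv.hom
  let aB : R →+* Γ(X, U) := (p.appLE ⊤ U le_top).hom
  let aK : R →+* K := (q.appLE ⊤ ⊤ le_top).hom
  letI : Algebra ↑A R := aR.toAlgebra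
  letI : Algebra R Γ(X, U) := aB.toAlgebra
  letI : Algebra R K := aK.toAlgebra
  letI : Algebra ↑A Γ(X, U) := (aB.comp aR).toAlgebra
  letI : Algebra ↑A K := (aK.comp aR).toAlgebra
  haveI : IsScalarTower ↑A R Γ(X, U) := IsScalarTower.of_algebraMap_eq fun _ => rfl
  haveI : IsScalarTower ↑A R K := IsScalarTower.of_algebraMap_eq fun _ => rfl
  have haR : Function.Bijective aR :=
    ConcreteCategory.bijective_of_isIso (Scheme.ΓSpecIso A).inv
  haveI : CompatibleSMul ↑A R Γ(X, U) K :=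
    ⟨fun r b k => by
      obtain ⟨a, rfl⟩ := haR.2 r
      show (algebraMap ↑A R a • b) ⊗ₜ[↑A] k = b ⊗ₜ[↑A] (algebraMap ↑A R a • k)
      rw [algebraMap_smul, algebraMap_smul, smul_tmul]⟩
  have hK : ∀ a, algebraMap ↑A K a = (Scheme.ΓSpecIso (CommRingCat.of (↑A ⧸ J))).inv.hom (Ideal.Quotient.mk J a) := by
    intro a
    have h := Scheme.ΓSpecIso_inv_naturality (CommRingCat.ofHom (Ideal.Quotient.mk J))
    have h2 : q.appLE ⊤ ⊤ le_top = q.appTop := Scheme.Hom.appLE_eq_app q
    show (q.appLE ⊤ ⊤ le_top).hom ((Scheme.ΓSpecIso A).inv.hom a) = _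
    rw [h2]
    exact (congr($(h).hom a)).symm
  let e0 : (↑A ⧸ J) ≃ₐ[↑A] K :=
    AlgEquiv.ofRingEquiv (f := (Scheme.ΓSpecIso (CommRingCat.of (↑A ⧸ J))).symm.commRingCatIsoToRingEquiv)
      fun a => (hK a).symm
  let e : Γ(X, U) ⊗[R] K ≃ₐ[Γ(X, U)] Γ(X, U) ⊗[↑A] (↑A ⧸ J) :=
    (Algebra.TensorProduct.equivOfCompatibleSMul ↑A R Γ(X, U) Γ(X, U) K).trans
      (Algebra.TensorProduct.congr AlgEquiv.refl e0.symm)
  have h2 : Groth.Agent.E4O.Sep.SepBC (Γ(X, U) ⊗[↑A] (↑A ⧸ J)) fun i => Groth.Agent.E4O.Sep.appL (u i) U :=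
    Groth.Agent.E4O.Sep.sepMod_baseChange_of_algEquiv e _ h1
  letI : Module ↑A Γ(F, U) := Module.compHom _ (aB.comp aR)
  letI : ∀ i, Module R Γ(G i, U) := fun i => Module.compHom _ aB
  letI : ∀ i, Module ↑A Γ(G i, U) := fun i => Module.compHom _ (aB.comp aR)
  haveI : IsScalarTower ↑A Γ(X, U) Γ(F, U) := IsScalarTower.of_algebraMap_smul fun _ _ => rfl
  haveI : ∀ i, IsScalarTower ↑A Γ(X, U) Γ(G i, U) := fun i => IsScalarTower.of_algebraMap_smul fun _ _ => rfl
  haveI : ∀ i, IsScalarTower ↑A R Γ(G i, U) := fun i => IsScalarTower.of_algebraMap_smul fun _ _ => rfl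
  haveI : Module.Flat ↑A R :=
    Module.Flat.of_linearEquiv (AlgEquiv.ofBijective (Algebra.ofId ↑A R) haR).symm.toLinearEquiv
  haveI : ∀ i, Module.Flat ↑A Γ(G i, U) := fun i => by
    haveI : Module.Flat R Γ(G i, U) := Groth.Agent.FlatMor68.FlatSections.flat_sections p (show U ≤ p ⁻¹ᵁ ⊤ from le_top) hU
      (isAffineOpen_top _) (Groth.Agent.QC70.isLocAt_of_isQuasicoherent (G i) hU) fun x _ => hG i x
    exact Module.Flat.trans ↑A R _
  exact Groth.Agent.E4O.Sep.sepMod_of_nilpotent (fun i => Groth.Agent.E4O.Sep.appL (u i) U) J hJ hfree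
    (Groth.Agent.E4O.Sep.sepTensor_of_sepBC _ (↑A ⧸ J) h2)


end Groth.Agent.S5910
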