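import Groth.Statements.S5913
import Groth.Agent.E4O.FiniteClosure
-- import your own Groth.Agent.* helpers here

set_option autoImplicit false
universe u
open CategoryTheory AlgebraicGeometry
open EGA43

namespace Groth.Agent.S5913

/-- In the locally Noetherian form: a locally Noetherian scheme X is Jacobson if and only if it has no
subscheme isomorphic to the spectrum of a semi-local integral domain of dimension 1, i.e. there is
no immersion Spec R ⟶ X with R an integral domain having finitely many maximal ideals and Krull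
dimension 1. -/
theorem result (X : Scheme.{u}) [IsLocallyNoetherian X] :
    JacobsonSpace X ↔
      ∀ (R : CommRingCat.{u}) [IsDomain R] (i : Spec R ⟶ X) [IsImmersion i],
        ¬ (Finite (MaximalSpectrum R) ∧ ringKrullDim R = 1) := by
  constructor
  · intro hJ R _ i _ ⟨hfin, hdim⟩
    have hR : JacobsonSpace (Spec R) := by
      rw [jacobsonSpace_iff_locallyClosed]
      intro Z hZ hZ'
      obtain ⟨_, ⟨z, hz, rfl⟩, hz'⟩ := nonempty_inter_closedPoints (hZ.image i)
        (hZ'.image i.isEmbedding.isInducing i.isLocallyClosed_range)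
      refine ⟨z, hz, ?_⟩
      have h1 := (mem_closedPoints_iff.1 hz').preimage i.continuous
      rw [← Set.image_singleton, Set.preimage_image_eq _ i.isEmbedding.injective] at h1
      exact h1
    have : IsJacobsonRing R := PrimeSpectrum.isJacobsonRing_iff_jacobsonSpace.mpr hR
    have hbot : (⊥ : Ideal R).jacobson = ⊥ :=
      isJacobsonRing_iff_prime_eq.1 this ⊥ Ideal.isPrime_bot
    have hft := Fintype.ofFinite (MaximalSpectrum R)
    have hle : Finset.univ.inf (fun m : MaximalSpectrum R => m.asIdeal) ≤ (⊥ : Ideal R) := by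
      rw [← hbot]
      exact le_sInf fun J hJ => Finset.inf_le (f := fun m : MaximalSpectrum R => m.asIdeal)
        (Finset.mem_univ ⟨J, hJ.2⟩)
    obtain ⟨m, -, hm⟩ := (Ideal.IsPrime.inf_le' (Ideal.isPrime_bot (α := R))).1 hle
    have hf : IsField R := by
      have := le_bot_iff.1 hm
      exact Ring.isField_iff_maximal_bot.2 (this ▸ m.isMaximal)
    rw [ringKrullDim_eq_zero_of_isField hf] at hdim
    norm_num at hdim
  · intro h
    by_contra hJ
    rw [jacobsonSpace_iff_locallyClosed] at hJ
    push Not at hJ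
    obtain ⟨Z, ⟨z, hz⟩, hZ, hempty⟩ := hJ
    obtain ⟨V, hV, hzV, -⟩ := exists_isAffineOpen_mem_and_subset (U := (⊤ : X.Opens)) (x := z) trivial
    have : TopologicalSpace.NoetherianSpace ↥(V : Set X) := by
      have := IsLocallyNoetherian.component_noetherian (X := X) ⟨V, hV⟩
      exact AlgebraicGeometry.noetherianSpace_of_isAffineOpen V hV
    obtain ⟨U, F, hU, hF, rfl⟩ := hZ
    have : CompactSpace ↥((V : Set X) ∩ U) := by
      rw [← isCompact_iff_compactSpace]
      have h1 := (TopologicalSpace.NoetherianSpace.isCompact (Subtype.val ⁻¹' U : Set ↥(V : Set X))).image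
        continuous_subtype_val
      rwa [Subtype.image_preimage_coe] at h1
    obtain ⟨⟨x, hxV, hxU⟩, hxF, hcl⟩ := (hF.preimage continuous_subtype_val).exists_closed_singleton
      (X := ↥((V : Set X) ∩ U)) (S := Subtype.val ⁻¹' F) ⟨⟨z, hzV, hz.1⟩, hz.2⟩
    have hxiso : ∀ y ∈ (V : Set X) ∩ U, x ⤳ y → y = x := fun y hy hxy =>
      congrArg Subtype.val (Set.mem_singleton_iff.1
        ((Topology.IsInducing.subtypeVal.specializes_iff.1
          (show (Subtype.val (⟨x, hxV, hxU⟩ : ↥((V : Set X) ∩ U))) ⤳ Subtype.val (⟨y, hy⟩ : ↥((V : Set X) ∩ U)) from hxy)).mem_closed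
          hcl (Set.mem_singleton _)))
    have hnc : ¬ IsClosed ({x} : Set X) := fun hc =>
      Set.eq_empty_iff_forall_notMem.1 hempty x ⟨⟨hxU, hxF⟩, hc⟩
    obtain ⟨y, hy, hyx⟩ : ∃ y, x ⤳ y ∧ y ≠ x := by
      by_contra! hall
      exact hnc (isClosed_of_closure_subset fun y hy => hall y (specializes_iff_mem_closure.2 hy))
    obtain ⟨W, hW, hyW, -⟩ := exists_isAffineOpen_mem_and_subset (U := (⊤ : X.Opens)) (x := y) trivial
    have : IsNoetherianRing Γ(X, W) := IsLocallyNoetherian.component_noetherian ⟨W, hW⟩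
    let e := hW.fromSpec
    have he : Topology.IsOpenEmbedding e := e.isOpenEmbedding
    obtain ⟨x', hx'⟩ : x ∈ Set.range e := by
      rw [hW.range_fromSpec]; exact hy.mem_open W.isOpen hyW
    obtain ⟨y', hy'⟩ : y ∈ Set.range e := by rw [hW.range_fromSpec]; exact hyW
    obtain ⟨hfin, hmax⟩ := Groth.Agent.E4O.finite_closure_of_isOpen_affine (R := Γ(X, W)) x'
      (e ⁻¹' ((V : Set X) ∩ U)) ((V.isOpen.inter hU).preimage he.continuous)
      (by rw [Set.mem_preimage, hx']; exact ⟨hxV, hxU⟩)
      (fun w hw hxw => he.injective ((hxiso _ hw (hx' ▸ hxw.map he.continuous)).trans hx'.symm))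
    let I : Ideal Γ(X, W) := x'.asIdeal
    let R : CommRingCat.{u} := CommRingCat.of (Γ(X, W) ⧸ I)
    have : IsDomain R := Ideal.Quotient.isDomain I
    let q : Γ(X, W) ⟶ R := CommRingCat.ofHom (Ideal.Quotient.mk I)
    have : IsClosedImmersion (Spec.map q) := IsClosedImmersion.spec_of_surjective q Ideal.Quotient.mk_surjective
    apply h R (Spec.map q ≫ e)
    let c : PrimeSpectrum (Γ(X, W) ⧸ I) → PrimeSpectrum Γ(X, W) := PrimeSpectrum.comap (Ideal.Quotient.mk I)
    have hcinj : Function.Injective c :=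
      PrimeSpectrum.comap_injective_of_surjective _ Ideal.Quotient.mk_surjective
    have hxc : ∀ p, x' ⤳ c p := fun p => (PrimeSpectrum.le_iff_specializes _ _).1 fun a ha => by
      show Ideal.Quotient.mk I a ∈ p.asIdeal
      rw [Ideal.Quotient.eq_zero_iff_mem.2 ha]
      exact zero_mem _
    have hfinR : Finite (PrimeSpectrum (Γ(X, W) ⧸ I)) := by
      exact Set.finite_univ_iff.1 ((hfin.preimage hcinj.injOn).subset fun p _ =>
        specializes_iff_mem_closure.1 (hxc p))
    refine ⟨Finite.of_injective (fun m : MaximalSpectrum (Γ(X, W) ⧸ I) => m.toPrimeSpectrum)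
      MaximalSpectrum.toPrimeSpectrum_injective, ?_⟩
    apply le_antisymm
    · have : Ring.DimensionLEOne (Γ(X, W) ⧸ I) := ⟨fun {p} hp0 hp => by
        obtain ⟨m, hm, hpm⟩ := Ideal.exists_le_maximal p hp.ne_top
        have hc0 : c ⟨p, hp⟩ ≠ x' := fun e' => hp0 (by
          rw [← Ideal.map_comap_of_surjective _ Ideal.Quotient.mk_surjective p,
            show p.comap (Ideal.Quotient.mk I) = I from congrArg PrimeSpectrum.asIdeal e',
            Ideal.map_quotient_self])
        have := hmax (c ⟨p, hp⟩) (c ⟨m, hm.isPrime⟩) (hxc _) hc0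
          ((PrimeSpectrum.le_iff_specializes _ _).1 (Ideal.comap_mono hpm))
        have e' : m = p := congrArg PrimeSpectrum.asIdeal (hcinj this)
        exact e' ▸ hm⟩
      exact Ring.krullDimLE_iff.1 inferInstance
    · refine Order.one_le_krullDim_iff.2 ?_
      have hy'x : x' ⤳ y' := he.isInducing.specializes_iff.1 (by rw [hx', hy']; exact hy)
      have hle : I ≤ y'.asIdeal := (PrimeSpectrum.le_iff_specializes _ _).2 hy'x
      have hp := Ideal.map_isPrime_of_surjective (f := Ideal.Quotient.mk I) Ideal.Quotient.mk_surjective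
        (I := y'.asIdeal) (by rwa [Ideal.mk_ker])
      refine ⟨⟨⊥, Ideal.isPrime_bot⟩, ⟨_, hp⟩, lt_of_le_of_ne bot_le fun e' => hyx ?_⟩
      have e'' : (⊥ : Ideal (Γ(X, W) ⧸ I)) = y'.asIdeal.map (Ideal.Quotient.mk I) :=
        congrArg PrimeSpectrum.asIdeal e'
      have h2 : y'.asIdeal ≤ I := fun a ha => by
        have := Ideal.mem_map_of_mem (Ideal.Quotient.mk I) ha
        rw [← e'', Ideal.mem_bot, Ideal.Quotient.eq_zero_iff_mem] at this
        exact this
      rw [← hy', ← hx']
      exact congrArg e (PrimeSpectrum.ext (le_antisymm h2 hle))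

end Groth.Agent.S5913
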