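import Groth.Statements.S5915
import Groth.Agent.E4O.InfDescent
-- import your own Groth.Agent.* helpers here

set_option autoImplicit false
set_option linter.style.haveILetI false
universe u
open CategoryTheory AlgebraicGeometry
open EGA43

namespace Groth.Agent.S5915

open CategoryTheory.Limits in
/-- Let Y be locally Noetherian, f : X ⟶ Y locally of finite type, F a coherent O_X-module, x a point of
X and y = f x. Let φ : O_{Y,y} ⟶ A' be an injective ring homomorphism which is finite (A' finitely
generated as an O_{Y,y}-module), Y' = Spec A' ⟶ Y the induced Y-scheme, X' = X ×_Y Y' and F' the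
pullback of F to X'. Then F is f-flat at x if and only if F' is flat over Y' at every point of X'
lying over x and over a closed point of Y'. (The published statement treats more generally a Zariski
ring A' whose radical pulls back to the maximal ideal and whose map on completions is injective;
this row is the case of a finite algebra with injective structure map, in which those conditions
hold.) -/
theorem result {X Y : Scheme.{u}} [IsLocallyNoetherian Y]
    (f : X ⟶ Y) [LocallyOfFiniteType f] (F : X.Modules) (hF : Coh.IsCoh F) (x : X)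
    (A' : CommRingCat.{u}) (φ : Y.presheaf.stalk (f.base x) ⟶ A') (hfin : φ.hom.Finite)
    (hinj : Function.Injective φ.hom) :
    FlatMod.IsFlatOverAt f F x ↔
      ∀ x' : ↥(pullback f (Spec.map φ ≫ Y.fromSpecStalk (f.base x))), pullback.fst f (Spec.map φ ≫ Y.fromSpecStalk (f.base x)) x' = x →
        IsClosed ({pullback.snd f (Spec.map φ ≫ Y.fromSpecStalk (f.base x)) x'} : Set ↥(Spec A')) →
          FlatMod.IsFlatOverAt (pullback.snd f (Spec.map φ ≫ Y.fromSpecStalk (f.base x))) ((Scheme.Modules.pullback (pullback.fst f (Spec.map φ ≫ Y.fromSpecStalk (f.base x)))).obj F) x' := by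
  haveI : IsLocallyNoetherian X := LocallyOfFiniteType.isLocallyNoetherian f
  haveI hFP := Groth.Agent.Div89.isFP_of_isCoh hF
  obtain ⟨σ, -⟩ := hFP.exists_quasicoherentData
  haveI hqc : F.IsQuasicoherent := σ.isQuasicoherent
  constructor
  · intro h x' hx _
    exact Groth.Agent.FlatMor66.isFlatOverAt_baseChange
      (IsPullback.of_hasPullback f (Spec.map φ ≫ Y.fromSpecStalk (f.base x))) F hqc x' (by rw [hx]; exact h)
  intro hflat
  classical
  letI : Module ↑(Y.presheaf.stalk (f x)) (F.presheaf.stalk x : Type u) := FlatMod.moduleStalkOver f F x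
  letI : Algebra ↑(Y.presheaf.stalk (f x)) ↑(X.presheaf.stalk x) := (f.stalkMap x).hom.toAlgebra
  haveI : IsScalarTower ↑(Y.presheaf.stalk (f x)) ↑(X.presheaf.stalk x) (F.presheaf.stalk x : Type u) :=
    IsScalarTower.of_algebraMap_smul fun _ _ => rfl
  haveI : Module.Finite ↑(X.presheaf.stalk x) (F.presheaf.stalk x : Type u) :=
    Groth.Agent.E4O.finite_stalk_of_coh F hF x
  let O : Type u := Y.presheaf.stalk (f x)
  let m := IsLocalRing.maximalIdeal O
  letI : Algebra O A' := φ.hom.toAlgebra
  haveI : Module.Finite O A' := hfin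
  show Module.Flat O (F.presheaf.stalk x : Type u)
  refine Groth.Agent.CAlg7.flat_of_forall_flat_mod_pow (S := ↑(X.presheaf.stalk x)) m
    ((Ideal.map_le_iff_le_comap.2 fun a ha => ?_).trans (IsLocalRing.jacobson_eq_maximalIdeal _ bot_ne_top).ge)
    fun N hN => ?_
  · exact (IsLocalRing.mem_maximalIdeal _).2 fun h => (IsLocalRing.mem_maximalIdeal _).1 ha
      (isUnit_of_map_unit (f.stalkMap x).hom a h)
  -- Artin–Rees
  let P : Submodule O A' := LinearMap.range (Algebra.linearMap O A')
  obtain ⟨k, hk⟩ := Ideal.exists_pow_inf_eq_pow_smul m P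
  let K : Ideal A' := (m ^ (N + k + 1)).map (algebraMap O A')
  let I : Ideal O := K.comap (algebraMap O A')
  have hpow : m ^ (N + k + 1) ≤ I := Ideal.le_comap_map
  have hIN : I ≤ m ^ N := by
    intro a ha
    have h1 : algebraMap O A' a ∈ (m ^ (N + k + 1) • ⊤ : Submodule O A') := by
      rw [Ideal.smul_top_eq_map]; exact ha
    have h2 : algebraMap O A' a ∈ (m ^ (N + k + 1) • ⊤ : Submodule O A') ⊓ P := ⟨h1, a, rfl⟩
    rw [hk _ (by omega)] at h2
    have h3 : algebraMap O A' a ∈ Submodule.map (Algebra.linearMap O A') (m ^ N) := by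
      have h4 : m ^ (N + k + 1 - k) • ((m ^ k • ⊤ : Submodule O A') ⊓ P) ≤ m ^ N • P :=
        Submodule.smul_mono (Ideal.pow_le_pow_right (by omega)) inf_le_right
      have h5 := h4 h2
      rw [show P = (⊤ : Submodule O O).map (Algebra.linearMap O A') from (Submodule.map_top _).symm,
        ← Submodule.map_smul'', smul_eq_mul, Ideal.mul_top] at h5
      exact h5
    obtain ⟨c, hc, hca⟩ := h3
    rwa [← hinj hca]
  have hIm : I ≤ m := hIN.trans (Ideal.pow_le_self (by omega))
  haveI : Nontrivial (O ⧸ I) := Ideal.Quotient.nontrivial_iff.2 fun h =>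
    (IsLocalRing.maximalIdeal.isMaximal O).ne_top (eq_top_iff.2 (h ▸ hIm))
  haveI : IsLocalRing (O ⧸ I) := IsLocalRing.of_surjective' (Ideal.Quotient.mk I) Ideal.Quotient.mk_surjective
  haveI : IsArtinianRing (O ⧸ I) := Groth.Agent.E4O.isArtinianRing_quotient_of_pow_le m _ hpow
  let b := Groth.Agent.E4O.infNbhd (f x) I
  obtain ⟨xB, hxB, -⟩ := Scheme.Pullback.exists_preimage_pullback (f := f) (g := b) x
    (IsLocalRing.closedPoint (O ⧸ I)) (Groth.Agent.E4O.infNbhd_closedPoint (f x) I).symm
  let fB := pullback.snd f b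
  haveI : IsLocallyNoetherian (pullback f b) := LocallyOfFiniteType.isLocallyNoetherian fB
  let FB := (Scheme.Modules.pullback (pullback.fst f b)).obj F
  have hFB : Coh.IsCoh FB := Groth.Agent.E4O.isCoh_pullback _ F hF
  let π : A' ⟶ CommRingCat.of (A' ⧸ K) := CommRingCat.ofHom (Ideal.Quotient.mk K)
  let ψ : CommRingCat.of (O ⧸ I) ⟶ CommRingCat.of (A' ⧸ K) :=
    CommRingCat.ofHom (Ideal.quotientMap K φ.hom le_rfl)
  have hcg : Spec.map ψ ≫ b = Spec.map π ≫ Spec.map φ ≫ Y.fromSpecStalk (f x) := by
    simp only [b, Groth.Agent.E4O.infNbhd, ← Category.assoc, ← Spec.map_comp]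
    congr 2
  have hflatB : FlatMod.IsFlatOverAt fB FB xB := by
    refine Groth.Agent.E4O.isFlatOverAt_of_artinian_points fB FB hFB xB
      (fun _ : ↥(Spec (CommRingCat.of (A' ⧸ K))) => Spec (CommRingCat.of (A' ⧸ K))) (fun _ => Spec.map ψ)
      (fun z => z) (fun a ha => ?_) fun z w hw hwz => ?_
    · have h1 : (Spec.map ψ).appTop ((Scheme.ΓSpecIso (CommRingCat.of (O ⧸ I))).inv a) = 0 :=
        TopCat.Presheaf.section_ext (Spec (CommRingCat.of (A' ⧸ K))).sheaf ⊤ _ _ fun z hz =>
          (ha z).trans (map_zero _).symm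
      have h2 := congrArg (Scheme.ΓSpecIso (CommRingCat.of (A' ⧸ K))).hom h1
      rw [map_zero, ← CommRingCat.comp_apply, ← CommRingCat.comp_apply, Scheme.ΓSpecIso_naturality,
        Iso.inv_hom_id_assoc] at h2
      exact Ideal.quotientMap_injective (h2.trans (map_zero _).symm)
    · let big := (IsPullback.of_hasPullback fB (Spec.map ψ)).paste_horiz (IsPullback.of_hasPullback f b)
      have big' : IsPullback (pullback.fst fB (Spec.map ψ) ≫ pullback.fst f b)
          (pullback.snd fB (Spec.map ψ)) f (Spec.map π ≫ Spec.map φ ≫ Y.fromSpecStalk (f x)) := hcg ▸ big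
      let g := Spec.map φ ≫ Y.fromSpecStalk (f.base x)
      let kk := pullback.lift (f := f) (g := g) (pullback.fst fB (Spec.map ψ) ≫ pullback.fst f b)
        (pullback.snd fB (Spec.map ψ) ≫ Spec.map π) (by rw [big'.w, Category.assoc])
      have sq : IsPullback kk (pullback.snd fB (Spec.map ψ)) (pullback.snd f g) (Spec.map π) :=
        IsPullback.of_right (v₁₃ := f) (h₁₂ := pullback.fst f g) (by rw [pullback.lift_fst]; exact big')
          (pullback.lift_snd _ _ _) (IsPullback.of_hasPullback f g)
      have h1 : pullback.fst f g (kk w) = x := by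
        rw [← Scheme.Hom.comp_apply, pullback.lift_fst, Scheme.Hom.comp_apply, hw, hxB]
      have h2 : IsClosed ({pullback.snd f g (kk w)} : Set ↥(Spec A')) := by
        rw [← Scheme.Hom.comp_apply, pullback.lift_snd, Scheme.Hom.comp_apply, hwz]
        refine (PrimeSpectrum.isClosed_singleton_iff_isMaximal _).2 ?_
        let Q : Ideal A' := z.asIdeal.comap (Ideal.Quotient.mk K)
        show Q.IsMaximal
        haveI : Q.IsPrime := Ideal.IsPrime.comap _
        haveI : Algebra.IsIntegral O A' := Algebra.IsIntegral.of_finite O A'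
        refine Ideal.isMaximal_of_isIntegral_of_isMaximal_comap (R := O) Q ?_
        have h3 : m ≤ Q.comap (algebraMap O A') := fun a ha =>
          (Ideal.IsPrime.comap (algebraMap O A')).mem_of_pow_mem (N + k + 1) (by
            show Ideal.Quotient.mk K (algebraMap O A' (a ^ (N + k + 1))) ∈ z.asIdeal
            rw [Ideal.Quotient.eq_zero_iff_mem.2 (Ideal.mem_map_of_mem _ (Ideal.pow_mem_pow ha _))]
            exact z.asIdeal.zero_mem)
        exact ((IsLocalRing.maximalIdeal.isMaximal O).eq_of_le (Ideal.IsPrime.comap _).ne_top h3) ▸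
          IsLocalRing.maximalIdeal.isMaximal O
      have h3 := Groth.Agent.FlatMor66.isFlatOverAt_baseChange sq
        ((Scheme.Modules.pullback (pullback.fst f g)).obj F)
        (Groth.Agent.QCPull72.isQuasicoherent_pullback _ F) w (hflat _ h1 h2)
      exact (Groth.Agent.FlatMor68.FlatDimFun.isFlatOverAt_iff_of_iso _
        ((Scheme.Modules.pullbackComp kk (pullback.fst f g)).app F ≪≫
          (Scheme.Modules.pullbackCongr (pullback.lift_fst _ _ _)).app F ≪≫
          ((Scheme.Modules.pullbackComp _ (pullback.fst f b)).app F).symm) w).1 h3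
  have key := Groth.Agent.E4O.flat_quotient_tensor_of_isFlatOverAt f F hqc x I xB hxB hflatB
  exact Groth.Agent.E4O.flat_quot_of_flat_quot_le I (m ^ N) hIN (F.presheaf.stalk x : Type u) key


end Groth.Agent.S5915
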