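import Groth.Statements.S5916
import Groth.Agent.E4O.SepDescent
import Groth.Agent.FlatMor68.FlatSections
-- import your own Groth.Agent.* helpers here

set_option autoImplicit false
universe u
open CategoryTheory AlgebraicGeometry
open EGA43

namespace Groth.Agent.S5916

open CategoryTheory.Limits in
/-- Case Z_λ = X: let A be a commutative ring, p : X ⟶ Spec A an A-scheme, F a quasi-coherent
O_X-module, (G_i) quasi-coherent O_X-modules flat over Spec A and u_i : F ⟶ G_i a separating family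
of homomorphisms (a section of F over an open subset killed by every u_i is zero). Let φ : A ⟶ A' be
a ring homomorphism. If for every factorisation A ⟶ B ⟶ A' of φ with A ⟶ B of finite type and B ⟶ A'
injective (every finitely generated sub-A-algebra B of A') the family pulled back to X ×_{Spec A}
Spec B is separating, then the family pulled back to X ×_{Spec A} Spec A' is separating. (The
published statement allows homomorphisms into direct images (f_λ)_*G_λ of modules G_λ flat over the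
base; this row is the case Z_λ = X.) -/
theorem result {X : Scheme.{u}} (A A' : CommRingCat.{u}) (φ : A ⟶ A')
    (p : X ⟶ Spec A) (F : X.Modules) [Coh.IsQCoh F] {ι : Type u} (G : ι → X.Modules) [∀ i, Coh.IsQCoh (G i)]
    (hG : ∀ i, FlatMod.IsFlatOver p (G i)) (u : ∀ i, F ⟶ G i)
    (h : ∀ (V : (X).Opens) (t : ↑((F).presheaf.obj (Opposite.op V))), (∀ i, (Scheme.Modules.Hom.mapPresheaf (u i)).app (Opposite.op V) t = 0) → t = 0)
    (hfg : ∀ (B : CommRingCat.{u}) (a : A ⟶ B) (b : B ⟶ A'), a ≫ b = φ → Function.Injective b.hom → a.hom.FiniteType →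
      ∀ (V : (pullback p (Spec.map a)).Opens) (t : ↑(((Scheme.Modules.pullback (pullback.fst p (Spec.map a))).obj F).presheaf.obj (Opposite.op V))), (∀ i, (Scheme.Modules.Hom.mapPresheaf ((Scheme.Modules.pullback (pullback.fst p (Spec.map a))).map (u i))).app (Opposite.op V) t = 0) → t = 0) :
    ∀ (V : (pullback p (Spec.map φ)).Opens) (t : ↑(((Scheme.Modules.pullback (pullback.fst p (Spec.map φ))).obj F).presheaf.obj (Opposite.op V))), (∀ i, (Scheme.Modules.Hom.mapPresheaf ((Scheme.Modules.pullback (pullback.fst p (Spec.map φ))).map (u i))).app (Opposite.op V) t = 0) → t = 0 := by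
  open scoped TensorProduct in
  refine Groth.Agent.E4O.Sep.isSep_of_basis fun V₀ x hx => ?_
  obtain ⟨U, hU, hxU, -⟩ := exists_isAffineOpen_mem_and_subset (U := (⊤ : X.Opens))
    (x := pullback.fst p (Spec.map φ) x) trivial
  let W : (pullback p (Spec.map φ)).Opens := pullback.fst p (Spec.map φ) ⁻¹ᵁ U ⊓ pullback.snd p (Spec.map φ) ⁻¹ᵁ ⊤
  have hA : IsAffineOpen (⊤ : (Spec A).Opens) := isAffineOpen_top _
  have hA' : IsAffineOpen (⊤ : (Spec A').Opens) := isAffineOpen_top _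
  have : IsAffine ((⊤ : (Spec A).Opens) : Scheme) := hA
  have : IsAffine ((⊤ : (Spec A').Opens) : Scheme) := hA'
  have : IsAffine (U : X.Opens).toScheme := hU
  have hW : IsAffineOpen W :=
    .of_isIso (Scheme.Hom.isPullback_resLE (IsPullback.of_hasPullback p (Spec.map φ))
      (show (⊤ : (Spec A').Opens) ≤ Spec.map φ ⁻¹ᵁ ⊤ from le_top) (show U ≤ p ⁻¹ᵁ ⊤ from le_top) (UY := W) rfl).isoPullback.hom
  have hWU : W ≤ pullback.fst p (Spec.map φ) ⁻¹ᵁ U := inf_le_left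
  obtain ⟨b, hb, hxb⟩ := hW.exists_basicOpen_le (V := V₀) ⟨x, hx⟩ ⟨hxU, trivial⟩
  refine ⟨_, hb, hxb, Groth.Agent.E4O.Sep.sepOn_pullback_basicOpen _ u hU hW hWU b ?_⟩
  have hpush := (isIso_pushoutSection_iff ..).1 (isIso_pushoutSection_of_isAffineOpen
    (IsPullback.of_hasPullback p (Spec.map φ))
    (show (⊤ : (Spec A').Opens) ≤ Spec.map φ ⁻¹ᵁ ⊤ from le_top) (show U ≤ p ⁻¹ᵁ ⊤ from le_top) (UY := W) rfl hA hA' hU)
  let _ : Algebra Γ(Spec A, ⊤) Γ(Spec A', ⊤) := ((Spec.map φ).appLE ⊤ ⊤ le_top).hom.toAlgebra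
  let _ : Algebra Γ(Spec A, ⊤) Γ(X, U) := (p.appLE ⊤ U le_top).hom.toAlgebra
  let _ : Algebra Γ(X, U) Γ(pullback p (Spec.map φ), W) := ((pullback.fst p (Spec.map φ)).appLE U W hWU).hom.toAlgebra
  let _ : Algebra Γ(Spec A', ⊤) Γ(pullback p (Spec.map φ), W) :=
    ((pullback.snd p (Spec.map φ)).appLE ⊤ W inf_le_right).hom.toAlgebra
  let _ : Algebra Γ(Spec A, ⊤) Γ(pullback p (Spec.map φ), W) :=
    (p.appLE ⊤ U le_top ≫ (pullback.fst p (Spec.map φ)).appLE U W hWU).hom.toAlgebra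
  have : IsScalarTower Γ(Spec A, ⊤) Γ(X, U) Γ(pullback p (Spec.map φ), W) := .of_algebraMap_eq fun _ => rfl
  have : IsScalarTower Γ(Spec A, ⊤) Γ(Spec A', ⊤) Γ(pullback p (Spec.map φ), W) :=
    .of_algebraMap_eq fun a => congr($(hpush.w).hom a)
  have hal : Algebra.IsPushout Γ(Spec A, ⊤) Γ(X, U) Γ(Spec A', ⊤) Γ(pullback p (Spec.map φ), W) :=
    CommRingCat.isPushout_iff_isPushout.mp hpush
  refine Groth.Agent.E4O.Sep.sepMod_baseChange_of_algEquiv
    (Algebra.IsPushout.equiv Γ(Spec A, ⊤) Γ(X, U) Γ(Spec A', ⊤) Γ(pullback p (Spec.map φ), W)) _ ?_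
  let _ : ∀ i, Module Γ(Spec A, ⊤) Γ(G i, U) := fun i => Module.compHom _ (p.appLE ⊤ U le_top).hom
  have : ∀ i, IsScalarTower Γ(Spec A, ⊤) Γ(X, U) Γ(G i, U) := fun i =>
    IsScalarTower.of_algebraMap_smul fun r s => rfl
  have : ∀ i, Module.Flat Γ(Spec A, ⊤) Γ(G i, U) := fun i =>
    Groth.Agent.FlatMor68.FlatSections.flat_sections p le_top hU hA
      (Groth.Agent.QC70.isLocAt_of_isQuasicoherent (G i) hU) fun y _ => hG i y
  refine Groth.Agent.E4O.Sep.sepMod_of_forall_subalgebra _ fun B₀ hfg' => ?_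
  -- the finitely generated stage
  let B : CommRingCat.{u} := CommRingCat.of B₀
  let a : A ⟶ B := (Scheme.ΓSpecIso A).inv ≫ CommRingCat.ofHom (algebraMap Γ(Spec A, ⊤) B₀)
  let β : B ⟶ A' := CommRingCat.ofHom B₀.val.toRingHom ≫ (Scheme.ΓSpecIso A').hom
  have hab : a ≫ β = φ := by
    have e1 : CommRingCat.ofHom (algebraMap Γ(Spec A, ⊤) B₀) ≫ CommRingCat.ofHom B₀.val.toRingHom =
        (Spec.map φ).appTop := by
      ext r
      show ((Spec.map φ).appLE ⊤ ⊤ le_top).hom r = _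
      exact congr($((Scheme.Hom.appLE_eq_app (Spec.map φ) : (Spec.map φ).appLE ⊤ ⊤ le_top = (Spec.map φ).appTop)).hom r)
    simp only [a, β, Category.assoc]
    erw [reassoc_of% e1, Scheme.ΓSpecIso_naturality, Iso.inv_hom_id_assoc]
  have hβ : Function.Injective β.hom :=
    (Scheme.ΓSpecIso A').commRingCatIsoToRingEquiv.injective.comp Subtype.val_injective
  have : Algebra.FiniteType Γ(Spec A, ⊤) B₀ := (Subalgebra.fg_iff_finiteType B₀).1 hfg'
  have haft : a.hom.FiniteType := (RingHom.finiteType_algebraMap.2 this).comp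
    (RingHom.FiniteType.of_surjective _ (Scheme.ΓSpecIso A).symm.commRingCatIsoToRingEquiv.surjective)
  let W₀ : (pullback p (Spec.map a)).Opens := pullback.fst p (Spec.map a) ⁻¹ᵁ U ⊓ pullback.snd p (Spec.map a) ⁻¹ᵁ ⊤
  have hB : IsAffineOpen (⊤ : (Spec B).Opens) := isAffineOpen_top _
  have : IsAffine ((⊤ : (Spec B).Opens) : Scheme) := hB
  have hW₀ : IsAffineOpen W₀ :=
    .of_isIso (Scheme.Hom.isPullback_resLE (IsPullback.of_hasPullback p (Spec.map a))
      (show (⊤ : (Spec B).Opens) ≤ Spec.map a ⁻¹ᵁ ⊤ from le_top) (show U ≤ p ⁻¹ᵁ ⊤ from le_top) (UY := W₀) rfl).isoPullback.hom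
  have hW₀U : W₀ ≤ pullback.fst p (Spec.map a) ⁻¹ᵁ U := inf_le_left
  have hpush₀ := (isIso_pushoutSection_iff ..).1 (isIso_pushoutSection_of_isAffineOpen
    (IsPullback.of_hasPullback p (Spec.map a))
    (show (⊤ : (Spec B).Opens) ≤ Spec.map a ⁻¹ᵁ ⊤ from le_top) (show U ≤ p ⁻¹ᵁ ⊤ from le_top) (UY := W₀) rfl hA hB hU)
  have hpush₁ : IsPushout (p.appLE ⊤ U le_top) (CommRingCat.ofHom (algebraMap Γ(Spec A, ⊤) B₀))
      ((pullback.fst p (Spec.map a)).appLE U W₀ hW₀U)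
      ((Scheme.ΓSpecIso B).inv ≫ (pullback.snd p (Spec.map a)).appLE ⊤ W₀ inf_le_right) := by
    refine hpush₀.of_iso (Iso.refl _) (Iso.refl _) (Scheme.ΓSpecIso B) (Iso.refl _) (by simp) ?_ (by simp) (by simp)
    have : ((Spec.map a).appLE ⊤ ⊤ le_top) = (Spec.map a).appTop := Scheme.Hom.appLE_eq_app _
    rw [this, Scheme.ΓSpecIso_naturality, Iso.refl_hom, Category.id_comp, Iso.hom_inv_id_assoc]
  let _ : Algebra Γ(X, U) Γ(pullback p (Spec.map a), W₀) :=
    ((pullback.fst p (Spec.map a)).appLE U W₀ hW₀U).hom.toAlgebra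
  let _ : Algebra B₀ Γ(pullback p (Spec.map a), W₀) :=
    ((Scheme.ΓSpecIso B).inv ≫ (pullback.snd p (Spec.map a)).appLE ⊤ W₀ inf_le_right).hom.toAlgebra
  let _ : Algebra Γ(Spec A, ⊤) Γ(pullback p (Spec.map a), W₀) :=
    (p.appLE ⊤ U le_top ≫ (pullback.fst p (Spec.map a)).appLE U W₀ hW₀U).hom.toAlgebra
  have : IsScalarTower Γ(Spec A, ⊤) Γ(X, U) Γ(pullback p (Spec.map a), W₀) := .of_algebraMap_eq fun _ => rfl
  have : IsScalarTower Γ(Spec A, ⊤) B₀ Γ(pullback p (Spec.map a), W₀) :=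
    .of_algebraMap_eq fun r => congr($(hpush₁.w).hom r)
  have hal₀ : Algebra.IsPushout Γ(Spec A, ⊤) Γ(X, U) B₀ Γ(pullback p (Spec.map a), W₀) :=
    CommRingCat.isPushout_iff_isPushout.mp hpush₁
  refine Groth.Agent.E4O.Sep.sepMod_baseChange_of_algEquiv
    (Algebra.IsPushout.equiv Γ(Spec A, ⊤) Γ(X, U) B₀ Γ(pullback p (Spec.map a), W₀)).symm _ ?_
  exact Groth.Agent.E4O.Sep.sepMod_of_isSep_pullback _ u (hfg B a β hab hβ haft) hU hW₀ hW₀U


end Groth.Agent.S5916
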