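import Groth.Statements.S5920
import Groth.Agent.E4O.FibModOpen
-- import your own Groth.Agent.* helpers here

set_option autoImplicit false
open CategoryTheory AlgebraicGeometry
universe u
open EGA43

namespace Groth.Agent.S5920

/-- Let f : X ⟶ Y be a proper morphism of finite presentation and F a finitely presented O_X-module
which is f-flat; for y in Y write F_y for the restriction of F to the fibre X_y. For a point x of
X_y the rectified depth of F_y at x is prof(F_y)_x + dim cl{x}, the depth of the stalk over the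
local ring of X_y at x plus the dimension of the closure of x in X_y, and prof*(F_y) is the infimum
of these over X_y. Then y ↦ prof*(F_y) is lower semicontinuous on Y: for every natural number n, the
set of points y such that prof(F_y)_x + dim cl{x} ≥ n for every point x of X_y is open in Y. -/
theorem result {X Y : Scheme.{u}} (f : X ⟶ Y) [IsProper f]
    [LocallyOfFinitePresentation f] (F : X.Modules) (hF : CohB1.IsFP F) (hflat : FlatMod.IsFlatOver f F) (n : ℕ) :
    IsOpen {y : Y | ∀ x : ↥(f.fiber y), (n : WithBot ℕ∞) ≤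
      ((LocCoh.depth ((f.fiber y).presheaf.stalk x) (((Scheme.Modules.pullback (f.fiberι y)).obj F).presheaf.stalk x) : ℕ∞) : WithBot ℕ∞) +
        topologicalKrullDim ↥(closure ({x} : Set ↥(f.fiber y)))} := by
  have heq : {y : Y | ∀ x : ↥(f.fiber y), (n : WithBot ℕ∞) ≤ ((E4O.FibMod.fdepthM f F y x : ℕ∞) : WithBot ℕ∞) +
        topologicalKrullDim ↥(closure ({x} : Set ↥(f.fiber y)))} =
      (f '' {x : X | (n : ℕ∞) ≤ E4O.FibMod.mdepth f F x + (E4O.fdeg f x : ℕ∞)}ᶜ)ᶜ := by
    have key : ∀ (y : Y) (x : ↥(f.fiber y)), ((n : WithBot ℕ∞) ≤ ((E4O.FibMod.fdepthM f F y x : ℕ∞) : WithBot ℕ∞) +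
        topologicalKrullDim ↥(closure ({x} : Set ↥(f.fiber y)))) ↔
        (n : ℕ∞) ≤ E4O.FibMod.mdepth f F (f.fiberι y x) + (E4O.fdeg f (f.fiberι y x) : ℕ∞) := by
      intro y x
      rw [FBase64.AssFibre.dim_closure_fiber f, (E4O.FibMod.invariants_asFiber f F y x).1,
        ← WithBot.coe_natCast, ← WithBot.coe_natCast, ← WithBot.coe_add, WithBot.coe_le_coe]
    ext y
    constructor
    · rintro h ⟨x, hx, rfl⟩
      refine hx ?_
      have := (key _ _).1 (h (f.asFiber x))
      rwa [f.fiberι_asFiber] at this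
    · intro h x
      rw [key]
      by_contra hx
      exact h ⟨f.fiberι y x, hx, E4O.apply_fiberι f y x⟩
  show IsOpen {y : Y | ∀ x : ↥(f.fiber y), (n : WithBot ℕ∞) ≤ ((E4O.FibMod.fdepthM f F y x : ℕ∞) : WithBot ℕ∞) +
        topologicalKrullDim ↥(closure ({x} : Set ↥(f.fiber y)))}
  rw [heq]
  exact (f.isClosedMap _ (E4O.FibMod.isOpen_le_mdepth_add f F hF hflat n).isClosed_compl).isOpen_compl


end Groth.Agent.S5920
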