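import Groth.Statements.S5924
import Groth.Agent.E4O.QuasiSectionEquidim

set_option autoImplicit false
open CategoryTheory AlgebraicGeometry
universe u
open EGA43 TopologicalSpace Topology Groth.Agent.E4O

namespace Groth.Agent.S5924

/-- Let Y be an irreducible locally Noetherian scheme, f : X ⟶ Y a morphism locally of finite type which
is equidimensional at the point x, and suppose that x is not a maximal point of its fibre f⁻¹(f x),
i.e. some point of the fibre other than x specializes to x. Then there exist an affine open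
neighbourhood U of x and a section g of O_X over U such that g vanishes at x (x is not in the basic
open set of g) while every maximal point of f⁻¹(f x) lying in U is in the basic open set of g. -/
theorem result {X Y : Scheme.{u}} [IrreducibleSpace Y]
    [IsLocallyNoetherian Y] (f : X ⟶ Y) [LocallyOfFiniteType f] (x : X) (hf : EGA43.IsEquidimAt f x)
    (hx : ∃ x' : X, f.base x' = f.base x ∧ x' ≠ x ∧ x ∈ closure ({x'} : Set X)) :
    ∃ U : X.Opens, IsAffineOpen U ∧ x ∈ U ∧ ∃ g : Γ(X, U), x ∉ X.basicOpen g ∧
      ∀ z : X, f.base z = f.base x → (∀ z' : X, f.base z' = f.base x → z ∈ closure ({z'} : Set X) → z' = z) →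
        z ∈ U → z ∈ X.basicOpen g := by
  obtain ⟨x', hfx', hne, hx'⟩ := hx
  obtain ⟨C, ⟨q, rfl⟩, hC⟩ := exists_chart f x
  have := hC ‹_›
  obtain ⟨b, hbq, hb⟩ := C.exists_cut_element q fun h =>
    hne (h x' (specializes_iff_mem_closure.2 hx') hfx')
  let U : X.Opens := C.e ''ᵁ ⊤
  let g : Γ(X, U) := (C.e.appIso ⊤).inv ((Scheme.ΓSpecIso (CommRingCat.of C.B)).inv b)
  have hU : IsAffineOpen U := (isAffineOpen_top _).image_of_isOpenImmersion C.e
  have hbo : (Spec (CommRingCat.of C.B)).basicOpen ((Scheme.ΓSpecIso (CommRingCat.of C.B)).inv b) =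
      PrimeSpectrum.basicOpen b := basicOpen_eq_of_affine (R := CommRingCat.of C.B) b
  have hg : ∀ r : PrimeSpectrum C.B, C.pt r ∈ X.basicOpen g ↔ b ∉ r.asIdeal := fun r => by
    rw [← Scheme.image_basicOpen]
    refine Iff.trans (C.isOpenEmbedding_pt.injective.mem_set_image) ?_
    rw [hbo]
    rfl
  refine ⟨U, hU, ⟨q, trivial, rfl⟩, g, fun h => (hg q).1 h hbq, ?_⟩
  rintro z hfz hz ⟨r, -, rfl⟩
  exact (hg r).2 (hb r hfz fun a ha hfa => hz a (hfa.trans hfz) (specializes_iff_mem_closure.1 ha))

end Groth.Agent.S5924
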