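import Groth.Statements.S5925
import Groth.Agent.E4O.ZeroLocusCut

set_option autoImplicit false
open CategoryTheory AlgebraicGeometry
universe u
open EGA43 TopologicalSpace Topology Groth.Agent.E4O

namespace Groth.Agent.S5925

/-- Let Y be an irreducible locally Noetherian scheme, f : X ⟶ Y a morphism locally of finite type which
is equidimensional at the point x, y = f x and e = dim_x(f⁻¹(y)). Let g be a global section of O_X
vanishing at x whose zero set X' contains no maximal point of f⁻¹(y). Then X', with its reduced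
closed subscheme structure, is equidimensional over Y at x; dim_x(X' ∩ f⁻¹(y)) = e − 1; and every
irreducible component of X' containing x has codimension 1 in X, i.e. the local ring of X at its
generic point has Krull dimension 1. (Stated for a global section; the published statement takes g
on an affine open neighbourhood of x, to which this applies after restriction, and its codimension
assertion codim(X', X) = 1 is read for the components of X' through x: a component of the zero set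
not passing through x can be a whole irreducible component of X disjoint from the fibre, of
codimension 0.) -/
theorem result {X Y : Scheme.{u}} [IrreducibleSpace Y]
    [IsLocallyNoetherian Y] (f : X ⟶ Y) [LocallyOfFiniteType f] (x : X) (hf : EGA43.IsEquidimAt f x)
    (g : Γ(X, ⊤)) (hgx : x ∈ X.zeroLocus ({g} : Set Γ(X, ⊤)))
    (hmax : ∀ z : X, f.base z = f.base x → (∀ z' : X, f.base z' = f.base x → z ∈ closure ({z'} : Set X) → z' = z) →
      z ∉ X.zeroLocus ({g} : Set Γ(X, ⊤))) :
    (∀ w : ↥(Scheme.IdealSheafData.vanishingIdeal ⟨X.zeroLocus ({g} : Set Γ(X, ⊤)), X.zeroLocus_isClosed _⟩).subscheme,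
        (Scheme.IdealSheafData.vanishingIdeal ⟨X.zeroLocus ({g} : Set Γ(X, ⊤)), X.zeroLocus_isClosed _⟩).subschemeι.base w = x →
        EGA43.IsEquidimAt ((Scheme.IdealSheafData.vanishingIdeal ⟨X.zeroLocus ({g} : Set Γ(X, ⊤)), X.zeroLocus_isClosed _⟩).subschemeι ≫ f) w) ∧
      FlatMor.localDim ↥(X.zeroLocus ({g} : Set Γ(X, ⊤)) ∩ f.base ⁻¹' {f.base x}) ⟨x, ⟨hgx, rfl⟩⟩ + 1 = FlatMor.fibreDimAt f x ∧
      ∀ Z ∈ irreducibleComponents ↥(X.zeroLocus ({g} : Set Γ(X, ⊤))), (⟨x, hgx⟩ : ↥(X.zeroLocus ({g} : Set Γ(X, ⊤)))) ∈ Z →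
        ∀ ξ : ↥(X.zeroLocus ({g} : Set Γ(X, ⊤))), closure ({ξ} : Set ↥(X.zeroLocus ({g} : Set Γ(X, ⊤)))) = Z →
          ringKrullDim (X.presheaf.stalk (ξ : X)) = 1 := by
  obtain ⟨e, he, -, -⟩ := exists_of_isEquidimAt f hf
  have hmax' : ∀ z, z ⤳ x → f z = f x → IsFibreMax f z →
      z ∉ X.zeroLocus ({g} : Set Γ(X, ⊤)) := fun z _ hfz hz =>
    hmax z hfz fun z' hfz' hz' => hz z' (specializes_iff_mem_closure.2 hz') (hfz'.trans hfz.symm)
  obtain ⟨hcut, hgen⟩ := cut_of_isEquidimAt f g hf he hmax'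
  obtain ⟨z, hzK, hzx, hfz, hd, hzmax⟩ :=
    exists_max_fdeg_closed f (X.zeroLocus_isClosed ({g} : Set Γ(X, ⊤))) hgx
  obtain ⟨ξ₀, hξ₀x, hξ₀K, hξ₀max⟩ := exists_max_zeroLocus f g hgx
  have h0 := (hgen ξ₀ hξ₀K hξ₀x hξ₀max).2.1
  have h1 := hzmax ξ₀ hξ₀K hξ₀x
  have h2 := hcut z hzK hzx hfz
  have hze : fdeg f z + 1 = e := by omega
  refine ⟨fun w hw => ?_, ?_, fun Z hZ hxZ ξ hξ => ?_⟩
  · let K : Closeds X := ⟨X.zeroLocus ({g} : Set Γ(X, ⊤)), X.zeroLocus_isClosed _⟩
    let i := (Scheme.IdealSheafData.vanishingIdeal K).subschemeι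
    have hr : Set.range i = X.zeroLocus ({g} : Set Γ(X, ⊤)) :=
      SchBasics.range_vanishingIdeal_subschemeι K
    have hwi : i w = x := hw
    refine isEquidimAt_of_forall_generic (i ≫ f) w (fdeg f z) ?_ fun v hv hvmax => ?_
    · rw [fibreDimAt_comp_closedImmersion i f w hr hwi, hd]
    · obtain ⟨-, h3, h4⟩ := hgen (i v) (hr.le ⟨v, rfl⟩) (hwi ▸ hv.map i.continuous)
        fun a ha haK => by
          obtain ⟨b, rfl⟩ := hr.ge haK
          rw [hvmax b (i.isClosedEmbedding.isInducing.specializes_iff.1 ha)]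
      rw [fdeg_comp_closedImmersion, Scheme.Hom.comp_apply]
      exact ⟨by omega, h4⟩
  · rw [hd, he]
    exact_mod_cast hze
  · refine (hgen ξ.1 ξ.2 ?_ fun a ha haK => ?_).1
    · exact (subtype_specializes_iff ξ ⟨x, hgx⟩).1 (specializes_iff_mem_closure.2 (hξ ▸ hxZ))
    · have ha' : (⟨a, haK⟩ : ↥(X.zeroLocus ({g} : Set Γ(X, ⊤)))) ⤳ ξ :=
        (subtype_specializes_iff _ _).2 ha
      have hsub : closure {ξ} ⊆ closure {(⟨a, haK⟩ : ↥(X.zeroLocus ({g} : Set Γ(X, ⊤))))} :=
        closure_minimal (Set.singleton_subset_iff.2 ha'.mem_closure) isClosed_closure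
      have h3 := hZ.2 isIrreducible_singleton.closure (hξ ▸ hsub)
      exact congrArg Subtype.val
        ((specializes_iff_mem_closure.2 (hξ ▸ h3 (subset_closure rfl))).antisymm ha').eq.symm

end Groth.Agent.S5925
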