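import Groth.Statements.S5928
import Groth.Agent.E4O.SectionCompLocal
-- import your own Groth.Agent.* helpers here

set_option autoImplicit false
open CategoryTheory AlgebraicGeometry
universe u
open EGA43

namespace Groth.Agent.S5928

/-- Let f : X ⟶ Y be a morphism with a section g : Y ⟶ X, and suppose that either Y is locally
Noetherian and f is locally of finite type, or f is of finite presentation. Let X_y^0 be the
connected component of f⁻¹(y) containing g y and X^0 ⊆ X the union of the X_y^0, and suppose every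
X_y^0 is geometrically irreducible over κ(y). Then the set W of points x of X^0 such that y ↦ dim
X_y^0 is constant on a neighbourhood of f x and the fibre f⁻¹(f x) is geometrically reduced at x
over κ(f x) is open in X. (The published statement asks that the whole component X_{f x}^0 be
geometrically reduced rather than geometrically reduced at x; with that reading the set need not be
open: over the affine line Spec k[t] take X = Spec k[t, s, e]/(e², e(ts − 1)) with the section s = e
= 0, whose fibres are lines carrying an embedded point at s = 1/t for t ≠ 0 and a reduced line at t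
= 0, so that the set would be the closed fibre over t = 0; the published proof, through the openness
of the locus where the fibre is geometrically reduced at the point, gives the pointwise form stated
here.) -/
theorem result {X Y : Scheme.{u}} (f : X ⟶ Y) (g : Y ⟶ X)
    (hg : g ≫ f = 𝟙 Y)
    (hfin : (IsLocallyNoetherian Y ∧ LocallyOfFiniteType f) ∨
      (LocallyOfFinitePresentation f ∧ QuasiCompact f ∧ QuasiSeparated f))
    (hirr : ∀ y : Y, (∀ (K : Type u) [Field K] [Algebra (IsLocalRing.ResidueField (Y.presheaf.stalk y)) K],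
        IsIrreducible ((FBase.bcπ (f.fiberToSpecResidueField y) K ≫ f.fiberι y).base ⁻¹' connectedComponentIn (f.base ⁻¹' {y}) (g.base y)))) :
    IsOpen {x : X | x ∈ MoreMor.sectionComponents f g ∧ (∃ V ∈ nhds (f.base x), ∀ z ∈ V, topologicalKrullDim ↥(connectedComponentIn (f.base ⁻¹' {z}) (g.base z)) = topologicalKrullDim ↥(connectedComponentIn (f.base ⁻¹' {(f.base x)}) (g.base (f.base x)))) ∧
      FBase.IsGeomReducedAt (f.fiberToSpecResidueField (f.base x)) (f.asFiber x)} := by
  have hft : LocallyOfFiniteType f := by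
    rcases hfin with ⟨-, h⟩ | ⟨h, -, -⟩
    · exact h
    · infer_instance
  have hfp : LocallyOfFinitePresentation f := by
    rcases hfin with ⟨h, -⟩ | ⟨h, -, -⟩
    · exact E4O.locallyOfFinitePresentation_of_isLocallyNoetherian f
    · exact h
  have hirr' : ∀ y, E4O.GeomIrredComp f g y := fun y K _ _ => hirr y K
  rw [isOpen_iff_mem_nhds]
  rintro x ⟨hx, ⟨V, hV, hc⟩, hred⟩
  have hVy : f x ∈ interior V := mem_interior_iff_mem_nhds.mpr hV
  have hdim : ∀ z ∈ interior V, FlatMor.fibreDimAt f (g z) = FlatMor.fibreDimAt f (g (f x)) := fun z hz => by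
    rw [← E4O.dim_component_eq_fibreDimAt f g hg (hirr' z).isIrreducible,
      ← E4O.dim_component_eq_fibreDimAt f g hg (hirr' (f x)).isIrreducible]
    exact hc z (interior_subset hz)
  obtain ⟨Y₀, i, _, _, hi⟩ := E4O.exists_reductionBase Y
  let p := Limits.pullback.fst f i
  let f₀ := Limits.pullback.snd f i
  have hsq : IsPullback p f₀ f i := IsPullback.of_hasPullback f i
  let g₀ : Y₀ ⟶ Limits.pullback f i := Limits.pullback.lift (i ≫ g) (𝟙 _) (by
    rw [Category.assoc, hg, Category.comp_id, Category.id_comp])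
  have hg₀ : g₀ ≫ f₀ = 𝟙 _ := Limits.pullback.lift_snd _ _ _
  have hgp : g₀ ≫ p = i ≫ g := Limits.pullback.lift_fst _ _ _
  have hsurj : Function.Surjective p := fun z => by
    obtain ⟨w, hw⟩ := hi (f z)
    obtain ⟨a, ha, -⟩ := E4O.exists_of_isPullback hsq z w hw.symm
    exact ⟨a, ha⟩
  have hopenp : IsOpenMap p := (p.isClosedEmbedding.isEmbedding.toHomeomorphOfSurjective hsurj).isOpenMap
  obtain ⟨x₀, rfl⟩ := hsurj x
  have hy : i (f₀ x₀) = f (p x₀) := by
    rw [← Scheme.Hom.comp_apply, ← hsq.w, Scheme.Hom.comp_apply]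
  have hdim₀ : ∀ z ∈ i ⁻¹' interior V, FlatMor.fibreDimAt f₀ (g₀ (f₀ x₀)) ≤ FlatMor.fibreDimAt f₀ (g₀ z) :=
    fun z hz => by
      have hp : ∀ a, p (g₀ a) = g (i a) := fun a => by
        rw [← Scheme.Hom.comp_apply, hgp, Scheme.Hom.comp_apply]
      rw [FibDim94.fibreDimAt_eq_of_isPullback hsq, FibDim94.fibreDimAt_eq_of_isPullback hsq, hp, hp, hy, hdim _ hz]
  have hO₀ : IsOpen (i ⁻¹' interior V) := isOpen_interior.preimage i.continuous
  have hy₀ : f₀ x₀ ∈ i ⁻¹' interior V := by rw [Set.mem_preimage, hy]; exact hVy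
  have hsc := GeomCount24.sectionComponents_baseChange f g hg f₀ p i hsq g₀ hg₀ hgp
  have hx₀ : x₀ ∈ MoreMor.sectionComponents f₀ g₀ := hsc.ge hx
  have hirr₀ : E4O.StableIrredAt f₀ g₀ (f₀ x₀) := ((hirr' _).stableIrredAt hg).baseChange hsq hgp hy
  have hred₀ := (E4O.isGeomReducedAt_fibre_iff_of_isPullback hsq x₀).2 hred
  obtain ⟨hX0, hflat⟩ : MoreMor.sectionComponents f g ∈ nhds (p x₀) ∧ (f₀.stalkMap x₀).hom.Flat := by
    rcases hfin with ⟨hN, -⟩ | ⟨-, hq, hs⟩
    · have : IsLocallyNoetherian Y₀ := LocallyOfFiniteType.isLocallyNoetherian i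
      exact ⟨mem_interior_iff_mem_nhds.mp (E4O.mem_interior_of_dim_const f g hg hirr' hx
          (fun z hz => (hdim z (hz.mem_open isOpen_interior hVy)).ge) hred),
        E4O.flat_stalkMap_of_dim_const f₀ g₀ hg₀ hx₀ hirr₀
          (fun z hz => hdim₀ z (hz.mem_open hO₀ hy₀)) hred₀⟩
    · refine ⟨?_, E4O.flat_stalkMap_of_dim_const_fp f₀ g₀ hg₀ hx₀ hirr₀ hO₀ hy₀ hdim₀ hred₀⟩
      have h := mem_interior_iff_mem_nhds.mp
        (E4O.mem_interior_of_dim_const_fp f₀ g₀ hg₀ hx₀ hirr₀ hO₀ hy₀ hdim₀ hred₀)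
      rw [hsc] at h
      exact Filter.mem_of_superset (hopenp.image_mem_nhds h) (Set.image_preimage_subset _ _)
  have hgood := (hopenp _ (S4963.result f₀)).mem_nhds ⟨x₀, ⟨hflat, hred₀⟩, rfl⟩
  refine Filter.mem_of_superset (Filter.inter_mem (Filter.inter_mem hX0
    ((isOpen_interior.preimage f.continuous).mem_nhds hVy)) hgood) ?_
  rintro z ⟨⟨hz0, hzV⟩, z₀, ⟨-, hz₀⟩, rfl⟩
  refine ⟨hz0, ⟨interior V, isOpen_interior.mem_nhds hzV, fun w hw => ?_⟩,
    (E4O.isGeomReducedAt_fibre_iff_of_isPullback hsq z₀).1 hz₀⟩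
  exact (hc w (interior_subset hw)).trans (hc _ (interior_subset hzV)).symm


end Groth.Agent.S5928
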