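import Groth.Statements.S5932
import Groth.Agent.E4O.GeomRkEquidim
-- import your own Groth.Agent.* helpers here

set_option autoImplicit false
open CategoryTheory AlgebraicGeometry
universe u
open EGA43

namespace Groth.Agent.S5932

/-- Let f : X ⟶ Y be a proper, flat morphism of finite presentation and k ≥ 1 a natural number. The set
of points y of Y such that the fibre X_y satisfies the geometric condition (R_k) (for every finite
field extension K of κ(y), every local ring of the base change of X_y to K satisfies (R_k)), is
equidimensional at each of its points (every local ring of X_y has all quotients by minimal primes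
of the same dimension) and has no embedded associated cycle (every associated prime of every local
ring of X_y is minimal), is open in Y. -/
theorem result {X Y : Scheme.{u}} (f : X ⟶ Y) [IsProper f]
    [Flat f] [LocallyOfFinitePresentation f] (k : ℕ) (hk : 1 ≤ k) :
    IsOpen {y : Y | ∀ x : ↥(f.fiber y), (∀ (K : Type u) [Field K] [Algebra (IsLocalRing.ResidueField (Y.presheaf.stalk y)) K],
        Module.Finite (IsLocalRing.ResidueField (Y.presheaf.stalk y)) K →
        ∀ x' : ↥(FBase.bc (f.fiberToSpecResidueField y) K),
          (FBase.bcπ (f.fiberToSpecResidueField y) K).base x' = x →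
          LocCoh.HasRk k ((FBase.bc (f.fiberToSpecResidueField y) K).presheaf.stalk x')) ∧
      EGA4.IsEquidim ↑((f.fiber y).presheaf.stalk x) ∧ (∀ p ∈ associatedPrimes ↑((f.fiber y).presheaf.stalk x) ↑((f.fiber y).presheaf.stalk x), p ∈ minimalPrimes ↑((f.fiber y).presheaf.stalk x))} := by
  show IsOpen {y : Y | ∀ x : ↥(f.fiber y), E4O.GeomRkEquidim.Good f k y x}
  have heq : {y : Y | ∀ x : ↥(f.fiber y), E4O.GeomRkEquidim.Good f k y x} =
      (f '' {x : X | E4O.GeomRkEquidim.Good f k (f x) (f.asFiber x)}ᶜ)ᶜ := by
    ext y
    constructor
    · rintro h ⟨x, hx, rfl⟩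
      exact hx (h (f.asFiber x))
    · intro h x
      rw [E4O.GeomRkEquidim.good_iff_asFiber]
      by_contra hx
      exact h ⟨f.fiberι y x, hx, E4O.apply_fiberι f y x⟩
  rw [heq]
  exact (f.isClosedMap _ (E4O.GeomRkEquidim.isOpen_good f k).isClosed_compl).isOpen_compl


end Groth.Agent.S5932
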