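import Groth.Statements.S5933
import Groth.Agent.E4O.GeomNormalFinite
-- import your own Groth.Agent.* helpers here

set_option autoImplicit false
open CategoryTheory AlgebraicGeometry
universe u
open EGA43

namespace Groth.Agent.S5933

/-- Let f : X ⟶ Y be a proper, flat morphism of finite presentation. The set of points y of Y whose
fibre X_y is geometrically normal over κ(y) — for every point x of X_y, every finite field extension
K of κ(y) and every point x' over x of the base change of X_y to K, the local ring at x' is an
integrally closed domain — is open in Y. -/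
theorem result {X Y : Scheme.{u}} (f : X ⟶ Y) [IsProper f] [Flat f]
    [LocallyOfFinitePresentation f] :
    IsOpen {y : Y | ∀ x : ↥(f.fiber y), (∀ (K : Type u) [Field K] [Algebra (IsLocalRing.ResidueField (Y.presheaf.stalk y)) K],
        Module.Finite (IsLocalRing.ResidueField (Y.presheaf.stalk y)) K →
        ∀ x' : ↥(FBase.bc (f.fiberToSpecResidueField y) K),
          (FBase.bcπ (f.fiberToSpecResidueField y) K).base x' = x →
          IsDomain ((FBase.bc (f.fiberToSpecResidueField y) K).presheaf.stalk x') ∧
            IsIntegrallyClosed ((FBase.bc (f.fiberToSpecResidueField y) K).presheaf.stalk x'))} := by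
  show IsOpen {y : Y | ∀ x : ↥(f.fiber y), E4O.GeomNormalFinite.GeomNormalAt f y x}
  have heq : {y : Y | ∀ x : ↥(f.fiber y), E4O.GeomNormalFinite.GeomNormalAt f y x} =
      (f '' {x : X | E4O.GeomNormalFinite.GeomNormalAt f (f x) (f.asFiber x)}ᶜ)ᶜ := by
    ext y
    constructor
    · rintro h ⟨x, hx, rfl⟩
      exact hx (h (f.asFiber x))
    · intro h x
      rw [E4O.GeomNormalFinite.geomNormalAt_iff_asFiber]
      by_contra hx
      exact h ⟨f.fiberι y x, hx, E4O.apply_fiberι f y x⟩
  rw [heq]
  exact (f.isClosedMap _ (E4O.GeomNormalFinite.isOpen_geomNormalAt f).isClosed_compl).isOpen_compl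


end Groth.Agent.S5933
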