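import Groth.Statements.S5936
import Groth.Agent.FlatStage64.ProjDim

set_option autoImplicit false
universe u
open TensorProduct CategoryTheory
open EGA43

attribute [local instance] HasDerivedCategory.standard

namespace Groth.Agent.S5936

/-- Let A be a commutative ring, B a finitely presented A-algebra which is flat as an A-module, and M a
finitely presented B-module which is flat as an A-module. Then the projective dimension of M as a
B-module equals its Tor-dimension, the least n such that Tor_i^B(M, N) = 0 for every i > n and every
B-module N. (Both sides are valued in WithBot ℕ∞, with the zero module of dimension ⊥; Tor_i^B(M, −)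
is the i-th left derived functor of M ⊗_B −. In general only Tor-dimension ≤ projective dimension
holds.) -/
theorem result (A B M : Type u) [CommRing A] [CommRing B] [Algebra A B]
    [Algebra.FinitePresentation A B] [Module.Flat A B] [AddCommGroup M] [Module B M] [Module A M]
    [IsScalarTower A B M] [Module.FinitePresentation B M] [Module.Flat A M] :
    projectiveDimension (ModuleCat.of B M) =
      sInf {n : WithBot ℕ∞ | ∀ i : ℕ, n < i → ∀ N : ModuleCat.{u} B,
        Limits.IsZero (((Tor (ModuleCat.{u} B) i).obj (ModuleCat.of B M)).obj N)} := by
  classical
  obtain ⟨D, B₁, _, _, _, _, _, _, _, _, hN, hfl, hp, hm⟩ := FlatStage64.exists_flat_model A B M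
  refine congrArg sInf (Set.ext fun n => ⟨fun h i hi N => ?_, fun h i hi => ?_⟩)
  · have hd := h i hi
    rcases i with _ | d
    · haveI := ModuleCat.subsingleton_of_isZero ((hasProjectiveDimensionLT_zero_iff_isZero (X := ModuleCat.of B M)).1 hd)
      haveI : Subsingleton M := this
      exact FlatStage64.isZero_tor_of_subsingleton M 0 N
    · exact ModuleCat.isZero_iff_subsingleton.2
        (((DR39.hasTorDimLE_iff M d).2 (DR39.ta_inD_of_projDim d M hd)) N (d + 1) (Nat.lt_succ_self d))
  · rcases i with _ | d
    · exact (hasProjectiveDimensionLT_zero_iff_isZero (X := ModuleCat.of B M)).2 (ModuleCat.isZero_iff_subsingleton.2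
        (FlatStage64.subsingleton_of_isZero_tor_zero M (h 0 hi _)))
    · haveI := hN
      haveI := hfl
      haveI := hp
      refine FlatStage64.hasProjectiveDimensionLT_of_model (D := D) (A := A) (B₁ := B₁) d M hm
        ((DR39.hasTorDimLE_iff M d).1 fun N _ _ p hp' => ?_)
      exact ModuleCat.subsingleton_of_isZero (h p (lt_of_lt_of_le hi (by exact_mod_cast hp')) (ModuleCat.of B N))

end Groth.Agent.S5936
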