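import Groth.Statements.S5949
import Groth.Agent.SchBasics.NormalizationChar

set_option autoImplicit false
universe u
open CategoryTheory AlgebraicGeometry
open Unram17

namespace Groth.Agent.S5949

/-- Let X be an integral scheme, X' ⟶ X its normalization (the normalization of X in its function
field), and f : Y ⟶ X a morphism of schemes. Then there is an isomorphism Y ≅ X' over X if and only
if: every local ring of Y is an integrally closed domain, f is an integral morphism, and f is
birational, i.e. Y is irreducible, the fibre of f over the generic point of X consists of the
generic point of Y alone, and the induced map of local rings at the generic points is an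
isomorphism. (The published statement allows X reduced with locally finitely many irreducible
components, the normalization then being taken componentwise; this row states the case of an
integral X. The quasi-compactness and quasi-separatedness binders on the generic point always hold
and only serve to form the normalization.) -/
theorem result (X : Scheme.{u}) [IsIntegral X]
    [QuasiCompact (X.fromSpecStalk (genericPoint X))] [QuasiSeparated (X.fromSpecStalk (genericPoint X))]
    {Y : Scheme.{u}} (f : Y ⟶ X) :
    (∃ e : Y ≅ Curv2.normalization X, e.hom ≫ Curv2.normalizationι X = f) ↔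
      Pi1.IsNormalScheme Y ∧ IsIntegralHom f ∧
        ∃ _ : IrreducibleSpace ↥Y, f.base ⁻¹' {genericPoint X} = {genericPoint Y} ∧
          IsIso (f.stalkMap (genericPoint Y)) := by
  obtain ⟨hint, hnorm, hνint, hfib, hiso⟩ := SchBasics.normalization_birational X
  let ν := Curv2.normalizationι X
  have hν0 : ν (genericPoint (Curv2.normalization X)) = genericPoint X :=
    hfib.ge (Set.mem_singleton _)
  constructor
  · rintro ⟨e, rfl⟩
    have : Nonempty Y := ⟨e.inv (genericPoint (Curv2.normalization X))⟩
    have : IsIntegral Y := isIntegral_of_isOpenImmersion e.hom
    have he : e.hom (genericPoint Y) = genericPoint (Curv2.normalization X) :=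
      genericPoint_eq_of_isOpenImmersion e.hom
    refine ⟨SchBasics.isNormalScheme_of_isOpenImmersion e.hom fun x => hnorm _, inferInstance,
      inferInstance, ?_, ?_⟩
    · refine Set.Subset.antisymm (fun y hy => ?_) ?_
      · have h1 : e.hom y ∈ ν.base ⁻¹' {genericPoint X} := hy
        rw [hfib] at h1
        exact e.hom.isOpenEmbedding.injective ((Set.mem_singleton_iff.1 h1).trans he.symm)
      · rintro _ rfl
        show ν (e.hom (genericPoint Y)) = genericPoint X
        rw [he, hν0]
    · rw [Scheme.Hom.stalkMap_comp]
      have : IsIso ((Curv2.normalizationι X).stalkMap (e.hom (genericPoint Y))) := by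
        rw [he]; exact hiso
      exact IsIso.comp_isIso' this inferInstance
  · rintro ⟨hY, hf, hirr, hfibY, hisoY⟩
    have : IsReduced Y := by
      have : ∀ y : Y, _root_.IsReduced (Y.presheaf.stalk y) := fun y => by
        have := (hY y).1
        infer_instance
      exact isReduced_of_isReduced_stalk Y
    have : IsIntegral Y := isIntegral_of_irreducibleSpace_of_isReduced _
    obtain ⟨g, hg⟩ := SchBasics.exists_factor_fromSpecStalk f (genericPoint Y) (genericPoint X)
      (hfibY.ge (Set.mem_singleton _))
    let φ : Curv2.normalization X ⟶ Y :=
      (X.fromSpecStalk (genericPoint X)).normalizationDesc g f hg.symm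
    have hφf : φ ≫ f = ν := Scheme.Hom.normalizationDesc_comp _ g f hg.symm
    have : IsIntegralHom φ :=
      inferInstanceAs (IsIntegralHom ((X.fromSpecStalk (genericPoint X)).normalizationDesc g f hg.symm))
    have hφ : φ (genericPoint (Curv2.normalization X)) = genericPoint Y := by
      have h1 : φ (genericPoint (Curv2.normalization X)) ∈ f.base ⁻¹' {genericPoint X} := by
        show f (φ _) = genericPoint X
        rw [← Scheme.Hom.comp_apply, hφf, hν0]
      rw [hfibY] at h1
      exact h1
    have h2 : IsIso ((φ ≫ f).stalkMap (genericPoint (Curv2.normalization X))) := by
      rw [hφf]; exact hiso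
    rw [Scheme.Hom.stalkMap_comp] at h2
    have : IsIso (f.stalkMap (φ (genericPoint (Curv2.normalization X)))) := by
      rw [hφ]; exact hisoY
    have : IsIso (φ.stalkMap (genericPoint (Curv2.normalization X))) :=
      @IsIso.of_isIso_comp_left _ _ _ _ _ (f.stalkMap (φ (genericPoint (Curv2.normalization X))))
        (φ.stalkMap (genericPoint (Curv2.normalization X))) this h2
    have := SchBasics.isIso_of_integral_birational hY φ hφ
    refine ⟨(asIso φ).symm, ?_⟩
    show inv φ ≫ ν = f
    rw [IsIso.inv_comp_eq, hφf]

end Groth.Agent.S5949
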