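import Groth.Statements.S5950
import Groth.Agent.S5949
import Groth.Agent.SchBasics.NormalizationChar

set_option autoImplicit false
universe u
open CategoryTheory AlgebraicGeometry
open Unram17

namespace Groth.Agent.S5950

/-- Let X be an integral scheme which has a nonempty (hence dense) open subset at whose points the local
rings are integrally closed, let X' ⟶ X be its normalization, and let f : Y ⟶ X be a morphism of
schemes. Then there is an isomorphism Y ≅ X' over X if and only if: every local ring of Y is an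
integrally closed domain, f is an integral morphism, and there is a dense open subset U of X whose
preimage is dense in Y and such that the restriction f⁻¹(U) ⟶ U of f is an isomorphism. (The
published statement allows X reduced with locally finitely many irreducible components and a dense
normal open subset; this row states the case of an integral X. The quasi-compactness and
quasi-separatedness binders on the generic point always hold and only serve to form the
normalization.) -/
theorem result (X : Scheme.{u}) [IsIntegral X]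
    [QuasiCompact (X.fromSpecStalk (genericPoint X))] [QuasiSeparated (X.fromSpecStalk (genericPoint X))]
    (hV : ∃ V : X.Opens, (V : Set ↥X).Nonempty ∧ ∀ x ∈ V, IsIntegrallyClosed (X.presheaf.stalk x))
    {Y : Scheme.{u}} (f : Y ⟶ X) :
    (∃ e : Y ≅ Curv2.normalization X, e.hom ≫ Curv2.normalizationι X = f) ↔
      Pi1.IsNormalScheme Y ∧ IsIntegralHom f ∧
        ∃ U : X.Opens, Dense (U : Set ↥X) ∧ Dense ((f ⁻¹ᵁ U : Y.Opens) : Set ↥Y) ∧ IsIso (f ∣_ U) := by
  obtain ⟨hint, hnorm, hνint, hfib, hiso⟩ := SchBasics.normalization_birational X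
  let ν := Curv2.normalizationι X
  have hν0 : ν (genericPoint (Curv2.normalization X)) = genericPoint X :=
    hfib.ge (Set.mem_singleton _)
  constructor
  · rintro ⟨e, rfl⟩
    have hN := (S5949.result X (e.hom ≫ ν)).1 ⟨e, rfl⟩
    obtain ⟨hY, hf, hirr, hfibY, -⟩ := hN
    obtain ⟨V, hVne, hV⟩ := hV
    have hηV : genericPoint X ∈ V :=
      ((genericPoint_spec X).mem_open_set_iff V.isOpen).mpr (by simpa using hVne)
    refine ⟨hY, hf, V, IsOpen.dense V.isOpen hVne,
      IsOpen.dense (TopologicalSpace.Opens.isOpen _) ⟨genericPoint Y, ?_⟩, ?_⟩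
    · show (e.hom ≫ ν) (genericPoint Y) ∈ V
      rw [show (e.hom ≫ ν) (genericPoint Y) = genericPoint X from hfibY.ge (Set.mem_singleton _)]
      exact hηV
    · have : Nonempty V := ⟨⟨_, hηV⟩⟩
      have hηN : genericPoint (Curv2.normalization X) ∈ ν ⁻¹ᵁ V := by
        show ν _ ∈ V
        rw [hν0]; exact hηV
      have : Nonempty (ν ⁻¹ᵁ V).toScheme := ⟨⟨_, hηN⟩⟩
      have : IsIntegral (ν ⁻¹ᵁ V).toScheme := isIntegral_of_isOpenImmersion (ν ⁻¹ᵁ V).ι
      have : Nonempty V.toScheme := ⟨⟨_, hηV⟩⟩
      have : IsIntegral V.toScheme := isIntegral_of_isOpenImmersion V.ι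
      have hVn : Pi1.IsNormalScheme V.toScheme :=
        SchBasics.isNormalScheme_of_isOpenImmersion V.ι fun x => ⟨inferInstance, hV _ x.2⟩
      have : IsIntegralHom (ν ∣_ V) := IsZariskiLocalAtTarget.restrict hνint V
      have hι : (ν ⁻¹ᵁ V).ι (genericPoint (ν ⁻¹ᵁ V).toScheme) =
          genericPoint (Curv2.normalization X) := genericPoint_eq_of_isOpenImmersion _
      have hgen : (ν ∣_ V) (genericPoint (ν ⁻¹ᵁ V).toScheme) = genericPoint V.toScheme := by
        apply V.ι.isOpenEmbedding.injective
        rw [← Scheme.Hom.comp_apply, morphismRestrict_ι, Scheme.Hom.comp_apply, hι, hν0,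
          genericPoint_eq_of_isOpenImmersion]
      have : IsIso (ν.stalkMap ((ν ⁻¹ᵁ V).ι (genericPoint (ν ⁻¹ᵁ V).toScheme))) := by
        rw [hι]; exact hiso
      have : IsIso ((ν ∣_ V).stalkMap (genericPoint (ν ⁻¹ᵁ V).toScheme)) := by
        have h1 : IsIso (((ν ∣_ V) ≫ V.ι).stalkMap (genericPoint (ν ⁻¹ᵁ V).toScheme)) := by
          rw [morphismRestrict_ι, Scheme.Hom.stalkMap_comp]
          exact IsIso.comp_isIso' this inferInstance
        rw [Scheme.Hom.stalkMap_comp] at h1
        exact @IsIso.of_isIso_comp_left _ _ _ _ _ (V.ι.stalkMap ((ν ∣_ V) (genericPoint (ν ⁻¹ᵁ V).toScheme))) _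
          inferInstance h1
      have := SchBasics.isIso_of_integral_birational hVn (ν ∣_ V) hgen
      show IsIso ((e.hom ≫ ν) ∣_ V)
      rw [morphismRestrict_comp]
      exact IsIso.comp_isIso' (IsZariskiLocalAtTarget.restrict (P := MorphismProperty.isomorphisms Scheme)
        (inferInstanceAs (IsIso e.hom)) (ν ⁻¹ᵁ V)) this
  · rintro ⟨hY, hf, U, hU, hUY, hUiso⟩
    refine (S5949.result X f).2 ⟨hY, hf, ?_⟩
    have hηU : genericPoint X ∈ U := by
      obtain ⟨x, hx⟩ := hU.nonempty
      exact ((genericPoint_spec X).specializes trivial).mem_open U.2 hx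
    let W := f ⁻¹ᵁ U
    let h := Scheme.homeoOfIso (asIso (f ∣_ U))
    have : Nonempty U := ⟨⟨_, hηU⟩⟩
    have : Nonempty U.toScheme := ⟨⟨_, hηU⟩⟩
    have : IsIntegral U.toScheme := isIntegral_of_isOpenImmersion U.ι
    have : IrreducibleSpace W.toScheme :=
      (irreducibleSpace_def _).mpr (by
        simpa [h.symm.surjective.range_eq] using
          (IrreducibleSpace.isIrreducible_univ U.toScheme).image _ h.symm.continuous.continuousOn)
    have hirr : IrreducibleSpace Y := by
      have hd : DenseRange W.ι := by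
        show Dense (Set.range W.ι)
        rw [Scheme.Opens.range_ι]
        exact hUY
      rw [irreducibleSpace_def]
      convert ((IrreducibleSpace.isIrreducible_univ W.toScheme).image _ W.ι.continuous.continuousOn).closure
      rw [Set.image_univ]; exact hd.closure_range.symm
    have hηW : genericPoint Y ∈ W := by
      obtain ⟨x, hx⟩ := hUY.nonempty
      exact ((genericPoint_spec Y).specializes trivial).mem_open W.2 hx
    have hpre : ∀ y : Y, f y = genericPoint X → ∃ w : W, (w : Y) = y ∧ (f ∣_ U) w = ⟨genericPoint X, hηU⟩ :=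
      fun y hy => ⟨⟨y, show f y ∈ U from hy.symm ▸ hηU⟩, rfl, Subtype.ext ((morphismRestrict_base_coe f U _).trans hy)⟩
    obtain ⟨w₀, hw₀⟩ := h.surjective ⟨genericPoint X, hηU⟩
    have hw₀f : f w₀.1 = genericPoint X := (morphismRestrict_base_coe f U w₀).symm.trans (congrArg Subtype.val hw₀)
    have hgen : f (genericPoint Y) = genericPoint X :=
      ((genericPoint_specializes w₀.1).map f.continuous |>.trans (hw₀f ▸ specializes_rfl)).antisymm
        (genericPoint_specializes _) |>.eq
    refine ⟨hirr, Set.Subset.antisymm (fun y hy => ?_) (by rintro _ rfl; exact hgen), ?_⟩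
    · obtain ⟨w, rfl, hw⟩ := hpre y hy
      obtain ⟨w', hw'1, hw'⟩ := hpre _ hgen
      have : w = w' := h.injective (hw.trans hw'.symm)
      rw [this]
      exact hw'1
    · let η : W.toScheme := ⟨genericPoint Y, hηW⟩
      have h1 : IsIso (((f ∣_ U) ≫ U.ι).stalkMap η) := by
        rw [Scheme.Hom.stalkMap_comp]
        exact IsIso.comp_isIso' (inferInstanceAs (IsIso (U.ι.stalkMap _)))
          (inferInstanceAs (IsIso ((f ∣_ U).stalkMap η)))
      rw [morphismRestrict_ι, Scheme.Hom.stalkMap_comp] at h1
      exact @IsIso.of_isIso_comp_right _ _ _ _ _ (f.stalkMap (genericPoint Y)) ((f ⁻¹ᵁ U).ι.stalkMap η)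
        (inferInstanceAs (IsIso ((f ⁻¹ᵁ U).ι.stalkMap η))) h1

end Groth.Agent.S5950
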