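import Groth.Statements.S5973
import Groth.Agent.LimTop61.IdealLfp
import Groth.Agent.Amp73.Criteria
import Groth.Agent.QCPull72.Sections
-- import your own Groth.Agent.* helpers here

set_option autoImplicit false
universe u
open CategoryTheory CategoryTheory.Limits AlgebraicGeometry TopologicalSpace Opposite
open Nrm16

namespace Groth.Agent.S5973

/-- Let f : Y ⟶ X be a closed immersion which is locally of finite presentation. Then for every n the
n-th graded piece Gr_n(f) = I^n/I^(n+1) of the ideal of f, as an O_Y-module, is quasi-coherent of
finite type. (The published statement allows any immersion locally of finite presentation; this row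
states the case of a closed immersion.) -/
theorem result {Y X : Scheme.{u}} (f : Y ⟶ X) [IsClosedImmersion f]
    [LocallyOfFinitePresentation f] (n : ℕ) :
    Coh.IsCoh (PrinPart.grMod f n) := by
  haveI : LocallyOfFinitePresentation f.ker.subschemeι := by
    have h : f.ker.subschemeι = inv f.toImage ≫ f := by
      rw [IsIso.eq_inv_comp]; exact f.toImage_imageι
    rw [h]
    infer_instance
  have hI : BlowUp.IsFiniteTypeIdeal (f.ker ^ n) := fun U =>
    Submodule.FG.pow (Groth.Agent.LimTop61.fg_ideal_of_lfp f.ker U) n
  have hc := Groth.Agent.Amp73.isCoh_idealMod hI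
  haveI : (ClSub.idealMod (f.ker ^ n)).IsQuasicoherent := hc.1
  haveI : (ClSub.idealMod (f.ker ^ n)).IsFiniteType := hc.2
  exact ⟨Groth.Agent.QCPull72.isQuasicoherent_pullback f _, Groth.Agent.QCPull72.isFiniteType_pullback f _⟩

end Groth.Agent.S5973
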