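import Groth.Statements.S5977
import Groth.Agent.PP93.Ext
-- import your own Groth.Agent.* helpers here

set_option autoImplicit false
universe u
open CategoryTheory CategoryTheory.Limits AlgebraicGeometry TopologicalSpace Opposite
open Nrm16

namespace Groth.Agent.S5977

/-- Let f : Y ⟶ Z be a morphism and j : X ⟶ Y a closed immersion, and let φ : j^* P^n_{Y/Z} ⟶ P^n_{X/Z}
be the canonical O_X-linear map of sheaves of principal parts of order n, the one sending the
pullback of d^n b to d^n (j♯ b). Then φ is an epimorphism. (The published statement also identifies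
the kernel of φ as the ideal generated by the pullback of d^n of the ideal of j; this row states the
surjectivity.) -/
theorem result {X Y Z : Scheme.{u}} (f : Y ⟶ Z) (j : X ⟶ Y) [IsClosedImmersion j] (n : ℕ)
    (φ : (Scheme.Modules.pullback j).obj (PrinPart.P f n) ⟶ PrinPart.P (j ≫ f) n)
    (hφ : PrinPart.IsPMap f (j ≫ f) j n φ) :
    Epi φ := by
  constructor
  intro G a b hab
  refine Groth.Agent.PP93.hom_ext_of_dP (j ≫ f) n _ G a b fun U t => ?_
  refine Groth.Agent.QC70.section_ext G _ _ fun x hx => ?_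
  obtain ⟨W₀, hW₀, hWU⟩ : ∃ W₀ : Y.Opens, (j x ∈ W₀) ∧ j ⁻¹ᵁ W₀ ≤ U := by
    obtain ⟨W, hW, hWe⟩ := j.isClosedEmbedding.isInducing.isOpen_iff.1 U.2
    exact ⟨⟨W, hW⟩, (Set.ext_iff.1 hWe x).2 hx, fun z hz => (Set.ext_iff.1 hWe z).1 hz⟩
  obtain ⟨_, ⟨(W : Y.Opens), hW, rfl⟩, hxW, hWle⟩ :=
    Y.isBasis_affineOpens.exists_subset_of_mem_open (show j x ∈ (W₀ : Set Y) from hW₀) W₀.2
  have hle : j ⁻¹ᵁ W ≤ U := (j.preimage_mono hWle).trans hWU
  refine ⟨j ⁻¹ᵁ W, hle, hxW, ?_⟩
  rw [← Groth.Agent.QC70.app_res a, ← Groth.Agent.QC70.app_res b]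
  rw [show Groth.Agent.QC70.res (PrinPart.P (j ≫ f) n) hle (PrinPart.dP (j ≫ f) n (Coh.structureModule X) U t) =
    PrinPart.dP (j ≫ f) n (Coh.structureModule X) (j ⁻¹ᵁ W) ((Coh.structureModule X).presheaf.map (homOfLE hle).op t) from
    (PrinPart.dP_map (j ≫ f) n (Coh.structureModule X) hle t).symm]
  generalize (Coh.structureModule X).presheaf.map (homOfLE hle).op t = t'
  obtain ⟨c, hc⟩ := Scheme.Hom.app_surjective j W hW (OmegaSh.fnSect X _ t')
  have h := congr(Scheme.Modules.Hom.app $hab (j ⁻¹ᵁ W)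
    (OmegaSh.pullSect j (PrinPart.P f n) W (PrinPart.dn f n W c)))
  simp only [Scheme.Modules.Hom.comp_app, ConcreteCategory.comp_apply] at h
  rw [hφ W c, hc] at h
  exact h

end Groth.Agent.S5977
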