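import Groth.Statements.S5991
import Groth.Agent.OmegaHat14.Exact

set_option autoImplicit false
universe u
open scoped TensorProduct
open EGA418

namespace Groth.Agent.S5991

/-- Let k be a field, R and S complete Noetherian local k-algebras such that the module of differentials
of the residue field of S over k is finite-dimensional, and let S be a finite R-algebra through a
k-algebra homomorphism R → S. Write m for the maximal ideal of S and complete m-adically. Then the
S-module Ω_{S/R} is m-adically complete (it is its own completion), and the sequence of completed
modules (S ⊗_R Ω_{R/k})^ ⟶ (Ω_{S/k})^ ⟶ (Ω_{S/R})^ ⟶ 0, induced by the canonical maps S ⊗_R Ω_{R/k}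
⟶ Ω_{S/k} ⟶ Ω_{S/R}, is exact: the second map is surjective and its kernel is the image of the
first. -/
theorem result (k R S : Type u) [Field k] [CommRing R] [IsNoetherianRing R]
    [IsLocalRing R] [Algebra k R] [IsAdicComplete (IsLocalRing.maximalIdeal R) R]
    [CommRing S] [IsNoetherianRing S] [IsLocalRing S] [Algebra k S]
    [IsAdicComplete (IsLocalRing.maximalIdeal S) S] [Algebra R S] [IsScalarTower k R S]
    [Module.Finite R S] [Module.Finite (IsLocalRing.ResidueField S) (Ω[IsLocalRing.ResidueField S⁄k])] :
    IsAdicComplete (IsLocalRing.maximalIdeal S) (Ω[S⁄R]) ∧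
      Function.Surjective (AdicCompletion.map (IsLocalRing.maximalIdeal S) (KaehlerDifferential.map k R S S)) ∧
      LinearMap.range (AdicCompletion.map (IsLocalRing.maximalIdeal S) (KaehlerDifferential.mapBaseChange k R S)) =
        LinearMap.ker (AdicCompletion.map (IsLocalRing.maximalIdeal S) (KaehlerDifferential.map k R S S)) := by
  have hfinq := OmegaHat14.finite_kaehler_quotient (S := S) k
  have hfin := OmegaHat14.finite_adicCompletion_of_finite_quotient (S := S) (Ω[S⁄k])
  have : Algebra.EssFiniteType R S := inferInstance
  exact ⟨SGA3a.isAdicComplete_module_of_finite _,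
    AdicCompletion.map_surjective _ (KaehlerDifferential.map_surjective k R S),
    OmegaHat14.range_map_eq_ker_map _ _ (KaehlerDifferential.exact_mapBaseChange_map k R S)
      (KaehlerDifferential.map_surjective k R S)⟩

end Groth.Agent.S5991
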