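import Groth.Statements.S5995
import Groth.Agent.Unr55.SectionExt

set_option autoImplicit false
universe u
open CategoryTheory AlgebraicGeometry
open Unram

namespace Groth.Agent.S5995

/-- Let Y be a reduced scheme whose irreducible components form a locally finite family and all of whose
local rings are geometrically unibranch, f : X ⟶ Y a separated, locally of finite type, formally
unramified morphism, and u : U ⟶ X a section of f over a dense open U of Y which cannot be extended:
whenever v is a section of f over an open V agreeing with u on U ∩ V, V is contained in U (so U is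
the domain of definition of the rational section defined by u). Then the image u(U) is an open and
closed subset of X. -/
theorem result {X Y : Scheme.{u}} [IsReduced Y]
    (hcomp : LocallyFinite (fun Z : ↥(irreducibleComponents ↥Y) => (Z : Set ↥Y)))
    (f : X ⟶ Y) [IsSeparated f] [LocallyOfFiniteType f] [FormallyUnramified f]
    (U : Y.Opens) (hU : Dense (U : Set ↥Y)) (u : (U : Scheme.{u}) ⟶ X) (hu : u ≫ f = U.ι)
    (hY : ∀ y : Y, CAlg2.IsGeomUnibranch (Y.presheaf.stalk y))
    (hmax : ∀ (V : Y.Opens) (v : (V : Scheme.{u}) ⟶ X), v ≫ f = V.ι →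
      Y.homOfLE (inf_le_left : U ⊓ V ≤ U) ≫ u = Y.homOfLE (inf_le_right : U ⊓ V ≤ V) ≫ v → V ≤ U) :
    IsOpen (Set.range u) ∧ IsClosed (Set.range u) := by
  have := Unr55.SectExt.isOpenImmersion_section f U u hu
  refine ⟨u.isOpenEmbedding.isOpen_range, ?_⟩
  rw [← closure_subset_iff_isClosed]
  intro x hx
  obtain ⟨V, v, hyV, hv, hagree⟩ :=
    Unr55.SectExt.exists_section_nhd f U u hu hcomp hU (f x) (hY _) x rfl hx
  have hyU : f x ∈ U := hmax V v hv hagree hyV
  let X₀ : X.Opens := f ⁻¹ᵁ U
  let s : (U : Scheme.{u}) ⟶ X₀ := IsOpenImmersion.lift X₀.ι u (by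
    rintro _ ⟨t, rfl⟩
    rw [Scheme.Opens.range_ι]
    show f (u t) ∈ U
    rw [← Scheme.Hom.comp_apply, hu]
    exact t.2)
  have hs : s ≫ X₀.ι = u := IsOpenImmersion.lift_fac _ _ _
  have hsid : s ≫ (f ∣_ U) = 𝟙 _ := by
    rw [← cancel_mono U.ι, Category.assoc, morphismRestrict_ι, reassoc_of% hs, hu, Category.id_comp]
  have hsep : IsSeparated (f ∣_ U) := IsZariskiLocalAtTarget.restrict ‹_› _
  have : IsClosedImmersion (s ≫ (f ∣_ U)) := by rw [hsid]; infer_instance
  have : IsClosedImmersion s := IsClosedImmersion.of_comp s (f ∣_ U)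
  have hc : IsClosed (Set.range s) := s.isClosedMap.isClosed_range
  have hxs : (⟨x, hyU⟩ : (X₀ : Scheme.{u})) ∈ closure (Set.range s) := by
    rw [X₀.ι.isEmbedding.isInducing.closure_eq_preimage_closure_image]
    show x ∈ closure (X₀.ι '' Set.range s)
    rw [← Set.range_comp]
    refine closure_mono ?_ hx
    rintro _ ⟨t, rfl⟩
    exact ⟨t, by rw [← hs]; rfl⟩
  rw [hc.closure_eq] at hxs
  obtain ⟨t, ht⟩ := hxs
  exact ⟨t, by rw [← hs, Scheme.Hom.comp_apply, ht]; rfl⟩

end Groth.Agent.S5995
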