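import Groth.Statements.S5996
import Groth.Agent.Unr55.SectionExt

set_option autoImplicit false
universe u
open CategoryTheory AlgebraicGeometry
open Unram

namespace Groth.Agent.S5996

/-- Let Y be a reduced scheme whose irreducible components form a locally finite family, f : X ⟶ Y a
separated, locally of finite type, formally unramified morphism such that f(T) is closed in Y for
every closed irreducible subset T of X, and u : U ⟶ X a section of f over a dense open U of Y. Then
for every point y of Y whose local ring is geometrically unibranch there are an open V ∋ y and a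
section v : V ⟶ X of f agreeing with u on U ∩ V: the rational section defined by u is defined at
every geometrically unibranch point. -/
theorem result {X Y : Scheme.{u}} [IsReduced Y]
    (hcomp : LocallyFinite (fun Z : ↥(irreducibleComponents ↥Y) => (Z : Set ↥Y)))
    (f : X ⟶ Y) [IsSeparated f] [LocallyOfFiniteType f] [FormallyUnramified f]
    (U : Y.Opens) (hU : Dense (U : Set ↥Y)) (u : (U : Scheme.{u}) ⟶ X) (hu : u ≫ f = U.ι)
    (hcl : ∀ T : Set ↥X, IsClosed T → IsIrreducible T → IsClosed (f '' T))
    (y : Y) (hy : CAlg2.IsGeomUnibranch (Y.presheaf.stalk y)) :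
    ∃ (V : Y.Opens) (v : (V : Scheme.{u}) ⟶ X), y ∈ V ∧ v ≫ f = V.ι ∧
      Y.homOfLE (inf_le_left : U ⊓ V ≤ U) ≫ u = Y.homOfLE (inf_le_right : U ⊓ V ≤ V) ≫ v := by
  obtain ⟨η, hηy, hηmax, -⟩ := Unr55.EtComp.exists_maximal_generization y
  have hηU : η ∈ U := by
    let C₀ := irreducibleComponent η
    have hcl : IsClosed (⋃ C : {C : ↥(irreducibleComponents ↥Y) // η ∉ (C : Set Y)}, (C.1 : Set Y)) :=
      (hcomp.comp_injective Subtype.val_injective).isClosed_iUnion
        fun C => isClosed_of_mem_irreducibleComponents _ C.1.2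
    obtain ⟨t, htY, htU⟩ := hU.inter_open_nonempty _ hcl.isOpen_compl ⟨η, by
      simp only [Set.mem_compl_iff, Set.mem_iUnion, not_exists]; exact fun C => C.2⟩
    obtain ⟨ξ, hξt, hξmax, hξC⟩ := Unr55.EtComp.exists_maximal_generization t
    have hη : η ∈ irreducibleComponent t := by
      by_contra h
      refine htY (Set.mem_iUnion.mpr ?_)
      exact ⟨⟨⟨_, irreducibleComponent_mem_irreducibleComponents t⟩, h⟩, mem_irreducibleComponent⟩
    rw [hξC] at hη
    have := hηmax ξ (specializes_iff_mem_closure.2 hη)
    exact (this ▸ hξt).mem_open U.2 htU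
  have him := hcl (closure {u ⟨η, hηU⟩}) isClosed_closure isIrreducible_singleton.closure
  have hmem : η ∈ f '' closure {u ⟨η, hηU⟩} :=
    ⟨u ⟨η, hηU⟩, subset_closure rfl, by rw [← Scheme.Hom.comp_apply, hu]; rfl⟩
  obtain ⟨x, hx, hxy⟩ := hηy.mem_closed him hmem
  exact Unr55.SectExt.exists_section_nhd f U u hu hcomp hU y hy x hxy
    (closure_mono (Set.singleton_subset_iff.2 (Set.mem_range_self _)) hx)

end Groth.Agent.S5996
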