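import Groth.Statements.S5999
import Groth.Agent.Sga84.Hypersurface
import Mathlib.RingTheory.LocalRing.ResidueField.Ideal
import Mathlib.RingTheory.Etale.Kaehler

set_option autoImplicit false
universe u
open SGA1

namespace Groth.Agent.S5999

open TensorProduct in
theorem result
    (R A : Type u) [CommRing R] [CommRing A] [IsNoetherianRing R] [Algebra R A] [Algebra.FiniteType R A]
    (F : A) (P : Ideal (A ⧸ Ideal.span ({F} : Set A))) [P.IsPrime]
    (hX : Algebra.IsSmoothAt R (P.comap (Ideal.Quotient.mk (Ideal.span ({F} : Set A))))) :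
    letI q : Ideal A := P.comap (Ideal.Quotient.mk (Ideal.span ({F} : Set A)))
    Algebra.IsSmoothAt R P ↔ algebraMap A (Localization.AtPrime q) F = 0 ∨
      (1 : q.ResidueField) ⊗ₜ[A] KaehlerDifferential.D R A F ≠ 0 := by
  let q : Ideal A := P.comap (Ideal.Quotient.mk (Ideal.span ({F} : Set A)))
  let I : Ideal A := Ideal.span {F}
  have : P.LiesOver q := ⟨rfl⟩
  let L := Localization.AtPrime q
  let S := Localization.AtPrime P
  let algLS : Algebra L S := Localization.AtPrime.algebraOfLiesOver q P
  have hmap : ∀ a : A, algebraMap L S (algebraMap A L a) = algebraMap (A ⧸ I) S (Ideal.Quotient.mk I a) :=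
    fun a => Localization.localRingHom_to_map _ _ _ _ a
  have : IsScalarTower A L S := .of_algebraMap_eq fun a => (IsScalarTower.algebraMap_apply A (A ⧸ I) S a).trans (hmap a).symm
  have : IsScalarTower R L S := .of_algebraMap_eq fun a => by
    rw [IsScalarTower.algebraMap_apply R A L, hmap, IsScalarTower.algebraMap_apply R (A ⧸ I) S]
    rfl
  have hsurj : Function.Surjective (algebraMap L S) := fun z => by
    obtain ⟨x, y, rfl⟩ := IsLocalization.exists_mk'_eq P.primeCompl z
    obtain ⟨a, rfl⟩ := Ideal.Quotient.mk_surjective x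
    obtain ⟨y, hy⟩ := y
    obtain ⟨b, rfl⟩ := Ideal.Quotient.mk_surjective y
    refine ⟨IsLocalization.mk' L a (⟨b, fun h => hy h⟩ : q.primeCompl), ?_⟩
    show Localization.localRingHom q P (Ideal.Quotient.mk I) _ (IsLocalization.mk' L a _) = _
    rw [Localization.localRingHom_mk']
  have hker : RingHom.ker (algebraMap L S) = Ideal.span {algebraMap A L F} := by
    refine le_antisymm (fun z hz => ?_) ?_
    · obtain ⟨a, s, rfl⟩ := IsLocalization.exists_mk'_eq q.primeCompl z
      have h0 : algebraMap (A ⧸ I) S (Ideal.Quotient.mk I a) = 0 := by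
        rw [← hmap, ← IsLocalization.mk'_spec L a s, map_mul, RingHom.mem_ker.mp hz, zero_mul]
      obtain ⟨⟨t, ht⟩, hta⟩ := (IsLocalization.map_eq_zero_iff P.primeCompl S _).mp h0
      obtain ⟨t, rfl⟩ := Ideal.Quotient.mk_surjective t
      rw [← map_mul, Ideal.Quotient.eq_zero_iff_mem, Ideal.mem_span_singleton'] at hta
      obtain ⟨c, hc⟩ := hta
      rw [Ideal.mem_span_singleton]
      have hu : IsUnit (algebraMap A L t) := IsLocalization.map_units L (⟨t, fun h => ht h⟩ : q.primeCompl)
      have hus : IsUnit (algebraMap A L s) := IsLocalization.map_units L s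
      rw [← hus.dvd_mul_right, IsLocalization.mk'_spec, ← hu.dvd_mul_left, ← map_mul, ← hc, map_mul]
      exact dvd_mul_left _ _
    · rw [Ideal.span_singleton_le_iff_mem, RingHom.mem_ker, hmap,
        Ideal.Quotient.eq_zero_iff_mem.mpr (Ideal.mem_span_singleton_self F), map_zero]
  have : Algebra.FormallySmooth R L := hX
  have : Algebra.EssFiniteType R L := .comp R A L
  refine (Groth.Agent.Hypersurface84.formallySmooth_iff R L S hsurj _ hker).trans (or_congr Iff.rfl (not_congr ?_))
  let e : q.ResidueField ⊗[L] Ω[L⁄R] ≃ₗ[A] q.ResidueField ⊗[A] Ω[A⁄R] :=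
    ((AlgebraTensorModule.congr (LinearEquiv.refl q.ResidueField q.ResidueField)
      (KaehlerDifferential.tensorKaehlerEquivOfFormallyEtale R A L).symm).trans
      (AlgebraTensorModule.cancelBaseChange A L q.ResidueField q.ResidueField _)).restrictScalars A
  have he : e ((1 : q.ResidueField) ⊗ₜ[L] KaehlerDifferential.D R L (algebraMap A L F)) =
      (1 : q.ResidueField) ⊗ₜ[A] KaehlerDifferential.D R A F := by
    have h : (KaehlerDifferential.tensorKaehlerEquivOfFormallyEtale R A L).symm
        (KaehlerDifferential.D R L (algebraMap A L F)) = 1 ⊗ₜ KaehlerDifferential.D R A F := by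
      rw [LinearEquiv.symm_apply_eq]
      simp [KaehlerDifferential.tensorKaehlerEquivOfFormallyEtale]
    simp [e, h]
  exact (e.map_eq_zero_iff).symm.trans (iff_of_eq (congrArg (· = 0) he))

end Groth.Agent.S5999
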