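import Groth.Statements.S6001
import Groth.Agent.Hens22.CompletionUnrAdic
import Groth.Agent.Unr55.EtAscent
import Groth.Prelude.Def_FSch3
import Mathlib.RingTheory.Etale.Locus
import Mathlib.RingTheory.Flat.FaithfullyFlat.Algebra

set_option autoImplicit false
universe u
open SGA1

namespace Groth.Agent.S6001

theorem result (A C : Type u) [CommRing A] [IsLocalRing A]
    [IsNoetherianRing A] [CommRing C] [Algebra A C] [Algebra.FiniteType A C] (q : Ideal C) [q.IsPrime]
    (hq : Ideal.comap (algebraMap A C) q = IsLocalRing.maximalIdeal A) (hC : Algebra.IsEtaleAt A q)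
    (hA : IsReduced (AdicCompletion (IsLocalRing.maximalIdeal A) A)) :
    IsReduced (AdicCompletion (IsLocalRing.maximalIdeal (Localization.AtPrime q)) (Localization.AtPrime q)) ∧
      IsReduced (Localization.AtPrime q) := by
  open IsLocalRing in
  let B := Localization.AtPrime q
  have : IsNoetherianRing C := Algebra.FiniteType.isNoetherianRing A C
  have : IsNoetherianRing B := IsLocalization.isNoetherianRing q.primeCompl B ‹_›
  have : Algebra.EssFiniteType A B := .comp A C B
  have hcomap : (maximalIdeal B).comap (algebraMap A B) = maximalIdeal A := by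
    rw [IsScalarTower.algebraMap_eq A C B, ← Ideal.comap_comap]
    exact (congrArg (Ideal.comap (algebraMap A C)) (IsLocalization.AtPrime.under_maximalIdeal B q)).trans hq
  have : IsLocalHom (algebraMap A B) := ((IsLocalRing.local_hom_TFAE _).out 0 4).mpr hcomap
  have : Algebra.FormallyEtale A B := hC
  have : Module.Flat A B := by
    have : Algebra.FinitePresentation A C := Algebra.FinitePresentation.of_finiteType.mp inferInstance
    have : Algebra.IsEtaleAt A q := hC
    obtain ⟨f, hf, hfe⟩ := Algebra.exists_etale_of_isEtaleAt (R := A) (P := q)
    have : Algebra.Etale A (Localization.Away f) := hfe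
    have hle : Submonoid.powers f ≤ q.primeCompl := Submonoid.powers_le.mpr hf
    let : Algebra (Localization.Away f) B := IsLocalization.localizationAlgebraOfSubmonoidLe _ _ (Submonoid.powers f) q.primeCompl hle
    have : IsScalarTower C (Localization.Away f) B := IsLocalization.localization_isScalarTower_of_submonoid_le _ _ _ _ hle
    have : IsScalarTower A (Localization.Away f) B := .of_algebraMap_eq fun a => by
      rw [IsScalarTower.algebraMap_apply A C (Localization.Away f), ← IsScalarTower.algebraMap_apply C (Localization.Away f) B,
        ← IsScalarTower.algebraMap_apply A C B]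
    have : IsLocalization (q.primeCompl.map (algebraMap C (Localization.Away f))) B :=
      IsLocalization.isLocalization_of_submonoid_le _ _ _ _ hle
    have : Module.Flat (Localization.Away f) B := IsLocalization.flat _ (q.primeCompl.map (algebraMap C (Localization.Away f)))
    exact Module.Flat.trans A (Localization.Away f) B
  let g := algebraMap B (AdicCompletion (maximalIdeal B) B)
  let ψ : AdicCompletion (maximalIdeal A) A →+* AdicCompletion (maximalIdeal B) B :=
    FSch.complMap (maximalIdeal A) (maximalIdeal B) (algebraMap A B)
      (((IsLocalRing.local_hom_TFAE _).out 0 2).mp ‹_›)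
  have hψ : ψ.comp (algebraMap A (AdicCompletion (maximalIdeal A) A)) = g.comp (algebraMap A B) := by
    refine RingHom.ext fun a => AdicCompletion.ext_evalₐ fun n => ?_
    change AdicCompletion.evalₐ _ n (ψ (algebraMap A (AdicCompletion (maximalIdeal A) A) a)) =
      AdicCompletion.evalₐ _ n (algebraMap B (AdicCompletion (maximalIdeal B) B) (algebraMap A B a))
    simp only [ψ, FSch.complMap, AdicCompletion.evalₐ_liftRingHom, RingHom.comp_apply,
      AlgHom.toRingHom_eq_coe, RingHom.coe_coe, AlgHom.commutes]
    rfl
  have het : ψ.Etale := (Groth.Agent.Hens22.completion_etale A B ψ hψ).1.mp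
    ⟨inferInstance, Algebra.FormallyUnramified.map_maximalIdeal, inferInstance, inferInstance⟩
  let := ψ.toAlgebra
  have : Algebra.Etale (AdicCompletion (maximalIdeal A) A) (AdicCompletion (maximalIdeal B) B) := het
  have hred : IsReduced (AdicCompletion (maximalIdeal B) B) := Groth.Agent.Unr55.isReduced_of_etale (A := AdicCompletion (maximalIdeal A) A)
  refine ⟨hred, ?_⟩
  exact isReduced_of_injective g (by
    exact AdicCompletion.of_injective (maximalIdeal B) B)

end Groth.Agent.S6001
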