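import Groth.Statements.S6005
import Groth.Agent.Sga84.TorsorGaGm

set_option autoImplicit false
universe u
open CategoryTheory AlgebraicGeometry
open SGA1

namespace Groth.Agent.S6005

/-- Every principal homogeneous bundle under the multiplicative group over S (a pseudo-torsor which
acquires sections on the members of some fpqc covering family of S) is locally trivial, i.e. is a
torsor for the Zariski topology: S is covered by open subschemes over which it acquires sections.
(The published statement covers every S-group isomorphic to the general linear group of any rank;
this row is the rank-one case.) -/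
theorem result {S : Scheme.{u}} (X : Over S)
    (a : AlgGrp.Action (Red.Gm S) X) (h : NonAbH1.IsTorsorFor Scheme.fpqcPrecoverage a) :
    NonAbH1.IsTorsorFor Scheme.zariskiPrecoverage a := by
  refine Groth.Agent.Sga84.zariski_of_local h.1 fun x => ?_
  obtain ⟨R, _, C, _, _, j, hj, p, _, hp, ⟨s⟩⟩ := Groth.Agent.Sga84.exists_affine_point h x
  obtain ⟨f, hf, hs⟩ := Groth.Agent.Sga84.gm_section h.1 s p
  have : IsOpenImmersion (Spec.map (CommRingCat.ofHom (algebraMap R (Localization.Away f)))) :=
    IsOpenImmersion.of_isLocalization (S := Localization.Away f) f
  refine ⟨_, _, inferInstance, ?_, hs⟩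
  obtain ⟨q, hq⟩ : p ∈ Set.range (PrimeSpectrum.comap (algebraMap R (Localization.Away f))) := by
    rw [PrimeSpectrum.localization_away_comap_range (Localization.Away f) f]
    exact hf
  exact ⟨q, by rw [Scheme.Hom.comp_apply]; exact (congrArg j hq).trans hp⟩

end Groth.Agent.S6005
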