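import Groth.Statements.S6007
import Groth.Agent.RedPts82.DSChar

set_option autoImplicit false
universe u
open CategoryTheory AlgebraicGeometry MonoidalCategory CartesianMonoidalCategory MonObj GrpObj
open SGA1t

namespace Groth.Agent.S6007

/-- For a scheme S and an integer n ≥ 1 the Kummer sequence 1 → μ_n → G_m → G_m → 1 over S is exact for
the fpqc topology. Here G_m = D_S(Z), μ_n = D_S(Z/n) mapped into G_m by the diagonalisable-group
morphism induced by Z → Z/n, and G_m → G_m is the n-th power map, the character of D_S(Z) attached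
to n; exactness means that both maps are homomorphisms with trivial composite, that (g, z) ↦ (g, gz)
identifies G_m ×_S μ_n with the fibre product of the n-th power map with itself, and that the n-th
power map acquires sections on the members of some fpqc covering family of its target. -/
theorem result {S : Scheme.{u}} (n : ℕ) (hn : 0 < n) :
    NonAbH1.IsExactSeq Scheme.fpqcPrecoverage
      (Red.DSmap S (Int.castAddHom (ZMod n))) (Red.chi S (n : ℤ)) := by
  open Groth.Agent.RedPts82 MonoidalCategory CartesianMonoidalCategory MonObj GrpObj in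
  have : NeZero n := ⟨hn.ne'⟩
  let u := Red.DSmap S (Int.castAddHom (ZMod n))
  let v := Red.chi S (n : ℤ)
  have hv : ∀ {T : Over S} (x : T ⟶ Red.Gm S), Red.gmFn (x ≫ v) = Red.gmFn x ^ n := fun x => by
    rw [gmFn_chi, dsFn_gm_zpow]
  have hu : ∀ {T : Over S} (t : T ⟶ Red.DS S (ZMod n)), Red.gmFn (t ≫ u) = dsFn t 1 := fun t => by
    rw [gmFn_eq, dsFn_DSmap]; simp
  have hpow : ∀ {T : Over S} (t : T ⟶ Red.DS S (ZMod n)) (k : ℕ), dsFn t (k : ZMod n) = dsFn t 1 ^ k := by
    intro T t k
    induction k with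
    | zero => simpa using dsFn_zero t
    | succ k ih => rw [Nat.cast_succ, dsFn_add, ih, pow_succ]
  have huv : ∀ {T : Over S} (t : T ⟶ Red.DS S (ZMod n)), Red.gmFn (t ≫ u) ^ n = 1 := fun t => by
    rw [hu, ← hpow, ZMod.natCast_self, dsFn_zero]
  refine ⟨inferInstance, inferInstance, ?_, ?_, ?_⟩
  · refine gmFn_injective ?_
    rw [hv, gmFn_one]
    simpa using huv (𝟙 _)
  · have hw : fst (Red.Gm S) (Red.DS S (ZMod n)) ≫ v = ((Red.Gm S ◁ u) ≫ μ[Red.Gm S]) ≫ v := by
      refine gmFn_injective ?_
      have e : (Red.Gm S ◁ u) ≫ μ[Red.Gm S] = fst _ _ * (snd _ _ ≫ u) := by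
        rw [Hom.mul_def]; congr 1
      rw [hv, hv, e, gmFn_mul, mul_pow, huv, _root_.mul_one]
    have key : ∀ {T : Over S} (x : T ⟶ Red.Gm S) (t : T ⟶ Red.DS S (ZMod n)),
        lift x t ≫ (Red.Gm S ◁ u) ≫ μ[Red.Gm S] = x * (t ≫ u) := by
      intro T x t
      rw [lift_whiskerLeft_assoc, Hom.mul_def]
    have hinj : ∀ {T : Over S} {t t' : T ⟶ Red.DS S (ZMod n)}, t ≫ u = t' ≫ u → t = t' := by
      intro T t t' h
      refine dsFn_injective fun m => ?_
      rw [← ZMod.natCast_zmod_val m, hpow, hpow, ← hu, ← hu, h]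
    have hex : ∀ c : Limits.PullbackCone v v, ∃ t : c.pt ⟶ Red.DS S (ZMod n), c.fst * (t ≫ u) = c.snd := by
      intro c
      have h1 : Red.gmFn (c.fst⁻¹ * c.snd) ^ n = 1 := by
        rw [gmFn_mul, mul_pow, ← hv c.snd, ← c.condition, hv, ← mul_pow, gmFn_inv_mul, one_pow]
      obtain ⟨t, ht⟩ := dsFn_surjective (S := S) (X := c.pt) (M := ZMod n)
        { toFun := fun m => Red.gmFn (c.fst⁻¹ * c.snd) ^ (Multiplicative.toAdd m).val
          map_one' := by simp
          map_mul' := fun a b => by
            show _ ^ (Multiplicative.toAdd a + Multiplicative.toAdd b).val = _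
            rw [ZMod.val_add, ← pow_add]
            exact (pow_eq_pow_mod _ h1).symm }
      refine ⟨t, gmFn_injective ?_⟩
      rw [gmFn_mul, hu, ht]
      show _ * Red.gmFn (c.fst⁻¹ * c.snd) ^ (1 : ZMod n).val = _
      rw [show (1 : ZMod n).val = 1 % n from ZMod.val_one_eq_one_mod n, ← pow_eq_pow_mod _ h1, pow_one,
        ← gmFn_mul, mul_inv_cancel_left]
    choose t ht using hex
    refine ⟨⟨hw⟩, ⟨Limits.PullbackCone.IsLimit.mk hw (fun c => lift c.fst (t c)) ?_ ?_ ?_⟩⟩
    · intro c; simp
    · intro c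
      rw [key, ht]
    · intro c m h1 h2
      have e : m = lift (m ≫ fst _ _) (m ≫ snd (Red.Gm S) (Red.DS S (ZMod n))) := by ext <;> simp
      rw [e, h1]
      congr 1
      refine hinj (gmFn_injective ((gmFn_isUnit c.fst).mul_left_cancel ?_))
      rw [← gmFn_mul, ← gmFn_mul, ht, ← key c.fst, ← h1, ← e, h2]
  · obtain ⟨hfl, hs⟩ := DSmap_flat_surjective (S := S) (zmultiplesHom ℤ (n : ℤ))
      (fun a b h => by simpa [hn.ne'] using h)
    have : Flat v.left := hfl
    have : Surjective v.left := hs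
    have : IsAffine (Red.diag.{u} (ULift.{u} ℤ) ℤ).left := inferInstanceAs (IsAffine (Spec _))
    have : IsAffineHom (Red.diag.{u} (ULift.{u} ℤ) ℤ).hom := isAffineHom_of_isAffine _
    have : IsAffineHom (Red.Gm S).hom := by
      exact MorphismProperty.pullback_snd (P := @IsAffineHom) _ _ this
    have : IsAffineHom v.left := by
      have : IsAffineHom (v.left ≫ (Red.Gm S).hom) := by rw [Over.w v]; infer_instance
      exact MorphismProperty.of_postcomp (W := @IsAffineHom) (W' := @IsSeparated) _ (Red.Gm S).hom inferInstance this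
    exact ⟨Presieve.singleton v.left, v.left.singleton_mem_fpqcPrecoverage,
      by rintro _ _ ⟨⟩; exact ⟨𝟙 _, Category.id_comp _⟩⟩

end Groth.Agent.S6007
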