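import Groth.Statements.S6008
import Groth.Agent.Sga84.ArtinSchreier

set_option autoImplicit false
universe u
open CategoryTheory AlgebraicGeometry MonoidalCategory CartesianMonoidalCategory MonObj GrpObj
open CategoryTheory AlgebraicGeometry MonoidalCategory CartesianMonoidalCategory MonObj GrpObj
open SGA1t

namespace Groth.Agent.S6008

/-- Let p be a prime and S a scheme of characteristic p (p = 0 in the ring of global functions). Let F
be the Frobenius endomorphism of the additive group over S, the S-endomorphism which raises the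
coordinate function of every point to the p-th power, and let P be the difference of the identity
and F in the group of endomorphisms (on points x ↦ x − x^p). Let G' be the constant S-group (Z/p)_S:
an S-group together with an isomorphism of S-schemes e from G' to the disjoint union of copies of S
indexed by Z/p, under which the S-points of indices m and n multiply to the S-point of index m + n;
and let i : G' → G_a be the homomorphism of S-groups which sends the S-point of index 1 to the point
whose coordinate is the unit global function. Then the Artin-Schreier sequence 1 → (Z/p)_S → G_a →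
G_a → 1 is exact for the fpqc topology: i and P are homomorphisms with trivial composite, (x, g) ↦
(x, x + i(g)) identifies G_a ×_S G' with the fibre product of P with itself (so that i is a kernel
of P), and P acquires sections on the members of some fpqc covering family of its target. -/
theorem result (p : ℕ) [Fact p.Prime] {S : Scheme.{u}}
    (hp : (p : Γ(S, ⊤)) = 0) (F : Red.Ga S ⟶ Red.Ga S)
    (hF : ∀ (T : Over S) (x : T ⟶ Red.Ga S), Red.gaFn (x ≫ F) = Red.gaFn x ^ p)
    {G' : Over S} [GrpObj G'] (e : G' ≅ TwC.const S (Multiplicative (ZMod p)))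
    (he : TwC.IsConstGrp (Multiplicative (ZMod p)) G' e)
    (i : G' ⟶ Red.Ga S) [IsMonHom i]
    (hi : Red.gaFn (TwC.pt S (Multiplicative (ZMod p)) (Multiplicative.ofAdd 1) ≫ e.inv ≫ i) = 1) :
    NonAbH1.IsExactSeq Scheme.fpqcPrecoverage i (𝟙 (Red.Ga S) * F⁻¹) := by
  open Groth.Agent.RedPts82 Groth.Agent.Sga84 MonoidalCategory CartesianMonoidalCategory MonObj GrpObj in
  have hT : ∀ T : Over S, (p : Γ(T.left, ⊤)) = 0 := AS.hpT hp
  set P : Red.Ga S ⟶ Red.Ga S := 𝟙 (Red.Ga S) * F⁻¹
  have hP : ∀ {T : Over S} (x : T ⟶ Red.Ga S), Red.gaFn (x ≫ P) = Red.gaFn x - Red.gaFn x ^ p := by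
    intro T x
    simp only [P]
    rw [comp_mul, GrpObj.comp_inv, Category.comp_id, gaFn_mul, gaFn_inv, hF, sub_eq_add_neg]
  have hPhom : IsMonHom P := isMonHom_of_points _ fun T x y => gaFn_injective (by
    rw [hP, gaFn_mul, gaFn_mul, hP, hP, AS.add_pow (hT T)]; abel)
  have hiP : i ≫ P = 1 := by
    refine gaFn_injective ?_
    have h := AS.coord_pow hp he hi e.hom
    rw [Iso.hom_inv_id_assoc] at h
    rw [hP, gaFn_one, h, sub_self]
  refine ⟨inferInstance, hPhom, hiP, ?_, ?_⟩
  · have e0 : (Red.Ga S ◁ i) ≫ μ[Red.Ga S] = fst _ _ * (snd _ _ ≫ i) := by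
      rw [Hom.mul_def]; congr 1
    have hw : fst (Red.Ga S) G' ≫ P = ((Red.Ga S ◁ i) ≫ μ[Red.Ga S]) ≫ P := by
      rw [e0]
      refine Eq.symm ((MonObj.mul_comp _ _ P).trans ?_)
      rw [Category.assoc, hiP, MonObj.comp_one, _root_.mul_one]
    have key : ∀ {T : Over S} (x : T ⟶ Red.Ga S) (t : T ⟶ G'),
        lift x t ≫ (Red.Ga S ◁ i) ≫ μ[Red.Ga S] = x * (t ≫ i) := by
      intro T x t
      rw [lift_whiskerLeft_assoc, Hom.mul_def]
    have hex : ∀ c : Limits.PullbackCone P P, ∃ t : c.pt ⟶ G', c.fst * (t ≫ i) = c.snd := by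
      intro c
      obtain ⟨z, hz⟩ := gaFn_surjective (S := S) (X := c.pt) (Red.gaFn c.snd - Red.gaFn c.fst)
      have h := congrArg Red.gaFn c.condition
      rw [hP, hP] at h
      obtain ⟨t, ht⟩ := AS.lift_exists hp he hi z (by
        rw [hz, AS.sub_pow (hT c.pt)]; linear_combination h)
      refine ⟨t ≫ e.inv, gaFn_injective ?_⟩
      rw [gaFn_mul, Category.assoc, ht, hz, add_sub_cancel]
    choose t ht using hex
    refine ⟨⟨hw⟩, ⟨Limits.PullbackCone.IsLimit.mk hw (fun c => lift c.fst (t c)) ?_ ?_ ?_⟩⟩
    · intro c; simp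
    · intro c
      rw [key, ht]
    · intro c m h1 h2
      have em : m = lift (m ≫ fst _ _) (m ≫ snd (Red.Ga S) G') := by ext <;> simp
      rw [em, h1]
      congr 1
      have h3 : (m ≫ snd _ _) ≫ i = t c ≫ i := by
        refine gaFn_injective (add_left_cancel (a := Red.gaFn c.fst) ?_)
        rw [← gaFn_mul, ← gaFn_mul, ht, ← key c.fst, ← h1, ← em, h2]
      rw [← cancel_mono e.hom]
      refine AS.lift_unique hp he hi ?_
      simpa using h3
  · obtain ⟨R, hR, hroot⟩ := AS.exists_root_cover (S := S) (p := p)
    refine ⟨R, hR, fun W f hf => ?_⟩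
    obtain ⟨x, hx⟩ := hroot f hf
    have : x ≫ P = Over.homMk f rfl := gaFn_injective (by rw [hP, hx])
    exact ⟨x.left, congrArg CommaMorphism.left this⟩

end Groth.Agent.S6008
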