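import Groth.Statements.S6009
import Groth.Agent.Sga84.TorsorExact

set_option autoImplicit false
universe u
open CategoryTheory AlgebraicGeometry MonoidalCategory CartesianMonoidalCategory MonObj GrpObj
open CategoryTheory AlgebraicGeometry MonoidalCategory CartesianMonoidalCategory MonObj GrpObj
open SGA1

namespace Groth.Agent.S6009

/-- Exactness of the cohomology sequence at H^1(S, G'): let u : G' → G and v : G → G'' be homomorphisms
of affine commutative S-groups forming a sequence 1 → G' → G → G'' → 1 which is exact for the fpqc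
topology, and let Q be a principal homogeneous bundle under G' (fpqc torsor). Then the bundle
deduced from Q by extension of the structure group along u is trivial, in the sense that Q admits a
u-equivariant S-morphism to G acting on itself by left translation, if and only if Q is the boundary
of some section f of G'' over S: there is a morphism i : Q → G making Q the inverse image of f under
v, with G' acting through right translation by inverses. -/
theorem result {S : Scheme.{u}}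
    {G G' G'' : Over S} [GrpObj G] [GrpObj G'] [GrpObj G'']
    [IsCommMonObj G] [IsCommMonObj G'] [IsCommMonObj G'']
    [IsAffineHom G.hom] [IsAffineHom G'.hom] [IsAffineHom G''.hom]
    (u : G' ⟶ G) (v : G ⟶ G'') (hex : NonAbH1.IsExactSeq Scheme.fpqcPrecoverage u v)
    (Q : NonAbH1.TorsorSch G' Scheme.fpqcPrecoverage) :
    NonAbH1.IsPushforwardAlongSch u Q.act (NonAbH1.trivialAction G) ↔
      ∃ (f : 𝟙_ (Over S) ⟶ G'') (i : Q.X ⟶ G), NonAbH1.IsPullbackTorsor u v f i Q.act := by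
  open Groth.Agent.Sga84 MonoidalCategory CartesianMonoidalCategory MonObj GrpObj in
  have := hex.1
  have := hex.2.1
  obtain ⟨hps, hloc⟩ := Q.isTorsor
  constructor
  · rintro ⟨φ, hφ⟩
    have hφ' : ∀ {T : Over S} (g : T ⟶ G') (q : T ⟶ Q.X),
        actPt Q.act g q ≫ φ = (g ≫ u) * (q ≫ φ) := by
      intro T g q
      rw [actPt, Category.assoc, hφ, comp_lift_assoc, act_trivial]
      simp
    let i : Q.X ⟶ G := φ⁻¹
    have hi : ∀ {T : Over S} (g : T ⟶ G') (q : T ⟶ Q.X),
        actPt Q.act g q ≫ i = (q ≫ i) * (g ≫ u)⁻¹ := by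
      intro T g q
      simp only [i]
      rw [GrpObj.comp_inv, GrpObj.comp_inv, hφ', _root_.mul_inv_rev]
    have hinv : ∀ {Z : Over S} (q q' : Z ⟶ Q.X), q' ≫ i ≫ v = q ≫ i ≫ v := by
      intro Z q q'
      obtain ⟨h, hh, -⟩ := existsUnique_actPt Q.act hps q q'
      have e1 : ((h ≫ u)⁻¹ : Z ⟶ G) ≫ v = 1 := by
        rw [GrpObj.inv_comp (h ≫ u) v, pt_uv hex, inv_one]
      have e2 : ((q ≫ i) * (h ≫ u)⁻¹) ≫ v = (q ≫ i) ≫ v * ((h ≫ u)⁻¹ ≫ v) :=
        MonObj.mul_comp _ _ v
      rw [← hh, ← Category.assoc, hi h q, e2, e1, _root_.mul_one, Category.assoc]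
    have hnat : ∀ (Z Z' : Over S) (k : Z' ⟶ Z) (g : Z ⟶ 𝟙_ (Over S)) (y : Z ⟶ G''),
        (∃ q : Z ⟶ Q.X, q ≫ i ≫ v = y) → ∃ q : Z' ⟶ Q.X, q ≫ i ≫ v = k ≫ y :=
      fun Z Z' k g y ⟨q, hq⟩ => ⟨k ≫ q, by rw [Category.assoc, hq]⟩
    have huq : ∀ (Z : Over S) (g : Z ⟶ 𝟙_ (Over S)), (Z ⟶ Q.X) →
        ∃! y : Z ⟶ G'', ∃ q : Z ⟶ Q.X, q ≫ i ≫ v = y :=
      fun Z g q => ⟨q ≫ i ≫ v, ⟨q, rfl⟩, fun y ⟨q', hq'⟩ => hq'.symm.trans (hinv q q')⟩
    obtain ⟨f, hf⟩ := exists_glue hloc (T := 𝟙_ (Over S)) (Y := G'') _ hnat huq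
    have hfv : ∀ {Z : Over S} (q : Z ⟶ Q.X), q ≫ i ≫ v = toUnit Z ≫ f := by
      intro Z q
      obtain ⟨q', hq'⟩ := hf Z (toUnit Z) q
      rw [← hq', hinv q' q]
    have hsq : i ≫ v = toUnit Q.X ≫ f := by simpa using hfv (𝟙 Q.X)
    have huniq : ∀ {Z : Over S} {q q' : Z ⟶ Q.X}, q ≫ i = q' ≫ i → q = q' := by
      intro Z q q' e
      obtain ⟨h, hh, -⟩ := existsUnique_actPt Q.act hps q q'
      rw [← hh, hi, left_eq_mul, inv_eq_one] at e
      have h1 : h = 1 := ker_unique hex (by rw [e, MonObj.one_comp])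
      rw [← hh, h1, actPt]
      have := congrArg (lift (toUnit Z) q ≫ ·) Q.act.one_act
      simpa [Hom.one_def] using this.symm
    have hex' : ∀ c : Limits.PullbackCone v f, ∃ t : c.pt ⟶ Q.X, t ≫ i = c.fst := by
      intro c
      obtain ⟨t, ht⟩ := exists_glue hloc (T := c.pt) (Y := Q.X)
        (fun Z g y => y ≫ i = g ≫ c.fst)
        (fun Z Z' k g y h => by simp only [Category.assoc]; rw [h])
        (fun Z g q => by
          obtain ⟨h, hh⟩ := ker_exists hex (x := q ≫ i) (y := g ≫ c.fst) (by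
            rw [Category.assoc, Category.assoc, hfv, c.condition, ← Category.assoc,
              toUnit_unique (g ≫ c.snd) (toUnit Z)])
          refine ⟨actPt Q.act h⁻¹ q, ?_, fun y hy => huniq (hy.trans ?_)⟩
          · show _ ≫ i = _
            rw [hi, GrpObj.inv_comp, _root_.inv_inv, hh]
          · rw [hi, GrpObj.inv_comp, _root_.inv_inv, hh])
      refine ⟨t, hom_ext_of_point hloc fun Z g q => ?_⟩
      rw [← Category.assoc]
      exact ht Z g q
    choose t ht using hex'
    refine ⟨f, i, hex.1, hex.2.1, ⟨⟨hsq⟩, ⟨Limits.PullbackCone.IsLimit.mk hsq t ht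
      (fun c => toUnit_unique _ _) (fun c m h1 _ => huniq (h1.trans (ht c).symm))⟩⟩, fun T g p => ?_⟩
    rw [← Category.assoc]
    exact hi g p
  · rintro ⟨f, i, -, -, -, hi⟩
    refine ⟨i⁻¹, ?_⟩
    have h := hi (G' ⊗ Q.X) (fst _ _) (snd _ _)
    rw [lift_fst_snd, Category.id_comp] at h
    rw [act_trivial, GrpObj.comp_inv, h, _root_.mul_inv_rev, _root_.inv_inv, GrpObj.comp_inv]

end Groth.Agent.S6009
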