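import Groth.Statements.S6010
import Groth.Agent.Sga84.TorsorExact

set_option autoImplicit false
universe u
open CategoryTheory AlgebraicGeometry MonoidalCategory CartesianMonoidalCategory MonObj GrpObj
open CategoryTheory AlgebraicGeometry MonoidalCategory CartesianMonoidalCategory MonObj GrpObj
open SGA1

namespace Groth.Agent.S6010

/-- Exactness of the cohomology sequence at H^1(S, G): let u : G' → G and v : G → G'' be homomorphisms
of affine commutative S-groups forming a sequence 1 → G' → G → G'' → 1 which is exact for the fpqc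
topology, and let P be a principal homogeneous bundle under G (fpqc torsor). Then the bundle deduced
from P by extension of the structure group along v is trivial, in the sense that P admits a
v-equivariant S-morphism to G'' acting on itself by left translation, if and only if P comes from
G': there is a principal homogeneous bundle Q under G' with a u-equivariant S-morphism Q → P. -/
theorem result {S : Scheme.{u}}
    {G G' G'' : Over S} [GrpObj G] [GrpObj G'] [GrpObj G'']
    [IsCommMonObj G] [IsCommMonObj G'] [IsCommMonObj G'']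
    [IsAffineHom G.hom] [IsAffineHom G'.hom] [IsAffineHom G''.hom]
    (u : G' ⟶ G) (v : G ⟶ G'') (hex : NonAbH1.IsExactSeq Scheme.fpqcPrecoverage u v)
    (P : NonAbH1.TorsorSch G Scheme.fpqcPrecoverage) :
    NonAbH1.IsPushforwardAlongSch v P.act (NonAbH1.trivialAction G'') ↔
      ∃ Q : NonAbH1.TorsorSch G' Scheme.fpqcPrecoverage, NonAbH1.IsPushforwardAlongSch u Q.act P.act := by
  open Groth.Agent.Sga84 MonoidalCategory CartesianMonoidalCategory MonObj GrpObj in
  have := hex.1
  have := hex.2.1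
  obtain ⟨hps, hloc⟩ := P.isTorsor
  constructor
  · rintro ⟨φ, hφ⟩
    have hφ' : ∀ {T : Over S} (g : T ⟶ G) (x : T ⟶ P.X),
        actPt P.act g x ≫ φ = (g ≫ v) * (x ≫ φ) := by
      intro T g x
      rw [actPt, Category.assoc, hφ, comp_lift_assoc, act_trivial]
      simp
    let XQ : Over S := Over.mk (Limits.pullback.snd φ.left η[G''].left)
    let κ : XQ ⟶ P.X := Over.homMk (Limits.pullback.fst φ.left η[G''].left) (by
      show Limits.pullback.fst φ.left η[G''].left ≫ P.X.hom = Limits.pullback.snd φ.left η[G''].left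
      rw [← Over.w φ, Limits.pullback.condition_assoc, Over.w η[G'']]
      exact Category.comp_id _)
    have hone : ∀ {T : Over S}, ((1 : T ⟶ G'')).left = T.hom ≫ η[G''].left := by
      intro T; simp [Hom.one_def]
    have hκ : κ ≫ φ = 1 := by
      apply Over.OverMorphism.ext
      rw [hone]
      exact Limits.pullback.condition
    have hκpt : ∀ {T : Over S} (x : T ⟶ XQ), (x ≫ κ) ≫ φ = 1 := fun x => by
      rw [Category.assoc, hκ, MonObj.comp_one]
    have hinjκ : ∀ {T : Over S} {x y : T ⟶ XQ}, x ≫ κ = y ≫ κ → x = y := by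
      intro T x y e
      apply Over.OverMorphism.ext
      apply Limits.pullback.hom_ext
      · exact congrArg CommaMorphism.left e
      · exact (Over.w x).trans (Over.w y).symm
    have hlift : ∀ {T : Over S} (x : T ⟶ P.X), x ≫ φ = 1 → ∃ q : T ⟶ XQ, q ≫ κ = x := by
      intro T x hx
      refine ⟨Over.homMk (Limits.pullback.lift x.left T.hom ?_) (Limits.pullback.lift_snd _ _ _),
        Over.OverMorphism.ext (Limits.pullback.lift_fst _ _ _)⟩
      rw [← Over.comp_left, hx, hone]
    have hstab : ∀ {T : Over S} (g : T ⟶ G') (x : T ⟶ P.X), x ≫ φ = 1 →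
        actPt P.act (g ≫ u) x ≫ φ = 1 := by
      intro T g x hx
      rw [hφ', pt_uv hex, hx, _root_.mul_one]
    obtain ⟨actQ, hactQ⟩ := hlift (actPt P.act (fst G' XQ ≫ u) (snd G' XQ ≫ κ))
      (hstab _ _ (hκpt _))
    have hact : ∀ {T : Over S} (g : T ⟶ G') (x : T ⟶ XQ),
        (lift g x ≫ actQ) ≫ κ = actPt P.act (g ≫ u) (x ≫ κ) := by
      intro T g x
      rw [Category.assoc, hactQ, comp_actPt]
      simp
    have hactone : ∀ {T : Over S} (x : T ⟶ P.X), actPt P.act 1 x = x := by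
      intro T x
      have := congrArg (lift (toUnit T) x ≫ ·) P.act.one_act
      simpa [Hom.one_def, actPt] using this
    let aQ : AlgGrp.Action G' XQ :=
      { act := actQ
        one_act := hinjκ (by
          have e : η[G'] ▷ XQ = lift (1 : 𝟙_ (Over S) ⊗ XQ ⟶ G') (snd _ _) := by
            ext <;> simp [Hom.one_def]
          rw [e, hact, MonObj.one_comp, hactone, leftUnitor_hom])
        mul_act := hinjκ (by
          have e1 : μ[G'] ▷ XQ = lift ((fst (G' ⊗ G') XQ ≫ fst G' G') * (fst (G' ⊗ G') XQ ≫ snd G' G'))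
              (snd _ _) := by
            ext <;> simp [Hom.mul_def]
          have e2 : (α_ G' G' XQ).hom ≫ (G' ◁ actQ) = lift (fst (G' ⊗ G') XQ ≫ fst G' G')
              (lift (fst (G' ⊗ G') XQ ≫ snd G' G') (snd _ _) ≫ actQ) := by
            apply CartesianMonoidalCategory.hom_ext
            · simp
            · rw [Category.assoc, whiskerLeft_snd, lift_snd, ← Category.assoc]
              congr 1
              ext <;> simp
          rw [e1, hact, ← Category.assoc (α_ G' G' XQ).hom, e2, hact, hact, ← actPt_mul,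
            MonObj.mul_comp]) }
    have hQps : NonAbH1.IsPseudoTorsorSch aQ := isPseudoTorsorSch_of_existsUnique aQ fun T x y => by
      obtain ⟨h, hh, hu⟩ := existsUnique_actPt P.act hps (x ≫ κ) (y ≫ κ)
      have hv : (1 : T ⟶ G) ≫ v = h ≫ v := by
        have := congrArg (· ≫ φ) hh
        simp only [hφ', hκpt, _root_.mul_one] at this
        rw [MonObj.one_comp, this]
      obtain ⟨g, hg⟩ := ker_exists hex hv
      rw [_root_.one_mul] at hg
      refine ⟨g, hinjκ ?_, fun g' hg' => ker_unique hex ?_⟩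
      · show (lift g x ≫ actQ) ≫ κ = y ≫ κ
        rw [hact, ← hg, hh]
      · rw [← hg]
        refine hu _ ?_
        show actPt P.act (g' ≫ u) (x ≫ κ) = y ≫ κ
        rw [← hact]
        exact congrArg (· ≫ κ) hg'
    have hQloc : NonAbH1.IsLocallyTrivialFor Scheme.fpqcPrecoverage XQ := by
      refine isLocallyTrivialFor_of_two_steps v hloc hex.2.2.2.2 φ fun Z p g hgp => ?_
      obtain ⟨q, -⟩ := hlift (actPt P.act g⁻¹ p) (by
        rw [hφ', GrpObj.inv_comp g v, hgp, inv_mul_cancel])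
      exact ⟨q⟩
    refine ⟨⟨XQ, aQ, hQps, hQloc⟩, κ, ?_⟩
    show actQ ≫ κ = _
    rw [hactQ, actPt]
  · rintro ⟨Q, ψ, hψ⟩
    obtain ⟨hQps, hQloc⟩ := Q.isTorsor
    have hψ' : ∀ {T : Over S} (g : T ⟶ G') (q : T ⟶ Q.X),
        actPt Q.act g q ≫ ψ = actPt P.act (g ≫ u) (q ≫ ψ) := by
      intro T g q
      rw [actPt, Category.assoc, hψ, actPt, comp_lift_assoc]
      simp
    have hval : ∀ {Z : Over S} (g : Z ⟶ P.X) (q q' : Z ⟶ Q.X) (h h' : Z ⟶ G),
        actPt P.act h (q ≫ ψ) = g → actPt P.act h' (q' ≫ ψ) = g → h' ≫ v = h ≫ v := by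
      intro Z g q q' h h' e e'
      obtain ⟨k, hk, -⟩ := existsUnique_actPt Q.act hQps q q'
      rw [← hk, hψ', ← actPt_mul] at e'
      obtain ⟨h₀, -, hu⟩ := existsUnique_actPt P.act hps (q ≫ ψ) g
      have e2 : (h' * (k ≫ u)) ≫ v = h' ≫ v * ((k ≫ u) ≫ v) := MonObj.mul_comp _ _ v
      rw [hu h e, ← hu _ e', e2, pt_uv hex, _root_.mul_one]
    have hnat : ∀ (Z Z' : Over S) (k : Z' ⟶ Z) (g : Z ⟶ P.X) (y : Z ⟶ G''),
        (∃ (q : Z ⟶ Q.X) (h : Z ⟶ G), actPt P.act h (q ≫ ψ) = g ∧ h ≫ v = y) →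
        ∃ (q : Z' ⟶ Q.X) (h : Z' ⟶ G), actPt P.act h (q ≫ ψ) = k ≫ g ∧ h ≫ v = k ≫ y := by
      rintro Z Z' k g y ⟨q, h, h1, h2⟩
      exact ⟨k ≫ q, k ≫ h, by rw [← h1, comp_actPt, Category.assoc], by rw [← h2, Category.assoc]⟩
    have huq : ∀ (Z : Over S) (g : Z ⟶ P.X), (Z ⟶ Q.X) →
        ∃! y : Z ⟶ G'', ∃ (q : Z ⟶ Q.X) (h : Z ⟶ G), actPt P.act h (q ≫ ψ) = g ∧ h ≫ v = y := by
      intro Z g q
      obtain ⟨h, hh, -⟩ := existsUnique_actPt P.act hps (q ≫ ψ) g
      exact ⟨h ≫ v, ⟨q, h, hh, rfl⟩, fun y ⟨q', h', h1, h2⟩ => h2.symm.trans (hval g q q' h h' hh h1)⟩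
    obtain ⟨φ, hφ⟩ := exists_glue hQloc (T := P.X) (Y := G'') _ hnat huq
    refine ⟨φ, hom_ext_of_point hQloc fun Z w q => ?_⟩
    rw [comp_lift_assoc, act_trivial]
    obtain ⟨q₁, h₁, e1, e1'⟩ := hφ Z (w ≫ P.act.act) q
    obtain ⟨q₂, h₂, e2, e2'⟩ := hφ Z (w ≫ snd G P.X) q
    have e3 : actPt P.act ((w ≫ fst G P.X) * h₂) (q₂ ≫ ψ) = w ≫ P.act.act := by
      rw [actPt_mul, e2, actPt, ← comp_lift, lift_fst_snd, Category.comp_id]
    rw [← Category.assoc w, ← e1', hval _ q₂ q₁ _ h₁ e3 e1, MonObj.mul_comp, e2']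
    simp

end Groth.Agent.S6010
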