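import Groth.Statements.S6011
import Mathlib.CategoryTheory.Monoidal.Cartesian.Grp

set_option autoImplicit false
universe u
open CategoryTheory AlgebraicGeometry
open SGA1

namespace Groth.Agent.S6011

theorem result {S : Scheme.{u}}
    (G X : Over S) [GrpObj G] (a : AlgGrp.Action G X) :
    Nonempty (NonAbH1.EquivIso (NonAbH1.trivialAction G) a) ↔
      (NonAbH1.IsPseudoTorsorSch a ∧ NonAbH1.HasSectionOver X (𝟙 S)) := by
  open MonoidalCategory CartesianMonoidalCategory MonObj in
  constructor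
  · rintro ⟨⟨e, hcomm⟩⟩
    constructor
    · have hμ : IsIso (lift μ[G] (snd G G)) := by
        refine ⟨lift (fst G G * (snd G G)⁻¹) (snd G G), ?_, ?_⟩
        · apply CartesianMonoidalCategory.hom_ext
          · rw [Category.assoc, lift_fst, comp_mul, GrpObj.comp_inv, lift_fst, lift_snd, Category.id_comp,
              show μ[G] = fst G G * snd G G by rw [Hom.mul_def, lift_fst_snd, Category.id_comp], mul_inv_cancel_right]
          · simp
        · apply CartesianMonoidalCategory.hom_ext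
          · rw [Category.assoc, lift_fst, Category.id_comp,
              show μ[G] = fst G G * snd G G by rw [Hom.mul_def, lift_fst_snd, Category.id_comp],
              comp_mul, lift_fst, lift_snd, inv_mul_cancel_right]
          · simp
      have h : lift a.act (snd G X) = (G ◁ e.inv) ≫ lift μ[G] (snd G G) ≫ (e.hom ⊗ₘ e.hom) := by
        apply CartesianMonoidalCategory.hom_ext
        · rw [lift_fst, Category.assoc, Category.assoc, tensorHom_fst, lift_fst_assoc]
          change _ = (G ◁ e.inv) ≫ (NonAbH1.trivialAction G).act ≫ e.hom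
          rw [hcomm, ← MonoidalCategory.whiskerLeft_comp_assoc, e.inv_hom_id, MonoidalCategory.whiskerLeft_id, Category.id_comp]
        · simp
      show IsIso _
      rw [h]
      infer_instance
    · exact ⟨(η[G] ≫ e.hom).left, Over.w (η[G] ≫ e.hom)⟩
  · rintro ⟨hiso, s₀, hs₀⟩
    have : IsIso (lift a.act (snd G X)) := hiso
    let s : 𝟙_ (Over S) ⟶ X := Over.homMk s₀ hs₀
    let φ : G ⟶ X := lift (𝟙 G) (toUnit G ≫ s) ≫ a.act
    let ψ : X ⟶ G := lift (𝟙 X) (toUnit X ≫ s) ≫ inv (lift a.act (snd G X)) ≫ fst G X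
    have hsnd : inv (lift a.act (snd G X)) ≫ snd G X = snd X X := by
      rw [IsIso.inv_comp_eq, lift_snd]
    have h1 : φ ≫ ψ = 𝟙 G := by
      have : φ ≫ lift (𝟙 X) (toUnit X ≫ s) = lift (𝟙 G) (toUnit G ≫ s) ≫ lift a.act (snd G X) := by
        apply CartesianMonoidalCategory.hom_ext <;> simp [φ]
      simp only [ψ, reassoc_of% this, IsIso.hom_inv_id_assoc, lift_fst]
    have h2 : ψ ≫ φ = 𝟙 X := by
      have : ψ ≫ lift (𝟙 G) (toUnit G ≫ s) = lift (𝟙 X) (toUnit X ≫ s) ≫ inv (lift a.act (snd G X)) := by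
        apply CartesianMonoidalCategory.hom_ext
        · simp [ψ]
        · simp [ψ, hsnd]
      have h' : inv (lift a.act (snd G X)) ≫ a.act = fst X X := by rw [IsIso.inv_comp_eq, lift_fst]
      simp only [φ, reassoc_of% this, h', lift_fst]
    refine ⟨⟨⟨φ, ψ, h1, h2⟩, ?_⟩⟩
    change μ[G] ≫ φ = (G ◁ φ) ≫ a.act
    have hm := congrArg (lift (𝟙 (G ⊗ G)) (toUnit (G ⊗ G) ≫ s) ≫ ·) a.mul_act
    have e1 : μ[G] ≫ lift (𝟙 G) (toUnit G ≫ s) = lift (𝟙 (G ⊗ G)) (toUnit (G ⊗ G) ≫ s) ≫ (μ[G] ▷ X) := by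
      apply CartesianMonoidalCategory.hom_ext <;> simp
    have e2 : (G ◁ φ) = lift (𝟙 (G ⊗ G)) (toUnit (G ⊗ G) ≫ s) ≫ (α_ G G X).hom ≫ (G ◁ a.act) := by
      apply CartesianMonoidalCategory.hom_ext
      · simp
      · simp only [φ, whiskerLeft_snd, Category.assoc, associator_hom_snd_snd]
        rw [comp_lift_assoc, ← Category.assoc (lift (𝟙 (G ⊗ G)) _), ← Category.assoc _ (snd G (G ⊗ X))]
        exact congrArg (· ≫ a.act) (by apply CartesianMonoidalCategory.hom_ext <;> simp)
    simp only [φ, reassoc_of% e1, e2, Category.assoc] at hm ⊢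
    exact hm

end Groth.Agent.S6011
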