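import Groth.Statements.S6012
import Groth.Agent.Fib44.Equiv
-- import your own Groth.Agent.* helpers here

set_option autoImplicit false
open CategoryTheory
universe v₁ v₂ u₁ u₂
open FibCat FibCat.Cleavage

namespace Groth.Agent.S6012

set_option backward.isDefEq.respectTransparency false in
set_option backward.isDefEq.respectTransparency.types false in
open CategoryTheory.Functor in

/-- Let `K` be a cleavage of an arbitrary functor `p : 𝒳 ⥤ 𝒮` (one chosen cartesian lift of every base
morphism at every object over its target; `p` is not assumed fibred). Then `p` is a fibred category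
(composites of cartesian morphisms are cartesian) if and only if, for all composable base morphisms
`g : R ⟶ T` and `f : T ⟶ S`, the comparison natural transformation `c_{f,g}` from `g^* f^*` to
`(fg)^*` determined by `K` is an isomorphism. -/
theorem result (𝒮 : Type u₁) (𝒳 : Type u₂) [Category.{v₁} 𝒮] [Category.{v₂} 𝒳] (p : 𝒳 ⥤ 𝒮) (K : FibCat.Cleavage p) :
    p.IsFibered ↔ ∀ (R S T : 𝒮) (f : T ⟶ S) (g : R ⟶ T), IsIso (K.comp f g) := by
  constructor
  · intro _ R S T f g
    have : ∀ a, IsIso ((K.comp f g).app a) := fun a => by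
      have hc : IsIso (IsCartesian.map p (g ≫ f) (K.lift a.2 (g ≫ f))
          (K.lift (K.obj_proj a.2 f) g ≫ K.lift a.2 f)) :=
        (IsCartesian.domainUniqueUpToIso p (g ≫ f) (K.lift a.2 (g ≫ f))
          (K.lift (K.obj_proj a.2 f) g ≫ K.lift a.2 f)).isIso_hom
      have : IsIso ((K.comp f g).app a).1 := hc
      exact Fib44.isIso_fiber_of_isIso _ ((K.comp f g).app a)
    exact NatIso.isIso_of_isIso_app _
  · intro hc
    have := K.isPreFibered
    refine { comp := fun {R T S} g f {a b c} φ ψ _ _ => ?_ }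
    have hcS : p.obj c = S := IsHomLift.codomain_eq p f ψ
    have hbT : p.obj b = T := IsHomLift.codomain_eq p g φ
    let c' : p.Fiber S := ⟨c, hcS⟩
    let j := IsCartesian.domainUniqueUpToIso p f (K.lift hcS f) ψ
    let i := IsCartesian.domainUniqueUpToIso p g (K.lift hbT g) φ
    have hj : p.IsHomLift (𝟙 T) j.hom :=
      IsCartesian.domainUniqueUpToIso_inv_isHomLift p f (K.lift hcS f) ψ
    have hi : p.IsHomLift (𝟙 R) i.hom :=
      IsCartesian.domainUniqueUpToIso_inv_isHomLift p g (K.lift hbT g) φ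
    have eψ : ψ = j.hom ≫ K.lift hcS f := (IsCartesian.fac p f (K.lift hcS f) ψ).symm
    have eφ : φ = i.hom ≫ K.lift hbT g := (IsCartesian.fac p g (K.lift hbT g) φ).symm
    have hl : p.IsCartesian g (K.lift hbT g ≫ j.hom) := inferInstance
    let k := IsCartesian.domainUniqueUpToIso p g (K.lift (K.obj_proj hcS f) g) (K.lift hbT g ≫ j.hom)
    have hk : p.IsHomLift (𝟙 R) k.hom :=
      IsCartesian.domainUniqueUpToIso_inv_isHomLift p g (K.lift (K.obj_proj hcS f) g)
        (K.lift hbT g ≫ j.hom)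
    have ek : K.lift hbT g ≫ j.hom = k.hom ≫ K.lift (K.obj_proj hcS f) g :=
      (IsCartesian.fac p g (K.lift (K.obj_proj hcS f) g) (K.lift hbT g ≫ j.hom)).symm
    have := hc R S T f g
    let m := Functor.Fiber.fiberInclusion.mapIso (asIso ((K.comp f g).app c'))
    have hm : p.IsHomLift (𝟙 R) m.hom := ((K.comp f g).app c').2
    have em : m.hom ≫ K.lift hcS (g ≫ f) = K.lift (K.obj_proj hcS f) g ≫ K.lift hcS f :=
      IsCartesian.fac p (g ≫ f) (K.lift hcS (g ≫ f)) _
    have h1 : p.IsCartesian (g ≫ f) (m.hom ≫ K.lift hcS (g ≫ f)) :=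
      IsCartesian.of_iso_comp p (g ≫ f) (K.lift hcS (g ≫ f)) m
    have h2 : p.IsCartesian (g ≫ f) (k.hom ≫ m.hom ≫ K.lift hcS (g ≫ f)) :=
      IsCartesian.of_iso_comp p (g ≫ f) (m.hom ≫ K.lift hcS (g ≫ f)) k
    have h3 : p.IsCartesian (g ≫ f) (i.hom ≫ k.hom ≫ m.hom ≫ K.lift hcS (g ≫ f)) :=
      IsCartesian.of_iso_comp p (g ≫ f) (k.hom ≫ m.hom ≫ K.lift hcS (g ≫ f)) i
    rw [eφ, eψ, Category.assoc, ← Category.assoc (K.lift hbT g), ek, Category.assoc, ← em]
    exact h3

end Groth.Agent.S6012
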