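import Groth.Statements.S6013
import Groth.Agent.Fib44.Equiv
-- import your own Groth.Agent.* helpers here

set_option autoImplicit false
open CategoryTheory
universe v₁ v₂ u₁ u₂
open FibCat FibCat.Cleavage

namespace Groth.Agent.S6013

set_option backward.isDefEq.respectTransparency false in
set_option backward.isDefEq.respectTransparency.types false in
open CategoryTheory.Functor in

/-- Let `p : 𝒳 ⥤ 𝒮` be a fibred category with a cleavage `K`, and let `f : T ⟶ S` be an isomorphism of
the base. Then the inverse-image functor `f^*` of `K`, from the fibre over `S` to the fibre over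
`T`, is an equivalence of categories. -/
theorem result (𝒮 : Type u₁) (𝒳 : Type u₂) [Category.{v₁} 𝒮] [Category.{v₂} 𝒳] (p : 𝒳 ⥤ 𝒮) [p.IsFibered] (K : FibCat.Cleavage p)
    (S T : 𝒮) (f : T ⟶ S) [IsIso f] : (K.inverseImage f).IsEquivalence := by
  have hiso : ∀ a : p.Fiber S, IsIso (K.lift a.2 f) := fun a =>
    IsStronglyCartesian.isIso_of_base_isIso p f (K.lift a.2 f)
  refine { faithful := ⟨fun {a b φ ψ} h => ?_⟩, full := ⟨fun {a b} θ => ?_⟩, essSurj := ⟨fun b => ?_⟩ }
  · have := hiso a
    apply Functor.Fiber.hom_ext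
    have e := congrArg (fun t => Functor.Fiber.fiberInclusion.map t ≫ K.lift b.2 f) h
    simp at e
    exact (cancel_epi (K.lift a.2 f)).mp e
  · have := hiso a
    let φ := inv (K.lift a.2 f) ≫ Functor.Fiber.fiberInclusion.map θ ≫ K.lift b.2 f
    have hθ : p.IsHomLift (𝟙 T) (Functor.Fiber.fiberInclusion.map θ) := θ.2
    have : p.IsHomLift f (Functor.Fiber.fiberInclusion.map θ ≫ K.lift b.2 f) :=
      IsHomLift.comp_lift_id_left p f (K.lift b.2 f) _
    have hφ : p.IsHomLift (𝟙 S) φ := by
      rw [← IsIso.inv_hom_id f]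
      exact inferInstanceAs (p.IsHomLift (inv f ≫ f)
        (inv (K.lift a.2 f) ≫ Functor.Fiber.fiberInclusion.map θ ≫ K.lift b.2 f))
    refine ⟨⟨φ, hφ⟩, Functor.Fiber.hom_ext ?_⟩
    apply IsCartesian.ext p f (K.lift b.2 f)
    simp [φ]
    exact IsIso.hom_inv_id_assoc (K.lift a.2 f) _
  · let ℓ := K.lift b.2 (inv f)
    let a : p.Fiber S := ⟨K.obj b.2 (inv f), K.obj_proj b.2 (inv f)⟩
    have : IsIso ℓ := IsStronglyCartesian.isIso_of_base_isIso p (inv f) ℓ
    have hl : p.IsHomLift f (inv ℓ) := by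
      have : p.IsHomLift (inv (inv f)) (inv ℓ) := inferInstance
      simpa using this
    have : p.IsStronglyCartesian f (inv ℓ) := inferInstance
    let d := IsCartesian.domainUniqueUpToIso p f (inv ℓ) (K.lift a.2 f)
    have : p.IsHomLift (𝟙 T) d.hom :=
      IsCartesian.domainUniqueUpToIso_inv_isHomLift p f (inv ℓ) (K.lift a.2 f)
    have : IsIso (Functor.Fiber.homMk p T d.hom).1 := d.isIso_hom
    exact ⟨a, ⟨@asIso _ _ _ _ (Functor.Fiber.homMk p T d.hom)
      (Fib44.isIso_fiber_of_isIso _ _)⟩⟩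

end Groth.Agent.S6013
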