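import Groth.Statements.S6017
import Groth.Agent.Sga84.InvLocal

set_option autoImplicit false
universe u
open scoped Pointwise
open SGA1

namespace Groth.Agent.S6017

/-- Stated in affine form, at the level of rings: let a finite group `G` act on a commutative ring `R`;
suppose the ring of invariants `B = R^G` is Noetherian and `R` is a finite `B`-module. Let `q` be a
prime of `R`, let `H` be a subgroup of `G` containing the stabilizer of `q` (the decomposition
group), and put `R' = R^H`, `q' = q ∩ R'`, `p = q ∩ B = q' ∩ B`. Then the local homomorphism `B_p →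
R'_{q'}` induces an isomorphism between the completions of these two Noetherian local rings;
equivalently, and this is the form stated, for every `n` the composite `B_p → R'_{q'} → R'_{q'} /
m_{q'}^n` is surjective and its kernel is exactly `m_p^n`. (The published statement concerns a
prescheme `X` finite over a locally Noetherian `Y = X/G` and the local rings of `Y` and `X/H` at the
images of a point `x`; the assertion is local on `Y` and `X` is affine over `Y`, so it is stated for
`X = Spec R`, `Y = Spec R^G`, `X/H = Spec R^H`. The hypothesis `hle` only records the inclusion `R^G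
⊆ R^H`, which always holds.) -/
theorem result
    (G R : Type u) [Group G] [Finite G] [CommRing R] [MulSemiringAction G R]
    [IsNoetherianRing (FixedPoints.subring R G)] [Module.Finite (FixedPoints.subring R G) R]
    (H : Subgroup G) (q : Ideal R) [q.IsPrime] (hD : MulAction.stabilizer G q ≤ H)
    (hle : FixedPoints.subring R G ≤ FixedPoints.subring R H) (n : ℕ) :
    let q' : Ideal (FixedPoints.subring R H) := Ideal.comap (FixedPoints.subring R H).subtype q
    let φ := Localization.localRingHom (Ideal.comap (Subring.inclusion hle) q') q' (Subring.inclusion hle) rfl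
    Function.Surjective ((Ideal.Quotient.mk (IsLocalRing.maximalIdeal (Localization.AtPrime q') ^ n)).comp φ) ∧
      Ideal.comap φ (IsLocalRing.maximalIdeal (Localization.AtPrime q') ^ n) =
        IsLocalRing.maximalIdeal (Localization.AtPrime (Ideal.comap (Subring.inclusion hle) q')) ^ n := by
  classical
  intro q' φ
  let B := FixedPoints.subring R G
  let R' := FixedPoints.subring R H
  let ι := Subring.inclusion hle
  let p := q'.comap ι
  let A := Localization.AtPrime p
  let L := Localization.AtPrime q'
  let : Algebra B R' := ι.toAlgebra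
  have : IsScalarTower B R' R := IsScalarTower.of_algebraMap_eq fun _ => rfl
  have : Module.Finite R' R := Module.Finite.of_restrictScalars_finite B R' R
  have : IsNoetherianRing R' := by
    have : IsNoetherian B R := isNoetherian_of_isNoetherianRing_of_finite B R
    have : IsNoetherian B R' :=
      isNoetherian_of_injective (IsScalarTower.toAlgHom B R' R).toLinearMap fun a b h => Subtype.ext h
    exact (isNoetherianRing_iff).mpr (isNoetherian_of_tower B this)
  have hmemB : ∀ {g : G} (b : B), g • (b : R) = b := fun {g} b => b.2 g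
  -- powers of `q` seen from `R'`
  have hR' : ∀ m, ∃ N, ∀ x : R', (∃ u, u ∉ q ∧ u * (x : R) ∈ q ^ N) →
      algebraMap R' L x ∈ IsLocalRing.maximalIdeal L ^ m := by
    intro m
    obtain ⟨N, hN⟩ := Groth.Agent.Sga84.exists_pow_invariants H (R := R) q m
    refine ⟨N, fun x hx => ?_⟩
    obtain ⟨s, hs, hsx⟩ := hN x hx
    have h1 : algebraMap R' L (s * x) ∈ IsLocalRing.maximalIdeal L ^ m := by
      rw [← Localization.AtPrime.map_eq_maximalIdeal, ← Ideal.map_pow]
      exact Ideal.mem_map_of_mem _ hsx
    rw [map_mul] at h1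
    exact (Ideal.unit_mul_mem_iff_mem _ (IsLocalization.map_units L (⟨s, hs⟩ : q'.primeCompl))).mp h1
  -- surjectivity modulo every power
  have hsurj : ∀ m, Function.Surjective
      ((Ideal.Quotient.mk (IsLocalRing.maximalIdeal L ^ m)).comp φ) := by
    intro m
    obtain ⟨N₀, hN₀⟩ := hR' m
    let N := N₀ + 1
    have hσ : ∀ g : G, g ∉ H → ∃ y : R', (y : R) ∉ q ∧ g • (y : R) ∈ q ^ N := by
      intro g hg
      have hne : ∀ h : H, ¬ g⁻¹ • q ≤ (h : G) • q := by
        intro h hle'
        have h1 : ((h : G)⁻¹ * g⁻¹) • q ≤ q := by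
          rw [mul_smul]
          exact Ideal.pointwise_smul_subset_iff.mpr (by rwa [inv_inv]) 
        set k := (h : G)⁻¹ * g⁻¹
        have h2 : ∀ i : ℕ, k ^ (i + 1) • q ≤ k • q := by
          intro i
          induction i with
          | zero => simp
          | succ i ih =>
            rw [pow_succ', mul_smul]
            exact Ideal.map_mono (ih.trans h1)
        have h3 : q ≤ k • q := by
          have := h2 (orderOf k - 1)
          rwa [Nat.sub_add_cancel (orderOf_pos k), pow_orderOf_eq_one, one_smul] at this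
        have h4 : k ∈ H := hD (le_antisymm h1 h3)
        exact hg (by simpa [k] using H.inv_mem (H.mul_mem h.2 h4))
      have := Fintype.ofFinite H
      obtain ⟨z, hzg, hz⟩ : ∃ z ∈ g⁻¹ • q, ∀ h : H, z ∉ (h : G) • q := by
        by_contra hc
        push Not at hc
        have hsub : ((g⁻¹ • q : Ideal R) : Set R) ⊆ ⋃ h ∈ ((Finset.univ : Finset H) : Set H), (((h : G) • q : Ideal R) : Set R) := by
          intro z hz
          obtain ⟨h, hh⟩ := hc z hz
          exact Set.mem_iUnion₂.mpr ⟨h, Finset.mem_coe.mpr (Finset.mem_univ h), hh⟩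
        obtain ⟨h, -, hh⟩ := (Ideal.subset_union_prime (1 : H) (1 : H) fun i _ _ _ => inferInstance).mp hsub
        exact hne h hh
      refine ⟨⟨(∏ h : H, (h : G) • z) ^ N, fun a => ?_⟩, ?_, ?_⟩
      · show (a : G) • (∏ h : H, (h : G) • z) ^ N = _
        rw [smul_pow', Finset.smul_prod']
        congr 1
        refine Fintype.prod_equiv (Equiv.mulLeft a) _ _ fun h => ?_
        simp [mul_smul]
      · intro hmem
        obtain ⟨h, -, hh⟩ := (Ideal.IsPrime.prod_mem_iff (p := q)).mp
          (Ideal.IsPrime.mem_of_pow_mem ‹_› N hmem)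
        apply hz h⁻¹
        simpa [Ideal.mem_pointwise_smul_iff_inv_smul_mem] using hh
      · rw [smul_pow']
        refine Ideal.pow_mem_pow ?_ N
        rw [Finset.smul_prod', Finset.prod_eq_mul_prod_sdiff_singleton_of_mem (Finset.mem_univ (1 : H))]
        refine Ideal.mul_mem_right _ _ ?_
        simpa [Ideal.mem_pointwise_smul_iff_inv_smul_mem] using hzg
    have := Fintype.ofFinite G
    choose y hy hyq using hσ
    let Y : R' := ∏ g : {g : G // g ∉ H}, y g.1 g.2
    have hY : (Y : R) ∉ q := by
      rw [show (Y : R) = ∏ g : {g : G // g ∉ H}, (y g.1 g.2 : R) from by simp [Y]]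
      rw [Ideal.IsPrime.prod_mem_iff]
      rintro ⟨g, -, hg⟩
      exact hy _ _ hg
    have hYq : ∀ g : G, g ∉ H → ∀ r : R', g • ((r * Y : R') : R) ∈ q ^ N := by
      intro g hg r
      simp only [Subring.coe_mul, Y, SubmonoidClass.coe_finset_prod]
      rw [Finset.prod_eq_mul_prod_sdiff_singleton_of_mem (Finset.mem_univ (⟨g, hg⟩ : {g : G // g ∉ H})),
        smul_mul', smul_mul']
      exact Ideal.mul_mem_left _ _ (Ideal.mul_mem_right _ _ (hyq g hg))
    -- trace
    have key : ∀ r : R', ∃ b : B, algebraMap R' L (ι b) - algebraMap R' L (r * Y) ∈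
        IsLocalRing.maximalIdeal L ^ m ∧ ((b : R) - (r : R) * Y ∈ q) := by
      intro r
      let x : R := ((r * Y : R') : R)
      let f : G ⧸ H → R := Quotient.lift (fun g => g • x) (fun a b hab => by
        have hH : a⁻¹ * b ∈ H := QuotientGroup.leftRel_apply.mp hab
        have := (r * Y).2 ⟨a⁻¹ * b, hH⟩
        have h' : (a⁻¹ * b) • x = x := this
        conv_rhs => rw [show b = a * (a⁻¹ * b) from by group, mul_smul, h'])
      have := Fintype.ofFinite (G ⧸ H)
      have hb : ∑ c, f c ∈ B := by
        intro g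
        rw [Finset.smul_sum]
        refine Fintype.sum_equiv (MulAction.toPerm g) _ _ fun c => ?_
        induction c using Quotient.inductionOn with
        | h a => exact (mul_smul g a x).symm
      have hd : (∑ c, f c) - x ∈ q ^ N := by
        rw [← Finset.add_sum_erase _ f (Finset.mem_univ (((1 : G) : G ⧸ H)))]
        rw [show f ((1 : G) : G ⧸ H) = x from one_smul G x, add_sub_cancel_left]
        refine Ideal.sum_mem _ fun c hc => ?_
        induction c using Quotient.inductionOn with
        | h a =>
          refine hYq a (fun ha => (Finset.mem_erase.mp hc).1 ?_) r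
          exact (QuotientGroup.eq.mpr (by simpa using H.inv_mem ha))
      refine ⟨⟨_, hb⟩, ?_, Ideal.pow_le_self (Nat.succ_ne_zero _) hd⟩
      rw [← map_sub]
      refine hN₀ _ ⟨1, fun h => q.ne_top_iff_one.mp (Ideal.IsPrime.ne_top ‹_›) h, ?_⟩
      rw [one_mul]
      exact Ideal.pow_le_pow_right (Nat.le_succ _) hd
    intro a
    obtain ⟨a, rfl⟩ := Ideal.Quotient.mk_surjective a
    obtain ⟨r, u, rfl⟩ := IsLocalization.exists_mk'_eq q'.primeCompl a
    obtain ⟨b, hb, -⟩ := key r
    obtain ⟨c, hc, hcq⟩ := key u.1
    have hcp : c ∈ p.primeCompl := by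
      intro hcp
      have h1 : ((u.1 : R') : R) * Y ∈ q := by
        simpa using q.sub_mem (show (c : R) ∈ q from hcp) hcq
      exact (Ideal.IsPrime.mem_or_mem ‹_› h1).elim u.2 hY
    refine ⟨IsLocalization.mk' A b ⟨c, hcp⟩, ?_⟩
    have hφ : φ (IsLocalization.mk' A b ⟨c, hcp⟩) = IsLocalization.mk' L (ι b) ⟨ι c, hcp⟩ :=
      Localization.localRingHom_mk' ..
    show Ideal.Quotient.mk _ (φ (IsLocalization.mk' A b ⟨c, hcp⟩)) = _
    rw [hφ]
    let π := Ideal.Quotient.mk (IsLocalRing.maximalIdeal L ^ m)
    have hu : IsUnit (π (algebraMap R' L u.1)) := (IsLocalization.map_units L u).map π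
    have hcu : IsUnit (π (algebraMap R' L (ι c))) :=
      (IsLocalization.map_units L (⟨ι c, hcp⟩ : q'.primeCompl)).map π
    apply hcu.mul_right_cancel
    apply hu.mul_right_cancel
    change π (IsLocalization.mk' L (ι b) ⟨ι c, hcp⟩) * π (algebraMap R' L (ι c)) * π (algebraMap R' L u.1) =
      π (IsLocalization.mk' L r u) * π (algebraMap R' L (ι c)) * π (algebraMap R' L u.1)
    have eb : π (algebraMap R' L (ι b)) = π (algebraMap R' L (r * Y)) := Ideal.Quotient.eq.mpr hb
    have ec : π (algebraMap R' L (ι c)) = π (algebraMap R' L (u.1 * Y)) := Ideal.Quotient.eq.mpr hc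
    have h1 : IsLocalization.mk' L (ι b) ⟨ι c, hcp⟩ * algebraMap R' L (ι c) = algebraMap R' L (ι b) :=
      IsLocalization.mk'_spec L (ι b) (⟨ι c, hcp⟩ : q'.primeCompl)
    have h2 : IsLocalization.mk' L r u * algebraMap R' L u.1 = algebraMap R' L r :=
      IsLocalization.mk'_spec L r u
    calc _ = π (algebraMap R' L (ι b)) * π (algebraMap R' L u.1) := by rw [← map_mul, h1]
      _ = π (algebraMap R' L r) * π (algebraMap R' L (ι c)) := by
        rw [eb, ec]; simp only [map_mul]; ring
      _ = _ := by rw [← h2]; simp only [map_mul]; ring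
  refine ⟨hsurj n, le_antisymm ?_ ?_⟩
  · -- kernel
    obtain ⟨N₀, hN₀⟩ := Groth.Agent.Sga84.exists_pow_invariants G (R := R) q n
    have hdeep : ∀ a : A, φ a ∈ IsLocalRing.maximalIdeal L ^ (N₀ + 1) → a ∈ IsLocalRing.maximalIdeal A ^ n := by
      intro a ha
      obtain ⟨b, c, rfl⟩ := IsLocalization.exists_mk'_eq p.primeCompl a
      rw [show φ (IsLocalization.mk' A b c) = _ from Localization.localRingHom_mk' ..,
        IsLocalization.mk'_mem_iff, ← Localization.AtPrime.map_eq_maximalIdeal, ← Ideal.map_pow,
        IsLocalization.algebraMap_mem_map_algebraMap_iff q'.primeCompl] at ha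
      obtain ⟨u, hu, hub⟩ := ha
      have h1 : ((u : R') : R) * (b : R) ∈ q ^ (N₀ + 1) := by
        have := Ideal.mem_map_of_mem R'.subtype hub
        rw [Ideal.map_pow] at this
        exact Ideal.pow_right_mono Ideal.map_comap_le _ this
      obtain ⟨s, hs, hsb⟩ := hN₀ b ⟨_, hu, Ideal.pow_le_pow_right (Nat.le_succ _) h1⟩
      rw [IsLocalization.mk'_mem_iff, ← Localization.AtPrime.map_eq_maximalIdeal, ← Ideal.map_pow,
        IsLocalization.algebraMap_mem_map_algebraMap_iff p.primeCompl]
      exact ⟨s, hs, hsb⟩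
    intro a ha
    let π := Ideal.Quotient.mk (IsLocalRing.maximalIdeal L ^ (N₀ + 1))
    let ψ := π.comp φ
    have hm : (IsLocalRing.maximalIdeal L).map π ≤ (IsLocalRing.maximalIdeal A).map ψ := by
      rw [Ideal.map_le_iff_le_comap]
      intro x hx
      obtain ⟨b, hb⟩ := hsurj (N₀ + 1) (π x)
      show π x ∈ (IsLocalRing.maximalIdeal A).map ψ
      rw [← hb]
      refine Ideal.mem_map_of_mem ψ ((IsLocalRing.mem_maximalIdeal b).mpr fun hu => ?_)
      have h1 : φ b - x ∈ IsLocalRing.maximalIdeal L :=
        Ideal.pow_le_self (Nat.succ_ne_zero _) (Ideal.Quotient.eq.mp hb)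
      have h2 : φ b ∈ IsLocalRing.maximalIdeal L := by
        simpa using Ideal.add_mem _ h1 hx
      exact (IsLocalRing.mem_maximalIdeal _).mp h2 (hu.map φ)
    have h2 : ψ a ∈ (IsLocalRing.maximalIdeal A ^ n).map ψ := by
      have e := Ideal.map_pow ψ (IsLocalRing.maximalIdeal A) n
      rw [e]
      refine Ideal.pow_right_mono hm n ?_
      have e' := Ideal.map_pow π (IsLocalRing.maximalIdeal L) n
      rw [← e']
      exact Ideal.mem_map_of_mem π ha
    obtain ⟨c, hc, hca⟩ := (Ideal.mem_map_iff_of_surjective ψ (hsurj (N₀ + 1))).mp h2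
    have h3 : φ (a - c) ∈ IsLocalRing.maximalIdeal L ^ (N₀ + 1) := by
      rw [map_sub, ← Ideal.Quotient.eq]
      exact hca.symm
    simpa using Ideal.add_mem _ (hdeep _ h3) hc
  · rw [← Ideal.map_le_iff_le_comap, Ideal.map_pow]
    exact Ideal.pow_right_mono (Ideal.map_le_iff_le_comap (K := IsLocalRing.maximalIdeal L).mpr fun a ha => (IsLocalRing.mem_maximalIdeal _).mpr fun hu => (IsLocalRing.mem_maximalIdeal a).mp ha (isUnit_of_map_unit φ a hu)) n

end Groth.Agent.S6017
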