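import Groth.Statements.S6018
-- import your own Groth.Agent.* helpers here

set_option autoImplicit false
open CategoryTheory
universe v₁ v₂ v₃ u₁ u₂ u₃
open FibCat FibCat.Cleavage

namespace Groth.Agent.S6018

set_option backward.isDefEq.respectTransparency false in
set_option backward.isDefEq.respectTransparency.types false in
open CategoryTheory.Functor in

/-- Let `K` be a cleavage of a functor `p : 𝒳 ⥤ 𝒮` (neither fibredness nor normalisation is assumed),
let `F, G : 𝒳 ⥤ C` be functors, and for every object `S` of the base let `u_S` be a natural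
transformation between the restrictions of `F` and `G` to the fibre over `S`. If the family is
compatible with the transport morphisms `α_f(a) : f^* a ⟶ a` of `K`, i.e. `G(α_f(a)) ∘ u_T(f^* a) =
u_S(a) ∘ F(α_f(a))` for every base morphism `f : T ⟶ S` and every `a` over `S`, then there is
exactly one natural transformation `F ⟶ G` whose component at every object is the prescribed one.
(The published statement is an isomorphism between the category of all functors `𝒳 ⥤ C` and the
category of compatible families of functors on the fibres of a normalised cloven category; this row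
is its assertion on morphisms, whose published proof does not use the normalisation, so none is
assumed here.) -/
theorem result (𝒮 : Type u₁) (𝒳 : Type u₂) [Category.{v₁} 𝒮]
    [Category.{v₂} 𝒳] (p : 𝒳 ⥤ 𝒮) (K : FibCat.Cleavage p) (C : Type u₃) [Category.{v₃} C] (F G : 𝒳 ⥤ C)
    (u : ∀ S : 𝒮, (Functor.Fiber.fiberInclusion ⋙ F : p.Fiber S ⥤ C) ⟶ Functor.Fiber.fiberInclusion ⋙ G)
    (hu : ∀ ⦃T S : 𝒮⦄ (f : T ⟶ S) (a : p.Fiber S),
      F.map ((K.transport f).app a) ≫ (u S).app a = (u T).app ((K.inverseImage f).obj a) ≫ G.map ((K.transport f).app a)) :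
    ∃! v : F ⟶ G, ∀ (S : 𝒮) (a : p.Fiber S), v.app a.1 = (u S).app a := by
  let w : ∀ x : 𝒳, F.obj x ⟶ G.obj x := fun x => (u (p.obj x)).app ⟨x, rfl⟩
  have hw : ∀ (S : 𝒮) (a : p.Fiber S), w a.1 = (u S).app a := by
    rintro S ⟨a, rfl⟩
    rfl
  refine ⟨{ app := w, naturality := fun x y φ => ?_ }, hw,
    fun v hv => NatTrans.ext (funext fun x => (hv (p.obj x) ⟨x, rfl⟩))⟩
  let a : p.Fiber (p.obj y) := ⟨y, rfl⟩
  let f := p.map φ
  let k := IsCartesian.map p f (K.lift a.2 f) φ
  have hk : k ≫ K.lift a.2 f = φ := IsCartesian.fac p f (K.lift a.2 f) φ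
  let kk : (Functor.Fiber.mk (p := p) (a := x) rfl : p.Fiber (p.obj x)) ⟶ (K.inverseImage f).obj a :=
    ⟨k, IsCartesian.map_isHomLift p f (K.lift a.2 f) φ⟩
  have e1 : F.map k ≫ (u (p.obj x)).app ((K.inverseImage f).obj a) = w x ≫ G.map k :=
    (u (p.obj x)).naturality kk
  have e2 := hu f a
  have e2' : F.map (K.lift a.2 f) ≫ w y =
      (u (p.obj x)).app ((K.inverseImage f).obj a) ≫ G.map (K.lift a.2 f) := e2
  rw [← hk, Functor.map_comp, Category.assoc, e2', ← Category.assoc, e1, Category.assoc,
    ← Functor.map_comp]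

end Groth.Agent.S6018
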