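import Groth.Statements.S6019
-- import your own Groth.Agent.* helpers here

set_option autoImplicit false
open CategoryTheory
universe v₁ v₂ u₁ u₂
open FibCat FibCat.Cleavage

namespace Groth.Agent.S6019

set_option backward.isDefEq.respectTransparency false in
set_option backward.isDefEq.respectTransparency.types false in
open CategoryTheory.Functor in

/-- A pre-fibred category admits a normalised cleavage: if every base morphism `R ⟶ p(a)` has a
cartesian morphism over it with target `a`, then one cartesian lift can be chosen for every base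
morphism at every object over its target in such a way that the chosen lift of each identity `𝟙 S`
at each object `a` over `S` is the identity of `a` (identities are transport morphisms). -/
theorem result (𝒮 : Type u₁) (𝒳 : Type u₂) [Category.{v₁} 𝒮] [Category.{v₂} 𝒳]
    (p : 𝒳 ⥤ 𝒮) [p.IsPreFibered] : ∃ K : FibCat.Cleavage p, K.IsNormalised := by
  have h : ∀ {R S : 𝒮} {a : 𝒳} (_ : p.obj a = S) (f : R ⟶ S), ∃ (b : 𝒳) (φ : b ⟶ a),
      p.IsCartesian f φ ∧ ∀ e : R = S, f = eqToHom e → ∃ h : b = a, φ = eqToHom h := by
    intro R S a ha f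
    by_cases hf : ∃ e : R = S, f = eqToHom e
    · obtain ⟨e, rfl⟩ := hf
      subst e
      have : p.IsHomLift (𝟙 R) (𝟙 a) := IsHomLift.id ha
      refine ⟨a, 𝟙 a, ?_, fun _ _ => ⟨rfl, rfl⟩⟩
      rw [eqToHom_refl]
      exact { universal_property := fun ψ hψ =>
        ⟨ψ, ⟨hψ, Category.comp_id ψ⟩, fun t ht => (Category.comp_id t).symm.trans ht.2⟩ }
    · exact ⟨IsPreFibered.pullbackObj ha f, IsPreFibered.pullbackMap ha f, inferInstance,
        fun e he => absurd ⟨e, he⟩ hf⟩
  choose b φ hc hn using @h
  refine ⟨{ obj := fun ha f => b ha f, lift := fun ha f => φ ha f, isCartesian := fun ha f => hc ha f },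
    fun S a ha => hn ha (𝟙 S) rfl rfl⟩

end Groth.Agent.S6019
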