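import Groth.Statements.S6033
import Groth.Agent.LocCohZ41.Tilde
import Groth.Agent.LocCohZ46.Pairs
-- import your own Groth.Agent.* helpers here

set_option autoImplicit false
universe u
open CategoryTheory CategoryTheory.Limits TopologicalSpace AlgebraicGeometry
open LocCohZ

namespace Groth.Agent.S6033

/-- Let A be a commutative ring such that the underlying space of X = Spec A is Noetherian. Then M~ is
flasque for every injective A-module M if and only if colim_n H^1(f^n, M) = 0 (direct limit of
Koszul cohomology of the powers) for every finite family f of elements of A and every injective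
A-module M; and in that case colim_n H^i(f^n, M) = 0 for all i > 0 as well. -/
theorem result (A : Type u) [CommRing A]
    [NoetherianSpace (PrimeSpectrum A)] :
    ((∀ (M : Type u) [AddCommGroup M] [Module A M], Module.Injective A M →
        TopCat.Sheaf.IsFlasque (Coh.toAb (AlgebraicGeometry.tilde (R := CommRingCat.of A) (ModuleCat.of A M)))) ↔
      ∀ (fs : List A) (M : Type u) [AddCommGroup M] [Module A M], Module.Injective A M →
        Subsingleton (CohIII.koszulHLim fs (ModuleCat.of A M) 1)) ∧
    ((∀ (M : Type u) [AddCommGroup M] [Module A M], Module.Injective A M →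
        TopCat.Sheaf.IsFlasque (Coh.toAb (AlgebraicGeometry.tilde (R := CommRingCat.of A) (ModuleCat.of A M)))) →
      ∀ (fs : List A) (M : Type u) [AddCommGroup M] [Module A M], Module.Injective A M →
        ∀ i : ℕ, 0 < i → Subsingleton (CohIII.koszulHLim fs (ModuleCat.of A M) i)) := by
  have flasque_van : ∀ (M : Type u) [AddCommGroup M] [Module A M],
      TopCat.Sheaf.IsFlasque (Coh.toAb (AlgebraicGeometry.tilde (R := CommRingCat.of A) (ModuleCat.of A M))) →
      ∀ (fs : List A) (i : ℕ), Subsingleton (CohIII.koszulHLim fs (ModuleCat.of A M) (i + 1)) := by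
    intro M _ _ hM fs i
    haveI := hM
    obtain ⟨e⟩ := LocCohZ41.nonempty_HZM (R := A) (gs := fs) (M := M) (i + 1)
    haveI : Subsingleton (LocCohZ.HZM (Spec (CommRingCat.of A))
        (AlgebraicGeometry.tilde (R := CommRingCat.of A) (ModuleCat.of A M)) (i + 1)
        (LocCoh.puncturedOpen A (Ideal.span {a | a ∈ fs}))) :=
      LocCohZ46.subsingleton_HZ_of_isFlasque (X := (Spec (CommRingCat.of A)).toTopCat)
        (le_top : LocCoh.puncturedOpen A (Ideal.span {a | a ∈ fs}) ≤ ⊤)
        (Coh.toAb (AlgebraicGeometry.tilde (R := CommRingCat.of A) (ModuleCat.of A M))) i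
    exact e.toEquiv.subsingleton
  refine ⟨⟨fun h fs M _ _ hM => flasque_van M (h M hM) fs 0, fun h M _ _ hM => ?_⟩, fun h fs M _ _ hM i hi => ?_⟩
  · let Y := Spec (CommRingCat.of A)
    let G := AlgebraicGeometry.tilde (R := CommRingCat.of A) (ModuleCat.of A M)
    let F : CohTop.Ab Y.toTopCat := Coh.toAb G
    have top : ∀ U : Y.Opens, Function.Surjective (F.obj.map (homOfLE (le_top : U ≤ ⊤)).op).hom := by
      intro U
      obtain ⟨s, hsU⟩ := (PrimeSpectrum.isCompact_isOpen_iff (s := ((U : Set Y) : Set (PrimeSpectrum A)))).1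
        ⟨NoetherianSpace.isCompact _, U.2⟩
      have hU : LocCoh.puncturedOpen A (Ideal.span {a | a ∈ s.toList}) = U := by
        apply TopologicalSpace.Opens.ext
        rw [← hsU]
        show (PrimeSpectrum.zeroLocus (R := A) ((Ideal.span {a | a ∈ s.toList} : Ideal A) : Set A))ᶜ = _
        rw [PrimeSpectrum.zeroLocus_span]
        simp
      subst hU
      haveI := LocCohZ41.subsingleton_E_top G 0
      obtain ⟨e₁⟩ := LocCohZ41.nonempty_one (X := Y.toTopCat) F
        (le_top : LocCoh.puncturedOpen A (Ideal.span {a | a ∈ s.toList}) ≤ ⊤)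
      obtain ⟨e⟩ := LocCohZ41.nonempty_HZM (R := A) (gs := s.toList) (M := M) 1
      haveI := h s.toList M hM
      haveI : Subsingleton (LocCohZ.HZ F 1 (le_top : LocCoh.puncturedOpen A (Ideal.span {a | a ∈ s.toList}) ≤ ⊤)) :=
        e.symm.toEquiv.subsingleton
      have hq := QuotientAddGroup.addSubgroup_eq_top_of_subsingleton _ e₁.toEquiv.subsingleton
      exact AddMonoidHom.range_eq_top.1 hq
    refine ⟨fun {U V} i => (AddCommGrpCat.epi_iff_surjective _).2 fun x => ?_⟩
    obtain ⟨t, ht⟩ := top V.unop x
    refine ⟨(F.obj.map (homOfLE (le_top : U.unop ≤ ⊤)).op).hom t, ?_⟩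
    show (F.obj.map (homOfLE (le_top : U.unop ≤ ⊤)).op ≫ F.obj.map i).hom t = x
    rw [← F.obj.map_comp]
    exact ht
  · obtain ⟨j, rfl⟩ : ∃ j, i = j + 1 := ⟨i - 1, by omega⟩
    exact flasque_van M (h M hM) fs j

end Groth.Agent.S6033
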