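import Groth.Statements.S6034
import Groth.Agent.LocCohZ93.AffineHZ
import Groth.Agent.LocCohZ46.Vanish
import Groth.Agent.LC16.KoszulFam
import Groth.Agent.LC17.DepthLoc
import Groth.Agent.Div89.DepthTwo
-- import your own Groth.Agent.* helpers here

set_option autoImplicit false
universe u
open CategoryTheory CategoryTheory.Limits TopologicalSpace AlgebraicGeometry
open LocCohZ

namespace Groth.Agent.S6034

/-- Let X be a locally Noetherian scheme, Y a closed subset with open complement U, M a coherent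
O_X-module with underlying abelian sheaf F and n a natural number. Then ℋ^i_Y(F) = 0 for all i < n
if and only if depth M_x ≥ n for every x ∈ Y. -/
theorem result (X : Scheme.{u}) [IsLocallyNoetherian X] (U : X.Opens)
    (M : X.Modules) (hM : Coh.IsCoh M) (n : ℕ) :
    (∀ i : ℕ, i < n → IsZero ((LocCohZ.HZsh (X := X.carrier) U i).obj (Coh.toAb M))) ↔
      ∀ x : X, x ∉ (U : Set X) →
        (n : ℕ∞) ≤ LocCoh.depth (X.presheaf.stalk x) (M.presheaf.stalk x) := by
  classical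
  haveI : M.IsQuasicoherent := hM.1
  haveI : M.IsFiniteType := hM.2
  have key : ∀ (V : X.affineOpens), ∃ fs : List Γ(X, V.1),
      (∀ x, ∀ hx : x ∈ V.1, x ∉ U ↔
        Ideal.span {f | f ∈ fs} ≤ Div89.primeAt V x hx) ∧
      ∀ k : ℕ, (∀ i, i < k → Subsingleton (LocCohZ46.Hz (inf_le_left : V.1 ⊓ U ≤ V.1) (Coh.toAb M) i)) ↔
        (k : ℕ∞) ≤ LocCoh.idealDepth (Ideal.span {f | f ∈ fs}) Γ(M, V.1) := by
    intro V
    haveI := Div89.isNoetherianRing_sections V
    haveI := QC70.finite_sections_of_isFiniteType M V.2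
    haveI : NoetherianSpace V.1 := noetherianSpace_of_isAffineOpen _ V.2
    have hcpt : IsCompact ((V.1 ⊓ U : X.Opens) : Set X) := by
      have h := (NoetherianSpace.isCompact (Subtype.val ⁻¹' (U : Set X) : Set V.1)).image continuous_subtype_val
      have h2 : Subtype.val '' (Subtype.val ⁻¹' (U : Set X) : Set V.1) = ((V.1 ⊓ U : X.Opens) : Set X) := by
        ext z
        exact ⟨by rintro ⟨w, hw, rfl⟩; exact ⟨w.2, hw⟩, fun hz => ⟨⟨z, hz.1⟩, hz.2, rfl⟩⟩
      exact h2.subst (motive := IsCompact) h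
    have hb : ∀ p : ↥((V.1 ⊓ U : X.Opens) : Set X), ∃ f : Γ(X, V.1), X.basicOpen f ≤ V.1 ⊓ U ∧ (p : X) ∈ X.basicOpen f :=
      fun p => V.2.exists_basicOpen_le ⟨p.1, p.2⟩ p.2.1
    choose f hf hpf using hb
    obtain ⟨T, hT⟩ := hcpt.elim_finite_subcover (fun p => (X.basicOpen (f p) : Set X))
      (fun p => (X.basicOpen (f p)).isOpen) (fun p hp => Set.mem_iUnion.2 ⟨⟨p, hp⟩, hpf _⟩)
    let fs : List Γ(X, V.1) := T.toList.map f
    have hmem : ∀ x : X, x ∈ V.1 ⊓ U ↔ ∃ g ∈ fs, x ∈ X.basicOpen g := by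
      intro x
      refine ⟨fun hx => ?_, ?_⟩
      · obtain ⟨p, hp, hxp⟩ := Set.mem_iUnion₂.1 (hT hx)
        exact ⟨f p, List.mem_map.2 ⟨p, Finset.mem_toList.2 hp, rfl⟩, hxp⟩
      · rintro ⟨g, hg, hxg⟩
        obtain ⟨p, -, rfl⟩ := List.mem_map.1 hg
        exact hf p hxg
    have hfs : V.1 ⊓ U = ⨆ i : ULift.{u} (Fin fs.length), X.basicOpen (fs.get i.down) := by
      apply Opens.ext
      ext x
      change x ∈ V.1 ⊓ U ↔ x ∈ (⨆ i : ULift.{u} (Fin fs.length), X.basicOpen (fs.get i.down) : X.Opens)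
      rw [hmem, Opens.mem_iSup]
      constructor
      · rintro ⟨g, hg, hx⟩
        obtain ⟨i, rfl⟩ := List.get_of_mem hg
        exact ⟨⟨i⟩, hx⟩
      · rintro ⟨i, hx⟩
        exact ⟨_, List.get_mem fs i.down, hx⟩
    refine ⟨fs, fun x hx => ?_, fun k => ?_⟩
    · rw [Ideal.span_le]
      refine ⟨fun hxU g hg => ?_, fun h hxU => ?_⟩
      · exact (Div89.mem_primeAt_iff V x hx g).2 fun hxg => hxU ((hmem x).2 ⟨g, hg, hxg⟩).2
      · obtain ⟨g, hg, hxg⟩ := (hmem x).1 ⟨hx, hxU⟩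
        exact (Div89.mem_primeAt_iff V x hx g).1 (h hg) hxg
    · rw [LC17.natCast_le_idealDepth_iff]
      refine forall₂_congr fun i _ => ?_
      obtain ⟨e⟩ := LocCohZ93.nonempty_HZ_affineOpen M V.1 V.2 U fs hfs i
      obtain ⟨e'⟩ := LC16.KoszulFam.nonempty_equiv fs i Γ(M, V.1)
      exact (e'.toAddEquiv.trans e).toEquiv.subsingleton_congr.symm
  refine ⟨fun h x hx => ?_, fun h i hi => ?_⟩
  · obtain ⟨_, ⟨V₀, hV₀, rfl⟩, hxV, -⟩ :=
      X.isBasis_affineOpens.exists_subset_of_mem_open (Set.mem_univ x) isOpen_univ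
    let V : X.affineOpens := ⟨V₀, hV₀⟩
    haveI := Div89.isNoetherianRing_sections V
    haveI := QC70.finite_sections_of_isFiniteType M V.2
    obtain ⟨fs, hpt, hk⟩ := key V
    haveI : (Div89.primeAt V x hxV).IsPrime := Div89.primeAt_isPrime V x hxV
    rw [← Div89.depth_localized_eq_stalk M hM V x hxV]
    refine le_trans ((hk n).1 fun j hj => ?_) (LC17.idealDepth_le_depth_loc (Div89.primeAt V x hxV) ((hpt x hxV).1 hx))
    exact (LocCohZ46.locZero_iff_subsingleton (X := X.toTopCat) (U := U) (Coh.toAb M) n).1 h V₀ j hj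
  · refine (LocCohZ46.locZero_iff (X := X.toTopCat) (U := U) (Coh.toAb M) i).2 fun W z p hp => ?_
    obtain ⟨_, ⟨V₀, hV₀, rfl⟩, hpV, hVW⟩ :=
      X.isBasis_affineOpens.exists_subset_of_mem_open hp W.isOpen
    let V : X.affineOpens := ⟨V₀, hV₀⟩
    haveI := Div89.isNoetherianRing_sections V
    haveI := QC70.finite_sections_of_isFiniteType M V.2
    obtain ⟨fs, hpt, hk⟩ := key V
    refine ⟨V₀, hVW, hpV, ?_⟩
    have hd := LC17.natCast_le_idealDepth_of_forall (Ideal.span {f | f ∈ fs}) n Γ(M, V.1) fun q hq => by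
      obtain ⟨q, hq'⟩ := q
      obtain ⟨x, hx, he⟩ := Div89.exists_point V q
      subst he
      exact (h x ((hpt x hx).2 hq)).trans_eq (Div89.depth_localized_eq_stalk M hM V x hx).symm
    exact ((hk n).2 hd i hi).elim _ _

end Groth.Agent.S6034
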