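import Groth.Statements.S6041
import Groth.Agent.SpPts86.QuotSpace

set_option autoImplicit false
open CategoryTheory CategoryTheory.Limits AlgebraicGeometry MonoidalCategory
universe u
open GrpQ

namespace Groth.Agent.S6041

open CartesianMonoidalCategory in
/-- For schemes and the fppf topology, easy direction: let `s, t : R ⇉ U` be a pair of morphisms of
schemes over `S` (in the source an equivalence relation), `T` a scheme over `S` and `i : Z ⟶ U ×_S
T` such that `Z ⟶ T` is flat, surjective and locally of finite presentation and any two points of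
`Z` over the same point of `T` have `R`-related images in `U`. Then the composite `h_Z ⟶ h_U ⟶ U/R`
descends to exactly one section of the fppf quotient sheaf `U/R` over `T`. -/
theorem result {S : Scheme.{u}} {R U : Over S} (s t : R ⟶ U)
    (T Z : Over S) (i : Z ⟶ U ⊗ T)
    [Flat (i ≫ snd U T).left] [Surjective (i ≫ snd U T).left] [LocallyOfFinitePresentation (i ≫ snd U T).left]
    (hZZ : ∀ (T' : Over S) (z₁ z₂ : T' ⟶ Z), z₁ ≫ i ≫ snd U T = z₂ ≫ i ≫ snd U T →
      ∃ r : T' ⟶ R, r ≫ s = z₁ ≫ i ≫ fst U T ∧ r ≫ t = z₂ ≫ i ≫ fst U T) :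
    ∃! σ : QuotSh.rep Scheme.fppfPrecoverage T ⟶ QuotSh.quot Scheme.fppfPrecoverage s t,
      QuotSh.repMap Scheme.fppfPrecoverage (i ≫ fst U T) ≫ QuotSh.quotπ Scheme.fppfPrecoverage s t =
        QuotSh.repMap Scheme.fppfPrecoverage (i ≫ snd U T) ≫ σ := by
  let z := i ≫ snd U T
  have hz : SpFP87.fppfSurj z.left := (SpFP87.fppfSurj_iff _).mpr ⟨inferInstance, inferInstance, inferInstance⟩
  let P := SpPts86.quotMap s t
  obtain ⟨a, ha, huniq⟩ := SpFP87.cover_existsUnique_desc z hz ((AlgSp.yon S).map (i ≫ fst U T) ≫ P)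
    (fun W p₁ p₂ h => by
      obtain ⟨r, h1, h2⟩ := hZZ W p₁ p₂ h
      rw [← Functor.map_comp_assoc, ← Functor.map_comp_assoc, ← h1, ← h2,
        Functor.map_comp_assoc, Functor.map_comp_assoc]
      exact congrArg ((AlgSp.yon S).map r ≫ ·) (SpPts86.quotMap_condition s t).symm)
  let iT := QuotSh.repIsoUliftYoneda Scheme.fppfPrecoverage T
  let iZ := QuotSh.repIsoUliftYoneda Scheme.fppfPrecoverage Z
  have key : ∀ σ : QuotSh.rep Scheme.fppfPrecoverage T ⟶ QuotSh.quot Scheme.fppfPrecoverage s t,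
      (QuotSh.repMap Scheme.fppfPrecoverage (i ≫ fst U T) ≫ QuotSh.quotπ Scheme.fppfPrecoverage s t =
        QuotSh.repMap Scheme.fppfPrecoverage z ≫ σ) ↔
      (AlgSp.yon S).map z ≫ iT.inv ≫ σ = (AlgSp.yon S).map (i ≫ fst U T) ≫ P := by
    intro σ
    have e : ∀ {V : Over S} (g : Z ⟶ V), QuotSh.repMap Scheme.fppfPrecoverage g =
        iZ.hom ≫ (AlgSp.yon S).map g ≫ (QuotSh.repIsoUliftYoneda Scheme.fppfPrecoverage V).inv := fun g => by
      rw [← Category.assoc, Iso.eq_comp_inv]
      exact Grpd80.repMap_comp_iso g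
    rw [e, e]
    simp only [Category.assoc]
    rw [cancel_epi]
    exact eq_comm
  refine ⟨iT.hom ≫ a, (key _).mpr (by rw [Iso.inv_hom_id_assoc, ha]), fun σ hσ => ?_⟩
  rw [← Iso.inv_comp_eq]
  exact huniq _ ((key σ).mp hσ)

end Groth.Agent.S6041
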