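import Groth.Statements.S6046
import Groth.Agent.GrpQ80.QuasiSectionAt

set_option autoImplicit false
universe u
open CategoryTheory AlgebraicGeometry CategoryTheory.Limits
open GrpQ

namespace Groth.Agent.S6046

/-- Let `S` be locally Noetherian and `(U, R, s, t, c)` a groupoid scheme over `S` with `s` proper and
flat, `U` quasi-projective over `S` and `j = (t, s) : R ⟶ U ×_S U` quasi-finite. Then every point
`z` of `U` closed in its fibre over `S` has a saturated open neighbourhood `W` over which the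
induced groupoid has a quasi-section: an immersion `u : U' ⟶ W` such that `R|_W ×_{t, W} U' ⟶ W`
(induced by `s`) is finite locally free and surjective and every set of pairwise equivalent points
of `U'` lies in an affine open of `U'`. -/
theorem result (S : Scheme.{u}) [IsLocallyNoetherian S] (G : Grpd.GroupoidScheme S)
    [IsProper G.s] [Flat G.s] (hU : RelProj.IsQuasiProjective G.pU)
    [LocallyQuasiFinite G.j] [LocallyOfFiniteType G.j]
    (z : G.U) (hz : ∀ z' : G.U, z' ∈ closure ({z} : Set G.U) → G.pU.base z' = G.pU.base z → z' = z) :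
    ∃ (W : G.U.Opens) (hW : G.t ⁻¹ᵁ W = G.s ⁻¹ᵁ W), z ∈ W ∧
      ∃ (U' : Scheme.{u}) (u : U' ⟶ (W : Scheme.{u})), IsImmersion u ∧
        Mor2.IsFinLocFree (pullback.fst (G.t.resLE W (G.s ⁻¹ᵁ W) hW.ge) u ≫ (G.s ∣_ W)) ∧
        Surjective (pullback.fst (G.t.resLE W (G.s ⁻¹ᵁ W) hW.ge) u ≫ (G.s ∣_ W)) ∧
        ∀ E : Set U', (∀ x ∈ E, ∀ y ∈ E, ∃ r : G.R,
            G.t.base r = (u ≫ W.ι).base x ∧ G.s.base r = (u ≫ W.ι).base y) →
          ∃ V : U'.Opens, IsAffineOpen V ∧ E ⊆ (V : Set U') := by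
  have hz' : closure ({z} : Set G.U) ∩ G.pU ⁻¹' {G.pU z} = {z} :=
    Set.eq_singleton_iff_unique_mem.2 ⟨⟨subset_closure rfl, rfl⟩, fun z' h => hz z' h.1 h.2⟩
  obtain ⟨W, hzW, hW⟩ := GrpQ80.exists_hasQS_at G hU z hz'
  obtain ⟨hW', h⟩ := hW.exists_restr
  exact ⟨W, hW', hzW, h⟩

end Groth.Agent.S6046
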