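import Groth.Statements.S6056
import Groth.Agent.Alg80.FPDescentScheme
import Groth.Agent.FlatMor66.FlatDescentSource
import Mathlib.AlgebraicGeometry.Sites.Fpqc

set_option autoImplicit false
open CategoryTheory CategoryTheory.Limits AlgebraicGeometry MonoidalCategory
universe u
open RedSub

namespace Groth.Agent.S6056

open MonObj CartesianMonoidalCategory SemiCartesianMonoidalCategory

variable {S : Scheme.{u}}

/-- fppf covering morphisms in the category of schemes over the base. -/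
def Fppf {A B : Over S} (d : A ⟶ B) : Prop :=
  Surjective d.left ∧ Flat d.left ∧ LocallyOfFinitePresentation d.left

theorem Fppf.comp {A B C : Over S} {d : A ⟶ B} {e : B ⟶ C} (hd : Fppf d) (he : Fppf e) :
    Fppf (d ≫ e) := by
  obtain ⟨_, _, _⟩ := hd; obtain ⟨_, _, _⟩ := he
  simp only [Fppf, Over.comp_left]
  exact ⟨inferInstance, inferInstance, inferInstance⟩

theorem Fppf.epi {A B : Over S} {d : A ⟶ B} (hd : Fppf d) : Epi d := by
  obtain ⟨_, _, _⟩ := hd
  have : Epi d.left := Flat.epi_of_flat_of_surjective _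
  exact Over.epi_of_epi_left d

theorem exists_lift {A B T : Over S} {q : A ⟶ B} (hq : Fppf q) (a : T ⟶ B) :
    ∃ (T' : Over S) (d : T' ⟶ T) (a' : T' ⟶ A), Fppf d ∧ a' ≫ q = d ≫ a := by
  obtain ⟨h1, h2, h3⟩ := hq
  refine ⟨Over.mk (pullback.snd q.left a.left ≫ T.hom), Over.homMk (pullback.snd q.left a.left) rfl,
    Over.homMk (pullback.fst q.left a.left) ?_, ⟨?_, ?_, ?_⟩, ?_⟩
  · show pullback.fst q.left a.left ≫ A.hom = pullback.snd q.left a.left ≫ T.hom
    rw [← Over.w q, pullback.condition_assoc, Over.w a]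
  · exact MorphismProperty.pullback_snd (P := @Surjective) _ _ h1
  · exact MorphismProperty.pullback_snd (P := @Flat) _ _ h2
  · exact MorphismProperty.pullback_snd (P := @LocallyOfFinitePresentation) _ _ h3
  · exact Over.OverMorphism.ext pullback.condition

/-- Descent of morphisms along an fppf covering. -/
theorem exists_desc {A B Z : Over S} {d : A ⟶ B} (hd : Fppf d) (f : A ⟶ Z)
    (hf : ∀ (W : Over S) (e₁ e₂ : W ⟶ A), e₁ ≫ d = e₂ ≫ d → e₁ ≫ f = e₂ ≫ f) :
    ∃ v : B ⟶ Z, d ≫ v = f := by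
  obtain ⟨_, _, _⟩ := hd
  have hc : ∀ {W : Scheme.{u}} (e₁ e₂ : W ⟶ A.left), e₁ ≫ d.left = e₂ ≫ d.left →
      e₁ ≫ f.left = e₂ ≫ f.left := fun {W} e₁ e₂ he => by
    let W' : Over S := Over.mk (e₁ ≫ A.hom)
    have h2 : e₂ ≫ A.hom = W'.hom := by
      show _ = e₁ ≫ A.hom
      rw [← Over.w d, ← Category.assoc, ← he, Category.assoc]
    exact congrArg CommaMorphism.left (hf W' (Over.homMk e₁ rfl) (Over.homMk e₂ h2)
      (Over.OverMorphism.ext he))
  refine ⟨Over.homMk (EffectiveEpi.desc d.left f.left (fun g₁ g₂ he => hc g₁ g₂ he)) ?_, Over.OverMorphism.ext (EffectiveEpi.fac d.left f.left (fun g₁ g₂ he => hc g₁ g₂ he))⟩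
  rw [← cancel_epi d.left, ← Category.assoc, EffectiveEpi.fac, Over.w, Over.w]

section
variable {H G Q : Over S} [GrpObj H] [GrpObj G] {i : H ⟶ G} {q : G ⟶ Q}

theorem quot_rel (hq : RedSub.IsQuotient i q) {T : Over S} (g g' : T ⟶ G) (e : g ≫ q = g' ≫ q) :
    ∃ o : T ⟶ H, g' = g * (o ≫ i) := by
  obtain ⟨w, hw1, hw2⟩ := hq.2.2.2.exists_lift g g' e
  refine ⟨w ≫ snd G H, ?_⟩
  rw [← hw2, Hom.mul_def]
  rw [← Category.assoc w, ← hw1]
  congr 1
  apply CartesianMonoidalCategory.hom_ext <;> simp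

theorem quot_eq (hq : RedSub.IsQuotient i q) {T : Over S} (g : T ⟶ G) (o : T ⟶ H) :
    (g * (o ≫ i)) ≫ q = g ≫ q := by
  have h := congrArg (fun v => lift g o ≫ v) hq.2.2.2.w
  simp only [lift_fst_assoc, lift_whiskerLeft_assoc, Category.assoc] at h
  rw [Hom.mul_def, Category.assoc, ← h]

end

open MonObj CartesianMonoidalCategory SemiCartesianMonoidalCategory in
/-- For group schemes and fppf quotients: let `K ⊆ G` be a subgroup scheme and `H ⊆ K` a subgroup scheme
normal in `K`; suppose `G/H` is represented by `q_H : G ⟶ Q_H` and `K/H` by a homomorphism `K ⟶ K'`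
of group schemes, and let `act : Q_H ×_S K' ⟶ Q_H` be the right action induced by the multiplication
of `G`. Then: (i) if `G/K` is represented by `q_K : G ⟶ Q_K`, the map `Q_H ⟶ Q_K` under `G` is an
fppf covering whose kernel pair is `Q_H ×_S K' ⇉ Q_H` (projection, action), i.e. `Q_K =
(G/H)/(K/H)`; (ii) conversely, if `p : Q_H ⟶ Y` is an fppf covering with that kernel pair, then `q_H
≫ p` represents `G/K`. -/
theorem result {S : Scheme.{u}} {H K G QH Kb : Over S}
    [hH : GrpObj H] [hK : GrpObj K] [hG : GrpObj G] [hKb : GrpObj Kb]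
    (h : H ⟶ K) (k : K ⟶ G) [Mono h] [Mono k] [IsMonHom h] [IsMonHom k]
    (hn : AlgGrp.IsNormalHom h)
    (qH : G ⟶ QH) (hqH : RedSub.IsQuotient (h ≫ k) qH)
    (qKb : K ⟶ Kb) [IsMonHom qKb] (hqKb : RedSub.IsQuotient h qKb)
    (act : QH ⊗ Kb ⟶ QH) (hact : (qH ⊗ₘ qKb) ≫ act = (G ◁ k) ≫ μ[G] ≫ qH) :
    (∀ (QK : Over S) (qK : G ⟶ QK), RedSub.IsQuotient k qK →
      ∀ qbar : QH ⟶ QK, qH ≫ qbar = qK →
        Surjective qbar.left ∧ Flat qbar.left ∧ LocallyOfFinitePresentation qbar.left ∧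
          IsPullback (fst QH Kb) act qbar qbar) ∧
    (∀ (Y : Over S) (p : QH ⟶ Y),
      Surjective p.left → Flat p.left → LocallyOfFinitePresentation p.left →
      IsPullback (fst QH Kb) act p p → RedSub.IsQuotient k (qH ≫ p)) := by
  have hactp : ∀ (T : Over S) (g : T ⟶ G) (x : T ⟶ K),
      lift (g ≫ qH) (x ≫ qKb) ≫ act = (g * (x ≫ k)) ≫ qH := by
    intro T g x
    rw [← lift_map_assoc, hact, lift_whiskerLeft_assoc, Hom.mul_def, Category.assoc]
  have fH : Fppf qH := ⟨hqH.1, hqH.2.1, hqH.2.2.1⟩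
  have fK : Fppf qKb := ⟨hqKb.1, hqKb.2.1, hqKb.2.2.1⟩
  -- the pair (fst, act) is jointly monic
  have hmono : ∀ (T : Over S) (w w' : T ⟶ QH ⊗ Kb),
      w ≫ fst _ _ = w' ≫ fst _ _ → w ≫ act = w' ≫ act → w = w' := by
    intro T w w' h1 h2
    obtain ⟨T₁, d₁, g, hd₁, hg⟩ := exists_lift fH (w ≫ fst _ _)
    obtain ⟨T₂, d₂, x, hd₂, hx⟩ := exists_lift fK (d₁ ≫ w ≫ snd _ _)
    obtain ⟨T₃, d₃, x', hd₃, hx'⟩ := exists_lift fK (d₂ ≫ d₁ ≫ w' ≫ snd _ _)
    have := ((hd₃.comp hd₂).comp hd₁).epi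
    rw [← cancel_epi ((d₃ ≫ d₂) ≫ d₁)]
    have e1 : ((d₃ ≫ d₂) ≫ d₁) ≫ w = lift ((d₃ ≫ d₂ ≫ g) ≫ qH) ((d₃ ≫ x) ≫ qKb) := by
      apply CartesianMonoidalCategory.hom_ext
      · simp only [lift_fst, Category.assoc, hg]
      · simp only [lift_snd, Category.assoc, hx]
    have e2 : ((d₃ ≫ d₂) ≫ d₁) ≫ w' = lift ((d₃ ≫ d₂ ≫ g) ≫ qH) (x' ≫ qKb) := by
      apply CartesianMonoidalCategory.hom_ext
      · simp only [lift_fst, Category.assoc, hg, h1]
      · simp only [lift_snd, Category.assoc, hx']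
    have h3 := congrArg (fun v => ((d₃ ≫ d₂) ≫ d₁) ≫ v) h2
    simp only [← Category.assoc] at h3
    rw [e1, e2, hactp, hactp] at h3
    obtain ⟨o', ho⟩ := quot_rel hqH _ _ h3
    rw [e1, e2]
    congr 1
    have hxx : x' = (d₃ ≫ x) * (o' ≫ h) := by
      rw [← cancel_mono k, MonObj.mul_comp _ _ k, Category.assoc o']
      exact mul_left_cancel (ho.trans (_root_.mul_assoc _ _ _))
    rw [hxx, quot_eq hqKb]
  constructor
  · intro QK qK hqK qbar hbar
    have hbl : qH.left ≫ qbar.left = qK.left := congrArg CommaMorphism.left hbar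
    obtain ⟨s1, s2, s3, sq⟩ := hqK
    obtain ⟨t1, t2, t3⟩ := fH
    have fH : Fppf qH := ⟨t1, t2, t3⟩
    have : Surjective (qH.left ≫ qbar.left) := hbl ▸ s1
    have : Flat (qH.left ≫ qbar.left) := hbl ▸ s2
    have : LocallyOfFinitePresentation (qH.left ≫ qbar.left) := hbl ▸ s3
    refine ⟨Surjective.of_comp qH.left qbar.left, FlatMor66.flat_of_comp_surjective qH.left qbar.left,
      Alg80.lfp_of_comp qH.left qbar.left, ?_⟩
    have fE : Epi (qH ⊗ₘ qKb) := ⟨fun a b hab => by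
      obtain ⟨T₁, d₁, g, hd₁, hg⟩ := exists_lift fH (fst QH Kb)
      obtain ⟨T₂, d₂, x, hd₂, hx⟩ := exists_lift fK (d₁ ≫ snd QH Kb)
      have hl : d₂ ≫ d₁ = lift (d₂ ≫ g) x ≫ (qH ⊗ₘ qKb) := by
        rw [lift_map]
        apply CartesianMonoidalCategory.hom_ext
        · rw [lift_fst, Category.assoc, Category.assoc, hg]
        · rw [lift_snd, hx, Category.assoc]
      have := (hd₂.comp hd₁).epi
      rw [← cancel_epi (d₂ ≫ d₁), hl, Category.assoc, hab, Category.assoc]⟩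
    have w : fst QH Kb ≫ qbar = act ≫ qbar := by
      rw [← cancel_epi (qH ⊗ₘ qKb), tensorHom_fst_assoc, hbar, reassoc_of% hact, hbar]
      simpa only [Category.assoc] using sq.w
    have hex : ∀ c : PullbackCone qbar qbar, ∃ v : c.pt ⟶ QH ⊗ Kb, v ≫ fst _ _ = c.fst ∧ v ≫ act = c.snd := by
      intro c
      obtain ⟨T₁, d₁, g₀, hd₁, hg₀⟩ := exists_lift fH c.fst
      obtain ⟨T₂, d₂, g', hd₂, hg'⟩ := exists_lift fH (d₁ ≫ c.snd)
      let g := d₂ ≫ g₀
      have hg : g ≫ qH = (d₂ ≫ d₁) ≫ c.fst := by simp only [g, Category.assoc, hg₀]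
      have hq : g ≫ qK = g' ≫ qK := by
        rw [← hbar, ← Category.assoc, hg, ← Category.assoc g', hg']
        simp only [Category.assoc, c.condition]
      obtain ⟨x, hx⟩ := quot_rel ⟨s1, s2, s3, sq⟩ g g' hq
      obtain ⟨y, hy⟩ := exists_desc (hd₂.comp hd₁) (x ≫ qKb) (fun W e₁ e₂ he => by
        obtain ⟨o₁, h₁⟩ := quot_rel hqH (e₁ ≫ g) (e₂ ≫ g) (by
          rw [Category.assoc, hg, ← Category.assoc, he, Category.assoc, ← hg, ← Category.assoc])
        obtain ⟨o₂, h₂⟩ := quot_rel hqH (e₁ ≫ g') (e₂ ≫ g') (by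
          rw [Category.assoc, hg', Category.assoc, hg']
          simp only [← Category.assoc] at he ⊢
          rw [he])
        obtain ⟨o₃, h₃⟩ := hn W ((e₁ ≫ x)⁻¹) o₁⁻¹
        rw [inv_inv] at h₃
        have hxx : e₂ ≫ x = (e₁ ≫ x) * ((o₃ * o₂) ≫ h) := by
          rw [MonObj.mul_comp _ _ h, ← h₃, GrpObj.inv_comp _ h]
          rw [← cancel_mono k]
          simp only [MonObj.mul_comp _ _ k, GrpObj.inv_comp _ k, Category.assoc]
          have h₄ := h₂
          simp only [hx, MonObj.comp_mul, h₁, Category.assoc] at h₄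
          rw [_root_.mul_assoc (e₁ ≫ g), _root_.mul_assoc (e₁ ≫ g)] at h₄
          have h₅ := mul_left_cancel h₄
          rw [← eq_inv_mul_iff_mul_eq] at h₅
          rw [h₅]
          group
        rw [← Category.assoc, ← Category.assoc, hxx, quot_eq hqKb])
      refine ⟨lift c.fst y, lift_fst _ _, ?_⟩
      have := (hd₂.comp hd₁).epi
      rw [← cancel_epi (d₂ ≫ d₁), ← Category.assoc, comp_lift, hy, ← hg, hactp, ← hx, hg',
        Category.assoc]
    choose vv hv1 hv2 using hex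
    refine IsPullback.of_isLimit (c := PullbackCone.mk (fst QH Kb) act w)
      (PullbackCone.IsLimit.mk w vv hv1 hv2 (fun c v h1 h2 => ?_))
    · exact hmono _ _ _ (h1.trans (hv1 _).symm) (h2.trans (hv2 _).symm)
  · intro Y p p1 p2 p3 sqp
    obtain ⟨t1, t2, t3⟩ := fH
    refine ⟨?_, ?_, ?_, ?_⟩
    · rw [Over.comp_left]; infer_instance
    · rw [Over.comp_left]; infer_instance
    · rw [Over.comp_left]; infer_instance
    have w : fst G K ≫ qH ≫ p = ((G ◁ k) ≫ μ[G]) ≫ qH ≫ p := by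
      have h0 := congrArg (fun v => (qH ⊗ₘ qKb) ≫ v) sqp.w
      simpa only [tensorHom_fst_assoc, reassoc_of% hact, Category.assoc] using h0
    have hex : ∀ c : PullbackCone (qH ≫ p) (qH ≫ p), ∃ v : c.pt ⟶ G ⊗ K, v ≫ fst _ _ = c.fst ∧ v ≫ (G ◁ k) ≫ μ[G] = c.snd := by
      intro c
      obtain ⟨y, hy1, hy2⟩ := sqp.exists_lift (c.fst ≫ qH) (c.snd ≫ qH) (by
        rw [Category.assoc, Category.assoc]; exact c.condition)
      obtain ⟨T₁, d, x₀, hd, hx₀⟩ := exists_lift fK (y ≫ snd _ _)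
      have hl : d ≫ y = lift ((d ≫ c.fst) ≫ qH) (x₀ ≫ qKb) := by
        apply CartesianMonoidalCategory.hom_ext
        · rw [lift_fst, Category.assoc, hy1, Category.assoc]
        · rw [lift_snd, hx₀, Category.assoc]
      have he : ((d ≫ c.fst) * (x₀ ≫ k)) ≫ qH = (d ≫ c.snd) ≫ qH := by
        rw [← hactp, ← hl, Category.assoc, hy2, Category.assoc]
      obtain ⟨o', ho⟩ := quot_rel hqH _ _ he
      have hx' : (x₀ * (o' ≫ h)) ≫ k = d ≫ (c.fst⁻¹ * c.snd) := by
        rw [MonObj.comp_mul, GrpObj.comp_inv, MonObj.mul_comp _ _ k, eq_inv_mul_iff_mul_eq, ho,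
          Category.assoc o', _root_.mul_assoc]
      obtain ⟨x, hx⟩ := exists_desc hd (x₀ * (o' ≫ h)) (fun W e₁ e₂ he => by
        rw [← cancel_mono k, Category.assoc, hx', Category.assoc, hx', ← Category.assoc, he, Category.assoc])
      refine ⟨lift c.fst x, lift_fst _ _, ?_⟩
      have := hd.epi
      have hk : x ≫ k = c.fst⁻¹ * c.snd := by rw [← cancel_epi d, ← Category.assoc, hx, hx']
      rw [lift_whiskerLeft_assoc, ← Hom.mul_def, hk, mul_inv_cancel_left]
    choose vv hv1 hv2 using hex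
    refine IsPullback.of_isLimit (c := PullbackCone.mk (fst G K) ((G ◁ k) ≫ μ[G]) w)
      (PullbackCone.IsLimit.mk w vv hv1 hv2 (fun c v h1 h2 => ?_))
    · apply CartesianMonoidalCategory.hom_ext
      · exact h1.trans (hv1 _).symm
      · rw [← cancel_mono k]
        have key : ∀ v : c.pt ⟶ G ⊗ K, v ≫ fst _ _ = c.fst → v ≫ (G ◁ k) ≫ μ[G] = c.snd →
            (v ≫ snd _ _) ≫ k = c.fst⁻¹ * c.snd := by
          intro v e1 e2
          rw [eq_inv_mul_iff_mul_eq, ← e2, ← e1, Hom.mul_def, ← Category.assoc v]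
          congr 1
          apply CartesianMonoidalCategory.hom_ext <;> simp
        exact (key _ h1 h2).trans (key _ (hv1 _) (hv2 _)).symm

end Groth.Agent.S6056
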