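import Groth.Statements.S6060
import Groth.Agent.Cent38.Descend

set_option autoImplicit false
open CategoryTheory MonoidalCategory CartesianMonoidalCategory MonObj GrpObj AlgebraicGeometry
universe u
open SGA3x

open Groth.Agent.RedPts82 Groth.Agent.Cent38
open CategoryTheory.Limits

namespace Groth.Agent.S6060

set_option maxHeartbeats 2000000 in
/-- Let G be an S-group, suppose S locally Noetherian or G of finite presentation over S, and let i₁ :
H₁ ⟶ G, i₂ : H₂ ⟶ G be two sub-group-schemes (homomorphisms which are immersions) of multiplicative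
type and of finite type. Let s ∈ S be a point such that the fibre (H₁)_s is central in G_s (every
point of G_s commutes with every point of (H₁)_s) and (H₁)_s = (H₂)_s as subgroups of G_s (an
isomorphism of the fibres compatible with the inclusions). Then there is an open neighbourhood U of
s such that H₁|_U = H₂|_U as subgroups of G|_U. -/
theorem result {S : Scheme.{u}} (G H₁ H₂ : Over S) [GrpObj G] [GrpObj H₁] [GrpObj H₂]
    (hG : IsLocallyNoetherian S ∨ (LocallyOfFinitePresentation G.hom ∧ QuasiCompact G.hom ∧ QuasiSeparated G.hom))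
    (h₁ : SGA3x.IsMultTypeFT H₁) (h₂ : SGA3x.IsMultTypeFT H₂)
    (i₁ : H₁ ⟶ G) [IsMonHom i₁] [IsImmersion i₁.left] (i₂ : H₂ ⟶ G) [IsMonHom i₂] [IsImmersion i₂.left] (s : S)
    (hc : ∀ (X : Over (Spec (S.residueField s))) (g : X ⟶ Red.bc (S.fromSpecResidueField s) G)
      (h : X ⟶ Red.bc (S.fromSpecResidueField s) H₁),
      g * (h ≫ (Over.pullback (S.fromSpecResidueField s)).map i₁) = (h ≫ (Over.pullback (S.fromSpecResidueField s)).map i₁) * g)
    (hs : ∃ ψ : Red.bc (S.fromSpecResidueField s) H₁ ≅ Red.bc (S.fromSpecResidueField s) H₂,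
      ψ.hom ≫ (Over.pullback (S.fromSpecResidueField s)).map i₂ = (Over.pullback (S.fromSpecResidueField s)).map i₁) :
    ∃ U : S.Opens, s ∈ U ∧ ∃ ψ : Red.bc U.ι H₁ ≅ Red.bc U.ι H₂,
      ψ.hom ≫ (Over.pullback U.ι).map i₂ = (Over.pullback U.ι).map i₁ := by
  obtain ⟨s₀, hs₀⟩ : ∃ s₀, s₀ = s := ⟨s, rfl⟩
  subst hs₀
  obtain ⟨ψ, hψ⟩ := hs
  haveI : Mono i₁ := Over.mono_of_mono_left i₁
  haveI : Mono i₂ := Over.mono_of_mono_left i₂
  -- centrality of both subgroups over the point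
  have hc₁ : Cent (S.fromSpecResidueField s₀) i₁ := fun X p g h => by
    obtain ⟨α, -⟩ := exists_over_iso (S.fromSpecResidueField s₀) p.left (Over.w p)
    have e := congrArg (toBase (S.fromSpecResidueField s₀)) (hc _ (ofBase (S.fromSpecResidueField s₀) (α.hom ≫ g)) (ofBase (S.fromSpecResidueField s₀) (α.hom ≫ h)))
    simp only [toBase_mul, toBase_comp_map, toBase_ofBase] at e
    rw [← cancel_epi α.hom, MonObj.comp_mul, MonObj.comp_mul]
    simpa only [Category.assoc] using e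
  have hψ' : ψ.inv ≫ (Over.pullback (S.fromSpecResidueField s₀)).map i₁ = (Over.pullback (S.fromSpecResidueField s₀)).map i₂ := by
    rw [← hψ, Iso.inv_hom_id_assoc]
  have hc₂ : Cent (S.fromSpecResidueField s₀) i₂ := fun X p g h => by
    obtain ⟨h', e⟩ := points_of_bc_iso (S.fromSpecResidueField s₀) i₂ i₁ ψ.inv hψ' p h
    rw [← e]
    exact hc₁ X p g h'
  have hG' : IsLocallyNoetherian S ∨ LocallyOfFiniteType G.hom := hG.imp id fun h => by
    haveI := h.1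
    infer_instance
  -- common etale splitting near the point
  obtain ⟨V₁, f₁, v₁, M₁, _, hM₁, hf₁, hv₁, ⟨E₁⟩⟩ := HomExt.exists_etale_split_fg h₁ s₀
  obtain ⟨V₂, f₂, v₂, M₂, _, hM₂, hf₂, hv₂, ⟨E₂'⟩⟩ := HomExt.exists_etale_split_fg (isMultTypeFT_bc f₁ h₂) v₁
  obtain ⟨E₂''⟩ := AlgGrp33.nonempty_bc_comp f₂ f₁ H₂
  let E₂ : Grp.mk (Red.bc (f₂ ≫ f₁) H₂) ≅ Grp.mk (Red.DS V₂ M₂) := E₂''.symm ≪≫ E₂'
  obtain ⟨W, hW, hvW, -⟩ := exists_isAffineOpen_mem_and_subset (x := v₂) (U := (⊤ : V₂.Opens)) trivial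
  haveI : IsAffine (W : Scheme.{u}) := hW
  haveI := hf₁
  haveI := hf₂
  let φ : (W : Scheme.{u}) ⟶ S := W.ι ≫ f₂ ≫ f₁
  haveI : Etale φ := inferInstanceAs (Etale (W.ι ≫ f₂ ≫ f₁))
  let w : (W : Scheme.{u}) := ⟨v₂, hvW⟩
  have hw : φ w = s₀ := by
    show f₁ (f₂ v₂) = s₀
    rw [hv₂, hv₁]
  obtain ⟨a₁, ha₁, hm₁, hsu₁⟩ := exists_ds_cover_mono (W.ι ≫ f₂) f₁ φ (by simp [φ]) E₁
  obtain ⟨a₂, ha₂, hm₂, hsu₂⟩ := exists_ds_cover_mono W.ι (f₂ ≫ f₁) φ (by simp [φ]) E₂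
  haveI := ha₁
  haveI := ha₂
  haveI := hm₁
  haveI := hm₂
  let j₁ := a₁ ≫ (Over.pullback φ).map i₁
  let j₂ := a₂ ≫ (Over.pullback φ).map i₂
  haveI : IsMonHom j₁ := inferInstanceAs (IsMonHom (a₁ ≫ (Over.pullback φ).map i₁))
  haveI : IsMonHom j₂ := inferInstanceAs (IsMonHom (a₂ ≫ (Over.pullback φ).map i₂))
  haveI : Mono j₁ := mono_comp _ _
  haveI : Mono j₂ := mono_comp _ _
  have hGW : IsLocallyNoetherian (W : Scheme.{u}) ∨ LocallyOfFiniteType (Red.bc φ G).hom := by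
    rcases hG' with h | h
    · exact .inl (LocallyOfFiniteType.isLocallyNoetherian φ)
    · exact .inr (MorphismProperty.pullback_snd (P := @LocallyOfFiniteType) _ _ h)
  let κ : Spec ((W : Scheme.{u}).residueField w) ⟶ W := (W : Scheme.{u}).fromSpecResidueField w
  have hκ : ∃ k, k ≫ (S.fromSpecResidueField s₀) = κ ≫ φ := by
    subst hw
    exact ⟨_, Scheme.Hom.SpecMap_residueFieldMap_fromSpecResidueField φ w⟩
  obtain ⟨k, hk⟩ := hκ
  have hcj₁ : Cent κ j₁ := (cent_bc_iff φ κ a₁ hsu₁).mpr (hc₁.of_comp k hk)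
  have hcj₂ : Cent κ j₂ := (cent_bc_iff φ κ a₂ hsu₂).mpr (hc₂.of_comp k hk)
  have hp : ∀ (X : Over (W : Scheme.{u})), (X ⟶ Over.mk κ) → Nonempty ((Over.map φ).obj X ⟶ Over.mk (S.fromSpecResidueField s₀)) :=
    fun X p => ⟨Over.homMk (p.left ≫ k) (by
      show (p.left ≫ k) ≫ (S.fromSpecResidueField s₀) = X.hom ≫ φ
      rw [Category.assoc, hk, ← Category.assoc]
      exact congrArg (· ≫ φ) (Over.w p))⟩
  have hsub₁ : ∀ (X : Over (W : Scheme.{u})) (_ : X ⟶ Over.mk κ) (t : X ⟶ Red.DS _ M₁),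
      ∃ t', t' ≫ j₂ = t ≫ j₁ := fun X p t => by
    obtain ⟨h', e⟩ := points_of_bc_iso (S.fromSpecResidueField s₀) i₁ i₂ ψ.hom hψ (hp X p).some (toBase φ (t ≫ a₁))
    obtain ⟨t', ht'⟩ := hsu₂ X (ofBase φ h')
    refine ⟨t', toBase_injective φ ?_⟩
    simp only [j₁, j₂, ← Category.assoc, toBase_comp_map, ht', toBase_ofBase, e]
  have hsub₂ : ∀ (X : Over (W : Scheme.{u})) (_ : X ⟶ Over.mk κ) (t : X ⟶ Red.DS _ M₂),
      ∃ t', t' ≫ j₁ = t ≫ j₂ := fun X p t => by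
    obtain ⟨h', e⟩ := points_of_bc_iso (S.fromSpecResidueField s₀) i₂ i₁ ψ.inv hψ' (hp X p).some (toBase φ (t ≫ a₂))
    obtain ⟨t', ht'⟩ := hsu₁ X (ofBase φ h')
    refine ⟨t', toBase_injective φ ?_⟩
    simp only [j₁, j₂, ← Category.assoc, toBase_comp_map, ht', toBase_ofBase, e]
  obtain ⟨D₁, hwD₁, hD₁⟩ := exists_nhd_sub hGW hM₁ hM₂ j₁ j₂ w hcj₁ hsub₁
  obtain ⟨D₂, hwD₂, hD₂⟩ := exists_nhd_sub hGW hM₂ hM₁ j₂ j₁ w hcj₂ hsub₂
  let D : (W : Scheme.{u}).Opens := D₁ ⊓ D₂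
  have heq : EqPts (D.ι ≫ φ) i₁ i₂ := by
    intro Z p
    obtain ⟨α, -⟩ := exists_over_iso φ (X := Z) (p.left ≫ D.ι) (by rw [Category.assoc]; exact Over.w p)
    let X : Over (W : Scheme.{u}) := Over.mk (p.left ≫ D.ι)
    let q₁ : X ⟶ Over.mk D₁.ι := Over.homMk (p.left ≫ (W : Scheme.{u}).homOfLE inf_le_left) (by
      show (p.left ≫ (W : Scheme.{u}).homOfLE (inf_le_left : D₁ ⊓ D₂ ≤ D₁)) ≫ D₁.ι = p.left ≫ D.ι
      rw [Category.assoc, Scheme.homOfLE_ι])
    let q₂ : X ⟶ Over.mk D₂.ι := Over.homMk (p.left ≫ (W : Scheme.{u}).homOfLE inf_le_right) (by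
      show (p.left ≫ (W : Scheme.{u}).homOfLE (inf_le_right : D₁ ⊓ D₂ ≤ D₂)) ≫ D₂.ι = p.left ≫ D.ι
      rw [Category.assoc, Scheme.homOfLE_ι])
    constructor
    · intro a
      obtain ⟨t, ht⟩ := hsu₁ X (ofBase φ (α.hom ≫ a))
      obtain ⟨t', e⟩ := hD₁ X q₁ t
      refine ⟨α.inv ≫ toBase φ (t' ≫ a₂), ?_⟩
      have e' := congrArg (toBase φ) e
      simp only [j₁, j₂, ← Category.assoc, toBase_comp_map, ht, toBase_ofBase] at e'
      rw [Category.assoc, e']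
      simp only [Category.assoc, Iso.inv_hom_id_assoc]
    · intro b
      obtain ⟨t, ht⟩ := hsu₂ X (ofBase φ (α.hom ≫ b))
      obtain ⟨t', e⟩ := hD₂ X q₂ t
      refine ⟨α.inv ≫ toBase φ (t' ≫ a₁), ?_⟩
      have e' := congrArg (toBase φ) e
      simp only [j₁, j₂, ← Category.assoc, toBase_comp_map, ht, toBase_ofBase] at e'
      rw [Category.assoc, e']
      simp only [Category.assoc, Iso.inv_hom_id_assoc]
  -- descent to the image
  let π : (D : Scheme.{u}) ⟶ S := D.ι ≫ φ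
  haveI : Etale π := inferInstanceAs (Etale (D.ι ≫ φ))
  let U : S.Opens := ⟨Set.range π, π.isOpenMap.isOpen_range⟩
  refine ⟨U, ⟨⟨w, hwD₁, hwD₂⟩, hw⟩, ?_⟩
  let g : (D : Scheme.{u}) ⟶ U := IsOpenImmersion.lift U.ι π (by
    rintro _ ⟨x, rfl⟩
    exact ⟨⟨_, x, rfl⟩, rfl⟩)
  have hg : g ≫ U.ι = π := IsOpenImmersion.lift_fac _ _ _
  haveI : Surjective g := ⟨fun y => by
    obtain ⟨x, hx⟩ := y.2
    refine ⟨x, U.ι.isOpenEmbedding.injective ?_⟩
    exact (congrArg (fun q : (D : Scheme.{u}) ⟶ S => q x) hg).trans hx⟩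
  haveI : Flat g := by
    have hsq : IsPullback (𝟙 (D : Scheme.{u})) g π U.ι :=
      IsPullback.of_horiz_isIso_mono ⟨by rw [Category.id_comp, hg]⟩
    exact MorphismProperty.of_isPullback (P := @Flat) hsq (inferInstance : Flat π)
  have hgo : IsOpenMap g.base := fun A hA => by
    have h' := π.isOpenMap A hA
    have e : π.base '' A = U.ι.base '' (g.base '' A) := by
      rw [← Set.image_comp, ← hg]
      rfl
    rw [e] at h'
    have h'' := h'.preimage U.ι.continuous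
    rwa [Set.preimage_image_eq _ U.ι.isOpenEmbedding.injective] at h''
  have hqc := isQcCover_of_isOpenMap g hgo
  have hpb := IsPullback.of_hasPullback i₁ i₂
  have hiso := (isIso_pullback_iff_eqPts π hpb).mpr heq
  refine (exists_iso_iff U.ι hpb).mpr ⟨?_, ?_⟩
  · refine map_prop_of_fpqc_cover (MorphismProperty.isomorphisms Scheme.{u}) _ g hqc fun x =>
      ⟨⊤, trivial, (prop_bc_comp (MorphismProperty.isomorphisms Scheme.{u}) _ U.ι _).mpr ?_⟩
    rw [Category.assoc, hg]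
    exact (prop_bc_comp (MorphismProperty.isomorphisms Scheme.{u}) _ π (⊤ : (D : Scheme.{u}).Opens).ι).mp
      (MorphismProperty.of_isPullback (P := MorphismProperty.isomorphisms Scheme.{u})
        (isPullback_bc_map _ _) hiso.1)
  · refine map_prop_of_fpqc_cover (MorphismProperty.isomorphisms Scheme.{u}) _ g hqc fun x =>
      ⟨⊤, trivial, (prop_bc_comp (MorphismProperty.isomorphisms Scheme.{u}) _ U.ι _).mpr ?_⟩
    rw [Category.assoc, hg]
    exact (prop_bc_comp (MorphismProperty.isomorphisms Scheme.{u}) _ π (⊤ : (D : Scheme.{u}).Opens).ι).mp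
      (MorphismProperty.of_isPullback (P := MorphismProperty.isomorphisms Scheme.{u})
        (isPullback_bc_map _ _) hiso.2)

end Groth.Agent.S6060
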