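import Groth.Statements.S6061
import Groth.Agent.Const38.HomRep
import Groth.Agent.RedPts82.SplitSub

set_option autoImplicit false
open CategoryTheory MonoidalCategory CartesianMonoidalCategory MonObj GrpObj AlgebraicGeometry
universe u
open SGA3x

namespace Groth.Agent.S6061

/-- Representability; the twisted-constant structure is asserted at the level of S-schemes: Let H and G
be quasi-isotrivial S-groups of multiplicative type — etale-locally on S isomorphic, as group
schemes, to diagonalisable groups D(M), with M finitely generated in the case of G (G of finite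
type). Then the functor of group homomorphisms from H to G is representable, by an S-scheme which is
a quasi-isotrivial twisted constant S-scheme (etale-locally constant). The character groups M range
over Type 0, as in the prelude's D_S(M). (The published statement also asserts that the representing
object is a twisted constant group of type Hom(M, N), M and N the types of G and H respectively;
this row asserts only the scheme-level twisted constant structure, without the group structure or
the type.) -/
theorem result {S : Scheme.{u}} (H G : Over S) [GrpObj H] [GrpObj G]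
    (hH : TwC.Locally S TwC.Topology.etale (fun S' f => ∃ (M : Type) (_ : AddCommGroup M),
      Nonempty (Grp.mk (Red.bc f H) ≅ Grp.mk (Red.DS S' M))))
    (hG : TwC.Locally S TwC.Topology.etale (fun S' f => ∃ (M : Type) (_ : AddCommGroup M),
      AddGroup.FG M ∧ Nonempty (Grp.mk (Red.bc f G) ≅ Grp.mk (Red.DS S' M)))) :
    ∃ (A : Over S) (υ : H ⊗ A ⟶ G), AutFam.RepresentsHom H G A υ ∧ TwC.IsTwConst TwC.Topology.etale A := by
  have hHG : ∀ s : S, ∃ (S' : Scheme.{u}) (g : S' ⟶ S), Etale g ∧ s ∈ Set.range g ∧
      ∃ (M N : Type) (_ : AddCommGroup M) (_ : AddCommGroup N), AddGroup.FG N ∧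
        Nonempty (Grp.mk (Red.bc g H) ≅ Grp.mk (Red.DS S' M)) ∧
        Nonempty (Grp.mk (Red.bc g G) ≅ Grp.mk (Red.DS S' N)) := by
    intro s
    obtain ⟨S1, g1, hg1, ⟨y1, hy1⟩, M, iM, hM⟩ := hH s
    obtain ⟨S2, g2, hg2, ⟨y2, hy2⟩, N, iN, hNfg, hN⟩ := hG s
    obtain ⟨z, hz1, hz2⟩ := Scheme.Pullback.exists_preimage_pullback (f := g1) (g := g2) y1 y2 (hy1.trans hy2.symm)
    refine ⟨_, Limits.pullback.fst g1 g2 ≫ g1, inferInstance, ⟨z, ?_⟩, M, N, iM, iN, hNfg,
      RedPts82.split_bc g1 (Limits.pullback.fst g1 g2) hM, ?_⟩
    · rw [Scheme.Hom.comp_apply, hz1, hy1]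
    · rw [Limits.pullback.condition]
      exact RedPts82.split_bc g2 (Limits.pullback.snd g1 g2) hN
  obtain ⟨A, υ, hA, hloc⟩ := Const38.exists_hom_rep H G hHG
  refine ⟨A, υ, hA, fun s => ?_⟩
  obtain ⟨S', g, hg, hs, M, N, iM, iN, eH, eG, e, he⟩ := hloc s
  exact ⟨S', g, hg, hs, ULift.{u} (N →+ M), ⟨e⟩⟩

end Groth.Agent.S6061
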