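import Groth.Statements.S6071
import Groth.Agent.SGA3b53.UnionMain

set_option autoImplicit false
set_option linter.unusedVariables false
universe u
open TensorProduct SGA3b
open SGA3b

namespace Groth.Agent.S6071

/-- Let A be a ring which is the union of a directed family of subrings A_i, and H = Spec C an A-group
of multiplicative type and of finite type which is quasi-isotrivial (resp. isotrivial). Then there
are an index i and an A_i-group H_i = Spec C_i of multiplicative type and of finite type,
quasi-isotrivial (resp. isotrivial), such that H ≅ H_i ×_{A_i} A as A-groups: a bialgebra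
isomorphism A ⊗_{A_i} C_i ≅ C (existence of an isomorphism; the descended group is not unique).
(Affine group schemes over an affine base are taken in Hopf-algebra form; base change is the tensor
product.) -/
theorem result (A : Type u) [CommRing A] {ι : Type u} [Preorder ι] [IsDirected ι (· ≤ ·)] [Nonempty ι]
    (B : ι → Subring A) (hmono : Monotone B) (hsup : ⨆ i, B i = ⊤)
    (C : Type u) [CommRing C] [HopfAlgebra A C] (hft : Algebra.FiniteType A C) :
    (IsQuasiIsotrivial A C → ∃ (i : ι) (Ci : Type u) (_ : CommRing Ci) (_ : HopfAlgebra (B i) Ci),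
      Algebra.FiniteType (B i) Ci ∧ IsQuasiIsotrivial (B i) Ci ∧ Nonempty ((A ⊗[B i] Ci) ≃ₐc[A] C)) ∧
    (IsIsotrivial A C → ∃ (i : ι) (Ci : Type u) (_ : CommRing Ci) (_ : HopfAlgebra (B i) Ci),
      Algebra.FiniteType (B i) Ci ∧ IsIsotrivial (B i) Ci ∧ Nonempty ((A ⊗[B i] Ci) ≃ₐc[A] C)) := by
  refine ⟨fun h => ?_, fun h => ?_⟩
  · haveI := Groth.Agent.SGA3b53.finitePresentation_of_isMultType hft
      (Groth.Agent.SGA3b53.isMultType_of_isQuasiIsotrivial h)
    obtain ⟨A₀, _, _, P, _, _, hA₀, -, hfp, -, ⟨e⟩⟩ := Groth.Agent.SGA3b53.Model.exists_hopf_model A C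
    haveI := hfp
    obtain ⟨D, _, _, _, _, hD, -, hq⟩ := Groth.Agent.SGA3b53.UnionDescent.exists_qi_stage (A := A) hA₀
      (Groth.Agent.SGA3b53.UnionDescent.isQuasiIsotrivial_of_equiv e.symm h)
    obtain ⟨i, _, he, hfti⟩ := Groth.Agent.SGA3b53.UnionDescent.exists_descend C B hmono hsup inferInstance e hD
    exact ⟨i, _, inferInstance, inferInstance, hfti,
      Groth.Agent.SGA3b53.HomLift.isQuasiIsotrivial_baseChange (B i) hq, he⟩
  · haveI := Groth.Agent.SGA3b53.finitePresentation_of_isMultType hft
      (Groth.Agent.SGA3b53.isMultType_of_isIsotrivial h)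
    obtain ⟨A₀, _, _, P, _, _, hA₀, -, hfp, -, ⟨e⟩⟩ := Groth.Agent.SGA3b53.Model.exists_hopf_model A C
    haveI := hfp
    obtain ⟨D, _, _, _, _, hD, -, hq⟩ := Groth.Agent.SGA3b53.UnionDescent.exists_iso_stage (A := A) hA₀
      (Groth.Agent.SGA3b53.UnionDescent.isIsotrivial_of_equiv' e.symm h)
    obtain ⟨i, _, he, hfti⟩ := Groth.Agent.SGA3b53.UnionDescent.exists_descend C B hmono hsup inferInstance e hD
    exact ⟨i, _, inferInstance, inferInstance, hfti,
      Groth.Agent.SGA3b53.UnionDescent.isIsotrivial_baseChange (B i) hq, he⟩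
end Groth.Agent.S6071
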