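import Groth.Statements.S6072
import Groth.Agent.SGA3b53.HenselianLift

set_option autoImplicit false
set_option linter.unusedVariables false
universe u
open TensorProduct SGA3b
open SGA3b

namespace Groth.Agent.S6072

/-- Let R be a henselian local ring with residue field k and H₀ = Spec C₀ a k-group of multiplicative
type which is finite over k. Then H₀ lifts to R: there is an R-group H = Spec C of multiplicative
type, finite over R and isotrivial, together with an isomorphism of k-groups H ×_R k ≅ H₀, i.e. a
bialgebra isomorphism k ⊗_R C ≅ C₀ (existence of an isomorphism; the lift is determined up to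
isomorphism only). (Affine group schemes over an affine base are taken in Hopf-algebra form; base
change is the tensor product.) -/
theorem result (R : Type u) [CommRing R] [HenselianLocalRing R]
    (C₀ : Type u) [CommRing C₀] [HopfAlgebra (IsLocalRing.ResidueField R) C₀] [Module.Finite (IsLocalRing.ResidueField R) C₀]
    (h₀ : IsMultType (IsLocalRing.ResidueField R) C₀) :
    ∃ (C : Type u) (_ : CommRing C) (_ : HopfAlgebra R C), Module.Finite R C ∧ IsIsotrivial R C ∧
      Nonempty ((IsLocalRing.ResidueField R ⊗[R] C) ≃ₐc[IsLocalRing.ResidueField R] C₀) := by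
  letI : HopfAlgebra (R ⧸ IsLocalRing.maximalIdeal R) C₀ :=
    inferInstanceAs (HopfAlgebra (IsLocalRing.ResidueField R) C₀)
  haveI : Module.Finite (R ⧸ IsLocalRing.maximalIdeal R) C₀ :=
    inferInstanceAs (Module.Finite (IsLocalRing.ResidueField R) C₀)
  exact Groth.Agent.SGA3b53.DLift.exists_lift_finite (R := R) (C₀ := C₀) h₀
end Groth.Agent.S6072
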