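import Groth.Statements.S6073
import Groth.Agent.CAlg6.GrpWordField
-- import your own Groth.Agent.* helpers here

set_option autoImplicit false
universe u
open CategoryTheory CategoryTheory.Limits MonoidalCategory CartesianMonoidalCategory MonObj GrpObj AlgebraicGeometry
open SGA3

namespace Groth.Agent.S6073

/-- Let k be an algebraically closed field, G a group scheme locally of finite type over k, and a : A →
G, b : B → G two closed subgroup schemes which are geometrically reduced over k, such that either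
(a) A and B are normal in G and of finite type over k, or (b) A is connected and B is of finite type
over k. Let i : Γ → G be the commutator subgroup scheme (A, B): the smallest closed subgroup scheme
of G through which A ×_k B → G, (x, y) ↦ a(x) b(y) a(x)⁻¹ b(y)⁻¹, factors. Then the image of Γ(k) in
G(k) is the commutator subgroup of the images of A(k) and B(k): the subgroup of G(k) generated by
the commutators of a k-point of A with a k-point of B. -/
theorem result (k : Type u) [Field k] [IsAlgClosed k]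
    (G A B : Over (Spec (CommRingCat.of k))) [GrpObj G] [GrpObj A] [GrpObj B] [LocallyOfFiniteType G.hom]
    (a : A ⟶ G) [IsMonHom a] [IsClosedImmersion a.left] (b : B ⟶ G) [IsMonHom b] [IsClosedImmersion b.left]
    [GeometricallyReduced A.hom] [GeometricallyReduced B.hom] [QuasiCompact B.hom]
    (hcase : (AlgGrp.IsNormalHom a ∧ AlgGrp.IsNormalHom b ∧ QuasiCompact A.hom) ∨ ConnectedSpace A.left)
    (Γ : Over (Spec (CommRingCat.of k))) [GrpObj Γ] (i : Γ ⟶ G) [IsMonHom i] [IsClosedImmersion i.left]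
    (hf : ∃ f' : A ⊗ B ⟶ Γ, f' ≫ i = (((fst A B) ≫ a) * ((snd A B) ≫ b) * ((fst A B) ≫ a)⁻¹ * ((snd A B) ≫ b)⁻¹))
    (hmin : ∀ (Γ' : Over (Spec (CommRingCat.of k))) (_ : GrpObj Γ') (i' : Γ' ⟶ G), IsMonHom i' → IsClosedImmersion i'.left →
        (∃ f'' : A ⊗ B ⟶ Γ', f'' ≫ i' = (((fst A B) ≫ a) * ((snd A B) ≫ b) * ((fst A B) ≫ a)⁻¹ * ((snd A B) ≫ b)⁻¹)) → ∃ j : Γ ⟶ Γ', j ≫ i' = i) :
    Set.range (fun z : 𝟙_ (Over (Spec (CommRingCat.of k))) ⟶ Γ => z ≫ i) =
      ((⁅Subgroup.closure (Set.range (fun x : 𝟙_ (Over (Spec (CommRingCat.of k))) ⟶ A => x ≫ a)),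
         Subgroup.closure (Set.range (fun y : 𝟙_ (Over (Spec (CommRingCat.of k))) ⟶ B => y ≫ b))⁆ : Subgroup (𝟙_ (Over (Spec (CommRingCat.of k))) ⟶ G)) :
        Set (𝟙_ (Over (Spec (CommRingCat.of k))) ⟶ G)) := by
  open Groth.Agent.CAlg6.GrpWord in
  obtain ⟨N, hcl, hmax, hpts, -⟩ := exists_bound_comm a b hcase
  have : LocallyOfFiniteType A.hom := by rw [← Over.w a]; infer_instance
  have : LocallyOfFiniteType B.hom := by rw [← Over.w b]; infer_instance
  have : QuasiCompact A.hom := hcase.elim (fun h => h.2.2) (fun h => (irreducible_of_connected).2)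
  have : LocallyOfFiniteType (A ⊗ B).hom := lft_tensor A B
  have : QuasiCompact (A ⊗ B).hom := qc_tensor A B
  have : GeometricallyReduced (A ⊗ B).hom := geomRed_tensor A B
  have hr : Set.range i.left = WSet (cmap a b) N :=
    range_eq_wset (cmap a b) (unitWord_cmap a b) N hcl hmax Γ i hf hmin
  let φa : Pt A →* Pt G :=
    { toFun := fun x => x ≫ a, map_one' := MonObj.one_comp a, map_mul' := fun x y => MonObj.mul_comp x y a }
  let φb : Pt B →* Pt G :=
    { toFun := fun x => x ≫ b, map_one' := MonObj.one_comp b, map_mul' := fun x y => MonObj.mul_comp x y b }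
  have hgen : genPts (cmap a b) = ⁅Subgroup.closure (Set.range φa), Subgroup.closure (Set.range φb)⁆ := by
    rw [← MonoidHom.coe_range, ← MonoidHom.coe_range, Subgroup.closure_eq, Subgroup.closure_eq,
      Subgroup.commutator_def, genPts]
    congr 1
    ext z
    constructor
    · rintro ⟨p, rfl⟩
      refine ⟨_, ⟨p ≫ fst A B, rfl⟩, _, ⟨p ≫ snd A B, rfl⟩, (lift_cmap a b (p ≫ fst A B) (p ≫ snd A B)).symm.trans ?_⟩
      congr 1; ext <;> simp
    · rintro ⟨_, ⟨x, rfl⟩, _, ⟨y, rfl⟩, rfl⟩
      exact ⟨lift x y, lift_cmap a b x y⟩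
  show _ = ((⁅Subgroup.closure (Set.range φa), Subgroup.closure (Set.range φb)⁆ : Subgroup (Pt G)) : Set (Pt G))
  rw [← hgen]
  have : IsReduced (𝟙_ (Over (Spec (CommRingCat.of k)))).left := inferInstanceAs (IsReduced (Spec (CommRingCat.of k)))
  ext z
  constructor
  · rintro ⟨w, rfl⟩
    exact (hpts _).1 (hr ▸ ⟨pv w, rfl⟩)
  · intro hz
    have h := (hpts z).2 hz
    rw [← hr] at h
    obtain ⟨w, hw⟩ := Groth.Agent.AlgGrp79.exists_lift_of_range_subset i z (by
      rintro _ ⟨q, rfl⟩; rw [eq_pv]; exact h)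
    exact ⟨w, hw⟩

end Groth.Agent.S6073
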