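import Groth.Statements.S6075
import Groth.Agent.CAlg6.GrpWordPts
-- import your own Groth.Agent.* helpers here

set_option autoImplicit false
universe u
open CategoryTheory CategoryTheory.Limits MonoidalCategory CartesianMonoidalCategory MonObj GrpObj AlgebraicGeometry
open SGA3

namespace Groth.Agent.S6075

/-- Let k be an algebraically closed field, G a group scheme locally of finite type over k, X a
geometrically reduced k-scheme locally of finite type, and f : X → G a k-morphism. Consider the
k-points g of G whose underlying point lies under a word in f: there are a k-scheme T, a point p of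
T, n ≥ 0, T-valued points x_1, …, x_n of X and signs such that the T-valued point f(x_1)^{±1} ⋯
f(x_n)^{±1} of G maps p to the point of g. These k-points form exactly the subgroup of G(k)
generated by the k-points of G whose underlying point lies in the image of f. (Words of length zero
are allowed here, so that the unit is on both sides when X is empty; for nonempty X this changes
nothing, while the published statement, with words of positive length only, fails for empty X.) -/
theorem result (k : Type u) [Field k] [IsAlgClosed k]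
    (G X : Over (Spec (CommRingCat.of k))) [GrpObj G] [LocallyOfFiniteType G.hom]
    [LocallyOfFiniteType X.hom] [GeometricallyReduced X.hom] (f : X ⟶ G) :
    {g : 𝟙_ (Over (Spec (CommRingCat.of k))) ⟶ G | ∃ (n : ℕ) (T : Over (Spec (CommRingCat.of k))) (p : T.left) (p₀ : (𝟙_ (Over (Spec (CommRingCat.of k)))).left)
        (x : Fin n → (T ⟶ X)) (ε : Fin n → Bool), ((List.ofFn fun j : Fin n => if ε j then x j ≫ f else (x j ≫ f)⁻¹).prod : T ⟶ G).left.base p = g.left.base p₀} =
      ((Subgroup.closure {g : 𝟙_ (Over (Spec (CommRingCat.of k))) ⟶ G | ∃ p₀ : (𝟙_ (Over (Spec (CommRingCat.of k)))).left, g.left.base p₀ ∈ Set.range f.left.base} :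
        Subgroup (𝟙_ (Over (Spec (CommRingCat.of k))) ⟶ G)) : Set (𝟙_ (Over (Spec (CommRingCat.of k))) ⟶ G)) := by
  classical
  ext g
  constructor
  · rintro ⟨n, T, p, p₀, x, ε, hp⟩
    have := CAlg6.GrpWord.lft_pow X n
    have hq : (CAlg6.GrpWord.word f (CAlg6.GrpWord.proj X n) ε).left.base ((CAlg6.GrpWord.tuple X x).left.base p) = g.left.base p₀ := by
      rw [← hp]
      exact congr(($(CAlg6.GrpWord.tuple_word f x ε)).left.base p)
    obtain ⟨s, rfl⟩ := CAlg6.GrpWord.exists_lift_kpt _ g p₀ _ hq
    rw [CAlg6.GrpWord.comp_word]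
    refine Subgroup.list_prod_mem _ fun z hz => ?_
    obtain ⟨j, rfl⟩ := List.mem_ofFn.1 hz
    have hj : (s ≫ CAlg6.GrpWord.proj X n j) ≫ f ∈ Subgroup.closure
        {g : 𝟙_ (Over (Spec (CommRingCat.of k))) ⟶ G | ∃ p₁ : (𝟙_ (Over (Spec (CommRingCat.of k)))).left, g.left.base p₁ ∈ Set.range f.left.base} :=
      Subgroup.subset_closure ⟨p₀, (s ≫ CAlg6.GrpWord.proj X n j).left.base p₀, rfl⟩
    split
    · exact hj
    · exact inv_mem hj
  · intro hg
    rw [SetLike.mem_coe, ← Subgroup.mem_toSubmonoid, Subgroup.closure_toSubmonoid] at hg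
    obtain ⟨l, hl, rfl⟩ := Submonoid.exists_list_of_mem_closure hg
    have hchoice : ∀ j : Fin l.length, ∃ (s : 𝟙_ (Over (Spec (CommRingCat.of k))) ⟶ X) (b : Bool),
        l[(j : ℕ)] = if b then s ≫ f else (s ≫ f)⁻¹ := fun j => by
      rcases hl _ (List.getElem_mem j.2) with ⟨p₁, q, hq⟩ | h
      · obtain ⟨s, hs⟩ := CAlg6.GrpWord.exists_lift_kpt f _ p₁ q hq
        exact ⟨s, true, hs.symm⟩
      · obtain ⟨p₁, q, hq⟩ := Set.mem_inv.1 h
        obtain ⟨s, hs⟩ := CAlg6.GrpWord.exists_lift_kpt f _ p₁ q hq
        exact ⟨s, false, by rw [hs]; exact (_root_.inv_inv _).symm⟩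
    choose s b hs using hchoice
    let p₀ : (𝟙_ (Over (Spec (CommRingCat.of k)))).left := IsLocalRing.closedPoint k
    refine ⟨l.length, 𝟙_ _, p₀, p₀, s, b, ?_⟩
    rw [← funext hs, List.ofFn_getElem]

end Groth.Agent.S6075
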