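import Groth.Statements.S6077
import Groth.Agent.CAlg6.GrpWordField
import Groth.Agent.SchBasics.Reduced
-- import your own Groth.Agent.* helpers here

set_option autoImplicit false
universe u
open CategoryTheory CategoryTheory.Limits MonoidalCategory CartesianMonoidalCategory MonObj GrpObj AlgebraicGeometry
open SGA3

namespace Groth.Agent.S6077

/-- Let k be an algebraically closed field, G a group scheme locally of finite type over k, X a
geometrically reduced k-scheme locally of finite type, f : X → G a k-morphism, and h : H → G a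
closed subgroup scheme whose underlying set is contained in the image of f. Let i : Γ → G be the
smallest closed subgroup scheme of G through which f factors. Say that a point of G lies under a
word of length n in f when there are a k-scheme T, a point p of T, T-valued points x_1, …, x_n of X
and signs such that f(x_1)^{±1} ⋯ f(x_n)^{±1} maps p to it; let Γ'₀ be the set of k-points of G
whose point lies under some word (of any length n ≥ 0). Suppose that Γ'₀ is covered by finitely many
left translates a · H(k) of the image of H(k) in G(k), with the a in Γ'₀ (H(k) has finite index in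
Γ'₀). Then there is m such that the underlying set of Γ is the set of points of G lying under a word
of length m, and there are finitely many k-points a_1, …, a_r of G such that the underlying set of Γ
is the union of the left translates a_j · H of the underlying set of H. -/
theorem result (k : Type u) [Field k] [IsAlgClosed k]
    (G X H : Over (Spec (CommRingCat.of k))) [GrpObj G] [GrpObj H] [LocallyOfFiniteType G.hom]
    [LocallyOfFiniteType X.hom] [GeometricallyReduced X.hom] (f : X ⟶ G)
    (h : H ⟶ G) [IsMonHom h] [IsClosedImmersion h.left] (hH : Set.range h.left.base ⊆ Set.range f.left.base)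
    (Γ : Over (Spec (CommRingCat.of k))) [GrpObj Γ] (i : Γ ⟶ G) [IsMonHom i] [IsClosedImmersion i.left]
    (hf : ∃ f' : X ⟶ Γ, f' ≫ i = f)
    (hmin : ∀ (Γ' : Over (Spec (CommRingCat.of k))) (_ : GrpObj Γ') (i' : Γ' ⟶ G), IsMonHom i' → IsClosedImmersion i'.left →
        (∃ f'' : X ⟶ Γ', f'' ≫ i' = f) → ∃ j : Γ ⟶ Γ', j ≫ i' = i)
    (hfin : ∃ F : Finset (𝟙_ (Over (Spec (CommRingCat.of k))) ⟶ G),
      (∀ a ∈ F, ∃ (n : ℕ) (T : Over (Spec (CommRingCat.of k))) (p : T.left) (p₀ : (𝟙_ (Over (Spec (CommRingCat.of k)))).left) (x : Fin n → (T ⟶ X)) (ε : Fin n → Bool),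
        ((List.ofFn fun j : Fin n => if ε j then x j ≫ f else (x j ≫ f)⁻¹).prod : T ⟶ G).left.base p = a.left.base p₀) ∧
      ∀ g : 𝟙_ (Over (Spec (CommRingCat.of k))) ⟶ G, (∃ (n : ℕ) (T : Over (Spec (CommRingCat.of k))) (p : T.left) (p₀ : (𝟙_ (Over (Spec (CommRingCat.of k)))).left) (x : Fin n → (T ⟶ X)) (ε : Fin n → Bool),
        ((List.ofFn fun j : Fin n => if ε j then x j ≫ f else (x j ≫ f)⁻¹).prod : T ⟶ G).left.base p = g.left.base p₀) →
        ∃ a ∈ F, ∃ y : 𝟙_ (Over (Spec (CommRingCat.of k))) ⟶ H, g = a * (y ≫ h)) :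
    (∃ m : ℕ, Set.range i.left.base =
      {g : G.left | ∃ (T : Over (Spec (CommRingCat.of k))) (p : T.left) (x : Fin m → (T ⟶ X)) (ε : Fin m → Bool),
        ((List.ofFn fun j : Fin m => if ε j then x j ≫ f else (x j ≫ f)⁻¹).prod : T ⟶ G).left.base p = g}) ∧
    ∃ F : Finset (𝟙_ (Over (Spec (CommRingCat.of k))) ⟶ G), Set.range i.left.base =
      ⋃ a ∈ F, (fun z => ((λ_ G).inv ≫ (a ▷ G) ≫ μ[G]).left.base z) '' Set.range h.left.base := by
  open Groth.Agent.CAlg6.GrpWord in
  classical
  have h1 : UnitWord f := fun T p => by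
    have e : (1 : T ⟶ G).left.base p ∈ Set.range h.left.base := by
      rw [← MonObj.one_comp h, Over.comp_left, Scheme.Hom.comp_apply]
      exact ⟨_, rfl⟩
    exact range_subset_wset_one (hH e)
  obtain ⟨F, hF1, hF2⟩ := hfin
  have hF1' : ∀ a : F, ∃ n, pv a.1 ∈ WSet f n := fun a => by
    obtain ⟨n, T, p, p₀, x, ε, he⟩ := hF1 a.1 a.2
    exact ⟨n, T, p, _, wd_list n x ε, he.trans (eq_pv _ _)⟩
  choose n hn using hF1'
  let τ : Pt G → (H ⟶ G) := fun a => (toUnit H ≫ a) * h
  let Z : Set G.left := ⋃ a ∈ F, Set.range (τ a).left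
  have htau : ∀ a : Pt G, Set.range (τ a).left =
      (fun z => ((λ_ G).inv ≫ (a ▷ G) ≫ μ[G]).left.base z) '' Set.range h.left.base := fun a => by
    have e : τ a = h ≫ (λ_ G).inv ≫ (a ▷ G) ≫ μ[G] := by
      have e' : (h ≫ (λ_ G).inv) ≫ (a ▷ G) = lift (toUnit H ≫ a) h := by
        ext <;> simp
      rw [reassoc_of% e']
      simp [τ, MonObj.mul_eq_mul, MonObj.comp_mul]
    rw [e, ← Set.range_comp]
    rfl
  have hZcl : IsClosed Z := by
    refine F.finite_toSet.isClosed_biUnion fun a _ => ?_
    let R : G ≅ G :=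
      { hom := (toUnit G ≫ a) * 𝟙 G
        inv := (toUnit G ≫ a)⁻¹ * 𝟙 G
        hom_inv_id := by simp [MonObj.comp_mul, GrpObj.comp_inv, toUnit_unique (_ ≫ toUnit G) (toUnit G)]
        inv_hom_id := by simp [MonObj.comp_mul, GrpObj.comp_inv, toUnit_unique (_ ≫ toUnit G) (toUnit G)] }
    have e : τ a = h ≫ R.hom := by
      simp [R, τ, MonObj.comp_mul, toUnit_unique (h ≫ toUnit G) (toUnit H)]
    have hR : IsIso R.hom.left := ((Over.forget _).mapIso R).isIso_hom
    rw [e, Over.comp_left]
    exact (h.left ≫ R.hom.left).isClosedEmbedding.isClosed_range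
  have hpts : ∀ (z : Pt G) (m : ℕ), pv z ∈ WSet f m → pv z ∈ Z := by
    rintro z m ⟨T, p, _, ⟨x, ε, rfl⟩, hp⟩
    obtain ⟨a, ha, y, rfl⟩ := hF2 z ⟨m, T, p, IsLocalRing.closedPoint k, x, ε, hp⟩
    refine Set.mem_iUnion₂.2 ⟨a, ha, pv y, ?_⟩
    rw [← pv_comp]
    simp [τ, MonObj.comp_mul, toUnit_unique (y ≫ toUnit H) (𝟙 _)]
  let M := Finset.univ.sup n + 1
  have hZM : Z ⊆ WSet f M := by
    intro g hg
    obtain ⟨a, ha, q, rfl⟩ := Set.mem_iUnion₂.1 hg
    have hq : (toUnit H ≫ a).left q ∈ WSet f (n ⟨a, ha⟩) := by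
      rw [Over.comp_left, Scheme.Hom.comp_apply, eq_pv]
      exact hn ⟨a, ha⟩
    exact wset_mono h1 (Nat.add_le_add_right (Finset.le_sup (f := n) (Finset.mem_univ _)) 1)
      (mul_mem_wset hq (range_subset_wset_one (hH ⟨q, rfl⟩)))
  have hWZ : ∀ m, WSet f m ⊆ Z := by
    intro m
    rw [wset_eq_iUnion, Set.iUnion_subset_iff]
    intro ε
    have := lft_pow X m
    refine Groth.Agent.AlgGrp79.range_subset_of_pts _ hZcl fun s => hpts _ m ?_
    exact mem_wset_of_mem (wd_comp s (wd_list m _ ε)) _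
  have heq : WSet f M = Z := (hWZ M).antisymm hZM
  -- the subgroup carried by the union of translates
  let V : TopologicalSpace.Closeds G.left := ⟨Z, hZcl⟩
  let P : Over (Spec (CommRingCat.of k)) :=
    Over.mk ((Scheme.IdealSheafData.vanishingIdeal V).subschemeι ≫ G.hom)
  let w : P ⟶ G := Over.homMk (Scheme.IdealSheafData.vanishingIdeal V).subschemeι rfl
  have : IsClosedImmersion w.left :=
    inferInstanceAs (IsClosedImmersion (Scheme.IdealSheafData.vanishingIdeal V).subschemeι)
  have : IsReduced P.left := Groth.Agent.SchBasics.isReduced_vanishingIdeal_subscheme V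
  have : LocallyOfFiniteType P.hom := by rw [← Over.w w]; infer_instance
  have : IsReduced (P ⊗ P).left := Groth.Agent.AlgGrp79.reduced_prod P P
  have hwr : Set.range w.left = Z := by
    show Set.range (Scheme.IdealSheafData.vanishingIdeal V).subschemeι = _
    rw [Scheme.IdealSheafData.range_subschemeι]
    simp [V]
  obtain ⟨K, _, j, _, hj, -, hjr⟩ := exists_subgroup_closure w
    (by
      rw [hwr, hZcl.closure_eq, ← heq]
      rintro _ ⟨q, rfl⟩
      exact wset_mono h1 (Nat.le_add_left 1 _) (h1 _ q))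
    (by
      rw [hwr, hZcl.closure_eq]
      rintro _ ⟨q, rfl⟩
      have hw' : ∀ g : P.left, w.left g ∈ WSet f M := fun g => heq.symm ▸ hwr ▸ ⟨g, rfl⟩
      exact hWZ _ (mul_mem_wset (inv_mem_wset (a := fst P P ≫ w) (hw' _))
        (show ((snd P P ≫ w).left.base q) ∈ _ from hw' _)))
  rw [hwr, hZcl.closure_eq] at hjr
  have := isReduced_of_geomRed X
  obtain ⟨f'', hf''⟩ := Groth.Agent.AlgGrp79.exists_lift_of_range_subset j f (by
    rw [hjr]; exact range_subset_wset_one.trans (hWZ 1))
  obtain ⟨m, hm⟩ := hmin K inferInstance j inferInstance hj ⟨f'', hf''⟩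
  have hΓ : Set.range i.left.base = Z := by
    refine Set.Subset.antisymm ?_ (heq ▸ wset_subset_range i hf M)
    rw [← hjr]
    rintro _ ⟨q, rfl⟩
    exact ⟨m.left q, congr(($hm).left q)⟩
  refine ⟨⟨M, ?_⟩, F, ?_⟩
  · rw [wset_eq, heq]; exact hΓ
  · rw [hΓ]
    exact Set.iUnion_congr fun a => Set.iUnion_congr fun _ => htau a

end Groth.Agent.S6077
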