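import Groth.Statements.S6078
import Groth.Agent.CAlg6.GrpWordSpread
import Groth.Agent.SpPts86.LocConstr
-- import your own Groth.Agent.* helpers here

set_option autoImplicit false
universe u
open CategoryTheory CategoryTheory.Limits MonoidalCategory CartesianMonoidalCategory MonObj GrpObj AlgebraicGeometry
open SGA3

namespace Groth.Agent.S6078

/-- Case (G, H) = H: let S be an integral scheme with generic point η, G an S-group scheme and h : H → G
a normal subgroup scheme of G, with G and H of finite presentation over S and with smooth generic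
fibres G_η, H_η. Suppose that (G_η, H_η) = H_η: the subgroup H_η is contained in every closed
subgroup scheme of G_η through which the morphism G_η ×_{κ(η)} H_η → G_η, (g, x) ↦ g h(x) g⁻¹
h(x)⁻¹, factors (H_η itself is such a subgroup since H is normal). Then there is a nonempty open
subset U of S such that for every s ∈ U the same holds on the fibre at s: H_s is contained in every
closed subgroup scheme of G_s through which G_s ×_{κ(s)} H_s → G_s, (g, x) ↦ g h(x) g⁻¹ h(x)⁻¹,
factors. -/
theorem result (S : Scheme.{u}) [IsIntegral S] (G H : Over S) [GrpObj G] [GrpObj H]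
    [LocallyOfFinitePresentation G.hom] [QuasiCompact G.hom] [QuasiSeparated G.hom]
    [LocallyOfFinitePresentation H.hom] [QuasiCompact H.hom] [QuasiSeparated H.hom]
    (h : H ⟶ G) [IsMonHom h] [IsImmersion h.left] (hN : AlgGrp.IsNormalHom h)
    (hsmG : Smooth (Red.bc (S.fromSpecResidueField (genericPoint S)) G).hom) (hsmH : Smooth (Red.bc (S.fromSpecResidueField (genericPoint S)) H).hom)
    (hgen : (∀ (K : Over (Spec (S.residueField (genericPoint S)))) (_ : GrpObj K) (j : K ⟶ (Red.bc (S.fromSpecResidueField (genericPoint S)) G)), IsMonHom j → IsClosedImmersion j.left →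
        (∃ c : (Red.bc (S.fromSpecResidueField (genericPoint S)) G) ⊗ (Red.bc (S.fromSpecResidueField (genericPoint S)) H) ⟶ K, c ≫ j = (((fst (Red.bc (S.fromSpecResidueField (genericPoint S)) G) (Red.bc (S.fromSpecResidueField (genericPoint S)) H)) * ((snd (Red.bc (S.fromSpecResidueField (genericPoint S)) G) (Red.bc (S.fromSpecResidueField (genericPoint S)) H)) ≫ ((Over.pullback (S.fromSpecResidueField (genericPoint S))).map h)) * (fst (Red.bc (S.fromSpecResidueField (genericPoint S)) G) (Red.bc (S.fromSpecResidueField (genericPoint S)) H))⁻¹ * ((snd (Red.bc (S.fromSpecResidueField (genericPoint S)) G) (Red.bc (S.fromSpecResidueField (genericPoint S)) H)) ≫ ((Over.pullback (S.fromSpecResidueField (genericPoint S))).map h))⁻¹ : (Red.bc (S.fromSpecResidueField (genericPoint S)) G) ⊗ (Red.bc (S.fromSpecResidueField (genericPoint S)) H) ⟶ (Red.bc (S.fromSpecResidueField (genericPoint S)) G)))) → ∃ m : (Red.bc (S.fromSpecResidueField (genericPoint S)) H) ⟶ K, m ≫ j = ((Over.pullback (S.fromSpecResidueField (genericPoint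 S))).map h))) :
    ∃ U : S.Opens, (U : Set S).Nonempty ∧ ∀ s : U,
      (∀ (K : Over (Spec (S.residueField (s : S)))) (_ : GrpObj K) (j : K ⟶ (Red.bc (S.fromSpecResidueField (s : S)) G)), IsMonHom j → IsClosedImmersion j.left →
        (∃ c : (Red.bc (S.fromSpecResidueField (s : S)) G) ⊗ (Red.bc (S.fromSpecResidueField (s : S)) H) ⟶ K, c ≫ j = (((fst (Red.bc (S.fromSpecResidueField (s : S)) G) (Red.bc (S.fromSpecResidueField (s : S)) H)) * ((snd (Red.bc (S.fromSpecResidueField (s : S)) G) (Red.bc (S.fromSpecResidueField (s : S)) H)) ≫ ((Over.pullback (S.fromSpecResidueField (s : S))).map h)) * (fst (Red.bc (S.fromSpecResidueField (s : S)) G) (Red.bc (S.fromSpecResidueField (s : S)) H))⁻¹ * ((snd (Red.bc (S.fromSpecResidueField (s : S)) G) (Red.bc (S.fromSpecResidueField (s : S)) H)) ≫ ((Over.pullback (S.fromSpecResidueField (s : S))).map h))⁻¹ : (Red.bc (S.fromSpecResidueField (s : S)) G) ⊗ (Red.bc (S.fromSpecResidueField (s : S)) H) ⟶ (Red.bc (S.fromSpecResidueField (s : S)) G)))) → ∃ m : (Red.bc (S.fromSpecResidueField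 (s : S)) H) ⟶ K, m ≫ j = ((Over.pullback (S.fromSpecResidueField (s : S))).map h)) := by
  open Groth.Agent.CAlg6.GrpWord in
  classical
  obtain ⟨U₁, hU₁, hsm⟩ := Groth.Agent.CAlg6.GenSpread.exists_open_smooth_fibres H.hom hsmH
  -- the generic fibre
  set η₀ := genericPoint S
  let σ := S.fromSpecResidueField η₀
  letI : Field (S.residueField η₀) := inferInstance
  let Gη : Over (Spec (CommRingCat.of (S.residueField η₀))) := (Over.pullback σ).obj G
  let Hη : Over (Spec (CommRingCat.of (S.residueField η₀))) := (Over.pullback σ).obj H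
  letI : GrpObj Gη := Functor.grpObjObj (F := Over.pullback σ) (G := G)
  letI : GrpObj Hη := Functor.grpObjObj (F := Over.pullback σ) (G := H)
  let hη : Hη ⟶ Gη := (Over.pullback σ).map h
  haveI : IsMonHom hη := inferInstanceAs (IsMonHom ((Over.pullback σ).map h))
  haveI : Smooth Gη.hom := hsmG
  haveI : Smooth Hη.hom := hsmH
  haveI : QuasiCompact Gη.hom := MorphismProperty.pullback_snd (P := @QuasiCompact) _ _ ‹_›
  haveI : QuasiCompact Hη.hom := MorphismProperty.pullback_snd (P := @QuasiCompact) _ _ ‹_›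
  haveI : IsImmersion hη.left := by
    have h2 : IsPullback hη.left (pullback.fst H.hom σ) (pullback.fst G.hom σ) h.left := by
      refine IsPullback.of_right ?_ (pullback.lift_fst _ _ _) (IsPullback.of_hasPullback G.hom σ).flip
      have e : hη.left ≫ pullback.snd G.hom σ = pullback.snd H.hom σ := pullback.lift_snd _ _ _
      rw [e]
      exact (Over.w h).symm ▸ (IsPullback.of_hasPullback H.hom σ).flip
    exact MorphismProperty.of_isPullback h2.flip ‹IsImmersion h.left›
  haveI : IsClosedImmersion hη.left := isClosedImmersion_subgroup hη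
  have hgr : ∀ {k : Type u} [Field k] (X : Over (Spec (CommRingCat.of k))), Smooth X.hom → GeometricallyReduced X.hom :=
    fun {k} _ X _ => ⟨geometrically_iff_of_commRing_of_isClosedUnderIsomorphisms.mpr fun K _ _ => by
      haveI : Smooth (pullback.snd X.hom (Spec.map (CommRingCat.ofHom (algebraMap k K)))) :=
        MorphismProperty.pullback_snd (P := @Smooth) _ _ ‹_›
      exact Groth.Agent.AlgGrp79.isReduced_of_smooth (pullback.snd X.hom (Spec.map (CommRingCat.ofHom (algebraMap k K))))⟩
  haveI := hgr Gη ‹_›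
  haveI := hgr Hη ‹_›
  haveI : IsClosedImmersion (𝟙 Gη : Gη ⟶ Gη).left := by rw [Over.id_left]; infer_instance
  obtain ⟨N, hcl, hmax, -⟩ := exists_bound_comm_field (𝟙 Gη) hη (Or.inl
    ⟨fun T g n => ⟨g * n * g⁻¹, by rw [Category.comp_id, Category.comp_id]⟩, isNormalHom_bcAny σ h hN, inferInstance⟩)
  haveI : LocallyOfFiniteType (Gη ⊗ Hη).hom := lft_tensor Gη Hη
  haveI : QuasiCompact (Gη ⊗ Hη).hom := qc_tensor Gη Hη
  haveI : GeometricallyReduced (Gη ⊗ Hη).hom := geomRed_tensor Gη Hη
  obtain ⟨K, hK, j, hjm, hj, -, hjr, -, ⟨c', hc'⟩, -⟩ :=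
    exists_generated_field (cmap (𝟙 Gη) hη) (unitWord_cmap _ _) N hcl hmax
  obtain ⟨m, hm⟩ := hgen K hK j hjm hj ⟨c', by
    refine hc'.trans ?_
    simp only [cmap, Category.comp_id]
    rfl⟩
  -- spreading
  have hWη : ∀ g, g ∈ WSet (cmap (𝟙 Gη) hη) N ↔ pullback.fst G.hom σ g ∈ WSet (cmap (𝟙 G) h) N := fun g => by
    have := wset_cmap_bc σ (𝟙 G) h N
    rw [CategoryTheory.Functor.map_id] at this
    exact Set.ext_iff.1 this g
  have : LocallyOfFinitePresentation (G ⊗ H).hom := lfp_tensor G H
  have : QuasiCompact (G ⊗ H).hom := qc_tensorS G H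
  have hE : Topology.IsLocallyConstructible (h.left ⁻¹' WSet (cmap (𝟙 G) h) N) := by
    have h' : LocallyOfFinitePresentation (h.left ≫ G.hom) := by rw [Over.w]; infer_instance
    have : LocallyOfFinitePresentation h.left := Groth.Agent.LimTop61.locallyOfFinitePresentation_of_comp _ G.hom
    exact Groth.Agent.SpPts86.isLocallyConstructible_preimage h.left (isLocallyConstructible_wset (cmap (𝟙 G) h) N)
  obtain ⟨U₂, hU₂, hE'⟩ := Groth.Agent.CAlg6.GenSpread.exists_open_disjoint H.hom
    (Groth.Agent.CAlg6.GenSpread.isLocallyConstructible_compl hE) fun x hx => by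
      simp only [Set.mem_compl_iff, not_not, Set.mem_preimage]
      obtain ⟨x', hx', -⟩ := Scheme.Pullback.exists_preimage_pullback (f := H.hom) (g := σ) x
        (IsLocalRing.closedPoint _) (hx.trans (Scheme.fromSpecResidueField_apply _ _).symm)
      rw [← hx', ← map_fst_apply σ h x']
      refine (hWη _).1 ?_
      rw [← hjr]
      exact ⟨m.left x', congr(($hm).left x')⟩
  refine ⟨U₁ ⊓ U₂, ⟨η₀, hU₁, hU₂⟩, fun s K' hK' j' hj'm hj' hc => ?_⟩
  obtain ⟨c, hc⟩ := hc
  let σs := S.fromSpecResidueField (s : S)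
  let Gs := (Over.pullback σs).obj G
  let Hs := (Over.pullback σs).obj H
  letI : GrpObj Gs := Functor.grpObjObj (F := Over.pullback σs) (G := G)
  haveI : Smooth Hs.hom := hsm (s : S) s.2.1
  letI : Field (S.residueField (s : S)) := inferInstance
  haveI : IsReduced Hs.left := Groth.Agent.AlgGrp79.isReduced_of_smooth (K := S.residueField (s : S)) Hs.hom
  haveI := hj'
  haveI := hj'm
  refine Groth.Agent.AlgGrp79.exists_lift_of_range_subset (k := S.residueField (s : S)) j' _ ?_
  rintro _ ⟨x, rfl⟩
  have hsx : H.hom (pullback.fst H.hom σs x) ∈ U₂ := by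
    rw [← Scheme.Hom.comp_apply, pullback.condition, Scheme.Hom.comp_apply, Scheme.fromSpecResidueField_apply]
    exact s.2.2
  have h1 : ((Over.pullback σs).map h).left.base x ∈ WSet (cmap ((Over.pullback σs).map (𝟙 G)) ((Over.pullback σs).map h)) N := by
    rw [wset_cmap_bc, Set.mem_preimage, map_fst_apply]
    have h3 := hE' _ hsx
    simp only [Set.mem_compl_iff, not_not] at h3
    exact h3
  refine wset_subset_range j' ⟨c, hc.trans ?_⟩ N h1
  simp only [cmap, CategoryTheory.Functor.map_id, Category.comp_id]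
  rfl

end Groth.Agent.S6078
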