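import Groth.Statements.S6079
import Groth.Agent.CAlg6.GenDerived
-- import your own Groth.Agent.* helpers here

set_option autoImplicit false
universe u
open CategoryTheory CategoryTheory.Limits MonoidalCategory CartesianMonoidalCategory MonObj GrpObj AlgebraicGeometry
open SGA3

namespace Groth.Agent.S6079

/-- Existence of D' and its fibres: let S be an integral scheme with generic point η, G an S-group
scheme of finite presentation over S, and a : A → G, b : B → G two subgroup schemes of G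
(homomorphisms which are immersions) of finite presentation over S whose generic fibres A_η, B_η are
smooth. Suppose that either (a) A_η is connected, or (b) A and B are normal in G. Then there are a
nonempty open subset U of S and a closed subgroup scheme d : D → G|_U, of finite presentation over U
with smooth fibres, having connected fibres in case (a) and normal in G|_U in case (b), such that
for every s ∈ U the fibre D_s → G_s is the commutator subgroup scheme (A_s, B_s): the smallest
closed subgroup scheme of G_s through which A_s ×_{κ(s)} B_s → G_s, (x, y) ↦ a(x) b(y) a(x)⁻¹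
b(y)⁻¹, factors. (The published statement also asserts that D represents the fppf sheaf associated
to the presheaf of commutator subgroups of A|_U and B|_U in G|_U; that assertion is not stated
here.) -/
theorem result (S : Scheme.{u}) [IsIntegral S] (G A B : Over S) [GrpObj G] [GrpObj A] [GrpObj B]
    [LocallyOfFinitePresentation G.hom] [QuasiCompact G.hom] [QuasiSeparated G.hom]
    [LocallyOfFinitePresentation A.hom] [QuasiCompact A.hom] [QuasiSeparated A.hom]
    [LocallyOfFinitePresentation B.hom] [QuasiCompact B.hom] [QuasiSeparated B.hom]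
    (a : A ⟶ G) [IsMonHom a] [IsImmersion a.left] (b : B ⟶ G) [IsMonHom b] [IsImmersion b.left]
    (hsmA : Smooth (Red.bc (S.fromSpecResidueField (genericPoint S)) A).hom) (hsmB : Smooth (Red.bc (S.fromSpecResidueField (genericPoint S)) B).hom)
    (hcase : ConnectedSpace (Red.bc (S.fromSpecResidueField (genericPoint S)) A).left ∨ (AlgGrp.IsNormalHom a ∧ AlgGrp.IsNormalHom b)) :
    ∃ U : S.Opens, (U : Set S).Nonempty ∧
      ∃ (D : Over (U : Scheme.{u})) (_ : GrpObj D) (d : D ⟶ (Red.bc U.ι G)), IsMonHom d ∧ IsClosedImmersion d.left ∧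
        LocallyOfFinitePresentation D.hom ∧ QuasiCompact D.hom ∧ QuasiSeparated D.hom ∧
        (∀ s : (U : Scheme.{u}), Smooth (D.hom.fiberToSpecResidueField s)) ∧
        (ConnectedSpace (Red.bc (S.fromSpecResidueField (genericPoint S)) A).left → ∀ s : (U : Scheme.{u}), ConnectedSpace (D.hom.fiber s)) ∧
        (AlgGrp.IsNormalHom a ∧ AlgGrp.IsNormalHom b → AlgGrp.IsNormalHom d) ∧
        ∀ s : (U : Scheme.{u}),
          (∃ c : (Red.bc ((U : Scheme.{u}).fromSpecResidueField s) (Red.bc U.ι A)) ⊗ (Red.bc ((U : Scheme.{u}).fromSpecResidueField s) (Red.bc U.ι B)) ⟶ (Red.bc ((U : Scheme.{u}).fromSpecResidueField s) D), c ≫ ((Over.pullback ((U : Scheme.{u}).fromSpecResidueField s)).map d) = (((fst (Red.bc ((U : Scheme.{u}).fromSpecResidueField s) (Red.bc U.ι A)) (Red.bc ((U : Scheme.{u}).fromSpecResidueField s) (Red.bc U.ι B))) ≫ ((Over.pullback ((U : Scheme.{u}).fromSpecResidueField s)).map ((Over.pullback U.ι).map a))) * ((snd (Red.bc ((U : Scheme.{u}).fromSpecResidueField s) (Red.bc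 U.ι A)) (Red.bc ((U : Scheme.{u}).fromSpecResidueField s) (Red.bc U.ι B))) ≫ ((Over.pullback ((U : Scheme.{u}).fromSpecResidueField s)).map ((Over.pullback U.ι).map b))) * ((fst (Red.bc ((U : Scheme.{u}).fromSpecResidueField s) (Red.bc U.ι A)) (Red.bc ((U : Scheme.{u}).fromSpecResidueField s) (Red.bc U.ι B))) ≫ ((Over.pullback ((U : Scheme.{u}).fromSpecResidueField s)).map ((Over.pullback U.ι).map a)))⁻¹ * ((snd (Red.bc ((U : Scheme.{u}).fromSpecResidueField s) (Red.bc U.ι A)) (Red.bc ((U : Scheme.{u}).fromSpecResidueField s) (Red.bc U.ι B))) ≫ ((Over.pullback ((U : Scheme.{u}).fromSpecResidueField s)).map ((Over.pullback U.ι).map b)))⁻¹)) ∧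
          ∀ (Γ' : Over (Spec ((U : Scheme.{u}).residueField s))) (_ : GrpObj Γ') (i' : Γ' ⟶ (Red.bc ((U : Scheme.{u}).fromSpecResidueField s) (Red.bc U.ι G))), IsMonHom i' → IsClosedImmersion i'.left →
            (∃ c' : (Red.bc ((U : Scheme.{u}).fromSpecResidueField s) (Red.bc U.ι A)) ⊗ (Red.bc ((U : Scheme.{u}).fromSpecResidueField s) (Red.bc U.ι B)) ⟶ Γ', c' ≫ i' = (((fst (Red.bc ((U : Scheme.{u}).fromSpecResidueField s) (Red.bc U.ι A)) (Red.bc ((U : Scheme.{u}).fromSpecResidueField s) (Red.bc U.ι B))) ≫ ((Over.pullback ((U : Scheme.{u}).fromSpecResidueField s)).map ((Over.pullback U.ι).map a))) * ((snd (Red.bc ((U : Scheme.{u}).fromSpecResidueField s) (Red.bc U.ι A)) (Red.bc ((U : Scheme.{u}).fromSpecResidueField s) (Red.bc U.ι B))) ≫ ((Over.pullback ((U : Scheme.{u}).fromSpecResidueField s)).map ((Over.pullback U.ι).map b))) * ((fst (Red.bc ((U : Scheme.{u}).fromSpecResidueField s) (Red.bc U.ι A)) (Red.bc ((U : Scheme.{u}).fromSpecResidueField s) (Red.bc U.ι B))) ≫ ((Over.pullback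 ((U : Scheme.{u}).fromSpecResidueField s)).map ((Over.pullback U.ι).map a)))⁻¹ * ((snd (Red.bc ((U : Scheme.{u}).fromSpecResidueField s) (Red.bc U.ι A)) (Red.bc ((U : Scheme.{u}).fromSpecResidueField s) (Red.bc U.ι B))) ≫ ((Over.pullback ((U : Scheme.{u}).fromSpecResidueField s)).map ((Over.pullback U.ι).map b)))⁻¹)) → ∃ j : (Red.bc ((U : Scheme.{u}).fromSpecResidueField s) D) ⟶ Γ', j ≫ i' = ((Over.pullback ((U : Scheme.{u}).fromSpecResidueField s)).map d) := by
  open Groth.Agent.CAlg6 in
  classical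
  let σ := GenClosure.gσ S
  obtain ⟨UA, hUA, hUA'⟩ := GenSpread.exists_open_smooth_fibres A.hom hsmA
  obtain ⟨UB, hUB, hUB'⟩ := GenSpread.exists_open_smooth_fibres B.hom hsmB
  obtain ⟨UG, hUG, hUG'⟩ := GenClosure.exists_open_flat_lfp G.hom
  have hGA : GenDerived.Good (UA ⊓ UB) A := ⟨⟨hUA, hUB⟩, inferInstance, inferInstance,
    fun V _ => MorphismProperty.pullback_snd (P := @LocallyOfFinitePresentation) _ _ ‹_›, fun s hs => hUA' s hs.1⟩
  have hGB : GenDerived.Good (UA ⊓ UB) B := ⟨⟨hUA, hUB⟩, inferInstance, inferInstance,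
    fun V _ => MorphismProperty.pullback_snd (P := @LocallyOfFinitePresentation) _ _ ‹_›, fun s hs => hUB' s hs.2⟩
  letI : GrpObj (Red.bc σ A) := GrpWord.bcGrp σ
  letI : GrpObj (Red.bc σ B) := GrpWord.bcGrp σ
  letI : GrpObj (Red.bc σ G) := GrpWord.bcGrp σ
  haveI : IsMonHom ((Over.pullback σ).map a) := inferInstance
  haveI : IsMonHom ((Over.pullback σ).map b) := inferInstance
  haveI : IsImmersion ((Over.pullback σ).map a).left := GenDerived.isImmersion_bc σ a
  haveI : IsImmersion ((Over.pullback σ).map b).left := GenDerived.isImmersion_bc σ b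
  obtain ⟨D, d, U', gD, N, hdm, hd, hle, hGD, hflat, hr, h1, hn, hconn⟩ :=
    GenDerived.exists_step a b (UA ⊓ UB) hGA hGB (hcase.imp id fun h =>
      ⟨GrpWord.isNormalHom_bcAny σ a h.1, GrpWord.isNormalHom_bcAny σ b h.2⟩)
  haveI := hd
  obtain ⟨W, hW, hWle, hWc⟩ : ∃ W : S.Opens, genericPoint S ∈ W ∧ W ≤ U' ∧
      (ConnectedSpace (Red.bc σ A).left → ∀ (V : S.Opens), V ≤ W → ∀ u : V.toScheme,
        ConnectedSpace ((Red.bc V.ι D).hom.fiber u)) := by
    by_cases hc : ConnectedSpace (Red.bc σ A).left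
    · obtain ⟨W, h1, h2, h3⟩ := GenDerived.exists_open_connected d U' hGD hflat (hconn hc)
      exact ⟨W, h1, h2, fun _ => h3⟩
    · exact ⟨U', hGD.mem, le_rfl, fun h => absurd h hc⟩
  refine ⟨W ⊓ UG, ⟨genericPoint S, hW, hUG⟩, ?_⟩
  have hV : W ⊓ UG ≤ U' := inf_le_left.trans hWle
  obtain ⟨hci, hlfp, hqc, hqs, hsm, gV, hVm, hVn⟩ :=
    GenDerived.exists_open_group d U' hGD hflat (W ⊓ UG) hV ⟨hW, hUG⟩ (hUG' _ inf_le_right).1
  refine ⟨Red.bc (W ⊓ UG).ι D, gV, (Over.pullback (W ⊓ UG).ι).map d, hVm, hci, hlfp, hqc, hqs, hsm,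
    fun h s => hWc h _ inf_le_left s,
    fun h => hVn (hn ⟨GrpWord.isNormalHom_bcAny σ a h.1, GrpWord.isNormalHom_bcAny σ b h.2⟩), fun s => ?_⟩
  exact GenDerived.fibre_spec a b d (hGA.mono hGD.mem hle) (hGB.mono hGD.mem hle) hGD N hr h1 (W ⊓ UG) hV s

end Groth.Agent.S6079
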