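import Groth.Statements.S6080
import Groth.Agent.SGA3a.ComodExt
import Groth.Agent.SGA3a.ComodMatrix

set_option autoImplicit false
universe u
open TensorProduct
open SGA3

namespace Groth.Agent.S6080

/-- Let R be a Noetherian regular ring of Krull dimension at most 2 and A a commutative Hopf algebra
over R which is flat as an R-module, so that G = Spec A is an affine flat R-group scheme, not
necessarily of finite type. Then every finite subset F of A is contained in a finite-type
sub-Hopf-algebra of the following form: there are a natural number d and a d × d matrix (a_ij) of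
elements of A with Δ(a_ij) = Σ_l a_il ⊗ a_lj and ε(a_ij) = δ_ij (a matrix corepresentation, i.e. a
homomorphism G → GL_{d,R}) whose determinant is a unit, such that F lies in the R-subalgebra
generated by the entries a_ij together with the inverse of det(a_ij) (the affine algebra of the
schematic image of G in GL_{d,R}). Consequently A is the directed union of finite-type
sub-Hopf-algebras each of which is a quotient of the Hopf algebra of some GL_{d,R}. (The published
statement asserts that A is a filtered union of sub-Hopf-algebras of finite type which are moreover
flat over R. The published proof produces the sub-Hopf-algebras described here, as coefficient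
algebras of finite projective subcomodules, and does not address their flatness; they need not be
flat: for the additive group over R = k[x, y], so A = R[s] with s primitive, and the subcomodule
spanned by 1, x s and y s, the construction gives the subalgebra R[x s, y s], which as an R-module
is the direct sum of the powers of the ideal (x, y) and is not flat. Flatness of the
sub-Hopf-algebras is therefore not asserted here. The published statement is over a Noetherian
regular scheme of dimension at most 2; this row is the affine case.) -/
theorem result (R : Type u) [CommRing R] [IsRegularRing R]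
    (hdim : ringKrullDim R ≤ 2) (A : Type u) [CommRing A] [HopfAlgebra R A] [Module.Flat R A] (F : Finset A) :
    ∃ (d : ℕ) (a : Matrix (Fin d) (Fin d) A),
      (∀ i j, CoalgebraStruct.comul (R := R) (a i j) = ∑ l, a i l ⊗ₜ[R] a l j) ∧
      (∀ i j, CoalgebraStruct.counit (R := R) (a i j) = if i = j then 1 else 0) ∧
      ∃ u : A, u * a.det = 1 ∧ (↑F : Set A) ⊆ Algebra.adjoin R (Set.range (fun p : Fin d × Fin d => a p.1 p.2) ∪ {u}) := by
  obtain ⟨W, hW, hMW, hfg⟩ := Groth.Agent.SGA3a.exists_fg_subcomod (R := R) (C := A) (V := A)
    (Submodule.span R (F : Set A)) (Submodule.fg_span F.finite_toSet)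
  haveI : Module.Finite R W := Module.Finite.iff_fg.2 hfg
  haveI : Module.FinitePresentation R W := Module.finitePresentation_of_finite R W
  obtain ⟨hp1, hf1⟩ := Groth.Agent.SGA3a.projective_dual_of_dim_le_two hdim W
  haveI := hp1; haveI := hf1
  obtain ⟨hp2, hf2⟩ := Groth.Agent.SGA3a.projective_dual_of_dim_le_two hdim (Module.Dual R W)
  haveI := hp2; haveI := hf2
  have hj := Groth.Agent.SGA3a.dualBij_eval hdim W
  obtain ⟨c', hc'⟩ := Groth.Agent.SGA3a.exists_comod_extend hj
    (ComodSub.Comod.restr (HopfRep.Comod.regular R A) W hW)
  obtain ⟨φ, hφ, hφc⟩ := Groth.Agent.SGA3a.exists_hom_extend hj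
    (ComodSub.Comod.restr (HopfRep.Comod.regular R A) W hW) c' (HopfRep.Comod.regular R A) hc' W.subtype
    (ComodSub.isComodHom_subtype _ W hW)
  obtain ⟨d, a, h1, h2, u, hu, h3⟩ := Groth.Agent.SGA3a.exists_matrix_corep c' φ hφc
  refine ⟨d, a, h1, h2, u, hu, fun x hx => ?_⟩
  have hxW : x ∈ W := hMW (Submodule.subset_span hx)
  have hx' := h3 (Module.Dual.eval R W ⟨x, hxW⟩)
  have he := LinearMap.congr_fun hφ ⟨x, hxW⟩
  simp only [LinearMap.comp_apply, Submodule.subtype_apply] at he
  rw [he] at hx'
  exact hx'

end Groth.Agent.S6080
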