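import Groth.Statements.S6083
import Groth.Agent.CAlg6.UnivOpenSlice
-- import your own Groth.Agent.* helpers here

set_option autoImplicit false
universe u
open CategoryTheory CategoryTheory.Limits MonoidalCategory CartesianMonoidalCategory MonObj GrpObj AlgebraicGeometry
open SGA3

namespace Groth.Agent.S6083

/-- Let f : X → S be a morphism locally of finite presentation, s a point of S, x a point of the fibre
X_s = f⁻¹(s), n the local dimension of X_s at x, q : 𝔸^n_S → S the affine n-space over S and u : X →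
𝔸^n_S a locally quasi-finite morphism with u q = f. Suppose that f is universally open at the
generic point z of an irreducible component Z of X_s which contains x and has dimension n. Then u is
universally open at x. -/
theorem result (X S : Scheme.{u}) (f : X ⟶ S) [LocallyOfFinitePresentation f]
    (s : S) (x : X) (hxs : f.base x = s) (n : ℕ)
    (u : X ⟶ 𝔸(ULift.{u} (Fin n); S)) [LocallyQuasiFinite u] (hu : u ≫ (𝔸(ULift.{u} (Fin n); S) ↘ S) = f)
    (Z : Set ↥(f.base ⁻¹' {s})) (hZ : Z ∈ irreducibleComponents ↥(f.base ⁻¹' {s})) (hxZ : x ∈ (Subtype.val '' Z))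
    (z : X) (hz : z ∈ Subtype.val '' Z ∧ Subtype.val '' Z ⊆ closure {z}) (hopen : EGA43.IsUnivOpenAt f z)
    (hdimZ : topologicalKrullDim ↥Z = n) (hdimx : FlatMor.localDim ↥(f.base ⁻¹' {s}) ⟨x, hxs⟩ = n) :
    EGA43.IsUnivOpenAt u x := by
  obtain ⟨⟨z', hz'Z, rfl⟩, hsub⟩ := hz
  have hzx : z'.1 ⤳ x := specializes_iff_mem_closure.2 (hsub hxZ)
  have hzs : f.base z'.1 = s := z'.2
  refine Groth.Agent.CAlg6.UnivOpenSlice.main f u hu hzx (hzs.trans hxs.symm) hopen ?_
  have hZc : IsClosed Z := isClosed_of_mem_irreducibleComponents Z hZ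
  have hpre : Z = (Subtype.val : ↥(f.base ⁻¹' {s}) → X) ⁻¹' closure {z'.1} := by
    refine Set.Subset.antisymm (fun w hw => hsub ⟨w, hw, rfl⟩) fun w hw => ?_
    have h : w ∈ closure ({z'} : Set ↥(f.base ⁻¹' {s})) := by
      rw [closure_subtype, Set.image_singleton]; exact hw
    exact closure_minimal (Set.singleton_subset_iff.2 hz'Z) hZc h
  have hdim := Groth.Agent.E4O.dim_fibreClosure (f := f) z'.1
  have h1 : topologicalKrullDim ↥Z = topologicalKrullDim ↥(closure {z'.1} ∩ f.base ⁻¹' {s}) :=
    (Groth.Agent.E4O.dim_set_congr hpre).trans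
      ((Groth.Agent.E4O.dim_preimage_of_isEmbedding Topology.IsEmbedding.subtypeVal _).trans
        (Groth.Agent.E4O.dim_set_congr (by rw [Subtype.range_coe])))
  rw [hdimZ] at h1
  have h2 : (Groth.Agent.E4O.fdeg f z'.1 : WithBot ℕ∞) = (n : ℕ) := by
    rw [h1, ← hdim]
    exact Groth.Agent.E4O.dim_set_congr (congrArg (fun t => closure {z'.1} ∩ f.base ⁻¹' {t}) hzs)
  have h3 : Groth.Agent.E4O.fdeg f z'.1 = n := by exact_mod_cast h2
  rw [h3]
  simp

end Groth.Agent.S6083
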