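import Groth.Statements.S6084
import Groth.Agent.Desc59.SourceLft
import Mathlib.AlgebraicGeometry.Morphisms.QuasiFinite
-- import your own Groth.Agent.* helpers here

set_option autoImplicit false
universe u
open CategoryTheory CategoryTheory.Limits MonoidalCategory CartesianMonoidalCategory MonObj GrpObj AlgebraicGeometry
open SGA3

namespace Groth.Agent.S6084

/-- Let k be a perfect field, G a group scheme locally of finite type over k and u : F → G a
homomorphism of k-group schemes which is a closed immersion and surjective on underlying spaces,
with F reduced (so F is G_red with its group structure). Let p : G → X be a k-morphism which is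
flat, surjective and locally of finite presentation and makes the square formed by (f, g) ↦ u(f) ·
g, the second projection F ×_k G → G and p (twice) cartesian (X is the quotient of G by F acting by
left translations). Then X is the spectrum of a finite local k-algebra with residue field k: X is
affine, its underlying space is a single point at which the structure morphism induces an
isomorphism of residue fields, and the ring of global sections of X is finite over k. -/
theorem result (k : Type u) [Field k] [PerfectField k]
    (F G : Over (Spec (CommRingCat.of k))) [GrpObj F] [GrpObj G] [LocallyOfFiniteType G.hom] [IsReduced F.left]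
    (u : F ⟶ G) [IsMonHom u] [IsClosedImmersion u.left] [Surjective u.left]
    (X : Over (Spec (CommRingCat.of k))) (p : G ⟶ X) [Flat p.left] [Surjective p.left] [LocallyOfFinitePresentation p.left]
    (hp : IsPullback ((u ▷ G) ≫ μ[G]) (snd F G) p p) :
    IsAffine X.left ∧ (∃ x : X.left, (Set.univ : Set X.left) = {x} ∧ IsIso (X.hom.residueFieldMap x)) ∧
      ((Scheme.ΓSpecIso (CommRingCat.of k)).inv ≫ X.hom.appTop).hom.Finite := by
  have hη : u ≫ p = toUnit F ≫ η[G] ≫ p := by
    have hw := congrArg (lift (𝟙 F) (toUnit F ≫ η[G]) ≫ ·) hp.w
    rw [← Category.assoc, ← Category.assoc] at hw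
    have h1 : lift (𝟙 F) (toUnit F ≫ η[G]) ≫ (u ▷ G ≫ μ[G]) = u := by
      rw [← Category.assoc, lift_whiskerRight, Category.id_comp, ← Hom.mul_def, ← Hom.one_def, _root_.mul_one]
    rw [Category.assoc (lift (𝟙 F) (toUnit F ≫ η[G])) (u ▷ G) μ[G], h1, ← Category.assoc (lift (𝟙 F) (toUnit F ≫ η[G])), lift_snd, Category.assoc] at hw
    exact hw
  let e : Spec (CommRingCat.of k) ⟶ X.left := η[G].left ≫ p.left
  have he : e ≫ X.hom = 𝟙 _ := by
    rw [Category.assoc, Over.w p]
    exact Over.w η[G]
  let c : Spec (CommRingCat.of k) := IsLocalRing.closedPoint k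
  have hall : ∀ y : X.left, y = e c := by
    intro y
    obtain ⟨g, rfl⟩ := p.left.surjective y
    obtain ⟨f, rfl⟩ := u.left.surjective g
    refine (congr($(congrArg Over.Hom.left hη) f)).trans ?_
    exact congrArg e (Subsingleton.elim (α := PrimeSpectrum k) _ _)
  haveI : Subsingleton X.left := ⟨fun a b => (hall a).trans (hall b).symm⟩
  haveI : LocallyOfFiniteType (p.left ≫ X.hom) := by rw [Over.w p]; infer_instance
  haveI : LocallyOfFiniteType X.hom := Groth.Agent.Desc59.lft_of_comp p.left X.hom
  haveI : LocallyQuasiFinite X.hom := LocallyQuasiFinite.of_injective (fun a b _ => Subsingleton.elim a b)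
  haveI : QuasiCompact X.hom := by
    haveI : Finite X.left := Finite.of_subsingleton
    haveI : CompactSpace X.left := Finite.compactSpace
    exact quasiCompact_of_compactSpace X.hom
  haveI : IsFinite X.hom := IsFinite.of_locallyQuasiFinite X.hom
  haveI : IsAffine X.left := isAffine_of_isAffineHom X.hom
  refine ⟨inferInstance, ⟨e c, Set.ext fun y => ⟨fun _ => hall y, fun _ => Set.mem_univ y⟩, ?_⟩, ?_⟩
  · have h := Scheme.residueFieldMap_comp e X.hom c
    have hiso : IsIso ((e ≫ X.hom).residueFieldMap c) := by
      rw [he]
      infer_instance
    have hinj : Function.Injective (e.residueFieldMap c) := (e.residueFieldMap c).hom.injective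
    have hbij : Function.Bijective ((e ≫ X.hom).residueFieldMap c) :=
      ConcreteCategory.bijective_of_isIso _
    rw [h] at hbij
    refine (ConcreteCategory.isIso_iff_bijective _).2 ⟨(X.hom.residueFieldMap (e c)).hom.injective, fun y => ?_⟩
    obtain ⟨z, hz⟩ := hbij.2 (e.residueFieldMap c y)
    exact ⟨z, hinj hz⟩
  · refine RingHom.Finite.comp ?_
      (RingHom.Finite.of_surjective _ (Scheme.ΓSpecIso (CommRingCat.of k)).commRingCatIsoToRingEquiv.symm.surjective)
    exact ((HasAffineProperty.iff_of_isAffine (P := @IsFinite)).1 ‹IsFinite X.hom›).2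

end Groth.Agent.S6084
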