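import Groth.Statements.S6087
import Groth.Agent.CAlg6.QuotStage
-- import your own Groth.Agent.* helpers here

set_option autoImplicit false
universe u
open CategoryTheory CategoryTheory.Limits MonoidalCategory CartesianMonoidalCategory MonObj GrpObj AlgebraicGeometry
open SGA3

namespace Groth.Agent.S6087

/-- Let S be the limit of a cofiltered system (S_i) of quasi-compact quasi-separated schemes with affine
transition morphisms, j an index, G_j an S_j-group scheme of finite presentation over S_j and u_j :
G'_j → G_j a subgroup scheme (a homomorphism which is a monomorphism) with G'_j flat and of finite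
presentation over S_j. For a base change G, G' of G_j, G'_j say that G/G' is representable when
there are Q and a morphism p : G → Q which is flat, surjective and locally of finite presentation
and makes the square formed by (g, h) ↦ g · u(h), the first projection G × G' → G and p (twice)
cartesian. Then G/G' is representable over S for the base changes to S if and only if there is an
index i over j such that G_i/G'_i is representable over S_i for the base changes to S_i. (The
published statement is for representability of the fpqc quotient sheaf; with G' flat of finite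
presentation this is the same as the existence of such a p. The published setting takes all S_i
affine over a fixed quasi-compact quasi-separated S_0.) -/
theorem result {I : Type u} [SmallCategory I] [IsCofiltered I]
    (D : I ⥤ Scheme.{u}) (c : Limits.Cone D) (hc : Limits.IsLimit c)
    [∀ (i i' : I) (f : i ⟶ i'), IsAffineHom (D.map f)] [∀ i, CompactSpace (D.obj i)] [∀ i, QuasiSeparatedSpace (D.obj i)]
    (j : I) (Gj G'j : Over (D.obj j)) [GrpObj Gj] [GrpObj G'j]
    [LocallyOfFinitePresentation Gj.hom] [QuasiCompact Gj.hom] [QuasiSeparated Gj.hom]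
    [Flat G'j.hom] [LocallyOfFinitePresentation G'j.hom] [QuasiCompact G'j.hom] [QuasiSeparated G'j.hom]
    (uj : G'j ⟶ Gj) [IsMonHom uj] [Mono uj] :
    (∃ (Q : Over c.pt) (p : (Red.bc (c.π.app j) Gj) ⟶ Q), Flat p.left ∧ Surjective p.left ∧ LocallyOfFinitePresentation p.left ∧
        IsPullback (((Red.bc (c.π.app j) Gj) ◁ ((Over.pullback (c.π.app j)).map uj)) ≫ μ[(Red.bc (c.π.app j) Gj)]) (fst (Red.bc (c.π.app j) Gj) (Red.bc (c.π.app j) G'j)) p p) ↔
    ∃ (i : I) (f : i ⟶ j), ∃ (Q : Over (D.obj i)) (p : (Red.bc (D.map f) Gj) ⟶ Q), Flat p.left ∧ Surjective p.left ∧ LocallyOfFinitePresentation p.left ∧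
        IsPullback (((Red.bc (D.map f) Gj) ◁ ((Over.pullback (D.map f)).map uj)) ≫ μ[(Red.bc (D.map f) Gj)]) (fst (Red.bc (D.map f) Gj) (Red.bc (D.map f) G'j)) p p := by
  obtain ⟨_, _, _, _⟩ := Groth.Agent.CAlg6.GrpStage.compact_tensor Gj G'j
  haveI : QuasiCompact (Gj ⊗ G'j).hom := quasiCompact_of_compactSpace _
  haveI : QuasiSeparated (Gj ⊗ G'j).hom := QuasiSeparated.of_quasiSeparatedSpace _
  haveI : LocallyOfFinitePresentation (Gj ⊗ G'j).hom := by
    show LocallyOfFinitePresentation (pullback.fst Gj.hom G'j.hom ≫ Gj.hom)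
    infer_instance
  let s : Gj ⊗ G'j ⟶ Gj := (Gj ◁ uj) ≫ MonObj.mul
  let t : Gj ⊗ G'j ⟶ Gj := fst Gj G'j
  have e1 : ∀ {T : Scheme.{u}} (m : T ⟶ D.obj j),
      Functor.LaxMonoidal.μ (Over.pullback m) Gj G'j ≫ (Over.pullback m).map s =
        ((Red.bc m Gj) ◁ ((Over.pullback m).map uj)) ≫ MonObj.mul (X := Red.bc m Gj) := by
    intro T m
    rw [Functor.obj.μ_def, Functor.LaxMonoidal.μ_natural_right_assoc, ← Functor.map_comp]
  have conv : ∀ {T : Scheme.{u}} (m : T ⟶ D.obj j),
      Groth.Agent.CAlg6.QuotStage.Quot (((Red.bc m Gj) ◁ ((Over.pullback m).map uj)) ≫ MonObj.mul (X := Red.bc m Gj))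
        (fst (Red.bc m Gj) (Red.bc m G'j)) ↔
      Groth.Agent.CAlg6.QuotStage.Quot ((Over.pullback m).map s) ((Over.pullback m).map t) := by
    intro T m
    let eR : Red.bc m Gj ⊗ Red.bc m G'j ≅ Red.bc m (Gj ⊗ G'j) :=
      Functor.Monoidal.μIso (Over.pullback m) Gj G'j
    have h2 : Functor.LaxMonoidal.μ (Over.pullback m) Gj G'j ≫ (Over.pullback m).map t =
        fst (Red.bc m Gj) (Red.bc m G'j) := Functor.Monoidal.μ_fst _ _ _
    constructor
    · exact Groth.Agent.CAlg6.QuotStage.Quot.of_iso eR (Iso.refl _)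
        ((Category.comp_id _).trans (e1 m).symm) ((Category.comp_id _).trans h2.symm)
    · refine Groth.Agent.CAlg6.QuotStage.Quot.of_iso eR.symm (Iso.refl _) ?_ ?_
      · rw [Iso.refl_hom, Category.comp_id, Iso.symm_hom, Iso.eq_inv_comp]; exact e1 m
      · rw [Iso.refl_hom, Category.comp_id, Iso.symm_hom, Iso.eq_inv_comp]; exact h2
  exact (conv _).trans ((Groth.Agent.CAlg6.QuotStage.main D c hc j Gj (Gj ⊗ G'j) s t).trans
    ⟨fun ⟨i, f, h⟩ => ⟨i, f, (conv _).2 h⟩, fun ⟨i, f, h⟩ => ⟨i, f, (conv _).1 h⟩⟩)

end Groth.Agent.S6087
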