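import Groth.Statements.S6090
import Groth.Agent.CAlg6.GenDerivedSeries
-- import your own Groth.Agent.* helpers here

set_option autoImplicit false
universe u
open CategoryTheory CategoryTheory.Limits MonoidalCategory CartesianMonoidalCategory MonObj GrpObj AlgebraicGeometry
open SGA3

namespace Groth.Agent.S6090

/-- Let S be an integral scheme, G an S-group scheme of finite presentation over S all of whose fibres
are smooth, and n ≥ 1 an integer. Then there are a nonempty open subset U of S and a normal closed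
subgroup scheme d : D → G|_U, of finite presentation over U with smooth fibres, such that for every
s ∈ U the fibre D_s → G_s is the n-th derived subgroup scheme of G_s: there are closed subgroup
schemes K⁰, …, Kⁿ of G_s with K⁰ = G_s, each K^p (p ≥ 1) the smallest closed subgroup scheme of G_s
through which K^{p-1} ×_{κ(s)} K^{p-1} → G_s, (x, y) ↦ x y x⁻¹ y⁻¹, factors, and D_s = Kⁿ as
subgroup schemes of G_s. (The published statement also treats the lower central series (G, K^{p-1});
that variant is not stated here.) -/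
theorem result (S : Scheme.{u}) [IsIntegral S] (G : Over S) [GrpObj G]
    [LocallyOfFinitePresentation G.hom] [QuasiCompact G.hom] [QuasiSeparated G.hom]
    (hsm : ∀ s : S, Smooth (G.hom.fiberToSpecResidueField s)) (n : ℕ) (hn : 1 ≤ n) :
    ∃ U : S.Opens, (U : Set S).Nonempty ∧
      ∃ (D : Over (U : Scheme.{u})) (_ : GrpObj D) (d : D ⟶ Red.bc U.ι G), IsMonHom d ∧ IsClosedImmersion d.left ∧
        AlgGrp.IsNormalHom d ∧ LocallyOfFinitePresentation D.hom ∧ QuasiCompact D.hom ∧ QuasiSeparated D.hom ∧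
        (∀ s : (U : Scheme.{u}), Smooth (D.hom.fiberToSpecResidueField s)) ∧
        ∀ s : (U : Scheme.{u}),
          ∃ (K : Fin (n + 1) → Over (Spec ((U : Scheme.{u}).residueField s))) (_ : ∀ p, GrpObj (K p)) (emb : ∀ p, K p ⟶ (Red.bc ((U : Scheme.{u}).fromSpecResidueField s) (Red.bc U.ι G))),
            (∀ p, IsMonHom (emb p) ∧ IsClosedImmersion (emb p).left) ∧ IsIso (emb 0) ∧
            (∀ p : Fin n,
              (∃ c : (K p.castSucc) ⊗ (K p.castSucc) ⟶ (K p.succ), c ≫ emb p.succ = (((fst (K p.castSucc) (K p.castSucc)) ≫ emb p.castSucc) * ((snd (K p.castSucc) (K p.castSucc)) ≫ emb p.castSucc) * ((fst (K p.castSucc) (K p.castSucc)) ≫ emb p.castSucc)⁻¹ * ((snd (K p.castSucc) (K p.castSucc)) ≫ emb p.castSucc)⁻¹)) ∧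
              ∀ (Γ' : Over (Spec ((U : Scheme.{u}).residueField s))) (_ : GrpObj Γ') (i' : Γ' ⟶ (Red.bc ((U : Scheme.{u}).fromSpecResidueField s) (Red.bc U.ι G))), IsMonHom i' → IsClosedImmersion i'.left →
                (∃ c' : (K p.castSucc) ⊗ (K p.castSucc) ⟶ Γ', c' ≫ i' = (((fst (K p.castSucc) (K p.castSucc)) ≫ emb p.castSucc) * ((snd (K p.castSucc) (K p.castSucc)) ≫ emb p.castSucc) * ((fst (K p.castSucc) (K p.castSucc)) ≫ emb p.castSucc)⁻¹ * ((snd (K p.castSucc) (K p.castSucc)) ≫ emb p.castSucc)⁻¹)) → ∃ j : (K p.succ) ⟶ Γ', j ≫ i' = emb p.succ) ∧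
            ∃ e : (Red.bc ((U : Scheme.{u}).fromSpecResidueField s) D) ≅ K (Fin.last n), e.hom ≫ emb (Fin.last n) = ((Over.pullback ((U : Scheme.{u}).fromSpecResidueField s)).map d) := by
  open Groth.Agent.CAlg6 in
  classical
  obtain ⟨U, st, N, hU, hflatG, h0, hst⟩ := GenDerived.exists_series (G := G) hsm n
  have hex : ∀ p, ∃ (_ : GrpObj (Red.bc U.ι (st p).D)), IsMonHom ((Over.pullback U.ι).map (st p).d) ∧
      AlgGrp.IsNormalHom ((Over.pullback U.ι).map (st p).d) := fun p => by
    letI := (st p).g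
    haveI := (st p).hom
    haveI := (st p).closed
    obtain ⟨-, -, -, -, -, gV, hVm, hVn⟩ :=
      GenDerived.exists_open_group (st p).d U (st p).good (st p).flat U le_rfl hU (hflatG U le_rfl)
    exact ⟨gV, hVm, hVn (st p).normal⟩
  choose g hg hgn using hex
  letI := (st n).g
  haveI := (st n).hom
  haveI := (st n).closed
  obtain ⟨hci, hlfp, hqc, hqs, hsm', -, -, -⟩ :=
    GenDerived.exists_open_group (st n).d U (st n).good (st n).flat U le_rfl hU (hflatG U le_rfl)
  refine ⟨U, ⟨genericPoint S, hU⟩, Red.bc U.ι (st n).D, g n, (Over.pullback U.ι).map (st n).d, hg n, hci, hgn n,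
    hlfp, hqc, hqs, hsm', fun s => ?_⟩
  let σu := (U : Scheme.{u}).fromSpecResidueField s
  refine ⟨fun p => Red.bc σu (Red.bc U.ι (st p).D),
    fun p => (letI := g p; GrpWord.bcGrp σu (G := Red.bc U.ι (st p).D)),
    fun p => (Over.pullback σu).map ((Over.pullback U.ι).map (st p).d), fun p => ⟨?_, ?_⟩, ?_, fun p => ?_,
    Iso.refl _, Category.id_comp _⟩
  · letI := g p
    haveI := hg p
    letI : GrpObj (Red.bc σu (Red.bc U.ι (st p).D)) := GrpWord.bcGrp σu
    exact (inferInstance : IsMonHom ((Over.pullback σu).map ((Over.pullback U.ι).map (st p).d)))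
  · haveI := (st p).closed
    haveI := GenDerived.isClosedImmersion_bc U.ι (st p).d
    exact GenDerived.isClosedImmersion_bc σu _
  · haveI := h0
    exact (inferInstance : IsIso ((Over.pullback σu).map ((Over.pullback U.ι).map (st 0).d)))
  · haveI := (st (p.1 + 1)).closed
    exact GenDerived.fibre_spec (st p.1).d (st p.1).d (st (p.1 + 1)).d (st p.1).good (st p.1).good
      (st (p.1 + 1)).good (N p.1) (hst p.1 p.2).1 (hst p.1 p.2).2 U le_rfl s

end Groth.Agent.S6090
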