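import Groth.Statements.S6101
import Groth.Agent.RedPts82.OrdLaw

set_option autoImplicit false
open CategoryTheory MonoidalCategory CartesianMonoidalCategory MonObj GrpObj AlgebraicGeometry
universe u
open RedSub

namespace Groth.Agent.S6101

/-- On points: let G be a split reductive S-group (splitting D with torus T, lattice M and root
homomorphisms u_a), fix a total order on M compatible with addition, and let a_1 < ⋯ < a_N be the
roots which are positive for it, enumerated increasingly by e. For i + m = N write U_{>i} for the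
products u_{a_{i+1}}(y_1) ⋯ u_{a_N}(y_m) of points of G_a, taken in increasing order. Then: U_{>i}
is closed under products and inverses; it is normalised by the points of T and by the points of
U_{>0}; and conjugating a point of U_{>i} by a point of U_{>0} does not change its first factor y_1
(inner automorphisms of U_{>0} act trivially on U_{>i}/U_{>i+1} = U_{a_{i+1}}). -/
theorem result {S : Scheme.{u}} {G : Over S} [GrpObj G] (D : Red.SplitRed G)
    [LinearOrder D.M] [IsOrderedAddMonoid D.M] {N : ℕ} (e : Fin N → D.idx) (he : Function.Injective e)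
    (hrange : ∀ a : D.idx, a ∈ Set.range e ↔ 0 < D.P.root a) (hmono : StrictMono (fun k => D.P.root (e k)))
    (i m : ℕ) (h : i + m = N) :
    (∀ (X : Over S) (y y' : Fin m → (X ⟶ Red.Ga S)), ∃ z : Fin m → (X ⟶ Red.Ga S),
      (List.ofFn (fun k => z k ≫ D.u (e (Fin.cast h (Fin.natAdd i k))))).prod =
        (List.ofFn (fun k => y k ≫ D.u (e (Fin.cast h (Fin.natAdd i k))))).prod *
          (List.ofFn (fun k => y' k ≫ D.u (e (Fin.cast h (Fin.natAdd i k))))).prod) ∧
    (∀ (X : Over S) (y : Fin m → (X ⟶ Red.Ga S)), ∃ z : Fin m → (X ⟶ Red.Ga S),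
      (List.ofFn (fun k => z k ≫ D.u (e (Fin.cast h (Fin.natAdd i k))))).prod =
        ((List.ofFn (fun k => y k ≫ D.u (e (Fin.cast h (Fin.natAdd i k))))).prod)⁻¹) ∧
    (∀ (X : Over S) (t : X ⟶ D.T) (y : Fin m → (X ⟶ Red.Ga S)), ∃ z : Fin m → (X ⟶ Red.Ga S),
      (List.ofFn (fun k => z k ≫ D.u (e (Fin.cast h (Fin.natAdd i k))))).prod =
        (t ≫ D.i) * (List.ofFn (fun k => y k ≫ D.u (e (Fin.cast h (Fin.natAdd i k))))).prod * (t ≫ D.i)⁻¹) ∧
    (∀ (X : Over S) (x : Fin N → (X ⟶ Red.Ga S)) (y : Fin m → (X ⟶ Red.Ga S)), ∃ z : Fin m → (X ⟶ Red.Ga S),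
      (List.ofFn (fun k => z k ≫ D.u (e (Fin.cast h (Fin.natAdd i k))))).prod =
        (List.ofFn (fun k => x k ≫ D.u (e k))).prod *
          (List.ofFn (fun k => y k ≫ D.u (e (Fin.cast h (Fin.natAdd i k))))).prod *
            ((List.ofFn (fun k => x k ≫ D.u (e k))).prod)⁻¹ ∧
      ∀ k : Fin m, (k : ℕ) = 0 → z k = y k) := by
  subst h
  have H : Groth.Agent.RedPts82.OrdEnum D e := ⟨he, hrange, hmono⟩
  simp only [Fin.cast_refl, id_eq]
  let pad : ∀ {X : Over S}, (Fin m → (X ⟶ Red.Ga S)) → Fin (i + m) → (X ⟶ Red.Ga S) := fun y =>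
    Fin.append (fun _ => Groth.Agent.RedPts82.gaPt 0) y
  have hpad : ∀ {X : Over S} (y : Fin m → (X ⟶ Red.Ga S)),
      (List.ofFn fun k => y k ≫ D.u (e (Fin.natAdd i k))).prod = Groth.Agent.RedPts82.uProd D e (pad y) := by
    intro X y
    have happ : (fun k => pad y k ≫ D.u (e k)) = Fin.append (fun _ : Fin i => (1 : X ⟶ G))
        (fun k => y k ≫ D.u (e (Fin.natAdd i k))) := by
      funext k
      refine Fin.addCases (fun l => ?_) (fun l => ?_) k
      · simp only [pad, Fin.append_left, Groth.Agent.RedPts82.rootHom_gaPt_zero]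
      · simp only [pad, Fin.append_right]
    rw [Groth.Agent.RedPts82.uProd, happ, List.ofFn_fin_append, List.prod_append, List.ofFn_const,
      List.prod_replicate, one_pow, _root_.one_mul]
  have htail : ∀ {X : Over S} (y : Fin m → (X ⟶ Red.Ga S)), Groth.Agent.RedPts82.IsTail i (pad y) := by
    intro X y k hk
    revert hk
    refine Fin.addCases (fun l => ?_) (fun l => ?_) k
    · intro _; simp only [pad, Fin.append_left]
    · intro hk; simp at hk
  have hback : ∀ {X : Over S} (z : Fin (i + m) → (X ⟶ Red.Ga S)), Groth.Agent.RedPts82.IsTail i z →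
      pad (fun k => z (Fin.natAdd i k)) = z := by
    intro X z hz
    funext k
    refine Fin.addCases (fun l => ?_) (fun l => ?_) k
    · simp only [pad, Fin.append_left]; exact (hz _ (by simp)).symm
    · simp only [pad, Fin.append_right]
  refine ⟨fun X y y' => ?_, fun X y => ?_, fun X t y => ?_, fun X x y => ?_⟩
  · obtain ⟨z, hz, ez⟩ := H.tail_mul i (pad y) (pad y') (htail y) (htail y')
    exact ⟨fun k => z (Fin.natAdd i k), by rw [hpad, hback z hz, ez, hpad, hpad]⟩
  · obtain ⟨z, hz, ez⟩ := H.tail_inv i (pad y) (htail y)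
    exact ⟨fun k => z (Fin.natAdd i k), by rw [hpad, hback z hz, ez, hpad]⟩
  · choose z hz using fun k => (D.rootHom (e (Fin.natAdd i k))).2.2 X t (y k)
    refine ⟨z, ?_⟩
    rw [Groth.Agent.RedPts82.conj_list_prod]
    simp only [fun k => (hz k).1]
  · obtain ⟨z, hz, ez, ek⟩ := H.tail_conj i x (pad y) (htail y)
    refine ⟨fun k => z (Fin.natAdd i k), by rw [hpad, hback z hz, ez, hpad]; rfl, fun k hk => ?_⟩
    refine (ek _ (by simp only [Fin.val_natAdd]; omega)).trans ?_
    simp only [pad, Fin.append_right]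

end Groth.Agent.S6101
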