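import Groth.Statements.S6105
import Groth.Agent.RedPts82.BruhatTorusKer

set_option autoImplicit false
open CategoryTheory MonoidalCategory CartesianMonoidalCategory MonObj GrpObj AlgebraicGeometry
universe u
open RedSub

namespace Groth.Agent.S6105

open Groth.Agent.RedPts82

/-- Let G be a split reductive S-group (splitting D, T ≅ D_S(M), system of simple roots b, enumerations
of the negative and positive roots, U = ∏_{a > 0} U_a, U⁻ = ∏_{a < 0} U_a), N = {m | (α*, m) = 0 for
all coroots}, T' = D_S(M/N) ⊆ T and Ω' = U⁻ · T' · U. Then there is an open V₀ ⊆ G containing the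
unit section such that U(S') U⁻(S') ∩ V₀(S') ⊆ Ω'(S') for every S': a product x y of a point x of U
and a point y of U⁻ which lies in V₀ is a point of Ω'. -/
theorem result {S : Scheme.{u}} {G : Over S} [GrpObj G]
    (D : Red.SplitRed G) (b : D.P.Base) {n m : ℕ} (eneg : Fin n → D.idx) (epos : Fin m → D.idx)
    (hneg : RedSub.Enumerates (RedSub.negRoots D.P b) eneg) (hpos : RedSub.Enumerates (RedSub.posRoots D.P b) epos)
    (N : AddSubgroup D.M) (hN : ∀ x : D.M, x ∈ N ↔ ∀ c : D.idx, D.P.coroot c x = 0) :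
    ∃ V : Set ↥G.left, IsOpen V ∧ Set.range η[G].left.base ⊆ V ∧
      ∀ (X : Over S) (x : X ⟶ RedSub.pow (Red.Ga S) m) (y : X ⟶ RedSub.pow (Red.Ga S) n),
        Set.range ((x ≫ RedSub.prodMap (Red.Ga S) m (fun k => D.u (epos k))) *
          (y ≫ RedSub.prodMap (Red.Ga S) n (fun k => D.u (eneg k)))).left.base ⊆ V →
        ∃ g' : X ⟶ RedSub.pow (Red.Ga S) n ⊗ (Red.DS S (D.M ⧸ N) ⊗ RedSub.pow (Red.Ga S) m),
          (x ≫ RedSub.prodMap (Red.Ga S) m (fun k => D.u (epos k))) *
            (y ≫ RedSub.prodMap (Red.Ga S) n (fun k => D.u (eneg k))) = g' ≫ ((fst _ _ ≫ RedSub.prodMap (Red.Ga S) n (fun k => D.u (eneg k))) *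
        ((snd _ _ ≫ fst _ _ ≫ Red.DSmap S (QuotientAddGroup.mk' N) ≫ D.split.inv.hom.hom ≫ D.i) *
          (snd _ _ ≫ snd _ _ ≫ RedSub.prodMap (Red.Ga S) m (fun k => D.u (epos k))))) := by
  obtain ⟨F, hF, -, hker, hex⟩ := exists_torusHom_cell hneg hpos (N := N) fun x hx c => (hN x).mp hx c
  have := openImmersion_cellMap hneg hpos
  refine ⟨Set.range (RedSub.cellMap D eneg epos).left.base,
    (RedSub.cellMap D eneg epos).left.isOpenEmbedding.isOpen_range, (by rw [MonObj.one_eq_one]; exact one_range_cellMap eneg epos _),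
    fun X x y hxy => ?_⟩
  have hz : ∀ {k : ℕ} (e : Fin k → D.idx),
      (powTuple fun _ => gaPt (0 : Γ(X.left, ⊤))) ≫ RedSub.prodMap (Red.Ga S) k (fun i => D.u (e i)) = 1 := by
    intro k e
    rw [powTuple_prodMap]
    refine List.prod_eq_one fun f hf => ?_
    obtain ⟨i, rfl⟩ := (List.mem_ofFn' _ _).mp hf
    exact rp_zero _ _
  have := D.maximalTorus.1
  have : IsMonHom D.split.inv.hom.hom := D.split.inv.hom.isMonHom_hom
  have hone : (1 : X ⟶ Red.DS S (D.M ⧸ N)) ≫ Red.DSmap S (QuotientAddGroup.mk' N) = 1 :=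
    dsFn_injective fun m => by rw [dsFn_DSmap, dsFn_one, dsFn_one]
  have hx1 := hker (lift (powTuple fun _ => gaPt 0) (lift 1 x))
  have hy1 := hker (lift y (lift 1 (powTuple fun _ => gaPt 0)))
  simp only [← Category.assoc _ _ F, primeMap, MonObj.comp_mul, lift_fst_assoc, lift_snd_assoc] at hx1 hy1
  rw [← Category.assoc (1 : X ⟶ Red.DS S (D.M ⧸ N)), hone, MonObj.one_comp, hz eneg, _root_.one_mul,
    _root_.one_mul] at hx1
  rw [← Category.assoc (1 : X ⟶ Red.DS S (D.M ⧸ N)), hone, MonObj.one_comp, hz epos, _root_.mul_one,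
    _root_.mul_one] at hy1
  obtain ⟨z, hzz⟩ := exists_factor_of_range _ _ hxy
  obtain ⟨g', hg'⟩ := hex z (by rw [← Category.assoc, hzz]; exact ker_mul (H := Red.DS S N) F hx1 hy1)
  exact ⟨g', hzz.symm.trans hg'.symm⟩

end Groth.Agent.S6105
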