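import Groth.Statements.S6108
import Groth.Agent.RedPts82.OrdLaw

set_option autoImplicit false
open CategoryTheory MonoidalCategory CartesianMonoidalCategory MonObj GrpObj AlgebraicGeometry
universe u
open RedSub

namespace Groth.Agent.S6108

/-- Let G be a split reductive S-group (splitting D with root homomorphisms u_a, lattice M), fix a total
order on M compatible with addition, let a_1 < ⋯ < a_N be the positive roots enumerated increasingly
by e, and let f_1, …, f_N : G_a ⟶ H be homomorphisms into an S-group scheme H. Let F be the map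
u_{a_1}(x_1) ⋯ u_{a_N}(x_N) ↦ f_1(x_1) ⋯ f_N(x_N) on points of U = U_{a_1} ⋯ U_{a_N}. Then F is
multiplicative if and only if, for all i < j and all points a, c of G_a, F applied to the
coordinates of u_{a_j}(c) u_{a_i}(a) u_{a_j}(c)⁻¹ equals f_j(c) f_i(a) f_j(c)⁻¹. (The published
statement allows H to be any group functor over S; this row takes H to be a group scheme over S.) -/
theorem result {S : Scheme.{u}} {G H : Over S} [GrpObj G] [GrpObj H]
    (D : Red.SplitRed G) [LinearOrder D.M] [IsOrderedAddMonoid D.M] {N : ℕ} (e : Fin N → D.idx)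
    (he : Function.Injective e) (hrange : ∀ a : D.idx, a ∈ Set.range e ↔ 0 < D.P.root a)
    (hmono : StrictMono (fun k => D.P.root (e k))) (f : Fin N → (Red.Ga S ⟶ H)) (hf : ∀ k, IsMonHom (f k)) :
    (∀ (X : Over S) (x y z : Fin N → (X ⟶ Red.Ga S)),
      (List.ofFn (fun k => z k ≫ D.u (e k))).prod =
          (List.ofFn (fun k => x k ≫ D.u (e k))).prod * (List.ofFn (fun k => y k ≫ D.u (e k))).prod →
        (List.ofFn (fun k => z k ≫ f k)).prod =
          (List.ofFn (fun k => x k ≫ f k)).prod * (List.ofFn (fun k => y k ≫ f k)).prod) ↔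
    (∀ (X : Over S) (i j : Fin N), i < j → ∀ (a c : X ⟶ Red.Ga S) (z : Fin N → (X ⟶ Red.Ga S)),
      (List.ofFn (fun k => z k ≫ D.u (e k))).prod = (c ≫ D.u (e j)) * (a ≫ D.u (e i)) * (c ≫ D.u (e j))⁻¹ →
        (List.ofFn (fun k => z k ≫ f k)).prod = (c ≫ f j) * (a ≫ f i) * (c ≫ f j)⁻¹) := by
  exact Groth.Agent.RedPts82.OrdEnum.multiplicative_iff (D := D) ⟨he, hrange, hmono⟩ f hf

end Groth.Agent.S6108
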