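import Groth.Statements.S6121
import Groth.Agent.SGA45.General

set_option autoImplicit false
open CategoryTheory
universe v₁ v₂ u₁ u₂
open SGA4

namespace Groth.Agent.S6121

/-- For a fibered functor `p : E ⥤ B` (every morphism of `B` has a cartesian lift with prescribed
codomain, and cartesian morphisms compose), `p` reflects isomorphisms if and only if every fibre
category of `p` (objects over `b`, morphisms lying over the identity of `b`) is a groupoid. -/
theorem result
    {B : Type u₁} [Category.{v₁} B] {E : Type u₂} [Category.{v₂} E] (p : E ⥤ B) [p.IsFibered] :
    p.ReflectsIsomorphisms ↔ ∀ b : B, IsGroupoid (p.Fiber b) :=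
  Groth.Agent.SGA45.reflectsIsomorphisms_iff_isGroupoid_fiber p

end Groth.Agent.S6121
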