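import Groth.Statements.S6146
import Groth.Agent.SiteMod.ExtZero
import Groth.Agent.Mod48.FreeOn

set_option autoImplicit false
universe u
open CategoryTheory
open ModSite

namespace Groth.Agent.S6146

/-- Ringed topos of sheaves on a small site (C, J) with commutative structure sheaf O, localised at an
object U of C: if M is a flat O|U-module on C/U then its extension by zero j_{U!} M is a flat
O-module. In particular the free O-module on U, j_{U!} O_U, is flat. -/
theorem result {C : Type u} [SmallCategory C] {J : GrothendieckTopology C} (O : Sheaf J CommRingCat.{u})
    (U : C) :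
    (∀ M : ModSite.Mod (O.over U), ModSite.IsFlat M → ModSite.IsFlat ((ModSite.extZero O U).obj M)) ∧
    ModSite.IsFlat (ModSite.freeOn O U) := by
  exact ⟨fun M hM => Groth.Agent.SiteMod.isFlat_extZero M hM, Groth.Agent.Mod48.isFlat_freeOn U⟩

end Groth.Agent.S6146
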