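import Groth.Statements.S6162
import Groth.Agent.Fib44.LerayFun

set_option autoImplicit false
universe u
open CategoryTheory
open CohSite

namespace Groth.Agent.S6162

open CategoryTheory.Limits in
/-- Existence form of the Leray spectral sequence; abelian sheaves on small sites: let u : D -> C be a
continuous functor between small sites whose pullback on sheaves of sets is exact (a morphism of
topoi), u_* M = M o u the direct image and R^q u_* its right derived functors. For an abelian sheaf
M on C and an object V of D there is an E_2 spectral sequence of abelian groups, bounded, with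
E_2^{p,q} isomorphic to H^p(V, R^q u_* M) for p, q >= 0 and zero otherwise, together with abutment
data whose filtrations are finite on H^n(u(V), M) (n >= 0; zero for n < 0). The E_2 identifications
and the abutment isomorphisms are asserted to exist only; they are not pinned to the canonical maps
of the construction, so edge maps and low-degree exact sequences are not part of this statement. -/
theorem result {C D : Type u} [SmallCategory C] [SmallCategory D]
    (J : GrothendieckTopology C) (K : GrothendieckTopology D) (u : D ⥤ C) [u.IsContinuous K J]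
    [PreservesFiniteLimits (u.sheafPullback (Type u) K J)] (M : Sheaf J AddCommGrpCat.{u}) (V : D) :
    ∃ (E : E₂CohomologicalSpectralSequence AddCommGrpCat.{u})
      (a : SpSeq.Abutment E (fun n : ℤ =>
        if 0 ≤ n then AddCommGrpCat.of (CohSite.HU M n.toNat (u.obj V)) else AddCommGrpCat.of PUnit.{u + 1})),
      (∀ n, a.IsFinite n) ∧ SpSeq.IsBounded E ∧
      ∀ p q : ℤ, Nonempty ((E.page 2 le_rfl).X (p, q) ≅
        (if 0 ≤ p ∧ 0 ≤ q then AddCommGrpCat.of (CohSite.HU ((CohSite.Rpush J K u q.toNat).obj M) p.toNat V)
         else AddCommGrpCat.of PUnit.{u + 1})) := by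
  refine Groth.Agent.GSS45.exists_spectralSequence_comp (CohSite.push J K u)
    (Groth.Agent.Fib44.secFun K V) (fun Q _ q hq => ?_) M (fun n => ?_) (fun n hn => ?_)
    (fun p q => ?_) (fun p q h => ?_)
  · obtain ⟨q, rfl⟩ := Nat.exists_eq_add_of_le' (Nat.succ_le_of_lt hq)
    have := Groth.Agent.SiteCoh.push_injective_of_type J K u Q
    exact Functor.isZero_rightDerived_obj_injective_succ _ q _
  · refine ⟨(Groth.Agent.Fib44.rightDerivedIsoOfIso
      (Iso.refl (Groth.Agent.Fib44.secFun J (u.obj V))) n).app M ≪≫ ?_⟩
    rw [if_pos (Int.natCast_nonneg n), Int.toNat_natCast]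
    exact Groth.Agent.Fib44.rightDerivedSecObjIso J (u.obj V) n M
  · rw [if_neg (by omega)]
    exact AddCommGrpCat.isZero_of_subsingleton _
  · rw [if_pos ⟨Int.natCast_nonneg p, Int.natCast_nonneg q⟩, Int.toNat_natCast, Int.toNat_natCast]
    exact ⟨Groth.Agent.Fib44.rightDerivedSecObjIso K V p _⟩
  · rw [if_neg (by omega)]
    exact AddCommGrpCat.isZero_of_subsingleton _

end Groth.Agent.S6162
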