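import Groth.Statements.S6165
import Groth.Agent.Mod48.Exact
import Groth.Agent.Coh69.Grothendieck
import Mathlib.CategoryTheory.Adjunction.AdjointFunctorTheorems
import Mathlib.CategoryTheory.Abelian.Subobject

set_option autoImplicit false
universe u
open CategoryTheory CategoryTheory.Limits
open ModSite

namespace Groth.Agent.S6165

/-- Ringed topos of sheaves on a small site with commutative structure sheaf O; A = B = O: for every
O-module N the functor M |-> M (x)_O N on O-modules is a left adjoint, i.e. a right adjoint Hom_O(N,
-) (an internal hom functor) EXISTS, giving the tensor-hom adjunction Hom_O(M (x)_O N, P) = Hom_O(M,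
Hom_O(N, P)) natural in M and P. Only the existence of a right adjoint is asserted and no particular
functor is pinned; `ModSite.sheafHom N` then denotes the chosen right adjoint, and statements about
its values go through `ModSite.sheafHomAdj N`. -/
theorem result {C : Type u} [SmallCategory C] {J : GrothendieckTopology C}
    (O : Sheaf J CommRingCat.{u}) (N : ModSite.Mod O) : ModSite.HasSheafHom N := by
  have : IsGrothendieckAbelian.{u} (ModSite.Mod O) :=
    Groth.Agent.Coh69.sheafOfModules_isGrothendieckAbelian (ModSite.ringSh O)
  have : WellPowered.{u} (ModSite.Mod O) :=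
    IsGrothendieckAbelian.wellPowered (ModSite.Mod O)
  have : WellPowered.{u} (ModSite.Mod O)ᵒᵖ :=
    CategoryTheory.Abelian.wellPowered_opposite (C := ModSite.Mod O)
  have : PreservesColimitsOfSize.{u, u} (Groth.Agent.Mod48.tR N) := ⟨inferInstance⟩
  exact @isLeftAdjoint_of_preservesColimits_of_isSeparating _ _ _ _ _ _ _ _
    (isSeparator_separator (ModSite.Mod O)) (Groth.Agent.Mod48.tR N) this

end Groth.Agent.S6165
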