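import Groth.Statements.S6167
import Groth.Agent.SiteMod.FlatFactor

set_option autoImplicit false
universe u
open CategoryTheory
open ModSite

namespace Groth.Agent.S6167

/-- Ringed site (C, O), small, with commutative structure sheaf: a morphism from an O-module of finite
presentation (Mathlib's notion: over some family of objects covering every object, a cokernel of a
map of finite free modules) to a flat O-module factors, locally on the site, through a finite free
module: for every object X there is a covering family (Y_i -> X) and for each i a factorisation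
F|Y_i -> (O|Y_i)^n -> H|Y_i of the restricted morphism. -/
theorem result {C : Type u} [SmallCategory C] {J : GrothendieckTopology C}
    (O : Sheaf J CommRingCat.{u}) (F H : ModSite.Mod O) [F.IsFinitePresentation] (hH : ModSite.IsFlat H)
    (φ : F ⟶ H) (X : C) :
    ∃ (ι : Type u) (Y : ι → C) (g : ∀ i, Y i ⟶ X), Sieve.ofArrows Y g ∈ J X ∧
      ∀ i, ∃ (n : ℕ) (a : (ModSite.restr O (Y i)).obj F ⟶ SheafOfModules.free (ULift.{u} (Fin n)))
        (b : SheafOfModules.free (ULift.{u} (Fin n)) ⟶ (ModSite.restr O (Y i)).obj H),
        a ≫ b = (ModSite.restr O (Y i)).map φ := by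
  obtain ⟨R, hR, hfac⟩ := Groth.Agent.SiteMod.exists_factor_cover (O := O) hH φ X
  refine ⟨(Y : C) × {g : Y ⟶ X // R g}, fun p => p.1, fun p => p.2.1,
    J.superset_covering (fun Y g hg => ?_) hR, fun p => hfac p.2.1 p.2.2⟩
  exact Sieve.ofArrows_mk (fun p : (Y : C) × {g : Y ⟶ X // R g} => p.1) (fun p => p.2.1) ⟨Y, g, hg⟩

end Groth.Agent.S6167
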