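import Groth.Statements.S6182
import Groth.Agent.Topos46.Inverse
import Groth.Agent.Topos46.Algebraic
import Groth.Agent.Topos46.SiteQc
import Groth.Agent.S5590
-- import your own Groth.Agent.* helpers here

set_option autoImplicit false
open CategoryTheory CategoryTheory.Limits Opposite
universe u
open ToposFin

namespace Groth.Agent.S6182

open Groth.Agent.Topos46

/-- Let (C, J) and (D, K) be small sites with fibre products in which every object is quasi-compact, and
G : C -> D a continuous functor whose inverse-image functor on sheaves of sets f^* (the sheaf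
pullback along G, from sheaves on C to sheaves on D) preserves finite limits, so that G is a
morphism of sites and f a morphism of topoi. Then f is coherent: f^* sends quasi-compact objects to
quasi-compact objects and quasi-separated objects to quasi-separated objects. -/
theorem result {C D : Type u} [SmallCategory C] [SmallCategory D]
    [HasPullbacks C] [HasPullbacks D] (J : GrothendieckTopology C) (K : GrothendieckTopology D)
    (hC : ∀ X : C, ToposFin.IsQCSite J X) (hD : ∀ Y : D, ToposFin.IsQCSite K Y)
    (G : C ⥤ D) [Functor.IsContinuous G J K] [PreservesFiniteLimits (G.sheafPullback (Type u) J K)] :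
    (∀ X : ToposFin.Sh J, ToposFin.IsQC X → ToposFin.IsQC ((G.sheafPullback (Type u) J K).obj X)) ∧
      (∀ X : ToposFin.Sh J, ToposFin.IsQS X → ToposFin.IsQS ((G.sheafPullback (Type u) J K).obj X)) := by
  let adj := G.sheafAdjunctionContinuous (Type u) J K
  have hiso : ∀ V : C, Nonempty
      ((G.sheafPullback (Type u) J K).obj (ToposFin.eps J V) ≅ ToposFin.eps K (G.obj V)) := fun V => by
    let E : ∀ H : ToposFin.Sh K, ((G.sheafPullback (Type u) J K).obj (ToposFin.eps J V) ⟶ H) ≃
        (ToposFin.eps K (G.obj V) ⟶ H) := fun H =>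
      ((adj.homEquiv _ H).trans (epsEquiv (V := V))).trans (epsEquiv (J := K) (V := G.obj V) (X := H)).symm
    have hE : ∀ (H H' : ToposFin.Sh K) (a : _ ⟶ H) (φ : H ⟶ H'), E H' (a ≫ φ) = E H a ≫ φ := by
      intro H H' a φ
      apply epsEquiv.injective
      simp only [E, Equiv.trans_apply, Equiv.apply_symm_apply, epsEquiv_comp,
        adj.homEquiv_naturality_right]
      exact (Equiv.apply_symm_apply _ _).trans (congrArg _ (Equiv.apply_symm_apply _ _).symm)
    exact ⟨{
      hom := (E _).symm (𝟙 _)
      inv := E _ (𝟙 _)
      hom_inv_id := (E _).injective (by rw [hE, Equiv.apply_symm_apply, Category.id_comp])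
      inv_hom_id := by rw [← hE, Category.id_comp, Equiv.apply_symm_apply] }⟩
  refine (Groth.Agent.S5590.result (G.sheafPullback (Type u) J K) _ adj
    (hasQCGenerators_of_genBy (genBy_qc_eps hD)) {W | ∃ V, W = ToposFin.eps J V}
    ?_ ?_).2 ?_
  · rintro _ ⟨V, rfl⟩
    exact isCoherent_eps hC V
  · intro X
    obtain ⟨ι, F, π, hF, hπ⟩ := genBy_eps (J := J) X
    exact ⟨ι, F, π, hF, fun Z a b => hπ a b⟩
  · rintro _ ⟨V, rfl⟩
    obtain ⟨e⟩ := hiso V
    exact ⟨isQC_of_iso e.symm (isCoherent_eps hD _).1,
      isQS_of_isQSHom (isQSHom_of_mono' e.hom) (isCoherent_eps hD _).2⟩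

end Groth.Agent.S6182
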