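import Groth.Statements.S6184
import Groth.Agent.Big45.Site

set_option autoImplicit false
open CategoryTheory CategoryTheory.Limits AlgebraicGeometry Opposite
universe u
open BigSite

namespace Groth.Agent.S6184

/-- Let X be a scheme, u the inclusion of the small etale site of X into the big etale site (X-schemes
with the etale topology), u_* restriction of sheaves along it and u^* its left adjoint. For every
sheaf of sets G and every abelian sheaf G on the small etale site, the unit G -> u_* u^* G is an
isomorphism (so u^* is fully faithful). Stated for sheaves of sets (first conjunct, with Mathlib's
sheaf pullback along the inclusion) and for abelian sheaves (second conjunct, the prelude's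
adjunction on the big etale site). -/
theorem result (X : Scheme.{u}) :
    (∀ G : EtDesc.Sh X, IsIso (((EtFppf.a X).sheafAdjunctionContinuous (Type (u + 1)) X.smallEtaleTopology
      (QuotSh.J Scheme.etalePrecoverage X)).unit.app G)) ∧
    (∀ G : EtCoh.Ab X, IsIso ((BigSite.piEtAdj Scheme.etalePrecoverage X).unit.app G)) :=
  ⟨fun G => by
    haveI := Groth.Agent.Big45.isIso_unit_continuous X (Type (u + 1))
    infer_instance, fun G => by
    haveI := Groth.Agent.Big45.isIso_unit_continuous X AddCommGrpCat.{u + 1}
    infer_instance⟩

end Groth.Agent.S6184
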