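import Groth.Statements.S6195
import Groth.Agent.RelPCSch41.SpreadIso

set_option autoImplicit false
universe u
open CategoryTheory CategoryTheory.Limits AlgebraicGeometry
attribute [local instance] HasDerivedCategory.standard
open KSix

namespace Groth.Agent.S6195

/-- Let X be a scheme, x ∈ X, and E, F cochain complexes of O_X-modules whose images in D(O_X) have
bounded cohomology and are pseudo-coherent. If the complexes of stalks E_x and F_x are isomorphic in
the derived category of the local ring of X at x, then x has an open neighbourhood U over which the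
restrictions of E and F become isomorphic in D(O_U). (The published statement is for a point of a
ringed topos; this row is the case of schemes.) -/
theorem result {X : Scheme.{u}} (x : X)
    (E F : CochainComplex X.Modules ℤ) (c d : ℤ) [(DCoh.toD X E).IsGE c] [(DCoh.toD X E).IsLE d]
    [(DCoh.toD X F).IsGE c] [(DCoh.toD X F).IsLE d]
    (hE : ∀ m : ℤ, DCoh.IsPseudoCoherentD m (DCoh.toD X E)) (hF : ∀ m : ℤ, DCoh.IsPseudoCoherentD m (DCoh.toD X F))
    (hx : Nonempty (DRing.toD (((DerSch.stalkFunctor X x).mapHomologicalComplex (ComplexShape.up ℤ)).obj E) ≅ DRing.toD (((DerSch.stalkFunctor X x).mapHomologicalComplex (ComplexShape.up ℤ)).obj F))) :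
    ∃ U : X.Opens, x ∈ U ∧
      Nonempty (DerivedCategory.Q.obj ((DCoh.restrictCx U).obj E) ≅ DerivedCategory.Q.obj ((DCoh.restrictCx U).obj F)) := by
  haveI : (DerivedCategory.Q.obj E).IsGE c := ‹(DCoh.toD X E).IsGE c›
  haveI : (DerivedCategory.Q.obj F).IsGE c := ‹(DCoh.toD X F).IsGE c›
  haveI : (DerivedCategory.Q.obj F).IsLE d := ‹(DCoh.toD X F).IsLE d›
  exact RelPCSch41.exists_restrict_iso (c := c) (d := d) E F hE hF x hx

end Groth.Agent.S6195
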