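import Groth.Statements.S6207
import Groth.Agent.RelPCSch41.Comp

set_option autoImplicit false
universe u
open CategoryTheory CategoryTheory.Limits AlgebraicGeometry
attribute [local instance] HasDerivedCategory.standard
open KSix

namespace Groth.Agent.S6207

/-- Suppose g : Y ⟶ Z is locally of finite type and pseudo-coherent (meaning O_Y, placed in degree 0, is
n-pseudo-coherent relative to g for each integer n). Fix an integer r and an object E of D(O_Y)
whose cohomology is bounded above. Then absolute r-pseudo-coherence of E on Y holds exactly when E
is r-pseudo-coherent relative to g (chart form). -/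
theorem result {Y Z : Scheme.{u}} (g : Y ⟶ Z)
    [LocallyOfFiniteType g] (hg : ∀ n : ℤ, DerSch.IsNPseudoCoherent g n) (r b : ℤ) (E : DCoh.D Y) [E.IsLE b] :
    DCoh.IsPseudoCoherentD r E ↔ DerSch.IsPseudoCoherentRel g r E := by
  constructor
  · intro h
    have := Groth.Agent.RelPCSch41.rel_comp (f := 𝟙 Y) (g := g) (b := b) (c := r - b) (K := E) inferInstance
      (hg _) (by omega) (Groth.Agent.RelPCSch41.rel_id_iff.2 h)
    rwa [Category.id_comp] at this
  · intro h
    rw [← Category.id_comp g] at h
    exact Groth.Agent.RelPCSch41.rel_id_iff.1
      (Groth.Agent.RelPCSch41.rel_of_comp (b := b) inferInstance (hg (r - b)) (by omega) h)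

end Groth.Agent.S6207
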