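import Groth.Statements.S6212
import Groth.Agent.RelPCSch41.LocalCrit

set_option autoImplicit false
universe u
open CategoryTheory CategoryTheory.Limits AlgebraicGeometry
attribute [local instance] HasDerivedCategory.standard
open KSix

namespace Groth.Agent.S6212

/-- Let f : X ⟶ Y be locally of finite type, F a cochain complex of O_X-modules, a and b integers and x
a point of X. The following are equivalent: (i) on some open neighbourhood U of x, F|_U has perfect
amplitude in [a, b] relative to U ⟶ Y (pseudo-coherent relative to the morphism in chart form, and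
of tor amplitude in [a, b] stalkwise over the local rings of Y); (ii) on some open neighbourhood U
of x, F|_U is (a-1)-pseudo-coherent relative to U ⟶ Y and its cohomology sheaves vanish outside [a,
b], and the complex of stalks F_x over the local ring of Y at f x has tor amplitude in [a, b]. -/
theorem result {X Y : Scheme.{u}} (f : X ⟶ Y)
    [LocallyOfFiniteType f] (F : CochainComplex X.Modules ℤ) (a b : ℤ) (x : X) :
    (∃ U : X.Opens, x ∈ U ∧ DerSch.HasPerfAmplitudeRel (U.ι ≫ f) a b ((DCoh.restrictCx U).obj F)) ↔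
      ((∃ U : X.Opens, x ∈ U ∧
          DerSch.IsPseudoCoherentRel (U.ι ≫ f) (a - 1) (DCoh.toD (U : Scheme.{u}) ((DCoh.restrictCx U).obj F)) ∧
          ∀ i : ℤ, i < a ∨ b < i → IsZero (DCoh.HD (DCoh.toD (U : Scheme.{u}) ((DCoh.restrictCx U).obj F)) i)) ∧
        DerSch.HasTorAmplitudeAt f a b F x) := by
  constructor
  · rintro ⟨U, hx, hp⟩
    refine ⟨⟨U, hx, hp.1 _, fun i hi => ?_⟩, (Groth.Agent.RelPCSch41.torAmpAt_restrict_iff U.ι f F ⟨x, hx⟩).1 (hp.2 ⟨x, hx⟩)⟩
    rcases hi with hi | hi
    · exact Groth.Agent.RelPCSch41.isZero_HD_of_hasTorAmplitude hp.2 hi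
    · exact (DerivedCategory.isLE_iff _ _).1 (Groth.Agent.RelPCSch41.isLE_of_hasTorAmplitude hp.2) i hi
  · rintro ⟨⟨U, hx, hpc, hz⟩, ht⟩
    obtain ⟨U', hx', hp⟩ := Groth.Agent.RelPCSch41.exists_perfAmp_nhd (U.ι ≫ f) ((DCoh.restrictCx U).obj F) hpc hz ⟨x, hx⟩
      ((Groth.Agent.RelPCSch41.torAmpAt_restrict_iff U.ι f F ⟨x, hx⟩).2 ht)
    exact Groth.Agent.RelPCSch41.exists_nhd_of_restrict f F U U' hx hx' hp

end Groth.Agent.S6212
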