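import Groth.Statements.S6263
import Mathlib

set_option autoImplicit false
universe u
open scoped TensorProduct
open CAlg

namespace Groth.Agent.S6263

/-- For a ring map R → S and a finite S-module N which is flat as an R-module, generalizations lift
along the map from the support of N (a subset of Spec S) to Spec R: if p ≤ p' are primes of R and q'
is a prime of S in the support of N whose inverse image in R is p', then some prime q ≤ q' of S lies
in the support of N and has inverse image p. -/
theorem result {R S : Type u} [CommRing R] [CommRing S] [Algebra R S] (N : Type u) [AddCommGroup N] [Module S N] [Module R N] [IsScalarTower R S N] [Module.Finite S N] [Module.Flat R N] (p p' : Ideal R) [p.IsPrime] [p'.IsPrime] (hle : p ≤ p') (q' : PrimeSpectrum S) (hq' : q' ∈ Module.support S N) (hover : q'.asIdeal.under R = p') : ∃ q : PrimeSpectrum S, q ≤ q' ∧ q ∈ Module.support S N ∧ q.asIdeal.under R = p := by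
  have hp : p.IsPrime := inferInstance
  let J : Ideal S := Module.annihilator S N ⊔ p.map (algebraMap R S)
  let T : Submonoid S := q'.asIdeal.primeCompl ⊔ Algebra.algebraMapSubmonoid S p.primeCompl
  have hdis : Disjoint (J : Set S) (T : Set S) := by
    rw [Set.disjoint_left]
    intro z hzJ hzT
    obtain ⟨s, hs, _, ⟨r, hr, rfl⟩, rfl⟩ := Submonoid.mem_sup.1 hzT
    obtain ⟨a, ha, b, hb, hab⟩ := Submodule.mem_sup.1 hzJ
    -- `s` maps `N` into `p N`
    have hsN : ∀ n : N, s • n ∈ p • (⊤ : Submodule R N) := by
      intro n
      have h1 : r • (s • n) ∈ p • (⊤ : Submodule R N) := by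
        rw [← IsScalarTower.algebraMap_smul S r, ← mul_smul, mul_comm, ← hab, add_smul,
          Module.mem_annihilator.1 ha, zero_add]
        clear hab
        induction hb using Submodule.span_induction generalizing n with
        | mem y hy =>
          obtain ⟨c, hc, rfl⟩ := hy
          rw [IsScalarTower.algebraMap_smul]
          exact Submodule.smul_mem_smul hc trivial
        | zero => simp
        | add u v _ _ hu hv => rw [add_smul]; exact add_mem (hu n) (hv n)
        | smul c u _ hu => rw [smul_eq_mul, mul_comm, mul_smul]; exact hu (c • n)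
      have hreg : IsSMulRegular (R ⧸ p) r := by
        refine isSMulRegular_iff_right_eq_zero_of_smul.2 fun x hx => ?_
        obtain ⟨x, rfl⟩ := Ideal.Quotient.mk_surjective x
        rw [Algebra.smul_def, Ideal.Quotient.algebraMap_eq, ← map_mul, Ideal.Quotient.eq_zero_iff_mem] at hx
        exact Ideal.Quotient.eq_zero_iff_mem.2 ((hp.mem_or_mem hx).resolve_left hr)
      have hinj : Function.Injective ((LinearMap.lsmul R (R ⧸ p) r).rTensor N) :=
        Module.Flat.rTensor_preserves_injective_linearMap _ hreg
      have h2 : (Ideal.Quotient.mk p 1) ⊗ₜ[R] (s • n) = 0 := by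
        apply hinj
        rw [map_zero, LinearMap.rTensor_tmul, LinearMap.lsmul_apply, TensorProduct.smul_tmul]
        apply (TensorProduct.quotTensorEquivQuotSMul N p).injective
        rw [map_zero, TensorProduct.quotTensorEquivQuotSMul_mk_tmul, one_smul, Submodule.Quotient.mk_eq_zero]
        exact h1
      have h3 := congrArg (TensorProduct.quotTensorEquivQuotSMul N p) h2
      rwa [map_zero, TensorProduct.quotTensorEquivQuotSMul_mk_tmul, one_smul, Submodule.Quotient.mk_eq_zero] at h3
    have hq : q' ∈ Module.support S (N ⧸ (q'.asIdeal • ⊤ : Submodule S N)) := by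
      rw [Module.support_quotient]; exact ⟨hq', fun _ h => h⟩
    refine hs (Module.annihilator_le_of_mem_support hq (Module.mem_annihilator.2 fun x => ?_))
    obtain ⟨n, rfl⟩ := Submodule.Quotient.mk_surjective _ x
    rw [← Submodule.Quotient.mk_smul, Submodule.Quotient.mk_eq_zero]
    refine Submodule.smul_induction_on (hsN n) (fun c hc y _ => ?_) fun _ _ => add_mem
    rw [← IsScalarTower.algebraMap_smul S c]
    exact Submodule.smul_mem_smul (show algebraMap R S c ∈ q'.asIdeal by
      rw [← Ideal.mem_comap]; exact hover.ge (hle hc)) trivial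
  obtain ⟨q, hq, hJq, hqT⟩ := Ideal.exists_le_prime_disjoint J T hdis
  refine ⟨⟨q, hq⟩, fun x hx => ?_, ?_, le_antisymm (fun x hx => ?_) (fun x hx => ?_)⟩
  · by_contra h
    exact Set.disjoint_left.1 hqT hx (Submonoid.mem_sup_left h)
  · rw [Module.mem_support_iff_of_finite]; exact le_sup_left.trans hJq
  · by_contra h
    exact Set.disjoint_left.1 hqT hx (Submonoid.mem_sup_right
      (Algebra.mem_algebraMapSubmonoid_of_mem (M := p.primeCompl) ⟨x, h⟩))
  · exact hJq (le_sup_right (a := Module.annihilator S N) (Ideal.mem_map_of_mem _ hx))

end Groth.Agent.S6263
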