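import Groth.Statements.S6264
import Mathlib

set_option autoImplicit false
universe u
open CAlg

namespace Groth.Agent.S6264

/-- Let R → S be a ring map with the going-up property and p a prime of R such that exactly one prime q
of S lies over p. Then the localization S_p of S at the image of R - p is a localization of S at q,
i.e. S_p = S_q. -/
theorem result {R S : Type u} [CommRing R] [CommRing S] [Algebra R S] [Algebra.HasGoingUp R S] (p : Ideal R) [p.IsPrime] (q : Ideal S) [q.IsPrime] [q.LiesOver p] (huniq : ∀ q' : Ideal S, q'.IsPrime → q'.under R = p → q' = q) : IsLocalization.AtPrime (Localization (Algebra.algebraMapSubmonoid S p.primeCompl)) q := by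
  let M := Algebra.algebraMapSubmonoid S p.primeCompl
  have hM : M ≤ q.primeCompl := by
    rintro _ ⟨r, hr, rfl⟩ h
    exact hr ((Ideal.mem_of_liesOver q p r).2 h)
  refine IsLocalization.of_le (M := M) _ hM fun s hs => ?_
  by_contra hu
  obtain ⟨Q, hQ, hsQ⟩ := exists_max_ideal_of_mem_nonunits hu
  let q'' := Q.comap (algebraMap S (Localization M))
  have hle : q''.under R ≤ p := by
    intro r hr
    by_contra hrp
    exact hQ.ne_top (Ideal.eq_top_of_isUnit_mem _ hr
      (IsLocalization.map_units (Localization M) ⟨algebraMap R S r,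
        Algebra.mem_algebraMapSubmonoid_of_mem (M := p.primeCompl) ⟨r, hrp⟩⟩))
  obtain ⟨q', hq'le, hq'p, hq'o⟩ : ∃ q', q'' ≤ q' ∧ q'.IsPrime ∧ q'.LiesOver p := by
    rcases hle.lt_or_eq with hlt | heq
    · exact Algebra.HasGoingUp.exists_ideal_ge_liesOver_of_lt q'' hlt
    · exact ⟨q'', le_rfl, inferInstance, ⟨heq.symm⟩⟩
  have : q' = q := huniq q' hq'p hq'o.over.symm
  exact hs (this ▸ hq'le hsQ)

end Groth.Agent.S6264
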