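import Groth.Statements.S6265
import Mathlib

set_option autoImplicit false
universe u
open CAlg

namespace Groth.Agent.S6265

/-- Let R → S be a ring map with the going-down property such that over every prime of R lies at most
one prime of S, and let p be a prime of R and q a prime of S above it. Then the localization S_p of
S at the image of R - p is a localization of S at q, i.e. S_p = S_q. -/
theorem result {R S : Type u} [CommRing R] [CommRing S] [Algebra R S] [Algebra.HasGoingDown R S] (hinj : ∀ q₁ q₂ : Ideal S, q₁.IsPrime → q₂.IsPrime → q₁.under R = q₂.under R → q₁ = q₂) (p : Ideal R) [p.IsPrime] (q : Ideal S) [q.IsPrime] [q.LiesOver p] : IsLocalization.AtPrime (Localization (Algebra.algebraMapSubmonoid S p.primeCompl)) q := by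
  let M := Algebra.algebraMapSubmonoid S p.primeCompl
  have hM : M ≤ q.primeCompl := by
    rintro _ ⟨r, hr, rfl⟩ h
    exact hr ((Ideal.mem_of_liesOver q p r).2 h)
  refine IsLocalization.of_le (M := M) _ hM fun s hs => ?_
  by_contra hu
  obtain ⟨Q, hQ, hsQ⟩ := exists_max_ideal_of_mem_nonunits hu
  let q'' := Q.comap (algebraMap S (Localization M))
  have hle : q''.under R ≤ p := by
    intro r hr
    by_contra hrp
    exact hQ.ne_top (Ideal.eq_top_of_isUnit_mem _ hr
      (IsLocalization.map_units (Localization M) ⟨algebraMap R S r,
        Algebra.mem_algebraMapSubmonoid_of_mem (M := p.primeCompl) ⟨r, hrp⟩⟩))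
  obtain ⟨P, hPle, hPp, hPo⟩ :=
    Ideal.exists_ideal_le_liesOver_of_le (p := q''.under R) (q := p) q hle
  have : P = q'' := hinj P q'' hPp inferInstance hPo.over.symm
  exact hs (hPle (this ▸ hsQ))

end Groth.Agent.S6265
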