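import Groth.Statements.S6268
import Mathlib

set_option autoImplicit false
universe u
open CAlg

namespace Groth.Agent.S6268

open scoped TensorProduct
theorem mk_injective {R S : Type u} [CommRing R] [CommRing S] [Algebra R S]
    (hS : CAlgX.UniversallyInjective R (Algebra.linearMap R S)) (M : Type u) [AddCommGroup M]
    [Module R M] : Function.Injective (TensorProduct.mk R S M 1) := by
  intro x y h
  have := hS M (a₁ := (1 : R) ⊗ₜ[R] x) (a₂ := (1 : R) ⊗ₜ[R] y) (by simpa using h)
  simpa using congrArg (TensorProduct.lid R M) this

/-- Suppose the structure map R → S of an R-algebra S is universally injective as an R-linear map. Then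
tensoring with S detects injectivity and surjectivity of R-linear maps (and hence reflects
isomorphisms): for an R-linear g : M → N, if S ⊗ g is injective then so is g, and if S ⊗ g is
surjective then so is g. -/
theorem result {R S : Type u} [CommRing R] [CommRing S] [Algebra R S] (hS : CAlgX.UniversallyInjective R (Algebra.linearMap R S)) {M N : Type u} [AddCommGroup M] [Module R M] [AddCommGroup N] [Module R N] (g : M →ₗ[R] N) : (Function.Injective (g.lTensor S) → Function.Injective g) ∧ (Function.Surjective (g.lTensor S) → Function.Surjective g) := by
  refine ⟨fun h x y hxy => mk_injective hS M (h (by simp [hxy])), fun h => ?_⟩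
  rw [← LinearMap.range_eq_top, ← Submodule.Quotient.subsingleton_iff]
  have hzero : ∀ t : S ⊗[R] (N ⧸ LinearMap.range g), t = 0 := by
    intro t
    obtain ⟨u, rfl⟩ := LinearMap.lTensor_surjective S (LinearMap.range g).mkQ_surjective t
    obtain ⟨v, rfl⟩ := h u
    rw [← LinearMap.comp_apply, ← LinearMap.lTensor_comp,
      (LinearMap.exact_map_mkQ_range g).linearMap_comp_eq_zero]
    simp
  exact ⟨fun a b => mk_injective hS _ (by rw [hzero (TensorProduct.mk R S _ 1 a), hzero (TensorProduct.mk R S _ 1 b)])⟩

end Groth.Agent.S6268
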