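import Groth.Statements.S6270
import Mathlib
import Groth.Agent.CAlgH2.UnivInj
import Groth.Agent.CAlgH2.Lemmas

set_option autoImplicit false
set_option linter.style.haveILetI false
set_option linter.style.longLine false
universe u
open scoped TensorProduct
open CAlg

namespace Groth.Agent.S6270

open scoped TensorProduct
theorem ker_le_smul {R : Type u} [CommRing R] (I : Ideal R) {A M : Type u} [AddCommGroup A]
    [Module R A] [AddCommGroup M] [Module R M] [Module.Flat R M] (g : A →ₗ[R] M)
    (hg : Function.Surjective g) (h : ∀ a, g a = 0 → a ∈ I • (⊤ : Submodule R A)) :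
    LinearMap.ker g ≤ I • LinearMap.ker g := by
  intro a ha
  have hu : CAlgX.UniversallyInjective R (LinearMap.ker g).subtype :=
    CAlgH2.universallyInjective_of_flat_coker (f := (LinearMap.ker g).subtype) (g := g)
      g.exact_subtype_ker_map hg (Submodule.injective_subtype _)
  have h3 := CAlgH2.mem_smul_top_of_universallyInjective hu I (x := ⟨a, ha⟩) (h a ha)
  have h4 := Submodule.mem_map_of_mem (f := (LinearMap.ker g).subtype) h3
  rw [Submodule.map_smul'', Submodule.map_subtype_top] at h4
  exact h4

theorem aux {R : Type u} [CommRing R] (I : Ideal R) {n : ℕ} (hn : I ^ n = 0) {M F : Type u}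
    [AddCommGroup M] [Module R M] [Module.Flat R M] [AddCommGroup F] [Module R F]
    [Module.Projective R F] (hproj : Module.Projective (R ⧸ I) ((R ⧸ I) ⊗[R] M)) (π : F →ₗ[R] M)
    (hπ : Function.Surjective π) : Module.Projective R M := by
  obtain ⟨sb, hsb⟩ := CAlgH2.exists_lift_of_projective_mod I hproj
    (Submodule.mapQ (I • (⊤ : Submodule R F)) (I • (⊤ : Submodule R M)) π (by
      rw [← Submodule.map_le_iff_le_comap, Submodule.map_smul'']
      exact Submodule.smul_mono le_rfl le_top))
    (Submodule.mkQ _)
    (fun z => by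
      obtain ⟨m, rfl⟩ := Submodule.Quotient.mk_surjective _ z
      obtain ⟨x, rfl⟩ := hπ m
      exact ⟨Submodule.Quotient.mk x, rfl⟩)
    (fun c hc a => by
      obtain ⟨x, rfl⟩ := Submodule.Quotient.mk_surjective _ a
      rw [← Submodule.Quotient.mk_smul, Submodule.Quotient.mk_eq_zero]
      exact Submodule.smul_mem_smul hc trivial)
  let t : (M ⧸ I • (⊤ : Submodule R M)) →ₗ[R] F ⧸ I • (⊤ : Submodule R F) :=
    Submodule.liftQ _ sb (Submodule.smul_le.2 fun c hc y _ => by
      rw [LinearMap.mem_ker, map_smul]
      obtain ⟨x, hx⟩ := Submodule.Quotient.mk_surjective _ (sb y)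
      rw [← hx, ← Submodule.Quotient.mk_smul, Submodule.Quotient.mk_eq_zero]
      exact Submodule.smul_mem_smul hc trivial)
  let eb : Module.End R (F ⧸ I • (⊤ : Submodule R F)) :=
    t.comp (Submodule.mapQ _ _ π (by
      rw [← Submodule.map_le_iff_le_comap, Submodule.map_smul'']
      exact Submodule.smul_mono le_rfl le_top))
  have hts : ∀ m, Submodule.mapQ (I • (⊤ : Submodule R F)) (I • (⊤ : Submodule R M)) π (by
      rw [← Submodule.map_le_iff_le_comap, Submodule.map_smul'']
      exact Submodule.smul_mono le_rfl le_top) (t (Submodule.Quotient.mk m)) = Submodule.Quotient.mk m :=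
    fun m => LinearMap.congr_fun hsb m
  have hebmk : ∀ x, eb (Submodule.Quotient.mk x) = t (Submodule.Quotient.mk (π x)) := fun _ => rfl
  have heb : IsIdempotentElem eb := LinearMap.ext fun z => by
    obtain ⟨x, rfl⟩ := Submodule.Quotient.mk_surjective _ z
    rw [Module.End.mul_apply, hebmk]
    exact congrArg t (hts (π x))
  obtain ⟨e₀, he₀⟩ := Module.projective_lifting_property (Submodule.mkQ (I • (⊤ : Submodule R F)))
    (eb.comp (Submodule.mkQ _)) (Submodule.mkQ_surjective _)
  obtain ⟨e, he, hee⟩ := exists_isIdempotentElem_eq_of_ker_isNilpotent (CAlgH2.redEnd I F)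
    (CAlgH2.isNilpotent_of_mem_ker_redEnd I F hn) eb ⟨e₀, LinearMap.ext fun z => by
      obtain ⟨x, rfl⟩ := Submodule.Quotient.mk_surjective _ z
      exact LinearMap.congr_fun he₀ x⟩ heb
  have hmk : ∀ x, (Submodule.Quotient.mk (e x) : F ⧸ I • (⊤ : Submodule R F)) =
      t (Submodule.Quotient.mk (π x)) := fun x => LinearMap.congr_fun hee (Submodule.Quotient.mk x)
  have hidem : ∀ x, e (e x) = e x := fun x => LinearMap.congr_fun he x
  haveI : Module.Projective R (LinearMap.range e) :=
    Module.Projective.of_split (LinearMap.range e).subtype e.rangeRestrict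
      (LinearMap.ext fun ⟨_, x, rfl⟩ => Subtype.ext (hidem x))
  let π' : LinearMap.range e →ₗ[R] M := π.comp (LinearMap.range e).subtype
  have hsurj : Function.Surjective π' := by
    rw [← LinearMap.range_eq_top]
    refine CAlgH2.eq_top_of_nilpotent I M hn _ fun m _ => ?_
    obtain ⟨x, rfl⟩ := hπ m
    refine Submodule.mem_sup.2 ⟨π (e x), ⟨⟨e x, x, rfl⟩, rfl⟩, π x - π (e x), ?_, by abel⟩
    rw [← Submodule.Quotient.eq]
    have := hts (π x)
    rw [← hmk] at this
    exact this.symm
  have hK0 : LinearMap.ker π' = ⊥ := by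
    refine CAlgH2.eq_bot_of_nilpotent I _ hn _ (ker_le_smul I π' hsurj fun a ha => ?_)
    obtain ⟨_, x, rfl⟩ := a
    have h1 : e x ∈ I • (⊤ : Submodule R F) := by
      rw [← Submodule.Quotient.mk_eq_zero, ← hidem, hmk, show π (e x) = 0 from ha]
      exact map_zero t
    have hm := Submodule.mem_map_of_mem (f := e.rangeRestrict) h1
    rw [Submodule.map_smul''] at hm
    have h2 := Submodule.smul_mono le_rfl le_top hm
    rwa [show e.rangeRestrict (e x) = ⟨e x, x, rfl⟩ from Subtype.ext (hidem x)] at h2
  exact Module.Projective.of_equiv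
    (LinearEquiv.ofBijective π' ⟨(LinearMap.ker_eq_bot (f := π')).1 hK0, hsurj⟩)

/-- Let R be a ring, I ⊆ R a nilpotent ideal and M an R-module. If M is flat over R and M/IM (that is,
R/I ⊗ M) is a projective R/I-module, then M is a projective R-module. -/
theorem result {R : Type u} [CommRing R] (I : Ideal R) (hI : IsNilpotent I) (M : Type u) [AddCommGroup M] [Module R M] [Module.Flat R M] (hproj : Module.Projective (R ⧸ I) ((R ⧸ I) ⊗[R] M)) : Module.Projective R M := by
  obtain ⟨n, hn⟩ := hI
  exact aux I hn hproj (Finsupp.linearCombination R (id : M → M))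
    (Finsupp.linearCombination_id_surjective R M)

end Groth.Agent.S6270
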