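import Groth.Statements.S6271
import Mathlib

set_option autoImplicit false
set_option linter.style.haveILetI false
set_option linter.style.longLine false
universe u
open scoped TensorProduct
open CAlg

namespace Groth.Agent.S6271

open scoped TensorProduct

/-- Let R be a ring, I ⊆ R a locally nilpotent ideal (every element of I is nilpotent) and P̄ a finite
projective R/I-module. Then there is a finite projective R-module P such that P/IP (that is, R/I ⊗
P) is isomorphic to P̄ as an R/I-module. -/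
theorem result {R : Type u} [CommRing R] (I : Ideal R) (hI : ∀ x ∈ I, IsNilpotent x) (Pb : Type u) [AddCommGroup Pb] [Module (R ⧸ I) Pb] [Module.Projective (R ⧸ I) Pb] [Module.Finite (R ⧸ I) Pb] : ∃ (P : Type u) (_ : AddCommGroup P) (_ : Module R P), Module.Projective R P ∧ Module.Finite R P ∧ Nonempty (((R ⧸ I) ⊗[R] P) ≃ₗ[R ⧸ I] Pb) := by
  classical
  obtain ⟨n, π, hπ⟩ := Module.Finite.exists_fin' (R ⧸ I) Pb
  obtain ⟨σ, hσ⟩ := Module.projective_lifting_property π LinearMap.id hπ
  have hσ' : ∀ y, π (σ y) = y := fun y => LinearMap.congr_fun hσ y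
  let mk := Ideal.Quotient.mk I
  let F : Matrix (Fin n) (Fin n) R →+* Matrix (Fin n) (Fin n) (R ⧸ I) := mk.mapMatrix
  have hF : ∀ M ∈ RingHom.ker F, IsNilpotent M := by
    intro M hM
    let J : Ideal R := Ideal.span (Set.range fun p : Fin n × Fin n => M p.1 p.2)
    have hJ : ∀ x ∈ J, IsNilpotent x := fun x hx => hI x (Ideal.span_le.2 (by
      rintro _ ⟨p, rfl⟩
      have h0 := congrArg (fun N : Matrix (Fin n) (Fin n) (R ⧸ I) => N p.1 p.2) (RingHom.mem_ker.1 hM)
      exact Ideal.Quotient.eq_zero_iff_mem.1 (show mk (M p.1 p.2) = 0 from h0)) hx)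
    have hJfg : Submodule.FG J := Submodule.fg_span (Set.finite_range _)
    obtain ⟨N, hN⟩ := (Ideal.FG.isNilpotent_iff_le_nilradical hJfg).2 (fun x hx => mem_nilradical.2 (hJ x hx))
    have hpow : ∀ k a b, (M ^ k) a b ∈ J ^ k := by
      intro k
      induction k with
      | zero => intro a b; simp [Ideal.one_eq_top]
      | succ k ih =>
        intro a b
        rw [pow_succ, pow_succ, Matrix.mul_apply]
        exact Submodule.sum_mem _ fun c _ => Ideal.mul_mem_mul (ih a c) (Ideal.subset_span ⟨(c, b), rfl⟩)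
    refine ⟨N, Matrix.ext fun a b => ?_⟩
    have := hpow N a b
    rw [hN] at this
    simpa using this
  let eb : Matrix (Fin n) (Fin n) (R ⧸ I) := LinearMap.toMatrix' (σ ∘ₗ π)
  have heb : IsIdempotentElem eb := by
    show eb * eb = eb
    rw [← LinearMap.toMatrix'_comp, LinearMap.comp_assoc, ← LinearMap.comp_assoc π, hσ, LinearMap.id_comp]
  obtain ⟨e, he, hee⟩ := exists_isIdempotentElem_eq_of_ker_isNilpotent F hF eb
    ⟨eb.map (Function.surjInv Ideal.Quotient.mk_surjective), Matrix.ext fun a b =>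
      Function.surjInv_eq Ideal.Quotient.mk_surjective (eb a b)⟩ heb
  let el : (Fin n → R) →ₗ[R] (Fin n → R) := e.mulVecLin
  let red : (Fin n → R) →ₗ[R] (Fin n → R ⧸ I) := LinearMap.compLeft (Submodule.mkQ I) (Fin n)
  have hred : ∀ v i, red v i = mk (v i) := fun v i => rfl
  have hel : ∀ v, red (el v) = σ (π (red v)) := by
    intro v
    funext i
    have e1 : σ (π (red v)) = eb.mulVec (red v) := by
      show (σ ∘ₗ π) (red v) = _
      rw [← Matrix.toLin'_apply, Matrix.toLin'_toMatrix']
    rw [e1, ← hee, hred]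
    show mk (e.mulVec v i) = ((e.map mk).mulVec (mk ∘ v)) i
    rw [RingHom.map_mulVec]
  have hel2 : ∀ v, el (el v) = el v := fun v => by
    show e.mulVec (e.mulVec v) = e.mulVec v
    rw [Matrix.mulVec_mulVec, he.eq]
  haveI : Module.Finite R (LinearMap.range el) := Module.Finite.range el
  haveI : Module.Projective R (LinearMap.range el) :=
    Module.Projective.of_split (LinearMap.range el).subtype el.rangeRestrict (LinearMap.ext fun p => by
      obtain ⟨v, hv⟩ := p.2
      exact Subtype.ext (by simp [← hv, hel2]))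
  let ψ : LinearMap.range el →ₗ[R] (Fin n → R ⧸ I) := red ∘ₗ (LinearMap.range el).subtype
  letI : Module R Pb := Module.compHom Pb mk
  haveI : IsScalarTower R (R ⧸ I) Pb := IsScalarTower.of_algebraMap_smul fun _ _ => rfl
  let Φ : (R ⧸ I) ⊗[R] LinearMap.range el →ₗ[R ⧸ I] Pb :=
    LinearMap.liftBaseChange (R ⧸ I) ((π.restrictScalars R) ∘ₗ ψ)
  have hΦ : ∀ p, Φ (1 ⊗ₜ p) = π (red p.1) := fun p => by
    simp [Φ, ψ]
  refine ⟨LinearMap.range el, inferInstance, inferInstance, inferInstance, inferInstance,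
    ⟨LinearEquiv.ofBijective Φ ⟨?_, ?_⟩⟩⟩
  · rw [injective_iff_map_eq_zero]
    intro z hz
    have hsurj : Function.Surjective (TensorProduct.mk R (R ⧸ I) (LinearMap.range el) 1) :=
      TensorProduct.mk_surjective _ _ _ Ideal.Quotient.mk_surjective
    obtain ⟨p, rfl⟩ := hsurj z
    rw [TensorProduct.mk_apply] at hz ⊢
    rw [hΦ] at hz
    obtain ⟨v, hv⟩ := p.2
    have hp : el p.1 = p.1 := by rw [← hv, hel2]
    have h0 : red p.1 = 0 := by rw [← hp, hel, hz, map_zero]
    have hpI : ∀ i, p.1 i ∈ I := fun i => Ideal.Quotient.eq_zero_iff_mem.1 (congrFun h0 i)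
    have hpe : p = ∑ i, p.1 i • el.rangeRestrict (Pi.single i 1) := by
      refine Subtype.ext ?_
      conv_lhs => rw [← hp, pi_eq_sum_univ' p.1, map_sum]
      simp [map_smul]
    rw [hpe, TensorProduct.tmul_sum]
    refine Finset.sum_eq_zero fun i _ => ?_
    rw [TensorProduct.tmul_smul, TensorProduct.smul_tmul', Algebra.smul_def, mul_one,
      Ideal.Quotient.algebraMap_eq, Ideal.Quotient.eq_zero_iff_mem.2 (hpI i), TensorProduct.zero_tmul]
  · intro y
    obtain ⟨v, hv⟩ : ∃ v, red v = σ y := ⟨fun i => Function.surjInv Ideal.Quotient.mk_surjective (σ y i),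
      funext fun i => Function.surjInv_eq Ideal.Quotient.mk_surjective _⟩
    refine ⟨1 ⊗ₜ el.rangeRestrict v, ?_⟩
    rw [hΦ, show (el.rangeRestrict v).1 = el v from rfl, hel, hσ', hv, hσ']

end Groth.Agent.S6271
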