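import Groth.Statements.S6272
import Mathlib

set_option autoImplicit false
set_option linter.style.haveILetI false
set_option linter.style.longLine false
universe u
open scoped TensorProduct
open CAlg

namespace Groth.Agent.S6272

/-- Over a ring R, take two ideals I and J meeting in zero (I ∩ J = 0) and an R-module P. If the
R/I-module P/IP (that is, R/I ⊗ P) and the R/J-module P/JP (that is, R/J ⊗ P) are both projective,
then P itself is projective over R. -/
theorem result {R : Type u} [CommRing R] (I J : Ideal R) (hIJ : I ⊓ J = ⊥) (P : Type u) [AddCommGroup P] [Module R P] (hI : Module.Projective (R ⧸ I) ((R ⧸ I) ⊗[R] P)) (hJ : Module.Projective (R ⧸ J) ((R ⧸ J) ⊗[R] P)) : Module.Projective R P := by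
  classical
  let F := P →₀ R
  let π : F →ₗ[R] P := Finsupp.linearCombination R id
  have hπ : Function.Surjective π := Finsupp.linearCombination_id_surjective R P
  have hcomap : ∀ K : Ideal R, K • (⊤ : Submodule R F) ≤ (K • (⊤ : Submodule R P)).comap π := fun K => by
    rw [← Submodule.map_le_iff_le_comap, Submodule.map_smul'']
    exact Submodule.smul_mono le_rfl le_top
  have hlift : ∀ K : Ideal R, Module.Projective (R ⧸ K) (TensorProduct R (R ⧸ K) P) →
      ∀ (A B : Type u) [AddCommGroup A] [Module R A] [AddCommGroup B] [Module R B]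
        (g : A →ₗ[R] B) (φ : P →ₗ[R] B), Function.Surjective g →
        (∀ c ∈ K, ∀ a : A, c • a = 0) → ∃ h : P →ₗ[R] A, g ∘ₗ h = φ := by
    intro K hK A B _ _ _ _ g φ hg hkill
    letI : Module (R ⧸ K) A := (show Module.IsTorsionBySet R A (K : Set R) from fun a c => hkill c c.2 a).module
    have hkillB : Module.IsTorsionBySet R B (K : Set R) := fun b c => by
      obtain ⟨a, rfl⟩ := hg b
      rw [← map_smul, hkill c c.2 a, map_zero]
    letI : Module (R ⧸ K) B := hkillB.module
    haveI : IsScalarTower R (R ⧸ K) A := Module.IsTorsionBySet.isScalarTower (fun a c => hkill c c.2 a)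
    haveI : IsScalarTower R (R ⧸ K) B := Module.IsTorsionBySet.isScalarTower hkillB
    have hsur : Function.Surjective (algebraMap R (R ⧸ K)) := Ideal.Quotient.mk_surjective
    obtain ⟨h, hh⟩ := Module.projective_lifting_property (g.extendScalarsOfSurjective hsur)
      (LinearMap.liftBaseChange (R ⧸ K) φ) hg
    refine ⟨(h.restrictScalars R).comp (TensorProduct.mk R (R ⧸ K) P 1), LinearMap.ext fun p => ?_⟩
    have := LinearMap.congr_fun hh (1 ⊗ₜ p)
    simpa using this
  have hmkill : ∀ K : Ideal R, ∀ c ∈ K, ∀ a : F ⧸ K • (⊤ : Submodule R F), c • a = 0 := fun K c hc a => by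
    obtain ⟨x, rfl⟩ := Submodule.Quotient.mk_surjective _ a
    rw [← Submodule.Quotient.mk_smul, Submodule.Quotient.mk_eq_zero]
    exact Submodule.smul_mem_smul hc trivial
  have hmapsurj : ∀ K : Ideal R, Function.Surjective (Submodule.mapQ _ _ π (hcomap K)) := fun K z => by
    obtain ⟨p, rfl⟩ := Submodule.Quotient.mk_surjective _ z
    obtain ⟨x, rfl⟩ := hπ p
    exact ⟨Submodule.Quotient.mk x, rfl⟩
  obtain ⟨sJ, hsJ⟩ := hlift J hJ _ _ (Submodule.mapQ _ _ π (hcomap J)) (Submodule.mkQ _) (hmapsurj J) (hmkill J)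
  -- the section modulo `I` must agree with `sJ` modulo `I + J`
  let S := (I ⊔ J) • (⊤ : Submodule R F)
  let rI : (F ⧸ I • (⊤ : Submodule R F)) →ₗ[R] F ⧸ S :=
    Submodule.mapQ _ _ LinearMap.id (Submodule.smul_mono le_sup_left le_rfl)
  let rJ : (F ⧸ J • (⊤ : Submodule R F)) →ₗ[R] F ⧸ S :=
    Submodule.mapQ _ _ LinearMap.id (Submodule.smul_mono le_sup_right le_rfl)
  -- fibre product of the two targets
  let W : Submodule R ((F ⧸ S) × (P ⧸ I • (⊤ : Submodule R P))) :=
    LinearMap.range (rI.prod (Submodule.mapQ _ _ π (hcomap I)))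
  have hW : ∀ p : P, (rJ (sJ p), Submodule.Quotient.mk p) ∈ W := by
    intro p
    obtain ⟨y, hy⟩ := Submodule.Quotient.mk_surjective _ (sJ p)
    have h1 : π y - p ∈ J • (⊤ : Submodule R P) := by
      rw [← Submodule.Quotient.eq]
      have := LinearMap.congr_fun hsJ p
      simp only [LinearMap.comp_apply, ← hy, Submodule.mkQ_apply] at this
      exact this
    rw [← Submodule.range_subtype (J • (⊤ : Submodule R P))] at h1
    obtain ⟨d, hd⟩ : π y - p ∈ (J • (⊤ : Submodule R F)).map π := by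
      rw [Submodule.map_smul'', Submodule.map_top, LinearMap.range_eq_top.2 hπ]
      rwa [Submodule.range_subtype] at h1
    refine ⟨Submodule.Quotient.mk (y - d), Prod.ext ?_ ?_⟩
    · rw [← hy]
      show (Submodule.Quotient.mk (y - d) : F ⧸ S) = Submodule.Quotient.mk y
      rw [Submodule.Quotient.eq]
      simpa using Submodule.neg_mem _ (Submodule.smul_mono (le_sup_right (a := I)) le_rfl hd.1)
    · show (Submodule.Quotient.mk (π (y - d)) : P ⧸ I • (⊤ : Submodule R P)) = Submodule.Quotient.mk p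
      rw [map_sub, hd.2, sub_sub_cancel]
  obtain ⟨sI, hsI⟩ := hlift I hI _ _ (rI.prod (Submodule.mapQ _ _ π (hcomap I))).rangeRestrict
    (LinearMap.codRestrict W ((rJ ∘ₗ sJ).prod (Submodule.mkQ _)) hW) (LinearMap.surjective_rangeRestrict _) (hmkill I)
  have hI' : ∀ p, rI (sI p) = rJ (sJ p) ∧ Submodule.mapQ _ _ π (hcomap I) (sI p) = Submodule.Quotient.mk p := fun p =>
    Prod.ext_iff.1 (congrArg Subtype.val (LinearMap.congr_fun hsI p))
  -- glue
  let Δ : F →ₗ[R] (F ⧸ I • (⊤ : Submodule R F)) × (F ⧸ J • (⊤ : Submodule R F)) := (Submodule.mkQ _).prod (Submodule.mkQ _)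
  have hinf : (I • (⊤ : Submodule R F)) ⊓ (J • ⊤) = ⊥ := by
    rw [eq_bot_iff]
    intro z ⟨h1, h2⟩
    have hc : ∀ (K : Ideal R) (w : F), w ∈ K • (⊤ : Submodule R F) → ∀ i, w i ∈ K := fun K w hw i => by
      refine Submodule.smul_induction_on hw (fun c hc v _ => ?_) fun a b ha hb => ?_
      · exact K.mul_mem_right _ hc
      · exact add_mem ha hb
    refine Finsupp.ext fun i => ?_
    have : z i ∈ I ⊓ J := ⟨hc I z h1 i, hc J z h2 i⟩
    simpa [hIJ] using this
  have hmem : ∀ p, (sI p, sJ p) ∈ LinearMap.range Δ := by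
    intro p
    obtain ⟨a, ha⟩ := Submodule.Quotient.mk_surjective _ (sI p)
    obtain ⟨b, hb⟩ := Submodule.Quotient.mk_surjective _ (sJ p)
    have h1 := (hI' p).1
    rw [← ha, ← hb] at h1
    have h2 : a - b ∈ S := (Submodule.Quotient.eq S).1 h1
    rw [show S = I • (⊤ : Submodule R F) ⊔ J • ⊤ from Submodule.sup_smul I J ⊤, Submodule.mem_sup] at h2
    obtain ⟨u, hu, v, hv, huv⟩ := h2
    refine ⟨a - u, Prod.ext ?_ ?_⟩
    · rw [← ha]; exact (Submodule.Quotient.eq _).2 (by simpa using Submodule.neg_mem _ hu)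
    · rw [← hb]; exact (Submodule.Quotient.eq _).2 (by
        rw [show a - u - b = v by rw [sub_right_comm, ← huv]; abel]; exact hv)
  have hΔ : Function.Injective Δ := by
    rw [← LinearMap.ker_eq_bot, LinearMap.ker_prod, Submodule.ker_mkQ, Submodule.ker_mkQ, hinf]
  let eΔ := LinearEquiv.ofInjective Δ hΔ
  let s : P →ₗ[R] F := eΔ.symm.toLinearMap ∘ₗ LinearMap.codRestrict _ (sI.prod sJ) hmem
  have hs : ∀ p, Δ (s p) = (sI p, sJ p) := fun p =>
    congrArg Subtype.val (eΔ.apply_symm_apply ⟨_, hmem p⟩)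
  let δ : P →ₗ[R] P := π ∘ₗ s - LinearMap.id
  have hδI : ∀ p, δ p ∈ I • (⊤ : Submodule R P) := fun p => by
    have := (hI' p).2
    have e : Submodule.Quotient.mk (s p) = sI p := (Prod.ext_iff.1 (hs p)).1
    rw [← e] at this
    exact (Submodule.Quotient.eq _).1 this
  have hδJ : ∀ p, δ p ∈ J • (⊤ : Submodule R P) := fun p => by
    have := LinearMap.congr_fun hsJ p
    have e : Submodule.Quotient.mk (s p) = sJ p := (Prod.ext_iff.1 (hs p)).2
    rw [LinearMap.comp_apply, ← e] at this
    exact (Submodule.Quotient.eq _).1 this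
  have hδ0 : ∀ p, δ (δ p) = 0 := fun p => by
    refine Submodule.smul_induction_on (hδI p) (fun c hc v _ => ?_) fun a b ha hb => by rw [map_add, ha, hb, add_zero]
    rw [map_smul]
    refine Submodule.smul_induction_on (hδJ v) (fun d hd w _ => ?_) fun a b ha hb => by rw [smul_add, ha, hb, add_zero]
    have : c * d ∈ I ⊓ J := ⟨I.mul_mem_right _ hc, J.mul_mem_left _ hd⟩
    rw [hIJ, Ideal.mem_bot] at this
    rw [← mul_smul, this, zero_smul]
  refine Module.Projective.of_split (s ∘ₗ (LinearMap.id - δ)) π (LinearMap.ext fun p => ?_)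
  have hπs : ∀ q, π (s q) = q + δ q := fun q => (add_sub_cancel q (π (s q))).symm
  show π (s (p - δ p)) = p
  rw [hπs, map_sub, hδ0]
  abel

end Groth.Agent.S6272
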