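import Groth.Statements.S6273
import Mathlib

set_option autoImplicit false
universe u
open CAlg

namespace Groth.Agent.S6273

/-- Let R be a ring, S ⊆ R a multiplicative subset and A = S⁻¹R. If the image of Spec(A) → Spec(R) is
closed, then the localization map R → A is surjective; in particular A is isomorphic to R/I for the
ideal I = ker(R → A). -/
theorem result {R : Type u} [CommRing R] (S : Submonoid R) (A : Type u) [CommRing A] [Algebra R A] [IsLocalization S A] (hcl : IsClosed (Set.range (PrimeSpectrum.comap (algebraMap R A)))) : Function.Surjective (algebraMap R A) := by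
  intro z
  obtain ⟨a, s, rfl⟩ := IsLocalization.exists_mk'_eq S z
  set I := RingHom.ker (algebraMap R A)
  have hV : PrimeSpectrum.zeroLocus (I : Set R) = Set.range (PrimeSpectrum.comap (algebraMap R A)) := by
    rw [← hcl.closure_eq, ← PrimeSpectrum.closure_range_comap]
  have htop : I ⊔ Ideal.span {(s : R)} = ⊤ := by
    by_contra hne
    obtain ⟨m, hm, hle⟩ := Ideal.exists_le_maximal _ hne
    have : (⟨m, hm.isPrime⟩ : PrimeSpectrum R) ∈ PrimeSpectrum.zeroLocus (I : Set R) :=
      fun x hx => hle (le_sup_left (b := Ideal.span {(s : R)}) hx)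
    rw [hV] at this
    obtain ⟨q, hq⟩ := this
    have hs : (s : R) ∈ m := hle (le_sup_right (a := I) (Ideal.mem_span_singleton_self _))
    have : algebraMap R A s ∈ q.asIdeal := by
      have := congrArg PrimeSpectrum.asIdeal hq
      rw [PrimeSpectrum.comap_asIdeal] at this
      exact Ideal.mem_comap.1 (this.symm ▸ hs)
    exact q.isPrime.ne_top (Ideal.eq_top_of_isUnit_mem _ this (IsLocalization.map_units A s))
  obtain ⟨i, hi, j, hj, hij⟩ := Submodule.mem_sup.1 (htop ▸ trivial : (1 : R) ∈ I ⊔ Ideal.span {(s : R)})
  obtain ⟨t, rfl⟩ := Ideal.mem_span_singleton'.1 hj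
  refine ⟨a * t, (IsLocalization.eq_mk'_iff_mul_eq).2 ?_⟩
  rw [← map_mul]
  have : a * t * s = a - a * i := by linear_combination a * hij
  rw [this, map_sub, map_mul _ a i, RingHom.mem_ker.1 hi, mul_zero, sub_zero]

end Groth.Agent.S6273
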