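import Groth.Statements.S6274
import Mathlib

set_option autoImplicit false
set_option linter.style.haveILetI false
set_option linter.style.longLine false
universe u
open CAlg

namespace Groth.Agent.S6274

/-- Let R be a ring, S ⊆ R a multiplicative subset and A = S⁻¹R, and assume the image of Spec(A) →
Spec(R) is closed. If Spec(R) is a Noetherian topological space (which holds when R is Noetherian)
or S is finitely generated as a monoid, then R is isomorphic to A × R' for some ring R', by an
isomorphism whose first component is the localization map R → A. -/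
theorem result {R : Type u} [CommRing R] (S : Submonoid R) (A : Type u) [CommRing A] [Algebra R A] [IsLocalization S A] (hcl : IsClosed (Set.range (PrimeSpectrum.comap (algebraMap R A)))) (h : TopologicalSpace.NoetherianSpace (PrimeSpectrum R) ∨ S.FG) : ∃ (R' : Type u) (_ : CommRing R') (e : R ≃+* A × R'), ∀ x : R, (e x).1 = algebraMap R A x := by
--- body
  classical
  set C := Set.range (PrimeSpectrum.comap (algebraMap R A))
  have hC : ∀ p : PrimeSpectrum R, p ∈ C ↔ Disjoint (S : Set R) p.asIdeal := by
    intro p
    rw [show C = _ from PrimeSpectrum.localization_comap_range A S]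
    rfl
  have hopen : IsOpen C := by
    rcases h with h | h
    · have hfin : (minimalPrimes R).Finite := by
        haveI := h
        haveI := (TopologicalSpace.NoetherianSpace.finite_irreducibleComponents (α := PrimeSpectrum R)).to_subtype
        exact Set.finite_coe_iff.1 (Finite.of_injective
          (fun m => OrderDual.ofDual (minimalPrimes.equivIrreducibleComponents R m))
          (OrderDual.ofDual.injective.comp (minimalPrimes.equivIrreducibleComponents R).injective))
      have : Cᶜ = ⋃ m ∈ {m ∈ minimalPrimes R | ¬ Disjoint (S : Set R) m}, PrimeSpectrum.zeroLocus (m : Set R) := by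
        ext p
        simp only [Set.mem_compl_iff, hC, Set.mem_iUnion, PrimeSpectrum.mem_zeroLocus, SetLike.coe_subset_coe,
          Set.mem_setOf_eq, exists_prop]
        constructor
        · intro hp
          obtain ⟨m, hm, hmp⟩ := Ideal.exists_minimalPrimes_le (I := (⊥ : Ideal R)) (J := p.asIdeal) bot_le
          refine ⟨m, ⟨hm, fun hd => hp ?_⟩, hmp⟩
          have hmem : (⟨m, hm.1.1⟩ : PrimeSpectrum R) ∈ C := (hC _).2 hd
          have : p ∈ C := hcl.stableUnderSpecialization ((PrimeSpectrum.le_iff_specializes ⟨m, hm.1.1⟩ p).1 hmp) hmem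
          exact (hC p).1 this
        · rintro ⟨m, ⟨_, hd⟩, hmp⟩ hp
          exact hd (hp.mono_right hmp)
      rw [← isClosed_compl_iff, this]
      exact (hfin.subset (Set.sep_subset _ _)).isClosed_biUnion fun m _ => PrimeSpectrum.isClosed_zeroLocus _
    · obtain ⟨T, hT⟩ := h
      have : C = PrimeSpectrum.basicOpen (∏ t ∈ T, t) := by
        ext p
        rw [hC, SetLike.mem_coe, PrimeSpectrum.mem_basicOpen]
        constructor
        · intro hd hmem
          obtain ⟨t, ht, htp⟩ := p.isPrime.prod_mem_iff.1 hmem
          exact Set.disjoint_left.1 hd (hT ▸ Submonoid.subset_closure ht) htp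
        · intro hp
          rw [Set.disjoint_left]
          intro s hs
          rw [SetLike.mem_coe, ← hT] at hs
          induction hs using Submonoid.closure_induction with
          | mem t ht => exact fun htp => hp (p.isPrime.prod_mem_iff.2 ⟨t, ht, htp⟩)
          | one => exact p.asIdeal.primeCompl.one_mem
          | mul a b _ _ ha hb => exact fun hab => (p.isPrime.mem_or_mem hab).elim ha hb
      rw [this]
      exact (PrimeSpectrum.basicOpen _).isOpen
  obtain ⟨e, he, hCe⟩ := PrimeSpectrum.isClopen_iff.1 ⟨hcl, hopen⟩
  have he' : e * e = e := he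
  have h1 : algebraMap R A e = 1 := by
    refine (IsIdempotentElem.iff_eq_one_of_isUnit ?_).1 (he.map _)
    by_contra hu
    obtain ⟨M, hM, hMe⟩ := exists_max_ideal_of_mem_nonunits hu
    have : PrimeSpectrum.comap (algebraMap R A) ⟨M, hM.isPrime⟩ ∈ C := ⟨_, rfl⟩
    rw [hCe] at this
    exact this hMe
  have hinv : ∀ s ∈ S, ∃ u, s * u * e = e := by
    intro s hs
    have htop : Ideal.span {s} ⊔ Ideal.span {1 - e} = (⊤ : Ideal R) := by
      by_contra hne
      obtain ⟨M, hM, hle⟩ := Ideal.exists_le_maximal _ hne
      have hsM : s ∈ M := hle (Ideal.mem_sup_left (Ideal.mem_span_singleton_self s))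
      have heM : 1 - e ∈ M := hle (Ideal.mem_sup_right (Ideal.mem_span_singleton_self _))
      have : (⟨M, hM.isPrime⟩ : PrimeSpectrum R) ∈ C := by
        rw [hCe]
        intro heM'
        exact hM.ne_top ((Ideal.eq_top_iff_one _).2 (by simpa using M.add_mem heM heM'))
      exact Set.disjoint_left.1 ((hC _).1 this) hs hsM
    obtain ⟨a, ha, b, hb, hab⟩ := Submodule.mem_sup.1 ((Ideal.eq_top_iff_one _).1 htop)
    obtain ⟨u, rfl⟩ := Ideal.mem_span_singleton'.1 ha
    obtain ⟨t, rfl⟩ := Ideal.mem_span_singleton'.1 hb
    exact ⟨u, by linear_combination e * hab + t * he'⟩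
  let Φ : R →+* A × (R ⧸ Ideal.span {e}) := (algebraMap R A).prod (Ideal.Quotient.mk _)
  have hΦ : Function.Bijective Φ := by
    constructor
    · rw [injective_iff_map_eq_zero]
      intro x hx
      obtain ⟨s, hs⟩ := (IsLocalization.map_eq_zero_iff S A x).1 (congrArg Prod.fst hx)
      obtain ⟨u, hu⟩ := hinv s s.2
      obtain ⟨c, rfl⟩ := Ideal.mem_span_singleton'.1 (Ideal.Quotient.eq_zero_iff_mem.1 (congrArg Prod.snd hx))
      linear_combination (u * e) * hs - (c * e) * hu - c * he'
    · rintro ⟨a, b⟩
      obtain ⟨⟨x, s⟩, hxs⟩ := IsLocalization.surj S a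
      obtain ⟨u, hu⟩ := hinv s s.2
      obtain ⟨y, rfl⟩ := Ideal.Quotient.mk_surjective b
      refine ⟨x * u * e + y * (1 - e), Prod.ext ?_ ?_⟩
      · show algebraMap R A _ = a
        rw [map_add, map_mul, map_mul, map_mul, map_sub, map_one, h1, sub_self, mul_zero, add_zero, mul_one]
        apply (IsLocalization.map_units A s).mul_left_inj.1
        have := congrArg (algebraMap R A) hu
        rw [map_mul, map_mul, h1, mul_one] at this
        simp only at hxs
        linear_combination (algebraMap R A x) * this - hxs
      · show Ideal.Quotient.mk _ _ = _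
        rw [Ideal.Quotient.eq]
        exact Ideal.mem_span_singleton'.2 ⟨x * u - y, by ring⟩
  exact ⟨R ⧸ Ideal.span {e}, inferInstance, RingEquiv.ofBijective Φ hΦ, fun _ => rfl⟩

end Groth.Agent.S6274
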