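import Groth.Statements.S6275
import Mathlib

set_option autoImplicit false
universe u
open CAlg

namespace Groth.Agent.S6275

/-- Let R be a Noetherian ring and p ⊆ R a prime. Then there is f ∈ R, f ∉ p, such that R_f → R_p is
injective; equivalently every x ∈ R mapping to zero in R_p maps to zero in R_f. (The cases of a
domain and of a reduced ring with finitely many minimal primes are not included here.) -/
theorem result {R : Type u} [CommRing R] [IsNoetherianRing R] (p : Ideal R) [p.IsPrime] : ∃ f : R, f ∉ p ∧ ∀ x : R, algebraMap R (Localization.AtPrime p) x = 0 → algebraMap R (Localization.Away f) x = 0 := by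
  obtain ⟨s, hs⟩ := (IsNoetherian.noetherian
    (RingHom.ker (algebraMap R (Localization.AtPrime p))) : Submodule.FG _)
  classical
  have : ∀ x ∈ s, ∃ f : R, f ∉ p ∧ f * x = 0 := fun x hx => by
    have hx0 : algebraMap R (Localization.AtPrime p) x = 0 := by
      rw [← RingHom.mem_ker, ← hs]; exact Submodule.subset_span hx
    obtain ⟨⟨c, hc⟩, h⟩ := (IsLocalization.map_eq_zero_iff p.primeCompl _ x).1 hx0
    exact ⟨c, hc, h⟩
  choose f hf hfx using this
  refine ⟨∏ x ∈ s.attach, f x.1 x.2, fun h => ?_, fun x hx => ?_⟩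
  · obtain ⟨x, _, hx⟩ := Ideal.IsPrime.prod_mem_iff.1 h
    exact hf _ _ hx
  · refine (IsLocalization.map_eq_zero_iff (Submonoid.powers (∏ x ∈ s.attach, f x.1 x.2)) _ x).2
      ⟨⟨_, Submonoid.mem_powers _⟩, ?_⟩
    rw [← RingHom.mem_ker, ← hs] at hx
    show (∏ x ∈ s.attach, f x.1 x.2) * x = 0
    induction hx using Submodule.span_induction with
    | mem y hy =>
      obtain ⟨c, hc⟩ := Finset.dvd_prod_of_mem (fun x : {x // x ∈ s} => f x.1 x.2) (Finset.mem_attach s ⟨y, hy⟩)
      rw [hc, mul_comm (f y hy) c, mul_assoc, hfx y hy, mul_zero]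
    | zero => simp
    | add a b _ _ ha hb => rw [mul_add, ha, hb, add_zero]
    | smul a b _ hb => rw [smul_eq_mul, mul_left_comm, hb, mul_zero]

end Groth.Agent.S6275
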