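import Groth.Statements.S6281
import Mathlib

set_option autoImplicit false
universe u
open scoped TensorProduct
open CAlg

namespace Groth.Agent.S6281

/-- For an R-algebra S and an S-module M, flatness of S over R follows once M is both flat over R and
faithfully flat over S. -/
theorem result {R S : Type u} [CommRing R] [CommRing S] [Algebra R S] (M : Type u) [AddCommGroup M] [Module S M] [Module R M] [IsScalarTower R S M] [Module.Flat R M] [Module.FaithfullyFlat S M] : Module.Flat R S := by
  refine Module.Flat.iff_lTensor_preserves_injective_linearMap.2 fun N N' _ _ _ _ φ hφ => ?_
  have key : Function.Injective ((TensorProduct.AlgebraTensorModule.lTensor S S φ).lTensor M) := by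
    intro x y h
    apply (TensorProduct.AlgebraTensorModule.cancelBaseChange R S S M N).injective
    apply Module.Flat.lTensor_preserves_injective_linearMap (M := M) φ hφ
    have hc : ∀ z, φ.lTensor M (TensorProduct.AlgebraTensorModule.cancelBaseChange R S S M N z) =
        TensorProduct.AlgebraTensorModule.cancelBaseChange R S S M N'
          ((TensorProduct.AlgebraTensorModule.lTensor S S φ).lTensor M z) := by
      intro z
      induction z with
      | zero => simp
      | add a b ha hb => simp [ha, hb]
      | tmul m t =>
        induction t with
        | zero => simp
        | add a b ha hb => simp [TensorProduct.tmul_add, ha, hb]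
        | tmul s n => simp
    rw [hc, hc, h]
  exact (Module.FaithfullyFlat.lTensor_injective_iff_injective S M _).1 key

end Groth.Agent.S6281
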