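import Groth.Statements.S6282
import Mathlib

set_option autoImplicit false
set_option linter.style.haveILetI false
set_option linter.style.longLine false
universe u
open scoped TensorProduct
open CAlg

namespace Groth.Agent.S6282

open scoped TensorProduct
theorem assoc_compat {R S S' : Type u} [CommRing R] [CommRing S] [CommRing S'] [Algebra R S]
    [Algebra R S'] [Algebra S S'] [IsScalarTower R S S'] (M : Type u) [AddCommGroup M] [Module S M]
    [Module R M] [IsScalarTower R S M] {P P' : Type u} [AddCommGroup P] [Module R P] [AddCommGroup P']
    [Module R P'] (ψ : P →ₗ[R] P') (z : (S' ⊗[S] M) ⊗[R] P) :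
    TensorProduct.AlgebraTensorModule.assoc R S S S' M P' (ψ.lTensor (S' ⊗[S] M) z) =
      (TensorProduct.AlgebraTensorModule.lTensor S M ψ).lTensor S'
        (TensorProduct.AlgebraTensorModule.assoc R S S S' M P z) := by
  induction z with
  | zero => simp
  | add a b ha hb => simp [ha, hb]
  | tmul t p =>
    induction t with
    | zero => simp
    | add a b ha hb =>
      simp only [LinearMap.lTensor_tmul] at ha hb ⊢
      simp [TensorProduct.add_tmul, ha, hb]
    | tmul s m => simp

/-- Let S → S' be a homomorphism of R-algebras, M an S-module, and M' = S' ⊗_S M with its induced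
R-module structure. (1) When S' is flat over S, R-flatness of M passes to M'. (2) When S' is
faithfully flat over S, M is R-flat exactly when M' is. -/
theorem result {R S S' : Type u} [CommRing R] [CommRing S] [CommRing S'] [Algebra R S] [Algebra R S'] [Algebra S S'] [IsScalarTower R S S'] (M : Type u) [AddCommGroup M] [Module S M] [Module R M] [IsScalarTower R S M] : ([Module.Flat S S'] → Module.Flat R M → Module.Flat R (S' ⊗[S] M)) ∧ ([Module.FaithfullyFlat S S'] → (Module.Flat R M ↔ Module.Flat R (S' ⊗[S] M))) := by
  have h1 : Module.Flat S S' → Module.Flat R M → Module.Flat R (S' ⊗[S] M) := fun _ _ => by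
    refine Module.Flat.iff_lTensor_preserves_injective_linearMap.2 fun P P' _ _ _ _ ψ hψ a b h => ?_
    apply (TensorProduct.AlgebraTensorModule.assoc R S S S' M P).injective
    have hi : Function.Injective (TensorProduct.AlgebraTensorModule.lTensor S M ψ) :=
      Module.Flat.lTensor_preserves_injective_linearMap (M := M) ψ hψ
    apply Module.Flat.lTensor_preserves_injective_linearMap (M := S') _ hi
    rw [← assoc_compat, ← assoc_compat, h]
  refine ⟨fun {_} h => h1 inferInstance h, fun {_} => ⟨fun h => h1 inferInstance h, fun h => ?_⟩⟩
  refine Module.Flat.iff_lTensor_preserves_injective_linearMap.2 fun P P' _ _ _ _ ψ hψ => ?_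
  suffices Function.Injective ((TensorProduct.AlgebraTensorModule.lTensor S M ψ).lTensor S') from
    (Module.FaithfullyFlat.lTensor_injective_iff_injective S S' _).1 this
  intro a b hab
  obtain ⟨a, rfl⟩ := (TensorProduct.AlgebraTensorModule.assoc R S S S' M P).surjective a
  obtain ⟨b, rfl⟩ := (TensorProduct.AlgebraTensorModule.assoc R S S S' M P).surjective b
  rw [← assoc_compat, ← assoc_compat] at hab
  exact congrArg _ (Module.Flat.lTensor_preserves_injective_linearMap (M := S' ⊗[S] M) ψ hψ
    ((TensorProduct.AlgebraTensorModule.assoc R S S S' M P').injective hab))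

end Groth.Agent.S6282
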