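import Groth.Statements.S6286
import Mathlib

set_option autoImplicit false
set_option linter.style.haveILetI false
set_option linter.style.longLine false
universe u
open scoped TensorProduct
open CAlg

namespace Groth.Agent.S6286

open scoped TensorProduct

/-- Let k be a field, R and S k-algebras, S' ⊆ S a k-subalgebra and f ∈ R ⊗ₖ S', with image f again in R
⊗ₖ S. Then the images in Spec(R) of Spec((R ⊗ₖ S)_f) and of Spec((R ⊗ₖ S')_f) coincide: a prime p of
R is the contraction of a prime of R ⊗ₖ S not containing f if and only if it is the contraction of a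
prime of R ⊗ₖ S' not containing f. -/
theorem result (k : Type u) [Field k] (R S : Type u) [CommRing R] [Algebra k R] [CommRing S] [Algebra k S] (S' : Subalgebra k S) (f : R ⊗[k] S') (p : PrimeSpectrum R) : (∃ q : PrimeSpectrum (R ⊗[k] S), Algebra.TensorProduct.map (AlgHom.id k R) S'.val f ∉ q.asIdeal ∧ q.asIdeal.comap (algebraMap R (R ⊗[k] S)) = p.asIdeal) ↔ (∃ q' : PrimeSpectrum (R ⊗[k] S'), f ∉ q'.asIdeal ∧ q'.asIdeal.comap (algebraMap R (R ⊗[k] S')) = p.asIdeal) := by
  let ι := Algebra.TensorProduct.map (AlgHom.id k R) S'.val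
  constructor
  · rintro ⟨q, hq, hqp⟩
    refine ⟨⟨q.asIdeal.comap ι.toRingHom, inferInstance⟩, hq, ?_⟩
    rw [← hqp, Ideal.comap_comap]
    rfl
  · rintro ⟨q', hf, hq'⟩
    let κ := p.asIdeal.ResidueField
    let L := q'.asIdeal.ResidueField
    let φ : R ⊗[k] S' →ₐ[k] L := IsScalarTower.toAlgHom k (R ⊗[k] S') L
    let φR : R →ₐ[k] L := φ.comp Algebra.TensorProduct.includeLeft
    have hker : ∀ r ∈ p.asIdeal, φR r = 0 := by
      intro r hr
      rw [← hq', Ideal.mem_comap] at hr
      exact (Ideal.algebraMap_residueField_eq_zero (I := q'.asIdeal)).2 hr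
    have hunit : ∀ r ∉ p.asIdeal, IsUnit (φR r) := by
      intro r hr
      refine Ne.isUnit fun h0 => hr ?_
      rw [← hq', Ideal.mem_comap]
      exact (Ideal.algebraMap_residueField_eq_zero (I := q'.asIdeal)).1 h0
    let lf : κ →ₐ[k] L := Ideal.ResidueField.liftₐ p.asIdeal φR hker hunit
    let π : R ⊗[k] S →ₐ[k] κ ⊗[k] S := Algebra.TensorProduct.map (IsScalarTower.toAlgHom k R κ) (AlgHom.id k S)
    let π' : R ⊗[k] S' →ₐ[k] κ ⊗[k] S' := Algebra.TensorProduct.map (IsScalarTower.toAlgHom k R κ) (AlgHom.id k S')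
    let ικ : κ ⊗[k] S' →ₐ[k] κ ⊗[k] S := Algebra.TensorProduct.map (AlgHom.id k κ) S'.val
    let ev : κ ⊗[k] S' →ₐ[k] L :=
      Algebra.TensorProduct.lift lf (φ.comp Algebra.TensorProduct.includeRight) fun _ _ => Commute.all _ _
    have hcomm : π.comp ι = ικ.comp π' := Algebra.TensorProduct.ext' fun a b => by simp [π, π', ι, ικ]
    have hev : ev.comp π' = φ := Algebra.TensorProduct.ext' fun a b => by
      have h1 : lf (algebraMap R κ a) = φR a :=
        Ideal.ResidueField.liftₐ_algebraMap p.asIdeal φR hker hunit a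
      simp only [ev, π', AlgHom.comp_apply, Algebra.TensorProduct.map_tmul, Algebra.TensorProduct.lift_tmul,
        AlgHom.coe_id, id_eq, IsScalarTower.coe_toAlgHom', h1, φR, Algebra.TensorProduct.includeLeft_apply,
        Algebra.TensorProduct.includeRight_apply, ← map_mul, Algebra.TensorProduct.tmul_mul_tmul, mul_one, one_mul]
    have hικ : Function.Injective ικ := fun x y hxy =>
      Module.Flat.lTensor_preserves_injective_linearMap (M := κ) S'.val.toLinearMap Subtype.val_injective hxy
    have hnil : ¬ IsNilpotent (π (ι f)) := by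
      intro h
      rw [show π (ι f) = ικ (π' f) from DFunLike.congr_fun hcomm f, IsNilpotent.map_iff hικ] at h
      have h2 := h.map ev
      rw [show ev (π' f) = φ f from DFunLike.congr_fun hev f] at h2
      exact hf (Ideal.algebraMap_residueField_eq_zero.1 h2.eq_zero)
    obtain ⟨Q, hQp, hQ⟩ : ∃ Q : Ideal (κ ⊗[k] S), Q.IsPrime ∧ π (ι f) ∉ Q := by
      rw [← mem_nilradical, nilradical_eq_sInf, Submodule.mem_sInf] at hnil
      push Not at hnil
      exact hnil
    refine ⟨⟨Q.comap π.toRingHom, inferInstance⟩, hQ, ?_⟩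
    ext r
    simp only [Ideal.mem_comap, AlgHom.toRingHom_eq_coe, RingHom.coe_coe]
    have e : π (algebraMap R (R ⊗[k] S) r) = algebraMap κ (κ ⊗[k] S) (algebraMap R κ r) := by
      simp [π, Algebra.TensorProduct.algebraMap_apply]
    rw [e, ← Ideal.algebraMap_residueField_eq_zero (I := p.asIdeal)]
    constructor
    · intro h
      by_contra h0
      exact hQp.ne_top (Ideal.eq_top_of_isUnit_mem _ h (((Ne.isUnit h0 : IsUnit (algebraMap R κ r))).map _))
    · intro h; rw [h, map_zero]; exact Q.zero_mem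

end Groth.Agent.S6286
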