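import Groth.Statements.S6287
import Mathlib

set_option autoImplicit false
set_option linter.style.haveILetI false
set_option linter.style.longLine false
universe u
open CAlg

namespace Groth.Agent.S6287

open Ring.DirectLimit

/-- Let (A_i) be a directed system of valuation rings. Then the colimit A = colim A_i is a valuation
ring (in particular a domain). -/
theorem result {ι : Type u} [Preorder ι] [Nonempty ι] [IsDirected ι (· ≤ ·)] (G : ι → Type u) [∀ i, CommRing (G i)] [∀ i, IsDomain (G i)] [∀ i, ValuationRing (G i)] (f : ∀ i j, i ≤ j → G i →+* G j) [DirectedSystem G fun i j h => f i j h] : ∃ _ : IsDomain (Ring.DirectLimit G fun i j h => f i j h), ValuationRing (Ring.DirectLimit G fun i j h => f i j h) := by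
  classical
  have hex : ∀ x y : Ring.DirectLimit G (fun i j h => f i j h), ∃ k a b, of G (fun i j h => f i j h) k a = x ∧ of G (fun i j h => f i j h) k b = y := by
    intro x y
    obtain ⟨i, a, rfl⟩ := exists_of x
    obtain ⟨j, b, rfl⟩ := exists_of y
    obtain ⟨k, hik, hjk⟩ := exists_ge_ge i j
    exact ⟨k, f i k hik a, f j k hjk b, of_f hik a, of_f hjk b⟩
  haveI : Nontrivial (Ring.DirectLimit G fun i j h => f i j h) := by
    refine ⟨⟨0, 1, fun h => ?_⟩⟩
    let i : ι := Classical.arbitrary ι
    rw [← map_one (of G (fun i j h => f i j h) i)] at h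
    obtain ⟨j, hij, h0⟩ := of.zero_exact (f' := f) h.symm
    rw [map_one] at h0
    exact one_ne_zero h0
  haveI : NoZeroDivisors (Ring.DirectLimit G fun i j h => f i j h) := ⟨fun {x y} hxy => by
    obtain ⟨k, a, b, rfl, rfl⟩ := hex x y
    rw [← map_mul] at hxy
    obtain ⟨l, hkl, h0⟩ := of.zero_exact (f' := f) hxy
    rw [map_mul] at h0
    rcases mul_eq_zero.1 h0 with h | h
    · left; rw [← of_f hkl a, h, map_zero]
    · right; rw [← of_f hkl b, h, map_zero]⟩
  haveI hdom : IsDomain (Ring.DirectLimit G fun i j h => f i j h) := NoZeroDivisors.to_isDomain _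
  refine ⟨hdom, ?_⟩
  suffices h : PreValuationRing (Ring.DirectLimit G fun i j h => f i j h) from { }
  refine ⟨fun x y => ?_⟩
  obtain ⟨k, a, b, rfl, rfl⟩ := hex x y
  obtain ⟨c, hc⟩ := ValuationRing.cond a b
  refine ⟨of G (fun i j h => f i j h) k c, hc.imp (fun h => ?_) (fun h => ?_)⟩ <;> rw [← map_mul, h]

end Groth.Agent.S6287
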