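import Groth.Statements.S6289
import Mathlib

set_option autoImplicit false
universe u
open CAlg

namespace Groth.Agent.S6289

/-- Let A' be a valuation ring with residue field K and A ⊆ K a valuation ring with fraction field K.
Then the subring C of A' consisting of the elements whose residue class lies in A is a valuation
ring. -/
theorem result (A' : Type u) [CommRing A'] [IsDomain A'] [ValuationRing A'] (A : ValuationSubring (IsLocalRing.ResidueField A')) : ValuationRing (A.toSubring.comap (IsLocalRing.residue A')) := by
  suffices h : PreValuationRing (A.toSubring.comap (IsLocalRing.residue A')) from { }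
  refine ⟨fun a b => ?_⟩
  obtain ⟨c, hc⟩ := ValuationRing.cond (A := A') (a : A') (b : A')
  have main : ∀ (a b : A.toSubring.comap (IsLocalRing.residue A')) (c : A'), (a : A') * c = b →
      ∃ d, a * d = b ∨ b * d = a := by
    intro a b c h
    by_cases hcA : IsLocalRing.residue A' c ∈ A
    · exact ⟨⟨c, hcA⟩, Or.inl (Subtype.ext h)⟩
    · have hu : IsUnit c := by
        by_contra hu
        exact hcA (by rw [IsLocalRing.residue_eq_zero_iff c |>.2 hu]; exact zero_mem _)
      obtain ⟨u, rfl⟩ := hu
      refine ⟨⟨(↑u⁻¹ : A'), ?_⟩, Or.inr (Subtype.ext ?_)⟩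
      · show IsLocalRing.residue A' _ ∈ A
        rw [map_units_inv]
        exact (A.mem_or_inv_mem _).resolve_left hcA
      · show (b : A') * _ = a
        rw [← h, mul_assoc, Units.mul_inv, mul_one]
  rcases hc with hc | hc
  · exact main a b c hc
  · obtain ⟨d, hd⟩ := main b a c hc
    exact ⟨d, hd.symm⟩

end Groth.Agent.S6289
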