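import Groth.Statements.S6290
import Mathlib

set_option autoImplicit false
set_option linter.style.haveILetI false
set_option linter.style.longLine false
universe u
open CAlg

namespace Groth.Agent.S6290

/-- Let R be a Noetherian ring, I ⊆ R an ideal, M a finite R-module and N = ⋂ₙ IⁿM. Then for every prime
p ⊇ I there is f ∈ R, f ∉ p, with N_f = 0, i.e. every element of N is annihilated by some power of
f. -/
theorem result {R : Type u} [CommRing R] [IsNoetherianRing R] (I : Ideal R) (M : Type u) [AddCommGroup M] [Module R M] [Module.Finite R M] (p : Ideal R) [p.IsPrime] (hIp : I ≤ p) : ∃ f : R, f ∉ p ∧ ∀ x ∈ (⨅ n : ℕ, I ^ n • (⊤ : Submodule R M)), ∃ k : ℕ, f ^ k • x = 0 := by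
  obtain ⟨r, hr, hr'⟩ : ∃ r ∈ I, ∀ x ∈ (⨅ n : ℕ, I ^ n • (⊤ : Submodule R M)), r • x = x := by
    refine Submodule.exists_mem_and_smul_eq_self_of_fg_of_le_smul I _ (IsNoetherian.noetherian _) ?_
    set N := (⨅ n : ℕ, I ^ n • (⊤ : Submodule R M))
    obtain ⟨k, hk⟩ := (I.stableFiltration_stable (⊤ : Submodule R M)).inter_right (I.trivialFiltration N)
    have hN : ∀ i, (I.stableFiltration (⊤ : Submodule R M) ⊓ I.trivialFiltration N).N i = N := fun i =>
      inf_eq_right.2 (iInf_le _ i)
    have := hk k le_rfl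
    rw [hN, hN] at this
    exact le_of_eq this.symm
  refine ⟨1 - r, fun h => (inferInstance : p.IsPrime).ne_top ((Ideal.eq_top_iff_one p).2 (by simpa using p.add_mem h (hIp hr))), fun x hx => ⟨1, ?_⟩⟩
  rw [pow_one, sub_smul, one_smul, hr' x hx, sub_self]

end Groth.Agent.S6290
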