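import Groth.Statements.S6291
import Mathlib

set_option autoImplicit false
universe u
open CAlg

namespace Groth.Agent.S6291

/-- Let R be a local ring with maximal ideal m and M an R-module of finite length. Then mⁿM = 0 for some
n. -/
theorem result {R : Type u} [CommRing R] [IsLocalRing R] (M : Type u) [AddCommGroup M] [Module R M] (hM : IsFiniteLength R M) : ∃ n : ℕ, (IsLocalRing.maximalIdeal R) ^ n • (⊤ : Submodule R M) = ⊥ := by
  obtain ⟨h1, h2⟩ := isFiniteLength_iff_isNoetherian_isArtinian.1 hM
  set m := IsLocalRing.maximalIdeal R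
  let F : ℕ →o (Submodule R M)ᵒᵈ :=
    ⟨fun n => OrderDual.toDual (m ^ n • ⊤), fun a b hab =>
      Submodule.smul_mono_left (Ideal.pow_le_pow_right hab)⟩
  obtain ⟨n, hn⟩ := IsArtinian.monotone_stabilizes F
  refine ⟨n, ?_⟩
  apply Submodule.eq_bot_of_le_smul_of_le_jacobson_bot m _ (IsNoetherian.noetherian _)
  · have := hn (n + 1) (Nat.le_succ n)
    conv_lhs => rw [show m ^ n • (⊤ : Submodule R M) = m ^ (n + 1) • ⊤ from this]
    rw [pow_succ', Submodule.mul_smul]
  · exact IsLocalRing.maximalIdeal_le_jacobson _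

end Groth.Agent.S6291
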