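import Groth.Statements.S6294
import Mathlib
import Groth.Agent.CAlgH2.Minimal

set_option autoImplicit false
set_option linter.style.haveILetI false
set_option linter.style.longLine false
universe u
open CAlg

namespace Groth.Agent.S6294

/-- Let R be a ring with finitely many minimal primes q₁, …, q_t, and assume that the zerodivisors of R
are precisely the elements of q₁ ∪ … ∪ q_t. Then Q(R), the total ring of fractions of R, equals
R_{q₁} × … × R_{q_t}: the diagonal map R → ∏ R_{q_i} is a localization of R at its non-zerodivisors. -/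
theorem result {R : Type u} [CommRing R] {ι : Type} [Fintype ι] (q : ι → Ideal R) [∀ i, (q i).IsPrime] (hinj : Function.Injective q) (hmin : ∀ P : Ideal R, P ∈ minimalPrimes R ↔ P ∈ Set.range q) (hzd : ∀ x : R, x ∈ nonZeroDivisors R ↔ ∀ i, x ∉ q i) : IsLocalization (nonZeroDivisors R) (∀ i, Localization.AtPrime (q i)) := by
  classical
  have hmin' : ∀ i, q i ∈ minimalPrimes R := fun i => (hmin _).2 ⟨i, rfl⟩
  have hnot : ∀ i j, j ≠ i → ∃ d : R, d ∉ q i ∧ algebraMap R (Localization.AtPrime (q j)) d = 0 := by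
    intro i j hji
    have hnle : ¬ q j ≤ q i := fun h => hji (hinj (le_antisymm h ((hmin' i).2 ⟨inferInstance, bot_le⟩ h)))
    obtain ⟨a, ha, ha'⟩ := SetLike.not_le_iff_exists.1 hnle
    obtain ⟨t, ht, n, hn⟩ := CAlgH2.exists_notMem_mul_pow_eq_zero (hmin' j) ha
    exact ⟨a ^ n, fun h => ha' (Ideal.IsPrime.mem_of_pow_mem inferInstance n h),
      (IsLocalization.map_eq_zero_iff (q j).primeCompl _ _).2 ⟨⟨t, ht⟩, hn⟩⟩
  choose d hd hd' using hnot
  let e : ι → R := fun i => ∏ j ∈ Finset.univ.erase i, if h : j ≠ i then d i j h else 1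
  have he : ∀ i, e i ∉ q i := fun i h => by
    obtain ⟨j, hj, hj'⟩ := Ideal.IsPrime.prod_mem_iff.1 h
    rw [dif_pos (Finset.ne_of_mem_erase hj)] at hj'
    exact hd _ _ _ hj'
  have he' : ∀ i j, j ≠ i → algebraMap R (Localization.AtPrime (q j)) (e i) = 0 := fun i j hji => by
    rw [map_prod]
    exact Finset.prod_eq_zero (Finset.mem_erase.2 ⟨hji, Finset.mem_univ j⟩) (by rw [dif_pos hji]; exact hd' _ _ _)
  refine { map_units := ?_, surj := ?_, exists_of_eq := ?_ }
  · intro y
    rw [Pi.isUnit_iff]
    intro i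
    exact IsLocalization.map_units (Localization.AtPrime (q i)) (⟨y.1, (hzd y).1 y.2 i⟩ : (q i).primeCompl)
  · intro z
    have := fun i => IsLocalization.surj (q i).primeCompl (z i)
    choose xs hxs using this
    have hS : ∀ j, algebraMap R (Localization.AtPrime (q j)) (∑ i, e i * (xs i).2) =
        algebraMap R _ (e j) * algebraMap R _ ((xs j).2 : R) := fun j => by
      rw [map_sum, Finset.sum_eq_single j (fun i _ hij => by rw [map_mul, he' i j hij.symm, zero_mul]) (by simp), map_mul]
    have hmem : ∑ i, e i * (xs i).2 ∈ nonZeroDivisors R := (hzd _).2 fun j hj => by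
      have hu : IsUnit (algebraMap R (Localization.AtPrime (q j)) (∑ i, e i * (xs i).2)) := by
        rw [hS j, ← map_mul]
        exact IsLocalization.map_units (Localization.AtPrime (q j)) (⟨_, (q j).primeCompl.mul_mem (he j) (xs j).2.2⟩ : (q j).primeCompl)
      exact (IsLocalization.AtPrime.isUnit_to_map_iff _ (q j) _).1 hu hj
    refine ⟨⟨∑ i, e i * (xs i).1, ⟨_, hmem⟩⟩, funext fun j => ?_⟩
    rw [Pi.mul_apply, Pi.algebraMap_apply, Pi.algebraMap_apply, hS j, mul_comm (algebraMap R _ (e j)), ← mul_assoc,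
      hxs j, map_sum, Finset.sum_eq_single j (fun i _ hij => by rw [map_mul, he' i j hij.symm, zero_mul]) (by simp), map_mul, mul_comm]
  · intro x y h
    let A : Ideal R := Submodule.annihilator (Submodule.span R {x - y})
    have hA : ∀ i, ¬ A ≤ q i := fun i hle => by
      obtain ⟨⟨c, hc⟩, hcxy⟩ := (IsLocalization.eq_iff_exists (q i).primeCompl _).1 (congrFun h i)
      exact hc (hle ((Submodule.mem_annihilator_span_singleton _ _).2 (by
        rw [smul_eq_mul, mul_sub, sub_eq_zero]; exact hcxy)))
    have hnot : ¬ (A : Set R) ⊆ ⋃ i ∈ ((Finset.univ : Finset ι) : Set ι), (q i : Set R) := fun hsub => by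
      rcases isEmpty_or_nonempty ι with hι | hι
      · exact absurd (hsub A.zero_mem) (by simp)
      obtain ⟨i, -, hi⟩ := (Ideal.subset_union_prime (s := (Finset.univ : Finset ι)) (f := q)
        (Classical.arbitrary _) (Classical.arbitrary _) fun i _ _ _ => inferInstance).1 hsub
      exact hA i hi
    obtain ⟨c, hcA, hc⟩ := Set.not_subset.1 hnot
    refine ⟨⟨c, (hzd c).2 fun i hi => hc (Set.mem_biUnion (Finset.mem_univ i) hi)⟩, ?_⟩
    have := (Submodule.mem_annihilator_span_singleton _ _).1 hcA
    rwa [smul_eq_mul, mul_sub, sub_eq_zero] at this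

end Groth.Agent.S6294
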