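import Groth.Statements.S6297
import Mathlib
import Groth.Agent.CAlgH2.Minors

set_option autoImplicit false
set_option linter.style.haveILetI false
set_option linter.style.longLine false
universe u
open CAlg

namespace Groth.Agent.S6297

/-- Let R be a ring, m ≤ n, A an n × m matrix over R and J the ideal generated by the m × m minors of A.
(1) For every f ∈ J there is an m × n matrix B with BA = f · 1. (2) If BA = f · 1 for some m × n
matrix B, then f^m ∈ J. -/
theorem result {R : Type u} [CommRing R] {n m : ℕ} (hmn : m ≤ n) (A : Matrix (Fin n) (Fin m) R) : (∀ f ∈ CAlgX.minorIdeal A m, ∃ B : Matrix (Fin m) (Fin n) R, B * A = f • (1 : Matrix (Fin m) (Fin m) R)) ∧ (∀ (f : R) (B : Matrix (Fin m) (Fin n) R), B * A = f • (1 : Matrix (Fin m) (Fin m) R) → f ^ m ∈ CAlgX.minorIdeal A m) := by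
  classical
  refine ⟨fun f hf => ?_, fun f B h => ?_⟩
  · refine Submodule.span_induction ?_ ⟨0, by simp⟩ ?_ ?_ hf
    · rintro _ ⟨⟨r, c⟩, rfl⟩
      obtain ⟨B, hB⟩ := CAlgH2.exists_mul_eq_det_smul_one A r
      refine ⟨((1 : Matrix (Fin m) (Fin m) R).submatrix id c).det • B, ?_⟩
      have he : A.submatrix r c = A.submatrix r id * (1 : Matrix (Fin m) (Fin m) R).submatrix id c := by
        ext i j
        simp [Matrix.mul_apply, Matrix.one_apply]
      show _ = (A.submatrix r c).det • _
      rw [Matrix.smul_mul, hB, smul_smul, he, Matrix.det_mul, mul_comm]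
    · rintro a b _ _ ⟨B, hB⟩ ⟨C, hC⟩
      exact ⟨B + C, by rw [Matrix.add_mul, hB, hC, add_smul]⟩
    · rintro c a _ ⟨B, hB⟩
      exact ⟨c • B, by rw [Matrix.smul_mul, hB, smul_eq_mul, mul_smul]⟩
  · have h1 := congrArg Matrix.det h
    rw [Matrix.det_smul, Matrix.det_one, mul_one, Fintype.card_fin] at h1
    rw [← h1]
    exact Ideal.span_mono (by rintro _ ⟨r, rfl⟩; exact ⟨(r, id), rfl⟩) (CAlgH2.det_mul_mem_span B A)

end Groth.Agent.S6297
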