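import Groth.Statements.S6298
import Mathlib

set_option autoImplicit false
universe u
open CAlg

namespace Groth.Agent.S6298

/-- Let R be a ring, x ∈ R, I ⊆ R an ideal and p₁, …, p_r prime ideals such that for each i the coset x
+ I is not contained in p_i. Then there is y ∈ I with x + y ∉ p_i for all i. -/
theorem result {R : Type u} [CommRing R] (x : R) (I : Ideal R) {r : ℕ} (p : Fin r → Ideal R) [∀ i, (p i).IsPrime] (h : ∀ i, ∃ y ∈ I, x + y ∉ p i) : ∃ y ∈ I, ∀ i, x + y ∉ p i := by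
  classical
  suffices ∀ s : Finset (Fin r), ∃ y ∈ I, ∀ i ∈ s, x + y ∉ p i by
    obtain ⟨y, hy, h⟩ := this Finset.univ
    exact ⟨y, hy, fun i => h i (Finset.mem_univ i)⟩
  intro s
  induction s using Finset.strongInduction with
  | H s ih =>
  rcases s.eq_empty_or_nonempty with rfl | hne
  · exact ⟨0, I.zero_mem, by simp⟩
  obtain ⟨i, his, hi⟩ := s.finite_toSet.exists_minimalFor p _ hne
  obtain ⟨y, hy, hys⟩ := ih (s.erase i) (Finset.erase_ssubset his)
  by_cases hx : x + y ∈ p i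
  swap
  · refine ⟨y, hy, fun j hj => ?_⟩
    by_cases hji : j = i
    · subst hji; exact hx
    · exact hys j (Finset.mem_erase.2 ⟨hji, hj⟩)
  have hnle : ∀ j ∈ s.erase i, ¬ p j ≤ p i := fun j hj hle =>
    hys j hj (hi (Finset.mem_of_mem_erase hj) hle hx)
  have hz : ∀ j, ∃ z, j ∈ s.erase i → z ∈ p j ∧ z ∉ p i := fun j => by
    by_cases hj : j ∈ s.erase i
    · obtain ⟨z, hz, hz'⟩ := SetLike.not_le_iff_exists.1 (hnle j hj)
      exact ⟨z, fun _ => ⟨hz, hz'⟩⟩
    · exact ⟨0, fun h => absurd h hj⟩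
  choose z hz using hz
  obtain ⟨y0, hy0, hy0'⟩ := h i
  have hd : y0 - y ∉ p i := fun hd => hy0' (by
    have := (p i).add_mem hx hd
    rwa [show x + y + (y0 - y) = x + y0 by ring] at this)
  refine ⟨y + (y0 - y) * ∏ j ∈ s.erase i, z j,
    I.add_mem hy (I.mul_mem_right _ (I.sub_mem hy0 hy)), fun j hj => ?_⟩
  rw [← add_assoc]
  by_cases hji : j = i
  · subst hji
    intro hc
    rcases Ideal.IsPrime.mem_or_mem inferInstance ((Submodule.add_mem_iff_right _ hx).1 hc) with hh | hh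
    · exact hd hh
    · obtain ⟨k, hk, hk'⟩ := Ideal.IsPrime.prod_mem_iff.1 hh
      exact (hz k hk).2 hk'
  · have hj' := Finset.mem_erase.2 ⟨hji, hj⟩
    intro hc
    refine hys j hj' ((Submodule.add_mem_iff_left _ ?_).1 hc)
    exact Ideal.mul_mem_left _ _ (Ideal.mem_of_dvd _ (Finset.dvd_prod_of_mem z hj') (hz j hj').1)

end Groth.Agent.S6298
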