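import Groth.Statements.S6300
import Mathlib

set_option autoImplicit false
set_option linter.style.haveILetI false
set_option linter.style.longLine false
universe u
open CAlg

namespace Groth.Agent.S6300

/-- Let R be a normal ring (every localization at a prime is an integrally closed domain). Then R[x] is
a normal ring. -/
theorem result (R : Type u) [CommRing R] (hR : EGA4.IsNormalRing R) : EGA4.IsNormalRing (Polynomial R) := by
  intro P _
  let p := P.comap (Polynomial.C : R →+* Polynomial R)
  obtain ⟨hdom, hic⟩ := hR p
  let A := Localization.AtPrime p
  letI := (Polynomial.mapRingHom (algebraMap R A)).toAlgebra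
  let M : Submonoid (Polynomial R) := p.primeCompl.map (Polynomial.C : R →+* Polynomial R)
  haveI hloc : IsLocalization M (Polynomial A) := Polynomial.isLocalization p.primeCompl A
  have hdisj : Disjoint (M : Set (Polynomial R)) P := by
    rw [Set.disjoint_left]
    rintro _ ⟨r, hr, rfl⟩ h
    exact hr h
  let Q := P.map (algebraMap (Polynomial R) (Polynomial A))
  haveI hQ : Q.IsPrime := IsLocalization.isPrime_of_isPrime_disjoint M _ P inferInstance hdisj
  have hQc : Q.comap (algebraMap (Polynomial R) (Polynomial A)) = P :=
    IsLocalization.comap_map_of_isPrime_disjoint M _ inferInstance hdisj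
  haveI : IsScalarTower (Polynomial R) (Polynomial A) (Localization.AtPrime Q) := inferInstance
  haveI : IsLocalization.AtPrime (Localization.AtPrime Q) P := by
    have := IsLocalization.isLocalization_isLocalization_atPrime_isLocalization M (T := Localization.AtPrime Q) Q
    unfold IsLocalization.AtPrime at this ⊢
    simpa only [hQc] using this
  let e := (IsLocalization.algEquiv P.primeCompl (Localization.AtPrime P) (Localization.AtPrime Q)).toRingEquiv
  haveI : IsIntegrallyClosed (Localization.AtPrime Q) :=
    isIntegrallyClosed_of_isLocalization _ Q.primeCompl Q.primeCompl_le_nonZeroDivisors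
  haveI : IsDomain (Localization.AtPrime Q) :=
    IsLocalization.isDomain_localization Q.primeCompl_le_nonZeroDivisors
  haveI : IsDomain (Localization.AtPrime P) := e.toMulEquiv.isDomain _
  exact ⟨inferInstance, IsIntegrallyClosed.of_equiv (R := Localization.AtPrime Q) e.symm⟩

end Groth.Agent.S6300
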