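import Groth.Statements.S6301
import Mathlib

set_option autoImplicit false
universe u
open CAlg

namespace Groth.Agent.S6301

/-- An R-module M is flat exactly when, for every finitely presented R-module P and every surjective
R-module map N → M, the induced map Hom_R(P, N) → Hom_R(P, M) is surjective (modules P, N taken in
the same universe). -/
theorem result {R : Type u} [CommRing R] (M : Type u) [AddCommGroup M] [Module R M] : Module.Flat R M ↔ ∀ (P : Type u) [AddCommGroup P] [Module R P], Module.FinitePresentation R P → ∀ (N : Type u) [AddCommGroup N] [Module R N] (g : N →ₗ[R] M), Function.Surjective g → ∀ h : P →ₗ[R] M, ∃ h' : P →ₗ[R] N, g.comp h' = h := by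
  constructor
  · intro hM P _ _ hP N _ _ g hg h
    obtain ⟨k, h₂, h₃, hh⟩ := Module.Flat.exists_factorization_of_finitePresentation h
    obtain ⟨l, hl⟩ := Module.projective_lifting_property g h₃ hg
    exact ⟨l.comp h₂, by rw [← LinearMap.comp_assoc, hl, hh]⟩
  · intro H
    refine Module.Flat.of_forall_exists_factorization fun {l f x} hxf => ?_
    let K : Submodule R (Fin l →₀ R) := Submodule.span R {f}
    have hK : K ≤ LinearMap.ker x := by
      rw [Submodule.span_singleton_le_iff_mem]; exact hxf
    have hfp : Module.FinitePresentation R ((Fin l →₀ R) ⧸ K) :=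
      Module.finitePresentation_of_surjective K.mkQ K.mkQ_surjective
        (by rw [Submodule.ker_mkQ]; exact Submodule.fg_span_singleton f)
    obtain ⟨h', hh'⟩ := H _ hfp (M →₀ R) (Finsupp.linearCombination R id)
      (Finsupp.linearCombination_id_surjective R M) (K.liftQ x hK)
    obtain ⟨b, hb⟩ := (inferInstance : Module.Finite R ((Fin l →₀ R) ⧸ K)).fg_top
    classical
    let s : Finset M := b.biUnion fun p => (h' p).support
    have hs : ∀ p, h' p ∈ Finsupp.supported R R (s : Set M) := by
      have : (⊤ : Submodule R _) ≤ (Finsupp.supported R R (s : Set M)).comap h' := by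
        rw [← hb, Submodule.span_le]
        intro p hp i hi
        exact Finset.mem_biUnion.2 ⟨p, hp, hi⟩
      exact fun p => this trivial
    let e : Finsupp.supported R R (s : Set M) ≃ₗ[R] (Fin s.card →₀ R) :=
      (Finsupp.supportedEquivFinsupp _).trans (Finsupp.domLCongr s.equivFin)
    refine ⟨s.card, e.toLinearMap.comp ((h'.codRestrict _ hs).comp K.mkQ),
      (Finsupp.linearCombination R id).comp ((Submodule.subtype _).comp e.symm.toLinearMap), ?_, ?_⟩
    · ext p
      have := LinearMap.congr_fun hh' (K.mkQ (Finsupp.single p 1))
      simpa using this.symm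
    · have : K.mkQ f = 0 := (Submodule.Quotient.mk_eq_zero K).2 (Submodule.mem_span_singleton_self f)
      rw [LinearMap.comp_apply, LinearMap.comp_apply, this, map_zero, map_zero]

end Groth.Agent.S6301
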