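import Groth.Statements.S6303
import Mathlib

set_option autoImplicit false
universe u
open scoped TensorProduct
open CAlg

namespace Groth.Agent.S6303

/-- Let R be a ring, I, J ⊆ R ideals and M a flat R-module. Then IM ∩ JM = (I ∩ J)M. -/
theorem result {R : Type u} [CommRing R] (I J : Ideal R) (M : Type u) [AddCommGroup M] [Module R M] [Module.Flat R M] : (I • (⊤ : Submodule R M)) ⊓ (J • ⊤) = (I ⊓ J) • (⊤ : Submodule R M) := by
  refine le_antisymm ?_ (le_inf (Submodule.smul_mono_left inf_le_left) (Submodule.smul_mono_left inf_le_right))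
  intro x ⟨hxI, hxJ⟩
  let φ : R →ₗ[R] (R ⧸ I) × (R ⧸ J) := (Submodule.mkQ I).prod (Submodule.mkQ J)
  let ψ : (R ⧸ (I ⊓ J)) →ₗ[R] (R ⧸ I) × (R ⧸ J) := Submodule.liftQ _ φ (by
    intro r hr
    simp [φ, LinearMap.ker_prod]
    exact hr)
  have hψ : Function.Injective ψ := by
    rw [← LinearMap.ker_eq_bot, Submodule.ker_liftQ_eq_bot]
    intro r hr
    simpa [φ, LinearMap.ker_prod] using hr
  have h := Module.Flat.rTensor_preserves_injective_linearMap (M := M) ψ hψ
  have key : ∀ (K : Ideal R) (y : M), y ∈ K • (⊤ : Submodule R M) ↔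
      (Submodule.Quotient.mk (1 : R) : R ⧸ K) ⊗ₜ[R] y = 0 := by
    intro K y
    rw [← (TensorProduct.quotTensorEquivQuotSMul M K).map_eq_zero_iff]
    erw [TensorProduct.quotTensorEquivQuotSMul_mk_tmul, one_smul, Submodule.Quotient.mk_eq_zero]
  rw [key]
  refine (injective_iff_map_eq_zero _).1 h _ ?_
  apply (TensorProduct.prodLeft R R (R ⧸ I) (R ⧸ J) M).injective
  rw [map_zero, LinearMap.rTensor_tmul, TensorProduct.prodLeft_tmul]
  exact Prod.ext ((key I x).1 hxI) ((key J x).1 hxJ)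

end Groth.Agent.S6303
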