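import Groth.Statements.S6305
import Mathlib
import Groth.Agent.CAlgH2.UnivInj

set_option autoImplicit false
universe u
open CAlg

namespace Groth.Agent.S6305

/-- An R-module M is flat exactly when every short exact sequence 0 → M₁ → M₂ → M → 0 of R-modules is
universally exact, i.e. its first map M₁ → M₂ is universally injective. -/
theorem result {R : Type u} [CommRing R] (M : Type u) [AddCommGroup M] [Module R M] : Module.Flat R M ↔ ∀ (M₁ M₂ : Type u) [AddCommGroup M₁] [Module R M₁] [AddCommGroup M₂] [Module R M₂] (f : M₁ →ₗ[R] M₂) (g : M₂ →ₗ[R] M), Function.Injective f → Function.Exact f g → Function.Surjective g → CAlgX.UniversallyInjective R f := by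
  refine ⟨fun h M₁ M₂ _ _ _ _ f g hf he hg => CAlgH2.universallyInjective_of_flat_coker he hg hf, fun h => ?_⟩
  have key : ∀ (F : Type u) [AddCommGroup F] [Module R F] [Module.Flat R F] (π : F →ₗ[R] M),
      Function.Surjective π → Module.Flat R M := fun F _ _ _ π hπ =>
    CAlgH2.flat_coker_of_universallyInjective π.exact_subtype_ker_map hπ
      (h _ _ (LinearMap.ker π).subtype π Subtype.val_injective π.exact_subtype_ker_map hπ)
  exact key _ _ (Finsupp.linearCombination_id_surjective R M)

end Groth.Agent.S6305
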