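import Groth.Statements.S6308
import Mathlib

set_option autoImplicit false
set_option linter.style.haveILetI false
set_option linter.style.longLine false
universe u
open scoped TensorProduct
open CAlg

namespace Groth.Agent.S6308

/-- Let R be a ring and φ : M → N a map of R-modules with N finite. For a prime p, the localization φ_p
: M_p → N_p is surjective if and only if φ ⊗ κ(p) : M ⊗ κ(p) → N ⊗ κ(p) is surjective; the set U of
such primes is open in Spec(R); and for every f ∈ R with D(f) ⊆ U the map M_f → N_f is surjective. -/
theorem result {R : Type u} [CommRing R] {M N : Type u} [AddCommGroup M] [Module R M] [AddCommGroup N] [Module R N] [Module.Finite R N] (φ : M →ₗ[R] N) : (∀ p : PrimeSpectrum R, Function.Surjective (LocalizedModule.map p.asIdeal.primeCompl φ) ↔ Function.Surjective (φ.lTensor p.asIdeal.ResidueField)) ∧ IsOpen {p : PrimeSpectrum R | Function.Surjective (LocalizedModule.map p.asIdeal.primeCompl φ)} ∧ (∀ f : R, (↑(PrimeSpectrum.basicOpen f) : Set (PrimeSpectrum R)) ⊆ {p : PrimeSpectrum R | Function.Surjective (LocalizedModule.map p.asIdeal.primeCompl φ)} → Function.Surjective (LocalizedModule.map (Submonoid.powers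 f) φ)) := by
  have hex := φ.exact_map_mkQ_range
  have key : ∀ p : PrimeSpectrum R, Function.Surjective (LocalizedModule.map p.asIdeal.primeCompl φ) ↔
      p ∉ Module.support R (N ⧸ LinearMap.range φ) := fun p => by
    rw [LinearMap.localizedMap_surjective_iff_subsingleton_localized_coker, Module.notMem_support_iff]
  refine ⟨fun p => ?_, ?_, fun f hf => ?_⟩
  · rw [key, Module.mem_support_iff_nontrivial_residueField_tensorProduct, not_nontrivial_iff_subsingleton]
    have h1 := lTensor_exact p.asIdeal.ResidueField hex (Submodule.mkQ_surjective _)
    constructor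
    · intro h y
      exact (h1 y).1 (Subsingleton.elim _ _)
    · intro h
      refine subsingleton_of_forall_eq 0 fun z => ?_
      obtain ⟨y, rfl⟩ := LinearMap.lTensor_surjective p.asIdeal.ResidueField (Submodule.mkQ_surjective (LinearMap.range φ)) z
      exact (h1 y).2 (h y)
  · simp only [key]
    exact Module.isClosed_support.isOpen_compl
  · rw [LinearMap.localizedMap_surjective_iff_subsingleton_localized_coker,
      LocalizedModule.subsingleton_iff_disjoint, Set.disjoint_left]
    exact fun p hp => (key p).1 (hf hp)

end Groth.Agent.S6308
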