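import Groth.Statements.S6309
import Mathlib

set_option autoImplicit false
set_option linter.style.haveILetI false
set_option linter.style.longLine false
universe u
open scoped TensorProduct
open CAlg

namespace Groth.Agent.S6309

open scoped TensorProduct
theorem exists_comp_eq_smul {R : Type u} [CommRing R] {A B : Type u} [AddCommGroup A] [Module R A]
    [AddCommGroup B] [Module R B] [Module.Finite R B] [Module.Projective R B] (θ : A →ₗ[R] B)
    (p : PrimeSpectrum R) (h : Function.Surjective (θ.lTensor p.asIdeal.ResidueField)) :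
    ∃ (t : R) (ξ : B →ₗ[R] A), t ∉ p.asIdeal ∧ θ ∘ₗ ξ = t • LinearMap.id := by
  have hns : p ∉ Module.support R (B ⧸ LinearMap.range θ) := by
    rw [Module.mem_support_iff_nontrivial_residueField_tensorProduct, not_nontrivial_iff_subsingleton]
    refine subsingleton_of_forall_eq 0 fun z => ?_
    obtain ⟨y, rfl⟩ := LinearMap.lTensor_surjective p.asIdeal.ResidueField (Submodule.mkQ_surjective (LinearMap.range θ)) z
    exact (lTensor_exact p.asIdeal.ResidueField θ.exact_map_mkQ_range (Submodule.mkQ_surjective _) y).2 (h y)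
  rw [Module.mem_support_iff_of_finite] at hns
  obtain ⟨t, ht, htp⟩ := SetLike.not_le_iff_exists.1 hns
  have hmem : ∀ b, (t • LinearMap.id : B →ₗ[R] B) b ∈ LinearMap.range θ := fun b => by
    rw [LinearMap.smul_apply, LinearMap.id_apply, ← Submodule.Quotient.mk_eq_zero, Submodule.Quotient.mk_smul]
    exact Module.mem_annihilator.1 ht _
  obtain ⟨ξ, hξ⟩ := Module.projective_lifting_property θ.rangeRestrict
    ((t • LinearMap.id : B →ₗ[R] B).codRestrict _ hmem) θ.surjective_rangeRestrict
  exact ⟨t, ξ, htp, LinearMap.ext fun b => congrArg Subtype.val (LinearMap.congr_fun hξ b)⟩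

theorem exists_retraction_smul {R : Type u} [CommRing R] {P₁ P₂ : Type u} [AddCommGroup P₁]
    [Module R P₁] [AddCommGroup P₂] [Module R P₂] [Module.Finite R P₁] [Module.Projective R P₁]
    [Module.Finite R P₂] [Module.Projective R P₂] (φ : P₁ →ₗ[R] P₂) (p : PrimeSpectrum R)
    (h : Function.Injective (φ.lTensor p.asIdeal.ResidueField)) :
    ∃ (s : R) (ψ : P₂ →ₗ[R] P₁), s ∉ p.asIdeal ∧ ψ ∘ₗ φ = s • LinearMap.id := by
  classical
  let κ := p.asIdeal.ResidueField
  obtain ⟨l, hl⟩ := (φ.baseChange κ).exists_leftInverse_of_injective (LinearMap.ker_eq_bot.2 h)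
  have hloc : IsLocalizedModule p.asIdeal.primeCompl (LocalizedModule.mkLinearMap p.asIdeal.primeCompl P₁) := inferInstance
  -- every element of `κ ⊗ P₁` becomes a pure tensor `1 ⊗ x` after a unit multiple
  have hrep : ∀ z : κ ⊗[R] P₁, ∃ (s : R) (x : P₁), s ∉ p.asIdeal ∧ s • z = 1 ⊗ₜ x := by
    intro z
    induction z with
    | zero => exact ⟨1, 0, fun h1 => p.2.ne_top ((Ideal.eq_top_iff_one _).2 h1), by simp⟩
    | tmul c x =>
      obtain ⟨c, rfl⟩ := IsLocalRing.residue_surjective c
      obtain ⟨a, s, rfl⟩ := IsLocalization.exists_mk'_eq p.asIdeal.primeCompl c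
      refine ⟨s, a • x, s.2, ?_⟩
      rw [← TensorProduct.smul_tmul, TensorProduct.smul_tmul']
      congr 1
      rw [Algebra.smul_def, Algebra.smul_def, mul_one]
      show IsLocalRing.residue _ (algebraMap R _ _) * IsLocalRing.residue _ _ = IsLocalRing.residue _ (algebraMap R _ a)
      rw [← map_mul, mul_comm (algebraMap R _ _), IsLocalization.mk'_spec]
    | add u v hu hv =>
      obtain ⟨s, x, hs, hx⟩ := hu
      obtain ⟨t, y, ht, hy⟩ := hv
      refine ⟨s * t, t • x + s • y, p.asIdeal.primeCompl.mul_mem hs ht, ?_⟩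
      rw [smul_add, TensorProduct.tmul_add, TensorProduct.tmul_smul, TensorProduct.tmul_smul, ← hx, ← hy,
        mul_smul, mul_smul, smul_comm s t u]
  choose sf xf hsf hxf using hrep
  obtain ⟨b, hb⟩ := (inferInstance : Module.Finite R P₂).fg_top
  let s := ∏ y ∈ b, sf (l (1 ⊗ₜ y))
  have hs : s ∉ p.asIdeal := fun hs => by
    obtain ⟨y, -, hy⟩ := Ideal.IsPrime.prod_mem_iff.1 hs
    exact hsf _ hy
  let m1 : P₁ →ₗ[R] κ ⊗[R] P₁ := TensorProduct.mk R κ P₁ 1
  let lm : P₂ →ₗ[R] κ ⊗[R] P₁ := s • ((l.restrictScalars R) ∘ₗ TensorProduct.mk R κ P₂ 1)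
  have hmem : ∀ y, lm y ∈ LinearMap.range m1 := by
    have : (⊤ : Submodule R P₂) ≤ (LinearMap.range m1).comap lm := by
      rw [← hb, Submodule.span_le]
      intro y hy
      obtain ⟨c, hc⟩ := Finset.dvd_prod_of_mem (fun y => sf (l (1 ⊗ₜ y))) hy
      refine ⟨c • xf (l (1 ⊗ₜ y)), ?_⟩
      show (1 : κ) ⊗ₜ[R] (c • xf (l (1 ⊗ₜ y))) = s • l (1 ⊗ₜ y)
      rw [TensorProduct.tmul_smul, ← hxf, ← mul_smul, mul_comm c, ← hc]
    exact fun y => this trivial
  obtain ⟨ψ, hψ⟩ := Module.projective_lifting_property m1.rangeRestrict (lm.codRestrict _ hmem)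
    m1.surjective_rangeRestrict
  have hψ' : ∀ y, (1 : κ) ⊗ₜ[R] ψ y = s • l (1 ⊗ₜ y) := fun y =>
    congrArg Subtype.val (LinearMap.congr_fun hψ y)
  let θ : P₁ →ₗ[R] P₁ := ψ ∘ₗ φ
  have hθ : ∀ z, θ.lTensor κ z = s • z := by
    intro z
    induction z with
    | zero => simp
    | add u v hu hv => rw [map_add, hu, hv, smul_add]
    | tmul c x =>
      rw [LinearMap.lTensor_tmul, LinearMap.comp_apply]
      have h1 : l (1 ⊗ₜ φ x) = (1 : κ) ⊗ₜ[R] x := LinearMap.congr_fun hl (1 ⊗ₜ x)
      have h2 : ∀ w : P₁, c ⊗ₜ[R] w = c • ((1 : κ) ⊗ₜ[R] w) := fun w => by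
        rw [TensorProduct.smul_tmul', smul_eq_mul, mul_one]
      rw [h2, hψ', h1, h2 x, smul_comm]
  have hsunit : ∀ {t : R}, t ∉ p.asIdeal → IsUnit (algebraMap R κ t) := fun {t} ht =>
    isUnit_iff_ne_zero.2 fun h0 => ht (Ideal.algebraMap_residueField_eq_zero.1 h0)
  have hbij : ∀ {t : R}, t ∉ p.asIdeal → Function.Bijective (fun z : κ ⊗[R] P₁ => t • z) := fun {t} ht => by
    simp only [← IsScalarTower.algebraMap_smul κ t]
    exact IsUnit.smul_bijective (hsunit ht)
  obtain ⟨t, ξ, ht, hξ⟩ := exists_comp_eq_smul θ p fun z => by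
    obtain ⟨w, hw⟩ := (hbij hs).2 z
    exact ⟨w, (hθ w).trans hw⟩
  have hξs : Function.Surjective (ξ.lTensor κ) := fun z => by
    obtain ⟨v, hv⟩ := (hbij ht).2 (s • z)
    refine ⟨v, (hbij hs).1 ?_⟩
    show s • ξ.lTensor κ v = s • z
    rw [← hθ, ← LinearMap.comp_apply, ← LinearMap.lTensor_comp, hξ, LinearMap.lTensor_smul,
      LinearMap.lTensor_id, LinearMap.smul_apply, LinearMap.id_apply]
    exact hv
  obtain ⟨t', η, ht', hη⟩ := exists_comp_eq_smul ξ p hξs
  refine ⟨t' * t, (t' • ξ) ∘ₗ ψ, p.asIdeal.primeCompl.mul_mem ht' ht, LinearMap.ext fun x => ?_⟩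
  show t' • ξ (θ x) = (t' * t) • x
  have h1 : θ (ξ (η x)) = t • η x := LinearMap.congr_fun hξ (η x)
  have h2 : ξ (η x) = t' • x := LinearMap.congr_fun hη x
  rw [h2, map_smul] at h1
  rw [← map_smul, h1, map_smul, h2, smul_comm, ← mul_smul]

/-- Let R be a ring and φ : P₁ → P₂ a map of finite projective R-modules. The set U of primes p of R
such that φ ⊗ κ(p) is injective is open, and for every f ∈ R with D(f) ⊆ U the map (P₁)_f → (P₂)_f
is injective and Coker(φ)_f is a finite projective module over R_f. -/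
theorem result {R : Type u} [CommRing R] {P₁ P₂ : Type u} [AddCommGroup P₁] [Module R P₁] [AddCommGroup P₂] [Module R P₂] [Module.Finite R P₁] [Module.Projective R P₁] [Module.Finite R P₂] [Module.Projective R P₂] (φ : P₁ →ₗ[R] P₂) : IsOpen {p : PrimeSpectrum R | Function.Injective (φ.lTensor p.asIdeal.ResidueField)} ∧ ∀ f : R, (↑(PrimeSpectrum.basicOpen f) : Set (PrimeSpectrum R)) ⊆ {p : PrimeSpectrum R | Function.Injective (φ.lTensor p.asIdeal.ResidueField)} → Function.Injective (LocalizedModule.map (Submonoid.powers f) φ) ∧ Module.Finite (Localization.Away f) (LocalizedModule (Submonoid.powers f) (P₂ ⧸ LinearMap.range φ)) ∧ Module.Projective (Localization.Away f) (LocalizedModule (Submonoid.powers f) (P₂ ⧸ LinearMap.range φ)) := by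
  let J : Ideal R :=
    { carrier := {s | ∃ ψ : P₂ →ₗ[R] P₁, ψ ∘ₗ φ = s • LinearMap.id}
      add_mem' := by
        rintro a b ⟨ψ, hψ⟩ ⟨χ, hχ⟩
        exact ⟨ψ + χ, by rw [LinearMap.add_comp, hψ, hχ, add_smul]⟩
      zero_mem' := ⟨0, by simp⟩
      smul_mem' := by
        rintro c a ⟨ψ, hψ⟩
        exact ⟨c • ψ, by rw [LinearMap.smul_comp, hψ, smul_eq_mul, mul_smul]⟩ }
  have hU : {p : PrimeSpectrum R | Function.Injective (φ.lTensor p.asIdeal.ResidueField)} =
      (PrimeSpectrum.zeroLocus (J : Set R))ᶜ := by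
    ext p
    rw [Set.mem_compl_iff, PrimeSpectrum.mem_zeroLocus, Set.not_subset]
    constructor
    · intro h
      obtain ⟨s, ψ, hs, hψ⟩ := exists_retraction_smul φ p h
      exact ⟨s, ⟨ψ, hψ⟩, hs⟩
    · rintro ⟨s, ⟨ψ, hψ⟩, hs⟩
      have hu : IsUnit (algebraMap R p.asIdeal.ResidueField s) :=
        isUnit_iff_ne_zero.2 fun h0 => hs (Ideal.algebraMap_residueField_eq_zero.1 h0)
      intro x y hxy
      have h2 := congrArg (ψ.lTensor p.asIdeal.ResidueField) hxy
      rw [← LinearMap.comp_apply, ← LinearMap.comp_apply, ← LinearMap.lTensor_comp, hψ, LinearMap.lTensor_smul,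
        LinearMap.lTensor_id, LinearMap.smul_apply, LinearMap.smul_apply, LinearMap.id_apply, LinearMap.id_apply,
        ← IsScalarTower.algebraMap_smul p.asIdeal.ResidueField s x, ← IsScalarTower.algebraMap_smul p.asIdeal.ResidueField s y] at h2
      exact hu.smul_left_cancel.1 h2
  refine ⟨hU ▸ (PrimeSpectrum.isClosed_zeroLocus _).isOpen_compl, fun f hf => ?_⟩
  rw [hU, Set.subset_compl_comm, PrimeSpectrum.basicOpen_eq_zeroLocus_compl, compl_compl,
    ← PrimeSpectrum.zeroLocus_span {f}, PrimeSpectrum.zeroLocus_subset_zeroLocus_iff,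
    Ideal.span_le, Set.singleton_subset_iff] at hf
  obtain ⟨n, ψ, hψ⟩ := hf
  let S := Submonoid.powers f
  let C := P₂ ⧸ LinearMap.range φ
  let q : P₂ →ₗ[R] C := Submodule.mkQ _
  let σ : C →ₗ[R] P₂ := Submodule.liftQ _ (f ^ n • LinearMap.id - φ ∘ₗ ψ) (by
    rintro _ ⟨x, rfl⟩
    have := LinearMap.congr_fun hψ x
    simp only [LinearMap.comp_apply] at this
    simp [this])
  have hfn : IsUnit (algebraMap R (Localization.Away f) (f ^ n)) :=
    IsLocalization.map_units (Localization.Away f) (⟨f ^ n, n, rfl⟩ : S)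
  obtain ⟨u, hu⟩ := hfn
  refine ⟨?_, ?_, ?_⟩
  · have : ∀ z, LocalizedModule.map S ψ (LocalizedModule.map S φ z) = f ^ n • z := fun z => by
      induction z using LocalizedModule.induction_on with
      | h x t =>
        rw [LocalizedModule.map_mk, LocalizedModule.map_mk, LocalizedModule.smul'_mk]
        exact congrArg (LocalizedModule.mk · t) (LinearMap.congr_fun hψ x)
    intro a b hab
    have h2 := congrArg (LocalizedModule.map S ψ) hab
    rw [this, this, ← IsScalarTower.algebraMap_smul (Localization.Away f) (f ^ n) a,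
      ← IsScalarTower.algebraMap_smul (Localization.Away f) (f ^ n) b, ← hu] at h2
    exact u.isUnit.smul_left_cancel.1 h2
  · infer_instance
  · haveI : Module.Projective (Localization.Away f) (LocalizedModule S P₂) :=
      Module.Projective.of_equiv (LocalizedModule.equivTensorProduct S P₂).symm
    refine Module.Projective.of_split ((↑u⁻¹ : Localization.Away f) • LocalizedModule.map S σ)
      (LocalizedModule.map S q) (LinearMap.ext fun z => ?_)
    induction z using LocalizedModule.induction_on with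
    | h x t =>
      obtain ⟨y, rfl⟩ := Submodule.Quotient.mk_surjective _ x
      rw [LinearMap.comp_apply, LinearMap.smul_apply, map_smul, LocalizedModule.map_mk, LocalizedModule.map_mk]
      have : q (σ (Submodule.Quotient.mk y)) = f ^ n • (Submodule.Quotient.mk y : C) := by
        show q (f ^ n • y - φ (ψ y)) = _
        rw [map_sub, map_smul]
        rw [Submodule.mkQ_apply, Submodule.mkQ_apply,
          (Submodule.Quotient.mk_eq_zero (LinearMap.range φ)).2 (LinearMap.mem_range_self φ (ψ y)), sub_zero]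
      rw [this, ← LocalizedModule.smul'_mk, ← IsScalarTower.algebraMap_smul (Localization.Away f) (f ^ n), ← hu,
        ← mul_smul, Units.inv_mul, one_smul, LinearMap.id_apply]

end Groth.Agent.S6309
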