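import Groth.Statements.S6310
import Mathlib

set_option autoImplicit false
set_option linter.style.haveILetI false
set_option linter.style.longLine false
universe u
open CAlg

namespace Groth.Agent.S6310

/-- Let R be a ring, S ⊆ R a multiplicative subset, I ⊆ R an ideal and M a finite R-module. If x₁, …,
x_r ∈ M have images generating S⁻¹(M/IM) as an S⁻¹R-module, then there is f ∈ S + I (f = s + i with
s ∈ S, i ∈ I) such that x₁, …, x_r generate M_f as an R_f-module. -/
theorem result {R : Type u} [CommRing R] (S : Submonoid R) (I : Ideal R) (M : Type u) [AddCommGroup M] [Module R M] [Module.Finite R M] {r : ℕ} (x : Fin r → M) (hx : Submodule.span (Localization S) (Set.range fun j => LocalizedModule.mkLinearMap S (M ⧸ (I • (⊤ : Submodule R M))) (Submodule.Quotient.mk (x j))) = ⊤) : ∃ (s : R) (i : R), s ∈ S ∧ i ∈ I ∧ Submodule.span (Localization.Away (s + i)) (Set.range fun j => LocalizedModule.mkLinearMap (Submonoid.powers (s + i)) M (x j)) = ⊤ := by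
  classical
  let N := Submodule.span R (Set.range x)
  let C := M ⧸ N
  obtain ⟨b, hb⟩ := (inferInstance : Module.Finite R M).fg_top
  have hgen : ∀ m : M, ∃ s ∈ S, s • m ∈ N ⊔ I • (⊤ : Submodule R M) := by
    intro m
    have hm : LocalizedModule.mkLinearMap S (M ⧸ (I • (⊤ : Submodule R M))) (Submodule.Quotient.mk m) ∈
        Submodule.span (Localization S) (Set.range fun j => LocalizedModule.mkLinearMap S (M ⧸ (I • (⊤ : Submodule R M))) (Submodule.Quotient.mk (x j))) := by
      rw [hx]; trivial
    obtain ⟨c, hc⟩ := multiple_mem_span_of_mem_localization_span S (Localization S) _ _ hm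
    have : (c : R) • LocalizedModule.mkLinearMap S (M ⧸ (I • (⊤ : Submodule R M))) (Submodule.Quotient.mk m) ∈
        (Submodule.map (LocalizedModule.mkLinearMap S (M ⧸ (I • (⊤ : Submodule R M))) ∘ₗ Submodule.mkQ (I • (⊤ : Submodule R M))) N) := by
      rw [Submodule.map_span, ← Set.range_comp]; exact hc
    obtain ⟨y, hy, hyc⟩ := this
    rw [LinearMap.comp_apply, ← map_smul, ← Submodule.Quotient.mk_smul] at hyc
    obtain ⟨d, hd⟩ := (IsLocalizedModule.eq_iff_exists S (LocalizedModule.mkLinearMap S _)).1 hyc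
    refine ⟨(d : R) * c, S.mul_mem d.2 c.2, ?_⟩
    rw [Submodule.mkQ_apply, Submonoid.smul_def, Submonoid.smul_def, ← Submodule.Quotient.mk_smul, ← Submodule.Quotient.mk_smul, Submodule.Quotient.eq] at hd
    refine Submodule.mem_sup.2 ⟨(d : R) • y, N.smul_mem _ hy, ((d : R) * c) • m - (d : R) • y, ?_, by abel⟩
    rw [mul_smul]
    rw [← neg_sub]
    exact neg_mem hd
  choose sf hsf hsfm using hgen
  let s₀ := ∏ m ∈ b, sf m
  have hs₀ : s₀ ∈ S := Submonoid.prod_mem _ fun m _ => hsf m
  have hall : ∀ m : M, s₀ • m ∈ N ⊔ I • (⊤ : Submodule R M) := by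
    have : (⊤ : Submodule R M) ≤ (N ⊔ I • (⊤ : Submodule R M)).comap (LinearMap.lsmul R M s₀) := by
      refine hb.ge.trans (Submodule.span_le.2 fun m hm => ?_)
      obtain ⟨c, hc⟩ : sf m ∣ s₀ := Finset.dvd_prod_of_mem sf hm
      show s₀ • m ∈ N ⊔ I • (⊤ : Submodule R M)
      rw [hc, mul_comm, mul_smul]
      exact Submodule.smul_mem _ _ (hsfm m)
    exact fun m => this trivial
  have hrange : LinearMap.range (LinearMap.lsmul R C s₀) ≤ I • ⊤ := by
    rintro _ ⟨z, rfl⟩
    obtain ⟨m, rfl⟩ := Submodule.Quotient.mk_surjective N z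
    obtain ⟨u, hu, v, hv, huv⟩ := Submodule.mem_sup.1 (hall m)
    have h1 : N.mkQ v ∈ I • (⊤ : Submodule R C) := by
      have := Submodule.mem_map_of_mem (f := N.mkQ) hv
      rw [Submodule.map_smul''] at this
      exact Submodule.smul_mono le_rfl le_top this
    rw [LinearMap.lsmul_apply, ← Submodule.Quotient.mk_smul, ← huv, ← Submodule.mkQ_apply, map_add,
      Submodule.mkQ_apply, (Submodule.Quotient.mk_eq_zero N).2 hu, zero_add]
    exact h1
  obtain ⟨P, hP, -, hcoef, hPz⟩ :=
    LinearMap.exists_monic_and_natDegree_eq_and_coeff_mem_pow_and_aeval_eq_zero R (LinearMap.lsmul R C s₀) I hrange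
  refine ⟨s₀ ^ P.natDegree, P.eval s₀ - s₀ ^ P.natDegree, pow_mem hs₀ _, ?_, ?_⟩
  · rw [Polynomial.eval_eq_sum_range, Finset.sum_range_succ, hP.coeff_natDegree, one_mul, add_sub_cancel_right]
    refine Ideal.sum_mem _ fun k hk => I.mul_mem_right _ (Ideal.pow_le_self ?_ (hcoef k))
    have := Finset.mem_range.1 hk
    omega
  rw [add_sub_cancel]
  have hkill : ∀ m : M, P.eval s₀ • m ∈ N := fun m => by
    have : P.eval s₀ • (Submodule.Quotient.mk m : C) = 0 := by
      rw [show LinearMap.lsmul R C s₀ = algebraMap R (Module.End R C) s₀ from rfl, Polynomial.aeval_algebraMap_apply] at hPz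
      have := LinearMap.congr_fun hPz (Submodule.Quotient.mk m)
      rwa [Module.algebraMap_end_apply, Polynomial.coe_aeval_eq_eval, LinearMap.zero_apply] at this
    rwa [← Submodule.Quotient.mk_smul, Submodule.Quotient.mk_eq_zero] at this
  rw [eq_top_iff]
  intro z _
  induction z using LocalizedModule.induction_on with
  | h m t =>
    have h1 : LocalizedModule.mkLinearMap (Submonoid.powers (P.eval s₀)) M (P.eval s₀ • m) ∈
        Submodule.span R (Set.range fun j => LocalizedModule.mkLinearMap (Submonoid.powers (P.eval s₀)) M (x j)) := by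
      have := Submodule.mem_map_of_mem (f := LocalizedModule.mkLinearMap (Submonoid.powers (P.eval s₀)) M) (hkill m)
      rwa [Submodule.map_span, ← Set.range_comp] at this
    have h2 := Submodule.smul_mem _ (Localization.mk 1 (t * ⟨P.eval s₀, 1, pow_one _⟩)) (Submodule.span_le_restrictScalars R (Localization (Submonoid.powers (P.eval s₀))) _ h1)
    rw [LocalizedModule.mkLinearMap_apply, LocalizedModule.mk_smul_mk, one_smul, mul_one] at h2
    convert h2 using 1
    rw [LocalizedModule.mk_eq]
    refine ⟨1, ?_⟩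
    simp [Submonoid.smul_def, mul_smul]

end Groth.Agent.S6310
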