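import Groth.Statements.S6311
import Mathlib

set_option autoImplicit false
set_option linter.style.haveILetI false
set_option linter.style.longLine false
universe u
open CategoryTheory
open CAlg

namespace Groth.Agent.S6311

open CategoryTheory
abbrev Q (R : Type u) [CommRing R] : ObjectProperty (ModuleCat.{u} R) :=
  fun M => Module.Finite R M ∧ Module.Projective R M
variable {R : Type u} [CommRing R]
theorem cl_eq_mk (M : ModuleCat.{u} R) (h : Q R M) :
    KZero.clSub (Q R) M = QuotientAddGroup.mk (FreeAbelianGroup.of ⟨M, h⟩) := dif_pos h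
theorem cl_add {A B C : ModuleCat.{u} R} (hA : Q R A) (hB : Q R B) (hC : Q R C) (f : A →ₗ[R] B) (g : B →ₗ[R] C)
    (hf : Function.Injective f) (hg : Function.Surjective g) (hfg : Function.Exact f g) :
    KZero.clSub (Q R) B = KZero.clSub (Q R) A + KZero.clSub (Q R) C := by
  rw [cl_eq_mk A hA, cl_eq_mk B hB, cl_eq_mk C hC, ← sub_eq_zero, ← sub_sub,
    ← QuotientAddGroup.mk_sub, ← QuotientAddGroup.mk_sub, QuotientAddGroup.eq_zero_iff]
  refine AddSubgroup.subset_closure
    ⟨ShortComplex.mk (ModuleCat.ofHom f) (ModuleCat.ofHom g) (ModuleCat.hom_ext (LinearMap.ext fun x => hfg.apply_apply_eq_zero x)),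
      hA, hB, hC, ?_, rfl⟩
  exact ModuleCat.shortComplex_shortExact _ hfg hf hg
theorem cl_zero (M : ModuleCat.{u} R) (h : Q R M) [Subsingleton M] : KZero.clSub (Q R) M = 0 := by
  have := cl_add h h h (0 : M →ₗ[R] M) (0 : M →ₗ[R] M) (Function.injective_of_subsingleton _)
    (fun x => ⟨x, Subsingleton.elim _ _⟩) (fun x => ⟨fun _ => ⟨x, Subsingleton.elim _ _⟩, fun _ => Subsingleton.elim _ _⟩)
  exact left_eq_add.mp this
theorem cl_congr {A B : ModuleCat.{u} R} (hA : Q R A) (hB : Q R B) (e : A ≃ₗ[R] B) :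
    KZero.clSub (Q R) B = KZero.clSub (Q R) A := by
  haveI : Subsingleton (ModuleCat.of R PUnit.{u+1}) := inferInstanceAs (Subsingleton PUnit)
  have hZ : Q R (ModuleCat.of R PUnit.{u+1}) := ⟨inferInstance, inferInstance⟩
  have := cl_add hA hB hZ e.toLinearMap (0 : B →ₗ[R] PUnit.{u+1}) e.injective
    (fun x => ⟨0, Subsingleton.elim _ _⟩) (fun x => ⟨fun _ => e.surjective x, fun _ => Subsingleton.elim _ _⟩)
  rw [this, cl_zero _ hZ, add_zero]
theorem qPi (n : ℕ) : Q R (ModuleCat.of R (Fin n → R)) := ⟨inferInstance, inferInstance⟩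
theorem qSelf : Q R (ModuleCat.of R R) := ⟨inferInstance, inferInstance⟩
theorem cl_pi (n : ℕ) :
    KZero.clSub (Q R) (ModuleCat.of R (Fin n → R)) = n • KZero.clSub (Q R) (ModuleCat.of R R) := by
  induction n with
  | zero =>
    haveI : Subsingleton (ModuleCat.of R (Fin 0 → R)) := inferInstanceAs (Subsingleton (Fin 0 → R))
    rw [cl_zero _ (qPi 0), zero_smul]
  | succ n ih =>
    let f : R →ₗ[R] (Fin (n + 1) → R) := LinearMap.single R (fun _ => R) 0
    let g : (Fin (n + 1) → R) →ₗ[R] (Fin n → R) := LinearMap.funLeft R R Fin.succ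
    have := cl_add (A := ModuleCat.of R R) (B := ModuleCat.of R (Fin (n + 1) → R)) (C := ModuleCat.of R (Fin n → R))
      qSelf (qPi _) (qPi _) f g (Pi.single_injective (M := fun _ : Fin (n + 1) => R) 0)
      (fun v => ⟨Fin.cons 0 v, funext fun i => by simp [g, LinearMap.funLeft_apply]⟩)
      (fun v => ⟨fun hv => ⟨v 0, funext fun i => by
        refine Fin.cases ?_ (fun j => ?_) i
        · simp [f]
        · have := congrFun hv j
          simp only [g, LinearMap.funLeft_apply, Pi.zero_apply] at this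
          simp [f, this]; rfl⟩, fun ⟨a, ha⟩ => by
        subst ha
        funext i
        simp [f, g, LinearMap.funLeft_apply]; rfl⟩)
    rw [this, ih, succ_nsmul']

/-- Let R be a local ring. Then K₀(R), the Grothendieck group of the category of finite projective
R-modules, is isomorphic to ℤ via the rank; precisely, there is an isomorphism K₀(R) ≅ ℤ of abelian
groups sending the class [R] to 1 (such an isomorphism is then unique, K₀(R) being generated by
[R]). -/
theorem result (R : Type u) [CommRing R] [IsLocalRing R] : ∃ e : KZero.K0sub (fun M : ModuleCat.{u} R => Module.Finite R M ∧ Module.Projective R M) ≃+ ℤ, e (KZero.clSub (fun M : ModuleCat.{u} R => Module.Finite R M ∧ Module.Projective R M) (ModuleCat.of R R)) = 1 := by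
  have hfree : ∀ M : Subtype (Q R), Module.Free R M.1 := fun M => by
    haveI := M.2.1
    haveI := M.2.2
    exact Module.free_of_flat_of_isLocalRing
  let φ : FreeAbelianGroup (Subtype (Q R)) →+ ℤ := FreeAbelianGroup.lift fun M => (Module.finrank R M.1 : ℤ)
  have hφ : KZero.relSub (Q R) ≤ φ.ker := by
    refine (AddSubgroup.closure_le _).2 ?_
    rintro _ ⟨S, h1, h2, h3, hS, rfl⟩
    show φ _ = 0
    haveI := hfree ⟨_, h1⟩
    haveI := hfree ⟨_, h2⟩
    haveI := hfree ⟨_, h3⟩
    haveI := h1.1
    haveI := h2.1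
    haveI := h3.1
    haveI := h3.2
    obtain ⟨l, hl⟩ := Module.projective_lifting_property S.g.hom LinearMap.id hS.moduleCat_surjective_g
    obtain ⟨e, -⟩ := Function.Exact.splitSurjectiveEquiv
      (ShortComplex.ShortExact.moduleCat_exact_iff_function_exact (S := S) |>.1 hS.exact) hS.moduleCat_injective_f ⟨l, hl⟩
    have he : Module.finrank R S.X₂ = Module.finrank R S.X₁ + Module.finrank R S.X₃ := by
      rw [e.finrank_eq, Module.finrank_prod]
    simp only [φ, map_sub, FreeAbelianGroup.lift_apply_of, he]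
    push_cast
    ring
  let ψ : KZero.K0sub (Q R) →+ ℤ := QuotientAddGroup.lift _ φ hφ
  have h1 : ψ (KZero.clSub (Q R) (ModuleCat.of R R)) = 1 := by
    rw [cl_eq_mk _ qSelf]
    simp [ψ, φ]
  have hgen : ∀ x, (ψ x) • KZero.clSub (Q R) (ModuleCat.of R R) = x := by
    intro x
    obtain ⟨x, rfl⟩ := QuotientAddGroup.mk_surjective x
    induction x using FreeAbelianGroup.induction_on with
    | zero => simp
    | of M =>
      haveI := hfree M
      haveI := M.2.1
      rw [← cl_eq_mk M.1 M.2, ← cl_congr (B := M.1) (qPi _) M.2 (Module.finBasis R M.1).equivFun.symm |> Eq.symm,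
        cl_pi]
      rw [show ψ (Module.finrank R M.1 • KZero.clSub (Q R) (ModuleCat.of R R)) = (Module.finrank R M.1 : ℤ) by
        rw [map_nsmul, h1, nsmul_eq_mul, mul_one], natCast_zsmul]
    | neg M ih => rw [QuotientAddGroup.mk_neg, map_neg, neg_smul, ih]
    | add a b ha hb => rw [QuotientAddGroup.mk_add, map_add, add_smul, ha, hb]
  refine ⟨AddEquiv.ofBijective ψ ⟨fun a b hab => by rw [← hgen a, ← hgen b, hab],
    fun n => ⟨n • KZero.clSub (Q R) (ModuleCat.of R R), by rw [map_zsmul, h1, smul_eq_mul, mul_one]⟩⟩, h1⟩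

end Groth.Agent.S6311
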