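import Groth.Statements.S6312
import Mathlib

set_option autoImplicit false
set_option linter.style.haveILetI false
set_option linter.style.longLine false
universe u
open CAlg

namespace Groth.Agent.S6312

/-- Let R be a ring, M an R-module and S ⊆ R a multiplicative subset. Then length_{S⁻¹R}(S⁻¹M) ≤
length_R(M). -/
theorem result {R : Type u} [CommRing R] (S : Submonoid R) (M : Type u) [AddCommGroup M] [Module R M] : Module.length (Localization S) (LocalizedModule S M) ≤ Module.length R M := by
  rw [Module.length_eq_height, Module.length_eq_height]
  let mk := LocalizedModule.mkLinearMap S M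
  let F : Submodule (Localization S) (LocalizedModule S M) → Submodule R M := fun N => (N.restrictScalars R).comap mk
  have hF : StrictMono F := by
    refine Monotone.strictMono_of_injective (fun N N' h x hx => h hx) fun N N' h => ?_
    have hkey : ∀ N N' : Submodule (Localization S) (LocalizedModule S M), F N ≤ F N' → N ≤ N' := by
      intro N N' h z hz
      induction z using LocalizedModule.induction_on with
      | h m s =>
        have h1 : mk m ∈ N := by
          have := N.smul_mem (Localization.mk (s : R) 1) hz
          rwa [LocalizedModule.mk_smul_mk, one_mul, ← Submonoid.smul_def, LocalizedModule.mk_cancel] at this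
        have h2 := N'.smul_mem (Localization.mk 1 s) (show mk m ∈ N' from h h1)
        rwa [show mk m = LocalizedModule.mk m 1 from rfl, LocalizedModule.mk_smul_mk, one_smul, mul_one] at h2
    exact le_antisymm (hkey _ _ h.le) (hkey _ _ h.ge)
  have hFtop : F ⊤ = ⊤ := by simp [F]
  rw [← hFtop]
  exact Order.height_le_height_apply_of_strictMono F hF ⊤

end Groth.Agent.S6312
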