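import Groth.Statements.S6318
import Mathlib
import Groth.Agent.TorMod7.Syzygy

set_option autoImplicit false
universe u
open CategoryTheory
open CAlg

namespace Groth.Agent.S6318

/-- Let R be a Noetherian ring and M a finite R-module. Then M has a resolution … → F₂ → F₁ → F₀ → M → 0
with every Fᵢ finite free; stated as the existence of a projective resolution of M in the category
of R-modules all of whose terms are finite free. -/
theorem result (R : Type u) [CommRing R] [IsNoetherianRing R] (M : Type u) [AddCommGroup M] [Module R M] [Module.Finite R M] : ∃ F : ProjectiveResolution (ModuleCat.of R M), ∀ n : ℕ, Module.Finite R (F.complex.X n) ∧ Module.Free R (F.complex.X n) := by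
  classical
  let T := {X : ModuleCat.{u} R // Module.Finite R X}
  have hstep : ∀ X : T, ∃ (m : ℕ) (p : (Fin m → R) →ₗ[R] X.1), Function.Surjective p := fun X =>
    haveI := X.2
    Module.Finite.exists_fin' R X.1
  choose m p hp using hstep
  let next : T → T := fun X => ⟨ModuleCat.of R (LinearMap.ker (p X)),
    Module.Finite.iff_fg.mpr (IsNoetherian.noetherian _)⟩
  let K : ℕ → T := fun n => Nat.rec (⟨ModuleCat.of R M, inferInstance⟩ : T) (fun _ X => next X) n
  let D : Groth.Agent.TorMod7.SyzygyData (ModuleCat.{u} R) :=
    { K := fun n => (K n).1
      P := fun n => ModuleCat.of R (Fin (m (K n)) → R)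
      proj := fun n => (IsProjective.iff_projective (R := R) (P := Fin (m (K n)) → R)).1 inferInstance
      ι := fun n => ModuleCat.ofHom (LinearMap.ker (p (K n))).subtype
      p := fun n => ModuleCat.ofHom (p (K n))
      w := fun n => ModuleCat.hom_ext (LinearMap.ext fun x => x.2)
      shortExact := fun n => ModuleCat.shortComplex_shortExact _
        (LinearMap.exact_subtype_ker_map _) (LinearMap.ker (p (K n))).injective_subtype (hp _) }
  refine ⟨D.resolution, fun n => ?_⟩
  show Module.Finite R (Fin (m (K n)) → R) ∧ Module.Free R (Fin (m (K n)) → R)
  exact ⟨inferInstance, inferInstance⟩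

end Groth.Agent.S6318
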