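import Groth.Statements.S6319
import Mathlib

set_option autoImplicit false
universe u
open CategoryTheory
open CAlg

namespace Groth.Agent.S6319

/-- Let R be an Artinian local ring. The length function defines a homomorphism of abelian groups
length_R : K'₀(R) → ℤ on the Grothendieck group of finite R-modules, sending the class of a finite
module M to its (finite) length. -/
theorem result (R : Type u) [CommRing R] [IsArtinianRing R] [IsLocalRing R] : ∃ φ : KZero.K0sub (fun M : ModuleCat.{u} R => Module.Finite R M) →+ ℤ, ∀ (M : ModuleCat.{u} R), Module.Finite R M → (φ (KZero.clSub (fun M : ModuleCat.{u} R => Module.Finite R M) M) : ℤ) = (Module.length R M).toNat := by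
  let φ : FreeAbelianGroup (Subtype fun M : ModuleCat.{u} R => Module.Finite R M) →+ ℤ :=
    FreeAbelianGroup.lift fun M => ((Module.length R M.1).toNat : ℤ)
  have hfin : ∀ M : ModuleCat.{u} R, Module.Finite R M → Module.length R M ≠ ⊤ := fun M hM =>
    Module.length_ne_top_iff.mpr (isFiniteLength_iff_isNoetherian_isArtinian.mpr ⟨inferInstance, inferInstance⟩)
  have hφ : KZero.relSub (fun M : ModuleCat.{u} R => Module.Finite R M) ≤ φ.ker := by
    refine (AddSubgroup.closure_le _).2 ?_
    rintro _ ⟨S, h1, h2, h3, hS, rfl⟩
    show φ _ = 0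
    have he : Module.length R S.X₂ = Module.length R S.X₁ + Module.length R S.X₃ :=
      Module.length_eq_add_of_exact S.f.hom S.g.hom hS.moduleCat_injective_f hS.moduleCat_surjective_g
        (ShortComplex.ShortExact.moduleCat_exact_iff_function_exact (S := S) |>.1 hS.exact)
    simp only [φ, map_sub, FreeAbelianGroup.lift_apply_of, he, ENat.toNat_add (hfin _ h1) (hfin _ h3)]
    push_cast
    ring
  refine ⟨QuotientAddGroup.lift _ φ hφ, fun M hM => ?_⟩
  simp only [KZero.clSub, dif_pos hM, QuotientAddGroup.lift_mk, φ, FreeAbelianGroup.lift_apply_of]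

end Groth.Agent.S6319
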