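import Groth.Statements.S6321
import Mathlib
open TensorProduct

set_option autoImplicit false
universe u
open CAlg

namespace Groth.Agent.S6321

/-- Let R be a ring and (Sᵢ, φᵢⱼ) a directed system of faithfully flat R-algebras whose transition maps
are R-algebra maps. Then S = colim Sᵢ is a faithfully flat R-algebra: for any index i the composite
R → Sᵢ → S is faithfully flat. -/
theorem result {R : Type u} [CommRing R] {ι : Type u} [Preorder ι] [Nonempty ι] [IsDirected ι (· ≤ ·)] (G : ι → Type u) [∀ i, CommRing (G i)] [∀ i, Algebra R (G i)] (f : ∀ i j, i ≤ j → G i →+* G j) [DirectedSystem G fun i j h => f i j h] (hcompat : ∀ i j (h : i ≤ j), (f i j h).comp (algebraMap R (G i)) = algebraMap R (G j)) (hff : ∀ i, (algebraMap R (G i)).FaithfullyFlat) (i : ι) : ((Ring.DirectLimit.of G (fun i j h => f i j h) i).comp (algebraMap R (G i))).FaithfullyFlat := by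
  let φ := (Ring.DirectLimit.of G (fun i j h => f i j h) i).comp (algebraMap R (G i))
  show φ.FaithfullyFlat
  letI : Algebra R (Ring.DirectLimit G fun i j h => f i j h) := φ.toAlgebra
  show Module.FaithfullyFlat R (Ring.DirectLimit G fun i j h => f i j h)
  have hG : ∀ k, Module.FaithfullyFlat R (G k) := fun k => RingHom.faithfullyFlat_algebraMap_iff.mp (hff k)
  let o : ∀ k, G k →ₐ[R] Ring.DirectLimit G fun i j h => f i j h := fun k =>
    { Ring.DirectLimit.of G (fun i j h => f i j h) k with
      commutes' := fun r => by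
        obtain ⟨l, hkl, hil⟩ := exists_ge_ge k i
        show Ring.DirectLimit.of G (fun i j h => f i j h) k (algebraMap R (G k) r) =
          Ring.DirectLimit.of G (fun i j h => f i j h) i (algebraMap R (G i) r)
        rw [← Ring.DirectLimit.of_f (f := fun i j h => f i j h) hkl, ← Ring.DirectLimit.of_f (f := fun i j h => f i j h) hil]
        exact congrArg _ ((RingHom.congr_fun (hcompat _ _ hkl) r).trans (RingHom.congr_fun (hcompat _ _ hil) r).symm) }
  let t : ∀ k l, k ≤ l → G k →ₐ[R] G l := fun k l h =>
    { f k l h with commutes' := fun r => RingHom.congr_fun (hcompat k l h) r }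
  have hot : ∀ k l (h : k ≤ l), (o l).comp (t k l h) = o k := fun k l h =>
    AlgHom.ext fun x => Ring.DirectLimit.of_f (f := fun i j h => f i j h) h x
  have hzero : ∀ k (x : G k), o k x = 0 → ∃ (l : ι) (h : k ≤ l), t k l h x = 0 := fun k x hx =>
    Ring.DirectLimit.of.zero_exact (f' := f) hx
  haveI : Module.Flat R (Ring.DirectLimit G fun i j h => f i j h) := by
    rw [Module.Flat.iff_rTensor_injective']
    intro J
    rw [injective_iff_map_eq_zero]
    intro x hx
    have hst : ∀ x : J ⊗[R] (Ring.DirectLimit G fun i j h => f i j h),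
        ∃ k y, x = (o k).toLinearMap.lTensor J y := by
      intro x
      induction x with
      | zero => exact ⟨i, 0, (map_zero _).symm⟩
      | tmul a s =>
        obtain ⟨k, z, rfl⟩ := Ring.DirectLimit.exists_of s
        exact ⟨k, a ⊗ₜ z, rfl⟩
      | add a b ha hb =>
        obtain ⟨k, y, rfl⟩ := ha
        obtain ⟨k', y', rfl⟩ := hb
        obtain ⟨l, hkl, hkl'⟩ := exists_ge_ge k k'
        refine ⟨l, (t k l hkl).toLinearMap.lTensor J y + (t k' l hkl').toLinearMap.lTensor J y', ?_⟩
        rw [map_add, ← LinearMap.lTensor_comp_apply, ← LinearMap.lTensor_comp_apply,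
          ← AlgHom.comp_toLinearMap, ← AlgHom.comp_toLinearMap, hot, hot]
    obtain ⟨k, y, rfl⟩ := hst x
    have hy : o k (TensorProduct.lid R (G k) (J.subtype.rTensor (G k) y)) = 0 := by
      have : (TensorProduct.lid R _).toLinearMap ∘ₗ J.subtype.rTensor _ ∘ₗ (o k).toLinearMap.lTensor J =
          (o k).toLinearMap ∘ₗ (TensorProduct.lid R (G k)).toLinearMap ∘ₗ J.subtype.rTensor (G k) := by
        ext a z; simp
      have h2 := LinearMap.congr_fun this y
      simp only [LinearMap.comp_apply, LinearEquiv.coe_coe, hx, map_zero] at h2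
      exact h2.symm
    obtain ⟨l, hkl, hl⟩ := hzero k _ hy
    have : (t k l hkl).toLinearMap.lTensor J y = 0 := by
      haveI := hG l
      apply (TensorProduct.lid R (G l)).injective.comp
        (Module.Flat.rTensor_preserves_injective_linearMap (M := G l) J.subtype J.injective_subtype)
      have : (TensorProduct.lid R _).toLinearMap ∘ₗ J.subtype.rTensor _ ∘ₗ (t k l hkl).toLinearMap.lTensor J =
          (t k l hkl).toLinearMap ∘ₗ (TensorProduct.lid R (G k)).toLinearMap ∘ₗ J.subtype.rTensor (G k) := by
        ext a z; simp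
      have h2 := LinearMap.congr_fun this y
      simp only [LinearMap.comp_apply, LinearEquiv.coe_coe] at h2
      simp only [Function.comp_apply, map_zero]
      rw [h2]
      exact hl
    rw [← hot k l hkl, AlgHom.comp_toLinearMap, LinearMap.lTensor_comp_apply, this, map_zero]
  refine ⟨fun m hm htop => ?_⟩
  have hst : ∀ x ∈ m • (⊤ : Submodule R (Ring.DirectLimit G fun i j h => f i j h)),
      ∃ k, ∃ y ∈ m • (⊤ : Submodule R (G k)), o k y = x := by
    intro x hx
    refine Submodule.smul_induction_on hx (fun a ha s _ => ?_) ?_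
    · obtain ⟨k, z, rfl⟩ := Ring.DirectLimit.exists_of s
      exact ⟨k, a • z, Submodule.smul_mem_smul ha Submodule.mem_top, map_smul (o k) a z⟩
    · rintro a b ⟨k, y, hy, rfl⟩ ⟨k', y', hy', rfl⟩
      obtain ⟨l, hkl, hkl'⟩ := exists_ge_ge k k'
      refine ⟨l, t k l hkl y + t k' l hkl' y', add_mem ?_ ?_, ?_⟩
      · exact Submodule.smul_induction_on hy (fun a ha z _ => by
          rw [map_smul]; exact Submodule.smul_mem_smul ha Submodule.mem_top)
          (fun u v hu hv => by rw [map_add]; exact add_mem hu hv)
      · exact Submodule.smul_induction_on hy' (fun a ha z _ => by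
          rw [map_smul]; exact Submodule.smul_mem_smul ha Submodule.mem_top)
          (fun u v hu hv => by rw [map_add]; exact add_mem hu hv)
      · rw [map_add, ← AlgHom.comp_apply, ← AlgHom.comp_apply, hot, hot]
  obtain ⟨k, y, hy, hy1⟩ := hst 1 (by rw [htop]; exact Submodule.mem_top)
  obtain ⟨l, hkl, hl⟩ := hzero k (y - 1) (by rw [map_sub, hy1, map_one, sub_self])
  have h1 : (1 : G l) ∈ m • (⊤ : Submodule R (G l)) := by
    rw [map_sub, map_one, sub_eq_zero] at hl
    rw [← hl]
    exact Submodule.smul_induction_on hy (fun a ha z _ => by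
      rw [map_smul]; exact Submodule.smul_mem_smul ha Submodule.mem_top)
      (fun u v hu hv => by rw [map_add]; exact add_mem hu hv)
  refine (hG l).submodule_ne_top hm (top_unique fun z _ => ?_)
  rw [Ideal.smul_top_eq_map] at h1 ⊢
  rw [Submodule.restrictScalars_mem] at h1 ⊢
  rw [(Ideal.eq_top_iff_one _).mpr h1]; trivial

end Groth.Agent.S6321
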