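import Groth.Statements.S6322
import Mathlib

set_option autoImplicit false
universe u
open CategoryTheory
open CAlg

namespace Groth.Agent.S6322

/-- Let R be a ring, M → N a map of R-modules, N• → N a resolution (a chain complex with a
quasi-isomorphism onto N placed in degree 0) and … → F₁ → F₀ → M a complex with every Fᵢ free (F• a
chain complex with an augmentation to M in degree 0, exactness not required). Then (1) there is a
map of complexes F• → N• compatible with M → N through the augmentations, and (2) any two such maps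
are homotopic. -/
theorem result (R : Type u) [CommRing R] (M N : ModuleCat.{u} R) (g : M ⟶ N) (F Nc : ChainComplex (ModuleCat.{u} R) ℕ) (hF : ∀ i, Module.Free R (F.X i)) (εF : F ⟶ (ChainComplex.single₀ (ModuleCat.{u} R)).obj M) (εN : Nc ⟶ (ChainComplex.single₀ (ModuleCat.{u} R)).obj N) [QuasiIso εN] : (∃ φ : F ⟶ Nc, φ ≫ εN = εF ≫ (ChainComplex.single₀ (ModuleCat.{u} R)).map g) ∧ ∀ α β : F ⟶ Nc, α ≫ εN = εF ≫ (ChainComplex.single₀ (ModuleCat.{u} R)).map g → β ≫ εN = εF ≫ (ChainComplex.single₀ (ModuleCat.{u} R)).map g → Nonempty (Homotopy α β) := by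
  have hproj : ∀ i, Projective (F.X i) := fun i =>
    haveI := hF i
    (IsProjective.iff_projective (R := R) (P := F.X i)).1 inferInstance
  have hsucc : ∀ n, (ShortComplex.mk _ _ (Nc.d_comp_d (n + 2) (n + 1) n)).Exact := fun n => by
    have : Nc.ExactAt (n + 1) := by
      rw [← quasiIsoAt_iff_exactAt' εN (n + 1) (ChainComplex.exactAt_succ_single_obj _ _)]
      infer_instance
    exact ((HomologicalComplex.exactAt_iff' _ (n + 2) (n + 1) n) (by simp) (by simp)).1 this
  have hεd : Nc.d 1 0 ≫ εN.f 0 = 0 := by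
    rw [← εN.comm 1 0, HomologicalComplex.single_obj_d, Limits.comp_zero]
  have hq : QuasiIsoAt εN 0 := inferInstance
  rw [ChainComplex.quasiIsoAt₀_iff] at hq
  have hq' := (ShortComplex.quasiIso_iff_of_zeros' _ (by simp <;> rfl) (by simp <;> rfl) (by simp <;> rfl)).mp hq
  have h0 : (ShortComplex.mk (Nc.d 1 0) (εN.f 0) hεd).Exact := hq'.1
  haveI : Epi (εN.f 0) := hq'.2
  have hFd : F.d 1 0 ≫ εF.f 0 = 0 := by
    rw [← εF.comm 1 0, HomologicalComplex.single_obj_d, Limits.comp_zero]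
  refine ⟨?_, fun α β hα hβ => ?_⟩
  · let g0 := ((ChainComplex.single₀ (ModuleCat.{u} R)).map g).f 0
    let f0 := Projective.factorThru (εF.f 0 ≫ g0) (εN.f 0)
    have hf0 : f0 ≫ εN.f 0 = εF.f 0 ≫ g0 := Projective.factorThru_comp _ _
    let f1 : F.X 1 ⟶ Nc.X 1 := h0.liftFromProjective (F.d 1 0 ≫ f0)
      (by simp only [Category.assoc, hf0]; rw [← Category.assoc, hFd, Limits.zero_comp])
    have hf1 : f1 ≫ Nc.d 1 0 = F.d 1 0 ≫ f0 := h0.liftFromProjective_comp _ _
    refine ⟨ChainComplex.mkHom F Nc f0 f1 hf1 fun n p =>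
      ⟨(hsucc n).liftFromProjective (F.d (n + 2) (n + 1) ≫ p.2.1)
        (by show (_ ≫ _) ≫ Nc.d (n + 1) n = 0; rw [Category.assoc, p.2.2, ← Category.assoc, F.d_comp_d, Limits.zero_comp]),
        (hsucc n).liftFromProjective_comp _ _⟩, ?_⟩
    refine HomologicalComplex.to_single_hom_ext ?_
    simpa [g0] using hf0
  · let f := α - β
    have hf : f.f 0 ≫ εN.f 0 = 0 := by
      have e1 := congrArg (fun t => HomologicalComplex.Hom.f t 0) (hα.trans hβ.symm)
      simp only [HomologicalComplex.comp_f] at e1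
      show (α.f 0 - β.f 0) ≫ εN.f 0 = 0
      rw [Preadditive.sub_comp]; exact sub_eq_zero.mpr e1
    let z0 : F.X 0 ⟶ Nc.X 1 := h0.liftFromProjective (f.f 0) hf
    have hz0 : z0 ≫ Nc.d 1 0 = f.f 0 := h0.liftFromProjective_comp _ _
    let z1 : F.X 1 ⟶ Nc.X 2 := (hsucc 0).liftFromProjective (f.f 1 - F.d 1 0 ≫ z0)
      (by show (_ - _) ≫ Nc.d 1 0 = 0; rw [Preadditive.sub_comp, Category.assoc, hz0, f.comm, sub_self])
    have hz1 : z1 ≫ Nc.d 2 1 = f.f 1 - F.d 1 0 ≫ z0 := (hsucc 0).liftFromProjective_comp _ _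
    refine ⟨Homotopy.equivSubZero.invFun (Homotopy.mkInductive f z0 hz0.symm z1 (by rw [hz1]; abel)
      fun n ⟨u, v, hw⟩ => ⟨(hsucc (n + 1)).liftFromProjective (f.f (n + 2) - F.d (n + 2) (n + 1) ≫ v)
        (by
          show (_ - _) ≫ Nc.d (n + 2) (n + 1) = 0
          rw [Preadditive.sub_comp, Category.assoc, f.comm]
          rw [hw, Preadditive.comp_add, ← Category.assoc _ (F.d (n + 1) n), F.d_comp_d, Limits.zero_comp, zero_add, sub_self]), ?_⟩)⟩
    rw [ShortComplex.Exact.liftFromProjective_comp]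
    abel

end Groth.Agent.S6322
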