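import Groth.Statements.S6323
import Mathlib
open TensorProduct

set_option autoImplicit false
universe u
open CAlg

namespace Groth.Agent.S6323

/-- Let A → B be a ring homomorphism and S ⊆ A, S' ⊆ B multiplicative subsets with S carried into S', so
that there is an induced homomorphism S⁻¹A → (S')⁻¹B. For a linear map f : M → M' between
(S')⁻¹B-modules, f is universally injective over A (scalars restricted along A → (S')⁻¹B) precisely
when it is universally injective over S⁻¹A (scalars restricted along S⁻¹A → (S')⁻¹B). -/
theorem result {A B : Type u} [CommRing A] [CommRing B] [Algebra A B] (S : Submonoid A) (S' : Submonoid B) (hSS' : ∀ s ∈ S, algebraMap A B s ∈ S') (As Bs : Type u) [CommRing As] [CommRing Bs] [Algebra A As] [IsLocalization S As] [Algebra B Bs] [IsLocalization S' Bs] [Algebra As Bs] [Algebra A Bs] [IsScalarTower A B Bs] [IsScalarTower A As Bs] {M M' : Type u} [AddCommGroup M] [AddCommGroup M'] [Module Bs M] [Module Bs M'] [Module As M] [Module As M'] [Module A M] [Module A M'] [IsScalarTower As Bs M] [IsScalarTower As Bs M'] [IsScalarTower A As M] [IsScalarTower A As M'] [IsScalarTower A Bs M] [IsScalarTower A Bs M'] (f : M →ₗ[Bs]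 M') : CAlgX.UniversallyInjective A (f.restrictScalars A) ↔ CAlgX.UniversallyInjective As (f.restrictScalars As) := by
  let f0 : M →ₗ[As] M' := f.restrictScalars As
  constructor
  · intro h Q _ _
    letI : Module A Q := Module.compHom Q (algebraMap A As)
    haveI : IsScalarTower A As Q := .of_algebraMap_smul fun _ _ => rfl
    let e := IsLocalization.moduleTensorEquiv S As M Q
    let e' := IsLocalization.moduleTensorEquiv S As M' Q
    have key : ∀ x, e' (f0.rTensor Q x) = (f.restrictScalars A).rTensor Q (e x) := by
      intro x
      induction x with
      | zero => simp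
      | add a b ha hb => simp [map_add, ha, hb]
      | tmul m q => rfl
    intro x y hxy
    exact e.injective (h Q (by rw [← key, ← key]; exact congrArg e' hxy))
  · intro h Q _ _
    let e := AlgebraTensorModule.cancelBaseChange A As As M Q
    let e' := AlgebraTensorModule.cancelBaseChange A As As M' Q
    have key : ∀ x, e' (f0.rTensor (As ⊗[A] Q) x) = (f.restrictScalars A).rTensor Q (e x) := by
      intro x
      induction x with
      | zero => simp
      | add a b ha hb => simp [map_add, ha, hb]
      | tmul m q =>
        induction q with
        | zero => simp
        | add a b ha hb => simp only [TensorProduct.tmul_add, map_add, ha, hb]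
        | tmul a q =>
          simp only [LinearMap.rTensor_tmul, e, e', AlgebraTensorModule.cancelBaseChange_tmul]
          rw [show (f.restrictScalars A) (a • m) = a • f0 m from f0.map_smul a m]
    intro x y hxy
    obtain ⟨x, rfl⟩ := e.surjective x
    obtain ⟨y, rfl⟩ := e.surjective y
    rw [← key, ← key] at hxy
    exact congrArg e (h (As ⊗[A] Q) (e'.injective hxy))

end Groth.Agent.S6323
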