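import Groth.Statements.S6325
import Groth.Agent.IntIdeal3.Basic

set_option autoImplicit false
universe u
open CAlg

namespace Groth.Agent.S6325

/-- Let R → S be a ring map and I ⊆ R an ideal. The elements of S integral over I form an R-submodule of
S; moreover, the product s s' is integral over I for any s ∈ S integral over R and any s' ∈ S
integral over I. -/
theorem result {R S : Type u} [CommRing R] [CommRing S] [Algebra R S] (I : Ideal R) : (∃ N : Submodule R S, ∀ s : S, s ∈ N ↔ W4stkalgebra1.IsIntegralOverIdeal I s) ∧ (∀ s s' : S, IsIntegral R s → W4stkalgebra1.IsIntegralOverIdeal I s' → W4stkalgebra1.IsIntegralOverIdeal I (s * s')) := by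
  exact ⟨Groth.Agent.IntIdeal3.exists_submodule I, fun s s' hs h => Groth.Agent.IntIdeal3.smul_mem I hs h⟩

end Groth.Agent.S6325
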