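import Groth.Statements.S6330
import Mathlib
open TensorProduct

set_option autoImplicit false
universe u
open scoped TensorProduct
open CAlg

namespace Groth.Agent.S6330

/-- Let R be a ring and φ : P₁ → P₂ a map of finite projective R-modules. The set W of primes p of R
such that φ ⊗ κ(p) is surjective is open, and for every f ∈ R with D(f) ⊆ W the map (P₁)_f → (P₂)_f
is surjective and Ker(φ)_f is a finite projective module over R_f. -/
theorem result {R : Type u} [CommRing R] {P₁ P₂ : Type u} [AddCommGroup P₁] [Module R P₁] [AddCommGroup P₂] [Module R P₂] [Module.Finite R P₁] [Module.Projective R P₁] [Module.Finite R P₂] [Module.Projective R P₂] (φ : P₁ →ₗ[R] P₂) : IsOpen {p : PrimeSpectrum R | Function.Surjective (φ.lTensor p.asIdeal.ResidueField)} ∧ ∀ f : R, (↑(PrimeSpectrum.basicOpen f) : Set (PrimeSpectrum R)) ⊆ {p : PrimeSpectrum R | Function.Surjective (φ.lTensor p.asIdeal.ResidueField)} → Function.Surjective (LocalizedModule.map (Submonoid.powers f) φ) ∧ Module.Finite (Localization.Away f) (LocalizedModule (Submonoid.powers f) (LinearMap.ker φ)) ∧ Module.Projective (Localization.Away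 f) (LocalizedModule (Submonoid.powers f) (LinearMap.ker φ)) := by
  let C := P₂ ⧸ LinearMap.range φ
  have hex : Function.Exact φ (LinearMap.range φ).mkQ := LinearMap.exact_map_mkQ_range φ
  have hiff : ∀ p : PrimeSpectrum R, Function.Surjective (φ.lTensor p.asIdeal.ResidueField) ↔ p ∉ Module.support R C := by
    intro p
    have h1 := lTensor_exact p.asIdeal.ResidueField hex (LinearMap.range φ).mkQ_surjective
    have h2 := LinearMap.lTensor_surjective p.asIdeal.ResidueField (LinearMap.range φ).mkQ_surjective
    rw [Module.mem_support_iff_nontrivial_residueField_tensorProduct, not_nontrivial_iff_subsingleton]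
    constructor
    · intro hs
      refine ⟨fun a b => ?_⟩
      obtain ⟨x, rfl⟩ := h2 a
      obtain ⟨y, rfl⟩ := h2 b
      rw [(h1 x).mpr (hs x), (h1 y).mpr (hs y)]
    · intro hs x
      exact (h1 x).mp (Subsingleton.elim _ _)
  refine ⟨?_, fun f hf => ?_⟩
  · rw [show {p : PrimeSpectrum R | Function.Surjective (φ.lTensor p.asIdeal.ResidueField)} = (Module.support R C)ᶜ from Set.ext hiff]
    exact Module.isClosed_support.isOpen_compl
  let S := Submonoid.powers f
  haveI : Subsingleton (LocalizedModule S C) := by
    refine LocalizedModule.subsingleton_iff_support_subset.mpr fun p hp => ?_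
    by_contra hne
    exact (hiff p).mp (hf (by simpa [PrimeSpectrum.mem_zeroLocus] using hne)) hp
  have hsurj : Function.Surjective (LocalizedModule.map S φ) := fun y =>
    ((IsLocalizedModule.map_exact S (LocalizedModule.mkLinearMap S P₁) (LocalizedModule.mkLinearMap S P₂)
      (LocalizedModule.mkLinearMap S C) φ (LinearMap.range φ).mkQ hex) y).mp (Subsingleton.elim _ _)
  let i := LocalizedModule.map S (LinearMap.ker φ).subtype
  have hi : Function.Injective i :=
    IsLocalizedModule.map_injective S (LocalizedModule.mkLinearMap S (LinearMap.ker φ))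
      (LocalizedModule.mkLinearMap S P₁) _ (LinearMap.ker φ).injective_subtype
  have hiex : Function.Exact i (LocalizedModule.map S φ) :=
    IsLocalizedModule.map_exact S (LocalizedModule.mkLinearMap S (LinearMap.ker φ))
      (LocalizedModule.mkLinearMap S P₁) (LocalizedModule.mkLinearMap S P₂) _ φ (LinearMap.exact_subtype_ker_map φ)
  obtain ⟨l, hl⟩ := Module.projective_lifting_property (LocalizedModule.map S φ) LinearMap.id hsurj
  have hmem : ∀ x, ∃ k, i k = x - l (LocalizedModule.map S φ x) := fun x => (hiex _).mp (by
    rw [map_sub, show LocalizedModule.map S φ (l (LocalizedModule.map S φ x)) = LocalizedModule.map S φ x from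
      LinearMap.congr_fun hl _, sub_self])
  choose r hr using hmem
  let ρ : LocalizedModule S P₁ →ₗ[Localization S] LocalizedModule S (LinearMap.ker φ) :=
    { toFun := r
      map_add' := fun a b => hi (by simp only [hr, map_add]; abel)
      map_smul' := fun c a => hi (by simp only [hr, map_smul, RingHom.id_apply, smul_sub]) }
  have hρ : ρ ∘ₗ i = LinearMap.id := LinearMap.ext fun k => hi (by
    show i (r (i k)) = i k
    rw [hr, hiex.apply_apply_eq_zero, map_zero, sub_zero])
  refine ⟨hsurj, ?_, ?_⟩
  · exact Module.Finite.of_surjective ρ fun k => ⟨i k, LinearMap.congr_fun hρ k⟩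
  · exact Module.Projective.of_split i ρ hρ

end Groth.Agent.S6330
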