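import Groth.Statements.S6331
import Mathlib

set_option autoImplicit false
universe u
open CAlg

namespace Groth.Agent.S6331

/-- Let R be a ring, I ⊆ R an ideal all of whose elements are nilpotent, and n ≥ 1 an integer whose
image in R/I is invertible. Then (1) raising to the n-th power is a bijection of the subset 1 + I of
R onto itself: for every y ∈ I there is exactly one x ∈ I with (1 + x)ⁿ = 1 + y; (2) a unit u of R
has an n-th root in R exactly when the residue class of u has an n-th root in R/I. -/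
theorem result {R : Type u} [CommRing R] (I : Ideal R) (hI : ∀ x ∈ I, IsNilpotent x) (n : ℕ) (hn : 1 ≤ n) (hinv : IsUnit ((n : ℕ) : R ⧸ I)) : (∀ y ∈ I, ∃! x : R, x ∈ I ∧ (1 + x) ^ n = 1 + y) ∧ (∀ u : Rˣ, (∃ v : R, v ^ n = (u : R)) ↔ ∃ w : R ⧸ I, w ^ n = Ideal.Quotient.mk I (u : R)) := by
  have hnr : IsUnit (n : R) := by
    obtain ⟨b, hb⟩ := Ideal.Quotient.mk_surjective (hinv.unit⁻¹ : (R ⧸ I)ˣ).1
    have : Ideal.Quotient.mk I ((n : R) * b) = 1 := by
      rw [map_mul, map_natCast, hb]; exact hinv.mul_val_inv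
    rw [← (Ideal.Quotient.mk I).map_one, Ideal.Quotient.mk_eq_mk_iff_sub_mem] at this
    have := (hI _ this).isUnit_add_one
    rw [sub_add_cancel] at this
    exact isUnit_of_mul_isUnit_left this
  have hroot : ∀ y ∈ I, ∃! x : R, x ∈ I ∧ (1 + x) ^ n = 1 + y := by
    intro y hy
    obtain ⟨r, ⟨hr1, hr2⟩, huniq⟩ := Polynomial.existsUnique_nilpotent_sub_and_aeval_eq_zero
      (P := (Polynomial.X ^ n - Polynomial.C (1 + y) : Polynomial R)) (x := (1 : R))
      (by simpa using (hI y hy)) (by simpa [Polynomial.derivative_X_pow] using hnr)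
    simp only [map_sub, map_pow, Polynomial.aeval_X, Polynomial.aeval_C, sub_eq_zero,
      Algebra.algebraMap_self, RingHom.id_apply] at hr2 huniq
    refine ⟨r - 1, ⟨?_, ?_⟩, fun x ⟨hx, hx'⟩ => ?_⟩
    · have hnil : IsNilpotent (r - 1) := by rw [← neg_sub]; exact hr1.neg
      have hu : IsUnit (∑ i ∈ Finset.range n, r ^ i) := by
        have : (∑ i ∈ Finset.range n, r ^ i) - n = (r - 1) * ∑ i ∈ Finset.range n, ∑ j ∈ Finset.range i, r ^ j := by
          rw [Finset.mul_sum]; simp_rw [mul_geom_sum]; simp [Finset.sum_sub_distrib]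
        rw [show (∑ i ∈ Finset.range n, r ^ i) = (n : R) + ((∑ i ∈ Finset.range n, r ^ i) - n) by ring, this]
        exact IsNilpotent.isUnit_add_left_of_commute ((Commute.all _ _).isNilpotent_mul_right hnil) hnr
          (Commute.all _ _)
      have := geom_sum_mul r n
      rw [hr2, add_sub_cancel_left] at this
      exact (Ideal.unit_mul_mem_iff_mem I hu).mp (this ▸ hy)
    · rw [add_sub_cancel, hr2]
    · rw [← huniq (1 + x) ⟨by simpa using hI x hx, hx'⟩]; ring
  refine ⟨hroot, fun u => ⟨fun ⟨v, hv⟩ => ⟨Ideal.Quotient.mk I v, by rw [← map_pow, hv]⟩, fun ⟨w, hw⟩ => ?_⟩⟩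
  obtain ⟨v, rfl⟩ := Ideal.Quotient.mk_surjective w
  rw [← map_pow, Ideal.Quotient.mk_eq_mk_iff_sub_mem] at hw
  have hv : IsUnit (v ^ n) := by
    rw [← sub_add_cancel (v ^ n) (u : R), add_comm]
    exact IsNilpotent.isUnit_add_left_of_commute (hI _ hw) u.isUnit (Commute.all _ _)
  have hy : (u : R) * hv.unit⁻¹ - 1 ∈ I := by
    have := I.mul_mem_left (-(hv.unit⁻¹ : Rˣ).1) hw
    convert this using 1
    linear_combination hv.val_inv_mul
  obtain ⟨x, ⟨-, hx⟩, -⟩ := hroot _ hy
  exact ⟨v * (1 + x), by rw [mul_pow, hx]; linear_combination (u : R) * hv.mul_val_inv⟩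

end Groth.Agent.S6331
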