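import Groth.Statements.S6334
import Mathlib.FieldTheory.PurelyInseparable.Basic
import Mathlib.FieldTheory.KummerPolynomial

set_option autoImplicit false
universe u
open Fields

namespace Groth.Agent.S6334

open IntermediateField in
/-- Let E/F be a finite purely inseparable extension of fields of characteristic p > 0. Then there are
elements a_1, ..., a_n of E generating E over F such that for each i the p-th power of a_i lies in
F(a_1, ..., a_{i-1}) while a_i itself does not (so each step adjoins a p-th root and has degree p);
in particular [E : F] = p ^ n. -/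
theorem result {F E : Type u} [Field F] [Field E] [Algebra F E] (p : ℕ)
    [Fact p.Prime] [CharP F p] [FiniteDimensional F E] [IsPurelyInseparable F E] :
    ∃ (n : ℕ) (a : Fin n → E), adjoin F (Set.range a) = ⊤ ∧
      (∀ i : Fin n, a i ^ p ∈ adjoin F (a '' {j | j < i}) ∧ a i ∉ adjoin F (a '' {j | j < i})) ∧
      Module.finrank F E = p ^ n := by
  classical
  have hp : p.Prime := Fact.out
  have : ExpChar F p := ExpChar.prime hp
  let Good : ∀ n, (Fin n → E) → Prop := fun n a =>
    (∀ i : Fin n, a i ^ p ∈ adjoin F (a '' {j | j < i}) ∧ a i ∉ adjoin F (a '' {j | j < i})) ∧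
      Module.finrank F (adjoin F (Set.range a)) = p ^ n
  have hbase : Good 0 ![] := by
    refine ⟨fun i => i.elim0, ?_⟩
    rw [Matrix.range_empty, adjoin_empty, pow_zero]
    exact IntermediateField.finrank_bot
  have hbound : ∀ n a, Good n a → n ≤ Module.finrank F E := fun n a h =>
    ((Nat.lt_pow_self hp.one_lt).le.trans h.2.ge).trans
      (Submodule.finrank_le (adjoin F (Set.range a)).toSubalgebra.toSubmodule)
  let N := Nat.findGreatest (fun n => ∃ a, Good n a) (Module.finrank F E)
  obtain ⟨a, ha⟩ : ∃ a, Good N a :=
    Nat.findGreatest_spec (P := fun n => ∃ a, Good n a) (Nat.zero_le _) ⟨![], hbase⟩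
  suffices htop : adjoin F (Set.range a) = ⊤ by
    refine ⟨N, a, htop, ha.1, ?_⟩
    have := ha.2
    rwa [htop, IntermediateField.finrank_top'] at this
  by_contra hne
  set L := adjoin F (Set.range a) with hL
  obtain ⟨b, hb⟩ : ∃ b, b ∉ L := by
    by_contra hcon
    push Not at hcon
    exact hne (eq_top_iff.2 fun x _ => hcon x)
  have hexp : ∃ n, b ^ p ^ n ∈ L := by
    obtain ⟨n, y, hy⟩ := IsPurelyInseparable.pow_mem F p b
    exact ⟨n, hy ▸ L.algebraMap_mem y⟩
  obtain ⟨m, hm⟩ : ∃ m, Nat.find hexp = m + 1 := by
    refine ⟨Nat.find hexp - 1, (Nat.succ_pred_eq_of_ne_zero fun h0 => hb ?_).symm⟩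
    have := Nat.find_spec hexp
    rwa [h0, pow_zero, pow_one] at this
  set c := b ^ p ^ m with hc
  have hcp : c ^ p ∈ L := by
    have := Nat.find_spec hexp
    rw [hm, pow_succ, pow_mul] at this
    exact this
  have hcn : c ∉ L := Nat.find_min hexp (by omega)
  have hrange : Set.range (Fin.snoc a c : Fin (N + 1) → E) = insert c (Set.range a) := by
    rw [Fin.range_snoc]
  have hgood : Good (N + 1) (Fin.snoc a c) := by
    refine ⟨fun i => ?_, ?_⟩
    · induction i using Fin.lastCases with
      | last =>
        have h1 : (Fin.snoc a c : Fin (N + 1) → E) '' {j | j < Fin.last N} = Set.range a := by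
          ext y
          constructor
          · rintro ⟨j, hj, rfl⟩
            obtain ⟨j, rfl⟩ := Fin.exists_castSucc_eq.2 (ne_of_lt hj)
            exact ⟨j, by rw [Fin.snoc_castSucc]⟩
          · rintro ⟨j, rfl⟩
            exact ⟨j.castSucc, Fin.castSucc_lt_last j, by rw [Fin.snoc_castSucc]⟩
        rw [h1, Fin.snoc_last]
        exact ⟨hcp, hcn⟩
      | cast i =>
        have h1 : (Fin.snoc a c : Fin (N + 1) → E) '' {j | j < i.castSucc} = a '' {j | j < i} := by
          ext y
          constructor
          · rintro ⟨j, hj, rfl⟩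
            obtain ⟨j, rfl⟩ := Fin.exists_castSucc_eq.2
              (ne_of_lt (lt_trans hj (Fin.castSucc_lt_last i)))
            exact ⟨j, Fin.castSucc_lt_castSucc_iff.1 hj, by rw [Fin.snoc_castSucc]⟩
          · rintro ⟨j, hj, rfl⟩
            exact ⟨j.castSucc, Fin.castSucc_lt_castSucc_iff.2 hj, by rw [Fin.snoc_castSucc]⟩
        rw [h1, Fin.snoc_castSucc]
        exact ha.1 i
    · rw [hrange, Set.insert_eq, Set.union_comm, ← adjoin_adjoin_left, ← hL]
      show Module.finrank F (L⟮c⟯.restrictScalars F) = _
      rw [pow_succ, ← ha.2]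
      have h2 : Module.finrank L L⟮c⟯ = p := by
        have hirr : Irreducible (Polynomial.X ^ p - Polynomial.C (⟨c ^ p, hcp⟩ : L)) := by
          refine X_pow_sub_C_irreducible_of_prime hp fun d hd => hcn ?_
          have : c = (d : E) := by
            have h3 := congrArg Subtype.val hd
            simp only [SubmonoidClass.coe_pow] at h3
            have : ExpChar E p := expChar_of_injective_algebraMap (algebraMap F E).injective p
            exact (frobenius_inj E p h3).symm
          rw [this]
          exact d.2
        have hmin : minpoly L c = Polynomial.X ^ p - Polynomial.C (⟨c ^ p, hcp⟩ : L) :=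
          (minpoly.eq_of_irreducible_of_monic hirr (by simp)
            (Polynomial.monic_X_pow_sub_C _ hp.ne_zero)).symm
        rw [adjoin.finrank (IsIntegral.of_finite L c), hmin, Polynomial.natDegree_X_pow_sub_C]
      have h3 := Module.finrank_mul_finrank F L L⟮c⟯
      rw [h2] at h3
      exact h3.symm
  have hle := hbound _ _ hgood
  exact absurd ⟨_, hgood⟩
    (Nat.findGreatest_is_greatest (P := fun n => ∃ a, Good n a) (lt_add_one N) hle)

end Groth.Agent.S6334
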