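import Groth.Statements.S6335
import Mathlib.FieldTheory.PurelyInseparable.PerfectClosure
import Mathlib.FieldTheory.IsAlgClosed.AlgebraicClosure

set_option autoImplicit false
universe u
open Fields

namespace Groth.Agent.S6335

/-- Let K be a field of characteristic p > 0, L/K a separable algebraic extension and a an element of L.
If a is a root of a polynomial P over K which is separable (pairwise distinct roots in an algebraic
closure) and all of whose coefficients are p-th powers in K, then a is a p-th power in L. (Part (1),
the case where P is the minimal polynomial of a, is a special case.) -/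
theorem result {K L : Type u} [Field K] [Field L] [Algebra K L]
    (p : ℕ) [Fact p.Prime] [CharP K p] [Algebra.IsSeparable K L] (a : L) (P : Polynomial K)
    (hroot : Polynomial.aeval a P = 0) (hsep : P.Separable) (hcoeff : ∀ i : ℕ, ∃ b : K, b ^ p = P.coeff i) :
    ∃ c : L, c ^ p = a := by
  classical
  have hp : p.Prime := Fact.out
  have : ExpChar K p := ExpChar.prime hp
  choose b hb using hcoeff
  let Ω := AlgebraicClosure L
  have : ExpChar Ω p := expChar_of_injective_algebraMap (algebraMap K Ω).injective p
  have : ExpChar L p := expChar_of_injective_algebraMap (algebraMap K L).injective p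
  let Q : Polynomial K := ∑ i ∈ Finset.range (P.natDegree + 1), Polynomial.monomial i (b i)
  have hQ : Q.map (frobenius K p) = P := by
    simp only [Q, Polynomial.map_sum, Polynomial.map_monomial, frobenius_def, hb]
    exact (P.as_sum_range' _ (Nat.lt_succ_self _)).symm
  have hQsep : Q.Separable := (Polynomial.separable_map (frobenius K p)).1 (hQ.symm ▸ hsep)
  obtain ⟨α, hα⟩ := IsAlgClosed.exists_pow_nat_eq (algebraMap L Ω a) hp.pos
  have hα0 : Polynomial.aeval α Q = 0 := by
    have h1 : Polynomial.aeval (α ^ p) P = (Polynomial.aeval α Q) ^ p := by
      rw [← hQ, Polynomial.aeval_def, Polynomial.aeval_def, Polynomial.eval₂_map,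
        show (algebraMap K Ω).comp (frobenius K p) = (frobenius Ω p).comp (algebraMap K Ω) from
          RingHom.ext fun x => map_pow (algebraMap K Ω) x p, ← frobenius_def,
        ← Polynomial.hom_eval₂]
      exact frobenius_def p _
    rw [hα, Polynomial.aeval_algebraMap_apply, hroot, map_zero] at h1
    exact eq_zero_of_pow_eq_zero h1.symm
  have hαsep : IsSeparable L α :=
    IsSeparable.tower_top L (show IsSeparable K α from hQsep.of_dvd (minpoly.dvd K α hα0))
  have hin : α ∈ (algebraMap L Ω).range := by
    have h2 : α ∈ separableClosure L Ω ⊓ perfectClosure L Ω :=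
      ⟨mem_separableClosure_iff.2 hαsep, (mem_perfectClosure_iff_pow_mem p).2
        ⟨1, a, by rw [pow_one, hα]⟩⟩
    rw [separableClosure_inf_perfectClosure] at h2
    exact h2
  obtain ⟨c, rfl⟩ := hin
  exact ⟨c, (algebraMap L Ω).injective (by rw [map_pow, hα])⟩

end Groth.Agent.S6335
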