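import Groth.Statements.S6336
import Mathlib.Algebra.Polynomial.Splits
import Mathlib.FieldTheory.IntermediateField.Adjoin.Basic

set_option autoImplicit false
universe u
open Fields

namespace Groth.Agent.S6336

open IntermediateField Polynomial in
/-- With an added hypothesis: let L/K be a finite extension of degree e generated by a single element a
whose e-th power lies in K, and assume that the polynomial X ^ e - 1 splits into linear factors over
K (so every e-th root of unity of any extension of K already lies in K; this holds when K contains a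
primitive e-th root of unity, and when e is a power of the characteristic). Then every intermediate
field of L/K is generated by a ^ d for some divisor d of e. (The published statement has no
hypothesis on roots of unity; for K the rationals and a a primitive 8-th root of unity, e = 4 and a
^ 4 = -1, the intermediate field generated by a + a⁻¹, a square root of 2, is none of K(a), K(a ^
2), K(a ^ 4); the published proof uses that the e-th roots of unity met are fixed by the
automorphisms it constructs, which the splitting hypothesis guarantees.) -/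
theorem result {K L : Type u} [Field K] [Field L] [Algebra K L]
    [FiniteDimensional K L] (a : L) (ha : K⟮a⟯ = ⊤)
    (hpow : a ^ Module.finrank K L ∈ Set.range (algebraMap K L))
    (hroots : (X ^ Module.finrank K L - 1 : K[X]).Splits) (L' : IntermediateField K L) :
    ∃ d : ℕ, d ∣ Module.finrank K L ∧ L' = K⟮a ^ d⟯ := by
  classical
  set e := Module.finrank K L with he
  have hepos : 0 < e := Module.finrank_pos
  rcases eq_or_ne a 0 with rfl | ha0
  · have htop : (⊥ : IntermediateField K L) = ⊤ := by rw [← adjoin_zero (F := K) (E := L), ha]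
    refine ⟨1, one_dvd _, ?_⟩
    rw [pow_one, adjoin_zero]
    exact le_antisymm (htop.symm ▸ le_top) bot_le
  obtain ⟨q, hq⟩ := hpow
  set f : L'[X] := X ^ e - C (algebraMap K L' q) with hf
  have hfne : f ≠ 0 := X_pow_sub_C_ne_zero hepos _
  have hfa : Polynomial.aeval a f = 0 := by
    simp [hf, ← IsScalarTower.algebraMap_apply, hq]
  have hmap : f.map (algebraMap L' L) = C (a ^ e) * (((X ^ e - 1 : K[X]).map (algebraMap K L)).comp
      (C a⁻¹ * X)) := by
    simp only [hf, Polynomial.map_sub, Polynomial.map_pow, map_X, map_C, Polynomial.map_one,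
      sub_comp, pow_comp, X_comp, one_comp, ← IsScalarTower.algebraMap_apply, hq, mul_pow,
      ← map_pow, mul_sub, mul_one, ← mul_assoc, ← map_mul]
    rw [← mul_pow, mul_inv_cancel₀ ha0, one_pow, map_one, one_mul]
  have hsp : (f.map (algebraMap L' L)).Splits := by
    rw [hmap]
    exact (Polynomial.Splits.C _).mul ((hroots.map _).comp_of_natDegree_le_one
      ((natDegree_C_mul_le _ _).trans natDegree_X_le))
  set P := minpoly L' a with hP
  have hint : IsIntegral L' a := IsIntegral.of_finite L' a
  have hdvd : P.map (algebraMap L' L) ∣ f.map (algebraMap L' L) :=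
    Polynomial.map_dvd _ (minpoly.dvd L' a hfa)
  have hPsp : (P.map (algebraMap L' L)).Splits :=
    hsp.of_dvd (Polynomial.map_ne_zero hfne) hdvd
  have hscal : ∀ r ∈ (P.map (algebraMap L' L)).roots, ∃ z : K, r = algebraMap K L z * a := by
    intro r hr
    have h1 : (f.map (algebraMap L' L)).IsRoot r :=
      ((Polynomial.mem_roots').1 hr).2.dvd hdvd
    rw [hmap, IsRoot.def, eval_mul, eval_C, eval_comp, eval_mul, eval_C, eval_X, mul_eq_zero] at h1
    obtain ⟨z, hz⟩ := hroots.mem_range_of_isRoot (f := X ^ e - 1) (X_pow_sub_C_ne_zero hepos (1 : K) |> fun h => by simpa using h)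
      (h1.resolve_left (pow_ne_zero _ ha0))
    exact ⟨z, by rw [hz, mul_comm a⁻¹, inv_mul_cancel_right₀ ha0]⟩
  have hprod : ∀ s : Multiset L, (∀ r ∈ s, ∃ z : K, r = algebraMap K L z * a) →
      ∃ z : K, s.prod = algebraMap K L z * a ^ s.card := by
    intro s
    induction s using Multiset.induction_on with
    | empty => exact fun _ => ⟨1, by simp⟩
    | cons r s ih =>
      intro h
      obtain ⟨z, hz⟩ := h r (Multiset.mem_cons_self _ _)
      obtain ⟨w, hw⟩ := ih fun x hx => h x (Multiset.mem_cons_of_mem hx)
      exact ⟨z * w, by rw [Multiset.prod_cons, hz, hw, map_mul, Multiset.card_cons, pow_succ]; ring⟩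
  obtain ⟨z, hz⟩ := hprod _ hscal
  set m := P.natDegree with hm
  have hcardm : (P.map (algebraMap L' L)).roots.card = m := by
    rw [← hPsp.natDegree_eq_card_roots, natDegree_map]
  have hc0 := hPsp.coeff_zero_eq_prod_roots_of_monic ((minpoly.monic hint).map _)
  rw [coeff_map, hz, hcardm, natDegree_map] at hc0
  have hP0 : P.coeff 0 ≠ 0 := minpoly.coeff_zero_ne_zero hint ha0
  have hz0 : z ≠ 0 := by
    rintro rfl
    rw [map_zero, zero_mul, mul_zero] at hc0
    exact hP0 ((algebraMap L' L).injective (by rw [hc0, map_zero]))
  have hmem : a ^ m ∈ L' := by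
    have h1 : a ^ m = algebraMap L' L (P.coeff 0) * ((-1) ^ m * algebraMap K L z)⁻¹ := by
      rw [hc0, ← mul_assoc (((-1) ^ m : L)), mul_comm _ (a ^ m), mul_inv_cancel_right₀]
      exact mul_ne_zero (pow_ne_zero _ (neg_ne_zero.2 one_ne_zero)) (by simpa using hz0)
    rw [h1]
    exact mul_mem (P.coeff 0).2 (inv_mem (mul_mem (pow_mem (neg_mem (one_mem _)) _)
      (L'.algebraMap_mem z)))
  have hdegL : m = Module.finrank L' L := by
    rw [hm, hP, ← adjoin.finrank hint]
    have : L'⟮a⟯ = ⊤ := by
      refine restrictScalars_injective K ?_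
      rw [restrictScalars_top, eq_top_iff, ← ha, adjoin_simple_le_iff]
      exact mem_adjoin_simple_self L' a
    rw [this, finrank_top']
  refine ⟨m, ?_, (eq_of_le_of_finrank_le' (adjoin_simple_le_iff.2 hmem) ?_).symm⟩
  · rw [hdegL, he]
    exact ⟨Module.finrank K L', by rw [mul_comm, Module.finrank_mul_finrank]⟩
  · rw [← hdegL]
    set M := K⟮a ^ m⟯
    have h1 : M⟮a⟯ = ⊤ := by
      refine restrictScalars_injective K ?_
      rw [restrictScalars_top, eq_top_iff, ← ha, adjoin_simple_le_iff]
      exact mem_adjoin_simple_self M a
    have h2 : Polynomial.aeval a (X ^ m - C (⟨a ^ m, mem_adjoin_simple_self K (a ^ m)⟩ : M)) = 0 := by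
      simp
    have h3 := natDegree_le_of_dvd (minpoly.dvd M a h2)
      (X_pow_sub_C_ne_zero (minpoly.natDegree_pos hint) _)
    rw [natDegree_X_pow_sub_C, ← adjoin.finrank (IsIntegral.of_finite M a), h1, finrank_top'] at h3
    exact h3

end Groth.Agent.S6336
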