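import Groth.Statements.S6337
import Groth.Agent.ML3.Dominate

set_option autoImplicit false
universe u
open CAlg

namespace Groth.Agent.S6337

/-- A direct sum of modules is Mittag-Leffler if and only if each summand is Mittag-Leffler. -/
theorem result (R : Type u) [CommRing R] {ι : Type u} (M : ι → Type u)
    [∀ i, AddCommGroup (M i)] [∀ i, Module R (M i)] :
    CAlg.IsMittagLeffler R (DirectSum ι M) ↔ ∀ i, CAlg.IsMittagLeffler R (M i) := by
  classical
  constructor
  · intro h i
    refine ML3.ml_of_univInj (DirectSum.lof R ι M i) ?_ h
    intro Q _ _
    have : (DirectSum.component R ι M i ∘ₗ DirectSum.lof R ι M i) = LinearMap.id :=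
      LinearMap.ext fun x => DirectSum.component.lof_self R i x
    exact Function.LeftInverse.injective (g := (DirectSum.component R ι M i).rTensor Q) fun x => by
      rw [← LinearMap.rTensor_comp_apply, this, LinearMap.rTensor_id_apply]
  · intro h κ Q _ _ a b hab
    apply (TensorProduct.directSumLeft R R M _).injective
    refine DirectSum.ext_component R fun i => ?_
    have key : ∀ x : TensorProduct R (DirectSum ι M) (∀ k, Q k),
        DirectSum.component R ι _ i (TensorProduct.directSumLeft R R M _ x)
          = (DirectSum.component R ι M i).rTensor _ x := by
      intro x
      induction x using TensorProduct.induction_on with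
      | zero => simp
      | add a b ha hb => simp [ha, hb]
      | tmul m q => exact TensorProduct.directSumLeft_tmul R R m q i
    rw [key, key]
    apply h i κ Q
    funext k
    rw [ML3.piHom_rTensor, ML3.piHom_rTensor, hab]

end Groth.Agent.S6337
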