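import Groth.Statements.S6341
import Groth.Agent.ML3.Colimit

set_option autoImplicit false
universe u
open CAlg

namespace Groth.Agent.S6341

/-- The colimit of a directed system of Mittag-Leffler modules with universally injective transition
maps is Mittag-Leffler. -/
theorem result (R : Type u) [CommRing R] {ι : Type u}
    [Preorder ι] [IsDirected ι (· ≤ ·)] [DecidableEq ι] (G : ι → Type u) [∀ i, AddCommGroup (G i)]
    [∀ i, Module R (G i)] (f : ∀ i j, i ≤ j → G i →ₗ[R] G j) [DirectedSystem G fun i j h => f i j h]
    (hf : ∀ i j (h : i ≤ j), CAlgX.UniversallyInjective R (f i j h))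
    (hG : ∀ i, CAlg.IsMittagLeffler R (G i)) :
    CAlg.IsMittagLeffler R (Module.DirectLimit G f) := by
  rw [ML3.ml_iff_forall]
  intro κ Q _ _ x hx
  rcases isEmpty_or_nonempty ι with hι | hι
  · exact Subsingleton.elim _ _
  obtain ⟨i, y, rfl⟩ := ML3.exists_rTensor_of f _ x
  have : y = 0 := hG i κ Q (by
    funext t
    have h1 := congrFun hx t
    rw [ML3.piHom_rTensor] at h1
    obtain ⟨j, hij, hj⟩ := ML3.exists_le_rTensor_eq_zero f h1
    apply hf i j hij (Q t)
    rw [hj, map_zero]
    simp)
  rw [this, map_zero]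

end Groth.Agent.S6341
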