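import Groth.Statements.S6345
import Groth.Agent.ML3.BaseChange

set_option autoImplicit false
universe u
open CAlg

namespace Groth.Agent.S6345

/-- Let I be a finitely generated ideal of a commutative ring R and M an R/I-module. Then M is
Mittag-Leffler over R if and only if it is Mittag-Leffler over R/I. -/
theorem result (R : Type u) [CommRing R] (I : Ideal R) (hI : I.FG)
    (M : Type u) [AddCommGroup M] [Module (R ⧸ I) M] [Module R M] [IsScalarTower R (R ⧸ I) M] :
    CAlg.IsMittagLeffler R M ↔ CAlg.IsMittagLeffler (R ⧸ I) M := by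
  constructor
  · intro h
    have hc : TensorProduct.CompatibleSMul R (R ⧸ I) (R ⧸ I) M := ⟨fun r a m => by
      obtain ⟨r, rfl⟩ := Ideal.Quotient.mk_surjective r
      rw [← Ideal.Quotient.algebraMap_eq, algebraMap_smul, algebraMap_smul, TensorProduct.smul_tmul]⟩
    exact ML3.ml_of_linearEquiv (TensorProduct.lidOfCompatibleSMul R (R ⧸ I) M).symm
      (ML3.ml_baseChange h)
  · intro h
    refine ML3.ml_trans h fun ι Q _ _ => ?_
    have : Module.FinitePresentation R (R ⧸ I) :=
      Module.finitePresentation_of_surjective I.mkQ I.mkQ_surjective (by rwa [Submodule.ker_mkQ])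
    let e := LinearEquiv.ofBijective (TensorProduct.piRightHom R (R ⧸ I) (R ⧸ I) Q)
      ⟨ML3.ml_of_fp (R := R) (M := R ⧸ I) ι Q, ML3.piHom_surjective (R := R) (M := R ⧸ I) Q⟩
    exact (LinearEquiv.lTensor M e).injective

end Groth.Agent.S6345
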