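import Groth.Statements.S6354
import Groth.Agent.Pure3.Basic

set_option autoImplicit false
universe u
open CAlg

namespace Groth.Agent.S6354

open PrimeSpectrum in
/-- For an ideal I of a commutative ring R these four conditions are equivalent: (1) I is finitely
generated and pure; (2) I = (e) for some idempotent e; (3) I is pure with V(I) open in Spec R; (4)
R/I is projective as an R-module. -/
theorem result (R : Type u) [CommRing R] (I : Ideal R) :
    List.TFAE [I.Pure ∧ I.FG, ∃ e : R, IsIdempotentElem e ∧ I = Ideal.span {e},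
      I.Pure ∧ IsOpen (zeroLocus (I : Set R)), Module.Projective R (R ⧸ I)] := by
  tfae_have 1 → 2 := fun ⟨hp, hfg⟩ =>
    have : I.Pure := hp
    (Ideal.isIdempotentElem_iff_of_fg I hfg).mp I.isIdempotentElem_of_pure
  tfae_have 2 → 3 := by
    rintro ⟨e, he, rfl⟩
    refine ⟨Ideal.Pure.of_isIdempotentElem (Submodule.fg_span_singleton e)
      (by rw [IsIdempotentElem, Ideal.span_singleton_mul_span_singleton, he.eq]), ?_⟩
    rw [zeroLocus_span]
    exact ((isClopen_iff_zeroLocus).mpr ⟨e, he, rfl⟩).isOpen
  tfae_have 3 → 4 := fun ⟨hp, ho⟩ => by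
    have : I.Pure := hp
    obtain ⟨e, he, rfl⟩ := Pure3.eq_span_idempotent_of_isOpen I ho
    exact Pure3.projective_quotient_of_idempotent he
  tfae_have 4 → 1 := fun hp => by
    have : Module.FinitePresentation R (R ⧸ I) := Module.finitePresentation_of_projective R _
    refine ⟨(inferInstance : Module.Flat R (R ⧸ I)), ?_⟩
    have := Module.FinitePresentation.fg_ker I.mkQ I.mkQ_surjective
    rwa [Submodule.ker_mkQ] at this
  tfae_finish

end Groth.Agent.S6354
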