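import Groth.Statements.S6355
import Groth.Agent.Pure3.Basic

set_option autoImplicit false
universe u
open CAlg

namespace Groth.Agent.S6355

/-- For a commutative ring R the following are equivalent: (1) every subset of Spec R which is closed
and stable under generalization is open; (2) every finite flat R-module is finite locally free, i.e.
(for finite modules) projective. -/
theorem result (R : Type u) [CommRing R] :
    (∀ Z : Set (PrimeSpectrum R), IsClosed Z → StableUnderGeneralization Z → IsOpen Z) ↔
      ∀ (M : Type u) [AddCommGroup M] [Module R M], Module.Finite R M → Module.Flat R M →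
        Module.Projective R M := by
  refine ⟨fun h M _ _ _ _ => Pure3.projective_of_stable_open h, fun h Z hc hs => ?_⟩
  obtain ⟨I, hI, rfl⟩ := Pure3.exists_pure Z hc hs
  have : I.Pure := hI
  have hproj : Module.Projective R (R ⧸ I) := h (R ⧸ I) inferInstance hI
  have : Module.FinitePresentation R (R ⧸ I) := Module.finitePresentation_of_projective R _
  have hfg : I.FG := by
    have := Module.FinitePresentation.fg_ker I.mkQ I.mkQ_surjective
    rwa [Submodule.ker_mkQ] at this
  obtain ⟨e, he, rfl⟩ := (Ideal.isIdempotentElem_iff_of_fg I hfg).mp I.isIdempotentElem_of_pure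
  rw [PrimeSpectrum.zeroLocus_span]
  exact ((PrimeSpectrum.isClopen_iff_zeroLocus).mpr ⟨e, he, rfl⟩).isOpen

end Groth.Agent.S6355
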