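import Groth.Statements.S6362
import Mathlib.RingTheory.Discriminant
import Mathlib.LinearAlgebra.Matrix.NonsingularInverse

set_option autoImplicit false
universe u
open scoped TensorProduct
open Fields

namespace Groth.Agent.S6362

/-- Let K/F be a finite separable extension and L/F an extension with L algebraically closed. Then the
L-algebra map K ⊗_F L → ∏_σ L, indexed by the F-algebra maps σ : K → L and sending a ⊗ b to (σ(a)
b)_σ, is an isomorphism; stated as bijectivity of that map. -/
theorem result {F K L : Type u} [Field F] [Field K] [Field L]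
    [Algebra F K] [Algebra F L] [FiniteDimensional F K] [Algebra.IsSeparable F K] [IsAlgClosed L] :
    Function.Bijective (fun x : K ⊗[F] L => fun σ : K →ₐ[F] L =>
      Algebra.TensorProduct.lift σ (AlgHom.id F L) (fun a b => Commute.all (σ a) b) x) := by
  classical
  let b := Module.finBasis F K
  let bb := Algebra.TensorProduct.basis L b
  have hcard : Fintype.card (Fin (Module.finrank F K)) = Fintype.card (K →ₐ[F] L) := by
    rw [AlgHom.card, Fintype.card_fin]
  let e := Fintype.equivOfCardEq hcard
  let M : Matrix (Fin (Module.finrank F K)) (Fin (Module.finrank F K)) L :=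
    Algebra.embeddingsMatrixReindex F L b e
  have hdet : IsUnit M.det := by
    rw [isUnit_iff_ne_zero]
    intro h0
    refine Algebra.discr_not_zero_of_basis F b ((algebraMap F L).injective ?_)
    rw [Algebra.discr_eq_det_embeddingsMatrixReindex_pow_two F L b e, map_zero]
    simp [M] at h0
    simp [h0]
  let f : (Fin (Module.finrank F K) → L) → K ⊗[F] L := fun c => ∑ i, b i ⊗ₜ[F] c i
  have hf : Function.Surjective f := by
    intro x
    induction x using TensorProduct.induction_on with
    | zero => exact ⟨0, by simp [f]⟩
    | tmul u v =>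
      refine ⟨fun i => b.repr u i • v, ?_⟩
      simp only [f]
      conv_rhs => rw [← b.sum_repr u, TensorProduct.sum_tmul]
      simp [TensorProduct.smul_tmul]
    | add x y hx hy =>
      obtain ⟨c, rfl⟩ := hx
      obtain ⟨c', rfl⟩ := hy
      exact ⟨c + c', by simp [f, TensorProduct.tmul_add, Finset.sum_add_distrib]⟩
  let g : (K ⊗[F] L) → ((K →ₐ[F] L) → L) := fun x σ =>
    Algebra.TensorProduct.lift σ (AlgHom.id F L) (fun a b => Commute.all (σ a) b) x
  have hgf : ∀ c j, g (f c) (e j) = Matrix.vecMul c M j := by
    intro c j
    simp only [g, f, map_sum, Algebra.TensorProduct.lift_tmul]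
    exact Finset.sum_congr rfl fun i _ => mul_comm _ _
  show Function.Bijective g
  constructor
  · intro x y hxy
    obtain ⟨c, rfl⟩ := hf x
    obtain ⟨c', rfl⟩ := hf y
    have : Matrix.vecMul c M = Matrix.vecMul c' M := funext fun j => by rw [← hgf, ← hgf, hxy]
    rw [Matrix.vecMul_injective_of_isUnit (Matrix.isUnit_iff_isUnit_det M |>.2 hdet) this]
  · intro v
    refine ⟨f (Matrix.vecMul (v ∘ e) M⁻¹), funext fun σ => ?_⟩
    obtain ⟨j, rfl⟩ := e.surjective σ
    rw [hgf, Matrix.vecMul_vecMul, Matrix.nonsing_inv_mul M hdet, Matrix.vecMul_one]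
    rfl

end Groth.Agent.S6362
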