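import Groth.Statements.S6363
import Mathlib.FieldTheory.Normal.Closure
import Mathlib.FieldTheory.SeparableDegree
import Mathlib.RingTheory.PiTensorProduct

set_option autoImplicit false
universe u
open scoped TensorProduct
open Fields

namespace Groth.Agent.S6363

/-- For a finite field extension L/K and a normal closure M of L/K, some K-algebra homomorphism from the
n-fold tensor power L ⊗_K ⋯ ⊗_K L to M is surjective, where n = [L : K]_s is the separable degree
(so n ≤ [L : K]). -/
theorem result {K L M : Type u} [Field K] [Field L] [Field M]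
    [Algebra K L] [Algebra K M] [Algebra L M] [IsScalarTower K L M] [FiniteDimensional K L]
    [IsNormalClosure K L M] :
    ∃ f : (⨂[K] _ : Fin (Field.finSepDegree K L), L) →ₐ[K] M, Function.Surjective f := by
  classical
  have hsplit : ∀ s ∈ (Set.univ : Set L), IsIntegral K s ∧ ((minpoly K s).map (algebraMap K M)).Splits :=
    fun s _ => ⟨IsIntegral.of_finite K s, IsNormalClosure.splits s⟩
  have hcard : Nat.card (L →ₐ[K] M) = Field.finSepDegree K L :=
    (Field.finSepDegree_eq_of_adjoin_splits K L M (IntermediateField.adjoin_univ K L) hsplit).symm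
  let σ := (Finite.equivFinOfCardEq hcard).symm
  let μ : MultilinearMap K (fun _ : Fin (Field.finSepDegree K L) => L) M :=
    (MultilinearMap.mkPiAlgebra K (Fin (Field.finSepDegree K L)) M).compLinearMap
      fun i => (σ i).toLinearMap
  let f : (⨂[K] _ : Fin (Field.finSepDegree K L), L) →ₐ[K] M :=
    PiTensorProduct.liftAlgHom μ (by show ∏ i, σ i ((1 : Fin (Field.finSepDegree K L) → L) i) = 1; simp)
      (fun x y => by
        show ∏ i, σ i ((x * y) i) = (∏ i, σ i (x i)) * ∏ i, σ i (y i)
        simp [Finset.prod_mul_distrib])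
  refine ⟨f, ?_⟩
  rw [← AlgHom.range_eq_top, eq_top_iff]
  have hle : ∀ (i) (u : L), σ i u ∈ f.range := by
    intro i u
    refine ⟨PiTensorProduct.tprod K (Function.update (1 : Fin (Field.finSepDegree K L) → L) i u), ?_⟩
    show f (PiTensorProduct.tprod K _) = σ i u
    rw [show f (PiTensorProduct.tprod K (Function.update (1 : Fin (Field.finSepDegree K L) → L) i u)) =
      ∏ j, σ j (Function.update (1 : Fin (Field.finSepDegree K L) → L) i u j) from
      PiTensorProduct.lift.tprod (φ := μ) _]
    rw [Finset.prod_eq_single i (fun j _ hj => by simp [Function.update_of_ne hj]) (by simp)]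
    simp
  have halg : Algebra.IsAlgebraic K M := (IsNormalClosure.normal (F := K) (K := L) (L := M)).toIsAlgebraic
  let R : IntermediateField K M := f.range.toIntermediateField fun x hx =>
    Subalgebra.inv_mem_of_algebraic f.range (x := ⟨x, hx⟩) (Algebra.IsAlgebraic.isAlgebraic x)
  intro x _
  suffices h : (⊤ : IntermediateField K M) ≤ R from h IntermediateField.mem_top
  rw [← IsNormalClosure.adjoin_rootSet (F := K) (K := L) (L := M)]
  refine iSup_le fun y => IntermediateField.adjoin_le_iff.2 fun z hz => ?_
  obtain ⟨φ, hφ⟩ := IntermediateField.exists_algHom_of_splits_of_aeval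
    (fun x => ⟨IsIntegral.of_finite K x, IsNormalClosure.splits x⟩) (Polynomial.mem_rootSet.mp hz).2
  obtain ⟨i, rfl⟩ := σ.surjective φ
  rw [← hφ]
  exact hle i y

end Groth.Agent.S6363
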