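import Groth.Statements.S6364
import Mathlib.LinearAlgebra.Charpoly.ToMatrix
import Mathlib.LinearAlgebra.Matrix.Charpoly.Minpoly

set_option autoImplicit false
universe u
open Fields

namespace Groth.Agent.S6364

open IntermediateField in
/-- Let L/K be a finite extension and a ∈ L with minimal polynomial P over K. Then P ^ e, with e = [L :
K(a)], is the characteristic polynomial of multiplication by a (the K-linear map x ↦ a x on L), and
e · deg P = [L : K]. -/
theorem result {K L : Type u} [Field K] [Field L] [Algebra K L] [FiniteDimensional K L]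
    (a : L) :
    (Algebra.lmul K L a).charpoly = minpoly K a ^ Module.finrank K⟮a⟯ L ∧
      Module.finrank K⟮a⟯ L * (minpoly K a).natDegree = Module.finrank K L := by
  have hint : IsIntegral K a := IsIntegral.of_finite K a
  let pb := IntermediateField.adjoin.powerBasis hint
  let c := Module.finBasis K⟮a⟯ L
  have hgen : algebraMap K⟮a⟯ L pb.gen = a := by
    simp [pb, IntermediateField.adjoin.powerBasis_gen]
  have hdeg : (minpoly K a).natDegree = Module.finrank K K⟮a⟯ :=
    (IntermediateField.adjoin.finrank hint).symm
  refine ⟨?_, ?_⟩
  · rw [← LinearMap.charpoly_toMatrix _ (pb.basis.smulTower c)]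
    show (Algebra.leftMulMatrix (pb.basis.smulTower c) a).charpoly = _
    rw [show Algebra.leftMulMatrix (pb.basis.smulTower c) a =
      Algebra.leftMulMatrix (pb.basis.smulTower c) (algebraMap K⟮a⟯ L pb.gen) by rw [hgen],
      Algebra.smulTower_leftMulMatrix_algebraMap]
    have hb' : ∀ {d : ℕ} (M : Matrix (Fin d) (Fin d) K) (o : ℕ),
        (Matrix.blockDiagonal fun _ : Fin o => M).charpoly = M.charpoly ^ o := by
      intro d M o
      have : (Matrix.blockDiagonal fun _ : Fin o => M).charmatrix =
          Matrix.blockDiagonal fun _ : Fin o => M.charmatrix := by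
        ext ⟨i, s⟩ ⟨j, t⟩
        by_cases hst : s = t
        · subst hst
          by_cases hij : i = j
          · subst hij; simp
          · simp [hij]
        · simp [hst, Matrix.blockDiagonal_apply_ne]
      simp [Matrix.charpoly, this, Matrix.det_blockDiagonal]
    rw [show minpoly K a = minpoly K pb.gen from
      (congrArg (minpoly K) hgen).symm.trans
        (minpoly.algebraMap_eq (algebraMap K⟮a⟯ L).injective _)]
    rw [← charpoly_leftMulMatrix pb]
    rw [hb' (Algebra.leftMulMatrix pb.basis pb.gen) (Module.finrank K⟮a⟯ L)]
  · rw [hdeg, mul_comm]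
    exact Module.finrank_mul_finrank K K⟮a⟯ L

end Groth.Agent.S6364
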