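import Groth.Statements.S6365
import Mathlib.LinearAlgebra.Trace
import Mathlib.RingTheory.Trace.Defs

set_option autoImplicit false
universe u
open Fields

namespace Groth.Agent.S6365

/-- Let L/K be a finite extension of fields, V a finite-dimensional L-vector space and φ an L-linear
endomorphism of V. Then the trace over K of φ (regarded as a K-linear map) is the trace from L to K
of the trace over L of φ. (The determinant analogue, det_K φ = Norm_{L/K}(det_L φ), is the standard
companion.) -/
theorem result {K L : Type u} [Field K] [Field L] [Algebra K L]
    [FiniteDimensional K L] (V : Type u) [AddCommGroup V] [Module L V] [Module K V] [IsScalarTower K L V]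
    [FiniteDimensional L V] (φ : V →ₗ[L] V) :
    LinearMap.trace K V (φ.restrictScalars K) = Algebra.trace K L (LinearMap.trace L V φ) := by
  let b := Module.Free.chooseBasis K L
  suffices h : (LinearMap.trace K V).comp (LinearMap.restrictScalarsₗ K L V V K) =
      (Algebra.trace K L).comp ((LinearMap.trace L V).restrictScalars K) from
    LinearMap.congr_fun h φ
  have hV : FiniteDimensional K V := Module.Finite.trans L V
  refine LinearMap.ext fun ψ => ?_
  obtain ⟨t, rfl⟩ := (dualTensorHomEquiv L V V).surjective ψ
  induction t using TensorProduct.induction_on with
  | zero => simp
  | add x y hx hy => simp only [map_add, hx, hy]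
  | tmul f v =>
    have e : (dualTensorHom L V V (f ⊗ₜ[L] v)).restrictScalars K =
        ((LinearMap.toSpanSingleton L V v).restrictScalars K).comp (f.restrictScalars K) := by
      ext w
      simp [dualTensorHom_apply]
    have e' : (f.restrictScalars K).comp ((LinearMap.toSpanSingleton L V v).restrictScalars K) =
        Algebra.lmul K L (f v) := by
      ext c
      simp [mul_comm]
    simp only [dualTensorHomEquiv, LinearEquiv.ofBijective_apply, dualTensorHomEquivOfBasis_apply,
      LinearMap.comp_apply, LinearMap.restrictScalarsₗ_apply, LinearMap.restrictScalars_apply]
    rw [e, LinearMap.trace_comp_comm', e', LinearMap.trace_eq_contract_apply]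
    rfl

end Groth.Agent.S6365
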