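import Groth.Statements.S6367
import Groth.Agent.Coh3.Coherent

set_option autoImplicit false
universe u
open CAlg

namespace Groth.Agent.S6367

/-- Let 0 → M₁ → M₂ → M₃ → 0 be a short exact sequence of R-modules (f injective, g surjective, image of
f = kernel of g). If M₁ and M₃ are coherent — finitely generated with every finitely generated
submodule finitely presented — then so is M₂. -/
theorem result (R : Type u) [CommRing R] {M₁ M₂ M₃ : Type u}
    [AddCommGroup M₁] [Module R M₁] [AddCommGroup M₂] [Module R M₂] [AddCommGroup M₃] [Module R M₃]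
    (f : M₁ →ₗ[R] M₂) (g : M₂ →ₗ[R] M₃) (hf : Function.Injective f) (hg : Function.Surjective g)
    (hfg : LinearMap.range f = LinearMap.ker g)
    (h₁ : (Module.Finite R M₁ ∧ ∀ N : Submodule R M₁, N.FG → Module.FinitePresentation R N))
    (h₃ : (Module.Finite R M₃ ∧ ∀ N : Submodule R M₃, N.FG → Module.FinitePresentation R N)) :
    (Module.Finite R M₂ ∧ ∀ N : Submodule R M₂, N.FG → Module.FinitePresentation R N) := by
  refine ⟨?_, Coh3.fgIsFP_of_exact f g hf hfg h₁.2 h₃.2⟩
  refine ⟨Submodule.fg_of_fg_map_of_fg_inf_ker g ?_ ?_⟩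
  · rw [Submodule.map_top, LinearMap.range_eq_top.mpr hg]
    exact h₃.1.fg_top
  · rw [top_inf_eq, ← hfg, LinearMap.range_eq_map]
    exact h₁.1.fg_top.map f

end Groth.Agent.S6367
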