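import Groth.Statements.S6368
import Mathlib.RingTheory.Flat.FaithfullyFlat.Basic
import Mathlib.LinearAlgebra.TensorProduct.Finiteness

set_option autoImplicit false
universe u
open scoped TensorProduct
open CAlg

namespace Groth.Agent.S6368

/-- Let R → S be faithfully flat and M an R-module. If the S-module S ⊗_R M is countably generated then
M is countably generated. -/
theorem result (R S : Type u) [CommRing R] [CommRing S] [Algebra R S]
    [Module.FaithfullyFlat R S] (M : Type u) [AddCommGroup M] [Module R M]
    (h : CAlg.IsCountablyGenerated S (S ⊗[R] M)) : CAlg.IsCountablyGenerated R M := by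
  classical
  obtain ⟨t, ht, hspan⟩ := h
  choose F hF using fun x : TensorProduct R S M => TensorProduct.exists_finset x
  let G : Set M := ⋃ x ∈ t, ↑((F x).image Prod.snd)
  refine ⟨G, ht.biUnion fun x _ => Finset.countable_toSet _, ?_⟩
  have hsurj : Function.Surjective ((Submodule.span R G).subtype.baseChange S) := by
    rw [← LinearMap.range_eq_top, eq_top_iff, ← hspan, Submodule.span_le]
    intro x hx
    rw [SetLike.mem_coe, hF x]
    refine Submodule.sum_mem _ fun p hp => ?_
    exact ⟨p.1 ⊗ₜ ⟨p.2, Submodule.subset_span
      (Set.mem_biUnion hx (Finset.mem_image_of_mem _ hp))⟩, by simp⟩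
  have := (Module.FaithfullyFlat.lTensor_surjective_iff_surjective R S (Submodule.span R G).subtype).mp
    hsurj
  rwa [← LinearMap.range_eq_top, Submodule.range_subtype] at this

end Groth.Agent.S6368
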