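import Groth.Statements.S6369


set_option autoImplicit false
universe u
open CAlg

namespace Groth.Agent.S6369

/-- (1) ⇒ (3): let R be a domain such that every nonzero ideal is a product of nonzero prime ideals,
uniquely up to permutation of the factors. Then R is Noetherian, integrally closed and of dimension
at most one, i.e. a Dedekind domain in the Noetherian sense. (The converse and the description by
discrete valuation rings at maximal ideals are the standard equivalences.) -/
theorem result (R : Type u) [CommRing R] [IsDomain R]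
    (h : ∀ I : Ideal R, I ≠ ⊥ → ∃! s : Multiset (Ideal R), (∀ p ∈ s, p.IsPrime ∧ p ≠ ⊥) ∧ s.prod = I) :
    IsDedekindDomain R := by
  classical
  choose f hf hu using fun (I : Ideal R) (hI : I ≠ ⊥) => h I hI
  have hcancel : ∀ I J K : Ideal R, I ≠ ⊥ → I * J = I * K → J = K := by
    intro I J K hI heq
    by_cases hJ : J = ⊥
    · subst hJ
      rw [Ideal.mul_bot, eq_comm, Ideal.mul_eq_bot] at heq
      exact (heq.resolve_left hI).symm
    by_cases hK : K = ⊥
    · subst hK
      rw [Ideal.mul_bot, Ideal.mul_eq_bot] at heq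
      exact heq.resolve_left hI
    have hne : I * J ≠ ⊥ := by rw [Ne, Ideal.mul_eq_bot]; tauto
    have hadd : ∀ L (hL : L ≠ ⊥), I * L = I * J → f I hI + f L hL = f (I * J) hne := fun L hL hLJ =>
      hu _ hne _ ⟨fun p hp => (Multiset.mem_add.mp hp).elim ((hf I hI).1 p) ((hf L hL).1 p),
        by rw [Multiset.prod_add, (hf I hI).2, (hf L hL).2, hLJ]⟩
    have h2 := add_left_cancel ((hadd J hJ rfl).trans (hadd K hK heq.symm).symm)
    rw [← (hf J hJ).2, ← (hf K hK).2, h2]
  have hclosed : ∀ (u v : R) (n : ℕ) (c : ℕ → R), v ≠ 0 →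
      u ^ (n + 1) = v * (∑ i ∈ Finset.range (n + 1), c i * u ^ i * v ^ (n - i)) → v ∣ u := by
    intro u v n c hv heq
    let I : Ideal R := Ideal.span {u} ⊔ Ideal.span {v}
    have hI : I ≠ ⊥ := fun h0 => hv <| Ideal.mem_bot.mp
      ((eq_bot_iff.mp h0) (Ideal.mem_sup_right (Ideal.mem_span_singleton_self v) : v ∈ I))
    have hk : ∀ k : ℕ, I ^ (k + 1) ≤ Ideal.span {u ^ (k + 1)} ⊔ Ideal.span {v} * I ^ k := by
      intro k
      induction k with
      | zero => simp [I]
      | succ k ih =>
        rw [pow_succ I (k + 1)]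
        refine (Ideal.mul_mono ih le_rfl).trans ?_
        rw [Ideal.sup_mul, mul_assoc, ← pow_succ]
        refine sup_le ?_ le_sup_right
        show Ideal.span {u ^ (k + 1)} * (Ideal.span {u} ⊔ Ideal.span {v}) ≤ _
        rw [Ideal.mul_sup, Ideal.span_singleton_mul_span_singleton, ← pow_succ]
        refine sup_le le_sup_left (le_trans ?_ le_sup_right)
        rw [mul_comm (Ideal.span {u ^ (k + 1)})]
        exact Ideal.mul_mono le_rfl ((Ideal.span_singleton_le_iff_mem (I := I ^ (k + 1))).mpr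
          (Ideal.pow_mem_pow (Ideal.mem_sup_left (Ideal.mem_span_singleton_self u)) _))
    have hu' : u ^ (n + 1) ∈ Ideal.span {v} * I ^ n := by
      rw [heq]
      refine Ideal.mul_mem_mul (Ideal.mem_span_singleton_self v) (sum_mem fun i hi => ?_)
      rw [mul_assoc]
      refine Ideal.mul_mem_left _ _ ?_
      have h1 : u ^ i * v ^ (n - i) ∈ I ^ i * I ^ (n - i) := Ideal.mul_mem_mul
        (Ideal.pow_mem_pow (Ideal.mem_sup_left (Ideal.mem_span_singleton_self u)) _)
        (Ideal.pow_mem_pow (Ideal.mem_sup_right (Ideal.mem_span_singleton_self v)) _)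
      rwa [← pow_add, Nat.add_sub_cancel' (Nat.lt_succ_iff.mp (Finset.mem_range.mp hi))] at h1
    have h1 : I ^ (n + 1) = Ideal.span {v} * I ^ n := le_antisymm
      ((hk n).trans (sup_le ((Ideal.span_singleton_le_iff_mem (I := _)).mpr hu') le_rfl))
      (by rw [pow_succ']; exact Ideal.mul_mono le_sup_right le_rfl)
    have h2 : I = Ideal.span {v} := hcancel (I ^ n) _ _ (pow_ne_zero n hI)
      (by rw [← pow_succ, h1, mul_comm])
    exact Ideal.mem_span_singleton.mp (h2 ▸ (Ideal.mem_sup_left (Ideal.mem_span_singleton_self u) : u ∈ I))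
  have hint : IsIntegrallyClosed R := by
    rw [isIntegrallyClosed_iff (FractionRing R)]
    intro x hx
    obtain ⟨u, v, hv, rfl⟩ := IsFractionRing.div_surjective (A := R) (K := FractionRing R) x
    obtain ⟨p, hp, hp0⟩ := hx
    have hv0 : algebraMap R (FractionRing R) v ≠ 0 :=
      (map_ne_zero_iff _ (IsFractionRing.injective R _)).mpr (nonZeroDivisors.ne_zero hv)
    rcases hd : p.natDegree with _ | n
    · rw [hp.natDegree_eq_zero.mp hd, Polynomial.eval₂_one] at hp0
      exact absurd hp0 one_ne_zero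
    have key : u ^ (n + 1) = v * ∑ i ∈ Finset.range (n + 1), -p.coeff i * u ^ i * v ^ (n - i) := by
      rw [Polynomial.eval₂_eq_sum_range, hd, Finset.sum_range_succ, ← hd, hp.coeff_natDegree, hd,
        map_one, one_mul, add_comm, add_eq_zero_iff_eq_neg, ← Finset.sum_neg_distrib, div_pow,
        div_eq_iff (pow_ne_zero _ hv0), Finset.sum_mul] at hp0
      refine IsFractionRing.injective R (FractionRing R) ?_
      rw [map_pow, hp0, map_mul, map_sum, Finset.mul_sum]
      refine Finset.sum_congr rfl fun i hi => ?_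
      have hle : i ≤ n := Nat.lt_succ_iff.mp (Finset.mem_range.mp hi)
      rw [div_pow, map_mul, map_mul, map_neg, map_pow, map_pow,
        show n + 1 = i + (n - i + 1) by omega, pow_add]
      field_simp
      ring
    obtain ⟨w, rfl⟩ := hclosed u v n _ (nonZeroDivisors.ne_zero hv) key
    exact ⟨w, by rw [map_mul, mul_div_cancel_left₀ _ hv0]⟩
  have hmax : ∀ P : Ideal R, P ≠ ⊥ → P.IsPrime → P.IsMaximal := by
    intro P hP hPp
    refine Ideal.isMaximal_iff.mpr ⟨(Ideal.ne_top_iff_one P).mp hPp.ne_top, fun J a hPJ ha haJ => ?_⟩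
    have hmain : P ≤ P * (P ⊔ Ideal.span {a}) := by
      intro p hp
      let X := Ideal.span {p}
      let Y := Ideal.span {a}
      have ha0 : a ≠ 0 := fun h0 => ha (h0 ▸ zero_mem _)
      have hXY : X ⊔ Y ≠ ⊥ := fun h0 => ha0 <| Ideal.mem_bot.mp
        ((eq_bot_iff.mp h0) (Ideal.mem_sup_right (Ideal.mem_span_singleton_self a) : a ∈ X ⊔ Y))
      have h3 : (X ⊔ Y) * (X * X ⊔ Y * Y) = (X ⊔ Y) * ((X ⊔ Y) * (X ⊔ Y)) := by
        simp only [← Submodule.add_eq_sup]
        have e : ∀ Z : Ideal R, Z + Z = Z := fun Z => by rw [Submodule.add_eq_sup, sup_idem]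
        calc (X + Y) * (X * X + Y * Y)
            = X * X * X + (X * X * Y) + (X * Y * Y) + Y * Y * Y := by ring
          _ = X * X * X + (X * X * Y + X * X * Y + X * X * Y) +
              (X * Y * Y + X * Y * Y + X * Y * Y) + Y * Y * Y := by simp only [e]
          _ = (X + Y) * ((X + Y) * (X + Y)) := by ring
      have h4 : p * a ∈ X * X ⊔ Y * Y := by
        rw [hcancel _ _ _ hXY h3]
        exact Ideal.mul_mem_mul (Ideal.mem_sup_left (Ideal.mem_span_singleton_self p))
          (Ideal.mem_sup_right (Ideal.mem_span_singleton_self a))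
      rw [Ideal.span_singleton_mul_span_singleton, Ideal.span_singleton_mul_span_singleton,
        Ideal.mem_span_singleton_sup] at h4
      obtain ⟨r, b, hb, hrb⟩ := h4
      obtain ⟨s, rfl⟩ := Ideal.mem_span_singleton'.mp hb
      obtain ⟨y, hy⟩ : a ∣ r * p := hclosed (r * p) a 1 (fun i => if i = 0 then -(r * s) else 1) ha0
        (by simp [Finset.sum_range_succ]; linear_combination r * hrb)
      have h5 : p * (1 - y) = s * a := mul_left_cancel₀ ha0 (by linear_combination (-1 : R) * hrb + p * hy)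
      have hyP : y ∈ P := (hPp.mem_or_mem (hy ▸ P.mul_mem_left r hp)).resolve_left ha
      have hsP : s ∈ P := (hPp.mem_or_mem (h5 ▸ P.mul_mem_right _ hp)).resolve_right ha
      have h6 : p = y * p + s * a := by linear_combination h5
      rw [h6]
      exact add_mem (Ideal.mul_mem_mul hyP (Ideal.mem_sup_left hp))
        (Ideal.mul_mem_mul hsP (Ideal.mem_sup_right (Ideal.mem_span_singleton_self a)))
    have h1 : P * ⊤ = P * (P ⊔ Ideal.span {a}) :=
      le_antisymm (by rwa [Ideal.mul_top]) (Ideal.mul_mono le_rfl le_top)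
    exact sup_le hPJ ((Ideal.span_singleton_le_iff_mem (I := J)).mpr haJ)
      (hcancel P _ _ hP h1 ▸ Submodule.mem_top)
  have hfgP : ∀ P : Ideal R, P ≠ ⊥ → P.IsPrime → P.FG := by
    intro P hP hPp
    obtain ⟨x, hxP, hx⟩ := Submodule.exists_mem_ne_zero_of_ne_bot hP
    have hx0 : Ideal.span {x} ≠ ⊥ := by simpa using hx
    obtain ⟨Q, hQ, hQP⟩ : ∃ Q ∈ f _ hx0, Q ≤ P := (Ideal.IsPrime.multiset_prod_le hPp).mp
      (by rw [(hf _ hx0).2, Ideal.span_singleton_le_iff_mem]; exact hxP)
    obtain rfl := (hmax Q ((hf _ hx0).1 Q hQ).2 ((hf _ hx0).1 Q hQ).1).eq_of_le hPp.ne_top hQP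
    let J := ((f _ hx0).erase Q).prod
    have hQJ : Q * J = Ideal.span {x} := by
      rw [Multiset.prod_erase hQ, (hf _ hx0).2]
    have key : ∀ z ∈ Q * J, ∃ P' : Ideal R, P'.FG ∧ P' ≤ Q ∧ z ∈ P' * J := fun z hz => by
      refine Submodule.mul_induction_on hz (fun a ha b hb => ?_) (fun a b => ?_)
      · exact ⟨Ideal.span {a}, Submodule.fg_span_singleton a, (Ideal.span_singleton_le_iff_mem (I := Q)).mpr ha,
          Ideal.mul_mem_mul (Ideal.mem_span_singleton_self a) hb⟩
      · rintro ⟨P₁, h₁, h₁', h₁''⟩ ⟨P₂, h₂, h₂', h₂''⟩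
        exact ⟨P₁ ⊔ P₂, Submodule.FG.sup h₁ h₂, sup_le h₁' h₂',
          add_mem (Ideal.mul_mono le_sup_left le_rfl h₁'') (Ideal.mul_mono le_sup_right le_rfl h₂'')⟩
    obtain ⟨P', hfg, hle, hxP'⟩ := key x (hQJ ▸ Ideal.mem_span_singleton_self x)
    have hJ : J ≠ ⊥ := fun h0 => hx0 (by rw [← hQJ, h0, Ideal.mul_bot])
    have : J * P' = J * Q := le_antisymm (Ideal.mul_mono le_rfl hle) (by
      rw [mul_comm J Q, hQJ, mul_comm J P']
      exact (Ideal.span_singleton_le_iff_mem (I := P' * J)).mpr hxP')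
    exact hcancel J _ _ hJ this ▸ hfg
  have hnoeth : IsNoetherianRing R := by
    rw [isNoetherianRing_iff_ideal_fg]
    intro I
    by_cases hI : I = ⊥
    · exact hI ▸ Submodule.fg_bot
    rw [← (hf I hI).2]
    refine Multiset.prod_induction (fun J : Ideal R => J.FG) _ (fun _ _ => Submodule.FG.mul) ?_ ?_
    · rw [Ideal.one_eq_top]; exact Ideal.fg_top R
    · exact fun P hP => hfgP P ((hf I hI).1 P hP).2 ((hf I hI).1 P hP).1
  exact (isDedekindDomain_iff R (FractionRing R)).mpr ⟨inferInstance, hnoeth, ⟨fun {P} hP hPp => hmax P hP hPp⟩,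
    fun {x} hx => (isIntegrallyClosed_iff (FractionRing R)).mp hint hx⟩

end Groth.Agent.S6369
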