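import Groth.Statements.S6370
import Groth.Agent.VarDim1.KrullAkizuki

set_option autoImplicit false
universe u
open CAlg

namespace Groth.Agent.S6370

/-- For a one-dimensional Noetherian domain A with fraction field K, a finite field extension L of K
(separable or not) and B the integral closure of A in L: B is a Dedekind domain, Spec B → Spec A is
surjective and has finite fibres, and at every maximal ideal Q of B the residue field B/Q is finite
over A/(Q ∩ A). -/
theorem result (A K L B : Type u) [CommRing A] [IsDomain A]
    [IsNoetherianRing A] (hdim : ringKrullDim A = 1) [Field K] [Algebra A K] [IsFractionRing A K]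
    [Field L] [Algebra K L] [FiniteDimensional K L] [Algebra A L] [IsScalarTower A K L]
    [CommRing B] [IsDomain B] [Algebra A B] [Algebra B L] [IsScalarTower A B L] [IsIntegralClosure B A L] :
    IsDedekindDomain B ∧ Function.Surjective (PrimeSpectrum.comap (algebraMap A B)) ∧
      (∀ p : PrimeSpectrum A, (PrimeSpectrum.comap (algebraMap A B) ⁻¹' {p}).Finite) ∧
      ∀ Q : Ideal B, Q.IsMaximal → Module.Finite (A ⧸ Q.comap (algebraMap A B)) (B ⧸ Q) := by
  have hd : Ring.KrullDimLE 1 A := Ring.krullDimLE_iff.mpr (by rw [hdim]; rfl)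
  have hAL : Function.Injective (algebraMap A L) := by
    rw [IsScalarTower.algebraMap_eq A K L]
    exact (algebraMap K L).injective.comp (IsFractionRing.injective A K)
  have : FaithfulSMul A L := (faithfulSMul_iff_algebraMap_injective A L).mpr hAL
  have hAB : Function.Injective (algebraMap A B) := by
    rw [IsScalarTower.algebraMap_eq A B L, RingHom.coe_comp] at hAL
    exact hAL.of_comp
  have : Algebra.IsIntegral A B := IsIntegralClosure.isIntegral_algebra A L
  have : FaithfulSMul A B := (faithfulSMul_iff_algebraMap_injective A B).mpr hAB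
  let C := integralClosure A L
  let e : C ≃ₐ[A] B := IsIntegralClosure.equiv A C L B
  have hC : IsDedekindDomain C := Groth.Agent.VarDim1.isDedekindDomain_integralClosure K
  have hQ : ∀ Q : Ideal B, Q.IsMaximal → Q ≠ ⊥ := by
    intro Q hQ h0
    have h2 : (Q.comap (algebraMap A B)).IsMaximal :=
      Ideal.isMaximal_comap_of_isIntegral_of_isMaximal Q
    rw [h0, Ideal.comap_bot_of_injective _ hAB] at h2
    have hf : IsField A := by
      by_contra h
      exact Ring.ne_bot_of_isMaximal_of_not_isField h2 h rfl
    rw [ringKrullDim_eq_zero_of_isField hf] at hdim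
    exact absurd hdim (by decide)
  have hded : IsDedekindDomain B := by
    have : FiniteDimensional K L := inferInstance
    have : Algebra.IsAlgebraic A L := by
      have := IsLocalization.isAlgebraic K (nonZeroDivisors A)
      exact Algebra.IsAlgebraic.trans A K L
    have : IsFractionRing B L := IsIntegralClosure.isFractionRing_of_finite_extension A K L B
    rw [isDedekindDomain_iff _ L]
    refine ⟨inferInstance, isNoetherianRing_of_ringEquiv C e.toRingEquiv, ⟨fun {P} hP hPp => ?_⟩,
      fun {x} hx => ?_⟩
    · have h1 : (P.comap e.toAlgHom.toRingHom).IsMaximal :=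
        Ring.DimensionLEOne.maximalOfPrime (fun h => hP (eq_bot_iff.mpr fun y hy => by
          obtain ⟨c, rfl⟩ := e.surjective y
          have hc : c ∈ P.comap e.toAlgHom.toRingHom := hy
          rw [h, Ideal.mem_bot] at hc
          simp [hc])) (Ideal.IsPrime.comap _)
      rw [← Ideal.map_comap_of_surjective e.toAlgHom.toRingHom e.surjective P]
      exact Ideal.map_isMaximal_of_equiv e.toRingEquiv (p := P.comap e.toAlgHom.toRingHom)
    · exact (IsIntegralClosure.isIntegral_iff (A := B)).mp (isIntegral_trans (R := A) x hx)
  refine ⟨hded, Algebra.IsIntegral.comap_surjective A B, fun p => ?_, fun Q hQmax => ?_⟩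
  · by_cases hp : p.asIdeal = ⊥
    · refine (Set.finite_singleton (⟨⊥, Ideal.isPrime_bot⟩ : PrimeSpectrum B)).subset fun q hq => ?_
      rw [Set.mem_preimage, Set.mem_singleton_iff] at hq
      refine PrimeSpectrum.ext ?_
      exact Ideal.eq_bot_of_comap_eq_bot (R := A) (by rw [← hp, ← hq]; rfl)
    · let I : Ideal C := p.asIdeal.map (algebraMap A C)
      have hI : I ≠ ⊥ := fun h => hp (eq_bot_iff.mpr fun x hx => by
        have h1 : algebraMap A C x ∈ I := Ideal.mem_map_of_mem _ hx
        rw [h, Ideal.mem_bot] at h1
        exact (FaithfulSMul.algebraMap_eq_zero_iff A L).mp (congrArg Subtype.val h1))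
      refine Set.Finite.of_finite_image ((Groth.Agent.VarDim1.finite_setOf_prime_ge K C hI).subset ?_)
        (f := fun q : PrimeSpectrum B => q.asIdeal.comap e.toAlgHom.toRingHom) ?_
      · rintro _ ⟨q, hq, rfl⟩
        refine ⟨Ideal.IsPrime.comap _, Ideal.map_le_iff_le_comap.mpr fun x hx => ?_⟩
        rw [Set.mem_preimage, Set.mem_singleton_iff] at hq
        rw [← hq] at hx
        show e (algebraMap A C x) ∈ q.asIdeal
        rw [e.commutes]
        exact hx
      · intro q _ q' _ hqq
        exact PrimeSpectrum.ext (Ideal.comap_injective_of_surjective _ e.surjective hqq)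
  · let P : Ideal C := Q.comap e.toAlgHom.toRingHom
    have hP : P ≠ ⊥ := fun h => hQ Q hQmax (by
      refine eq_bot_iff.mpr fun y hy => ?_
      obtain ⟨x, rfl⟩ := e.surjective y
      have hxP : x ∈ P := hy
      rw [h, Ideal.mem_bot] at hxP
      simp [hxP])
    have := Groth.Agent.VarDim1.finite_quotient K C hP
    let φ : (C ⧸ P) →ₐ[A] (B ⧸ Q) := Ideal.quotientMapₐ Q e.toAlgHom le_rfl
    have hfin : Module.Finite A (B ⧸ Q) := Module.Finite.of_surjective φ.toLinearMap fun y => by
        obtain ⟨y, rfl⟩ := Ideal.Quotient.mk_surjective y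
        exact ⟨Ideal.Quotient.mk P (e.symm y),
          congrArg (Ideal.Quotient.mk Q) (e.apply_symm_apply y)⟩
    exact Module.Finite.of_restrictScalars_finite A _ _

end Groth.Agent.S6370
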