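import Groth.Statements.S6378
import Groth.Agent.TorBal94.FirstVariable
open CategoryTheory

set_option autoImplicit false
universe u
open CategoryTheory
open CAlg

namespace Groth.Agent.S6378

/-- Let (R, m, κ) be a local ring and M an R-module with Tor_1^R(κ, M) = 0. Then Tor_1^R(N, M) = 0 for
every finite length R-module N. -/
theorem result (R : Type u) [CommRing R] [IsLocalRing R]
    (M : Type u) [AddCommGroup M] [Module R M]
    (h : Limits.IsZero (((CategoryTheory.Tor (ModuleCat.{u} R) 1).obj (ModuleCat.of R (IsLocalRing.ResidueField R))).obj (ModuleCat.of R M)))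
    (N : Type u) [AddCommGroup N] [Module R N] (hN : IsFiniteLength R N) :
    Limits.IsZero (((CategoryTheory.Tor (ModuleCat.{u} R) 1).obj (ModuleCat.of R N)).obj (ModuleCat.of R M)) := by
  induction hN with
  | of_subsingleton =>
    rename_i P _ _ _
    exact Groth.Agent.TorBal94.isZero_tor_of_flat_left P _ 0
  | of_simple_quotient hK ih =>
    rename_i P _ _ K hsimp
    refine Groth.Agent.TorBal94.isZero_tor_middle K.subtype K.mkQ K.injective_subtype
      (LinearMap.exact_subtype_mkQ K) K.mkQ_surjective _ 1 ih ?_
    obtain ⟨J, hJ, ⟨e⟩⟩ := isSimpleModule_iff_quot_maximal.mp hsimp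
    obtain rfl := IsLocalRing.eq_maximalIdeal hJ
    exact h.of_iso (((CategoryTheory.Tor (ModuleCat.{u} R) 1).mapIso e.toModuleIso).app _)

end Groth.Agent.S6378
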