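import Groth.Statements.S6382
import Groth.Agent.FlatCrit65.Fibre
open TensorProduct

set_option autoImplicit false
universe u
open CAlg

namespace Groth.Agent.S6382

/-- Consider a commutative square of local rings and local homomorphisms R → S, R → R', S → S', R' → S',
and a finite S-module M. Assume the maps R → R' and S → S' are flat, M is flat over R, the maximal
ideal of R generates the maximal ideal of R', and R', S' are Noetherian. Then M' = M ⊗_S S' (any
base change of M along S → S') is flat over R'. -/
theorem result (R S R' S' : Type u) [CommRing R] [CommRing S]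
    [CommRing R'] [CommRing S'] [IsLocalRing R] [IsLocalRing S] [IsLocalRing R'] [IsLocalRing S']
    [Algebra R S] [Algebra R R'] [Algebra S S'] [Algebra R' S'] [Algebra R S']
    [IsScalarTower R S S'] [IsScalarTower R R' S']
    [IsLocalHom (algebraMap R S)] [IsLocalHom (algebraMap R R')] [IsLocalHom (algebraMap S S')]
    [IsLocalHom (algebraMap R' S')] [Module.Flat R R'] [Module.Flat S S']
    [IsNoetherianRing R'] [IsNoetherianRing S']
    (hm : (IsLocalRing.maximalIdeal R).map (algebraMap R R') = IsLocalRing.maximalIdeal R')
    (M : Type u) [AddCommGroup M] [Module S M] [Module R M] [IsScalarTower R S M] [Module.Finite S M]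
    [Module.Flat R M]
    (M' : Type u) [AddCommGroup M'] [Module S' M'] [Module S M'] [IsScalarTower S S' M'] [Module R' M']
    [IsScalarTower R' S' M'] (j : M →ₗ[S] M') (hj : IsBaseChange S' j) :
    Module.Flat R' M' := by
  have hflatM' : Module.Flat R (S' ⊗[S] M) := by
    rw [Module.Flat.iff_lTensor_injective']
    intro I
    let ν : M ⊗[R] I →ₗ[S] M ⊗[R] R := AlgebraTensorModule.lTensor S M I.subtype
    have hν : Function.Injective (ν.lTensor S') :=
      Module.Flat.lTensor_preserves_injective_linearMap ν
        (Module.Flat.lTensor_preserves_injective_linearMap (M := M) _ I.injective_subtype)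
    let e := AlgebraTensorModule.assoc R S S S' M
    have key : ∀ z, e R (I.subtype.lTensor (S' ⊗[S] M) z) = ν.lTensor S' (e I z) := by
      intro z
      induction z with
      | zero => simp
      | add a b ha hb => simp [map_add, ha, hb]
      | tmul x i =>
        induction x with
        | zero => simp
        | add a b ha hb => simp only [add_tmul, map_add, ha, hb]
        | tmul s m => simp [e, ν]
    intro a b hab
    refine (e I).injective (hν ?_)
    rw [← key, ← key, hab]
  let eM := hj.equiv
  let eR : (S' ⊗[S] M) ≃ₗ[S'] M' := eM
  letI : Module R M' := Module.compHom M' (algebraMap R S')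
  haveI : IsScalarTower R S' M' := ⟨fun r s x => by
    show (r • s) • x = algebraMap R S' r • s • x
    rw [Algebra.smul_def, mul_smul]⟩
  haveI : IsScalarTower R R' M' := ⟨fun r r' x => by
    show (r • r') • x = algebraMap R S' r • r' • x
    rw [Algebra.smul_def, mul_smul, IsScalarTower.algebraMap_apply R R' S' r, algebraMap_smul S' (algebraMap R R' r)]⟩
  have : Module.Flat R M' := Module.Flat.of_linearEquiv (eR.restrictScalars R).symm
  have : Module.Finite S' M' := Module.Finite.equiv eR
  let m := IsLocalRing.maximalIdeal R'
  have key : ∀ J : Ideal R', (IsLocalRing.maximalIdeal R).map (algebraMap R R') = J →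
      Function.Injective (J.subtype.lTensor M') := by
    rintro J rfl
    exact Groth.Agent.FlatCrit65.injective_lTensor_map (IsLocalRing.maximalIdeal R)
  have h1 := key m hm
  letI := Ideal.Quotient.field m
  exact Groth.Agent.FlatCrit65.flat_of_lexQuot_of_isLocalRing (S := S')
    (Ideal.IsMaximal.ne_top inferInstance)
    (Groth.Agent.FlatCrit65.torTriv_of_injective (I := m) h1 inferInstance).lexQuot

end Groth.Agent.S6382
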