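import Groth.Statements.S6383
import Groth.Agent.FlatMor67.Kaplansky
open TensorProduct

set_option autoImplicit false
universe u
open scoped TensorProduct
open CAlg

namespace Groth.Agent.S6383

/-- For a ring map R → S and an R-module M whose base change S ⊗_R M is an internal direct sum of
countably generated S-submodules Q_i (i ∈ I), every countably generated submodule N ≤ M can be
enlarged to a countably generated submodule N' ≤ M, together with a subset I' ⊆ I, so that the
S-span of the image 1 ⊗ N' inside S ⊗_R M equals the sum of the Q_i over i ∈ I'. -/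
theorem result (R S : Type u) [CommRing R] [CommRing S] [Algebra R S]
    (M : Type u) [AddCommGroup M] [Module R M] {I : Type u} [DecidableEq I] (Q : I → Submodule S (S ⊗[R] M))
    (hQ : DirectSum.IsInternal Q) (hQc : ∀ i, ∃ t : Set (S ⊗[R] M), t.Countable ∧ Submodule.span S t = Q i)
    (N : Submodule R M) (hN : ∃ s : Set M, s.Countable ∧ Submodule.span R s = N) :
    ∃ (N' : Submodule R M) (I' : Set I), N ≤ N' ∧ (∃ s : Set M, s.Countable ∧ Submodule.span R s = N') ∧
      Submodule.span S ((TensorProduct.mk R S M 1) '' (N' : Set M)) = ⨆ i ∈ I', Q i := by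
  classical
  obtain ⟨s, hs, rfl⟩ := hN
  choose t htc htQ using hQc
  have hgen : ∀ z : S ⊗[R] M, ∃ w : Finset M, z ∈ Submodule.span S (TensorProduct.mk R S M 1 '' w) := fun z => by
    obtain ⟨T, rfl⟩ := TensorProduct.exists_finset z
    refine ⟨T.image Prod.snd, Submodule.sum_mem _ fun p hp => ?_⟩
    rw [show p.1 ⊗ₜ[R] p.2 = p.1 • TensorProduct.mk R S M 1 p.2 by simp [TensorProduct.smul_tmul']]
    exact Submodule.smul_mem _ _ (Submodule.subset_span ⟨p.2, by simpa using ⟨p.1, hp⟩, rfl⟩)
  choose w hw using hgen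
  have htop : iSup Q = ⊤ :=
    hQ.submodule_iSup_eq_top
  choose supp hsupp using fun m : M => Groth.Agent.FlatMor67.exists_supp htop (TensorProduct.mk R S M 1 m)
  let F : M ⊕ I → Set (M ⊕ I) := Sum.elim (fun m => Sum.inr '' (supp m : Set I))
    (fun i => Sum.inl '' ⋃ z ∈ t i, (w z : Set M))
  obtain ⟨J, hJc, hAJ, hJ⟩ := Groth.Agent.FlatMor67.exists_countable_closed F (by
    rintro (m | i)
    · exact (supp m).countable_toSet.image _
    · exact ((htc i).biUnion fun z _ => (w z).countable_toSet).image _) (Sum.inl '' s) (hs.image _)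
  refine ⟨Submodule.span R (Sum.inl ⁻¹' J), Sum.inr ⁻¹' J,
    Submodule.span_mono fun m hm => hAJ ⟨m, hm, rfl⟩,
    ⟨_, hJc.preimage Sum.inl_injective, rfl⟩, le_antisymm (Submodule.span_le.mpr ?_) (iSup₂_le fun i hi => ?_)⟩
  · rintro _ ⟨m, hm, rfl⟩
    refine Submodule.span_induction (fun x hx => ?_) ?_ (fun x y _ _ hx hy => ?_) (fun a x _ hx => ?_) hm
    · exact (biSup_mono fun i hi => hJ _ hx ⟨i, hi, rfl⟩ :
        (⨆ k ∈ (supp x : Set I), Q k) ≤ ⨆ i ∈ Sum.inr ⁻¹' J, Q i) (hsupp x)
    · rw [map_zero]; exact zero_mem _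
    · rw [map_add]; exact add_mem hx hy
    · rw [map_smul]; exact Submodule.smul_of_tower_mem _ a hx
  · rw [← htQ i, Submodule.span_le]
    intro z hz
    refine Submodule.span_mono (Set.image_mono fun m hm => Submodule.subset_span ?_) (hw z)
    exact hJ _ hi ⟨m, Set.mem_biUnion hz hm, rfl⟩

end Groth.Agent.S6383
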