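import Groth.Statements.S6385
import Mathlib
import Groth.Agent.S12208

set_option autoImplicit false
universe u
open CAlg

namespace Groth.Agent.S6385

/-- Let k be a field, S a finite type k-algebra, q a prime of S and x the corresponding point of X =
Spec S. Then there is g ∈ S, g ∉ q, such that dim S_g equals dim_x X — the minimum of dim S_{g'}
over all g' ∉ q — and, writing d for this dimension, a finite injective k-algebra map from the
polynomial ring k[y_1, ..., y_d] to S_g. -/
theorem result (k S : Type u) [Field k] [CommRing S] [Algebra k S]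
    [Algebra.FiniteType k S] (q : Ideal S) [q.IsPrime] :
    ∃ (g : S) (d : ℕ), g ∉ q ∧ ringKrullDim (Localization.Away g) = d ∧
      (∀ g' : S, g' ∉ q → ringKrullDim (Localization.Away g) ≤ ringKrullDim (Localization.Away g')) ∧
      ∃ φ : MvPolynomial (Fin d) k →ₐ[k] Localization.Away g, Function.Injective φ ∧ φ.toRingHom.Finite := by
  classical
  obtain ⟨_, ⟨g, hg, rfl⟩, hmin⟩ := wellFounded_lt.has_min
    {x : WithBot ℕ∞ | ∃ g : S, g ∉ q ∧ ringKrullDim (Localization.Away g) = x}
    ⟨_, 1, (Ideal.ne_top_iff_one q).mp (Ideal.IsPrime.ne_top ‹_›), rfl⟩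
  have : Nontrivial (Localization.Away g) := by
    refine nontrivial_of_ne (1 : Localization.Away g) 0 fun h => ?_
    rw [← map_one (algebraMap S (Localization.Away g)), IsLocalization.map_eq_zero_iff (Submonoid.powers g)] at h
    obtain ⟨⟨_, n, rfl⟩, hn⟩ := h
    simp only [mul_one] at hn
    exact hg (Ideal.IsPrime.mem_of_pow_mem ‹_› n (by rw [show g ^ n = 0 from hn]; exact q.zero_mem))
  have : Algebra.FiniteType S (Localization.Away g) := IsLocalization.finiteType_of_monoid_fg (Submonoid.powers g) _
  have : Algebra.FiniteType k (Localization.Away g) := Algebra.FiniteType.trans (S := S) ‹_› ‹_›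
  obtain ⟨d, φ, hinj, hfin⟩ := exists_finite_inj_algHom_of_fg k (Localization.Away g)
  exact ⟨g, d, hg, Groth.Agent.S12208.dim_eq_of_injective_finite φ.toRingHom hinj hfin,
    fun g' hg' => not_lt.mp (hmin _ ⟨g', hg', rfl⟩), φ, hinj, hfin⟩

end Groth.Agent.S6385
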