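import Groth.Statements.S6386
import Mathlib.Algebra.FreeAlgebra.Cardinality

set_option autoImplicit false
universe u
open CAlg

namespace Groth.Agent.S6386

/-- The key step of its proof: let A be a ring, κ = max(|A|, ℵ₀), and B a flat A-algebra. Then every
A-subalgebra E ⊆ B with at most κ elements lies inside a flat A-subalgebra B' ⊆ B with at most κ
elements. Consequently B is the filtered colimit (union) of its flat A-subalgebras of cardinality at
most κ. -/
theorem result (A B : Type u) [CommRing A] [CommRing B] [Algebra A B]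
    [Module.Flat A B] (E : Subalgebra A B) (hE : Cardinal.mk E ≤ max (Cardinal.mk A) Cardinal.aleph0) :
    ∃ B' : Subalgebra A B, E ≤ B' ∧ Module.Flat A B' ∧ Cardinal.mk B' ≤ max (Cardinal.mk A) Cardinal.aleph0 := by
  classical
  set κ := max (Cardinal.mk A) Cardinal.aleph0 with hκ
  have hω : Cardinal.aleph0 ≤ κ := le_max_right _ _
  have hA : Cardinal.mk A ≤ κ := le_max_left _ _
  have hpi : ∀ (k : ℕ) (Z : Type u), Cardinal.mk Z ≤ κ → Cardinal.mk (Fin k → Z) ≤ κ := by
    intro k Z hZ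
    rw [Cardinal.mk_arrow, Cardinal.mk_fin, Cardinal.lift_uzero, Cardinal.lift_natCast]
    exact (Cardinal.power_le_power_right hZ).trans (Cardinal.power_nat_le hω)
  have hsig : ∀ Z : ℕ → Type u, (∀ k, Cardinal.mk (Z k) ≤ κ) → Cardinal.mk (Σ k, Z k) ≤ κ := by
    intro Z hZ
    rw [Cardinal.mk_sigma]
    refine (Cardinal.sum_le_lift_mk_mul_iSup _).trans ?_
    rw [Cardinal.mk_nat, Cardinal.lift_aleph0]
    exact (mul_le_mul_right (ciSup_le' hZ) _).trans (Cardinal.aleph0_mul_eq hω).le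
  have step : ∀ C : Subalgebra A B, Cardinal.mk C ≤ κ → ∃ C' : Subalgebra A B, C ≤ C' ∧
      Cardinal.mk C' ≤ κ ∧ ∀ {l : ℕ} (f : Fin l → A) (x : Fin l → B), (∀ i, x i ∈ C) →
        ∑ i, f i • x i = 0 → ∃ (k : ℕ) (a : Fin l → Fin k → A) (y : Fin k → B),
          (∀ j, y j ∈ C') ∧ (∀ i, x i = ∑ j, a i j • y j) ∧ ∀ j, ∑ i, f i * a i j = 0 := by
    intro C hC
    let I := Σ l : ℕ, (Fin l → A) × (Fin l → C)
    have hI : Cardinal.mk I ≤ κ := hsig _ fun l => by
      rw [Cardinal.mk_prod, Cardinal.lift_id, Cardinal.lift_id]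
      exact (mul_le_mul' (hpi l A hA) (hpi l C hC)).trans (Cardinal.mul_eq_self hω).le
    have hex : ∀ i : I, ∃ (k : ℕ) (a : Fin i.1 → Fin k → A) (y : Fin k → B),
        ∑ j, i.2.1 j • (i.2.2 j : B) = 0 →
          (∀ j, (i.2.2 j : B) = ∑ t, a j t • y t) ∧ ∀ t, ∑ j, i.2.1 j * a j t = 0 := by
      intro i
      by_cases h : ∑ j, i.2.1 j • (i.2.2 j : B) = 0
      · obtain ⟨k, a, y, hay⟩ := Module.Flat.isTrivialRelation_of_sum_smul_eq_zero h
        exact ⟨k, a, y, fun _ => hay⟩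
      · exact ⟨0, fun _ => Fin.elim0, Fin.elim0, fun h' => absurd h' h⟩
    choose k a y hay using hex
    refine ⟨Algebra.adjoin A ((C : Set B) ∪ ⋃ i, Set.range (y i)),
      fun c hc => Algebra.subset_adjoin (Or.inl hc), ?_, fun {l} f x hx hfx => ?_⟩
    · refine (Algebra.cardinalMk_adjoin_le A _).trans (max_le (max_le hA ?_) hω)
      refine (Cardinal.mk_union_le _ _).trans (Cardinal.add_le_of_le hω hC ?_)
      refine (Cardinal.mk_iUnion_le _).trans ?_
      refine (mul_le_mul' hI (ciSup_le' fun i => ?_)).trans (Cardinal.mul_eq_self hω).le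
      exact ((Set.finite_range (y i)).lt_aleph0).le.trans hω
    · let i : I := ⟨l, f, fun j => ⟨x j, hx j⟩⟩
      exact ⟨k i, a i, y i, fun j => Algebra.subset_adjoin (Or.inr (Set.mem_iUnion.mpr ⟨i, j, rfl⟩)),
        hay i hfx⟩
  choose F hFle hFc hF using step
  let G : ℕ → {C : Subalgebra A B // Cardinal.mk C ≤ κ} :=
    fun n => Nat.rec ⟨E, hE⟩ (fun _ C => ⟨F C.1 C.2, hFc _ _⟩) n
  have hmono : Monotone fun n => (G n).1 := monotone_nat_of_le_succ fun n => hFle _ _
  have hmem : ∀ x, x ∈ (⨆ n, (G n).1) ↔ ∃ n, x ∈ (G n).1 := fun x => by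
    rw [← SetLike.mem_coe, Subalgebra.coe_iSup_of_directed hmono.directed_le]
    exact Set.mem_iUnion
  refine ⟨⨆ n, (G n).1, le_iSup (fun n => (G n).1) 0, ?_, ?_⟩
  · rw [Module.Flat.iff_forall_isTrivialRelation]
    intro l f x hfx
    choose n hn using fun i => (hmem (x i : B)).mp (x i).2
    let N := Finset.univ.sup n
    have hN : ∀ i, (x i : B) ∈ (G N).1 := fun i => hmono (Finset.le_sup (Finset.mem_univ i)) (hn i)
    have h0 : ∑ i, f i • (x i : B) = 0 := by
      have := congrArg Subtype.val hfx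
      simpa using this
    obtain ⟨k, a, y, hy, h1, h2⟩ := hF (G N).1 (G N).2 f (fun i => (x i : B)) hN h0
    refine ⟨k, a, fun j => ⟨y j, (hmem _).mpr ⟨N + 1, hy j⟩⟩, fun i => Subtype.ext ?_, h2⟩
    simpa using h1 i
  · have e : ((⨆ n, (G n).1 : Subalgebra A B) : Set B) = ⋃ n : ULift.{u} ℕ, ((G n.down).1 : Set B) := by
      ext x
      simp [hmem]
    refine (Cardinal.mk_congr (Equiv.setCongr e)).trans_le ((Cardinal.mk_iUnion_le _).trans ?_)
    have h1 : Cardinal.mk (ULift.{u} ℕ) ≤ κ := by simpa using hω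
    have h2 : (⨆ n : ULift.{u} ℕ, Cardinal.mk ((G n.down).1 : Set B)) ≤ κ :=
      ciSup_le' fun n : ULift.{u} ℕ => (G n.down).2
    exact (mul_le_mul' h1 h2).trans (Cardinal.mul_eq_self hω).le

end Groth.Agent.S6386
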