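import Groth.Statements.S6387
import Groth.Agent.FlatCrit65.Fibre
import Mathlib.Algebra.Homology.ShortComplex.ModuleCat
open TensorProduct

set_option autoImplicit false
universe u
open CategoryTheory
open CAlg

namespace Groth.Agent.S6387

/-- Let R and S be Noetherian local rings, R → S a local ring map, and m the maximal ideal of R. Take a
bounded complex F_e → … → F_1 → F_0 of finitely generated S-modules, zero to the left of F_e (a
chain complex C with C_j = 0 for j > e) such that every F_j is flat over R and the complex 0 →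
F_e/mF_e → … → F_0/mF_0 (C tensored over S with S/mS) is exact at F_e, …, F_1. Then 0 → F_e → … →
F_0 is exact at F_e, …, F_1 and the cokernel of F_1 → F_0 (the homology of C in degree 0) is flat
over R. -/
theorem result {R S : Type u} [CommRing R] [CommRing S]
    [IsLocalRing R] [IsLocalRing S] [IsNoetherianRing R] [IsNoetherianRing S] [Algebra R S]
    [IsLocalHom (algebraMap R S)] (C : ChainComplex (ModuleCat.{u} S) ℕ) (e : ℕ)
    (hzero : ∀ j, e < j → Limits.IsZero (C.X j)) (hfin : ∀ j, Module.Finite S (C.X j))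
    (hflat : ∀ j, Module.Flat R ((ModuleCat.restrictScalars (algebraMap R S)).obj (C.X j)))
    (hex : ∀ j, 1 ≤ j → j ≤ e →
      (((MonoidalCategory.tensorLeft
          (ModuleCat.of S (S ⧸ (IsLocalRing.maximalIdeal R).map (algebraMap R S)))).mapHomologicalComplex
          (ComplexShape.down ℕ)).obj C).ExactAt j) :
    (∀ j, 1 ≤ j → j ≤ e → C.ExactAt j) ∧
      Module.Flat R ((ModuleCat.restrictScalars (algebraMap R S)).obj (C.homology 0)) := by
  letI hmod : ∀ j, Module R (C.X j) := fun j => Module.compHom _ (algebraMap R S)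
  haveI htow : ∀ j, IsScalarTower R S (C.X j) := fun j =>
    IsScalarTower.of_algebraMap_smul fun _ _ => rfl
  haveI hfl : ∀ j, Module.Flat R (C.X j) := hflat
  haveI := hfin
  set m := IsLocalRing.maximalIdeal R with hm
  have hjac : m.map (algebraMap R S) ≤ Ideal.jacobson ⊥ := by
    rw [IsLocalRing.jacobson_eq_maximalIdeal ⊥ bot_ne_top, Ideal.map_le_iff_le_comap]
    exact fun x hx hu => hx (isUnit_of_map_unit (algebraMap R S) x hu)
  set mS := m.map (algebraMap R S) with hmS
  let P : ℕ → Prop := fun j =>
    Module.Flat R (C.X j ⧸ LinearMap.range (C.d (j + 1) j).hom)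
  have hstep : ∀ i, i + 1 ≤ e → P (i + 1) → C.ExactAt (i + 1) ∧ P i := by
    intro i hi hP
    let D := (C.d (i + 1 + 1) (i + 1)).hom
    let d := (C.d (i + 1) i).hom
    have hle : LinearMap.range D ≤ LinearMap.ker d := by
      rintro _ ⟨y, rfl⟩
      exact LinearMap.congr_fun (congrArg ModuleCat.Hom.hom (C.d_comp_d (i + 1 + 1) (i + 1) i)) y
    let f := (LinearMap.range D).liftQ d hle
    have : Module.Flat R (C.X (i + 1) ⧸ LinearMap.range D) := hP
    have hex' := hex (i + 1) (by omega) hi
    rw [HomologicalComplex.exactAt_iff' _ (i + 1 + 1) (i + 1) i (by simp) (by simp),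
      ShortComplex.moduleCat_exact_iff] at hex'
    have hfib : ∀ n, f n ∈ m • (⊤ : Submodule R (C.X i)) →
        n ∈ m • (⊤ : Submodule R (C.X (i + 1) ⧸ LinearMap.range D)) := by
      intro n hn
      obtain ⟨x, rfl⟩ := Submodule.Quotient.mk_surjective _ n
      have hdx : (1 : S ⧸ mS) ⊗ₜ[S] d x = 0 := (Groth.Agent.FlatCrit65.one_tmul_eq_zero_iff mS _).mpr
        (Groth.Agent.FlatCrit65.smul_top_restrictScalars_le m hn)
      obtain ⟨z, hz⟩ := hex' ((1 : S ⧸ mS) ⊗ₜ[S] x) hdx
      have hall : ∀ w : (S ⧸ mS) ⊗[S] C.X (i + 1 + 1), ∃ y, w = (1 : S ⧸ mS) ⊗ₜ[S] y := by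
        intro w
        induction w using TensorProduct.induction_on with
        | zero => exact ⟨0, (tmul_zero _ _).symm⟩
        | add a b ha hb =>
          obtain ⟨y, rfl⟩ := ha
          obtain ⟨y', rfl⟩ := hb
          exact ⟨y + y', (tmul_add _ _ _).symm⟩
        | tmul s y =>
          obtain ⟨s, rfl⟩ := Ideal.Quotient.mk_surjective s
          exact ⟨s • y, by rw [← smul_tmul, Algebra.smul_def, mul_one]; rfl⟩
      obtain ⟨y, rfl⟩ := hall z
      have hxy : x - D y ∈ mS • (⊤ : Submodule S (C.X (i + 1))) := by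
        rw [← Groth.Agent.FlatCrit65.one_tmul_eq_zero_iff, tmul_sub, sub_eq_zero]
        exact hz.symm
      have hxy' := Submodule.mem_map_of_mem (f := (LinearMap.range D).mkQ) hxy
      rw [Submodule.map_smul'', map_sub, Submodule.mkQ_apply, Submodule.mkQ_apply,
        (Submodule.Quotient.mk_eq_zero (LinearMap.range D) (x := D y)).mpr ⟨y, rfl⟩, sub_zero] at hxy'
      exact Groth.Agent.FlatCrit65.mem_smul_restrictScalars m
        (Submodule.smul_mono le_rfl le_top hxy')
    obtain ⟨hinj, hflatQ⟩ := Groth.Agent.FlatCrit65.injective_and_flat_quotient (S := S) m hjac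
      (f.restrictScalars R) (Groth.Agent.FlatCrit65.lTensor_quot_injective _ m hfib)
    refine ⟨?_, ?_⟩
    · rw [HomologicalComplex.exactAt_iff' _ (i + 1 + 1) (i + 1) i (by simp) (by simp),
        ShortComplex.moduleCat_exact_iff]
      intro x hx
      have h0 : Submodule.Quotient.mk (p := LinearMap.range D) x = 0 := hinj (by
        show f (Submodule.Quotient.mk x) = f 0
        rw [map_zero]
        exact hx)
      exact (Submodule.Quotient.mk_eq_zero _).mp h0
    · have hr : LinearMap.range d = LinearMap.range f := (Submodule.range_liftQ _ _ _).symm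
      have e1 : (C.X i ⧸ LinearMap.range (f.restrictScalars R)) ≃ₗ[R] (C.X i ⧸ LinearMap.range f) :=
        Submodule.Quotient.restrictScalarsEquiv R (LinearMap.range f)
      exact Module.Flat.of_linearEquiv
        (((Submodule.quotEquivOfEq _ _ hr).restrictScalars R).trans e1.symm)
  have hP : ∀ k j, j + k = e → P j := by
    intro k
    induction k with
    | zero =>
      intro j hj
      have h0 : LinearMap.range (C.d (j + 1) j).hom = ⊥ := by
        rw [(hzero (j + 1) (by omega)).eq_zero_of_src (C.d (j + 1) j)]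
        exact LinearMap.range_zero
      exact Module.Flat.of_linearEquiv ((Submodule.quotEquivOfEqBot _ h0).restrictScalars R)
    | succ k ih => exact fun j hj => (hstep j (by omega) (ih (j + 1) (by omega))).2
  refine ⟨fun j h1 h2 => ?_, ?_⟩
  · obtain ⟨i, rfl⟩ : ∃ i, j = i + 1 := ⟨j - 1, by omega⟩
    exact (hstep i h2 (hP (e - (i + 1)) (i + 1) (by omega))).1
  · have hP0 : Module.Flat R (C.X 0 ⧸ LinearMap.range (C.d 1 0).hom) := hP e 0 (by omega)
    let i0 : C.homology 0 ≅ ModuleCat.of S (C.X 0 ⧸ LinearMap.range (C.d 1 0).hom) :=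
      C.isoHomologyι₀ ≪≫ (Limits.IsColimit.coconePointUniqueUpToIso
        (C.opcyclesIsCokernel 1 0 (by simp)) (ModuleCat.cokernelIsColimit (C.d 1 0)))
    letI : Module R (C.homology 0) := Module.compHom _ (algebraMap R S)
    haveI : IsScalarTower R S (C.homology 0) := IsScalarTower.of_algebraMap_smul fun _ _ => rfl
    exact Module.Flat.of_linearEquiv (i0.toLinearEquiv.restrictScalars R)

end Groth.Agent.S6387
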