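import Groth.Statements.S6388
import Mathlib.LinearAlgebra.TensorProduct.RightExactness
import Mathlib.LinearAlgebra.TensorProduct.Prod

set_option autoImplicit false
universe u
open CAlg

namespace Groth.Agent.S6388

/-- Let f : M → N and g : M → M' be maps of R-modules and let N' be their pushout, realised as the
quotient of M' × N by the submodule of elements (g x, -f x). Then g dominates f — for every module Q
the kernel of f ⊗ id_Q is contained in the kernel of g ⊗ id_Q — if and only if the canonical map M'
→ N' is universally injective. -/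
theorem result (R : Type u) [CommRing R] {M N M' : Type u}
    [AddCommGroup M] [Module R M] [AddCommGroup N] [Module R N] [AddCommGroup M'] [Module R M']
    (f : M →ₗ[R] N) (g : M →ₗ[R] M') :
    (∀ (Q : Type u) [AddCommGroup Q] [Module R Q], LinearMap.ker (f.rTensor Q) ≤ LinearMap.ker (g.rTensor Q)) ↔
      CAlgX.UniversallyInjective R
        ((LinearMap.range (g.prod (-f))).mkQ ∘ₗ LinearMap.inl R M' N) := by
  constructor
  · intro h Q _ _
    refine (injective_iff_map_eq_zero _).mpr fun y hy => ?_
    rw [LinearMap.rTensor_comp_apply] at hy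
    obtain ⟨x, hx⟩ :=
      (rTensor_exact Q (LinearMap.exact_map_mkQ_range (g.prod (-f))) (Submodule.mkQ_surjective _) _).1 hy
    have h1 := congrArg ((LinearMap.fst R M' N).rTensor Q) hx
    have h2 := congrArg ((LinearMap.snd R M' N).rTensor Q) hx
    rw [← LinearMap.rTensor_comp_apply, ← LinearMap.rTensor_comp_apply, LinearMap.fst_prod,
      LinearMap.fst_comp_inl, LinearMap.rTensor_id_apply] at h1
    rw [← LinearMap.rTensor_comp_apply, ← LinearMap.rTensor_comp_apply, LinearMap.snd_prod,
      LinearMap.snd_comp_inl] at h2
    rw [← h1]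
    exact h Q (by simpa using h2)
  · intro h Q _ _ x hx
    apply h Q
    rw [map_zero, LinearMap.rTensor_comp, LinearMap.comp_apply, ← LinearMap.comp_apply (f := (LinearMap.inl R M' N).rTensor Q), ← LinearMap.rTensor_comp]
    have hp : LinearMap.inl R M' N ∘ₗ g = g.prod (-f) + LinearMap.inr R M' N ∘ₗ f := by
      ext v <;> simp
    rw [hp, LinearMap.rTensor_add, LinearMap.add_apply, LinearMap.rTensor_comp_apply,
      LinearMap.mem_ker.mp hx, map_zero, add_zero]
    exact (rTensor_exact Q (LinearMap.exact_map_mkQ_range (g.prod (-f))) (Submodule.mkQ_surjective _) _).2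
      ⟨x, rfl⟩

end Groth.Agent.S6388
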