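import Groth.Statements.S6390
import Groth.Agent.Devissage3.Basic
import Mathlib.SetTheory.Ordinal.Basic

set_option autoImplicit false
universe u
open scoped Classical
open CAlg

namespace Groth.Agent.S6390

/-- An R-module M is a direct sum of countably generated modules if and only if it admits a Kaplansky
dévissage, i.e. an increasing family of submodules (M_s) indexed by a well-ordered set S with M_s =
⋃_{t<s} M_t at non-successor indices (so the first term is 0), ⋃_s M_s = M, and, whenever t is the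
successor of s, M_s a direct summand of M_t with M_t/M_s countably generated. -/
theorem result (R : Type u) [CommRing R] (M : Type u)
    [AddCommGroup M] [Module R M] :
    (∃ (ι : Type u) (N : ι → Submodule R M), DirectSum.IsInternal N ∧ ∀ i, CAlg.IsCountablyGenerated R (N i)) ↔
      ∃ (S : Type u) (_ : LinearOrder S) (_ : WellFoundedLT S) (Mf : S → Submodule R M), Monotone Mf ∧
        (∀ s : S, Order.IsSuccPrelimit s → Mf s = ⨆ t : {t : S // t < s}, Mf t.1) ∧
        (⨆ s, Mf s) = ⊤ ∧
        (∀ s t : S, s ⋖ t → ∃ C : Submodule R M, Mf s ⊓ C = ⊥ ∧ Mf s ⊔ C = Mf t ∧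
          CAlg.IsCountablyGenerated R (↥(Mf t) ⧸ Submodule.comap (Mf t).subtype (Mf s))) := by
  classical
  constructor
  · rintro ⟨ι, N, hN, hc⟩
    rw [DirectSum.isInternal_submodule_iff_iSupIndep_and_iSup_eq_top] at hN
    obtain ⟨_, _⟩ := exists_wellOrder ι
    let Mf : WithTop ι → Submodule R M := fun s => ⨆ i : {i : ι // (i : WithTop ι) < s}, N i.1
    have hmono : Monotone Mf := fun a b hab =>
      iSup_le fun i => le_iSup (fun j : {i : ι // (i : WithTop ι) < b} => N j.1) ⟨i.1, i.2.trans_le hab⟩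
    refine ⟨WithTop ι, inferInstance, inferInstance, Mf, hmono, fun s hs => ?_, ?_, fun s t hst => ?_⟩
    · refine le_antisymm (iSup_le fun i => ?_) (iSup_le fun t => hmono t.2.le)
      obtain ⟨t, ht1, ht2⟩ := (not_covBy_iff i.2).mp (hs i.1)
      exact le_iSup_of_le ⟨t, ht2⟩ (le_iSup (fun j : {k : ι // (k : WithTop ι) < t} => N j.1) ⟨i.1, ht1⟩)
    · refine top_unique (hN.2 ▸ iSup_le fun i => le_iSup_of_le ⊤ ?_)
      exact le_iSup (fun j : {k : ι // (k : WithTop ι) < ⊤} => N j.1) ⟨i, WithTop.coe_lt_top i⟩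
    · obtain ⟨i, rfl⟩ := WithTop.ne_top_iff_exists.mp hst.lt.ne_top
      have h1 : Mf i ⊓ N i = ⊥ := by
        refine ((hN.1 i).mono_right (iSup_le fun j => ?_)).symm.eq_bot
        exact le_iSup₂_of_le j.1 (fun h => lt_irrefl (i : WithTop ι) (by simpa [h] using j.2)) le_rfl
      have h2 : Mf i ⊔ N i = Mf t := by
        refine le_antisymm (sup_le (hmono hst.lt.le)
          (le_iSup (fun j : {k : ι // (k : WithTop ι) < t} => N j.1) ⟨i, hst.lt⟩)) (iSup_le fun j => ?_)
        rcases lt_or_eq_of_le (hst.le_of_lt j.2) with h | h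
        · exact le_sup_of_le_left (le_iSup (fun k : {k : ι // (k : WithTop ι) < i} => N k.1) ⟨j.1, h⟩)
        · rw [WithTop.coe_inj.mp h]; exact le_sup_right
      refine ⟨N i, h1, h2, ?_⟩
      obtain ⟨w, hw, hspan⟩ := hc i
      let e := Groth.Agent.Devissage3.quotEquiv h1 h2
      refine ⟨e '' w, hw.image _, ?_⟩
      rw [← LinearEquiv.coe_toLinearMap, ← Submodule.map_span, hspan, Submodule.map_top,
        LinearMap.range_eq_top]
      exact e.surjective
  · rintro ⟨S, _, _, Mf, hmono, hlim, htop, hsum⟩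
    choose C h1 h2 h3 using fun p : {p : S × S // p.1 ⋖ p.2} => hsum p.1.1 p.1.2 p.2
    refine ⟨_, C, ?_, fun p => ?_⟩
    · convert Groth.Agent.Devissage3.isInternal_of_devissage Mf hmono hlim htop C h1 h2
    obtain ⟨w, hw, hspan⟩ := h3 p
    let e := (Groth.Agent.Devissage3.quotEquiv (h1 p) (h2 p)).symm
    refine ⟨e '' w, hw.image _, ?_⟩
    rw [← LinearEquiv.coe_toLinearMap, ← Submodule.map_span, hspan, Submodule.map_top,
      LinearMap.range_eq_top]
    exact e.surjective

end Groth.Agent.S6390
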