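import Groth.Statements.S6398
import Groth.Agent.Fib44.Equiv
-- import your own Groth.Agent.* helpers here

set_option autoImplicit false
open CategoryTheory
universe v u
open FibCat

namespace Groth.Agent.S6398

/-- A functor `G` over `C` between categories fibred in groupoids is an equivalence of categories if and
only if each induced functor of fibre categories `𝒳_U ⥤ 𝒴_U` is an equivalence of categories. -/
theorem result {C : Type u} [Category.{v} C] {𝒳 𝒴 : BasedCategory.{v, max u v} C} (G : 𝒳 ⥤ᵇ 𝒴) (h𝒳 : FibCat.IsFibGrpd 𝒳.p) (h𝒴 : FibCat.IsFibGrpd 𝒴.p) :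
    G.toFunctor.IsEquivalence ↔ ∀ U : C, (FibCat.fiberFunctor G U).IsEquivalence := by
  have := Fib44.isFibered_of_isFibGrpd 𝒳.p (h := h𝒳)
  refine ⟨fun _ U => ?_, fun h => ?_⟩
  · exact Fib44.fiberFunctor_isEquivalence (Fib44.isEquivOver_of_essSurjOver G
      (Fib44.essSurjOver_of_isEquivalence
        (fun _ _ α ξ hξ => Fib44.exists_iso_lift_of_fibGrpd h𝒳 α ξ hξ) G)) U
  · exact Fib44.isEquivalence_of_isEquivOver
      (Fib44.isEquivOver_of_fiber G (Fib44.preservesSC_of_fibGrpd h𝒴 G) h)

end Groth.Agent.S6398
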