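import Groth.Statements.S6399
import Groth.Agent.Fib44.Fp2
-- import your own Groth.Agent.* helpers here

set_option autoImplicit false
open CategoryTheory
universe v u
open FibCat

namespace Groth.Agent.S6399

set_option backward.isDefEq.respectTransparency false
set_option backward.isDefEq.respectTransparency.types false

/-- A functor `G : 𝒳 ⟶ 𝒴` over `C` between categories fibred in groupoids is fully faithful if and only
if the diagonal `𝒳 ⟶ 𝒳 ×_𝒴 𝒳` is an equivalence over `C`. -/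
theorem result {C : Type u} [Category.{v} C] {𝒳 𝒴 : BasedCategory.{v, max u v} C} (G : 𝒳 ⥤ᵇ 𝒴) (h𝒳 : FibCat.IsFibGrpd 𝒳.p) (h𝒴 : FibCat.IsFibGrpd 𝒴.p) :
    (G.toFunctor.Full ∧ G.toFunctor.Faithful) ↔ FibCat.IsEquivOver (FibCat.diag G) := by
  have := Fib44.isFibered_of_isFibGrpd 𝒳.p (h := h𝒳)
  constructor
  · rintro ⟨hf, hff⟩
    have : (FibCat.diag G).toFunctor.Faithful :=
      ⟨fun h => congrArg (fun k => k.hom.fst) h⟩
    have : (FibCat.diag G).toFunctor.Full := ⟨fun {x y} φ => by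
      refine ⟨φ.hom.fst, Fib44.fp_hom_ext rfl (G.toFunctor.map_injective ?_)⟩
      have h : G.map φ.hom.fst ≫ 𝟙 _ = 𝟙 _ ≫ G.map φ.hom.snd := Fib44.fp_w φ
      exact (Category.comp_id _).symm.trans (h.trans (Category.id_comp _))⟩
    refine Fib44.isEquivOver_of_essSurjOver _ fun η => ?_
    let θ := G.toFunctor.preimageIso η.obj.iso
    refine ⟨η.obj.fst, Fib44.fpIsoMk (Iso.refl _) θ ?_,
      (Fib44.fp_isHomLift_iff _ _).mpr (IsHomLift.id rfl)⟩
    change G.map (𝟙 _) ≫ η.obj.iso.hom = 𝟙 _ ≫ G.toFunctor.map (G.toFunctor.preimage η.obj.iso.hom)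
    rw [G.toFunctor.map_preimage]
    simp
  · intro h
    have := Fib44.full_of_isEquivOver h
    have hff : G.toFunctor.Faithful := ⟨fun {a b f g} hfg => by
      obtain ⟨k, hk⟩ := (FibCat.diag G).toFunctor.map_surjective
        (Fib44.fpHom (x := (FibCat.diag G).obj a) (y := (FibCat.diag G).obj b) f g
          (by change G.map f ≫ 𝟙 _ = 𝟙 _ ≫ G.map g; rw [hfg]; simp))
      have h1 : k = f := congrArg (fun t => t.hom.fst) hk
      have h2 : k = g := congrArg (fun t => t.hom.snd) hk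
      rw [← h1, h2]⟩
    refine ⟨Fib44.full_of_fiber G (Fib44.preservesSC_of_fibGrpd h𝒴 G) fun U => ⟨fun {a b} k => ?_⟩, hff⟩
    have := k.2
    have hi : IsIso k.1 := Fib44.isIso_of_fibGrpd 𝒴.p h𝒴 (𝟙 U) k.1
    have hk : 𝒴.p.IsHomLift (𝟙 (𝒳.p.obj a.1)) k.1 := Fib44.lift_id_of_eq _ a.2.symm k.2
    let η : (FibCat.fp G G).obj := Fib44.fpMk a.1 b.1 (@asIso _ _ _ _ k.1 hi) hk
    obtain ⟨x, e, he⟩ := Fib44.essSurjOver_of_isEquivOver h η
    have he1 : 𝒳.p.IsHomLift (𝟙 U) e.hom.hom.fst :=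
      Fib44.lift_id_of_eq _ a.2 ((Fib44.fp_isHomLift_iff _ _).mp he)
    have he2 : 𝒳.p.IsHomLift (𝟙 U) e.hom.hom.snd :=
      Fib44.lift_id_of_eq _ a.2 (@Fib44.fp_isHomLift_snd _ _ _ _ _ _ _ _ _ _ _ _ e.hom he)
    let α : x ≅ a.1 := (FibCat.fpFst G G).toFunctor.mapIso e
    have hw : G.map α.hom ≫ k.1 = G.map e.hom.hom.snd :=
      (Fib44.fp_w e.hom).trans (Category.id_comp _)
    have hl : 𝒳.p.IsHomLift (𝟙 U) α.inv :=
      have : 𝒳.p.IsHomLift (𝟙 U) α.hom := he1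
      inferInstance
    refine ⟨⟨α.inv ≫ e.hom.hom.snd, inferInstance⟩, Subtype.ext ?_⟩
    change G.map (α.inv ≫ e.hom.hom.snd) = k.1
    rw [Functor.map_comp, ← hw, ← Category.assoc, ← Functor.map_comp, Iso.inv_hom_id]
    simp

end Groth.Agent.S6399
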