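import Groth.Statements.S6405
import Groth.Agent.Fib44.Inertia
-- import your own Groth.Agent.* helpers here

set_option autoImplicit false
open CategoryTheory
universe v u
open FibCat

namespace Groth.Agent.S6405

set_option backward.isDefEq.respectTransparency false
set_option backward.isDefEq.respectTransparency.types false

/-- (2) ⇒ (1): if `𝒳` is fibred in groupoids over `C` and the canonical functor `I_𝒳 ⟶ 𝒳` from its
inertia is an equivalence over `C`, then `𝒳` is fibred in setoids. (The published statement is an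
equivalence; this row states only that the inertia condition implies that `𝒳` is fibred in setoids.) -/
theorem result {C : Type u} [Category.{v} C] {𝒳 : BasedCategory.{v, max u v} C} (h𝒳 : FibCat.IsFibGrpd 𝒳.p)
    (h : FibCat.IsEquivOver (FibCat.inertiaToBase (FibCat.toSelf 𝒳))) : FibCat.IsFibSetoid 𝒳.p := by
  refine ⟨h𝒳, fun U a b => ⟨fun φ ψ => ?_⟩⟩
  have := φ.2
  have := ψ.2
  have hi := Fib44.isIso_of_fibGrpd 𝒳.p h𝒳 (𝟙 U) ψ.1
  obtain ⟨a, ha⟩ := a
  subst ha
  let α : a ⟶ a := φ.1 ≫ inv ψ.1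
  have : IsIso φ.1 := Fib44.isIso_of_fibGrpd 𝒳.p h𝒳 (𝟙 (𝒳.p.obj a)) φ.1
  have hα : 𝒳.p.IsHomLift (𝟙 (𝒳.p.obj a)) α := inferInstance
  let x : FibCat.InertiaObj (FibCat.toSelf 𝒳) :=
    ⟨a, asIso α, (IsHomLift.eq_of_isHomLift 𝒳.p (𝟙 (𝒳.p.obj a)) α).symm⟩
  let y : FibCat.InertiaObj (FibCat.toSelf 𝒳) := (FibCat.inertiaNeutral (FibCat.toSelf 𝒳)).obj a
  have := Fib44.full_of_isEquivOver h
  obtain ⟨k, hk⟩ := (FibCat.inertiaToBase (FibCat.toSelf 𝒳)).toFunctor.map_surjective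
    (X := x) (Y := y) (𝟙 a)
  have hk' : k.hom = 𝟙 a := hk
  have e := k.comm
  rw [hk'] at e
  have e' : α ≫ 𝟙 a = 𝟙 a ≫ 𝟙 a := e
  simp only [Category.comp_id] at e'
  apply Subtype.ext
  calc φ.1 = α ≫ ψ.1 := by simp [α]
    _ = ψ.1 := by rw [e']; exact Category.id_comp _

end Groth.Agent.S6405
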