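import Groth.Statements.S6406
import Groth.Agent.Fib44.Comp
import Groth.Agent.AlgSt88.Pi0
-- import your own Groth.Agent.* helpers here

set_option autoImplicit false
open CategoryTheory
universe v u
open FibCat

namespace Groth.Agent.S6406

set_option backward.isDefEq.respectTransparency false in
set_option backward.isDefEq.respectTransparency.types false in
open CategoryTheory.Functor in

/-- A category fibred in setoids over `C` admits an equivalence over `C` to a category fibred in sets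
over `C`. (The target is taken in the same universes as the slices `C/U`; its morphism sets are
essentially as small as those of `C`.) -/
theorem result {C : Type u} [Category.{v} C] {𝒳 : BasedCategory.{v, max u v} C} (h𝒳 : FibCat.IsFibSetoid 𝒳.p) :
    ∃ (𝒴 : BasedCategory.{v, max u v} C) (F : 𝒳 ⥤ᵇ 𝒴), FibCat.IsFibSet 𝒴.p ∧ FibCat.IsEquivOver F := by
  have faith : ∀ {p : 𝒳.obj ⥤ C}, FibCat.IsFibSetoid p → ∀ {a b : 𝒳.obj} (φ φ' : a ⟶ b),
      p.map φ = p.map φ' → φ = φ' := fun {p} hp {a b} φ φ' e => by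
    have := hp.1.isStronglyCartesian φ'
    have : p.IsHomLift (p.map φ') φ := (Fib44.isHomLift_iff_map_eq p _ _).mpr e
    let k := IsCartesian.map p (p.map φ') φ' φ
    have hk : k ≫ φ' = φ := IsCartesian.fac p (p.map φ') φ' φ
    have hth := hp.2 (p.obj a)
    let A : p.Fiber (p.obj a) := Functor.Fiber.mk rfl
    have : (⟨k, IsCartesian.map_isHomLift p (p.map φ') φ' φ⟩ : A ⟶ A) = 𝟙 A := Subsingleton.elim _ _
    have ek : k = 𝟙 a := congrArg Subtype.val this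
    rw [← hk, ek, Category.id_comp]
  refine ⟨_, AlgSt88.toPi0 h𝒳.1, ?_,
    AlgSt88.isEquivOver_toPi0 h𝒳.1 (fun φ φ' e => faith h𝒳 φ φ' e)⟩
  rw [Fib44.isFibSet_iff_existsUnique_lift]
  rintro ⟨W, s⟩ V (f : V ⟶ W)
  let o : Stk.EltObj (AlgSt88.pi0 𝒳 h𝒳.1) := ⟨V, (AlgSt88.pi0 𝒳 h𝒳.1).map f.op s⟩
  let l : o ⟶ ⟨W, s⟩ := ⟨f, rfl⟩
  refine ⟨⟨o, l⟩, IsHomLift.map (Stk.ofPsh (AlgSt88.pi0 𝒳 h𝒳.1)).p l, ?_⟩
  rintro ⟨⟨V', t⟩, ψ⟩ (hgl : (Stk.ofPsh (AlgSt88.pi0 𝒳 h𝒳.1)).p.IsHomLift f ψ)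
  obtain rfl : V' = V := IsHomLift.domain_eq (Stk.ofPsh (AlgSt88.pi0 𝒳 h𝒳.1)).p f ψ
  have e : f = ψ.hom := IsHomLift.eq_of_isHomLift (a := (⟨V', t⟩ : Stk.EltObj (AlgSt88.pi0 𝒳 h𝒳.1)))
    (b := ⟨W, s⟩) (Stk.ofPsh (AlgSt88.pi0 𝒳 h𝒳.1)).p f ψ
  clear hgl
  obtain ⟨g, hg⟩ := ψ
  dsimp only at e
  subst e
  replace hg : (AlgSt88.pi0 𝒳 h𝒳.1).map f.op s = t := hg
  subst hg
  rfl

end Groth.Agent.S6406
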