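import Groth.Statements.S6407
import Groth.Agent.Fib44.Basic
-- import your own Groth.Agent.* helpers here

set_option autoImplicit false
open CategoryTheory
universe v u
open FibCat

namespace Groth.Agent.S6407

set_option backward.isDefEq.respectTransparency false in
set_option backward.isDefEq.respectTransparency.types false in
open CategoryTheory.Functor in

/-- For categories `𝒳, 𝒴` fibred in setoids over `C` and functors `f, g : 𝒳 ⟶ 𝒴` over `C` that agree on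
isomorphism classes of objects of each fibre category, there is a unique 2-isomorphism `f ≅ g` over
`C`. -/
theorem result {C : Type u} [Category.{v} C] {𝒳 𝒴 : BasedCategory.{v, max u v} C} (h𝒳 : FibCat.IsFibSetoid 𝒳.p) (h𝒴 : FibCat.IsFibSetoid 𝒴.p) (f g : 𝒳 ⥤ᵇ 𝒴)
    (hfg : ∀ (U : C) (x : 𝒳.p.Fiber U), Nonempty ((FibCat.fiberFunctor f U).obj x ≅ (FibCat.fiberFunctor g U).obj x)) :
    Nonempty (Unique (f ≅ g)) := by
  have faith : ∀ {p : 𝒴.obj ⥤ C}, FibCat.IsFibSetoid p → ∀ {a b : 𝒴.obj} (φ φ' : a ⟶ b),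
      p.map φ = p.map φ' → φ = φ' := fun {p} hp {a b} φ φ' e => by
    have := hp.1.isStronglyCartesian φ'
    have : p.IsHomLift (p.map φ') φ := (Fib44.isHomLift_iff_map_eq p _ _).mpr e
    let k := IsCartesian.map p (p.map φ') φ' φ
    have hk : k ≫ φ' = φ := IsCartesian.fac p (p.map φ') φ' φ
    have hth := hp.2 (p.obj a)
    let A : p.Fiber (p.obj a) := Functor.Fiber.mk rfl
    have : (⟨k, IsCartesian.map_isHomLift p (p.map φ') φ' φ⟩ : A ⟶ A) = 𝟙 A := Subsingleton.elim _ _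
    have ek : k = 𝟙 a := congrArg Subtype.val this
    rw [← hk, ek, Category.id_comp]
  have lift : ∀ (F : 𝒳 ⥤ᵇ 𝒴) (x : 𝒳.obj) {U : C} (hx : 𝒳.p.obj x = U),
      ((FibCat.fiberFunctor F U).obj ⟨x, hx⟩).1 = F.obj x := fun F x U hx => rfl
  have hc : ∀ x : 𝒳.obj, ∃ e : f.obj x ≅ g.obj x,
      𝒴.p.IsHomLift (𝟙 (𝒳.p.obj x)) e.hom := fun x => by
    obtain ⟨e⟩ := hfg (𝒳.p.obj x) ⟨x, rfl⟩
    exact ⟨Functor.Fiber.fiberInclusion.mapIso e, e.hom.2⟩
  choose c hcl using hc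
  let e : f ≅ g := BasedNatIso.mkNatIso (NatIso.ofComponents c fun {x y} φ => by
    have := hcl x
    have := hcl y
    refine faith h𝒴 _ _ ?_
    simp [Functor.map_comp, Fib44.based_map f φ, Fib44.based_map g φ,
      IsHomLift.fac' 𝒴.p (𝟙 (𝒳.p.obj x)) (c x).hom, IsHomLift.fac' 𝒴.p (𝟙 (𝒳.p.obj y)) (c y).hom]) hcl
  refine ⟨⟨⟨e⟩, fun e' => Iso.ext (Fib44.basedNatTrans_ext fun x => faith h𝒴 _ _ ?_)⟩⟩
  have := e'.hom.isHomLift' x
  have := e.hom.isHomLift' x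
  exact Fib44.map_eq_map_of_isHomLift 𝒴.p (𝟙 (𝒳.p.obj x)) _ _

end Groth.Agent.S6407
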