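import Groth.Statements.S6408
import Groth.Agent.Fib44.Comp
-- import your own Groth.Agent.* helpers here

set_option autoImplicit false
open CategoryTheory
universe v u
open FibCat

namespace Groth.Agent.S6408

set_option backward.isDefEq.respectTransparency false in
set_option backward.isDefEq.respectTransparency.types false in
open CategoryTheory.Functor in

/-- Between categories fibred in sets over `C` the only 2-morphisms over `C` are identities. -/
theorem result {C : Type u} [Category.{v} C] {𝒳 𝒴 : BasedCategory.{v, max u v} C} (h𝒳 : FibCat.IsFibSet 𝒳.p) (h𝒴 : FibCat.IsFibSet 𝒴.p) {F G : 𝒳 ⥤ᵇ 𝒴} (α : F ⟶ G) :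
    ∃ h : F = G, α = eqToHom h := by
  have hobj : ∀ x, F.obj x = G.obj x := fun x => by
    have := α.isHomLift' x
    have := h𝒴.2 (𝒳.p.obj x)
    let A : 𝒴.p.Fiber (𝒳.p.obj x) := Functor.Fiber.mk (F.w_obj x)
    let B : 𝒴.p.Fiber (𝒳.p.obj x) := Functor.Fiber.mk (G.w_obj x)
    exact congrArg Subtype.val (IsDiscrete.eq_of_hom (C := 𝒴.p.Fiber (𝒳.p.obj x)) (show A ⟶ B from ⟨α.toNatTrans.app x, α.isHomLift' x⟩))
  have hFG : F = G := by
    obtain ⟨F, hF⟩ := F
    obtain ⟨G, hG⟩ := G
    have hfun : F = G := CategoryTheory.Functor.ext hobj fun x y φ =>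
      Fib44.hom_ext_of_isFibSet 𝒴.p h𝒴 (by
        have e1 := Functor.congr_hom hF φ
        have e2 := Functor.congr_hom hG φ
        simp only [Functor.comp_map] at e1 e2
        simp [e1, e2, eqToHom_map])
    subst hfun
    rfl
  subst hFG
  refine ⟨rfl, Fib44.basedNatTrans_ext fun x => Fib44.hom_ext_of_isFibSet 𝒴.p h𝒴 ?_⟩
  have := α.isHomLift' x
  have : 𝒴.p.IsHomLift (𝟙 (𝒳.p.obj x)) ((eqToHom (rfl : F = F)).toNatTrans.app x) :=
    (eqToHom (rfl : F = F)).isHomLift' x
  exact Fib44.map_eq_map_of_isHomLift 𝒴.p (𝟙 (𝒳.p.obj x)) _ _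

end Groth.Agent.S6408
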