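import Groth.Statements.S6414
import Groth.Agent.Fib44.Equiv
-- import your own Groth.Agent.* helpers here

set_option autoImplicit false
open CategoryTheory
universe v₁ u₁ v₂ u₂ v₃ u₃
open FibCat

namespace Groth.Agent.S6414

/-- A morphism that is strongly cartesian with respect to `F : 𝒜 ⥤ ℬ` and whose image is strongly
cartesian with respect to `G : ℬ ⥤ 𝒞` is strongly cartesian with respect to `F ⋙ G`. -/
theorem result {𝒜 : Type u₁} [Category.{v₁} 𝒜] {ℬ : Type u₂} [Category.{v₂} ℬ] {𝒞 : Type u₃} [Category.{v₃} 𝒞] (F : 𝒜 ⥤ ℬ) (G : ℬ ⥤ 𝒞) {x y : 𝒜} (φ : x ⟶ y)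
    [F.IsStronglyCartesian (F.map φ) φ] [G.IsStronglyCartesian (G.map (F.map φ)) (F.map φ)] :
    (F ⋙ G).IsStronglyCartesian ((F ⋙ G).map φ) φ := by
  have h1 := (Fib44.isSC_iff F φ).mp inferInstance
  have h2 := (Fib44.isSC_iff G (F.map φ)).mp inferInstance
  rw [Fib44.isSC_iff]
  intro z g ψ hψ
  obtain ⟨k, ⟨hk, hk'⟩, hku⟩ := h2 g (F.map ψ) hψ
  obtain ⟨χ, ⟨hχ, hχ'⟩, hχu⟩ := h1 k ψ hk'.symm
  refine ⟨χ, ⟨by simp [hχ, hk], hχ'⟩, fun τ ⟨hτ, hτ'⟩ => hχu τ ⟨?_, hτ'⟩⟩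
  exact hku (F.map τ) ⟨hτ, by rw [← Functor.map_comp, hτ']⟩

end Groth.Agent.S6414
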