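import Groth.Statements.S6417
import Groth.Agent.Fib44.Comp
-- import your own Groth.Agent.* helpers here

set_option autoImplicit false
open CategoryTheory CategoryTheory.Limits
universe v₁ u₁ v₂ u₂
open FibCat

namespace Groth.Agent.S6417

/-- For `p : 𝒮 ⥤ C`, a strongly cartesian `φ : x ⟶ y`, any `ψ : z ⟶ y`, and a strongly cartesian `a : w
⟶ z` lying over the second projection of `p x ×_{p y} p z`, the object `w` is a fibre product `x ×_y
z`: there is `b : w ⟶ x` over the first projection with `(b, a)` a pullback square. -/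
theorem result {𝒮 : Type u₁} [Category.{v₁} 𝒮] {C : Type u₂} [Category.{v₂} C] (p : 𝒮 ⥤ C) {x y z w : 𝒮} (φ : x ⟶ y) (ψ : z ⟶ y)
    [p.IsStronglyCartesian (p.map φ) φ] [HasPullback (p.map φ) (p.map ψ)] (a : w ⟶ z)
    [p.IsStronglyCartesian (pullback.snd (p.map φ) (p.map ψ)) a] :
    ∃ b : w ⟶ x, p.IsHomLift (pullback.fst (p.map φ) (p.map ψ)) b ∧ IsPullback b a φ ψ := by
  have hA : p.IsHomLift (pullback.snd (p.map φ) (p.map ψ) ≫ p.map ψ) (a ≫ ψ) := inferInstance
  let b := Functor.IsStronglyCartesian.map p (p.map φ) φ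
    (g := pullback.fst (p.map φ) (p.map ψ)) pullback.condition.symm (a ≫ ψ)
  have hb : p.IsHomLift (pullback.fst (p.map φ) (p.map ψ)) b := inferInstance
  have hbφ : b ≫ φ = a ≫ ψ := Functor.IsStronglyCartesian.fac _ _ _ _ _
  refine ⟨b, hb, ⟨⟨hbφ⟩, ⟨PullbackCone.IsLimit.mk _ (fun s => ?_) ?_ ?_ ?_⟩⟩⟩
  · exact Functor.IsStronglyCartesian.map p (pullback.snd (p.map φ) (p.map ψ)) a
      (g := pullback.lift (p.map s.fst) (p.map s.snd)
        (by rw [← Functor.map_comp, s.condition, Functor.map_comp]))
      (pullback.lift_snd _ _ _).symm s.snd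
  · intro s
    have hg : p.map s.fst ≫ p.map φ = p.map s.snd ≫ p.map ψ := by
      rw [← Functor.map_comp, s.condition, Functor.map_comp]
    let e := Functor.IsStronglyCartesian.map p (pullback.snd (p.map φ) (p.map ψ)) a
      (pullback.lift_snd (p.map s.fst) (p.map s.snd) hg).symm s.snd
    have : p.IsHomLift (p.map s.fst) (e ≫ b) := by
      have : p.IsHomLift
        (pullback.lift (p.map s.fst) (p.map s.snd) hg ≫ pullback.fst (p.map φ) (p.map ψ))
          (e ≫ b) := inferInstance
      rwa [pullback.lift_fst] at this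
    change e ≫ b = s.fst
    refine Functor.IsStronglyCartesian.ext p (p.map φ) φ (p.map s.fst) ?_
    rw [Category.assoc, hbφ, ← Category.assoc, Functor.IsStronglyCartesian.fac, s.condition]
  · intro s
    exact Functor.IsStronglyCartesian.fac _ _ _ _ _
  · intro s m h1 h2
    have hw : p.obj w = pullback (p.map φ) (p.map ψ) :=
      IsHomLift.domain_eq p (pullback.snd (p.map φ) (p.map ψ)) a
    have : p.IsHomLift (pullback.lift (p.map s.fst) (p.map s.snd)
        (by rw [← Functor.map_comp, s.condition, Functor.map_comp])) m := by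
      refine IsHomLift.of_fac p _ m rfl hw ?_
      apply pullback.hom_ext
      · rw [pullback.lift_fst, ← h1, Functor.map_comp, IsHomLift.fac' p (pullback.fst (p.map φ) (p.map ψ)) b]
        simp
      · rw [pullback.lift_snd, ← h2, Functor.map_comp,
          IsHomLift.fac' p (pullback.snd (p.map φ) (p.map ψ)) a]
        simp
    exact Functor.IsStronglyCartesian.map_uniq p _ a _ s.snd m h2

end Groth.Agent.S6417
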