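import Groth.Statements.S6421
-- import your own Groth.Agent.* helpers here

set_option autoImplicit false
open CategoryTheory CategoryTheory.Limits
universe v u
open FibCat

namespace Groth.Agent.S6421

set_option backward.isDefEq.respectTransparency false in
set_option backward.isDefEq.respectTransparency.types false in
open CategoryTheory.Functor in

/-- For a 2-commutative morphism of cospans of categories whose outer functors `X ⥤ A`, `Y ⥤ B` are
fully faithful and whose middle functor `Z ⥤ C` is faithful, the induced functor `X ×_Z Y ⥤ A ×_C B`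
is fully faithful. -/
theorem result {X Y Z A B C : Type u} [Category.{v} X] [Category.{v} Y] [Category.{v} Z] [Category.{v} A] [Category.{v} B] [Category.{v} C] {H : X ⥤ Z} {I : Y ⥤ Z} {F : A ⥤ C} {G : B ⥤ C} (ψ : CatCospanTransform H I F G) [ψ.left.Full] [ψ.left.Faithful] [ψ.right.Full] [ψ.right.Faithful] [ψ.base.Faithful] :
    (FibCat.categoricalPullbackMap ψ).Full ∧ (FibCat.categoricalPullbackMap ψ).Faithful := by
  have hfaith : (FibCat.categoricalPullbackMap ψ).Faithful := ⟨fun {x y f g} h => CategoricalPullback.hom_ext
    (ψ.left.map_injective (congrArg CategoricalPullback.Hom.fst h))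
    (ψ.right.map_injective (congrArg CategoricalPullback.Hom.snd h))⟩
  have hobj : ∀ x, ((FibCat.categoricalPullbackMap ψ).obj x).iso.hom =
      ψ.squareLeft.iso.inv.app x.fst ≫ ψ.base.map x.iso.hom ≫ ψ.squareRight.iso.hom.app x.snd :=
    fun x => by simp [FibCat.categoricalPullbackMap]; rfl
  have hfull : (FibCat.categoricalPullbackMap ψ).Full := ⟨fun {x y} f => by
    obtain ⟨a, ha⟩ := ψ.left.map_surjective (X := x.fst) (Y := y.fst) f.fst
    obtain ⟨b, hb⟩ := ψ.right.map_surjective (X := x.snd) (Y := y.snd) f.snd
    have nL := ψ.squareLeft.iso.inv.naturality a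
    have nR := ψ.squareRight.iso.hom.naturality b
    have h := f.w
    rw [hobj, hobj, ← ha, ← hb] at h
    simp only [Functor.comp_map] at nL nR
    change F.map (ψ.left.map a) ≫ _ = _ ≫ G.map (ψ.right.map b) at h
    rw [← Category.assoc, nL, Category.assoc, Category.assoc, Category.assoc, ← nR,
      cancel_epi, ← Category.assoc, ← Category.assoc, cancel_mono, ← Functor.map_comp,
      ← Functor.map_comp] at h
    exact ⟨⟨a, b, ψ.base.map_injective h⟩, CategoricalPullback.hom_ext ha hb⟩⟩
  exact ⟨hfull, hfaith⟩

end Groth.Agent.S6421
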