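import Groth.Statements.S6430
import Groth.Agent.Fib44.Comp
-- import your own Groth.Agent.* helpers here

set_option autoImplicit false
open CategoryTheory
universe v₂ u₂ v u
open FibCat

set_option backward.isDefEq.respectTransparency false
set_option backward.isDefEq.respectTransparency.types false

namespace Groth.Agent.S6430

/-- For a fibred category `p : 𝒮 ⥤ C`, the wide subcategory of `𝒮` on the strongly cartesian morphisms
is fibred in groupoids over `C`. -/
theorem result {C : Type u} [Category.{v} C] {𝒮 : Type u₂} [Category.{v₂} 𝒮] (p : 𝒮 ⥤ C) [p.IsFibered] :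
    FibCat.IsFibGrpd (FibCat.cartSubProj p) := by
  refine { exists_lift := fun {x V} f => ?_, isStronglyCartesian := fun {y x} φ => ?_ }
  · obtain ⟨y, φ, hφ⟩ := Fib44.exists_sc_lift p (x := x.obj) rfl f
    let φ' : (⟨y⟩ : FibCat.cartSub p) ⟶ x := ⟨φ, Fib44.isSC_self_of_isSC p f φ⟩
    exact ⟨⟨y⟩, φ', IsHomLift.of_fac' (FibCat.cartSubProj p) f φ'
      (IsHomLift.domain_eq p f φ :) rfl (IsHomLift.fac' p f φ :)⟩
  · rw [Fib44.isSC_iff]
    intro z g ψ hψ
    obtain ⟨χ, ⟨hχ, hχ'⟩, hu⟩ := (Fib44.isSC_iff p φ.hom).mp φ.property g ψ.hom hψ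
    have : p.IsStronglyCartesian (p.map χ ≫ p.map φ.hom) (χ ≫ φ.hom) := by
      rw [← Functor.map_comp, hχ']
      exact ψ.property
    have hφ : p.IsStronglyCartesian (p.map φ.hom) φ.hom := φ.property
    refine ⟨⟨χ, Functor.IsStronglyCartesian.of_comp p (g := p.map φ.hom) (ψ := φ.hom)⟩,
      ⟨hχ, WideSubcategory.hom_ext _ hχ'⟩, fun τ hτ => WideSubcategory.hom_ext _ ?_⟩
    exact hu τ.hom ⟨hτ.1, congrArg (fun k => k.hom) hτ.2⟩

end Groth.Agent.S6430
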