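import Groth.Statements.S6442
import Mathlib.CategoryTheory.Sites.LocallySurjective
import Mathlib.CategoryTheory.Sites.EpiMono
-- import your own Groth.Agent.* helpers here

set_option autoImplicit false
open CategoryTheory CategoryTheory.Limits Opposite
universe u
open SiteMisc

namespace Groth.Agent.S6442



/-- An object `U` of a site is weakly contractible, i.e. for every covering sieve `S` the sheafified map
`(∐_{V → U ∈ S} h_V)^# ⟶ h_U^#` has a section, if and only if taking sections over `U` turns
epimorphisms of sheaves of sets into surjections. (Coverings are taken as covering sieves; the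
coproduct is formed in presheaves and then sheafified.) -/
theorem result {C : Type u} [SmallCategory C] (J : GrothendieckTopology C) (U : C) :
    (∀ S : Sieve U, S ∈ J U →
      IsSplitEpi ((presheafToSheaf J (Type u)).map
        (Sigma.desc (fun i : (Σ V : C, {f : V ⟶ U // S f}) => yoneda.map i.2.1) :
          (∐ fun i : (Σ V : C, {f : V ⟶ U // S f}) => yoneda.obj i.1) ⟶ yoneda.obj U))) ↔
    ∀ (F G : Sheaf J (Type u)) (φ : F ⟶ G), Epi φ → Function.Surjective (φ.hom.app (op U)) := by
  constructor
  · intro h F G φ hφ s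
    have := (Sheaf.isLocallySurjective_iff_epi φ).2 hφ
    let S : Sieve U := Presheaf.imageSieve φ.hom (U := U) s
    have hS : S ∈ J U := Presheaf.imageSieve_mem J φ.hom (U := op U) s
    obtain ⟨⟨σ, hσ⟩⟩ := h S hS
    let α : (∐ fun i : (Σ V : C, {f : V ⟶ U // S f}) => yoneda.obj i.1) ⟶ F.obj :=
      Sigma.desc fun i => yonedaEquiv.symm i.2.2.choose
    let ψ := Sigma.desc (fun i : (Σ V : C, {f : V ⟶ U // S f}) => yoneda.map i.2.1)
    have hα : α ≫ φ.hom = ψ ≫ yonedaEquiv.symm s := by
      refine Sigma.hom_ext _ _ fun i => ?_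
      simp only [α, ψ, Sigma.ι_desc_assoc]
      apply yonedaEquiv.injective
      rw [yonedaEquiv_comp, Equiv.apply_symm_apply]
      refine i.2.2.choose_spec.trans ?_
      refine (yonedaEquiv.apply_symm_apply _).symm.trans (congrArg yonedaEquiv ?_)
      exact yonedaEquiv_symm_map i.2.1.op s
    let adj := sheafificationAdjunction J (Type u)
    let β := (adj.homEquiv _ F).symm α
    refine ⟨yonedaEquiv ((adj.homEquiv _ F) (σ ≫ β)), ?_⟩
    have hβ : β ≫ φ = (presheafToSheaf J (Type u)).map ψ ≫ (adj.homEquiv _ G).symm
        (yonedaEquiv.symm s) := by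
      rw [← Adjunction.homEquiv_naturality_right_symm, ← Adjunction.homEquiv_naturality_left_symm]
      exact congrArg _ hα
    have h2 : (σ ≫ β) ≫ φ = (adj.homEquiv _ G).symm (yonedaEquiv.symm s) := by
      rw [Category.assoc, hβ, reassoc_of% hσ]
    have h3 := congrArg (fun q => yonedaEquiv (adj.homEquiv _ G q)) h2
    simp only [Equiv.apply_symm_apply] at h3
    refine Eq.trans ?_ h3
    rw [Adjunction.homEquiv_naturality_right, yonedaEquiv_comp]
    rfl
  · intro h S hS
    let ψ := Sigma.desc (fun i : (Σ V : C, {f : V ⟶ U // S f}) => yoneda.map i.2.1)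
    have hψ : Presheaf.IsLocallySurjective J ψ := by
      constructor
      intro W g
      refine J.superset_covering ?_ (J.pullback_stable g hS)
      intro Z k hk
      refine ⟨(Sigma.ι (fun i : (Σ V : C, {f : V ⟶ U // S f}) => yoneda.obj i.1)
        ⟨Z, k ≫ g, hk⟩).app (op Z) (show (yoneda.obj Z).obj (op Z) from 𝟙 Z), ?_⟩
      refine (ConcreteCategory.congr_hom (congr_app (Sigma.ι_desc (fun i : (Σ V : C, {f : V ⟶ U // S f}) => yoneda.map i.2.1) ⟨Z, k ≫ g, hk⟩) (op Z)) (show (yoneda.obj Z).obj (op Z) from 𝟙 Z)).trans ?_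
      exact Category.id_comp _
    have : Sheaf.IsLocallySurjective ((presheafToSheaf J (Type u)).map ψ) := by
      have : Presheaf.IsLocallySurjective J
          (toSheafify J _ ≫ ((presheafToSheaf J (Type u)).map ψ).hom) := by
        rw [show toSheafify J _ ≫ ((presheafToSheaf J (Type u)).map ψ).hom = ψ ≫ toSheafify J _
          from (toSheafify_naturality J ψ).symm]
        infer_instance
      exact Presheaf.isLocallySurjective_of_isLocallySurjective J (toSheafify J _) _
    obtain ⟨x, hx⟩ := h _ _ ((presheafToSheaf J (Type u)).map ψ)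
      ((Sheaf.isLocallySurjective_iff_epi _).1 this) ((toSheafify J (yoneda.obj U)).app (op U) (show (yoneda.obj U).obj (op U) from 𝟙 U))
    let adj := sheafificationAdjunction J (Type u)
    let σ := (adj.homEquiv (yoneda.obj U) _).symm (yonedaEquiv.symm x)
    refine ⟨⟨⟨σ, ?_⟩⟩⟩
    apply (adj.homEquiv _ _).injective
    apply yonedaEquiv.injective
    rw [Adjunction.homEquiv_naturality_right, Equiv.apply_symm_apply, yonedaEquiv_comp,
      Equiv.apply_symm_apply, Adjunction.homEquiv_id]
    exact hx

end Groth.Agent.S6442
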