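import Groth.Statements.S6443
import Groth.Agent.Fib44.Repr2
-- import your own Groth.Agent.* helpers here

set_option autoImplicit false
open CategoryTheory
universe v u
open FibCat

namespace Groth.Agent.S6443

set_option backward.isDefEq.respectTransparency false
set_option backward.isDefEq.respectTransparency.types false

/-- If a category `𝒮` fibred in groupoids over `C` is represented by `X` via `j : 𝒮 ⟶ C/X` and by `X'`
via `j' : 𝒮 ⟶ C/X'` (equivalences over `C`), then there is an isomorphism `X' ≅ X` under which `j'`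
becomes 2-isomorphic to `j` over `C`. -/
theorem result {C : Type u} [Category.{v} C] {𝒮 : BasedCategory.{v, max u v} C} (h𝒮 : FibCat.IsFibGrpd 𝒮.p)
    {X X' : C} (j : 𝒮 ⥤ᵇ FibCat.overCat X) (j' : 𝒮 ⥤ᵇ FibCat.overCat X') (hj : FibCat.IsEquivOver j) (hj' : FibCat.IsEquivOver j') :
    ∃ e : X' ≅ X, Nonempty (BasedFunctor.comp j' (⟨Over.map e.hom, Over.mapForget_eq e.hom⟩ : FibCat.overCat X' ⥤ᵇ FibCat.overCat X) ≅ j) := by
  obtain ⟨k, hk, ⟨η₁⟩, -⟩ := Fib44.exists_inverse hj'
  have hK := Fib44.isEquivOver_comp hk hj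
  obtain ⟨w, ⟨φ⟩⟩ := Fib44.overFunctor_exists_iso (BasedFunctor.comp k j)
  have := Fib44.full_of_isEquivOver hK
  let i : (BasedFunctor.comp k j).toFunctor ≅ (Fib44.overMap w).toFunctor :=
    (BasedNatTrans.forgetful _ _).mapIso φ
  have hFull : (Fib44.overMap w).toFunctor.Full := Functor.Full.of_iso i
  obtain ⟨z, e, he⟩ := Fib44.essSurjOver_of_isEquivOver hK (Fib44.idObj X)
  let e2 : (Over.map w).obj (show Over X' from z) ≅ (Over.mk (𝟙 X) : Over X) :=
    (Fib44.isoApp φ z).symm ≪≫ e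
  let s : X ⟶ X' := Over.Hom.left e2.inv ≫ (show Over X' from z).hom
  have hs : s ≫ w = 𝟙 X := by
    have := Over.w e2.inv
    simpa [s] using this
  obtain ⟨c, hc⟩ := hFull.map_surjective (X := Fib44.idObj X') (Y := (Over.mk s : Over X'))
    (Over.homMk w (by change w ≫ s ≫ w = 𝟙 X' ≫ w; rw [hs]; simp) :
      (Over.map w).obj (Over.mk (𝟙 X')) ⟶ (Over.map w).obj (Over.mk s))
  have hcw : Over.Hom.left c = w := congrArg (fun t => Over.Hom.left t) hc
  have hws : w ≫ s = 𝟙 X' := by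
    have := Over.w c
    rw [hcw] at this
    simpa using this
  refine ⟨⟨w, s, hws, hs⟩, ⟨?_⟩⟩
  exact (AlgSt88.bLeft j' φ).symm ≪≫ AlgSt88.bRight η₁ j

end Groth.Agent.S6443
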