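import Groth.Statements.S6447
-- import your own Groth.Agent.* helpers here

set_option autoImplicit false
open CategoryTheory CategoryTheory.Limits
universe v u
open FibCat

namespace Groth.Agent.S6447

set_option backward.isDefEq.respectTransparency false in
set_option backward.isDefEq.respectTransparency.types false in
set_option backward.defeqAttrib.useBackward true in

/-- For a 2-fibre product `U = X ×_Y V` of categories, the square formed by `U ⟶ X`, the diagonals `U ⟶
U ×_V U`, `X ⟶ X ×_Y X` and the induced functor `U ×_V U ⟶ X ×_Y X` is 2-cartesian. (The filling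
2-isomorphism is the one whose two components at every object are identities; it exists and is
unique with that property.) -/
theorem result {X Y V : Type u} [Category.{v} X] [Category.{v} Y] [Category.{v} V] (p : X ⥤ Y) (q : V ⥤ Y) :
    ∃ e, (∀ u, (e.hom.app u).fst = 𝟙 _ ∧ (e.hom.app u).snd = 𝟙 _) ∧ FibCat.IsTwoCart
      (CategoricalPullback.π₁ p q)
      ((CategoricalPullback.CatCommSqOver.toFunctorToCategoricalPullback (CategoricalPullback.π₂ p q) (CategoricalPullback.π₂ p q) (CategoricalPullback p q)).obj ⟨𝟭 _, 𝟭 _, Iso.refl _⟩)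
      ((CategoricalPullback.CatCommSqOver.toFunctorToCategoricalPullback p p X).obj ⟨𝟭 _, 𝟭 _, Iso.refl _⟩)
      (FibCat.categoricalPullbackMap (⟨CategoricalPullback.π₁ p q, q, CategoricalPullback.π₁ p q, ⟨(CatCommSq.iso (CategoricalPullback.π₁ p q) (CategoricalPullback.π₂ p q) p q).symm⟩, ⟨(CatCommSq.iso (CategoricalPullback.π₁ p q) (CategoricalPullback.π₂ p q) p q).symm⟩⟩ : CatCospanTransform (CategoricalPullback.π₂ p q) (CategoricalPullback.π₂ p q) p p))
      e := by
  let e : CategoricalPullback.π₁ p q ⋙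
      ((CategoricalPullback.CatCommSqOver.toFunctorToCategoricalPullback p p X).obj
        ⟨𝟭 _, 𝟭 _, Iso.refl _⟩) ≅
      ((CategoricalPullback.CatCommSqOver.toFunctorToCategoricalPullback (CategoricalPullback.π₂ p q)
        (CategoricalPullback.π₂ p q) (CategoricalPullback p q)).obj ⟨𝟭 _, 𝟭 _, Iso.refl _⟩) ⋙
      (FibCat.categoricalPullbackMap (⟨CategoricalPullback.π₁ p q, q, CategoricalPullback.π₁ p q,
        ⟨(CatCommSq.iso (CategoricalPullback.π₁ p q) (CategoricalPullback.π₂ p q) p q).symm⟩,
        ⟨(CatCommSq.iso (CategoricalPullback.π₁ p q) (CategoricalPullback.π₂ p q) p q).symm⟩⟩ :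
        CatCospanTransform (CategoricalPullback.π₂ p q) (CategoricalPullback.π₂ p q) p p)) :=
    NatIso.ofComponents (fun u => CategoricalPullback.mkIso (Iso.refl _) (Iso.refl _)
      (by simp [FibCat.categoricalPullbackMap])) (fun f => by
      ext <;> simp [FibCat.categoricalPullbackMap])
  refine ⟨e, fun u => ⟨rfl, rfl⟩, ?_⟩
  let DX := (CategoricalPullback.CatCommSqOver.toFunctorToCategoricalPullback p p X).obj
    ⟨𝟭 _, 𝟭 _, Iso.refl _⟩
  let M := FibCat.categoricalPullbackMap (⟨CategoricalPullback.π₁ p q, q, CategoricalPullback.π₁ p q,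
    ⟨(CatCommSq.iso (CategoricalPullback.π₁ p q) (CategoricalPullback.π₂ p q) p q).symm⟩,
    ⟨(CatCommSq.iso (CategoricalPullback.π₁ p q) (CategoricalPullback.π₂ p q) p q).symm⟩⟩ :
    CatCospanTransform (CategoricalPullback.π₂ p q) (CategoricalPullback.π₂ p q) p p)
  have hw : ∀ w : CategoricalPullback DX M,
      p.map w.iso.hom.fst ≫ w.snd.fst.iso.hom ≫ q.map w.snd.iso.hom =
        p.map w.iso.hom.snd ≫ w.snd.snd.iso.hom := fun w => by
    have h : p.map w.iso.hom.fst ≫
        (w.snd.fst.iso.hom ≫ q.map w.snd.iso.hom ≫ w.snd.snd.iso.inv) =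
        𝟙 (p.obj w.fst) ≫ p.map w.iso.hom.snd := by
      have h := w.iso.hom.w
      simp [DX, M, FibCat.categoricalPullbackMap] at h ⊢
      exact h
    rw [Category.id_comp] at h
    rw [← cancel_mono w.snd.snd.iso.inv]
    simpa using h
  let Ψ : CategoricalPullback DX M ⥤ CategoricalPullback p q :=
    { obj := fun w => ⟨w.fst, w.snd.fst.snd,
        p.mapIso ⟨w.iso.hom.fst, w.iso.inv.fst,
          congrArg CategoricalPullback.Hom.fst w.iso.hom_inv_id,
          congrArg CategoricalPullback.Hom.fst w.iso.inv_hom_id⟩ ≪≫ w.snd.fst.iso⟩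
      map := fun {w w'} f => ⟨f.fst, f.snd.fst.snd, by
        have h : f.fst ≫ w'.iso.hom.fst = w.iso.hom.fst ≫ f.snd.fst.fst :=
          congrArg CategoricalPullback.Hom.fst f.w
        change p.map f.fst ≫ p.map w'.iso.hom.fst ≫ w'.snd.fst.iso.hom =
          (p.map w.iso.hom.fst ≫ w.snd.fst.iso.hom) ≫ q.map f.snd.fst.snd
        rw [Category.assoc]
        rw [← Functor.map_comp_assoc, h, Functor.map_comp, Category.assoc, f.snd.fst.w]⟩ }
  let Φ : CategoricalPullback p q ⥤ CategoricalPullback DX M :=
    (CategoricalPullback.CatCommSqOver.toFunctorToCategoricalPullback DX M _).obj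
      ⟨CategoricalPullback.π₁ p q,
        (CategoricalPullback.CatCommSqOver.toFunctorToCategoricalPullback (CategoricalPullback.π₂ p q)
          (CategoricalPullback.π₂ p q) (CategoricalPullback p q)).obj ⟨𝟭 _, 𝟭 _, Iso.refl _⟩, e⟩
  refine (CategoryTheory.Equivalence.mk Φ Ψ
    (NatIso.ofComponents (fun u => CategoricalPullback.mkIso (Iso.refl _) (Iso.refl _)
      (by simp [Φ, Ψ, DX, M, e, FibCat.categoricalPullbackMap])) (fun f => by
      ext <;> simp [Φ, Ψ, DX, M, e, FibCat.categoricalPullbackMap]))
    (NatIso.ofComponents (fun w => CategoricalPullback.mkIso (Iso.refl _)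
      (CategoricalPullback.mkIso
        (CategoricalPullback.mkIso
          ⟨w.iso.hom.fst, w.iso.inv.fst, congrArg CategoricalPullback.Hom.fst w.iso.hom_inv_id,
            congrArg CategoricalPullback.Hom.fst w.iso.inv_hom_id⟩
          (Iso.refl _) (by simp [Φ, Ψ, DX, M, e, FibCat.categoricalPullbackMap]))
        (CategoricalPullback.mkIso
          ⟨w.iso.hom.snd, w.iso.inv.snd, congrArg CategoricalPullback.Hom.snd w.iso.hom_inv_id,
            congrArg CategoricalPullback.Hom.snd w.iso.inv_hom_id⟩
          w.snd.iso (by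
            have := hw w
            simp [Φ, Ψ, DX, M, e, FibCat.categoricalPullbackMap] at this ⊢
            exact this.symm))
        (by simp [Φ, Ψ, DX, M, e, FibCat.categoricalPullbackMap]))
      (by ext <;> simp [Φ, Ψ, DX, M, e, FibCat.categoricalPullbackMap])) (fun {w w'} f => by
        have h₁ : f.fst ≫ w'.iso.hom.fst = w.iso.hom.fst ≫ f.snd.fst.fst :=
          congrArg CategoricalPullback.Hom.fst f.w
        have h₂ : f.fst ≫ w'.iso.hom.snd = w.iso.hom.snd ≫ f.snd.snd.fst :=
          congrArg CategoricalPullback.Hom.snd f.w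
        have h₃ := f.snd.w
        simp [DX, M, FibCat.categoricalPullbackMap] at h₃
        ext <;> simp [Φ, Ψ, DX, M, e, FibCat.categoricalPullbackMap, h₃] <;>
          first | exact h₁.symm | exact h₁ | exact h₂.symm | exact h₂))).isEquivalence_functor

end Groth.Agent.S6447
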