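import Groth.Statements.S6453
import Groth.Agent.IntMult12.MultOne

set_option autoImplicit false
universe u
open CategoryTheory AlgebraicGeometry
attribute [local instance] HasDerivedCategory.standard
open IntMult

namespace Groth.Agent.S6453

/-- Suppose the ideal of V in O_{X,ξ} is generated by a single nonzerodivisor g (c = 1: V is an
effective Cartier divisor at ξ). Then e(X, V·W, Z) = length_{O_{X,ξ}}(O_{W,ξ}/g O_{W,ξ}), i.e. the
length of O_{X,ξ}/(I_{W,ξ} + (g)). Here X is a nonsingular variety over an algebraically closed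
field K (smooth, separated, quasi-compact, integral), V and W are closed subvarieties given by
quasi-coherent ideal sheaves with integral subschemes, of dimensions r and s with dim X = n,
intersecting properly, and ξ is the generic point of an irreducible component Z of V ∩ W (a point of
V ∩ W maximal under specialization); e(X, V·W, Z) = IntMult.mult is the alternating sum of lengths
of Tor over O_{X,ξ}, and O_{W,ξ} = O_{X,ξ}/I_{W,ξ}. -/
theorem result (K : Type u) [Field K] [IsAlgClosed K] (X : Scheme.{u}) (f : X ⟶ Spec (CommRingCat.of K)) [Smooth f] [IsSeparated f] [QuasiCompact f] [IsIntegral X] (IV IW : X.IdealSheafData) [IsIntegral IV.subscheme] [IsIntegral IW.subscheme] (n r s : ℕ) (hn : topologicalKrullDim X = n) (hr : topologicalKrullDim IV.support = r) (hs : topologicalKrullDim IW.support = s) (hprop : IntMult.ProperInt (IV.support : Set X) (IW.support : Set X) n r s) (ξ : X) (hξV : ξ ∈ IV.support) (hξW : ξ ∈ IW.support) (hmax : ∀ ξ' : X, ξ' ∈ IV.support → ξ' ∈ IW.support → ξ' ⤳ ξ → ξ' = ξ)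 (g : ↑(X.presheaf.stalk ξ)) (hg : IntMult.stalkIdeal IV ξ = Ideal.span {g}) (hreg : IsSMulRegular (↑(X.presheaf.stalk ξ)) g) : (IntMult.mult IV IW ξ : ℤ) = (Module.length (X.presheaf.stalk ξ) (↑(X.presheaf.stalk ξ) ⧸ (IntMult.stalkIdeal IW ξ ⊔ Ideal.span {g}))).toNat := by
  have D := IntMult12.localData X f IV IW n r s hn hr hs hprop ξ hξV hξW hmax
  haveI : IsRegularLocalRing (X.presheaf.stalk ξ) := D.regular
  have hmem : g ∈ IsLocalRing.maximalIdeal (X.presheaf.stalk ξ) :=
    IsLocalRing.le_maximalIdeal D.primeP.ne_top (hg ▸ Ideal.mem_span_singleton_self g)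
  have hregl : RingTheory.Sequence.IsRegular (X.presheaf.stalk ξ) (List.ofFn fun _ : Fin 1 => g) := by
    refine CAlg1.isRegular_of_isWeaklyRegular ?_ (by simpa using hmem)
    rw [List.ofFn_succ, List.ofFn_zero, RingTheory.Sequence.isWeaklyRegular_cons_iff]
    exact ⟨hreg, RingTheory.Sequence.IsWeaklyRegular.nil _ _⟩
  have hg' : IntMult.stalkIdeal IV ξ = Ideal.span (Set.range fun _ : Fin 1 => g) := by
    rw [hg, Set.range_const]
  obtain ⟨e, hG, hm, hd⟩ := D.regular_case _ hg' hregl
  haveI : IsDomain (↑(X.presheaf.stalk ξ) ⧸ IntMult.stalkIdeal IW ξ) :=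
    (Ideal.Quotient.isDomain_iff_prime _).2 D.primeQ
  have hgQ : g ∉ IntMult.stalkIdeal IW ξ := by
    intro hgQ
    have h0 : LC17.chi (List.ofFn fun _ : Fin 1 => g) (↑(X.presheaf.stalk ξ) ⧸ IntMult.stalkIdeal IW ξ) = 0 := by
      rw [List.ofFn_succ, List.ofFn_zero] at hG ⊢
      refine LC17.chi_cons_smul_zero hG fun z => ?_
      rw [Algebra.smul_def, Ideal.Quotient.algebraMap_eq, Ideal.Quotient.eq_zero_iff_mem.2 hgQ, zero_mul]
    have := (LC17.chi_pos_aux _ _ hG hm).2 (by rw [hd, List.length_ofFn])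
    omega
  rw [IntMult.mult, e, List.ofFn_succ, List.ofFn_zero, IntMult12.chi_eq_length_of_regular]
  · rw [Ideal.ofList_singleton, ← hg, D.length_quot]
  · rw [RingTheory.Sequence.isWeaklyRegular_cons_iff]
    refine ⟨?_, RingTheory.Sequence.IsWeaklyRegular.nil _ _⟩
    intro a b hab
    have hab' : algebraMap _ _ g * a = algebraMap (X.presheaf.stalk ξ)
        (↑(X.presheaf.stalk ξ) ⧸ IntMult.stalkIdeal IW ξ) g * b := by
      simpa [Algebra.smul_def] using hab
    exact mul_left_cancel₀ (fun h => hgQ (Ideal.Quotient.eq_zero_iff_mem.1 h)) hab'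

end Groth.Agent.S6453
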