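import Groth.Statements.S6455
import Groth.Agent.Cyc90.SecDiv

set_option autoImplicit false
universe u
open CategoryTheory AlgebraicGeometry
open Cyc

namespace Groth.Agent.S6455

/-- c_1(O_X) ∩ α = 0 in CH_k(X) for every (k + 1)-cycle α: computed with any nonzero rational sections
of the structure sheaf, the k-cycle c_1(O_X) ∩ α is rationally equivalent to zero. Here L(ξ) =
L_ξ/𝔪_ξ L_ξ is the space of rational sections of L on the closure of ξ, div_{L|W}(s) and c_1(L) ∩ α
are computed as coefficient functions from chosen nonzero rational sections (Cyc.secDivFun,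
Cyc.c1CapFun), and results are compared up to rational equivalence for any cycles with those
coefficients. A pair (X, δ) with Cyc.IsSetup plays the role of a scheme locally of finite type over
the base (S, δ) (X locally Noetherian with universally catenary local rings, δ a dimension
function). -/
theorem result (X : Scheme.{u}) (δ : X → ℤ) (hX : Cyc.IsSetup X δ) (k : ℤ) (α : AlgebraicCycle X ℤ) (hα : α ∈ Cyc.Zk X δ (k + 1)) (s : (ξ : X) → Cyc.secFibre (Coh.structureModule X) ξ) (hs : ∀ ξ, s ξ ≠ 0) (γ : AlgebraicCycle X ℤ) (hγ : ⇑γ = Cyc.c1CapFun δ (Coh.structureModule X) ⇑α s) : Cyc.RatEquivZero δ k γ := by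
  have := hX.1
  let one : (x : X) → (Coh.structureModule X).presheaf.stalk x := fun x => Groth.Agent.QC70.unitStalkEquiv x 1
  have hgen : ∀ x, Submodule.span (X.presheaf.stalk x) {one x} = ⊤ := fun x => by
    refine eq_top_iff.2 fun e _ => Submodule.mem_span_singleton.2 ?_
    obtain ⟨r, rfl⟩ := (Groth.Agent.QC70.unitStalkEquiv x).surjective e
    exact ⟨r, by rw [← map_smul, smul_eq_mul, mul_one]⟩
  have hspec : ∀ {ξ x : X} (h : ξ ⤳ x), ((Coh.structureModule X).presheaf.stalkSpecializes h) (one x) = one ξ := by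
    intro ξ x h
    have e1 : ∀ y : X, one y = Groth.Agent.QC70.germM (Groth.Agent.QC70.unitMod X) ⊤ y trivial
        (Groth.Agent.QC70.toUnit 1) := fun y => by
      exact (congrArg _ (map_one _).symm).trans (Groth.Agent.QC70.unitStalkEquiv_germ (W := ⊤) trivial 1)
    rw [e1 x, e1 ξ]
    exact TopCat.Presheaf.germ_stalkSpecializes_apply _ (show x ∈ (⊤ : X.Opens) from trivial) h _
  have hsurj : ∀ ξ, ∃ φ : X.presheaf.stalk ξ, s ξ = φ • (Submodule.Quotient.mk (one ξ) :
      Cyc.secFibre (Coh.structureModule X) ξ) := fun ξ => by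
    obtain ⟨e, he⟩ := Submodule.Quotient.mk_surjective _ (s ξ)
    obtain ⟨r, hr⟩ := Submodule.mem_span_singleton.1 ((hgen ξ).ge (Submodule.mem_top (x := e)))
    exact ⟨r, by rw [← he, ← hr, Submodule.Quotient.mk_smul]⟩
  choose φ hφ using hsurj
  have hne : ∀ ξ, X.residue ξ (φ ξ) ≠ 0 := fun ξ h0 =>
    hs ξ (by rw [hφ ξ, Groth.Agent.Cyc90.smul_mk_eq_zero _ h0])
  have hdiv : ∀ ξ x, Cyc.secDivFun δ (Coh.structureModule X) ξ (s ξ) x =
      Cyc.divFun δ ξ (X.residue ξ (φ ξ)) x := fun ξ x => by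
    unfold Cyc.secDivFun Cyc.divFun
    split_ifs with h
    · exact Groth.Agent.Cyc90.secOrdAt_eq _ hX h.1 h.2 _ (hs ξ) (one x) (hgen x) (φ ξ)
        (by rw [hspec]; exact hφ ξ)
    · rfl
  refine ⟨{ξ : X // α ξ ≠ 0}, fun i => i.1, fun i => X.residue i.1 (φ i.1) ^ α i.1,
    fun i => ?_, fun i => zpow_ne_zero _ (hne _), fun x => ?_, fun x => ?_⟩
  · by_contra h
    exact i.2 (hα i.1 h)
  · obtain ⟨t, ht, hfin⟩ := α.supportLocallyFiniteWithinDomain' x trivial
    obtain ⟨U, hUt, hU, hxU⟩ := mem_nhds_iff.1 ht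
    refine ⟨U, hU, hxU, (hfin.preimage Subtype.val_injective.injOn).subset ?_⟩
    rintro i ⟨y, hy, hyU⟩
    exact ⟨hUt ((specializes_iff_mem_closure.2 hy).mem_open hU hyU), i.2⟩
  · rw [hγ, Cyc.c1CapFun]
    have e : (Function.support fun ξ => α ξ * Cyc.divFun δ ξ (X.residue ξ (φ ξ)) x) ⊆ {ξ | α ξ ≠ 0} :=
      fun ξ h => left_ne_zero_of_mul (Function.mem_support.1 h)
    simp only [hdiv, Groth.Agent.Cyc90.divFun_zpow hX _ _ (hne _)]
    refine Eq.trans ?_ (finsum_set_coe_eq_finsum_mem (s := {ξ | α ξ ≠ 0})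
      (f := fun ξ => α ξ * Cyc.divFun δ ξ (X.residue ξ (φ ξ)) x)).symm
    rw [← finsum_mem_univ]
    exact finsum_mem_inter_support_eq _ _ _ (by
      rw [Set.univ_inter, Set.inter_eq_right.2 e])

end Groth.Agent.S6455
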