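import Groth.Statements.S6458
import Groth.Agent.Cyc90.DimFun
import Mathlib.RingTheory.KrullDimension.NonZeroDivisors
import Mathlib.RingTheory.Ideal.KrullsHeightTheorem
import Mathlib.AlgebraicGeometry.Noetherian
import Mathlib.AlgebraicGeometry.FunctionField

set_option autoImplicit false
universe u
open CategoryTheory AlgebraicGeometry
open Cyc

namespace Groth.Agent.S6458

/-- Let X be integral with generic point η and ξ the generic point of an irreducible component of an
effective Cartier divisor on X; locally: g ∈ 𝔪_ξ ⊂ O_{X,ξ} is nonzero and O_{X,ξ}/(g) is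
zero-dimensional. Then dim_δ of the closure of ξ is dim_δ(X) − 1, i.e. δ(ξ) = δ(η) − 1. Here a pair
(X, δ) with Cyc.IsSetup plays the role of a scheme locally of finite type over the base (S, δ) (X
locally Noetherian with universally catenary local rings, δ a dimension function). -/
theorem result (X : Scheme.{u}) [IsIntegral X] (δ : X → ℤ) (hX : Cyc.IsSetup X δ) (ξ : X) (g : ↑(X.presheaf.stalk ξ)) (hg0 : g ≠ 0) (hgm : g ∈ IsLocalRing.maximalIdeal (X.presheaf.stalk ξ)) (hdim : ringKrullDim (↑(X.presheaf.stalk ξ) ⧸ Ideal.span {g}) = 0) : δ ξ = δ (genericPoint X) - 1 := by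
  have := hX.1
  have hle := Cyc90.delta_le hX.2.2 ((genericPoint_spec X).specializes (show ξ ∈ Set.univ from trivial))
  have : IsDomain (X.presheaf.stalk ξ) := Function.Injective.isDomain (algebraMap _ X.functionField) (IsFractionRing.injective _ _)
  have hnzd : g ∈ nonZeroDivisors (X.presheaf.stalk ξ) := mem_nonZeroDivisors_of_ne_zero hg0
  have h1 := ringKrullDim_quotient_succ_le_of_nonZeroDivisor hnzd
  have h2 := ringKrullDim_le_ringKrullDim_quotient_add_card {g}
    (by simpa [Ring.jacobson_eq_sInf_isMaximal, IsLocalRing.isMaximal_iff] using hgm)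
  rw [hdim, zero_add, Cyc90.ringKrullDim_stalk_irreducible hX.2.2 ξ] at h1
  rw [Finset.coe_singleton] at h2
  simp only [hdim, Finset.card_singleton, Nat.cast_one, zero_add,
    Cyc90.ringKrullDim_stalk_irreducible hX.2.2 ξ] at h2
  have h1' : 1 ≤ (δ (genericPoint X) - δ ξ).toNat := by exact_mod_cast h1
  have h2' : (δ (genericPoint X) - δ ξ).toNat ≤ 1 := by exact_mod_cast h2
  omega

end Groth.Agent.S6458
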