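import Groth.Statements.S6463
import Groth.Agent.Var76.FibBC
import Mathlib.AlgebraicGeometry.Morphisms.Proper

set_option autoImplicit false
universe u
open CategoryTheory CategoryTheory.Limits AlgebraicGeometry
open PicF

namespace Groth.Agent.S6463

/-- For a field k and a smooth projective curve X over k that has a k-rational point σ, the conditions
under which the Picard functor is computed through the section are met: f : X → Spec k is flat,
proper and of finite presentation with a section, and O_T → f_{T,*} O_{X_T} is an isomorphism for
every scheme T over k. Only the last assertion is stated (the others are part of the hypotheses or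
immediate): for every t : T → Spec k, the sheaf map of the base change X ×_k T → T is an
isomorphism. Proper replaces projective (they agree for curves over a field). -/
theorem result (k : Type u) [Field k] (X : Scheme.{u}) (f : X ⟶ Spec (CommRingCat.of k)) (hX : Curve.IsSmoothProperCurve k X f) (σ : Spec (CommRingCat.of k) ⟶ X) (hσ : σ ≫ f = 𝟙 (Spec (CommRingCat.of k))) (T : Scheme.{u}) (t : T ⟶ Spec (CommRingCat.of k)) : IsIso (pullback.snd f t).c := by
  obtain ⟨hp, hsm, hint, -⟩ := hX
  haveI : IsIntegral X := hint
  haveI : IsProper f := hp
  have hF : IsField Γ(X, ⊤) := isField_of_universallyClosed k f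
  letI := hF.toField
  have hcomp : f.appTop ≫ σ.appTop = 𝟙 _ := by rw [← Scheme.Hom.comp_appTop, hσ, Scheme.Hom.id_appTop]
  haveI : Nontrivial Γ(Spec (CommRingCat.of k), ⊤) :=
    (Scheme.ΓSpecIso (CommRingCat.of k)).commRingCatIsoToRingEquiv.toEquiv.nontrivial
  have hσi : Function.Injective σ.appTop := RingHom.injective σ.appTop.hom
  have htop : IsIso (f.app ⊤) := (ConcreteCategory.isIso_iff_bijective _).2
    ⟨fun a b h => by
      have e := fun z => ConcreteCategory.congr_hom hcomp z
      exact ((e a).symm.trans (congrArg σ.appTop h)).trans (e b),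
     fun z => ⟨σ.appTop z, hσi (ConcreteCategory.congr_hom hcomp (σ.appTop z))⟩⟩
  have hall : ∀ V, IsIso (f.app V) := fun V => by
    rcases V.1.eq_empty_or_nonempty with h | h
    · obtain rfl : V = ⊥ := TopologicalSpace.Opens.ext h
      haveI : Subsingleton Γ(X, f ⁻¹ᵁ ⊥) := inferInstanceAs (Subsingleton Γ(X, ⊥))
      exact (ConcreteCategory.isIso_iff_bijective _).2 ⟨fun a b _ => Subsingleton.elim a b,
        fun a => ⟨0, Subsingleton.elim _ _⟩⟩
    · obtain rfl : V = ⊤ := by
        ext x
        simp only [TopologicalSpace.Opens.coe_top, Set.mem_univ, iff_true]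
        obtain ⟨y, hy⟩ := h
        exact (Subsingleton.elim y x) ▸ hy
      exact htop
  haveI : Flat t := inferInstance
  haveI : ∀ U, IsIso ((pullback.snd f t).c.app U) := fun U =>
    Groth.Agent.Var76.FibBC.isIso_app_baseChange f (IsPullback.of_hasPullback f t) hall U.unop
  exact NatIso.isIso_of_isIso_app _

end Groth.Agent.S6463
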