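import Groth.Statements.S6465
import Groth.Agent.Cyc90.GysinBC

set_option autoImplicit false
universe u
open CategoryTheory AlgebraicGeometry
open Cyc

namespace Groth.Agent.S6465

/-- Let (L, s, i : D → X) be a triple defining a Gysin map. Then i^* i_* : CH_k(D) → CH_{k−1}(D) sends
the class of a k-cycle α on D to c_1(L|_D) ∩ α: the (k − 1)-cycle i^*(i_* α) is rationally
equivalent on D to c_1(i^*L) ∩ α computed with any nonzero rational sections. Here i : D → X is the
zero scheme of a global section s of the invertible module L (Cyc.IsZeroSchemeOf), the Gysin map i^*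
: Z_{k+1}(X) → CH_k(D) is computed on coefficient functions as c_1(L) ∩ − with the rational sections
taken to be s where it is nonzero and a nonzero fallback elsewhere (Cyc.gysinChoice), restricted to
the points of D, and classes on D are compared up to rational equivalence on D for the restricted
dimension function; (X, δ) with Cyc.IsSetup stands for a scheme locally of finite type over the base
(S, δ). -/
theorem result (X D : Scheme.{u}) (δ : X → ℤ) (hX : Cyc.IsSetup X δ) (L : X.Modules) (hL : PicF.IsInvertible L) (s : L.presheaf.obj (Opposite.op ⊤)) (i : D ⟶ X) [IsClosedImmersion i] (hD : Cyc.IsZeroSchemeOf i L s) (k : ℤ) (α : AlgebraicCycle D ℤ) (hα : α ∈ Cyc.Zk D (fun d => δ (i d)) k) (w : (ξ : X) → Cyc.secFibre L ξ) (hw : ∀ ξ, w ξ ≠ 0) (t : (d : D) → Cyc.secFibre ((Scheme.Modules.pullback i).obj L) d) (ht : ∀ d, t d ≠ 0) (ζ₁ ζ₂ : AlgebraicCycle D ℤ) (h₁ : ∀ d, ζ₁ d = Cyc.c1CapFun δ L ⇑(AlgebraicCycle.map i (fun d => δ (i d)) δ α) (Cyc.gysinChoice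 L s w) (i d)) (h₂ : ⇑ζ₂ = Cyc.c1CapFun (fun d => δ (i d)) ((Scheme.Modules.pullback i).obj L) ⇑α t) : Cyc.RatEquiv (fun d => δ (i d)) (k - 1) ζ₁ ζ₂ := by
  have hv := Groth.Agent.Cyc90.gysinChoice_ne_zero s w hw
  have hDs := Groth.Agent.Cyc90.isSetup_closedImmersion i hX
  have hLi := Groth.Agent.Amp73.isInvertible_pullback i hL
  obtain ⟨γ₀, hγ₀⟩ := Groth.Agent.Cyc90.exists_c1CapCycle hDs hLi α
    (Groth.Agent.Cyc90.pullSec i hL (Cyc.gysinChoice L s w) hv) (Groth.Agent.Cyc90.pullSec_ne_zero i hL _ hv)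
  have hmap := Groth.Agent.Cyc90.map_c1Cap hDs hX i (Groth.Agent.Cyc90.deltaCompat_preimmersion i δ) hL α
    (Cyc.gysinChoice L s w) hv γ₀ hγ₀
  have e : ζ₁ = γ₀ := DFunLike.ext _ _ fun d => by
    rw [h₁, ← hmap, Groth.Agent.Cyc90.map_closedImmersion_image i δ γ₀ d]
  rw [e]
  refine Groth.Agent.Cyc90.ratEquiv_of_c1CapFun hDs hLi (k - 1) α ?_ _ t
    (fun ξ _ => Groth.Agent.Cyc90.pullSec_ne_zero i hL _ hv ξ) (fun ξ _ => ht ξ) γ₀ ζ₂ hγ₀ h₂
  rwa [sub_add_cancel]

end Groth.Agent.S6465
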