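import Groth.Statements.S6468
import Groth.Agent.Cyc90.Frame.K0

set_option autoImplicit false
universe u
open CategoryTheory AlgebraicGeometry
open Cyc

namespace Groth.Agent.S6468

/-- The map CH_k(X) → K_0(Coh_{≤k+1}(X)/Coh_{≤k−1}(X)) is a bijection onto its image B_k(X); the content
beyond well-definedness is: if a k-cycle α = Σ n_Z [Z] has [⊕_{n_Z>0} O_Z^{n_Z}] = [⊕_{n_Z<0}
O_Z^{−n_Z}] in K_0(Coh_{≤k+1}(X)/Coh_{≤k−1}(X)) then α ∼_rat 0. K_0 of the Serre quotient is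
modelled as K_0(Coh_{≤k+1}) modulo the classes of Coh_{≤k−1} (Cyc.K0CohQuot), O_Z is the
pushed-forward structure sheaf of the reduced closure of the generic point (Cyc.cycleSheafPos/Neg).
Here a pair (X, δ) with Cyc.IsSetup plays the role of a scheme locally of finite type over the base
(S, δ) (X locally Noetherian with universally catenary local rings, δ a dimension function). -/
theorem result (X : Scheme.{u}) (δ : X → ℤ) (hX : Cyc.IsSetup X δ) (k : ℤ) (α : AlgebraicCycle X ℤ) (hα : α ∈ Cyc.Zk X δ k) (h : Cyc.toK0CohQuot δ (k + 1) (k - 1) (Cyc.cycleSheafPos ⇑α) = Cyc.toK0CohQuot δ (k + 1) (k - 1) (Cyc.cycleSheafNeg ⇑α)) : Cyc.RatEquivZero δ k α := by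
  have hk : ∀ β : AlgebraicCycle X ℤ, (∀ x, δ x ≠ k → β x = 0) →
      Cyc.CohLe δ k (Cyc.cycleSheafPos ⇑β) ∧
      ∀ x, Cyc.sheafFun δ k (Cyc.cycleSheafPos ⇑β) x = if 0 < β x then β x else 0 := by
    intro β hβ
    have h1 : ∀ ζ, 0 < β ζ → δ ζ = k := fun ζ hζ => by
      by_contra hne
      rw [hβ ζ hne] at hζ
      exact lt_irrefl _ hζ
    refine ⟨Cyc90.CycSh.cohLe_pos hX _ (fun x => ?_) h1, Cyc90.CycSh.sheafFun_pos hX _ h1⟩
    obtain ⟨N, hN, hfin⟩ := β.supportLocallyFiniteWithinDomain' x trivial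
    obtain ⟨U, hUN, hU, hxU⟩ := mem_nhds_iff.1 hN
    exact ⟨U, hU, hxU, hfin.subset fun ζ hζ => ⟨hUN hζ.2, ne_of_gt hζ.1⟩⟩
  obtain ⟨hP, hPf⟩ := hk α hα
  obtain ⟨hN, hNf⟩ := hk (-α) fun x hx => by
    rw [Function.locallyFinsuppWithin.coe_neg, Pi.neg_apply, hα x hx, neg_zero]
  have hneg : Cyc.cycleSheafNeg ⇑α = Cyc.cycleSheafPos ⇑(-α) := rfl
  rw [hneg] at h
  have h2 := congrArg (Cyc90.Frame.cQuot hX k) h
  rw [Cyc90.Frame.cQuot_to hX k hP, Cyc90.Frame.cQuot_to hX k hN, QuotientAddGroup.eq] at h2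
  refine Cyc90.RatFamIn.ratEquivZero (T := Set.univ) ?_
  have h3 := (Cyc90.Frame.ratSub hX k).neg_mem h2
  refine Cyc90.RatFamIn.congr h3 fun x => ?_
  have hN' := hNf x
  simp only [Function.locallyFinsuppWithin.coe_neg, Pi.neg_apply] at hN' ⊢
  simp only [Pi.neg_apply, Pi.add_apply, hPf x, hN']
  split_ifs <;> omega

end Groth.Agent.S6468
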