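import Groth.Statements.S6475
import Groth.Agent.Cyc90.Dev.IntNum
open Groth.Agent.Cyc90 TopologicalSpace

set_option autoImplicit false
universe u
open CategoryTheory AlgebraicGeometry
open Cyc

namespace Groth.Agent.S6475

/-- Let X be proper over a field k, Z ⊂ X a closed subscheme of dimension d and L_1, …, L_d invertible
O_X-modules. Then the intersection number (L_1 ⋯ L_d · Z) equals deg(c_1(L_1) ∩ … ∩ c_1(L_d) ∩
[Z]_d). The left side is FGA.intNum (alternating sum of Euler characteristics of (⊗_{i∈I} M_i) ⊗ O_Z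
with M_i inverse to L_i, which is the number defined through the numerical polynomial); the right
side iterates Cyc.c1CapFun with any nonzero rational sections starting from [Z]_d and takes
ChowOps.deg of the resulting 0-cycle. Dimension function: transcendence degree over k. The caps are
applied starting with L_1 (innermost), the reverse of the displayed order; the degree does not
depend on the order. (The published statement also gives deg_L(Z) = deg(c_1(L)^d ∩ [Z]_d) for an
ample L, the case L_1 = … = L_d = L; this row does not restate it.) -/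
theorem result (k : Type u) [Field k] (X : Scheme.{u}) [X.Over (Spec (CommRingCat.of k))] [IsProper (X ↘ Spec (CommRingCat.of k))] (δ : X → ℤ) (hX : Cyc.IsSetup X δ) (hδ : Cyc.DeltaCompat (X ↘ Spec (CommRingCat.of k)) δ (fun _ => 0)) (Z : Scheme.{u}) (ι : Z ⟶ X) [IsClosedImmersion ι] (d : ℕ) (hd : topologicalKrullDim Z = d) (L M : Fin d → X.Modules) (hL : ∀ i, PicF.IsInvertible (L i)) (hM : ∀ i, Nonempty (CohB1.tensorMod (M i) (L i) ≅ Coh.structureModule X)) (s : (i : Fin d) → (ξ : X) → Cyc.secFibre (L i) ξ) (hs : ∀ i ξ, s i ξ ≠ 0) (γ : ℕ → X → ℤ) (hγ0 : γ 0 = Cyc.subschemeFun δ d ι) (hγs : ∀ (i : ℕ) (h : i < d), γ (i + 1) = Cyc.c1CapFun δ (L ⟨i, h⟩) (γ i) (s ⟨i, h⟩)) (α : AlgebraicCycle X ℤ) (hα : ⇑α = γ d) : FGA.intNum k X d M ((Coh.push ι).obj (Coh.structureModule Z)) = ChowOps.deg (X ↘ Spec (CommRingCat.of k)) δ α := by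
  have := hX.1
  have hZn : IsLocallyNoetherian Z := LocallyOfFiniteType.isLocallyNoetherian ι
  have hF : Cyc.CohLe δ (d : ℤ) ((Coh.push ι).obj (Coh.structureModule Z)) := by
    refine ⟨QC70.isCoh_pushforward ι _ QC70.isCoh_unit, fun x hx => ?_⟩
    have := (QC70.isCoh_unit (X := Z)).2
    have hxr : x ∈ Set.range ι :=
      QC70.support_pushforward_subset ι (Coh.structureModule Z) (not_subsingleton_iff_nontrivial.2 hx)
    refine Dev.delta_le_of_dim_closure_le hδ ?_
    have hsub : closure ({x} : Set X) ⊆ Set.range ι :=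
      closure_minimal (Set.singleton_subset_iff.2 hxr) ι.isClosedEmbedding.isClosed_range
    refine le_trans ?_ hd.le
    exact (ι.isClosedEmbedding.isEmbedding.toHomeomorph.symm.isInducing.comp
      (Topology.IsEmbedding.inclusion hsub).isInducing).topologicalKrullDim_le
  rw [Dev.intNum_eq_degFun k hδ hX L M hL hM s hs _ hF le_rfl γ
    (hγ0.trans (subschemeFun_eq_sheafFun δ ι (d : ℤ))) hγs, ← hα]
  unfold ChowOps.deg Dev.degFun
  rw [map_apply_eq]
  have hpre : (X ↘ Spec (CommRingCat.of k)) ⁻¹' {IsLocalRing.closedPoint k} = Set.univ :=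
    Set.eq_univ_of_forall fun x => Subsingleton.elim (α := PrimeSpectrum k) _ _
  refine Eq.trans ?_ ((finsum_mem_congr hpre fun _ _ => rfl).trans (finsum_mem_univ _)).symm
  refine finsum_congr fun x => ?_
  by_cases hx : δ x = 0
  · rw [if_pos hx, mul_comm]
  · rw [if_neg hx, mul_zero]
    by_cases hr : (X ↘ Spec (CommRingCat.of k)).residueDegree x = 0
    · rw [hr, Nat.cast_zero, zero_mul]
    · exact absurd (delta_eq_of_residueDegree_ne_zero (X ↘ Spec (CommRingCat.of k)) hδ x hr) hx

end Groth.Agent.S6475
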