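import Groth.Statements.S6481
import Groth.Agent.Glue50.Punctured

set_option autoImplicit false
universe u
open CycAlg

namespace Groth.Agent.S6481

/-- Let (A, 𝔪) be a 2-dimensional Noetherian local ring, t ∈ 𝔪 a nonzerodivisor with V(t) = {𝔪, 𝔮_1, …,
𝔮_r}, and A_{𝔮_i} ⊂ B_i finite ring extensions with B_i/A_{𝔮_i} annihilated by a power of t and with
t a nonzerodivisor on each B_i. Then A admits some finite extension A ⊂ B whose quotient B/A is
killed by some power of t, such that for every i the localization B_{𝔮_i} = B ⊗_A A_{𝔮_i} is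
isomorphic to B_i (existence of an A_{𝔮_i}-algebra isomorphism; B itself is only asserted to exist).
(The published statement allows any finite ring extensions A_{𝔮_i} ⊂ B_i; this row asks t to be a
nonzerodivisor on each B_i, the case its proof treats, where B_i sits inside t^{-n}A_{𝔮_i}. The
published statement also makes B local with the same residue field as A; this row omits that
clause.) Finite extension with quotient killed by a power of t: CycAlg.IsFinExt with the ideal (t). -/
theorem result (A : Type u) [CommRing A] [IsNoetherianRing A] [IsLocalRing A] (hA : ringKrullDim A = 2) (t : A) (ht : t ∈ IsLocalRing.maximalIdeal A) (htnz : t ∈ nonZeroDivisors A) (r : ℕ) (q : Fin r → Ideal A) (hq : ∀ i, (q i).IsPrime) (hinj : Function.Injective q) (hqm : ∀ i, q i ≠ IsLocalRing.maximalIdeal A) (htq : ∀ i, t ∈ q i) (hV : ∀ p : Ideal A, p.IsPrime → t ∈ p → p = IsLocalRing.maximalIdeal A ∨ ∃ i, p = q i) (B : Fin r → Type u) [∀ i, CommRing (B i)] [∀ i, Algebra (Localization.AtPrime (q i)) (B i)] (hB : ∀ i, CycAlg.IsFinExt (Localization.AtPrime (q i)) (B i) (Ideal.span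 {algebraMap A (Localization.AtPrime (q i)) t})) (htB : ∀ i, IsSMulRegular (B i) (algebraMap A (Localization.AtPrime (q i)) t)) : ∃ (C : Type u) (_ : CommRing C) (_ : Algebra A C), CycAlg.IsFinExt A C (Ideal.span {t}) ∧ ∀ i, Nonempty (TensorProduct A (Localization.AtPrime (q i)) C ≃ₐ[Localization.AtPrime (q i)] B i) := by
  classical
  haveI := hq
  letI : ∀ i, Algebra A (B i) := fun i => Algebra.compHom (B i) (algebraMap A (Localization.AtPrime (q i)))
  haveI : ∀ i, IsScalarTower A (Localization.AtPrime (q i)) (B i) := fun i =>
    IsScalarTower.of_algebraMap_eq fun _ => rfl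
  choose k hk using fun i => (hB i).2.2
  let n := Finset.univ.sup k
  have hcok : ∀ i (b : B i), t ^ n • b ∈ (algebraMap (Localization.AtPrime (q i)) (B i)).range := fun i b => by
    rw [← IsScalarTower.algebraMap_smul (Localization.AtPrime (q i)) (t ^ n) b, map_pow]
    exact hk i _ (Ideal.pow_le_pow_right (Finset.le_sup (f := k) (Finset.mem_univ i))
      (Ideal.pow_mem_pow (Ideal.mem_span_singleton_self _) n)) b
  have htB' : ∀ i, IsSMulRegular (B i) t := fun i x y e => htB i (by
    simp only [IsScalarTower.algebraMap_smul]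
    exact e)
  obtain ⟨C, hfin, hCinj, hCcok, hC⟩ := Groth.Agent.Glue50.Punctured.exists_glue (B := B) hA htnz hinj hqm htq hV n
    hcok (fun i => (hB i).1) htB'
  refine ⟨C, inferInstance, inferInstance, ⟨hCinj, hfin, n, hCcok⟩, fun i => ?_⟩
  obtain ⟨ψ, hb⟩ := hC i
  let g : TensorProduct A (Localization.AtPrime (q i)) C →ₐ[Localization.AtPrime (q i)] B i :=
    Algebra.TensorProduct.lift (Algebra.ofId _ _) ψ fun _ _ => Commute.all _ _
  have hg : ∀ z, g z = hb.equiv z := fun z => by
    induction z using TensorProduct.induction_on with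
    | zero => rw [map_zero, map_zero]
    | tmul s x =>
      rw [Algebra.TensorProduct.lift_tmul, IsBaseChange.equiv_tmul, Algebra.smul_def]
      rfl
    | add x y hx hy => rw [map_add, map_add, hx, hy]
  exact ⟨AlgEquiv.ofBijective g (by
    have : (g : TensorProduct A (Localization.AtPrime (q i)) C → B i) = hb.equiv := funext hg
    rw [this]; exact hb.equiv.bijective)⟩

end Groth.Agent.S6481
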