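import Groth.Statements.S6484
import Groth.Agent.Cyc90.Envelope

set_option autoImplicit false
universe u
open CategoryTheory AlgebraicGeometry
open CategoryTheory.Limits
open Cyc

namespace Groth.Agent.S6484

/-- If f : Y → X is completely decomposed (this prelude's Cyc.IsCompletelyDecomposed: over every point
of X lies a point of Y with trivial residue field extension) and g : X' → X is any morphism of
schemes, then the base change Y ×_X X' → X' is completely decomposed. Consequently the base change
of an envelope (a proper completely decomposed morphism) is an envelope, properness being preserved
by base change. (The published envelope statement takes X′ → X between schemes locally of finite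
type over a base; this row allows any g.) -/
theorem result (X X' Y : Scheme.{u}) (f : Y ⟶ X) (g : X' ⟶ X) (hcd : Cyc.IsCompletelyDecomposed f) : Cyc.IsCompletelyDecomposed (pullback.snd f g) := by
  exact Cyc90.isCompletelyDecomposed_snd f g hcd

end Groth.Agent.S6484
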