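import Groth.Statements.S6485
import Groth.Agent.Pool36.DetIrr

set_option autoImplicit false
universe u
open IntMult

namespace Groth.Agent.S6485

/-- Let k be a field and n ≥ 1. Then the determinant of the generic matrix (x_{ij})_{1 ≤ i, j ≤ n} is an
irreducible element of the polynomial ring k[x_{ij}] (Mathlib's Matrix.mvPolynomialX is the generic
matrix over MvPolynomial (Fin n × Fin n) k). -/
theorem result (k : Type u) [Field k] (n : ℕ) (hn : 1 ≤ n) : Irreducible (Matrix.mvPolynomialX (Fin n) (Fin n) k).det := by
  obtain ⟨m, rfl⟩ := Nat.exists_eq_add_of_le' hn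
  exact Groth.Agent.Pool36.det_irreducible m (fun i j => (i, j)) (fun p q h => h)

end Groth.Agent.S6485
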