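import Groth.Statements.S6490
import Groth.Agent.Cyc90.Dev.BundleFlat
import Groth.Agent.Cyc90.C1RatEquiv
import Groth.Agent.Cyc90.PullRat
import Groth.Agent.Cyc90.RatPush
import Groth.Agent.IntMult12.ExtRat
open Groth.Agent.Cyc90

set_option autoImplicit false
universe u
open CategoryTheory CategoryTheory.Limits AlgebraicGeometry TopologicalSpace Opposite
open scoped HomogeneousIdeal
open Cyc

namespace Groth.Agent.S6490

/-- The map ⊕_{i=0}^{r−1} CH_{k+i}(X) → CH_{k+r−1}(P), (α_0, …, α_{r−1}) ↦ π^*α_0 + c_1(O_P(1)) ∩ π^*α_1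
+ … + c_1(O_P(1))^{r−1} ∩ π^*α_{r−1}, is injective: if the sum is ∼_rat 0 on P then each α_i ∼_rat 0
on X. Projective bundle data: ℰ quasi-coherent, finite locally free of rank r ≥ 1; 𝒮 = Sym(ℰ) as a
graded quasi-coherent algebra (RelProj.IsGrSymAlg); (P, p, chart) its relative Proj
(RelProj.IsRelProj); (O1, lam) its O_P(1) (RelProj.IsRelTwist with n = 1); O_P(1) invertible and p
proper, which hold for projective bundles, are carried as hypotheses; δP is the induced dimension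
function (Cyc.IsSetup, Cyc.DeltaCompat). π^* is Cyc.pullFun with relative dimension r − 1, π_* is
Mathlib's pushforward of cycles, and c_1(O_P(1))^s ∩ − is the s-fold iterate of Cyc.c1CapFun with
any nonzero rational sections. Here a pair (X, δ) with Cyc.IsSetup plays the role of a scheme
locally of finite type over the base (S, δ) (X locally Noetherian with universally catenary local
rings, δ a dimension function), and Cyc.DeltaCompat records that the dimension function upstairs is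
the induced one. -/
theorem result (X : Scheme.{u}) (δ : X → ℤ) (hX : Cyc.IsSetup X δ) (E : X.Modules) (hq : Coh.IsQCoh E) (r : ℕ) (hr : 1 ≤ r) (hE : FlatMod.IsFinLocFreeOfRank r E) (𝒮 : RelProj.QCGrAlg X) (j : E ⟶ 𝒮.toModule) (hS : RelProj.IsGrSymAlg E 𝒮 j) (P : Scheme.{u}) (p : P ⟶ X) (chart : ∀ (U : X.Opens) (hU : IsAffineOpen U), (((p ⁻¹ᵁ U : P.Opens) : Scheme.{u}) ≅ Proj (𝒮.deg U hU))) (hP : RelProj.IsRelProj 𝒮 p chart) (O1 : P.Modules) (lam : ∀ (U : X.Opens) (hU : IsAffineOpen U), O1 ⟶ (Scheme.Modules.pushforward (RelProj.emb p chart U hU)).obj (GrTwist.twist (𝒮.deg U hU) 1)) (hO1 : RelProj.IsRelTwist 𝒮 p chart 1 O1 lam) (hinv : PicF.IsInvertible O1) [IsProper p] (δP : P → ℤ) (hPs : Cyc.IsSetup P δP) (hδ : Cyc.DeltaCompat p δP δ) (k : ℤ) (α : Fin r → AlgebraicCycle X ℤ) (hα : ∀ i : Fin r, α i ∈ Cyc.Zk X δ (k + ((i : ℕ) : ℤ))) (t : Fin r → ℕ → (ξ : P) → Cyc.secFibre O1 ξ) (ht : ∀ i m ξ, t i m ξ ≠ 0) (γ : Fin r → ℕ → P → ℤ) (hγ0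 : ∀ i : Fin r, γ i 0 = Cyc.pullFun p δP δ ((r : ℤ) - 1) ⇑(α i)) (hγs : ∀ (i : Fin r) (m : ℕ), γ i (m + 1) = Cyc.c1CapFun δP O1 (γ i m) (t i m)) (β : AlgebraicCycle P ℤ) (hβ : ∀ x, β x = ∑ i : Fin r, γ i (i : ℕ) x) (h0 : Cyc.RatEquivZero δP (k + r - 1) β) : ∀ i : Fin r, Cyc.RatEquivZero δ (k + ((i : ℕ) : ℤ)) (α i) := by
  classical
  obtain ⟨n, rfl⟩ : ∃ n, r = n + 1 := ⟨r - 1, by omega⟩
  have hr1 : ((n + 1 : ℕ) : ℤ) - 1 = n := by push_cast; ring
  have hk1 : k + ((n + 1 : ℕ) : ℤ) - 1 = k + n := by push_cast; ring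
  rw [hk1] at h0
  have hflat : Flat p := Dev.flat_projBundle hq hE hS hP hO1
  have hsh : ShiftAt p δP δ n := Dev.shiftAt_projBundle hq hE hS hP hO1 hδ
  suffices H : ∀ m : ℕ, ∀ i : Fin (n + 1), n ≤ (i : ℕ) + m →
      Cyc.RatEquivZero δ (k + ((i : ℕ) : ℤ)) (α i) by
    exact fun i => H n i (by omega)
  intro m
  induction m using Nat.strong_induction_on with
  | _ m ih =>
  intro i0 hm
  have ih' : ∀ j : Fin (n + 1), (i0 : ℕ) < j → Cyc.RatEquivZero δ (k + ((j : ℕ) : ℤ)) (α j) :=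
    fun j hj => ih (n - j) (by omega) j (by omega)
  -- continue all the iterated caps with the sections of the index `i0`
  let u : Fin (n + 1) → ℕ → (ξ : P) → Cyc.secFibre O1 ξ := fun j m =>
    if m < (j : ℕ) then t j m else t i0 (m - j)
  have hu : ∀ (j : Fin (n + 1)) (m : ℕ) (ξ : P), u j m ξ ≠ 0 := fun j m ξ => by
    simp only [u]; split_ifs <;> exact ht _ _ _
  choose C hC using fun (a : AlgebraicCycle P ℤ) (w : {w : (ξ : P) → Cyc.secFibre O1 ξ // ∀ ξ, w ξ ≠ 0}) =>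
    exists_c1CapCycle hPs hinv a w.1 w.2
  let B : Fin (n + 1) → ℕ → AlgebraicCycle P ℤ := fun j m =>
    Nat.rec (pullCycle p hPs hsh (α j)) (fun m b => C b ⟨u j m, hu j m⟩) m
  have hB0 : ∀ j : Fin (n + 1), ⇑(B j 0) = Cyc.pullFun p δP δ (n : ℤ) ⇑(α j) := fun j => rfl
  have hBs : ∀ (j : Fin (n + 1)) (m : ℕ), ⇑(B j (m + 1)) = Cyc.c1CapFun δP O1 ⇑(B j m) (u j m) := fun j m => hC _ _
  have hBγ : ∀ (j : Fin (n + 1)) (m : ℕ), m ≤ (j : ℕ) → ⇑(B j m) = γ j m := by
    intro j m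
    induction m with
    | zero => intro _; rw [hB0, hγ0, hr1]
    | succ m ihm =>
      intro hmj
      rw [hBs, hγs, ihm (by omega), show u j m = t j m from if_pos (show m < (j : ℕ) by omega)]
  have hsum : ∀ (d : ℕ) (x : P), (∑ j, B j ((j : ℕ) + d) : AlgebraicCycle P ℤ) x =
      ∑ j, B j ((j : ℕ) + d) x := fun d x => by
    induction (Finset.univ : Finset (Fin (n + 1))) using Finset.induction with
    | empty => simp
    | @insert a s ha hs =>
      rw [Finset.sum_insert ha, Finset.sum_insert ha, Function.locallyFinsuppWithin.coe_add,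
        Pi.add_apply, hs]
  have hcap : ∀ d : ℕ, Cyc.RatEquivZero δP (k + n - d) (∑ j, B j ((j : ℕ) + d)) := by
    intro d
    induction d with
    | zero =>
      have e : (∑ j, B j ((j : ℕ) + 0) : AlgebraicCycle P ℤ) = β := by
        ext x
        rw [hsum, hβ]
        exact Finset.sum_congr rfl fun j _ => congrFun (hBγ j ((j : ℕ) + 0) (by omega)) x
      rw [e, Nat.cast_zero, sub_zero]
      exact h0
    | succ d ihd =>
      refine ratEquivZero_c1Cap hPs hinv (k := k + n - ((d + 1 : ℕ) : ℤ))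
        (by rw [show k + (n : ℤ) - ((d + 1 : ℕ) : ℤ) + 1 = k + n - d by push_cast; ring]; exact ihd)
        (t i0 d) (ht i0 d) _ (funext fun x => ?_)
      rw [c1CapFun_finsum_apply hPs O1 (t i0 d) Finset.univ (fun _ => 1)
        (fun j => B j ((j : ℕ) + d)) _ x (fun η _ => by rw [hsum]; simp), hsum]
      refine Finset.sum_congr rfl fun j _ => ?_
      rw [one_mul, ← Nat.add_assoc, hBs]
      simp [u]
  let s := n - (i0 : ℕ)
  have hmap : AlgebraicCycle.map p δP δ (∑ j, B j ((j : ℕ) + s)) =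
      ∑ j, AlgebraicCycle.map p δP δ (B j ((j : ℕ) + s)) :=
    map_sum (AddMonoidHom.ofMapSub (fun a : AlgebraicCycle P ℤ => AlgebraicCycle.map p δP δ a)
      (map_sub_cycle p)) _ _
  have hlow : ∀ j : Fin (n + 1),
      ((j : ℕ) < i0 → AlgebraicCycle.map p δP δ (B j ((j : ℕ) + s)) = 0) ∧
      (j = i0 → AlgebraicCycle.map p δP δ (B j ((j : ℕ) + s)) = α j) := fun j => by
    obtain ⟨h1, h2⟩ := Dev.map_cap_projBundle hX hq hE hS hP hO1 hinv hPs hδ (hα j) (u j) (hu j)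
      (fun m => ⇑(B j m)) (hB0 j) (hBs j) ((j : ℕ) + s) (B j ((j : ℕ) + s)) rfl
    exact ⟨fun h => h1 (by omega), fun h => h2 (by subst h; omega)⟩
  have hhigh : ∀ j : Fin (n + 1), (i0 : ℕ) < j →
      Cyc.RatEquivZero δ (k + ((i0 : ℕ) : ℤ)) (AlgebraicCycle.map p δP δ (B j ((j : ℕ) + s))) := by
    intro j hj
    have : ∀ m : ℕ, Cyc.RatEquivZero δP (k + (j : ℕ) + n - m) (B j m) := by
      intro m
      induction m with
      | zero =>
        rw [Nat.cast_zero, sub_zero]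
        exact ratEquivZero_pullFun hPs hX p hsh (ih' j hj) _ (hB0 j)
      | succ m ihm =>
        refine ratEquivZero_c1Cap hPs hinv (by
          rw [show k + (j : ℕ) + (n : ℤ) - ((m + 1 : ℕ) : ℤ) + 1 = k + (j : ℕ) + n - m by
            push_cast; ring]
          exact ihm) (u j m) (hu j m) _ (hBs j m)
    refine ratEquivZero_map hPs hX p hδ ?_
    have h2 := this ((j : ℕ) + s)
    rwa [show k + (j : ℕ) + (n : ℤ) - (((j : ℕ) + s : ℕ) : ℤ) = k + ((i0 : ℕ) : ℤ) by
      have : (s : ℤ) = n - (i0 : ℕ) := by simp only [s]; omega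
      push_cast; rw [this]; ring] at h2
  have htot : Cyc.RatEquivZero δ (k + ((i0 : ℕ) : ℤ))
      (AlgebraicCycle.map p δP δ (∑ j, B j ((j : ℕ) + s))) := by
    refine ratEquivZero_map hPs hX p hδ ?_
    have h2 := hcap s
    rwa [show k + (n : ℤ) - (s : ℤ) = k + ((i0 : ℕ) : ℤ) by simp only [s]; omega] at h2
  have hrest : Cyc.RatEquivZero δ (k + ((i0 : ℕ) : ℤ))
      (∑ j ∈ Finset.univ.erase i0, (1 : ℤ) • AlgebraicCycle.map p δP δ (B j ((j : ℕ) + s))) := by
    refine Groth.Agent.IntMult12.ratEquivZero_sum hX _ _ _ fun j hj => ?_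
    have hne : (j : ℕ) ≠ i0 := fun h => (Finset.mem_erase.1 hj).1 (Fin.ext h)
    rcases lt_or_gt_of_ne hne with h | h
    · rw [(hlow j).1 h]; exact Groth.Agent.IntMult12.ratEquivZero_zero _
    · exact hhigh j h
  have e : α i0 = AlgebraicCycle.map p δP δ (∑ j, B j ((j : ℕ) + s)) +
      -(∑ j ∈ Finset.univ.erase i0, (1 : ℤ) • AlgebraicCycle.map p δP δ (B j ((j : ℕ) + s))) := by
    simp only [one_smul]
    rw [hmap, ← Finset.add_sum_erase _ _ (Finset.mem_univ i0), (hlow i0).2 rfl]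
    abel
  rw [e]
  exact ratEquivZero_add htot (ratEquivZero_neg hX hrest)

end Groth.Agent.S6490
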