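import Groth.Statements.S6494
import Groth.Agent.IntMult12.P1Move

set_option autoImplicit false
universe u
open CategoryTheory CategoryTheory.Limits AlgebraicGeometry
attribute [local instance] HasDerivedCategory.standard
open IntMult

namespace Groth.Agent.S6494

/-- Let X → P be a closed immersion of nonsingular varieties and C' ⊂ P × P^1 a closed subvariety of
dimension r + 1 with (1) the fibre C = C'_0 of dimension r (C' → P^1 dominant), (2) C' and X × P^1
intersecting properly, (3) [C]_r and X intersecting properly. Then, with α = [C]_r · X and β = C' ·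
(X × P^1), one has α = pr_{X,*}(β · (X × 0)). Stated on P × P^1: α = pr_*((C' · (X × P^1)) · (P ×
0)) as cycles on P. (The published statement takes the product of β with X × 0 on X × P^1 and pushes
it forward along X × P^1 → X; this row takes the product of C′ · (X × P^1) with P × 0 on P × P^1 and
pushes it forward along P × P^1 → P, which is the same cycle on P.) Encoding: P × P^1 =
CohB1.ProjSpaceOver 1 P with projection pr and zero section P1.sect P 0; dimension functions δP, δ'
(transcendence degree); C'_0 is the pullback of C' along the zero section and [C]_r its r-cycle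
(Cyc.subschemeFun); X × P^1 and P × 0 enter as the prime cycles of their generic points; products
are IntMult.interProd on P (dim N_P) and on P × P^1 (dim N_P + 1). Here P and X are nonsingular
varieties over the algebraically closed field K (smooth, separated, quasi-compact, integral), δP is
the dimension function on P (transcendence degree over K, recorded by Cyc.DeltaCompat to Spec K with
value 0, together with Cyc.IsSetup), N_P = δP of the generic point of P and n = δP of the generic
point of X; proper intersection is IntMult.IntersectProperly / IntMult.ProperInt and products are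
IntMult.interProd. -/
theorem result (K : Type u) [Field K] [IsAlgClosed K] (P : Scheme.{u}) (fP : P ⟶ Spec (CommRingCat.of K)) [Smooth fP] [IsSeparated fP] [QuasiCompact fP] [IsIntegral P] (δP : P → ℤ) (hP : Cyc.IsSetup P δP) (hδP : Cyc.DeltaCompat fP δP (fun _ => 0)) (NP : ℕ) (hNP : δP (genericPoint P) = NP) (δ' : ↥(CohB1.ProjSpaceOver 1 P) → ℤ) (hP' : Cyc.IsSetup (CohB1.ProjSpaceOver 1 P) δ') (hδ' : Cyc.DeltaCompat (CohB1.ProjSpaceOver.toBase 1 P) δ' δP) [QuasiCompact (CohB1.ProjSpaceOver.toBase 1 P)] (X : Scheme.{u}) (fX : X ⟶ Spec (CommRingCat.of K)) [Smooth fX] [IsSeparated fX] [QuasiCompact fX] [IsIntegral X] (ι : X ⟶ P) [IsClosedImmersion ι] (hι : ι ≫ fP = fX) (n : ℕ) (hn : δP (ι (genericPoint X)) = n) (ζX : ↥(CohB1.ProjSpaceOver 1 P)) (hζ1 : CohB1.ProjSpaceOver.toBase 1 P ζX = ι (genericPoint X)) (hζ2 : δ' ζX = n + 1) (C' : Scheme.{u}) [IsIntegral C'] (ι' : C' ⟶ CohB1.ProjSpaceOver 1 P) [IsClosedImmersion ι'] (r : ℕ) (hr : δ' (ι' (genericPoint C')) = r + 1) (hC0 : ∀ w : ↥(pullback ι' (P1.sect P 0)), δP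 (pullback.snd ι' (P1.sect P 0) w) ≤ r) (hC0ne : Nonempty ↥(pullback ι' (P1.sect P 0))) (h2 : IntMult.ProperInt (closure {ι' (genericPoint C')}) (⇑(CohB1.ProjSpaceOver.toBase 1 P) ⁻¹' Set.range ⇑ι) (NP + 1) (r + 1) (n + 1)) (h3 : IntMult.IntersectProperly δP NP (Cyc.subschemeFun δP r (pullback.snd ι' (P1.sect P 0))) (Set.indicator {ι (genericPoint X)} 1)) (B : AlgebraicCycle (CohB1.ProjSpaceOver 1 P) ℤ) (hB : ⇑B = IntMult.interProd δ' (NP + 1) (IntMult.interProd δ' (NP + 1) (Set.indicator {ι' (genericPoint C')} 1) (Set.indicator {ζX} 1)) (Set.indicator {P1.sect P 0 (genericPoint P)} 1)) : ⇑(AlgebraicCycle.map (CohB1.ProjSpaceOver.toBase 1 P) δ' δP B) = IntMult.interProd δP NP (Cyc.subschemeFun δP r (pullback.snd ι' (P1.sect P 0))) (Set.indicator {ι (genericPoint X)} 1) := by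
  classical
  haveI : IsProper (CohB1.ProjSpaceOver.toBase 1 P) := Cyc90.P1L.isProper_toBase P
  have hni : ι' (genericPoint C') ∉ Set.range (P1.sect P 0) := by
    rintro ⟨y, hy⟩
    obtain ⟨t, -, ht⟩ := Scheme.Pullback.exists_preimage_pullback (f := ι') (g := P1.sect P 0)
      (genericPoint C') y hy.symm
    have h := hC0 t
    rw [ht] at h
    rw [← hy, Cyc90.P1L.delta_sect hδ'] at hr
    omega
  obtain ⟨b, hbd, hTb, hbsp, hbfun⟩ := IntMult12.exists_vert fP δP δ' hP hδ' (ι (genericPoint X))
  obtain rfl : ζX = b := by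
    refine (Cyc90.eq_of_delta_le hP'.2.2 ((hbsp ζX).2 (specializes_of_eq hζ1.symm)) ?_).symm
    omega
  obtain ⟨-, -, hval⟩ := IntMult12.interProd_swap_sect δP δ' hP hδ' fP hδP NP hNP n r ι'
    hr (ι (genericPoint X)) hn ζX hbd hTb hbfun 0 hni (IntMult12.intersectProperly_symm h3)
  have hB0 : ∀ p, p ∉ Set.range (P1.sect P 0) → B p = 0 := fun p hp => by
    by_contra hne
    rw [congrFun hB p] at hne
    obtain ⟨_, q, -, hq, -, hqp, -⟩ := IntMult12.interProd_ne_zero hne
    obtain rfl : q = P1.sect P 0 (genericPoint P) :=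
      Set.mem_singleton_iff.1 (Set.mem_of_indicator_ne_zero hq)
    exact hp (hqp.mem_closed (P1.sect P 0).isClosedEmbedding.isClosed_range ⟨_, rfl⟩)
  funext x
  rw [IntMult12.map_toBase_sect δP δ' hP hδ' B (fun p hp => Or.inl (by_contra fun h => hp (hB0 p h))) x,
    hB0 (P1.sect P 1 x) (fun h => Cyc90.P1L.notMem_range_of_mem 0 _ h ⟨x, rfl⟩), add_zero, congrFun hB,
    hval x, IntMult12.interProd_comm δP NP (Set.indicator {ι (genericPoint X)} 1)]

end Groth.Agent.S6494
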