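import Groth.Statements.S6505
import Groth.Agent.Fib44.HyperFree
import Groth.Agent.Hyper50.IffHyp

set_option autoImplicit false
universe u
open CategoryTheory
open Hyper

namespace Groth.Agent.S6505

open Opposite CategoryTheory.Limits in
/-- Let C be a small site with fibre products, X an object and K a hypercovering of X. Then the chain
complex of abelian sheaves Z[F(K)]^# on C/X has zero homology sheaves in all positive degrees and
its degree-0 homology sheaf is isomorphic to the sheafification of the constant presheaf Z on C/X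
(which corresponds to Z_X^# = Z[h_X]^# on C; existence of an isomorphism only). -/
theorem result {C : Type u} [SmallCategory C] [HasPullbacks C]
    (J : GrothendieckTopology C) (X : C) (K : SimplicialObject (FormalCoproduct.{u} (Over X)))
    [∀ (n : ℕ) (F : (SimplexCategory.Truncated n)ᵒᵖ ⥤ FormalCoproduct.{u} (Over X)),
      (SimplexCategory.Truncated.inclusion n).op.HasRightKanExtension F]
    (hK : Hyper.IsHypercovering J X K) :
    (∀ i : ℕ, IsZero ((Hyper.freeChainCx (J.over X) K).homology (i + 1))) ∧
    Nonempty ((Hyper.freeChainCx (J.over X) K).homology 0 ≅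
      (presheafToSheaf (J.over X) AddCommGrpCat.{u}).obj
        ((Functor.const (Over X)ᵒᵖ).obj (AddCommGrpCat.free.{u}.obj PUnit.{u + 1}))) := by
  have : HasEqualizers (Over X) := hasEqualizers_of_hasPullbacks_and_binary_products
  have hs : Hyper.IsHypercoveringSite (J.over X) K :=
    (Groth.Agent.Hyper50.isHypercoveringSite_iff (J.over X) K).2
      ((Groth.Agent.Hyper50.isHypercovering_iff J X K).1 hK)
  rw [Groth.Agent.Fib44.HyperFree.freeChainCx_eq]
  refine ⟨fun i => Groth.Agent.Fib44.HyperFree.isZero_homology_succ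
    (Groth.Agent.Fib44.HyperFill.isLocTriv hs) i, ?_⟩
  obtain ⟨e⟩ := Groth.Agent.Fib44.HyperFree.nonempty_homology_zero_iso
    (Groth.Agent.Fib44.HyperFill.isLocTriv hs)
  let z : (AddCommGrpCat.of (ULift.{u} ℤ)) ≅ AddCommGrpCat.free.{u}.obj PUnit.{u + 1} :=
    (AddEquiv.ulift.trans (FreeAbelianGroup.uniqueEquiv PUnit.{u + 1}).symm).toAddCommGrpIso
  exact ⟨e ≪≫ (presheafToSheaf (J.over X) AddCommGrpCat.{u}).mapIso
    ((Functor.const (Over X)ᵒᵖ).mapIso z)⟩

end Groth.Agent.S6505
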