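import Groth.Statements.S6507
import Groth.Agent.Hyper50.Refine
import Groth.Agent.Hyper50.FromPresheaf

set_option autoImplicit false
universe u
open CategoryTheory
open Hyper

namespace Groth.Agent.S6507

open Opposite CategoryTheory.Limits in
/-- With presheaves taken on the localized site C/X: let C be a small site with fibre products, X an
object, K a hypercovering of X and n ≥ 0. Let u : P → F(K_n) be a morphism of presheaves of sets on
C/X, where F(K_n) is the coproduct of the presheaves represented by the members of the family K_n,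
and assume u is locally surjective. Then there exist a hypercovering L of X and a morphism f : L → K
such that F(f_n) : F(L_n) → F(K_n) factors through u. -/
theorem result {C : Type u} [SmallCategory C] [HasPullbacks C]
    (J : GrothendieckTopology C) (X : C)
    [∀ (n : ℕ) (F : (SimplexCategory.Truncated n)ᵒᵖ ⥤ Limits.FormalCoproduct.{u} (Over X)),
      (SimplexCategory.Truncated.inclusion n).op.HasRightKanExtension F]
    (K : SimplicialObject (FormalCoproduct.{u} (Over X))) (hK : Hyper.IsHypercovering J X K) (n : ℕ)
    (P : (Over X)ᵒᵖ ⥤ Type u) (u : P ⟶ FormalCoproduct.yoneda.obj (K.obj (op (SimplexCategory.mk n))))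
    (hu : Presheaf.IsLocallySurjective (J.over X) u) :
    ∃ (L : SimplicialObject (FormalCoproduct.{u} (Over X))) (f : L ⟶ K)
      (g : FormalCoproduct.yoneda.obj (L.obj (op (SimplexCategory.mk n))) ⟶ P),
      Hyper.IsHypercovering J X L ∧ g ≫ u = FormalCoproduct.yoneda.map (f.app (op (SimplexCategory.mk n))) := by
  rw [Groth.Agent.Hyper50.isHypercovering_iff] at hK
  let v := u ≫ Groth.Agent.Hyper50.yonedaIsoPts.hom.app (K.obj (op (SimplexCategory.mk n)))
  have : Presheaf.IsLocallySurjective (J.over X) (Groth.Agent.Hyper50.elemsMap P) :=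
    Presheaf.isLocallySurjective_of_surjective _ _ (Groth.Agent.Hyper50.elemsMap_surjective P)
  have hv : Hyper.IsSRCovering (J.over X) (Groth.Agent.Hyper50.ofPts v) := by
    rw [Groth.Agent.Hyper50.isSRCovering_iff, Groth.Agent.Hyper50.map_ofPts]
    infer_instance
  obtain ⟨L, f, g, hL, hg⟩ := Groth.Agent.Hyper50.exists_refinement (J.over X) n K hK _ _ hv
  refine ⟨L, f, FormalCoproduct.yoneda.map g ≫ Groth.Agent.Hyper50.yonedaIsoPts.hom.app _ ≫
    Groth.Agent.Hyper50.elemsMap P, (Groth.Agent.Hyper50.isHypercovering_iff J X L).2 hL, ?_⟩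
  rw [← cancel_mono (Groth.Agent.Hyper50.yonedaIsoPts.hom.app (K.obj (op (SimplexCategory.mk n))))]
  simp only [Category.assoc]
  rw [show Groth.Agent.Hyper50.elemsMap P ≫ u ≫ Groth.Agent.Hyper50.yonedaIsoPts.hom.app _ =
      Groth.Agent.Hyper50.Pts.map (Groth.Agent.Hyper50.ofPts v) from
    (Groth.Agent.Hyper50.map_ofPts v).symm, ← NatTrans.naturality,
    ← Category.assoc, ← Functor.map_comp, hg]

end Groth.Agent.S6507
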