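import Groth.Statements.S6513
import Groth.Agent.DCX42.MVTri

set_option autoImplicit false
universe u
open CategoryTheory
attribute [local instance] HasDerivedCategory.standard
open DCoh

namespace Groth.Agent.S6513

open AlgebraicGeometry CategoryTheory.Limits in
/-- If a scheme X is the union of two opens U and V, then for every E ∈ D(O_X) there is a distinguished
triangle j_{U∩V,!}(E|_{U∩V}) → j_{U,!}(E|_U) ⊕ j_{V,!}(E|_V) → E → j_{U∩V,!}(E|_{U∩V})[1] in D(O_X),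
where j_! is extension by zero computed termwise (its exactness is carried as an instance
hypothesis). The objects are the stated ones; the morphisms are only asserted to exist. (The
published statement is for ringed spaces; this row is for schemes.) -/
theorem result {X : Scheme.{u}} (U V : X.Opens) (hUV : U ⊔ V = ⊤)
    [PreservesFiniteLimits (CxOX.extZero U.ι)] [PreservesFiniteLimits (CxOX.extZero V.ι)]
    [PreservesFiniteLimits (CxOX.extZero (U ⊓ V).ι)] (E : DCoh.D X) :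
    ∃ (a : (CxOX.extZeroD (U ⊓ V).ι).obj ((DCoh.restrictD (U ⊓ V).ι).obj E) ⟶ ((CxOX.extZeroD U.ι).obj ((DCoh.restrictD U.ι).obj E) ⊞ (CxOX.extZeroD V.ι).obj ((DCoh.restrictD V.ι).obj E))) (b : ((CxOX.extZeroD U.ι).obj ((DCoh.restrictD U.ι).obj E) ⊞ (CxOX.extZeroD V.ι).obj ((DCoh.restrictD V.ι).obj E)) ⟶ E) (c : E ⟶ ((CxOX.extZeroD (U ⊓ V).ι).obj ((DCoh.restrictD (U ⊓ V).ι).obj E))⟦(1 : ℤ)⟧),
      Pretriangulated.Triangle.mk a b c ∈ Pretriangulated.distinguishedTriangles := by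
  obtain ⟨F, ⟨e⟩⟩ : ∃ F : CochainComplex X.Modules ℤ, Nonempty (DerivedCategory.Q.obj F ≅ E) :=
    ⟨_, ⟨DerivedCategory.Q.objObjPreimageIso E⟩⟩
  obtain ⟨T, hT, ⟨i₁⟩, ⟨i₂⟩, ⟨i₃⟩⟩ := DCX42.exists_triangle_mv_dual (DCX42.openUnit U) (DCX42.openUnit V)
    (DCX42.openRes inf_le_left) (DCX42.openRes inf_le_right) (DCX42.openUnit_openRes_eq U V)
    (DCX42.openAdj U) (DCX42.openAdj V) (DCX42.openAdj (U ⊓ V)) (DCX42.shortExact_mv hUV) F
  obtain ⟨eU⟩ := DCX42.nonempty_extZeroD_restrict_model U F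
  obtain ⟨eV⟩ := DCX42.nonempty_extZeroD_restrict_model V F
  obtain ⟨eW⟩ := DCX42.nonempty_extZeroD_restrict_model (U ⊓ V) F
  exact DCX42.exists_triangle_of_iso hT
    (i₁ ≪≫ eW.symm ≪≫ (DCoh.restrictD (U ⊓ V).ι ⋙ CxOX.extZeroD (U ⊓ V).ι).mapIso e)
    (i₂ ≪≫ biprod.mapIso (eU.symm ≪≫ (DCoh.restrictD U.ι ⋙ CxOX.extZeroD U.ι).mapIso e)
      (eV.symm ≪≫ (DCoh.restrictD V.ι ⋙ CxOX.extZeroD V.ι).mapIso e))
    (i₃ ≪≫ e)

end Groth.Agent.S6513
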