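import Groth.Statements.S6518
import Groth.Agent.DCX42.Single

set_option autoImplicit false
universe u
open CategoryTheory
attribute [local instance] HasDerivedCategory.standard
open DCoh

namespace Groth.Agent.S6518

open AlgebraicGeometry in
/-- Let X be a scheme and F an O_X-module, viewed as an object of D(O_X) placed in degree 0. Then (1)
finite type of the O_X-module F is equivalent to F being 0-pseudo-coherent, and (2) F admits a
finite presentation as an O_X-module exactly when it is (−1)-pseudo-coherent. (The published
statement is for ringed spaces; this row is for schemes.) -/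
theorem result {X : Scheme.{u}} (F : X.Modules) :
    (DCoh.IsPseudoCoherentD 0 (DCoh.inD X F) ↔ CohB1.IsFT F) ∧
    (DCoh.IsPseudoCoherentD (-1) (DCoh.inD X F) ↔ CohB1.IsFP F) := by
  have hz : ∀ i : ℤ, 0 < i → Limits.IsZero (DCoh.HD (DCoh.inD X F) i) := fun i hi =>
    DerivedCategory.isZero_of_isLE ((DerivedCategory.singleFunctor X.Modules 0).obj F) 0 i hi
  let e := (DerivedCategory.singleFunctorCompHomologyFunctorIso X.Modules 0).app F
  refine ⟨⟨fun h => ?_, DCX42.isPC_single_of_isFT F⟩, ⟨fun h => ?_, DCX42.isPC_single_of_isFP F⟩⟩
  · have : CohB1.IsFT ((DerivedCategory.singleFunctor X.Modules 0 ⋙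
        DerivedCategory.homologyFunctor X.Modules 0).obj F) := DCX42.isFT_HD h hz
    exact QC70.isFiniteType_of_iso e
  · exact DCX42.isFP_of_iso e (DCX42.isFP_HD h fun i hi => hz i (by omega))

end Groth.Agent.S6518
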