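import Groth.Statements.S6529
import Groth.Agent.Hyper50.TrivFib

set_option autoImplicit false
universe u
open CategoryTheory
open Hyper

namespace Groth.Agent.S6529

open Opposite CategoryTheory.Limits in
/-- Let (C, J) be a small site, f : L → K a morphism of simplicial presheaves of sets on C and n ≥ 0.
Assume that L_i → K_i is an isomorphism for i < n, that L_n → K_n is locally surjective, and that
the canonical maps L → cosk_n sk_n L and K → cosk_n sk_n K are isomorphisms. Then for every i the
induced map H_i(L) → H_i(K) on homology sheaves of the chain complexes of free abelian sheaves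
Z[L]^#, Z[K]^# (alternating sums of faces) is an isomorphism. -/
theorem result {C : Type u} [SmallCategory C] (J : GrothendieckTopology C)
    {L K : SimplicialObject (Cᵒᵖ ⥤ Type u)} (f : L ⟶ K) (n : ℕ)
    [∀ (F : (SimplexCategory.Truncated n)ᵒᵖ ⥤ (Cᵒᵖ ⥤ Type u)),
      (SimplexCategory.Truncated.inclusion n).op.HasRightKanExtension F]
    (h1 : ∀ i : ℕ, i < n → IsIso (f.app (op (SimplexCategory.mk i))))
    (h2 : Presheaf.IsLocallySurjective J (f.app (op (SimplexCategory.mk n))))
    (h3 : IsIso ((SimplicialObject.coskAdj n).unit.app L))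
    (h4 : IsIso ((SimplicialObject.coskAdj n).unit.app K)) (i : ℕ) :
    IsIso (HomologicalComplex.homologyMap
      ((AlgebraicTopology.alternatingFaceMapComplex (Sheaf J AddCommGrpCat.{u})).map
        (Functor.whiskerRight f ((Functor.whiskeringRight Cᵒᵖ (Type u) AddCommGrpCat.{u}).obj AddCommGrpCat.free.{u} ⋙ presheafToSheaf J AddCommGrpCat.{u}))) i) := by
  have := (SimplicialObject.isCoskeletal_iff_isIso L n).2 h3
  have := (SimplicialObject.isCoskeletal_iff_isIso K n).2 h4
  have hq := Groth.Agent.Hyper50.TrivFib.quasiIso_free (f := f) (n := n) (fun p hp U => by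
    have := h1 p hp
    exact ConcreteCategory.bijective_of_isIso ((f.app (op (SimplexCategory.mk p))).app U)) J h2
  exact (quasiIsoAt_iff_isIso_homologyMap _ _).1 ((quasiIso_iff _).1 hq i)

end Groth.Agent.S6529
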