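import Groth.Statements.S6532
import Groth.Agent.LCI43.Lift
import Groth.Agent.LCI43.TorRes

set_option autoImplicit false
universe u
open LCI

namespace Groth.Agent.S6532

/-- Let R' → R be a surjection of Noetherian rings whose kernel is generated by a single element f and
has square zero; let I ⊆ R be the image of the annihilator of f. Let S = R[x_1, …, x_n]/(f_1, …,
f_m) and let ∑ r_j f_j = 0 be a relation in R[x_1, …, x_n] such that (1) every coefficient of every
r_j lies in I, and (2) there are lifts r'_j, f'_j in R'[x_1, …, x_n] and an element g with ∑ r'_j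
f'_j = f g, where g maps to a non-nilpotent element of S/IS. Under these hypotheses, the
Tor-dimension of S over R is infinite (so S fails to be a perfect R-algebra). -/
theorem result {R' R : Type u} [CommRing R'] [CommRing R]
    [IsNoetherianRing R'] [IsNoetherianRing R] (π : R' →+* R) (hπ : Function.Surjective π)
    (f : R') (hker : RingHom.ker π = Ideal.span {f}) (hf : f * f = 0)
    {n m : ℕ} (fs r : Fin m → MvPolynomial (Fin n) R) (hrel : ∑ j, r j * fs j = 0)
    (h1 : ∀ (j : Fin m) (d : Fin n →₀ ℕ),
      MvPolynomial.coeff d (r j) ∈ ((Ideal.span {f}).annihilator).map π)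
    (r' f' : Fin m → MvPolynomial (Fin n) R') (g : MvPolynomial (Fin n) R')
    (hr' : ∀ j, MvPolynomial.map π (r' j) = r j) (hf' : ∀ j, MvPolynomial.map π (f' j) = fs j)
    (hsum : ∑ j, r' j * f' j = MvPolynomial.C f * g)
    (hg : ¬ IsNilpotent (Ideal.Quotient.mk
      (Ideal.span (Set.range fs) ⊔ (((Ideal.span {f}).annihilator).map π).map MvPolynomial.C)
      (MvPolynomial.map π g))) :
    ¬ DRing.HasFiniteTorDim R (MvPolynomial (Fin n) R ⧸ Ideal.span (Set.range fs)) := by
  intro hS
  let P := MvPolynomial (Fin n) R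
  let Pm := MvPolynomial.map (σ := Fin n) π
  have hsurj : Function.Surjective Pm := MvPolynomial.map_surjective π hπ
  have hkerm : RingHom.ker Pm = Ideal.span {MvPolynomial.C f} := by
    rw [MvPolynomial.ker_map, hker, Ideal.map_span, Set.image_singleton]
  let A := (Ideal.span {f}).annihilator
  have hann : (Ideal.span {(MvPolynomial.C f : MvPolynomial (Fin n) R')}).annihilator.map Pm =
      (A.map π).map (algebraMap R P) := by
    have e : (Ideal.span {(MvPolynomial.C f : MvPolynomial (Fin n) R')}).annihilator = A.map MvPolynomial.C := by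
      ext t
      rw [MvPolynomial.mem_map_C_iff, Ideal.span, Submodule.mem_annihilator_span_singleton, smul_eq_mul,
        mul_comm, MvPolynomial.ext_iff]
      refine forall_congr' fun d => ?_
      rw [MvPolynomial.coeff_C_mul, MvPolynomial.coeff_zero]
      show _ ↔ _ ∈ (Submodule.span R' {f}).annihilator
      rw [Submodule.mem_annihilator_span_singleton, smul_eq_mul, mul_comm]
    rw [e, Ideal.map_map, Ideal.map_map]
    congr 1
    exact RingHom.ext fun a => MvPolynomial.map_C π a
  obtain ⟨M, hfree, d, ε, N₀, hdd, hex, hεs, hεd, hhigh⟩ :=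
    LCI43.exists_resolution (P := P) (P ⧸ Ideal.span (Set.range fs)) hS
  obtain ⟨e₀, he₀⟩ := hεs 1
  obtain ⟨k, hk⟩ := LCI43.exists_pow_mem Pm hsurj fs r
    (fun i => @Module.Free.chooseBasis P (M i) _ _ _ (hfree i)) hkerm
    (by rw [← map_mul, hf, map_zero]) hrel
    (fun j => by
      rw [hann]
      exact MvPolynomial.mem_map_C_iff.2 (h1 j))
    f' r' g hf' hr' hsum d hdd hex ε e₀ he₀ hεd N₀ (fun i hi x hx => by
      rw [hann] at hx ⊢
      exact hhigh (A.map π) i hi x hx)
  apply hg
  refine ⟨k, ?_⟩
  rw [← map_pow, Ideal.Quotient.eq_zero_iff_mem]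
  rw [hann] at hk
  exact hk

end Groth.Agent.S6532
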