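import Groth.Statements.S6533
import Groth.Agent.CohDer42.FilKInj

set_option autoImplicit false
universe v u
open CategoryTheory
open CohDer

namespace Groth.Agent.S6533
open CategoryTheory.Limits
set_option backward.isDefEq.respectTransparency false
open CategoryTheory.Limits in
/-- Let A be a Grothendieck abelian category and K a filtered complex of A. There exist a filtered
complex J and a morphism of filtered complexes j : K → J such that (1) the objects J^n, F^pJ^n,
J^n/F^pJ^n and F^pJ^n/F^{p'}J^n (p ≤ p') are injective, (2) the complexes J, F^pJ, J/F^pJ and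
F^pJ/F^{p'}J are K-injective, and (3) j is a quasi-isomorphism and so are the maps it induces on
F^p, on the quotients by F^p and on F^p/F^{p'} (each induced map is characterised by its
compatibility with the inclusion, respectively the projection). -/
theorem result {A : Type u} [Category.{v} A] [Abelian A]
    [IsGrothendieckAbelian.{v} A] (K : SpSeq.FilCx A) :
    ∃ (J : SpSeq.FilCx A) (j : K ⟶ J),
      (∀ n p : ℤ, Injective (J.obj.X n) ∧ Injective ((J.XFil n).step p) ∧ Injective ((J.XFil n).quot p) ∧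
        ∀ (p' : ℤ) (h : p ≤ p'), Injective (cokernel ((J.XFil n).stepLE h))) ∧
      (CochainComplex.IsKInjective J.obj ∧ ∀ p : ℤ, CochainComplex.IsKInjective (J.step p) ∧
        CochainComplex.IsKInjective (J.quot p) ∧
        ∀ (p' : ℤ) (h : p ≤ p'), CochainComplex.IsKInjective (cokernel (J.stepLE h))) ∧
      QuasiIso j.hom ∧
      (∀ p : ℤ, ∃ jp : K.step p ⟶ J.step p, jp ≫ (J.fil p).arrow = (K.fil p).arrow ≫ j.hom ∧ QuasiIso jp ∧
        (∀ (p' : ℤ) (h : p ≤ p'), ∃ (jp' : K.step p' ⟶ J.step p') (jg : cokernel (K.stepLE h) ⟶ cokernel (J.stepLE h)),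
          jp' ≫ (J.fil p').arrow = (K.fil p').arrow ≫ j.hom ∧ jp' ≫ J.stepLE h = K.stepLE h ≫ jp ∧
          cokernel.π (K.stepLE h) ≫ jg = jp ≫ cokernel.π (J.stepLE h) ∧ QuasiIso jg)) ∧
      (∀ p : ℤ, ∃ jq : K.quot p ⟶ J.quot p,
        cokernel.π (K.fil p).arrow ≫ jq = j.hom ≫ cokernel.π (J.fil p).arrow ∧ QuasiIso jq) := by
  obtain ⟨J, j, hI, hK, hIs, hKs, hj, hjp⟩ := Groth.Agent.CohDer42.FilKInj.exists_resolution K
  have := hK
  have hX : ∀ n, Injective (J.obj.X n) := hI
  have hsX : ∀ n p : ℤ, Injective ((J.XFil n).step p) := fun n p => by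
    have := hIs p n
    exact Injective.of_iso (Subobject.underlyingIso ((J.fil p).arrow.f n)).symm inferInstance
  refine ⟨J, j, fun n p => ⟨hX n, hsX n p, ?_, fun p' h => ?_⟩, ⟨hK, fun p => ⟨hKs p, ?_, fun p' h => ?_⟩⟩, hj, ?_, ?_⟩
  · have := hsX n p
    have : Injective (J.XFil n).obj := hX n
    exact Groth.Agent.CohDer42.FilKInj.injective_cokernel _
  · have := hsX n p
    have := hsX n p'
    exact Groth.Agent.CohDer42.FilKInj.injective_cokernel _
  · have := hKs p
    exact Groth.Agent.CohDer42.FilKInj.isKInjective_cokernel _ (hIs p)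
  · have := hKs p
    have := hKs p'
    exact Groth.Agent.CohDer42.FilKInj.isKInjective_cokernel _ (hIs p')
  · intro p
    obtain ⟨jp, hjp₁, hq⟩ := hjp p
    refine ⟨jp, hjp₁, hq, fun p' h => ?_⟩
    obtain ⟨jp', hjp₂, hq'⟩ := hjp p'
    have w : K.stepLE h ≫ jp = jp' ≫ J.stepLE h := by
      rw [← cancel_mono (J.fil p).arrow, Category.assoc, hjp₁, Category.assoc, Subobject.ofLE_arrow,
        hjp₂, ← Category.assoc, Subobject.ofLE_arrow]
    refine ⟨jp', cokernel.map _ _ jp' jp w, hjp₂, w.symm, cokernel.π_desc _ _ _, ?_⟩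
    exact HomologicalComplex.HomologySequence.quasiIso_τ₃
      (S₁ := Groth.Agent.CohDer42.FilKInj.cokSC (K.stepLE h))
      (S₂ := Groth.Agent.CohDer42.FilKInj.cokSC (J.stepLE h))
      { τ₁ := jp', τ₂ := jp, τ₃ := cokernel.map _ _ jp' jp w, comm₁₂ := w.symm,
        comm₂₃ := (cokernel.π_desc _ _ _).symm }
      (Groth.Agent.CohDer42.FilKInj.cokSC_shortExact _)
      (Groth.Agent.CohDer42.FilKInj.cokSC_shortExact _) hq' hq
  · intro p
    obtain ⟨jp, hjp₁, hq⟩ := hjp p
    refine ⟨cokernel.map _ _ jp j.hom hjp₁.symm, cokernel.π_desc _ _ _, ?_⟩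
    exact HomologicalComplex.HomologySequence.quasiIso_τ₃
      (S₁ := Groth.Agent.CohDer42.FilKInj.cokSC (K.fil p).arrow)
      (S₂ := Groth.Agent.CohDer42.FilKInj.cokSC (J.fil p).arrow)
      { τ₁ := jp, τ₂ := j.hom, τ₃ := cokernel.map _ _ jp j.hom hjp₁.symm, comm₁₂ := hjp₁,
        comm₂₃ := (cokernel.π_desc _ _ _).symm }
      (Groth.Agent.CohDer42.FilKInj.cokSC_shortExact _)
      (Groth.Agent.CohDer42.FilKInj.cokSC_shortExact _) hq hj

end Groth.Agent.S6533
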