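import Groth.Statements.S6536
import Groth.Agent.Crv77.RegularSecVA
import Groth.Agent.Curves2.VeryAmple.Embed

set_option backward.isDefEq.respectTransparency false

set_option autoImplicit false
universe u
open CategoryTheory CategoryTheory.Limits AlgebraicGeometry
open Curves

namespace Groth.Agent.S6536

/-- Let X be proper over the field k, of dimension one, with H^0(X, O_X) = k, and let L be an invertible
O_X-module which has a regular global section (a monomorphism O_X → L), satisfies H^1(X, L) = 0 and
is ample. Then L^{⊗6} is very ample on X over k: there is a closed immersion i : X → P^n_k over k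
with i^* O(1) ≅ L^{⊗6}. -/
theorem result (k : Type u) [Field k] (X : Scheme.{u}) [X.Over (Spec (CommRingCat.of k))]
    [IsProper (X ↘ (Spec (CommRingCat.of k)))] (hdim : topologicalKrullDim X = 1)
    (h0 : Module.finrank k (Coh.HH X (Coh.structureModule X) 0) = 1) (L : X.Modules) (hL : PicF.IsInvertible L)
    (hs : ∃ s : Coh.structureModule X ⟶ L, Mono s) (h1 : Subsingleton (Coh.HH X L 1)) (hample : CohB1.IsAmple L) :
    ∃ (n : ℕ) (i : X ⟶ CohB1.ProjSpace n k), IsClosedImmersion i ∧ i ≫ CohB1.ProjSpace.toSpec n k = X ↘ (Spec (CommRingCat.of k)) ∧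
      Nonempty ((Scheme.Modules.pullback i).obj (Twist.twistProjSpace n k 1) ≅ CohB1.tensorPow L 6) := by
  haveI := Crv77.isNoetherian_of_proper k X
  obtain ⟨s, hs⟩ := hs
  have hL3 := EGA73.isInvertible_tensorPow hL 3
  obtain ⟨n, i, hi, hip, ⟨φ⟩⟩ := Curves2.VeryAmple.exists_closedImmersion_projSpace k _ _
    (Curves2.H1Zero.isRelVeryAmplePn_of_degOne k (X ↘ Spec (CommRingCat.of k))
      ((Amp73.isAmple_tensorPow_iff hL3 two_pos).1 ((Amp73.isAmple_tensorPow_iff hL (by norm_num)).1 hample))
      (Crv77.degOneGen_square k (Curves2.H1Zero.h2Zero_of_proper k hdim.le) hL3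
        (Crv77.isGloballyGenerated_cube k hdim.le hL s h1)
        (Crv77.subsingleton_h1_pow_of_regular k hdim.le hL s h1 2)))
  exact ⟨n, i, hi, hip, ⟨φ ≪≫ Amp73.powMul L 3 2⟩⟩

end Groth.Agent.S6536
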