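import Groth.Statements.S6542
import Groth.Agent.Crv77.FFBridge


set_option autoImplicit false
universe u
open CategoryTheory CategoryTheory.Limits AlgebraicGeometry
attribute [local instance] Curv2.resAlgebra
open Curves

namespace Groth.Agent.S6542

/-- Let X be a proper curve over the field k (proper, integral, of dimension one). If H^1(X, O_X) = 0
and there are closed points x_1, ..., x_n of X whose local rings are normal and whose residue-field
degrees over k have greatest common divisor 1, then X is isomorphic to P^1_k over k. -/
theorem result (k : Type u) [Field k] (X : Scheme.{u}) [X.Over (Spec (CommRingCat.of k))]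
    [IsIntegral X] [IsProper (X ↘ (Spec (CommRingCat.of k)))] (hdim : topologicalKrullDim X = 1)
    (h1 : Subsingleton (Coh.HH X (Coh.structureModule X) 1))
    (s : Finset X) (hcl : ∀ x ∈ s, IsClosed ({x} : Set X)) (hn : ∀ x ∈ s, IsIntegrallyClosed (X.presheaf.stalk x))
    (hgcd : s.gcd (fun x => Module.finrank k (X.residueField x)) = 1) :
    ∃ e : X ≅ CohB1.ProjSpace 1 k, e.hom ≫ CohB1.ProjSpace.toSpec 1 k = X ↘ (Spec (CommRingCat.of k)) := by
  refine Crv77.exists_iso_projLine_of_one_mem hdim h1 ?_
  classical
  obtain ⟨a, ha⟩ := Crv77.exists_gcd_comb s fun x => Module.finrank k (X.residueField x)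
  rw [hgcd] at ha
  rw [← Nat.cast_one, ha]
  refine AddSubgroup.sum_mem _ fun x hx => ?_
  rw [← smul_eq_mul]
  refine AddSubgroup.zsmul_mem _ ?_ _
  have := hn x hx
  exact Crv77.finrank_mem_degGroup hdim (hcl x hx)

end Groth.Agent.S6542
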