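import Groth.Statements.S6552
import Groth.Agent.Node12.Point
import Groth.Agent.Curves2.NodeReduced
import Groth.Agent.Unr55.EtStalk

set_option autoImplicit false
set_option backward.isDefEq.respectTransparency.types false
universe u
open CategoryTheory CategoryTheory.Limits AlgebraicGeometry
open Curves

namespace Groth.Agent.S6552

/-- Let k be a field, X a scheme locally of finite type over k of dimension 1, π : Y → X an étale
morphism, and y ∈ Y a point with image x. Then x is a closed point of X which is a node if and only
if y is a closed point of Y which is a node (Y being a k-scheme through π). -/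
theorem result (k : Type u) [Field k] (X : Scheme.{u}) [X.Over (Spec (CommRingCat.of k))] [LocallyOfFiniteType (X ↘ (Spec (CommRingCat.of k)))] (hdim : topologicalKrullDim X = 1)
    {Y : Scheme.{u}} (π : Y ⟶ X) [Etale π] (y : Y) :
    Curv2.IsNode k X (π y) ↔ @Curv2.IsNode k _ Y ⟨π ≫ (X ↘ (Spec (CommRingCat.of k)))⟩ y := by
  let iY : Y.Over (Spec (CommRingCat.of k)) := ⟨π ≫ (X ↘ Spec (CommRingCat.of k))⟩
  have : LocallyOfFiniteType (Y ↘ Spec (CommRingCat.of k)) :=
    (inferInstance : LocallyOfFiniteType (π ≫ (X ↘ Spec (CommRingCat.of k))))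
  have : IsLocallyNoetherian X := LocallyOfFiniteType.isLocallyNoetherian (X ↘ Spec (CommRingCat.of k))
  have : IsLocallyNoetherian Y := LocallyOfFiniteType.isLocallyNoetherian (Y ↘ Spec (CommRingCat.of k))
  letI : Algebra k (X.presheaf.stalk (π y)) := Curv2.stalkAlgebra k X (π y)
  letI : Algebra k (Y.presheaf.stalk y) := Curv2.stalkAlgebra k Y y
  letI : Algebra (X.presheaf.stalk (π y)) (Y.presheaf.stalk y) := (π.stalkMap y).hom.toAlgebra
  obtain ⟨_, _, hm⟩ := Unr55.stalkMap_facts π y
  have : IsScalarTower k (X.presheaf.stalk (π y)) (Y.presheaf.stalk y) := IsScalarTower.of_algebraMap_eq' (by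
    have h : Spec.map (CommRingCat.ofHom (Curv2.stalkMap k Y y)) =
        Spec.map (CommRingCat.ofHom (Curv2.stalkMap k X (π y)) ≫ π.stalkMap y) := by
      rw [Spec.map_comp]
      refine Eq.trans ?_ (congrArg (fun m => Spec.map (π.stalkMap y) ≫ m)
        (Curves2.fromSpecStalk_struct (X ↘ Spec (CommRingCat.of k)) (π y)))
      rw [Scheme.SpecMap_stalkMap_fromSpecStalk_assoc]
      exact (Curves2.fromSpecStalk_struct (Y ↘ Spec (CommRingCat.of k)) y).symm
    exact congrArg CommRingCat.Hom.hom (Spec.map_injective h))
  have : Algebra.EssFiniteType (X.presheaf.stalk (π y)) (Y.presheaf.stalk y) := LocallyOfFiniteType.stalkMap π y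
  have : Algebra.FormallyUnramified (X.presheaf.stalk (π y)) (Y.presheaf.stalk y) := FormallyUnramified.stalkMap π y
  constructor
  · intro h
    obtain ⟨-, hsep, hQ⟩ := (Node12.isNode_iff _).1 h
    have hsepY := Algebra.IsSeparable.trans k (IsLocalRing.ResidueField (X.presheaf.stalk (π y)))
      (IsLocalRing.ResidueField (Y.presheaf.stalk y))
    have := Node12.essFiniteType_residueField (k := k) y
    have : Algebra.FormallyUnramified k (IsLocalRing.ResidueField (Y.presheaf.stalk y)) :=
      Algebra.FormallyUnramified.of_isSeparable k _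
    have : Module.Finite k (IsLocalRing.ResidueField (Y.presheaf.stalk y)) :=
      Algebra.FormallyUnramified.finite_of_free k _
    exact (Node12.isNode_iff _).2 ⟨Node12.isClosed_of_finite (k := k) y, hsepY, hQ.map hm⟩
  · intro h
    have := Curves2.isReduced_stalk_of_isNode k Y y h
    have : Module.FaithfullyFlat (X.presheaf.stalk (π y)) (Y.presheaf.stalk y) :=
      Module.FaithfullyFlat.of_flat_of_isLocalHom
    have : _root_.IsReduced (X.presheaf.stalk (π y)) :=
      isReduced_of_injective _ (FaithfulSMul.algebraMap_injective (X.presheaf.stalk (π y)) (Y.presheaf.stalk y))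
    obtain ⟨-, hsep, hQ⟩ := (Node12.isNode_iff _).1 h
    have hsep' : Algebra.IsSeparable k (IsLocalRing.ResidueField (X.presheaf.stalk (π y))) :=
      Algebra.isSeparable_tower_bot_of_isSeparable k _ (IsLocalRing.ResidueField (Y.presheaf.stalk y))
    have := Node12.essFiniteType_residueField (k := k) (π y)
    have : Algebra.FormallyUnramified k (IsLocalRing.ResidueField (X.presheaf.stalk (π y))) :=
      Algebra.FormallyUnramified.of_isSeparable k _
    have : Module.Finite k (IsLocalRing.ResidueField (X.presheaf.stalk (π y))) :=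
      Algebra.FormallyUnramified.finite_of_free k _
    exact (Node12.isNode_iff _).2 ⟨Node12.isClosed_of_finite (k := k) (π y), hsep', hQ.of_map hm⟩

end Groth.Agent.S6552
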