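import Groth.Statements.S6553
import Groth.Agent.Node12.Point

set_option autoImplicit false
set_option backward.isDefEq.respectTransparency.types false
universe u
open CategoryTheory CategoryTheory.Limits AlgebraicGeometry
open Curves

namespace Groth.Agent.S6553

/-- Let k'/k be a finite separable extension of fields, X a scheme locally of finite type over k' of
dimension 1, and x ∈ X a closed point. Then x is a node of the k'-scheme X if and only if x is a
node of X viewed as a k-scheme via Spec k' → Spec k. -/
theorem result (k : Type u) [Field k] (k' : Type u) [Field k'] [Algebra k k']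
    [FiniteDimensional k k'] [Algebra.IsSeparable k k']
    (X : Scheme.{u}) [X.Over (Spec (CommRingCat.of k'))] [LocallyOfFiniteType (X ↘ (Spec (CommRingCat.of k')))] (hdim : topologicalKrullDim X = 1)
    (x : X) (hx : IsClosed ({x} : Set X)) :
    Curv2.IsNode k' X x ↔
      @Curv2.IsNode k _ X ⟨(X ↘ (Spec (CommRingCat.of k'))) ≫ Spec.map (CommRingCat.ofHom (algebraMap k k'))⟩ x := by
  let iX : X.Over (Spec (CommRingCat.of k)) :=
    ⟨(X ↘ (Spec (CommRingCat.of k'))) ≫ Spec.map (CommRingCat.ofHom (algebraMap k k'))⟩
  have : IsFinite (Spec.map (CommRingCat.ofHom (algebraMap k k'))) := by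
    rw [IsFinite.SpecMap_iff]
    exact RingHom.finite_algebraMap.2 inferInstance
  have : LocallyOfFiniteType (X ↘ Spec (CommRingCat.of k)) :=
    (inferInstance : LocallyOfFiniteType ((X ↘ (Spec (CommRingCat.of k'))) ≫ Spec.map (CommRingCat.ofHom (algebraMap k k'))))
  letI : Algebra k' (X.presheaf.stalk x) := Curv2.stalkAlgebra k' X x
  letI : Algebra k (X.presheaf.stalk x) := Curv2.stalkAlgebra k X x
  have : IsScalarTower k k' (X.presheaf.stalk x) := IsScalarTower.of_algebraMap_eq' (by
    have h : Spec.map (CommRingCat.ofHom (Curv2.stalkMap k X x)) =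
        Spec.map (CommRingCat.ofHom ((Curv2.stalkMap k' X x).comp (algebraMap k k'))) := by
      rw [CommRingCat.ofHom_comp, Spec.map_comp]
      refine (Curves2.fromSpecStalk_struct (X ↘ Spec (CommRingCat.of k)) x).symm.trans ?_
      exact (Category.assoc _ _ _).symm.trans (congrArg (fun m => m ≫ _)
        (Curves2.fromSpecStalk_struct (X ↘ Spec (CommRingCat.of k')) x))
    exact congrArg CommRingCat.Hom.hom (Spec.map_injective h))
  rw [Node12.isNode_iff, Node12.isNode_iff]
  refine and_congr_right fun _ => and_congr_left fun _ => ⟨fun h => ?_, fun h => ?_⟩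
  · exact Algebra.IsSeparable.trans k k' _
  · exact Algebra.isSeparable_tower_top_of_isSeparable k k' _

end Groth.Agent.S6553
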