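import Groth.Statements.S6554
import Mathlib.AlgebraicGeometry.Morphisms.Etale
import Mathlib.RingTheory.Etale.Locus
import Mathlib.RingTheory.Etale.Field
import Mathlib.RingTheory.Unramified.Field

set_option autoImplicit false
set_option linter.style.haveILetI false
universe u
open CategoryTheory CategoryTheory.Limits AlgebraicGeometry
open Curves

namespace Groth.Agent.S6554

lemma formallyEtale_respectsIso : RingHom.RespectsIso @RingHom.FormallyEtale := by
  refine RingHom.StableUnderComposition.respectsIso
    (fun R S T _ _ _ f g hf hg => RingHom.FormallyEtale.comp hf hg) fun {R S} _ _ e => ?_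
  algebraize [e.toRingHom]
  exact Algebra.FormallyEtale.of_equiv (A := R) { e with commutes' := fun _ => rfl }

lemma exists_etale_of_formallyEtale_stalk {X Y : Scheme.{u}} (f : X ⟶ Y)
    [LocallyOfFinitePresentation f] (x : X) (H : (f.stalkMap x).hom.FormallyEtale) :
    ∃ V : X.Opens, x ∈ V ∧ Etale (V.ι ≫ f) := by
  obtain ⟨_, ⟨U, hU, rfl⟩, hxU, -⟩ :=
    Y.isBasis_affineOpens.exists_subset_of_mem_open (Set.mem_univ (f x)) isOpen_univ
  obtain ⟨_, ⟨V, hV, rfl⟩, hxV, hVU⟩ :=
    X.isBasis_affineOpens.exists_subset_of_mem_open hxU (U.2.preimage f.continuous)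
  have := f.finitePresentation_appLE hU hV hVU
  algebraize [(f.appLE U V hVU).hom]
  let p := (hU.primeIdealOf ⟨f x, hVU hxV⟩).asIdeal
  let q := (hV.primeIdealOf ⟨x, hxV⟩).asIdeal
  have : q.LiesOver p :=
    ⟨congr($(IsAffineOpen.comap_primeIdealOf_appLE U hU V hV hVU hxV).1).symm⟩
  let := Localization.AtPrime.algebraOfLiesOver p q
  have h1 : Algebra.FormallyEtale (Localization.AtPrime p) (Localization.AtPrime q) := by
    rw [← RingHom.formallyEtale_algebraMap]
    exact (formallyEtale_respectsIso.arrow_mk_iso_iff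
      (IsAffineOpen.arrowStalkMapIso f U hU V hV hVU hxV)).1 H
  have : Algebra.FormallyEtale Γ(Y, U) (Localization.AtPrime p) :=
    Algebra.FormallyEtale.of_isLocalization p.primeCompl
  have : Algebra.IsEtaleAt Γ(Y, U) q :=
    Algebra.FormallyEtale.comp Γ(Y, U) (Localization.AtPrime p) (Localization.AtPrime q)
  obtain ⟨r, hrx, hr⟩ := Algebra.exists_etale_of_isEtaleAt (R := Γ(Y, U)) q
  have hle : X.basicOpen r ≤ f ⁻¹ᵁ U := (X.basicOpen_le r).trans hVU
  have hr' : (f.appLE U (X.basicOpen r) hle).hom.Etale := by
    have := hV.isLocalization_basicOpen r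
    rw [← RingHom.etale_algebraMap] at hr
    convert!
      RingHom.Etale.propertyIsLocal.respectsIso.1 _
        (IsLocalization.algEquiv (.powers r) _ Γ(X, X.basicOpen r)).toRingEquiv hr
    ext
    dsimp
    simp only [IsScalarTower.algebraMap_apply Γ(Y, U) Γ(X, V) (Localization _)]
    symm
    refine (AlgEquiv.commutes _ _).trans ?_
    simp only [RingHom.algebraMap_toAlgebra, ← ConcreteCategory.comp_apply]
    exact congrArg (fun m => (CommRingCat.Hom.hom m) _) (Scheme.Hom.appLE_map f hVU _)
  refine ⟨X.basicOpen r, ?_, ?_⟩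
  · have h2 : hV.primeIdealOf ⟨x, hxV⟩ ∈ hV.fromSpec ⁻¹ᵁ X.basicOpen r := by
      rw [hV.fromSpec_preimage_basicOpen]
      exact hrx
    exact Eq.mp (congrArg (· ∈ X.basicOpen r) (hV.fromSpec_primeIdealOf ⟨x, hxV⟩)) h2
  · have : IsAffine U := hU
    have : IsAffine (X.basicOpen r) := hV.basicOpen r
    have : Etale (f.resLE U (X.basicOpen r) hle) := by
      rw [HasRingHomProperty.iff_of_isAffine (P := @Etale)]
      exact (RingHom.Etale.propertyIsLocal.respectsIso.arrow_mk_iso_iff
        (arrowResLEAppIso f U (X.basicOpen r) hle)).mpr hr'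
    rw [← Scheme.Hom.resLE_comp_ι f hle]
    infer_instance

/-- (3) ⇔ (4) ⇔ (5): let k be a field and f : X → Y a morphism over k of smooth curves over k (integral,
separated, of finite type and smooth over k, of dimension one) which is nonconstant: f(ξ_X) = ξ_Y
for the generic points ξ_X of X and ξ_Y of Y (hypothesis e), so that the function field k(Y) maps
into k(X). Then: some nonempty open U ⊆ X has f|_U unramified if and only if some nonempty open U ⊆
X has f|_U étale; and the latter holds if and only if k(X)/k(Y) is a finite separable extension.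
(The published statement also lists two further equivalent conditions, that df : f^*Ω_{Y/k} →
Ω_{X/k} is nonzero and that Ω_{X/Y} is supported on a proper closed subset; this row omits them. For
a constant f every condition stated here fails, so assuming f nonconstant loses nothing.) -/
theorem result (k : Type u) [Field k]
    (X Y : Scheme.{u}) [X.Over (Spec (CommRingCat.of k))] [Y.Over (Spec (CommRingCat.of k))]
    [IsIntegral X] [IsSeparated (X ↘ (Spec (CommRingCat.of k)))] [LocallyOfFiniteType (X ↘ (Spec (CommRingCat.of k)))] [QuasiCompact (X ↘ (Spec (CommRingCat.of k)))] (hdX : topologicalKrullDim X = 1) [Smooth (X ↘ (Spec (CommRingCat.of k)))]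
    [IsIntegral Y] [IsSeparated (Y ↘ (Spec (CommRingCat.of k)))] [LocallyOfFiniteType (Y ↘ (Spec (CommRingCat.of k)))] [QuasiCompact (Y ↘ (Spec (CommRingCat.of k)))] (hdY : topologicalKrullDim Y = 1) [Smooth (Y ↘ (Spec (CommRingCat.of k)))]
    (f : X ⟶ Y) (hf : f ≫ (Y ↘ (Spec (CommRingCat.of k))) = X ↘ (Spec (CommRingCat.of k))) (e : f (genericPoint X) = genericPoint Y) :
    letI := ((Y.presheaf.stalkSpecializes (specializes_of_eq e) ≫ f.stalkMap (genericPoint X)).hom).toAlgebra
    ((∃ U : X.Opens, (U : Set X).Nonempty ∧ FormallyUnramified (U.ι ≫ f)) ↔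
      (∃ U : X.Opens, (U : Set X).Nonempty ∧ Etale (U.ι ≫ f))) ∧
    ((∃ U : X.Opens, (U : Set X).Nonempty ∧ Etale (U.ι ≫ f)) ↔
      (FiniteDimensional Y.functionField X.functionField ∧ Algebra.IsSeparable Y.functionField X.functionField)) := by
  letI := ((Y.presheaf.stalkSpecializes (specializes_of_eq e) ≫ f.stalkMap (genericPoint X)).hom).toAlgebra
  have : IsLocallyNoetherian Y :=
    LocallyOfFiniteType.isLocallyNoetherian (Y ↘ (Spec (CommRingCat.of k)))
  have : LocallyOfFiniteType (f ≫ (Y ↘ (Spec (CommRingCat.of k)))) := by rw [hf]; infer_instance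
  have : LocallyOfFiniteType f := locallyOfFiniteType_of_comp f (Y ↘ (Spec (CommRingCat.of k)))
  have : IsIso (Y.presheaf.stalkSpecializes (specializes_of_eq e)) :=
    ⟨Y.presheaf.stalkSpecializes (specializes_of_eq e.symm), by simp, by simp⟩
  have hess : Algebra.EssFiniteType Y.functionField X.functionField := by
    rw [← RingHom.essFiniteType_algebraMap]
    exact (RingHom.EssFiniteType.respectsIso.cancel_left_isIso _ _).2
      (LocallyOfFiniteType.stalkMap f (genericPoint X))
  have hB : (∃ U : X.Opens, (U : Set X).Nonempty ∧ FormallyUnramified (U.ι ≫ f)) →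
      FiniteDimensional Y.functionField X.functionField ∧
        Algebra.IsSeparable Y.functionField X.functionField := by
    rintro ⟨U, ⟨x, hx⟩, hU⟩
    have hη : genericPoint X ∈ U := (genericPoint_specializes x).mem_open U.2 hx
    let z : (U : Scheme.{u}) := ⟨genericPoint X, hη⟩
    have h1 := FormallyUnramified.stalkMap (U.ι ≫ f) z
    rw [Scheme.Hom.stalkMap_comp U.ι f z] at h1
    have h2 := (RingHom.FormallyUnramified.respectsIso.cancel_right_isIso _ _).1 h1
    have : Algebra.FormallyUnramified Y.functionField X.functionField := by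
      rw [← RingHom.formallyUnramified_algebraMap]
      exact (RingHom.FormallyUnramified.respectsIso.cancel_left_isIso _ _).2 h2
    exact ⟨Algebra.FormallyUnramified.finite_of_free Y.functionField X.functionField,
      Algebra.FormallyUnramified.isSeparable Y.functionField X.functionField⟩
  have hC : FiniteDimensional Y.functionField X.functionField ∧
        Algebra.IsSeparable Y.functionField X.functionField →
      ∃ U : X.Opens, (U : Set X).Nonempty ∧ Etale (U.ι ≫ f) := by
    rintro ⟨hfd, hsep⟩
    have h1 : (algebraMap Y.functionField X.functionField).FormallyEtale := by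
      rw [RingHom.formallyEtale_algebraMap]
      exact Algebra.FormallyEtale.of_isSeparable _ _
    have h2 : (f.stalkMap (genericPoint X)).hom.FormallyEtale :=
      (formallyEtale_respectsIso.cancel_left_isIso
        (Y.presheaf.stalkSpecializes (specializes_of_eq e)) _).1 h1
    obtain ⟨V, hV, hVe⟩ := exists_etale_of_formallyEtale_stalk f _ h2
    exact ⟨V, ⟨_, hV⟩, hVe⟩
  have hA : (∃ U : X.Opens, (U : Set X).Nonempty ∧ Etale (U.ι ≫ f)) →
      ∃ U : X.Opens, (U : Set X).Nonempty ∧ FormallyUnramified (U.ι ≫ f) := by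
    rintro ⟨U, hU, hUe⟩
    exact ⟨U, hU, inferInstance⟩
  exact ⟨⟨fun h => hC (hB h), hA⟩, ⟨fun h => hB (hA h), hC⟩⟩

end Groth.Agent.S6554
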