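import Groth.Statements.S6555
import Groth.Agent.VarGal.GeomRed
import Groth.Agent.VarGal.SmoothReg
import Groth.Agent.Ega11.RegLocal
import Mathlib.RingTheory.Smooth.StandardSmoothCotangent
import Groth.Agent.WC97.Reduced
import Mathlib.RingTheory.Smooth.Kaehler
import Mathlib.RingTheory.Smooth.Field
import Mathlib.RingTheory.Unramified.Field
import Mathlib.RingTheory.Etale.Field
import Mathlib.RingTheory.Nakayama
import Mathlib.RingTheory.LocalRing.Module

set_option autoImplicit false
universe u
open CategoryTheory CategoryTheory.Limits AlgebraicGeometry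
attribute [local instance] Curv2.resAlgebra Curv2.stalkAlgebra
open Curves

namespace Groth.Agent.S6555

open IsLocalRing KaehlerDifferential TensorProduct

/-- With `Ω` free of rank one and separable residue field, the maximal ideal is generated by any irreducible. -/
theorem maximalIdeal_eq_span {k O : Type u} [Field k] [CommRing O] [IsLocalRing O] [IsNoetherianRing O] [IsDomain O]
    [Algebra k O] [Algebra.FormallySmooth k O] [Algebra.EssFiniteType k O] [Algebra.IsSeparable k (ResidueField O)]
    (e : Ω[O⁄k] ≃ₗ[O] O) {s : O} (hs : Irreducible s) : maximalIdeal O = Ideal.span {s} := by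
  let K := ResidueField O
  have hK : Function.Surjective (algebraMap O K) := Ideal.Quotient.mk_surjective
  have : Algebra.EssFiniteType k K := Algebra.EssFiniteType.comp k O K
  have : Algebra.FormallyEtale k K := (Algebra.FormallyEtale.iff_isSeparable k K).2 inferInstance
  have : Algebra.FormallySmooth k K := inferInstance
  obtain ⟨l, hl⟩ := (Algebra.FormallySmooth.iff_split_injection hK).1 (inferInstance : Algebra.FormallySmooth k K)
  let J := RingHom.ker (algebraMap O K)
  have hJ : J = maximalIdeal O := Ideal.mk_ker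
  let ψ : J.Cotangent →ₗ[O] K :=
    ((TensorProduct.rid O K).toLinearMap ∘ₗ TensorProduct.map (LinearMap.id (R := O) (M := K)) e.toLinearMap) ∘ₗ
      (kerCotangentToTensor k O K).restrictScalars O
  have hψ : Function.Injective ψ := by
    refine ((TensorProduct.rid O K).injective.comp ?_).comp fun a b hab => ?_
    · exact (TensorProduct.congr (LinearEquiv.refl O K) e).injective
    · have ha := LinearMap.congr_fun hl a
      have hb := LinearMap.congr_fun hl b
      rw [LinearMap.comp_apply, LinearMap.id_apply] at ha hb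
      rw [← ha, ← hb]
      exact congrArg l hab
  have hnu : s ∈ maximalIdeal O := (mem_maximalIdeal s).2 hs.not_isUnit
  obtain ⟨t, ht, htop⟩ : ∃ t ∈ maximalIdeal O, maximalIdeal O ≤ Ideal.span {t} ⊔ maximalIdeal O • maximalIdeal O := by
    have h2 : ∀ y : J, J.toCotangent y = 0 → (y : O) ∈ maximalIdeal O • maximalIdeal O := fun y hy => by
      rw [Ideal.smul_eq_mul, ← pow_two, ← hJ]
      exact (Ideal.toCotangent_eq_zero _ y).1 hy
    by_cases hall : ∀ y : J, ψ (J.toCotangent y) = 0
    · refine ⟨s, hnu, fun y hy => Submodule.mem_sup_right (h2 ⟨y, hJ ▸ hy⟩ (hψ ?_))⟩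
      rw [hall, map_zero]
    push Not at hall
    obtain ⟨t, ht⟩ := hall
    refine ⟨t, hJ ▸ t.2, fun y hy => ?_⟩
    obtain ⟨c, hc⟩ := hK (ψ (J.toCotangent ⟨y, hJ ▸ hy⟩) / ψ (J.toCotangent t))
    have h0 : J.toCotangent (⟨y, hJ ▸ hy⟩ - c • t) = 0 := hψ (by
      rw [map_sub, map_sub, map_smul, map_smul, map_zero, Algebra.smul_def, hc, div_mul_cancel₀ _ ht, sub_self])
    rw [← add_sub_cancel (c * (t : O)) y]
    exact Submodule.add_mem_sup (Ideal.mem_span_singleton'.2 ⟨c, rfl⟩) (h2 _ h0)
  have hm : maximalIdeal O ≤ Ideal.span {t} :=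
    Submodule.le_of_le_smul_of_le_jacobson_bot (IsNoetherian.noetherian _) (IsLocalRing.maximalIdeal_le_jacobson _) htop
  obtain ⟨c, hc⟩ := Ideal.mem_span_singleton'.1 (hm hnu)
  have hcu : IsUnit c := (hs.isUnit_or_isUnit hc.symm).resolve_right ((mem_maximalIdeal t).1 ht)
  rw [← hc, Ideal.span_singleton_mul_left_unit hcu]
  exact le_antisymm hm ((Ideal.span_singleton_le_iff_mem _).2 ht)

/-- Formally smooth local algebra with separable residue field and principal maximal ideal. -/
theorem bijective_smul_D {k O : Type u} [Field k] [CommRing O] [IsLocalRing O] [IsDomain O] [Algebra k O]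
    [Algebra.FormallySmooth k O] [Algebra.EssFiniteType k O] [Algebra.IsSeparable k (ResidueField O)]
    (s : O) (hs : maximalIdeal O = Ideal.span {s}) (hs0 : s ≠ 0) :
    Function.Bijective (fun a : O => a • D k O s) := by
  let K := ResidueField O
  have hK : Function.Surjective (algebraMap O K) := Ideal.Quotient.mk_surjective
  have hker : RingHom.ker (algebraMap O K) = maximalIdeal O := Ideal.mk_ker
  have : Algebra.EssFiniteType k K := Algebra.EssFiniteType.comp k O K
  have : Algebra.FormallyEtale k K := (Algebra.FormallyEtale.iff_isSeparable k K).2 inferInstance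
  have : Algebra.FormallyUnramified k K := inferInstance
  have : Algebra.FormallySmooth k K := inferInstance
  have hsub : Subsingleton Ω[K⁄k] := (Algebra.formallyUnramified_iff k K).mp inferInstance
  have hex := KaehlerDifferential.exact_kerCotangentToTensor_mapBaseChange k O K hK
  have hsurj : Function.Surjective (kerCotangentToTensor k O K) := fun z =>
    (hex z).1 (Subsingleton.elim _ _)
  have hspan : Submodule.span O {D k O s} = ⊤ := by
    have hfin : (⊤ : Submodule O Ω[O⁄k]).FG := Module.Finite.fg_top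
    refine eq_top_iff.2 (Submodule.le_of_le_smul_of_le_jacobson_bot hfin
      (IsLocalRing.maximalIdeal_le_jacobson _) ?_)
    intro ω _
    obtain ⟨z, hz⟩ := hsurj ((1 : K) ⊗ₜ[O] ω)
    obtain ⟨y, rfl⟩ := Ideal.toCotangent_surjective _ z
    rw [kerCotangentToTensor_toCotangent] at hz
    have hy : (y : O) ∈ maximalIdeal O := hker ▸ y.2
    rw [hs, Ideal.mem_span_singleton'] at hy
    obtain ⟨c, hc⟩ := hy
    have h2 : D k O (y : O) = c • D k O s + s • D k O c := by rw [← hc, Derivation.leibniz]
    have hkill : ∀ w : Ω[O⁄k], (1 : K) ⊗ₜ[O] (s • w) = 0 := fun w => by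
      rw [← TensorProduct.smul_tmul, ← Algebra.algebraMap_eq_smul_one]
      rw [show algebraMap O K s = 0 from (RingHom.mem_ker).1 (hker ▸ hs ▸ Ideal.mem_span_singleton_self s),
        TensorProduct.zero_tmul]
    rw [h2, TensorProduct.tmul_add, hkill, add_zero] at hz
    have h3 : (1 : K) ⊗ₜ[O] (ω - c • D k O s) = 0 := by rw [TensorProduct.tmul_sub, ← hz, sub_self]
    have h4 : ω - c • D k O s ∈ maximalIdeal O • (⊤ : Submodule O Ω[O⁄k]) := by
      have h5 := congrArg (TensorProduct.quotTensorEquivQuotSMul Ω[O⁄k] (maximalIdeal O)) h3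
      erw [map_zero] at h5
      erw [TensorProduct.quotTensorEquivQuotSMul_mk_tmul, one_smul] at h5
      exact (Submodule.Quotient.mk_eq_zero _).1 h5
    rw [← add_sub_cancel (c • D k O s) ω]
    exact Submodule.add_mem_sup (Submodule.smul_mem _ c (Submodule.mem_span_singleton_self _)) h4
  refine ⟨?_, fun w => ?_⟩
  · have hne : (1 : K) ⊗ₜ[O] D k O s ≠ 0 := by
      intro h0
      obtain ⟨l, hl⟩ := (Algebra.FormallySmooth.iff_split_injection hK).1 (inferInstance : Algebra.FormallySmooth k K)
      have hsk : s ∈ RingHom.ker (algebraMap O K) := hker ▸ hs ▸ Ideal.mem_span_singleton_self s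
      have h1 := LinearMap.congr_fun hl ((RingHom.ker (algebraMap O K)).toCotangent ⟨s, hsk⟩)
      rw [LinearMap.comp_apply, kerCotangentToTensor_toCotangent, LinearMap.id_apply, h0, map_zero] at h1
      have h2 : s ∈ (RingHom.ker (algebraMap O K)) ^ 2 :=
        (Ideal.toCotangent_eq_zero _ ⟨s, hsk⟩).1 h1.symm
      rw [hker, hs, Ideal.span_singleton_pow, Ideal.mem_span_singleton'] at h2
      obtain ⟨a, ha⟩ := h2
      have h3 : a * s = 1 := mul_right_cancel₀ hs0 (by rw [one_mul, mul_assoc, ← pow_two, ha])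
      have hnu : ¬ IsUnit s := (mem_maximalIdeal s).1 (hs ▸ Ideal.mem_span_singleton_self s)
      exact hnu (IsUnit.of_mul_eq_one_right _ h3)
    have hflat : Module.Free O Ω[O⁄k] := Module.free_of_flat_of_isLocalRing
    obtain ⟨⟨ι, b⟩⟩ := Module.Free.exists_basis (R := O) (M := Ω[O⁄k])
    have hi : ∃ i, b.repr (D k O s) i ≠ 0 := by
      by_contra hno
      push Not at hno
      refine hne ?_
      rw [show D k O s = 0 from b.repr.injective (Finsupp.ext fun i => by rw [map_zero]; exact hno i),
        TensorProduct.tmul_zero]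
    obtain ⟨i, hi⟩ := hi
    intro a a' h
    have h1 := congrArg (fun w => b.repr w i) h
    simp only [map_smul, Finsupp.smul_apply, smul_eq_mul] at h1
    exact mul_right_cancel₀ hi h1
  · obtain ⟨a, ha⟩ := Submodule.mem_span_singleton.1 (hspan.ge (Submodule.mem_top : w ∈ ⊤))
    exact ⟨a, ha⟩

/-- Let X be a scheme over the field k and x ∈ X a closed point near which X → Spec k is smooth of
relative dimension 1 (on some open neighbourhood of x), with κ(x)/k separable. If s is an
irreducible element of the local ring O_{X,x} (a discrete valuation ring, so s generates its maximal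
ideal), then Ω_{O_{X,x}/k}, which is the stalk of Ω_{X/k} at x, is free of rank one with basis d s:
the map a ↦ a · d s from O_{X,x} to Ω_{O_{X,x}/k} is bijective. -/
theorem result (k : Type u) [Field k] (X : Scheme.{u}) [X.Over (Spec (CommRingCat.of k))]
    (x : X) (hx : IsClosed ({x} : Set X))
    (hsm : ∃ U : X.Opens, x ∈ U ∧ SmoothOfRelativeDimension 1 (U.ι ≫ (X ↘ (Spec (CommRingCat.of k)))))
    (hsep : Algebra.IsSeparable k (X.residueField x))
    (s : X.presheaf.stalk x) (hs : Irreducible s) :
    Function.Bijective (fun a : X.presheaf.stalk x => a • KaehlerDifferential.D k (X.presheaf.stalk x) s) := by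
  obtain ⟨U, hxU, hU⟩ := hsm
  have := hU
  obtain ⟨B0, hB0, V, hV, hxV, hVle, hstd⟩ :=
    SmoothOfRelativeDimension.exists_isStandardSmoothOfRelativeDimension (n := 1)
      (f := U.ι ≫ (X ↘ Spec (CommRingCat.of k))) ⟨x, hxU⟩
  have hB : B0 = ⊤ := by
    refine top_le_iff.1 fun y _ => ?_
    rw [show y = (U.ι ≫ (X ↘ Spec (CommRingCat.of k))) ⟨x, hxU⟩ from Subsingleton.elim (α := PrimeSpectrum k) _ _]
    exact hVle hxV
  subst hB
  let W : X.Opens := U.ι ''ᵁ V
  have hW : IsAffineOpen W := hV.image_of_isOpenImmersion U.ι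
  have hxW : x ∈ W := ⟨⟨x, hxU⟩, hxV, rfl⟩
  let p0 := X ↘ Spec (CommRingCat.of k)
  have hstd' : RingHom.IsStandardSmoothOfRelativeDimension 1 (p0.appLE ⊤ W le_top).hom := by
    have h1 : (U.ι ≫ p0).appLE ⊤ V hVle = p0.appLE ⊤ W le_top := by
      rw [Scheme.Hom.comp_appLE]
      rw [Scheme.Opens.ι_appLE]
      rw [Scheme.Hom.appLE]
      rfl
    rw [← h1]
    exact hstd
  let φ : k →+* Γ(X, W) := ((Scheme.ΓSpecIso (CommRingCat.of k)).inv ≫ p0.appLE ⊤ W le_top).hom
  let : Algebra k Γ(X, W) := φ.toAlgebra
  have hCn : Algebra.IsStandardSmoothOfRelativeDimension 1 k Γ(X, W) :=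
    (RingHom.isStandardSmoothOfRelativeDimension_algebraMap 1).1
      (RingHom.isStandardSmoothOfRelativeDimension_respectsIso.right _
        (Scheme.ΓSpecIso (CommRingCat.of k)).symm.commRingCatIsoToRingEquiv hstd')
  have : Algebra.IsStandardSmooth k Γ(X, W) := Algebra.IsStandardSmoothOfRelativeDimension.isStandardSmooth 1
  have : Algebra.Smooth k Γ(X, W) := inferInstance
  let : Algebra Γ(X, W) (X.presheaf.stalk x) := TopCat.Presheaf.algebra_section_stalk X.presheaf (⟨x, hxW⟩ : W)
  have hloc := hW.isLocalization_stalk ⟨x, hxW⟩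
  have : IsScalarTower k Γ(X, W) (X.presheaf.stalk x) :=
    IsScalarTower.of_algebraMap_eq fun c => by
      show X.presheaf.germ ⊤ x trivial (p0.appTop ((Scheme.ΓSpecIso (CommRingCat.of k)).inv c)) =
        X.presheaf.germ W x hxW (p0.appLE ⊤ W le_top ((Scheme.ΓSpecIso (CommRingCat.of k)).inv c))
      exact (TopCat.Presheaf.germ_res_apply X.presheaf (homOfLE le_top) x hxW _).symm
  let p := (hW.primeIdealOf ⟨x, hxW⟩).asIdeal
  have : IsLocalization p.primeCompl (X.presheaf.stalk x) := hloc
  have : Algebra.FormallyEtale Γ(X, W) (X.presheaf.stalk x) := .of_isLocalization p.primeCompl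
  have : Algebra.FormallySmooth k (X.presheaf.stalk x) :=
    Algebra.FormallySmooth.comp k Γ(X, W) (X.presheaf.stalk x)
  have : Algebra.EssFiniteType Γ(X, W) (X.presheaf.stalk x) :=
    Algebra.EssFiniteType.of_isLocalization (X.presheaf.stalk x) p.primeCompl
  have : Algebra.EssFiniteType k (X.presheaf.stalk x) :=
    Algebra.EssFiniteType.comp k Γ(X, W) (X.presheaf.stalk x)
  have : Algebra.IsSeparable k (IsLocalRing.ResidueField (X.presheaf.stalk x)) := by
    refine Algebra.IsSeparable.of_equiv_equiv (RingEquiv.refl k)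
      (RingEquiv.refl (X.residueField x) : X.residueField x ≃+* IsLocalRing.ResidueField (X.presheaf.stalk x)) ?_
    rfl
  have hreg : IsRegularLocalRing (X.presheaf.stalk x) := by
    have : Smooth (U.ι ≫ p0) := SmoothOfRelativeDimension.smooth 1 _
    have h := Groth.Agent.VarGal.isRegularLocalRing_stalk_of_smooth (U.ι ≫ p0) ⟨x, hxU⟩
    exact IsRegularLocalRing.of_ringEquiv (asIso (U.ι.stalkMap ⟨x, hxU⟩)).commRingCatIsoToRingEquiv.symm
  have : IsDomain (X.presheaf.stalk x) := Groth.Agent.Ega11.RegLocal.isDomain _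
  have : Nontrivial Γ(X, W) := (X.presheaf.germ W x hxW).hom.domain_nontrivial
  let b := Module.finBasisOfFinrankEq Γ(X, W) Ω[Γ(X, W)⁄k] (Module.finrank_eq_of_rank_eq
    (Algebra.IsStandardSmoothOfRelativeDimension.rank_kaehlerDifferential 1))
  let e : Ω[(X.presheaf.stalk x)⁄k] ≃ₗ[X.presheaf.stalk x] X.presheaf.stalk x :=
    ((b.baseChange (X.presheaf.stalk x)).map
      (KaehlerDifferential.tensorKaehlerEquivOfFormallyEtale k Γ(X, W) (X.presheaf.stalk x))).equivFun ≪≫ₗ
      LinearEquiv.funUnique (Fin 1) _ _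
  exact bijective_smul_D s (maximalIdeal_eq_span e hs) hs.ne_zero

end Groth.Agent.S6555
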