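import Groth.Statements.S6556
import Groth.Agent.Ega11.InsepLength
import Groth.Agent.Ega11.RamLocal
import Groth.Agent.Curves2.RatPoint
-- import your own Groth.Agent.* helpers here

set_option autoImplicit false
universe u
open CategoryTheory CategoryTheory.Limits AlgebraicGeometry
attribute [local instance] Curv2.resAlgebra
open Curves

namespace Groth.Agent.S6556

/-- Let X be a smooth curve over the field k (integral, separated, of finite type and smooth over k, of
dimension one), k̄ an algebraic closure of k, x̄ ∈ X_{k̄} a closed point and x ∈ X its image. Then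
the ramification index of the extension of discrete valuation rings O_{X,x} → O_{X_{k̄}, x̄} (the
length of O_{X_{k̄},x̄} modulo the ideal generated by the maximal ideal of O_{X,x}) equals the
inseparable degree [κ(x) : k]_i. -/
theorem result (k : Type u) [Field k] (X : Scheme.{u}) [X.Over (Spec (CommRingCat.of k))]
    [IsIntegral X] [IsSeparated (X ↘ (Spec (CommRingCat.of k)))] [LocallyOfFiniteType (X ↘ (Spec (CommRingCat.of k)))] [QuasiCompact (X ↘ (Spec (CommRingCat.of k)))] (hdX : topologicalKrullDim X = 1) [Smooth (X ↘ (Spec (CommRingCat.of k)))]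
    (xb : Curv2.bc k X (AlgebraicClosure k)) (hxb : IsClosed ({xb} : Set (Curv2.bc k X (AlgebraicClosure k)))) :
    letI := ((Curv2.bcFst k X (AlgebraicClosure k)).stalkMap xb).hom.toAlgebra
    Ideal.ramificationIdx (IsLocalRing.maximalIdeal ((Curv2.bc k X (AlgebraicClosure k)).presheaf.stalk xb))
        (X.presheaf.stalk (Curv2.bcFst k X (AlgebraicClosure k) xb)) =
      Field.finInsepDegree k (X.residueField (Curv2.bcFst k X (AlgebraicClosure k) xb)) := by
  set s := X ↘ Spec (CommRingCat.of k)
  set fst := Curv2.bcFst k X (AlgebraicClosure k)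
  set x := fst xb with hx
  set ω := Spec.map (CommRingCat.ofHom (algebraMap k (AlgebraicClosure k)))
  haveI : IsIntegralHom ω := by
    rw [IsIntegralHom.SpecMap_iff]
    exact algebraMap_isIntegral_iff.mpr inferInstance
  haveI : IsIntegralHom fst := MorphismProperty.pullback_fst (P := @IsIntegralHom) _ _ inferInstance
  have hxc : IsClosed ({x} : Set X) := by
    have := fst.isClosedMap _ hxb
    rwa [Set.image_singleton] at this
  haveI : Module.Finite k (X.residueField x) := by
    haveI : IsClosedImmersion (X.fromSpecResidueField x) :=
      (isClosed_singleton_iff_isClosedImmersion (x := x)).1 hxc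
    have h2 : IsFinite (Spec.map (CommRingCat.ofHom (Curv2.resMap k X x))) := by
      rw [Stein58.SpecMap_resMap, isFinite_iff_locallyOfFiniteType_of_jacobsonSpace]
      infer_instance
    exact (IsFinite.SpecMap_iff _).1 h2
  have hg : X.fromSpecResidueField x ≫ s = Spec.map (CommRingCat.ofHom (algebraMap k (X.residueField x))) :=
    (Stein58.SpecMap_resMap k X x).symm
  let e : fst.fiber x ≅ Spec (CommRingCat.of (TensorProduct k (X.residueField x) (AlgebraicClosure k))) :=
    pullbackSymmetry fst (X.fromSpecResidueField x) ≪≫
      pullbackRightPullbackFstIso s ω (X.fromSpecResidueField x) ≪≫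
      pullback.congrHom hg rfl ≪≫ pullbackSpecIso k (X.residueField x) (AlgebraicClosure k)
  let z := fst.asFiber xb
  let q : PrimeSpectrum (TensorProduct k (X.residueField x) (AlgebraicClosure k)) := e.hom z
  let E1 := FlatMor68.FibreStalk.fibreStalkEquivAt fst xb
  let E2 := (asIso (e.hom.stalkMap z)).commRingCatIsoToRingEquiv
  let E3 := (Spec.stalkIso (CommRingCat.of (TensorProduct k (X.residueField x) (AlgebraicClosure k))) q).commRingCatIsoToRingEquiv
  let c := (Algebra.TensorProduct.comm k (X.residueField x) (AlgebraicClosure k)).toRingEquiv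
  let q' : Ideal (TensorProduct k (AlgebraicClosure k) (X.residueField x)) := q.asIdeal.comap (c.symm : _ →+* _)
  have h4 := InsepMult31.length_of_ringEquiv (IsLocalization.ringEquivOfRingEquiv
    (M := q.asIdeal.primeCompl) (T := q'.primeCompl)
    (Localization.AtPrime q.asIdeal) (Localization.AtPrime q') c (by
      ext a
      simp only [Submonoid.mem_map, Ideal.mem_primeCompl_iff]
      constructor
      · rintro ⟨b, hb, rfl⟩ h
        exact hb (by simpa [q'] using h)
      · intro ha
        exact ⟨c.symm a, fun h => ha h, c.apply_symm_apply a⟩))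
  letI := (fst.stalkMap xb).hom.toAlgebra
  haveI : IsLocalHom (algebraMap (X.presheaf.stalk x) ((Curv2.bc k X (AlgebraicClosure k)).presheaf.stalk xb)) :=
    inferInstanceAs (IsLocalHom (fst.stalkMap xb).hom)
  rw [Ega11.RamLocal.ramificationIdx_maximalIdeal]
  refine (congrArg ENat.toNat ((InsepMult31.length_of_ringEquiv E1).trans
    ((InsepMult31.length_of_ringEquiv E2).symm.trans ((InsepMult31.length_of_ringEquiv E3).trans
      (h4.trans (Ega11.InsepLength.length_localization (X.residueField x) q')))))).trans (ENat.toNat_natCast _)

end Groth.Agent.S6556
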