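import Groth.Statements.S6557
import Groth.Agent.Crv77.Basic
import Groth.Agent.Crv77.RR
import Groth.Agent.FlatMor68.DedekindFlat
import Groth.Agent.Unr55.FppfScheme

set_option autoImplicit false
universe u
open CategoryTheory CategoryTheory.Limits AlgebraicGeometry
open Curves Groth.Agent

namespace Groth.Agent.S6557

/-- Let k be a field and f : X → Y a surjective morphism over k of curves over k (integral, separated,
of finite type over k, of dimension one). If X is smooth over k and every local ring of Y is an
integrally closed domain, then Y is also smooth over k. -/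
theorem result (k : Type u) [Field k]
    (X Y : Scheme.{u}) [X.Over (Spec (CommRingCat.of k))] [Y.Over (Spec (CommRingCat.of k))]
    [IsIntegral X] [IsSeparated (X ↘ (Spec (CommRingCat.of k)))] [LocallyOfFiniteType (X ↘ (Spec (CommRingCat.of k)))] [QuasiCompact (X ↘ (Spec (CommRingCat.of k)))] (hdX : topologicalKrullDim X = 1) [IsIntegral Y] [IsSeparated (Y ↘ (Spec (CommRingCat.of k)))] [LocallyOfFiniteType (Y ↘ (Spec (CommRingCat.of k)))] [QuasiCompact (Y ↘ (Spec (CommRingCat.of k)))] (hdY : topologicalKrullDim Y = 1)
    (f : X ⟶ Y) (hf : f ≫ (Y ↘ (Spec (CommRingCat.of k))) = X ↘ (Spec (CommRingCat.of k))) [Surjective f]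
    [Smooth (X ↘ (Spec (CommRingCat.of k)))] (hY : Pi1.IsNormalScheme Y) :
    Smooth (Y ↘ (Spec (CommRingCat.of k))) := by
  have : IsLocallyNoetherian Y :=
    LocallyOfFiniteType.isLocallyNoetherian (Y ↘ (Spec (CommRingCat.of k)))
  have : LocallyOfFiniteType (f ≫ (Y ↘ (Spec (CommRingCat.of k)))) := by rw [hf]; infer_instance
  have : LocallyOfFiniteType f := locallyOfFiniteType_of_comp f (Y ↘ (Spec (CommRingCat.of k)))
  have hη : f (genericPoint X) = genericPoint Y := by
    refine IsGenericPoint.eq ?_ (genericPoint_spec Y)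
    refine Set.eq_univ_of_forall fun y => ?_
    obtain ⟨x, rfl⟩ := f.surjective y
    exact specializes_iff_mem_closure.1 ((genericPoint_specializes x).map f.continuous)
  have hP : ∀ y : Y, IsDomain (Y.presheaf.stalk y) ∧ IsPrincipalIdealRing (Y.presheaf.stalk y) := by
    intro y
    have := (hY y).1
    have := (hY y).2
    exact ⟨inferInstance, (Crv77.valuationRing_stalk hdY.le y).1⟩
  have : Flat f := (FlatMor68.DedekindFlat.flat_iff_nzd f hP).2 fun x a ha s hs => by
    rcases mul_eq_zero.1 hs with h | h
    · exact absurd ((map_eq_zero_iff _ (Crv77.stalkMap_injective f hη x)).1 h) ha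
    · exact h
  have : Smooth (f ≫ (Y ↘ (Spec (CommRingCat.of k)))) := by rw [hf]; infer_instance
  exact Unr55.smooth_of_fppf_comp f _

end Groth.Agent.S6557
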