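import Groth.Statements.S6563
import Groth.Agent.Curves2.ImageReduced
import Groth.Agent.Curves2.ProjectiveCurve

set_option autoImplicit false
universe u
open CategoryTheory CategoryTheory.Limits AlgebraicGeometry
open Curves

namespace Groth.Agent.S6563

/-- Let k be a field and f : X → Y a morphism over k of varieties over k, with X a curve (integral,
separated and of finite type over k, of dimension one) and Y proper over k (and integral). Then f
extends over a projective completion of X: there are a projective curve X̄ over k (integral, of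
dimension one, admitting a closed immersion over k into some P^n_k), an open immersion j : X → X̄
over k and a k-morphism g : X̄ → Y with g ∘ j = f. -/
theorem result (k : Type u) [Field k]
    (X Y : Scheme.{u}) [X.Over (Spec (CommRingCat.of k))] [Y.Over (Spec (CommRingCat.of k))]
    [IsIntegral X] [IsSeparated (X ↘ (Spec (CommRingCat.of k)))] [LocallyOfFiniteType (X ↘ (Spec (CommRingCat.of k)))] [QuasiCompact (X ↘ (Spec (CommRingCat.of k)))] (hdX : topologicalKrullDim X = 1)
    [IsIntegral Y] [IsProper (Y ↘ (Spec (CommRingCat.of k)))]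
    (f : X ⟶ Y) (hf : f ≫ (Y ↘ (Spec (CommRingCat.of k))) = X ↘ (Spec (CommRingCat.of k))) :
    ∃ (Xb : Scheme.{u}) (_ : Xb.Over (Spec (CommRingCat.of k))) (j : X ⟶ Xb) (g : Xb ⟶ Y),
      IsOpenImmersion j ∧ j ≫ g = f ∧ j ≫ (Xb ↘ (Spec (CommRingCat.of k))) = X ↘ (Spec (CommRingCat.of k)) ∧ g ≫ (Y ↘ (Spec (CommRingCat.of k))) = Xb ↘ (Spec (CommRingCat.of k)) ∧
      IsIntegral Xb ∧ topologicalKrullDim Xb = 1 ∧
      ∃ (n : ℕ) (i : Xb ⟶ CohB1.ProjSpace n k), IsClosedImmersion i ∧ i ≫ CohB1.ProjSpace.toSpec n k = Xb ↘ (Spec (CommRingCat.of k)) := by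
  let sX := X ↘ Spec (CommRingCat.of k)
  let sY := Y ↘ Spec (CommRingCat.of k)
  obtain ⟨N, φ, hφ, hφk⟩ := Groth.Agent.Curves2.exists_immersion_projSpace k X hdX.le
  have : IsProper (CohB1.ProjSpace.toSpec N k) := Groth.Agent.Curves2.ProjLine.isProper_toSpec k N
  let P := pullback (CohB1.ProjSpace.toSpec N k) sY
  let ψ : X ⟶ P := pullback.lift φ f (hφk.trans hf.symm)
  have hψ₁ : ψ ≫ pullback.fst _ _ = φ := pullback.lift_fst _ _ _
  have : IsImmersion (ψ ≫ pullback.fst (CohB1.ProjSpace.toSpec N k) sY) := by rw [hψ₁]; exact hφ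
  have : IsImmersion ψ := IsImmersion.of_comp ψ (pullback.fst (CohB1.ProjSpace.toSpec N k) sY)
  have : IsLocallyNoetherian X := LocallyOfFiniteType.isLocallyNoetherian sX
  have : CompactSpace X := QuasiCompact.compactSpace_of_compactSpace sX
  have : IsNoetherian X := {}
  have : QuasiCompact ψ := quasiCompact_of_noetherianSpace_source ψ
  let sP : P ⟶ Spec (CommRingCat.of k) := pullback.snd _ _ ≫ sY
  have : IsProper sP := inferInstanceAs (IsProper (pullback.snd (CohB1.ProjSpace.toSpec N k) sY ≫ sY))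
  let sB : ψ.image ⟶ Spec (CommRingCat.of k) := ψ.imageι ≫ sP
  let : ψ.image.Over (Spec (CommRingCat.of k)) := ⟨sB⟩
  have hpB : IsProper sB := inferInstanceAs (IsProper (ψ.imageι ≫ sP))
  have : IsProper (ψ.image ↘ Spec (CommRingCat.of k)) := hpB
  have hdom : DenseRange ψ.toImage := (inferInstance : IsDominant ψ.toImage).denseRange
  have : Nonempty ψ.image := ⟨ψ.toImage (genericPoint X)⟩
  have hirr : IrreducibleSpace ψ.image := by
    have h : IsIrreducible (Set.univ : Set ψ.image) := by
      rw [← hdom.closure_range, ← Set.image_univ]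
      exact ((IrreducibleSpace.isIrreducible_univ X).image _ ψ.toImage.continuous.continuousOn).closure
    exact { toPreirreducibleSpace := ⟨h.2⟩, toNonempty := inferInstance }
  have hred : AlgebraicGeometry.IsReduced ψ.image := Groth.Agent.Curves2.isReduced_image ψ
  have hint : IsIntegral ψ.image := isIntegral_of_irreducibleSpace_of_isReduced _
  have hdimB : topologicalKrullDim ψ.image = 1 := by
    rw [← Groth.Agent.VarGal.topologicalKrullDim_open_eq sB ψ.toImage.opensRange
      ⟨ψ.toImage (genericPoint X), _, rfl⟩, ← hdX]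
    exact (ψ.toImage.isOpenEmbedding.isEmbedding.toHomeomorph.isHomeomorph.topologicalKrullDim_eq).symm
  refine ⟨ψ.image, ⟨sB⟩, ψ.toImage, ψ.imageι ≫ pullback.snd _ _, inferInstance, ?_, ?_, ?_, hint, hdimB,
    Groth.Agent.Curves2.exists_closedImmersion_projSpace k hdimB⟩
  · rw [Scheme.Hom.toImage_imageι_assoc]; exact pullback.lift_snd _ _ _
  · show ψ.toImage ≫ ψ.imageι ≫ pullback.snd _ _ ≫ sY = _
    rw [Scheme.Hom.toImage_imageι_assoc, pullback.lift_snd_assoc]; exact hf
  · show (ψ.imageι ≫ pullback.snd _ _) ≫ sY = ψ.imageι ≫ pullback.snd _ _ ≫ sY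
    rw [Category.assoc]

end Groth.Agent.S6563
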