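import Groth.Statements.S6564
-- import your own Groth.Agent.* helpers here

set_option autoImplicit false
universe u
open CategoryTheory CategoryTheory.Limits AlgebraicGeometry
open Curves

namespace Groth.Agent.S6564

/-- Let X be proper over the field k of dimension at most 1. If X has a g^r_d (an invertible module L of
degree d with an ordered family of r + 1 global sections linearly independent over k), then X has a
g^s_d for every 0 ≤ s ≤ r. -/
theorem result (k : Type u) [Field k] (X : Scheme.{u}) [X.Over (Spec (CommRingCat.of k))] [IsProper (X ↘ (Spec (CommRingCat.of k)))] (hdim : topologicalKrullDim X ≤ 1)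
    (d r : ℕ) (L : X.Modules) (σ : Fin (r + 1) → LinSer.Sect X L) (hL : LinSer.IsLinSer k X L d r σ)
    (s : ℕ) (hs : s ≤ r) :
    ∃ (L' : X.Modules) (τ : Fin (s + 1) → LinSer.Sect X L'), LinSer.IsLinSer k X L' d s τ := by
  obtain ⟨hinv, hdeg, hli⟩ := hL
  refine ⟨L, fun i => σ (Fin.castLE (by omega) i), hinv, hdeg, ?_⟩
  intro c hc
  let c' : Fin (r + 1) → k := fun j => if h : (j : ℕ) < s + 1 then c ⟨j, h⟩ else 0
  have key : c' = 0 := by
    apply hli
    rw [← hc]
    symm
    refine Fintype.sum_of_injective (Fin.castLE (show s + 1 ≤ r + 1 by omega))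
      (Fin.castLE_injective _) _ _ ?_ ?_
    · intro j hj
      have : ¬ (j : ℕ) < s + 1 := fun h => hj ⟨⟨j, h⟩, rfl⟩
      have h2 : ¬ (j : ℕ) ≤ s := by omega
      simp [c', h2]
    · intro i
      have h2 : (i : ℕ) ≤ s := by omega
      simp [c', h2]
  funext i
  have := congrFun key (Fin.castLE (by omega) i)
  have h2 : (i : ℕ) ≤ s := by omega
  simpa [c', h2] using this

end Groth.Agent.S6564
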