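-- Proof of statement S6565.
import Groth.Statements.S6565
import Groth.Agent.Node12.DeltaBranch

set_option autoImplicit false
set_option linter.style.haveILetI false
set_option maxHeartbeats 800000
set_option backward.isDefEq.respectTransparency.types false
universe u
open Curves

namespace Groth.Agent.S6565

/-- (1) ⇔ (2): let k be a field and (A, m, κ) a Nagata local k-algebra. The following are equivalent:
(1) κ is separable over k (formally smooth, which for field extensions is separability, algebraic or
not) and the m-adic completion of A is isomorphic, compatibly with the maps from k, to κ[[u, v]]/(a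
u^2 + b uv + c v^2) for a nondegenerate quadratic form over κ (the algebraic characterization of a
node); (2) κ is separable over k in the same sense, and A is a reduced ring of Krull dimension one
whose δ-invariant equals 1 and which has exactly two geometric branches. (The published statement
also describes the maximal ideals of the integral closure of A; this row omits that assertion.) -/
theorem result (k : Type u) [Field k] (A : Type u) [CommRing A] [IsLocalRing A]
    [Algebra k A] (hA : CAlg.IsNagata A) :
    (Algebra.FormallySmooth k (IsLocalRing.ResidueField A) ∧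
      ∃ a b c : IsLocalRing.ResidueField A, 4 * a * c - b ^ 2 ≠ 0 ∧
        ∃ e : AdicCompletion (IsLocalRing.maximalIdeal A) A ≃+*
            (MvPowerSeries (Fin 2) (IsLocalRing.ResidueField A) ⧸ Ideal.span
              {(MvPowerSeries.C a * MvPowerSeries.X 0 ^ 2 + MvPowerSeries.C b * MvPowerSeries.X 0 * MvPowerSeries.X 1 +
                MvPowerSeries.C c * MvPowerSeries.X 1 ^ 2 : MvPowerSeries (Fin 2) (IsLocalRing.ResidueField A))}),
          ∀ t : k, e (algebraMap A _ (algebraMap k A t)) =
            Ideal.Quotient.mk _ (MvPowerSeries.C (algebraMap A (IsLocalRing.ResidueField A) (algebraMap k A t)))) ↔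
    (Algebra.FormallySmooth k (IsLocalRing.ResidueField A) ∧ IsReduced A ∧ ringKrullDim A = 1 ∧
      Curv2.deltaInv A = 1 ∧ Brnch.numGeomBranches A = 2) := by
  open IsLocalRing in
  haveI := hA.1
  constructor
  · rintro ⟨hsep, a, b, c, hd, e, -⟩
    obtain ⟨hq, hred⟩ := Groth.Agent.Node12.isQuadPt_of_completion_equiv hd e
    haveI := hred
    exact ⟨hsep, hred, hq.invariants⟩
  · rintro ⟨hsep, hred, hdim, hδ, hbr⟩
    haveI := hred
    haveI := hsep
    have hq := Groth.Agent.Node12.isQuadPt_of_invariants hA hdim hδ hbr
    haveI := Groth.Agent.Cohen12.isAdicComplete_completion A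
    let B := AdicCompletion (IsLocalRing.maximalIdeal A) A
    haveI : IsScalarTower k A B := IsScalarTower.of_algebraMap_eq fun _ => rfl
    have hm : (IsLocalRing.maximalIdeal A).map (algebraMap A B) = IsLocalRing.maximalIdeal B :=
      AdicCompletion.maximalIdeal_eq_map.symm
    let f : IsLocalRing.ResidueField A →ₐ[k] B ⧸ IsLocalRing.maximalIdeal B :=
      Ideal.Quotient.liftₐ (IsLocalRing.maximalIdeal A)
        ((Ideal.Quotient.mkₐ k (IsLocalRing.maximalIdeal B)).comp (IsScalarTower.toAlgHom k A B)) fun x hx =>
          Ideal.Quotient.eq_zero_iff_mem.2 (hm ▸ Ideal.mem_map_of_mem (algebraMap A B) hx)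
    obtain ⟨g, hg⟩ := Groth.Agent.Cohen12.exists_lift_complete (IsLocalRing.maximalIdeal B) f
    have hσ : Function.Surjective ((IsLocalRing.residue B).comp g.toRingHom) := fun z => by
      obtain ⟨z, rfl⟩ := IsLocalRing.residue_surjective z
      obtain ⟨x, hx⟩ := Groth.Agent.Cohen12.exists_sub_mem_pow A 1 z
      refine ⟨IsLocalRing.residue A x, (hg _).trans ?_⟩
      refine (Ideal.Quotient.eq.2 ?_).symm
      simpa using hx
    obtain ⟨a, b, c, hd, E, hE⟩ := hq.completion_equiv g.toRingHom hσ
    refine ⟨hsep, a, b, c, hd, E, fun t => ?_⟩
    have h1 : g (algebraMap k (IsLocalRing.ResidueField A) t) = algebraMap k B t := g.commutes t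
    have h2 := hE (algebraMap k (IsLocalRing.ResidueField A) t)
    rw [show g.toRingHom (algebraMap k (IsLocalRing.ResidueField A) t) = algebraMap A B (algebraMap k A t) from h1] at h2
    exact h2

end Groth.Agent.S6565
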