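import Groth.Statements.S6575
import Mathlib.LinearAlgebra.Matrix.Determinant.Basic
import Mathlib.RingTheory.Ideal.Quotient.Operations
import Mathlib.LinearAlgebra.Finsupp.LinearCombination

-- import your own Groth.Agent.* helpers here

set_option autoImplicit false
universe u
open Curves

namespace Groth.Agent.S6575

theorem minors_le {k : Type u} [Field k] {n m l r : ℕ}
    (f : Fin m → MvPowerSeries (Fin n) k) (g : Fin l → MvPowerSeries (Fin n) k)
    (hfg : ∀ j, g j ∈ Ideal.span (Set.range f)) :
    Ideal.span {d : MvPowerSeries (Fin n) k | ∃ (ρ : Fin r → Fin l) (γ : Fin r → Fin n), Function.Injective ρ ∧ Function.Injective γ ∧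
          d = ((Matrix.of fun (j : Fin l) (i : Fin n) => MvPowerSeries.pderiv k i (g j)).submatrix ρ γ).det} ⊔ Ideal.span (Set.range g) ≤
    Ideal.span {d : MvPowerSeries (Fin n) k | ∃ (ρ : Fin r → Fin m) (γ : Fin r → Fin n), Function.Injective ρ ∧ Function.Injective γ ∧
          d = ((Matrix.of fun (j : Fin m) (i : Fin n) => MvPowerSeries.pderiv k i (f j)).submatrix ρ γ).det} ⊔ Ideal.span (Set.range f) := by
  classical
  set If := Ideal.span (Set.range f)
  set Mf := Ideal.span {d : MvPowerSeries (Fin n) k | ∃ (ρ : Fin r → Fin m) (γ : Fin r → Fin n), Function.Injective ρ ∧ Function.Injective γ ∧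
          d = ((Matrix.of fun (j : Fin m) (i : Fin n) => MvPowerSeries.pderiv k i (f j)).submatrix ρ γ).det}
  refine sup_le ?_ (le_sup_of_le_right (Ideal.span_le.2 (by rintro _ ⟨j, rfl⟩; exact hfg j)))
  rw [Ideal.span_le]
  rintro _ ⟨ρ, γ, -, hγ, rfl⟩
  choose c hc using fun j => (Submodule.mem_span_range_iff_exists_fun _).1 (hfg j)
  let q := Ideal.Quotient.mk (Mf ⊔ If)
  have hqf : ∀ a, q (f a) = 0 := fun a =>
    Ideal.Quotient.eq_zero_iff_mem.2 (Submodule.mem_sup_right (Ideal.subset_span ⟨a, rfl⟩))
  rw [SetLike.mem_coe, ← Ideal.Quotient.eq_zero_iff_mem]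
  show q _ = 0
  rw [RingHom.map_det]
  have hrow : (q.mapMatrix ((Matrix.of fun (j : Fin l) (i : Fin n) => MvPowerSeries.pderiv k i (g j)).submatrix ρ γ)) =
      fun a => ∑ b, q (c (ρ a) b) • fun e => q (MvPowerSeries.pderiv k (γ e) (f b)) := by
    funext a e
    simp only [RingHom.mapMatrix_apply, Matrix.map_apply, Matrix.submatrix_apply, Matrix.of_apply,
      Finset.sum_apply, Pi.smul_apply, smul_eq_mul]
    rw [← hc (ρ a), map_sum, map_sum]
    refine Finset.sum_congr rfl fun b _ => ?_
    simp only [smul_eq_mul, Derivation.leibniz, map_add, map_mul, hqf, zero_mul, add_zero]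
  rw [hrow]
  change Matrix.detRowAlternating.toMultilinearMap _ = 0
  rw [MultilinearMap.map_sum]
  refine Finset.sum_eq_zero fun φ _ => ?_
  rw [MultilinearMap.map_smul_univ]
  refine smul_eq_zero_of_right _ ?_
  by_cases hφ : Function.Injective φ
  · have := Ideal.Quotient.eq_zero_iff_mem.2 (Submodule.mem_sup_left (T := If)
      (Ideal.subset_span ⟨φ, γ, hφ, hγ, rfl⟩ :
        ((Matrix.of fun (j : Fin m) (i : Fin n) => MvPowerSeries.pderiv k i (f j)).submatrix φ γ).det ∈ Mf))
    change q _ = 0 at this
    rw [RingHom.map_det] at this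
    exact this
  · rw [Function.not_injective_iff] at hφ
    obtain ⟨a, b, hab, hne⟩ := hφ
    exact Matrix.detRowAlternating.map_eq_zero_of_eq _ (by simp [hab]) hne



/-- Let k be a field, A = k[[x_1, …, x_n]] and I ⊆ A an ideal generated by f_1, …, f_m and also by g_1,
…, g_l. Then for every r ≥ 0 the ideal of A/I generated by the r × r minors of (∂f_j/∂x_i) equals
the one generated by the r × r minors of (∂g_s/∂x_i); stated in A as equality of the ideals
generated by the minors together with I. (The published result also asserts independence of the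
regular system of parameters x_1, …, x_n, which is not stated here.) -/
theorem result (k : Type u) [Field k] (n m l r : ℕ)
    (f : Fin m → MvPowerSeries (Fin n) k) (g : Fin l → MvPowerSeries (Fin n) k)
    (hfg : Ideal.span (Set.range f) = Ideal.span (Set.range g)) :
    Ideal.span {d : MvPowerSeries (Fin n) k | ∃ (ρ : Fin r → Fin m) (γ : Fin r → Fin n), Function.Injective ρ ∧ Function.Injective γ ∧
          d = ((Matrix.of fun (j : Fin m) (i : Fin n) => MvPowerSeries.pderiv k i (f j)).submatrix ρ γ).det} ⊔ Ideal.span (Set.range f) =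
      Ideal.span {d : MvPowerSeries (Fin n) k | ∃ (ρ : Fin r → Fin l) (γ : Fin r → Fin n), Function.Injective ρ ∧ Function.Injective γ ∧
          d = ((Matrix.of fun (j : Fin l) (i : Fin n) => MvPowerSeries.pderiv k i (g j)).submatrix ρ γ).det} ⊔ Ideal.span (Set.range g) := by
  refine le_antisymm ?_ ?_
  · exact minors_le g f fun j => hfg ▸ Ideal.subset_span ⟨j, rfl⟩
  · exact minors_le f g fun j => hfg.symm ▸ Ideal.subset_span ⟨j, rfl⟩

end Groth.Agent.S6575
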