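import Groth.Statements.S6584


set_option autoImplicit false
universe v u v' u'
open CategoryTheory CategoryTheory.Limits
open CohDer

namespace Groth.Agent.S6584
open CategoryTheory.Category CategoryTheory.Limits CategoryTheory.Pretriangulated
open scoped ZeroObject

open CategoryTheory.Pretriangulated in
/-- Let H : D ⥤ A be a homological functor from a pretriangulated category to an abelian category. The
full subcategory of D on the objects X with H(X⟦n⟧) = 0 for all n ≫ 0 is a strictly full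
pretriangulated subcategory (zero object, stable under shifts and isomorphisms, closed under
extensions) and is saturated: if X ⊞ Y belongs to it then so do X and Y. -/
theorem result {D : Type u} [Category.{v} D] [Preadditive D] [HasZeroObject D] [HasShift D ℤ]
    [∀ n : ℤ, (shiftFunctor D n).Additive] [Pretriangulated D]
    {A : Type u'} [Category.{v'} A] [Abelian A] (H : D ⥤ A) [H.IsHomological] :
    (ObjectProperty.IsTriangulated (fun X : D => ∃ N : ℤ, ∀ n : ℤ, N ≤ n → IsZero (H.obj ((shiftFunctor D n).obj X)))) ∧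
    (ObjectProperty.IsClosedUnderIsomorphisms (fun X : D => ∃ N : ℤ, ∀ n : ℤ, N ≤ n → IsZero (H.obj ((shiftFunctor D n).obj X)))) ∧
    (∀ X Y : D, (∃ N : ℤ, ∀ n : ℤ, N ≤ n → IsZero (H.obj ((shiftFunctor D n).obj (X ⊞ Y)))) →
      (∃ N : ℤ, ∀ n : ℤ, N ≤ n → IsZero (H.obj ((shiftFunctor D n).obj X))) ∧
      (∃ N : ℤ, ∀ n : ℤ, N ≤ n → IsZero (H.obj ((shiftFunctor D n).obj Y)))) := by
  let P : ObjectProperty D :=
    fun X => ∃ N : ℤ, ∀ n : ℤ, N ≤ n → IsZero (H.obj ((shiftFunctor D n).obj X))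
  have hiso : P.IsClosedUnderIsomorphisms :=
    ⟨fun e ⟨N, h⟩ => ⟨N, fun n hn => (h n hn).of_iso
      (H.mapIso ((shiftFunctor D n).mapIso e)).symm⟩⟩
  refine ⟨?_, hiso, fun X Y h => ?_⟩
  · have : P.ContainsZero := ⟨0, isZero_zero D, 0, fun n _ =>
      H.map_isZero ((shiftFunctor D n).map_isZero (isZero_zero D))⟩
    have : P.IsStableUnderShift ℤ :=
      ⟨fun a => ⟨fun X ⟨N, h⟩ => ⟨N - a, fun n hn => (h (a + n) (by omega)).of_iso
        (H.mapIso ((shiftFunctorAdd D a n).app X)).symm⟩⟩⟩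
    have : P.IsTriangulatedClosed₂ := ObjectProperty.IsTriangulatedClosed₂.mk'
      (fun T hT ⟨N₁, h₁⟩ ⟨N₃, h₃⟩ => ⟨max N₁ N₃, fun n hn =>
        (H.map_distinguished_exact _ (Triangle.shift_distinguished T hT n)).isZero_of_both_zeros
          ((h₁ n (by omega)).eq_of_src _ _) ((h₃ n (by omega)).eq_of_tgt _ _)⟩)
    exact { }
  · obtain ⟨N, h⟩ := h
    exact ⟨⟨N, fun n hn => IsZero.of_mono (H.map ((shiftFunctor D n).map (biprod.inl : X ⟶ X ⊞ Y))) (h n hn)⟩,
      ⟨N, fun n hn => IsZero.of_mono (H.map ((shiftFunctor D n).map (biprod.inr : Y ⟶ X ⊞ Y))) (h n hn)⟩⟩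

end Groth.Agent.S6584
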