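import Groth.Statements.S6594


set_option autoImplicit false
universe v u
open CategoryTheory CategoryTheory.Limits
open CohDer

namespace Groth.Agent.S6594
open CategoryTheory.Category CategoryTheory.Limits CategoryTheory.Pretriangulated

open CategoryTheory.Pretriangulated in
/-- (1) ⇔ (3): let D be a pretriangulated category and f : X ⟶ Y a morphism. Then f has a kernel if and
only if f is isomorphic to a composite K ⊞ Z → Z → Z ⊞ Q of a projection and a coprojection for some
objects K, Z, Q. -/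
theorem result {D : Type u} [Category.{v} D] [Preadditive D] [HasZeroObject D] [HasShift D ℤ]
    [∀ n : ℤ, (shiftFunctor D n).Additive] [Pretriangulated D]
    {X Y : D} (f : X ⟶ Y) :
    HasKernel f ↔ ∃ (K Z Q : D) (e₁ : X ≅ K ⊞ Z) (e₂ : Y ≅ Z ⊞ Q),
      f = e₁.hom ≫ biprod.snd ≫ biprod.inl ≫ e₂.inv := by
  constructor
  · intro _
    let k := kernel.ι f
    obtain ⟨Z, p, δ, hT⟩ := distinguished_cocone_triangle k
    have hδ : δ = 0 := Triangle.mor₃_eq_zero_of_mono₁ (Triangle.mk k p δ) hT (inferInstanceAs (Mono k))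
    obtain ⟨e₁, he₁, he₁'⟩ := exists_iso_binaryBiproduct_of_distTriang _ hT hδ
    change X ≅ kernel f ⊞ Z at e₁
    change k ≫ e₁.hom = biprod.inl at he₁
    change p = e₁.hom ≫ biprod.snd at he₁'
    obtain ⟨u, hu⟩ : ∃ u, f = p ≫ u := Triangle.yoneda_exact₂ _ hT f (kernel.condition f)
    have hmono : Mono u := by
      rw [Preadditive.mono_iff_cancel_zero]
      intro W g hg
      let g' := g ≫ biprod.inr ≫ e₁.inv
      have hg' : g' ≫ p = g := by simp [g', he₁']
      have hf0 : g' ≫ f = 0 := by rw [hu, ← Category.assoc, hg', hg]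
      rw [← hg', ← kernel.lift_ι f g' hf0, Category.assoc]
      have h0 : k ≫ p = 0 := comp_distTriang_mor_zero₁₂ _ hT
      change _ ≫ k ≫ p = 0
      rw [h0, comp_zero]
    obtain ⟨Q, q, ε, hT'⟩ := distinguished_cocone_triangle u
    have hε : ε = 0 := Triangle.mor₃_eq_zero_of_mono₁ (Triangle.mk u q ε) hT' hmono
    obtain ⟨e₂, he₂, -⟩ := exists_iso_binaryBiproduct_of_distTriang _ hT' hε
    change Y ≅ Z ⊞ Q at e₂
    change u ≫ e₂.hom = biprod.inl at he₂
    refine ⟨kernel f, Z, Q, e₁, e₂, ?_⟩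
    refine hu.trans ?_
    rw [he₁', ← he₂]
    simp
  · rintro ⟨K, Z, Q, e₁, e₂, hf⟩
    have hz : (biprod.inl ≫ e₁.inv) ≫ f = 0 := by rw [hf]; simp
    refine ⟨⟨⟨KernelFork.ofι (biprod.inl ≫ e₁.inv) hz,
      KernelFork.IsLimit.ofι _ _ (fun g _ => g ≫ e₁.hom ≫ biprod.fst) (fun g hg => ?_)
        (fun g hg m hm => ?_)⟩⟩⟩
    · have h2 : g ≫ e₁.hom ≫ biprod.snd = 0 := by
        have := hg =≫ (e₂.hom ≫ biprod.fst)
        rw [hf] at this
        simpa using this
      rw [← cancel_mono e₁.hom]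
      ext <;> simp [h2]
    · rw [← hm]; simp

end Groth.Agent.S6594
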