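import Groth.Statements.S6600
import Groth.Agent.CohDer42.TriBasic
import Mathlib.CategoryTheory.Triangulated.Orthogonal

set_option autoImplicit false
universe v u
open CategoryTheory CategoryTheory.Limits
open CohDer

namespace Groth.Agent.S6600
open CategoryTheory.Category CategoryTheory.Limits CategoryTheory.Pretriangulated

open CategoryTheory.Pretriangulated in
/-- Let D be a triangulated category, A ⊂ D a full subcategory invariant under all shifts, and X → Y → Z
→ X⟦1⟧ a distinguished triangle. Then Z lies in the right orthogonal A^⊥ if and only if Hom(A, X) →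
Hom(A, Y) is bijective for every object A of A. -/
theorem result {D : Type u} [Category.{v} D] [Preadditive D] [HasZeroObject D] [HasShift D ℤ]
    [∀ n : ℤ, (shiftFunctor D n).Additive] [Pretriangulated D] [IsTriangulated D]
    (P : ObjectProperty D) [P.IsStableUnderShift ℤ] (T : Triangle D) (hT : T ∈ distinguishedTriangles) :
    P.rightOrthogonal T.obj₃ ↔ ∀ A : D, P A → Function.Bijective (fun u : A ⟶ T.obj₁ => u ≫ T.mor₁) := by
  constructor
  · intro hZ A hA
    refine ⟨fun u₁ u₂ h => ?_, fun w => ?_⟩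
    · have h' : (u₁ - u₂) ≫ T.mor₁ = 0 := by rw [Preadditive.sub_comp, sub_eq_zero]; exact h
      obtain ⟨g, hg⟩ := T.invRotate.coyoneda_exact₂ (inv_rot_of_distTriang _ hT) (u₁ - u₂) h'
      have : g = 0 := P.rightOrthogonal.le_shift (-1 : ℤ) _ hZ g hA
      rw [this, zero_comp] at hg
      exact sub_eq_zero.1 hg
    · obtain ⟨u, hu⟩ := T.coyoneda_exact₂ hT w (hZ (w ≫ T.mor₂) hA)
      exact ⟨u, hu.symm⟩
  · intro H A f hA
    have h0 : f ≫ T.mor₃ = 0 := by
      refine Groth.Agent.CohDer42.eq_zero_of_shift_comp (T := T) 1 (fun u hu => ?_) _ ?_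
      · exact (H _ (P.le_shift (-1 : ℤ) _ hA)).1 (hu.trans zero_comp.symm)
      · rw [assoc, comp_distTriang_mor_zero₃₁ _ hT, comp_zero]
    obtain ⟨g, hg⟩ := T.coyoneda_exact₃ hT f h0
    obtain ⟨u, hu⟩ := (H A hA).2 g
    dsimp only at hu
    rw [hg, ← hu, assoc, comp_distTriang_mor_zero₁₂ _ hT, comp_zero]

end Groth.Agent.S6600
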