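import Groth.Statements.S6601
import Groth.Agent.CohDer42.TriBasic
import Mathlib.CategoryTheory.Triangulated.Orthogonal

set_option autoImplicit false
universe v u
open CategoryTheory CategoryTheory.Limits
open CohDer

namespace Groth.Agent.S6601
open CategoryTheory.Category CategoryTheory.Limits CategoryTheory.Pretriangulated

open CategoryTheory.Pretriangulated in
/-- Let D be a triangulated category, B ⊂ D a full subcategory invariant under all shifts, and X → Y → Z
→ X⟦1⟧ a distinguished triangle. Then X lies in the left orthogonal ^⊥B if and only if Hom(Z, B) →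
Hom(Y, B) is bijective for every object B of B. -/
theorem result {D : Type u} [Category.{v} D] [Preadditive D] [HasZeroObject D] [HasShift D ℤ]
    [∀ n : ℤ, (shiftFunctor D n).Additive] [Pretriangulated D] [IsTriangulated D]
    (P : ObjectProperty D) [P.IsStableUnderShift ℤ] (T : Triangle D) (hT : T ∈ distinguishedTriangles) :
    P.leftOrthogonal T.obj₁ ↔ ∀ B : D, P B → Function.Bijective (fun u : T.obj₃ ⟶ B => T.mor₂ ≫ u) := by
  constructor
  · intro hX B hB
    refine ⟨fun u₁ u₂ h => ?_, fun w => ?_⟩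
    · have h' : T.mor₂ ≫ (u₁ - u₂) = 0 := by rw [Preadditive.comp_sub, sub_eq_zero]; exact h
      obtain ⟨g, hg⟩ := T.yoneda_exact₃ hT (u₁ - u₂) h'
      have : g = 0 := P.leftOrthogonal.le_shift (1 : ℤ) _ hX g hB
      rw [this, comp_zero] at hg
      exact sub_eq_zero.1 hg
    · obtain ⟨u, hu⟩ := T.yoneda_exact₂ hT w (hX (T.mor₁ ≫ w) hB)
      exact ⟨u, hu.symm⟩
  · intro H B f hB
    have key : ∀ g : (T.obj₁)⟦(1 : ℤ)⟧ ⟶ B⟦(1 : ℤ)⟧, T.mor₃ ≫ g = 0 → g = 0 := fun g hg => by
      obtain ⟨k, hk⟩ := T.rotate.yoneda_exact₃ (rot_of_distTriang _ hT) g hg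
      let F := shiftFunctor D (1 : ℤ)
      let k' : T.obj₂ ⟶ B := F.preimage k
      obtain ⟨u, hu⟩ := (H B hB).2 k'
      dsimp only at hu
      have hk' : g = -(F.map (T.mor₁ ≫ k')) := by
        rw [F.map_comp, F.map_preimage]
        exact hk.trans (Preadditive.neg_comp _ _)
      rw [hk', ← hu, ← assoc, comp_distTriang_mor_zero₁₂ _ hT, zero_comp, Functor.map_zero, neg_zero]
    have h0 : T.mor₃ ≫ f⟦(1 : ℤ)⟧' = 0 := by
      refine (H _ (P.le_shift (1 : ℤ) _ hB)).1 ?_
      dsimp only
      rw [← assoc, comp_distTriang_mor_zero₂₃ _ hT, zero_comp, comp_zero]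
    apply (shiftFunctor D (1 : ℤ)).map_injective
    rw [key _ h0, Functor.map_zero]

end Groth.Agent.S6601
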