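import Groth.Statements.S6602
import Groth.Agent.CohDer42.Orth

set_option autoImplicit false
universe v u
open CategoryTheory CategoryTheory.Limits
open CohDer

namespace Groth.Agent.S6602
open CategoryTheory.Category CategoryTheory.Limits CategoryTheory.Pretriangulated

open CategoryTheory.Pretriangulated in
/-- (1) ⇔ (2): let D be a triangulated category and B a full triangulated subcategory. The inclusion
functor B → D has a left adjoint if and only if for every X in D there is a distinguished triangle A
→ X → B → A⟦1⟧ with B in B and A in the left orthogonal ^⊥B. (The published statement further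
asserts that B is then saturated and, when strictly full, equals the right orthogonal of its left
orthogonal; this row asserts only the equivalence.) -/
theorem result {D : Type u} [Category.{v} D] [Preadditive D] [HasZeroObject D] [HasShift D ℤ]
    [∀ n : ℤ, (shiftFunctor D n).Additive] [Pretriangulated D] [IsTriangulated D]
    (P : ObjectProperty D) [P.IsTriangulated] :
    P.ι.IsRightAdjoint ↔ ∀ X : D, ∃ (A B : D) (f : A ⟶ X) (g : X ⟶ B) (h : B ⟶ (shiftFunctor D (1 : ℤ)).obj A),
      Triangle.mk f g h ∈ distinguishedTriangles ∧ P B ∧ P.leftOrthogonal A := by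
  constructor
  · intro hι X
    let adj := Adjunction.ofIsRightAdjoint P.ι
    let L := P.ι.leftAdjoint
    obtain ⟨A, f, h, hT⟩ := distinguished_cocone_triangle₁ (adj.unit.app X)
    refine ⟨A, (L.obj X).obj, f, adj.unit.app X, h, hT, (L.obj X).property, ?_⟩
    refine (Groth.Agent.CohDer42.leftOrthogonal_first_iff P _ hT).2 fun B hB => ?_
    have hb := (adj.homEquiv X ⟨B, hB⟩).bijective
    refine ⟨fun u₁ u₂ e => ?_, fun v => ?_⟩
    · have := @hb.1 (P.homMk u₁) (P.homMk u₂) (by
        simp only [Adjunction.homEquiv_unit]
        exact e)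
      exact congrArg InducedCategory.Hom.hom this
    · obtain ⟨u, hu⟩ := hb.2 v
      exact ⟨u.hom, by rw [← hu, Adjunction.homEquiv_unit]; rfl⟩
  · intro H
    choose A B f g h hT hB hA using H
    have hbij := fun X (Y : P.FullSubcategory) =>
      (Groth.Agent.CohDer42.leftOrthogonal_first_iff P _ (hT X)).1 (hA X) Y.obj Y.property
    let e : ∀ (X : D) (Y : P.FullSubcategory), ((⟨B X, hB X⟩ : P.FullSubcategory) ⟶ Y) ≃ (X ⟶ P.ι.obj Y) :=
      fun X Y => Equiv.trans ⟨fun u => u.hom, fun u => P.homMk u, fun _ => rfl, fun _ => rfl⟩
        (Equiv.ofBijective _ (hbij X Y))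
    have he : ∀ X Y Y' q r, e X Y' (r ≫ q) = e X Y r ≫ P.ι.map q := by
      intro X Y Y' q r
      exact (Category.assoc _ _ _).symm
    exact (Adjunction.adjunctionOfEquivLeft e he).isRightAdjoint

end Groth.Agent.S6602
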