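import Groth.Statements.S6609
import Groth.Agent.CohDer42.TriBasic

set_option autoImplicit false
universe v u
open CategoryTheory CategoryTheory.Limits
open CohDer

namespace Groth.Agent.S6609
open CategoryTheory.Category CategoryTheory.Limits CategoryTheory.Pretriangulated
open CategoryTheory.Preadditive
set_option backward.isDefEq.respectTransparency false

open CategoryTheory.Pretriangulated in
/-- Let D be a pretriangulated category and S a set of arrows satisfying MS1 (identities, stable under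
composition), MS5 (stable under shifts in both directions) and MS6 (compatibility with distinguished
triangles). Then MS2 holds: (LMS2) for f : X ⟶ Y and t : X ⟶ X' in S there are f' : X' ⟶ Y' and s' :
Y ⟶ Y' in S with f ≫ s' = t ≫ f'; (RMS2) for f : X ⟶ Y and s : Y' ⟶ Y in S there are f' : X' ⟶ Y'
and t' : X' ⟶ X in S with t' ≫ f = f' ≫ s. -/
theorem result {D : Type u} [Category.{v} D] [Preadditive D] [HasZeroObject D] [HasShift D ℤ]
    [∀ n : ℤ, (shiftFunctor D n).Additive] [Pretriangulated D]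
    (S : MorphismProperty D) [S.IsMultiplicative] [S.IsCompatibleWithTriangulation] :
    (∀ {X Y X' : D} (f : X ⟶ Y) (t : X ⟶ X'), S t →
      ∃ (Y' : D) (f' : X' ⟶ Y') (s' : Y ⟶ Y'), S s' ∧ f ≫ s' = t ≫ f') ∧
    (∀ {X Y Y' : D} (f : X ⟶ Y) (s : Y' ⟶ Y), S s →
      ∃ (X' : D) (f' : X' ⟶ Y') (t' : X' ⟶ X), S t' ∧ t' ≫ f = f' ≫ s) := by
  have : S.RespectsIso := MorphismProperty.respectsIso_of_isStableUnderComposition
    fun X Y f hf => (have : IsIso f := hf; Groth.Agent.CohDer42.mem_of_isIso S f)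
  refine ⟨fun {X Y X'} f t ht => ?_, fun {X Y Y'} f s hs => ?_⟩
  · obtain ⟨W, w, q, hW⟩ := distinguished_cocone_triangle₁ f
    obtain ⟨Y', f', q', hW'⟩ := distinguished_cocone_triangle (w ≫ t)
    obtain ⟨c, hc, hc₂, -⟩ := MorphismProperty.compatible_with_triangulation (W := S)
      (Triangle.mk w f q) (Triangle.mk (w ≫ t) f' q') hW hW' (𝟙 W) t (S.id_mem _) ht (id_comp _).symm
    exact ⟨Y', f', c, hc, hc₂⟩
  · obtain ⟨W, g, h, hW⟩ := distinguished_cocone_triangle f
    obtain ⟨V, g', h', hV⟩ := distinguished_cocone_triangle (s ≫ g)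
    obtain ⟨c, hc, -, hc₃⟩ := MorphismProperty.compatible_with_triangulation (W := S)
      (Triangle.mk (s ≫ g) g' h') (Triangle.mk f g h).rotate hV (rot_of_distTriang _ hW)
      s (𝟙 W) hs (S.id_mem _) (comp_id _)
    change h' ≫ s⟦(1 : ℤ)⟧' = c ≫ (-f⟦(1 : ℤ)⟧') at hc₃
    let e := (shiftEquiv D (1 : ℤ)).counitIso.app V
    let F := shiftFunctor D (1 : ℤ)
    let X' := V⟦(-1 : ℤ)⟧
    let e' : F.obj X' ≅ V := e
    refine ⟨X', F.preimage (-(e'.hom ≫ h')), F.preimage (e'.hom ≫ c), ?_, ?_⟩
    · rw [← MorphismProperty.IsCompatibleWithShift.iff S _ (1 : ℤ), F.map_preimage]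
      exact (MorphismProperty.cancel_left_of_respectsIso S e'.hom c).2 hc
    · apply F.map_injective
      rw [F.map_comp, F.map_comp, F.map_preimage, F.map_preimage, assoc, neg_comp, assoc, hc₃]
      simp [F]

end Groth.Agent.S6609
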