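import Groth.Statements.S6620
import Mathlib.Algebra.Homology.DerivedCategory.RightDerivedFunctorPlus

set_option autoImplicit false
universe w w' v v' u u'
open CategoryTheory CategoryTheory.Limits
open CohDer

namespace Groth.Agent.S6620
open CategoryTheory.Limits

/-- Part (1): in the case where A has enough injectives (so that RF is defined on all of D⁺(A)): let F :
A ⥤ B be an additive functor between abelian categories, A with enough injectives, and K ∈ D⁺(A)
with Hⁱ(K) = 0 for i < a. Then Hⁱ(RF(K)) = 0 for i < a. -/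
theorem result {A : Type u} [Category.{v} A] [Abelian A] [HasDerivedCategory.{w} A] [EnoughInjectives A]
    {B : Type u'} [Category.{v'} B] [Abelian B] [HasDerivedCategory.{w'} B]
    (F : A ⥤ B) [F.Additive] (K : DerivedCategory.Plus A) (a : ℤ) [K.IsGE a] :
    (F.rightDerivedFunctorPlus.obj K).IsGE a := by
  obtain ⟨L, hL, ⟨e⟩⟩ := DerivedCategory.Plus.exists_injective_nonempty_iso K a
  let J := (InjectiveObject.ι A).mapCochainComplexPlus.obj L
  let KJ := (HomotopyCategory.Plus.quotient A).obj J
  have hu : IsIso (F.rightDerivedFunctorPlusUnit.app KJ) := inferInstance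
  let e' : F.rightDerivedFunctorPlus.obj K ≅
      DerivedCategory.Plus.Qh.obj (F.mapHomotopyCategoryPlus.obj KJ) :=
    F.rightDerivedFunctorPlus.mapIso e.symm ≪≫ (asIso (F.rightDerivedFunctorPlusUnit.app KJ)).symm
  have hge : J.obj.IsStrictlyGE a :=
    (CochainComplex.isStrictlyGE_mapHomologicalComplex_obj_iff _ _ _).2 hL
  let M : CochainComplex B ℤ := (F.mapHomologicalComplex (ComplexShape.up ℤ)).obj J.obj
  have : M.IsStrictlyGE a := by
    rw [CochainComplex.isStrictlyGE_iff]
    exact fun i hi => F.map_isZero (J.obj.isZero_of_isStrictlyGE a i hi)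
  rw [← DerivedCategory.Plus.isGE_ι_obj_iff]
  exact ⟨⟨M, DerivedCategory.Plus.ι.mapIso e' ≪≫ (DerivedCategory.quotientCompQhIso B).app M,
    inferInstance⟩⟩

end Groth.Agent.S6620
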