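import Groth.Statements.S6675
import Groth.Agent.HTop50.Tor.Rows
import Groth.Agent.S0156

set_option autoImplicit false
universe u
open CategoryTheory CategoryTheory.Limits AlgebraicGeometry Opposite
open HTop

namespace Groth.Agent.S6675

/-- Let X be a scheme and F a torsion abelian sheaf on the small etale site of X. Write a_X⁻¹ F for its
pullback to the big ph site of X, ε_X,_* for restriction from the big ph site to the big etale site
of X (the identity on underlying presheaves) and π_X⁻¹ F for the pullback of F to the big etale
site. Then ε_X,_* (a_X⁻¹ F) is isomorphic to π_X⁻¹ F (existence of an isomorphism) and R^i ε_X,_*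
(a_X⁻¹ F) = 0 for every i > 0. (Continuity of the comparison functors is carried as instance
hypotheses.) -/
theorem result (X : Scheme.{u}) [HTop.APhCont X] [HTop.EpsPhCont X] (F : EtCoh.Ab X)
    (hF : EtCoh.IsTorsion F) :
    Nonempty ((HTop.epsPhPush X).obj ((HTop.aPhPull X).obj F) ≅
      ((Scheme.Etale.forget X).sheafPullback AddCommGrpCat.{u + 1} X.smallEtaleTopology
        (Scheme.etaleTopology.over X)).obj F) ∧
    ∀ i : ℕ, 0 < i → IsZero ((HTop.RepsPhPush X i).obj ((HTop.aPhPull X).obj F)) := by
  have hpbc : Groth.Agent.HTop50.Tor.ProperBC.{u} := fun f _ _ _ _ _ ξ _ F hF n => Groth.Agent.S0156.result f ξ F hF n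
  exact Groth.Agent.HTop50.Big.eps_torsion hpbc (le_refl HTop.phTopology) hF

end Groth.Agent.S6675
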