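import Groth.Statements.S6678
import Groth.Agent.HTop50.Tor.Rows
import Groth.Agent.S0156

set_option autoImplicit false
universe u
open CategoryTheory CategoryTheory.Limits AlgebraicGeometry Opposite
open HTop

namespace Groth.Agent.S6678

/-- Let X be a scheme, F a torsion abelian sheaf on the small etale site of X and q ≥ 0. Then H^q(X_et,
F) is isomorphic to the cohomology group H^q of the pullback a_X⁻¹ F on the big ph site of X
(existence of an isomorphism of groups; continuity of the comparison functor carried as an instance
hypothesis). -/
theorem result (X : Scheme.{u}) [HTop.APhCont X] (F : EtCoh.Ab X) (hF : EtCoh.IsTorsion F) (q : ℕ) :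
    Nonempty (EtCoh.H X F q ≃+ HTop.HPh X ((HTop.aPhPull X).obj F) q) := by
  have hpbc : Groth.Agent.HTop50.Tor.ProperBC.{u} := fun f _ _ _ _ _ ξ _ F hF n => Groth.Agent.S0156.result f ξ F hF n
  exact Groth.Agent.HTop50.Big.nonempty_H_equiv_torsion hpbc (le_refl HTop.phTopology) hF q

end Groth.Agent.S6678
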