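import Groth.Statements.S6690
import Groth.Agent.Mod48.EtConsTensorCons

set_option autoImplicit false
universe u
open CategoryTheory CategoryTheory.Limits AlgebraicGeometry Opposite
attribute [local instance] HasDerivedCategory.standard
open EtModD

namespace Groth.Agent.S6690

open Groth.Agent.Mod48.EtCons

/-- Let X be a scheme and Λ a Noetherian ring. Let K be an object of D(X_et, Λ) and E a complex of
sheaves of Λ-modules on the small etale site of X, both bounded above and with all cohomology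
sheaves constructible. Then K ⊗^L_Λ E is bounded above and all its cohomology sheaves are
constructible. (The derived tensor product is the total left derived functor of − ⊗_Λ E; its
existence is carried as an instance hypothesis.) -/
theorem result (Λ : Type (u + 1)) [CommRing Λ] [IsNoetherianRing Λ] {X : Scheme.{u}}
    (K : EtModD.D Λ X) (E : CochainComplex (EtModW.Mod Λ X) ℤ) [EtModD.HasLTensorCx E] (a b : ℤ)
    [K.IsLE a] [(DerivedCategory.Q.obj E).IsLE b]
    (hK : ∀ i : ℤ, EtModW.IsConstructible Λ (EtModD.HD K i))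
    (hE : ∀ i : ℤ, EtModW.IsConstructible Λ (EtModD.HD (DerivedCategory.Q.obj E) i)) :
    (∃ c : ℤ, ((EtModD.LTensorCx E).obj K).IsLE c) ∧
      ∀ i : ℤ, EtModW.IsConstructible Λ (EtModD.HD ((EtModD.LTensorCx E).obj K) i) := by
  obtain ⟨K₀, ⟨e₀⟩⟩ : ∃ C : CochainComplex (EtModW.Mod Λ X) ℤ, Nonempty (DerivedCategory.Q.obj C ≅ K) :=
    ⟨_, ⟨DerivedCategory.Q.objObjPreimageIso K⟩⟩
  obtain ⟨P, q, hP, hq⟩ := exists_stalkKFlat_resolution K₀
  have hi : IsIso (DerivedCategory.Q.map q) := (DerivedCategory.isIso_Q_map_iff_quasiIso (φ := q)).2 hq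
  obtain ⟨e₁⟩ := nonempty_LTensor_iso E hP
  let eL : (EtModD.LTensorCx E).obj K ≅ DerivedCategory.Q.obj (tcx P E) :=
    (EtModD.LTensorCx E).mapIso (e₀.symm ≪≫ (@asIso _ _ _ _ _ hi).symm) ≪≫ e₁
  let eH : ∀ (C : CochainComplex (EtModW.Mod Λ X) ℤ) (i : ℤ),
      EtModD.HD (DerivedCategory.Q.obj C) i ≅ C.homology i := fun C i =>
    (DerivedCategory.homologyFunctorFactors (EtModW.Mod Λ X) i).app C
  let eK : ∀ i, EtModD.HD K i ≅ K₀.homology i := fun i =>
    (DerivedCategory.homologyFunctor (EtModW.Mod Λ X) i).mapIso e₀.symm ≪≫ eH K₀ i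
  obtain ⟨h1, h2⟩ := tensor_homology hP q a b
    (fun i hi => (DerivedCategory.isZero_of_isLE K a i hi).of_iso (eK i).symm)
    (fun i hi => (DerivedCategory.isZero_of_isLE (DerivedCategory.Q.obj E) b i hi).of_iso (eH E i).symm)
    (fun i => Groth.Agent.ModCons93.isConstructible_of_iso (eK i) (hK i))
    (fun i => Groth.Agent.ModCons93.isConstructible_of_iso (eH E i) (hE i))
  let eT : ∀ i, EtModD.HD ((EtModD.LTensorCx E).obj K) i ≅ (tcx P E).homology i := fun i =>
    (DerivedCategory.homologyFunctor (EtModW.Mod Λ X) i).mapIso eL ≪≫ eH (tcx P E) i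
  refine ⟨⟨a + b, ?_⟩, fun i => Groth.Agent.ModCons93.isConstructible_of_iso (eT i).symm (h1 i)⟩
  rw [DerivedCategory.isLE_iff]
  exact fun i hi => (h2 i hi).of_iso (eT i)

end Groth.Agent.S6690
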