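import Groth.Statements.S6699
import Groth.Agent.Mod48.EtConsEpi
import Mathlib.Algebra.Homology.DerivedCategory.Basic
import Mathlib.Algebra.Homology.SingleHomology

set_option autoImplicit false
universe u
open CategoryTheory CategoryTheory.Limits AlgebraicGeometry Opposite
attribute [local instance] HasDerivedCategory.standard
open EtModD

namespace Groth.Agent.S6699

open Groth.Agent.Mod48.EtCons

theorem epi_homologyMap_of_epi {A : Type*} [Category A] [Abelian A] (C : CochainComplex A ℤ) (b : ℤ) {P : A}
    (p : P ⟶ C.cycles b) [Epi (p ≫ C.homologyπ b)] :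
    ∃ φ : (HomologicalComplex.single A (ComplexShape.up ℤ) b).obj P ⟶ C,
      Epi (HomologicalComplex.homologyMap φ b) := by
  let φ : (HomologicalComplex.single A (ComplexShape.up ℤ) b).obj P ⟶ C :=
    HomologicalComplex.mkHomFromSingle (p ≫ C.iCycles b) (by simp)
  refine ⟨φ, ?_⟩
  have h : (HomologicalComplex.singleObjCyclesSelfIso (ComplexShape.up ℤ) b P).inv ≫
      HomologicalComplex.cyclesMap φ b = p := by
    simp [← cancel_mono (C.iCycles b), φ]
  have h' : ((HomologicalComplex.singleObjCyclesSelfIso (ComplexShape.up ℤ) b P).inv ≫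
      ((HomologicalComplex.single A (ComplexShape.up ℤ) b).obj P).homologyπ b) ≫
        HomologicalComplex.homologyMap φ b = p ≫ C.homologyπ b := by
    rw [Category.assoc, HomologicalComplex.homologyπ_naturality, ← Category.assoc, h]
  exact epi_of_epi_fac h'

/-- Let X be a quasi-compact and quasi-separated scheme, Λ a Noetherian ring, K an object of D(X_et, Λ)
and b an integer such that the b-th cohomology sheaf of K is a constructible sheaf of Λ-modules.
Then there exist finitely many affine schemes U_k with etale morphisms j_k : U_k → X and a morphism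
φ : F[-b] → K in D(X_et, Λ), where F is the direct sum of the sheaves j_{k!} Λ (extension by zero of
the constant sheaf Λ on U_k) placed in degree b, such that the map induced by φ on b-th cohomology
sheaves is an epimorphism F → H^b(K). (Continuity of the functors V ↦ (V → U_k → X) between small
etale sites, true for every etale morphism, appears as an instance binder in front of the
extension-by-zero terms.) -/
theorem result (Λ : Type (u + 1)) [CommRing Λ] [IsNoetherianRing Λ] (X : Scheme.{u})
    [CompactSpace X] [QuasiSeparatedSpace X] (K : EtModD.D Λ X) (b : ℤ)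
    (hK : EtModW.IsConstructible Λ (EtModD.HD K b)) :
    ∃ (m : ℕ) (U : Fin m → Scheme.{u}) (j : ∀ k, U k ⟶ X) (_ : ∀ k, Etale (j k)) (_ : ∀ k, IsAffine (U k)),
      ∀ [∀ k, EtShriek.JCont (j k)],
        ∃ φ : (DerivedCategory.singleFunctor (EtModW.Mod Λ X) b).obj
              (∐ fun k => (EtSix.extZeroMod Λ (j k)).obj (EtSix.constΛ Λ (U k))) ⟶ K,
          Epi ((DerivedCategory.homologyFunctor (EtModW.Mod Λ X) b).map φ) := by
  obtain ⟨C, ⟨e⟩⟩ : ∃ C : CochainComplex (EtModW.Mod Λ X) ℤ, Nonempty (DerivedCategory.Q.obj C ≅ K) :=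
    ⟨_, ⟨DerivedCategory.Q.objObjPreimageIso K⟩⟩
  let H := DerivedCategory.homologyFunctor (EtModW.Mod Λ X) b
  have hC : EtModW.IsConstructible Λ (C.homology b) :=
    Groth.Agent.ModCons93.isConstructible_of_iso
      (H.mapIso e.symm ≪≫ (DerivedCategory.homologyFunctorFactors _ b).app C) hK
  obtain ⟨m, U, j, hj, hU, hgen⟩ := exists_gen_epi (C.homologyπ b) hC
  refine ⟨m, U, j, hj, hU, fun {_} => ?_⟩
  obtain ⟨p, hp⟩ := hgen
  obtain ⟨φ, hφ⟩ := epi_homologyMap_of_epi C b p
  refine ⟨((DerivedCategory.singleFunctorIsoCompQ (EtModW.Mod Λ X) b).app _).hom ≫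
    DerivedCategory.Q.map φ ≫ e.hom, ?_⟩
  have : Epi (H.map (DerivedCategory.Q.map φ)) := by
    have h := (DerivedCategory.homologyFunctorFactors (EtModW.Mod Λ X) b).hom.naturality φ
    have h2 : H.map (DerivedCategory.Q.map φ) = (DerivedCategory.homologyFunctorFactors _ b).hom.app _ ≫
        HomologicalComplex.homologyMap φ b ≫ (DerivedCategory.homologyFunctorFactors _ b).inv.app _ :=
      (Iso.eq_comp_inv ((DerivedCategory.homologyFunctorFactors _ b).app C)).2 (h.trans rfl) |>.trans
        (Category.assoc _ _ _)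
    rw [h2]
    exact @epi_comp _ _ _ _ _ _ inferInstance _ (@epi_comp _ _ _ _ _ _ hφ _
      (@IsIso.epi_of_iso _ _ _ _ _ (Iso.isIso_inv ((DerivedCategory.homologyFunctorFactors (EtModW.Mod Λ X) b).app C))))
  rw [Functor.map_comp, Functor.map_comp]
  exact @epi_comp _ _ _ _ _ _ inferInstance _ (@epi_comp _ _ _ _ _ _ this _
    (@IsIso.epi_of_iso _ _ _ _ _ (H.mapIso e).isIso_hom))

end Groth.Agent.S6699
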