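import Groth.Statements.S6700
import Groth.Agent.Mod48.EtConsEpi
import Groth.Agent.Mod48.EtConsRelRes
import Mathlib.Algebra.Homology.DerivedCategory.TStructure

set_option autoImplicit false
universe u
open CategoryTheory CategoryTheory.Limits AlgebraicGeometry Opposite
attribute [local instance] HasDerivedCategory.standard
open EtModD

namespace Groth.Agent.S6700

open Groth.Agent.Mod48.EtCons

/-- (1) ⇔ (2): let X be a quasi-compact and quasi-separated scheme, Λ a Noetherian ring and K an object
of D(X_et, Λ) which is bounded above. Then every cohomology sheaf of K is a constructible sheaf of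
Λ-modules if and only if K is isomorphic, in D(X_et, Λ), to the image of a bounded above complex of
sheaves of Λ-modules each of whose terms is isomorphic to a finite direct sum of sheaves j_! Λ,
extensions by zero of the constant sheaf Λ along etale morphisms j : U → X with U affine. (A third
equivalent condition, representability by a bounded above complex of flat constructible sheaves of
Λ-modules, is not included. Continuity of the functors V ↦ (V → U → X) between small etale sites,
true for every etale morphism, appears as an instance binder in front of the extension-by-zero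
terms.) -/
theorem result (Λ : Type (u + 1)) [CommRing Λ]
    [IsNoetherianRing Λ] (X : Scheme.{u}) [CompactSpace X] [QuasiSeparatedSpace X] (K : EtModD.D Λ X) (n : ℤ)
    [K.IsLE n] :
    (∀ i : ℤ, EtModW.IsConstructible Λ (EtModD.HD K i)) ↔
      ∃ (C : CochainComplex (EtModW.Mod Λ X) ℤ) (c : ℤ),
        (∀ i : ℤ, c < i → IsZero (C.X i)) ∧
        (∀ i : ℤ, ∃ (m : ℕ) (U : Fin m → Scheme.{u}) (j : ∀ k, U k ⟶ X) (_ : ∀ k, Etale (j k))
            (_ : ∀ k, IsAffine (U k)),
            ∀ [∀ k, EtShriek.JCont (j k)],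
              Nonempty (C.X i ≅ ∐ fun k => (EtSix.extZeroMod Λ (j k)).obj (EtSix.constΛ Λ (U k)))) ∧
        Nonempty (DerivedCategory.Q.obj C ≅ K) := by
  obtain ⟨K₀, ⟨e₀⟩⟩ : ∃ C : CochainComplex (EtModW.Mod Λ X) ℤ, Nonempty (DerivedCategory.Q.obj C ≅ K) :=
    ⟨_, ⟨DerivedCategory.Q.objObjPreimageIso K⟩⟩
  have hHD : ∀ {C : CochainComplex (EtModW.Mod Λ X) ℤ}, (DerivedCategory.Q.obj C ≅ K) → ∀ i,
      Nonempty (C.homology i ≅ EtModD.HD K i) := fun {C} e i =>
    ⟨((DerivedCategory.homologyFunctorFactors (EtModW.Mod Λ X) i).app C).symm ≪≫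
      (DerivedCategory.homologyFunctor (EtModW.Mod Λ X) i).mapIso e⟩
  let P : EtModW.Mod Λ X → Prop := fun F => ∃ (m : ℕ) (U : Fin m → Scheme.{u}) (j : ∀ k, U k ⟶ X)
    (_ : ∀ k, Etale (j k)) (_ : ∀ k, IsAffine (U k)), ∀ [∀ k, EtShriek.JCont (j k)],
      Nonempty (F ≅ ∐ fun k => gen Λ (j k))
  have hPG : ∀ F, P F → EtModW.IsConstructible Λ F := by
    rintro F ⟨m, U, j, hj, hU, hF⟩
    obtain ⟨i⟩ := hF
    exact Groth.Agent.ModCons93.isConstructible_of_iso i.symm
      (isConstructible_coproduct_fin _ fun k => isConstructible_gen (j k))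
  refine ⟨fun h => ?_, ?_⟩
  · obtain ⟨C, α, hC, hCP, hα⟩ := Groth.Agent.Mod48.RelRes.exists_left_resolution' (EtModW.IsConstructible Λ) P
      (fun e h => Groth.Agent.ModCons93.isConstructible_of_iso e h)
      (fun f h₁ h₂ => (isConstructible_kernel_cokernel f h₁ h₂).1)
      isConstructible_extension
      ⟨∐ fun k : Fin 0 => (k.elim0 : EtModW.Mod Λ X), by
          rw [IsZero.iff_id_eq_zero]; exact Limits.Sigma.hom_ext _ _ fun k => k.elim0,
        0, fun k => k.elim0, fun k => k.elim0, fun k => k.elim0, fun k => k.elim0, fun {_} =>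
          ⟨Sigma.mapIso fun k => k.elim0⟩⟩
      hPG
      (fun v _ hB => by
        obtain ⟨m, U, j, hj, hU, hp⟩ := exists_gen_epi v hB
        obtain ⟨p, hp⟩ := hp
        exact ⟨_, p, ⟨m, U, j, hj, hU, fun {_} => ⟨Iso.refl _⟩⟩, hp⟩)
      K₀ (fun i => Groth.Agent.ModCons93.isConstructible_of_iso (hHD e₀ i).some.symm (h i)) n
      (fun i hi => IsZero.of_iso (DerivedCategory.isZero_of_isLE K n i hi) (hHD e₀ i).some)
    refine ⟨C, n, fun i hi => C.isZero_of_isStrictlyLE n i hi, hCP, ⟨?_⟩⟩
    exact (asIso (DerivedCategory.Q.map α)) ≪≫ e₀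
  · rintro ⟨C, c, -, hterms, ⟨e⟩⟩ i
    exact Groth.Agent.ModCons93.isConstructible_of_iso (hHD e i).some
      (isConstructible_homology (C.sc i) (hPG _ (hterms _)) (hPG _ (hterms _)) (hPG _ (hterms _)))

end Groth.Agent.S6700
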