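import Groth.Statements.S6708


set_option autoImplicit false
universe v u
open CategoryTheory
open DEquiv

namespace Groth.Agent.S6708

open CategoryTheory.Limits CategoryTheory.Pretriangulated in
/-- Let D be a pretriangulated category, D' ⊆ D a full triangulated subcategory (given as a property of
objects that is triangulated in Mathlib's sense) and X an object of D. Then the category of arrows E
⟶ X with E in D' is filtered. -/
theorem result
    {D : Type u} [Category.{v} D] [Preadditive D] [HasZeroObject D] [HasShift D ℤ]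
    [∀ n : ℤ, (shiftFunctor D n).Additive] [Pretriangulated D]
    (P : ObjectProperty D) [P.IsTriangulated] (X : D) :
    IsFiltered (CostructuredArrow P.ι X) := by
  have : Nonempty (CostructuredArrow P.ι X) := by
    obtain ⟨Z, hZ, hPZ⟩ := P.exists_prop_of_containsZero
    let f : P.ι.obj ⟨Z, hPZ⟩ ⟶ X := hZ.to_ X
    exact ⟨CostructuredArrow.mk f⟩
  have : IsFilteredOrEmpty (CostructuredArrow P.ι X) := by
    refine ⟨fun A B => ?_, fun A B f g => ?_⟩
    · obtain ⟨Q, hQ, ⟨e'⟩⟩ := ObjectProperty.IsTriangulatedClosed₂.ext₂' _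
        (Pretriangulated.binaryBiproductTriangle_distinguished A.left.obj B.left.obj) A.left.property B.left.property
      let e : A.left.obj ⊞ B.left.obj ≅ Q := e'
      let C' : CostructuredArrow P.ι X := CostructuredArrow.mk (Y := ⟨Q, hQ⟩) (e.inv ≫ biprod.desc A.hom B.hom)
      refine ⟨C', CostructuredArrow.homMk (ObjectProperty.homMk (biprod.inl ≫ e.hom)) ?_, CostructuredArrow.homMk (ObjectProperty.homMk (biprod.inr ≫ e.hom)) ?_, trivial⟩
      · simp [C', ObjectProperty.ι]
      · simp [C', ObjectProperty.ι]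
    · obtain ⟨E, p, q, hT⟩ := Pretriangulated.distinguished_cocone_triangle (f.left.hom - g.left.hom)
      obtain ⟨Q, hQ, ⟨e⟩⟩ := ObjectProperty.IsTriangulatedClosed₃.ext₃' _ hT A.left.property B.left.property
      have h0 : (f.left.hom - g.left.hom) ≫ B.hom = 0 := by
        rw [Preadditive.sub_comp, sub_eq_zero]
        exact (CostructuredArrow.w f).trans (CostructuredArrow.w g).symm
      obtain ⟨h, hh⟩ := Pretriangulated.Triangle.yoneda_exact₂ _ hT B.hom h0
      change B.left.obj ⟶ _ at p
      replace hh : B.hom = p ≫ h := hh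
      change E ≅ Q at e
      change E ⟶ X at h
      replace hh : B.hom = p ≫ h := hh
      have h12 := Pretriangulated.comp_distTriang_mor_zero₁₂ _ hT
      replace h12 : (f.left.hom - g.left.hom) ≫ p = 0 := h12
      let mv : B.left ⟶ ⟨Q, hQ⟩ := ObjectProperty.homMk (p ≫ e.hom)
      let k : P.ι.obj ⟨Q, hQ⟩ ⟶ X := e.inv ≫ h
      refine ⟨CostructuredArrow.mk k, CostructuredArrow.homMk mv ?_, ?_⟩
      · show (p ≫ e.hom) ≫ (e.inv ≫ h) = B.hom
        simp [hh]
      · ext
        show f.left.hom ≫ p ≫ e.hom = g.left.hom ≫ p ≫ e.hom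
        rw [← sub_eq_zero, ← Preadditive.sub_comp, reassoc_of% h12, zero_comp]
  exact {}

end Groth.Agent.S6708
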