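import Groth.Statements.S6711
import Groth.Agent.QFin72.Core
import Groth.Agent.FMK72.Acyclic
import Groth.Agent.LimTop61.ZmtFactor

set_option autoImplicit false
universe u
open CategoryTheory AlgebraicGeometry
open FunMor

namespace Groth.Agent.S6711

set_option backward.isDefEq.respectTransparency.types false
set_option linter.style.haveILetI false
open CategoryTheory.Limits TopologicalSpace Opposite
open Groth.Agent.QC70

theorem not_subsingleton_stalk_restrict {V : Scheme.{u}} (O : V.Opens) (K : V.Modules) (y : O.toScheme)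
    (h : ¬ Subsingleton (K.presheaf.stalk (O.ι y))) :
    ¬ Subsingleton ((K.restrict O.ι).presheaf.stalk y) := fun hs => h <| by
  refine subsingleton_of_forall_eq 0 fun σ => ?_
  obtain ⟨U, hyU, s, rfl⟩ := TopCat.Presheaf.exists_germ_eq K.presheaf σ
  have hle : O.ι ''ᵁ (O.ι ⁻¹ᵁ U) ≤ U := by
    rw [Scheme.Hom.image_preimage_eq_opensRange_inf]; exact inf_le_right
  let s' : Γ(K.restrict O.ι, O.ι ⁻¹ᵁ U) := (K.restrictAppIso O.ι _).inv (res K hle s)
  obtain ⟨W, hW, hyW, h0⟩ := germM_eq_zero (M := K.restrict O.ι) (hx := hyU) (s := s') (hs.elim _ _)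
  have h1 : res K ((O.ι.image_mono hW).trans hle) s = 0 := by
    rw [← res_res hle (O.ι.image_mono hW)]
    exact h0
  have hm : O.ι y ∈ O.ι ''ᵁ W := ⟨y, hyW, rfl⟩
  refine (TopCat.Presheaf.germ_res_apply K.presheaf (homOfLE ((O.ι.image_mono hW).trans hle)) (O.ι y)
    hm s).symm.trans ?_
  exact (congrArg (K.presheaf.germ _ (O.ι y) hm) h1).trans
    (map_zero (K.presheaf.germ _ (O.ι y) hm).hom)


open CategoryTheory.Limits in
/-- Suppose V and X are Noetherian schemes and f : V ⟶ X is separated and quasi-finite (quasi-finite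
meaning locally quasi-finite and of finite type). If there is a coherent O_V-module K whose support
is all of V such that f_* K is coherent and R^q f_* K = 0 for every q > 0, then f is finite. -/
theorem result
    {V X : Scheme.{u}} [IsNoetherian V] [IsNoetherian X] (f : V ⟶ X)
    [LocallyQuasiFinite f] [LocallyOfFiniteType f] [QuasiCompact f] [IsSeparated f]
    [HasInjectiveResolutions V.Modules]
    (K : V.Modules) (hK : Coh.IsCoh K) (hsupp : CohB1.support K = Set.univ)
    (hpush : Coh.IsCoh ((Coh.push f).obj K))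
    (hvan : ∀ q : ℕ, 0 < q → IsZero ((Coh.Rpush f q).obj K)) : IsFinite f := by
  haveI : K.IsQuasicoherent := hK.1
  haveI : ((Coh.push f).obj K).IsQuasicoherent := hpush.1
  haveI : ((Coh.push f).obj K).IsFiniteType := hpush.2
  refine IsZariskiLocalAtTarget.of_iSup_eq_top (P := @IsFinite) (fun U : X.affineOpens => U.1)
    (iSup_affineOpens_eq_top X) fun ⟨U, hU⟩ => ?_
  let g := f ∣_ U
  haveI : IsAffine U.toScheme := hU
  haveI : LocallyQuasiFinite g := IsZariskiLocalAtTarget.restrict (P := @LocallyQuasiFinite) inferInstance U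
  haveI : LocallyOfFiniteType g := IsZariskiLocalAtTarget.restrict (P := @LocallyOfFiniteType) inferInstance U
  haveI : QuasiCompact g := IsZariskiLocalAtTarget.restrict (P := @QuasiCompact) inferInstance U
  haveI : IsSeparated g := IsZariskiLocalAtTarget.restrict (P := @IsSeparated) inferInstance U
  obtain ⟨T, j, π, hj, hjqc, -, hπ, hjπ⟩ := Groth.Agent.LimTop61.exists_openImmersion_finite g
  haveI : IsAffine T := isAffine_of_isAffineHom π
  haveI : IsLocallyNoetherian T := LocallyOfFiniteType.isLocallyNoetherian π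
  haveI : IsNoetherianRing Γ(T, ⊤) := IsLocallyNoetherian.component_noetherian ⟨⊤, isAffineOpen_top T⟩
  let O := f ⁻¹ᵁ U
  let j' : O.toScheme ⟶ Spec Γ(T, ⊤) := j ≫ T.isoSpec.hom
  haveI : CompactSpace O.toScheme := QuasiCompact.compactSpace_of_compactSpace g
  haveI : QuasiSeparatedSpace O.toScheme := quasiSeparatedSpace_of_quasiSeparated g
  let M := K.restrict O.ι
  haveI : M.IsQuasicoherent :=
    isQuasicoherent_of_iso ((Scheme.Modules.restrictFunctorIsoPullback O.ι).app K).symm
      (Groth.Agent.QCPull72.isQuasicoherent_pullback O.ι K)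
  have hv : ∀ q : ℕ, Subsingleton (Groth.Agent.Coh69.HE (Coh.toAb M) (q + 1) (⊤ : O.toScheme.Opens)) := by
    intro q
    rw [Groth.Agent.FMK72.subsingleton_HE_restrict_iff, O.ι_image_top]
    obtain ⟨eR⟩ := Groth.Agent.GSS45.nonempty_toAb_Rpush f K (q + 1)
    exact Groth.Agent.Serre69.subsingleton_HE_preimage f K q
      ((Functor.map_isZero (SheafOfModules.toSheaf X.ringCatSheaf) (hvan (q + 1) q.succ_pos)).of_iso eR.symm) hU
  have hfin : letI := Groth.Agent.QFin72.modB j' M; Module.Finite Γ(T, ⊤) Γ(M, (⊤ : O.toScheme.Opens)) := by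
    letI := Groth.Agent.QFin72.modB j' M
    obtain ⟨S, hS⟩ := (finite_sections_of_isFiniteType ((Coh.push f).obj K) hU).fg_top
    have hle : O.ι ''ᵁ ⊤ ≤ O := O.ι_image_top.le
    let r : Γ((Coh.push f).obj K, U) → Γ(M, (⊤ : O.toScheme.Opens)) := fun s =>
      (K.restrictAppIso O.ι ⊤).inv (res K hle s)
    have hglob : ∀ a, Groth.Agent.QFin72.glob j' a = j.appTop a := fun a => by
      show (j ≫ T.isoSpec.hom).appTop ((Scheme.ΓSpecIso Γ(T, ⊤)).inv a) = _
      rw [Scheme.Hom.comp_appTop, ConcreteCategory.comp_apply, Scheme.isoSpec_hom,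
        Scheme.toSpecΓ_appTop, Iso.inv_hom_id_apply]
    classical
    refine ⟨⟨S.image r, eq_top_iff.2 fun n hn0 => ?_⟩⟩
    clear hn0
    obtain ⟨n, rfl⟩ : ∃ s, r s = n := by
      refine ⟨res K O.ι_image_top.ge ((K.restrictAppIso O.ι ⊤).hom n), ?_⟩
      show (K.restrictAppIso O.ι ⊤).inv (res K hle (res K O.ι_image_top.ge _)) = n
      rw [res_res]
      erw [res_self]
      exact congr($((K.restrictAppIso O.ι ⊤).hom_inv_id) n)
    have hn : n ∈ Submodule.span Γ(X, U) (S : Set Γ((Coh.push f).obj K, U)) := hS ▸ trivial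
    induction hn using Submodule.span_induction with
    | mem s hs => exact Submodule.subset_span (Finset.mem_image_of_mem r hs)
    | zero =>
      have h0 : r 0 = 0 := by
        show (K.restrictAppIso O.ι ⊤).inv (res K hle 0) = 0
        rw [res_zero]; exact map_zero _
      rw [h0]; exact zero_mem _
    | add s t _ _ hs ht =>
      have ha : r (s + t) = r s + r t := by
        show (K.restrictAppIso O.ι ⊤).inv (res K hle (s + t)) = _
        refine (congrArg _ (map_add (K.presheaf.map (homOfLE hle).op).hom s t)).trans ?_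
        exact map_add _ _ _
      rw [ha]; exact add_mem hs ht
    | smul c s _ hs =>
      let c' : Γ(U.toScheme, ⊤) := U.topIso.inv c
      have hc : r (c • s) = π.appTop c' • r s := by
        show _ = Groth.Agent.QFin72.glob j' (π.appTop c') • r s
        rw [hglob, ← ConcreteCategory.comp_apply, ← Scheme.Hom.comp_appTop, hjπ, morphismRestrict_appTop]
        show (K.restrictAppIso O.ι ⊤).inv (res K hle (f.app U c • (show Γ(K, O) from s))) = _
        rw [res_smul]
        refine (ConcreteCategory.congr_hom (Scheme.Modules.smul_restrictAppIso_inv O.ι K ⊤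
          (resO V hle (f.app U c))) (res K hle s)).trans ?_
        refine congrArg (fun z : Γ(O.toScheme, ⊤) => z • r s) ?_
        rw [Scheme.Opens.ι_appIso]
        show V.presheaf.map _ (f.app U c) = V.presheaf.map _ (f.app (U.ι ''ᵁ ⊤) (U.topIso.inv c))
        refine Eq.trans ?_ (congrArg _ (ConcreteCategory.congr_hom (f.naturality (eqToHom U.ι_image_top).op) c).symm)
        refine Eq.trans ?_ (ConcreteCategory.congr_hom (V.presheaf.map_comp _ _) (f.app U c))
        rfl
      rw [hc]
      exact Submodule.smul_mem _ _ hs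
  have hcl := Groth.Agent.QFin72.isClosed_range j' M hv hfin fun y =>
    not_subsingleton_stalk_restrict O K y (hsupp.ge trivial)
  haveI : IsClosedImmersion j' := IsClosedImmersion.of_isPreimmersion j' hcl
  haveI : IsClosedImmersion j := by
    have : IsClosedImmersion (j' ≫ T.isoSpec.inv) := inferInstance
    simpa [j'] using this
  rw [show f ∣_ U = j ≫ π from hjπ.symm]
  infer_instance

end Groth.Agent.S6711
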