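import Groth.Statements.S6722
import Groth.Agent.QCSupp72.Generation

set_option autoImplicit false
universe u
open CategoryTheory AlgebraicGeometry
open FunMor

namespace Groth.Agent.S6722

open CategoryTheory.Limits in
/-- Let X be a quasi-compact and quasi-separated scheme and F a finitely presented (quasi-coherent)
O_X-module. Then every quasi-coherent O_X-module E with Supp(E) ⊆ Supp(F) lies in the smallest Serre
subcategory of QCoh(O_X) containing F which is closed under extensions and arbitrary direct sums.
Stated as: E has every property P of O_X-modules such that P holds for F, P is a Serre class on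
quasi-coherent modules (in a short exact sequence of quasi-coherent modules the middle term has P
iff the outer terms do), and P is closed under direct sums of quasi-coherent modules. (The reverse
inclusion, that such modules form a class of this kind, is not restated.) -/
theorem result
    (X : Scheme.{u}) [CompactSpace X] [QuasiSeparatedSpace X]
    (F : X.Modules) (hFq : Coh.IsQCoh F) (hF : CohB1.IsFP F)
    (P : ObjectProperty X.Modules) (hPF : P F)
    (hSerre : ∀ S : ShortComplex X.Modules, S.ShortExact → Coh.IsQCoh S.X₁ → Coh.IsQCoh S.X₂ →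
      Coh.IsQCoh S.X₃ → (P S.X₂ ↔ P S.X₁ ∧ P S.X₃))
    (hsum : ∀ (ι : Type u) (M : ι → X.Modules), (∀ i, Coh.IsQCoh (M i)) → (∀ i, P (M i)) →
      P (∐ M))
    (E : X.Modules) (hE : Coh.IsQCoh E) (hsupp : CohB1.support E ⊆ CohB1.support F) :
    P E := by
  have iso : ∀ {M N : X.Modules}, Coh.IsQCoh M → Coh.IsQCoh N → (M ≅ N) → P M → P N := by
    intro M N hM hN e hPM
    have h0 : Coh.IsQCoh (cokernel (𝟙 F)) :=
      haveI : F.IsQuasicoherent := hFq
      Groth.Agent.QC70.isQuasicoherent_cokernel (𝟙 F)
    have hP0 : P (cokernel (𝟙 F)) :=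
      ((hSerre (ShortComplex.mk (𝟙 F) (cokernel.π (𝟙 F)) (cokernel.condition _))
        { exact := ShortComplex.exact_of_g_is_cokernel _ (cokernelIsCokernel _) }
        hFq hFq h0).mp hPF).2
    refine (hSerre (ShortComplex.mk e.hom (0 : N ⟶ cokernel (𝟙 F)) comp_zero) ?_ hM hN h0).mpr ⟨hPM, hP0⟩
    have : Epi (0 : N ⟶ cokernel (𝟙 F)) :=
      ⟨fun _ _ _ => (Limits.IsZero.of_iso (isZero_zero _) (cokernel.ofEpi (𝟙 F))).eq_of_src _ _⟩
    exact { exact := (ShortComplex.exact_iff_epi _ rfl).mpr (inferInstance : Epi e.hom) }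
  let P' : ObjectProperty (QCohCat.QCoh X) := fun M => P M.obj
  refine QCSupp72.prop_of_support_subset P' (fun S hS => ?_) (fun ι M hM => ?_)
    (F := (⟨F, hFq⟩ : QCohCat.QCoh X)) hF hPF ⟨E, hE⟩ hsupp
  · exact hSerre (S.map (QCohCat.isQCoh X).ι) (hS.map_of_exact _) S.X₁.property S.X₂.property
      S.X₃.property
  · refine iso ?_ (∐ M).property (PreservesCoproduct.iso (QCohCat.isQCoh X).ι M).symm
      (hsum ι _ (fun i => (M i).property) hM)
    haveI : ((QCohCat.isQCoh X).ι.obj (∐ M)).IsQuasicoherent := (∐ M).property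
    exact Groth.Agent.QC70.isQuasicoherent_of_iso (PreservesCoproduct.iso (QCohCat.isQCoh X).ι M) (∐ M).property

end Groth.Agent.S6722
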