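import Groth.Statements.S6724
import Groth.Agent.GRec72.Main
import Groth.Agent.QCCohInd72.Basic

set_option autoImplicit false
universe u
open CategoryTheory AlgebraicGeometry
open FunMor

namespace Groth.Agent.S6724

open AlgebraicGeometry Limits QCCohInd72 IndExt72 in
theorem exists_extension_equiv {X Y : Scheme.{u}} [IsNoetherian X] [IsNoetherian Y]
    (F : (cohP X).FullSubcategory ≌ (cohP Y).FullSubcategory) :
    ∃ e : QCohCat.QCoh X ≌ QCohCat.QCoh Y,
      Nonempty ((cohP X).ι ⋙ e.functor ≅ F.functor ⋙ (cohP Y).ι) := by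
  obtain ⟨G, hG, ⟨g⟩⟩ := exists_extension (gen_cohP X) (F.functor ⋙ (cohP Y).ι)
  obtain ⟨H, hH, ⟨h⟩⟩ := exists_extension (gen_cohP Y) (F.inverse ⋙ (cohP X).ι)
  haveI := hG
  haveI := hH
  obtain ⟨u⟩ := nonempty_iso
    (isExtension_of_preservesFilteredColimits (gen_cohP X) (𝟭 (QCohCat.QCoh X)))
    (isExtension_of_preservesFilteredColimits (gen_cohP X) (G ⋙ H))
    (Functor.rightUnitor _ ≪≫ (Functor.leftUnitor _).symm ≪≫
      Functor.isoWhiskerRight F.unitIso _ ≪≫ Functor.associator _ _ _ ≪≫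
      Functor.isoWhiskerLeft F.functor h.symm ≪≫ (Functor.associator _ _ _).symm ≪≫
      Functor.isoWhiskerRight g.symm H ≪≫ Functor.associator _ _ _)
  obtain ⟨v⟩ := nonempty_iso
    (isExtension_of_preservesFilteredColimits (gen_cohP Y) (H ⋙ G))
    (isExtension_of_preservesFilteredColimits (gen_cohP Y) (𝟭 (QCohCat.QCoh Y)))
    ((Functor.associator _ _ _).symm ≪≫ Functor.isoWhiskerRight h G ≪≫
      Functor.associator _ _ _ ≪≫ Functor.isoWhiskerLeft F.inverse g ≪≫
      (Functor.associator _ _ _).symm ≪≫ Functor.isoWhiskerRight F.counitIso _ ≪≫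
      Functor.leftUnitor _ ≪≫ (Functor.rightUnitor _).symm)
  exact ⟨CategoryTheory.Equivalence.mk G H u v, ⟨g⟩⟩


/-- Let X and Y be Noetherian schemes and F : Coh(O_X) ⥤ Coh(O_Y) an equivalence of categories. Then
there exist an isomorphism of schemes f : Y ≅ X and an invertible O_Y-module L such that F(G) ≅ f^*
G ⊗ L functorially in the coherent O_X-module G (an isomorphism between F followed by the inclusion
into O_Y-modules and the composite of the inclusion, f^* and - ⊗ L). -/
theorem result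
    (X Y : Scheme.{u}) [IsNoetherian X] [IsNoetherian Y]
    (F : ObjectProperty.FullSubcategory (fun M : X.Modules => Coh.IsCoh M) ≌ ObjectProperty.FullSubcategory (fun M : Y.Modules => Coh.IsCoh M)) :
    ∃ (f : Y ≅ X) (L : Y.Modules), PicF.IsInvertible L ∧
      Nonempty (F.functor ⋙ ObjectProperty.ι (fun M : Y.Modules => Coh.IsCoh M) ≅
        ObjectProperty.ι (fun M : X.Modules => Coh.IsCoh M) ⋙ Scheme.Modules.pullback f.hom ⋙ DCoh.tensorRightMod L) := by
  open QCCohInd72 in
  obtain ⟨e, ⟨i⟩⟩ := exists_extension_equiv (((cohEquiv X).symm.trans F).trans (cohEquiv Y))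
  obtain ⟨f, L, hL, ⟨j⟩⟩ := GRec72.exists_iso_pullback_tensor e
  refine ⟨f, L, hL, ⟨?_⟩⟩
  let jc := (cohEquiv X).functor ⋙ (cohP X).ι
  refine ?_ ≪≫ Functor.isoWhiskerLeft jc j ≪≫ Iso.refl _
  exact NatIso.ofComponents
    (fun M => (QCohCat.isQCoh Y).ι.mapIso (i.symm.app ((QCCohInd72.cohEquiv X).functor.obj M)))
    fun {M N} φ => congrArg InducedCategory.Hom.hom
      (i.inv.naturality ((QCCohInd72.cohEquiv X).functor.map φ))

end Groth.Agent.S6724
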