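import Groth.Statements.S6730
import Groth.Agent.QCCohInd72.Basic

set_option autoImplicit false
universe u
open CategoryTheory CategoryTheory.Limits AlgebraicGeometry
open FunMor

namespace Groth.Agent.S6730

open Groth.Agent Groth.Agent.QCCohInd72 in
attribute [local instance] hasBinaryBiproducts_of_finite_biproducts in
set_option backward.isDefEq.respectTransparency.types false in
theorem main {X Y : Scheme.{u}} [IsNoetherian X] [IsNoetherian Y]
    (F : ObjectProperty.FullSubcategory (fun M : X.Modules => Coh.IsCoh M) ⥤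
      ObjectProperty.FullSubcategory (fun M : Y.Modules => Coh.IsCoh M))
    (G : QCohCat.QCoh X ⥤ QCohCat.QCoh Y) [PreservesFilteredColimitsOfSize.{u, u} G]
    (e : (cohP X).ι ⋙ G ≅ ((cohEquiv X).inverse ⋙ F ⋙ (cohEquiv Y).functor) ⋙ (cohP Y).ι) :
    (F.Additive → ∀ J : Type u, PreservesColimitsOfShape (Discrete J) G) ∧
      (PreservesFiniteLimits F → PreservesFiniteLimits G) ∧
      (PreservesFiniteColimits F → PreservesFiniteColimits G) := by
  have hP := gen_cohP X
  have hG := IndExt72.isExtension_of_preservesFilteredColimits hP G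
  let F₀ := (cohEquiv X).inverse ⋙ F ⋙ (cohEquiv Y).functor
  have hadd : F₀.Additive → G.Additive := fun h => by
    have : ((cohP X).ι ⋙ G).Additive := Functor.additive_of_iso e.symm
    exact hG.additive hP
  have : HasFiniteBiproducts (cohP X).FullSubcategory := HasFiniteBiproducts.of_hasFiniteProducts
  have : HasFiniteBiproducts (cohP Y).FullSubcategory := HasFiniteBiproducts.of_hasFiniteProducts
  refine ⟨fun h J => ?_, fun h => ?_, fun h => ?_⟩
  · have := hadd inferInstance
    exact IndExt72.preservesColimitsOfShape_discrete_of_filtered G J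
  · have : PreservesFiniteLimits F₀ := comp_preservesFiniteLimits _ _
    have : F₀.Additive :=
      have := preservesBinaryBiproducts_of_preservesBinaryProducts F₀
      Functor.additive_of_preservesBinaryBiproducts _
    have := hadd this
    have h1 : ∀ ⦃M N : (cohP X).FullSubcategory⦄ (g : M ⟶ N),
        PreservesLimit (parallelPair g 0) ((cohP X).ι ⋙ G) := fun M N g => by
      have := (cohP Y).preservesKernels_ι (F₀.map g)
      have : PreservesLimit (parallelPair g 0 ⋙ F₀) (cohP Y).ι :=
        preservesLimit_of_iso_diagram _ (K₁ := parallelPair (F₀.map g) 0)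
          (parallelPair.ext (Iso.refl _) (Iso.refl _) ((Category.comp_id _).trans (Category.id_comp (F₀.map g)).symm)
            ((Category.comp_id _).trans (((Category.id_comp _).trans (F₀.map_zero _ _)).symm)))
      exact preservesLimit_of_natIso _ e.symm
    have : ∀ {A B : QCohCat.QCoh X} (f : A ⟶ B), PreservesLimit (parallelPair f 0) G := fun f =>
      IndExt72.preservesKernel G hP (fun J _ _ => inferInstance) (fun J _ _ => inferInstance)
        (IndExt72.preservesLimit_of_ι G h1) f
    exact Functor.preservesFiniteLimits_of_preservesKernels G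
  · have : PreservesFiniteColimits F₀ := comp_preservesFiniteColimits _ _
    have : F₀.Additive :=
      have := preservesBinaryBiproducts_of_preservesBinaryCoproducts F₀
      Functor.additive_of_preservesBinaryBiproducts _
    have := hadd this
    have h1 : ∀ ⦃M N : (cohP X).FullSubcategory⦄ (g : M ⟶ N),
        PreservesColimit (parallelPair g 0) ((cohP X).ι ⋙ G) := fun M N g => by
      have := (cohP Y).preservesCokernels_ι (F₀.map g)
      have : PreservesColimit (parallelPair g 0 ⋙ F₀) (cohP Y).ι :=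
        preservesColimit_of_iso_diagram _ (K₁ := parallelPair (F₀.map g) 0)
          (parallelPair.ext (Iso.refl _) (Iso.refl _) ((Category.comp_id _).trans (Category.id_comp (F₀.map g)).symm)
            ((Category.comp_id _).trans (((Category.id_comp _).trans (F₀.map_zero _ _)).symm)))
      exact preservesColimit_of_natIso _ e.symm
    have : ∀ {A B : QCohCat.QCoh X} (f : A ⟶ B), PreservesColimit (parallelPair f 0) G := fun f =>
      IndExt72.preservesCokernel G hP (IndExt72.preservesColimit_of_ι G h1) f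
    exact Functor.preservesFiniteColimits_of_preservesCokernels G


/-- Let X and Y be Noetherian schemes and F : Coh(O_X) ⥤ Coh(O_Y) a functor. Then F extends to a functor
F' : QCoh(O_X) ⥤ QCoh(O_Y) which commutes with filtered colimits, uniquely up to isomorphism;
moreover for any such extension F': if F is additive, F' commutes with arbitrary direct sums, and if
F is left exact (resp. right exact), so is F'. -/
theorem result
    (X Y : Scheme.{u}) [IsNoetherian X] [IsNoetherian Y]
    (F : ObjectProperty.FullSubcategory (fun M : X.Modules => Coh.IsCoh M) ⥤ ObjectProperty.FullSubcategory (fun M : Y.Modules => Coh.IsCoh M)) :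
    (∃ F' : QCohCat.QCoh X ⥤ QCohCat.QCoh Y, PreservesFilteredColimitsOfSize.{u, u} F' ∧
      Nonempty ((ObjectProperty.ιOfLE (P := (fun M : X.Modules => Coh.IsCoh M)) (P' := QCohCat.isQCoh X) (fun _ h => h.1)) ⋙ F' ≅ F ⋙ (ObjectProperty.ιOfLE (P := (fun M : Y.Modules => Coh.IsCoh M)) (P' := QCohCat.isQCoh Y) (fun _ h => h.1)))) ∧
    (∀ F₁ F₂ : QCohCat.QCoh X ⥤ QCohCat.QCoh Y, PreservesFilteredColimitsOfSize.{u, u} F₁ →
      PreservesFilteredColimitsOfSize.{u, u} F₂ →
      Nonempty ((ObjectProperty.ιOfLE (P := (fun M : X.Modules => Coh.IsCoh M)) (P' := QCohCat.isQCoh X) (fun _ h => h.1)) ⋙ F₁ ≅ F ⋙ (ObjectProperty.ιOfLE (P := (fun M : Y.Modules => Coh.IsCoh M)) (P' := QCohCat.isQCoh Y) (fun _ h => h.1))) →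
      Nonempty ((ObjectProperty.ιOfLE (P := (fun M : X.Modules => Coh.IsCoh M)) (P' := QCohCat.isQCoh X) (fun _ h => h.1)) ⋙ F₂ ≅ F ⋙ (ObjectProperty.ιOfLE (P := (fun M : Y.Modules => Coh.IsCoh M)) (P' := QCohCat.isQCoh Y) (fun _ h => h.1))) → Nonempty (F₁ ≅ F₂)) ∧
    ∀ F' : QCohCat.QCoh X ⥤ QCohCat.QCoh Y, PreservesFilteredColimitsOfSize.{u, u} F' →
      Nonempty ((ObjectProperty.ιOfLE (P := (fun M : X.Modules => Coh.IsCoh M)) (P' := QCohCat.isQCoh X) (fun _ h => h.1)) ⋙ F' ≅ F ⋙ (ObjectProperty.ιOfLE (P := (fun M : Y.Modules => Coh.IsCoh M)) (P' := QCohCat.isQCoh Y) (fun _ h => h.1))) →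
      (F.Additive → ∀ J : Type u, PreservesColimitsOfShape (Discrete J) F') ∧
      (PreservesFiniteLimits F → PreservesFiniteLimits F') ∧
      (PreservesFiniteColimits F → PreservesFiniteColimits F') := by
  have hP := Groth.Agent.QCCohInd72.gen_cohP X
  let EX := Groth.Agent.QCCohInd72.cohEquiv X
  let EY := Groth.Agent.QCCohInd72.cohEquiv Y
  let P := Groth.Agent.QCCohInd72.cohP X
  let F₀ := (EX.inverse ⋙ F ⋙ EY.functor) ⋙ (Groth.Agent.QCCohInd72.cohP Y).ι
  have conv : ∀ F' : QCohCat.QCoh X ⥤ QCohCat.QCoh Y,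
      Nonempty ((ObjectProperty.ιOfLE (P := (fun M : X.Modules => Coh.IsCoh M)) (P' := QCohCat.isQCoh X) (fun _ h => h.1)) ⋙ F' ≅ F ⋙ (ObjectProperty.ιOfLE (P := (fun M : Y.Modules => Coh.IsCoh M)) (P' := QCohCat.isQCoh Y) (fun _ h => h.1))) →
      Nonempty (P.ι ⋙ F' ≅ F₀) := fun F' ⟨e⟩ =>
    ⟨NatIso.ofComponents (fun M => e.app (EX.inverse.obj M))
      (fun {M N} f => e.hom.naturality (EX.inverse.map f))⟩
  have conv' : ∀ F' : QCohCat.QCoh X ⥤ QCohCat.QCoh Y, Nonempty (P.ι ⋙ F' ≅ F₀) →
      Nonempty ((ObjectProperty.ιOfLE (P := (fun M : X.Modules => Coh.IsCoh M)) (P' := QCohCat.isQCoh X) (fun _ h => h.1)) ⋙ F' ≅ F ⋙ (ObjectProperty.ιOfLE (P := (fun M : Y.Modules => Coh.IsCoh M)) (P' := QCohCat.isQCoh Y) (fun _ h => h.1))) := fun F' ⟨e⟩ =>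
    ⟨NatIso.ofComponents (fun M => e.app (EX.functor.obj M))
      (fun {M N} f => e.hom.naturality (EX.functor.map f))⟩
  refine ⟨?_, ?_, ?_⟩
  · obtain ⟨G, hG, he⟩ := Groth.Agent.IndExt72.exists_extension hP F₀
    exact ⟨G, hG, conv' G he⟩
  · intro F₁ F₂ h₁ h₂ e₁ e₂
    obtain ⟨e₁'⟩ := conv F₁ e₁
    obtain ⟨e₂'⟩ := conv F₂ e₂
    have := h₁
    have := h₂
    exact Groth.Agent.IndExt72.nonempty_iso
      (Groth.Agent.IndExt72.isExtension_of_preservesFilteredColimits hP F₁)
      (Groth.Agent.IndExt72.isExtension_of_preservesFilteredColimits hP F₂) (e₁' ≪≫ e₂'.symm)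
  · intro F' h e
    obtain ⟨e'⟩ := conv F' e
    have := h
    exact main F F' e'

end Groth.Agent.S6730
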