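import Groth.Statements.S6731
import Mathlib.LinearAlgebra.Dual.Lemmas


set_option autoImplicit false
universe w v u
open CategoryTheory
open DEquiv

namespace Groth.Agent.S6731

open CategoryTheory.Limits CategoryTheory.Pretriangulated in
/-- Let k be a field and T a k-linear triangulated category with dim_k Hom(X, Y) < ∞ for all X, Y. Let
(S, c) and (S', c') be Serre functors: k-linear equivalences T ⥤ T with k-linear isomorphisms
c_{X,Y} : Hom(X, Y) ≅ Hom(Y, S X)^∨ natural in X and Y (likewise c'). Then there is a unique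
isomorphism of functors φ : S ≅ S' compatible with c and c', i.e. c_{X,Y}(f) is c'_{X,Y}(f) composed
with postcomposition by φ_X. -/
theorem result
    {k : Type w} [Field k]
    {T : Type u} [Category.{v} T] [Preadditive T] [Linear k T] [HasZeroObject T] [HasShift T ℤ]
    [∀ n : ℤ, (shiftFunctor T n).Additive] [∀ n : ℤ, (shiftFunctor T n).Linear k] [Pretriangulated T]
    [IsTriangulated T] [∀ X Y : T, Module.Finite k (X ⟶ Y)]
    (S : T ≌ T) [S.functor.Additive] [S.functor.Linear k]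
    (c : ∀ X Y : T, (X ⟶ Y) ≃ₗ[k] Module.Dual k (Y ⟶ S.functor.obj X))
    (hc₁ : ∀ (X Y Y' : T) (f : X ⟶ Y) (g : Y ⟶ Y'),
      c X Y' (f ≫ g) = (c X Y f) ∘ₗ Linear.leftComp k (S.functor.obj X) g)
    (hc₂ : ∀ (X' X Y : T) (a : X' ⟶ X) (f : X ⟶ Y),
      c X' Y (a ≫ f) = (c X Y f) ∘ₗ Linear.rightComp k Y (S.functor.map a))
    (S' : T ≌ T) [S'.functor.Additive] [S'.functor.Linear k]
    (c' : ∀ X Y : T, (X ⟶ Y) ≃ₗ[k] Module.Dual k (Y ⟶ S'.functor.obj X))
    (hc'₁ : ∀ (X Y Y' : T) (f : X ⟶ Y) (g : Y ⟶ Y'),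
      c' X Y' (f ≫ g) = (c' X Y f) ∘ₗ Linear.leftComp k (S'.functor.obj X) g)
    (hc'₂ : ∀ (X' X Y : T) (a : X' ⟶ X) (f : X ⟶ Y),
      c' X' Y (a ≫ f) = (c' X Y f) ∘ₗ Linear.rightComp k Y (S'.functor.map a)) :
    ∃! φ : S.functor ≅ S'.functor, ∀ (X Y : T) (f : X ⟶ Y),
      c X Y f = (c' X Y f) ∘ₗ Linear.rightComp k Y (φ.hom.app X) := by
  let e : ∀ X Y : T, Module.Dual k (Y ⟶ S'.functor.obj X) ≃ₗ[k] Module.Dual k (Y ⟶ S.functor.obj X) :=
    fun X Y => (c' X Y).symm.trans (c X Y)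
  let ψ : ∀ X Y : T, (Y ⟶ S.functor.obj X) ≃ₗ[k] (Y ⟶ S'.functor.obj X) :=
    fun X Y => (Module.evalEquiv k _).trans ((e X Y).dualMap.trans (Module.evalEquiv k _).symm)
  have hψ : ∀ (X Y : T) (x : Y ⟶ S.functor.obj X) (f : X ⟶ Y), c' X Y f (ψ X Y x) = c X Y f x := by
    intro X Y x f
    simp [ψ, e, Module.apply_evalEquiv_symm_apply]
  have dsep : ∀ (X Y : T) (x y : Y ⟶ S'.functor.obj X), (∀ f, c' X Y f x = c' X Y f y) → x = y := by
    intro X Y x y h
    refine (Module.evalEquiv k _).injective (LinearMap.ext fun φ => ?_)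
    simpa using h ((c' X Y).symm φ)
  have dsep' : ∀ (X Y : T) (x y : Y ⟶ S.functor.obj X), (∀ f, c X Y f x = c X Y f y) → x = y := by
    intro X Y x y h
    refine (Module.evalEquiv k _).injective (LinearMap.ext fun φ => ?_)
    simpa using h ((c X Y).symm φ)
  have nat1 : ∀ (X Y Y' : T) (g : Y ⟶ Y') (x : Y' ⟶ S.functor.obj X), ψ X Y (g ≫ x) = g ≫ ψ X Y' x := by
    intro X Y Y' g x
    refine dsep _ _ _ _ fun f => ?_
    rw [hψ]
    have h1 := LinearMap.congr_fun (hc₁ X Y Y' f g) x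
    have h2 := LinearMap.congr_fun (hc'₁ X Y Y' f g) (ψ X Y' x)
    simp at h1 h2
    rw [← h1, ← h2, hψ]
  let φ0 : ∀ X : T, S.functor.obj X ⟶ S'.functor.obj X := fun X => ψ X _ (𝟙 _)
  have hφ : ∀ (X Y : T) (x : Y ⟶ S.functor.obj X), ψ X Y x = x ≫ φ0 X := fun X Y x => by
    rw [← nat1, Category.comp_id]
  have iso : ∀ X, IsIso (φ0 X) := fun X => by
    refine ⟨(ψ X _).symm (𝟙 _), ?_, ?_⟩
    · apply (ψ X _).injective
      rw [nat1, LinearEquiv.apply_symm_apply, Category.comp_id]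
    · rw [← hφ, LinearEquiv.apply_symm_apply]
  have nat : ∀ (X' X : T) (a : X' ⟶ X), S.functor.map a ≫ φ0 X = φ0 X' ≫ S'.functor.map a := by
    intro X' X a
    refine dsep _ _ _ _ fun f => ?_
    rw [← hφ, hψ]
    have h1 := LinearMap.congr_fun (hc'₂ X' X _ a f) (φ0 X')
    simp at h1
    rw [← h1]
    have h2 := LinearMap.congr_fun (hc₂ X' X _ a f) (𝟙 _)
    simp at h2
    rw [← h2]
    exact (hψ X' _ (𝟙 _) (a ≫ f)).symm
  refine ⟨NatIso.ofComponents (fun X => @asIso _ _ _ _ (φ0 X) (iso X)) (fun {X' X} a => by simpa using nat X' X a), ?_, ?_⟩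
  · intro X Y f
    refine LinearMap.ext fun x => ?_
    simp [← hφ, hψ]
  · intro φ' h'
    ext X
    simp only [NatIso.ofComponents_hom_app, asIso_hom]
    refine dsep _ _ _ _ fun f => ?_
    have h1 := LinearMap.congr_fun (h' X _ f) (𝟙 _)
    simp at h1
    rw [← h1]
    exact (hψ X _ (𝟙 _) f).symm

end Groth.Agent.S6731
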