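import Groth.Statements.S6736
import Groth.Agent.FMK72.Acyclic

set_option autoImplicit false
universe u
open CategoryTheory CategoryTheory.Limits AlgebraicGeometry
open FunMor

namespace Groth.Agent.S6736

set_option backward.isDefEq.respectTransparency.types false

/-- Let R be a ring and X, Y schemes over R with X quasi-compact with affine diagonal. Let K be a
quasi-coherent module on X ×_R Y which is flat over X and such that R^q pr_{2,*}(pr_1^* F ⊗ K) = 0
for all quasi-coherent O_X-modules F and all q > 0. Then for every scheme T over R and every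
quasi-coherent module F on T ×_R X, R^q pr_{13,*}(pr_{12}^* F ⊗ pr_{23}^* K) = 0 for all q > 0. Here
T ×_R X ×_R Y is realised as (T ×_R X) ×_X (X ×_R Y), with pr_{12}, pr_{23} its two projections and
pr_{13} the morphism to T ×_R Y determined by its two components. (Higher direct images as right
derived functors; the injective-resolution instances hold for module categories of schemes but are
carried as binders.) -/
theorem result
    (R : Type u) [CommRing R] (X Y : Scheme.{u}) [X.Over (Spec (.of R))] [Y.Over (Spec (.of R))]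
    [CompactSpace X] [IsAffineHom (pullback.diagonal (X ↘ Spec (.of R)))]
    [HasInjectiveResolutions (pullback (X ↘ Spec (.of R)) (Y ↘ Spec (.of R))).Modules]
    (K : (pullback (X ↘ Spec (.of R)) (Y ↘ Spec (.of R))).Modules) (hKq : Coh.IsQCoh K)
    (hKfl : FlatMod.IsFlatOver (pullback.fst (X ↘ Spec (.of R)) (Y ↘ Spec (.of R))) K)
    (hKac : ∀ (F : X.Modules), Coh.IsQCoh F → ∀ q : ℕ, 0 < q →
      IsZero ((Coh.Rpush (pullback.snd (X ↘ Spec (.of R)) (Y ↘ Spec (.of R))) q).obj
        (CohB1.tensorMod ((Scheme.Modules.pullback (pullback.fst (X ↘ Spec (.of R)) (Y ↘ Spec (.of R)))).obj F) K)))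
    (T : Scheme.{u}) [T.Over (Spec (.of R))]
    [HasInjectiveResolutions (pullback (pullback.snd (T ↘ Spec (.of R)) (X ↘ Spec (.of R))) (pullback.fst (X ↘ Spec (.of R)) (Y ↘ Spec (.of R)))).Modules]
    (pr₁₃ : (pullback (pullback.snd (T ↘ Spec (.of R)) (X ↘ Spec (.of R))) (pullback.fst (X ↘ Spec (.of R)) (Y ↘ Spec (.of R)))) ⟶ (pullback (T ↘ Spec (.of R)) (Y ↘ Spec (.of R))))
    (h₁ : pr₁₃ ≫ pullback.fst (T ↘ Spec (.of R)) (Y ↘ Spec (.of R)) =
      pullback.fst _ _ ≫ pullback.fst (T ↘ Spec (.of R)) (X ↘ Spec (.of R)))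
    (h₂ : pr₁₃ ≫ pullback.snd (T ↘ Spec (.of R)) (Y ↘ Spec (.of R)) =
      pullback.snd _ _ ≫ pullback.snd (X ↘ Spec (.of R)) (Y ↘ Spec (.of R)))
    (F : (pullback (T ↘ Spec (.of R)) (X ↘ Spec (.of R))).Modules) (hF : Coh.IsQCoh F) (q : ℕ) (hq : 0 < q) :
    IsZero ((Coh.Rpush pr₁₃ q).obj
      (CohB1.tensorMod
        ((Scheme.Modules.pullback
          (pullback.fst (pullback.snd (T ↘ Spec (.of R)) (X ↘ Spec (.of R))) (pullback.fst (X ↘ Spec (.of R)) (Y ↘ Spec (.of R))))).obj F)
        ((Scheme.Modules.pullback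
          (pullback.snd (pullback.snd (T ↘ Spec (.of R)) (X ↘ Spec (.of R))) (pullback.fst (X ↘ Spec (.of R)) (Y ↘ Spec (.of R))))).obj K))) := by
  let rS := T ↘ Spec (CommRingCat.of R)
  let xS := X ↘ Spec (CommRingCat.of R)
  let yS := Y ↘ Spec (CommRingCat.of R)
  haveI : QuasiCompact xS := HasAffineProperty.iff_of_isAffine.mpr ‹CompactSpace X›
  haveI : QuasiSeparated xS := ⟨show QuasiCompact (pullback.diagonal xS) from inferInstance⟩
  haveI : QuasiCompact (pullback.snd xS yS) := MorphismProperty.pullback_snd _ _ inferInstance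
  haveI : QuasiSeparated (pullback.snd xS yS) := MorphismProperty.pullback_snd _ _ inferInstance
  have key : ∀ {W : Scheme.{u}} (wS : W ⟶ Spec (CommRingCat.of R)) (T' : T.Opens), IsAffineOpen T' →
      IsAffineHom ((pullback.fst rS wS ⁻¹ᵁ T').ι ≫ pullback.snd rS wS) := by
    intro W wS T' hT'
    haveI : IsAffine T'.toScheme := hT'
    have h := (isPullback_morphismRestrict (pullback.fst rS wS) T').flip.paste_horiz
      (IsPullback.of_hasPullback rS wS).flip
    exact MorphismProperty.of_isPullback (P := @IsAffineHom) h.flip inferInstance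
  obtain ⟨m, rfl⟩ : ∃ m, q = m + 1 := ⟨q - 1, by omega⟩
  haveI : K.IsQuasicoherent := hKq
  haveI : F.IsQuasicoherent := hF
  refine Groth.Agent.FMK72.isZero_Rpush_triple (pullback.fst xS yS) (pullback.snd xS yS)
    (pullback.fst rS xS) (pullback.snd rS xS) _ _
    (IsPullback.of_hasPullback (pullback.snd rS xS) (pullback.fst xS yS)).flip pr₁₃
    (pullback.fst rS yS) (pullback.snd rS yS) h₁ h₂ (fun T' hT' => key xS T' hT') ?_ K F m ?_
  · intro T' Y' hT' hY'
    haveI := key yS T' hT'
    have h3 := (hY'.preimage ((pullback.fst rS yS ⁻¹ᵁ T').ι ≫ pullback.snd rS yS)).image_of_isOpenImmersion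
      (pullback.fst rS yS ⁻¹ᵁ T').ι
    rwa [Scheme.Hom.comp_preimage, Scheme.Hom.image_preimage_eq_opensRange_inf,
      Scheme.Opens.opensRange_ι] at h3
  · intro G hG
    exact hKac G hG (m + 1) m.succ_pos

end Groth.Agent.S6736
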