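import Groth.Statements.S6762
import Groth.Agent.FMK72.BaseChange

set_option autoImplicit false
universe u
open CategoryTheory AlgebraicGeometry
attribute [local instance] HasDerivedCategory.standard
open FunMor

namespace Groth.Agent.S6762

set_option backward.isDefEq.respectTransparency.types false

/-- Let R be a ring, X and Y schemes over R with X affine, K a quasi-coherent O_{X ×_R Y}-module and F_K
the functor M ↦ pr_{2,*}(pr_1^* M ⊗ K). Let f : X' ⟶ X be an affine morphism, view X' over R through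
f, and let g : X' ×_R Y ⟶ X ×_R Y be the morphism f × id_Y (characterised by its two components).
Then F_K ∘ f_* is isomorphic, as a functor on quasi-coherent O_{X'}-modules, to the functor M' ↦
pr'_{2,*}(pr'^*_1 M' ⊗ g^* K) attached to the quasi-coherent module g^* K on X' ×_R Y. -/
theorem result
    (R : Type u) [CommRing R] (X Y : Scheme.{u}) [X.Over (Spec (.of R))] [Y.Over (Spec (.of R))] [IsAffine X]
    (K : (Limits.pullback (X ↘ Spec (.of R)) (Y ↘ Spec (.of R))).Modules) (hK : Coh.IsQCoh K)
    {X' : Scheme.{u}} (f : X' ⟶ X) [IsAffineHom f]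
    (g : (Limits.pullback (f ≫ (X ↘ Spec (.of R))) (Y ↘ Spec (.of R))) ⟶ (Limits.pullback (X ↘ Spec (.of R)) (Y ↘ Spec (.of R))))
    (hg₁ : g ≫ (Limits.pullback.fst (X ↘ Spec (.of R)) (Y ↘ Spec (.of R))) = (Limits.pullback.fst (f ≫ (X ↘ Spec (.of R))) (Y ↘ Spec (.of R))) ≫ f) (hg₂ : g ≫ (Limits.pullback.snd (X ↘ Spec (.of R)) (Y ↘ Spec (.of R))) = (Limits.pullback.snd (f ≫ (X ↘ Spec (.of R))) (Y ↘ Spec (.of R)))) :
    Nonempty (ObjectProperty.ι (QCohCat.isQCoh X') ⋙ Coh.push f ⋙ (Scheme.Modules.pullback (Limits.pullback.fst (X ↘ Spec (.of R)) (Y ↘ Spec (.of R))) ⋙ DCoh.tensorRightMod K ⋙ Coh.push (Limits.pullback.snd (X ↘ Spec (.of R)) (Y ↘ Spec (.of R)))) ≅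
      ObjectProperty.ι (QCohCat.isQCoh X') ⋙ (Scheme.Modules.pullback (Limits.pullback.fst (f ≫ (X ↘ Spec (.of R))) (Y ↘ Spec (.of R))) ⋙ DCoh.tensorRightMod ((Scheme.Modules.pullback g).obj K) ⋙ Coh.push (Limits.pullback.snd (f ≫ (X ↘ Spec (.of R))) (Y ↘ Spec (.of R))))) := by
  let xS := X ↘ Spec (CommRingCat.of R)
  let yS := Y ↘ Spec (CommRingCat.of R)
  let p := Limits.pullback.fst xS yS
  let q := Limits.pullback.fst (f ≫ xS) yS
  have H : IsPullback g q p f := by
    refine IsPullback.of_right ?_ hg₁ (IsPullback.of_hasPullback xS yS).flip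
    rw [hg₂]
    exact (IsPullback.of_hasPullback (f ≫ xS) yS).flip
  haveI : IsAffineHom g := Groth.Agent.FMK72.isAffineHom_of_isPullback H
  haveI : K.IsQuasicoherent := hK
  let G := (Scheme.Modules.pullback g).obj K
  let e := Scheme.Modules.pushforwardComp g (Limits.pullback.snd xS yS) ≪≫
    Scheme.Modules.pushforwardCongr hg₂
  let S : Coh.push f ⋙ (Scheme.Modules.pullback p ⋙ DCoh.tensorRightMod K ⋙
      Coh.push (Limits.pullback.snd xS yS)) ⟶
      Scheme.Modules.pullback q ⋙ DCoh.tensorRightMod G ⋙ Coh.push (Limits.pullback.snd (f ≫ xS) yS) :=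
    { app := fun M => (Coh.push (Limits.pullback.snd xS yS)).map
          ((DCoh.tensorRightMod K).map ((Groth.Agent.FMK72.bcNat hg₁).app M) ≫
            (Groth.Agent.FMK72.projNat g K).app ((Scheme.Modules.pullback q).obj M)) ≫
          e.hom.app ((DCoh.tensorRightMod G).obj ((Scheme.Modules.pullback q).obj M))
      naturality := fun M N φ => by
        have h1 := (Groth.Agent.FMK72.bcNat hg₁).naturality φ
        have h2 := (Groth.Agent.FMK72.projNat g K).naturality ((Scheme.Modules.pullback q).map φ)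
        have h3 := e.hom.naturality ((DCoh.tensorRightMod G).map ((Scheme.Modules.pullback q).map φ))
        simp only [Functor.comp_map, Functor.comp_obj] at h1 h2 h3 ⊢
        rw [← Functor.map_comp_assoc, ← Category.assoc ((DCoh.tensorRightMod K).map _),
          ← Functor.map_comp (DCoh.tensorRightMod K), h1, Functor.map_comp (DCoh.tensorRightMod K),
          Category.assoc, h2, ← Category.assoc, Functor.map_comp_assoc, h3]
        simp only [Category.assoc, Functor.map_comp]; rfl }
  refine ⟨@asIso _ _ _ _ (Functor.whiskerLeft (ObjectProperty.ι (QCohCat.isQCoh X')) S) ?_⟩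
  have : ∀ M : QCohCat.QCoh X', IsIso (S.app M.obj) := fun M => by
    haveI : M.obj.IsQuasicoherent := M.property
    haveI := Groth.Agent.FMK72.isIso_bcNat_app hg₁ H M.obj
    haveI : ((Scheme.Modules.pullback q).obj M.obj).IsQuasicoherent :=
      Groth.Agent.QCPull72.isQuasicoherent_pullback q M.obj
    haveI := Groth.Agent.FMK72.isIso_projNat_app g K ((Scheme.Modules.pullback q).obj M.obj)
    show IsIso ((Coh.push (Limits.pullback.snd xS yS)).map _ ≫ e.hom.app _)
    infer_instance
  haveI : ∀ M, IsIso ((Functor.whiskerLeft (ObjectProperty.ι (QCohCat.isQCoh X')) S).app M) :=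
    fun M => this M
  exact NatIso.isIso_of_isIso_app _

end Groth.Agent.S6762
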