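import Groth.Statements.S6763
import Groth.Agent.FMK72.PullTensor

set_option autoImplicit false
universe u
open CategoryTheory AlgebraicGeometry
attribute [local instance] HasDerivedCategory.standard
open FunMor

namespace Groth.Agent.S6763

set_option backward.isDefEq.respectTransparency.types false

/-- Let R be a ring, X and Y schemes over R with X affine, K a quasi-coherent O_{X ×_R Y}-module and F_K
the functor M ↦ pr_{2,*}(pr_1^* M ⊗ K). Let g : Y' ⟶ Y be a flat morphism, view Y' over R through g,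
and let h : X ×_R Y' ⟶ X ×_R Y be the morphism id_X × g (characterised by its two components). Then
g^* ∘ F_K is isomorphic, as a functor on quasi-coherent O_X-modules, to the functor M ↦
pr'_{2,*}(pr'^*_1 M ⊗ h^* K) attached to the quasi-coherent module h^* K on X ×_R Y'. (The case of
an open immersion g is a special case.) -/
theorem result
    (R : Type u) [CommRing R] (X Y : Scheme.{u}) [X.Over (Spec (.of R))] [Y.Over (Spec (.of R))] [IsAffine X]
    (K : (Limits.pullback (X ↘ Spec (.of R)) (Y ↘ Spec (.of R))).Modules) (hK : Coh.IsQCoh K)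
    {Y' : Scheme.{u}} (g : Y' ⟶ Y) [Flat g]
    (h : (Limits.pullback (X ↘ Spec (.of R)) (g ≫ (Y ↘ Spec (.of R)))) ⟶ (Limits.pullback (X ↘ Spec (.of R)) (Y ↘ Spec (.of R))))
    (hh₁ : h ≫ (Limits.pullback.fst (X ↘ Spec (.of R)) (Y ↘ Spec (.of R))) = (Limits.pullback.fst (X ↘ Spec (.of R)) (g ≫ (Y ↘ Spec (.of R))))) (hh₂ : h ≫ (Limits.pullback.snd (X ↘ Spec (.of R)) (Y ↘ Spec (.of R))) = (Limits.pullback.snd (X ↘ Spec (.of R)) (g ≫ (Y ↘ Spec (.of R)))) ≫ g) :
    Nonempty ((ObjectProperty.ι (QCohCat.isQCoh X) ⋙ Scheme.Modules.pullback (Limits.pullback.fst (X ↘ Spec (.of R)) (Y ↘ Spec (.of R))) ⋙ DCoh.tensorRightMod K ⋙ Coh.push (Limits.pullback.snd (X ↘ Spec (.of R)) (Y ↘ Spec (.of R)))) ⋙ Scheme.Modules.pullback g ≅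
      ObjectProperty.ι (QCohCat.isQCoh X) ⋙ (Scheme.Modules.pullback (Limits.pullback.fst (X ↘ Spec (.of R)) (g ≫ (Y ↘ Spec (.of R)))) ⋙ DCoh.tensorRightMod ((Scheme.Modules.pullback h).obj K) ⋙ Coh.push (Limits.pullback.snd (X ↘ Spec (.of R)) (g ≫ (Y ↘ Spec (.of R)))))) := by
  let xS := X ↘ Spec (CommRingCat.of R)
  let yS := Y ↘ Spec (CommRingCat.of R)
  let p := Limits.pullback.fst xS yS
  let s := Limits.pullback.snd xS yS
  let p' := Limits.pullback.fst xS (g ≫ yS)
  let s' := Limits.pullback.snd xS (g ≫ yS)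
  have w : s' ≫ g = h ≫ s := hh₂.symm
  have H : IsPullback s' h g s := by
    have H' : IsPullback h s' s g := by
      refine IsPullback.of_right ?_ hh₂ (IsPullback.of_hasPullback xS yS)
      rw [hh₁]
      exact IsPullback.of_hasPullback xS (g ≫ yS)
    exact H'.flip
  haveI : IsAffineHom s := MorphismProperty.pullback_snd _ _ inferInstance
  haveI : K.IsQuasicoherent := hK
  let G := (Scheme.Modules.pullback h).obj K
  let e : Scheme.Modules.pullback p ⋙ Scheme.Modules.pullback h ≅ Scheme.Modules.pullback p' :=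
    Scheme.Modules.pullbackComp h p ≪≫ Scheme.Modules.pullbackCongr hh₁
  let S : (Scheme.Modules.pullback p ⋙ DCoh.tensorRightMod K ⋙ Coh.push s) ⋙ Scheme.Modules.pullback g ⟶
      Scheme.Modules.pullback p' ⋙ DCoh.tensorRightMod G ⋙ Coh.push s' :=
    Groth.Agent.FMK72.assembleNat (Groth.Agent.FMK72.bcNat w) (Groth.Agent.FMK72.pullTensNat h K) e.hom
  have hS : ∀ M : QCohCat.QCoh X, IsIso (S.app M.obj) := fun M => by
    haveI : M.obj.IsQuasicoherent := M.property
    haveI hp : ((Scheme.Modules.pullback p).obj M.obj).IsQuasicoherent :=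
      Groth.Agent.QCPull72.isQuasicoherent_pullback p M.obj
    haveI := Groth.Agent.FMK72.isQuasicoherent_tensorRightMod ((Scheme.Modules.pullback p).obj M.obj) K
    haveI := Groth.Agent.FMK72.isIso_bcNat_app w H
      ((DCoh.tensorRightMod K).obj ((Scheme.Modules.pullback p).obj M.obj))
    haveI : IsIso ((Groth.Agent.FMK72.pullTensNat h K).app ((Scheme.Modules.pullback p).obj M.obj)) :=
      Groth.Agent.FMK72.isIso_pullTensHom h ((Scheme.Modules.pullback p).obj M.obj) K
    rw [Groth.Agent.FMK72.assembleNat_app]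
    infer_instance
  exact ⟨NatIso.ofComponents (fun M => @asIso _ _ _ _ (S.app M.obj) (hS M))
    fun φ => S.naturality φ.hom⟩

end Groth.Agent.S6763
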