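import Groth.Statements.S6767
import Groth.Agent.FMK72.BoxEpi

set_option autoImplicit false
universe u
open CategoryTheory AlgebraicGeometry
attribute [local instance] HasDerivedCategory.standard
open FunMor

namespace Groth.Agent.S6767

set_option backward.isDefEq.respectTransparency.types false

/-- Let R be a ring and X, Y schemes over R with X quasi-compact, separated and flat over R. Let K be a
quasi-coherent O_{X ×_R Y}-module which is flat over X and such that R^q pr_{2,*}(pr_1^* M ⊗ K) = 0
for every quasi-coherent O_X-module M and every q > 0 (right derived functors of pr_{2,*}; the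
existence of injective resolutions is carried as a binder) — that is, K is the kernel of the exact
functor M ↦ pr_{2,*}(pr_1^* M ⊗ K). Then there is an epimorphism O_X ⊠ F(O_X) = pr_1^* O_X ⊗ pr_2^*
(pr_{2,*} K) ⟶ K of O_{X ×_R Y}-modules (existence of such an epimorphism; pr_{2,*}(pr_1^* O_X ⊗ K)
is written as pr_{2,*} K). -/
theorem result
    (R : Type u) [CommRing R] (X Y : Scheme.{u}) [X.Over (Spec (.of R))] [Y.Over (Spec (.of R))] [CompactSpace X] [IsSeparated (X ↘ Spec (.of R))] [Flat (X ↘ Spec (.of R))]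
    [HasInjectiveResolutions (Limits.pullback (X ↘ Spec (.of R)) (Y ↘ Spec (.of R))).Modules]
    (K : (Limits.pullback (X ↘ Spec (.of R)) (Y ↘ Spec (.of R))).Modules) (hK : Coh.IsQCoh K) (hKf : FlatMod.IsFlatOver (Limits.pullback.fst (X ↘ Spec (.of R)) (Y ↘ Spec (.of R))) K)
    (hKa : ∀ (M : X.Modules), Coh.IsQCoh M → ∀ q : ℕ, 0 < q →
      Limits.IsZero ((Coh.Rpush (Limits.pullback.snd (X ↘ Spec (.of R)) (Y ↘ Spec (.of R))) q).obj ((DCoh.tensorRightMod K).obj ((Scheme.Modules.pullback (Limits.pullback.fst (X ↘ Spec (.of R)) (Y ↘ Spec (.of R)))).obj M)))) :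
    ∃ π : CohB1.tensorMod ((Scheme.Modules.pullback (Limits.pullback.fst (X ↘ Spec (.of R)) (Y ↘ Spec (.of R)))).obj (Coh.structureModule X))
        ((Scheme.Modules.pullback (Limits.pullback.snd (X ↘ Spec (.of R)) (Y ↘ Spec (.of R)))).obj ((Coh.push (Limits.pullback.snd (X ↘ Spec (.of R)) (Y ↘ Spec (.of R)))).obj K)) ⟶ K, Epi π := by
  let xS := X ↘ Spec (CommRingCat.of R)
  let yS := Y ↘ Spec (CommRingCat.of R)
  let p := Limits.pullback.fst xS yS
  let s := Limits.pullback.snd xS yS
  haveI : QuasiCompact xS := HasAffineProperty.iff_of_isAffine.mpr ‹CompactSpace X›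
  haveI : QuasiCompact s := MorphismProperty.pullback_snd _ _ inferInstance
  haveI : QuasiSeparated s := MorphismProperty.pullback_snd _ _ inferInstance
  haveI : K.IsQuasicoherent := hK
  have haff : ∀ X₀ : X.Opens, IsAffineOpen X₀ → IsAffineHom ((p ⁻¹ᵁ X₀).ι ≫ s) := fun X₀ h₀ => by
    haveI : IsAffine X₀.toScheme := h₀
    have h := (isPullback_morphismRestrict p X₀).flip.paste_horiz (IsPullback.of_hasPullback xS yS).flip
    exact MorphismProperty.of_isPullback (P := @IsAffineHom) h.flip inferInstance
  haveI : Epi ((Scheme.Modules.pullbackPushforwardAdjunction s).counit.app K) :=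
    Groth.Agent.FMK72.epi_counit_of_preservesEpi xS p s K haff fun φ _ => by
      haveI := (Groth.Agent.FMK72.exact_fourierMukai p s K hK hKf fun M hM => hKa M hM 1 one_pos).2.1
      infer_instance
  let G := (Scheme.Modules.pullback s).obj ((Coh.push s).obj K)
  exact ⟨(Groth.Agent.EGA73.tensIso (PicLoc.pullbackStructureIso p) (Iso.refl G) ≪≫
      Groth.Agent.EGA73.tensUnitLeft G).hom ≫
    (Scheme.Modules.pullbackPushforwardAdjunction s).counit.app K, inferInstance⟩

end Groth.Agent.S6767
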