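import Groth.Statements.S6770
import Groth.Agent.Cpt43.Beilinson

set_option autoImplicit false
universe u
open CategoryTheory
attribute [local instance] HasDerivedCategory.standard
open DEquiv

namespace Groth.Agent.S6770

open CategoryTheory.Limits Opposite in
/-- Let k be a field, n ≥ 0, and R the Beilinson algebra of P^n_k: the k-algebra of upper triangular
(n+1) × (n+1) matrices whose (i, j) entry is a homogeneous polynomial of degree j - i in k[X_0, …,
X_n]. For an object K of the derived category D(R) of R-modules the following are equivalent: K is a
compact object (the functor Hom(K, -) with values in abelian groups commutes with arbitrary direct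
sums indexed by small types), and the cohomology modules H^i(K) are finite-dimensional k-vector
spaces for all i ∈ ℤ, nonzero for only finitely many i. (Left R-modules are used; the published
statement is for right modules, i.e. left modules over the opposite algebra, which is isomorphic to
R by reversing the order of the indices and transposing, and the printed proof applies verbatim to
either side.) -/
theorem result
    (k : Type u) [Field k] (n : ℕ)
    (K : DerivedCategory (ModuleCat.{u} (DEquiv.beilinsonAlg k n))) :
    (∀ J : Type u, PreservesColimitsOfShape (Discrete J) (preadditiveCoyoneda.obj (op K))) ↔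
      ((∀ i : ℤ, Module.Finite k (RestrictScalars k (DEquiv.beilinsonAlg k n) ((DerivedCategory.homologyFunctor (ModuleCat.{u} (DEquiv.beilinsonAlg k n)) i).obj K))) ∧
        Set.Finite {i : ℤ | Nontrivial ((DerivedCategory.homologyFunctor (ModuleCat.{u} (DEquiv.beilinsonAlg k n)) i).obj K)}) := by
  constructor
  · intro h
    exact Groth.Agent.Cpt43.finite_of_preserves k (DEquiv.beilinsonAlg k n) K h
  · rintro ⟨hfin, hset⟩
    exact fun J => Groth.Agent.Cpt43.preserves_of_cpt K
      (Groth.Agent.Cpt43.Cpt.of_homology K hset fun i =>
        have := hfin i
        Groth.Agent.Cpt43.cptM_beilinson k n _) J

end Groth.Agent.S6770
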