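import Groth.Statements.S6772
import Groth.Agent.FMK72.Basic

set_option autoImplicit false
universe u
open CategoryTheory AlgebraicGeometry
attribute [local instance] HasDerivedCategory.standard
open FunMor

namespace Groth.Agent.S6772

/-- The direction from kernels to functors: let R be a ring and X, Y schemes over R with X affine, and
let K be a quasi-coherent O_{X ×_R Y}-module. Then the functor F_K : M ↦ pr_{2,*}(pr_1^* M ⊗ K),
from quasi-coherent O_X-modules to O_Y-modules, is right exact (preserves finite colimits) and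
commutes with arbitrary direct sums. (pr_2 is affine, so pr_{2,*} is exact on quasi-coherent
modules.) -/
theorem result
    (R : Type u) [CommRing R] (X Y : Scheme.{u}) [X.Over (Spec (.of R))] [Y.Over (Spec (.of R))] [IsAffine X]
    (K : (Limits.pullback (X ↘ Spec (.of R)) (Y ↘ Spec (.of R))).Modules) (hK : Coh.IsQCoh K) :
    Limits.PreservesFiniteColimits (ObjectProperty.ι (QCohCat.isQCoh X) ⋙ Scheme.Modules.pullback (Limits.pullback.fst (X ↘ Spec (.of R)) (Y ↘ Spec (.of R))) ⋙ DCoh.tensorRightMod K ⋙ Coh.push (Limits.pullback.snd (X ↘ Spec (.of R)) (Y ↘ Spec (.of R)))) ∧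
      ∀ J : Type u, Limits.PreservesColimitsOfShape (Discrete J) (ObjectProperty.ι (QCohCat.isQCoh X) ⋙ Scheme.Modules.pullback (Limits.pullback.fst (X ↘ Spec (.of R)) (Y ↘ Spec (.of R))) ⋙ DCoh.tensorRightMod K ⋙ Coh.push (Limits.pullback.snd (X ↘ Spec (.of R)) (Y ↘ Spec (.of R)))) := by
  open Limits in
  let p := pullback.fst (X ↘ Spec (.of R)) (Y ↘ Spec (.of R))
  let q := pullback.snd (X ↘ Spec (.of R)) (Y ↘ Spec (.of R))
  haveI : IsAffineHom q := MorphismProperty.pullback_snd (P := @IsAffineHom) _ _ inferInstance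
  let F := FMK72.pullQ p ⋙ FMK72.tensQ K hK ⋙ FMK72.pushQ q
  haveI := FMK72.preservesColimits_pullQ p
  haveI := FMK72.preservesColimits_tensQ K hK
  haveI := FMK72.preservesColimits_pushQ_of_isAffineHom q
  haveI : PreservesColimitsOfSize.{u, u} F := inferInstance
  haveI : PreservesColimitsOfSize.{u, u} (F ⋙ (QCohCat.isQCoh Y).ι) := inferInstance
  let e : F ⋙ (QCohCat.isQCoh Y).ι ≅ (QCohCat.isQCoh X).ι ⋙ Scheme.Modules.pullback p ⋙
      DCoh.tensorRightMod K ⋙ Coh.push q := Iso.refl _
  haveI : PreservesFiniteColimits (F ⋙ (QCohCat.isQCoh Y).ι) :=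
    PreservesColimitsOfSize.preservesFiniteColimits _
  exact ⟨preservesFiniteColimits_of_natIso e, fun J => preservesColimitsOfShape_of_natIso e⟩

end Groth.Agent.S6772
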