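import Groth.Statements.S6786
import Groth.Agent.ML41.Basic

set_option autoImplicit false
open CategoryTheory CategoryTheory.Limits
universe u
open HomAlg3

namespace Groth.Agent.S6786

/-- For a sequence `(A_i) ⟶ (B_i) ⟶ (C_i) ⟶ (D_i)` of inverse systems of abelian groups over `ℕ` that is
exact levelwise at the two middle places, if `(A_i)` is Mittag-Leffler then `lim B_i ⟶ lim C_i ⟶ lim
D_i` is exact. -/
theorem result {A B C D : ℕᵒᵖ ⥤ AddCommGrpCat.{u}} (a : A ⟶ B) (b : B ⟶ C) (c : C ⟶ D) (hB : ∀ i, (b.app i).hom.ker = (a.app i).hom.range) (hC : ∀ i, (c.app i).hom.ker = (b.app i).hom.range) (hA : (A ⋙ forget AddCommGrpCat).IsMittagLeffler) : (limMap c).hom.ker = (limMap b).hom.range := by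
  rw [ML41.ml_iff] at hA
  ext z
  constructor
  · intro hz
    have hz' : ∀ i : ℕ, (limit.π C (Opposite.op i)).hom z ∈ (c.app (Opposite.op i)).hom.ker := by
      intro i
      show (c.app (Opposite.op i)).hom ((limit.π C (Opposite.op i)).hom z) = 0
      refine (ConcreteCategory.congr_hom (limMap_π c (Opposite.op i)) z).symm.trans ?_
      show (limit.π D (Opposite.op i)).hom ((limMap c).hom z) = 0
      rw [show (limMap c).hom z = 0 from hz, map_zero]
    choose y hy using fun i => (show (limit.π C (Opposite.op i)).hom z ∈ (b.app (Opposite.op i)).hom.range from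
      hC (Opposite.op i) ▸ hz' i)
    obtain ⟨x, hx, hx'⟩ := ML41.exists_compat ML41.exists_cofinal_nat a hA y fun i j h => by
      have h0 : ML41.tr B h (y j) - y i ∈ (b.app (Opposite.op i)).hom.ker := by
        rw [AddMonoidHom.mem_ker, map_sub, ML41.app_tr, hy, hy, sub_eq_zero]
        exact ConcreteCategory.congr_hom (limit.w C (homOfLE h).op) z
      rw [hB] at h0
      exact h0
    obtain ⟨w, hw⟩ := ML41.cone_mk (limit.isLimit B) (fun j => x j.unop)
      (fun f => hx (leOfHom f.unop))
    refine ⟨w, ML41.cone_ext (limit.isLimit C) fun j => ?_⟩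
    show (limit.π C j).hom ((limMap b).hom w) = (limit.π C j).hom z
    refine (ConcreteCategory.congr_hom (limMap_π b j) w).trans ?_
    obtain ⟨q, hq⟩ := hx' j.unop
    show (b.app j).hom ((limit.π B j).hom w) = _
    rw [show (limit.π B j).hom w = x j.unop from hw j,
      show x j.unop = y j.unop + (a.app (Opposite.op j.unop)).hom q from by rw [hq]; abel, map_add]
    have h0 : (b.app (Opposite.op j.unop)).hom ((a.app (Opposite.op j.unop)).hom q) = 0 := by
      have : (a.app (Opposite.op j.unop)).hom q ∈ (b.app (Opposite.op j.unop)).hom.ker := by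
        rw [hB]; exact ⟨q, rfl⟩
      exact this
    exact (congrArg₂ (· + ·) (hy j.unop) h0).trans (add_zero _)
  · rintro ⟨w, rfl⟩
    refine ML41.cone_ext (limit.isLimit D) fun j => ?_
    show (limit.π D j).hom ((limMap c).hom ((limMap b).hom w)) = (limit.π D j).hom 0
    rw [map_zero]
    refine (ConcreteCategory.congr_hom (limMap_π c j) _).trans ?_
    show (c.app j).hom ((limit.π C j).hom ((limMap b).hom w)) = 0
    have : (limit.π C j).hom ((limMap b).hom w) = (b.app j).hom ((limit.π B j).hom w) :=
      ConcreteCategory.congr_hom (limMap_π b j) w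
    have h2 : (b.app j).hom ((limit.π B j).hom w) ∈ (c.app j).hom.ker := by
      rw [hC]; exact ⟨_, rfl⟩
    rw [this]
    exact h2

end Groth.Agent.S6786
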