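import Groth.Statements.S6790


set_option autoImplicit false
open CategoryTheory CategoryTheory.Limits MonoidalCategory
universe v u
open CategoryTheory CategoryTheory.Monoidal

namespace Groth.Agent.S6790

/-- In an idempotent-complete additive monoidal category, a direct summand of an object admitting a dual
(with coevaluation `𝟙_ A ⟶ X ⊗ Y` and evaluation `Y ⊗ X ⟶ 𝟙_ A`) again admits such a dual. -/
theorem result {A : Type u} [Category.{v} A] [Preadditive A] [HasFiniteBiproducts A] [MonoidalCategory A] [MonoidalPreadditive A] [IsIdempotentComplete A] {X X₁ : A} (i : X₁ ⟶ X) (p : X ⟶ X₁) (hip : i ≫ p = 𝟙 X₁) [HasRightDual X] : Nonempty (HasRightDual X₁) := by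
  let e := rightAdjointMate (p ≫ i)
  have he : e ≫ e = e := by
    rw [← comp_rightAdjointMate, Category.assoc, reassoc_of% hip]
  obtain ⟨Y₁, s, r, hsr, hrs⟩ := IsIdempotentComplete.idempotents_split _ e he
  have c1 : η_ X Xᘁ ≫ (X ◁ e) = η_ X Xᘁ ≫ ((p ≫ i) ▷ Xᘁ) := coevaluation_comp_rightAdjointMate _
  have c2 : (e ▷ X) ≫ ε_ X Xᘁ = (Xᘁ ◁ (p ≫ i)) ≫ ε_ X Xᘁ := rightAdjointMate_comp_evaluation _
  have hse : s ≫ e = s := by rw [← hrs, reassoc_of% hsr]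
  have k1 : η_ X Xᘁ ≫ (p ⊗ₘ e) = η_ X Xᘁ ≫ p ▷ Xᘁ := by
    rw [MonoidalCategory.tensorHom_def', ← Category.assoc, c1, Category.assoc,
      ← MonoidalCategory.comp_whiskerRight, Category.assoc, hip, Category.comp_id]
  have k2 : (s ⊗ₘ (p ≫ i)) ≫ ε_ X Xᘁ = s ▷ X ≫ ε_ X Xᘁ := by
    rw [MonoidalCategory.tensorHom_def, Category.assoc, ← c2, ← MonoidalCategory.comp_whiskerRight_assoc, hse]
  refine ⟨{ rightDual := Y₁, exact := { coevaluation' := η_ X Xᘁ ≫ (p ⊗ₘ r), evaluation' := (s ⊗ₘ i) ≫ ε_ X Xᘁ, coevaluation_evaluation' := ?_, evaluation_coevaluation' := ?_ } }⟩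
  · have : IsSplitMono ((𝟙_ A) ◁ s) := ⟨⟨⟨(𝟙_ A) ◁ r, by rw [← MonoidalCategory.whiskerLeft_comp, hsr]; simp⟩⟩⟩
    rw [← cancel_mono ((𝟙_ A) ◁ s)]
    calc _ = Y₁ ◁ (η_ X Xᘁ ≫ (p ⊗ₘ (r ≫ s))) ≫ (α_ _ _ _).inv ≫ ((s ⊗ₘ i) ≫ ε_ X Xᘁ) ▷ Xᘁ := by
          simp only [Category.assoc]
          rw [← MonoidalCategory.whisker_exchange, ← MonoidalCategory.associator_inv_naturality_right_assoc, ← MonoidalCategory.whiskerLeft_comp_assoc, Category.assoc, MonoidalCategory.tensorHom_comp_whiskerLeft]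
      _ = Y₁ ◁ η_ X Xᘁ ≫ (α_ _ _ _).inv ≫ (s ▷ X ≫ Xᘁ ◁ (p ≫ i) ≫ ε_ X Xᘁ) ▷ Xᘁ := by
          rw [hrs, k1, MonoidalCategory.whiskerLeft_comp, Category.assoc, MonoidalCategory.associator_inv_naturality_middle_assoc,
            ← MonoidalCategory.comp_whiskerRight, MonoidalCategory.whiskerLeft_comp_tensorHom_assoc, MonoidalCategory.tensorHom_def, Category.assoc]
      _ = Y₁ ◁ η_ X Xᘁ ≫ (α_ _ _ _).inv ≫ (s ▷ X ≫ ε_ X Xᘁ) ▷ Xᘁ := by
          rw [← c2, ← MonoidalCategory.comp_whiskerRight_assoc, hse]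
      _ = s ▷ (𝟙_ A) ≫ (Xᘁ ◁ η_ X Xᘁ ≫ (α_ _ _ _).inv ≫ ε_ X Xᘁ ▷ Xᘁ) := by
          rw [MonoidalCategory.comp_whiskerRight, ← MonoidalCategory.associator_inv_naturality_left_assoc, MonoidalCategory.whisker_exchange_assoc]
      _ = _ := by
          rw [ExactPairing.coevaluation_evaluation]
          simp
  · have : IsSplitEpi ((𝟙_ A) ◁ p) := ⟨⟨⟨(𝟙_ A) ◁ i, by rw [← MonoidalCategory.whiskerLeft_comp, hip]; simp⟩⟩⟩
    rw [← cancel_epi ((𝟙_ A) ◁ p)]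
    calc _ = (η_ X Xᘁ ≫ (p ⊗ₘ r)) ▷ X ≫ (α_ _ _ _).hom ≫ X₁ ◁ ((s ⊗ₘ (p ≫ i)) ≫ ε_ X Xᘁ) := by
          rw [MonoidalCategory.whisker_exchange_assoc, MonoidalCategory.associator_naturality_right_assoc, ← MonoidalCategory.whiskerLeft_comp, MonoidalCategory.whiskerLeft_comp_tensorHom_assoc]
      _ = (η_ X Xᘁ ≫ (p ⊗ₘ (r ≫ s))) ▷ X ≫ (α_ _ _ _).hom ≫ X₁ ◁ ε_ X Xᘁ := by
          rw [k2]
          simp [MonoidalCategory.tensorHom_def]
      _ = (η_ X Xᘁ ▷ X ≫ (α_ _ _ _).hom ≫ X ◁ ε_ X Xᘁ) ≫ p ▷ (𝟙_ A) := by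
          rw [hrs, k1, MonoidalCategory.comp_whiskerRight]
          simp only [Category.assoc]
          rw [MonoidalCategory.associator_naturality_left_assoc, ← MonoidalCategory.whisker_exchange]
      _ = _ := by
          rw [ExactPairing.evaluation_coevaluation]
          simp

end Groth.Agent.S6790
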