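import Groth.Statements.S6791
import Mathlib.CategoryTheory.Abelian.SerreClass.Localization
import Mathlib.CategoryTheory.Localization.CalculusOfFractions.Fractions

set_option autoImplicit false
open CategoryTheory CategoryTheory.Limits
universe v u v' u' v'' u''
open CategoryTheory CategoryTheory.SerreClass

namespace Groth.Agent.S6791

/-- For an exact functor `F : A ⥤ B` of abelian categories and a Serre class `P` of `A` killed by `F`,
with `L : A ⥤ Q` a model of the quotient `A/P` and `Fbar : Q ⥤ B` the induced functor, `P` is
exactly the kernel of `F` if and only if `Fbar` is faithful. -/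
theorem result {A : Type u} [Category.{v} A] [Abelian A] {B : Type u'} [Category.{v'} B] [Abelian B] (F : A ⥤ B) [F.Additive] [PreservesFiniteLimits F] [PreservesFiniteColimits F] (P : ObjectProperty A) [P.IsSerreClass] (hP : ∀ X : A, P X → IsZero (F.obj X)) {Q : Type u''} [Category.{v''} Q] [Abelian Q] (L : A ⥤ Q) [L.IsLocalization P.isoModSerre] [L.Additive] [PreservesFiniteLimits L] [PreservesFiniteColimits L] (Fbar : Q ⥤ B) (e : L ⋙ Fbar ≅ F) : (∀ X : A, IsZero (F.obj X) → P X) ↔ Fbar.Faithful := by
  constructor
  · intro hker
    refine ⟨fun {Y Y'} g g' h => ?_⟩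
    have := Localization.essSurj L P.isoModSerre
    obtain ⟨φ, h₁, h₂⟩ := Localization.exists_leftFraction₂ L P.isoModSerre
      ((L.objObjPreimageIso Y).hom ≫ g ≫ (L.objObjPreimageIso Y').inv)
      ((L.objObjPreimageIso Y).hom ≫ g' ≫ (L.objObjPreimageIso Y').inv)
    have key : L.map φ.f = L.map φ.f' := by
      rw [← sub_eq_zero, ← L.map_sub, ObjectProperty.SerreClassLocalization.map_eq_zero_iff L P]
      refine hker _ ?_
      have hFd : F.map (φ.f - φ.f') = 0 := by
        have e1 : Fbar.map (φ.fst.map L (Localization.inverts _ _)) =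
            Fbar.map (φ.snd.map L (Localization.inverts _ _)) := by
          rw [← h₁, ← h₂]; simp only [Functor.map_comp, h]
        have e2 := congrArg (· ≫ Fbar.map (L.map φ.s)) e1
        simp only [← Functor.map_comp] at e2
        have a₁ := φ.fst.map_comp_map_s L (Localization.inverts _ _)
        have a₂ := φ.snd.map_comp_map_s L (Localization.inverts _ _)
        dsimp at a₁ a₂ e2
        rw [a₁, a₂] at e2
        have e3 : F.map φ.f = F.map φ.f' := by
          rw [← NatIso.naturality_1 e φ.f, ← NatIso.naturality_1 e φ.f']
          simp only [Functor.comp_map, e2]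
        rw [F.map_sub, e3, sub_self]
      rw [IsZero.iff_id_eq_zero]
      have : Mono (F.map (Abelian.image.ι (φ.f - φ.f'))) := inferInstance
      have : Epi (F.map (Abelian.factorThruImage (φ.f - φ.f'))) := inferInstance
      rw [← cancel_mono (F.map (Abelian.image.ι (φ.f - φ.f'))),
        ← cancel_epi (F.map (Abelian.factorThruImage (φ.f - φ.f')))]
      simp [← F.map_comp, hFd]
    have h12 : φ.fst.map L (Localization.inverts _ _) = φ.snd.map L (Localization.inverts _ _) := by
      rw [← cancel_mono (L.map φ.s), MorphismProperty.LeftFraction.map_comp_map_s,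
        MorphismProperty.LeftFraction.map_comp_map_s]
      exact key
    rw [← h₁, ← h₂, cancel_epi, cancel_mono] at h12
    exact h12
  · intro hf X hX
    rw [← ObjectProperty.SerreClassLocalization.isZero_obj_iff L P X, IsZero.iff_id_eq_zero]
    exact Fbar.map_injective ((hX.of_iso (e.app X)).eq_of_src _ _)

end Groth.Agent.S6791
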