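import Groth.Statements.S6795


set_option autoImplicit false
open CategoryTheory CategoryTheory.Limits
universe v u
open CategoryTheory CategoryTheory.Preadditive

namespace Groth.Agent.S6795

/-- A preadditive category with countable products in which split epimorphisms have kernels is
idempotent complete (Karoubian). -/
theorem result {D : Type u} [Category.{v} D] [Preadditive D] [HasCountableProducts D] (hk : ∀ ⦃X Y : D⦄ (f : X ⟶ Y), IsSplitEpi f → HasKernel f) : IsIdempotentComplete D := by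
  refine ⟨fun X e he => ?_⟩
  let P : D := ∏ᶜ (fun _ : ℕ => X)
  let pr : ℕ → (P ⟶ X) := fun n => Pi.π (fun _ : ℕ => X) n
  let f : P ⟶ P := Pi.lift fun n => pr n ≫ (𝟙 X - e) + pr (n + 1) ≫ e
  let g : P ⟶ P := Pi.lift fun n => match n with
    | 0 => pr 0 ≫ (𝟙 X - e)
    | n + 1 => pr (n + 1) ≫ (𝟙 X - e) + pr n ≫ e
  have hg0 : g ≫ pr 0 = pr 0 ≫ (𝟙 X - e) := Pi.lift_π _ _
  have hgs : ∀ n, g ≫ pr (n + 1) = pr (n + 1) ≫ (𝟙 X - e) + pr n ≫ e := fun n => Pi.lift_π _ _
  have hf' : ∀ n, f ≫ pr n = pr n ≫ (𝟙 X - e) + pr (n + 1) ≫ e := fun n => Pi.lift_π _ _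
  have hgf : g ≫ f = 𝟙 P := by
    refine Pi.hom_ext _ _ fun n => ?_
    change (g ≫ f) ≫ pr n = 𝟙 P ≫ pr n
    rw [Category.assoc, hf', Preadditive.comp_add, ← Category.assoc, ← Category.assoc]
    cases n with
    | zero => rw [hg0, hgs 0]; simp [he]
    | succ n => rw [hgs n, hgs (n+1)]; simp [he]
  have := hk f ⟨⟨g, hgf⟩⟩
  let a0 : X ⟶ P := Pi.lift fun n => match n with
    | 0 => e
    | _ + 1 => 0
  have a00 : a0 ≫ pr 0 = e := Pi.lift_π _ _
  have a0s : ∀ n, a0 ≫ pr (n+1) = 0 := fun n => Pi.lift_π _ _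
  have ha : a0 ≫ f = 0 := by
    refine Pi.hom_ext _ _ fun n => ?_
    change (a0 ≫ f) ≫ pr n = 0 ≫ pr n
    rw [Category.assoc, hf', Preadditive.comp_add, ← Category.assoc, ← Category.assoc, a0s n]
    cases n with
    | zero => rw [a00]; simp [he]
    | succ n => rw [a0s n]; simp
  have key : ∀ n, kernel.ι f ≫ pr n ≫ (𝟙 X - e) + kernel.ι f ≫ pr (n + 1) ≫ e = 0 := fun n => by
    rw [← Preadditive.comp_add, ← hf', kernel.condition_assoc, zero_comp]
  have key1 : ∀ n, kernel.ι f ≫ pr (n + 1) ≫ e = 0 := fun n => by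
    have h := key n =≫ e
    simpa [he] using h
  have key2 : ∀ n, kernel.ι f ≫ pr n ≫ e = kernel.ι f ≫ pr n := fun n => by
    have h := key n
    rw [key1 n, add_zero] at h
    simp [sub_eq_zero] at h
    exact h.symm
  refine ⟨kernel f, kernel.ι f ≫ pr 0, kernel.lift f a0 ha, ?_, ?_⟩
  · apply (cancel_mono (kernel.ι f)).1
    refine Pi.hom_ext _ _ fun n => ?_
    change _ ≫ pr n = _ ≫ pr n
    simp only [Category.assoc, kernel.lift_ι_assoc, Category.id_comp]
    cases n with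
    | zero => rw [a00, key2]
    | succ n => rw [a0s, comp_zero, comp_zero, ← key2, key1]
  · simp [a00]

end Groth.Agent.S6795
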