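import Groth.Statements.S6796


set_option autoImplicit false
open CategoryTheory CategoryTheory.Limits
universe v u
open CategoryTheory CategoryTheory.Preadditive

namespace Groth.Agent.S6796

/-- A preadditive category with countable coproducts in which split monomorphisms have cokernels is
idempotent complete (Karoubian). -/
theorem result {D : Type u} [Category.{v} D] [Preadditive D] [HasCountableCoproducts D] (hk : ∀ ⦃X Y : D⦄ (f : X ⟶ Y), IsSplitMono f → HasCokernel f) : IsIdempotentComplete D := by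
  refine ⟨fun X e he => ?_⟩
  let P : D := ∐ (fun _ : ℕ => X)
  let i : ℕ → (X ⟶ P) := fun n => Sigma.ι (fun _ : ℕ => X) n
  let f : P ⟶ P := Sigma.desc fun n => (𝟙 X - e) ≫ i n + e ≫ i (n + 1)
  let g : P ⟶ P := Sigma.desc fun n => match n with
    | 0 => (𝟙 X - e) ≫ i 0
    | n + 1 => (𝟙 X - e) ≫ i (n + 1) + e ≫ i n
  have hg0 : i 0 ≫ g = (𝟙 X - e) ≫ i 0 := Sigma.ι_desc _ _
  have hgs : ∀ n, i (n + 1) ≫ g = (𝟙 X - e) ≫ i (n + 1) + e ≫ i n := fun n => Sigma.ι_desc _ _
  have hf' : ∀ n, i n ≫ f = (𝟙 X - e) ≫ i n + e ≫ i (n + 1) := fun n => Sigma.ι_desc _ _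
  have hgf : f ≫ g = 𝟙 P := by
    refine Sigma.hom_ext _ _ fun n => ?_
    change i n ≫ f ≫ g = i n ≫ 𝟙 P
    rw [← Category.assoc, hf', Preadditive.add_comp, Category.assoc, Category.assoc]
    cases n with
    | zero => rw [hg0, hgs 0]; simp [reassoc_of% he]
    | succ n => rw [hgs n, hgs (n+1)]; simp [reassoc_of% he]
  have := hk f ⟨⟨g, hgf⟩⟩
  let a0 : P ⟶ X := Sigma.desc fun n => match n with
    | 0 => e
    | _ + 1 => 0
  have a00 : i 0 ≫ a0 = e := Sigma.ι_desc _ _
  have a0s : ∀ n, i (n+1) ≫ a0 = 0 := fun n => Sigma.ι_desc _ _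
  have ha : f ≫ a0 = 0 := by
    refine Sigma.hom_ext _ _ fun n => ?_
    change i n ≫ f ≫ a0 = i n ≫ 0
    rw [← Category.assoc, hf', Preadditive.add_comp, Category.assoc, Category.assoc, a0s n]
    cases n with
    | zero => rw [a00]; simp [he]
    | succ n => rw [a0s n]; simp
  have key : ∀ n, (𝟙 X - e) ≫ i n ≫ cokernel.π f + e ≫ i (n + 1) ≫ cokernel.π f = 0 := fun n => by
    rw [← Category.assoc, ← Category.assoc, ← Preadditive.add_comp, ← hf', Category.assoc,
      cokernel.condition, comp_zero]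
  have key1 : ∀ n, e ≫ i (n + 1) ≫ cokernel.π f = 0 := fun n => by
    have h := e ≫= key n
    simpa [reassoc_of% he] using h
  have key2 : ∀ n, e ≫ i n ≫ cokernel.π f = i n ≫ cokernel.π f := fun n => by
    have h := key n
    rw [key1 n, add_zero] at h
    simp [sub_eq_zero] at h
    exact h.symm
  refine ⟨cokernel f, cokernel.desc f a0 ha, i 0 ≫ cokernel.π f, ?_, ?_⟩
  · apply (cancel_epi (cokernel.π f)).1
    refine Sigma.hom_ext _ _ fun n => ?_
    change i n ≫ _ = i n ≫ _
    simp only [cokernel.π_desc_assoc, Category.comp_id]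
    rw [← Category.assoc]
    cases n with
    | zero => rw [a00, key2]
    | succ n => rw [a0s, zero_comp, ← key2, key1]
  · simp [a00]

end Groth.Agent.S6796
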