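import Groth.Statements.S6798


set_option autoImplicit false
open CategoryTheory CategoryTheory.Limits
universe v u
open CategoryTheory CategoryTheory.Preadditive

namespace Groth.Agent.S6798

/-- If `q ∘ j = 𝟙` in a preadditive category then `j` is a kernel and `q` a cokernel of `𝟙 - j ∘ q`. -/
theorem result {A : Type u} [Category.{v} A] [Preadditive A] {x y : A} (j : y ⟶ x) (q : x ⟶ y) (hqj : j ≫ q = 𝟙 y) : ∃ (hk : j ≫ (𝟙 x - q ≫ j) = 0) (hc : (𝟙 x - q ≫ j) ≫ q = 0), Nonempty (IsLimit (KernelFork.ofι j hk)) ∧ Nonempty (IsColimit (CokernelCofork.ofπ q hc)) := by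
  refine ⟨by simp [reassoc_of% hqj], by simp [hqj], ⟨KernelFork.IsLimit.ofι j _ (fun a _ => a ≫ q) ?_ ?_⟩, ⟨CokernelCofork.IsColimit.ofπ q _ (fun a _ => j ≫ a) ?_ ?_⟩⟩
  · intro W a ha
    simp only [Preadditive.comp_sub, Category.comp_id, sub_eq_zero] at ha
    rw [Category.assoc, ← ha]
  · intro W a ha m hm; rw [← hm, Category.assoc, hqj, Category.comp_id]
  · intro W a ha
    simp only [Preadditive.sub_comp, Category.id_comp, sub_eq_zero, Category.assoc] at ha
    exact ha.symm
  · intro W a ha m hm; rw [← hm, ← Category.assoc, hqj, Category.id_comp]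

end Groth.Agent.S6798
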