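import Groth.Statements.S6810
import Mathlib.Data.Opposite
import Mathlib.Data.Finite.Sigma
import Mathlib.AlgebraicTopology.SimplexCategory.Basic


set_option autoImplicit false
open CategoryTheory CategoryTheory.Limits Opposite
universe v u
open CategoryTheory CategoryTheory.SimplicialObject CategoryTheory.SimplicialObject.Truncated

namespace Groth.Agent.S6810

instance finTrunc (m : ℕ) : Finite (SimplexCategory.Truncated m) :=
  Finite.of_injective (fun x => (⟨x.obj.len, Nat.lt_succ_of_le x.2⟩ : Fin (m+1))) fun x y h => by
    ext; simpa using h

instance finTruncOp (m : ℕ) : Finite (SimplexCategory.Truncated m)ᵒᵖ :=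
  Finite.of_equiv _ Opposite.equivToOpposite

instance finHom {m : ℕ} (a b : (SimplexCategory.Truncated m)ᵒᵖ) : Finite (a ⟶ b) :=
  Finite.of_injective (fun f => f.unop.hom) fun f g h => Quiver.Hom.unop_inj (InducedCategory.hom_ext h)

instance finHomS (a b : SimplexCategoryᵒᵖ) : Finite (a ⟶ b) :=
  Finite.of_injective (fun f => f.unop) fun f g h => Quiver.Hom.unop_inj h


/-- In a category with finite colimits every truncated simplicial object has a pointwise left Kan
extension along the inclusion of the truncated simplex category, i.e. the left adjoints `i_{m!}` of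
truncation exist and are given by the colimit formula. -/
theorem result {C : Type u} [Category.{v} C] [HasFiniteColimits C] (m : ℕ) (U : (SimplexCategory.Truncated m)ᵒᵖ ⥤ C) : (SimplexCategory.Truncated.inclusion m).op.HasPointwiseLeftKanExtension U := by
  intro Y
  let _ : FinCategory (CostructuredArrow (SimplexCategory.Truncated.inclusion m).op Y) :=
    { fintypeObj := by
        have : Finite (CostructuredArrow (SimplexCategory.Truncated.inclusion m).op Y) := by
          refine Finite.of_injective (β := Σ j : (SimplexCategory.Truncated m)ᵒᵖ, ((SimplexCategory.Truncated.inclusion m).op.obj j ⟶ Y)) (fun A => ⟨A.left, A.hom⟩) ?_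
          intro A B h
          obtain ⟨h1, h2⟩ := Sigma.mk.inj_iff.1 h
          obtain ⟨l, ⟨⟨⟩⟩, f⟩ := A; obtain ⟨l', ⟨⟨⟩⟩, f'⟩ := B; cases h1; cases h2; rfl
        exact Fintype.ofFinite _
      fintypeHom := fun A B => by
        have : Finite (A ⟶ B) := Finite.of_injective (fun f => f.left) fun f g h => by ext; exact h
        exact Fintype.ofFinite _ }
  infer_instance

end Groth.Agent.S6810
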