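import Groth.Statements.S6814
import Mathlib.AlgebraicTopology.SimplexCategory.Truncated
import Mathlib.CategoryTheory.Functor.KanExtension.Pointwise
-- import your own Groth.Agent.* helpers here

set_option autoImplicit false
open CategoryTheory CategoryTheory.Limits Opposite
universe v u
open CategoryTheory CategoryTheory.SimplicialObject CategoryTheory.SimplicialObject.Truncated

namespace Groth.Agent.S6814

/-- Let `U` be an `(n+1)`-truncated simplicial object of a category `C` (so the truncation level is at
least `1`), and let `T` be an object with morphisms `π_0, …, π_{n+2} : T ⟶ U_{n+1}` satisfying the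
face relations `d_j π_i = d_i π_{j+1}` for `i ≤ j` and universal among such families (that is, `T`
represents the functor of `(n+3)`-tuples of morphisms to `U_{n+1}` satisfying the face relations).
Then `U` extends to an `(n+2)`-truncated simplicial object right adjoint to restriction: the
pointwise right Kan extension of `U` along the inclusion of `(n+1)`-truncated into `(n+2)`-truncated
simplex categories exists, and for any right Kan extension `V` of `U` the morphism `V_{n+2} ⟶ T`
matching the faces of `V` with the `π_k` is an isomorphism (the new top term is the representing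
object). -/
theorem result {C : Type u} [Category.{v} C] (n : ℕ) (U : (SimplexCategory.Truncated (n + 1))ᵒᵖ ⥤ C) (T : C) (π : Fin (n + 3) → (T ⟶ U.obj (op ⟨SimplexCategory.mk (n + 1), (SimplexCategory.len_mk (n + 1)).le⟩))) (hπ : ∀ i j : Fin (n + 2), i ≤ j → π (Fin.castSucc i) ≫ U.map (SimplexCategory.Truncated.δ (n + 1) j ((SimplexCategory.len_mk n).trans_le (Nat.le_succ n)) (SimplexCategory.len_mk (n + 1)).le).op = π j.succ ≫ U.map (SimplexCategory.Truncated.δ (n + 1) i ((SimplexCategory.len_mk n).trans_le (Nat.le_succ n)) (SimplexCategory.len_mk (n + 1)).le).op) (huniv : ∀ (S : C) (g : Fin (n + 3) → (S ⟶ U.obj (op ⟨SimplexCategory.mk (n + 1), (SimplexCategory.len_mk (n + 1)).le⟩))), (∀ i j : Fin (n + 2), i ≤ j → g (Fin.castSucc i) ≫ U.map (SimplexCategory.Truncated.δ (n + 1) j ((SimplexCategory.len_mk n).trans_le (Nat.le_succ n)) (SimplexCategory.len_mk (n + 1)).le).op = g j.succ ≫ U.map (SimplexCategory.Truncated.δ (n + 1) i ((SimplexCategory.len_mk n).trans_le (Nat.le_succ n)) (SimplexCategory.len_mk (n + 1)).le).op) →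 ∃! t : S ⟶ T, ∀ k : Fin (n + 3), t ≫ π k = g k) : (SimplexCategory.Truncated.incl (n + 1) (n + 2) (Nat.le_succ _)).op.HasPointwiseRightKanExtension U ∧ ∀ (V : (SimplexCategory.Truncated (n + 2))ᵒᵖ ⥤ C) (α : (SimplexCategory.Truncated.incl (n + 1) (n + 2) (Nat.le_succ _)).op ⋙ V ⟶ U) [V.IsRightKanExtension α] (t : V.obj (op ⟨SimplexCategory.mk (n + 2), (SimplexCategory.len_mk (n + 2)).le⟩) ⟶ T), (∀ k : Fin (n + 3), t ≫ π k = V.map (SimplexCategory.Truncated.δ (n + 2) k ((SimplexCategory.len_mk (n + 1)).trans_le (Nat.le_succ (n + 1))) (SimplexCategory.len_mk (n + 2)).le).op ≫ α.app (op ⟨SimplexCategory.mk (n + 1), (SimplexCategory.len_mk (n + 1)).le⟩)) → IsIso t := by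
  let L := (SimplexCategory.Truncated.incl (n + 1) (n + 2) (Nat.le_succ _)).op
  let top : SimplexCategory.Truncated (n + 2) :=
    ⟨SimplexCategory.mk (n + 2), (SimplexCategory.len_mk (n + 2)).le⟩
  let U1 : SimplexCategory.Truncated (n + 1) :=
    ⟨SimplexCategory.mk (n + 1), (SimplexCategory.len_mk (n + 1)).le⟩
  -- restriction of `π i` along a map to the `i`-th face
  let r : ∀ {j : SimplexCategory.Truncated (n + 1)} (i : Fin (n + 3))
      (f' : j.obj ⟶ SimplexCategory.mk (n + 1)), (T ⟶ U.obj (op j)) :=
    fun {j} i f' => π i ≫ U.map (show j ⟶ U1 from ObjectProperty.homMk f').op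
  have hlt : ∀ {j : SimplexCategory.Truncated (n + 1)} (f : j.obj ⟶ SimplexCategory.mk (n + 2)),
      ¬ Function.Surjective f.toOrderHom := by
    intro j f h
    have := Fintype.card_le_of_surjective _ h
    simp at this
    have := j.2
    omega
  have wd₀ : ∀ {j : SimplexCategory.Truncated (n + 1)} (a b : Fin (n + 2)) (_ : a ≤ b)
      (f' g' : j.obj ⟶ SimplexCategory.mk (n + 1)),
      f' ≫ SimplexCategory.δ a.castSucc = g' ≫ SimplexCategory.δ b.succ →
        r a.castSucc f' = r b.succ g' := by
    intro j a b hab f' g' he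
    obtain ⟨h, hh⟩ := SimplexCategory.eq_comp_δ_of_not_surjective' f' b (fun x hx => by
      have h1 : (f' ≫ SimplexCategory.δ a.castSucc).toOrderHom x = b.succ := by
        show a.castSucc.succAbove (f'.toOrderHom x) = b.succ
        rw [hx, Fin.succAbove_of_le_castSucc _ _ (by simpa using hab)]
      rw [he] at h1
      exact Fin.succAbove_ne b.succ _ h1)
    subst hh
    have hg : g' = h ≫ SimplexCategory.δ a := by
      rw [← cancel_mono (SimplexCategory.δ b.succ), ← he, Category.assoc, Category.assoc,
        SimplexCategory.δ_comp_δ hab]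
    subst hg
    let h' : j ⟶ ⟨SimplexCategory.mk n, (SimplexCategory.len_mk n).trans_le (Nat.le_succ n)⟩ :=
      ObjectProperty.homMk h
    have e : ∀ c : Fin (n + 2), (show j ⟶ U1 from ObjectProperty.homMk (h ≫ SimplexCategory.δ c)) =
        h' ≫ SimplexCategory.Truncated.δ (n + 1) c ((SimplexCategory.len_mk n).trans_le (Nat.le_succ n))
          (SimplexCategory.len_mk (n + 1)).le := fun c => rfl
    show π a.castSucc ≫ U.map _ = π b.succ ≫ U.map _
    rw [e, e, op_comp, op_comp, U.map_comp, U.map_comp, ← Category.assoc, ← Category.assoc, hπ a b hab]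
  have wd : ∀ {j : SimplexCategory.Truncated (n + 1)} (i k : Fin (n + 3))
      (f' g' : j.obj ⟶ SimplexCategory.mk (n + 1)),
      f' ≫ SimplexCategory.δ i = g' ≫ SimplexCategory.δ k → r i f' = r k g' := by
    intro j i k f' g' he
    rcases lt_trichotomy i k with h | h | h
    · have h1 : (i : ℕ) < k := h
      have h2 := k.2
      obtain ⟨a, rfl⟩ : ∃ a : Fin (n + 2), a.castSucc = i := ⟨⟨i, by omega⟩, rfl⟩
      obtain ⟨b, rfl⟩ : ∃ b : Fin (n + 2), b.succ = k := ⟨⟨k - 1, by omega⟩, by ext; simp; omega⟩
      exact wd₀ a b (by rw [Fin.le_def]; simp only [Fin.val_castSucc, Fin.val_succ] at h1; omega) f' g' he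
    · subst h
      rw [(cancel_mono _).1 he]
    · have h1 : (k : ℕ) < i := h
      have h2 := i.2
      obtain ⟨a, rfl⟩ : ∃ a : Fin (n + 2), a.castSucc = k := ⟨⟨k, by omega⟩, rfl⟩
      obtain ⟨b, rfl⟩ : ∃ b : Fin (n + 2), b.succ = i := ⟨⟨i - 1, by omega⟩, by ext; simp; omega⟩
      exact (wd₀ a b (by rw [Fin.le_def]; simp only [Fin.val_castSucc, Fin.val_succ] at h1; omega) g' f' he.symm).symm
  choose ci cf hcf using fun (j : SimplexCategory.Truncated (n + 1))
    (f : j.obj ⟶ SimplexCategory.mk (n + 2)) => SimplexCategory.eq_comp_δ_of_not_surjective f (hlt f)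
  let c : Cone (StructuredArrow.proj (op top) L ⋙ U) :=
    { pt := T
      π :=
        { app := fun e => r (ci e.right.unop e.hom.unop.hom) (cf e.right.unop e.hom.unop.hom)
          naturality := fun e e' φ => by
            refine (Category.id_comp _).trans ?_
            have hw : e'.hom.unop.hom = φ.right.unop.hom ≫ e.hom.unop.hom :=
              congr_arg (fun t => t.unop.hom) (StructuredArrow.w φ).symm
            refine Eq.trans ?_ (Category.assoc _ _ _).symm
            show r _ _ = π _ ≫ U.map _ ≫ U.map φ.right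
            rw [← U.map_comp]
            refine wd _ _ _ (φ.right.unop.hom ≫ cf e.right.unop e.hom.unop.hom) ?_
            rw [← hcf, Category.assoc, ← hcf]
            exact hw } }
  let ek : Fin (n + 3) → StructuredArrow (op top) L := fun k =>
    StructuredArrow.mk (Y := op U1)
      (SimplexCategory.Truncated.δ (n + 2) k ((SimplexCategory.len_mk (n + 1)).trans_le (Nat.le_succ (n + 1)))
        (SimplexCategory.len_mk (n + 2)).le).op
  have cπ : ∀ k, c.π.app (ek k) = π k := by
    intro k
    refine (wd _ k _ (𝟙 _) ?_).trans ?_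
    · rw [← hcf, Category.id_comp]
      rfl
    · exact (congrArg (π k ≫ ·) (U.map_id _)).trans (Category.comp_id _)
  have key : ∀ (d : Cone (StructuredArrow.proj (op top) L ⋙ U)) (x : d.pt ⟶ T),
      (∀ k, x ≫ π k = d.π.app (ek k)) → ∀ e, x ≫ c.π.app e = d.π.app e := by
    intro d x hx e
    let φ : ek (ci e.right.unop e.hom.unop.hom) ⟶ e :=
      StructuredArrow.homMk (show e.right.unop ⟶ U1 from
        ObjectProperty.homMk (cf e.right.unop e.hom.unop.hom)).op
        (Quiver.Hom.unop_inj (ObjectProperty.hom_ext _ (hcf e.right.unop e.hom.unop.hom).symm))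
    refine (congrArg (x ≫ ·) (c.w φ)).symm.trans ((Category.assoc _ _ _).symm.trans
      (Eq.trans ?_ (d.w φ)))
    exact congrArg (· ≫ _) ((congrArg (x ≫ ·) (cπ _)).trans (hx _))
  have hc : IsLimit c := by
    refine IsLimit.ofExistsUnique fun d => ?_
    obtain ⟨x, hx, huniq⟩ := huniv d.pt (fun k => d.π.app (ek k)) (fun i j hij => by
      let h0 : (⟨SimplexCategory.mk n, (SimplexCategory.len_mk n).trans_le (Nat.le_succ n)⟩ :
          SimplexCategory.Truncated (n + 1)) ⟶ U1 :=
        SimplexCategory.Truncated.δ (n + 1) j ((SimplexCategory.len_mk n).trans_le (Nat.le_succ n))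
          (SimplexCategory.len_mk (n + 1)).le
      let h1 : (⟨SimplexCategory.mk n, (SimplexCategory.len_mk n).trans_le (Nat.le_succ n)⟩ :
          SimplexCategory.Truncated (n + 1)) ⟶ U1 :=
        SimplexCategory.Truncated.δ (n + 1) i ((SimplexCategory.len_mk n).trans_le (Nat.le_succ n))
          (SimplexCategory.len_mk (n + 1)).le
      let e0 : StructuredArrow (op top) L := StructuredArrow.mk ((ek i.castSucc).hom ≫ L.map h0.op)
      let φ0 : ek i.castSucc ⟶ e0 := StructuredArrow.homMk h0.op rfl
      let φ1 : ek j.succ ⟶ e0 := StructuredArrow.homMk h1.op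
        (Quiver.Hom.unop_inj (ObjectProperty.hom_ext _ (SimplexCategory.δ_comp_δ hij)))
      exact (d.w φ0).trans (d.w φ1).symm)
    exact ⟨x, key d x hx, fun y hy => huniq y fun k => by rw [← cπ]; exact hy _⟩
  have hpw : L.HasPointwiseRightKanExtension U := by
    rintro ⟨⟨k, hk⟩⟩
    by_cases h : k.len ≤ n + 1
    · exact HasLimit.mk ⟨_, limitOfDiagramInitial
        (StructuredArrow.mkIdInitial (T := L) (Y := op ⟨k, h⟩))
        (StructuredArrow.proj (L.obj (op ⟨k, h⟩)) L ⋙ U)⟩
    · obtain ⟨m⟩ := k
      obtain rfl : m = n + 2 := by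
        simp only [SimplexCategory.len_mk] at hk h; omega
      exact HasLimit.mk ⟨c, hc⟩
  refine ⟨hpw, fun V α _ t ht => ?_⟩
  have hV : IsLimit ((Functor.RightExtension.mk V α).coneAt (op top)) :=
    Functor.isPointwiseRightKanExtensionOfIsRightKanExtension _ _ (op top)
  have : t = (hV.conePointUniqueUpToIso hc).hom := by
    refine hc.hom_ext fun e => ?_
    exact (key ((Functor.RightExtension.mk V α).coneAt (op top)) t ht e).trans
      (IsLimit.conePointUniqueUpToIso_hom_comp hV hc e).symm
  rw [this]
  infer_instance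

end Groth.Agent.S6814
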