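import Groth.Statements.S6815
import Mathlib.CategoryTheory.Limits.FunctorCategory.Shapes.Products


set_option autoImplicit false
open CategoryTheory CategoryTheory.Limits Opposite
universe w v u
open CategoryTheory CategoryTheory.SimplicialObject

namespace Groth.Agent.S6815

/-- Homotopies between the factors of two product morphisms of simplicial objects assemble to a homotopy
between the products. -/
theorem result {C : Type u} [Category.{v} C] {T : Type w} [HasLimitsOfShape (Discrete T) C] {X Y : T → SimplicialObject C} (a b : ∀ t, X t ⟶ Y t) (h : ∀ t, Nonempty (SimplicialObject.Homotopy (a t) (b t))) : Nonempty (SimplicialObject.Homotopy (Limits.Pi.map a) (Limits.Pi.map b)) := by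
  let H := fun t => (h t).some
  let π : ∀ (k : SimplexCategoryᵒᵖ) (Z : T → SimplicialObject C) (t : T), (∏ᶜ Z).obj k ⟶ (Z t).obj k :=
    fun k Z t => (Pi.π Z t).app k
  let lft : ∀ (k : SimplexCategoryᵒᵖ) (W : C), (∀ t, W ⟶ (Y t).obj k) → (W ⟶ (∏ᶜ Y).obj k) :=
    fun k W g => Pi.lift g ≫ (piObjIso Y k).inv
  have hl : ∀ (k : SimplexCategoryᵒᵖ) (W : C) (g : ∀ t, W ⟶ (Y t).obj k) (t : T), lft k W g ≫ π k Y t = g t := by
    intro k W g t; simp [lft, π]
  have he : ∀ (k : SimplexCategoryᵒᵖ) (W : C) (p q : W ⟶ (∏ᶜ Y).obj k), (∀ t, p ≫ π k Y t = q ≫ π k Y t) → p = q := by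
    intro k W p q hpq
    rw [← cancel_mono (piObjIso Y k).hom]
    refine Pi.hom_ext _ _ fun t => ?_
    simpa [π] using hpq t
  have hm : ∀ (f : ∀ t, X t ⟶ Y t) (k : SimplexCategoryᵒᵖ) (t : T), (Limits.Pi.map f).app k ≫ π k Y t = π k X t ≫ (f t).app k := by
    intro f k t
    simp only [π, ← NatTrans.comp_app, Limits.Pi.map_π]
  have hnδ : ∀ {n : ℕ} (i : Fin (n + 2)) (t : T), (∏ᶜ Y).δ i ≫ π (op (SimplexCategory.mk n)) Y t = π (op (SimplexCategory.mk (n+1))) Y t ≫ (Y t).δ i :=
    fun i t => (Pi.π Y t).naturality _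
  have hnσ : ∀ {n : ℕ} (i : Fin (n + 1)) (t : T), (∏ᶜ Y).σ i ≫ π (op (SimplexCategory.mk (n+1))) Y t = π (op (SimplexCategory.mk n)) Y t ≫ (Y t).σ i :=
    fun i t => (Pi.π Y t).naturality _
  have hnδX : ∀ {n : ℕ} (i : Fin (n + 2)) (t : T), (∏ᶜ X).δ i ≫ π (op (SimplexCategory.mk n)) X t = π (op (SimplexCategory.mk (n+1))) X t ≫ (X t).δ i :=
    fun i t => (Pi.π X t).naturality _
  have hnσX : ∀ {n : ℕ} (i : Fin (n + 1)) (t : T), (∏ᶜ X).σ i ≫ π (op (SimplexCategory.mk (n+1))) X t = π (op (SimplexCategory.mk n)) X t ≫ (X t).σ i :=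
    fun i t => (Pi.π X t).naturality _
  refine ⟨{ h := fun {n} i => lft _ _ fun t => π _ X t ≫ (H t).h i
            h_zero_comp_δ_zero := ?_
            h_last_comp_δ_last := ?_
            h_succ_comp_δ_castSucc_of_lt := ?_
            h_succ_comp_δ_castSucc_succ := ?_
            h_castSucc_comp_δ_succ_of_lt := ?_
            h_comp_σ_castSucc_of_le := ?_
            h_comp_σ_succ_of_lt := ?_ }⟩
  all_goals intros
  all_goals refine he _ _ _ _ fun t => ?_
  all_goals simp only [Category.assoc, hl, hm, hnδ, hnσ, hnσX, hnδX, reassoc_of% hl, reassoc_of% hnδX, reassoc_of% hnσX]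
  all_goals congr 1
  · exact (H t).h_zero_comp_δ_zero _
  · exact (H t).h_last_comp_δ_last _
  · exact (H t).h_succ_comp_δ_castSucc_of_lt _ _ (by assumption)
  · exact (H t).h_succ_comp_δ_castSucc_succ _
  · exact (H t).h_castSucc_comp_δ_succ_of_lt _ _ (by assumption)
  · exact (H t).h_comp_σ_castSucc_of_le _ _ (by assumption)
  · exact (H t).h_comp_σ_succ_of_lt _ _ (by assumption)

end Groth.Agent.S6815
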