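import Groth.Statements.S6816
import Mathlib

set_option autoImplicit false
open CategoryTheory CategoryTheory.Limits
universe v u
open CochainComplex

namespace Groth.Agent.S6816

/-- The boundary morphisms `C ⟶ A⟦1⟧` attached to two degreewise splittings of a degreewise split
sequence `A ⟶ B ⟶ C` of cochain complexes are homotopic. -/
theorem result {C : Type u} [Category.{v} C] [Preadditive C] [HasBinaryBiproducts C] (S : ShortComplex (CochainComplex C ℤ)) (σ σ' : ∀ n : ℤ, (S.map (HomologicalComplex.eval C (ComplexShape.up ℤ) n)).Splitting) : Nonempty (Homotopy (CochainComplex.homOfDegreewiseSplit S σ) (CochainComplex.homOfDegreewiseSplit S σ')) := by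
  let s : ∀ n, S.X₃.X n ⟶ S.X₂.X n := fun n => (σ n).s
  let s' : ∀ n, S.X₃.X n ⟶ S.X₂.X n := fun n => (σ' n).s
  let r : ∀ n, S.X₂.X n ⟶ S.X₁.X n := fun n => (σ n).r
  let r' : ∀ n, S.X₂.X n ⟶ S.X₁.X n := fun n => (σ' n).r
  let v : ∀ n, S.X₃.X n ⟶ S.X₁.X n := fun n =>
    s' n ≫ r n
  refine ⟨(HomComplex.Cochain.equivHomotopy _ _).symm
    ⟨(HomComplex.Cochain.ofHoms v).rightShift 1 (-1) (by norm_num), ?_⟩⟩
  ext p
  have f_r : ∀ n, S.f.f n ≫ r n = 𝟙 _ := fun n => (σ n).f_r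
  have hid : ∀ n, r n ≫ S.f.f n +
      S.g.f n ≫ s n = 𝟙 _ := fun n => (σ n).id
  have hid' : ∀ n, r' n ≫ S.f.f n +
      S.g.f n ≫ s' n = 𝟙 _ := fun n => (σ' n).id
  have s_g : ∀ n, s n ≫ S.g.f n = 𝟙 _ := fun n => (σ n).s_g
  have s_g' : ∀ n, s' n ≫ S.g.f n = 𝟙 _ := fun n => (σ' n).s_g
  have hfg : ∀ n, S.f.f n ≫ S.g.f n = 0 := fun n => by
    rw [← HomologicalComplex.comp_f, S.zero, HomologicalComplex.zero_f]
  have hs : ∀ n, s' n = s n + v n ≫ S.f.f n := by
    intro n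
    conv_lhs => rw [← Category.comp_id (s' n), ← hid n,
      Preadditive.comp_add, reassoc_of% (s_g' n)]
    rw [add_comm]
    simp [v]
  have hr : ∀ n, r' n = r n - S.g.f n ≫ v n := by
    intro n
    rw [eq_sub_iff_add_eq]
    conv_rhs => rw [← Category.id_comp (r n), ← hid' n,
      Preadditive.add_comp, Category.assoc, f_r, Category.comp_id]
    simp [v]
  rw [HomComplex.Cochain.add_v,
    HomComplex.δ_v (-1) 0 (by norm_num) _ p p (by simp) (p - 1) (p + 1) rfl rfl,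
    HomComplex.Cochain.rightShift_v _ 1 (-1) (by norm_num) p (p - 1) (by omega) p (by omega),
    HomComplex.Cochain.rightShift_v _ 1 (-1) (by norm_num) (p + 1) p (by omega) (p + 1) (by omega)]
  simp only [HomComplex.Cochain.ofHom_v, homOfDegreewiseSplit_f, HomComplex.Cochain.ofHoms_v]
  simp only [cocycleOfDegreewiseSplit, HomComplex.Cocycle.mk_coe, HomComplex.Cochain.mk_v]
  change s p ≫ S.X₂.d p (p + 1) ≫ r (p + 1) = _ + s' p ≫ S.X₂.d p (p + 1) ≫ r' (p + 1)
  rw [hs p, hr (p + 1)]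
  simp [S.g.comm_assoc, S.f.comm_assoc, reassoc_of% (s_g p), f_r, reassoc_of% (hfg (p + 1)),
    shiftFunctor_obj_d', HomologicalComplex.XIsoOfEq, Preadditive.comp_sub, Preadditive.sub_comp]
  have e1 : ∀ (q : ℤ) (h : p = q), -((v p ≫ eqToHom (congrArg S.X₁.X h)) ≫ S.X₁.d q (p + 1)) =
      -(v p ≫ S.X₁.d p (p + 1)) := by
    rintro q rfl
    simp
  erw [e1 (p - 1 + 1) (by omega)]
  simp only [← HomologicalComplex.Hom.comm_assoc S.g, reassoc_of% (s_g p)]
  erw [Category.comp_id]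
  exact (by intros; simp; try abel :
    ∀ {X Y : C} (a b c : X ⟶ Y), a = -c + (1 : ℤˣ) • b + (a + c - b)) _ _ _

end Groth.Agent.S6816
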