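import Groth.Statements.S6820
import Mathlib.Algebra.Module.LocalizedModule.Basic
import Mathlib.RingTheory.Noetherian.Basic
-- import your own Groth.Agent.* helpers here

set_option autoImplicit false
universe u
open Smoothing

namespace Groth.Agent.S6820

/-- Let A be a Noetherian ring, M a finite A-module, S a multiplicative subset of A and π an element of
A such that on the localised module S⁻¹M the kernels of multiplication by π and by π² agree. Then
there is an element s of S such that for every n > 0 the kernels of multiplication by sⁿπ and by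
(sⁿπ)² on M agree. (Kernel equalities are written as implications, the reverse inclusions being
automatic.) -/
theorem result {A : Type u} [CommRing A] [IsNoetherianRing A]
    (M : Type u) [AddCommGroup M] [Module A M] [Module.Finite A M] (S : Submonoid A) (π : A)
    (h : ∀ m : LocalizedModule S M, π ^ 2 • m = 0 → π • m = 0) :
    ∃ s ∈ S, ∀ n : ℕ, 0 < n → ∀ m : M, (s ^ n * π) ^ 2 • m = 0 → (s ^ n * π) • m = 0 := by
  classical
  obtain ⟨G, hG⟩ := IsNoetherian.noetherian (LinearMap.ker (π ^ 2 • LinearMap.id : M →ₗ[A] M))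
  have ht : ∀ x ∈ G, ∃ t ∈ S, t • π • x = 0 := by
    intro x hx
    have hx0 : π ^ 2 • x = 0 := by
      have hx' : x ∈ LinearMap.ker (π ^ 2 • LinearMap.id : M →ₗ[A] M) :=
        hG.le (Submodule.subset_span hx)
      simpa using hx'
    have := h (LocalizedModule.mkLinearMap S M x) (by rw [← map_smul, hx0, map_zero])
    rw [← map_smul, IsLocalizedModule.eq_zero_iff S] at this
    obtain ⟨c, hc⟩ := this
    exact ⟨c, c.2, hc⟩
  choose t htS htx using ht
  let t₀ := ∏ x ∈ G.attach, t x.1 x.2
  have ht0 : t₀ ∈ S := Submonoid.prod_mem _ fun x _ => htS x.1 x.2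
  have hkill : ∀ m : M, π ^ 2 • m = 0 → t₀ • π • m = 0 := by
    intro m hm
    have hm' : m ∈ Submodule.span A (G : Set M) := hG.ge (by simpa using hm)
    have hle : Submodule.span A (G : Set M) ≤ LinearMap.ker ((t₀ * π) • LinearMap.id : M →ₗ[A] M) := by
      refine Submodule.span_le.2 fun x hx => ?_
      obtain ⟨d, hd⟩ : t x hx ∣ t₀ := Finset.dvd_prod_of_mem (fun x : G => t x.1 x.2)
        (Finset.mem_attach G ⟨x, hx⟩)
      show (t₀ * π) • x = 0
      rw [hd, mul_comm (t x hx) d, mul_smul, mul_smul, htx x hx, smul_zero]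
    rw [← mul_smul]
    exact hle hm'
  obtain ⟨N, hN⟩ := monotone_stabilizes_iff_noetherian.2 (inferInstance : IsNoetherian A M)
    ⟨fun n => LinearMap.ker (t₀ ^ n • LinearMap.id : M →ₗ[A] M), monotone_nat_of_le_succ fun n m hm => by
      have hm' : t₀ ^ n • m = 0 := by simpa using hm
      simp [pow_succ', mul_smul, hm']⟩
  refine ⟨t₀ ^ (N + 1), pow_mem ht0 _, fun n hn m hm => ?_⟩
  have hstab : ∀ j, N ≤ j → ∀ x : M, t₀ ^ j • x = 0 → t₀ ^ N • x = 0 := by
    intro j hj x hx
    have h1 : x ∈ LinearMap.ker (t₀ ^ j • LinearMap.id : M →ₗ[A] M) := by simpa using hx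
    have h2 := (hN j hj).ge h1
    simpa using h2
  have h1 : π ^ 2 • ((t₀ ^ (N + 1)) ^ (2 * n) • m) = 0 := by
    rw [smul_smul, ← hm]; congr 1; ring
  have h2 := hkill _ h1
  have h3 : t₀ ^ ((N + 1) * (2 * n) + 1) • π • m = 0 := by
    rw [← h2, smul_smul, smul_smul, smul_smul]; congr 1; ring
  have h4 := hstab _ (by nlinarith) _ h3
  obtain ⟨e, he⟩ : ∃ e, (N + 1) * n = N + e := ⟨(N + 1) * n - N, by
    have : N ≤ (N + 1) * n := by nlinarith
    omega⟩
  rw [← pow_mul, he, pow_add, mul_comm (t₀ ^ N) (t₀ ^ e), mul_smul, mul_smul, h4, smul_zero]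

end Groth.Agent.S6820
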