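import Groth.Statements.S6821
import Groth.Agent.Smooth28.Lifting
-- import your own Groth.Agent.* helpers here

set_option autoImplicit false
universe u
open Smoothing

namespace Groth.Agent.S6821

/-- Let R → Λ be a flat ring map and I ⊆ R an ideal with I² = 0 such that Λ/IΛ is ind-smooth over R/I
(every map from a finitely presented algebra factors through a smooth one). Let B be a smooth
R-algebra, φ : B → Λ an R-algebra map and J ⊆ IB a finitely generated ideal with φ(J) = 0. Then
there are a smooth R-algebra B' and R-algebra maps α : B → B' and β : B' → Λ with α(J) = 0 and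
β(α(b)) − φ(b) ∈ IΛ for all b. -/
theorem result {R Λ B : Type u} [CommRing R] [CommRing Λ] [Algebra R Λ] [Module.Flat R Λ]
    (I : Ideal R) (hI : I ^ 2 = ⊥) (h : Smoothing.IndSmooth (R ⧸ I) (Λ ⧸ I.map (algebraMap R Λ)))
    [CommRing B] [Algebra R B] [Algebra.Smooth R B] (φ : B →ₐ[R] Λ) (J : Ideal B)
    (hJ : J ≤ I.map (algebraMap R B)) (hJfg : J.FG) (hφJ : ∀ x ∈ J, φ x = 0) :
    ∃ (B' : Type u) (_ : CommRing B') (_ : Algebra R B'), Algebra.Smooth R B' ∧
      ∃ (α : B →ₐ[R] B') (β : B' →ₐ[R] Λ), (∀ x ∈ J, α x = 0) ∧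
        ∀ b : B, β (α b) - φ b ∈ I.map (algebraMap R Λ) := by
  have hI' : RingHom.ker (algebraMap R (R ⧸ I)) = I := Ideal.mk_ker
  have hq : ∀ x, Ideal.Quotient.mkₐ R (I.map (algebraMap R Λ)) x = 0 →
      x ∈ (RingHom.ker (algebraMap R (R ⧸ I))).map (algebraMap R Λ) := fun x hx => by
    rw [hI']; exact Ideal.Quotient.eq_zero_iff_mem.1 hx
  have hlf : Groth.Agent.Smooth28.LiftFactor R Λ I := by
    have := Groth.Agent.Smooth28.liftFactor_of_indSmooth (R := R) (R₀ := R ⧸ I)
      Ideal.Quotient.mk_surjective (Ideal.Quotient.mkₐ R (I.map (algebraMap R Λ)))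
      Ideal.Quotient.mk_surjective hq (by rw [hI', hI]) h
    rwa [hI'] at this
  exact Groth.Agent.Smooth28.lift_twice hI hlf φ J hJ hJfg hφJ

end Groth.Agent.S6821
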