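import Groth.Statements.S6860
import Mathlib.RingTheory.Smooth.StandardSmooth
import Mathlib.LinearAlgebra.Matrix.Determinant.Basic
-- import your own Groth.Agent.* helpers here

set_option autoImplicit false
universe u
open Smoothing

namespace Groth.Agent.S6860

/-- Let R → A be standard smooth and E ⊆ A a finite subset. Then A admits a standard smooth presentation
A = R[x₁, …, x_N]/(f₁, …, f_c) (a submersive presentation: finitely many generators and relations,
an injection from the relations to the variables picking the distinguished variables, and the
Jacobian of the relations with respect to the distinguished variables invertible in A) in which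
every element of E is the class of a distinguished variable. (The published statement arranges E to
be exactly the classes of the first n = |E| variables, all of them distinguished, with c ≥ n; this
row states that E is contained in the set of classes of the distinguished variables, which is what
that arrangement gives.) -/
theorem result {R A : Type u} [CommRing R] [CommRing A] [Algebra R A]
    [Algebra.IsStandardSmooth R A] (E : Finset A) :
    ∃ (ι σ : Type) (_ : Finite ι) (_ : Finite σ) (P : Algebra.SubmersivePresentation R A ι σ),
      (↑E : Set A) ⊆ Set.range (P.val ∘ P.map) := by
  classical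
  obtain ⟨ι₀, σ₀, _, _, ⟨P₀⟩⟩ := (‹Algebra.IsStandardSmooth R A›).out
  let v : Fin E.card → A := fun i => E.equivFin.symm i
  have hker : Ideal.span (Set.range fun i => MvPolynomial.X i - MvPolynomial.C (v i)) =
      RingHom.ker (MvPolynomial.aeval (R := A) v) := by
    apply le_antisymm
    · rw [Ideal.span_le]
      rintro _ ⟨i, rfl⟩
      simp [RingHom.mem_ker]
    · intro p hp
      have key : ∀ q : MvPolynomial (Fin E.card) A, q - MvPolynomial.C (MvPolynomial.aeval v q) ∈
          Ideal.span (Set.range fun i => MvPolynomial.X i - MvPolynomial.C (v i)) := by
        intro q
        induction q using MvPolynomial.induction_on with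
        | C r => simp
        | add a b ha hb =>
          have := add_mem ha hb
          convert this using 1
          simp only [map_add]
          abel
        | mul_X a i ha =>
          have h1 := Ideal.mul_mem_left (Ideal.span (Set.range fun i =>
            MvPolynomial.X i - MvPolynomial.C (v i))) a (Ideal.subset_span ⟨i, rfl⟩)
          have h2 := Ideal.mul_mem_right (MvPolynomial.C (v i)) _ ha
          have := add_mem h1 h2
          convert this using 1
          simp only [map_mul, MvPolynomial.aeval_X]
          ring
      have := key p
      rwa [show MvPolynomial.aeval v p = 0 from hp, map_zero, sub_zero] at this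
  let G : Algebra.Generators A A (Fin E.card) :=
    { val := v, σ' := MvPolynomial.C, aeval_val_σ' := fun s => by simp }
  let Q₀ : Algebra.PreSubmersivePresentation A A (Fin E.card) (Fin E.card) :=
    { toGenerators := G
      relation := fun i => MvPolynomial.X i - MvPolynomial.C (v i)
      span_range_relation_eq_ker := by
        rw [Algebra.Generators.ker_eq_ker_aeval_val]
        exact hker
      map := id
      map_inj := Function.injective_id }
  have hQ : IsUnit Q₀.jacobian := by
    rw [Algebra.PreSubmersivePresentation.jacobian_eq_jacobiMatrix_det]
    have : Q₀.jacobiMatrix = 1 := by
      ext1 i j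
      rw [Algebra.PreSubmersivePresentation.jacobiMatrix_apply]
      show MvPolynomial.pderiv i (MvPolynomial.X j - MvPolynomial.C (v j)) = _
      rw [map_sub, MvPolynomial.pderiv_C, sub_zero, MvPolynomial.pderiv_X, Matrix.one_apply,
        Pi.single_apply]
      simp [eq_comm]
    rw [this, Matrix.det_one, map_one]
    exact isUnit_one
  let P : Algebra.SubmersivePresentation R A (Fin E.card ⊕ ι₀) (Fin E.card ⊕ σ₀) :=
    (⟨Q₀, hQ⟩ : Algebra.SubmersivePresentation A A (Fin E.card) (Fin E.card)).comp P₀
  refine ⟨_, _, inferInstance, inferInstance, P, fun e he => ⟨Sum.inl (E.equivFin ⟨e, he⟩), ?_⟩⟩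
  show v (E.equivFin ⟨e, he⟩) = e
  simp [v]

end Groth.Agent.S6860
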