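import Groth.Statements.S6862
import Groth.Agent.Coh3.StablyFree

set_option autoImplicit false
universe u
open CAlg

namespace Groth.Agent.S6862

/-- Let `R` be a commutative ring and `P'`, `P`, `P''` finitely generated projective `R`-modules in an
exact sequence `0 → P' → P → P'' → 0`. Whenever two of the three are stably free, the remaining one
is stably free too (all three cases are stated). -/
theorem result {R : Type u} [CommRing R] {P' P P'' : Type u}
    [AddCommGroup P'] [Module R P'] [Module.Finite R P'] [Module.Projective R P']
    [AddCommGroup P] [Module R P] [Module.Finite R P] [Module.Projective R P]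
    [AddCommGroup P''] [Module R P''] [Module.Finite R P''] [Module.Projective R P'']
    (f : P' →ₗ[R] P) (g : P →ₗ[R] P'') (hf : Function.Injective f) (hg : Function.Surjective g)
    (hfg : Function.Exact f g) :
    (Module.IsStablyFree R P' → Module.IsStablyFree R P → Module.IsStablyFree R P'') ∧
    (Module.IsStablyFree R P' → Module.IsStablyFree R P'' → Module.IsStablyFree R P) ∧
    (Module.IsStablyFree R P → Module.IsStablyFree R P'' → Module.IsStablyFree R P') := by
  obtain ⟨s, hs⟩ := Module.projective_lifting_property g LinearMap.id hg
  let e : P ≃ₗ[R] P' × P'' := (LinearEquiv.ofBijective (f.coprod s) ⟨?_, ?_⟩).symm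
  · refine ⟨fun h1 h2 => ?_, fun h1 h2 => ?_, fun h1 h2 => ?_⟩
    · have := Module.IsStablyFree.equiv e
      exact Coh3.isStablyFree_of_prod (A := P')
    · have := Coh3.isStablyFree_prod (R := R) (A := P') (B := P'')
      exact Module.IsStablyFree.equiv e.symm
    · have := Module.IsStablyFree.equiv (e.trans (LinearEquiv.prodComm R P' P''))
      exact Coh3.isStablyFree_of_prod (A := P'') (B := P')
  · refine (injective_iff_map_eq_zero _).mpr fun x hx => ?_
    rw [LinearMap.coprod_apply] at hx
    have h2 : x.2 = 0 := by
      have := congrArg g hx
      rw [map_add, hfg.apply_apply_eq_zero, zero_add, map_zero, ← LinearMap.comp_apply g s, hs] at this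
      exact this
    rw [h2, map_zero, add_zero] at hx
    exact Prod.ext (hf (by rw [hx, Prod.fst_zero, map_zero])) h2
  · intro y
    obtain ⟨x, hx⟩ := (hfg (y - s (g y))).mp (by
      rw [map_sub, ← LinearMap.comp_apply g s, hs, LinearMap.id_apply, sub_self])
    exact ⟨(x, g y), by simp [hx]⟩

end Groth.Agent.S6862
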