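import Groth.Statements.S6863
import Groth.Agent.Coh3.StablyFree

set_option autoImplicit false
universe u
open TensorProduct
open CAlg

namespace Groth.Agent.S6863

/-- Let `I` be an ideal of a commutative ring `R` contained in the Jacobson radical (equivalently, `1 +
i` is a unit for each `i ∈ I`). Then each finitely generated stably free module `E` over `R/I`
lifts: there is a finite stably free `R`-module `M` with `M/IM ≅ E` (existence of an isomorphism
only; the published statement names no map). -/
theorem result {R : Type u} [CommRing R] (I : Ideal R)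
    (hI : I ≤ Ideal.jacobson (⊥ : Ideal R)) (E : Type u) [AddCommGroup E] [Module (R ⧸ I) E]
    [Module.Finite (R ⧸ I) E] [Module.IsStablyFree (R ⧸ I) E] :
    ∃ (M : Type u) (_ : AddCommGroup M) (_ : Module R M), Module.Finite R M ∧ Module.IsStablyFree R M ∧
      Nonempty ((R ⧸ I) ⊗[R] M ≃ₗ[R ⧸ I] E) := by
  classical
  obtain ⟨N, _, _, _, _, _⟩ := Module.IsStablyFree.exist_free_prod (R ⧸ I) E
  let m := Fintype.card (Module.Free.ChooseBasisIndex (R ⧸ I) (E × N))
  let n := Fintype.card (Module.Free.ChooseBasisIndex (R ⧸ I) N)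
  let bm : (E × N) ≃ₗ[R ⧸ I] (Fin m → R ⧸ I) :=
    ((Module.Free.chooseBasis (R ⧸ I) (E × N)).reindex (Fintype.equivFin _)).equivFun
  let bn : N ≃ₗ[R ⧸ I] (Fin n → R ⧸ I) :=
    ((Module.Free.chooseBasis (R ⧸ I) N).reindex (Fintype.equivFin _)).equivFun
  let qm : (Fin m → R) →ₗ[R] (Fin m → R ⧸ I) := LinearMap.compLeft I.mkQ _
  let qn : (Fin n → R) →ₗ[R] (Fin n → R ⧸ I) := LinearMap.compLeft I.mkQ _
  let pbar : (Fin m → R ⧸ I) →ₗ[R ⧸ I] (Fin n → R ⧸ I) :=
    bn.toLinearMap ∘ₗ LinearMap.snd (R ⧸ I) E N ∘ₗ bm.symm.toLinearMap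
  have hqn : Function.Surjective qn := I.mkQ_surjective.comp_left
  have hqm : Function.Surjective qm := I.mkQ_surjective.comp_left
  obtain ⟨π, hπ⟩ := Module.projective_lifting_property qn ((pbar.restrictScalars R) ∘ₗ qm) hqn
  have hmem : ∀ {k : ℕ} (x : Fin k → R), (∀ i, x i ∈ I) → x ∈ I • (⊤ : Submodule R (Fin k → R)) := by
    intro k x hx
    rw [pi_eq_sum_univ' x]
    exact Submodule.sum_mem _ fun i _ => Submodule.smul_mem_smul (hx i) Submodule.mem_top
  have hker : ∀ {k : ℕ} (x : Fin k → R), x ∈ I • (⊤ : Submodule R (Fin k → R)) → ∀ i, x i ∈ I := by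
    intro k x hx i
    refine Submodule.smul_induction_on hx (fun r hr y _ => ?_) fun a b ha hb => add_mem ha hb
    exact I.mul_mem_right _ hr
  have hπsurj : Function.Surjective π := by
    rw [← LinearMap.range_eq_top, eq_top_iff]
    refine Submodule.le_of_le_smul_of_le_jacobson_bot Module.Finite.fg_top hI fun y _ => ?_
    obtain ⟨x, hx⟩ : ∃ x, pbar (qm x) = qn y := by
      obtain ⟨x, hx⟩ := hqm (bm (0, bn.symm (qn y)))
      exact ⟨x, by simp [pbar, hx]⟩
    rw [← add_sub_cancel (π x) y]
    refine Submodule.add_mem_sup ⟨x, rfl⟩ (hmem _ fun i => ?_)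
    have := congrFun (((LinearMap.congr_fun hπ x).trans hx)) i
    exact (Submodule.Quotient.eq I).mp this.symm
  obtain ⟨s, hs⟩ := Module.projective_lifting_property π LinearMap.id hπsurj
  have hs' : ∀ y, π (s y) = y := fun y => LinearMap.congr_fun hs y
  let M := LinearMap.ker π
  let p : (Fin m → R) →ₗ[R] M := (LinearMap.id - s ∘ₗ π).codRestrict M fun x => by
    simp [M, hs']
  have hp : ∀ x : M, p x = x := fun x => Subtype.ext (by simp [p, LinearMap.mem_ker.mp x.2])
  let e : (M × (Fin n → R)) ≃ₗ[R] (Fin m → R) :=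
    { toFun := fun x => x.1.1 + s x.2
      map_add' := fun x y => by
        simp only [Prod.fst_add, Prod.snd_add, map_add, Submodule.coe_add]; abel
      map_smul' := fun c x => by simp [smul_add]
      invFun := fun z => (p z, π z)
      left_inv := fun x => by
        have : π (x.1 : Fin m → R) = 0 := x.1.2
        ext1
        · ext1; simp [p, map_add, hs', this]
        · simp [map_add, hs', this]
      right_inv := fun z => by simp [p] }
  have : Module.Free R (M × (Fin n → R)) := Module.Free.of_equiv e.symm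
  have : Module.Finite R M := Module.Finite.of_surjective p fun x => ⟨x, hp x⟩
  let : Module R E := Module.compHom E (algebraMap R (R ⧸ I))
  have : IsScalarTower R (R ⧸ I) E := IsScalarTower.of_algebraMap_smul fun _ _ => rfl
  let θ : M →ₗ[R] E := ((LinearMap.fst (R ⧸ I) E N ∘ₗ bm.symm.toLinearMap).restrictScalars R) ∘ₗ
    qm ∘ₗ M.subtype
  have hsnd : ∀ x : M, (bm.symm (qm x)).2 = 0 := fun x => bn.injective (by
    have h1 := LinearMap.congr_fun hπ (x : Fin m → R)
    rw [LinearMap.comp_apply, LinearMap.mem_ker.mp x.2, map_zero] at h1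
    rw [map_zero]
    exact h1.symm)
  refine ⟨M, inferInstance, inferInstance, inferInstance,
    Module.IsStablyFree.of_free_prod R M (Fin n → R),
    ⟨LinearEquiv.ofBijective (θ.liftBaseChange (R ⧸ I)) ⟨?_, ?_⟩⟩⟩
  · refine (injective_iff_map_eq_zero _).mpr fun z hz => ?_
    obtain ⟨x, rfl⟩ := TensorProduct.mk_surjective R M (R ⧸ I) Ideal.Quotient.mk_surjective z
    rw [TensorProduct.mk_apply, LinearMap.liftBaseChange_tmul, one_smul] at hz
    have hx : (x : Fin m → R) ∈ I • (⊤ : Submodule R (Fin m → R)) := by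
      refine hmem _ fun i => ?_
      have h1 : bm.symm (qm x) = 0 := Prod.ext hz (hsnd x)
      exact (Submodule.Quotient.mk_eq_zero I).mp (congrFun ((bm.symm.map_eq_zero_iff).mp h1) i)
    have h2 := Submodule.mem_map_of_mem (f := p) hx
    rw [Submodule.map_smul'', hp] at h2
    rw [TensorProduct.mk_apply]
    refine Submodule.smul_induction_on (Submodule.smul_mono le_rfl le_top h2 : x ∈ I • ⊤)
      (fun r hr y _ => ?_) fun a b ha hb => ?_
    · rw [← TensorProduct.smul_tmul, Algebra.smul_def, mul_one, Ideal.Quotient.algebraMap_eq,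
        Ideal.Quotient.eq_zero_iff_mem.mpr hr, TensorProduct.zero_tmul]
    · rw [TensorProduct.tmul_add, ha, hb, add_zero]
  · intro y
    obtain ⟨x, hx⟩ := hqm (bm (y, 0))
    refine ⟨1 ⊗ₜ p x, ?_⟩
    have h1 : ∀ i, π x i ∈ I := fun i => by
      have h2 := congrFun (LinearMap.congr_fun hπ x) i
      simp [pbar, hx] at h2
      exact (Submodule.Quotient.mk_eq_zero I).mp h2
    have h3 : qm (p x) = qm x := funext fun i => by
      have h4 : s (π x) ∈ I • (⊤ : Submodule R (Fin m → R)) := by
        have := Submodule.mem_map_of_mem (f := s) (hmem _ h1)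
        rw [Submodule.map_smul''] at this
        exact Submodule.smul_mono le_rfl le_top this
      refine (Submodule.Quotient.eq I).mpr ?_
      simpa [p] using hker _ h4 i
    rw [LinearMap.liftBaseChange_tmul, one_smul]
    show (bm.symm (qm (p x))).1 = y
    rw [h3, hx]
    simp

end Groth.Agent.S6863
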