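import Groth.Statements.S6866
import Groth.Agent.TF3.Basic
import Mathlib.LinearAlgebra.TensorProduct.Pi
import Mathlib.RingTheory.Flat.Basic
import Mathlib.LinearAlgebra.TensorProduct.Finiteness

set_option autoImplicit false
universe u
open TensorProduct
open CAlg

namespace Groth.Agent.S6866

/-- If `M` is a torsion free module over a domain `R` and `R → R'` is a flat ring map to another domain,
then `R' ⊗_R M` is torsion free over `R'`. -/
theorem result (R R' : Type u) [CommRing R] [IsDomain R] [CommRing R']
    [IsDomain R'] [Algebra R R'] [Module.Flat R R'] (M : Type u) [AddCommGroup M] [Module R M]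
    [Module.IsTorsionFree R M] : Module.IsTorsionFree R' (R' ⊗[R] M) := by
  classical
  refine ⟨fun r hr x y hxy => sub_eq_zero.mp ?_⟩
  have h0 : r • (x - y) = 0 := by rw [smul_sub]; exact sub_eq_zero.mpr hxy
  generalize x - y = z at h0 ⊢
  obtain ⟨T, rfl⟩ := TensorProduct.exists_finset z
  let N := Submodule.span R ((T.image Prod.snd : Finset M) : Set M)
  have hN : Module.Finite R N := Module.Finite.span_of_finite R (Finset.finite_toSet _)
  have : Module.IsTorsionFree R N := TF3.isTorsionFree_of_injective N.subtype N.injective_subtype
  obtain ⟨n, f, hf⟩ := TF3.exists_injective_of_torsionFree (R := R) (M := N)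
  let z' : TensorProduct R R' N := ∑ p ∈ T.attach, p.1.1 ⊗ₜ
    (⟨p.1.2, Submodule.subset_span (Finset.mem_image_of_mem _ p.2)⟩ : N)
  have hz' : N.subtype.baseChange R' z' = ∑ p ∈ T, p.1 ⊗ₜ[R] p.2 := by
    rw [map_sum, ← Finset.sum_attach T]
    exact Finset.sum_congr rfl fun p _ => by simp
  have hinj : Function.Injective (N.subtype.baseChange R') :=
    Module.Flat.lTensor_preserves_injective_linearMap (M := R') _ N.injective_subtype
  have h1 : r • z' = 0 := hinj (by rw [map_smul, hz', h0, map_zero])
  have hz0 : z' = 0 := by
    let e := TensorProduct.piScalarRight R R' R' (Fin n)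
    have hfi : Function.Injective (f.baseChange R') :=
      Module.Flat.lTensor_preserves_injective_linearMap (M := R') _ hf
    apply hfi
    apply e.injective
    rw [map_zero, map_zero]
    have := congrArg (fun w => e (f.baseChange R' w)) h1
    simp only [map_smul, map_zero] at this
    exact (smul_eq_zero_iff_right hr.ne_zero).mp this
  rw [← hz', hz0, map_zero]

end Groth.Agent.S6866
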