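import Groth.Statements.S6868
import Groth.Agent.CAlg1.Sk

set_option autoImplicit false
universe u
open CAlg

namespace Groth.Agent.S6868

/-- (1) ⇔ (3) ⇔ (4): for a Noetherian domain `R` and a nonzero finite `R`-module `M`, torsion-freeness
of `M` is equivalent to `(0)` being the unique associated prime of `M`, and also to the conjunction:
`(0)` belongs to the support of `M` and `M` satisfies Serre's condition `(S_1)`. (The published
statement also lists embedding into a finite free module and the absence of embedded associated
primes; this row states the other three conditions.) -/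
theorem result (R : Type u) [CommRing R]
    [IsDomain R] [IsNoetherianRing R] (M : Type u) [AddCommGroup M] [Module R M] [Module.Finite R M] [Nontrivial M] :
    (Module.IsTorsionFree R M ↔ associatedPrimes R M = {⊥}) ∧
    (Module.IsTorsionFree R M ↔
      (⟨⊥, Ideal.isPrime_bot⟩ : PrimeSpectrum R) ∈ Module.support R M ∧ LocCoh.HasSk 1 R M) := by
  have hass : Module.IsTorsionFree R M ↔ associatedPrimes R M = {⊥} := by
    constructor
    · intro _
      refine (Set.subset_singleton_iff_eq.mp ?_).resolve_left (associatedPrimes.nonempty R M).ne_empty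
      intro p hp
      obtain ⟨hp', x, hx⟩ := isAssociatedPrime_iff.mp hp
      refine eq_bot_iff.mpr fun r hr => ?_
      rw [hx, Submodule.mem_colon_singleton, Submodule.mem_bot] at hr
      refine (smul_eq_zero.mp hr).resolve_right fun h0 => hp'.ne_top ?_
      rw [hx, h0]
      simp
    · intro h
      refine ⟨fun c hc => ?_⟩
      rw [isSMulRegular_iff_right_eq_zero_of_smul]
      intro x hx
      by_contra hx0
      obtain ⟨p, hp, hann⟩ := exists_le_isAssociatedPrime_of_isNoetherianRing (R := R) x hx0
      have hp' : p ∈ associatedPrimes R M := hp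
      rw [h, Set.mem_singleton_iff] at hp'
      subst hp'
      exact hc.ne_zero (hann (by rw [Submodule.mem_colon_singleton, Submodule.mem_bot]; exact hx))
  refine ⟨hass, hass.trans ?_⟩
  rw [← Groth.Agent.CAlg1.noEmbedded_iff_S1]
  constructor
  · intro h
    have hbot := Groth.Agent.CAlg1.mem_support_of_assoc' (R := R) (M := M) (p := ⊥) (by simp [h])
    refine ⟨hbot, fun p hp => ?_⟩
    rw [h, Set.mem_singleton_iff] at hp
    subst hp
    exact ⟨⟨Ideal.isPrime_bot, Module.mem_support_iff_of_finite.mp hbot⟩, fun q _ _ => bot_le⟩
  · rintro ⟨hs, hmin⟩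
    have hann := Module.mem_support_iff_of_finite.mp hs
    refine (Set.subset_singleton_iff_eq.mp ?_).resolve_left (associatedPrimes.nonempty R M).ne_empty
    intro p hp
    exact eq_bot_iff.mpr ((hmin p hp).2 ⟨Ideal.isPrime_bot, hann⟩ bot_le)

end Groth.Agent.S6868
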