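import Groth.Statements.S6870
import Groth.Agent.TF3.Basic

set_option autoImplicit false
universe u
open CAlg

namespace Groth.Agent.S6870

/-- Let `R` be a domain, `M` a finite `R`-module and `j : M → M**` the evaluation map into the double
dual. Then one nonzero `c ∈ R` kills the kernel of `j` and multiplies `M**` into the image of `j`.
(The published statement says only that the kernel and cokernel of `j` are torsion; this row gives
one such `c` for both.) -/
theorem result (R : Type u) [CommRing R] [IsDomain R] (M : Type u)
    [AddCommGroup M] [Module R M] [Module.Finite R M] :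
    ∃ c : R, c ≠ 0 ∧ (∀ x : M, Module.Dual.eval R M x = 0 → c • x = 0) ∧
      ∀ y : Module.Dual R (Module.Dual R M), c • y ∈ LinearMap.range (Module.Dual.eval R M) := by
  obtain ⟨g, h, d, hd, hg, hgh, hhg⟩ := TF3.exists_rank_maps (R := R) (M := M)
  refine ⟨d, hd, fun x hx => ?_, fun y => ?_⟩
  · have : h x = 0 := funext fun i => LinearMap.congr_fun hx (LinearMap.proj (R := R) (φ := fun _ => R) i ∘ₗ h)
    rw [← hgh, this, map_zero]
  · obtain ⟨w, hw⟩ := (Module.bijective_dual_eval R (Fin (Module.finrank R M) → R)).2 (h.dualMap.dualMap y)
    refine ⟨g w, LinearMap.ext fun φ => ?_⟩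
    have h1 := LinearMap.congr_fun hw (g.dualMap φ)
    have h2 : h.dualMap (g.dualMap φ) = d • φ := LinearMap.ext fun x => by
      simp [LinearMap.dualMap_apply, hgh]
    rw [LinearMap.dualMap_apply, h2, map_smul] at h1
    exact h1

end Groth.Agent.S6870
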