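import Groth.Statements.S6878
import Mathlib.RingTheory.Ideal.AssociatedPrime.Basic
import Mathlib.Algebra.Module.LocalizedModule.Exact

set_option autoImplicit false
universe u
open CAlg

namespace Groth.Agent.S6878

/-- Let `R` be a Noetherian ring and `φ : M → N` a map of `R`-modules. Suppose that for every prime `𝔭`
of `R` either `M_𝔭 → N_𝔭` is injective or `𝔭` is not an associated prime of `M`. Then `φ` is
injective. -/
theorem result (R : Type u) [CommRing R]
    [IsNoetherianRing R] {M N : Type u} [AddCommGroup M] [Module R M] [AddCommGroup N] [Module R N] (φ : M →ₗ[R] N)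
    (h : ∀ (p : Ideal R) [p.IsPrime],
      Function.Injective (LocalizedModule.map p.primeCompl φ) ∨ p ∉ associatedPrimes R M) :
    Function.Injective φ := by
  rw [← LinearMap.ker_eq_bot, ← Submodule.subsingleton_iff_eq_bot]
  by_contra hne
  rw [not_subsingleton_iff_nontrivial] at hne
  obtain ⟨p, hp⟩ := associatedPrimes.nonempty R (LinearMap.ker φ)
  have hpM := IsAssociatedPrime.map_of_injective (f := (LinearMap.ker φ).subtype) hp
    (Submodule.injective_subtype _)
  have : p.IsPrime := hp.isPrime
  obtain ⟨x, hx⟩ := (isAssociatedPrime_iff.mp hp).2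
  rcases h p with hinj | hnot
  · have h0 : LocalizedModule.mkLinearMap p.primeCompl M (x : M) = 0 := by
      apply hinj
      rw [map_zero, LocalizedModule.mkLinearMap_apply, LocalizedModule.map_mk, LinearMap.mem_ker.mp x.2,
        LocalizedModule.zero_mk]
    obtain ⟨u, hu⟩ := (IsLocalizedModule.eq_zero_iff p.primeCompl _).mp h0
    have hmem : (u : R) ∈ (⊥ : Submodule R (LinearMap.ker φ)).colon {x} := by
      rw [Submodule.mem_colon_singleton, Submodule.mem_bot]
      exact Subtype.ext hu
    exact u.2 (hx ▸ hmem)
  · exact hnot hpM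

end Groth.Agent.S6878
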