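import Groth.Statements.S6879
import Groth.Agent.TF3.Depth

set_option autoImplicit false
universe u
open CAlg

namespace Groth.Agent.S6879

/-- Let `R` be a Noetherian domain and `M` a finite `R`-module. Then `M` is reflexive if and only if for
every prime `𝔭` of `R` either `M_𝔭` is a reflexive `R_𝔭`-module or `depth(M_𝔭) ≥ 2`. -/
theorem result (R : Type u) [CommRing R] [IsDomain R]
    [IsNoetherianRing R] (M : Type u) [AddCommGroup M] [Module R M] [Module.Finite R M] :
    Module.IsReflexive R M ↔ ∀ (p : Ideal R) [p.IsPrime],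
      Module.IsReflexive (Localization.AtPrime p) (LocalizedModule p.primeCompl M) ∨
        2 ≤ LocCoh.depth (Localization.AtPrime p) (LocalizedModule p.primeCompl M) := by
  constructor
  · exact fun _ p _ => Or.inl (Groth.Agent.TF3.isReflexive_localized p)
  intro h
  have : Module.Finite R (Module.Dual R M) := Groth.Agent.TF3.finite_dual
  have : Module.Finite R (Module.Dual R (Module.Dual R M)) := Groth.Agent.TF3.finite_dual
  refine ⟨Groth.Agent.CAlg1.bijective_of_depth_two _ fun p hp => ?_⟩
  have main : Module.IsReflexive (Localization.AtPrime p) (LocalizedModule p.primeCompl M) ∨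
      (2 ≤ LocCoh.depth (Localization.AtPrime p) (LocalizedModule p.primeCompl M) ∧ p ≠ ⊥) := by
    by_cases hp0 : p = ⊥
    · left
      have : Ring.KrullDimLE 0 (Localization.AtPrime p) := Ring.krullDimLE_iff.mpr (by
        rw [IsLocalization.AtPrime.ringKrullDim_eq_height p (Localization.AtPrime p)]
        simp [hp0, Ideal.height_bot])
      let := (Ring.KrullDimLE.isField_of_isReduced (R := Localization.AtPrime p)).toField
      infer_instance
    · exact (h p).imp_right fun hd => ⟨hd, hp0⟩
  refine main.imp (Groth.Agent.TF3.localized_eval_bijective_iff p).mpr fun ⟨hd, hp0⟩ => ⟨hd, ?_⟩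
  intro hp'
  obtain ⟨-, φ, hφ⟩ := isAssociatedPrime_iff.mp hp'
  refine hp0 (eq_bot_iff.mpr fun r hr => ?_)
  rw [hφ, Submodule.mem_colon_singleton, Submodule.mem_bot] at hr
  by_contra hr0
  have h0 : φ = 0 := LinearMap.ext fun ψ => by
    have := LinearMap.congr_fun hr ψ
    exact (mul_eq_zero.mp (by simpa using this)).resolve_left hr0
  exact hp.ne_top (by rw [hφ, h0]; simp)

end Groth.Agent.S6879
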