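import Groth.Statements.S6880
import Groth.Agent.TF3.Depth

set_option autoImplicit false
universe u
open CAlg

namespace Groth.Agent.S6880

/-- Let `R` be a Noetherian domain and `M` a finite reflexive `R`-module. For a prime `𝔭` with
`depth(R_𝔭) ≥ 2` one has `depth(M_𝔭) ≥ 2`; and if `R` has `(S_2)` then `M` has `(S_2)`. -/
theorem result (R : Type u) [CommRing R] [IsDomain R] [IsNoetherianRing R] (M : Type u)
    [AddCommGroup M] [Module R M] [Module.Finite R M] [Module.IsReflexive R M] :
    (∀ (p : Ideal R) [p.IsPrime], 2 ≤ LocCoh.depth (Localization.AtPrime p) (Localization.AtPrime p) →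
      2 ≤ LocCoh.depth (Localization.AtPrime p) (LocalizedModule p.primeCompl M)) ∧
    (LocCoh.HasSk 2 R R → LocCoh.HasSk 2 R M) := by
  have : Module.Finite R (Module.Dual R M) := Groth.Agent.TF3.finite_dual
  have e : (Module.Dual R M →ₗ[R] R) ≃ₗ[R] M := (Module.evalEquiv R M).symm
  constructor
  · intro p _ hd
    have : IsNoetherianRing (Localization.AtPrime p) :=
      IsLocalization.isNoetherianRing p.primeCompl _ inferInstance
    have := Groth.Agent.TF3.isReflexive_localized (M := M) p
    have : Module.Finite (Localization.AtPrime p)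
        (Module.Dual (Localization.AtPrime p) (LocalizedModule p.primeCompl M)) :=
      Groth.Agent.TF3.finite_dual
    rw [Groth.Agent.EGA4Alg4.depth_eq_of_equiv
      (Module.evalEquiv (Localization.AtPrime p) (LocalizedModule p.primeCompl M))]
    exact Groth.Agent.TF3.natCast_le_depth_hom (k := 2) le_rfl hd
  · intro h p _
    have : IsNoetherianRing (Localization.AtPrime p) :=
      IsLocalization.isNoetherianRing p.primeCompl _ inferInstance
    have h2 := Groth.Agent.TF3.hasSk_hom (M := Module.Dual R M) (N := R) (k := 2) le_rfl h p
    let e' := (LocalizedModule.map p.primeCompl e.toLinearMap)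
    let ep := LinearEquiv.ofBijective e'
      ⟨LocalizedModule.map_injective p.primeCompl _ e.injective,
        LocalizedModule.map_surjective p.primeCompl _ e.surjective⟩
    rwa [Module.supportDim_eq_of_equiv ep, Groth.Agent.EGA4Alg4.depth_eq_of_equiv ep] at h2

end Groth.Agent.S6880
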