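import Groth.Statements.S6881
import Groth.Agent.TF3.Bidual

set_option autoImplicit false
universe u
open CAlg

namespace Groth.Agent.S6881

/-- For `A` a Noetherian integrally closed domain with fraction field `K` and `L/K` a finite field
extension, if the integral closure of `A` in `L` is a finitely generated `A`-module then it is a
reflexive `A`-module. -/
theorem result (A K L : Type u) [CommRing A] [IsDomain A] [IsNoetherianRing A]
    [IsIntegrallyClosed A] [Field K] [Algebra A K] [IsFractionRing A K] [Field L] [Algebra K L] [FiniteDimensional K L]
    [Algebra A L] [IsScalarTower A K L] [Module.Finite A ↥(integralClosure A L)] :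
    Module.IsReflexive A ↥(integralClosure A L) := by
  exact TF3.isReflexive_integralClosure A K L

end Groth.Agent.S6881
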