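import Groth.Statements.S6882
import Groth.Agent.TF3.Basic
import Mathlib.Algebra.Module.PID
import Mathlib.Algebra.Module.Torsion.Basic

set_option autoImplicit false
universe u
open CAlg

namespace Groth.Agent.S6882

/-- For a finite module `M` over a discrete valuation ring `R`, the evaluation map from `M` to its
double dual `M**` is surjective. -/
theorem result (R : Type u) [CommRing R] [IsDomain R]
    [IsDiscreteValuationRing R] (M : Type u) [AddCommGroup M] [Module R M] [Module.Finite R M] :
    Function.Surjective (Module.Dual.eval R M) := by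
  let q := (Submodule.torsion R M).mkQ
  have : Module.Free R (M ⧸ Submodule.torsion R M) := Module.free_of_finite_type_torsion_free'
  have hqd : Function.Surjective q.dualMap := fun φ => by
    refine ⟨(Submodule.torsion R M).liftQ φ fun x hx => ?_, LinearMap.ext fun x => rfl⟩
    obtain ⟨⟨c, hc⟩, hcx⟩ := hx
    have h1 : c • φ x = 0 := by rw [← map_smul]; exact (congrArg φ hcx).trans (map_zero φ)
    exact (smul_eq_zero_iff_right (nonZeroDivisors.ne_zero hc)).mp h1
  intro y
  obtain ⟨z, hz⟩ := (Module.bijective_dual_eval R (M ⧸ Submodule.torsion R M)).2 (q.dualMap.dualMap y)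
  obtain ⟨x, rfl⟩ := (Submodule.torsion R M).mkQ_surjective z
  refine ⟨x, LinearMap.dualMap_injective_of_surjective hqd ?_⟩
  rw [← hz]
  rfl

end Groth.Agent.S6882
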