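import Groth.Statements.S6886
import Mathlib
open TensorProduct

set_option autoImplicit false
universe u
open TensorProduct
open CAlg

namespace Groth.Agent.S6886

/-- Let `R → S` be a finite ring map. One can find an extension `R ⊆ R'` of rings, with `R'` finite and
free as an `R`-module, for which the ring `S ⊗_R R'` arises as a quotient of `R'[T_1, …,
T_n]/(P_1(T_1), …, P_n(T_n))` with each `P_i(T) = ∏_j (T - α_{ij})` a product of linear factors over
`R'`. -/
theorem result (R S : Type u) [CommRing R] [CommRing S] [Algebra R S]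
    [Module.Finite R S] :
    ∃ (R' : Type u) (_ : CommRing R') (_ : Algebra R R'), Module.Finite R R' ∧ Module.Free R R' ∧
      Function.Injective (algebraMap R R') ∧
      ∃ (n : ℕ) (d : Fin n → ℕ) (α : (i : Fin n) → Fin (d i) → R')
        (φ : MvPolynomial (Fin n) R' →ₐ[R'] R' ⊗[R] S), Function.Surjective φ ∧
          ∀ i, φ (∏ j, (MvPolynomial.X i - MvPolynomial.C (α i j))) = 0 := by
  classical
  rcases subsingleton_or_nontrivial R with hR | hR
  · haveI : Subsingleton (R ⊗[R] S) := Module.subsingleton R _
    exact ⟨R, inferInstance, inferInstance, inferInstance, inferInstance, Function.injective_id, 0, Fin.elim0,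
      fun i => i.elim0, MvPolynomial.aeval (fun i => i.elim0), fun x => ⟨0, Subsingleton.elim _ _⟩, fun i => i.elim0⟩
  obtain ⟨n, g, hg⟩ := Module.Finite.exists_fin (R := R) (M := S)
  choose p hp hp0 using fun i => Algebra.IsIntegral.isIntegral (R := R) (g i)
  let P := ∏ i, p i
  have hP : P.Monic := Polynomial.monic_prod_of_monic _ _ fun i _ => hp i
  have hP0 : ∀ i, Polynomial.aeval (g i) P = 0 := fun i => by
    rw [map_prod]; exact Finset.prod_eq_zero (Finset.mem_univ i) (hp0 i)
  obtain ⟨R', _, _, _, _, _, hsplit⟩ := hP.exists_splits_map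
  obtain ⟨m, hm⟩ := Polynomial.splits_iff_exists_multiset.mp hsplit
  rw [(hP.map _).leadingCoeff, map_one, one_mul] at hm
  have hinj : Function.Injective (algebraMap R R') := by
    let b := Module.Free.chooseBasis R R'
    obtain ⟨i⟩ : Nonempty (Module.Free.ChooseBasisIndex R R') := b.index_nonempty
    intro x y hxy
    have h1 : x • b i = y • b i := by rw [Algebra.smul_def, Algebra.smul_def, hxy]
    have := congrArg (fun z => b.repr z i) h1
    simpa using this
  refine ⟨R', inferInstance, inferInstance, inferInstance, inferInstance, hinj, n, fun _ => m.toList.length,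
    fun _ j => m.toList.get j, MvPolynomial.aeval (fun i => (1 : R') ⊗ₜ[R] g i), ?_, fun i => ?_⟩
  · intro z
    induction z with
    | zero => exact ⟨0, map_zero _⟩
    | add a b ha hb =>
      obtain ⟨x, rfl⟩ := ha; obtain ⟨y, rfl⟩ := hb
      exact ⟨x + y, map_add _ _ _⟩
    | tmul a s =>
      obtain ⟨c, rfl⟩ := (Submodule.mem_span_range_iff_exists_fun R).mp (hg ▸ Submodule.mem_top : s ∈ Submodule.span R (Set.range g))
      refine ⟨∑ i, MvPolynomial.C (a * algebraMap R R' (c i)) * MvPolynomial.X i, ?_⟩
      rw [map_sum, TensorProduct.tmul_sum]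
      refine Finset.sum_congr rfl fun i _ => ?_
      rw [map_mul, MvPolynomial.aeval_C, MvPolynomial.aeval_X, Algebra.TensorProduct.algebraMap_apply,
        Algebra.algebraMap_self, RingHom.id_apply, Algebra.TensorProduct.tmul_mul_tmul, mul_one, one_mul,
        mul_comm, ← Algebra.smul_def, TensorProduct.smul_tmul]
  · have h1 : Polynomial.aeval ((1 : R') ⊗ₜ[R] g i) (P.map (algebraMap R R')) = 0 := by
      rw [Polynomial.aeval_map_algebraMap, show ((1 : R') ⊗ₜ[R] g i) = (Algebra.TensorProduct.includeRight : S →ₐ[R] R' ⊗[R] S) (g i) from rfl,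
        Polynomial.aeval_algHom_apply, hP0, map_zero]
    rw [hm, ← m.coe_toList, Multiset.map_coe, Multiset.prod_coe, ← Fin.prod_univ_fun_getElem] at h1
    simp only [map_prod, map_sub, Polynomial.aeval_X, Polynomial.aeval_C] at h1
    simpa using h1

end Groth.Agent.S6886
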