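import Groth.Statements.S6887
import Mathlib.LinearAlgebra.Matrix.Charpoly.Coeff
import Mathlib.LinearAlgebra.Matrix.Adjugate
import Mathlib.RingTheory.Finiteness.Ideal

set_option autoImplicit false
universe u
open Polynomial
open CAlg

namespace Groth.Agent.S6887

/-- Let `(A, I)` be a Zariski pair (`I` inside the Jacobson radical) and `A → B` a finite ring map.
Suppose `B/IB ≅ B₁ × B₂` as `A`-algebras with `A → B₁` surjective, and `b ∈ B` maps to `(1, 0)`.
Then there is a monic `f ∈ A[x]` with `f(b) = 0` whose reduction modulo `I` is `(x - 1) x^d` for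
some `d ≥ 1`. -/
theorem result (A B : Type u) [CommRing A] [CommRing B]
    [Algebra A B] [Module.Finite A B] (I : Ideal A) (hI : I ≤ Ideal.jacobson (⊥ : Ideal A))
    (B₁ B₂ : Type u) [CommRing B₁] [CommRing B₂] [Algebra A B₁] [Algebra A B₂]
    (e : (B ⧸ I.map (algebraMap A B)) ≃ₐ[A] B₁ × B₂) (h₁ : Function.Surjective (algebraMap A B₁)) (b : B)
    (hb : e (Ideal.Quotient.mk (I.map (algebraMap A B)) b) = (1, 0)) :
    ∃ (f : A[X]) (d : ℕ), f.Monic ∧ Polynomial.aeval b f = 0 ∧ 1 ≤ d ∧
      f.map (Ideal.Quotient.mk I) = (X - 1) * X ^ d := by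
  classical
  let q : B →ₐ[A] B₁ × B₂ := e.toAlgHom.comp (Ideal.Quotient.mkₐ A (I.map (algebraMap A B)))
  have hqb : q b = (1, 0) := hb
  obtain ⟨m, t, ht⟩ := Module.Finite.exists_fin (R := A) (M := B)
  choose c hc using fun i => h₁ (q (t i)).1
  let u : Fin (m + 2) → B := Fin.cons b (Fin.cons 0 fun i => t i - c i • b)
  have hspan : Submodule.span A (Set.range u) = ⊤ := by
    rw [eq_top_iff, ← ht, Submodule.span_le]
    rintro _ ⟨i, rfl⟩
    have h0 : b ∈ Submodule.span A (Set.range u) := Submodule.subset_span ⟨0, rfl⟩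
    have h1 : t i - c i • b ∈ Submodule.span A (Set.range u) :=
      Submodule.subset_span ⟨i.succ.succ, rfl⟩
    simpa using add_mem h1 (Submodule.smul_mem _ (c i) h0)
  let δ : Fin (m + 2) → A := Fin.cons 1 0
  have hker : ∀ x : B, q x = 0 → x ∈ I • Submodule.span A (Set.range u) := by
    intro x hx
    rw [hspan, Ideal.smul_top_eq_map]
    exact Ideal.Quotient.eq_zero_iff_mem.mp
      ((map_eq_zero_iff e e.injective).mp hx)
  have hrel : ∀ i, q (b * u i - δ i • u i) = 0 := by
    refine Fin.cases ?_ (Fin.cases ?_ fun i => ?_)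
    · simp [u, δ, hqb]
    · simp [u, δ]
    · have h2 : (q (t i - c i • b)).1 = 0 := by simp [hqb, ← hc, Algebra.smul_def]
      simp only [u, δ, Fin.cons_succ, Pi.zero_apply, zero_smul, sub_zero, map_mul, hqb]
      ext
      · simp only [Prod.fst_mul, one_mul, h2, Prod.fst_zero]
      · simp
  choose a ha hau using fun i =>
    (Submodule.mem_ideal_smul_span_iff_exists_sum I u _).mp (hker _ (hrel i))
  let N : Matrix (Fin (m + 2)) (Fin (m + 2)) A := Matrix.of fun i j => Matrix.diagonal δ i j + a i j
  have hNu : ∀ i, b * u i = ∑ j, N i j • u j := by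
    intro i
    have h := hau i
    rw [Finsupp.sum_fintype _ _ (fun _ => by simp)] at h
    simp only [N, Matrix.of_apply, add_smul, Finset.sum_add_distrib, h, Matrix.diagonal_apply,
      ite_smul, zero_smul, Finset.sum_ite_eq, Finset.mem_univ, if_true]
    ring
  let ψ := algebraMap A B
  let N' : Matrix (Fin (m + 2)) (Fin (m + 2)) B := Matrix.scalar _ b - N.map ψ
  have h0 : N'.mulVec u = 0 := funext fun i => by
    simp only [N', Matrix.sub_mulVec, Pi.sub_apply, Matrix.scalar_apply, Matrix.mulVec_diagonal,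
      Pi.zero_apply]
    rw [sub_eq_zero, hNu]
    simp [Matrix.mulVec, dotProduct, Algebra.smul_def, ψ]
  have hdet : ∀ i, N'.det * u i = 0 := fun i => by
    have h := congrFun (congrArg N'.adjugate.mulVec h0) i
    rw [Matrix.mulVec_mulVec, Matrix.adjugate_mul, Matrix.smul_mulVec, Matrix.one_mulVec,
      Matrix.mulVec_zero] at h
    exact h
  have hzero : ∀ x : B, N'.det * x = 0 := by
    intro x
    have hx : x ∈ Submodule.span A (Set.range u) := hspan ▸ Submodule.mem_top
    induction hx using Submodule.span_induction with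
    | mem x hx => obtain ⟨i, rfl⟩ := hx; exact hdet i
    | zero => exact mul_zero _
    | add x y _ _ hx hy => rw [mul_add, hx, hy, add_zero]
    | smul r x _ hx => rw [mul_smul_comm, hx, smul_zero]
  refine ⟨N.charpoly, m + 1, Matrix.charpoly_monic N, ?_, Nat.le_add_left 1 m, ?_⟩
  · rw [Polynomial.aeval_def, Polynomial.eval₂_eq_eval_map, ← Matrix.charpoly_map,
      Matrix.eval_charpoly, show (Matrix.scalar _ b - N.map ψ) = N' from rfl]
    simpa using hzero 1
  · rw [← Matrix.charpoly_map,
      show N.map (Ideal.Quotient.mk I) = Matrix.diagonal (Ideal.Quotient.mk I ∘ δ) by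
        ext i j
        simp only [N, Matrix.map_apply, Matrix.of_apply, map_add,
          Ideal.Quotient.eq_zero_iff_mem.mpr (ha i j), add_zero]
        rcases eq_or_ne i j with rfl | hij <;> simp [*],
      Matrix.charpoly_diagonal, Fin.prod_univ_succ]
    simp [δ]

end Groth.Agent.S6887
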