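import Groth.Statements.S6888
import Mathlib.Algebra.Polynomial.Div
import Mathlib.Tactic.LinearCombination

set_option autoImplicit false
universe u
open Polynomial
open CAlg

namespace Groth.Agent.S6888

/-- Let `A` be absolutely integrally closed (every monic polynomial over `A` is a product of linear
factors) and `I ⊆ A` an ideal contained in the Jacobson radical such that `A → A/I` is surjective
(hence bijective) on idempotents. Then `(A, I)` is a henselian pair. (The published statement also
records the converse, which holds for every henselian pair; this row states the sufficiency only.) -/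
theorem result (A : Type u) [CommRing A]
    (hA : ∀ f : A[X], f.Monic → ∃ s : Multiset A, f = (s.map fun a => X - C a).prod) (I : Ideal A)
    (hI : I ≤ Ideal.jacobson (⊥ : Ideal A))
    (hidem : ∀ e : A ⧸ I, IsIdempotentElem e → ∃ e' : A, IsIdempotentElem e' ∧ Ideal.Quotient.mk I e' = e) :
    HenselianRing A I := by
  refine ⟨hI, fun f hf a₀ h0 h1 => ?_⟩
  have key : ∀ (s : Multiset A) (ε w : A), ε * ε = ε →
      ε * ((s.map fun α => X - C α).prod).eval a₀ ∈ I →
      ε * (1 - w * (derivative ((s.map fun α => X - C α).prod)).eval a₀) ∈ I →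
      ∃ a, ε * ((s.map fun α => X - C α).prod).eval a = 0 ∧ ε * (a - a₀) ∈ I := by
    intro s
    induction s using Multiset.induction with
    | empty =>
      intro ε w hε h _
      simp only [Multiset.map_zero, Multiset.prod_zero, eval_one, mul_one] at h ⊢
      have hu : IsUnit (1 - ε) := by simpa [neg_mul, ← sub_eq_neg_add] using Ideal.mem_jacobson_bot.mp (hI h) (-1)
      have h0 : ε = 0 := hu.mul_left_eq_zero.mp (by rw [mul_sub, mul_one, hε, sub_self])
      exact ⟨a₀, h0, by simp⟩
    | cons α t ih =>
      intro ε w hε hf0 hfd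
      set g := (t.map fun β => X - C β).prod with hg
      simp only [Multiset.map_cons, Multiset.prod_cons, ← hg, derivative_mul, derivative_sub, derivative_X,
        derivative_C, sub_zero, one_mul, eval_add, eval_mul, eval_sub, eval_X, eval_C] at hf0 hfd ⊢
      let π := Ideal.Quotient.mk I
      have hε' : π ε * π ε = π ε := by rw [← map_mul, hε]
      rw [← Ideal.Quotient.eq_zero_iff_mem] at hf0 hfd
      simp only [map_mul, map_sub, map_add, map_one] at hf0 hfd
      obtain ⟨e, he, hee⟩ := hidem (π (ε * w * g.eval a₀)) (by
        simp only [IsIdempotentElem, π, map_mul]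
        linear_combination (-(π w) * π (g.eval a₀)) * hfd + (π w * π (g.eval a₀)) ^ 2 * hε' +
          (-(π w) ^ 2 * π ((derivative g).eval a₀)) * hf0)
      simp only [π, map_mul] at hee
      have hee' : e * e = e := he
      have hε₁ : (ε * (1 - e)) * (ε * (1 - e)) = ε * (1 - e) := by
        linear_combination (1 - e) ^ 2 * hε + ε * hee'
      obtain ⟨a', ha', ha''⟩ := ih (ε * (1 - e)) (w * (a₀ - α)) hε₁ (by
        rw [← Ideal.Quotient.eq_zero_iff_mem]
        simp only [map_mul, map_sub, map_one, hee]
        linear_combination π (g.eval a₀) * hfd + (-(π w) * π (g.eval a₀) ^ 2) * hε' +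
          (π w * π ((derivative g).eval a₀)) * hf0) (by
        rw [← Ideal.Quotient.eq_zero_iff_mem]
        simp only [map_mul, map_sub, map_one, hee]
        linear_combination hfd + (π w ^ 2 * π ((derivative g).eval a₀)) * hf0 +
          (-(π w) * π (g.eval a₀) * (1 - π w * (π a₀ - π α) * π ((derivative g).eval a₀))) * hε')
      let a := e * α + (1 - e) * a'
      obtain ⟨q, hq⟩ : (a - a') ∣ g.eval a - g.eval a' := Polynomial.sub_dvd_eval_sub a a' g
      refine ⟨a, ?_, ?_⟩
      · simp only [a] at hq ⊢
        linear_combination (a' - α) * ha' + (ε * (a' - α)) * (1 - e) * hq +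
          (-(ε * (a' - α) * q * (α - a'))) * hee'
      · rw [← Ideal.Quotient.eq_zero_iff_mem] at ha'' ⊢
        simp only [map_mul, map_sub, map_one, hee] at ha''
        simp only [a, map_mul, map_sub, map_add, map_one, hee]
        linear_combination ha'' + (-(π ε) * π w) * hf0
  obtain ⟨s, rfl⟩ := hA f hf
  obtain ⟨v, hv⟩ := Ideal.Quotient.mk_surjective (((h1.unit⁻¹ : (A ⧸ I)ˣ)) : A ⧸ I)
  obtain ⟨a, ha, ha'⟩ := key s 1 v (one_mul 1) (by rwa [one_mul]) (by
    rw [one_mul, ← Ideal.Quotient.eq_zero_iff_mem, map_sub, map_one, map_mul, hv, sub_eq_zero]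
    exact (IsUnit.val_inv_mul h1).symm)
  exact ⟨a, by simpa [IsRoot] using ha, by simpa using ha'⟩

end Groth.Agent.S6888
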