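import Groth.Statements.S6891
import Groth.Agent.Fit14.Local

set_option autoImplicit false
universe u
open Fitt

namespace Groth.Agent.S6891

/-- Let `M` be a finite `R`-module. Then `Fit_0(M) ⊆ Ann_R(M)`, the closed set `V(Fit_0(M))` equals
`Supp(M)`, and for an ideal `I` one has `Fit_0(R/I) = I`. -/
theorem result {R : Type u} [CommRing R] (M : Type u) [AddCommGroup M]
    [Module R M] [Module.Finite R M] (I : Ideal R) :
    Fitt.ideal R M 0 ≤ Module.annihilator R M ∧
    PrimeSpectrum.zeroLocus (Fitt.ideal R M 0 : Set R) = Module.support R M ∧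
    Fitt.ideal R (R ⧸ I) 0 = I := by
  refine ⟨Fit14.ideal_zero_le_annihilator, Fit14.zeroLocus_ideal_zero, ?_⟩
  have hx : Submodule.span R (Set.range fun _ : Fin 1 => Ideal.Quotient.mk I (1 : R)) = ⊤ := by
    rw [eq_top_iff]
    intro y _
    obtain ⟨r, rfl⟩ := Ideal.Quotient.mk_surjective y
    refine (Submodule.mem_span_range_iff_exists_fun R).2 ⟨fun _ => r, ?_⟩
    simp [Algebra.smul_def]
  rw [Fit14.ideal_eq_fitOf _ hx]
  refine le_antisymm (Fit14.fitOf_le _ 0 fun a s hs ha => ?_) fun r hr => ?_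
  · have h0 : a 0 ∈ Fit14.rels (fun _ : Fin 1 => Ideal.Quotient.mk I (1 : R)) := ha 0 (by
      have := Finset.eq_univ_of_card s (by have := Finset.card_le_univ s; simp at this ⊢; omega)
      simp [this])
    rw [Matrix.det_unique]
    rw [Fit14.mem_rels] at h0
    simpa [Algebra.smul_def, Ideal.Quotient.eq_zero_iff_mem] using h0
  · have : (Matrix.of fun _ _ : Fin 1 => r).det ∈
        Fit14.fitOf (fun _ : Fin 1 => Ideal.Quotient.mk I (1 : R)) 0 :=
      Fit14.det_mem_fitOf _ 0 _ Finset.univ (by simp) (fun i _ => Fit14.mem_rels.2 (by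
        simp [Algebra.smul_def, Ideal.Quotient.eq_zero_iff_mem, hr]))
    simpa using this

end Groth.Agent.S6891
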