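import Groth.Statements.S6893
import Groth.Agent.FiniteDescent3.Inf

set_option autoImplicit false
universe u
open TensorProduct
open CAlg

namespace Groth.Agent.S6893

/-- Let `M` be a module over a ring `R` and `I₁, I₂ ⊆ R` ideals. Suppose flatness of `M/I₁M` as an
`R/I₁`-module holds, and likewise `M/I₂M` is a flat `R/I₂`-module; then the quotient `M/(I₁ ∩ I₂)M`
is also flat as a module over `R/(I₁ ∩ I₂)`. -/
theorem result {R : Type u} [CommRing R] (M : Type u) [AddCommGroup M] [Module R M]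
    (I₁ I₂ : Ideal R) [Module.Flat (R ⧸ I₁) ((R ⧸ I₁) ⊗[R] M)] [Module.Flat (R ⧸ I₂) ((R ⧸ I₂) ⊗[R] M)] :
    Module.Flat (R ⧸ (I₁ ⊓ I₂)) ((R ⧸ (I₁ ⊓ I₂)) ⊗[R] M) := by
  let A := R ⧸ (I₁ ⊓ I₂)
  letI : Algebra A (R ⧸ I₁) := (Ideal.Quotient.factor (inf_le_left : I₁ ⊓ I₂ ≤ I₁)).toAlgebra
  letI : Algebra A (R ⧸ I₂) := (Ideal.Quotient.factor (inf_le_right : I₁ ⊓ I₂ ≤ I₂)).toAlgebra
  haveI : IsScalarTower R A (R ⧸ I₁) := IsScalarTower.of_algebraMap_eq fun _ => rfl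
  haveI : IsScalarTower R A (R ⧸ I₂) := IsScalarTower.of_algebraMap_eq fun _ => rfl
  haveI : Module.Flat (R ⧸ I₁) ((R ⧸ I₁) ⊗[A] (A ⊗[R] M)) := Module.Flat.of_linearEquiv
    (TensorProduct.AlgebraTensorModule.cancelBaseChange R A (R ⧸ I₁) (R ⧸ I₁) M)
  haveI : Module.Flat (R ⧸ I₂) ((R ⧸ I₂) ⊗[A] (A ⊗[R] M)) := Module.Flat.of_linearEquiv
    (TensorProduct.AlgebraTensorModule.cancelBaseChange R A (R ⧸ I₂) (R ⧸ I₂) M)
  refine Groth.Agent.FiniteDescent3.flat_of_two_quotients (A₁ := R ⧸ I₁) (A₂ := R ⧸ I₂)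
    (Ideal.Quotient.factor_surjective _) (Ideal.Quotient.factor_surjective _) ?_ _
  refine eq_bot_iff.mpr fun x hx => ?_
  obtain ⟨r, rfl⟩ := Ideal.Quotient.mk_surjective x
  exact Ideal.Quotient.eq_zero_iff_mem.mpr
    ⟨Ideal.Quotient.eq_zero_iff_mem.mp hx.1, Ideal.Quotient.eq_zero_iff_mem.mp hx.2⟩

end Groth.Agent.S6893
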