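import Groth.Statements.S6894
import Groth.Agent.Fit14.Local

set_option autoImplicit false
universe u
open TensorProduct
open Fitt

namespace Groth.Agent.S6894

/-- Let `M` be a finite `R`-module, `k ≥ 0` and `𝔭 ⊆ R` a prime. Then each of the following conditions
implies all the others: the Fitting ideal `Fit_k(M)` is not contained in `𝔭`; the fiber `M ⊗_R κ(𝔭)`
has dimension at most `k` over `κ(𝔭)`; some `k` elements span the localization `M_𝔭` over `R_𝔭`; and
for some `f ∉ 𝔭`, the module `M_f` is spanned over `R_f` by `k` elements. -/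
theorem result {R : Type u} [CommRing R] (M : Type u) [AddCommGroup M] [Module R M]
    [Module.Finite R M] (k : ℕ) (p : Ideal R) [p.IsPrime] :
    (¬ Fitt.ideal R M k ≤ p ↔ Module.finrank p.ResidueField (p.ResidueField ⊗[R] M) ≤ k) ∧
    (¬ Fitt.ideal R M k ≤ p ↔
      ∃ g : Fin k → LocalizedModule p.primeCompl M, Submodule.span (Localization.AtPrime p) (Set.range g) = ⊤) ∧
    (¬ Fitt.ideal R M k ≤ p ↔ ∃ f : R, f ∉ p ∧
      ∃ g : Fin k → LocalizedModule (Submonoid.powers f) M,
        Submodule.span (Localization.Away f) (Set.range g) = ⊤) := by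
  refine ⟨Fit14.not_le_iff_finrank_le p k, (Fit14.exists_gens_atPrime_iff p k).symm, ?_, ?_⟩
  · intro h
    obtain ⟨g, hg⟩ := (Fit14.exists_gens_atPrime_iff p k).2 h
    obtain ⟨f, m, hf, hm⟩ := Fit14.exists_gens_away p g hg
    exact ⟨f, hf, _, hm⟩
  · rintro ⟨f, hf, g, hg⟩ hle
    have h := (Fit14.ideal_localizedModule (Submonoid.powers f) k).symm.trans
      (Fit14.ideal_eq_top_of_gens g hg le_rfl)
    rw [← not_ne_iff,
      IsLocalization.map_algebraMap_ne_top_iff_disjoint (Submonoid.powers f)] at h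
    obtain ⟨c, hc1, hc2⟩ := Set.not_disjoint_iff.1 h
    obtain ⟨j, rfl⟩ := hc1
    exact hf (Ideal.IsPrime.mem_of_pow_mem inferInstance j (hle hc2))

end Groth.Agent.S6894
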