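import Groth.Statements.S6896
import Groth.Agent.Fit14.Tors

set_option autoImplicit false
universe u
open Fitt

namespace Groth.Agent.S6896

/-- Let `R` be a local ring, `M` a finite `R`-module and `k ≥ 0` with `Fit_k(M) = (f)` principal. Then
the quotient `M'` of `M` by the submodule `{x ∈ M | f x = 0}` can be generated by `k` elements. -/
theorem result {R : Type u} [CommRing R] [IsLocalRing R]
    (M : Type u) [AddCommGroup M] [Module R M] [Module.Finite R M] (k : ℕ) (f : R)
    (hf : Fitt.ideal R M k = Ideal.span {f}) :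
    ∃ g : Fin k → M ⧸ LinearMap.ker (f • (LinearMap.id : M →ₗ[R] M)),
      Submodule.span R (Set.range g) = ⊤ := by
  refine Fit14.exists_gens_of_ideal_eq_top ?_
  obtain ⟨n, x, hx⟩ := Fit14.exists_gens R M
  rcases eq_or_ne f 0 with rfl | hf0
  · have hK : LinearMap.ker ((0 : R) • (LinearMap.id : M →ₗ[R] M)) = ⊤ := by simp
    have hsub : Subsingleton (M ⧸ LinearMap.ker ((0 : R) • (LinearMap.id : M →ₗ[R] M))) := by
      rw [hK]; infer_instance
    refine Fit14.ideal_eq_top_of_gens (n := 0) (fun i => i.elim0) ?_ (Nat.zero_le k)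
    exact Subsingleton.elim _ _
  · exact Fit14.ideal_eq_top_of_quotient_local x hx k f hf0 hf (Submodule.mkQ _)
      (Submodule.mkQ_surjective _) fun m hm => by
        rw [Submodule.mkQ_apply, Submodule.Quotient.mk_eq_zero, LinearMap.mem_ker]
        simpa using hm

end Groth.Agent.S6896
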