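import Groth.Statements.S6897
import Groth.Agent.Fit14.Split

set_option autoImplicit false
universe u
open CategoryTheory
open Fitt

namespace Groth.Agent.S6897

/-- Let `M` be a finitely presented `R`-module and `k ≥ 0` such that `Fit_k(M) = (f)` for a
nonzerodivisor `f` and `Fit_{k-1}(M) = 0` (no condition when `k = 0`). Let `M' = Ker(f : M → M)`.
Then: the projective dimension of `M` is at most `1`; `M'` coincides with the `f`-power torsion of
`M` and its projective dimension is at most `1`; every prime of `R` has a basic open neighbourhood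
over which `M/M'` is free of rank `k`; and `M ≅ M/M' ⊕ M'` (existence of an isomorphism). -/
theorem result {R : Type u} [CommRing R] (M : Type u)
    [AddCommGroup M] [Module R M] [Module.FinitePresentation R M] (k : ℕ) (f : R) (hf0 : f ∈ nonZeroDivisors R)
    (hf : Fitt.ideal R M k = Ideal.span {f}) (hk : k = 0 ∨ Fitt.ideal R M (k - 1) = ⊥) :
    HasProjectiveDimensionLT (ModuleCat.of R M) 2 ∧
    (∀ x : M, (∃ n : ℕ, f ^ n • x = 0) ↔ f • x = 0) ∧
    HasProjectiveDimensionLT (ModuleCat.of R ↥(LinearMap.ker (f • (LinearMap.id : M →ₗ[R] M)))) 2 ∧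
    (∀ (p : Ideal R) [p.IsPrime], ∃ g : R, g ∉ p ∧
      Module.Free (Localization.Away g)
          (LocalizedModule (Submonoid.powers g) (M ⧸ LinearMap.ker (f • (LinearMap.id : M →ₗ[R] M)))) ∧
        Module.finrank (Localization.Away g)
          (LocalizedModule (Submonoid.powers g) (M ⧸ LinearMap.ker (f • (LinearMap.id : M →ₗ[R] M)))) = k) ∧
    Nonempty (M ≃ₗ[R] (M ⧸ LinearMap.ker (f • (LinearMap.id : M →ₗ[R] M))) ×
      ↥(LinearMap.ker (f • (LinearMap.id : M →ₗ[R] M)))) := by
  classical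
  obtain ⟨n, x, hx⟩ := Fit14.exists_gens R M
  set M' := LinearMap.ker (f • (LinearMap.id : M →ₗ[R] M)) with hM'def
  have hmem : ∀ m : M, m ∈ M' ↔ f • m = 0 := fun m => by simp [M']
  have hs : Fit14.minors (Fit14.rels (R := R) x : Set (Fin n → R)) (n - k) = Ideal.span {f} := by
    rw [Fit14.ideal_eq_fitOf x hx] at hf; exact hf
  have htop : Fitt.ideal R (M ⧸ M') k = ⊤ :=
    Fit14.ideal_eq_top_of_quotient_of_regular x hx k _ subset_rfl f hf0 hs M'.mkQ M'.mkQ_surjective
      fun m hm => (Submodule.Quotient.mk_eq_zero _).2 ((hmem m).2 hm)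
  have hbot : ∀ j, j < k → Fitt.ideal R (M ⧸ M') j = ⊥ := by
    intro j hj
    refine Fit14.ideal_eq_bot_of_torsion j f hf0 M'.mkQ M'.mkQ_surjective
      (fun m hm => ⟨1, by simpa using (hmem m).1 ((Submodule.Quotient.mk_eq_zero _).1 hm)⟩) ?_
    rcases hk with rfl | hk
    · omega
    · exact le_bot_iff.1 ((Fit14.ideal_mono (by omega : j ≤ k - 1)).trans hk.le)
  have hall : ∀ j, k ≤ j → Fitt.ideal R (M ⧸ M') j = ⊤ := fun j hj =>
    top_le_iff.1 (htop.ge.trans (Fit14.ideal_mono hj))
  have hall' := (Fit14.locallyFree_iff (M := M ⧸ M') k).2 ⟨hbot, hall⟩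
  have hproj : Module.Projective R (M ⧸ M') :=
    Fit14.projective_of_fitting (M'.mkQ ∘ x) (by
      rw [Set.range_comp, ← Submodule.map_span, hx, Submodule.map_top, Submodule.range_mkQ]) k hbot htop
  obtain ⟨σ, hσ⟩ := Module.projective_lifting_property M'.mkQ
    (LinearMap.id : (M ⧸ M') →ₗ[R] M ⧸ M') M'.mkQ_surjective
  have hσ' : ∀ y, M'.mkQ (σ y) = y := LinearMap.congr_fun hσ
  let π : M →ₗ[R] M' := LinearMap.codRestrict M' (LinearMap.id - σ ∘ₗ M'.mkQ) fun m => by
    rw [← Submodule.Quotient.mk_eq_zero, ← Submodule.mkQ_apply]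
    rw [LinearMap.sub_apply, map_sub]
    simp [LinearMap.comp_apply, hσ']
  have hπ : ∀ m : M', π m = m := fun m => Subtype.ext (by
    simp [π, (Submodule.Quotient.mk_eq_zero M').2 m.2])
  have hπσ : ∀ y, π (σ y) = 0 := fun y => Subtype.ext (by
    have : (π (σ y) : M) = σ y - σ (M'.mkQ (σ y)) := rfl
    rw [this, hσ', sub_self]; rfl)
  let E : M ≃ₗ[R] (M ⧸ M') × M' :=
    LinearEquiv.ofLinear (M'.mkQ.prod π) (σ.coprod M'.subtype)
      (LinearMap.ext fun ⟨y, m⟩ => Prod.ext
        (by simpa [(Submodule.Quotient.mk_eq_zero M').2 m.2] using hσ' y)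
        (by simp [hπσ, hπ]))
      (LinearMap.ext fun m => by simp [π])
  have : Module.Finite R M' := Module.Finite.of_surjective π fun m => ⟨m, hπ m⟩
  have hM'0 : Fitt.ideal R M' 0 = Ideal.span {f} := by
    have h := Fit14.ideal_congr E k
    rw [hf, Fit14.ideal_prod] at h
    rw [Finset.sum_eq_single_of_mem k (by simp) fun j hj hne => ?_] at h
    · rw [htop, Nat.sub_self, Ideal.top_mul] at h; exact h.symm
    · rw [hbot j (by have := Finset.mem_range.1 hj; omega), Ideal.bot_mul]
      rfl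
  obtain ⟨m, y, hy⟩ := Fit14.exists_gens R M'
  have := Fit14.projective_rels y hy f hf0 hM'0
  have hpd' : HasProjectiveDimensionLT (ModuleCat.of R M') 2 := Fit14.hasProjectiveDimensionLT_two y hy
  refine ⟨?_, fun m => ⟨?_, fun h => ⟨1, by simpa using h⟩⟩, hpd', fun p _ => hall' p, ⟨E⟩⟩
  · have : Projective (ModuleCat.of R (M ⧸ M')) := (IsProjective.iff_projective _).1 hproj
    have : HasProjectiveDimensionLT (ModuleCat.of R (M ⧸ M')) 2 :=
      hasProjectiveDimensionLT_of_ge _ 1 2 (by omega)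
    have hp : HasProjectiveDimensionLT (ModuleCat.of R ((M ⧸ M') × M')) 2 :=
      hasProjectiveDimensionLT_of_iso (ModuleCat.biprodIsoProd (ModuleCat.of R (M ⧸ M')) (ModuleCat.of R M')) 2
    exact hasProjectiveDimensionLT_of_iso (LinearEquiv.toModuleIso E.symm) 2
  · rintro ⟨i, hi⟩
    rw [← hmem, ← Submodule.Quotient.mk_eq_zero]
    -- `f` is regular on a projective module
    obtain ⟨s, hs'⟩ := hproj.out
    have h0 : f ^ i • M'.mkQ m = 0 := by rw [← map_smul, hi, map_zero]
    have h1 := congrArg s h0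
    rw [map_smul, map_zero] at h1
    have h2 : s (M'.mkQ m) = 0 := by
      ext j
      have := DFunLike.congr_fun h1 j
      simp only [Finsupp.smul_apply, smul_eq_mul, Finsupp.coe_zero, Pi.zero_apply] at this ⊢
      exact mem_nonZeroDivisors_iff_left.1 (pow_mem hf0 i) _ this
    have h3 := hs' (M'.mkQ m)
    rw [h2, map_zero] at h3
    exact h3.symm

end Groth.Agent.S6897
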