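import Groth.Statements.S6898
import Groth.Agent.FlatCrit65.Injective
import Mathlib.LinearAlgebra.TensorProduct.Prod
import Mathlib.RingTheory.Nakayama
import Mathlib.RingTheory.LocalRing.Module
open TensorProduct

set_option autoImplicit false
universe u
open TensorProduct
open CAlg

namespace Groth.Agent.S6898

/-- Let `(A, 𝔪)` be a local ring and `u : M → N` a linear map between flat `A`-modules whose reduction
`M/𝔪M → N/𝔪N` is injective. If `I` is the content ideal of some `x ∈ M` (the least ideal `I` with `x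
∈ IM`), then `I` is also the least ideal `J` with `u(x) ∈ J·N`. -/
theorem result {A : Type u} [CommRing A] [IsLocalRing A] {M N : Type u}
    [AddCommGroup M] [Module A M] [Module.Flat A M] [AddCommGroup N] [Module A N] [Module.Flat A N] (u : M →ₗ[A] N)
    (hu : Function.Injective (u.baseChange (IsLocalRing.ResidueField A))) (x : M) (I : Ideal A)
    (hx : IsLeast {J : Ideal A | x ∈ J • (⊤ : Submodule A M)} I) :
    IsLeast {J : Ideal A | u x ∈ J • (⊤ : Submodule A N)} I := by
  classical
  let μ : ∀ (V : Type u) [AddCommGroup V] [Module A V] (J : Ideal A), V ⊗[A] J →ₗ[A] V :=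
    fun V _ _ J => (TensorProduct.rid A V).toLinearMap ∘ₗ J.subtype.lTensor V
  have hμ : ∀ (V : Type u) [AddCommGroup V] [Module A V] (J : Ideal A) (z : V ⊗[A] J),
      μ V J z ∈ J • (⊤ : Submodule A V) := by
    intro V _ _ J z
    induction z using TensorProduct.induction_on with
    | zero => simp
    | add a b ha hb => rw [map_add]; exact add_mem ha hb
    | tmul v j => simpa [μ] using Submodule.smul_mem_smul j.2 (Submodule.mem_top : v ∈ ⊤)
  have hμ' : ∀ (V : Type u) [AddCommGroup V] [Module A V] (J : Ideal A), ∀ x ∈ J • (⊤ : Submodule A V),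
      ∃ z, μ V J z = x := by
    intro V _ _ J x hx
    exact Submodule.smul_induction_on hx (fun c hc w _ => ⟨w ⊗ₜ ⟨c, hc⟩, by simp [μ]⟩)
      fun a b ⟨za, ha⟩ ⟨zb, hb⟩ => ⟨za + zb, by rw [map_add, ha, hb]⟩
  have hfg : I.FG := by
    obtain ⟨I₀, hfg, hle, hmem⟩ : ∃ I₀ : Ideal A, I₀.FG ∧ I₀ ≤ I ∧ x ∈ I₀ • (⊤ : Submodule A M) := by
      refine Submodule.smul_induction_on hx.1 (fun c hc w _ => ?_) fun a b => ?_
      · exact ⟨Ideal.span {c}, Submodule.fg_span_singleton c, (Ideal.span_singleton_le_iff_mem (I := I)).mpr hc,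
          Submodule.smul_mem_smul (Ideal.mem_span_singleton_self c) Submodule.mem_top⟩
      · rintro ⟨P₁, h₁, h₁', h₁''⟩ ⟨P₂, h₂, h₂', h₂''⟩
        exact ⟨P₁ ⊔ P₂, Submodule.FG.sup h₁ h₂, sup_le h₁' h₂',
          add_mem (Submodule.smul_mono le_sup_left le_rfl h₁'') (Submodule.smul_mono le_sup_right le_rfl h₂'')⟩
    rwa [← le_antisymm hle (hx.2 hmem)]
  have hmap : ∀ J, x ∈ J • (⊤ : Submodule A M) → u x ∈ J • (⊤ : Submodule A N) := fun J h => by
    have := Submodule.mem_map_of_mem (f := u) h
    rw [Submodule.map_smul''] at this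
    exact Submodule.smul_mono le_rfl le_top this
  refine ⟨hmap I hx.1, fun J hJ => ?_⟩
  let m := IsLocalRing.maximalIdeal A
  obtain ⟨z, hz⟩ := hμ' M I x hx.1
  have hzero : ∀ (J' : Ideal A), ∀ y ∈ J' • (⊤ : Submodule A N), y ⊗ₜ[A] (1 : A ⧸ J') = 0 := fun J' y hy => by
    refine (TensorProduct.comm A _ _).injective ?_
    rw [map_zero, TensorProduct.comm_tmul]
    exact (Groth.Agent.FlatCrit65.one_tmul_eq_zero_iff J' y).mpr hy
  let g : A →ₗ[A] (A ⧸ I) × (A ⧸ J) := (Submodule.mkQ I).prod (Submodule.mkQ J)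
  have hg : Function.Exact (I ⊓ J).subtype g := fun a => by
    constructor
    · intro h
      have h1 := (Submodule.Quotient.mk_eq_zero I).mp (congrArg Prod.fst h)
      have h2 := (Submodule.Quotient.mk_eq_zero J).mp (congrArg Prod.snd h)
      exact ⟨⟨a, h1, h2⟩, rfl⟩
    · rintro ⟨⟨b, hb1, hb2⟩, rfl⟩
      exact Prod.ext ((Submodule.Quotient.mk_eq_zero I).mpr hb1) ((Submodule.Quotient.mk_eq_zero J).mpr hb2)
  have hgx : g.lTensor N (u x ⊗ₜ[A] (1 : A)) = 0 := by
    refine (TensorProduct.prodRight A A N (A ⧸ I) (A ⧸ J)).injective ?_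
    rw [LinearMap.lTensor_tmul, map_zero]
    rw [TensorProduct.prodRight_tmul]
    exact Prod.ext (hzero I _ (hmap I hx.1)) (hzero J _ hJ)
  obtain ⟨w, hw⟩ := (Module.Flat.lTensor_exact N hg _).mp hgx
  let K : Submodule A I := (Submodule.comap I.subtype (I ⊓ J)) ⊔ (m • (⊤ : Submodule A I))
  let V := I ⧸ K
  have hV : Module.IsTorsionBySet A V m := by
    intro v c
    obtain ⟨v, rfl⟩ := Submodule.Quotient.mk_surjective _ v
    exact (Submodule.Quotient.mk_eq_zero K).mpr (Submodule.mem_sup_right
      (Submodule.smul_mem_smul c.2 Submodule.mem_top))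
  letI : Field (A ⧸ m) := Ideal.Quotient.field m
  letI : Module (A ⧸ m) V := hV.module
  haveI : IsScalarTower A (A ⧸ m) V := hV.isScalarTower
  haveI : Module.Free (A ⧸ m) V := Module.Free.of_divisionRing _ _
  have hinjV : Function.Injective (u.lTensor V) :=
    Groth.Agent.FlatCrit65.lTensor_injective_of_flat_over (A ⧸ m) V u hu
  let ι : ↥(I ⊓ J) →ₗ[A] I := Submodule.inclusion inf_le_left
  have hz' : u.rTensor I z = ι.lTensor N w := by
    apply (show Function.Injective (μ N I) from (TensorProduct.rid A N).injective.comp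
      (Module.Flat.lTensor_preserves_injective_linearMap _ I.injective_subtype))
    have e1 : μ N I (u.rTensor I z) = u x := by
      rw [← hz]
      clear hz hw hgx
      induction z using TensorProduct.induction_on with
      | zero => simp
      | add a b ha hb => simp [map_add, ha, hb]
      | tmul a b => simp [μ]
    have e2 : μ N I (ι.lTensor N w) = u x := by
      show TensorProduct.rid A N (I.subtype.lTensor N (ι.lTensor N w)) = u x
      rw [← LinearMap.lTensor_comp_apply, Submodule.subtype_comp_inclusion, hw]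
      simp
    rw [e1, e2]
  let q : I →ₗ[A] V := K.mkQ
  have hqι : q ∘ₗ ι = 0 := LinearMap.ext fun a => (Submodule.Quotient.mk_eq_zero K).mpr
    (Submodule.mem_sup_left (show ((ι a : I) : A) ∈ I ⊓ J from a.2))
  have h1 : u.lTensor V (TensorProduct.comm A M V (q.lTensor M z)) = 0 := by
    have e : u.lTensor V (TensorProduct.comm A M V (q.lTensor M z)) =
        TensorProduct.comm A N V (q.lTensor N (u.rTensor I z)) := by
      clear hz hz'
      induction z using TensorProduct.induction_on with
      | zero => simp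
      | add a b ha hb => simp [map_add, ha, hb]
      | tmul a b => simp
    rw [e, hz', ← LinearMap.lTensor_comp_apply, hqι, LinearMap.lTensor_zero, LinearMap.zero_apply, map_zero]
  have h2 : q.lTensor M z = 0 := (TensorProduct.comm A M V).injective
    (by rw [map_zero]; exact hinjV (by rw [h1, map_zero]))
  obtain ⟨y, rfl⟩ := (lTensor_exact M (LinearMap.exact_subtype_mkQ K) (Submodule.mkQ_surjective K) z).mp h2
  let L : Ideal A := K.map I.subtype
  have hxL : x ∈ L • (⊤ : Submodule A M) := by
    let π : K →ₗ[A] L := (I.subtype ∘ₗ K.subtype).codRestrict L fun k => ⟨k.1, k.2, rfl⟩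
    have e : μ M L (π.lTensor M y) = x := by
      rw [← hz]
      show TensorProduct.rid A M (L.subtype.lTensor M (π.lTensor M y)) =
        TensorProduct.rid A M (I.subtype.lTensor M (K.subtype.lTensor M y))
      rw [← LinearMap.lTensor_comp_apply, ← LinearMap.lTensor_comp_apply]
      rfl
    exact e ▸ hμ M L _
  have hL : I ≤ (I ⊓ J) ⊔ m • I := by
    refine (hx.2 hxL).trans ?_
    rw [show L = Submodule.map I.subtype ((Submodule.comap I.subtype (I ⊓ J)) ⊔ (m • (⊤ : Submodule A I))) from rfl,
      Submodule.map_sup, Submodule.map_smul'', Submodule.map_top, Submodule.range_subtype]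
    exact sup_le_sup_right (Submodule.map_comap_le _ _) _
  exact le_trans (Submodule.le_of_le_smul_of_le_jacobson_bot hfg
    (IsLocalRing.maximalIdeal_le_jacobson ⊥) hL) inf_le_right

end Groth.Agent.S6898
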