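import Groth.Statements.S6900
import Groth.Agent.EtAlg23.MilnorAlgebra
import Mathlib.RingTheory.IsTensorProduct

set_option autoImplicit false
universe u
open TensorProduct
open EtAlg

namespace Groth.Agent.S6900

open Groth.Agent.EtAlg23 in
theorem isPushout_of_squares (B' B A' A : Type u) [CommRing B'] [CommRing B] [CommRing A'] [CommRing A]
    [Algebra B' B] [Algebra B' A'] [Algebra B A] [Algebra A' A] [Algebra B' A] [IsScalarTower B' B A] [IsScalarTower B' A' A]
    (hsq : EtMil.IsFibreSquare B' B A' A)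
    (D' D C' C : Type u) [CommRing D'] [CommRing D] [CommRing C'] [CommRing C]
    [Algebra D' D] [Algebra D' C'] [Algebra D C] [Algebra C' C] [Algebra D' C] [IsScalarTower D' D C] [IsScalarTower D' C' C]
    (hsq' : EtMil.IsFibreSquare D' D C' C)
    [Algebra B' D'] [Algebra B D] [Algebra A' C'] [Algebra A C]
    [Algebra B' D] [IsScalarTower B' B D] [IsScalarTower B' D' D]
    [Algebra B' C'] [IsScalarTower B' A' C'] [IsScalarTower B' D' C']
    [Algebra B C] [IsScalarTower B A C] [IsScalarTower B D C]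
    [Algebra A' C] [IsScalarTower A' A C] [IsScalarTower A' C' C]
    [hDC : Algebra.IsPushout B D A C] [Algebra.IsPushout A' C' A C] :
    Algebra.IsPushout B' B D' D ∧ Algebra.IsPushout B' A' D' C' ∧
      (Module.Flat B D → Module.Flat A' C' → Module.Flat B' D') := by
  haveI : Algebra.IsPushout B A D C := hDC.symm
  haveI : Algebra.IsPushout A' A C' C := Algebra.IsPushout.symm ‹_›
  let e₁ := Algebra.IsPushout.equiv B A D C
  let e₂ := Algebra.IsPushout.equiv A' A C' C
  let φ : A ⊗[B] D ≃ₗ[A] A ⊗[A'] C' := (e₁.trans e₂.symm).toLinearEquiv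
  have hmem : ∀ (d : D) (c : C'), φ ((1 : A) ⊗ₜ[B] d) = (1 : A) ⊗ₜ[A'] c ↔
      algebraMap D C d = algebraMap C' C c := by
    intro d c
    show e₂.symm (e₁ ((1 : A) ⊗ₜ[B] d)) = _ ↔ _
    rw [AlgEquiv.symm_apply_eq, Algebra.IsPushout.equiv_tmul, Algebra.IsPushout.equiv_tmul,
      map_one, one_mul, one_mul]
  let θ : D' →ₗ[B'] EtMil.glue B' φ :=
    ((IsScalarTower.toAlgHom B' D' D).toLinearMap.prod (IsScalarTower.toAlgHom B' D' C').toLinearMap).codRestrict
      (EtMil.glue B' φ) fun x => (hmem _ _).2 (by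
        show algebraMap D C (algebraMap D' D x) = algebraMap C' C (algebraMap D' C' x)
        rw [← IsScalarTower.algebraMap_apply, ← IsScalarTower.algebraMap_apply])
  have hθ : Function.Bijective θ := by
    refine ⟨fun x y hxy => eq_of_map_eq hsq' ?_ ?_, fun z => ?_⟩
    · exact congrArg (fun t : EtMil.glue B' φ => t.1.1) hxy
    · exact congrArg (fun t : EtMil.glue B' φ => t.1.2) hxy
    · obtain ⟨x, ⟨hx₁, hx₂⟩, -⟩ := hsq'.2 z.1.1 z.1.2 ((hmem _ _).1 z.2)
      exact ⟨x, Subtype.ext (Prod.ext hx₁ hx₂)⟩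
  let eθ := LinearEquiv.ofBijective θ hθ
  have hw := isWeakSquare_of_isFibreSquare hsq
  refine ⟨⟨?_⟩, ⟨?_⟩, fun _ _ => ?_⟩
  · refine IsBaseChange.of_equiv
      ((LinearEquiv.baseChange B' B _ _ eθ).trans (LinearEquiv.ofBijective _ (liftFst_bijective (φ := φ) hw)))
      fun x => ?_
    simp only [LinearEquiv.trans_apply, LinearEquiv.baseChange_tmul, LinearEquiv.ofBijective_apply,
      LinearMap.liftBaseChange_tmul, one_smul]
    rfl
  · refine IsBaseChange.of_equiv
      ((LinearEquiv.baseChange B' A' _ _ eθ).trans (LinearEquiv.ofBijective _ (liftSnd_bijective (φ := φ) hw)))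
      fun x => ?_
    simp only [LinearEquiv.trans_apply, LinearEquiv.baseChange_tmul, LinearEquiv.ofBijective_apply,
      LinearMap.liftBaseChange_tmul, one_smul]
    rfl
  · haveI := flat_glue (φ := φ) hsq
    exact Module.Flat.of_linearEquiv eθ

/-- Let `B' = B ×_A A'` be a fibre square of rings with `A' → A` surjective. Let `D` be a `B`-algebra
and `C'` an `A'`-algebra with a common base change `C = D ⊗_B A = C' ⊗_{A'} A`, and let `D' = D ×_C
C'` be the fibre product ring with its `B'`-algebra structure. Then `B' → D'` is of finite type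
(resp. flat, resp. flat and of finite presentation, resp. smooth, resp. étale) if and only if `B →
D` and `A' → C'` both are. -/
theorem result (B' B A' A : Type u) [CommRing B'] [CommRing B] [CommRing A'] [CommRing A]
    [Algebra B' B] [Algebra B' A'] [Algebra B A] [Algebra A' A] [Algebra B' A] [IsScalarTower B' B A] [IsScalarTower B' A' A]
    (hsq : EtMil.IsFibreSquare B' B A' A)
    (D' D C' C : Type u) [CommRing D'] [CommRing D] [CommRing C'] [CommRing C]
    [Algebra D' D] [Algebra D' C'] [Algebra D C] [Algebra C' C] [Algebra D' C] [IsScalarTower D' D C] [IsScalarTower D' C' C]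
    (hsq' : EtMil.IsFibreSquare D' D C' C)
    [Algebra B' D'] [Algebra B D] [Algebra A' C'] [Algebra A C]
    [Algebra B' D] [IsScalarTower B' B D] [IsScalarTower B' D' D]
    [Algebra B' C'] [IsScalarTower B' A' C'] [IsScalarTower B' D' C']
    [Algebra B C] [IsScalarTower B A C] [IsScalarTower B D C]
    [Algebra A' C] [IsScalarTower A' A C] [IsScalarTower A' C' C]
    [Algebra.IsPushout B D A C] [Algebra.IsPushout A' C' A C] :
    (Algebra.FiniteType B' D' ↔ Algebra.FiniteType B D ∧ Algebra.FiniteType A' C') ∧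
    (Module.Flat B' D' ↔ Module.Flat B D ∧ Module.Flat A' C') ∧
    (Module.Flat B' D' ∧ Algebra.FinitePresentation B' D' ↔
      (Module.Flat B D ∧ Algebra.FinitePresentation B D) ∧ (Module.Flat A' C' ∧ Algebra.FinitePresentation A' C')) ∧
    (Algebra.Smooth B' D' ↔ Algebra.Smooth B D ∧ Algebra.Smooth A' C') ∧
    (Algebra.Etale B' D' ↔ Algebra.Etale B D ∧ Algebra.Etale A' C') := by
  obtain ⟨hB, hA', hflat⟩ := isPushout_of_squares B' B A' A hsq D' D C' C hsq'
  let eB := Algebra.IsPushout.equiv B' B D' D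
  let eA := Algebra.IsPushout.equiv B' A' D' C'
  have hsm : Algebra.Smooth B D → Algebra.Smooth A' C' → Algebra.Smooth B' D' := fun _ _ => by
    haveI : Algebra.Smooth B (B ⊗[B'] D') := Algebra.Smooth.of_equiv eB.symm
    haveI : Algebra.Smooth A' (A' ⊗[B'] D') := Algebra.Smooth.of_equiv eA.symm
    haveI := hflat inferInstance inferInstance
    exact EtAlg23.smooth_of_square hsq
  refine ⟨⟨fun _ => ⟨?_, ?_⟩, fun ⟨h1, h2⟩ => ?_⟩, ⟨fun _ => ⟨?_, ?_⟩, fun h => hflat h.1 h.2⟩,
    ⟨fun ⟨_, _⟩ => ⟨⟨?_, ?_⟩, ?_, ?_⟩, fun ⟨⟨_, h1⟩, _, h2⟩ => ⟨hflat ‹_› ‹_›, ?_⟩⟩,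
    ⟨fun _ => ⟨?_, ?_⟩, fun h => hsm h.1 h.2⟩, ⟨fun _ => ⟨?_, ?_⟩, fun ⟨_, _⟩ => ?_⟩⟩
  · exact Algebra.FiniteType.equiv inferInstance eB
  · exact Algebra.FiniteType.equiv inferInstance eA
  · haveI := Algebra.FiniteType.equiv h1 eB.symm
    haveI := Algebra.FiniteType.equiv h2 eA.symm
    exact EtAlg23.finiteType_of_square hsq
  · exact Module.Flat.of_linearEquiv eB.symm.toLinearEquiv
  · exact Module.Flat.of_linearEquiv eA.symm.toLinearEquiv
  · exact Module.Flat.of_linearEquiv eB.symm.toLinearEquiv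
  · exact Algebra.FinitePresentation.equiv eB
  · exact Module.Flat.of_linearEquiv eA.symm.toLinearEquiv
  · exact Algebra.FinitePresentation.equiv eA
  · haveI := hflat ‹_› ‹_›
    haveI := Algebra.FinitePresentation.equiv eB.symm
    haveI := Algebra.FinitePresentation.equiv eA.symm
    exact EtAlg23.finitePresentation_of_square hsq
  · exact Algebra.Smooth.of_equiv eB
  · exact Algebra.Smooth.of_equiv eA
  · exact Algebra.Etale.of_equiv eB
  · exact Algebra.Etale.of_equiv eA
  · haveI : Algebra.Etale B (B ⊗[B'] D') := Algebra.Etale.of_equiv eB.symm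
    haveI : Algebra.Etale A' (A' ⊗[B'] D') := Algebra.Etale.of_equiv eA.symm
    haveI := hflat inferInstance inferInstance
    exact EtAlg23.etale_of_square hsq

end Groth.Agent.S6900
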