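import Groth.Statements.S6911
import Groth.Agent.FlatCrit65.Basic

set_option autoImplicit false
universe u
open TensorProduct
open CAlg

namespace Groth.Agent.S6911

/-- Let `A → B` be a flat map of Noetherian rings, `I ⊆ A` an ideal and `f : M → N` a map of finite
`A`-modules such that `c` works for `f` in the Artin–Rees lemma (`f(M) ∩ IⁿN ⊆ f(I^{n-c}M)` for `n ≥
c`). Then `c` works for `f ⊗ 1 : M ⊗_A B → N ⊗_A B` and the ideal `IB`. -/
theorem result {A B : Type u} [CommRing A] [IsNoetherianRing A] [CommRing B]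
    [IsNoetherianRing B] [Algebra A B] [Module.Flat A B] (I : Ideal A) {M N : Type u} [AddCommGroup M] [Module A M]
    [Module.Finite A M] [AddCommGroup N] [Module A N] [Module.Finite A N] (f : M →ₗ[A] N) (c : ℕ)
    (hf : (∀ n : ℕ, c ≤ n → LinearMap.range f ⊓ (I ^ n • (⊤ : Submodule A N)) ≤ Submodule.map f (I ^ (n - c) • (⊤ : Submodule A M)))) :
    ∀ n : ℕ, c ≤ n →
      LinearMap.range (f.baseChange B) ⊓ ((I.map (algebraMap A B)) ^ n • (⊤ : Submodule B (B ⊗[A] N))) ≤
        Submodule.map (f.baseChange B) ((I.map (algebraMap A B)) ^ (n - c) • (⊤ : Submodule B (B ⊗[A] M))) := by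
  intro n hn z hz
  obtain ⟨⟨x, rfl⟩, hx⟩ := hz
  rw [← Ideal.map_pow] at hx
  let q := (I ^ n • (⊤ : Submodule A N)).mkQ
  let K := LinearMap.ker (q ∘ₗ f)
  have hzero : (q ∘ₗ f).lTensor B x = 0 := by
    rw [LinearMap.lTensor_comp_apply]
    refine Submodule.smul_induction_on (p := fun w => q.lTensor B w = 0) hx (fun r hr w hw => ?_)
      (fun a b ha hb => by rw [map_add, ha, hb, add_zero])
    clear hw
    induction w using TensorProduct.induction_on with
    | zero => rw [smul_zero, map_zero]
    | add a b ha hb => rw [smul_add, map_add, ha, hb, add_zero]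
    | tmul b y =>
      induction hr using Submodule.span_induction with
      | mem r hr =>
        obtain ⟨a, ha, rfl⟩ := hr
        rw [algebraMap_smul, ← TensorProduct.tmul_smul, LinearMap.lTensor_tmul,
          show q (a • y) = 0 from (Submodule.Quotient.mk_eq_zero _).mpr
            (Submodule.smul_mem_smul ha Submodule.mem_top), TensorProduct.tmul_zero]
      | zero => rw [zero_smul, map_zero]
      | add r r' _ _ h h' => rw [add_smul, map_add, h, h', add_zero]
      | smul s r _ h =>
        have e : (q.baseChange B) ((s * r) • (b ⊗ₜ[A] y)) = s • (q.baseChange B) (r • (b ⊗ₜ[A] y)) := by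
          rw [mul_smul, map_smul]
        rw [smul_eq_mul]
        exact e.trans (by rw [show (q.baseChange B) (r • (b ⊗ₜ[A] y)) = 0 from h, smul_zero])
  obtain ⟨k, rfl⟩ := (Module.Flat.lTensor_exact B (LinearMap.exact_subtype_ker_map (q ∘ₗ f)) x).mp hzero
  clear hx hzero
  induction k using TensorProduct.induction_on with
  | zero => simp
  | add a b ha hb =>
    rw [map_add, map_add]
    exact add_mem ha hb
  | tmul b k =>
    have hk : f k.1 ∈ LinearMap.range f ⊓ (I ^ n • (⊤ : Submodule A N)) :=
      ⟨⟨k.1, rfl⟩, (Submodule.Quotient.mk_eq_zero _).mp k.2⟩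
    obtain ⟨m, hm, hmk⟩ := hf n hn hk
    refine ⟨b ⊗ₜ m, ?_, by simp [hmk]⟩
    rw [SetLike.mem_coe, ← Ideal.map_pow]
    refine Submodule.smul_induction_on hm (fun a ha y _ => ?_) (fun u v hu hv => by
      rw [TensorProduct.tmul_add]; exact add_mem hu hv)
    rw [TensorProduct.tmul_smul, ← algebraMap_smul B a (b ⊗ₜ[A] y)]
    exact Submodule.smul_mem_smul (Ideal.mem_map_of_mem _ ha) Submodule.mem_top

end Groth.Agent.S6911
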