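import Groth.Statements.S6912
import Mathlib.LinearAlgebra.Dimension.Localization
import Mathlib.RingTheory.IsTensorProduct
import Mathlib.RingTheory.Localization.BaseChange
import Mathlib.Algebra.Module.FinitePresentation
import Mathlib.LinearAlgebra.FreeModule.Finite.Matrix

set_option autoImplicit false
universe u
open TensorProduct
open CAlg

namespace Groth.Agent.S6912

/-- Let `R` be a domain and `M`, `N` two `R`-modules; rank means dimension over the fraction field after
base change. Then `rank (M ⊗_R N) = rank M · rank N`, and when `M` is finitely presented also `rank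
Hom_R(M, N) = rank M · rank N`. -/
theorem result (R : Type u) [CommRing R] [IsDomain R] (M N : Type u)
    [AddCommGroup M] [Module R M] [AddCommGroup N] [Module R N] :
    Module.rank R (M ⊗[R] N) = Module.rank R M * Module.rank R N ∧
    (Module.FinitePresentation R M → Module.rank R (M →ₗ[R] N) = Module.rank R M * Module.rank R N) := by
  let K := FractionRing R
  have hr : ∀ (X : Type u) [AddCommGroup X] [Module R X],
      Module.rank K (TensorProduct R K X) = Module.rank R X := fun X _ _ =>
    IsBaseChange.rank_eq (TensorProduct.isBaseChange R X K)
  refine ⟨?_, fun hM => ?_⟩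
  · rw [← hr, ← hr M, ← hr N, ← rank_tensorProduct']
    exact (TensorProduct.AlgebraTensorModule.distribBaseChange R K M N).rank_eq
  · let f := TensorProduct.mk R K M 1
    let g := TensorProduct.mk R K N 1
    let φ := IsLocalizedModule.mapExtendScalars (nonZeroDivisors R) f g K
    have hφ : IsLocalizedModule (nonZeroDivisors R) φ :=
      Module.FinitePresentation.isLocalizedModule_mapExtendScalars _ _ _ _
    have h1 : Module.rank R (TensorProduct R K M →ₗ[K] TensorProduct R K N) = Module.rank R (M →ₗ[R] N) :=
      IsLocalizedModule.rank_eq (R := R) (M := M →ₗ[R] N) (N := TensorProduct R K M →ₗ[K] TensorProduct R K N) (nonZeroDivisors R) le_rfl φ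
    have : Module.Finite K (TensorProduct R K M) := inferInstance
    have h2 : Module.rank K (TensorProduct R K M →ₗ[K] TensorProduct R K N) =
        Module.rank R (M →ₗ[R] N) :=
      (IsLocalization.rank_eq (R := R) (N := TensorProduct R K M →ₗ[K] TensorProduct R K N) K (nonZeroDivisors R) le_rfl).trans h1
    rw [← h2, ← hr M, ← hr N]
    exact (Module.rank_linearMap K K (TensorProduct R K M) (TensorProduct R K N)).trans
      (by rw [Cardinal.lift_id, Cardinal.lift_id])

end Groth.Agent.S6912
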