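import Groth.Statements.S6913
import Groth.Agent.TF3.Basic
import Mathlib.LinearAlgebra.TensorProduct.Pi
import Mathlib.RingTheory.Localization.BaseChange
import Mathlib.RingTheory.Localization.Away.Basic

set_option autoImplicit false
universe u
open CAlg

namespace Groth.Agent.S6913

/-- Let `R` be a domain and `M` a finite `R`-module, of (finite) rank `r`. Then: some linear map `M →
R^r` has torsion kernel and torsion cokernel; some nonzero `f ∈ R` makes `M_f` free of rank `r` over
`R_f`; and some injective linear map `R^r → M` has torsion cokernel. -/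
theorem result (R : Type u) [CommRing R] [IsDomain R] (M : Type u) [AddCommGroup M]
    [Module R M] [Module.Finite R M] :
    (∃ h : M →ₗ[R] (Fin (Module.finrank R M) → R),
      (∀ x : M, h x = 0 → ∃ c : R, c ≠ 0 ∧ c • x = 0) ∧
      (∀ y : Fin (Module.finrank R M) → R, ∃ c : R, c ≠ 0 ∧ c • y ∈ LinearMap.range h)) ∧
    (∃ f : R, f ≠ 0 ∧ Module.Free (Localization.Away f) (LocalizedModule (Submonoid.powers f) M) ∧
      Module.finrank (Localization.Away f) (LocalizedModule (Submonoid.powers f) M) = Module.finrank R M) ∧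
    (∃ g : (Fin (Module.finrank R M) → R) →ₗ[R] M, Function.Injective g ∧
      ∀ x : M, ∃ c : R, c ≠ 0 ∧ c • x ∈ LinearMap.range g) := by
  obtain ⟨g, h, d, hd, hg, hgh, hhg⟩ := TF3.exists_rank_maps (R := R) (M := M)
  refine ⟨⟨h, fun x hx => ⟨d, hd, by rw [← hgh, hx, map_zero]⟩, fun y => ⟨d, hd, g y, hhg y⟩⟩,
    ⟨d, hd, ?_⟩, g, hg, fun x => ⟨d, hd, h x, hgh x⟩⟩
  have : Nontrivial (Localization.Away d) := (IsLocalization.injective (Localization.Away d)
    (powers_le_nonZeroDivisors_of_noZeroDivisors hd)).nontrivial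
  let G := LocalizedModule.map (Submonoid.powers d) g
  have hG : Function.Bijective G := by
    refine ⟨LocalizedModule.map_injective _ _ hg, fun y => ?_⟩
    obtain ⟨x, s, rfl⟩ : ∃ x s, LocalizedModule.mk x s = y :=
      LocalizedModule.induction_on (fun x s => ⟨x, s, rfl⟩) y
    refine ⟨LocalizedModule.mk (h x) (s * ⟨d, Submonoid.mem_powers d⟩), ?_⟩
    simp only [G, LocalizedModule.map_mk, hgh]
    exact LocalizedModule.mk_cancel_common_right s ⟨d, Submonoid.mem_powers d⟩ x
  let e := LinearEquiv.ofBijective G hG
  let e₀ : LocalizedModule (Submonoid.powers d) (Fin (Module.finrank R M) → R) ≃ₗ[Localization.Away d]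
      (Fin (Module.finrank R M) → Localization.Away d) :=
    (LocalizedModule.equivTensorProduct _ _).trans
      (TensorProduct.piScalarRight R (Localization.Away d) (Localization.Away d) _)
  exact ⟨Module.Free.of_equiv (e₀.symm.trans e),
    ((e₀.symm.trans e).finrank_eq).symm.trans (by simp)⟩

end Groth.Agent.S6913
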