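import Groth.Statements.S6917
import Groth.Agent.EtAlg23.Milnor
import Mathlib.RingTheory.Spectrum.Prime.Topology
import Mathlib.Topology.Category.TopCat.Limits.Basic
import Mathlib.CategoryTheory.Limits.Shapes.Pullback.IsPullback.Defs

set_option autoImplicit false
universe u
open CategoryTheory
open EtAlg

namespace Groth.Agent.S6917

open PrimeSpectrum

variable {B' B A' A : Type u} [CommRing B'] [CommRing B] [CommRing A'] [CommRing A]
  [Algebra B' B] [Algebra B' A'] [Algebra B A] [Algebra A' A] [Algebra B' A]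
  [IsScalarTower B' B A] [IsScalarTower B' A' A]

/-- Away from the kernel of `B' → B`, points of `Spec B'` have exactly one preimage in `Spec A'`. -/
theorem existsUnique_over (h : EtMil.IsFibreSquare B' B A' A) (p : PrimeSpectrum B') (j : B')
    (hj : algebraMap B' B j = 0) (hjp : j ∉ p.asIdeal) :
    ∃! q : PrimeSpectrum A', comap (algebraMap B' A') q = p := by
  have hI : algebraMap A' A (algebraMap B' A' j) = 0 := by
    rw [← IsScalarTower.algebraMap_apply, IsScalarTower.algebraMap_apply B' B A, hj, map_zero]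
  have hex : ∀ a : A', ∃ l : B', algebraMap B' B l = 0 ∧
      algebraMap B' A' l = algebraMap B' A' j * a := fun a =>
    (EtAlg23.isWeakSquare_of_isFibreSquare h).lift 0 _ (by rw [map_zero, map_mul, hI, zero_mul])
  choose L hL₁ hL₂ using hex
  have hadd : ∀ a b, L (a + b) = L a + L b := fun a b =>
    EtAlg23.eq_of_map_eq h (by simp [hL₁]) (by simp [hL₂, mul_add])
  have hmul : ∀ a b, L a * L b = j * L (a * b) := fun a b =>
    EtAlg23.eq_of_map_eq h (by simp [hL₁, hj]) (by simp [hL₂]; ring)
  have hlin : ∀ b : B', L (algebraMap B' A' b) = j * b := fun b =>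
    EtAlg23.eq_of_map_eq h (by simp [hL₁, hj]) (by simp [hL₂])
  have hsmul : ∀ c a, j * L (c * a) = L c * L a := fun c a => (hmul c a).symm
  let q : Ideal A' :=
    { carrier := {a | L a ∈ p.asIdeal}
      add_mem' := fun {a b} ha hb => by
        simp only [Set.mem_setOf_eq, hadd] at *
        exact p.asIdeal.add_mem ha hb
      zero_mem' := by
        have := hlin 0
        simp only [map_zero, mul_zero] at this
        simp [this]
      smul_mem' := fun c a ha => by
        have h1 : j * L (c * a) ∈ p.asIdeal := hsmul c a ▸ Ideal.mul_mem_left _ _ ha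
        exact (p.isPrime.mem_or_mem h1).resolve_left hjp }
  have hq : q.IsPrime := by
    refine ⟨fun hq => hjp ?_, fun {a b} hab => ?_⟩
    · have h1 : (algebraMap B' A' 1) ∈ q := hq ▸ Submodule.mem_top
      change L (algebraMap B' A' 1) ∈ p.asIdeal at h1
      rwa [hlin, mul_one] at h1
    · have h1 : L a * L b ∈ p.asIdeal := hmul a b ▸ Ideal.mul_mem_left _ _ hab
      exact p.isPrime.mem_or_mem h1
  refine ⟨⟨q, hq⟩, ?_, fun y hy => ?_⟩
  · ext b
    rw [comap_asIdeal, Ideal.mem_comap]
    change L (algebraMap B' A' b) ∈ p.asIdeal ↔ _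
    rw [hlin]
    exact ⟨fun hb => (p.isPrime.mem_or_mem hb).resolve_left hjp, Ideal.mul_mem_left _ _⟩
  · ext a
    change _ ↔ L a ∈ p.asIdeal
    have hjy : algebraMap B' A' j ∉ y.asIdeal := fun hc => hjp (by rw [← hy]; exact hc)
    rw [← hy, comap_asIdeal, Ideal.mem_comap, hL₂]
    exact ⟨Ideal.mul_mem_left _ _, fun hc => (y.isPrime.mem_or_mem hc).resolve_left hjy⟩

theorem surjective_pair (h : EtMil.IsFibreSquare B' B A' A) (p : PrimeSpectrum B') :
    (∃ x, comap (algebraMap B' B) x = p) ∨ ∃ y, comap (algebraMap B' A') y = p := by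
  by_cases hp : RingHom.ker (algebraMap B' B) ≤ p.asIdeal
  · exact Or.inl (by
      have hs := (EtAlg23.isWeakSquare_of_isFibreSquare h).proj_surjective
      have : p ∈ Set.range (comap (algebraMap B' B)) := by
        rw [range_comap_of_surjective _ _ hs]
        exact hp
      exact this)
  · obtain ⟨j, hj, hjp⟩ := SetLike.not_le_iff_exists.1 hp
    exact Or.inr (existsUnique_over h p j hj hjp).exists

/-- A point of `Spec A'` over `V(ker (B' → B))` comes from `Spec A`. -/
theorem exists_comap_eq (h : EtMil.IsFibreSquare B' B A' A) (x : PrimeSpectrum B)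
    (y : PrimeSpectrum A') (hxy : comap (algebraMap B' B) x = comap (algebraMap B' A') y) :
    ∃ z : PrimeSpectrum A, comap (algebraMap B A) z = x ∧ comap (algebraMap A' A) z = y := by
  have hy : y ∈ Set.range (comap (algebraMap A' A)) := by
    rw [range_comap_of_surjective _ _ h.1]
    intro i hi
    obtain ⟨j, hj₁, hj₂⟩ := (EtAlg23.isWeakSquare_of_isFibreSquare h).lift_ker hi
    have : j ∈ (comap (algebraMap B' A') y).asIdeal := by
      rw [← hxy, comap_asIdeal, Ideal.mem_comap, hj₁]; exact zero_mem _
    rwa [comap_asIdeal, Ideal.mem_comap, hj₂] at this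
  obtain ⟨z, rfl⟩ := hy
  refine ⟨z, comap_injective_of_surjective _
    (EtAlg23.isWeakSquare_of_isFibreSquare h).proj_surjective ?_, rfl⟩
  rw [hxy, ← comap_comp_apply, ← comap_comp_apply, ← IsScalarTower.algebraMap_eq,
    ← IsScalarTower.algebraMap_eq]

theorem isClosed_of_preimage (h : EtMil.IsFibreSquare B' B A' A) (S : Set (PrimeSpectrum B'))
    (h₁ : IsClosed (comap (algebraMap B' B) ⁻¹' S)) (h₂ : IsClosed (comap (algebraMap B' A') ⁻¹' S)) :
    IsClosed S := by
  obtain ⟨K, hK⟩ := (isClosed_iff_zeroLocus_ideal _).1 h₁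
  obtain ⟨L, hL⟩ := (isClosed_iff_zeroLocus_ideal _).1 h₂
  have hrad : ∀ b ∈ K, algebraMap B A b ∈ (Ideal.map (algebraMap A' A) L).radical := by
    intro b hb
    rw [← vanishingIdeal_zeroLocus_eq_radical, mem_vanishingIdeal]
    intro z hz
    have h1 : comap (algebraMap A' A) z ∈ zeroLocus (L : Set A') := Ideal.map_le_iff_le_comap.1 hz
    rw [← hL, Set.mem_preimage, ← comap_comp_apply, ← IsScalarTower.algebraMap_eq,
      IsScalarTower.algebraMap_eq B' B A, comap_comp_apply, ← Set.mem_preimage, hK] at h1
    exact h1 hb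
  have : S = zeroLocus ((K.comap (algebraMap B' B) ⊓ L.comap (algebraMap B' A') : Ideal B') : Set B') := by
    refine Set.Subset.antisymm (fun p hp => ?_) (fun p hp => ?_)
    · rcases surjective_pair h p with ⟨x, rfl⟩ | ⟨y, rfl⟩
      · intro b hb
        have hx : x ∈ zeroLocus (K : Set B) := hK ▸ hp
        exact hx hb.1
      · intro b hb
        have hy : y ∈ zeroLocus (L : Set A') := hL ▸ hp
        exact hy hb.2
    · have hs := (EtAlg23.isWeakSquare_of_isFibreSquare h).proj_surjective
      by_cases hKp : K.comap (algebraMap B' B) ≤ p.asIdeal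
      · have : p ∈ comap (algebraMap B' B) '' zeroLocus (K : Set B) := by
          rw [image_comap_zeroLocus_eq_zeroLocus_comap _ _ hs]
          exact hKp
        obtain ⟨x, hx, rfl⟩ := this
        rw [← hK] at hx
        exact hx
      have hLp : L.comap (algebraMap B' A') ≤ p.asIdeal :=
        (p.isPrime.inf_le.1 hp).resolve_left hKp
      by_cases hJ : RingHom.ker (algebraMap B' B) ≤ p.asIdeal
      · refine absurd (fun b hb => ?_) hKp
        obtain ⟨n, hn⟩ := hrad _ hb
        obtain ⟨l, hl, hl'⟩ := (Ideal.mem_map_iff_of_surjective _ h.1).1 hn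
        obtain ⟨j, hj₁, hj₂⟩ := (EtAlg23.isWeakSquare_of_isFibreSquare h).lift_ker
          (i := algebraMap B' A' b ^ n - l) (by
            rw [RingHom.mem_ker, map_sub, map_pow, ← IsScalarTower.algebraMap_apply,
              IsScalarTower.algebraMap_apply B' B A, ← hl', sub_self])
        have h1 : b ^ n - j ∈ p.asIdeal := hLp (by simp [hj₂, hl])
        exact p.isPrime.mem_of_pow_mem n (by simpa using p.asIdeal.add_mem h1 (hJ hj₁))
      · obtain ⟨j, hj, hjp⟩ := SetLike.not_le_iff_exists.1 hJ
        obtain ⟨q, hq⟩ := (existsUnique_over h p j hj hjp).exists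
        suffices q ∈ zeroLocus (L : Set A') by
          rw [← hL] at this
          simpa [hq] using this
        intro a ha
        obtain ⟨l, hl₁, hl₂⟩ := (EtAlg23.isWeakSquare_of_isFibreSquare h).lift 0
          (algebraMap B' A' j * a) (by
            rw [map_zero, map_mul, ← IsScalarTower.algebraMap_apply,
              IsScalarTower.algebraMap_apply B' B A, RingHom.mem_ker.1 hj, map_zero, zero_mul])
        have h1 : l ∈ p.asIdeal := hLp (by rw [Ideal.mem_comap, hl₂]; exact Ideal.mul_mem_left _ _ ha)
        rw [← hq, comap_asIdeal, Ideal.mem_comap, hl₂] at h1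
        refine (q.isPrime.mem_or_mem h1).resolve_left fun hc => hjp ?_
        rw [← hq]
        exact hc
  rw [this]
  exact isClosed_zeroLocus _

/-- Let `B' = B ×_A A'` be a fibre square of rings with `A' → A` surjective. Then `Spec(B') = Spec(B)
⨿_{Spec(A)} Spec(A')`: the square of prime spectra is a pushout of topological spaces. -/
theorem result (B' B A' A : Type u) [CommRing B'] [CommRing B] [CommRing A'] [CommRing A]
    [Algebra B' B] [Algebra B' A'] [Algebra B A] [Algebra A' A] [Algebra B' A] [IsScalarTower B' B A] [IsScalarTower B' A' A]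
    (hsq : EtMil.IsFibreSquare B' B A' A) :
    IsPushout (TopCat.ofHom (ContinuousMap.mk (PrimeSpectrum.comap (algebraMap B A)) (PrimeSpectrum.continuous_comap _))) (TopCat.ofHom (ContinuousMap.mk (PrimeSpectrum.comap (algebraMap A' A)) (PrimeSpectrum.continuous_comap _)))
      (TopCat.ofHom (ContinuousMap.mk (PrimeSpectrum.comap (algebraMap B' B)) (PrimeSpectrum.continuous_comap _)))
      (TopCat.ofHom (ContinuousMap.mk (PrimeSpectrum.comap (algebraMap B' A')) (PrimeSpectrum.continuous_comap _))) := by
  have hcomm : ∀ z : PrimeSpectrum A,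
      PrimeSpectrum.comap (algebraMap B' B) (PrimeSpectrum.comap (algebraMap B A) z) =
        PrimeSpectrum.comap (algebraMap B' A') (PrimeSpectrum.comap (algebraMap A' A) z) := by
    intro z
    rw [← PrimeSpectrum.comap_comp_apply, ← PrimeSpectrum.comap_comp_apply,
      ← IsScalarTower.algebraMap_eq, ← IsScalarTower.algebraMap_eq]
  have hdesc : ∀ s : Limits.PushoutCocone
      (TopCat.ofHom (ContinuousMap.mk (PrimeSpectrum.comap (algebraMap B A)) (PrimeSpectrum.continuous_comap _)))
      (TopCat.ofHom (ContinuousMap.mk (PrimeSpectrum.comap (algebraMap A' A)) (PrimeSpectrum.continuous_comap _))),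
      ∃ m : TopCat.of (PrimeSpectrum B') ⟶ s.pt,
        TopCat.ofHom (ContinuousMap.mk (PrimeSpectrum.comap (algebraMap B' B)) (PrimeSpectrum.continuous_comap _)) ≫ m = s.inl ∧
        TopCat.ofHom (ContinuousMap.mk (PrimeSpectrum.comap (algebraMap B' A')) (PrimeSpectrum.continuous_comap _)) ≫ m = s.inr := by
    intro s
    have hc : ∀ z, s.inl (PrimeSpectrum.comap (algebraMap B A) z) =
        s.inr (PrimeSpectrum.comap (algebraMap A' A) z) := fun z =>
      ConcreteCategory.congr_hom s.condition z
    have hex : ∀ p : PrimeSpectrum B', ∃ t : s.pt,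
        (∀ x, PrimeSpectrum.comap (algebraMap B' B) x = p → s.inl x = t) ∧
        (∀ y, PrimeSpectrum.comap (algebraMap B' A') y = p → s.inr y = t) := by
      intro p
      by_cases hx : ∃ x, PrimeSpectrum.comap (algebraMap B' B) x = p
      · obtain ⟨x, rfl⟩ := hx
        refine ⟨s.inl x, fun x' hx' => by
          rw [PrimeSpectrum.comap_injective_of_surjective _
            (EtAlg23.isWeakSquare_of_isFibreSquare hsq).proj_surjective hx'], fun y hy => ?_⟩
        obtain ⟨z, rfl, rfl⟩ := exists_comap_eq hsq x y hy.symm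
        exact (hc z).symm
      · obtain ⟨y, hy⟩ := (surjective_pair hsq p).resolve_left hx
        refine ⟨s.inr y, fun x h' => absurd ⟨x, h'⟩ hx, fun y' hy' => ?_⟩
        have : ¬ RingHom.ker (algebraMap B' B) ≤ p.asIdeal := fun hle => hx (by
          have : p ∈ Set.range (PrimeSpectrum.comap (algebraMap B' B)) := by
            rw [range_comap_of_surjective _ _
              (EtAlg23.isWeakSquare_of_isFibreSquare hsq).proj_surjective]
            exact hle
          exact this)
        obtain ⟨j, hj, hjp⟩ := SetLike.not_le_iff_exists.1 this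
        rw [(existsUnique_over hsq p j hj hjp).unique hy' hy]
    choose t ht₁ ht₂ using hex
    refine ⟨TopCat.ofHom ⟨t, continuous_iff_isClosed.2 fun C hC => ?_⟩, ?_, ?_⟩
    · refine isClosed_of_preimage hsq _ ?_ ?_
      · rw [← Set.preimage_comp]
        have : t ∘ PrimeSpectrum.comap (algebraMap B' B) = s.inl := funext fun x => (ht₁ _ x rfl).symm
        rw [this]
        exact hC.preimage s.inl.hom.continuous
      · rw [← Set.preimage_comp]
        have : t ∘ PrimeSpectrum.comap (algebraMap B' A') = s.inr := funext fun y => (ht₂ _ y rfl).symm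
        rw [this]
        exact hC.preimage s.inr.hom.continuous
    · exact TopCat.hom_ext (ContinuousMap.ext fun x => (ht₁ _ x rfl).symm)
    · exact TopCat.hom_ext (ContinuousMap.ext fun y => (ht₂ _ y rfl).symm)
  choose m hm₁ hm₂ using hdesc
  refine ⟨⟨TopCat.hom_ext (ContinuousMap.ext hcomm)⟩,
    ⟨Limits.PushoutCocone.IsColimit.mk _ m hm₁ hm₂ fun s k hk₁ hk₂ => ?_⟩⟩
  refine TopCat.hom_ext (ContinuousMap.ext fun p => ?_)
  rcases surjective_pair hsq p with ⟨x, rfl⟩ | ⟨y, rfl⟩
  · exact ConcreteCategory.congr_hom (hk₁.trans (hm₁ s).symm) x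
  · exact ConcreteCategory.congr_hom (hk₂.trans (hm₂ s).symm) y

end Groth.Agent.S6917
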