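import Groth.Statements.S6920
import Groth.Agent.DR39.Restrict

set_option autoImplicit false
universe u
open CategoryTheory CategoryTheory.Limits MonoidalCategory
open DRing

namespace Groth.Agent.S6920

/-- For an epimorphism of rings `φ : R → S` and a complex `I•` of `S`-modules, if the underlying complex
of `R`-modules of `I•` is K-injective, then `I•` itself is K-injective over `S`. -/
theorem result (R S : Type u) [CommRing R] [CommRing S] (φ : R →+* S)
    (hφ : Epi (CommRingCat.ofHom φ)) (I : DRing.Cx S)
    [CochainComplex.IsKInjective ((DRing.restrictCx φ).obj I)] : CochainComplex.IsKInjective I := by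
  letI := φ.toAlgebra
  haveI : Algebra.IsEpi R S := CommRingCat.epi_iff_epi.1 hφ
  refine ⟨fun {K} f hK => ?_⟩
  let H : Homotopy ((DRing.restrictCx φ).map f) 0 := CochainComplex.IsKInjective.homotopyZero _ (by
    intro i
    rw [HomologicalComplex.exactAt_iff_isZero_homology]
    exact IsZero.of_iso ((ModuleCat.restrictScalars φ).map_isZero (hK i).isZero_homology)
      ((((K.sc i).mapHomologyIso (ModuleCat.restrictScalars φ)))))
  have lin : ∀ (M N : ModuleCat.{u} S)
      (h : (ModuleCat.restrictScalars φ).obj M ⟶ (ModuleCat.restrictScalars φ).obj N),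
      ∃ g : M ⟶ N, (ModuleCat.restrictScalars φ).map g = h := by
    intro M N h
    letI : Module R M := Module.compHom M φ
    letI : Module R N := Module.compHom N φ
    haveI : IsScalarTower R S M := ⟨fun r s m => mul_smul (φ r) s m⟩
    haveI : IsScalarTower R S N := ⟨fun r s m => mul_smul (φ r) s m⟩
    let h' : M →ₗ[R] N :=
      { toFun := fun m => h.hom m
        map_add' := fun a b => map_add h.hom a b
        map_smul' := fun r a => map_smul h.hom r a }
    refine ⟨ModuleCat.ofHom { toFun := h', map_add' := map_add h', map_smul' := fun s m => ?_ }, rfl⟩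
    let Φ : TensorProduct R S S →ₗ[R] N := TensorProduct.lift (LinearMap.mk₂ R (fun a b : S => a • h' (b • m))
      (fun a a' b => add_smul _ _ _) (fun r a b => smul_assoc _ _ _)
      (fun a b b' => by simp [add_smul]) (fun r a b => by rw [smul_assoc, map_smul, smul_comm]))
    have hs := congrArg Φ ((Algebra.isEpi_iff_forall_one_tmul_eq R S).1 inferInstance s)
    simpa [Φ] using hs
  choose g hg using fun i j => lin (K.X i) (I.X j) (H.hom i j)
  refine ⟨{ hom := g, zero := fun i j hij => ?_, comm := fun i => ?_ }⟩
  · exact (ModuleCat.restrictScalars φ).map_injective ((hg i j).trans ((H.zero i j hij).trans ((ModuleCat.restrictScalars φ).map_zero _ _).symm))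
  · apply (ModuleCat.restrictScalars φ).map_injective
    rw [show (ModuleCat.restrictScalars φ).map (f.f i) = _ from H.comm i,
      dNext_eq g (show (ComplexShape.up ℤ).Rel i (i + 1) by simp),
      prevD_eq g (show (ComplexShape.up ℤ).Rel (i - 1) i by simp),
      dNext_eq H.hom (show (ComplexShape.up ℤ).Rel i (i + 1) by simp),
      prevD_eq H.hom (show (ComplexShape.up ℤ).Rel (i - 1) i by simp)]
    simp [← hg, DRing.restrictCx]
    exact add_zero _

end Groth.Agent.S6920
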