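import Groth.Statements.S6921
import Groth.Agent.EtAlg23.Milnor

set_option autoImplicit false
universe u
open TensorProduct
open EtAlg

namespace Groth.Agent.S6921

/-- Let `B' = B ×_A A'` be a fibre square of rings with `A' → A` surjective, `B' → D'` a ring map, and
`D = D' ⊗_{B'} B`, `C' = D' ⊗_{B'} A'`, `C = D' ⊗_{B'} A`. Let `N` be a finite `D`-module, `M'` a
finite `C'`-module and `φ : N ⊗_D C ≅ M' ⊗_{C'} C` a `C`-linear isomorphism. Then the glued module
`N ×_φ M'` is a finite `D'`-module. -/
theorem result (B' B A' A : Type u) [CommRing B'] [CommRing B] [CommRing A'] [CommRing A]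
    [Algebra B' B] [Algebra B' A'] [Algebra B A] [Algebra A' A] [Algebra B' A] [IsScalarTower B' B A] [IsScalarTower B' A' A]
    (hsq : EtMil.IsFibreSquare B' B A' A)
    (D' D C' C : Type u) [CommRing D'] [CommRing D] [CommRing C'] [CommRing C]
    [Algebra B' D'] [Algebra B D] [Algebra A' C'] [Algebra A C]
    [Algebra D' D] [Algebra B' D] [IsScalarTower B' B D] [IsScalarTower B' D' D] [Algebra.IsPushout B' B D' D]
    [Algebra D' C'] [Algebra B' C'] [IsScalarTower B' A' C'] [IsScalarTower B' D' C'] [Algebra.IsPushout B' A' D' C']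
    [Algebra D' C] [Algebra B' C] [IsScalarTower B' A C] [IsScalarTower B' D' C] [Algebra.IsPushout B' A D' C]
    [Algebra D C] [IsScalarTower D' D C] [Algebra B C] [IsScalarTower B A C] [IsScalarTower B D C]
    [Algebra C' C] [IsScalarTower D' C' C] [Algebra A' C] [IsScalarTower A' A C] [IsScalarTower A' C' C]
    {N M' : Type u} [AddCommGroup N] [Module D N] [Module D' N] [IsScalarTower D' D N]
    [AddCommGroup M'] [Module C' M'] [Module D' M'] [IsScalarTower D' C' M'] (φ : C ⊗[D] N ≃ₗ[C] C ⊗[C'] M')
    [Module.Finite D N] [Module.Finite C' M'] : Module.Finite D' ↥(EtMil.glue D' φ) := by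
  have h := Groth.Agent.EtAlg23.isWeakSquare_of_isFibreSquare hsq
  have hD : Groth.Agent.EtAlg23.IsWeakSquare D' D C' C := by
    refine ⟨fun c => ?_, fun d c' hdc => ?_⟩
    · have hb := (Algebra.IsPushout.out : IsBaseChange A (IsScalarTower.toAlgHom B' D' C).toLinearMap)
      induction c using hb.inductionOn with
      | zero => exact ⟨0, map_zero _⟩
      | tmul d => exact ⟨algebraMap D' C' d, (IsScalarTower.algebraMap_apply D' C' C d).symm⟩
      | smul a x hx =>
        obtain ⟨c', rfl⟩ := hx
        obtain ⟨a', rfl⟩ := h.surj a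
        exact ⟨algebraMap A' C' a' * c', by
          rw [map_mul, ← IsScalarTower.algebraMap_apply A' C' C, IsScalarTower.algebraMap_apply A' A C, Algebra.smul_def]⟩
      | add x y hx hy =>
        obtain ⟨u, rfl⟩ := hx
        obtain ⟨v, rfl⟩ := hy
        exact ⟨u + v, map_add _ _ _⟩
    · have eB := (Algebra.IsPushout.out : IsBaseChange B (IsScalarTower.toAlgHom B' D' D).toLinearMap)
      have eA' := (Algebra.IsPushout.out : IsBaseChange A' (IsScalarTower.toAlgHom B' D' C').toLinearMap)
      have eA := (Algebra.IsPushout.out : IsBaseChange A (IsScalarTower.toAlgHom B' D' C).toLinearMap)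
      have hB : ∀ x, eA.equiv ((IsScalarTower.toAlgHom B' B A).toLinearMap.rTensor D' x) =
          algebraMap D C (eB.equiv x) := fun x => by
        induction x using TensorProduct.induction_on with
        | zero => simp
        | tmul b l => simp [IsBaseChange.equiv_tmul, Algebra.smul_def,
            ← IsScalarTower.algebraMap_apply]
        | add u v hu hv => simp only [map_add, hu, hv]
      have hA' : ∀ x, eA.equiv ((IsScalarTower.toAlgHom B' A' A).toLinearMap.rTensor D' x) =
          algebraMap C' C (eA'.equiv x) := fun x => by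
        induction x using TensorProduct.induction_on with
        | zero => simp
        | tmul b l => simp [IsBaseChange.equiv_tmul, Algebra.smul_def,
            ← IsScalarTower.algebraMap_apply]
        | add u v hu hv => simp only [map_add, hu, hv]
      obtain ⟨l, hl, hl'⟩ := Groth.Agent.EtAlg23.baseChange_pair_surjective h D' (eB.equiv.symm d)
        (eA'.equiv.symm c') (eA.equiv.injective (by
          rw [hB, hA', LinearEquiv.apply_symm_apply, LinearEquiv.apply_symm_apply, hdc]))
      refine ⟨l, ?_, ?_⟩
      · simpa [IsBaseChange.equiv_tmul] using congrArg eB.equiv hl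
      · simpa [IsBaseChange.equiv_tmul] using congrArg eA'.equiv hl'
  exact Groth.Agent.EtAlg23.finite_glue hD

end Groth.Agent.S6921
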