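import Groth.Statements.S6929
import Mathlib.RingTheory.Adjoin.Tower
import Mathlib.RingTheory.FiniteType

set_option autoImplicit false
universe u
open EtAlg

namespace Groth.Agent.S6929

theorem finiteType_pi {R ι : Type*} [CommRing R] [Fintype ι] {A : ι → Type*} [∀ i, CommRing (A i)]
    [∀ i, Algebra R (A i)] (h : ∀ i, Algebra.FiniteType R (A i)) : Algebra.FiniteType R (∀ i, A i) := by
  classical
  choose T hT using fun i => (h i).out
  let G : Finset (∀ i, A i) := Finset.univ.biUnion fun i => insert (Pi.single i 1) ((T i).image (Pi.single i))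
  refine ⟨⟨G, ?_⟩⟩
  rw [eq_top_iff]
  intro a _
  have hG : ∀ i, ∀ x : A i, x = 1 ∨ x ∈ T i → Pi.single i x ∈ Algebra.adjoin R (G : Set (∀ i, A i)) := by
    intro i x hx
    refine Algebra.subset_adjoin (Finset.mem_coe.2 (Finset.mem_biUnion.2 ⟨i, Finset.mem_univ i, ?_⟩))
    rcases hx with rfl | hx
    · exact Finset.mem_insert_self _ _
    · exact Finset.mem_insert_of_mem (Finset.mem_image_of_mem _ hx)
  have key : ∀ i, ∀ x : A i, Pi.single i x ∈ Algebra.adjoin R (G : Set (∀ i, A i)) := fun i x => by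
    have hx : x ∈ Algebra.adjoin R (T i : Set (A i)) := by rw [hT i]; trivial
    induction hx using Algebra.adjoin_induction with
    | mem x hx => exact hG i x (Or.inr hx)
    | algebraMap r =>
      have : Pi.single i (algebraMap R (A i) r) = algebraMap R (∀ i, A i) r * Pi.single i 1 := by
        rw [← Pi.single_mul_right, mul_one]
        rfl
      rw [this]
      exact mul_mem (Subalgebra.algebraMap_mem _ r) (hG i 1 (Or.inl rfl))
    | add x y _ _ hx hy => rw [Pi.single_add]; exact add_mem hx hy
    | mul x y _ _ hx hy => rw [Pi.single_mul]; exact mul_mem hx hy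
  rw [← Finset.univ_sum_single a]
  exact sum_mem fun i _ => key i (a i)


/-- Let `R` be a Noetherian ring, `ι` a finite index type, and `φ_i : A_i → B_i`, `ψ_i : Q → B_i`
surjective `R`-algebra maps, where `Q` and all `A_i`, `B_i` are `R`-algebras of finite type. Then
the fibre product ring `P = Q ×_{∏ B_i} ∏ A_i` (pairs `(q, a)` with `ψ_i(q) = φ_i(a_i)` for all `i`)
is an `R`-algebra of finite type. -/
theorem result (R : Type u) [CommRing R] [IsNoetherianRing R] {ι : Type u} [Fintype ι]
    (Q : Type u) [CommRing Q] [Algebra R Q] [Algebra.FiniteType R Q] (A B : ι → Type u) [∀ i, CommRing (A i)]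
    [∀ i, CommRing (B i)] [∀ i, Algebra R (A i)] [∀ i, Algebra R (B i)] (hA : ∀ i, Algebra.FiniteType R (A i))
    (hB : ∀ i, Algebra.FiniteType R (B i)) (φ : ∀ i, A i →ₐ[R] B i) (ψ : ∀ i, Q →ₐ[R] B i)
    (hφ : ∀ i, Function.Surjective (φ i)) (hψ : ∀ i, Function.Surjective (ψ i)) :
    Algebra.FiniteType R ↥(AlgHom.equalizer ((AlgHom.pi ψ).comp (AlgHom.fst R Q (∀ i, A i)))
      ((AlgHom.pi fun i => (φ i).comp (Pi.evalAlgHom R A i)).comp (AlgHom.snd R Q (∀ i, A i)))) := by
  classical
  set P := AlgHom.equalizer ((AlgHom.pi ψ).comp (AlgHom.fst R Q (∀ i, A i)))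
      ((AlgHom.pi fun i => (φ i).comp (Pi.evalAlgHom R A i)).comp (AlgHom.snd R Q (∀ i, A i))) with hP
  have hmem : ∀ q a, ((q, a) : Q × ∀ i, A i) ∈ P ↔ ∀ i, ψ i q = φ i (a i) := fun q a => funext_iff
  have hfin : Module.Finite P (Q × ∀ i, A i) := by
    refine ⟨⟨insert (1, 0) (Finset.univ.image fun i => ((0 : Q), Pi.single i (1 : A i))), ?_⟩⟩
    rw [eq_top_iff]
    rintro ⟨q, a⟩ -
    set N := Submodule.span P (↑(insert ((1 : Q), (0 : ∀ i, A i)) (Finset.univ.image fun i => ((0 : Q), Pi.single i (1 : A i)))) : Set (Q × ∀ i, A i))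
    have hq : ((q, 0) : Q × ∀ i, A i) ∈ N := by
      choose l hl using fun i => hφ i (ψ i q)
      let p : P := ⟨(q, l), (hmem q l).2 fun i => (hl i).symm⟩
      have := N.smul_mem p (Submodule.subset_span (Finset.mem_insert_self _ _))
      convert this using 1
      change _ = ((q, l) : Q × ∀ i, A i) * (1, 0)
      simp
    have ha : ∀ i, (((0 : Q), Pi.single i (a i)) : Q × ∀ i, A i) ∈ N := fun i => by
      obtain ⟨q', hq'⟩ := hψ i (φ i (a i))
      choose l hl using fun j => hφ j (ψ j q')
      have hp : ∀ j, ψ j q' = φ j (Function.update l i (a i) j) := fun j => by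
        by_cases h : j = i
        · subst h; simpa using hq'
        · rw [Function.update_of_ne h]; exact (hl j).symm
      let p : P := ⟨(q', Function.update l i (a i)), (hmem _ _).2 hp⟩
      have := N.smul_mem p (Submodule.subset_span (Finset.mem_insert_of_mem (Finset.mem_image_of_mem
        (fun i => ((0 : Q), Pi.single i (1 : A i))) (Finset.mem_univ i))))
      convert this using 1
      change _ = ((q', Function.update l i (a i)) : Q × ∀ i, A i) * (0, Pi.single i 1)
      rw [Prod.mk_mul_mk, mul_zero, ← Pi.single_mul_right, mul_one]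
      simp
    have : ((q, a) : Q × ∀ i, A i) = (q, 0) + ∑ i, (0, Pi.single i (a i)) := by
      ext <;> simp [Prod.fst_sum, Prod.snd_sum]
    rw [this]
    exact N.add_mem hq (N.sum_mem fun i _ => ha i)
  haveI := finiteType_pi hA
  exact ⟨fg_of_fg_of_fg R P (Q × ∀ i, A i) (Algebra.FiniteType.out) hfin.fg_top Subtype.val_injective⟩

end Groth.Agent.S6929
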