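import Groth.Statements.S6930
import Groth.Agent.Hopf35.Flattening

set_option autoImplicit false
universe u
open TensorProduct
open FlatMor

namespace Groth.Agent.S6930

/-- Let `(R, 𝔪)` be a local domain whose maximal ideal is nonzero, with fraction field `K`; let `S` be
an `R`-algebra of finite type, `M` a finite `S`-module and `A ⊆ K` a valuation ring dominating `R`.
Then one can find a finitely generated ideal `I ⊆ 𝔪` and a nonzero `a ∈ I` with the following
properties, where `R₁ = R[I/a]` denotes the affine blow-up algebra (taken up to `R`-algebra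
isomorphism): every `x/a` with `x ∈ I` lies in `A`, so that `R₁ ⊆ A` inside `K`; the ring `R₁/𝔪R₁`
is nonzero; the strict transform of `S` (the quotient of `R₁ ⊗_R S` by its `a`-power torsion) is
flat over `R₁` and is a finitely presented `R₁`-algebra; and the strict transform of `M` (the
quotient of `R₁ ⊗_R M` by its `a`-power torsion) is flat over `R₁`. (The published statement asks
for these strict transforms to be flat, and the first to be finitely presented, over `R` itself;
that fails for every choice of `(I, a)` already when `R = k[x, y]` localized at `(x, y)` and `S =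
R[y/x]`, and the published proof, which passes to the limit over the rings `R[I/a]`, yields flatness
and finite presentation over `R[I/a]`, which is what is stated here. The published statement also
allows `𝔪 = 0`, i.e. `R` a field; then all hypotheses hold with `A = K` while no nonzero `a ∈ 𝔪`
exists, so the hypothesis `𝔪 ≠ 0` is added. Finally, the published statement also asserts that the
strict transform of `M` is finitely presented over the strict transform of `S`; that clause is not
included.) -/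
theorem result (R K : Type u) [CommRing R] [IsDomain R] [IsLocalRing R] [Field K]
    [Algebra R K] [IsFractionRing R K] (S : Type u) [CommRing S] [Algebra R S] [Algebra.FiniteType R S] (M : Type u)
    [AddCommGroup M] [Module S M] [Module R M] [IsScalarTower R S M] [Module.Finite S M]
    (A : Type u) [CommRing A] [IsDomain A] [ValuationRing A] [Algebra A K] [IsFractionRing A K] [Algebra R A]
    [IsScalarTower R A K] [IsLocalHom (algebraMap R A)] (hm : IsLocalRing.maximalIdeal R ≠ ⊥) :
    ∃ (I : Ideal R) (a : R), I.FG ∧ I ≤ IsLocalRing.maximalIdeal R ∧ a ∈ I ∧ a ≠ 0 ∧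
      (∀ x ∈ I, ∃ y : A, algebraMap A K y * algebraMap R K a = algebraMap R K x) ∧
      ∀ (R₁ : Type u) [CommRing R₁] [Algebra R R₁] (e : R₁ ≃ₐ[R] ↥(BlowUp.affineAlgebra R I a)),
        (IsLocalRing.maximalIdeal R).map (algebraMap R R₁) ≠ ⊤ ∧
        Module.Flat R₁ ((R₁ ⊗[R] S) ⧸ FlatCA.powTorsion (R₁ ⊗[R] S) (algebraMap R (R₁ ⊗[R] S) a) (R₁ ⊗[R] S)) ∧
        Algebra.FinitePresentation R₁
          ((R₁ ⊗[R] S) ⧸ FlatCA.powTorsion (R₁ ⊗[R] S) (algebraMap R (R₁ ⊗[R] S) a) (R₁ ⊗[R] S)) ∧
        Module.Flat R₁ ((R₁ ⊗[R] M) ⧸ FlatCA.powTorsion R₁ (algebraMap R R₁ a) (R₁ ⊗[R] M)) := by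
  classical
  obtain ⟨n, π, hπ⟩ := Algebra.FiniteType.iff_quotient_mvPolynomial''.1 (inferInstance : Algebra.FiniteType R S)
  letI : Module (MvPolynomial (Fin n) R) M := Module.compHom M π.toRingHom
  haveI : IsScalarTower R (MvPolynomial (Fin n) R) M := IsScalarTower.of_algebraMap_smul fun r x => by
    show π (algebraMap R _ r) • x = r • x
    rw [π.commutes, algebraMap_smul]
  letI : Module (MvPolynomial (Fin n) R) S := Module.compHom S π.toRingHom
  haveI : IsScalarTower R (MvPolynomial (Fin n) R) S := IsScalarTower.of_algebraMap_smul fun r x => by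
    show π (algebraMap R _ r) * x = r • x
    rw [π.commutes, Algebra.smul_def]
  obtain ⟨k, gen, hgen⟩ := Module.Finite.exists_fin (R := S) (M := M)
  let pM : (Fin k → MvPolynomial (Fin n) R) →ₗ[MvPolynomial (Fin n) R] M :=
    (Pi.basisFun (MvPolynomial (Fin n) R) (Fin k)).constr (MvPolynomial (Fin n) R) gen
  have hpM : Function.Surjective pM := by
    rw [← LinearMap.range_eq_top, Module.Basis.constr_range, eq_top_iff]
    intro x _
    obtain ⟨s, rfl⟩ := (Submodule.mem_span_range_iff_exists_fun S).1 (hgen.symm ▸ Submodule.mem_top : x ∈ _)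
    refine Submodule.sum_mem _ fun l _ => ?_
    obtain ⟨q, hq⟩ := hπ (s l)
    rw [← hq]
    exact Submodule.smul_mem _ q (Submodule.subset_span ⟨l, rfl⟩)
  let pS : (Fin 1 → MvPolynomial (Fin n) R) →ₗ[MvPolynomial (Fin n) R] S :=
    (Pi.basisFun (MvPolynomial (Fin n) R) (Fin 1)).constr (MvPolynomial (Fin n) R) fun _ => (1 : S)
  have hpS1 : ∀ q : MvPolynomial (Fin n) R, pS (fun _ => q) = π q := fun q => by
    have hq : (fun _ : Fin 1 => q) = q • Pi.basisFun (MvPolynomial (Fin n) R) (Fin 1) 0 := by
      funext l; fin_cases l; simp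
    rw [hq, map_smul, Module.Basis.constr_basis]
    show π q * 1 = π q
    rw [mul_one]
  have hpS : Function.Surjective pS := fun x => by
    obtain ⟨q, rfl⟩ := hπ x
    exact ⟨fun _ => q, hpS1 q⟩
  obtain ⟨TS, cS, hcS, hS⟩ := Groth.Agent.Hopf35.Flattening.exists_flattening (A := A) (K := K) (LinearMap.ker pS)
  obtain ⟨TM, cM, hcM, hM⟩ := Groth.Agent.Hopf35.Flattening.exists_flattening (A := A) (K := K) (LinearMap.ker pM)
  choose qd pd hqd _ hqpd using fun t : A => Groth.Agent.Hopf35.Flattening.exists_mul_eq (R := R) (K := K) t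
  let T := TS ∪ TM
  obtain ⟨m₀, hm₀, hm₀0⟩ := Submodule.exists_mem_ne_zero_of_ne_bot hm
  let d : R := ∏ t ∈ T, qd t
  let a : R := m₀ * (cS * cM) * d
  let xt : A → R := fun t => m₀ * (cS * cM) * ((∏ t' ∈ T.erase t, qd t') * pd t)
  have hxt : ∀ t ∈ T, algebraMap R A a * t = algebraMap R A (xt t) := fun t ht => by
    simp only [a, xt, d, map_mul, ← hqpd]
    rw [← Finset.prod_erase_mul _ _ ht, map_mul]
    ring
  have ha0 : a ≠ 0 := mul_ne_zero (mul_ne_zero hm₀0 (mul_ne_zero hcS hcM))
    (Finset.prod_ne_zero_iff.2 fun t _ => hqd t)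
  let I : Ideal R := Ideal.span (insert a (xt '' (T : Set A)))
  refine ⟨I, a, Submodule.fg_span ((T.finite_toSet.image xt).insert a), ?_,
    Ideal.subset_span (Set.mem_insert _ _), ha0, fun x hx => ?_, fun R₁ _ _ e => ?_⟩
  · rw [Ideal.span_le]
    rintro x (rfl | ⟨t, -, rfl⟩)
    · exact Ideal.mul_mem_right _ _ (Ideal.mul_mem_right _ _ hm₀)
    · exact Ideal.mul_mem_right _ _ (Ideal.mul_mem_right _ _ hm₀)
  · induction hx using Submodule.span_induction with
    | mem x hx =>
      rcases hx with rfl | ⟨t, ht, rfl⟩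
      · exact ⟨1, by rw [map_one, one_mul]⟩
      · refine ⟨t, ?_⟩
        rw [IsScalarTower.algebraMap_apply R A K, IsScalarTower.algebraMap_apply R A K, ← map_mul, mul_comm, hxt t ht]
    | zero => exact ⟨0, by simp⟩
    | add x y _ _ hx hy =>
      obtain ⟨u, hu⟩ := hx
      obtain ⟨v, hv⟩ := hy
      exact ⟨u + v, by rw [map_add, map_add, add_mul, hu, hv]⟩
    | smul r x _ hx =>
      obtain ⟨u, hu⟩ := hx
      refine ⟨algebraMap R A r * u, ?_⟩
      rw [map_mul, ← IsScalarTower.algebraMap_apply, mul_assoc, hu, smul_eq_mul, map_mul]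
  -- the embedding in the valuation ring
  have hIA : ∀ x ∈ I, ∃ y : A, algebraMap A K y * algebraMap R K a = algebraMap R K x := by
    intro x hx
    induction hx using Submodule.span_induction with
    | mem x hx =>
      rcases hx with rfl | ⟨t, ht, rfl⟩
      · exact ⟨1, by rw [map_one, one_mul]⟩
      · refine ⟨t, ?_⟩
        rw [IsScalarTower.algebraMap_apply R A K, IsScalarTower.algebraMap_apply R A K, ← map_mul, mul_comm, hxt t ht]
    | zero => exact ⟨0, by simp⟩
    | add x y _ _ hx hy =>
      obtain ⟨u, hu⟩ := hx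
      obtain ⟨v, hv⟩ := hy
      exact ⟨u + v, by rw [map_add, map_add, add_mul, hu, hv]⟩
    | smul r x _ hx =>
      obtain ⟨u, hu⟩ := hx
      refine ⟨algebraMap R A r * u, ?_⟩
      rw [map_mul, ← IsScalarTower.algebraMap_apply, mul_assoc, hu, smul_eq_mul, map_mul]
  have haK : algebraMap R K a ≠ 0 := (map_ne_zero_iff _ (IsFractionRing.injective R K)).2 ha0
  let L : Localization.Away a →ₐ[R] K :=
    IsLocalization.liftAlgHom (M := Submonoid.powers a) (f := Algebra.ofId R K) (by
      rintro ⟨_, j, rfl⟩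
      exact IsUnit.mk0 _ (by simpa using pow_ne_zero j haK))
  have hLmk : ∀ x, L (IsLocalization.mk' (Localization.Away a) x ⟨a, Submonoid.mem_powers a⟩) * algebraMap R K a =
      algebraMap R K x := fun x => by
    rw [← L.commutes a, ← map_mul, IsLocalization.mk'_spec, L.commutes]
  have hLinj : Function.Injective L := by
    rw [injective_iff_map_eq_zero]
    intro z hz
    obtain ⟨x, ⟨_, j, rfl⟩, rfl⟩ := IsLocalization.exists_mk'_eq (Submonoid.powers a) z
    have h0 : algebraMap R K x = 0 := by
      rw [← L.commutes x, ← IsLocalization.mk'_spec (Localization.Away a) x (⟨a ^ j, j, rfl⟩ : Submonoid.powers a),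
        map_mul, hz, zero_mul]
    rw [(map_eq_zero_iff _ (IsFractionRing.injective R K)).1 h0, IsLocalization.mk'_zero]
  let φ₁ : R₁ →ₐ[R] K := L.comp ((BlowUp.affineAlgebra R I a).val.comp e.toAlgHom)
  have hrange : ∀ z : R₁, φ₁ z ∈ (IsScalarTower.toAlgHom R A K).range := fun z => by
    have key : ∀ w ∈ BlowUp.affineAlgebra R I a, L w ∈ (IsScalarTower.toAlgHom R A K).range := by
      intro w hw
      induction hw using Algebra.adjoin_induction with
      | mem w hw =>
        obtain ⟨x, hx, rfl⟩ := hw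
        obtain ⟨y, hy⟩ := hIA x hx
        exact ⟨y, mul_right_cancel₀ haK (hy.trans (hLmk x).symm)⟩
      | algebraMap r => rw [L.commutes]; exact Subalgebra.algebraMap_mem _ r
      | add x y _ _ hx hy => rw [map_add]; exact add_mem hx hy
      | mul x y _ _ hx hy => rw [map_mul]; exact mul_mem hx hy
    exact key _ (e z).2
  let eA := AlgEquiv.ofInjective (IsScalarTower.toAlgHom R A K) (IsFractionRing.injective A K)
  let ι : R₁ →ₐ[R] A := eA.symm.toAlgHom.comp (φ₁.codRestrict (IsScalarTower.toAlgHom R A K).range hrange)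
  have hιK : ∀ z, algebraMap A K (ι z) = φ₁ z := fun z =>
    congrArg Subtype.val (eA.apply_symm_apply ⟨φ₁ z, hrange z⟩)
  have hι : Function.Injective ι := fun y z h => by
    have := congrArg (algebraMap A K) h
    rw [hιK, hιK] at this
    exact e.injective (Subtype.ext (hLinj this))
  have hT : (T : Set A) ⊆ Set.range ι := fun t ht => by
    have hxI : xt t ∈ I := Ideal.subset_span (Set.mem_insert_of_mem _ ⟨t, ht, rfl⟩)
    obtain ⟨z, hz⟩ := e.surjective (⟨IsLocalization.mk' (Localization.Away a) (xt t) ⟨a, Submonoid.mem_powers a⟩,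
      Algebra.subset_adjoin ⟨xt t, hxI, rfl⟩⟩ : BlowUp.affineAlgebra R I a)
    refine ⟨z, IsFractionRing.injective A K ?_⟩
    rw [hιK]
    refine mul_right_cancel₀ haK ?_
    show L ((e z).1) * _ = _
    rw [hz, hLmk, IsScalarTower.algebraMap_apply R A K a, ← map_mul, mul_comm, hxt t ht,
      ← IsScalarTower.algebraMap_apply]
  haveI : IsDomain R₁ := hι.isDomain ι.toRingHom
  have ha₁ : algebraMap R R₁ a ≠ 0 := fun h => haK (by
    rw [IsScalarTower.algebraMap_apply R A K, ← ι.commutes, h, map_zero, map_zero])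
  have hdS : cS ∣ a := ((dvd_mul_right cS cM).mul_left m₀).mul_right d
  have hdM : cM ∣ a := ((dvd_mul_left cM cS).mul_left m₀).mul_right d
  have hTS : (TS : Set A) ⊆ Set.range ι := fun t ht => hT (Finset.mem_union_left _ ht)
  have hTM : (TM : Set A) ⊆ Set.range ι := fun t ht => hT (Finset.mem_union_right _ ht)
  obtain ⟨FM, -, hFMflat, hFM1, hFM2⟩ := hM R₁ ι hι hTM
  obtain ⟨FS, hFSfg, hFSflat, hFS1, hFS2⟩ := hS R₁ ι hι hTS
  obtain ⟨hflatM, -⟩ := Groth.Agent.Hopf35.Flattening.flat_strictTransform pM hpM ha₁ hdM FM hFMflat hFM1 hFM2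
  obtain ⟨hflatS, Ψ, hΨ, hΨ1, hΨF⟩ :=
    Groth.Agent.Hopf35.Flattening.flat_strictTransform pS hpS ha₁ hdS FS hFSflat hFS1 hFS2
  refine ⟨fun htop => ?_, ?_, ?_, hflatM⟩
  · have hle : ((IsLocalRing.maximalIdeal R).map (algebraMap R R₁)).map ι.toRingHom ≤ IsLocalRing.maximalIdeal A := by
      rw [Ideal.map_map, show ι.toRingHom.comp (algebraMap R R₁) = algebraMap R A from ι.comp_algebraMap]
      exact IsLocalRing.map_maximalIdeal_le _
    rw [htop, Ideal.map_top] at hle
    exact (IsLocalRing.maximalIdeal.isMaximal A).ne_top (top_le_iff.1 hle)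
  · let J := FlatCA.powTorsion (R₁ ⊗[R] S) (algebraMap R (R₁ ⊗[R] S) a) (R₁ ⊗[R] S)
    have hJ : J.restrictScalars R₁ = FlatCA.powTorsion R₁ (algebraMap R R₁ a) (R₁ ⊗[R] S) := by
      ext z
      rw [Submodule.restrictScalars_mem, Groth.Agent.Hopf35.Flattening.mem_powTorsion_iff,
        Groth.Agent.Hopf35.Flattening.mem_powTorsion_iff]
      simp only [← map_pow, algebraMap_smul]
    haveI := hflatS
    exact Module.Flat.of_linearEquiv
      ((Submodule.Quotient.restrictScalarsEquiv R₁ J).symm.trans (Submodule.quotEquivOfEq _ _ hJ))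
  · let J := FlatCA.powTorsion (R₁ ⊗[R] S) (algebraMap R (R₁ ⊗[R] S) a) (R₁ ⊗[R] S)
    let θ : MvPolynomial (Fin n) R₁ →ₐ[R₁] R₁ ⊗[R] S :=
      (Algebra.TensorProduct.map (AlgHom.id R₁ R₁) π).comp (MvPolynomial.algebraTensorAlgEquiv R R₁).symm.toAlgHom
    let P₁ := MvPolynomial (Fin n) R₁
    let inc : P₁ →ₗ[R₁] (Fin 1 → P₁) := LinearMap.pi fun _ => LinearMap.id
    have hθΨ : Ψ ∘ₗ inc = θ.toLinearMap := by
      refine MvPolynomial.linearMap_ext fun u => LinearMap.ext_ring ?_
      have h1 : inc (MvPolynomial.monomial u 1) =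
          Groth.Agent.Hopf35.Flattening.mapV (algebraMap R R₁) (fun _ : Fin 1 => MvPolynomial.monomial u (1 : R)) := by
        funext l
        simp [inc, Groth.Agent.Hopf35.Flattening.mapV_apply, P₁]
      show Ψ (inc (MvPolynomial.monomial u 1)) = θ (MvPolynomial.monomial u 1)
      rw [h1, hΨ1, hpS1]
      simp [θ]
    have hθ : Function.Surjective θ := fun z => by
      obtain ⟨w, rfl⟩ := hΨ z
      refine ⟨w 0, ?_⟩
      rw [← AlgHom.toLinearMap_apply, ← hθΨ, LinearMap.comp_apply]
      congr 1
      funext l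
      fin_cases l
      rfl
    let ψ : P₁ →ₐ[R₁] (R₁ ⊗[R] S) ⧸ J := (Ideal.Quotient.mkₐ R₁ J).comp θ
    refine Algebra.FinitePresentation.of_surjective (f := ψ) (Ideal.Quotient.mk_surjective.comp hθ) ?_
    have hker : RingHom.ker ψ.toRingHom = FS.map (LinearMap.proj (R := P₁) (φ := fun _ : Fin 1 => P₁) 0) := by
      ext q
      have hmem : ψ q = 0 ↔ inc q ∈ FS := by
        rw [← hΨF, ← LinearMap.comp_apply, hθΨ, AlgHom.toLinearMap_apply,
          Groth.Agent.Hopf35.Flattening.mem_powTorsion_iff]
        show Ideal.Quotient.mk J (θ q) = 0 ↔ _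
        rw [Ideal.Quotient.eq_zero_iff_mem]
        simp only [J, Groth.Agent.Hopf35.Flattening.mem_powTorsion_iff, ← map_pow, algebraMap_smul]
      rw [RingHom.mem_ker]
      constructor
      · intro h
        exact ⟨inc q, hmem.1 h, rfl⟩
      · rintro ⟨w, hw, rfl⟩
        refine hmem.2 ?_
        have : inc (w 0) = w := by
          funext l
          fin_cases l
          rfl
        exact this.symm ▸ hw
    exact hker ▸ hFSfg.map _

end Groth.Agent.S6930
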