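import Groth.Statements.S6931
import Mathlib.LinearAlgebra.Dimension.Localization
import Mathlib.RingTheory.IsTensorProduct

set_option autoImplicit false
universe u
open TensorProduct
open CAlg

namespace Groth.Agent.S6931

/-- For an injective map of domains `R → R'` and any `R`-module `M`, the rank of `R' ⊗_R M` over `R'`
equals the rank of `M` over `R` (rank over a domain = dimension over the fraction field after base
change). -/
theorem result (R R' : Type u) [CommRing R] [IsDomain R] [CommRing R'] [IsDomain R']
    [Algebra R R'] (h : Function.Injective (algebraMap R R')) (M : Type u) [AddCommGroup M] [Module R M] :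
    Module.rank R' (R' ⊗[R] M) = Module.rank R M := by
  have : FaithfulSMul R R' := (faithfulSMul_iff_algebraMap_injective R R').mpr h
  exact IsBaseChange.rank_eq (TensorProduct.isBaseChange R M R')

end Groth.Agent.S6931
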