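import Groth.Statements.S6933
import Groth.Agent.InjHull18.Basic


set_option autoImplicit false
universe u
open CategoryTheory
open InjHull

namespace Groth.Agent.S6933

/-- An abelian group `J` that is injective as an object of the category of abelian groups is divisible:
`n J = J` for every nonzero integer `n`. (The published statement is an equivalence; this row states
the implication from injective to divisible.) -/
theorem result (J : Type u) [AddCommGroup J] (hJ : Injective (AddCommGrpCat.of J))
    (n : ℤ) (hn : n ≠ 0) (x : J) : ∃ y : J, n • y = x := by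
  let φ : AddCommGrpCat.of (ULift.{u} ℤ) ⟶ AddCommGrpCat.of (ULift.{u} ℤ) :=
    AddCommGrpCat.ofHom (n • AddMonoidHom.id (ULift.{u} ℤ))
  have : CategoryTheory.Mono φ := by
    rw [AddCommGrpCat.mono_iff_injective]
    intro a b hab
    have h2 : n * a.down = n * b.down := congrArg ULift.down hab
    exact ULift.ext _ _ (mul_left_cancel₀ hn h2)
  let g : AddCommGrpCat.of (ULift.{u} ℤ) ⟶ AddCommGrpCat.of J :=
    AddCommGrpCat.ofHom ((zmultiplesHom J x).comp AddEquiv.ulift.toAddMonoidHom)
  have h1 := CategoryTheory.Injective.comp_factorThru g φ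
  refine ⟨(CategoryTheory.Injective.factorThru g φ).hom (ULift.up 1), ?_⟩
  have h2 : (CategoryTheory.Injective.factorThru g φ).hom (φ.hom (ULift.up 1)) =
      g.hom (ULift.up 1) := by
    conv_rhs => rw [← h1]
    rfl
  have hφ : φ.hom (ULift.up 1) = n • (ULift.up 1 : ULift.{u} ℤ) := rfl
  have hg : g.hom (ULift.up 1) = x := one_zsmul x
  rw [hg, hφ, map_zsmul] at h2
  exact h2

end Groth.Agent.S6933
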