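import Groth.Statements.S6934
import Mathlib.Tactic.LinearCombination
import Mathlib.Tactic.Ring
-- import your own Groth.Agent.* helpers here

set_option autoImplicit false
universe u
open EtAlg

namespace Groth.Agent.S6934

/-- Let `s : B → R`, `t : R' → R` be ring maps and `B' = B ×_R R'` the fibre product ring, i.e. a ring
`B'` with maps `p : B' → B`, `q : B' → R'`, `s ∘ p = t ∘ q`, such that `(p, q)` is injective with
image the pairs `(b, r')` with `s(b) = t(r')`. Let `h ∈ B'` with images `g = p(h)`, `f = q(h)`. Then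
the square of localizations `B'_h → B_g`, `B'_h → R'_f`, `B_g → R_{s(g)}`, `R'_f → R_{t(f)} =
R_{s(g)}` (the induced maps) is cartesian as well: `B'_h = B_g ×_{R_{s(g)}} R'_f`. -/
theorem result {B R R' B' : Type u} [CommRing B] [CommRing R] [CommRing R'] [CommRing B']
    (s : B →+* R) (t : R' →+* R) (p : B' →+* B) (q : B' →+* R') (hc : s.comp p = t.comp q)
    (hinj : ∀ x y : B', p x = p y → q x = q y → x = y) (hsurj : ∀ (b : B) (r' : R'), s b = t r' → ∃ x : B', p x = b ∧ q x = r')
    (h : B') (Bh Bg Rf Rsg : Type u) [CommRing Bh] [CommRing Bg] [CommRing Rf] [CommRing Rsg]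
    [Algebra B' Bh] [IsLocalization.Away h Bh] [Algebra B Bg] [IsLocalization.Away (p h) Bg]
    [Algebra R' Rf] [IsLocalization.Away (q h) Rf] [Algebra R Rsg] [IsLocalization.Away (s (p h)) Rsg]
    (pL : Bh →+* Bg) (qL : Bh →+* Rf) (sL : Bg →+* Rsg) (tL : Rf →+* Rsg)
    (hp : pL.comp (algebraMap B' Bh) = (algebraMap B Bg).comp p) (hq : qL.comp (algebraMap B' Bh) = (algebraMap R' Rf).comp q)
    (hs : sL.comp (algebraMap B Bg) = (algebraMap R Rsg).comp s) (ht : tL.comp (algebraMap R' Rf) = (algebraMap R Rsg).comp t) :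
    (∀ x y : Bh, pL x = pL y → qL x = qL y → x = y) ∧
    (∀ (b : Bg) (r : Rf), sL b = tL r → ∃ x : Bh, pL x = b ∧ qL x = r) := by
  have hpL : ∀ b, pL (algebraMap B' Bh b) = algebraMap B Bg (p b) := fun b => RingHom.congr_fun hp b
  have hqL : ∀ b, qL (algebraMap B' Bh b) = algebraMap R' Rf (q b) := fun b => RingHom.congr_fun hq b
  have hsL : ∀ b, sL (algebraMap B Bg b) = algebraMap R Rsg (s b) := fun b => RingHom.congr_fun hs b
  have htL : ∀ b, tL (algebraMap R' Rf b) = algebraMap R Rsg (t b) := fun b => RingHom.congr_fun ht b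
  have hst : ∀ b, s (p b) = t (q b) := fun b => RingHom.congr_fun hc b
  constructor
  · intro x y h1 h2
    obtain ⟨⟨a, ⟨_, n, rfl⟩⟩, hx⟩ := IsLocalization.surj (Submonoid.powers h) x
    obtain ⟨⟨b, ⟨_, m, rfl⟩⟩, hy⟩ := IsLocalization.surj (Submonoid.powers h) y
    have e1 : algebraMap B Bg (p (a * h ^ m)) = algebraMap B Bg (p (b * h ^ n)) := by
      rw [← hpL, ← hpL, map_mul, map_mul (algebraMap B' Bh), ← hx, ← hy, map_mul, map_mul, map_mul,
        map_mul, h1]
      ring
    have e2 : algebraMap R' Rf (q (a * h ^ m)) = algebraMap R' Rf (q (b * h ^ n)) := by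
      rw [← hqL, ← hqL, map_mul, map_mul (algebraMap B' Bh), ← hx, ← hy, map_mul, map_mul, map_mul,
        map_mul, h2]
      ring
    obtain ⟨⟨_, i, rfl⟩, hi⟩ := IsLocalization.exists_of_eq (M := Submonoid.powers (p h)) e1
    obtain ⟨⟨_, j, rfl⟩, hj⟩ := IsLocalization.exists_of_eq (M := Submonoid.powers (q h)) e2
    simp only at hi hj
    have key : h ^ (i + j) * (a * h ^ m) = h ^ (i + j) * (b * h ^ n) := by
      apply hinj
      · simp only [map_mul, map_pow, pow_add] at hi ⊢
        linear_combination (p h) ^ j * hi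
      · simp only [map_mul, map_pow, pow_add] at hj ⊢
        linear_combination (q h) ^ i * hj
    have hu : IsUnit (algebraMap B' Bh h) :=
      IsLocalization.map_units Bh (⟨h, Submonoid.mem_powers h⟩ : Submonoid.powers h)
    have key2 := congrArg (algebraMap B' Bh) key
    simp only [map_mul, map_pow] at key2 hx hy
    refine ((hu.pow (i + j)).mul (hu.pow (m + n))).mul_left_cancel ?_
    rw [← hx, ← hy] at key2
    rw [pow_add (algebraMap B' Bh h) m n]
    linear_combination key2
  · intro b r hbr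
    obtain ⟨⟨b₀, ⟨_, n, rfl⟩⟩, hb⟩ := IsLocalization.surj (Submonoid.powers (p h)) b
    obtain ⟨⟨r₀, ⟨_, m, rfl⟩⟩, hr⟩ := IsLocalization.surj (Submonoid.powers (q h)) r
    simp only [map_pow] at hb hr
    have e : algebraMap R Rsg (s (b₀ * p h ^ m)) = algebraMap R Rsg (t (r₀ * q h ^ n)) := by
      rw [← hsL, ← htL, map_mul, map_mul (algebraMap R' Rf), ← hb, ← hr, map_mul, map_mul, map_mul,
        map_mul, hbr, map_pow, map_pow, map_pow, map_pow, map_pow, map_pow, hsL, htL, hst]
      ring
    obtain ⟨⟨_, i, rfl⟩, hi⟩ := IsLocalization.exists_of_eq (M := Submonoid.powers (s (p h))) e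
    simp only at hi
    obtain ⟨z, hz1, hz2⟩ := hsurj (p h ^ i * (b₀ * p h ^ m)) (q h ^ i * (r₀ * q h ^ n)) (by
      rw [map_mul, map_pow, map_mul t, map_pow t, ← hst h]; exact hi)
    have hu : IsUnit (algebraMap B' Bh h) :=
      IsLocalization.map_units Bh (⟨h, Submonoid.mem_powers h⟩ : Submonoid.powers h)
    obtain ⟨w, hw⟩ := (hu.pow (i + (n + m))).dvd (a := algebraMap B' Bh z)
    refine ⟨w, ?_, ?_⟩
    · refine (IsLocalization.map_units Bg
        (⟨p h ^ (i + (n + m)), (Submonoid.mem_powers (p h) |> fun hm => pow_mem hm _)⟩ :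
          Submonoid.powers (p h))).mul_left_cancel ?_
      simp only [map_pow]
      have := congrArg pL hw
      rw [hpL, hz1, map_mul, map_mul, map_mul, map_pow, map_pow, map_pow, hpL, ← hb] at this
      rw [← this]
      ring
    · refine (IsLocalization.map_units Rf
        (⟨q h ^ (i + (n + m)), (Submonoid.mem_powers (q h) |> fun hm => pow_mem hm _)⟩ :
          Submonoid.powers (q h))).mul_left_cancel ?_
      simp only [map_pow]
      have := congrArg qL hw
      rw [hqL, hz2, map_mul, map_mul, map_mul, map_pow, map_pow, map_pow, hqL, ← hr] at this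
      rw [← this]
      ring

end Groth.Agent.S6934
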