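import Groth.Statements.S6937
import Groth.Agent.DR39.Resolution

set_option autoImplicit false
universe u
open CategoryTheory CategoryTheory.Limits
attribute [local instance] HasDerivedCategory.standard
open DRing

namespace Groth.Agent.S6937

/-- Let R be a commutative ring, m an integer and K, L objects of D(R). If K ⊕ L is m-pseudo-coherent
then K and L are m-pseudo-coherent; if K ⊕ L is pseudo-coherent (isomorphic in D(R) to a bounded
above complex of finite free modules) then so are K and L. -/
theorem result (R : Type u) [CommRing R] (m : ℤ) (K L : Dual.D R)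
    [HasBinaryBiproduct K L] :
    (DRing.IsPseudoCoherent R m (K ⊞ L) → DRing.IsPseudoCoherent R m K ∧ DRing.IsPseudoCoherent R m L) ∧
      (DRing.IsPseudoCoherent' R (K ⊞ L) → DRing.IsPseudoCoherent' R K ∧ DRing.IsPseudoCoherent' R L) := by
  refine ⟨fun h => ⟨DR39.PC.of_biprod h, ?_⟩, fun h => ?_⟩
  · exact DR39.PC.of_biprod (DR39.PC.of_iso h (biprod.braiding K L))
  · have h' := (DR39.pc'_iff_forall_pc _).1 h
    exact ⟨(DR39.pc'_iff_forall_pc _).2 fun n => DR39.PC.of_biprod (h' n),
      (DR39.pc'_iff_forall_pc _).2 fun n => DR39.PC.of_biprod (DR39.PC.of_iso (h' n) (biprod.braiding K L))⟩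

end Groth.Agent.S6937
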