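import Groth.Statements.S6940
import Groth.Agent.DR39.Restrict

set_option autoImplicit false
universe u
open CategoryTheory CategoryTheory.Limits
attribute [local instance] HasDerivedCategory.standard
open DRing

namespace Groth.Agent.S6940

/-- Let A → B be a homomorphism of commutative rings making B a pseudo-coherent A-module; let K be an
object of D(B) and m an integer. Then m-pseudo-coherence of K over B is equivalent to
m-pseudo-coherence over A of K with its scalars restricted to A, and likewise pseudo-coherence of K
over B is equivalent to pseudo-coherence over A of its restriction. -/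
theorem result {A B : Type u} [CommRing A]
    [CommRing B] [Algebra A B] (hB : DRing.IsPseudoCoherentModule' A B) (K : Dual.D B) (m : ℤ) :
    (DRing.IsPseudoCoherent B m K ↔ DRing.IsPseudoCoherent A m ((DRing.restrictD (algebraMap A B)).obj K)) ∧
      (DRing.IsPseudoCoherent' B K ↔ DRing.IsPseudoCoherent' A ((DRing.restrictD (algebraMap A B)).obj K)) := by
  obtain ⟨e⟩ := DR39.rest_self_iso (A := A) B
  have hB' : ∀ n, DR39.PC n (Dual.inD A ((ModuleCat.restrictScalars (algebraMap A B)).obj (ModuleCat.of B B))) :=
    fun n => DR39.PC.of_iso (DR39.pc_of_pc' hB n) (DR39.inDIso e.toLinearEquiv).symm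
  refine ⟨DR39.pc_restrict_iff _ hB' K m, ?_⟩
  rw [DR39.pc'_iff_forall_pc, DR39.pc'_iff_forall_pc]
  exact forall_congr' fun n => DR39.pc_restrict_iff _ hB' K n

end Groth.Agent.S6940
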