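import Groth.Statements.S6942
import Groth.Agent.DR39.PC3

set_option autoImplicit false
universe u
open CategoryTheory CategoryTheory.Limits
attribute [local instance] HasDerivedCategory.standard
open DRing

namespace Groth.Agent.S6942

/-- Let R be a Noetherian commutative ring and m an integer. An object K of D(R) is m-pseudo-coherent
exactly when H^i(K) = 0 for all large i and H^i(K) is a finitely generated R-module for each i ≥ m.
Every finitely generated R-module M is pseudo-coherent, and conversely. -/
theorem result (R : Type u) [CommRing R]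
    [IsNoetherianRing R] (m : ℤ) (K : Dual.D R) (M : Type u) [AddCommGroup M] [Module R M] :
    (DRing.IsPseudoCoherent R m K ↔
      (∃ b : ℤ, ∀ i : ℤ, b < i → Subsingleton (Dual.HD R K i)) ∧ ∀ i : ℤ, m ≤ i → Module.Finite R (Dual.HD R K i)) ∧
      (DRing.IsPseudoCoherentModule' R M ↔ Module.Finite R M) := by
  have hfp : ∀ (M : Type u) [AddCommGroup M] [Module R M], Module.FinitePresentation R M →
      ∀ n, DR39.PC n (Dual.inD R M) := fun M _ _ hM n =>
    DR39.pc_inD_of_fp_of_coherent (fun I hI => haveI := Module.Finite.iff_fg.2 hI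
      Module.finitePresentation_of_finite R I) M hM n
  refine ⟨⟨fun h => ⟨?_, fun i hi => ?_⟩, fun ⟨⟨b, hb⟩, h⟩ => ?_⟩, ?_, fun h => ?_⟩
  · obtain ⟨b, hb⟩ := DR39.acyc_of_pc h
    exact ⟨b, fun i hi => (DR39.isZero_HF_iff K i).1 (hb i hi.le)⟩
  · obtain ⟨h0, h1⟩ := DR39.homology_of_pc hfp h
    rcases eq_or_lt_of_le hi with rfl | hlt
    · exact h0
    · haveI := h1 i hlt
      exact (inferInstance : Module.Finite R (Dual.HD R K i))
  · refine DR39.pc_of_homology (DR39.acyc_of_subsingleton hb) fun i hi => hfp _ ?_ _
    haveI := h i hi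
    exact Module.finitePresentation_of_finite R _
  · exact fun h => (DR39.pcModule_zero_iff M).1 (DR39.pc_of_pc' h 0)
  · exact (DR39.pc'_iff_forall_pc _).2 fun n => hfp M (Module.finitePresentation_of_finite R M) n

end Groth.Agent.S6942
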