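import Groth.Statements.S6945
import Groth.Agent.DR39.Perf
import Groth.Agent.DR39.Derived

set_option autoImplicit false
universe u
open CategoryTheory CategoryTheory.Limits
attribute [local instance] HasDerivedCategory.standard
open DRing

namespace Groth.Agent.S6945

/-- With the definition of tor amplitude: let R be a commutative ring, K an object of D(R) and a, b
integers, and assume the derived tensor product - ⊗^L_R M exists on D(R) for every R-module M. Then
K is isomorphic in D(R) to a complex of flat R-modules vanishing outside [a, b] if and only if H^i(K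
⊗^L_R M) = 0 for every R-module M and every integer i outside [a, b]. -/
theorem result (R : Type u) [CommRing R]
    [∀ M : ModuleCat.{u} R, DRing.HasLTensor R M] (K : Dual.D R) (a b : ℤ) :
    DRing.HasTorAmplitudeIn R a b K ↔
      ∀ (M : ModuleCat.{u} R) (i : ℤ), (i < a ∨ b < i) → Subsingleton (Dual.HD R ((DRing.LTensor R M).obj K) i) := by
  obtain ⟨C, ⟨e⟩⟩ := DR39.exists_complex_iso K
  haveI : QuasiIso (DR39.SF.aug C) := inferInstance
  let P := DR39.SF.res C
  have hP : DRing.IsKFlat R P := DR39.isKFlat_of_isKProjective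
  let f : (DR39.QA R).obj P ≅ K := asIso ((DR39.QA R).map (DR39.SF.aug C)) ≪≫ e
  have key : ∀ (M : ModuleCat.{u} R) (i : ℤ),
      Subsingleton (Dual.HD R ((DRing.LTensor R M).obj K) i) ↔
        IsZero ((DRing.tensorCx P M).homology i) := by
    intro M i
    rw [← DR39.isZero_HF_iff, ← DR39.isZero_HF_Q_iff]
    exact ((DR39.HF R i).mapIso ((DRing.LTensor R M).mapIso f.symm ≪≫ DR39.LTensorIso M P hP)).isZero_iff
  constructor
  · intro h M i hi
    rw [key]
    obtain ⟨E, hv, hE, ⟨g⟩⟩ := h
    obtain ⟨g'⟩ := DR39.tensor_iso hP (DR39.isKFlat_of_flat b (fun i hi => hv i (Or.inr hi)) hE)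
      (f ≪≫ g.symm) M i
    refine IsZero.of_iso ?_ g'
    rw [DR39.isZero_tensorCx_iff]
    haveI := ModuleCat.subsingleton_of_isZero (hv i hi)
    intro x _
    exact ⟨0, Subsingleton.elim _ _⟩
  · intro h
    refine (DR39.ta_iff a b P hP f).2 ⟨fun i hi => ?_, fun M i hi => (key M i).1 (h M i (Or.inl hi))⟩
    refine ((DR39.isZero_HF_Q_iff P i).2 ?_).of_iso ((DR39.HF R i).mapIso f.symm)
    exact (DR39.exT_self_iff P i).1 ((DR39.isZero_tensorCx_iff P _ i).1
      ((key (ModuleCat.of R R) i).1 (h _ i (Or.inr (by omega)))))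

end Groth.Agent.S6945
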