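import Groth.Statements.S6946
import Groth.Agent.DR39.Balance

set_option autoImplicit false
universe u
open CategoryTheory CategoryTheory.Limits
attribute [local instance] HasDerivedCategory.standard
open DRing

namespace Groth.Agent.S6946

/-- With the definition of tor dimension: let R be a commutative ring, M an R-module and d a natural
number. Then Tor_p^R(M, N) = 0 for every R-module N and every p > d if and only if M[0] is
isomorphic in D(R) to a complex of flat modules vanishing outside [-d, 0] (a flat resolution of M of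
length d). In particular M has tor dimension 0 (Tor_p^R(M, N) = 0 for every N and every p > 0) if
and only if M is flat. -/
theorem result (R : Type u) [CommRing R] (M : Type u)
    [AddCommGroup M] [Module R M] (d : ℕ) :
    (DRing.HasTorDimLE R d M ↔ DRing.HasTorAmplitudeIn R (-(d : ℤ)) 0 (Dual.inD R M)) ∧
      (DRing.HasTorDimLE R 0 M ↔ Module.Flat R M) := by
  refine ⟨DR39.hasTorDimLE_iff M d, ?_⟩
  rw [DR39.hasTorDimLE_iff]
  refine ⟨fun h => ?_, fun h => ?_⟩
  · obtain ⟨E, hv, hE, ⟨e⟩⟩ := h
    haveI := hE 0
    have hrange : LinearMap.range (E.d (0 - 1) 0).hom = ⊥ := by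
      haveI := ModuleCat.subsingleton_of_isZero (hv (0 - 1) (Or.inl (by simp)))
      refine eq_bot_iff.2 fun _ ⟨y, hy⟩ => ?_
      rw [Submodule.mem_bot, ← hy, Subsingleton.elim y 0, map_zero]
    have hbij : Function.Bijective (DR39.hcls E 0) := by
      refine ⟨fun x y h => ?_, DR39.hcls_surjective E 0⟩
      rw [DR39.hcls_eq_iff, hrange, Submodule.mem_bot, sub_eq_zero] at h
      exact Subtype.ext h
    have htop : DR39.Zd E 0 = ⊤ := by
      haveI := ModuleCat.subsingleton_of_isZero (hv (0 + 1) (Or.inr (by simp)))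
      exact eq_top_iff.2 fun x _ => Subsingleton.elim _ _
    let f : E.X 0 ≃ₗ[R] M := (LinearEquiv.ofTop _ htop).symm ≪≫ₗ LinearEquiv.ofBijective _ hbij ≪≫ₗ
      ((DR39.HQIso E 0).symm ≪≫ (DR39.HF R 0).mapIso e ≪≫ DR39.inDH0 M).toLinearEquiv
    exact Module.Flat.of_linearEquiv f.symm
  · exact DR39.TA.mono (DR39.ta_inD_of_flat M) (by simp) le_rfl

end Groth.Agent.S6946
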