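import Groth.Statements.S6948
import Groth.Agent.DR39.Perf
import Groth.Agent.DR39.Derived

set_option autoImplicit false
universe u
open CategoryTheory CategoryTheory.Limits
attribute [local instance] HasDerivedCategory.standard
open DRing

namespace Groth.Agent.S6948

/-- Let A → B be a homomorphism of commutative rings such that the derived base change D(A) → D(B)
exists, and let K be an object of D(A) with tor amplitude in [a, b]. Then K ⊗^L_A B has tor
amplitude in [a, b] as an object of D(B). -/
theorem result {A B : Type u} [CommRing A] [CommRing B] (φ : A →+* B)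
    [DRing.HasLBaseChange φ] (K : Dual.D A) (a b : ℤ) (hK : DRing.HasTorAmplitudeIn A a b K) :
    DRing.HasTorAmplitudeIn B a b ((DRing.LBaseChange φ).obj K) := by
  obtain ⟨E, hv, hE, ⟨e⟩⟩ := hK
  refine ⟨((ModuleCat.extendScalars φ).mapHomologicalComplex (ComplexShape.up ℤ)).obj E,
    fun i hi => (ModuleCat.extendScalars φ).map_isZero (hv i hi), fun i => ?_,
    ⟨(DR39.LBaseChangeIso φ E (DR39.isKFlat_of_flat b (fun i hi => hv i (Or.inr hi)) hE)).symm ≪≫
      (DRing.LBaseChange φ).mapIso e⟩⟩
  letI := φ.toAlgebra
  haveI := hE i
  exact Module.Flat.baseChange A B (E.X i)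

end Groth.Agent.S6948
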