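import Groth.Statements.S6951
import Groth.Agent.DR39.ResTensor

set_option autoImplicit false
universe u
open CategoryTheory CategoryTheory.Limits
attribute [local instance] HasDerivedCategory.standard
open DRing

namespace Groth.Agent.S6951

/-- Let R → A → B be homomorphisms of commutative rings with A → B faithfully flat, such that the
derived base change D(A) → D(B) exists, and let K be an object of D(A). Then for all integers a, b,
the following are equivalent: the restriction of K to D(R) is of tor amplitude within [a, b]; the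
restriction of K ⊗^L_A B to D(R) is of tor amplitude within [a, b]. -/
theorem result {R A B : Type u}
    [CommRing R] [CommRing A] [CommRing B] [Algebra R A] [Algebra A B] [Algebra R B] [IsScalarTower R A B]
    [Module.FaithfullyFlat A B] [DRing.HasLBaseChange (algebraMap A B)] (K : Dual.D A) (a b : ℤ) :
    DRing.HasTorAmplitudeIn R a b ((DRing.restrictD (algebraMap R A)).obj K) ↔
      DRing.HasTorAmplitudeIn R a b ((DRing.restrictD (algebraMap R B)).obj ((DRing.LBaseChange (algebraMap A B)).obj K)) := by
  obtain ⟨X, ⟨e₀⟩⟩ := DR39.exists_complex_iso K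
  haveI := DR39.SF.isKProjective_res X
  haveI : IsIso ((DR39.QA A).map (DR39.SF.aug X)) :=
    (DerivedCategory.isIso_Q_map_iff_quasiIso (ModuleCat.{u} A) _).2 inferInstance
  let P := DR39.SF.res X
  let e : DRing.toD P ≅ K := asIso ((DR39.QA A).map (DR39.SF.aug X)) ≪≫ e₀
  obtain ⟨c⟩ := DR39.resCx_comp (algebraMap R A) (algebraMap A B) (algebraMap R B)
    (IsScalarTower.algebraMap_eq R A B).symm (DR39.extCx (algebraMap A B) P)
  let t1 := (DR39.restrictDIso (algebraMap R A) P).symm ≪≫ (DRing.restrictD (algebraMap R A)).mapIso e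
  let t2 := DerivedCategory.Q.mapIso c ≪≫
    (DR39.restrictDIso (algebraMap R B) (DR39.extCx (algebraMap A B) P)).symm ≪≫
    (DRing.restrictD (algebraMap R B)).mapIso ((DR39.LBaseChangeIso (algebraMap A B) P
      DR39.isKFlat_of_isKProjective).symm ≪≫ (DRing.LBaseChange (algebraMap A B)).mapIso e)
  constructor
  · intro h
    refine DR39.TA.of_iso ((DR39.ta_iff_resolution _ a b).2 fun M F hF hF' eF i hi => ?_) t2
    exact (DR39.isZero_res_ext_tensor_iff P F i).2
      ((DR39.ta_iff_resolution _ a b).1 (DR39.TA.of_iso h t1.symm) M F hF hF' eF i hi)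
  · intro h
    refine DR39.TA.of_iso ((DR39.ta_iff_resolution _ a b).2 fun M F hF hF' eF i hi => ?_) t1
    exact (DR39.isZero_res_ext_tensor_iff P F i).1
      ((DR39.ta_iff_resolution _ a b).1 (DR39.TA.of_iso h t2.symm) M F hF hF' eF i hi)

end Groth.Agent.S6951
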