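import Groth.Statements.S6955
import Groth.Agent.DR39.Balance

set_option autoImplicit false
universe u
open CategoryTheory CategoryTheory.Limits
attribute [local instance] HasDerivedCategory.standard
open DRing

namespace Groth.Agent.S6955

/-- Let R be a commutative ring and M an R-module. Then M is perfect (M[0] is isomorphic in D(R) to a
bounded complex of finite projective modules) if and only if M admits a projective resolution of
finite length whose terms are finitely generated, i.e. a resolution 0 → F_d → ... → F_0 → M → 0 by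
finite projective modules. -/
theorem result (R : Type u) [CommRing R] (M : Type u)
    [AddCommGroup M] [Module R M] :
    DRing.IsPerfectModule R M ↔
      ∃ (P : ProjectiveResolution (ModuleCat.of R M)) (d : ℕ),
        (∀ i : ℕ, d < i → IsZero (P.complex.X i)) ∧ ∀ i : ℕ, Module.Finite R (P.complex.X i) := by
  constructor
  · intro h
    obtain ⟨hpc, p, q, hta⟩ := (DR39.perfect_iff _).1 h
    obtain ⟨E₀, hE₀v, hE₀, ⟨e₀⟩⟩ := DR39.exists_free_res (A := R) M
    have hta0 : DR39.TA p 0 (Dual.inD R M) :=
      (DR39.ta_iff p 0 E₀ (DR39.isKFlat_of_flat 0 hE₀v fun i => DR39.flat_of_FR (hE₀ i)) e₀).2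
        ⟨DR39.acyc_inD M (by omega), DR39.TA.lowEx hta (DR39.isKFlat_of_flat 0 hE₀v fun i => DR39.flat_of_FR (hE₀ i)) e₀⟩
    obtain ⟨E, hEo, hE, ⟨e⟩⟩ := DR39.rep_FP_of_pc_of_ta (DR39.pc_of_pc' hpc _) hta0
    have hv := (DR39.vanishesOutside_iff E p 0).2 hEo
    have hEp : ∀ i, Module.Projective R (E.X i) := fun i => (hE i).2
    obtain ⟨f, hf⟩ := DR39.exists_qis_to_sgl (E := E) (b := 0) (fun i hi => hv i (Or.inr hi)) hEp
      (ModuleCat.of R M) e
    let f0 : E.X 0 ⟶ ModuleCat.of R M :=
      f.f 0 ≫ (HomologicalComplex.singleObjXSelf (ComplexShape.up ℤ) 0 (ModuleCat.of R M)).hom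
    have hf0 : ∀ j, E.d j 0 ≫ f0 = 0 := fun j => by
      simp only [f0, ← HomologicalComplex.Hom.comm_assoc f, HomologicalComplex.single_obj_d, zero_comp, comp_zero]
    let C : ChainComplex (ModuleCat.{u} R) ℕ := E.restriction ComplexShape.embeddingDownNat
    let π : C ⟶ (ChainComplex.single₀ _).obj (ModuleCat.of R M) :=
      (ChainComplex.toSingle₀Equiv C (ModuleCat.of R M)).symm ⟨f0, hf0 _⟩
    have hb1 : Function.Bijective
        (HomologicalComplex.singleObjXSelf (ComplexShape.up ℤ) 0 (ModuleCat.of R M)).hom.hom :=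
      (DR39.isIso_iff_bijective _).1 inferInstance
    have hinj := (DR39.injective_homologyMap_iff f 0).1 (by
      exact ((DR39.isIso_iff_bijective _).1 inferInstance).1)
    have hsur := (DR39.surjective_homologyMap_iff f 0).1 (by
      exact ((DR39.isIso_iff_bijective _).1 inferInstance).2)
    haveI hz1 : Subsingleton (E.X (0 + 1)) := ModuleCat.subsingleton_of_isZero (hv (0 + 1) (Or.inr (by simp)))
    haveI hz2 : Subsingleton ((DR39.sgl (ModuleCat.of R M)).X (0 - 1)) :=
      ModuleCat.subsingleton_of_isZero (HomologicalComplex.isZero_single_obj_X _ _ _ _ (by simp))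
    haveI hq : QuasiIso π := ⟨fun n => by
      cases n
      · rw [ChainComplex.quasiIsoAt₀_iff, ShortComplex.quasiIso_iff_of_zeros']
        · refine ⟨(ShortComplex.moduleCat_exact_iff _).2 fun (x : E.X 0) hx => ?_,
            (ModuleCat.epi_iff_surjective _).2 fun z => ?_⟩
          · have hπ : π.f 0 = f0 := by simp [π]
            have hx0 : f0.hom x = 0 := by rw [← hπ]; exact hx
            obtain ⟨y, hy⟩ := hinj x (Subsingleton.elim _ _) 0 (by
              rw [map_zero]
              exact (hb1.1 (hx0.trans (map_zero _).symm)).symm)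
            exact ⟨(E.XIsoOfEq (show (0 : ℤ) - 1 = -((1 : ℕ) : ℤ) by simp)).hom y, by
              show (E.d (-((1 : ℕ) : ℤ)) 0).hom _ = x
              rw [← LinearMap.comp_apply, ← ModuleCat.hom_comp, HomologicalComplex.XIsoOfEq_hom_comp_d]
              exact hy⟩
          · obtain ⟨z', hz'⟩ := hb1.2 z
            obtain ⟨x, -, y, hy⟩ := hsur z' (by rw [HomologicalComplex.single_obj_d]; rfl)
            rw [Subsingleton.elim y 0, map_zero, eq_comm, sub_eq_zero] at hy
            refine ⟨x, ?_⟩
            show (π.f 0).hom x = z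
            have hπ : π.f 0 = f0 := by simp [π]
            rw [hπ]
            exact (congrArg _ hy).trans hz'
        all_goals first | rfl | exact C.shape 0 0 (by simp) | exact ((ChainComplex.single₀ _).obj _).shape 0 0 (by simp)
      · next k =>
        rw [quasiIsoAt_iff_exactAt' _ _ (ChainComplex.exactAt_succ_single_obj _ _),
          HomologicalComplex.exactAt_iff_isZero_homology]
        refine IsZero.of_iso ?_ (E.restrictionHomologyIso ComplexShape.embeddingDownNat (k + 2) (k + 1) k
          (by simp) (by simp) (i' := -((k + 2 : ℕ) : ℤ)) (j' := -((k + 1 : ℕ) : ℤ)) (k' := -((k : ℕ) : ℤ))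
          rfl rfl rfl (by simp; omega) (by simp))
        refine IsZero.of_iso ?_ (isoOfQuasiIsoAt f _)
        exact HomologicalComplex.isZero_single_obj_homology _ _ _ _ (by omega)⟩
    have hproj : ∀ n, Projective (C.X n) := fun n =>
      haveI := hEp (-(n : ℤ))
      (IsProjective.iff_projective (R := R) (E.X (-(n : ℤ)))).1 inferInstance
    exact ⟨{ complex := C, projective := hproj, π := π }, (-p).toNat,
      fun i hi => hv (-(i : ℤ)) (Or.inl (by omega)), fun i => (hE _).1⟩
  · rintro ⟨P, d, hd, hfin⟩
    refine ⟨P.cochainComplex, -(d : ℤ), 0, fun i hi => ?_, fun i => ?_,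
      ⟨@asIso _ _ _ _ (DerivedCategory.Q.map P.π')
        ((DerivedCategory.isIso_Q_map_iff_quasiIso _ P.π').2 inferInstance)⟩⟩
    · rcases hi with hi | hi
      · obtain ⟨k, rfl⟩ : ∃ k : ℕ, i = -(k : ℤ) := ⟨(-i).toNat, by omega⟩
        exact (hd k (by omega)).of_iso (P.cochainComplexXIso _ k rfl)
      · exact CochainComplex.isZero_of_isStrictlyLE _ 0 i hi
    · have hP : Projective (P.cochainComplex.X i) := inferInstance
      refine ⟨?_, (IsProjective.iff_projective (R := R) (P.cochainComplex.X i)).2 hP⟩
      by_cases hi : i ≤ 0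
      · obtain ⟨k, rfl⟩ : ∃ k : ℕ, i = -(k : ℤ) := ⟨(-i).toNat, by omega⟩
        haveI := hfin k
        exact Module.Finite.equiv (P.cochainComplexXIso (-(k : ℤ)) k rfl).toLinearEquiv.symm
      · exact DR39.finite_of_isZero (CochainComplex.isZero_of_isStrictlyLE _ 0 i (by omega))

end Groth.Agent.S6955
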