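import Groth.Statements.S6957
import Groth.Agent.DR39.Perf
import Groth.Agent.DR39.Derived

set_option autoImplicit false
universe u
open CategoryTheory CategoryTheory.Limits
attribute [local instance] HasDerivedCategory.standard
open DRing

namespace Groth.Agent.S6957

/-- Let A → B be a homomorphism of commutative rings such that the derived base change D(A) → D(B)
exists, and let K be a perfect object of D(A). Then K ⊗^L_A B is a perfect object of D(B). -/
theorem result {A B : Type u} [CommRing A] [CommRing B] (φ : A →+* B)
    [DRing.HasLBaseChange φ] (K : Dual.D A) (hK : DRing.IsPerfect A K) :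
    DRing.IsPerfect B ((DRing.LBaseChange φ).obj K) := by
  obtain ⟨E, a, b, hv, hE, ⟨e⟩⟩ := hK
  refine ⟨((ModuleCat.extendScalars φ).mapHomologicalComplex (ComplexShape.up ℤ)).obj E, a, b,
    fun i hi => (ModuleCat.extendScalars φ).map_isZero (hv i hi), fun i => ?_,
    ⟨(DR39.LBaseChangeIso φ E (DR39.isKFlat_of_flat b (fun i hi => hv i (Or.inr hi))
      fun i => DR39.flat_of_FP (hE i))).symm ≪≫ (DRing.LBaseChange φ).mapIso e⟩⟩
  letI := φ.toAlgebra
  haveI := (hE i).1
  haveI := (hE i).2
  exact ⟨(inferInstance : Module.Finite B (TensorProduct A B (E.X i))),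
    (inferInstance : Module.Projective B (TensorProduct A B (E.X i)))⟩

end Groth.Agent.S6957
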