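import Groth.Statements.S6959
import Groth.Agent.DR39.TensorCx

set_option autoImplicit false
universe u
open CategoryTheory CategoryTheory.Limits
attribute [local instance] HasDerivedCategory.standard
open DRing

namespace Groth.Agent.S6959

/-- Let R be a commutative ring, K a perfect object of D(R) and L a cochain complex of R-modules
defining a perfect object of D(R); assume the derived tensor product - ⊗^L_R L exists on D(R). Then
K ⊗^L_R L is a perfect object of D(R). -/
theorem result (R : Type u) [CommRing R] (K : Dual.D R) (hK : DRing.IsPerfect R K)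
    (L : DRing.Cx R) (hL : DRing.IsPerfect R (DRing.toD L)) [DRing.HasLTensorCx R L] :
    DRing.IsPerfect R ((DRing.LTensorCx R L).obj K) := by
  obtain ⟨a, b, E, hE, hEp, ⟨e⟩⟩ := (DR39.perfect_iff_rep _).1 hK
  obtain ⟨a', b', F, hF, hFp, ⟨e'⟩⟩ := (DR39.perfect_iff_rep _).1 hL
  replace hE := (DR39.vanishesOutside_iff E a b).2 hE
  replace hF := (DR39.vanishesOutside_iff F a' b').2 hF
  refine (DR39.perfect_iff_rep _).2 ⟨a + a', b + b', MonoidalCategoryStruct.tensorObj E F, fun n hn => ?_,
    DR39.tensor_FP E F b b' (fun i hi => hE i (Or.inr hi)) (fun i hi => hF i (Or.inr hi)) hEp hFp,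
    DR39.exists_tensor_rep (fun i hi => hE i (Or.inr hi)) (fun i hi => hF i (Or.inr hi)) hEp hFp e e'⟩
  refine DR39.isZero_tensor_X E F n fun p => ?_
  rw [Set.mem_Icc] at hn
  by_cases hp : p < a ∨ b < p
  · exact Or.inl (hE p hp)
  · exact Or.inr (hF _ (by omega))

end Groth.Agent.S6959
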