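import Groth.Statements.S6960
import Groth.Agent.DR39.BC

set_option autoImplicit false
universe u
open CategoryTheory CategoryTheory.Limits
attribute [local instance] HasDerivedCategory.standard
open DRing

namespace Groth.Agent.S6960

/-- Let R be a commutative ring, f_1, ..., f_r elements generating the unit ideal and K a cochain
complex of R-modules. If for every i the termwise localization K ⊗_R R_(f_i) is a perfect object of
D(R_(f_i)), then K is a perfect object of D(R). -/
theorem result {R : Type u} [CommRing R] {r : ℕ} (f : Fin r → R)
    (hf : Ideal.span (Set.range f) = ⊤) (K : DRing.Cx R)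
    (hK : ∀ i, DRing.IsPerfect (Localization.Away (f i))
      (DRing.toD (((ModuleCat.extendScalars (algebraMap R (Localization.Away (f i)))).mapHomologicalComplex
        (ComplexShape.up ℤ)).obj K))) :
    DRing.IsPerfect R (DRing.toD K) := by
  haveI : ∀ i, Module.Flat R (Localization.Away (f i)) :=
    fun i => IsLocalization.flat _ (Submonoid.powers (f i))
  have hK' := fun i => DR39.perfect_of_iso (hK i) (DR39.DFQ (DR39.extA R (Localization.Away (f i))) K).symm
  choose hpc a b hta using fun i => (DR39.perfect_iff _).1 (hK' i)
  let a' : ℤ := -∑ i, |a i|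
  let b' : ℤ := ∑ i, |b i|
  have ha : ∀ i, a' ≤ a i := fun i => by
    have := Finset.single_le_sum (fun j _ => abs_nonneg (a j)) (Finset.mem_univ i)
    have := neg_abs_le (a i)
    omega
  have hb : ∀ i, b i ≤ b' := fun i => by
    have := Finset.single_le_sum (fun j _ => abs_nonneg (b j)) (Finset.mem_univ i)
    have := le_abs_self (b i)
    omega
  have hta' := fun i => DR39.TA.mono (hta i) (ha i) (hb i)
  refine (DR39.perfect_iff _).2 ⟨(DR39.pc'_iff_forall_pc _).2 fun n => ?_, a', b',
    DR39.ta_descent (B := fun i => Localization.Away (f i)) (DR39.isZero_of_away f hf) hta'⟩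
  exact DR39.pc_descent (B := fun i => Localization.Away (f i)) (DR39.isZero_of_away f hf)
    (DR39.finite_of_away f hf) (fun i => (hta' i).acyc) fun i => DR39.pc_of_pc' (hpc i) n

end Groth.Agent.S6960
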