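import Groth.Statements.S6961
import Groth.Agent.DR39.BC

set_option autoImplicit false
universe u
open CategoryTheory CategoryTheory.Limits
attribute [local instance] HasDerivedCategory.standard
open DRing

namespace Groth.Agent.S6961

/-- Let R → R' be a faithfully flat homomorphism of commutative rings and K a cochain complex of
R-modules. If the termwise base change K ⊗_R R' is a perfect object of D(R'), then K is a perfect
object of D(R). -/
theorem result {R R' : Type u} [CommRing R] [CommRing R'] [Algebra R R']
    [Module.FaithfullyFlat R R'] (K : DRing.Cx R)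
    (hK : DRing.IsPerfect R' (DRing.toD (((ModuleCat.extendScalars (algebraMap R R')).mapHomologicalComplex
        (ComplexShape.up ℤ)).obj K))) :
    DRing.IsPerfect R (DRing.toD K) := by
  let e := DR39.DFQ (DR39.extA R R') K
  obtain ⟨hpc, a, b, hta⟩ := (DR39.perfect_iff _).1 hK
  refine (DR39.perfect_iff _).2 ⟨(DR39.pc'_iff_forall_pc _).2 fun n => ?_, a, b, ?_⟩
  · exact DR39.pc_reflect (DR39.extA R R') (DR39.pc_extendScalars_FF _)
      (DR39.finite_of_faithfullyFlat R') (DR39.isZero_of_faithfullyFlat R')
      (DR39.PC.of_iso (DR39.pc_of_pc' hpc n) e.symm)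
  · exact DR39.ta_descent (ι := Unit) (B := fun _ => R')
      (fun M h => DR39.isZero_of_faithfullyFlat R' M (h ())) fun _ => DR39.TA.of_iso hta e.symm

end Groth.Agent.S6961
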