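import Groth.Statements.S6964
import Groth.Agent.DR39.Amp

set_option autoImplicit false
universe u
open CategoryTheory CategoryTheory.Limits
attribute [local instance] HasDerivedCategory.standard
open DRing

namespace Groth.Agent.S6964

/-- Let R be a commutative ring, K an object of D(R) and a, b integers. These four conditions are
equivalent: (1) the projective amplitude of K lies in [a, b], meaning K is isomorphic in D(R) to a
complex of projective R-modules vanishing outside [a, b]; (2) Hom(K, N[i]) = 0 in D(R) for every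
R-module N and every integer i outside [-b, -a]; (3) H^n(K) = 0 for all n > b and Hom(K, N[i]) = 0
for every R-module N and every i > -a; (4) H^n(K) = 0 for all n outside [a - 1, b] and Hom(K, N[-a +
1]) = 0 for every R-module N. -/
theorem result (R : Type u) [CommRing R] (K : Dual.D R) (a b : ℤ) :
    [∃ P : DRing.Cx R, DRing.VanishesOutside P a b ∧ (∀ i : ℤ, Module.Projective R (P.X i)) ∧
        Nonempty (DRing.toD P ≅ K),
      ∀ (N : Type u) [AddCommGroup N] [Module R N] (i : ℤ), (i < -b ∨ -a < i) →
        Subsingleton (DRing.ExtD R K (Dual.inD R N) i),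
      (∀ n : ℤ, b < n → Subsingleton (Dual.HD R K n)) ∧
        ∀ (N : Type u) [AddCommGroup N] [Module R N] (i : ℤ), -a < i → Subsingleton (DRing.ExtD R K (Dual.inD R N) i),
      (∀ n : ℤ, (n < a - 1 ∨ b < n) → Subsingleton (Dual.HD R K n)) ∧
        ∀ (N : Type u) [AddCommGroup N] [Module R N], Subsingleton (DRing.ExtD R K (Dual.inD R N) (-a + 1))].TFAE := by
  tfae_have 1 → 2 := by
    rintro ⟨P, hv, hp, he⟩ N _ _ i hi
    exact (DR39.extVanish_iff K (-i) i (by omega)).1
      (DR39.extVanish_of_rep_PR ⟨P, (DR39.vanishesOutside_iff P a b).1 hv, hp, he⟩ (by omega)) N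
  tfae_have 2 → 3 := by
    intro h
    refine ⟨fun n hn => (DR39.isZero_HF_iff K n).1 (DR39.isZero_HF_of_extVanish
      ((DR39.extVanish_iff K n (-n) (by omega)).2 fun N _ _ => h N (-n) (Or.inl (by omega)))),
      fun N _ _ i hi => h N i (Or.inr hi)⟩
  tfae_have 3 → 4 := by
    rintro ⟨hb, h⟩
    refine ⟨fun n hn => ?_, fun N _ _ => h N _ (by omega)⟩
    rcases hn with hn | hn
    · exact (DR39.isZero_HF_iff K n).1 (DR39.isZero_HF_of_extVanish
        ((DR39.extVanish_iff K n (-n) (by omega)).2 fun N _ _ => h N (-n) (by omega)))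
    · exact hb n hn
  tfae_have 4 → 1 := by
    rintro ⟨hH, h⟩
    obtain ⟨P, hv, hp, he⟩ := DR39.rep_PR_of_extVanish (a := a)
      (DR39.acyc_of_subsingleton fun i hi => hH i (Or.inr hi))
      (fun i hi => (DR39.isZero_HF_iff K i).2 (hH i (Or.inl hi)))
      ((DR39.extVanish_iff K (a - 1) (-a + 1) (by omega)).2 h)
    exact ⟨P, (DR39.vanishesOutside_iff P a b).2 hv, hp, he⟩
  tfae_finish

end Groth.Agent.S6964
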