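import Groth.Statements.S6966
import Mathlib.Algebra.Homology.ShortComplex.ModuleCat
import Mathlib.Algebra.Homology.DerivedCategory.Linear
import Mathlib.Algebra.Homology.DerivedCategory.Ext.EnoughProjectives
import Mathlib.Algebra.Category.ModuleCat.Projective
import Mathlib.Algebra.Category.ModuleCat.EnoughInjectives

set_option autoImplicit false
universe u
open CategoryTheory CategoryTheory.Limits
attribute [local instance] HasDerivedCategory.standard
open CAlg

namespace Groth.Agent.S6966

/-- Let R be a commutative ring, I an ideal of R and M an R-module. Then the following two conditions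
coincide: for each a ∈ I, the endomorphism of M given by multiplication by a can be written as a
composite M → P → M with P some projective R-module; and for every R-module N and every a ∈ I, a
annihilates Ext^1_R(M, N) = Hom(M[0], N[1]) in D(R). -/
theorem result (R : Type u) [CommRing R] (I : Ideal R) (M : Type u)
    [AddCommGroup M] [Module R M] :
    (∀ a ∈ I, ∃ (P : Type u) (_ : AddCommGroup P) (_ : Module R P) (_ : Module.Projective R P)
        (f : M →ₗ[R] P) (g : P →ₗ[R] M), g ∘ₗ f = a • LinearMap.id) ↔
      ∀ (N : Type u) [AddCommGroup N] [Module R N], ∀ a ∈ I,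
        ∀ x : DRing.ExtD R (Dual.inD R M) (Dual.inD R N) 1, a • x = 0 := by
  let F := DerivedCategory.singleFunctor (ModuleCat.{u} R) 0
  constructor
  · intro h N _ _ a ha x
    obtain ⟨P, _, _, _, f, g, hgf⟩ := h a ha
    have : Projective (ModuleCat.of R P) :=
      (IsProjective.iff_projective P).mp inferInstance
    have h0 : F.map (ModuleCat.ofHom g) ≫ x = 0 := by
      simp only [← cancel_mono (((DerivedCategory.singleFunctors (ModuleCat.{u} R)).shiftIso
        1 (-1) 0 (by omega)).hom.app _), Limits.zero_comp]
      exact DerivedCategory.from_singleFunctor_obj_eq_zero_of_projective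
        (L := (CochainComplex.singleFunctor (ModuleCat.{u} R) (-1)).obj (ModuleCat.of R N)) (n := -1) _ (by omega)
    have h1 : (ModuleCat.ofHom f ≫ ModuleCat.ofHom g) = a • 𝟙 (ModuleCat.of R M) :=
      ModuleCat.hom_ext hgf
    have h2 := congrArg F.map h1
    rw [F.map_comp, Functor.map_smul, F.map_id] at h2
    calc a • x = (a • 𝟙 (Dual.inD R M)) ≫ x := by rw [Linear.smul_comp, Category.id_comp]
      _ = (F.map (ModuleCat.ofHom f) ≫ F.map (ModuleCat.ofHom g)) ≫ x := by rw [h2]
      _ = 0 := by rw [Category.assoc, h0, Limits.comp_zero]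
  · intro h a ha
    let π : (M →₀ R) →ₗ[R] M := Finsupp.linearCombination R id
    have hπ : Function.Surjective π := fun m => ⟨Finsupp.single m 1, by simp [π]⟩
    let K := LinearMap.ker π
    let f₁ : ModuleCat.of R K ⟶ ModuleCat.of R (M →₀ R) := ModuleCat.ofHom K.subtype
    let g₁ : ModuleCat.of R (M →₀ R) ⟶ ModuleCat.of R M := ModuleCat.ofHom π
    have hzero : f₁ ≫ g₁ = 0 := ModuleCat.hom_ext (LinearMap.ext fun x => x.2)
    let S := ShortComplex.mk f₁ g₁ hzero
    have hS : S.ShortExact :=
      { exact := (ShortComplex.ShortExact.moduleCat_exact_iff_function_exact _).mpr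
          (LinearMap.exact_subtype_ker_map π)
        mono_f := (ModuleCat.mono_iff_injective _).mpr (Submodule.subtype_injective _)
        epi_g := (ModuleCat.epi_iff_surjective _).mpr hπ }
    have h0 : (a • 𝟙 (F.obj S.X₃)) ≫ hS.singleTriangle.mor₃ = 0 := by
      exact (Linear.smul_comp _ _ _ a _ _).trans ((congrArg (a • ·) (Category.id_comp _)).trans
        (h (LinearMap.ker π) a ha hS.singleTriangle.mor₃))
    obtain ⟨y, hy⟩ := Pretriangulated.Triangle.coyoneda_exact₃ _ hS.singleTriangle_distinguished _ h0
    obtain ⟨φ, rfl⟩ := F.map_surjective y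
    have h1 : a • 𝟙 S.X₃ = φ ≫ S.g := F.map_injective (by
      rw [Functor.map_smul, F.map_id, F.map_comp]
      exact hy)
    exact ⟨M →₀ R, inferInstance, inferInstance, inferInstance, φ.hom, π,
      (congrArg ModuleCat.Hom.hom h1).symm⟩

end Groth.Agent.S6966
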