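import Groth.Statements.S6971
import Groth.Agent.DR39.Nilpotent
import Groth.Agent.DR39.Perf

set_option autoImplicit false
universe u
open CategoryTheory CategoryTheory.Limits
attribute [local instance] HasDerivedCategory.standard
open DRing

namespace Groth.Agent.S6971

/-- Let R' → R be a surjective homomorphism of commutative rings whose kernel is a nilpotent ideal, such
that the derived base change D(R') → D(R) exists, and let K' be an object of D(R'). Then K' ⊗^L R is
pseudo-coherent over R (isomorphic in D(R) to a bounded above complex of finite free modules) if and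
only if K' is pseudo-coherent over R'. -/
theorem result {R' R : Type u} [CommRing R'] [CommRing R]
    (φ : R' →+* R) (hφ : Function.Surjective φ) (hnil : IsNilpotent (RingHom.ker φ))
    [DRing.HasLBaseChange φ] (K' : Dual.D R') :
    DRing.IsPseudoCoherent' R ((DRing.LBaseChange φ).obj K') ↔ DRing.IsPseudoCoherent' R' K' := by
  constructor
  · rintro ⟨E, b, hv, hf, ⟨e⟩⟩
    obtain ⟨P, hP1, hP2, hP3⟩ := DR39.rep_FP_of_LBaseChange hφ hnil (b := b) E hv
      (fun i => DR39.FP_of_FF (hf i)) e
    exact DR39.pc'_of_rep_FP (b := b) ⟨P, fun i hi => hP1 i ((DR39.vanishesAbove_iff E b).1 hv i hi), hP2, hP3⟩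
  · rintro ⟨E, b, hv, hf, ⟨e⟩⟩
    refine ⟨DR39.extCx φ E, b, fun i hi => (ModuleCat.extendScalars φ).map_isZero (hv i hi), fun i => ?_,
      ⟨(DR39.LBaseChangeIso φ E (DR39.isKFlat_of_flat b hv fun j => DR39.flat_of_PR (DR39.proj_of_FF (hf j)))).symm ≪≫
        (DRing.LBaseChange φ).mapIso e⟩⟩
    letI := φ.toAlgebra
    haveI := (hf i).1; haveI := (hf i).2
    exact ⟨Module.Finite.base_change R' R (E.X i), (inferInstance : Module.Free R (TensorProduct R' R (E.X i)))⟩

end Groth.Agent.S6971
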