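import Groth.Statements.S6972
import Groth.Agent.DR39.Minimal

set_option autoImplicit false
universe u
open CategoryTheory CategoryTheory.Limits
attribute [local instance] HasDerivedCategory.standard
open DRing

namespace Groth.Agent.S6972

/-- Let R be a local commutative ring with residue field κ such that the derived base change D(R) → D(κ)
exists, and let K be a pseudo-coherent object of D(R). Write d_i for the κ-dimension of H^i(K ⊗^L_R
κ). Then every H^i(K ⊗^L_R κ) is finite dimensional and vanishes for i large; there is a bounded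
above cochain complex P of finite free R-modules with rank P^i = d_i for all i which is isomorphic
to K in D(R); and any two such complexes are isomorphic as complexes of R-modules. -/
theorem result (R : Type u) [CommRing R] [IsLocalRing R]
    [DRing.HasLBaseChange (IsLocalRing.residue R)] (K : Dual.D R) (hK : DRing.IsPseudoCoherent' R K) :
    let κ := IsLocalRing.ResidueField R
    let Kκ := (DRing.LBaseChange (IsLocalRing.residue R)).obj K
    let Minimal := fun P : DRing.Cx R => (∃ b : ℤ, DRing.VanishesAbove P b) ∧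
      (∀ i : ℤ, Module.Free R (P.X i) ∧ Module.Finite R (P.X i) ∧
        Module.finrank R (P.X i) = Module.finrank κ (Dual.HD κ Kκ i)) ∧ Nonempty (DRing.toD P ≅ K)
    (∀ i : ℤ, Module.Finite κ (Dual.HD κ Kκ i)) ∧ (∃ b : ℤ, ∀ i : ℤ, b < i → Subsingleton (Dual.HD κ Kκ i)) ∧
      (∃ P : DRing.Cx R, Minimal P) ∧ ∀ P Q : DRing.Cx R, Minimal P → Minimal Q → Nonempty (P ≅ Q) := by
  intro κ Kκ Minimal
  obtain ⟨E, d, hv, hE, ⟨e⟩⟩ := hK
  obtain ⟨h1, h2, P, hP1, hP2, hP3⟩ := DR39.minimal_main K E d hv hE e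
  refine ⟨h1, ⟨d, h2⟩, ⟨P, ⟨d, hP1⟩, hP2, hP3⟩, ?_⟩
  rintro P Q ⟨⟨b, hPb⟩, hPr, ⟨eP⟩⟩ ⟨⟨c, hQb⟩, hQr, ⟨eQ⟩⟩
  have hP' : ∀ i, DR39.FPp (P.X i) := fun i => DR39.FP_of_FF ⟨(hPr i).2.1, (hPr i).1⟩
  have hQ' : ∀ i, DR39.FPp (Q.X i) := fun i => DR39.FP_of_FF ⟨(hQr i).2.1, (hQr i).1⟩
  exact DR39.iso_of_minimal (m := IsLocalRing.maximalIdeal R)
    (IsLocalRing.jacobson_eq_maximalIdeal ⊥ bot_ne_top).ge P Q hPb hQb hP' hQ'
    (DR39.d_mem_of_finrank P (DR39.isKFlat_of_flat b hPb fun i => DR39.flat_of_PR (hP' i).2) eP hPr)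
    (DR39.d_mem_of_finrank Q (DR39.isKFlat_of_flat c hQb fun i => DR39.flat_of_PR (hQ' i).2) eQ hQr)
    (eP ≪≫ eQ.symm)

end Groth.Agent.S6972
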