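import Groth.Statements.S6973
import Groth.Agent.DR39.Nilpotent
import Groth.Agent.Hensel20.Projective

set_option autoImplicit false
universe u
open CategoryTheory CategoryTheory.Limits
attribute [local instance] HasDerivedCategory.standard
open DRing

namespace Groth.Agent.S6973

/-- Let (R, I) be a henselian pair such that the derived base change D(R) → D(R/I) exists, K a
pseudo-coherent object of D(R), and E a bounded above cochain complex of finite projective
R/I-modules which is isomorphic in D(R/I) to K ⊗^L_R R/I. Then there is a bounded above cochain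
complex P of finite projective R-modules, isomorphic to K in D(R), whose termwise reduction P ⊗_R
R/I is isomorphic to E as a complex, and such that P^i is free for every i for which E^i is free. -/
theorem result (R : Type u) [CommRing R]
    (I : Ideal R) [HenselianRing R I] [DRing.HasLBaseChange (Ideal.Quotient.mk I)] (K : Dual.D R)
    (hK : DRing.IsPseudoCoherent' R K) (E : DRing.Cx (R ⧸ I)) (b : ℤ) (hEb : DRing.VanishesAbove E b)
    (hEp : DRing.TermwiseFiniteProjective E)
    (hE : Nonempty (DRing.toD E ≅ (DRing.LBaseChange (Ideal.Quotient.mk I)).obj K)) :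
    ∃ (P : DRing.Cx R) (b' : ℤ), DRing.VanishesAbove P b' ∧ DRing.TermwiseFiniteProjective P ∧
      Nonempty (DRing.toD P ≅ K) ∧ Nonempty ((((ModuleCat.extendScalars (Ideal.Quotient.mk I)).mapHomologicalComplex (ComplexShape.up ℤ)).obj P) ≅ E) ∧
      ∀ i : ℤ, Module.Free (R ⧸ I) (E.X i) → Module.Free R (P.X i) := by
  have hs : Function.Surjective (Ideal.Quotient.mk I) := Ideal.Quotient.mk_surjective
  have hker : RingHom.ker (Ideal.Quotient.mk I) ≤ Ideal.jacobson ⊥ := by
    rw [Ideal.mk_ker]; exact HenselianRing.jac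
  obtain ⟨Q, c, hQv, hQ, eQ⟩ := hK
  have hX : ∀ i, ∃ (X : ModuleCat.{u} R) (π : X →ₗ[R] DR39.resM (Ideal.Quotient.mk I) (E.X i)),
      DR39.FPp X ∧ DR39.Red (RingHom.ker (Ideal.Quotient.mk I)) π := fun i => by
    haveI := (hEp i).1; haveI := (hEp i).2
    obtain ⟨P, _, _, h1, h2, ⟨e⟩⟩ := Hensel20.exists_projective_lift (I := I) (E.X i)
    obtain ⟨π, hπ⟩ := DR39.red_of_equiv I (ModuleCat.of R P) (E.X i) e
    exact ⟨_, π, ⟨h1, h2⟩, by rwa [Ideal.mk_ker]⟩
  choose X π hX hπ using hX
  obtain ⟨P, h1, h2, h3, ⟨eP⟩⟩ := DR39.exists_lift_rep' hs (DR39.liftClass_FP hker)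
    (fun A C hA hC => DR39.isModClass_FP.prod A C hA hC) K
    ⟨Q, c, hQv, fun i => DR39.FP_of_FF (hQ i), eQ⟩ E b hEb X hX π hπ hE
  refine ⟨P, b, h1, h2, h3, ⟨eP⟩, ?_⟩
  have hEi := fun i => (hEp i).1
  intro i hi
  haveI := hi
  haveI := (hEi i)
  haveI : Module.Finite (R ⧸ I) (E.X i) := hEi i
  rcases subsingleton_or_nontrivial (R ⧸ I) with hB | hB
  · haveI : Subsingleton (E.X i) := Module.subsingleton (R ⧸ I) _
    obtain ⟨π, hπ⟩ := DR39.red_of_extIso hs eP i
    haveI := (DR39.liftClass_FP hker).subsingleton_of_red (h2 i) hπ ((ModuleCat.restrictScalars (Ideal.Quotient.mk I)).map_isZero (ModuleCat.isZero_of_subsingleton _))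
    exact Module.Free.of_subsingleton R (P.X i)
  obtain ⟨ρ, hρ⟩ := DR39.exists_red_free hs (E.X i) (Module.finBasis (R ⧸ I) (E.X i)).equivFun.symm
  obtain ⟨π, hπ⟩ := DR39.red_of_extIso hs eP i
  obtain ⟨e⟩ := DR39.equiv_of_red hker
    (X := ModuleCat.of R (Fin (Module.finrank (R ⧸ I) (E.X i)) → R)) (Y := P.X i)
    ⟨inferInstanceAs (Module.Finite R (Fin (Module.finrank (R ⧸ I) (E.X i)) → R)),
      inferInstanceAs (Module.Projective R (Fin (Module.finrank (R ⧸ I) (E.X i)) → R))⟩
    (h2 i) hρ hπ (LinearEquiv.refl R _)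
  exact Module.Free.of_equiv e

end Groth.Agent.S6973
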