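import Groth.Statements.S6975
import Groth.Agent.DR39.Fibre

set_option autoImplicit false
universe u
open CategoryTheory CategoryTheory.Limits
attribute [local instance] HasDerivedCategory.standard
open DRing

namespace Groth.Agent.S6975

/-- Let R be a local commutative ring with residue field κ such that the derived base change D(R) → D(κ)
exists, and let K be a pseudo-coherent object of D(R). If there is an integer a with H^i(K ⊗^L_R κ)
= 0 for all i < a, then K is perfect. -/
theorem result (R : Type u) [CommRing R] [IsLocalRing R]
    [DRing.HasLBaseChange (IsLocalRing.residue R)] (K : Dual.D R) (hK : DRing.IsPseudoCoherent' R K) (a : ℤ)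
    (h : ∀ i : ℤ, i < a → Subsingleton (Dual.HD (IsLocalRing.ResidueField R)
      ((DRing.LBaseChange (IsLocalRing.residue R)).obj K) i)) :
    DRing.IsPerfect R K := by
  obtain ⟨E, d, hv, hE, ⟨e⟩⟩ := hK
  have hk : DRing.IsKFlat R E := DR39.isKFlat_of_flat d hv fun i => DR39.flat_of_PR (DR39.proj_of_FF (hE i))
  refine (DR39.perfect_of_fibres E d hv hE e a d fun m hm i hi => ?_).1
  obtain rfl := IsLocalRing.eq_maximalIdeal hm
  rcases hi with hi | hi
  · exact DR39.exT_of_fibre_zero (IsLocalRing.residue R) E hk e i (h i hi)
  · haveI := ModuleCat.subsingleton_of_isZero (hv i hi)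
    intro x _
    exact ⟨0, Subsingleton.elim _ _⟩

end Groth.Agent.S6975
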