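import Groth.Statements.S6976
import Groth.Agent.DR39.Perf

set_option autoImplicit false
universe u
open CategoryTheory CategoryTheory.Limits
attribute [local instance] HasDerivedCategory.standard
open DRing

namespace Groth.Agent.S6976

/-- Let R be a commutative ring, K a pseudo-coherent object of D(R) and a, b integers. Then K is
isomorphic in D(R) to a complex of projective R-modules vanishing outside [a, b] if and only if K is
perfect with tor amplitude in [a, b]. -/
theorem result (R : Type u) [CommRing R]
    (K : Dual.D R) (hK : DRing.IsPseudoCoherent' R K) (a b : ℤ) :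
    (∃ P : DRing.Cx R, DRing.VanishesOutside P a b ∧ (∀ i : ℤ, Module.Projective R (P.X i)) ∧
        Nonempty (DRing.toD P ≅ K)) ↔ DRing.IsPerfect R K ∧ DRing.HasTorAmplitudeIn R a b K := by
  constructor
  · rintro ⟨P, hv, hP, hPK⟩
    have h : DR39.TA a b K := ⟨P, hv, fun i => DR39.flat_of_PR (hP i), hPK⟩
    exact ⟨(DR39.perfect_iff K).2 ⟨hK, a, b, h⟩, h⟩
  · rintro ⟨-, h⟩
    obtain ⟨E, hv, hE, he⟩ := DR39.rep_FP_of_pc_of_ta (DR39.pc_of_pc' hK _) h
    exact ⟨E, (DR39.vanishesOutside_iff E a b).2 hv, fun i => (hE i).2, he⟩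

end Groth.Agent.S6976
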