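import Groth.Statements.S6977
import Groth.Agent.DR39.Fibre2
import Groth.Agent.EGA4H10.Serre

set_option autoImplicit false
universe u
open CategoryTheory CategoryTheory.Limits
attribute [local instance] HasDerivedCategory.standard
open DRing

namespace Groth.Agent.S6977

/-- Let A → B be a flat local homomorphism of local commutative rings such that B/m_A B is a regular
local ring of dimension d, and assume the derived base change D(A) → D(κ_A) to the residue field of
A exists. Let a, b be integers and K a pseudo-coherent object of D(B) such that H^i((K regarded in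
D(A)) ⊗^L_A κ_A) = 0 for every i outside [a, b]. Then K is perfect as an object of D(B) and has tor
amplitude in [a - d, b] over B. -/
theorem result {A B : Type u} [CommRing A] [CommRing B] [IsLocalRing A]
    [IsLocalRing B] [Algebra A B] [IsLocalHom (algebraMap A B)] [Module.Flat A B] (d : ℕ)
    [IsRegularLocalRing (B ⧸ (IsLocalRing.maximalIdeal A).map (algebraMap A B))]
    (hd : ringKrullDim (B ⧸ (IsLocalRing.maximalIdeal A).map (algebraMap A B)) = d)
    [DRing.HasLBaseChange (IsLocalRing.residue A)] (a b : ℤ) (K : Dual.D B) (hK : DRing.IsPseudoCoherent' B K)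
    (h : ∀ i : ℤ, (i < a ∨ b < i) → Subsingleton (Dual.HD (IsLocalRing.ResidueField A)
      ((DRing.LBaseChange (IsLocalRing.residue A)).obj ((DRing.restrictD (algebraMap A B)).obj K)) i)) :
    DRing.IsPerfect B K ∧ DRing.HasTorAmplitudeIn B (a - d) b K := by
  obtain ⟨E, e0, hv, hE, ⟨e⟩⟩ := hK
  have hB : ∀ j, Module.Flat B (E.X j) := fun j => DR39.flat_of_PR (DR39.proj_of_FF (hE j))
  let RE := (DRing.restrictCx (algebraMap A B)).obj E
  have hRk : DRing.IsKFlat A RE := DR39.isKFlat_of_flat e0
    (fun j hj => (ModuleCat.restrictScalars _).map_isZero (hv j hj)) fun j => DR39.flat_restrictCx E j (hB j)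
  let eR : DRing.toD RE ≅ (DRing.restrictD (algebraMap A B)).obj K :=
    (DR39.restrictDIso (algebraMap A B) E).symm ≪≫ (DRing.restrictD (algebraMap A B)).mapIso e
  refine DR39.perfect_of_flat_fibres (A := A) E e0 hv hE e a b d fun m hm => ?_
  obtain rfl := IsLocalRing.eq_maximalIdeal hm
  let I := (IsLocalRing.maximalIdeal A).map (algebraMap A B)
  have hle : I ≤ IsLocalRing.maximalIdeal B :=
    ((IsLocalRing.local_hom_TFAE (algebraMap A B)).out 0 2 rfl rfl).mp inferInstance
  refine ⟨ModuleCat.of A (A ⧸ IsLocalRing.maximalIdeal A), B ⧸ I, inferInstance, Ideal.Quotient.mk I,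
    { (Algebra.TensorProduct.quotIdealMapEquivTensorQuot B (IsLocalRing.maximalIdeal A)).symm.toLinearEquiv with
      map_smul' := fun r x =>
        ((Algebra.TensorProduct.quotIdealMapEquivTensorQuot B (IsLocalRing.maximalIdeal A)).symm.toLinearEquiv.map_smul r x).trans
          (Algebra.smul_def (A := B ⧸ I) r _) },
    Ideal.Quotient.factor hle, Ideal.Quotient.factor_comp_mk _, fun i hi => ?_,
    fun M _ _ => Groth.Agent.EGA4H10.hasPD_of_regular (B ⧸ I) d hd M⟩
  exact DR39.exT_of_fibre_zero (IsLocalRing.residue A) RE hRk eR i (h i hi)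

end Groth.Agent.S6977
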