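import Groth.Statements.S6979
import Groth.Agent.DR39.Nilpotent
import Groth.Agent.DR39.Perf

set_option autoImplicit false
universe u
open CategoryTheory CategoryTheory.Limits
attribute [local instance] HasDerivedCategory.standard
open DRing

namespace Groth.Agent.S6979

/-- Let R be a commutative ring and I a nilpotent ideal of R such that the derived base change D(R) →
D(R/I) exists, and let K be an object of D(R). If K ⊗^L_R R/I is a perfect object of D(R/I), then K
is a perfect object of D(R). -/
theorem result (R : Type u) [CommRing R] (I : Ideal R)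
    (hI : IsNilpotent I) [DRing.HasLBaseChange (Ideal.Quotient.mk I)] (K : Dual.D R)
    (hK : DRing.IsPerfect (R ⧸ I) ((DRing.LBaseChange (Ideal.Quotient.mk I)).obj K)) :
    DRing.IsPerfect R K := by
  obtain ⟨a, b, E, h1, h2, ⟨e⟩⟩ := (DR39.perfect_iff_rep _).1 hK
  obtain ⟨P, hP1, hP2, hP3⟩ := DR39.rep_FP_of_LBaseChange Ideal.Quotient.mk_surjective
    (by rwa [Ideal.mk_ker]) (b := b) E (fun i hi => h1 i fun hm => absurd hm.2 (by omega)) h2 e
  exact (DR39.perfect_iff_rep K).2 ⟨a, b, P, fun i hi => hP1 i (h1 i hi), hP2, hP3⟩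

end Groth.Agent.S6979
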