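import Groth.Statements.S6981
import Groth.Agent.DR39.Restrict

set_option autoImplicit false
universe u
open CategoryTheory CategoryTheory.Limits
attribute [local instance] HasDerivedCategory.standard
open DRing

namespace Groth.Agent.S6981

/-- Let R be a commutative ring, K an object of D(R), m an integer, and R[x] → R the R-algebra
homomorphism sending x to 0. Then K is m-pseudo-coherent over R if and only if K, regarded as an
object of D(R[x]) by restriction of scalars along this map, is m-pseudo-coherent over R[x]. -/
theorem result (R : Type u) [CommRing R] (K : Dual.D R)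
    (m : ℤ) :
    DRing.IsPseudoCoherent R m K ↔
      DRing.IsPseudoCoherent (Polynomial R) m ((DRing.restrictD (Polynomial.evalRingHom (0 : R))).obj K) := by
  refine DR39.pc_restrict_iff _ (fun n => ?_) K m
  let φ : Polynomial R →+* R := Polynomial.evalRingHom 0
  let M : ModuleCat.{u} (Polynomial R) := (ModuleCat.restrictScalars φ).obj (ModuleCat.of R R)
  let g : Polynomial R →ₗ[Polynomial R] M :=
    { toFun := fun p => (φ p : R)
      map_add' := φ.map_add
      map_smul' := fun p q => φ.map_mul p q }
  have hg : Function.Surjective g := fun r => ⟨Polynomial.C (show R from r), Polynomial.eval_C (a := (show R from r))⟩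
  obtain ⟨T, hT, e1, e2, e3⟩ := DR39.exists_triangle_of_surjective g hg
  let s : Polynomial R →ₗ[Polynomial R] LinearMap.ker g :=
    LinearMap.codRestrict _ (LinearMap.mulLeft (Polynomial R) Polynomial.X) fun p => by
      show Polynomial.eval 0 (Polynomial.X * p) = (0 : R)
      simp
  have hs : Function.Bijective s := by
    refine ⟨fun p q h => (Polynomial.monic_X).isRegular.left (congrArg Subtype.val h), fun ⟨p, hp⟩ => ?_⟩
    have h0 : p.coeff 0 = 0 := (Polynomial.coeff_zero_eq_eval_zero p).trans hp
    obtain ⟨q, hq⟩ := Polynomial.X_dvd_iff.2 h0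
    exact ⟨q, Subtype.ext hq.symm⟩
  refine DR39.PC.of_iso (X := T.obj₃) (DR39.PC.obj₃ hT ?_ ?_) (eqToIso e3)
  · rw [e1]
    exact DR39.PC.of_iso (DR39.pc_of_bff (DR39.bff_inD_of_free (Polynomial R)))
      (DR39.inDIso (LinearEquiv.ofBijective s hs))
  · rw [e2]
    exact DR39.pc_of_bff (DR39.bff_inD_of_free (Polynomial R))

end Groth.Agent.S6981
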