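import Groth.Statements.S6988
import Groth.Agent.DR39.Resolution

set_option autoImplicit false
universe u
open CategoryTheory CategoryTheory.Limits
attribute [local instance] HasDerivedCategory.standard
open DRing

namespace Groth.Agent.S6988

/-- Let R be a commutative ring, K a pseudo-coherent object of D(R) and i an integer. Then some finitely
presented R-module M admits a morphism K → M[-i] in D(R) that is injective on H^i (here H^i(M[-i]) =
M). -/
theorem result (R : Type u) [CommRing R] (K : Dual.D R)
    (hK : DRing.IsPseudoCoherent' R K) (i : ℤ) :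
    ∃ (M : Type u) (_ : AddCommGroup M) (_ : Module R M) (_ : Module.FinitePresentation R M)
      (f : K ⟶ (shiftFunctor (Dual.D R) (-i)).obj (Dual.inD R M)),
      Mono ((DerivedCategory.homologyFunctor (ModuleCat.{u} R) i).map f) := by
  obtain ⟨E, b, hb, hE, ⟨e⟩⟩ := hK
  let N := LinearMap.range (E.d (i - 1) i).hom
  haveI := (hE (i - 1)).1
  haveI := (hE i).1
  haveI := (hE i).2
  haveI hfp : Module.FinitePresentation R (E.X i ⧸ N) :=
    Module.finitePresentation_of_free_of_surjective N.mkQ N.mkQ_surjective
      (by rw [Submodule.ker_mkQ]; simp only [N, LinearMap.range_eq_map]; exact Module.Finite.fg_top.map _)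
  let M : ModuleCat.{u} R := ModuleCat.of R (E.X i ⧸ N)
  let φ : E ⟶ (HomologicalComplex.single (ModuleCat.{u} R) (ComplexShape.up ℤ) i).obj M :=
    HomologicalComplex.mkHomToSingle (ModuleCat.ofHom N.mkQ) fun j hj => by
      obtain rfl : j = i - 1 := by change j + 1 = i at hj; omega
      exact ModuleCat.hom_ext (LinearMap.range_mkQ_comp _)
  refine ⟨E.X i ⧸ N, inferInstance, inferInstance, hfp,
    e.inv ≫ (DR39.QA R).map φ ≫ (DR39.singleShiftIso M i (-i) (by omega)).inv, ?_⟩
  simp only [Functor.map_comp]
  haveI : Mono ((DR39.HF R i).map ((DR39.QA R).map φ)) := by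
    have hinj : Function.Injective (HomologicalComplex.homologyMap φ i).hom := by
      rw [DR39.injective_homologyMap_iff]
      intro x _ y hy
      haveI := ModuleCat.subsingleton_of_isZero
        (HomologicalComplex.isZero_single_obj_X (ComplexShape.up ℤ) i M (i - 1) (by omega))
      rw [Subsingleton.elim y 0, map_zero] at hy
      have hb := (ModuleCat.mono_iff_injective (HomologicalComplex.singleObjXSelf (ComplexShape.up ℤ) i M).inv).1 inferInstance
      simp only [φ, HomologicalComplex.mkHomToSingle_f, ModuleCat.hom_comp, LinearMap.comp_apply] at hy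
      exact (Submodule.Quotient.mk_eq_zero N).1 (hb (hy.symm.trans (map_zero _).symm))
    haveI : Mono (HomologicalComplex.homologyMap φ i) := (ModuleCat.mono_iff_injective _).2 hinj
    have h := DR39.HQIso_naturality φ i
    rw [← Iso.eq_comp_inv] at h
    rw [h]
    infer_instance
  exact mono_comp' inferInstance (mono_comp' inferInstance inferInstance)

end Groth.Agent.S6988
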