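import Groth.Statements.S6989
import Groth.Agent.DR39.Resolution
import Groth.Agent.DR39.PC3

set_option autoImplicit false
universe u
open CategoryTheory CategoryTheory.Limits
attribute [local instance] HasDerivedCategory.standard
open DRing

namespace Groth.Agent.S6989

/-- Let A be a Noetherian commutative ring, K an object of D(A) whose cohomology vanishes in large
degrees and whose cohomology modules are all finitely generated, m a maximal ideal of A and i an
integer such that m H^i(K) ≠ H^i(K). Then some finitely generated A-module E killed by a power of m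
receives a morphism K → E[-i] in D(A) whose induced map H^i(K) → H^i(E[-i]) is nonzero. -/
theorem result (A : Type u) [CommRing A]
    [IsNoetherianRing A] (K : Dual.D A) (hb : ∃ b : ℤ, ∀ j : ℤ, b < j → Subsingleton (Dual.HD A K j))
    (hfin : ∀ j : ℤ, Module.Finite A (Dual.HD A K j)) (m : Ideal A) [m.IsMaximal] (i : ℤ)
    (hi : m • (⊤ : Submodule A (Dual.HD A K i)) ≠ ⊤) :
    ∃ (E : Type u) (_ : AddCommGroup E) (_ : Module A E) (_ : Module.Finite A E) (n : ℕ)
      (_ : m ^ n • (⊤ : Submodule A E) = ⊥) (f : K ⟶ (shiftFunctor (Dual.D A) (-i)).obj (Dual.inD A E)),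
      (DerivedCategory.homologyFunctor (ModuleCat.{u} A) i).map f ≠ 0 := by
  obtain ⟨b, hb⟩ := hb
  have hX := DR39.acyc_of_subsingleton hb
  have hpc : DR39.PC i K := DR39.pc_of_homology hX fun j _ =>
    DR39.pc_inD_of_coherent (P := fun M _ _ => Module.Finite A M) (fun M _ _ hM => by
      obtain ⟨k, g, hg⟩ := Module.Finite.exists_fin' A M
      exact ⟨k, g, hg, inferInstance⟩) _ (hfin j) _
  obtain ⟨E, -, -, hEfin, ⟨e⟩⟩ := DR39.exists_finite_free_above hX hpc
  haveI := hEfin i le_rfl
  let N := (E.X i) ⧸ LinearMap.range (E.d (i - 1) i).hom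
  let H : Submodule A N := (DR39.Zd E i).map (Submodule.mkQ _)
  let eH : (DR39.HF A i).obj K ≅ E.homology i := (DR39.HF A i).mapIso e.symm ≪≫ DR39.HQIso E i
  let θ : DR39.Zd E i →ₗ[A] (DR39.HF A i).obj K :=
    eH.inv.hom ∘ₗ DR39.hcls E i
  have hθs : Function.Surjective θ :=
    ((DR39.isIso_iff_bijective eH.inv).1 inferInstance).2.comp (DR39.hcls_surjective E i)
  obtain ⟨k, hk⟩ := Ideal.exists_pow_inf_eq_pow_smul m H
  have hAR : m ^ (k + 1) • (⊤ : Submodule A N) ⊓ H ≤ m • H := by
    rw [hk (k + 1) (Nat.le_succ k), Nat.add_sub_cancel_left, pow_one]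
    exact Submodule.smul_mono le_rfl inf_le_right
  let M := N ⧸ (m ^ (k + 1) • (⊤ : Submodule A N))
  let q : E.X i →ₗ[A] M := Submodule.mkQ _ ∘ₗ Submodule.mkQ _
  let φ : E ⟶ (HomologicalComplex.single (ModuleCat.{u} A) (ComplexShape.up ℤ) i).obj (ModuleCat.of A M) :=
    HomologicalComplex.mkHomToSingle (ModuleCat.ofHom q) fun j hj => by
      obtain rfl : j = i - 1 := by
        change j + 1 = i at hj
        omega
      refine ModuleCat.hom_ext (LinearMap.ext fun x => ?_)
      show Submodule.mkQ _ (Submodule.mkQ _ ((E.d (i - 1) i).hom x)) = 0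
      rw [Submodule.mkQ_apply (LinearMap.range (E.d (i - 1) i).hom),
        (Submodule.Quotient.mk_eq_zero (LinearMap.range (E.d (i - 1) i).hom)).2 ⟨x, rfl⟩, map_zero]
  let w : (DR39.QA A).obj ((HomologicalComplex.single (ModuleCat.{u} A) (ComplexShape.up ℤ) i).obj (ModuleCat.of A M)) ≅
      (shiftFunctor (Dual.D A) (-i)).obj (Dual.inD A M) :=
    ((DerivedCategory.singleFunctorIsoCompQ (ModuleCat.{u} A) i).app (ModuleCat.of A M)).symm ≪≫
      (DR39.singleShiftIso (ModuleCat.of A M) i (-i) (add_neg_cancel i)).symm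
  refine ⟨M, inferInstance, inferInstance, inferInstance, k + 1, ?_, e.inv ≫ (DR39.QA A).map φ ≫ w.hom, fun h0 => ?_⟩
  · refine eq_bot_iff.2 (Submodule.smul_le.2 fun r hr x _ => ?_)
    obtain ⟨y, rfl⟩ := Submodule.mkQ_surjective _ x
    exact (Submodule.mem_bot A).2 ((map_smul (Submodule.mkQ _) r y).symm.trans
      ((Submodule.Quotient.mk_eq_zero _).2 (Submodule.smul_mem_smul hr Submodule.mem_top)))
  have hz : HomologicalComplex.homologyMap φ i = 0 := by
    change (DR39.HF A i).map _ = 0 at h0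
    rw [Functor.map_comp, Functor.map_comp, Preadditive.IsIso.comp_left_eq_zero,
      Preadditive.IsIso.comp_right_eq_zero] at h0
    have h2 := DR39.HQIso_naturality φ i
    rw [h0, zero_comp] at h2
    exact (Preadditive.IsIso.comp_left_eq_zero _ _).1 h2.symm
  apply hi
  rw [eq_top_iff]
  intro c _
  obtain ⟨z, rfl⟩ := hθs c
  have hz1 := LinearMap.congr_fun (congrArg ModuleCat.Hom.hom hz) (DR39.hcls E i z)
  rw [DR39.homologyMap_hcls, ModuleCat.hom_zero, LinearMap.zero_apply, DR39.hcls_eq_zero_iff] at hz1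
  obtain ⟨y, hy⟩ := hz1
  rw [HomologicalComplex.single_obj_d] at hy
  have hq : q z = 0 := by
    have hb := ((DR39.isIso_iff_bijective
      (HomologicalComplex.singleObjXSelf (ComplexShape.up ℤ) i (ModuleCat.of A M)).inv).1 inferInstance).1
    apply hb
    rw [map_zero]
    simpa [φ, DR39.zmap] using hy.symm
  have hzN : Submodule.mkQ (LinearMap.range (E.d (i - 1) i).hom) (z : E.X i) ∈ m • H :=
    hAR ⟨(Submodule.Quotient.mk_eq_zero _).1 hq, Submodule.mem_map_of_mem z.2⟩
  rw [← Submodule.map_smul''] at hzN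
  obtain ⟨u, hu, hu'⟩ := hzN
  have hu2 : u ∈ (m • (⊤ : Submodule A (DR39.Zd E i))).map (DR39.Zd E i).subtype := by
    rw [Submodule.map_smul'', Submodule.map_top, Submodule.range_subtype]
    exact hu
  obtain ⟨v, hv, rfl⟩ := hu2
  have : θ v = θ z := congrArg eH.inv.hom
    ((DR39.hcls_eq_iff E i v z).2 ((Submodule.Quotient.eq _).1 hu'))
  change θ z ∈ m • (⊤ : Submodule A (Dual.HD A K i))
  rw [← this]
  have hv' := Submodule.mem_map_of_mem (f := θ) hv
  rw [Submodule.map_smul''] at hv'
  exact Submodule.smul_mono le_rfl le_top hv'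

end Groth.Agent.S6989
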