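import Groth.Statements.S6992
import Groth.Agent.RelFP3.Basic
import Groth.Agent.RelFP3.Cover

set_option autoImplicit false
universe u
open CAlg

namespace Groth.Agent.S6992

/-- Let R be a commutative ring, A → B a finite homomorphism of finite type R-algebras, M a B-module,
and α : R[x_1, ..., x_n] → A, β : R[y_1, ..., y_k] → B surjective R-algebra homomorphisms. Then M is
finitely presented as an R[x_1, ..., x_n]-module through α and A → B (M is finitely presented
relative to R as an A-module) if and only if M is finitely presented as an R[y_1, ..., y_k]-module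
through β (M is finitely presented relative to R as a B-module). -/
theorem result {R A B : Type u} [CommRing R] [CommRing A] [CommRing B]
    [Algebra R A] [Algebra A B] [Algebra R B] [IsScalarTower R A B] [Algebra.FiniteType R A]
    [Algebra.FiniteType R B] [Module.Finite A B] (M : Type u) [AddCommGroup M] [Module B M] [Module A M]
    [IsScalarTower A B M] {n k : ℕ} (α : MvPolynomial (Fin n) R →ₐ[R] A) (hα : Function.Surjective α)
    (β : MvPolynomial (Fin k) R →ₐ[R] B) (hβ : Function.Surjective β) :
    @Module.FinitePresentation (MvPolynomial (Fin n) R) M _ _ (Module.compHom M α.toRingHom) ↔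
      @Module.FinitePresentation (MvPolynomial (Fin k) R) M _ _ (Module.compHom M β.toRingHom) := by
  let P := MvPolynomial (Fin n) R
  let : Algebra P A := α.toRingHom.toAlgebra
  let : Algebra P B := ((algebraMap A B).comp α.toRingHom).toAlgebra
  have : IsScalarTower P A B := IsScalarTower.of_algebraMap_eq fun _ => rfl
  have : IsScalarTower R P B := IsScalarTower.of_algebraMap_eq fun r => by
    show _ = algebraMap A B (α (algebraMap R P r))
    rw [α.commutes, ← IsScalarTower.algebraMap_apply]
  have : Module.Finite P A := Module.Finite.of_surjective (Algebra.linearMap P A) hα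
  have : Module.Finite P B := Module.Finite.trans A B
  obtain ⟨S, _, _, _, _, σ, hσb⟩ :=
    Groth.Agent.RelFP3.exists_finite_cover P B fun j => β (MvPolynomial.X j)
  let : Algebra R S := ((algebraMap P S).comp (algebraMap R P)).toAlgebra
  have : IsScalarTower R P S := IsScalarTower.of_algebraMap_eq fun _ => rfl
  have : Algebra.FinitePresentation R S := Algebra.FinitePresentation.trans R P S
  choose g hg using hσb
  have hσ : Function.Surjective (σ.restrictScalars R) := by
    have e : β = (σ.restrictScalars R).comp (MvPolynomial.aeval g) :=
      MvPolynomial.algHom_ext fun j => by simp [hg]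
    intro y
    obtain ⟨q, rfl⟩ := hβ y
    exact ⟨_, (DFunLike.congr_fun e q).symm⟩
  refine Iff.trans ?_ (Groth.Agent.RelFP3.indep (σ.restrictScalars R) hσ β hβ)
  refine Iff.trans ?_ (Groth.Agent.RelFP3.via_comp (P := P) σ.toRingHom)
  refine Groth.Agent.RelFP3.via_congr _ _ fun q m => ?_
  show α q • m = σ (algebraMap P S q) • m
  rw [σ.commutes]
  exact (algebraMap_smul B (α q) m).symm

end Groth.Agent.S6992
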