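import Groth.Statements.S7000
import Groth.Agent.DR39.BC

set_option autoImplicit false
universe u
open CategoryTheory CategoryTheory.Limits
attribute [local instance] HasDerivedCategory.standard
open DRing

namespace Groth.Agent.S7000

/-- Let A → B be a flat homomorphism of commutative rings, m an integer and M an A-module. If M is
m-pseudo-coherent then the B-module B ⊗_A M is m-pseudo-coherent; if M is pseudo-coherent then B ⊗_A
M is pseudo-coherent. -/
theorem result {A B : Type u} [CommRing A] [CommRing B] [Algebra A B]
    [Module.Flat A B] (m : ℤ) (M : Type u) [AddCommGroup M] [Module A M] :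
    (DRing.IsPseudoCoherentModule A m M → DRing.IsPseudoCoherentModule B m (TensorProduct A B M)) ∧
      (DRing.IsPseudoCoherentModule' A M → DRing.IsPseudoCoherentModule' B (TensorProduct A B M)) := by
  obtain ⟨e⟩ := DR39.rep_inD_baseChange (A := A) (B := B) M
  exact ⟨fun h => DR39.PC.of_iso (DR39.pc_map (DR39.extA A B) (DR39.pc_extendScalars_FF _) h) e,
    fun h => (DR39.pc'_iff_forall_pc _).2 fun n =>
      DR39.PC.of_iso (DR39.pc_map (DR39.extA A B) (DR39.pc_extendScalars_FF _) (DR39.pc_of_pc' h n)) e⟩

end Groth.Agent.S7000
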