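import Groth.Statements.S7003
import Groth.Agent.DR39.Split

set_option autoImplicit false
universe u
open CategoryTheory CategoryTheory.Limits
attribute [local instance] HasDerivedCategory.standard
open DRing

namespace Groth.Agent.S7003

/-- Let R be a commutative ring, a an integer and K an object of D(R) whose cohomology vanishes in large
degrees. Assume that for every injective R-linear map M → M' the induced map Hom(K, M[-a]) → Hom(K,
M'[-a]) in D(R) is injective. Then K ≅ τ_(≤ a) K ⊕ τ_(≥ a+1) K by an isomorphism carrying τ_(≤ a) K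
→ K to the first inclusion and K → τ_(≥ a+1) K to the second projection, and τ_(≥ a+1) K is
isomorphic in D(R) to a complex of projective modules vanishing outside [a+1, b] for some integer b.
(The published statement also asserts that the decomposition is unique; that part is not restated.) -/
theorem result (R : Type u) [CommRing R] (a : ℤ) (K : Dual.D R)
    (hKb : ∃ b : ℤ, ∀ i : ℤ, b < i → Subsingleton (Dual.HD R K i))
    (h : ∀ (M M' : Type u) [AddCommGroup M] [Module R M] [AddCommGroup M'] [Module R M'] (g : M →ₗ[R] M'),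
      Function.Injective g → Function.Injective (fun x : K ⟶ (shiftFunctor (Dual.D R) (-a)).obj (Dual.inD R M) =>
        x ≫ (shiftFunctor (Dual.D R) (-a)).map
          ((DerivedCategory.singleFunctor (ModuleCat.{u} R) 0).map (ModuleCat.ofHom g))))
    [HasBinaryBiproduct (((DerivedCategory.TStructure.t : Triangulated.TStructure (Dual.D R)).truncLT (a + 1)).obj K) (((DerivedCategory.TStructure.t : Triangulated.TStructure (Dual.D R)).truncGE (a + 1)).obj K)] :
    (∃ e : K ≅ ((DerivedCategory.TStructure.t : Triangulated.TStructure (Dual.D R)).truncLT (a + 1)).obj K ⊞ ((DerivedCategory.TStructure.t : Triangulated.TStructure (Dual.D R)).truncGE (a + 1)).obj K,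
      ((DerivedCategory.TStructure.t : Triangulated.TStructure (Dual.D R)).truncLTι (a + 1)).app K ≫ e.hom = biprod.inl ∧
        e.hom ≫ biprod.snd = ((DerivedCategory.TStructure.t : Triangulated.TStructure (Dual.D R)).truncGEπ (a + 1)).app K) ∧
      ∃ (P : DRing.Cx R) (b : ℤ), DRing.VanishesOutside P (a + 1) b ∧ (∀ i : ℤ, Module.Projective R (P.X i)) ∧
        Nonempty (DRing.toD P ≅ ((DerivedCategory.TStructure.t : Triangulated.TStructure (Dual.D R)).truncGE (a + 1)).obj K) := by
  obtain ⟨b, hb⟩ := hKb
  have hmono : ∀ (M M' : ModuleCat.{u} R) (g : M ⟶ M'), Mono g → ∀ x : K ⟶ DR39.sngl a M,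
      x ≫ (DerivedCategory.singleFunctor (ModuleCat.{u} R) a).map g = 0 → x = 0 := by
    intro M M' g hg x hx
    let eM := DR39.singleShiftIso M a (-a) (by omega)
    let eM' := DR39.singleShiftIso M' a (-a) (by omega)
    have hinj := h M M' g.hom ((ModuleCat.mono_iff_injective g).1 hg)
    have h0 : x ≫ eM.inv = 0 := hinj (by
      show (x ≫ eM.inv) ≫ _ = (0 : K ⟶ _) ≫ _
      rw [zero_comp, ← cancel_mono eM'.hom, Category.assoc, Category.assoc, zero_comp]
      erw [DR39.singleShiftIso_naturality g a (-a) (by omega)]
      rw [Iso.inv_hom_id_assoc]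
      exact hx)
    exact (cancel_mono eM.inv).1 (h0.trans zero_comp.symm)
  have hG := DR39.rep_PR_truncGE (DR39.acyc_of_subsingleton hb) (DR39.extVanish_truncGE_of_mono hmono)
  refine ⟨DR39.split_of_rep_PR (Triangulated.TStructure.triangleLTGE_distinguished _ (a + 1) K) hG fun i hi => ?_, ?_⟩
  · exact DerivedCategory.isZero_of_isLE _ (a + 1 - 1) i (by omega)
  · obtain ⟨P, hv, hp, he⟩ := hG
    exact ⟨P, _, (DR39.vanishesOutside_iff P _ _).2 hv, hp, he⟩

end Groth.Agent.S7003
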