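import Groth.Statements.S7005
import Groth.Agent.RelFP3.Basic
import Groth.Agent.RelFP3.Cover

set_option autoImplicit false
universe u
open CAlg

namespace Groth.Agent.S7005

/-- Let R → A be a finite type homomorphism of commutative rings, α : R[x_1, ..., x_n] → A a surjective
R-algebra homomorphism and M an A-module which is finitely presented as an R[x_1, ..., x_n]-module
through α. Let A → A' be a ring homomorphism of finite presentation and γ : R[z_1, ..., z_k] → A' a
surjective R-algebra homomorphism. Then A' ⊗_A M is finitely presented as an R[z_1, ..., z_k]-module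
through γ. -/
theorem result {R A A' : Type u} [CommRing R] [CommRing A]
    [CommRing A'] [Algebra R A] [Algebra A A'] [Algebra R A'] [IsScalarTower R A A'] [Algebra.FiniteType R A]
    [Algebra.FinitePresentation A A'] (M : Type u) [AddCommGroup M] [Module A M] {n k : ℕ}
    (α : MvPolynomial (Fin n) R →ₐ[R] A) (hα : Function.Surjective α)
    (hM : @Module.FinitePresentation (MvPolynomial (Fin n) R) (M) _ _ (Module.compHom (M) α.toRingHom))
    (γ : MvPolynomial (Fin k) R →ₐ[R] A') (hγ : Function.Surjective γ) :
    @Module.FinitePresentation (MvPolynomial (Fin k) R) (TensorProduct A A' M) _ _ (Module.compHom (TensorProduct A A' M) γ.toRingHom) := by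
  let P := MvPolynomial (Fin n) R
  obtain ⟨S, _, _, _, ψ, hψ, hc, hker⟩ :=
    Groth.Agent.RelFP3.exists_base_cover (P := P) A' α.toRingHom hα
  let : Algebra R S := ((algebraMap P S).comp (algebraMap R P)).toAlgebra
  have : IsScalarTower R P S := IsScalarTower.of_algebraMap_eq fun _ => rfl
  have : Algebra.FinitePresentation R S := Algebra.FinitePresentation.trans R P S
  let ψR : S →ₐ[R] A' := { ψ with
    commutes' := fun r => by
      show ψ (algebraMap R S r) = _
      rw [IsScalarTower.algebraMap_apply R P S, hc]
      show algebraMap A A' (α (algebraMap R P r)) = _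
      rw [α.commutes, ← IsScalarTower.algebraMap_apply] }
  exact (Groth.Agent.RelFP3.indep ψR hψ γ hγ).mp
    (Groth.Agent.RelFP3.via_tensor α.toRingHom hα ψ hψ hc hker hM)

end Groth.Agent.S7005
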