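import Groth.Statements.S7006
import Groth.Agent.RelFP3.Basic

set_option autoImplicit false
universe u
open CAlg

namespace Groth.Agent.S7006

/-- Let R be a commutative ring, f an element of R, A an R_f-algebra with a surjective R_f-algebra
homomorphism α : R_f[x_1, ..., x_n] → A, g an element of A, and M an A-module which is finitely
presented as an R_f[x_1, ..., x_n]-module through α. Then for every surjective R-algebra
homomorphism γ : R[z_1, ..., z_k] → A_g, the localized module M_g is finitely presented as an R[z_1,
..., z_k]-module through γ. -/
theorem result {R A : Type u} [CommRing R] [CommRing A] (f : R)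
    [Algebra R A] [Algebra (Localization.Away f) A] [IsScalarTower R (Localization.Away f) A] {n k : ℕ}
    (α : MvPolynomial (Fin n) (Localization.Away f) →ₐ[Localization.Away f] A) (hα : Function.Surjective α)
    (g : A) (M : Type u) [AddCommGroup M] [Module A M]
    (hM : @Module.FinitePresentation (MvPolynomial (Fin n) (Localization.Away f)) (M) _ _ (Module.compHom (M) α.toRingHom))
    (γ : MvPolynomial (Fin k) R →ₐ[R] Localization.Away g) (hγ : Function.Surjective γ) :
    @Module.FinitePresentation (MvPolynomial (Fin k) R) (LocalizedModule (Submonoid.powers g) M) _ _ (Module.compHom (LocalizedModule (Submonoid.powers g) M) γ.toRingHom) := by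
  obtain ⟨g', hg'⟩ := hα g
  have := IsLocalization.Away.finitePresentation (R := R) (S := Localization.Away f) f
  have := Groth.Agent.RelFP3.away_finitePresentation (R := R) g'
  exact (Groth.Agent.RelFP3.indep (Groth.Agent.RelFP3.awayMap (α.restrictScalars R) g' g hg')
    (Groth.Agent.RelFP3.awayMap_surjective _ g' g hg' hα) γ hγ).mp
    (Groth.Agent.RelFP3.via_away (α.restrictScalars R) g' g hg' hM)

end Groth.Agent.S7006
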