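import Groth.Statements.S7007
import Groth.Agent.RelFP3.Basic

set_option autoImplicit false
universe u
open CAlg

namespace Groth.Agent.S7007

/-- Let R → A be a finite type homomorphism of commutative rings with a surjective R-algebra
homomorphism α : R[x_1, ..., x_n] → A, M an A-module, f_1, ..., f_r elements of A generating the
unit ideal, and for each i a surjective R-algebra homomorphism γ_i : R[z_1, ..., z_(k_i)] → A_(f_i).
Then M is finitely presented as an R[x_1, ..., x_n]-module through α if and only if, for every i,
the localization M_(f_i) is finitely presented as an R[z_1, ..., z_(k_i)]-module through γ_i. -/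
theorem result {R A : Type u} [CommRing R] [CommRing A] [Algebra R A]
    {n : ℕ} (α : MvPolynomial (Fin n) R →ₐ[R] A) (hα : Function.Surjective α) (M : Type u) [AddCommGroup M]
    [Module A M] {r : ℕ} (f : Fin r → A) (hf : Ideal.span (Set.range f) = ⊤) (k : Fin r → ℕ)
    (γ : ∀ i, MvPolynomial (Fin (k i)) R →ₐ[R] Localization.Away (f i)) (hγ : ∀ i, Function.Surjective (γ i)) :
    @Module.FinitePresentation (MvPolynomial (Fin n) R) (M) _ _ (Module.compHom (M) α.toRingHom) ↔
      ∀ i, @Module.FinitePresentation (MvPolynomial (Fin (k i)) R) (LocalizedModule (Submonoid.powers (f i)) M) _ _ (Module.compHom (LocalizedModule (Submonoid.powers (f i)) M) (γ i).toRingHom) := by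
  choose g hg using fun i => hα (f i)
  have := fun i => Groth.Agent.RelFP3.away_finitePresentation (R := R) (g i)
  have key := fun i => Groth.Agent.RelFP3.indep (M := LocalizedModule (Submonoid.powers (f i)) M)
    (Groth.Agent.RelFP3.awayMap α (g i) (f i) (hg i))
    (Groth.Agent.RelFP3.awayMap_surjective α (g i) (f i) (hg i) hα) (γ i) (hγ i)
  exact ⟨fun h i => (key i).mp (Groth.Agent.RelFP3.via_away α (g i) (f i) (hg i) h),
    fun h => Groth.Agent.RelFP3.via_of_cover α hα g f hg hf fun i => (key i).mpr (h i)⟩

end Groth.Agent.S7007
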