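import Groth.Statements.S7008
import Groth.Agent.RelPC41.BaseChange

set_option autoImplicit false
universe u
open CategoryTheory CategoryTheory.Limits
attribute [local instance] HasDerivedCategory.standard
open DerCA

namespace Groth.Agent.S7008

/-- Let R be a commutative ring, f an element of R, A a finite type R_f-algebra, g an element of A, K a
cochain complex of A-modules and m an integer; write K_g for the termwise localization K ⊗_A A_g, a
complex over the finite type R-algebra A_g. Suppose K is m-pseudo-coherent relative to R_f; then K_g
is m-pseudo-coherent relative to R. Suppose K is pseudo-coherent relative to R_f in every degree;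
then so is K_g relative to R. -/
theorem result {R A : Type u} [CommRing R] [CommRing A] (f : R) [Algebra R A]
    [Algebra (Localization.Away f) A] [IsScalarTower R (Localization.Away f) A]
    [Algebra.FiniteType (Localization.Away f) A] (g : A) (K : DRing.Cx A) (m : ℤ) :
    (DerCA.IsRelPseudoCoherent (Localization.Away f) A m (DRing.toD K) →
      DerCA.IsRelPseudoCoherent R (Localization.Away g) m
        (DRing.toD (((ModuleCat.extendScalars (algebraMap A (Localization.Away g))).mapHomologicalComplex
          (ComplexShape.up ℤ)).obj K))) ∧
      (DerCA.IsRelPseudoCoherentAll (Localization.Away f) A (DRing.toD K) →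
        DerCA.IsRelPseudoCoherentAll R (Localization.Away g)
          (DRing.toD (((ModuleCat.extendScalars (algebraMap A (Localization.Away g))).mapHomologicalComplex
            (ComplexShape.up ℤ)).obj K))) := by
  suffices key : ∀ n, DerCA.IsRelPseudoCoherent (Localization.Away f) A n (DRing.toD K) →
      DerCA.IsRelPseudoCoherent R (Localization.Away g) n
        (DRing.toD (((ModuleCat.extendScalars (algebraMap A (Localization.Away g))).mapHomologicalComplex
          (ComplexShape.up ℤ)).obj K)) from ⟨key m, fun h n => key n (h n)⟩
  intro n h
  obtain ⟨k, α, hα⟩ := FlatMor67.PCH.exists_surj (Localization.Away f) A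
  letI := α.toRingHom.toAlgebra
  haveI : IsScalarTower (Localization.Away f) (MvPolynomial (Fin k) (Localization.Away f)) A :=
    IsScalarTower.of_algHom α
  haveI : IsScalarTower R (MvPolynomial (Fin k) (Localization.Away f)) A :=
    IsScalarTower.of_algebraMap_eq fun r => by
      rw [IsScalarTower.algebraMap_apply R (Localization.Away f) A,
        IsScalarTower.algebraMap_apply R (Localization.Away f) (MvPolynomial (Fin k) (Localization.Away f)),
        ← IsScalarTower.algebraMap_apply (Localization.Away f) (MvPolynomial (Fin k) (Localization.Away f)) A]
  haveI : Module.Flat R (Localization.Away f) := IsLocalization.flat _ (Submonoid.powers f)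
  haveI : Module.Flat R (MvPolynomial (Fin k) (Localization.Away f)) :=
    Module.Flat.trans R (Localization.Away f) _
  haveI : Algebra.FinitePresentation R (Localization.Away f) := IsLocalization.Away.finitePresentation f
  haveI : Algebra.FinitePresentation R (MvPolynomial (Fin k) (Localization.Away f)) :=
    Algebra.FinitePresentation.trans R (Localization.Away f) _
  obtain ⟨G, hG⟩ := hα g
  exact RelPC41.rel_away hα G g hG n K ((RelPC41.via_iff α hα n _).1 h)

end Groth.Agent.S7008
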