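import Groth.Statements.S7015
import Groth.Agent.DR39.Restrict
import Mathlib.LinearAlgebra.TensorProduct.Finiteness

set_option autoImplicit false
universe u
open CategoryTheory MonoidalCategory
open DRing

namespace Groth.Agent.S7015

/-- Let R be a commutative ring and M, N R-modules such that N is a left dual of M for the tensor
product of R-modules, i.e. there are a coevaluation R → M ⊗ N and an evaluation N ⊗ M → R satisfying
the triangle identities (an exact pairing). Then M and N are finitely generated projective
R-modules. -/
theorem result (R : Type u) [CommRing R] (M N : Type u) [AddCommGroup M]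
    [Module R M] [AddCommGroup N] [Module R N] [ExactPairing (ModuleCat.of R M) (ModuleCat.of R N)] :
    Module.Finite R M ∧ Module.Projective R M ∧ Module.Finite R N ∧ Module.Projective R N := by
  have key : ∀ (X Y : Type u) [AddCommGroup X] [Module R X] [AddCommGroup Y] [Module R Y]
      (z : TensorProduct R X Y) (ev : Y →ₗ[R] X →ₗ[R] R),
      (∀ x, TensorProduct.lift (LinearMap.mk₂ R (fun a b => ev b x • a)
        (fun _ _ _ => smul_add _ _ _) (fun c a b => smul_comm _ _ _)
        (fun a b b' => by simp [add_smul]) (fun c a b => by simp [smul_smul])) z = x) →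
      Module.Finite R X ∧ Module.Projective R X := by
    intro X Y _ _ _ _ z ev h
    obtain ⟨S, rfl⟩ := TensorProduct.exists_finset z
    let i : X →ₗ[R] (S → R) := LinearMap.pi fun p => ev p.1.2
    let s : (S → R) →ₗ[R] X := Fintype.linearCombination R fun p => p.1.1
    have hsi : s ∘ₗ i = LinearMap.id := LinearMap.ext fun x => by
      refine Eq.trans ?_ (h x)
      rw [map_sum, ← Finset.sum_coe_sort]
      simp [s, i, Fintype.linearCombination_apply]
    exact ⟨Module.Finite.of_surjective s fun x => ⟨i x, LinearMap.congr_fun hsi x⟩,
      Module.Projective.of_split i s hsi⟩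
  let ev : N →ₗ[R] M →ₗ[R] R := TensorProduct.curry
    (ExactPairing.evaluation (ModuleCat.of R M) (ModuleCat.of R N)).hom
  let z : TensorProduct R M N := (ExactPairing.coevaluation (ModuleCat.of R M) (ModuleCat.of R N)).hom (1 : R)
  have h1 := key M N z ev fun m => by
    have h := LinearMap.congr_fun (congrArg ModuleCat.Hom.hom
      (ExactPairing.evaluation_coevaluation (ModuleCat.of R M) (ModuleCat.of R N))) ((1 : R) ⊗ₜ[R] m)
    refine (TensorProduct.rid R M).symm.injective (Eq.trans ?_ (h.trans ?_))
    · show _ = (LinearMap.lTensor M (ExactPairing.evaluation (ModuleCat.of R M) (ModuleCat.of R N)).hom)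
        (TensorProduct.assoc R M N M (z ⊗ₜ[R] m))
      induction z using TensorProduct.induction_on with
      | zero => simp
      | tmul a b =>
        simp [ev, TensorProduct.smul_tmul']
        rw [TensorProduct.smul_tmul, smul_eq_mul, mul_one]
      | add u v hu hv => simp [TensorProduct.add_tmul, ← hu, ← hv]
    · show (TensorProduct.rid R M).symm ((TensorProduct.lid R M) ((1 : R) ⊗ₜ[R] m)) = _
      simp
  have h2 := key N M (TensorProduct.comm R M N z) ev.flip fun n => by
    have h := LinearMap.congr_fun (congrArg ModuleCat.Hom.hom
      (ExactPairing.coevaluation_evaluation (ModuleCat.of R M) (ModuleCat.of R N))) (n ⊗ₜ[R] (1 : R))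
    refine (TensorProduct.lid R N).symm.injective (Eq.trans ?_ (h.trans ?_))
    · show _ = (LinearMap.rTensor N (ExactPairing.evaluation (ModuleCat.of R M) (ModuleCat.of R N)).hom)
        ((TensorProduct.assoc R N M N).symm (n ⊗ₜ[R] z))
      induction z using TensorProduct.induction_on with
      | zero => simp
      | tmul a b =>
        simp [ev, TensorProduct.tmul_smul]
        rw [TensorProduct.smul_tmul', smul_eq_mul, mul_one]
      | add u v hu hv => simp [TensorProduct.tmul_add, ← hu, ← hv]
    · show (TensorProduct.lid R N).symm ((TensorProduct.rid R N) (n ⊗ₜ[R] (1 : R))) = _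
      simp
  exact ⟨h1.1, h1.2, h2.1, h2.2⟩

end Groth.Agent.S7015
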