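import Groth.Statements.S7031
import Groth.Agent.DR39.RegPerfect

set_option autoImplicit false
universe u
open CategoryTheory CategoryTheory.Limits
attribute [local instance] HasDerivedCategory.standard
open DRing

namespace Groth.Agent.S7031

/-- Let R be a regular commutative ring (Noetherian, with regular local rings at all primes) such that
the derived tensor product - ⊗^L_R M exists on D(R) for every R-module M, and let K be an object of
D(R). Then K is perfect if and only if H^i(K) = 0 outside a bounded range of degrees and every
H^i(K) is a finitely generated R-module. -/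
theorem result (R : Type u) [CommRing R] [IsNoetherianRing R]
    (hreg : ∀ p : PrimeSpectrum R, IsRegularLocalRing (Localization.AtPrime p.asIdeal)) [∀ M : ModuleCat.{u} R, DRing.HasLTensor R M] (K : Dual.D R) :
    DRing.IsPerfect R K ↔
      (∃ a b : ℤ, ∀ i : ℤ, (i < a ∨ b < i) → Subsingleton (Dual.HD R K i)) ∧ ∀ i : ℤ, Module.Finite R (Dual.HD R K i) := by
  constructor
  · intro h
    obtain ⟨hpc, a, b, hta⟩ := (DR39.perfect_iff K).1 h
    refine ⟨⟨a, b, fun i hi => (DR39.isZero_HF_iff K i).1 ?_⟩, fun i => ?_⟩
    · rcases hi with hi | hi
      · exact DR39.TA.isZero_low hta i hi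
      · exact DR39.TA.acyc hta i hi
    · have hfp : ∀ (M : Type u) [AddCommGroup M] [Module R M], Module.FinitePresentation R M →
          ∀ n, DR39.PC n (Dual.inD R M) := fun M _ _ hM n =>
        DR39.pc_inD_of_fp_of_coherent (fun I hI => haveI := Module.Finite.iff_fg.2 hI
          Module.finitePresentation_of_finite R I) M hM n
      exact (DR39.homology_of_pc hfp (DR39.pc_of_pc' hpc i)).1
  · rintro ⟨hb, hfin⟩
    obtain ⟨c, d, hd, hc⟩ := DR39.acyc_of_hb hb
    refine DR39.perfect_of_homology hd hc fun i => ?_
    haveI := hfin i
    exact DR39.perfect_inD_of_regular hreg (Dual.HD R K i)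

end Groth.Agent.S7031
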