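import Groth.Statements.S7035
import Groth.Agent.DR39.Fibre2

set_option autoImplicit false
universe u
open CategoryTheory CategoryTheory.Limits
attribute [local instance] HasDerivedCategory.standard
open DRing

namespace Groth.Agent.S7035

/-- Let A → B be a flat homomorphism of commutative rings and d a natural number such that for every
prime p of A, with residue field κ(p), every module over κ(p) ⊗_A B has projective dimension at most
d; assume the derived tensor products - ⊗^L M exist on D(κ(p) ⊗_A B) for all p and the derived base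
changes D(B) → D(B/m) exist for all ideals m of B. Let a, b be integers and K an object of D(B)
which is pseudo-coherent over B and, with scalars restricted to A, has tor amplitude in [a, b]. Then
K is perfect over B and has tor amplitude in [a - d, b] over B. -/
theorem result {A B : Type u} [CommRing A] [CommRing B] [Algebra A B]
    [Module.Flat A B] (d : ℕ)
    (hgl : ∀ (p : PrimeSpectrum A) (M : Type u) [AddCommGroup M]
      [Module (TensorProduct A p.asIdeal.ResidueField B) M],
      HasProjectiveDimensionLT (ModuleCat.of (TensorProduct A p.asIdeal.ResidueField B) M) (d + 1))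
    [∀ (p : PrimeSpectrum A) (M : ModuleCat.{u} (TensorProduct A p.asIdeal.ResidueField B)),
      DRing.HasLTensor (TensorProduct A p.asIdeal.ResidueField B) M]
    [∀ m : Ideal B, DRing.HasLBaseChange (Ideal.Quotient.mk m)] (a b : ℤ) (K : Dual.D B)
    (hK : DRing.IsPseudoCoherent' B K)
    (hKa : DRing.HasTorAmplitudeIn A a b ((DRing.restrictD (algebraMap A B)).obj K)) :
    DRing.IsPerfect B K ∧ DRing.HasTorAmplitudeIn B (a - d) b K := by
  obtain ⟨E, e0, hv, hE, ⟨e⟩⟩ := hK
  have hB : ∀ j, Module.Flat B (E.X j) := fun j => DR39.flat_of_PR (DR39.proj_of_FF (hE j))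
  let RE := (DRing.restrictCx (algebraMap A B)).obj E
  have hRk : DRing.IsKFlat A RE := DR39.isKFlat_of_flat e0
    (fun j hj => (ModuleCat.restrictScalars _).map_isZero (hv j hj)) fun j => DR39.flat_restrictCx E j (hB j)
  let eR : DRing.toD RE ≅ (DRing.restrictD (algebraMap A B)).obj K :=
    (DR39.restrictDIso (algebraMap A B) E).symm ≪≫ (DRing.restrictD (algebraMap A B)).mapIso e
  refine DR39.perfect_of_flat_fibres (A := A) E e0 hv hE e a b d fun m hm => ?_
  haveI := hm
  letI := Ideal.Quotient.field m
  let p : PrimeSpectrum A := ⟨m.comap (algebraMap A B), inferInstance⟩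
  let f0 : A →+* B ⧸ m := (Ideal.Quotient.mk m).comp (algebraMap A B)
  have h1 : p.asIdeal ≤ RingHom.ker f0 := fun x hx => Ideal.Quotient.eq_zero_iff_mem.2 hx
  have h2 : p.asIdeal.primeCompl ≤ (IsUnit.submonoid (B ⧸ m)).comap f0 := fun x hx =>
    IsUnit.mk0 _ fun h0 => hx (Ideal.Quotient.eq_zero_iff_mem.1 (show Ideal.Quotient.mk m (algebraMap A B x) = 0 from h0) : algebraMap A B x ∈ m)
  let g : p.asIdeal.ResidueField →ₐ[A] B ⧸ m :=
    { Ideal.ResidueField.lift p.asIdeal f0 h1 h2 with
      commutes' := fun r => Ideal.ResidueField.lift_algebraMap p.asIdeal f0 h1 h2 r }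
  let q' : TensorProduct A p.asIdeal.ResidueField B →ₐ[A] B ⧸ m :=
    Algebra.TensorProduct.lift g (IsScalarTower.toAlgHom A B (B ⧸ m)) fun _ _ => Commute.all _ _
  let q : B →+* TensorProduct A p.asIdeal.ResidueField B := Algebra.TensorProduct.includeRight.toRingHom
  refine ⟨ModuleCat.of A p.asIdeal.ResidueField, TensorProduct A p.asIdeal.ResidueField B, inferInstance, q,
    { TensorProduct.comm A B p.asIdeal.ResidueField with
      map_smul' := fun r x => ?_ },
    q'.toRingHom, RingHom.ext fun x => ?_, fun i hi => ?_, fun M _ _ => hgl p M⟩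
  · show TensorProduct.comm A B p.asIdeal.ResidueField (r • x) =
      q r * TensorProduct.comm A B p.asIdeal.ResidueField x
    induction x using TensorProduct.induction_on with
    | zero => simp
    | add y z hy hz => simp only [smul_add, map_add, mul_add, hy, hz]
    | tmul y z => simp [q, TensorProduct.smul_tmul', Algebra.TensorProduct.tmul_mul_tmul]
  · show q' (TensorProduct.tmul A (1 : p.asIdeal.ResidueField) x) = _
    simp [q']
  · obtain ⟨G, hGv, hG, ⟨gG⟩⟩ := (DR39.ta_iff_rep a b _).1 hKa
    obtain ⟨t⟩ := DR39.tensor_iso (DR39.isKFlat_of_flat b (fun j hj => hGv j fun hm => absurd hm.2 (by omega)) hG)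
      hRk (gG ≪≫ eR.symm) (ModuleCat.of A p.asIdeal.ResidueField) i
    rw [← DR39.isZero_tensorCx_iff]
    refine IsZero.of_iso ?_ t.symm
    haveI := ModuleCat.subsingleton_of_isZero (hGv i fun hm => by obtain ⟨h1, h2⟩ := hm; omega)
    exact (DR39.isZero_tensorCx_iff G _ i).2 fun x _ => ⟨0, Subsingleton.elim _ _⟩

end Groth.Agent.S7035
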