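import Groth.Statements.S7037
import Groth.Agent.DR39.TensorCx

set_option autoImplicit false
universe u
open CategoryTheory CategoryTheory.Limits
attribute [local instance] HasDerivedCategory.standard
open DRing

namespace Groth.Agent.S7037

/-- Let R be a commutative ring, K a pseudo-coherent object of D(R), and L a cochain complex of
R-modules which is pseudo-coherent as an object of D(R); assume the derived tensor product - ⊗^L_R L
exists on D(R). Then K ⊗^L_R L is pseudo-coherent. -/
theorem result (R : Type u) [CommRing R] (K : Dual.D R) (hK : DRing.IsPseudoCoherent' R K)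
    (L : DRing.Cx R) (hL : DRing.IsPseudoCoherent' R (DRing.toD L)) [DRing.HasLTensorCx R L] :
    DRing.IsPseudoCoherent' R ((DRing.LTensorCx R L).obj K) := by
  obtain ⟨b, E, hE, hEp, ⟨e⟩⟩ := (DR39.pc'_iff _).1 hK
  obtain ⟨c, F, hF, hFp, ⟨e'⟩⟩ := (DR39.pc'_iff _).1 hL
  replace hE := (DR39.vanishesAbove_iff E b).2 hE
  replace hF := (DR39.vanishesAbove_iff F c).2 hF
  refine DR39.pc'_of_rep_FP (b := b + c) ⟨MonoidalCategoryStruct.tensorObj E F, fun n hn => ?_,
    DR39.tensor_FP E F b c hE hF (fun i => DR39.FP_of_FF (hEp i)) (fun i => DR39.FP_of_FF (hFp i)),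
    DR39.exists_tensor_rep hE hF (fun i => DR39.FP_of_FF (hEp i)) (fun i => DR39.FP_of_FF (hFp i)) e e'⟩
  refine DR39.isZero_tensor_X E F n fun p => ?_
  rw [Set.mem_Iic] at hn
  by_cases hp : b < p
  · exact Or.inl (hE p hp)
  · exact Or.inr (hF _ (by omega))

end Groth.Agent.S7037
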