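import Groth.Statements.S7038


set_option autoImplicit false
universe u
open LocCoh

namespace Groth.Agent.S7038

/-- For an ideal I of a commutative ring R and an R-module M, if every element of M is killed by a power
of I then the support of M is contained in the closed set V(I); conversely, when I is finitely
generated and the support of M is contained in V(I), every element of M is killed by a power of I.
(Finite generation is used only for the converse.) -/
theorem result {R : Type u} [CommRing R] (I : Ideal R)
    (M : Type u) [AddCommGroup M] [Module R M] :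
    (LocCoh.IsPowerTorsion I M → Module.support R M ⊆ PrimeSpectrum.zeroLocus (I : Set R)) ∧
    (I.FG → Module.support R M ⊆ PrimeSpectrum.zeroLocus (I : Set R) → LocCoh.IsPowerTorsion I M) := by
  refine ⟨fun h p hp => ?_, fun hI h m => ?_⟩
  · obtain ⟨m, hm⟩ := Module.mem_support_iff'.mp hp
    obtain ⟨n, hn⟩ := h m
    intro a ha
    by_contra hap
    exact hm (a ^ n) (fun h => hap (p.2.mem_of_pow_mem n h)) (hn _ (Ideal.pow_mem_pow ha n))
  · have h1 : I ≤ Ideal.radical (LinearMap.ker (LinearMap.toSpanSingleton R M m)) := by
      rw [Ideal.radical_eq_sInf]
      refine le_sInf ?_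
      rintro P ⟨hP, hPprime⟩
      have hsupp : (⟨P, hPprime⟩ : PrimeSpectrum R) ∈ Module.support R M :=
        Module.mem_support_iff'.mpr ⟨m, fun r hr hrm => hr (hP (by simpa using hrm))⟩
      exact h hsupp
    obtain ⟨n, hn⟩ := Ideal.exists_pow_le_of_le_radical_of_fg h1 hI
    exact ⟨n, fun a ha => by simpa using hn ha⟩

end Groth.Agent.S7038
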