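import Groth.Statements.S7039


set_option autoImplicit false
universe u
open LocCoh

namespace Groth.Agent.S7039

/-- For a finitely generated ideal I of a commutative ring R and any R-module M, the quotient of M by
its submodule of I-power torsion elements has no nonzero element annihilated by I. -/
theorem result {R : Type u} [CommRing R] (I : Ideal R) (hI : I.FG)
    (M : Type u) [AddCommGroup M] [Module R M] :
    LocCoh.torsionBy I (M ⧸ DRing.torsionSub I M) = ⊥ := by
  classical
  refine eq_bot_iff.mpr fun x hx => ?_
  obtain ⟨m, rfl⟩ := Submodule.Quotient.mk_surjective _ x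
  rw [Submodule.mem_bot, Submodule.Quotient.mk_eq_zero]
  obtain ⟨s, hs⟩ := hI
  have h : ∀ a : s, ∃ n, ∀ b ∈ I ^ n, b • (a : R) • m = 0 := by
    intro a
    have h1 := (Submodule.mem_torsionBySet_iff (s := (I : Set R)) _).mp hx
      ⟨a, hs ▸ Submodule.subset_span a.2⟩
    rw [← Submodule.Quotient.mk_smul, Submodule.Quotient.mk_eq_zero] at h1
    exact h1
  choose N hN using h
  refine ⟨(∑ a : s, N a) + 1, fun r hr => ?_⟩
  rw [pow_succ] at hr
  refine Submodule.mul_induction_on hr (fun b hb c hc => ?_) (fun x y hx hy => by
    rw [add_smul, hx, hy, add_zero])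
  rw [← hs] at hc
  rw [mul_smul]
  induction hc using Submodule.span_induction with
  | mem a ha =>
    exact hN ⟨a, ha⟩ b (Ideal.pow_le_pow_right (Finset.single_le_sum (f := N)
      (fun _ _ => Nat.zero_le _) (Finset.mem_univ ⟨a, ha⟩)) hb)
  | zero => rw [zero_smul, smul_zero]
  | add x y _ _ hx hy => rw [add_smul, smul_add, hx, hy, add_zero]
  | smul c x _ hx => rw [smul_assoc, smul_comm, hx, smul_zero]

end Groth.Agent.S7039
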