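import Groth.Statements.S7040
import Mathlib.Algebra.Homology.ShortComplex.ModuleCat

set_option autoImplicit false
universe u
open CategoryTheory
open LocCoh

namespace Groth.Agent.S7040

/-- For a finitely generated ideal I of a commutative ring R, the property of being an I-power torsion
module (every element killed by a power of I) is a Serre class in the category of R-modules: it
holds for 0 and is closed under subobjects, quotients and extensions. -/
theorem result {R : Type u} [CommRing R] (I : Ideal R) (hI : I.FG) :
    ObjectProperty.IsSerreClass (C := ModuleCat.{u} R) (fun M => LocCoh.IsPowerTorsion I M) := by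
  refine { exists_zero := ⟨ModuleCat.of R PUnit, ModuleCat.isZero_of_subsingleton _, fun m => ⟨0, fun _ _ => Subsingleton.elim _ _⟩⟩, prop_of_mono := ?_, prop_of_epi := ?_, prop_X₂_of_shortExact := ?_ }
  · intro X Y f _ hY m
    obtain ⟨n, hn⟩ := hY (f.hom m)
    refine ⟨n, fun a ha => (ModuleCat.mono_iff_injective f).mp inferInstance ?_⟩
    rw [map_smul, map_zero]
    exact hn a ha
  · intro X Y f _ hX m
    obtain ⟨x, rfl⟩ := (ModuleCat.epi_iff_surjective f).mp inferInstance m
    obtain ⟨n, hn⟩ := hX x
    exact ⟨n, fun a ha => by rw [← map_smul, hn a ha, map_zero]⟩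
  · intro S hS h1 h3 m
    classical
    obtain ⟨n, hn⟩ := h3 (S.g.hom m)
    obtain ⟨s, hs⟩ : (I ^ n).FG := Submodule.FG.pow hI n
    have h : ∀ a : s, ∃ k, ∀ b ∈ I ^ k, b • (a : R) • m = 0 := by
      intro a
      obtain ⟨y, hy⟩ := (ShortComplex.moduleCat_exact_iff _).mp hS.exact ((a : R) • m)
        (by rw [map_smul]; exact hn _ (hs ▸ Submodule.subset_span a.2))
      obtain ⟨k, hk⟩ := h1 y
      refine ⟨k, fun b hb => ?_⟩
      rw [← hy, ← map_smul, hk b hb, map_zero]
    choose N hN using h
    refine ⟨(∑ a : s, N a) + n, fun r hr => ?_⟩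
    rw [pow_add] at hr
    refine Submodule.mul_induction_on hr (fun b hb c hc => ?_) (fun x y hx hy => by
      rw [add_smul, hx, hy, add_zero])
    rw [← hs] at hc
    rw [mul_smul]
    induction hc using Submodule.span_induction with
    | mem a ha =>
      exact hN ⟨a, ha⟩ b (Ideal.pow_le_pow_right (Finset.single_le_sum (f := N)
        (fun _ _ => Nat.zero_le _) (Finset.mem_univ ⟨a, ha⟩)) hb)
    | zero => rw [zero_smul, smul_zero]
    | add x y _ _ hx hy => rw [add_smul, smul_add, hx, hy, add_zero]
    | smul c x _ hx => rw [smul_assoc, smul_comm, hx, smul_zero]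

end Groth.Agent.S7040
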