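import Groth.Statements.S7041
import Mathlib.LinearAlgebra.TensorProduct.Basic

set_option autoImplicit false
universe u
open TensorProduct
open LocCoh

namespace Groth.Agent.S7041

/-- Let R → R' be a homomorphism of commutative rings and I an ideal of R such that the induced map
R/I^n → R'/I^n R' is bijective for every n > 0. Then for every R-module M in which every element is
killed by a power of I, the map M → R' ⊗_R M sending m to 1 ⊗ m is bijective. -/
theorem result {R R' : Type u} [CommRing R] [CommRing R'] [Algebra R R']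
    (I : Ideal R)
    (hq : ∀ n : ℕ, 0 < n → Function.Bijective
      (Ideal.quotientMap (Ideal.map (algebraMap R R') (I ^ n)) (algebraMap R R') Ideal.le_comap_map))
    (M : Type u) [AddCommGroup M] [Module R M] (hM : LocCoh.IsPowerTorsion I M) :
    Function.Bijective (fun m : M => (1 : R') ⊗ₜ[R] m) := by
  classical
  have hinj : ∀ n, 0 < n → ∀ r : R, algebraMap R R' r ∈ Ideal.map (algebraMap R R') (I ^ n) → r ∈ I ^ n := by
    intro n hn r hr
    have h := (hq n hn).1 (a₁ := Ideal.Quotient.mk _ r) (a₂ := 0) (by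
      rw [map_zero, Ideal.quotientMap_mk, Ideal.Quotient.eq_zero_iff_mem]; exact hr)
    exact Ideal.Quotient.eq_zero_iff_mem.mp h
  have hsur : ∀ n, 0 < n → ∀ r' : R', ∃ r : R,
      algebraMap R R' r - r' ∈ Ideal.map (algebraMap R R') (I ^ n) := by
    intro n hn r'
    obtain ⟨q, hq'⟩ := (hq n hn).2 (Ideal.Quotient.mk _ r')
    obtain ⟨r, rfl⟩ := Ideal.Quotient.mk_surjective q
    rw [Ideal.quotientMap_mk, Ideal.Quotient.eq] at hq'
    exact ⟨r, hq'⟩
  have hM' : ∀ m : M, ∃ n, 0 < n ∧ ∀ a ∈ I ^ n, a • m = 0 := fun m => by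
    obtain ⟨n, hn⟩ := hM m
    exact ⟨n + 1, Nat.succ_pos n, fun a ha => hn a (Ideal.pow_le_pow_right (Nat.le_succ n) ha)⟩
  choose N hN0 hN using hM'
  choose L hL using hsur
  let f : R' → M → M := fun r' m => L (N m) (hN0 m) r' • m
  have key : ∀ (n : ℕ) (m : M) (r' : R') (r : R), 0 < n → (∀ a ∈ I ^ n, a • m = 0) →
      algebraMap R R' r - r' ∈ Ideal.map (algebraMap R R') (I ^ n) → f r' m = r • m := by
    intro n m r' r hn hnm hr
    set K := max n (N m) with hK
    have hK0 : 0 < K := lt_of_lt_of_le hn (le_max_left _ _)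
    have hmono : ∀ j, j ≤ K → Ideal.map (algebraMap R R') (I ^ K) ≤ Ideal.map (algebraMap R R') (I ^ j) :=
      fun j hj => Ideal.map_mono (Ideal.pow_le_pow_right hj)
    have hb := hL K hK0 r'
    have h1 : r - L K hK0 r' ∈ I ^ n := by
      refine hinj n hn _ ?_
      rw [map_sub, ← sub_sub_sub_cancel_right _ _ r']
      exact sub_mem hr (hmono n (le_max_left _ _) hb)
    have h2 : L (N m) (hN0 m) r' - L K hK0 r' ∈ I ^ (N m) := by
      refine hinj _ (hN0 m) _ ?_
      rw [map_sub, ← sub_sub_sub_cancel_right _ _ r']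
      exact sub_mem (hL _ (hN0 m) r') (hmono _ (le_max_right _ _) hb)
    have e1 := hnm _ h1
    have e2 := hN m _ h2
    rw [sub_smul, sub_eq_zero] at e1 e2
    exact e2.trans e1.symm
  let ψ : TensorProduct R R' M →ₗ[R] M := TensorProduct.lift (LinearMap.mk₂ R f
    (fun a b m => by
      refine (key (N m) m (a + b) (L _ (hN0 m) a + L _ (hN0 m) b) (hN0 m) (hN m) ?_).trans (add_smul _ _ _)
      rw [map_add, add_sub_add_comm]
      exact add_mem (hL _ _ a) (hL _ _ b))
    (fun c a m => by
      refine (key (N m) m (c • a) (c * L _ (hN0 m) a) (hN0 m) (hN m) ?_).trans (mul_smul _ _ _)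
      rw [map_mul, Algebra.smul_def, ← mul_sub]
      exact Ideal.mul_mem_left _ _ (hL _ _ a))
    (fun r' m₁ m₂ => by
      set K := max (N m₁) (N m₂)
      have hK0 : 0 < K := lt_of_lt_of_le (hN0 m₁) (le_max_left _ _)
      have hk₁ : ∀ a ∈ I ^ K, a • m₁ = 0 := fun a ha => hN m₁ a (Ideal.pow_le_pow_right (le_max_left _ _) ha)
      have hk₂ : ∀ a ∈ I ^ K, a • m₂ = 0 := fun a ha => hN m₂ a (Ideal.pow_le_pow_right (le_max_right _ _) ha)
      rw [key K m₁ r' _ hK0 hk₁ (hL K hK0 r'), key K m₂ r' _ hK0 hk₂ (hL K hK0 r'),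
        key K (m₁ + m₂) r' _ hK0 (fun a ha => by rw [smul_add, hk₁ a ha, hk₂ a ha, add_zero]) (hL K hK0 r'),
        smul_add])
    (fun c r' m => by
      have hk : ∀ a ∈ I ^ N m, a • c • m = 0 := fun a ha => by rw [smul_comm, hN m a ha, smul_zero]
      rw [key (N m) (c • m) r' _ (hN0 m) hk (hL _ (hN0 m) r'), smul_comm]))
  have hψ : ∀ m : M, ψ ((1 : R') ⊗ₜ[R] m) = m := by
    intro m
    refine (key (N m) m 1 1 (hN0 m) (hN m) ?_).trans (one_smul R m)
    rw [map_one, sub_self]
    exact zero_mem _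
  refine ⟨fun a b h => by rw [← hψ a, ← hψ b]; exact congrArg ψ h, fun z => ⟨ψ z, ?_⟩⟩
  induction z using TensorProduct.induction_on with
  | zero => simp
  | tmul r' m =>
    change (1 : R') ⊗ₜ[R] (L (N m) (hN0 m) r' • m) = r' ⊗ₜ[R] m
    rw [TensorProduct.tmul_smul, TensorProduct.smul_tmul', ← Algebra.algebraMap_eq_smul_one,
      ← sub_eq_zero, ← TensorProduct.sub_tmul]
    have h := hL (N m) (hN0 m) r'
    generalize algebraMap R R' (L (N m) (hN0 m) r') - r' = d at h
    suffices h' : ∀ c : R', (c * d) ⊗ₜ[R] m = 0 by simpa using h' 1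
    induction h using Submodule.span_induction with
    | mem x hx =>
      obtain ⟨a, ha, rfl⟩ := hx
      intro c
      rw [mul_comm, ← Algebra.smul_def, TensorProduct.smul_tmul, hN m a ha, TensorProduct.tmul_zero]
    | zero => intro c; simp
    | add x y _ _ hx hy => intro c; rw [mul_add, TensorProduct.add_tmul, hx, hy, add_zero]
    | smul e x _ hx => intro c; rw [smul_eq_mul, ← mul_assoc]; exact hx _
  | add x y hx hy =>
    change (1 : R') ⊗ₜ[R] ψ (x + y) = x + y
    rw [map_add, TensorProduct.tmul_add]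
    exact congrArg₂ (· + ·) hx hy

end Groth.Agent.S7041
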