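import Groth.Statements.S7042
import Groth.Agent.DR39.DC

set_option autoImplicit false
universe u
attribute [local instance] HasDerivedCategory.standard
open DRing

namespace Groth.Agent.S7042

/-- Let I be a finitely generated ideal of a commutative ring A and let M be an A-module which, placed
in degree 0, is derived complete with respect to I, and in which every element is killed by a power
of I. Then a single power of I kills M. -/
theorem result {A : Type u} [CommRing A]
    (I : Ideal A) (hI : I.FG) (M : Type u) [AddCommGroup M] [Module A M]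
    (hc : DRing.IsDerivedComplete I (Dual.inD A M)) (ht : LocCoh.IsPowerTorsion I M) :
    ∃ n : ℕ, I ^ n • (⊤ : Submodule A M) = ⊥ := by
  classical
  rw [DR39.isDerivedComplete_inD_iff] at hc
  obtain ⟨s, rfl⟩ := hI
  have hb : ∀ a : A, ∃ N : ℕ, a ∈ s → ∀ m : M, a ^ N • m = 0 := fun a => by
    by_cases ha : a ∈ s
    · obtain ⟨N, hN⟩ := DR39.DCM.bounded_torsion (hc a (Ideal.subset_span ha)) fun m => by
        obtain ⟨n, hn⟩ := ht m
        exact ⟨n, hn _ (Ideal.pow_mem_pow (Ideal.subset_span ha) n)⟩
      exact ⟨N, fun _ => hN⟩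
    · exact ⟨0, fun h => absurd h ha⟩
  choose N hN using hb
  refine ⟨s.card * s.sup N + 1, le_bot_iff.1 (Submodule.smul_le.2 fun r hr m _ => ?_)⟩
  obtain ⟨y, hy⟩ := DR39.DCM.mem_span_pow_smul s (s.sup N) (r • m)
    (Submodule.smul_mem_smul (DR39.DCM.span_pow_le s (s.sup N) hr) trivial)
  rw [Submodule.mem_bot, hy]
  refine Finset.sum_eq_zero fun a ha => ?_
  rw [← Nat.sub_add_cancel (Finset.le_sup (f := N) ha), pow_add, mul_smul, hN a ha, smul_zero]

end Groth.Agent.S7042
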