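import Groth.Statements.S7046
import Groth.Agent.DR39.DC

set_option autoImplicit false
universe u
attribute [local instance] HasDerivedCategory.standard
open DRing

namespace Groth.Agent.S7046

/-- A reduced commutative ring A which, placed in degree 0 of D(A), is derived complete with respect to
a finitely generated ideal I is I-adically complete, i.e. separated and complete for the I-adic
topology. -/
theorem result {A : Type u} [CommRing A] [IsReduced A]
    (I : Ideal A) (hI : I.FG) (hc : DRing.IsDerivedComplete I (Dual.inD A A)) :
    IsAdicComplete I A := by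
  classical
  rw [DR39.isDerivedComplete_inD_iff] at hc
  obtain ⟨s, rfl⟩ := hI
  have hJ := DR39.DCM.iInf_pow_pow_eq_bot s fun x hx => hc x (Ideal.subset_span hx)
  refine AdicCompletion.of_bijective_iff.1 ⟨AdicCompletion.of_injective_iff.2 ⟨fun x hx => ?_⟩,
    DR39.DCM.adicCompletion_of_surjective s fun x hx => hc x (Ideal.subset_span hx)⟩
  have hx' : x ∈ ⨅ n : ℕ, Ideal.span (s : Set A) ^ n := by
    rw [Submodule.mem_iInf]
    intro n
    have := SModEq.zero.1 (hx n)
    rwa [smul_eq_mul, ← Ideal.one_eq_top, mul_one] at this
  have := Ideal.pow_mem_pow hx' (2 ^ s.card)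
  rw [hJ, Ideal.mem_bot] at this
  exact eq_zero_of_pow_eq_zero this

end Groth.Agent.S7046
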