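import Groth.Statements.S7047
import Groth.Agent.DR39.DC

set_option autoImplicit false
universe u
attribute [local instance] HasDerivedCategory.standard
open DRing

namespace Groth.Agent.S7047

/-- For a commutative ring A and an object K of D(A), the set of elements f of A such that every
morphism from A_f (placed in degree 0) to any shift K[n] vanishes is a radical ideal of A. -/
theorem result {A : Type u} [CommRing A] (K : Dual.D A) :
    ∃ J : Ideal A, J.IsRadical ∧
      (J : Set A) = {f : A | ∀ n : ℤ, Subsingleton (Dual.inD A (Localization.Away f) ⟶ K⟦n⟧)} := by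
  simp_rw [DR39.subsingleton_iff_comp]
  refine ⟨⟨⟨⟨{f | ∀ n : ℤ, DR39.DCM.Comp f (Dual.HD A K n)},
    fun ha hb n => DR39.DCM.comp_add (ha n) (hb n)⟩, fun n => DR39.DCM.comp_zero⟩,
    fun c f hf n => DR39.DCM.comp_mul (hf n) c⟩, ?_, rfl⟩
  rintro f ⟨k, hk⟩ n
  exact DR39.DCM.comp_of_pow (hk n)

end Groth.Agent.S7047
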