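import Groth.Statements.S7062
import Groth.Agent.EtGlue26.Tor

set_option autoImplicit false
universe u
open EtGlue

namespace Groth.Agent.S7062

/-- For a glueing pair (R → R', f), i.e. R/f^nR → R'/f^nR' is bijective for all n > 0 and the sequence 0
→ R → R' ⊕ R_f → R'_f → 0 is exact, the group Tor_1^R(R', f^n R) vanishes for every n > 0 (Tor
computed by resolving the second argument, the ideal f^n R). -/
theorem result {R R' : Type u} [CommRing R] [CommRing R'] [Algebra R R']
    (f : R) (h : EtGlue.IsGlueingPair R R' f) (n : ℕ) (hn : 0 < n) :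
    Subsingleton (DRing.Tor R 1 R' ↥(Ideal.span ({f ^ n} : Set R))) := by
  haveI := EtGlue26.flat_loc_of_almost_free (f := f) (Submodule.subtype (Ideal.span ({f ^ n} : Set R)))
    (fun m hm => ⟨0, by rw [pow_zero, one_smul]; exact Subtype.ext hm⟩)
    ⟨n, ⟨f ^ n, Ideal.mem_span_singleton_self _⟩, rfl⟩
  exact EtGlue26.tor_one_subsingleton h _

end Groth.Agent.S7062
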