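import Groth.Statements.S7063
import Groth.Agent.EtGlue26.Tor

set_option autoImplicit false
universe u
open EtGlue

namespace Groth.Agent.S7063

/-- For a glueing pair (R → R', f), the group Tor_1^R(R', R/R[f^∞]) vanishes, where R[f^∞] is the
submodule of elements of R killed by a power of f (Tor computed by resolving the second argument). -/
theorem result {R R' : Type u} [CommRing R] [CommRing R']
    [Algebra R R'] (f : R) (h : EtGlue.IsGlueingPair R R' f) :
    Subsingleton (DRing.Tor R 1 R' (R ⧸ DRing.torsionSub (Ideal.span ({f} : Set R)) R)) := by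
  let T := DRing.torsionSub (Ideal.span ({f} : Set R)) R
  have hT : ∀ x : R, x ∈ T ↔ ∃ n : ℕ, f ^ n * x = 0 := fun x => by
    refine ⟨fun ⟨n, hn⟩ => ⟨n, hn (f ^ n) (Ideal.pow_mem_pow (Ideal.mem_span_singleton_self f) n)⟩,
      fun ⟨n, hn⟩ => ⟨n, fun a ha => ?_⟩⟩
    rw [Ideal.span_singleton_pow, Ideal.mem_span_singleton'] at ha
    obtain ⟨c, rfl⟩ := ha
    rw [smul_eq_mul, mul_assoc, hn, mul_zero]
  haveI : Module.Flat R (LocalizedModule (Submonoid.powers f) (R ⧸ T)) := by
    let q := T.mkQ
    have hbij : Function.Bijective (IsLocalizedModule.map (Submonoid.powers f)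
        (LocalizedModule.mkLinearMap (Submonoid.powers f) R)
        (LocalizedModule.mkLinearMap (Submonoid.powers f) (R ⧸ T)) q) := by
      refine ⟨(injective_iff_map_eq_zero _).2 fun x hx => ?_, IsLocalizedModule.map_surjective _ _ _ _ T.mkQ_surjective⟩
      obtain ⟨n, m, hm⟩ := EtAlg23.loc_surj (f := f) (LocalizedModule.mkLinearMap (Submonoid.powers f) R) x
      have h1 : LocalizedModule.mkLinearMap (Submonoid.powers f) (R ⧸ T) (q m) = 0 := by
        rw [← IsLocalizedModule.map_apply (Submonoid.powers f)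
          (LocalizedModule.mkLinearMap (Submonoid.powers f) R)
          (LocalizedModule.mkLinearMap (Submonoid.powers f) (R ⧸ T)) q, ← hm, map_smul, hx, smul_zero]
      obtain ⟨k, hk⟩ := (EtAlg23.loc_eq_zero_iff (f := f) _).1 h1
      rw [← map_smul] at hk
      obtain ⟨l, hl⟩ := (hT _).1 ((Submodule.Quotient.mk_eq_zero T).1 hk)
      refine EtAlg23.loc_pow_inj (f := f) (LocalizedModule.mkLinearMap (Submonoid.powers f) R) n ?_
      rw [hm, smul_zero]
      exact (EtAlg23.loc_eq_zero_iff (f := f) _).2 ⟨l + k, by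
        rw [pow_add, mul_smul, smul_eq_mul (f ^ l)]; exact hl⟩
    haveI : Module.Flat R (LocalizedModule (Submonoid.powers f) R) :=
      EtGlue26.flat_loc_of_almost_free (LinearMap.id : R →ₗ[R] R)
        (fun m hm => ⟨0, by rw [pow_zero, one_smul]; exact hm⟩) ⟨0, f ^ 0, rfl⟩
    exact Module.Flat.of_linearEquiv (LinearEquiv.ofBijective _ hbij).symm
  exact EtGlue26.tor_one_subsingleton h _

end Groth.Agent.S7063
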