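import Groth.Statements.S7065
import Mathlib.RingTheory.Spectrum.Prime.Topology

set_option autoImplicit false
universe u
open EtGlue

namespace Groth.Agent.S7065

/-- Let R → R' be a homomorphism of commutative rings and f an element of R such that the induced map
R/fR → R'/fR' is bijective. Then Spec(R') ⊔ Spec(R_f) → Spec(R) is surjective: every prime of R is
the contraction of a prime of R' or of a prime of R_f. -/
theorem result {R R' : Type u} [CommRing R] [CommRing R']
    [Algebra R R'] (f : R)
    (hq : Function.Bijective
      (Ideal.quotientMap (Ideal.map (algebraMap R R') (Ideal.span {f})) (algebraMap R R') Ideal.le_comap_map))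
    (p : PrimeSpectrum R) :
    (∃ q : PrimeSpectrum R', PrimeSpectrum.comap (algebraMap R R') q = p) ∨
      ∃ q : PrimeSpectrum (Localization.Away f), PrimeSpectrum.comap (algebraMap R (Localization.Away f)) q = p := by
  by_cases hf : f ∈ p.asIdeal
  · left
    let π : R' →+* R ⧸ p.asIdeal :=
      ((Ideal.Quotient.factor (show Ideal.span {f} ≤ p.asIdeal from
        (Ideal.span_singleton_le_iff_mem _).2 hf)).comp
        (RingEquiv.ofBijective _ hq).symm.toRingHom).comp
        (Ideal.Quotient.mk (Ideal.map (algebraMap R R') (Ideal.span {f})))
    have hπ : ∀ r, π (algebraMap R R' r) = Ideal.Quotient.mk p.asIdeal r := by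
      intro r
      simp only [π, RingHom.comp_apply, RingEquiv.toRingHom_eq_coe, RingEquiv.coe_toRingHom]
      rw [show (RingEquiv.ofBijective _ hq).symm (Ideal.Quotient.mk (Ideal.map (algebraMap R R') (Ideal.span {f}))
          (algebraMap R R' r)) = Ideal.Quotient.mk (Ideal.span {f}) r by
        rw [RingEquiv.symm_apply_eq]; exact (Ideal.quotientMap_mk (H := Ideal.le_comap_map)).symm]
      exact Ideal.Quotient.factor_mk _ _
    refine ⟨⟨RingHom.ker π, RingHom.ker_isPrime π⟩, ?_⟩
    ext r
    simp [hπ, Ideal.Quotient.eq_zero_iff_mem]
  · right
    have hp : p ∈ Set.range (PrimeSpectrum.comap (algebraMap R (Localization.Away f))) := by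
      rw [PrimeSpectrum.localization_away_comap_range (Localization.Away f) f]
      exact hf
    exact hp

end Groth.Agent.S7065
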