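import Groth.Statements.S7084
import Groth.Agent.DR40.DCNak

set_option autoImplicit false
universe u
attribute [local instance] HasDerivedCategory.standard
open CategoryTheory
open LocCoh

namespace Groth.Agent.S7084

/-- Parts (1)–(2) in the case of a module killed by a power of the ideal: let R be a commutative ring, I
an ideal and K an object of D(R) such that K ⊗^L_R R/I has no cohomology in positive degrees. Then
for every R-module N annihilated by some power of I, K ⊗^L_R N has no cohomology in positive
degrees. (The published statement allows any I-power torsion module N; this row takes N annihilated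
by a single power of I, the case the published argument carries out in full, which contains the case
N = R/I^n.) The derived tensor products with modules are total left derived functors, assumed to
exist. -/
theorem result {R : Type u} [CommRing R] (I : Ideal R)
    [DRing.HasLTensor R (ModuleCat.of R (R ⧸ I))] (K : Dual.D R)
    (hK : ∀ i : ℤ, 0 < i → Subsingleton (Dual.HD R ((DRing.LTensor R (ModuleCat.of R (R ⧸ I))).obj K) i))
    (N : Type u) [AddCommGroup N] [Module R N] (n : ℕ) (hN : I ^ n • (⊤ : Submodule R N) = ⊥)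
    [DRing.HasLTensor R (ModuleCat.of R N)] (i : ℤ) (hi : 0 < i) :
    Subsingleton (Dual.HD R ((DRing.LTensor R (ModuleCat.of R N)).obj K) i) := by
  obtain ⟨C, ⟨e⟩⟩ := Groth.Agent.DR39.exists_complex_iso K
  haveI : (Groth.Agent.DR39.SF.res C).IsKProjective := Groth.Agent.DR39.SF.isKProjective_res C
  haveI : IsIso ((Groth.Agent.DR39.QA R).map (Groth.Agent.DR39.SF.aug C)) :=
    (DerivedCategory.isIso_Q_map_iff_quasiIso (ModuleCat.{u} R) _).2 inferInstance
  have hP : DRing.IsKFlat R (Groth.Agent.DR39.SF.res C) := Groth.Agent.DR39.isKFlat_of_isKProjective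
  let eP : (Groth.Agent.DR39.QA R).obj (Groth.Agent.DR39.SF.res C) ≅ K :=
    asIso ((Groth.Agent.DR39.QA R).map (Groth.Agent.DR39.SF.aug C)) ≪≫ e
  have hex : ∀ j : ℤ, 1 ≤ j →
      Groth.Agent.DR39.ExT (Groth.Agent.DR39.SF.res C) (ModuleCat.of R (R ⧸ I)) j := fun j hj =>
    (Groth.Agent.DR39.isZero_tensorCx_iff _ _ j).1 ((Groth.Agent.DR39.isZero_HF_Q_iff _ j).1
      (((Groth.Agent.DR39.isZero_HF_iff _ j).2 (hK j (by omega))).of_iso
        ((Groth.Agent.DR39.HF R j).mapIso
          ((Groth.Agent.DR39.LTensorIso _ _ hP).symm ≪≫ (DRing.LTensor R _).mapIso eP))))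
  have hkill : ∀ a ∈ I ^ n, ∀ x : N, a • x = 0 := fun a ha x => by
    have h : a • x ∈ I ^ n • (⊤ : Submodule R N) := Submodule.smul_mem_smul ha Submodule.mem_top
    rw [hN] at h
    exact (Submodule.mem_bot R).1 h
  have hg := Groth.Agent.DR40.good_of_killed_pow hP I hex n N hkill
    (Groth.Agent.DR39.sgl (ModuleCat.of R N)) ⟨Iso.refl _⟩ i (by omega)
  rw [← Groth.Agent.DR39.isZero_HF_iff]
  refine Limits.IsZero.of_iso ((Groth.Agent.DR39.isZero_HF_Q_iff _ i).2 (Limits.IsZero.of_iso hg
    (isoOfQuasiIsoAt (Groth.Agent.DR39.toSingleTensor (Groth.Agent.DR39.SF.res C) (ModuleCat.of R N)) i)))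
    ((Groth.Agent.DR39.HF R i).mapIso ((DRing.LTensor R (ModuleCat.of R N)).mapIso eP.symm ≪≫
      Groth.Agent.DR39.LTensorIso _ _ hP))

end Groth.Agent.S7084
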