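import Groth.Statements.S7085


set_option autoImplicit false
universe u
open LocCoh

namespace Groth.Agent.S7085

/-- Let R be a commutative ring, I an ideal generated by finitely many elements f_1, …, f_t, and M an
R-module. Then: M has no nonzero element killed by I if and only if it has no nonzero element killed
by I^n for every n ≥ 1; and M has no nonzero element killed by I if and only if an element of M
vanishing in every localization M_{f_i} is zero. -/
theorem result {R : Type u} [CommRing R] {t : ℕ} (f : Fin t → R)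
    (I : Ideal R) (hI : Ideal.span (Set.range f) = I) (M : Type u) [AddCommGroup M] [Module R M] :
    (LocCoh.torsionBy I M = ⊥ ↔ ∀ n : ℕ, 1 ≤ n → LocCoh.torsionBy (I ^ n) M = ⊥) ∧
    (LocCoh.torsionBy I M = ⊥ ↔
      ∀ m : M, (∀ i : Fin t, LocalizedModule.mkLinearMap (Submonoid.powers (f i)) M m = 0) → m = 0) := by
  have mem : ∀ (J : Ideal R) (m : M), m ∈ LocCoh.torsionBy J M ↔ ∀ a ∈ J, a • m = 0 := fun J m =>
    (Submodule.mem_torsionBySet_iff (s := (J : Set R)) m).trans
      ⟨fun h a ha => h ⟨a, ha⟩, fun h a => h a.1 a.2⟩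
  have key : LocCoh.torsionBy I M = ⊥ → ∀ n : ℕ, ∀ m : M, (∀ a ∈ I ^ n, a • m = 0) → m = 0 := by
    intro h n
    induction n with
    | zero => intro m hm; simpa using hm 1 (by simp)
    | succ n ih =>
      intro m hm
      refine ih m fun a ha => ?_
      rw [← Submodule.mem_bot (R := R), ← h, mem]
      intro b hb
      rw [smul_smul]
      exact hm _ (by rw [pow_succ']; exact Ideal.mul_mem_mul hb ha)
  refine ⟨⟨fun h n _ => ?_, fun h => by simpa using h 1 le_rfl⟩, ⟨fun h m hm => ?_, fun h => ?_⟩⟩
  · rw [eq_bot_iff]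
    intro m hm
    exact key h n m ((mem _ _).mp hm)
  · have h1 : I ≤ Ideal.radical (LinearMap.ker (LinearMap.toSpanSingleton R M m)) := by
      rw [← hI, Ideal.span_le]
      rintro _ ⟨i, rfl⟩
      obtain ⟨⟨_, k, rfl⟩, hc⟩ := IsLocalizedModule.exists_of_eq (S := Submonoid.powers (f i))
        (f := LocalizedModule.mkLinearMap (Submonoid.powers (f i)) M)
        (x₁ := m) (x₂ := 0) (by rw [hm i, map_zero])
      refine ⟨k, ?_⟩
      simpa [Submonoid.smul_def] using hc
    obtain ⟨n, hn⟩ := Ideal.exists_pow_le_of_le_radical_of_fg h1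
      (by rw [← hI]; exact Submodule.fg_span (Set.finite_range f))
    exact key h n m fun a ha => by simpa using hn ha
  · rw [eq_bot_iff]
    intro m hm
    refine h m fun i => ?_
    rw [LocalizedModule.mkLinearMap_apply, ← LocalizedModule.zero_mk 1, LocalizedModule.mk_eq]
    refine ⟨⟨f i, Submonoid.mem_powers _⟩, ?_⟩
    simp only [one_smul, smul_zero]
    exact (mem _ _).mp hm _ (hI ▸ Ideal.subset_span (Set.mem_range_self i))

end Groth.Agent.S7085
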