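import Groth.Statements.S7093
import Groth.Agent.DR39.RelPerfect

set_option autoImplicit false
universe u
attribute [local instance] HasDerivedCategory.standard
open CategoryTheory CategoryTheory.Limits
open Dual2

namespace Groth.Agent.S7093

/-- For a flat homomorphism of finite presentation R → A of commutative rings, the R-perfect objects of
D(A) (pseudo-coherent over A, finite tor dimension over R) form a strictly full, saturated
triangulated subcategory: the property is a triangulated object property (contains zero, stable
under shifts and under extensions in distinguished triangles), is closed under isomorphisms, and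
passes to direct summands. -/
theorem result (R A : Type u) [CommRing R] [CommRing A] [Algebra R A]
    [Module.Flat R A] [Algebra.FinitePresentation R A] :
    ObjectProperty.IsTriangulated (C := Dual.D A) (fun K => Dual2.IsRelPerfect R A K) ∧
      ObjectProperty.IsClosedUnderIsomorphisms (C := Dual.D A) (fun K => Dual2.IsRelPerfect R A K) ∧
      ∀ X Y : Dual.D A, Dual2.IsRelPerfect R A (X ⊞ Y) → Dual2.IsRelPerfect R A X ∧ Dual2.IsRelPerfect R A Y := by
  have hiso : ObjectProperty.IsClosedUnderIsomorphisms (C := Dual.D A) (fun K => Dual2.IsRelPerfect R A K) :=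
    ⟨fun e h => DR39.relPerfect_of_iso R A h e⟩
  haveI := hiso
  refine ⟨?_, hiso, fun X Y h => ⟨DR39.relPerfect_of_retract R A h,
    DR39.relPerfect_of_retract R A (DR39.relPerfect_of_iso R A h (biprod.braiding X Y))⟩⟩
  exact
    { exists_zero := by
        obtain ⟨Z, hZ⟩ := HasZeroObject.zero (C := Dual.D A)
        exact ⟨Z, hZ, DR39.relPerfect_of_isPerfect R A (DR39.perfect_of_isZero hZ)⟩
      isStableUnderShiftBy := fun n => ⟨fun X hX => DR39.relPerfect_shift R A hX n⟩
      toIsTriangulatedClosed₂ := ObjectProperty.IsTriangulatedClosed₂.mk'
        fun T hT h₁ h₃ => DR39.relPerfect_obj₂ R A hT h₁ h₃ }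

end Groth.Agent.S7093
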