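import Groth.Statements.S7094
import Groth.Agent.DR39.FibreBound

set_option autoImplicit false
universe u
attribute [local instance] HasDerivedCategory.standard
open CategoryTheory
open Dual2

namespace Groth.Agent.S7094

/-- Let R → A be a flat homomorphism of finite presentation of commutative rings and K a pseudo-coherent
object of D(A). Then K is R-perfect if and only if H^i(K) = 0 for all sufficiently negative i and,
for each prime p of R, H^i(K ⊗^L_R κ(p)) = 0 for all sufficiently negative i; here K is viewed in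
D(R) by restriction of scalars and the derived tensor product with the residue field κ(p) is the
total left derived functor, assumed to exist. -/
theorem result (R A : Type u) [CommRing R] [CommRing A] [Algebra R A]
    [Module.Flat R A] [Algebra.FinitePresentation R A]
    [∀ p : PrimeSpectrum R, DRing.HasLTensor R (ModuleCat.of R p.asIdeal.ResidueField)]
    (K : Dual.D A) (hK : DRing.IsPseudoCoherent' A K) :
    Dual2.IsRelPerfect R A K ↔
      (∃ a : ℤ, ∀ i : ℤ, i < a → Subsingleton (Dual.HD A K i)) ∧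
        ∀ p : PrimeSpectrum R, ∃ a : ℤ, ∀ i : ℤ, i < a →
          Subsingleton (Dual.HD R ((DRing.LTensor R (ModuleCat.of R p.asIdeal.ResidueField)).obj
            ((DRing.restrictD (algebraMap R A)).obj K)) i) := by
  constructor
  · intro h
    obtain ⟨E₁, a₁, b₁, hv₁, -, ⟨e₁⟩⟩ := DR39.exists_rep_of_relPerfect R A h
    obtain ⟨⟨c, E, hEv, hEF, ⟨e⟩⟩, a, b, hta⟩ := (DR39.relPerfect_iff R A K).1 h
    refine ⟨⟨a₁, fun i hi => (DR39.isZero_HF_iff K i).1 (((DR39.isZero_HF_Q_iff E₁ i).2
        ((DR39.isZero_homology_iff E₁ i).2 fun x _ => ?_)).of_iso ((DR39.HF A i).mapIso e₁.symm))⟩,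
      fun p => ⟨a, fun i hi => ?_⟩⟩
    · haveI := ModuleCat.subsingleton_of_isZero (hv₁ i (Or.inl hi))
      exact ⟨0, Subsingleton.elim _ _⟩
    · have hk : DRing.IsKFlat R ((DRing.restrictCx (algebraMap R A)).obj E) :=
        DR39.isKFlat_of_flat c (fun i hi => (ModuleCat.restrictScalars _).map_isZero
          (((DR39.vanishesAbove_iff E c).2 hEv) i hi)) fun j => DR39.flat_restrictCx E j
            (DR39.flat_of_PR (DR39.proj_of_FF (hEF j)))
      let eR := (DR39.restrictDIso (algebraMap R A) E).symm ≪≫ (DRing.restrictD (algebraMap R A)).mapIso e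
      refine (DR39.isZero_HF_iff _ i).1 (((DR39.isZero_HF_Q_iff _ i).2
        ((hta.lowEx hk eR) (ModuleCat.of R p.asIdeal.ResidueField) i hi)).of_iso
        ((DR39.HF R i).mapIso ((DRing.LTensor R (ModuleCat.of R p.asIdeal.ResidueField)).mapIso eR.symm ≪≫
          DR39.LTensorIso (ModuleCat.of R p.asIdeal.ResidueField) _ hk)))
  · rintro ⟨⟨a, ha⟩, hfib⟩
    refine (DR39.relPerfect_iff R A K).2 ⟨(DR39.pc'_iff K).1 hK, ?_⟩
    obtain ⟨E, e0, hv, hE, ⟨e⟩⟩ := hK
    have hk : DRing.IsKFlat R ((DRing.restrictCx (algebraMap R A)).obj E) :=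
      DR39.isKFlat_of_flat e0 (fun i hi => (ModuleCat.restrictScalars _).map_isZero (hv i hi))
        fun j => DR39.flat_restrictCx E j (DR39.flat_of_PR (DR39.proj_of_FF (hE j)))
    let eR := (DR39.restrictDIso (algebraMap R A) E).symm ≪≫ (DRing.restrictD (algebraMap R A)).mapIso e
    have hGE : E.IsGE a := by
      rw [CochainComplex.isGE_iff]
      intro i hi
      rw [HomologicalComplex.exactAt_iff_isZero_homology]
      exact (DR39.isZero_HF_Q_iff E i).1 (((DR39.isZero_HF_iff K i).2 (ha i hi)).of_iso ((DR39.HF A i).mapIso e))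
    obtain ⟨N, hN⟩ := DR39.exists_ta_of_fibres (R := R) E e0 a hv hE hGE fun p => by
      obtain ⟨c, hc⟩ := hfib p
      refine ⟨c, fun i hi => (DR39.isZero_tensorCx_iff _ _ i).1 ((DR39.isZero_HF_Q_iff _ i).1
        (((DR39.isZero_HF_iff _ i).2 (hc i hi)).of_iso ((DR39.HF R i).mapIso
          ((DR39.LTensorIso (ModuleCat.of R p.asIdeal.ResidueField) _ hk).symm ≪≫
            (DRing.LTensor R (ModuleCat.of R p.asIdeal.ResidueField)).mapIso eR))))⟩
    exact ⟨N, e0, hN.of_iso eR⟩

end Groth.Agent.S7094
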