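import Groth.Statements.S7104
import Groth.Agent.DR39.TorLocal

set_option autoImplicit false
universe u
attribute [local instance] HasDerivedCategory.standard
open CategoryTheory
open Dual2

namespace Groth.Agent.S7104

/-- Let R be a commutative ring and A an R-algebra which is flat, of finite presentation, and a quotient
of the polynomial ring R[x_1, …, x_d]. Let q be a prime of A lying over the prime p of R, and K a
pseudo-coherent object of D(A). Write K_q for the derived base change of K to A_q (assumed to exist)
and view it in D(R_p) and in D(R) by restriction of scalars. If the cohomology of K_q ⊗^L_{R_p} κ(p)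
(derived tensor with the residue field, assumed to exist) vanishes outside the degrees in [a, b],
then K_q has tor amplitude in [a - d, b] as a complex of R-modules. -/
theorem result (R A : Type u) [CommRing R] [CommRing A] [Algebra R A]
    [Module.Flat R A] [Algebra.FinitePresentation R A] (d : ℕ)
    (ψ : MvPolynomial (Fin d) R →ₐ[R] A) (hψ : Function.Surjective ψ)
    (q : Ideal A) [q.IsPrime] (p : Ideal R) [p.IsPrime] (hpq : p = Ideal.comap (algebraMap R A) q)
    [DRing.HasLBaseChange (algebraMap A (Localization.AtPrime q))]
    [DRing.HasLTensor (Localization.AtPrime p) (ModuleCat.of (Localization.AtPrime p) p.ResidueField)]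
    (K : Dual.D A) (hK : DRing.IsPseudoCoherent' A K) (a b : ℤ)
    (hfib : ∀ i : ℤ, i < a ∨ b < i → Subsingleton (Dual.HD (Localization.AtPrime p)
      ((DRing.LTensor (Localization.AtPrime p) (ModuleCat.of (Localization.AtPrime p) p.ResidueField)).obj
        ((DRing.restrictD (Localization.localRingHom p q (algebraMap R A) hpq)).obj
          ((DRing.LBaseChange (algebraMap A (Localization.AtPrime q))).obj K))) i)) :
    DRing.HasTorAmplitudeIn R (a - d) b
      ((DRing.restrictD (algebraMap R (Localization.AtPrime q))).obj
        ((DRing.LBaseChange (algebraMap A (Localization.AtPrime q))).obj K)) := by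
  obtain ⟨E, e0, hv, hE, ⟨e⟩⟩ := hK
  let P := MvPolynomial (Fin d) R
  letI : Algebra P A := ψ.toRingHom.toAlgebra
  haveI : IsScalarTower R P A := IsScalarTower.of_algebraMap_eq fun r => (ψ.commutes r).symm
  haveI : Algebra.Smooth R P := ⟨inferInstanceAs (Algebra.FormallySmooth R (MvPolynomial (Fin d) R)), inferInstance⟩
  have hk : DRing.IsKFlat A E := DR39.isKFlat_of_flat e0 hv fun i => DR39.flat_of_PR (DR39.proj_of_FF (hE i))
  let el := (DRing.LBaseChange (algebraMap A (Localization.AtPrime q))).mapIso e.symm ≪≫
    DR39.LBaseChangeIso (algebraMap A (Localization.AtPrime q)) E hk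
  refine DR39.TA.of_iso (DR39.ta_localization_of_fibre (P := P) d hψ
      (fun p _ => (DR39.ringKrullDim_fibre_mvPolynomial p d).le) q p hpq E e0 hv hE a b fun i hi => ?_)
    ((DR39.restrictDIso (algebraMap R (Localization.AtPrime q)) _).symm ≪≫
      (DRing.restrictD (algebraMap R (Localization.AtPrime q))).mapIso el.symm)
  rw [← DR39.isZero_tensorCx_iff, ← DR39.isZero_HF_Q_iff]
  exact ((DR39.isZero_HF_iff _ i).2 (hfib i hi)).of_iso ((DR39.HF _ i).mapIso
    ((DR39.LTensorIso (ModuleCat.of (Localization.AtPrime p) p.ResidueField) _
      (DR39.isKFlat_res_localization q p hpq E e0 hv hE)).symm ≪≫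
      (DRing.LTensor (Localization.AtPrime p) (ModuleCat.of (Localization.AtPrime p) p.ResidueField)).mapIso
        ((DR39.restrictDIso _ _).symm ≪≫ (DRing.restrictD _).mapIso el.symm)))

end Groth.Agent.S7104
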