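import Groth.Statements.S7108
import Groth.Agent.Bass3.Free

set_option autoImplicit false
universe u
open CAlg

namespace Groth.Agent.S7108

/-- Every projective module P over a ring R becomes free after adding a suitable free module: P ⊕ F is
free for some free module F (here F is the free module on some index type). -/
theorem result (R : Type u) [CommRing R] (P : Type u) [AddCommGroup P]
    [Module R P] [Module.Projective R P] : ∃ ι : Type u, Module.Free R (P × (ι →₀ R)) := by
  classical
  obtain ⟨i, hi⟩ := Module.projective_def'.mp ‹Module.Projective R P›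
  let π := Finsupp.linearCombination R (id : P → P)
  let Q := LinearMap.ker π
  have hπ : ∀ x, π (i x) = x := fun x => LinearMap.congr_fun hi x
  let e0 : (P × Q) ≃ₗ[R] (P →₀ R) :=
    { toFun := fun x => i x.1 + x.2.1
      map_add' := fun x y => by
        simp only [Prod.fst_add, Prod.snd_add, map_add, Submodule.coe_add]; abel
      map_smul' := fun c x => by
        simp only [Prod.smul_fst, Prod.smul_snd, map_smul, SetLike.val_smul, smul_add, RingHom.id_apply]
      invFun := fun z => (π z, ⟨z - i (π z), by simp [Q, map_sub, hπ]⟩)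
      left_inv := fun x => by
        have : π (x.2 : P →₀ R) = 0 := x.2.2
        ext1
        · simp [hπ, this]
        · ext1; simp [hπ, this]
      right_inv := fun z => by simp }
  have : Infinite (P × ℕ) := Prod.infinite_of_right
  let ec : P ⊕ (P × ℕ) ≃ P × ℕ :=
    ((Equiv.prodUnique P Unit).symm.sumCongr (Equiv.refl _)).trans
      ((Equiv.prodSumDistrib P Unit ℕ).symm.trans
        ((Equiv.refl P).prodCongr ((Equiv.sumComm Unit ℕ).trans Equiv.natSumPUnitEquivNat)))
  let e : (P × (Q × (P × ℕ →₀ R))) ≃ₗ[R] (P × ℕ →₀ R) :=
    (LinearEquiv.prodAssoc R P Q _).symm.trans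
      ((e0.prodCongr (LinearEquiv.refl R _)).trans
        ((Finsupp.sumFinsuppLEquivProdFinsupp R).symm.trans (Finsupp.domLCongr ec)))
  obtain ⟨e'⟩ := Bass3.swindle (R := R) (P := P) (Q := Q × (P × ℕ →₀ R)) (ι := P × ℕ) e
  exact ⟨P × ℕ, Module.Free.of_equiv e'.symm⟩

end Groth.Agent.S7108
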