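import Groth.Statements.S7109
import Groth.Agent.Bass3.Free

set_option autoImplicit false
universe u
open CAlg

namespace Groth.Agent.S7109

/-- Let P be a projective module over a ring R and s an element of P. Then there are a finite free
module R^n and a direct summand K of R^n ⊕ P which is finite free and contains (0, s). -/
theorem result (R : Type u) [CommRing R] (P : Type u) [AddCommGroup P]
    [Module R P] [Module.Projective R P] (s : P) :
    ∃ (n : ℕ) (K K' : Submodule R ((Fin n → R) × P)), IsCompl K K' ∧ Module.Free R K ∧ Module.Finite R K ∧
      ((0, s) : (Fin n → R) × P) ∈ K := by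
  obtain ⟨n, k, ρ, τ, h, hs⟩ := Bass3.exists_finite_free_summand (R := R) s
  have hinj : Function.Injective τ := Function.LeftInverse.injective h
  exact ⟨n, LinearMap.range τ, LinearMap.ker ρ, Bass3.isCompl_of_section ρ τ h,
    Module.Free.of_equiv (LinearEquiv.ofInjective τ hinj),
    Module.Finite.equiv (LinearEquiv.ofInjective τ hinj), hs⟩

end Groth.Agent.S7109
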