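import Groth.Statements.S7113
import Groth.Agent.CAlg4.SerreLocal

set_option autoImplicit false
universe u
open CAlg

namespace Groth.Agent.S7113

/-- Let R be a ring whose set of maximal ideals, with the Zariski topology, is a Noetherian topological
space of Krull dimension at most d, and let M be an R-module of finite presentation whose
localization M_m at each maximal ideal m contains a free direct summand of rank d + 1. Then M is
isomorphic to R ⊕ M' for some M': there are s in M and a linear form φ on M with φ(s) = 1. (The
published statement takes the dimension equal to d; a space of smaller dimension satisfies the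
hypothesis for a smaller d, so the bound form is equivalent.) -/
theorem result (R : Type u) [CommRing R] (d : ℕ)
    [TopologicalSpace.NoetherianSpace (MaximalSpectrum R)]
    (hdim : topologicalKrullDim (MaximalSpectrum R) ≤ d)
    (M : Type u) [AddCommGroup M] [Module R M] [Module.FinitePresentation R M]
    (hM : ∀ (m : Ideal R) [m.IsMaximal],
      ∃ (f : (Fin (d + 1) → Localization.AtPrime m) →ₗ[Localization.AtPrime m] LocalizedModule m.primeCompl M)
        (g : LocalizedModule m.primeCompl M →ₗ[Localization.AtPrime m] (Fin (d + 1) → Localization.AtPrime m)),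
        g ∘ₗ f = LinearMap.id) :
    ∃ (s : M) (φ : M →ₗ[R] R), φ s = 1 := by
  classical
  have hfin : ∀ y : MaximalSpectrum R, d + 1 ≤
      Module.finrank (R ⧸ y.asIdeal) (Groth.Agent.CAlg4.SerreSplit.vSp y.asIdeal M) := by
    intro y
    obtain ⟨f, g, hfg⟩ := hM y.asIdeal
    choose p hp using fun i => IsLocalizedModule.surj y.asIdeal.primeCompl
      (LocalizedModule.mkLinearMap y.asIdeal.primeCompl M) (f (Pi.single i 1))
    have hind : Groth.Agent.CAlg4.SerreSplit.Ind y.asIdeal (fun i => (p i).1) := by
      refine Groth.Agent.CAlg4.SerreSplit.ind_of_localized_coords y.asIdeal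
        y.asIdeal.primeCompl (fun a ha => ha) _ g (fun i => (p i).2) fun i => ?_
      rw [← hp i, Submonoid.smul_def, LinearMap.map_smul_of_tower,
        show g (f (Pi.single i 1)) = Pi.single i 1 from LinearMap.congr_fun hfg _]
      ext j
      simp [Algebra.smul_def, Pi.single_apply]
    have : Module.Finite (R ⧸ y.asIdeal) (M ⧸ (y.asIdeal • ⊤ : Submodule R M)) :=
      Module.Finite.of_restrictScalars_finite R _ _
    let _ := Ideal.Quotient.field y.asIdeal
    simpa using LinearIndependent.fintype_card_le_finrank
      ((Groth.Agent.CAlg4.SerreSplit.linearIndependent_iff_ind _ _).mpr hind)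
  obtain ⟨t, F', hF', -, hI, hc⟩ := Groth.Agent.CAlg4.SerreSplit.serre (d + 1) 0
    (Fin.elim0 : Fin 0 → M) ∅ isClosed_empty ∅ (by simp) (fun _ => 0)
    (fun y => by simpa using hfin y) (fun y _ => fun c _ i => i.elim0)
  have hempty : F' = ∅ := by
    by_contra hne
    obtain ⟨y, hy⟩ := Set.nonempty_iff_ne_empty.mpr hne
    have h1 := hc ⟨{y}, isIrreducible_singleton, isClosed_singleton⟩
      (Set.singleton_subset_iff.mpr hy)
    have h2 : ((Order.coheight (⟨{y}, isIrreducible_singleton, isClosed_singleton⟩ :
        TopologicalSpace.IrreducibleCloseds (MaximalSpectrum R)) : ℕ∞) : WithBot ℕ∞) ≤ d :=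
      le_trans (Order.coheight_le_krullDim _) hdim
    have h3 := ((WithBot.coe_le_coe.mpr h1).trans h2)
    norm_cast at h3
    omega
  have htop : LinearMap.range (Module.Dual.eval R M t) = ⊤ := by
    by_contra hne
    obtain ⟨m, hm, hle⟩ := Ideal.exists_le_maximal _ hne
    obtain ⟨φ, hd⟩ := (Groth.Agent.CAlg4.SerreSplit.ind_iff_exists_det _ _).mp
      (hI ⟨m, hm⟩ (by simp [hempty]))
    apply hd
    have hlast : (Fin.snoc (Fin.elim0 : Fin 0 → M) t : Fin (0 + 1) → M) 0 = t :=
      Fin.snoc_last _ _
    rw [Matrix.det_fin_one, Matrix.of_apply, hlast]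
    exact hle ⟨φ 0, rfl⟩
  obtain ⟨φ, hφ⟩ := (Submodule.eq_top_iff'.mp htop) 1
  exact ⟨t, φ, hφ⟩

end Groth.Agent.S7113
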