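import Groth.Statements.S7114
import Groth.Agent.CAlg4.PowerLength
import Mathlib.RingTheory.OrderOfVanishing.Basic

set_option autoImplicit false
universe u
open CAlg

namespace Groth.Agent.S7114

/-- Let R be a Noetherian local ring of Krull dimension one and x an element of the maximal ideal lying
in no minimal prime of R. Then for every n the length of R/xⁿR is at most n times the length of
R/xR, and equality holds when x is a nonzerodivisor. -/
theorem result (R : Type u) [CommRing R] [IsNoetherianRing R] [IsLocalRing R]
    (hdim : ringKrullDim R = 1) (x : R) (hx : x ∈ IsLocalRing.maximalIdeal R)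
    (hmin : ∀ p ∈ minimalPrimes R, x ∉ p) (n : ℕ) :
    Module.length R (R ⧸ Ideal.span {x ^ n}) ≤ (n : ℕ∞) * Module.length R (R ⧸ Ideal.span {x}) ∧
      (x ∈ nonZeroDivisors R →
        Module.length R (R ⧸ Ideal.span {x ^ n}) = (n : ℕ∞) * Module.length R (R ⧸ Ideal.span {x})) := by
  constructor
  · have h := Groth.Agent.CAlg4.PowerLength.length_pow_le (fun _ : Fin 1 => x) n
    rw [Set.range_const, Ideal.span_singleton_pow] at h
    simpa [Nat.multichoose_one] using h
  · intro hnz
    simpa [Ring.ord, nsmul_eq_mul] using Ring.ord_pow hnz n

end Groth.Agent.S7114
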