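import Groth.Statements.S7116
import Groth.Agent.CAlg4.SopChoose

set_option autoImplicit false
universe u
open CAlg

namespace Groth.Agent.S7116

/-- Let R be a Noetherian local ring of Krull dimension d with maximal ideal m and let f be an element
of m contained in no minimal prime. Then there are g_1, ..., g_{d-1} in m and a natural number N
such that f, g_1, ..., g_{d-1} is a system of parameters (these d elements of m generate an ideal
with radical m) and, for every h in m^N, the elements f + h, g_1, ..., g_{d-1} again form a system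
of parameters and the lengths of R/(f, g_1, ..., g_{d-1}) and R/(f + h, g_1, ..., g_{d-1}) agree. -/
theorem result (R : Type u) [CommRing R] [IsNoetherianRing R] [IsLocalRing R]
    (d : ℕ) (hd : ringKrullDim R = d) (f : R) (hf : f ∈ IsLocalRing.maximalIdeal R)
    (hmin : ∀ p ∈ minimalPrimes R, f ∉ p) :
    ∃ (g : Fin (d - 1) → R) (N : ℕ), (∀ i, g i ∈ IsLocalRing.maximalIdeal R) ∧
      IsLocalRing.maximalIdeal R ≤ (Ideal.span (insert f (Set.range g))).radical ∧
      ∀ h ∈ IsLocalRing.maximalIdeal R ^ N,
        IsLocalRing.maximalIdeal R ≤ (Ideal.span (insert (f + h) (Set.range g))).radical ∧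
        Module.length R (R ⧸ Ideal.span (insert f (Set.range g))) =
          Module.length R (R ⧸ Ideal.span (insert (f + h) (Set.range g))) := by
  obtain ⟨g, _, hgm, hrad⟩ := Groth.Agent.CAlg4.TopLength.exists_sop_with f d hd.le hmin 1
  obtain ⟨N, hN⟩ := Ideal.exists_pow_le_of_le_radical_of_fg hrad (IsNoetherian.noetherian _)
  refine ⟨g, N + 1, hgm, hrad, fun h hh => ?_⟩
  have hmJ : h ∈ IsLocalRing.maximalIdeal R * Ideal.span (insert f (Set.range g)) := by
    rw [pow_succ'] at hh
    exact Ideal.mul_mono_right hN hh
  have heq : Ideal.span (insert (f + h) (Set.range g)) = Ideal.span (insert f (Set.range g)) := by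
    apply le_antisymm
    · rw [Ideal.span_le, Set.insert_subset_iff]
      exact ⟨add_mem (Ideal.subset_span (Set.mem_insert f _)) (Ideal.mul_le_right hmJ),
        (Set.subset_insert f _).trans Ideal.subset_span⟩
    · refine Submodule.le_of_le_smul_of_le_jacobson_bot (IsNoetherian.noetherian _)
        (IsLocalRing.maximalIdeal_le_jacobson _) ?_
      rw [Ideal.span_le, Set.insert_subset_iff]
      refine ⟨?_, fun y hy => Submodule.mem_sup_left (Ideal.subset_span (Set.mem_insert_of_mem _ hy))⟩
      exact Submodule.mem_sup.mpr ⟨f + h, Ideal.subset_span (Set.mem_insert _ _), -h,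
        neg_mem (by simpa [smul_eq_mul] using hmJ), add_neg_cancel_right f h⟩
  rw [heq]
  exact ⟨hrad, rfl⟩

end Groth.Agent.S7116
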