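import Groth.Statements.S7117
import Groth.Agent.CAlg4.TopCount

set_option autoImplicit false
universe u
open CAlg

namespace Groth.Agent.S7117

/-- Let R be a Noetherian local ring of Krull dimension d with maximal ideal m, and suppose g_1, ...,
g_d in m form a system of parameters (they generate an ideal with radical m). Then the number of
minimal prime ideals p of R with R/p of Krull dimension d is at most the length of R/(g_1, ...,
g_d). -/
theorem result (R : Type u) [CommRing R] [IsNoetherianRing R] [IsLocalRing R]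
    (d : ℕ) (hd : ringKrullDim R = d) (g : Fin d → R) (hg : ∀ i, g i ∈ IsLocalRing.maximalIdeal R)
    (hsop : IsLocalRing.maximalIdeal R ≤ (Ideal.span (Set.range g)).radical) :
    (Set.ncard {p : Ideal R | p ∈ minimalPrimes R ∧ ringKrullDim (R ⧸ p) = d} : ℕ∞) ≤
      Module.length R (R ⧸ Ideal.span (Set.range g)) := by
  classical
  have hfin : {p : Ideal R | p ∈ minimalPrimes R ∧ ringKrullDim (R ⧸ p) = d}.Finite :=
    (minimalPrimes.finite_of_isNoetherianRing R).subset fun p hp => hp.1
  let T : Finset (PrimeSpectrum R) :=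
    (hfin.preimage (f := fun q : PrimeSpectrum R => q.asIdeal)
      fun _ _ _ _ h => PrimeSpectrum.ext h).toFinset
  have hc := Groth.Agent.CAlg4.TopLength.count d (⊥ : Ideal R) g hg (by rwa [bot_sup_eq]) T
    (fun P hP => ⟨bot_le, by
      simp only [T, Set.Finite.mem_toFinset, Set.mem_preimage, Set.mem_ofPred_eq] at hP
      exact hP.2.ge⟩)
  rw [bot_sup_eq] at hc
  refine le_trans ?_ hc
  have hcard : Set.ncard {p : Ideal R | p ∈ minimalPrimes R ∧ ringKrullDim (R ⧸ p) = d} = T.card := by
    rw [← Set.ncard_coe_finset]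
    simp only [T, Set.Finite.coe_toFinset]
    exact (Set.ncard_preimage_of_injective_subset_range (f := fun q : PrimeSpectrum R => q.asIdeal)
      (fun _ _ h => PrimeSpectrum.ext h) (fun p hp => ⟨⟨p, hp.1.1.1⟩, rfl⟩)).symm
  rw [hcard, Finset.card_eq_sum_ones, Nat.cast_sum]
  refine Finset.sum_le_sum fun P _ => ?_
  rw [Nat.cast_one]
  refine Groth.Agent.CAlg4.TopLength.locLen_ne_zero _ ?_
  rw [Groth.Agent.CAlg4.TopLength.support_ring_quotient]
  exact (bot_le : (⊥ : Ideal R) ≤ P.asIdeal)

end Groth.Agent.S7117
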