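import Groth.Statements.S7121
import Groth.Agent.CAlg4.CyclicSummand
import Groth.Agent.CAlg4.BezoutFree

set_option autoImplicit false
universe u
open CAlg

namespace Groth.Agent.S7121

/-- Over a Bézout domain R, a finitely presented module M splits as R^r ⊕ M_tors for some r, and its
torsion part M_tors is a retract (direct summand) of R/f_1R ⊕ … ⊕ R/f_nR for some nonzero f_1, …,
f_n. -/
theorem result (R : Type u) [CommRing R] [IsDomain R] [IsBezout R]
    (M : Type u) [AddCommGroup M] [Module R M] [Module.FinitePresentation R M] :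
    (∃ r : ℕ, Nonempty (M ≃ₗ[R] ((Fin r → R) × Submodule.torsion R M))) ∧
      ∃ (n : ℕ) (f : Fin n → R), (∀ j, f j ≠ 0) ∧
        ∃ (i : Submodule.torsion R M →ₗ[R] ((j : Fin n) → R ⧸ Ideal.span {f j}))
          (p : ((j : Fin n) → R ⧸ Ideal.span {f j}) →ₗ[R] Submodule.torsion R M),
          p ∘ₗ i = LinearMap.id := by
  exact Groth.Agent.CAlg4.RDLifting.finitePresentation_split M
    (fun k N hN => Groth.Agent.CAlg4.BezoutFree.free_pi k N hN)

end Groth.Agent.S7121
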