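import Groth.Statements.S7134
import Groth.Agent.Ram24.FormallySmoothDVR
-- import your own Groth.Agent.* helpers here

set_option autoImplicit false
universe u
open EtAlg

namespace Groth.Agent.S7134

/-- For an injective local homomorphism A → B of discrete valuation rings, A → B is formally smooth for
the adic topology of the maximal ideal of B if and only if A → B is weakly unramified and the
residue field of B is a separable (possibly transcendental, i.e. geometrically reduced) extension of
the residue field of A. -/
theorem result (A B : Type u) [CommRing A]
    [IsDomain A] [IsDiscreteValuationRing A] [CommRing B] [IsDomain B] [IsDiscreteValuationRing B] [Algebra A B]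
    (hinj : Function.Injective (algebraMap A B)) [IsLocalHom (algebraMap A B)] :
    CAlgX.IsAdicFormallySmooth A B (IsLocalRing.maximalIdeal B) ↔
      EtRam.IsWeaklyUnramified A B ∧
        Algebra.IsGeometricallyReduced (IsLocalRing.ResidueField A) (IsLocalRing.ResidueField B) := by
  constructor
  · intro h
    have hart : IsArtinianRing (B ⧸ (IsLocalRing.maximalIdeal A).map (algebraMap A B)) := by
      have hne : (IsLocalRing.maximalIdeal A).map (algebraMap A B) ≠ ⊥ :=
        (Ideal.map_eq_bot_iff_of_injective hinj).not.mpr (IsDiscreteValuationRing.not_a_field A)
      have : Ring.KrullDimLE 0 (B ⧸ (IsLocalRing.maximalIdeal A).map (algebraMap A B)) :=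
        Ring.krullDimLE_zero_iff.mpr fun p hp => by
          have h1 : (p.comap (Ideal.Quotient.mk _)).IsPrime := Ideal.comap_isPrime _ p
          have h2 : p.comap (Ideal.Quotient.mk ((IsLocalRing.maximalIdeal A).map (algebraMap A B))) ≠ ⊥ :=
            ne_bot_of_le_ne_bot hne fun x hx => by
              rw [Ideal.mem_comap, Ideal.Quotient.eq_zero_iff_mem.mpr hx]; exact zero_mem _
          have h3 := h1.isMaximal h2
          have hf : Function.Surjective
              (Ideal.Quotient.mk ((IsLocalRing.maximalIdeal A).map (algebraMap A B))) :=
            Ideal.Quotient.mk_surjective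
          have h4 := Ideal.map_eq_top_or_isMaximal_of_surjective _ hf h3
          rw [Ideal.map_comap_of_surjective _ hf] at h4
          exact h4.resolve_left hp.ne_top
      exact IsNoetherianRing.isArtinianRing_of_krullDimLE_zero
    exact Ram24.map_maximalIdeal_eq_of_isAdicFormallySmooth hart h
  · rintro ⟨hw, hgr⟩
    have : FaithfulSMul A B := (faithfulSMul_iff_algebraMap_injective A B).mpr hinj
    have hflat : Module.Flat A B := inferInstance
    exact Ram24.isAdicFormallySmooth_of_flat hflat hw hgr

end Groth.Agent.S7134
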