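import Groth.Statements.S7141
import Groth.Agent.WE24.Field
-- import your own Groth.Agent.* helpers here

set_option autoImplicit false
universe u
open EtAlg

namespace Groth.Agent.S7141

/-- Let K be a field and, for a K-algebra A, let B_max(A) be its largest weakly étale K-subalgebra. (2)
For a K-subalgebra A' ⊆ A one has B_max(A') = B_max(A) ∩ A'. (4) The quotient map A → A_red =
A/nilradical restricts to a bijection B_max(A) → B_max(A_red). (6) If A ≠ 0 and its only idempotents
are 0 and 1, then B_max(A) is a field, algebraic and separable over K. (The published statement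
omits A ≠ 0; this row assumes it, since for A = 0 the largest weakly étale subalgebra is the zero
ring.) -/
theorem result (K : Type u) [Field K] (A : Type u) [CommRing A] [Algebra K A] :
    (∀ A' : Subalgebra K A,
      (EtAlgD.maxWeaklyEtale K A').map A'.val = EtAlgD.maxWeaklyEtale K A ⊓ A') ∧
    (Set.BijOn (Ideal.Quotient.mkₐ K (nilradical A)) (EtAlgD.maxWeaklyEtale K A)
      (EtAlgD.maxWeaklyEtale K (A ⧸ nilradical A))) ∧
    ((∀ e : A, IsIdempotentElem e → e = 0 ∨ e = 1) → Nontrivial A →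
      IsField (EtAlgD.maxWeaklyEtale K A) ∧ Algebra.IsSeparable K (EtAlgD.maxWeaklyEtale K A)) := by
  refine ⟨fun A' => ?_, Groth.Agent.WE24.bijOn_maxWeaklyEtale_quotient, fun he _ => ?_⟩
  · ext x
    simp only [Subalgebra.mem_map, Algebra.mem_inf, Groth.Agent.WE24.mem_maxWeaklyEtale_iff]
    exact ⟨fun ⟨y, hy, hyx⟩ => hyx ▸ ⟨(Groth.Agent.WE24.isSeparable_coe_iff A' y).mpr hy, y.2⟩,
      fun ⟨h1, h2⟩ => ⟨⟨x, h2⟩, (Groth.Agent.WE24.isSeparable_coe_iff A' ⟨x, h2⟩).mp h1, rfl⟩⟩
  · exact ⟨Groth.Agent.WE24.isField_maxWeaklyEtale he, ⟨fun x =>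
      (Groth.Agent.WE24.isSeparable_coe_iff _ x).mp (Groth.Agent.WE24.mem_maxWeaklyEtale_iff.mp x.2)⟩⟩

end Groth.Agent.S7141
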