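import Groth.Statements.S7143
import Mathlib
-- import your own Groth.Agent.* helpers here

set_option autoImplicit false
universe u
open CategoryTheory
open EtAlg

namespace Groth.Agent.S7143

/-- Every normal domain A with fraction field K is the fibre product V ×_L K for suitable rings V and L
with maps A → V, V → L, K → L (together with the given A → K), where every ideal of V is flat (weak
dimension at most one) and V → L is flat, injective and an epimorphism of rings. -/
theorem result (A K : Type u) [CommRing A] [IsDomain A] [Field K] [Algebra A K]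
    [IsFractionRing A K] [IsIntegrallyClosed A] :
    ∃ (V L : Type u) (_ : CommRing V) (_ : CommRing L) (f : A →+* V) (g : V →+* L) (h : K →+* L),
      g.comp f = h.comp (algebraMap A K) ∧
      (∀ I : Ideal V, Module.Flat V I) ∧ g.Flat ∧ Function.Injective g ∧ Epi (CommRingCat.ofHom g) ∧
      ∀ (v : V) (k : K), g v = h k → ∃! a : A, f a = v ∧ algebraMap A K a = k := by
  classical
  let ι := {V : ValuationSubring K // Set.range (algebraMap A K) ⊆ V.toSubring}
  let V := ∀ i : ι, i.1
  let L := ι → K
  let f : A →+* V := RingHom.pi fun i : ι => (algebraMap A K).codRestrict i.1 fun a => i.2 ⟨a, rfl⟩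
  let g : V →+* L := RingHom.pi fun i : ι => (i.1.subtype).comp (Pi.evalRingHom _ i)
  let h : K →+* L := RingHom.pi fun _ => RingHom.id K
  let _ : Algebra V L := g.toAlgebra
  have hginj : Function.Injective g := fun v w e => funext fun i => Subtype.ext (congrFun e i)
  let M : Submonoid V :=
    { carrier := {v | ∀ i, v i ≠ 0}
      one_mem' := fun i => one_ne_zero
      mul_mem' := fun ha hb i => mul_ne_zero (ha i) (hb i) }
  have hloc : IsLocalization M L := by
    constructor
    · constructor
      · rintro ⟨v, hv⟩
        exact Pi.isUnit_iff.mpr fun i =>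
          isUnit_iff_ne_zero.mpr fun e => hv i (Subtype.ext e)
      · intro z
        have : ∀ i : ι, ∃ a b : i.1, b ≠ 0 ∧ z i * (b : K) = a := by
          intro i
          rcases i.1.mem_or_inv_mem (z i) with hz | hz
          · exact ⟨⟨z i, hz⟩, 1, one_ne_zero, mul_one _⟩
          · by_cases h0 : z i = 0
            · exact ⟨0, 1, one_ne_zero, by simp [h0]⟩
            · exact ⟨1, ⟨(z i)⁻¹, hz⟩, fun e => inv_ne_zero h0 (congrArg Subtype.val e),
                mul_inv_cancel₀ h0⟩
        choose a b hb hab using this
        exact ⟨(a, ⟨b, hb⟩), funext hab⟩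
      · intro v w e
        exact ⟨1, congrArg (((1 : M) : V) * ·) (hginj e)⟩
  refine ⟨V, L, inferInstance, inferInstance, f, g, h, rfl, ?_, ?_, hginj, ?_, ?_⟩
  · intro I
    rw [Module.Flat.iff_forall_isTrivialRelation]
    intro l r x hx
    -- a common generator, componentwise
    have hgen : ∀ i : ι, ∃ c : i.1, (∀ j, ∃ t, (x j : V) i = t * c) ∧
        ∃ s : Fin l → i.1, c = ∑ j, s j * (x j : V) i := by
      intro i
      obtain ⟨c, hc⟩ := (IsBezout.isPrincipal_of_FG
        (Ideal.span (Set.range fun j => (x j : V) i)) (Submodule.fg_span (Set.finite_range _))).principal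
      refine ⟨c, fun j => ?_, ?_⟩
      · have : (x j : V) i ∈ Submodule.span i.1 {c} := hc ▸ Submodule.subset_span ⟨j, rfl⟩
        obtain ⟨t, ht⟩ := Submodule.mem_span_singleton.mp this
        exact ⟨t, ht.symm⟩
      · have : c ∈ Ideal.span (Set.range fun j => (x j : V) i) :=
          hc ▸ Submodule.mem_span_singleton_self c
        obtain ⟨s, hs⟩ := Submodule.mem_span_range_iff_exists_fun _ |>.mp this
        exact ⟨s, hs.symm⟩
    choose c ht0 s hs using hgen
    choose t ht using ht0
    have hc : (fun i => c i : V) ∈ I := by
      have : (fun i => c i : V) = ∑ j, (fun i => s i j : V) * (x j : V) := funext fun i => by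
        rw [hs i, Finset.sum_apply]; rfl
      rw [this]
      exact I.sum_mem fun j _ => I.mul_mem_left _ (x j).2
    let u : V := fun i => if c i = 0 then 0 else 1
    have hu : ∀ i, u i * c i = c i := fun i => by
      by_cases h0 : c i = 0 <;> simp [u, h0]
    refine ⟨1, fun j _ => u * fun i => t i j, fun _ => ⟨fun i => c i, hc⟩, fun j => ?_, fun _ => ?_⟩
    · refine Subtype.ext (funext fun i => ?_)
      rw [Fin.sum_univ_one]
      show (x j : V) i = u i * t i j * c i
      rw [ht i j, mul_right_comm, hu, mul_comm]
    · funext i
      have h0 := congrFun (congrArg Subtype.val hx) i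
      simp only [Submodule.coe_sum, Finset.sum_apply, Submodule.coe_smul,
        smul_eq_mul, ZeroMemClass.coe_zero, Pi.zero_apply] at h0
      rw [Finset.sum_apply]
      show ∑ j, r j i * (u i * t i j) = 0
      by_cases hci : c i = 0
      · refine Finset.sum_eq_zero fun j _ => ?_
        rw [show u i = 0 from if_pos hci, zero_mul, mul_zero]
      · refine mul_right_cancel₀ hci ?_
        have h0' : ∑ j, r j i * (x j : V) i = 0 := h0
        rw [zero_mul, ← h0', Finset.sum_mul]
        refine Finset.sum_congr rfl fun j _ => ?_
        rw [mul_assoc, mul_right_comm (u i), hu, ht i j, mul_comm (c i)]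
  · show Module.Flat V L
    exact IsLocalization.flat L M
  · exact IsLocalization.epi M L
  · intro v k hvk
    have hk : k ∈ ⨅ i : ι, i.1.toSubring := Subring.mem_iInf.mpr fun i => by
      have : (v i : K) = k := congrFun hvk i
      exact this ▸ (v i).2
    rw [iInf_valuationSubring_superset] at hk
    have hcl : Subring.closure (Set.range (algebraMap A K)) = (algebraMap A K).range := by
      rw [← RingHom.coe_range, Subring.closure_eq]
    rw [hcl] at hk
    let _ : Algebra A (algebraMap A K).range := (algebraMap A K).rangeRestrict.toAlgebra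
    have : IsScalarTower A (algebraMap A K).range K := .of_algebraMap_eq fun _ => rfl
    have : Algebra.IsIntegral A (algebraMap A K).range := ⟨fun y => by
      obtain ⟨a, rfl⟩ := (algebraMap A K).rangeRestrict_surjective y
      exact isIntegral_algebraMap⟩
    obtain ⟨a, ha⟩ := IsIntegrallyClosed.algebraMap_eq_of_integral (R := A)
      (isIntegral_trans (A := (algebraMap A K).range) k hk)
    refine ⟨a, ⟨funext fun i => Subtype.ext ?_, ha⟩, fun b hb => ?_⟩
    · show algebraMap A K a = v i
      rw [ha]; exact (congrFun hvk i).symm
    · exact IsFractionRing.injective A K (hb.2.trans ha.symm)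

end Groth.Agent.S7143
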