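import Groth.Statements.S7144
import Mathlib.RingTheory.Bezout
import Mathlib.Tactic.Ring

set_option autoImplicit false
universe u
open CAlg

namespace Groth.Agent.S7144

/-- (1) ⇔ (2): let R be a nonzero ring. Then for all a, b in R one of a, b divides the other if and only
if R is local and every finitely generated ideal of R is principal. (The further equivalence with
the total ordering of the set of ideals by inclusion is standard and not restated here.) -/
theorem result (R : Type u) [CommRing R] [Nontrivial R] :
    PreValuationRing R ↔ IsLocalRing R ∧ IsBezout R := by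
  constructor
  · intro h
    refine ⟨IsLocalRing.of_nonunits_add ?_, IsBezout.iff_span_pair_isPrincipal.mpr fun x y => ?_⟩
    · intro a b ha hb
      obtain ⟨c, hc⟩ := PreValuationRing.cond a b
      rcases hc with rfl | rfl
      · exact fun hu => ha (isUnit_of_mul_isUnit_left (x := a) (y := 1 + c) (by rwa [mul_add, mul_one]))
      · exact fun hu => hb (isUnit_of_mul_isUnit_left (x := b) (y := c + 1) (by rwa [mul_add, mul_one]))
    · obtain ⟨c, hc⟩ := PreValuationRing.cond x y
      rcases hc with rfl | rfl
      · refine ⟨x, le_antisymm (Ideal.span_le.mpr ?_) (Ideal.span_mono (by simp))⟩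
        rintro z (rfl | rfl)
        exacts [Submodule.mem_span_singleton_self _, Submodule.mem_span_singleton.mpr ⟨c, mul_comm c x⟩]
      · refine ⟨y, le_antisymm (Ideal.span_le.mpr ?_) (Ideal.span_mono (by simp))⟩
        rintro z (rfl | rfl)
        exacts [Submodule.mem_span_singleton.mpr ⟨c, mul_comm c y⟩, Submodule.mem_span_singleton_self _]
  · rintro ⟨hloc, hbez⟩
    refine ⟨fun a b => ?_⟩
    obtain ⟨g, hg⟩ := (IsBezout.iff_span_pair_isPrincipal.mp hbez a b).1
    obtain ⟨x, hx⟩ := Submodule.mem_span_singleton.mp (hg ▸ Ideal.subset_span (Set.mem_insert a {b}) :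
      a ∈ Submodule.span R {g})
    obtain ⟨y, hy⟩ := Submodule.mem_span_singleton.mp
      (hg ▸ Ideal.subset_span (Set.mem_insert_of_mem a rfl) : b ∈ Submodule.span R {g})
    obtain ⟨p, q, hpq⟩ := Ideal.mem_span_pair.mp
      (hg ▸ Submodule.mem_span_singleton_self g : g ∈ Ideal.span {a, b})
    rw [smul_eq_mul] at hx hy
    rcases IsLocalRing.isUnit_or_isUnit_of_add_one
        (show (1 - (p * x + q * y)) + (p * x + q * y) = 1 by ring) with h | h
    · have h0 : g = 0 := by
        have : (1 - (p * x + q * y)) * g = 0 := by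
          rw [sub_mul, one_mul, add_mul, mul_assoc, mul_assoc, hx, hy, hpq, sub_self]
        exact h.mul_right_eq_zero.mp this
      exact ⟨0, Or.inl (by rw [← hx, ← hy, h0]; simp)⟩
    · rcases IsLocalRing.isUnit_or_isUnit_of_isUnit_add h with h | h
      · obtain ⟨v, hv⟩ := isUnit_of_mul_isUnit_right h
        exact ⟨(↑v⁻¹ : R) * y, Or.inl (by rw [← hx, ← hy, ← hv]; calc
          (v : R) * g * ((↑v⁻¹ : R) * y) = ((v : R) * (↑v⁻¹ : R)) * (y * g) := by ring
          _ = y * g := by simp)⟩
      · obtain ⟨v, hv⟩ := isUnit_of_mul_isUnit_right h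
        exact ⟨(↑v⁻¹ : R) * x, Or.inr (by rw [← hx, ← hy, ← hv]; calc
          (v : R) * g * ((↑v⁻¹ : R) * x) = ((v : R) * (↑v⁻¹ : R)) * (x * g) := by ring
          _ = x * g := by simp)⟩

end Groth.Agent.S7144
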