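import Groth.Statements.S7146
import Groth.Agent.CAlg4.TopCount
import Groth.Agent.CAlg4.PowerLength
import Mathlib.Analysis.SpecificLimits.Basic

set_option autoImplicit false
universe u
open Filter
open CAlg

namespace Groth.Agent.S7146

/-- Let R be a Noetherian local ring of Krull dimension d and I the ideal generated by a system of
parameters g_1, ..., g_d (d elements of the maximal ideal generating an ideal with radical the
maximal ideal); let e_I be the multiplicity of I, i.e. d! times the top coefficient of the numerical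
polynomial n ↦ length(R/I^(n+1)), equivalently the limit of d!·length(R/Iⁿ)/n^d. Then e_I ≤
length(R/I). (Stated for a natural number e equal to that limit.) -/
theorem result (R : Type u) [CommRing R] [IsNoetherianRing R] [IsLocalRing R]
    (d : ℕ) (hd : ringKrullDim R = d) (g : Fin d → R) (hg : ∀ i, g i ∈ IsLocalRing.maximalIdeal R)
    (hsop : IsLocalRing.maximalIdeal R ≤ (Ideal.span (Set.range g)).radical) (e : ℕ)
    (he : Tendsto (fun n : ℕ => (d.factorial : ℝ) * ((Module.length R (R ⧸ Ideal.span (Set.range g) ^ n)).toNat : ℝ) / (n : ℝ) ^ d)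
      atTop (nhds (e : ℝ))) :
    (e : ℕ∞) ≤ Module.length R (R ⧸ Ideal.span (Set.range g)) := by
  set L := Module.length R (R ⧸ Ideal.span (Set.range g)) with hLdef
  have hL : L ≠ ⊤ := Groth.Agent.CAlg4.TopLength.length_quotient_ne_top _ hsop
  lift L to ℕ using hL with l hl
  refine Nat.cast_le.mpr ?_
  suffices (e : ℝ) ≤ (l : ℝ) by exact_mod_cast this
  have hlim : Tendsto (fun n : ℕ => (l : ℝ) * (1 + (d : ℝ) / n) ^ d) atTop (nhds (l : ℝ)) := by
    have h0 := ((tendsto_const_div_atTop_nhds_zero_nat (d : ℝ)).const_add (1 : ℝ)).pow d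
    simpa using h0.const_mul (l : ℝ)
  refine le_of_tendsto_of_tendsto he hlim ?_
  filter_upwards [eventually_gt_atTop 0] with n hn
  have h1 := Groth.Agent.CAlg4.PowerLength.length_pow_le g n
  rw [← hLdef, ← Nat.cast_mul] at h1
  have h2 : (Module.length R (R ⧸ Ideal.span (Set.range g) ^ n)).toNat ≤
      (∑ j ∈ Finset.range n, Nat.multichoose d j) * l := by
    exact (ENat.toNat_le_toNat h1 (ENat.natCast_ne_top _)).trans_eq (ENat.toNat_natCast _)
  have h3 : d.factorial * (∑ j ∈ Finset.range n, Nat.multichoose d j) ≤ (n + d) ^ d := by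
    refine (Nat.mul_le_mul_left _ (Groth.Agent.CAlg4.PowerLength.sum_multichoose d n)).trans ?_
    rw [Nat.multichoose_eq, show d + 1 + (n - 1) - 1 = n - 1 + d by omega,
      Nat.choose_symm_add, ← Nat.descFactorial_eq_factorial_mul_choose]
    exact (Nat.descFactorial_le_pow _ _).trans (Nat.pow_le_pow_left (by omega) _)
  have h4 : (d.factorial : ℝ) * ((Module.length R (R ⧸ Ideal.span (Set.range g) ^ n)).toNat : ℝ) ≤
      (l : ℝ) * ((n : ℝ) + d) ^ d := by
    have := (Nat.mul_le_mul_left d.factorial h2).trans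
      ((le_of_eq (mul_assoc _ _ _).symm).trans (Nat.mul_le_mul_right l h3))
    calc _ = ((d.factorial * (Module.length R (R ⧸ Ideal.span (Set.range g) ^ n)).toNat : ℕ) : ℝ) := by
          push_cast; rfl
      _ ≤ (((n + d) ^ d * l : ℕ) : ℝ) := by exact_mod_cast this
      _ = _ := by push_cast; ring
  have hn' : (0 : ℝ) < n := by exact_mod_cast hn
  rw [div_le_iff₀ (pow_pos hn' d), mul_assoc, ← mul_pow, add_mul, one_mul,
    div_mul_cancel₀ _ hn'.ne']
  exact h4

end Groth.Agent.S7146
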