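import Groth.Statements.S7150
import Mathlib
import Groth.Agent.Sep12.Basic
-- import your own Groth.Agent.* helpers here

set_option autoImplicit false
universe u
open EtAlg

namespace Groth.Agent.S7150

/-- Suppose p is a prime with p·1 = 0 in the local ring A and some power of the maximal ideal of A is
zero. Then the residue map A → κ_A has a section σ : κ_A → A that is a ring map. If moreover A → A'
is a local homomorphism to another local ring whose maximal ideal has a vanishing power, and the
residue field extension κ_{A'}/κ_A is separable (possibly transcendental, i.e. geometrically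
reduced), then for any such σ there is a section σ' : κ_{A'} → A' compatible with σ. -/
theorem result (p : ℕ) (hp : p.Prime) (A : Type u) [CommRing A]
    [IsLocalRing A] [CharP A p] (hnil : ∃ n : ℕ, IsLocalRing.maximalIdeal A ^ n = ⊥) :
    (∃ σ : IsLocalRing.ResidueField A →+* A, (IsLocalRing.residue A).comp σ = RingHom.id _) ∧
    ∀ (A' : Type u) [CommRing A'] [IsLocalRing A'] [Algebra A A'] [IsLocalHom (algebraMap A A')],
      (∃ n : ℕ, IsLocalRing.maximalIdeal A' ^ n = ⊥) →
      Algebra.IsGeometricallyReduced (IsLocalRing.ResidueField A) (IsLocalRing.ResidueField A') →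
      ∀ σ : IsLocalRing.ResidueField A →+* A, (IsLocalRing.residue A).comp σ = RingHom.id _ →
        ∃ σ' : IsLocalRing.ResidueField A' →+* A', (IsLocalRing.residue A').comp σ' = RingHom.id _ ∧
          σ'.comp (IsLocalRing.ResidueField.map (algebraMap A A')) = (algebraMap A A').comp σ := by
  have nil : ∀ (R : Type u) [CommRing R] [IsLocalRing R],
      (∃ n : ℕ, IsLocalRing.maximalIdeal R ^ n = ⊥) → ∀ {P : Type u} [CommRing P] [Algebra P R]
        [Algebra P (IsLocalRing.ResidueField R)] [Algebra.FormallySmooth P (IsLocalRing.ResidueField R)]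
        (f : R →ₐ[P] IsLocalRing.ResidueField R), (f : R →+* _) = IsLocalRing.residue R →
        ∃ s : IsLocalRing.ResidueField R →ₐ[P] R, f.comp s = AlgHom.id P _ := by
    intro R _ _ hn P _ _ _ _ f hf
    have hsurj : Function.Surjective f := fun y => by
      obtain ⟨x, hx⟩ := IsLocalRing.residue_surjective y
      exact ⟨x, by rw [← hx, ← hf]; rfl⟩
    have hker : IsNilpotent (RingHom.ker (f : R →+* IsLocalRing.ResidueField R)) := by
      obtain ⟨n, hn⟩ := hn
      refine ⟨n, ?_⟩
      rw [hf, IsLocalRing.ker_residue, hn, Ideal.zero_eq_bot]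
    exact ⟨Algebra.FormallySmooth.liftOfSurjective (AlgHom.id P _) f hsurj hker,
      Algebra.FormallySmooth.comp_liftOfSurjective _ _ _ _⟩
  refine ⟨?_, fun A' _ _ _ _ hnil' hgr σ hσ => ?_⟩
  · have : Fact p.Prime := ⟨hp⟩
    have hκ : CharP (IsLocalRing.ResidueField A) p :=
      (CharP.charP_iff_prime_eq_zero hp).mpr (by
        rw [← map_natCast (IsLocalRing.residue A), CharP.cast_eq_zero, map_zero])
    let _ : Algebra (ZMod p) A := ZMod.algebra A p
    let _ : Algebra (ZMod p) (IsLocalRing.ResidueField A) :=
      ((IsLocalRing.residue A).comp (algebraMap (ZMod p) A)).toAlgebra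
    let P := ULift.{u} (ZMod p)
    let _ : Field P := ULift.field
    have : Finite P := inferInstance
    let _ : Algebra P A := ((algebraMap (ZMod p) A).comp ULift.ringEquiv.toRingHom).toAlgebra
    let _ : Algebra P (IsLocalRing.ResidueField A) :=
      ((IsLocalRing.residue A).comp (algebraMap P A)).toAlgebra
    have : Algebra.FormallySmooth P (IsLocalRing.ResidueField A) :=
      Groth.Agent.Sep12.formallySmooth_of_perfectField P (IsLocalRing.ResidueField A)
    let f : A →ₐ[P] IsLocalRing.ResidueField A :=
      { IsLocalRing.residue A with commutes' := fun r => rfl }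
    obtain ⟨s, hs⟩ := nil A hnil f rfl
    exact ⟨s.toRingHom, RingHom.ext fun x => DFunLike.congr_fun hs x⟩
  · have := Groth.Agent.Sep12.formallySmooth_iff_isGeometricallyReduced.mpr hgr
    let _ : Algebra (IsLocalRing.ResidueField A) A' := ((algebraMap A A').comp σ).toAlgebra
    let f : A' →ₐ[IsLocalRing.ResidueField A] IsLocalRing.ResidueField A' :=
      { IsLocalRing.residue A' with
        commutes' := fun r => by
          show IsLocalRing.residue A' (algebraMap A A' (σ r)) = algebraMap _ _ r
          conv_rhs => rw [← show IsLocalRing.residue A (σ r) = r from DFunLike.congr_fun hσ r]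
          rfl }
    obtain ⟨s, hs⟩ := nil A' hnil' f rfl
    refine ⟨s.toRingHom, RingHom.ext fun x => DFunLike.congr_fun hs x, RingHom.ext fun x => ?_⟩
    exact s.commutes x

end Groth.Agent.S7150
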