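import Groth.Statements.S7153
import Groth.Agent.CAlg4.ArtinRees

set_option autoImplicit false
universe u
open CAlg

namespace Groth.Agent.S7153

/-- Let A be a Noetherian ring, I an ideal and K → L → M a complex of finite A-modules with maps α, β
and homology H = Ker β / Im α; for n ≥ 0 let H_n be the homology of the induced complex K/IⁿK →
L/IⁿL → M/IⁿM, which is β⁻¹(IⁿM)/(Im α + IⁿL). Then there is c > 0 such that for every n: (i) the
image of H_(n+c) → H_n is contained in, hence equal to, the image of H → H_n; (ii) the kernel and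
the cokernel of H/IⁿH → H_n are annihilated by I^c. Everything is phrased with representatives in L. -/
theorem result (A : Type u) [CommRing A] [IsNoetherianRing A] (I : Ideal A)
    (K L M : Type u) [AddCommGroup K] [Module A K] [Module.Finite A K] [AddCommGroup L] [Module A L]
    [Module.Finite A L] [AddCommGroup M] [Module A M] [Module.Finite A M]
    (α : K →ₗ[A] L) (β : L →ₗ[A] M) (hαβ : β ∘ₗ α = 0) :
    ∃ c : ℕ, 0 < c ∧ ∀ n : ℕ,
      (∀ y ∈ (I ^ (n + c) • ⊤ : Submodule A M).comap β,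
        ∃ z ∈ LinearMap.ker β, y - z ∈ LinearMap.range α ⊔ (I ^ n • ⊤ : Submodule A L)) ∧
      (∀ z ∈ LinearMap.ker β, z ∈ LinearMap.range α ⊔ (I ^ n • ⊤ : Submodule A L) →
        ∀ a ∈ I ^ c, a • z ∈ LinearMap.range α ⊔ I ^ n • LinearMap.ker β) ∧
      (∀ y ∈ (I ^ n • ⊤ : Submodule A M).comap β, ∀ a ∈ I ^ c,
        ∃ z ∈ LinearMap.ker β, a • y - z ∈ LinearMap.range α ⊔ (I ^ n • ⊤ : Submodule A L)) := by
  obtain ⟨c₁, h₁⟩ := Groth.Agent.CAlg4.AR.exists_preimage I β
  obtain ⟨c₂, h₂⟩ := Groth.Agent.CAlg4.AR.exists_inf_le I (LinearMap.ker β)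
  refine ⟨c₁ + c₂ + 1, by omega, fun n => ⟨?_, ?_, ?_⟩⟩
  · intro y hy
    obtain ⟨z, hz, hzy⟩ := h₁ n y
      (Submodule.smul_mono_left (Ideal.pow_le_pow_right (by omega)) hy)
    refine ⟨y - z, by simp [hzy], Submodule.mem_sup_right ?_⟩
    simpa using hz
  · intro z hz hz' a ha
    obtain ⟨_, ⟨k, rfl⟩, w, hw, rfl⟩ := Submodule.mem_sup.mp hz'
    have hwk : w ∈ LinearMap.ker β := by
      have := LinearMap.congr_fun hαβ k
      simp only [LinearMap.comp_apply, LinearMap.zero_apply] at this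
      simpa [LinearMap.mem_ker, this] using hz
    rw [smul_add]
    refine Submodule.add_mem_sup ((LinearMap.range α).smul_mem a ⟨k, rfl⟩) (h₂ n ⟨?_, ?_⟩)
    · rw [Nat.add_comm, pow_add, mul_smul]
      exact Submodule.smul_mem_smul (Ideal.pow_le_pow_right (by omega) ha) hw
    · exact (LinearMap.ker β).smul_mem a hwk
  · intro y hy a ha
    obtain ⟨z, hz, hzy⟩ := h₁ n (a • y) (by
      rw [map_smul, Nat.add_comm, pow_add, mul_smul]
      exact Submodule.smul_mem_smul (Ideal.pow_le_pow_right (by omega) ha) hy)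
    refine ⟨a • y - z, by simp [hzy], Submodule.mem_sup_right ?_⟩
    simpa using hz

end Groth.Agent.S7153
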