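import Groth.Statements.S7154
import Groth.Agent.Epp23.Reduce
import Mathlib.FieldTheory.PurelyInseparable.Exponent

set_option autoImplicit false
universe u
open EtAlg

namespace Groth.Agent.S7154

set_option linter.style.haveILetI false

/-- Let A → B → C be injective local homomorphisms of discrete valuation rings whose fields of fractions
are K ⊆ L ⊆ M, where A and B are complete, A → B is weakly unramified, M/L is finite, and the
residue field k of A is an algebraically closed field of characteristic p > 0 which, inside the
residue field κ_B of B, is exactly the set of elements admitting a pⁿ-th root for every n. Then some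
finite extension K₁/K is a weak solution for A → C. -/
theorem result (p : ℕ) (hp : p.Prime) (A B C K L M : Type u)
    [CommRing A] [IsDomain A] [IsDiscreteValuationRing A] [CommRing B] [IsDomain B] [IsDiscreteValuationRing B]
    [CommRing C] [IsDomain C] [IsDiscreteValuationRing C]
    [Algebra A B] [Algebra B C] [Algebra A C] [IsScalarTower A B C]
    (hAB : Function.Injective (algebraMap A B)) (hBC : Function.Injective (algebraMap B C))
    [IsLocalHom (algebraMap A B)] [IsLocalHom (algebraMap B C)]
    [Field K] [Field L] [Field M] [Algebra A K] [IsFractionRing A K] [Algebra B L] [IsFractionRing B L]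
    [Algebra C M] [IsFractionRing C M] [Algebra K L] [Algebra L M] [Algebra K M] [IsScalarTower K L M]
    [Algebra A L] [IsScalarTower A K L] [IsScalarTower A B L] [Algebra B M] [IsScalarTower B L M] [IsScalarTower B C M]
    [Algebra A M] [IsScalarTower A K M] [IsScalarTower A C M]
    [IsAlgClosed (IsLocalRing.ResidueField A)] [CharP (IsLocalRing.ResidueField A) p]
    [IsAdicComplete (IsLocalRing.maximalIdeal A) A] [IsAdicComplete (IsLocalRing.maximalIdeal B) B]
    (hw : EtRam.IsWeaklyUnramified A B) [FiniteDimensional L M]
    (hk : ∀ x : IsLocalRing.ResidueField B, (∀ n : ℕ, ∃ y : IsLocalRing.ResidueField B, y ^ (p ^ n) = x) ↔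
      x ∈ Set.range (algebraMap (IsLocalRing.ResidueField A) (IsLocalRing.ResidueField B))) :
    ∃ (K₁ : Type u) (_ : Field K₁) (_ : Algebra K K₁), FiniteDimensional K K₁ ∧ EtRam.IsWeakSolution C K M K₁ := by
  classical
  haveI : Fact p.Prime := ⟨hp⟩
  haveI : IsLocalHom (algebraMap A C) := by
    rw [IsScalarTower.algebraMap_eq A B C]; exact RingHom.isLocalHom_comp _ _
  have hAC : Function.Injective (algebraMap A C) := by
    rw [IsScalarTower.algebraMap_eq A B C]; exact hBC.comp hAB
  obtain ⟨hfin, -⟩ := Dvr24.finite_and_mul_le (A := B) (B := C) (K := L) (L := M) hBC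
  haveI := hfin
  haveI : CharP (IsLocalRing.ResidueField B) p :=
    charP_of_injective_algebraMap (algebraMap (IsLocalRing.ResidueField A) _).injective p
  haveI : CharP (IsLocalRing.ResidueField C) p :=
    charP_of_injective_algebraMap (algebraMap (IsLocalRing.ResidueField A) _).injective p
  have hres : ∀ q : ℕ, q.Prime → CharP (IsLocalRing.ResidueField A) q →
      ∀ x : IsLocalRing.ResidueField C, (∀ n : ℕ, ∃ y : IsLocalRing.ResidueField C, y ^ (q ^ n) = x) →
        IsSeparable (IsLocalRing.ResidueField A) x := by
    intro q hq hqA x hx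
    obtain rfl : q = p := @CharP.eq (IsLocalRing.ResidueField A) _ _ _ hqA ‹CharP (IsLocalRing.ResidueField A) p›
    haveI : IsScalarTower (IsLocalRing.ResidueField A) (IsLocalRing.ResidueField B)
        (IsLocalRing.ResidueField C) := .of_algebraMap_eq fun a => by
      obtain ⟨a, rfl⟩ := IsLocalRing.residue_surjective a
      exact congrArg (IsLocalRing.residue C) (IsScalarTower.algebraMap_apply A B C a)
    haveI : ExpChar (IsLocalRing.ResidueField B) q := ExpChar.prime hq
    let T := separableClosure (IsLocalRing.ResidueField B) (IsLocalRing.ResidueField C)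
    haveI : ExpChar T q :=
      expChar_of_injective_algebraMap (algebraMap (IsLocalRing.ResidueField B) T).injective q
    refine Groth.Agent.Epp23.isSeparable_of_roots q (IsLocalRing.ResidueField B) (fun c hc => ?_)
      fun n => ?_
    · obtain ⟨a, rfl⟩ := (hk c).1 ((Groth.Agent.Epp23.mem_perfCore q _).1 hc)
      exact isSeparable_algebraMap a
    · obtain ⟨y, hy⟩ := hx (IsPurelyInseparable.exponent T (IsLocalRing.ResidueField C) + n)
      obtain ⟨z, hz⟩ := IsPurelyInseparable.exponent_def' T q y
      refine ⟨z, mem_separableClosure_iff.1 z.2, ?_⟩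
      rw [show (z : IsLocalRing.ResidueField C) = y ^ q ^ IsPurelyInseparable.exponent T (IsLocalRing.ResidueField C) from hz,
        ← pow_mul, ← pow_add, hy]
  obtain ⟨K₁, iK, aK, hfd, hsol⟩ := Groth.Agent.Epp23.epp A C K M hAC hres
  exact ⟨K₁, iK, aK, hfd, hsol⟩

end Groth.Agent.S7154
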