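import Groth.Statements.S7158
import Groth.Agent.Ram24.DegreePGalois
-- import your own Groth.Agent.* helpers here

set_option autoImplicit false
universe u
open EtAlg

namespace Groth.Agent.S7158

/-- Let A be a discrete valuation ring whose fraction field K has characteristic p > 0, let ξ be an
element of K and let L = K(z) be obtained by adjoining a root z of z^p - z = ξ. Then L/K is a Galois
extension, and it falls under one of four cases: (1) L = K; (2) L/K has degree p and is unramified
with respect to A; (3) L/K has degree p and is totally ramified with respect to A (ramification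
index p); (4) exactly one valuation ring of L dominates A (so B, the integral closure of A in L, is
itself a discrete valuation ring), the extension A → B is weakly unramified, and its residue field
extension is purely inseparable of degree p. Moreover, with π a uniformizer of A: (A) if ξ lies in
A, case (1) or (2) holds; (B) if ξ = π⁻ⁿa with n > 0 prime to p and a a unit of A, case (3) holds;
(C) if ξ = π⁻ⁿa with n > 0 divisible by p and the residue class of a not a p-th power, case (4)
holds. -/
theorem result (p : ℕ) (hp : p.Prime) (A K L : Type u) [CommRing A] [IsDomain A]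
    [IsDiscreteValuationRing A] [Field K] [Algebra A K] [IsFractionRing A K] [Field L] [Algebra K L] [Algebra A L]
    [IsScalarTower A K L] [CharP K p] (π : A) (hπ : IsLocalRing.maximalIdeal A = Ideal.span {π})
    (ξ : K) (z : L) (hz : z ^ p - z = algebraMap K L ξ) (hgen : IntermediateField.adjoin K {z} = ⊤) :
    let g : A →+* L := algebraMap A L
    let case1 : Prop := Module.finrank K L = 1
    let case2 : Prop := EtRam.IsUnramifiedExt A g ∧ Module.finrank K L = p
    let case3 : Prop := EtRam.IsTotallyRamified A g ∧ Module.finrank K L = p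
    let case4 : Prop := (∃ V : ValuationSubring L, EtRam.Dominates A g V) ∧
      (∀ V V' : ValuationSubring L, EtRam.Dominates A g V → EtRam.Dominates A g V' → V = V') ∧
      ∀ (V : ValuationSubring L) (h : EtRam.Dominates A g V),
        letI : Algebra A V := (RingHom.codRestrict g V h.1).toAlgebra
        ∀ [IsLocalHom (algebraMap A V)],
          EtRam.IsWeaklyUnramified A V ∧
            IsPurelyInseparable (IsLocalRing.ResidueField A) (IsLocalRing.ResidueField V) ∧
            Module.finrank (IsLocalRing.ResidueField A) (IsLocalRing.ResidueField V) = p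
    IsGalois K L ∧ (case1 ∨ case2 ∨ case3 ∨ case4) ∧
      ((∃ a : A, algebraMap A K a = ξ) → case1 ∨ case2) ∧
      (∀ (n : ℕ) (a : Aˣ), 0 < n → ¬ p ∣ n → ξ * algebraMap A K π ^ n = algebraMap A K a → case3) ∧
      (∀ (n : ℕ) (a : A), 0 < n → p ∣ n → (∀ r : A, IsLocalRing.residue A a ≠ IsLocalRing.residue A r ^ p) →
          ξ * algebraMap A K π ^ n = algebraMap A K a → case4) := by
  intro g case1 case2 case3 case4
  have : Fact p.Prime := ⟨hp⟩
  have : CharP A p := (RingHom.charP_iff (algebraMap A K) (IsFractionRing.injective A K) p).mpr inferInstance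
  have : CharP (IsLocalRing.ResidueField A) p := (CharP.charP_iff_prime_eq_zero hp).mpr (by
    rw [← map_natCast (IsLocalRing.residue A), CharP.cast_eq_zero, map_zero])
  have hπ' := (IsDiscreteValuationRing.irreducible_iff_uniformizer π).mpr hπ
  set P : Polynomial A := Polynomial.X ^ p - Polynomial.X with hPdef
  have hlt : (Polynomial.X : Polynomial A).degree < (p : WithBot ℕ) := by
    rw [Polynomial.degree_X]; exact_mod_cast hp.one_lt
  have hP : P.Monic := Polynomial.monic_X_pow_sub hlt
  have hPd : P.natDegree = p := by
    refine Polynomial.natDegree_eq_of_degree_eq_some ?_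
    rw [Polynomial.degree_sub_eq_left_of_degree_lt (by rwa [Polynomial.degree_X_pow]),
      Polynomial.degree_X_pow]
  have hPr : P.map (IsLocalRing.residue A) = Polynomial.X ^ p - Polynomial.X := by simp [hPdef]
  have haev : ∀ (S : Type u) [CommRing S] [Algebra A S] (x : S), Polynomial.aeval x P = x ^ p - x :=
    fun S _ _ x => by simp [hPdef]
  have hz' : Polynomial.aeval z P = algebraMap K L ξ := by rw [haev, hz]
  obtain ⟨hgal, hdim⟩ := Ram24.artinSchreier_galois p hz hgen
  have hA : ∀ (ξ : K) (z : L), Polynomial.aeval z P = algebraMap K L ξ →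
      IntermediateField.adjoin K {z} = ⊤ → (∃ a : A, algebraMap A K a = ξ) → case1 ∨ case2 := by
    rintro ξ z hz hgen ⟨a, ha⟩
    rcases hdim with h | h
    · exact Or.inl h
    · exact Or.inr ⟨Ram24.unramified_of_integral hP hPd hPr hz hgen a ha, h⟩
  have key : ∀ (n : ℕ) (ξ : K) (z : L), Polynomial.aeval z P = algebraMap K L ξ →
      IntermediateField.adjoin K {z} = ⊤ → ∀ a : A, ξ * algebraMap A K π ^ n = algebraMap A K a →
      case1 ∨ case2 ∨ case3 ∨ case4 := by
    intro n
    induction n with
    | zero =>
      intro ξ z hz hgen a ha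
      rw [pow_zero, mul_one] at ha
      exact (hA ξ z hz hgen ⟨a, ha.symm⟩).imp id Or.inl
    | succ n ih =>
      intro ξ z hz hgen a ha
      by_cases hau : IsUnit a
      · by_cases hpn : p ∣ n + 1
        · by_cases hr : ∃ r, IsLocalRing.residue A a = IsLocalRing.residue A r ^ p
          · obtain ⟨r, hr⟩ := hr
            obtain ⟨m, hm⟩ := hpn
            obtain ⟨η, -, b, hb⟩ := Ram24.pole_step (K := K) hP hPd hPr hπ' a r 0 m
              (Nat.pos_of_ne_zero fun h0 => by rw [h0, mul_zero] at hm; omega) hr (hm ▸ ha)
            rw [mul_zero, map_zero, zero_pow hp.ne_zero, zero_mul, zero_mul, add_zero, ← hm,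
              Nat.add_sub_cancel] at hb
            refine ih _ (z + algebraMap K L η) ?_ ?_ b hb
            · have h1 := hz
              rw [haev] at h1
              have : CharP L p := charP_of_injective_algebraMap (algebraMap K L).injective p
              rw [haev, haev, add_pow_char, map_add, ← h1, map_sub, map_pow]
              ring
            · rw [eq_top_iff, ← hgen, IntermediateField.adjoin_simple_le_iff]
              have h2 := sub_mem (IntermediateField.mem_adjoin_simple_self K (z + algebraMap K L η))
                ((IntermediateField.adjoin K {z + algebraMap K L η}).algebraMap_mem η)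
              rwa [add_sub_cancel_right] at h2
          · push Not at hr
            exact Or.inr (Or.inr (Or.inr
              (Ram24.inert_of_pole hP hPd hPr hπ' hz hgen a (Nat.succ_pos n) hpn hr ha).1))
        · exact Or.inr (Or.inr (Or.inl
            (Ram24.totallyRamified_of_pole hP hPd hπ' hz hgen hau.unit (Nat.succ_pos n) hpn ha)))
      · have hmem : a ∈ IsLocalRing.maximalIdeal A := (IsLocalRing.mem_maximalIdeal a).mpr hau
        rw [hπ, Ideal.mem_span_singleton] at hmem
        obtain ⟨b, rfl⟩ := hmem
        refine ih ξ z hz hgen b (mul_left_cancel₀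
          ((map_ne_zero_iff _ (IsFractionRing.injective A K)).mpr hπ'.ne_zero) ?_)
        rw [pow_succ, map_mul] at ha
        linear_combination ha
  refine ⟨hgal, ?_, hA ξ z hz' hgen, fun n a hn hpn ha =>
    Ram24.totallyRamified_of_pole hP hPd hπ' hz' hgen a hn hpn ha,
    fun n a hn hpn hr ha => (Ram24.inert_of_pole hP hPd hPr hπ' hz' hgen a hn hpn hr ha).1⟩
  obtain ⟨a, b, hb, hab⟩ := IsFractionRing.div_surjective (A := A) ξ
  obtain ⟨n, v, rfl⟩ := IsDiscreteValuationRing.eq_unit_mul_pow_irreducible (nonZeroDivisors.ne_zero hb) hπ'
  refine key n ξ z hz' hgen (a * ((v⁻¹ : Aˣ) : A)) ?_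
  rw [← hab, map_mul, map_mul, map_pow, div_mul_eq_mul_div, div_eq_iff (mul_ne_zero
    ((map_ne_zero_iff _ (IsFractionRing.injective A K)).mpr v.ne_zero)
    (pow_ne_zero _ ((map_ne_zero_iff _ (IsFractionRing.injective A K)).mpr hπ'.ne_zero)))]
  have hv : algebraMap A K ((v⁻¹ : Aˣ) : A) * algebraMap A K (v : A) = 1 := by
    rw [← map_mul, Units.inv_mul, map_one]
  linear_combination (-(algebraMap A K a) * algebraMap A K π ^ n) * hv

end Groth.Agent.S7158
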