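import Groth.Statements.S7159
import Groth.Agent.Ram24.DegreePGalois
import Groth.Agent.Dvr24.KummerArtinSchreier
-- import your own Groth.Agent.* helpers here

set_option autoImplicit false
universe u
open EtAlg

namespace Groth.Agent.S7159

open Polynomial in
/-- Let A be a discrete valuation ring whose fraction field K has characteristic 0 and whose residue
field has characteristic p, and suppose A contains an element ζ with 1 + ζ + ... + ζ^(p-1) = 0 (a
primitive p-th root of unity); set w = 1 - ζ and let P in A[t] be the polynomial with w^p·P(t) = (1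
+ wt)^p - 1. Let ξ be an element of K and let L = K(z) be obtained by adjoining a root z of P(z) =
ξ. Then L/K is a Galois extension, and it falls under one of four cases: (1) L = K; (2) L/K has
degree p and is unramified with respect to A; (3) L/K has degree p and is totally ramified with
respect to A (ramification index p); (4) exactly one valuation ring of L dominates A (so B, the
integral closure of A in L, is itself a discrete valuation ring), the extension A → B is weakly
unramified, and its residue field extension is purely inseparable of degree p. Moreover, with π a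
uniformizer of A: (A) if ξ lies in A, case (1) or (2) holds; (B) if ξ = π⁻ⁿa with n > 0 prime to p
and a a unit of A, case (3) holds; (C) if ξ = π⁻ⁿa with n > 0 divisible by p and the residue class
of a not a p-th power, case (4) holds. -/
theorem result (p : ℕ) (hp : p.Prime) (A K L : Type u) [CommRing A] [IsDomain A]
    [IsDiscreteValuationRing A] [Field K] [Algebra A K] [IsFractionRing A K] [Field L] [Algebra K L] [Algebra A L]
    [IsScalarTower A K L] [CharZero K] [CharP (IsLocalRing.ResidueField A) p] (ζ : A)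
    (hζ : aeval ζ (cyclotomic p ℤ) = 0) (P : A[X]) (hP : C ((1 - ζ) ^ p) * P = (1 + C (1 - ζ) * X) ^ p - 1) (π : A) (hπ : IsLocalRing.maximalIdeal A = Ideal.span {π})
    (ξ : K) (z : L) (hz : aeval z P = algebraMap K L ξ) (hgen : IntermediateField.adjoin K {z} = ⊤) :
    let g : A →+* L := algebraMap A L
    let case1 : Prop := Module.finrank K L = 1
    let case2 : Prop := EtRam.IsUnramifiedExt A g ∧ Module.finrank K L = p
    let case3 : Prop := EtRam.IsTotallyRamified A g ∧ Module.finrank K L = p
    let case4 : Prop := (∃ V : ValuationSubring L, EtRam.Dominates A g V) ∧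
      (∀ V V' : ValuationSubring L, EtRam.Dominates A g V → EtRam.Dominates A g V' → V = V') ∧
      ∀ (V : ValuationSubring L) (h : EtRam.Dominates A g V),
        letI : Algebra A V := (RingHom.codRestrict g V h.1).toAlgebra
        ∀ [IsLocalHom (algebraMap A V)],
          EtRam.IsWeaklyUnramified A V ∧
            IsPurelyInseparable (IsLocalRing.ResidueField A) (IsLocalRing.ResidueField V) ∧
            Module.finrank (IsLocalRing.ResidueField A) (IsLocalRing.ResidueField V) = p
    IsGalois K L ∧ (case1 ∨ case2 ∨ case3 ∨ case4) ∧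
      ((∃ a : A, algebraMap A K a = ξ) → case1 ∨ case2) ∧
      (∀ (n : ℕ) (a : Aˣ), 0 < n → ¬ p ∣ n → ξ * algebraMap A K π ^ n = algebraMap A K a → case3) ∧
      (∀ (n : ℕ) (a : A), 0 < n → p ∣ n → (∀ r : A, IsLocalRing.residue A a ≠ IsLocalRing.residue A r ^ p) →
          ξ * algebraMap A K π ^ n = algebraMap A K a → case4) := by
  intro g case1 case2 case3 case4
  have : Fact p.Prime := ⟨hp⟩
  have hinj := IsFractionRing.injective A K
  have : NeZero ((p : ℕ) : K) := ⟨by exact_mod_cast hp.ne_zero⟩
  have hprim : IsPrimitiveRoot (algebraMap A K ζ) p := by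
    rw [← isRoot_cyclotomic_iff, ← map_cyclotomic p (algebraMap ℤ K), IsRoot.def, eval_map, ← aeval_def,
      aeval_algebraMap_apply, hζ, map_zero]
  have hπ' := (IsDiscreteValuationRing.irreducible_iff_uniformizer π).mpr hπ
  have hw0 : (1 - ζ : A) ≠ 0 := fun h => hprim.ne_one hp.one_lt (by
    rw [← sub_eq_zero.mp h, map_one])
  set w : A := 1 - ζ
  have hwm : w ∈ IsLocalRing.maximalIdeal A := by
    have h1 : ζ ^ p = 1 := hinj (by rw [map_pow, hprim.pow_eq_one, map_one])
    rw [← IsLocalRing.residue_eq_zero_iff, ← pow_eq_zero_iff hp.ne_zero, map_sub, map_one,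
      sub_pow_char, one_pow, ← map_pow, h1, map_one, sub_self]
  obtain ⟨P₀, hP₀, ⟨α, hα, hP₀eq⟩, hadd⟩ := Dvr24.exists_kummer_artin_schreier p hp A ζ hζ
  obtain rfl : P = P₀ := mul_left_cancel₀ (C_ne_zero.mpr (pow_ne_zero p hw0)) (hP.trans hP₀.symm)
  have hdeg : (-X + (Finset.Ioo 0 p).sum (fun i => C (α i) * X ^ i) : A[X]).degree <
      (p : WithBot ℕ) := by
    refine lt_of_le_of_lt (degree_add_le _ _) (max_lt ?_ ?_)
    · rw [degree_neg, degree_X]; exact_mod_cast hp.one_lt
    · refine lt_of_le_of_lt (degree_sum_le _ _) ((Finset.sup_lt_iff (WithBot.bot_lt_coe p)).mpr fun i hi => ?_)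
      exact lt_of_le_of_lt (degree_C_mul_X_pow_le i _) (Nat.cast_lt.mpr (Finset.mem_Ioo.mp hi).2)
  have hPeq : P = X ^ p + (-X + (Finset.Ioo 0 p).sum (fun i => C (α i) * X ^ i)) := by
    rw [hP₀eq]; ring
  have hPm : P.Monic := hPeq ▸ monic_X_pow_add hdeg
  have hPd : P.natDegree = p := by
    rw [hPeq]
    refine natDegree_eq_of_degree_eq_some ?_
    rw [degree_add_eq_left_of_degree_lt (by rwa [degree_X_pow]), degree_X_pow]
  have hPr : P.map (IsLocalRing.residue A) = X ^ p - X := by
    rw [hP₀eq, Polynomial.map_add, Polynomial.map_sub, Polynomial.map_pow, map_X,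
      Polynomial.map_sum, Finset.sum_eq_zero (fun i _ => ?_), add_zero]
    rw [Polynomial.map_mul, map_C, (IsLocalRing.residue_eq_zero_iff _).mpr
      (((Ideal.span_singleton_le_iff_mem _).mpr hwm) (hα i)), C_0, zero_mul]
  have hid : ∀ (S : Type u) [CommRing S] [Algebra A S] (x : S),
      algebraMap A S w ^ p * aeval x P = (1 + algebraMap A S w * x) ^ p - 1 := by
    intro S _ _ x
    have h := congrArg (aeval x) hP₀
    rw [show algebraMap A S w = 1 - algebraMap A S ζ by simp [w]]
    simpa using h
  set W : K := algebraMap A K w with hWdef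
  have hW0 : W ≠ 0 := (map_ne_zero_iff _ hinj).mpr hw0
  have hwL : algebraMap A L w = algebraMap K L W := IsScalarTower.algebraMap_apply A K L w
  have hWL0 : algebraMap K L W ≠ 0 := (map_ne_zero_iff _ (algebraMap K L).injective).mpr hW0
  -- change of variable
  have shift : ∀ (ξ : K) (z : L), aeval z P = algebraMap K L ξ →
      IntermediateField.adjoin K {z} = ⊤ → ∀ η : K, 1 + W * η ≠ 0 → ∃ z' : L,
        aeval z' P = algebraMap K L (ξ + aeval η P + W ^ p * ξ * aeval η P) ∧
          IntermediateField.adjoin K {z'} = ⊤ := by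
    intro ξ z hz hgen η hη
    refine ⟨z + algebraMap K L η + algebraMap K L W * z * algebraMap K L η, ?_, ?_⟩
    · have h := hadd L z (algebraMap K L η)
      rw [hwL, map_pow, hwL, hz, aeval_algebraMap_apply] at h
      rw [h]
      simp only [map_add, map_mul, map_pow]
    · set z' := z + algebraMap K L η + algebraMap K L W * z * algebraMap K L η
      set F := IntermediateField.adjoin K ({z'} : Set L)
      have hη' : algebraMap K L (1 + W * η) ≠ 0 := (map_ne_zero_iff _ (algebraMap K L).injective).mpr hη
      have h2 : (z' - algebraMap K L η) / algebraMap K L (1 + W * η) = z := by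
        rw [div_eq_iff hη', map_add, map_one, map_mul]
        ring
      rw [eq_top_iff, ← hgen, IntermediateField.adjoin_simple_le_iff, ← h2]
      exact div_mem (sub_mem (IntermediateField.mem_adjoin_simple_self K z') (F.algebraMap_mem η))
        (F.algebraMap_mem _)
  have shiftv : ∀ (ξ : K) (z : L), aeval z P = algebraMap K L ξ →
      IntermediateField.adjoin K {z} = ⊤ → ∀ v : K, v ≠ 0 → ∃ z' : L,
        aeval z' P = algebraMap K L (((1 + W ^ p * ξ) * v ^ p - 1) / W ^ p) ∧
          IntermediateField.adjoin K {z'} = ⊤ := by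
    intro ξ z hz hgen v hv
    have h1 : 1 + W * ((v - 1) / W) = v := by rw [mul_div_cancel₀ _ hW0]; ring
    obtain ⟨z', hz', hgen'⟩ := shift ξ z hz hgen ((v - 1) / W) (by rwa [h1])
    refine ⟨z', hz'.trans (congrArg _ ?_), hgen'⟩
    have h2 := hid K ((v - 1) / W)
    rw [← hWdef, h1] at h2
    rw [eq_div_iff (pow_ne_zero _ hW0)]
    linear_combination (1 + W ^ p * ξ) * h2
  have hgalois : ∀ (ξ : K) (z : L), aeval z P = algebraMap K L ξ →
      IntermediateField.adjoin K {z} = ⊤ →
      (1 + algebraMap K L W * z) ^ p = algebraMap K L (1 + W ^ p * ξ) ∧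
        IntermediateField.adjoin K {1 + algebraMap K L W * z} = ⊤ := by
    intro ξ z hz hgen
    constructor
    · have h := hid L z
      rw [hwL, hz] at h
      rw [map_add, map_one, map_mul, map_pow]
      linear_combination -h
    · set F := IntermediateField.adjoin K ({1 + algebraMap K L W * z} : Set L)
      have h2 : (1 + algebraMap K L W * z - 1) / algebraMap K L W = z := by
        rw [add_sub_cancel_left, mul_div_cancel_left₀ _ hWL0]
      rw [eq_top_iff, ← hgen, IntermediateField.adjoin_simple_le_iff, ← h2]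
      exact div_mem (sub_mem (IntermediateField.mem_adjoin_simple_self K _) (one_mem F))
        (F.algebraMap_mem _)
  obtain ⟨hy, hygen⟩ := hgalois ξ z hz hgen
  obtain ⟨hgal, hdim⟩ := Ram24.kummer_galois p hp hprim hy hygen
  have hA : ∀ (ξ : K) (z : L), aeval z P = algebraMap K L ξ →
      IntermediateField.adjoin K {z} = ⊤ → (∃ a : A, algebraMap A K a = ξ) → case1 ∨ case2 := by
    rintro ξ z hz hgen ⟨a, ha⟩
    rcases hdim with h | h
    · exact Or.inl h
    · exact Or.inr ⟨Ram24.unramified_of_integral hPm hPd hPr hz hgen a ha, h⟩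
  obtain ⟨e, ω, hwe⟩ := IsDiscreteValuationRing.eq_unit_mul_pow_irreducible hw0 hπ'
  have he : 0 < e := Nat.pos_of_ne_zero fun h => by
    rw [hwe, h, pow_zero, mul_one] at hwm
    exact (IsLocalRing.mem_maximalIdeal _).mp hwm ω.isUnit
  set Pi : K := algebraMap A K π
  have hPi0 : Pi ≠ 0 := (map_ne_zero_iff _ hinj).mpr hπ'.ne_zero
  have hWpe : W = algebraMap A K ω * Pi ^ e := by rw [hWdef, hwe, map_mul, map_pow]
  have hω0 : algebraMap A K (ω : A) ≠ 0 := (map_ne_zero_iff _ hinj).mpr ω.ne_zero
  have hωinv : algebraMap A K ((ω⁻¹ : Aˣ) : A) * algebraMap A K (ω : A) = 1 := by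
    rw [← map_mul, Units.inv_mul, map_one]
  have hωp : (algebraMap A K ((ω⁻¹ : Aˣ) : A)) ^ p * algebraMap A K (ω : A) ^ p = 1 := by
    rw [← mul_pow, hωinv, one_pow]
  -- the right hand side in terms of `u`
  have hform : ∀ (u : K), (u - 1) / W ^ p * Pi ^ (p * e) =
      (u - 1) * algebraMap A K ((ω⁻¹ : Aˣ) : A) ^ p := by
    intro u
    rw [hWpe, mul_pow, ← pow_mul, Nat.mul_comm e p, div_mul_eq_mul_div,
      div_eq_iff (mul_ne_zero (pow_ne_zero _ hω0) (pow_ne_zero _ hPi0))]
    linear_combination (-(u - 1) * Pi ^ (p * e)) * hωp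
  have key : ∀ (n : ℕ) (ξ : K) (z : L), aeval z P = algebraMap K L ξ →
      IntermediateField.adjoin K {z} = ⊤ → ∀ a : A, ξ * Pi ^ n = algebraMap A K a →
      case1 ∨ case2 ∨ case3 ∨ case4 := by
    intro n
    induction n using Nat.strong_induction_on with
    | _ n ih =>
      intro ξ z hz hgen a ha
      rcases Nat.eq_zero_or_pos n with rfl | hn
      · rw [pow_zero, mul_one] at ha
        exact (hA ξ z hz hgen ⟨a, ha.symm⟩).imp id Or.inl
      obtain ⟨n, rfl⟩ : ∃ k, n = k + 1 := ⟨n - 1, by omega⟩
      by_cases hau : ¬ IsUnit a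
      · have hmem : a ∈ IsLocalRing.maximalIdeal A := (IsLocalRing.mem_maximalIdeal a).mpr hau
        rw [hπ, Ideal.mem_span_singleton] at hmem
        obtain ⟨b, rfl⟩ := hmem
        refine ih n (by omega) ξ z hz hgen b (mul_left_cancel₀ hPi0 ?_)
        rw [pow_succ, map_mul] at ha
        linear_combination ha
      rw [not_not] at hau
      by_cases hpn : ¬ p ∣ n + 1
      · exact Or.inr (Or.inr (Or.inl
          (Ram24.totallyRamified_of_pole hPm hPd hπ' hz hgen hau.unit (Nat.succ_pos n) hpn ha)))
      rw [not_not] at hpn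
      by_cases hr : ∀ r, IsLocalRing.residue A a ≠ IsLocalRing.residue A r ^ p
      · exact Or.inr (Or.inr (Or.inr
          (Ram24.inert_of_pole hPm hPd hPr hπ' hz hgen a (Nat.succ_pos n) hpn hr ha).1))
      push Not at hr
      obtain ⟨r, hr⟩ := hr
      obtain ⟨m, hm⟩ := hpn
      have hm0 : 0 < m := Nat.pos_of_ne_zero fun h0 => by rw [h0, mul_zero] at hm; omega
      rw [hm] at ha
      rcases lt_trichotomy m e with hme | hme | hme
      · -- small pole
        obtain ⟨η, hη, b, hb⟩ := Ram24.pole_step (K := K) hPm hPd hPr hπ' a r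
          ((ω : A) * π ^ (e - (m + 1))) m hm0 hr ha
        have hc : π ^ (m + 1) * ((ω : A) * π ^ (e - (m + 1))) = w := by
          rw [hwe, mul_left_comm, ← pow_add, Nat.add_sub_cancel' (by omega)]
        rw [hc] at hη hb
        obtain ⟨z', hz', hgen'⟩ := shift ξ z hz hgen η hη
        exact ih (p * m - 1) (by omega) _ z' hz' hgen' b hb
      · -- critical pole
        subst hme
        set u : A := 1 + (ω : A) ^ p * a
        have hu : algebraMap A K u = 1 + W ^ p * ξ := by
          rw [map_add, map_one, map_mul, map_pow, ← ha, hWpe, mul_pow, ← pow_mul, Nat.mul_comm m p]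
          ring
        by_cases hu0 : u = 0
        · refine Or.inl ?_
          obtain ⟨hy', hygen'⟩ := hgalois ξ z hz hgen
          rw [← hu, hu0, map_zero, map_zero, pow_eq_zero_iff hp.ne_zero] at hy'
          exact Ram24.finrank_eq_one_of_mem hygen' ⟨0, by rw [map_zero, hy']⟩
        obtain ⟨k, μ, hμ⟩ := IsDiscreteValuationRing.eq_unit_mul_pow_irreducible hu0 hπ'
        obtain ⟨q, s, hs, rfl⟩ : ∃ q s, s < p ∧ k = p * q + s :=
          ⟨k / p, k % p, Nat.mod_lt _ hp.pos, (Nat.div_add_mod k p).symm⟩
        have huK : 1 + W ^ p * ξ = algebraMap A K μ * Pi ^ (p * q + s) := by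
          rw [← hu, hμ, map_mul, map_pow]
        rcases Nat.eq_zero_or_pos s with rfl | hs0
        · rw [Nat.add_zero] at huK
          by_cases hμr : ∀ t, IsLocalRing.residue A (μ : A) ≠ IsLocalRing.residue A t ^ p
          · obtain ⟨z', hz', hgen'⟩ := shiftv ξ z hz hgen (Pi ^ q)⁻¹ (inv_ne_zero (pow_ne_zero _ hPi0))
            rw [huK, Nat.mul_comm p q, pow_mul, inv_pow, mul_assoc,
              mul_inv_cancel₀ (pow_ne_zero _ (pow_ne_zero _ hPi0)), mul_one] at hz'
            refine Or.inr (Or.inr (Or.inr (Ram24.inert_of_pole hPm hPd hPr hπ' hz' hgen'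
              (((μ : A) - 1) * ((ω⁻¹ : Aˣ) : A) ^ p) (Nat.mul_pos hp.pos hm0) (dvd_mul_right p m)
              (fun t ht => ?_) ?_).1))
            · refine hμr (1 + (ω : A) * t) ?_
              have h1 : IsLocalRing.residue A ((ω⁻¹ : Aˣ) : A) * IsLocalRing.residue A (ω : A) = 1 := by
                rw [← map_mul, Units.inv_mul, map_one]
              rw [map_mul, map_pow, map_sub, map_one] at ht
              rw [map_add, map_one, map_mul, add_pow_char, one_pow, mul_pow, ← ht]
              have h1p : IsLocalRing.residue A ((ω⁻¹ : Aˣ) : A) ^ p * IsLocalRing.residue A (ω : A) ^ p = 1 := by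
                rw [← mul_pow, h1, one_pow]
              linear_combination (-(IsLocalRing.residue A (μ : A) - 1)) * h1p
            · rw [hform, map_mul, map_sub, map_one, map_pow]
          · push Not at hμr
            obtain ⟨t, ht⟩ := hμr
            have htu : IsUnit t := by
              by_contra htn
              rw [(IsLocalRing.residue_eq_zero_iff t).mpr ((IsLocalRing.mem_maximalIdeal t).mpr htn),
                zero_pow hp.ne_zero, IsLocalRing.residue_eq_zero_iff] at ht
              exact (IsLocalRing.mem_maximalIdeal _).mp ht μ.isUnit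
            obtain ⟨t, rfl⟩ := htu
            set t' : A := ((t⁻¹ : Aˣ) : A)
            have hv0 : algebraMap A K t' / Pi ^ q ≠ 0 :=
              div_ne_zero ((map_ne_zero_iff _ hinj).mpr (t⁻¹).ne_zero) (pow_ne_zero _ hPi0)
            obtain ⟨z', hz', hgen'⟩ := shiftv ξ z hz hgen _ hv0
            rw [huK, Nat.mul_comm p q, pow_mul, div_pow, mul_assoc,
              mul_div_cancel₀ _ (pow_ne_zero _ (pow_ne_zero _ hPi0))] at hz'
            have hmem : ((μ : A) * t' ^ p - 1) * ((ω⁻¹ : Aˣ) : A) ^ p ∈ IsLocalRing.maximalIdeal A := by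
              refine Ideal.mul_mem_right _ _ ?_
              rw [← IsLocalRing.residue_eq_zero_iff, map_sub, map_mul, ht, map_pow, ← mul_pow, ← map_mul,
                Units.mul_inv, map_one, one_pow, sub_self]
            rw [hπ, Ideal.mem_span_singleton] at hmem
            obtain ⟨b, hb⟩ := hmem
            obtain ⟨j, hj⟩ : ∃ j, p * m = j + 1 := ⟨n, hm.symm⟩
            refine ih j (by omega) _ z' hz' hgen' b (mul_left_cancel₀ hPi0 ?_)
            have h3 := hform (algebraMap A K (μ : A) * algebraMap A K t' ^ p)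
            have h4 := congrArg (algebraMap A K) hb
            simp only [map_mul, map_sub, map_one, map_pow] at h4
            rw [hj, pow_succ] at h3
            linear_combination h3 + h4
        · obtain ⟨z', hz', hgen'⟩ := shiftv ξ z hz hgen (Pi ^ (q + 1))⁻¹ (inv_ne_zero (pow_ne_zero _ hPi0))
          have hnew : ((1 + W ^ p * ξ) * ((Pi ^ (q + 1))⁻¹) ^ p - 1) / W ^ p * Pi ^ (p * m + (p - s)) =
              algebraMap A K (((μ : A) - π ^ (p - s)) * ((ω⁻¹ : Aˣ) : A) ^ p) := by
            rw [pow_add Pi (p * m), ← mul_assoc, hform, map_mul, map_sub, map_pow, map_pow, mul_right_comm]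
            congr 1
            have h5 : Pi ^ (p * q + s) * ((Pi ^ (q + 1))⁻¹) ^ p * Pi ^ (p - s) = 1 := by
              rw [inv_pow, ← pow_mul, mul_right_comm, ← pow_add,
                show p * q + s + (p - s) = (q + 1) * p by
                  rw [add_assoc, Nat.add_sub_cancel' hs.le, add_mul, one_mul, Nat.mul_comm q p],
                mul_inv_cancel₀ (pow_ne_zero _ hPi0)]
            rw [huK]
            linear_combination algebraMap A K (μ : A) * h5
          have hunit : IsUnit (((μ : A) - π ^ (p - s)) * ((ω⁻¹ : Aˣ) : A) ^ p) := by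
            refine IsUnit.mul ?_ ((ω⁻¹).isUnit.pow p)
            refine IsLocalRing.notMem_maximalIdeal.mp fun hmem => ?_
            have h6 : π ^ (p - s) ∈ IsLocalRing.maximalIdeal A :=
              Ideal.pow_mem_of_mem _ (hπ ▸ Ideal.mem_span_singleton_self π) _ (by omega)
            have h7 := add_mem hmem h6
            rw [sub_add_cancel] at h7
            exact (IsLocalRing.mem_maximalIdeal _).mp h7 μ.isUnit
          refine Or.inr (Or.inr (Or.inl (Ram24.totallyRamified_of_pole hPm hPd hπ' hz' hgen'
            hunit.unit (by omega : 0 < p * m + (p - s)) (fun hd => ?_) hnew)))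
          have h8 := (Nat.dvd_add_right (dvd_mul_right p m)).mp hd
          have := Nat.le_of_dvd (by omega) h8
          omega
      · -- large pole
        obtain ⟨d, rfl⟩ : ∃ d, m = e + d := ⟨m - e, by omega⟩
        obtain ⟨z', hz', hgen'⟩ := shiftv ξ z hz hgen (Pi ^ d) (pow_ne_zero _ hPi0)
        refine ih (p * e) (by rw [hm, Nat.mul_add]; have := Nat.mul_pos hp.pos (show 0 < d by omega); omega)
          _ z' hz' hgen' ((π ^ (d * p) + (ω : A) ^ p * a - 1) * ((ω⁻¹ : Aˣ) : A) ^ p) ?_
        rw [hform, map_mul, map_sub, map_add, map_mul, map_pow, map_pow, map_pow, map_one, ← ha,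
          hWpe, mul_pow, ← pow_mul, ← pow_mul, Nat.mul_add, pow_add, Nat.mul_comm e p,
          Nat.mul_comm d p]
        ring
  refine ⟨hgal, ?_, hA ξ z hz hgen, fun n a hn hpn ha =>
    Ram24.totallyRamified_of_pole hPm hPd hπ' hz hgen a hn hpn ha,
    fun n a hn hpn hr ha => (Ram24.inert_of_pole hPm hPd hPr hπ' hz hgen a hn hpn hr ha).1⟩
  obtain ⟨a, b, hb, hab⟩ := IsFractionRing.div_surjective (A := A) ξ
  obtain ⟨n, v, rfl⟩ := IsDiscreteValuationRing.eq_unit_mul_pow_irreducible (nonZeroDivisors.ne_zero hb) hπ'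
  refine key n ξ z hz hgen (a * ((v⁻¹ : Aˣ) : A)) ?_
  rw [← hab, map_mul, map_mul, map_pow, div_mul_eq_mul_div, div_eq_iff (mul_ne_zero
    ((map_ne_zero_iff _ hinj).mpr v.ne_zero) (pow_ne_zero _ hPi0))]
  have hv : algebraMap A K ((v⁻¹ : Aˣ) : A) * algebraMap A K (v : A) = 1 := by
    rw [← map_mul, Units.inv_mul, map_one]
  linear_combination (-(algebraMap A K a) * Pi ^ n) * hv

end Groth.Agent.S7159
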