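import Groth.Statements.S7162
import Groth.Agent.Strict24.Descent
-- import your own Groth.Agent.* helpers here

set_option autoImplicit false
universe u
open EtAlg

namespace Groth.Agent.S7162
open Groth.Agent

/-- Let A → B be an injective local homomorphism of discrete valuation rings whose fields of fractions
are K ⊆ L. There is a commutative square of such extensions A ⊆ A', B ⊆ B', A' ⊆ B' (with fraction
fields K', L') such that (1) K'/K and L'/L are separable algebraic, (2) the residue field of A' is a
separable algebraic closure of that of A, and likewise for B' over B, and (3) whenever A' ⊆ B'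
admits a solution (respectively a separable solution), so does A ⊆ B. (The published statement
asserts (3) for weak solutions as well; that clause is left out here: a weak solution for A' ⊆ B'
descends to a finite extension of K but controls only those local extensions attached to embeddings
compatible with K ⊆ K', and weak solutions, unlike solutions, are not preserved under passing to a
normal closure; the clause can fail when the residue field of A is not separably closed in that of
B.) -/
theorem result (A B K L : Type u) [CommRing A] [IsDomain A]
    [IsDiscreteValuationRing A] [CommRing B] [IsDomain B] [IsDiscreteValuationRing B] [Algebra A B]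
    (hinj : Function.Injective (algebraMap A B)) [IsLocalHom (algebraMap A B)]
    [Field K] [Field L] [Algebra A K] [IsFractionRing A K] [Algebra B L] [IsFractionRing B L]
    [Algebra K L] [Algebra A L] [IsScalarTower A K L] [IsScalarTower A B L] :
    ∃ (A' B' K' L' : Type u) (_ : CommRing A') (_ : IsDomain A') (_ : IsDiscreteValuationRing A')
      (_ : CommRing B') (_ : IsDomain B') (_ : IsDiscreteValuationRing B') (_ : Field K') (_ : Field L')
      (_ : Algebra A A') (_ : Algebra B B') (_ : Algebra A' B') (_ : Algebra A B')
      (_ : IsScalarTower A B B') (_ : IsScalarTower A A' B')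
      (_ : Algebra A' K') (_ : IsFractionRing A' K') (_ : Algebra B' L') (_ : IsFractionRing B' L')
      (_ : Algebra K' L') (_ : Algebra A' L') (_ : IsScalarTower A' K' L') (_ : IsScalarTower A' B' L')
      (_ : Algebra K K') (_ : Algebra A K') (_ : IsScalarTower A K K') (_ : IsScalarTower A A' K')
      (_ : Algebra L L') (_ : Algebra B L') (_ : IsScalarTower B L L') (_ : IsScalarTower B B' L')
      (hA : IsLocalHom (algebraMap A A')) (hB : IsLocalHom (algebraMap B B')) (_ : IsLocalHom (algebraMap A' B')),
      Function.Injective (algebraMap A A') ∧ Function.Injective (algebraMap B B') ∧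
      Function.Injective (algebraMap A' B') ∧
      Algebra.IsSeparable K K' ∧ Algebra.IsSeparable L L' ∧
      (letI := (IsLocalRing.ResidueField.map (algebraMap A A')).toAlgebra
       IsSepClosure (IsLocalRing.ResidueField A) (IsLocalRing.ResidueField A')) ∧
      (letI := (IsLocalRing.ResidueField.map (algebraMap B B')).toAlgebra
       IsSepClosure (IsLocalRing.ResidueField B) (IsLocalRing.ResidueField B')) ∧
      ((∃ (K₁ : Type u) (_ : Field K₁) (_ : Algebra K' K₁), FiniteDimensional K' K₁ ∧ EtRam.IsSolution B' K' L' K₁) →
        ∃ (K₁ : Type u) (_ : Field K₁) (_ : Algebra K K₁), FiniteDimensional K K₁ ∧ EtRam.IsSolution B K L K₁) ∧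
      ((∃ (K₁ : Type u) (_ : Field K₁) (_ : Algebra K' K₁), FiniteDimensional K' K₁ ∧ Algebra.IsSeparable K' K₁ ∧
          EtRam.IsSolution B' K' L' K₁) →
        ∃ (K₁ : Type u) (_ : Field K₁) (_ : Algebra K K₁), FiniteDimensional K K₁ ∧ Algebra.IsSeparable K K₁ ∧
          EtRam.IsSolution B K L K₁) := by
  classical
  let A' := Henz21.StrictHenselization A
  let B' := Henz21.StrictHenselization B
  have hdA : IsDomain A' := Strict24.isDomain_strictHenselization A A'
  have hdB : IsDomain B' := Strict24.isDomain_strictHenselization B B'
  have hvA : IsDiscreteValuationRing A' := Strict24.isDiscreteValuationRing A A'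
  have hvB : IsDiscreteValuationRing B' := Strict24.isDiscreteValuationRing B B'
  have hsA : IsSepClosure (IsLocalRing.ResidueField A) (IsLocalRing.ResidueField A') :=
    Hensel.IsStrictHenselization.isSepClosure
  have hsB : IsSepClosure (IsLocalRing.ResidueField B) (IsLocalRing.ResidueField B') :=
    Hensel.IsStrictHenselization.isSepClosure
  have hscB : IsSepClosed (IsLocalRing.ResidueField B') := hsB.sep_closed
  let f₀ : A →+* B' := (algebraMap B B').comp (algebraMap A B)
  have : IsLocalHom f₀ := RingHom.isLocalHom_comp _ _
  obtain ⟨φ, hφ, hφloc⟩ := Henz21.exists_map_of_strictHenselization (Ash := A') f₀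
  let algAB' : Algebra A B' := f₀.toAlgebra
  let algA'B' : Algebra A' B' := φ.toAlgebra
  have hTABB : IsScalarTower A B B' := IsScalarTower.of_algebraMap_eq fun _ => rfl
  have hTAA'B : IsScalarTower A A' B' :=
    IsScalarTower.of_algebraMap_eq fun a => (RingHom.congr_fun hφ a).symm
  have hlocφ : IsLocalHom (algebraMap A' B') := hφloc
  have hinjB : Function.Injective (algebraMap B B') := Strict24.algebraMap_injective B B'
  have hinjA : Function.Injective (algebraMap A A') := Strict24.algebraMap_injective A A'
  let K' := FractionRing A'
  let L' := FractionRing B'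
  have hinjφ : Function.Injective (algebraMap A' B') := by
    have h : Function.Injective ((algebraMap B' L').comp (algebraMap A' B')) :=
      Strict24.injective_of_local A (S0538.result A A') ((algebraMap B' L').comp (algebraMap A' B'))
        (by
          rw [RingHom.comp_assoc, ← IsScalarTower.algebraMap_eq A A' B', IsScalarTower.algebraMap_eq A B B',
            ← RingHom.comp_assoc]
          exact ((IsFractionRing.injective B' L').comp hinjB).comp hinj)
    exact Function.Injective.of_comp (f := algebraMap B' L') h
  let iK : K →+* K' := IsFractionRing.lift (g := (algebraMap A' K').comp (algebraMap A A'))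
    ((IsFractionRing.injective A' K').comp hinjA)
  let iL : L →+* L' := IsFractionRing.lift (g := (algebraMap B' L').comp (algebraMap B B'))
    ((IsFractionRing.injective B' L').comp hinjB)
  let iKL : K' →+* L' := IsFractionRing.lift (g := (algebraMap B' L').comp (algebraMap A' B'))
    ((IsFractionRing.injective B' L').comp hinjφ)
  let algKK : Algebra K K' := iK.toAlgebra
  let algLL : Algebra L L' := iL.toAlgebra
  let algKL : Algebra K' L' := iKL.toAlgebra
  have t1 : IsScalarTower A' K' L' :=
    IsScalarTower.of_algebraMap_eq fun a =>
      (IsScalarTower.algebraMap_apply A' B' L' a).trans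
        (show iKL (algebraMap A' K' a) = _ from IsFractionRing.lift_algebraMap _ a).symm
  have t2 : IsScalarTower A' B' L' := inferInstance
  have t3 : IsScalarTower A K K' :=
    IsScalarTower.of_algebraMap_eq fun a =>
      (IsScalarTower.algebraMap_apply A A' K' a).trans
        (show iK (algebraMap A K a) = _ from IsFractionRing.lift_algebraMap _ a).symm
  have t4 : IsScalarTower A A' K' := inferInstance
  have t5 : IsScalarTower B L L' :=
    IsScalarTower.of_algebraMap_eq fun a =>
      (IsScalarTower.algebraMap_apply B B' L' a).trans
        (show iL (algebraMap B L a) = _ from IsFractionRing.lift_algebraMap _ a).symm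
  have t6 : IsScalarTower B B' L' := inferInstance
  have hsepK : Algebra.IsSeparable K K' := Strict24.isSeparable_fractionField A A' K K'
  have hsepL : Algebra.IsSeparable L L' := Strict24.isSeparable_fractionField B B' L L'
  refine ⟨A', B', K', L', inferInstance, hdA, hvA, inferInstance, hdB, hvB, inferInstance, inferInstance,
    inferInstance, inferInstance, algA'B', algAB', hTABB, hTAA'B, inferInstance, inferInstance, inferInstance,
    inferInstance, algKL, inferInstance, t1, t2, algKK, inferInstance, t3, t4, algLL, inferInstance, t5, t6, inferInstance, inferInstance,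
    hlocφ, hinjA, hinjB, hinjφ, hsepK, hsepL, ?_, ?_, ?_, ?_⟩
  · convert hsA using 1
    refine Algebra.algebra_ext _ _ fun r => ?_
    obtain ⟨r, rfl⟩ := IsLocalRing.residue_surjective r
    rfl
  · convert hsB using 1
    refine Algebra.algebra_ext _ _ fun r => ?_
    obtain ⟨r, rfl⟩ := IsLocalRing.residue_surjective r
    rfl
  · rintro ⟨K₁', _, _, hfin, hsol⟩
    obtain ⟨K₁, i1, i2, h1, -, h3⟩ := Strict24.exists_descended A B A' B' K L K' L' K₁' hsol
    exact ⟨K₁, i1, i2, h1, h3⟩
  · rintro ⟨K₁', _, _, hfin, hsep, hsol⟩
    obtain ⟨K₁, i1, i2, h1, h2, h3⟩ := Strict24.exists_descended A B A' B' K L K' L' K₁' hsol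
    exact ⟨K₁, i1, i2, h1, h2 hsep, h3⟩

end Groth.Agent.S7162
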