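import Groth.Statements.S7173
import Groth.Agent.FlatMor67.PCFinite

set_option autoImplicit false
universe u
attribute [local instance] HasDerivedCategory.standard
open FlatMor

namespace Groth.Agent.S7173

open AlgebraicGeometry CategoryTheory Limits in
/-- A morphism locally of finite type to a regular scheme S (locally Noetherian with all local rings
regular) whose affine opens have finite Krull dimension is perfect. (The published statement carries
no dimension hypothesis; its proof is the ring statement for a finite type algebra over a regular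
ring of finite dimension, so finite Krull dimension of the affine opens of S is assumed here.) -/
theorem result {X S : Scheme.{u}} (f : X ⟶ S) [LocallyOfFiniteType f] [IsLocallyNoetherian S]
    (hreg : ∀ s : S, IsRegularLocalRing (S.presheaf.stalk s))
    (hdim : ∀ V : S.Opens, IsAffineOpen V → ringKrullDim Γ(S, V) < ⊤) :
    MoreMor.IsPerfectMor f := by
  intro U V hU hV e
  letI := (f.appLE V U e).hom.toAlgebra
  haveI : Algebra.FiniteType Γ(S, V) Γ(X, U) := LocallyOfFiniteType.finiteType_appLE f hV hU e
  haveI : IsNoetherianRing Γ(S, V) := IsLocallyNoetherian.component_noetherian ⟨V, hV⟩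
  haveI : IsRegularRing Γ(S, V) := isRegularRing_iff.2 fun p hp => by
    letI := S.presheaf.algebra_section_stalk ⟨hV.fromSpec ⟨p, hp⟩, hV.range_fromSpec.le ⟨_, rfl⟩⟩
    haveI : IsLocalization.AtPrime (S.presheaf.stalk (hV.fromSpec ⟨p, hp⟩)) p := hV.isLocalization_stalk' ⟨p, hp⟩ (hV.range_fromSpec.le ⟨_, rfl⟩)
    have e := (IsLocalization.algEquiv (S := Localization.AtPrime p) (Q := S.presheaf.stalk (hV.fromSpec ⟨p, hp⟩)) p.primeCompl).toRingEquiv
    haveI := hreg (hV.fromSpec ⟨p, hp⟩)
    exact IsRegularLocalRing.of_ringEquiv e.symm
  exact FlatMor68.PerfHom.t7069 _ _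

end Groth.Agent.S7173
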