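import Groth.Statements.S7175
import Groth.Agent.FlatMor67.PerfectSheaf
import Groth.Agent.QCqs72.Basic

set_option autoImplicit false
universe u
attribute [local instance] HasDerivedCategory.standard
open FlatMor

namespace Groth.Agent.S7175

open AlgebraicGeometry CategoryTheory Limits in
/-- For a perfect closed immersion i : Z → X, the O_X-module i_* O_Z is a perfect object of D(O_X). -/
theorem result {Z X : Scheme.{u}} (i : Z ⟶ X) [IsClosedImmersion i]
    (hi : MoreMor.IsPerfectMor i) :
    DCoh.IsPerfect (DCoh.inD X ((Coh.push i).obj (Coh.structureModule Z))) := by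
  haveI hO : (Coh.structureModule Z).IsQuasicoherent :=
    inferInstanceAs (SheafOfModules.unit Z.ringCatSheaf).IsQuasicoherent
  haveI : ((Scheme.Modules.pushforward i).obj (Coh.structureModule Z)).IsQuasicoherent :=
    Groth.Agent.QCqs72.isQuasicoherent_pushforward (Coh.structureModule Z) i
  refine Groth.Agent.FlatMor67.PerfectSheaf.isPerfect_inD
    ((Scheme.Modules.pushforward i).obj (Coh.structureModule Z)) fun x => ?_
  obtain ⟨V, hV, hx, -⟩ := exists_isAffineOpen_mem_and_subset (show x ∈ (⊤ : X.Opens) from trivial)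
  refine ⟨V, hV, hx, ?_⟩
  letI : Algebra Γ(X, V) Γ(Z, i ⁻¹ᵁ V) := (i.appLE V (i ⁻¹ᵁ V) le_rfl).hom.toAlgebra
  have hp := Groth.Agent.FlatMor67.PerfectSheaf.perfectModule_of_surjective Γ(X, V) Γ(Z, i ⁻¹ᵁ V)
    (by
      rw [RingHom.algebraMap_toAlgebra, Scheme.Hom.app_eq_appLE _ |>.symm]
      exact i.app_surjective V hV)
    (hi (i ⁻¹ᵁ V) V (hV.preimage i) hV le_rfl)
  refine Groth.Agent.FlatMor67.PCM.perfect_congr (M := Γ(Z, i ⁻¹ᵁ V))
    (N := Γ((Scheme.Modules.pushforward i).obj (Coh.structureModule Z), V))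
    { toFun := fun s => s
      map_add' := fun _ _ => rfl
      map_smul' := fun r s => ?_
      invFun := fun s => s
      left_inv := fun _ => rfl
      right_inv := fun _ => rfl } hp
  simp only [RingHom.id_apply]
  refine Eq.trans ?_ (Groth.Agent.QCqs72.pushforward_smul (Coh.structureModule Z) i r s).symm
  rw [Algebra.smul_def, RingHom.algebraMap_toAlgebra, Scheme.Hom.app_eq_appLE]
  rfl

end Groth.Agent.S7175
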