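import Groth.Statements.S7176
import Groth.Agent.RegImm10.StalkRegular
import Groth.Agent.FlatMor67.PCStalk
import Groth.Agent.Div89.KoszulH1
import Groth.Agent.S2200
import Groth.Agent.S5003
import Groth.Agent.S18944

set_option autoImplicit false
universe u
attribute [local instance] HasDerivedCategory.standard
open FlatMor

namespace Groth.Agent.S7176

theorem seq_of_regular {A : Type u} [CommRing A] (k : RegImm.Kind) (rs : List A)
    (h : RegImm.Kind.regular.Seq A rs) : k.Seq A rs := by
  obtain ⟨a, b, c⟩ := Div89.seq_implications rs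
  cases k
  exacts [h, a h, b (a h), c (b (a h))]

theorem seq_quasi {A : Type u} [CommRing A] (k : RegImm.Kind) (rs : List A)
    (h : k.Seq A rs) : RegImm.Kind.quasi.Seq A rs := by
  obtain ⟨a, b, c⟩ := Div89.seq_implications rs
  cases k
  exacts [c (b (a h)), c (b h), c h, h]

/-- Regularity of the two factors in local rings. -/
theorem regular_stalks {A B C : Type u} [CommRing A] [CommRing B] [CommRing C] [IsNoetherianRing A]
    [IsLocalRing A] [Nontrivial C] (f : A →+* B) (g : B →+* C) (hf : Function.Surjective f) (hg : Function.Surjective g)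
    (hfd : FlatMor67.PCStalk.ftdH g) (hreg : CInt.IsRegularIdeal (RingHom.ker (g.comp f))) :
    CInt.IsRegularIdeal (RingHom.ker f) ∧ CInt.IsRegularIdeal (RingHom.ker g) := by
  let I := RingHom.ker f
  let J := RingHom.ker (g.comp f)
  have hIJ : I ≤ J := fun a ha => by
    rw [RingHom.mem_ker, RingHom.comp_apply, RingHom.mem_ker.1 ha, map_zero]
  let eI : A ⧸ I ≃+* B := RingHom.quotientKerEquivOfSurjective hf
  let eJ : A ⧸ J ≃+* C := RingHom.quotientKerEquivOfSurjective (f := g.comp f) (hg.comp hf)
  have hc : Ideal.Quotient.factor hIJ = (eJ.symm.toRingHom.comp g).comp eI.toRingHom := by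
    refine Ideal.Quotient.ringHom_ext (RingHom.ext fun a => ?_)
    exact (eJ.symm_apply_apply (Ideal.Quotient.mk J a)).symm
  letI : Algebra (A ⧸ I) (A ⧸ J) := (Ideal.Quotient.factor hIJ).toAlgebra
  haveI : IsScalarTower A (A ⧸ I) (A ⧸ J) := IsScalarTower.of_algebraMap_eq' rfl
  have hfd' : DRing.HasFiniteTorDim (A ⧸ I) (A ⧸ J) := by
    have h : FlatMor67.PCStalk.ftdH (Ideal.Quotient.factor hIJ) := by
      rw [hc]
      exact FlatMor67.PCStalk.ftdH_respectsIso.2 _ _ (FlatMor67.PCStalk.ftdH_respectsIso.1 _ _ hfd)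
    exact h
  obtain ⟨rs, hrs, hrs'⟩ := hreg
  obtain ⟨⟨a, ha, ha'⟩, ⟨b, hb, hb'⟩⟩ :=
    S2200.result I J hIJ (RingHom.ker_ne_top _) hfd' ⟨rs, hrs', hrs⟩
  refine ⟨⟨a, ha', ha⟩, ?_⟩
  have h := RegImm10.StalkRegular.isRegularIdeal_map_equiv eI
    (I := J.map (Ideal.Quotient.mk I)) ⟨b, hb', hb⟩
  rw [Ideal.map_map, show eI.toRingHom.comp (Ideal.Quotient.mk I) = f from RingHom.ext fun _ => rfl] at h
  rwa [show J.map f = RingHom.ker g by
    rw [show J = (RingHom.ker g).comap f from (RingHom.comap_ker g f).symm,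
      Ideal.map_comap_of_surjective f hf]] at h

open AlgebraicGeometry CategoryTheory Limits in
/-- Let i : Z → Y and j : Y → X be immersions with X locally Noetherian, j ∘ i a regular immersion and i
perfect. Then i is a regular immersion and j is a regular immersion at every point i(z), z in Z.
(The published statement concludes that j is a regular immersion outright; its proof works in the
local rings of X at points of Z, and for Z empty the hypotheses hold for every immersion j, so the
conclusion on j is stated at the points of i(Z) only.) Over a locally Noetherian scheme the four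
kinds of regular immersion agree; the kind is a parameter here. -/
theorem result {Z Y X : Scheme.{u}} (i : Z ⟶ Y) (j : Y ⟶ X) [IsImmersion i] [IsImmersion j]
    [IsLocallyNoetherian X] (k : RegImm.Kind) (h : RegImm.IsRegularImmersion k (i ≫ j)) (hi : MoreMor.IsPerfectMor i) :
    RegImm.IsRegularImmersion k i ∧ ∀ z : Z, RegImm.IsRegularImmersionAt k j (i z) := by
  haveI : IsLocallyNoetherian Y := LocallyOfFiniteType.isLocallyNoetherian j
  have hreg : RegImm.IsRegularImmersion RegImm.Kind.regular (i ≫ j) := by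
    refine (S5003.result _).2 ⟨h.1, fun z => ?_⟩
    obtain ⟨U, hU, hc, rs, hrs, hker⟩ := h.2 z
    exact ⟨U, hU, hc, rs, seq_quasi k rs hrs, hker⟩
  have key : ∀ z : Z, CInt.IsRegularIdeal (RingHom.ker (j.stalkMap (i z)).hom) ∧
      CInt.IsRegularIdeal (RingHom.ker (i.stalkMap z).hom) := fun z => by
    refine regular_stalks _ _ (j.stalkMap_surjective (i z)) (i.stalkMap_surjective z)
      ((FlatMor67.PCStalk.pfMor_iff_stalks i fun U V hU hV e => (hi U V hU hV e).1).1 hi z) ?_
    obtain ⟨rs, h1, h2⟩ := S18944.result (i ≫ j) hreg z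
    refine ⟨rs, h1, h2.symm.trans ?_⟩
    rw [Scheme.Hom.stalkMap_comp]
    rfl
  have conv : ∀ {W T : Scheme.{u}} (f : W ⟶ T) [IsImmersion f] [IsLocallyNoetherian T] (w : W),
      CInt.IsRegularIdeal (RingHom.ker (f.stalkMap w).hom) → RegImm.IsRegularImmersionAt k f w := by
    intro W T f _ _ w hw
    obtain ⟨U, hU, hc, rs, hrs, hker⟩ := RegImm10.StalkRegular.isRegularImmersionAt_of_stalk f w hw
    exact ⟨U, hU, hc, rs, seq_of_regular k rs hrs, hker⟩
  exact ⟨⟨inferInstance, fun z => conv i z (key z).2⟩, fun z => conv j (i z) (key z).1⟩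

end Groth.Agent.S7176
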