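import Groth.Statements.S7178
import Groth.Agent.FlatMor67.FlatDiag

set_option linter.style.haveILetI false
set_option backward.isDefEq.respectTransparency.types false

set_option autoImplicit false
universe u
open FlatMor

namespace Groth.Agent.S7178

open AlgebraicGeometry CategoryTheory Limits in
/-- (1) ⇔ (2): f : X → S is weakly étale if and only if, whenever U ⊆ X and V ⊆ S are affine opens and f
maps U into V, the ring O_X(U) is a weakly étale O_S(V)-algebra (flat, with flat multiplication map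
O_X(U) ⊗ O_X(U) → O_X(U) over O_S(V)). -/
theorem result {X S : Scheme.{u}} (f : X ⟶ S) :
    WeaklyEtale f ↔ ∀ (U : X.Opens) (V : S.Opens) (_ : IsAffineOpen U) (_ : IsAffineOpen V) (hUV : U ≤ f ⁻¹ᵁ V),
      (letI := (f.appLE V U hUV).hom.toAlgebra
       Algebra.WeaklyEtale Γ(S, V) Γ(X, U)) := by
  constructor
  · intro h U V hU hV hUV
    letI := (f.appLE V U hUV).hom.toAlgebra
    haveI : Module.Flat Γ(S, V) Γ(X, U) := AlgebraicGeometry.Flat.flat_appLE f hV hU hUV
    exact ⟨inferInstance, Groth.Agent.FlatMor67.flat_lmul'_appLE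
      (show Flat (pullback.diagonal f) from inferInstance) hU hV hUV⟩
  · intro h
    have key : ∀ x : X, ∃ U : X.Opens, x ∈ U ∧ WeaklyEtale (U.ι ≫ f) := by
      intro x
      obtain ⟨_, ⟨V, hV, rfl⟩, hxV, -⟩ :=
        S.isBasis_affineOpens.exists_subset_of_mem_open (Set.mem_univ (f x)) isOpen_univ
      obtain ⟨_, ⟨U, hU, rfl⟩, hxU, hUV⟩ :=
        X.isBasis_affineOpens.exists_subset_of_mem_open hxV (f ⁻¹ᵁ V).isOpen
      refine ⟨U, hxU, ?_⟩
      rw [← Scheme.Hom.resLE_comp_ι f hUV]
      letI := (f.appLE V U hUV).hom.toAlgebra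
      haveI := h U V hU hV hUV
      haveI : WeaklyEtale (f.resLE V U hUV) := by
        rw [Groth.Agent.FlatMor67.resLE_iff_specMap @WeaklyEtale f hU hV hUV]
        have h1 : Flat (Spec.map (f.appLE V U hUV)) := by
          rw [HasRingHomProperty.Spec_iff (P := @Flat)]
          exact (‹Algebra.WeaklyEtale Γ(S, V) Γ(X, U)›).flat
        have h2 := (Groth.Agent.FlatMor67.diagonalFlat_specMap_iff Γ(S, V) Γ(X, U)).mpr
          (Algebra.WeaklyEtale.flat_lmul' Γ(S, V) Γ(X, U))
        haveI : Flat (pullback.diagonal (Spec.map (f.appLE V U hUV))) := h2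
        exact { }
      infer_instance
    choose U hxU hU using key
    exact (IsZariskiLocalAtSource.iff_of_iSup_eq_top (P := @WeaklyEtale) (ι := X) U
      (eq_top_iff.mpr fun x _ => TopologicalSpace.Opens.mem_iSup.mpr ⟨x, hxU x⟩)).mpr hU

end Groth.Agent.S7178
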