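import Groth.Statements.S7180
import Groth.Agent.FlatMor67.WENormal
import Groth.Agent.S7178
-- import your own Groth.Agent.* helpers here

set_option autoImplicit false
universe u
open FlatMor

namespace Groth.Agent.S7180

open AlgebraicGeometry CategoryTheory Limits in
/-- The source of a weakly étale morphism with normal target (all local rings integrally closed domains)
is normal. -/
theorem result {X Y : Scheme.{u}} (f : X ⟶ Y) [WeaklyEtale f] (hY : Pi1.IsNormalScheme Y) :
    Pi1.IsNormalScheme X := by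
  intro x
  obtain ⟨_, ⟨V, hV, rfl⟩, hxV, -⟩ :=
    Y.isBasis_affineOpens.exists_subset_of_mem_open (Set.mem_univ (f x)) isOpen_univ
  obtain ⟨_, ⟨U, hU, rfl⟩, hxU, hUV⟩ :=
    X.isBasis_affineOpens.exists_subset_of_mem_open hxV (f ⁻¹ᵁ V).isOpen
  let := (f.appLE V U hUV).hom.toAlgebra
  have : Algebra.WeaklyEtale Γ(Y, V) Γ(X, U) := (S7178.result f).1 ‹_› U V hU hV hUV
  let q := (hU.primeIdealOf ⟨x, hxU⟩).asIdeal
  have hp : (hV.primeIdealOf ⟨f x, hxV⟩).asIdeal = q.comap (algebraMap Γ(Y, V) Γ(X, U)) := by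
    have h : hV.primeIdealOf ⟨f x, hxV⟩ =
        (Spec.map (f.appLE V U hUV)) (hU.primeIdealOf ⟨x, hxU⟩) := by
      apply hV.fromSpec.isOpenEmbedding.injective
      have h := congrArg (fun φ => φ (hU.primeIdealOf ⟨x, hxU⟩))
        (hV.SpecMap_appLE_fromSpec f hU hUV)
      simp only [Scheme.Hom.comp_apply, IsAffineOpen.fromSpec_primeIdealOf] at h
      rw [IsAffineOpen.fromSpec_primeIdealOf]
      exact h.symm
    rw [h]
    rfl
  let := TopCat.Presheaf.algebra_section_stalk X.presheaf ⟨x, hxU⟩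
  let := TopCat.Presheaf.algebra_section_stalk Y.presheaf ⟨f x, hxV⟩
  have : IsLocalization.AtPrime (X.presheaf.stalk x) q := hU.isLocalization_stalk ⟨x, hxU⟩
  have : IsLocalization.AtPrime (Y.presheaf.stalk (f x)) (q.comap (algebraMap Γ(Y, V) Γ(X, U))) := by
    have h := hV.isLocalization_stalk ⟨f x, hxV⟩
    convert h using 2
    exact hp.symm
  obtain ⟨_, _⟩ := hY (f x)
  exact FlatMor67.normal_localization_of_weaklyEtale Γ(Y, V) Γ(X, U) q (Y.presheaf.stalk (f x))
    (X.presheaf.stalk x)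

end Groth.Agent.S7180
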