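import Groth.Statements.S7182
import Mathlib
import Groth.Agent.Pinch2.Base

set_option autoImplicit false
set_option linter.style.haveILetI false
set_option linter.style.longLine false
universe u
open FlatMor

namespace Groth.Agent.S7182

open AlgebraicGeometry CategoryTheory Limits in
/-- In the pushout P = Y ⨿_Z X of a closed immersion i : Z → X and an integral morphism j : Z → Y over a
locally Noetherian base S (each fibre of j inside the preimage of an affine open of X), when X, Y
and Z are each locally of finite type over S, the pushout P is locally of finite type over S as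
well. -/
theorem result {X Y Z P S : Scheme.{u}} (i : Z ⟶ X) (j : Z ⟶ Y) [IsClosedImmersion i] [IsIntegralHom j]
    (haff : ∀ y : Y, ∃ U : X.Opens, IsAffineOpen U ∧ j ⁻¹' {y} ⊆ (i ⁻¹ᵁ U : Set ↑Z))
    (a : X ⟶ P) (b : Y ⟶ P) (hP : IsPushout i j a b) (p : X ⟶ S) (q : Y ⟶ S) (r : P ⟶ S)
    (hp : a ≫ r = p) (hq : b ≫ r = q) [IsLocallyNoetherian S]
    [LocallyOfFiniteType p] [LocallyOfFiniteType q] [LocallyOfFiniteType (j ≫ q)] : LocallyOfFiniteType r := by
  have H := Groth.Agent.Pinch2.hasPairs_integral haff
  haveI : LocallyOfFiniteType j := locallyOfFiniteType_of_comp j q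
  haveI : IsFinite j := (IsFinite.iff_isIntegralHom_and_locallyOfFiniteType j).2 ⟨inferInstance, inferInstance⟩
  haveI : LocallyOfFiniteType (a ≫ r) := by rw [hp]; infer_instance
  haveI : LocallyOfFiniteType (b ≫ r) := by rw [hq]; infer_instance
  exact Groth.Agent.Pinch2.locallyOfFiniteType_of_pushout H hP

end Groth.Agent.S7182
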