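import Groth.Statements.S7183
import Mathlib
import Groth.Agent.Pinch2.Maps

set_option autoImplicit false
set_option linter.style.haveILetI false
set_option linter.style.longLine false
universe u
open FlatMor

namespace Groth.Agent.S7183

open CategoryTheory CategoryTheory.Limits AlgebraicGeometry

lemma etale_holdsForLocalizationAway : RingHom.HoldsForLocalizationAway RingHom.Etale.{u, u} :=
  fun R S _ _ _ r _ => RingHom.etale_algebraMap.2 (by
    haveI := Algebra.Smooth.of_isLocalization_Away (A := S) r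
    haveI := Algebra.Unramified.of_isLocalization_Away (A := S) r
    constructor
    · exact Algebra.FormallyEtale.of_isLocalization (Submonoid.powers r)
    · infer_instance)

open AlgebraicGeometry CategoryTheory Limits in
/-- Let i : Z → X, j : Z → Y be closed immersions with pushout P, let X' → X and Y' → Y be morphisms
whose base changes to Z are identified (a scheme Z' cartesian over both), let P' be the pushout of
Z' → X' and Z' → Y' and h : P' → P the induced morphism. Then h is locally of finite type (resp.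
flat, resp. flat and locally of finite presentation, resp. smooth, resp. étale) if and only if X' →
X and Y' → Y both are. -/
theorem result {X Y Z P X' Y' Z' P' : Scheme.{u}}
    (i : Z ⟶ X) (j : Z ⟶ Y) [IsClosedImmersion i] [IsClosedImmersion j] (a : X ⟶ P) (b : Y ⟶ P) (hP : IsPushout i j a b)
    (f : X' ⟶ X) (g : Y' ⟶ Y) (i' : Z' ⟶ X') (j' : Z' ⟶ Y') (c : Z' ⟶ Z) (hX : IsPullback i' c f i) (hY : IsPullback j' c g j)
    (a' : X' ⟶ P') (b' : Y' ⟶ P') (hP' : IsPushout i' j' a' b') (h : P' ⟶ P) (ha : a' ≫ h = f ≫ a) (hb : b' ≫ h = g ≫ b) :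
    (LocallyOfFiniteType h ↔ LocallyOfFiniteType f ∧ LocallyOfFiniteType g) ∧
    (Flat h ↔ Flat f ∧ Flat g) ∧
    ((Flat h ∧ LocallyOfFinitePresentation h) ↔ (Flat f ∧ LocallyOfFinitePresentation f) ∧ (Flat g ∧ LocallyOfFinitePresentation g)) ∧
    (Smooth h ↔ Smooth f ∧ Smooth g) ∧
    (Etale h ↔ Etale f ∧ Etale g) := by
  haveI hafA := Groth.Agent.Pinch2.isAffineHom_inl (Groth.Agent.Pinch2.hasPairs_closedImmersion (i := i) (j := j)) hP
  haveI hafB := Groth.Agent.Pinch2.isClosedImmersion_inr (Groth.Agent.Pinch2.hasPairs_closedImmersion (i := i) (j := j)) hP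
  have d : ∀ {V : P.Opens} {W : P'.Opens} (hV : IsAffineOpen V) (e : W ≤ h ⁻¹ᵁ V)
      (eX : a' ⁻¹ᵁ W ≤ f ⁻¹ᵁ (a ⁻¹ᵁ V)) (eY : b' ⁻¹ᵁ W ≤ g ⁻¹ᵁ (b ⁻¹ᵁ V)),
      IsPushout (a.app V) (h.appLE V W e) (f.appLE (a ⁻¹ᵁ V) (a' ⁻¹ᵁ W) eX) (a'.app W) →
      IsPushout (b.app V) (h.appLE V W e) (g.appLE (b ⁻¹ᵁ V) (b' ⁻¹ᵁ W) eY) (b'.app W) →
      Groth.Agent.Pinch2.FibAt i j a b hP.w V → _ := fun {V W} hV e eX eY pA pB hfib =>
    Groth.Agent.Pinch2.FibProp.descend (by simp only [Scheme.Hom.app_eq_appLE, Scheme.Hom.appLE_comp_appLE, hP.w]) hfib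
      (by
        rw [← Scheme.Hom.app_eq_appLE]
        exact i.app_surjective _ (hV.preimage a)) pA pB
  have hFT := fun hh => Groth.Agent.Pinch2.legs_of_map hP hX hY hP' ha hb @LocallyOfFiniteType
    RingHom.finiteType_isStableUnderBaseChange
    (RingHom.finiteType_stableUnderComposition.stableUnderCompositionWithLocalizationAway
      RingHom.finiteType_holdsForLocalizationAway).left hh
  have hFl := fun hh => Groth.Agent.Pinch2.legs_of_map hP hX hY hP' ha hb @Flat
    RingHom.Flat.isStableUnderBaseChange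
    (RingHom.Flat.stableUnderComposition.stableUnderCompositionWithLocalizationAway
      RingHom.Flat.holdsForLocalizationAway).left hh
  have hFP := fun hh => Groth.Agent.Pinch2.legs_of_map hP hX hY hP' ha hb @LocallyOfFinitePresentation
    RingHom.finitePresentation_isStableUnderBaseChange
    (RingHom.finitePresentation_stableUnderComposition.stableUnderCompositionWithLocalizationAway
      RingHom.finitePresentation_holdsForLocalizationAway).left hh
  have hSm := fun hh => Groth.Agent.Pinch2.legs_of_map hP hX hY hP' ha hb @Smooth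
    RingHom.Smooth.isStableUnderBaseChange
    (RingHom.Smooth.stableUnderComposition.stableUnderCompositionWithLocalizationAway
      RingHom.Smooth.holdsForLocalizationAway).left hh
  have hEt := fun hh => Groth.Agent.Pinch2.legs_of_map hP hX hY hP' ha hb @Etale
    RingHom.Etale.isStableUnderBaseChange
    (RingHom.Etale.stableUnderComposition.stableUnderCompositionWithLocalizationAway
      etale_holdsForLocalizationAway).left hh
  have bFl : Flat f → Flat g → Flat h := fun h₁ h₂ =>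
    Groth.Agent.Pinch2.map_of_legs hP hX hY hP' ha hb @Flat fun {V W} hV hW e eX eY hA hB pA pB hfib =>
      (d hV e eX eY pA pB hfib).2.1 (HasRingHomProperty.appLE @Flat f h₁ ⟨_, hV.preimage a⟩ ⟨_, hA⟩ eX)
        (HasRingHomProperty.appLE @Flat g h₂ ⟨_, hV.preimage b⟩ ⟨_, hB⟩ eY)
  refine ⟨⟨hFT, fun ⟨h₁, h₂⟩ => Groth.Agent.Pinch2.map_of_legs hP hX hY hP' ha hb @LocallyOfFiniteType
      fun {V W} hV hW e eX eY hA hB pA pB hfib => (d hV e eX eY pA pB hfib).1
        (HasRingHomProperty.appLE @LocallyOfFiniteType f h₁ ⟨_, hV.preimage a⟩ ⟨_, hA⟩ eX)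
        (HasRingHomProperty.appLE @LocallyOfFiniteType g h₂ ⟨_, hV.preimage b⟩ ⟨_, hB⟩ eY)⟩,
    ⟨hFl, fun hh => bFl hh.1 hh.2⟩,
    ⟨fun hh => ⟨⟨(hFl hh.1).1, (hFP hh.2).1⟩, ⟨(hFl hh.1).2, (hFP hh.2).2⟩⟩,
      fun hh => ⟨bFl hh.1.1 hh.2.1, Groth.Agent.Pinch2.map_of_legs hP hX hY hP' ha hb @LocallyOfFinitePresentation
        fun {V W} hV hW e eX eY hA hB pA pB hfib => (d hV e eX eY pA pB hfib).2.2.1
          (HasRingHomProperty.appLE @Flat f hh.1.1 ⟨_, hV.preimage a⟩ ⟨_, hA⟩ eX)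
          (HasRingHomProperty.appLE @Flat g hh.2.1 ⟨_, hV.preimage b⟩ ⟨_, hB⟩ eY)
          (HasRingHomProperty.appLE @LocallyOfFinitePresentation f hh.1.2 ⟨_, hV.preimage a⟩ ⟨_, hA⟩ eX)
          (HasRingHomProperty.appLE @LocallyOfFinitePresentation g hh.2.2 ⟨_, hV.preimage b⟩ ⟨_, hB⟩ eY)⟩⟩,
    ⟨hSm, fun ⟨h₁, h₂⟩ => Groth.Agent.Pinch2.map_of_legs hP hX hY hP' ha hb @Smooth
      fun {V W} hV hW e eX eY hA hB pA pB hfib => (d hV e eX eY pA pB hfib).2.2.2.1
        (HasRingHomProperty.appLE @Smooth f h₁ ⟨_, hV.preimage a⟩ ⟨_, hA⟩ eX)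
        (HasRingHomProperty.appLE @Smooth g h₂ ⟨_, hV.preimage b⟩ ⟨_, hB⟩ eY)⟩,
    ⟨hEt, fun ⟨h₁, h₂⟩ => Groth.Agent.Pinch2.map_of_legs hP hX hY hP' ha hb @Etale
      fun {V W} hV hW e eX eY hA hB pA pB hfib => (d hV e eX eY pA pB hfib).2.2.2.2
        (HasRingHomProperty.appLE @Etale f h₁ ⟨_, hV.preimage a⟩ ⟨_, hA⟩ eX)
        (HasRingHomProperty.appLE @Etale g h₂ ⟨_, hV.preimage b⟩ ⟨_, hB⟩ eY)⟩⟩

end Groth.Agent.S7183
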