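import Groth.Statements.S7186
import Groth.Agent.FlatMor67.FibreFree
import Groth.Agent.ValVan29.PushTwist

set_option autoImplicit false
set_option backward.isDefEq.respectTransparency.types false
universe u
open FlatMor

namespace Groth.Agent.S7186

open AlgebraicGeometry CategoryTheory Limits in
/-- Let f : X → S be flat, proper and of finite presentation such that O_T → (f_T)_* O_{X_T} is an
isomorphism for every base change T → S. Suppose E is an O_X-module that is finite locally free and
whose restriction to each fibre X_s is free, and let S be reduced. Then E is isomorphic to the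
pullback of a finite locally free O_S-module. -/
theorem result {X S : Scheme.{u}} (f : X ⟶ S) [Flat f] [IsProper f] [LocallyOfFinitePresentation f]
    (hO : ∀ (T : Scheme.{u}) (g : T ⟶ S) (U : T.Opens), IsIso ((pullback.snd f g).app U))
    (E : X.Modules) (hE : FlatMod.IsFinLocFree E)
    (hfib : ∀ s : S, ∃ r : ℕ, Nonempty ((Scheme.Modules.pullback (f.fiberι s)).obj E ≅ FlatMod.freeMod (f.fiber s) r))
    [IsReduced S] :
    ∃ N : S.Modules, FlatMod.IsFinLocFree N ∧ Nonempty ((Scheme.Modules.pullback f).obj N ≅ E) := by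
  have hO' : ∀ U : S.Opens, Function.Bijective (f.app U) := fun U => by
    haveI : IsIso (pullback.fst f (𝟙 S)) := inferInstance
    have e : pullback.snd f (𝟙 S) = pullback.fst f (𝟙 S) ≫ f := by
      rw [pullback.condition, Category.comp_id]
    have h : IsIso ((pullback.fst f (𝟙 S) ≫ f).app U) := e ▸ hO S (𝟙 S) U
    haveI h' : IsIso (f.app U ≫ (pullback.fst f (𝟙 S)).app (f ⁻¹ᵁ U)) := h
    haveI : IsIso ((pullback.fst f (𝟙 S)).app (f ⁻¹ᵁ U)) := inferInstance
    haveI : IsIso (f.app U) := IsIso.of_isIso_comp_right (f.app U) ((pullback.fst f (𝟙 S)).app (f ⁻¹ᵁ U))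
    exact ConcreteCategory.bijective_of_isIso (f.app U)
  choose V r m hsV hm using fun s =>
    FlatMor67.FibreFree.exists_nhd_stalkBasis f hO E hE hfib s
  haveI : IsIso ((Scheme.Modules.pullbackPushforwardAdjunction f).counit.app E) :=
    ValVan29.isIso_of_bijective_small _ fun x => ⟨f ⁻¹ᵁ V (f x), hsV (f x), fun T hT =>
      FlatMor67.SpreadBasis.counit_app_bijective hO' (hm (f x)) hT⟩
  exact ⟨(Scheme.Modules.pushforward f).obj E,
    Props58.LocFree.isFinLocFree_iff.2 fun s => ⟨V s, r s, _, hsV s,
      FlatMor67.SpreadBasis.push_stalkBasis hO' (hm s)⟩,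
    ⟨asIso ((Scheme.Modules.pullbackPushforwardAdjunction f).counit.app E)⟩⟩

end Groth.Agent.S7186
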