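import Groth.Statements.S7187
import Groth.Agent.FlatMor67.FibreLift
import Groth.Agent.AbSch7.PushPull

set_option autoImplicit false
set_option backward.isDefEq.respectTransparency.types false
set_option maxHeartbeats 800000
universe u
open FlatMor

namespace Groth.Agent.S7187

open AlgebraicGeometry CategoryTheory Limits in
/-- Let X and Y be Noetherian schemes and f : X → Y a proper morphism with O_Y → f_* O_X an isomorphism,
fibres of dimension at most 1, and H^1(X_y, O_{X_y}) = 0 for all y. Then f^* is injective on
isomorphism classes of invertible modules, and for every invertible O_X-module L whose restriction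
to each fibre X_y is trivial the direct image f_* L is an invertible O_Y-module. (The published
statement asserts moreover that such an L is isomorphic to f^* f_* L, so that f^* is a bijection
onto the classes of fibrewise trivial invertible modules; that last step is not stated here.) -/
theorem result {X Y : Scheme.{u}} (f : X ⟶ Y) [IsProper f] [IsNoetherian X] [IsNoetherian Y]
    (hO : ∀ U : Y.Opens, IsIso (f.app U))
    (hdim : ∀ y : Y, topologicalKrullDim ↥(f.fiber y) ≤ 1)
    (hH1 : ∀ y : Y, Subsingleton (Coh.HH (f.fiber y) (Coh.structureModule (f.fiber y)) 1)) :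
    (∀ N N' : Y.Modules, PicF.IsInvertible N → PicF.IsInvertible N' →
        Nonempty ((Scheme.Modules.pullback f).obj N ≅ (Scheme.Modules.pullback f).obj N') → Nonempty (N ≅ N')) ∧
    (∀ L : X.Modules, PicF.IsInvertible L →
        (∀ y : Y, Nonempty ((Scheme.Modules.pullback (f.fiberι y)).obj L ≅ Coh.structureModule (f.fiber y))) →
          PicF.IsInvertible ((Scheme.Modules.pushforward f).obj L)) := by
  have hO' : ∀ U : Y.Opens, Function.Bijective (f.app U) := fun U => by
    haveI := hO U
    exact ConcreteCategory.bijective_of_isIso (f.app U)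
  refine ⟨fun N N' hN hN' ⟨e⟩ => ?_, fun L hL hfib => ?_⟩
  · haveI := AbSch7.isIso_pullUnit f _ (LimTop61.isFinLocFreeOfRank_iff.mp (Mero90.isFinLocFreeOfRank_of_isInvertible hN)).1 hO'
    haveI := AbSch7.isIso_pullUnit f _ (LimTop61.isFinLocFreeOfRank_iff.mp (Mero90.isFinLocFreeOfRank_of_isInvertible hN')).1 hO'
    exact ⟨asIso (QCPull72.pullUnit f N) ≪≫ (Scheme.Modules.pushforward f).mapIso e ≪≫
      (asIso (QCPull72.pullUnit f N')).symm⟩
  · choose V m hyV hm using fun y => FlatMor67.FibreLift.exists_nhd_stalkBasis f hL y (hdim y) (hH1 y) (hfib y).some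
    refine Mero90.isInvertible_of_frames fun y => ⟨V y, hyV y, m y 0, fun W hW => ?_⟩
    have hb := ((FlatMor67.SpreadBasis.push_stalkBasis hO' (hm y)).bijective hW).comp
      (Equiv.funUnique (Fin 1) Γ(Y, W)).symm.bijective
    convert hb using 1
    funext c
    simp

end Groth.Agent.S7187
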