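import Groth.Statements.S7188
import Groth.Agent.FlatMor67.TrivLocus

set_option autoImplicit false
set_option backward.isDefEq.respectTransparency.types false
set_option maxHeartbeats 800000
universe u
open FlatMor

namespace Groth.Agent.S7188

open AlgebraicGeometry CategoryTheory Limits in
/-- Let f : X → S be flat, proper and of finite presentation with O_T → (f_T)_* O_{X_T} an isomorphism
for every base change, let E be an invertible O_X-module, and let j : Z → S be the immersion of
finite presentation representing the locus of those T → S over which the pullback of E comes from a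
finite locally free O_T-module. If every geometric fibre of f is an integral scheme, j is a closed
immersion (the locus is a closed subscheme of S). -/
theorem result {X S Z : Scheme.{u}} (f : X ⟶ S) [Flat f] [IsProper f] [LocallyOfFinitePresentation f]
    (hO : ∀ (T : Scheme.{u}) (g : T ⟶ S) (U : T.Opens), IsIso ((pullback.snd f g).app U))
    (E : X.Modules) (hE : PicF.IsInvertible E)
    (j : Z ⟶ S) [IsImmersion j] [LocallyOfFinitePresentation j]
    (hZ : ∀ (T : Scheme.{u}) (g : T ⟶ S), (∃ g' : T ⟶ Z, g' ≫ j = g) ↔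
        ∃ N : T.Modules, FlatMod.IsFinLocFree N ∧
          Nonempty ((Scheme.Modules.pullback (pullback.snd f g)).obj N ≅ (Scheme.Modules.pullback (pullback.fst f g)).obj E))
    (hgeo : ∀ (K : Type u) [Field K] (x : Spec (CommRingCat.of K) ⟶ S), IsIntegral (pullback f x)) :
    IsClosedImmersion j := by
  refine IsClosedImmersion.of_isPreimmersion j ?_
  obtain ⟨Ed, hEd, ⟨ε⟩⟩ := An92.InvMod.exists_inverse hE
  have key : ∀ (A : CommRingCat.{u}) (g : Spec A ⟶ S), IsClosed (g ⁻¹' Set.range j) := by
    intro A g
    refine Eq.mp (congrArg IsClosed (Set.ext fun p => ?_))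
      ((FlatMor67.TrivLocus.isClosed_secLocus f hE g).inter (FlatMor67.TrivLocus.isClosed_secLocus f hEd g))
    refine Iff.symm ?_
    let u := FlatMor67.TrivLocus.pt g p
    haveI : IsIntegral (pullback f u) := hgeo _ u
    haveI : Nonempty ↥(pullback f u) := inferInstance
    haveI : Surjective (pullback.snd f u) := ⟨fun y => ⟨Classical.arbitrary _, Subsingleton.elim _ _⟩⟩
    have hL : PicF.IsInvertible ((Scheme.Modules.pullback (pullback.fst f u)).obj E) := Amp73.isInvertible_pullback _ hE
    have hN : PicF.IsInvertible ((Scheme.Modules.pullback (pullback.fst f u)).obj Ed) := Amp73.isInvertible_pullback _ hEd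
    obtain ⟨e⟩ := FlatMor67.TrivLocus.pullback_inverse (pullback.fst f u) hE hEd ε
    constructor
    · rintro ⟨z, hz⟩
      obtain ⟨N, hNf, ⟨α⟩⟩ := (hZ _ u).1 (FlatMor67.TrivLocus.exists_lift j u
        ⟨z, hz.trans (FlatMor67.TrivLocus.pt_apply g p (IsLocalRing.closedPoint _)).symm⟩)
      haveI := Props58.LocFree.isQuasicoherent_of_isFinLocFree hNf
      have hNi : PicF.IsInvertible N :=
        FBase64.DelPezzo.isInvertible_of_pullback (pullback.snd f u) N (EGA73.isInvertible_of_iso α.symm hL)
      obtain ⟨β⟩ := SemilocalPic51.nonempty_iso_unit hNi (Set.toFinite _)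
      let τ : (Scheme.Modules.pullback (pullback.fst f u)).obj E ≅ Coh.structureModule _ :=
        α.symm ≪≫ (Scheme.Modules.pullback (pullback.snd f u)).mapIso β ≪≫ PicLoc.pullbackStructureIso _
      exact ⟨FlatMor67.TrivLocus.hasSec_of_iso τ.symm FlatMor67.TrivLocus.hasSec_structureModule,
        FlatMor67.TrivLocus.hasSec_of_iso_structureModule e τ⟩
    · rintro ⟨h1, h2⟩
      haveI := hO _ u ⊤
      have hfield : IsField (Γ(pullback f u, ⊤) : Type u) :=
        MulEquiv.isField (Field.toIsField p.asIdeal.ResidueField)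
          (((asIso ((pullback.snd f u).app ⊤)).symm ≪≫
            Scheme.ΓSpecIso (CommRingCat.of p.asIdeal.ResidueField)).commRingCatIsoToRingEquiv.toMulEquiv)
      obtain ⟨τ⟩ := FlatMor67.TrivLocus.iso_structureModule_of_hasSec hfield hL hN e h1 h2
      obtain ⟨w, hw⟩ := (hZ _ u).2 ⟨Coh.structureModule _,
        (LimTop61.isFinLocFreeOfRank_iff.mp (Mero90.isFinLocFreeOfRank_of_isInvertible EGA73.isInvertible_structureModule)).1,
        ⟨PicLoc.pullbackStructureIso _ ≪≫ τ.symm⟩⟩
      exact ⟨w (IsLocalRing.closedPoint _), by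
        rw [← Scheme.Hom.comp_apply, hw]; exact FlatMor67.TrivLocus.pt_apply g p _⟩
  rw [← isOpen_compl_iff, isOpen_iff_forall_mem_open]
  intro s hs
  obtain ⟨V, hV, hsV, -⟩ := exists_isAffineOpen_mem_and_subset (X := S) (x := s) (U := ⊤) trivial
  refine ⟨hV.fromSpec '' (hV.fromSpec ⁻¹' Set.range j)ᶜ, ?_,
    hV.fromSpec.isOpenEmbedding.isOpenMap _ (key _ hV.fromSpec).isOpen_compl, ?_⟩
  · rintro _ ⟨p, hp, rfl⟩
    exact hp
  · obtain ⟨p, rfl⟩ : s ∈ Set.range hV.fromSpec := by rw [hV.range_fromSpec]; exact hsV
    exact ⟨p, hs, rfl⟩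

end Groth.Agent.S7188
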