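import Groth.Statements.S7189
import Groth.Agent.Cube73.Main

set_option autoImplicit false
set_option backward.isDefEq.respectTransparency.types false
set_option maxHeartbeats 800000
universe u
open FlatMor

namespace Groth.Agent.S7189

open AlgebraicGeometry CategoryTheory Limits in
/-- Let f : X → S and g : Y → S be flat, proper, of finite presentation, each with O_T → (·_T)_* O an
isomorphism after every base change, with sections σ and τ; let s be a point of S and L an
invertible module on X ×_S Y. If L pulls back to a trivial module along X → X ×_S Y, x ↦ (x,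
τ(f(x))) and along Y → X ×_S Y, y ↦ (σ(g(y)), y), and L is trivial on the fibre of X ×_S Y over s,
then there is an open neighbourhood U of s over whose preimage L is trivial. -/
theorem result {X Y S : Scheme.{u}} (f : X ⟶ S) (g : Y ⟶ S)
    [Flat f] [IsProper f] [LocallyOfFinitePresentation f] [Flat g] [IsProper g] [LocallyOfFinitePresentation g]
    (hOf : ∀ (T : Scheme.{u}) (t : T ⟶ S) (U : T.Opens), IsIso ((pullback.snd f t).app U))
    (hOg : ∀ (T : Scheme.{u}) (t : T ⟶ S) (U : T.Opens), IsIso ((pullback.snd g t).app U))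
    (σ : S ⟶ X) (hσ : σ ≫ f = 𝟙 S) (τ : S ⟶ Y) (hτ : τ ≫ g = 𝟙 S) (s : S)
    (L : (pullback f g).Modules) (hL : PicF.IsInvertible L)
    (u : X ⟶ pullback f g) (hu1 : u ≫ pullback.fst f g = 𝟙 X) (hu2 : u ≫ pullback.snd f g = f ≫ τ)
    (v : Y ⟶ pullback f g) (hv1 : v ≫ pullback.fst f g = g ≫ σ) (hv2 : v ≫ pullback.snd f g = 𝟙 Y)
    (h1 : Nonempty ((Scheme.Modules.pullback u).obj L ≅ Coh.structureModule X))
    (h2 : Nonempty ((Scheme.Modules.pullback v).obj L ≅ Coh.structureModule Y))
    (h3 : Nonempty ((Scheme.Modules.pullback ((pullback.fst f g ≫ f).fiberι s)).obj L ≅ Coh.structureModule ((pullback.fst f g ≫ f).fiber s))) :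
    ∃ U : S.Opens, s ∈ U ∧ Nonempty (L.restrict ((pullback.fst f g ≫ f) ⁻¹ᵁ U).ι ≅ Coh.structureModule ((pullback.fst f g ≫ f) ⁻¹ᵁ U).toScheme) := by
  let D : Cube73.Datum S :=
    { X := X, Y := Y, P := pullback f g, qX := f, qY := g,
      properX := inferInstance, flatX := inferInstance, lfpX := inferInstance,
      properY := inferInstance, flatY := inferInstance, lfpY := inferInstance,
      a := pullback.fst f g, b := pullback.snd f g, H := IsPullback.of_hasPullback f g,
      x := σ, hx := hσ, y := τ, hy := hτ, ix := v, hix := hv1, hix' := hv2, iy := u, hiy := hu2, hiy' := hu1,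
      L := L, hL := hL, trivY := h2, trivX := h1 }
  have h0 : D.H0At s := by
    haveI := hOf _ (S.fromSpecResidueField s) ⊤
    haveI := hOg _ (S.fromSpecResidueField s) ⊤
    exact ⟨ConcreteCategory.bijective_of_isIso ((pullback.snd f (S.fromSpecResidueField s)).app ⊤),
      ConcreteCategory.bijective_of_isIso ((pullback.snd g (S.fromSpecResidueField s)).app ⊤)⟩
  have key : ∀ (D : Cube73.Datum S), D.H0At s → D.TrivAt s → D.FrameAt s := by
    intro D h0 ht
    obtain ⟨V, hV, hz, -⟩ := exists_isAffineOpen_mem_and_subset (X := S) (x := s) (U := ⊤) trivial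
    haveI : IsAffine (V : Scheme.{u}) := hV
    obtain ⟨Z₀, _, g, D₀, ⟨B⟩⟩ := Cube73.exists_model (D.bc V.ι)
    have h0₁ := ((D.bcBC V.ι).h0At_iff ⟨s, hz⟩).2 h0
    have h0' := (B.h0At_iff ⟨s, hz⟩).1 h0₁
    have ht' := B.trivAt_of ⟨s, hz⟩ h0' ((D.bcBC V.ι).trivAt ⟨s, hz⟩ ht)
    exact D.frameAt_of_bc V.ι ⟨s, hz⟩ (Cube73.Datum.frameAt_of_BC D₀ B _ (D₀.frameAt_of_trivAt_noeth _ h0' ht'))
  obtain ⟨U, hs, e, he⟩ := key D h0 h3
  exact ⟨U, hs, EGA73.nonempty_restrict_iso_unit L _ e fun W hW => he W hW⟩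

end Groth.Agent.S7189
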