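import Groth.Statements.S7199
import Groth.Agent.E4O.DimField
import Mathlib.RingTheory.AlgebraicIndependent.Basic

set_option autoImplicit false
universe u
open FlatMor

namespace Groth.Agent.S7199

open Polynomial in
/-- A polynomial map is injective when its constant term is. -/
theorem eval₂_X_injective {R T : Type*} [CommRing R] [CommRing T] [IsDomain T] (φ : R →+* T[X])
    (h : Function.Injective ((evalRingHom (0 : T)).comp φ)) : Function.Injective (eval₂RingHom φ X) := by
  rw [injective_iff_map_eq_zero]
  intro p hp
  by_contra hne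
  obtain ⟨q, hq, hndvd⟩ := Polynomial.exists_eq_pow_rootMultiplicity_mul_and_not_dvd p hne 0
  rw [map_zero, sub_zero] at hq hndvd
  rw [hq, map_mul, map_pow, coe_eval₂RingHom, eval₂_X] at hp
  have h0 := (mul_eq_zero.mp hp).resolve_left (pow_ne_zero _ X_ne_zero)
  apply hndvd
  rw [X_dvd_iff]
  apply h
  rw [map_zero]
  have := congrArg (evalRingHom (0 : T)) h0
  rw [map_zero, hom_eval₂, coe_evalRingHom, eval_X, eval₂_at_zero] at this
  exact this

open Polynomial in
/-- Adjoining a variable preserves algebraic independence of constant terms. -/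
theorem indep_option {k T ι : Type*} [CommRing k] [CommRing T] [IsDomain T] [Algebra k T] (v : ι → T[X])
    (h : AlgebraicIndependent k fun i => (v i).eval 0) :
    AlgebraicIndependent k (fun o : Option ι => o.elim X v) := by
  rw [algebraicIndependent_iff_injective_aeval] at h ⊢
  have e : ⇑(MvPolynomial.aeval (R := k) fun o : Option ι => o.elim X v) =
      ⇑(eval₂RingHom (MvPolynomial.aeval (R := k) v).toRingHom X) ∘ ⇑(MvPolynomial.optionEquivLeft k ι) := by
    have : (MvPolynomial.aeval (R := k) fun o : Option ι => o.elim X v).toRingHom =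
        (eval₂RingHom (MvPolynomial.aeval (R := k) v).toRingHom X).comp
          (MvPolynomial.optionEquivLeft k ι).toRingEquiv.toRingHom := by
      refine MvPolynomial.ringHom_ext (fun r => ?_) (fun o => ?_)
      · simp
      · cases o <;> simp
    exact congrArg DFunLike.coe this
  rw [e]
  refine (eval₂_X_injective _ ?_).comp (MvPolynomial.optionEquivLeft k ι).injective
  have : (evalRingHom (0 : T)).comp (MvPolynomial.aeval (R := k) v).toRingHom =
      (MvPolynomial.aeval (R := k) fun i => (v i).eval 0).toRingHom := by
    refine MvPolynomial.ringHom_ext (fun r => ?_) (fun i => ?_) <;> simp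
  rw [this]
  exact h

open MvPolynomial in
/-- The family of the general linear form and a constant is independent. -/
def Claim (k : Type*) {K : Type*} [CommRing k] [CommRing K] [Algebra k K] (a b : K) (σ : Type) [Fintype σ] :
    Prop :=
  ∀ h : σ → K, AlgebraicIndependent k (Sum.elim (fun i : Option σ => (X i : MvPolynomial (Option σ) K))
    ![C b * X none + ∑ i, C (h i) * X (some i), C a])

open MvPolynomial in
/-- A general linear form is independent of a further constant. -/
theorem indep_linearForm {k K : Type*} [CommRing k] [CommRing K] [IsDomain K] [Algebra k K] (a b : K)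
    (hab : AlgebraicIndependent k ![b, a]) (σ : Type) [Fintype σ] :
    Claim k a b σ := by
  refine @Fintype.induction_empty_option (fun σ inst => @Claim k K _ _ _ a b σ inst) ?_ ?_ ?_ σ _
  · intro α β inst e ih h
    unfold Claim at ih
    let _ : Fintype α := Fintype.ofEquiv β e.symm
    have := ((ih (h ∘ e)).map' (f := (rename (e.optionCongr)).restrictScalars k)
      (rename_injective _ e.optionCongr.injective)).comp (Sum.map e.optionCongr.symm id)
      (Function.Injective.sumMap e.optionCongr.symm.injective Function.injective_id)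
    convert this using 1
    funext w
    rcases w with i | j
    · simp
    · fin_cases j
      · simp [Equiv.optionCongr_apply, ← e.sum_comp]
      · simp
  · intro h
    let v : Option (Fin 2) → Polynomial K := fun o =>
      o.elim Polynomial.X ![Polynomial.C b * Polynomial.X + Polynomial.C b, Polynomial.C a]
    let v' : Option (Fin 2) → Polynomial K := fun o =>
      o.elim Polynomial.X ![Polynomial.C b * Polynomial.X, Polynomial.C a]
    have h1 : AlgebraicIndependent k v := by
      refine indep_option _ ?_
      convert hab using 1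
      funext j
      fin_cases j <;> simp
    have h2 : AlgebraicIndependent k v' := by
      rw [algebraicIndependent_iff_injective_aeval] at h1 ⊢
      let θ : Polynomial K →ₐ[k] Polynomial K := (Polynomial.aeval (Polynomial.X + 1 : Polynomial K)).restrictScalars k
      let α₁ : MvPolynomial (Option (Fin 2)) k →ₐ[k] MvPolynomial (Option (Fin 2)) k :=
        aeval fun o => o.elim (X none + 1) fun j => X (some j)
      let α₂ : MvPolynomial (Option (Fin 2)) k →ₐ[k] MvPolynomial (Option (Fin 2)) k :=
        aeval fun o => o.elim (X none - 1) fun j => X (some j)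
      have hα : Function.Injective α₁ := by
        have : α₂.comp α₁ = AlgHom.id k _ := by
          refine MvPolynomial.algHom_ext fun o => ?_
          cases o <;> simp [α₁, α₂]
        exact Function.LeftInverse.injective (g := α₂) (DFunLike.congr_fun this)
      have : θ.comp (aeval v') = (aeval v).comp α₁ := by
        refine MvPolynomial.algHom_ext fun o => ?_
        rcases o with _ | j
        · simp [θ, α₁, v, v']
        · fin_cases j <;> simp [θ, α₁, v, v', mul_add]
      refine Function.Injective.of_comp (f := θ) ?_
      rw [← AlgHom.coe_comp, this, AlgHom.coe_comp]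
      exact h1.comp hα
    let ι : Polynomial K →ₐ[k] MvPolynomial (Option PEmpty) K :=
      (Polynomial.aeval (X none : MvPolynomial (Option PEmpty) K)).restrictScalars k
    have hι : Function.Injective ι := by
      let π : MvPolynomial (Option PEmpty) K →ₐ[K] Polynomial K := aeval fun _ => Polynomial.X
      refine Function.LeftInverse.injective (g := π) fun q => ?_
      show (π.comp (Polynomial.aeval (X none : MvPolynomial (Option PEmpty) K))) q = AlgHom.id K _ q
      congr 1
      ext
      simp [π]
    let ε : Option PEmpty ⊕ Fin 2 → Option (Fin 2) := Sum.elim (fun _ => none) some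
    have hε : Function.Injective ε := by
      rintro ((_ | i) | j) ((_ | i') | j') e <;>
        first | exact i.elim | exact i'.elim | rfl | simpa [ε] using e
    convert (h2.map' hι).comp ε hε using 1
    funext w
    rcases w with (_ | i) | j
    · simp [ι, ε, v']
    · exact i.elim
    · fin_cases j <;> simp [ι, ε, v']
  · intro α inst ih h
    unfold Claim at ih
    have h1 : AlgebraicIndependent k (fun o : Option (Option α ⊕ Fin 2) => o.elim Polynomial.X
        (Sum.elim (fun i => Polynomial.C (X i : MvPolynomial (Option α) K))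
          ![Polynomial.C (C b * X none + ∑ i, C (h (some i)) * X (some i)) + Polynomial.C (C (h none)) * Polynomial.X,
            Polynomial.C (C a)])) := by
      refine indep_option _ ?_
      convert ih (fun i => h (some i)) using 1
      funext w
      rcases w with i | j
      · simp
      · fin_cases j <;> simp [Polynomial.eval_finsetSum]
    classical
    let e : Option (Option α) ≃ Option (Option α) := Equiv.swap none (some none)
    let Φ : MvPolynomial (Option (Option α)) K ≃ₐ[K] Polynomial (MvPolynomial (Option α) K) :=
      (renameEquiv K e).trans (optionEquivLeft K (Option α))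
    refine AlgebraicIndependent.of_comp (Φ.toAlgHom.restrictScalars k) ?_
    let ε : Option (Option α) ⊕ Fin 2 → Option (Option α ⊕ Fin 2) :=
      Sum.elim (fun o => match o with
        | none => some (Sum.inl none)
        | some none => none
        | some (some i) => some (Sum.inl (some i))) (fun j => some (Sum.inr j))
    have hε : Function.Injective ε := by
      rintro ((_ | _ | i) | j) ((_ | _ | i') | j') he <;> simp_all [ε]
    have e1 : e none = some none := Equiv.swap_apply_left _ _
    have e2 : e (some none) = none := Equiv.swap_apply_right _ _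
    have e3 : ∀ i, e (some (some i)) = some (some i) := fun i =>
      Equiv.swap_apply_of_ne_of_ne (by simp) (by simp)
    convert h1.comp ε hε using 1
    funext w
    rcases w with (_ | _ | i) | j
    · simp [Φ, ε, e1]
    · simp [Φ, ε, e2]
    · simp [Φ, ε, e3]
    · fin_cases j
      · simp [Φ, ε, e1, e2, e3, Fintype.sum_option]
        ring
      · simp [Φ, ε]

/-- A prime of height zero in a domain is zero. -/
theorem eq_bot_of_height {R : Type*} [CommRing R] [IsDomain R] (P : Ideal R) [P.IsPrime] (h : P.height = 0) :
    P = ⊥ := by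
  have := Ideal.height_eq_zero_iff.mp h
  rwa [IsDomain.minimalPrimes_eq_singleton_bot, Set.mem_singleton_iff] at this

/-- Two functions cutting out a component of codimension two are independent. -/
theorem indep_pair {k A : Type u} [Field k] [CommRing A] [IsDomain A] [Algebra k A]
    [Algebra.FiniteType k A] (a b : A) (p : Ideal A) (hp : p ∈ (Ideal.span {a, b}).minimalPrimes)
    (hdim : ringKrullDim (A ⧸ p) + 2 = ringKrullDim A) : AlgebraicIndependent k ![a, b] := by
  have : p.IsPrime := hp.1.1
  have : IsNoetherianRing A := Algebra.FiniteType.isNoetherianRing k A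
  have hht : p.height = 2 := by
    have h := Groth.Agent.E4O.height_add_trdeg_eq k A p
    have hd1 := Groth.Agent.E4O.ringKrullDim_eq_trdeg k A
    have hd2 := Groth.Agent.E4O.ringKrullDim_eq_trdeg k (A ⧸ p)
    rw [Groth.Agent.E4O.trdeg_eq_natCast k A, Groth.Agent.E4O.trdeg_eq_natCast k (A ⧸ p)] at h
    rw [hd1, hd2] at hdim
    have hdim' : Cardinal.toNat (Algebra.trdeg k (A ⧸ p)) + 2 = Cardinal.toNat (Algebra.trdeg k A) := by
      exact_mod_cast hdim
    rw [← hdim'] at h
    obtain ⟨n, hn⟩ := ENat.ne_top_iff_exists.mp (Ideal.height_ne_top (Ideal.IsPrime.ne_top hp.1.1) : p.height ≠ ⊤)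
    rw [← hn, Cardinal.ofENat_nat, ← Nat.cast_add, Nat.cast_inj] at h
    rw [← hn]
    norm_cast
    omega
  let φ : MvPolynomial (Fin 2) k →ₐ[k] A := MvPolynomial.aeval ![a, b]
  rw [algebraicIndependent_iff_injective_aeval]
  by_contra hinj
  let B := φ.range
  let ψ : MvPolynomial (Fin 2) k →ₐ[k] B := φ.rangeRestrict
  let P := RingHom.ker φ.toRingHom
  have hP : P ≠ ⊥ := fun h => hinj ((RingHom.injective_iff_ker_eq_bot φ.toRingHom).2 h)
  have : P.IsPrime := RingHom.ker_isPrime _
  have hB : ringKrullDim B ≤ 1 := by
    let eB : (MvPolynomial (Fin 2) k ⧸ P) ≃ₐ[k] B := Ideal.quotientKerEquivRange φ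
    rw [← ringKrullDim_eq_of_ringEquiv eB.toRingEquiv, Groth.Agent.E4O.ringKrullDim_eq_trdeg k]
    have h := Groth.Agent.E4O.height_add_trdeg_eq k (MvPolynomial (Fin 2) k) P
    rw [MvPolynomial.trdeg_of_isDomain, Cardinal.mk_fin, Cardinal.lift_natCast,
      Groth.Agent.E4O.trdeg_eq_natCast k (MvPolynomial (Fin 2) k ⧸ P)] at h
    obtain ⟨n, hn⟩ := ENat.ne_top_iff_exists.mp (Ideal.height_ne_top (Ideal.IsPrime.ne_top ‹P.IsPrime›) : P.height ≠ ⊤)
    rw [← hn, Cardinal.ofENat_nat, ← Nat.cast_add, Nat.cast_inj] at h
    have h0 : n ≠ 0 := fun h0 => hP (by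
      rw [h0, Nat.cast_zero] at hn
      exact eq_bot_of_height P hn.symm)
    exact_mod_cast (by omega : Cardinal.toNat (Algebra.trdeg k (MvPolynomial (Fin 2) k ⧸ P)) ≤ 1)
  have ha : a ∈ B := ⟨MvPolynomial.X 0, by simp [φ]⟩
  have hb : b ∈ B := ⟨MvPolynomial.X 1, by simp [φ]⟩
  have hab : a ≠ 0 ∨ b ≠ 0 := by
    by_contra h
    push Not at h
    rw [h.1, h.2, Set.pair_eq_singleton, Ideal.span_singleton_zero] at hp
    obtain rfl : p = ⊥ := eq_bot_of_height p (Ideal.height_eq_zero_iff.mpr hp)
    simp at hht
  obtain ⟨t, htB, htp, ht0⟩ : ∃ t, t ∈ B ∧ t ∈ p ∧ t ≠ 0 :=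
    hab.elim (fun h => ⟨a, ha, hp.1.2 (Ideal.subset_span (Set.mem_insert _ _)), h⟩)
      (fun h => ⟨b, hb, hp.1.2 (Ideal.subset_span (Set.mem_insert_of_mem _ rfl)), h⟩)
  have hmin : p ∈ (Ideal.span {t}).minimalPrimes := by
    refine ⟨⟨‹_›, by rwa [Ideal.span_le, Set.singleton_subset_iff]⟩, fun q hq hqp => ?_⟩
    have := hq.1
    let q' : Ideal B := q.comap B.val
    let p' : Ideal B := p.comap B.val
    have hle : q' ≤ p' := Ideal.comap_mono hqp
    have hne : q' ≠ ⊥ := fun h => ht0 (congrArg Subtype.val
      ((Submodule.eq_bot_iff q').mp h ⟨t, htB⟩ (hq.2 (Ideal.subset_span (Set.mem_singleton t)))))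
    have heq : q' = p' := by
      by_contra hne'
      have h1 : (1 : ℕ∞) ≤ q'.height := Order.one_le_iff_pos.2 (pos_iff_ne_zero.2 fun h0 => hne
        (eq_bot_of_height q' h0))
      have h2 : q'.height + 1 ≤ p'.height := Ideal.height_add_one_le_of_lt_of_isPrime (lt_of_le_of_ne hle hne')
      have h3 : (p'.height : WithBot ℕ∞) ≤ 1 := le_trans (Ideal.height_le_ringKrullDim_of_ne_top (Ideal.IsPrime.ne_top inferInstance)) hB
      have h4 : (2 : ℕ∞) ≤ 1 := le_trans (le_trans (by rw [← one_add_one_eq_two]; gcongr) h2) (WithBot.coe_le_coe.mp h3)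
      exact absurd h4 (by norm_num)
    refine hp.2 ⟨this, Ideal.span_le.2 ?_⟩ hqp
    rintro c (rfl | rfl)
    · exact (heq.symm ▸ (hp.1.2 (Ideal.subset_span (Set.mem_insert _ _)) : (⟨c, ha⟩ : B) ∈ p') : (⟨c, ha⟩ : B) ∈ q')
    · exact (heq.symm ▸ (hp.1.2 (Ideal.subset_span (Set.mem_insert_of_mem _ rfl)) : (⟨c, hb⟩ : B) ∈ p') : (⟨c, hb⟩ : B) ∈ q')
  have := Ideal.height_le_one_of_isPrincipal_of_mem_minimalPrimes (Ideal.span {t}) p hmin
  rw [hht] at this
  exact absurd this (by norm_num)

/-- Take a field k, an integral domain A that is a finitely generated k-algebra, n ≥ 2 and g_1, …, g_n ∈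
A, and suppose some irreducible component of the common zero locus of g_1 and g_2 in Spec A has
dimension dim A − 2. Then for suitable c_1, …, c_n ∈ k the n + 2 elements x_1, …, x_n, Σ g_i x_i, Σ
c_i g_i of the rational function field Frac(A)(x_1, …, x_n) form an algebraically independent family
over k. -/
theorem result {k A : Type u} [Field k] [CommRing A] [IsDomain A] [Algebra k A]
    [Algebra.FiniteType k A] (m : ℕ) (g : Fin (m + 2) → A)
    (p : Ideal A) (hp : p ∈ (Ideal.span {g 0, g 1}).minimalPrimes) (hdim : ringKrullDim (A ⧸ p) + 2 = ringKrullDim A) :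
    ∃ c : Fin (m + 2) → k,
      AlgebraicIndependent k
        (Sum.elim
          (fun i : Fin (m + 2) => algebraMap (MvPolynomial (Fin (m + 2)) (FractionRing A)) (FractionRing (MvPolynomial (Fin (m + 2)) (FractionRing A))) (MvPolynomial.X i))
          ![∑ i, algebraMap A (FractionRing (MvPolynomial (Fin (m + 2)) (FractionRing A))) (g i) *
              algebraMap (MvPolynomial (Fin (m + 2)) (FractionRing A)) (FractionRing (MvPolynomial (Fin (m + 2)) (FractionRing A))) (MvPolynomial.X i),
            algebraMap A (FractionRing (MvPolynomial (Fin (m + 2)) (FractionRing A))) (∑ i, c i • g i)]) := by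
  classical
  let K := FractionRing A
  let R := MvPolynomial (Fin (m + 2)) K
  let F := FractionRing R
  have hp' : p ∈ (Ideal.span {g 0, g 1}).minimalPrimes := hp
  have hab : AlgebraicIndependent k ![algebraMap A K (g 0), algebraMap A K (g 1)] := by
    convert (indep_pair (g 0) (g 1) p hp' hdim).map' (f := IsScalarTower.toAlgHom k A K)
      (IsFractionRing.injective A K) using 1
    funext j
    fin_cases j <;> rfl
  have h0 := indep_linearForm (algebraMap A K (g 1)) (algebraMap A K (g 0)) hab (Fin (m + 1))
    (fun i => algebraMap A K (g i.succ))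
  let eI : Option (Fin (m + 1)) ≃ Fin (m + 2) := (finSuccEquiv (m + 1)).symm
  have h1 := (h0.map' (f := (MvPolynomial.rename eI).restrictScalars k)
    (MvPolynomial.rename_injective _ eI.injective)).comp (Sum.map eI.symm id)
    (Function.Injective.sumMap eI.symm.injective Function.injective_id)
  have h2 := h1.map' (f := IsScalarTower.toAlgHom k R F) (IsFractionRing.injective R F)
  refine ⟨Pi.single 1 1, ?_⟩
  convert h2 using 1
  funext w
  rcases w with i | j
  · simp [eI, F, R]
    rfl
  · fin_cases j
    · simp only [Function.comp_apply, Sum.elim_inr, Sum.map_inr, id]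
      simp [Fin.sum_univ_succ, eI]
      rfl
    · simp [Pi.single_apply]
      rfl

end Groth.Agent.S7199
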