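import Groth.Statements.S7201
import Mathlib.RingTheory.AdicCompletion.LocalRing

set_option autoImplicit false
universe u
open FlatMor

namespace Groth.Agent.S7201

/-- An element of the completion is congruent to an element of the ring. -/
theorem exists_approx {R : Type u} [CommRing R] (I : Ideal R) (hI : I.FG) (N : ℕ) (x : AdicCompletion I R) :
    ∃ r : R, x - algebraMap R (AdicCompletion I R) r ∈ (I ^ N).map (algebraMap R (AdicCompletion I R)) := by
  obtain ⟨r, hr⟩ := Submodule.mkQ_surjective _ (AdicCompletion.eval I R N x)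
  refine ⟨r, ?_⟩
  have h : x - algebraMap R (AdicCompletion I R) r ∈ I ^ N • (⊤ : Submodule R (AdicCompletion I R)) := by
    rw [AdicCompletion.pow_smul_top_eq_ker_eval hI, LinearMap.mem_ker, map_sub, sub_eq_zero, ← hr]
    rfl
  rwa [← Submodule.restrictScalars_mem R, ← Ideal.smul_top_eq_map]

/-- Generators in the base of a power of the maximal ideal of a localisation, in an algebra over it. -/
theorem exists_gens {A L R : Type u} [CommRing A] [IsNoetherianRing A] [CommRing L] [CommRing R]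
    [Algebra A L] (P : Ideal A) [P.IsPrime] [IsLocalization.AtPrime L P] [IsLocalRing L] (ι : L →+* R) (N : ℕ) :
    ∃ (r : ℕ) (π : Fin r → A),
      (IsLocalRing.maximalIdeal L ^ N).map ι = Ideal.span (Set.range fun j => ι (algebraMap A L (π j))) := by
  obtain ⟨r, π, hπ⟩ := Submodule.fg_iff_exists_fin_generating_family.mp (IsNoetherian.noetherian (P ^ N))
  refine ⟨r, π, ?_⟩
  have hP : P ^ N = Ideal.span (Set.range π) := hπ.symm
  rw [← IsLocalization.AtPrime.map_eq_maximalIdeal P L, ← Ideal.map_pow, Ideal.map_map, hP, Ideal.map_span,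
    ← Set.range_comp]
  rfl

open AlgebraicGeometry CategoryTheory in
/-- Factoring a point through an affine scheme over an affine open. -/
theorem factor_iff {T : Scheme.{u}} {t : T} {U : T.Opens} (hU : IsAffineOpen U) (htU : t ∈ U)
    {B' : CommRingCat.{u}} (φ : Γ(T, U) ⟶ B') {R : CommRingCat.{u}} (t' : ↑(Spec B'))
    (hg : (Spec.map φ ≫ hU.fromSpec) t' = t) (τ' : (Spec B').presheaf.stalk t' ⟶ R)
    (σ' : T.presheaf.stalk t ⟶ R)
    (h : (T.presheaf.stalkCongr (Inseparable.of_eq hg)).inv ≫ (Spec.map φ ≫ hU.fromSpec).stalkMap t' ≫ τ' = σ') :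
    ∃ ψ : B' ⟶ R, T.presheaf.germ U t htU ≫ σ' = φ ≫ ψ := by
  refine ⟨StructureSheaf.toStalk B' t' ≫ τ', Spec.map_injective ?_⟩
  rw [← cancel_mono hU.fromSpec]
  conv_lhs => rw [Spec.map_comp, Category.assoc]
  have e1 : Spec.map (T.presheaf.germ U t htU) ≫ hU.fromSpec = T.fromSpecStalk t :=
    hU.fromSpecStalk_eq_fromSpecStalk htU
  rw [e1, ← h, Spec.map_comp, Spec.map_comp, TopCat.Presheaf.stalkCongr_inv]
  simp only [Category.assoc, Scheme.SpecMap_stalkSpecializes_fromSpecStalk,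
    Scheme.SpecMap_stalkMap_fromSpecStalk, Spec.map_comp, Spec.fromSpecStalk_eq']
  rfl

set_option backward.isDefEq.respectTransparency.types false in
open AlgebraicGeometry CategoryTheory Limits in
/-- Let h : T → S be a morphism of finite type between Noetherian schemes, t a point of T with image s,
and σ : O_{T,t} → O_{S,s}^∧ a local O_{S,s}-algebra map to the completion. For every N ≥ 1 there is
a morphism of finite type g : T' → T and a point t' over t such that σ factors through O_{T,t} →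
O_{T',t'}, and any local O_{S,s}-algebra map σ' : O_{T,t} → O_{S,s}^∧ factoring through O_{T,t} →
O_{T',t'} agrees with σ modulo m_s^N. -/
theorem result {T S : Scheme.{u}} [IsNoetherian T] [IsNoetherian S]
    (h : T ⟶ S) [LocallyOfFiniteType h] [QuasiCompact h] (t : T)
    (σ : ↑(T.presheaf.stalk t) →+* (AdicCompletion (IsLocalRing.maximalIdeal ↑(S.presheaf.stalk (h t))) ↑(S.presheaf.stalk (h t))))
    (hσ : σ.comp (h.stalkMap t).hom = algebraMap ↑(S.presheaf.stalk (h t)) (AdicCompletion (IsLocalRing.maximalIdeal ↑(S.presheaf.stalk (h t))) ↑(S.presheaf.stalk (h t))))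
    (hloc : ∀ a ∈ IsLocalRing.maximalIdeal ↑(T.presheaf.stalk t),
      σ a ∈ (IsLocalRing.maximalIdeal ↑(S.presheaf.stalk (h t))).map (algebraMap ↑(S.presheaf.stalk (h t)) (AdicCompletion (IsLocalRing.maximalIdeal ↑(S.presheaf.stalk (h t))) ↑(S.presheaf.stalk (h t)))))
    (N : ℕ) (hN : 1 ≤ N) :
    ∃ (T' : Scheme.{u}) (g : T' ⟶ T) (t' : T') (hg : g t' = t) (τ : ↑(T'.presheaf.stalk t') →+* (AdicCompletion (IsLocalRing.maximalIdeal ↑(S.presheaf.stalk (h t))) ↑(S.presheaf.stalk (h t)))),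
      LocallyOfFiniteType g ∧ QuasiCompact g ∧
      τ.comp ((g.stalkMap t').hom.comp (T.presheaf.stalkCongr (Inseparable.of_eq hg)).inv.hom) = σ ∧
      ∀ (σ' : ↑(T.presheaf.stalk t) →+* (AdicCompletion (IsLocalRing.maximalIdeal ↑(S.presheaf.stalk (h t))) ↑(S.presheaf.stalk (h t)))),
        σ'.comp (h.stalkMap t).hom = algebraMap ↑(S.presheaf.stalk (h t)) (AdicCompletion (IsLocalRing.maximalIdeal ↑(S.presheaf.stalk (h t))) ↑(S.presheaf.stalk (h t))) →
        (∀ a ∈ IsLocalRing.maximalIdeal ↑(T.presheaf.stalk t),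
          σ' a ∈ (IsLocalRing.maximalIdeal ↑(S.presheaf.stalk (h t))).map (algebraMap ↑(S.presheaf.stalk (h t)) (AdicCompletion (IsLocalRing.maximalIdeal ↑(S.presheaf.stalk (h t))) ↑(S.presheaf.stalk (h t))))) →
        (∃ τ' : ↑(T'.presheaf.stalk t') →+* (AdicCompletion (IsLocalRing.maximalIdeal ↑(S.presheaf.stalk (h t))) ↑(S.presheaf.stalk (h t))),
          τ'.comp ((g.stalkMap t').hom.comp (T.presheaf.stalkCongr (Inseparable.of_eq hg)).inv.hom) = σ') →
        ∀ a : ↑(T.presheaf.stalk t), σ a - σ' a ∈ (IsLocalRing.maximalIdeal ↑(S.presheaf.stalk (h t)) ^ N).map (algebraMap ↑(S.presheaf.stalk (h t)) (AdicCompletion (IsLocalRing.maximalIdeal ↑(S.presheaf.stalk (h t))) ↑(S.presheaf.stalk (h t)))) := by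
  classical
  let O := S.presheaf.stalk (h t)
  let R := AdicCompletion (IsLocalRing.maximalIdeal ↑O) ↑O
  obtain ⟨_, ⟨V, hV, rfl⟩, hsV, -⟩ :=
    S.isBasis_affineOpens.exists_subset_of_mem_open (Set.mem_univ (h t)) isOpen_univ
  obtain ⟨_, ⟨U, hU, rfl⟩, htU, hUV⟩ :=
    T.isBasis_affineOpens.exists_subset_of_mem_open (show t ∈ h ⁻¹ᵁ V from hsV) (h ⁻¹ᵁ V).2
  have hft := HasRingHomProperty.appLE (P := @LocallyOfFiniteType) h ‹_› ⟨V, hV⟩ ⟨U, hU⟩ hUV
  have : IsNoetherianRing Γ(S, V) := IsLocallyNoetherian.component_noetherian ⟨V, hV⟩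
  algebraize [(h.appLE V U hUV).hom]
  obtain ⟨G, hG⟩ := Algebra.FiniteType.out (R := Γ(S, V)) (A := Γ(T, U))
  let _ : Algebra Γ(S, V) O := (S.presheaf.germ V (h t) hsV).hom.toAlgebra
  have : IsLocalization.AtPrime O (hV.primeIdealOf ⟨h t, hsV⟩).asIdeal := hV.isLocalization_stalk ⟨h t, hsV⟩
  let ι : O →+* R := algebraMap _ _
  obtain ⟨r, π, hπ⟩ := exists_gens (hV.primeIdealOf ⟨h t, hsV⟩).asIdeal ι N
  let σB : Γ(T, U) →+* R := σ.comp (T.presheaf.germ U t htU).hom
  have hgerm : ∀ a, T.presheaf.germ U t htU (h.appLE V U hUV a) = h.stalkMap t (S.presheaf.germ V (h t) hsV a) := by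
    intro a
    rw [Scheme.Hom.germ_stalkMap_apply, Scheme.Hom.appLE, ConcreteCategory.comp_apply,
      TopCat.Presheaf.germ_res_apply']
  have hσA : ∀ a, σB (algebraMap _ _ a) = ι (algebraMap _ _ a) := fun a => by
    show σ (T.presheaf.germ U t htU (h.appLE V U hUV a)) = _
    rw [hgerm]
    exact RingHom.congr_fun hσ _
  have happ : ∀ b : G, ∃ (a w : Γ(S, V)) (ω : Fin r → R), IsUnit (algebraMap Γ(S, V) O w) ∧
      σB (algebraMap _ _ w * b.1 - algebraMap _ _ a) = ∑ j, ω j * ι (algebraMap _ _ (π j)) := by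
    intro b
    obtain ⟨z, hz⟩ := exists_approx (IsLocalRing.maximalIdeal ↑O) (IsNoetherian.noetherian _) N (σB b.1)
    obtain ⟨⟨a, w⟩, haw⟩ := IsLocalization.surj (hV.primeIdealOf ⟨h t, hsV⟩).asIdeal.primeCompl z
    have hmem : σB (algebraMap _ _ (w : Γ(S, V)) * b.1 - algebraMap _ _ a) ∈
        Ideal.span (Set.range fun j => ι (algebraMap _ _ (π j))) := by
      rw [map_sub, map_mul, hσA, hσA, ← hπ, ← haw, map_mul ι, mul_comm (ι z), ← mul_sub]
      exact Ideal.mul_mem_left _ _ hz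
    obtain ⟨ω, hω⟩ := (Submodule.mem_span_range_iff_exists_fun R).mp hmem
    exact ⟨a, w, ω, IsLocalization.map_units O w, hω.symm⟩
  choose a w ω hw hω using happ
  let rel : G → MvPolynomial (G × Fin r) Γ(T, U) := fun b =>
    MvPolynomial.C (algebraMap _ _ (w b) * b.1 - algebraMap _ _ (a b)) -
      ∑ j, MvPolynomial.X (b, j) * MvPolynomial.C (algebraMap _ _ (π j))
  let B' : CommRingCat.{u} := CommRingCat.of (MvPolynomial (G × Fin r) Γ(T, U) ⧸ Ideal.span (Set.range rel))
  let φ : Γ(T, U) ⟶ B' := CommRingCat.ofHom ((Ideal.Quotient.mk _).comp MvPolynomial.C)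
  let ψ₀ : MvPolynomial (G × Fin r) Γ(T, U) →+* R := MvPolynomial.eval₂Hom σB fun p => ω p.1 p.2
  let ψ : B' ⟶ CommRingCat.of R := CommRingCat.ofHom (Ideal.Quotient.lift _ ψ₀ (fun x hx => by
    refine (Ideal.span_le (I := RingHom.ker ψ₀)).2 ?_ hx
    rintro _ ⟨b, rfl⟩
    simp [ψ₀, rel, hσA, sub_eq_zero]
    simpa [hσA] using hω b))
  have : LocallyOfFiniteType (Spec.map φ) := (HasRingHomProperty.Spec_iff (P := @LocallyOfFiniteType)).2
    ((RingHom.FiniteType.of_surjective _ Ideal.Quotient.mk_surjective).comp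
      (RingHom.finiteType_algebraMap.2 (inferInstance : Algebra.FiniteType Γ(T, U) (MvPolynomial (G × Fin r) Γ(T, U)))))
  let g : Spec B' ⟶ T := Spec.map φ ≫ hU.fromSpec
  let α : Spec (CommRingCat.of R) ⟶ Spec B' := Spec.map ψ
  have hσl : IsLocalHom (CommRingCat.ofHom σ).hom := ((IsLocalRing.local_hom_TFAE σ).out 0 2).2 (by
    rw [AdicCompletion.maximalIdeal_eq_map, Ideal.map_le_iff_le_comap]
    exact hloc)
  have hβ : α ≫ g = Spec.map (CommRingCat.ofHom σ) ≫ T.fromSpecStalk t := by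
    have e1 : Spec.map (T.presheaf.germ U t htU) ≫ hU.fromSpec = T.fromSpecStalk t :=
      hU.fromSpecStalk_eq_fromSpecStalk htU
    rw [← e1, ← Spec.map_comp_assoc, ← Spec.map_comp_assoc]
    congr 2
    refine CommRingCat.hom_ext (RingHom.ext fun b => ?_)
    refine Eq.trans ?_ (MvPolynomial.eval₂Hom_C σB (fun p : G × Fin r => ω p.1 p.2) b)
    rfl
  have hEq : SpecToEquivOfLocalRing T (CommRingCat.of R) (α ≫ g) = ⟨t, CommRingCat.ofHom σ, hσl⟩ := by
    rw [← Equiv.eq_symm_apply, hβ]; rfl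
  obtain ⟨ht, hst⟩ := SpecToEquivOfLocalRing_eq_iff.mp hEq
  let t' : ↑(Spec B') := α (IsLocalRing.closedPoint R)
  have hg : g t' = t := ht
  refine ⟨Spec B', g, t', hg, (Scheme.stalkClosedPointTo α).hom, inferInstance, inferInstance, ?_, ?_⟩
  · have e : (T.presheaf.stalkCongr (Inseparable.of_eq hg)).inv ≫ g.stalkMap t' ≫ Scheme.stalkClosedPointTo α =
        CommRingCat.ofHom σ := by
      rw [Iso.inv_comp_eq, ← Scheme.stalkClosedPointTo_comp]
      exact hst
    exact congrArg CommRingCat.Hom.hom e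
  · rintro σ' hσ' - ⟨τ', hτ'⟩
    obtain ⟨ψ', hψ'⟩ := factor_iff hU htU φ t' hg (CommRingCat.ofHom τ') (CommRingCat.ofHom σ')
      (CommRingCat.hom_ext hτ')
    let σB' : Γ(T, U) →+* R := σ'.comp (T.presheaf.germ U t htU).hom
    have hσA' : ∀ a, σB' (algebraMap _ _ a) = ι (algebraMap _ _ a) := fun a => by
      show σ' (T.presheaf.germ U t htU (h.appLE V U hUV a)) = _
      rw [hgerm]
      exact RingHom.congr_fun hσ' _
    have hψ'' : ∀ b, σB' b = ψ'.hom (φ.hom b) := fun b =>
      RingHom.congr_fun (congrArg CommRingCat.Hom.hom hψ') b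
    let J := (IsLocalRing.maximalIdeal ↑O ^ N).map ι
    have hπJ : ∀ j, ι (algebraMap Γ(S, V) O (π j)) ∈ J := fun j => by
      rw [show J = _ from hπ]; exact Ideal.subset_span ⟨j, rfl⟩
    have hgen : ∀ x : Γ(T, U), σB x - σB' x ∈ J := by
      intro x
      have hx : x ∈ Algebra.adjoin Γ(S, V) (G : Set Γ(T, U)) := hG ▸ Algebra.mem_top
      induction hx using Algebra.adjoin_induction with
      | mem x hx =>
        have h1 : σB (algebraMap _ _ (w ⟨x, hx⟩) * x - algebraMap _ _ (a ⟨x, hx⟩)) ∈ J := by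
          rw [hω ⟨x, hx⟩]
          exact sum_mem fun j _ => Ideal.mul_mem_left _ _ (hπJ j)
        have h2 : σB' (algebraMap _ _ (w ⟨x, hx⟩) * x - algebraMap _ _ (a ⟨x, hx⟩)) ∈ J := by
          have h0 : Ideal.Quotient.mk (Ideal.span (Set.range rel)) (rel ⟨x, hx⟩) = 0 :=
            Ideal.Quotient.eq_zero_iff_mem.2 (Ideal.subset_span ⟨_, rfl⟩)
          simp only [rel, map_sub, sub_eq_zero, map_sum, map_mul] at h0
          rw [hψ'', show φ.hom (algebraMap _ _ (w ⟨x, hx⟩) * x - algebraMap _ _ (a ⟨x, hx⟩)) =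
            Ideal.Quotient.mk _ (∑ j, MvPolynomial.X (⟨x, hx⟩, j) * MvPolynomial.C (algebraMap _ _ (π j))) by
            simpa [φ] using h0, map_sum (Ideal.Quotient.mk _), map_sum]
          refine sum_mem fun j _ => ?_
          rw [map_mul (Ideal.Quotient.mk _), map_mul]
          refine Ideal.mul_mem_left _ _ ?_
          show ψ'.hom (φ.hom (algebraMap _ _ (π j))) ∈ J
          rw [← hψ'', hσA']
          exact hπJ j
        rw [map_sub, map_mul, hσA, hσA] at h1
        rw [map_sub, map_mul, hσA', hσA'] at h2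
        have h3 := J.sub_mem h1 h2
        rw [sub_sub_sub_cancel_right, ← mul_sub] at h3
        exact (J.unit_mul_mem_iff_mem ((hw ⟨x, hx⟩).map ι)).1 h3
      | algebraMap a => rw [hσA, hσA', sub_self]; exact J.zero_mem
      | add x y _ _ hx hy => rw [map_add, map_add, add_sub_add_comm]; exact J.add_mem hx hy
      | mul x y _ _ hx hy =>
        rw [map_mul, map_mul, show σB x * σB y - σB' x * σB' y = σB x * (σB y - σB' y) + (σB x - σB' x) * σB' y by ring]
        exact J.add_mem (J.mul_mem_left _ hy) (J.mul_mem_right _ hx)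
    intro c
    let _ : Algebra Γ(T, U) (T.presheaf.stalk t) := (T.presheaf.germ U t htU).hom.toAlgebra
    have : IsLocalization.AtPrime (T.presheaf.stalk t) (hU.primeIdealOf ⟨t, htU⟩).asIdeal :=
      hU.isLocalization_stalk ⟨t, htU⟩
    have heq : (Ideal.Quotient.mk J).comp σ = (Ideal.Quotient.mk J).comp σ' :=
      IsLocalization.ringHom_ext (hU.primeIdealOf ⟨t, htU⟩).asIdeal.primeCompl
        (RingHom.ext fun x => (Ideal.Quotient.eq.2 (hgen x)))
    exact Ideal.Quotient.eq.1 (RingHom.congr_fun heq c)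

end Groth.Agent.S7201
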