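import Groth.Statements.S7204
import Mathlib

set_option autoImplicit false
universe w u
open FlatMor

namespace Groth.Agent.S7204

open AlgebraicGeometry CategoryTheory Limits in
/-- Let (X_i)_{i ∈ I} be a diagram of schemes and (W, X_i → W) a cocone under it. If there is an fpqc
covering {W_a → W} such that each W_a is the colimit (in schemes) of the base-changed diagram (X_i
×_W W_a), and each W_a ×_W W_b is the colimit of (X_i ×_W W_a ×_W W_b), then W is the colimit of
(X_i) in the category of schemes. -/
theorem result {J : Type u} [SmallCategory J] (D : J ⥤ Scheme.{u}) (c : Cocone D)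
    (F : PreZeroHypercover.{w} c.pt) (hF : F.presieve₀ ∈ Scheme.fpqcPrecoverage c.pt)
    (h1 : ∀ a : F.I₀, Nonempty (IsColimit ((Over.forgetCocone (F.X a)).whisker
      (D.toOver c.pt (fun j => c.ι.app j) (fun g => c.w g) ⋙ Over.pullback (F.f a)))))
    (h2 : ∀ a b : F.I₀, Nonempty (IsColimit ((Over.forgetCocone (pullback (F.f a) (F.f b))).whisker
      (D.toOver c.pt (fun j => c.ι.app j) (fun g => c.w g) ⋙ Over.pullback (pullback.fst (F.f a) (F.f b) ≫ F.f a))))) :
    Nonempty (IsColimit c) := by
  classical
  have hsheaf : ∀ Y : Scheme.{u}, F.presieve₀.IsSheafFor (yoneda.obj Y) := fun Y => by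
    rw [Presieve.isSheafFor_iff_generate]
    refine GrothendieckTopology.Subcanonical.isSheaf_of_isRepresentable (J := Scheme.fpqcTopology) (yoneda.obj Y) _ ?_
    exact Precoverage.generate_mem_toGrothendieck hF
  -- uniqueness
  have hext : ∀ (Y : Scheme.{u}) (m m' : c.pt ⟶ Y), (∀ j, c.ι.app j ≫ m = c.ι.app j ≫ m') → m = m' := by
    intro Y m m' h
    refine (hsheaf Y).isSeparatedFor.ext fun Z g hg => ?_
    cases hg with
    | mk a =>
      show F.f a ≫ m = F.f a ≫ m'
      refine (h1 a).some.hom_ext fun j => ?_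
      show pullback.snd (c.ι.app j) (F.f a) ≫ F.f a ≫ m = pullback.snd (c.ι.app j) (F.f a) ≫ F.f a ≫ m'
      rw [← pullback.condition_assoc, ← pullback.condition_assoc]
      exact congrArg (pullback.fst (c.ι.app j) (F.f a) ≫ ·) (h j)
  have hdesc : ∀ s : Cocone D, ∃ m : c.pt ⟶ s.pt, ∀ j, c.ι.app j ≫ m = s.ι.app j := by
    intro s
    have hex : ∀ a : F.I₀, ∃ m : F.X a ⟶ s.pt, ∀ j,
        pullback.snd (c.ι.app j) (F.f a) ≫ m = pullback.fst (c.ι.app j) (F.f a) ≫ s.ι.app j := fun a => by
      let s' : Cocone ((D.toOver c.pt (fun j => c.ι.app j) (fun g => c.w g) ⋙ Over.pullback (F.f a)) ⋙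
          Over.forget (F.X a)) :=
        { pt := s.pt
          ι :=
            { app := fun j => pullback.fst (c.ι.app j) (F.f a) ≫ s.ι.app j
              naturality := fun i j g => by
                show pullback.lift (pullback.fst (c.ι.app i) (F.f a) ≫ D.map g) (pullback.snd (c.ι.app i) (F.f a)) _ ≫
                    pullback.fst (c.ι.app j) (F.f a) ≫ s.ι.app j = (pullback.fst (c.ι.app i) (F.f a) ≫ s.ι.app i) ≫ 𝟙 _
                rw [pullback.lift_fst_assoc, Category.assoc, Category.comp_id, s.w g] } }
      exact ⟨(h1 a).some.desc s', fun j => (h1 a).some.fac s' j⟩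
    choose m hm using hex
    have hcompat : ∀ a b : F.I₀, pullback.fst (F.f a) (F.f b) ≫ m a = pullback.snd (F.f a) (F.f b) ≫ m b := by
      intro a b
      refine (h2 a b).some.hom_ext fun j => ?_
      show pullback.snd (c.ι.app j) (pullback.fst (F.f a) (F.f b) ≫ F.f a) ≫ _ =
        pullback.snd (c.ι.app j) (pullback.fst (F.f a) (F.f b) ≫ F.f a) ≫ _
      let la : pullback (c.ι.app j) (pullback.fst (F.f a) (F.f b) ≫ F.f a) ⟶ pullback (c.ι.app j) (F.f a) :=
        pullback.lift (pullback.fst _ _) (pullback.snd _ _ ≫ pullback.fst _ _)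
          (pullback.condition.trans (Category.assoc _ _ _).symm)
      let lb : pullback (c.ι.app j) (pullback.fst (F.f a) (F.f b) ≫ F.f a) ⟶ pullback (c.ι.app j) (F.f b) :=
        pullback.lift (pullback.fst _ _) (pullback.snd _ _ ≫ pullback.snd _ _)
          (by rw [pullback.condition, Category.assoc, pullback.condition])
      have ha := congrArg (la ≫ ·) (hm a j)
      have hb := congrArg (lb ≫ ·) (hm b j)
      rw [← Category.assoc, ← Category.assoc, pullback.lift_snd, pullback.lift_fst, Category.assoc] at ha hb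
      exact ha.trans hb.symm
    obtain ⟨M, hM, -⟩ := (Presieve.isSheafFor_arrows_iff _ _).1 (hsheaf s.pt) m fun a b Z ga gb hg => by
      show ga ≫ m a = gb ≫ m b
      have h := congrArg (pullback.lift ga gb hg ≫ ·) (hcompat a b)
      rwa [pullback.lift_fst_assoc, pullback.lift_snd_assoc] at h
    have hM' : ∀ a, F.f a ≫ M = m a := hM
    refine ⟨M, fun j => ?_⟩
    have hsep : (Presieve.ofArrows _ fun a => pullback.fst (c.ι.app j) (F.f a)).IsSheafFor (yoneda.obj s.pt) := by
      rw [Presieve.isSheafFor_iff_generate]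
      refine GrothendieckTopology.Subcanonical.isSheaf_of_isRepresentable (J := Scheme.fpqcTopology) (yoneda.obj s.pt) _ ?_
      exact Precoverage.generate_mem_toGrothendieck (Precoverage.mem_coverings_of_isPullback F.f hF (c.ι.app j)
        (fun a => pullback.fst (c.ι.app j) (F.f a)) (fun a => pullback.snd (c.ι.app j) (F.f a))
        fun a => IsPullback.of_hasPullback _ _)
    refine hsep.isSeparatedFor.ext fun Z g hg => ?_
    cases hg with
    | mk a =>
      show pullback.fst (c.ι.app j) (F.f a) ≫ c.ι.app j ≫ M = pullback.fst (c.ι.app j) (F.f a) ≫ s.ι.app j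
      rw [pullback.condition_assoc, hM' a, hm a j]
  exact ⟨{ desc := fun s => (hdesc s).choose
           fac := fun s => (hdesc s).choose_spec
           uniq := fun s m hm => hext _ _ _ fun j => (hm j).trans ((hdesc s).choose_spec j).symm }⟩

end Groth.Agent.S7204
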