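import Groth.Statements.S7209
import Groth.Agent.FlatMor67.EmbRel

set_option autoImplicit false
universe u
open CategoryTheory CategoryTheory.Limits AlgebraicGeometry Opposite TopologicalSpace
attribute [local instance] HasDerivedCategory.standard
open FlatMor

namespace Groth.Agent.S7209

/-- Let p : X ⟶ S and q : Y ⟶ S be locally of finite type, and let i : X ⟶ Y be a morphism over S (i ≫ q
= p) which is a closed immersion up to nilpotents: there are a thickening t : Z ⟶ X (a surjective
closed immersion) and a closed immersion c : Z ⟶ Y with t ≫ i = c; equivalently, over every affine
open of Y the ring of X is generated over the ring of Y by finitely many nilpotent elements, and in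
particular i maps X homeomorphically onto a closed subset of Y. Fix an integer m and an object E of
D(O_X). Then, provided the derived direct image Ri_* exists, E is m-pseudo-coherent relative to p
exactly when the object Ri_* E is, relative to q, m-pseudo-coherent (relative pseudo-coherence in
chart form). (The published statement assumes only that i is a homeomorphism onto a closed subset of
Y, which is not sufficient: over a discrete valuation ring A take a finite étale A-algebra that is a
domain with two maximal ideals and let B be its local ring at one of them; Spec B → Spec A is of
finite type and a homeomorphism, the structure sheaf of Spec B placed in degree 0 is pseudo-coherent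
relative to Spec A, but its direct image is the A-module B, which is not finitely generated, hence
not 0-pseudo-coherent relative to Spec A. The published argument uses generators of the ring of X
that are nilpotent, which is the hypothesis taken here.) -/
theorem result {X Y S : Scheme.{u}} (p : X ⟶ S)
    (q : Y ⟶ S) [LocallyOfFiniteType p] [LocallyOfFiniteType q] (i : X ⟶ Y) (w : i ≫ q = p)
    {Z : Scheme.{u}} (t : Z ⟶ X) (ht : MoreMor.IsThickening t) (c : Z ⟶ Y) [IsClosedImmersion c]
    (htc : t ≫ i = c) [DCoh.HasRpush i] (m : ℤ) (E : DCoh.D X) :
    DerSch.IsPseudoCoherentRel p m E ↔ DerSch.IsPseudoCoherentRel q m ((DCoh.Rpush i).obj E) := by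
  subst w
  subst htc
  haveI := ht.1
  haveI := ht.2
  exact FlatMor67.Emb.rel_push_iff q i t m E

end Groth.Agent.S7209
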