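import Groth.Statements.S7210
import Groth.Agent.FlatMor67.RpushAffine
import Groth.Agent.S6984

set_option autoImplicit false
universe u
open CategoryTheory CategoryTheory.Limits AlgebraicGeometry Opposite TopologicalSpace
attribute [local instance] HasDerivedCategory.standard
open FlatMor

namespace Groth.Agent.S7210

/-- Let p : X ⟶ S and q : Y ⟶ S be locally of finite type and π : X ⟶ Y a finite morphism over S (π ≫ q
= p). Let E be an object of D(O_X) all of whose cohomology sheaves are quasi-coherent, and m an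
integer. Then, Rπ_* being assumed to exist, relative m-pseudo-coherence of E with respect to p is
equivalent to relative m-pseudo-coherence of Rπ_* E with respect to q (chart form). -/
theorem result {X Y S : Scheme.{u}} (p : X ⟶ S) (q : Y ⟶ S)
    [LocallyOfFiniteType p] [LocallyOfFiniteType q] (π : X ⟶ Y) [IsFinite π] (w : π ≫ q = p)
    [DCoh.HasRpush π] (m : ℤ) (E : DCoh.D X) (hE : DCoh.IsQCohD E) :
    DerSch.IsPseudoCoherentRel p m E ↔ DerSch.IsPseudoCoherentRel q m ((DCoh.Rpush π).obj E) := by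
  subst w
  have key : ∀ (U : Y.Opens) (V : S.Opens), IsAffineOpen U → IsAffineOpen V → ∀ h : U ≤ q ⁻¹ᵁ V,
      (RelPCSch41.Good (π ≫ q) m E (π ⁻¹ᵁ U) V ↔ RelPCSch41.Good q m ((DCoh.Rpush π).obj E) U V) := by
    intro U V hU hV h
    have h' : π ⁻¹ᵁ U ≤ (π ≫ q) ⁻¹ᵁ V := π.preimage_mono h
    obtain ⟨n, φ, hφ⟩ := RelPCSch41.exists_chart_of_ft (f := q) hU hV h
    obtain ⟨n', φ', hφ'⟩ := RelPCSch41.exists_chart_of_ft (f := π ≫ q) (hU.preimage π) hV h'
    obtain ⟨M, ⟨e⟩⟩ := FlatMor67.RpushAffine.exists_model_open (hU.preimage π) hE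
    obtain ⟨e'⟩ := FlatMor67.RpushAffine.nonempty_model_push π hU M e
    rw [FlatMor67.TildePush.good_iff_rel (hU.preimage π) h' hφ' E M e,
      FlatMor67.TildePush.good_iff_rel hU h hφ _ _ e']
    letI := (q.appLE V U h).hom.toAlgebra
    letI := ((π ≫ q).appLE V (π ⁻¹ᵁ U) h').hom.toAlgebra
    letI := (π.app U).hom.toAlgebra
    haveI : IsScalarTower Γ(S, V) Γ(Y, U) Γ(X, π ⁻¹ᵁ U) := IsScalarTower.of_algebraMap_eq' (by
      change ((π ≫ q).appLE V (π ⁻¹ᵁ U) h').hom = (q.appLE V U h ≫ π.app U).hom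
      rw [Scheme.Hom.app_eq_appLE, π.appLE_comp_appLE q])
    haveI : Module.Finite Γ(Y, U) Γ(X, π ⁻¹ᵁ U) := π.finite_app U hU
    haveI : Algebra.FiniteType Γ(S, V) Γ(Y, U) := q.finiteType_appLE hV hU h
    haveI : Algebra.FiniteType Γ(S, V) Γ(X, π ⁻¹ᵁ U) := (π ≫ q).finiteType_appLE hV (hU.preimage π) h'
    exact (S6984.result (R := Γ(S, V)) (A := Γ(Y, U)) (B := Γ(X, π ⁻¹ᵁ U)) M m).1
  constructor
  · intro H
    exact RelPCSch41.rel_iff.2 fun U V hU hV h =>
      (key U V hU hV h).1 (RelPCSch41.good_of_rel H (hU.preimage π) hV (π.preimage_mono h))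
  · intro H
    refine RelPCSch41.rel_of_good fun x => ?_
    obtain ⟨U, V, hx, hU, hV, h⟩ := RelPCSch41.exists_affine_pair q (π x)
    exact ⟨π ⁻¹ᵁ U, V, hx, hU.preimage π, hV, (key U V hU hV h).2 (RelPCSch41.good_of_rel H hU hV h)⟩

end Groth.Agent.S7210
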