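import Groth.Statements.S7221
import Groth.Agent.FlatMor67.NLHomotopy

set_option autoImplicit false
universe u
open CategoryTheory CategoryTheory.Limits TensorProduct
attribute [local instance] HasDerivedCategory.standard
open FlatMor

namespace Groth.Agent.S7221

/-- Let R → S and R → R' be ring homomorphisms and let S' be an algebra over R' and over S making the
square cocartesian, S' = S ⊗_R R'. Let G be a presentation of S over R by a polynomial algebra and
G' the presentation of S' over R' on the same set of variables, each variable mapping to the image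
of the corresponding generator (the base change of G). Then the canonical map H^{-1}(NL(G) ⊗_S S') →
H^{-1}(NL(G')) is surjective. The same holds for the canonical map H^{-1}(NL_{S/R} ⊗_S S') →
H^{-1}(NL_{S'/R'}) between the complexes of the presentations on all elements. (In degree 0 the
corresponding map S' ⊗_S Ω_{S/R} → Ω_{S'/R'} is bijective; that part is not restated.) -/
theorem result (R S R' S' : Type u) [CommRing R] [CommRing S] [CommRing R']
    [CommRing S'] [Algebra R S] [Algebra R' S'] [Algebra R R'] [Algebra S S'] [Algebra R S']
    [IsScalarTower R R' S'] [IsScalarTower R S S'] [Algebra.IsPushout R R' S S']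
    {ι : Type u} (G : Algebra.Generators R S ι) (G' : Algebra.Generators R' S' ι)
    (h : ∀ i, G'.val i = algebraMap S S' (G.val i)) :
    Function.Surjective (NLCx.bcH1Map (NLCx.sameVarsHom G G' h).toExtensionHom) ∧
      Function.Surjective (NLCx.bcH1Map
        ((Algebra.Generators.self R S).defaultHom (Algebra.Generators.self R' S')).toExtensionHom) := by
  refine ⟨FlatMor67.bcH1Map_surjective_same G G' h, ?_⟩
  let G₀ := Algebra.Generators.self R S
  have hsurj : Function.Surjective (MvPolynomial.aeval (R := R') (fun s : S => algebraMap S S' s)) := by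
    intro s'
    induction s' using (Algebra.IsPushout.out (R := R) (S := R') (R' := S) (S' := S')).inductionOn with
    | zero => exact ⟨0, map_zero _⟩
    | tmul s => exact ⟨MvPolynomial.X s, MvPolynomial.aeval_X _ _⟩
    | smul r s' ih => obtain ⟨p, rfl⟩ := ih; exact ⟨r • p, map_smul _ _ _⟩
    | add s t hs ht =>
      obtain ⟨a, rfl⟩ := hs
      obtain ⟨b, rfl⟩ := ht
      exact ⟨a + b, map_add _ _ _⟩
  let G₁ : Algebra.Generators R' S' S := Algebra.Generators.ofSurjective _ hsurj
  have hval : ∀ i, G₁.val i = algebraMap S S' (G₀.val i) := fun i => rfl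
  let χ := (G₁.defaultHom (Algebra.Generators.self R' S')).toExtensionHom
  rw [FlatMor67.bcH1Map_eq _ (χ.comp (FlatMor67.sameHom G₀ G₁ hval))]
  intro y
  obtain ⟨z, hz⟩ := (Algebra.Generators.H1Cotangent.equiv G₁ (Algebra.Generators.self R' S')).surjective y
  obtain ⟨x, rfl⟩ := FlatMor67.bcH1Map_surjective_same G₀ G₁ hval z
  refine ⟨x, Eq.trans (Subtype.ext ?_) hz⟩
  show LinearMap.liftBaseChange S' (Algebra.Extension.Cotangent.map (χ.comp _)) x.1 =
    Algebra.Extension.Cotangent.map χ (LinearMap.liftBaseChange S' _ x.1)
  have h0 : LinearMap.liftBaseChange S' (Algebra.Extension.Cotangent.map (χ.comp (FlatMor67.sameHom G₀ G₁ hval))) =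
      Algebra.Extension.Cotangent.map χ ∘ₗ
        LinearMap.liftBaseChange S' (Algebra.Extension.Cotangent.map (FlatMor67.sameHom G₀ G₁ hval)) := by
    ext w
    simp [Algebra.Extension.Cotangent.map_comp]
  exact LinearMap.congr_fun h0 x.1

end Groth.Agent.S7221
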