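import Groth.Statements.S7223
import Groth.Agent.FlatMor67.NLKernel

set_option autoImplicit false
universe u
open CategoryTheory CategoryTheory.Limits TensorProduct
attribute [local instance] HasDerivedCategory.standard
open FlatMor

namespace Groth.Agent.S7223

/-- Let A → B and A → A' be ring homomorphisms and B' an algebra over A' and over B making the square
cocartesian, B' = B ⊗_A A'. If A → B and A' → B' are both local complete intersection homomorphisms
(of finite type, with Koszul-regular kernel for a polynomial presentation), then the kernel of the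
canonical map H^{-1}(NL_{B/A} ⊗_B B') → H^{-1}(NL_{B'/A'}) (presentations on all elements) is a
finite projective B'-module. -/
theorem result (A B A' B' : Type u) [CommRing A] [CommRing B]
    [CommRing A'] [CommRing B'] [Algebra A B] [Algebra A' B'] [Algebra A A'] [Algebra B B'] [Algebra A B']
    [IsScalarTower A A' B'] [IsScalarTower A B B'] [Algebra.IsPushout A A' B B']
    (hB : LCI.IsLCI A B) (hB' : LCI.IsLCI A' B') :
    Module.Finite B' (LinearMap.ker (NLCx.bcH1Map
        ((Algebra.Generators.self A B).defaultHom (Algebra.Generators.self A' B')).toExtensionHom)) ∧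
      Module.Projective B' (LinearMap.ker (NLCx.bcH1Map
        ((Algebra.Generators.self A B).defaultHom (Algebra.Generators.self A' B')).toExtensionHom)) := by
  obtain ⟨-, n, f, hf, -⟩ := id hB
  let v : ULift.{u} (Fin n) → B := fun i => f (MvPolynomial.X i.down)
  have hv : Function.Surjective (MvPolynomial.aeval (R := A) v) := fun b => by
    obtain ⟨p, rfl⟩ := hf b
    refine ⟨MvPolynomial.rename ULift.up p, ?_⟩
    rw [MvPolynomial.aeval_rename]
    exact (AlgHom.congr_fun (MvPolynomial.aeval_unique f) p).symm
  let G : Algebra.Generators A B (ULift.{u} (Fin n)) := Algebra.Generators.ofSurjective v hv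
  have hv' : Function.Surjective (MvPolynomial.aeval (R := A') (fun i => algebraMap B B' (v i))) := by
    intro b'
    induction b' using (Algebra.IsPushout.out (R := A) (S := A') (R' := B) (S' := B')).inductionOn with
    | zero => exact ⟨0, map_zero _⟩
    | tmul b =>
      obtain ⟨p, rfl⟩ := hv b
      exact ⟨MvPolynomial.map (algebraMap A A') p,
        (MvPolynomial.aeval_map_algebraMap _ _ _).trans (MvPolynomial.aeval_algebraMap_apply (B := B') v p)⟩
    | smul r s ih => obtain ⟨p, rfl⟩ := ih; exact ⟨r • p, map_smul _ _ _⟩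
    | add s t hs ht =>
      obtain ⟨a, rfl⟩ := hs
      obtain ⟨b, rfl⟩ := ht
      exact ⟨a + b, map_add _ _ _⟩
  let G' : Algebra.Generators A' B' (ULift.{u} (Fin n)) := Algebra.Generators.ofSurjective _ hv'
  have hval : ∀ i, G'.val i = algebraMap B B' (G.val i) := fun i => rfl
  let L := LinearMap.liftBaseChange B' (Algebra.Extension.Cotangent.map (FlatMor67.sameHom G G' hval))
  obtain ⟨_, _⟩ := FlatMor67.projective_cotangent_of_isLCI hB G
  obtain ⟨_, _⟩ := FlatMor67.projective_cotangent_of_isLCI hB' G'
  obtain ⟨hfin, hproj⟩ := FlatMor67.finite_projective_ker L (FlatMor67.cotangent_surjective G G' hval)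
  -- elements killed by the comparison are cycles
  have hcyc : ∀ x, L x = 0 → G.toExtension.cotangentComplex.baseChange B' x = 0 := by
    intro x hx
    apply (FlatMor67.cotangentSpace_bijective G G' hval).1
    rw [map_zero]
    have key : G'.toExtension.cotangentComplex ∘ₗ L =
        LinearMap.liftBaseChange B' (Algebra.Extension.CotangentSpace.map (FlatMor67.sameHom G G' hval)) ∘ₗ
          G.toExtension.cotangentComplex.baseChange B' := by
      ext z
      simpa [L] using (Algebra.Extension.CotangentSpace.map_cotangentComplex (FlatMor67.sameHom G G' hval) z).symm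
    exact (LinearMap.congr_fun key x).symm.trans (by rw [LinearMap.comp_apply, hx, map_zero])
  let S₀ := Algebra.Generators.self A B
  let S₁ := Algebra.Generators.self A' B'
  let φ := (S₀.defaultHom G).toExtensionHom
  let ψ := (G.defaultHom S₀).toExtensionHom
  let χ := (G'.defaultHom S₁).toExtensionHom
  let T := FlatMor67.bcH1Trans (S' := B') φ
  let e : NLCx.bcH1 S₀.toExtension B' ≃ₗ[B'] NLCx.bcH1 G.toExtension B' :=
    LinearEquiv.ofLinear T (FlatMor67.bcH1Trans ψ)
      (LinearMap.ext fun x => FlatMor67.bcH1Trans_inv ψ φ x) (LinearMap.ext fun x => FlatMor67.bcH1Trans_inv φ ψ x)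
  have hχ : Function.Injective (Algebra.Extension.H1Cotangent.map χ) :=
    (Algebra.Generators.H1Cotangent.equiv G' S₁).injective
  have hiff : ∀ x : NLCx.bcH1 S₀.toExtension B',
      NLCx.bcH1Map (S₀.defaultHom S₁).toExtensionHom x = 0 ↔ L (e x).1 = 0 := by
    intro x
    rw [FlatMor67.bcH1Map_eq _ ((χ.comp (FlatMor67.sameHom G G' hval)).comp φ), ← FlatMor67.bcH1Map_trans,
      FlatMor67.bcH1Map_comp, map_eq_zero_iff _ hχ]
    exact Subtype.ext_iff
  let k : LinearMap.ker (NLCx.bcH1Map (S₀.defaultHom S₁).toExtensionHom) ≃ₗ[B'] LinearMap.ker L :=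
    { toFun := fun x => ⟨(e x.1).1, (hiff x.1).1 x.2⟩
      map_add' := fun x y => Subtype.ext (by simp)
      map_smul' := fun c x => Subtype.ext (by simp)
      invFun := fun y => ⟨e.symm ⟨y.1, hcyc y.1 y.2⟩, (hiff _).2 (by rw [e.apply_symm_apply]; exact y.2)⟩
      left_inv := fun x => Subtype.ext (e.symm_apply_apply x.1)
      right_inv := fun y => Subtype.ext (show (e (e.symm ⟨y.1, hcyc y.1 y.2⟩)).1 = y.1 from
        congrArg Subtype.val (e.apply_symm_apply _)) }
  exact ⟨Module.Finite.equiv k.symm, Module.Projective.of_equiv k.symm⟩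

end Groth.Agent.S7223
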