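import Groth.Statements.S7225
import Groth.Agent.FlatMor67.NLHomotopy

set_option autoImplicit false
universe u
open CategoryTheory CategoryTheory.Limits TensorProduct
attribute [local instance] HasDerivedCategory.standard
open FlatMor

namespace Groth.Agent.S7225

/-- Let A be a ring, M a submonoid of A, A' a localization of A at M and B an A'-algebra, viewed also as
an A-algebra. Let G be a presentation of B over A by a polynomial algebra and G' the presentation of
B over A' with the same generators (G'(i) = G(i), written through the identity algebra map of B).
Then the canonical chain map NL(G) → NL(G') from the naive cotangent complex of the presentation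
over A to that of the presentation over A' is an isomorphism of complexes (so that NL_{B/A} →
NL_{B/A'} is a homotopy equivalence). -/
theorem result (A A' B : Type u) [CommRing A] [CommRing A'] [CommRing B]
    [Algebra A A'] (M : Submonoid A) [IsLocalization M A'] [Algebra A' B] [Algebra A B] [IsScalarTower A A' B]
    {ι : Type u} (G : Algebra.Generators A B ι) (G' : Algebra.Generators A' B ι) (h : ∀ i, G'.val i = algebraMap B B (G.val i)) :
    IsIso (NLCx.map (NLCx.sameVarsHom (S' := B) G G' h).toExtensionHom) := by
  have : Algebra.IsPushout A A' B B := by
    have : IsLocalization (Algebra.algebraMapSubmonoid B M) B := by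
      refine IsLocalization.of_le_isUnit_of_bijective ?_ Function.bijective_id
      rintro _ ⟨_, ⟨m, hm, rfl⟩, rfl⟩
      show IsUnit (algebraMap B B (algebraMap A B m))
      rw [Algebra.algebraMap_self, RingHom.id_apply]
      rw [IsScalarTower.algebraMap_apply A A' B]
      exact (IsLocalization.map_units A' ⟨m, hm⟩).map _
    exact (Algebra.isPushout_of_isLocalization (R := A) (A := A') M B B).symm
  have : Module.Flat A A' := IsLocalization.flat A' M
  have key : ∀ {C C' : Type u} [AddCommGroup C] [Module B C] [AddCommGroup C'] [Module B C'] (f : C →ₗ[B] C'),
      Function.Bijective (LinearMap.liftBaseChange B f) → Function.Bijective f := by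
    intro C C' _ _ _ _ f hf
    have : (f : C → C') = LinearMap.liftBaseChange B f ∘ (TensorProduct.lid B C).symm := by
      funext x
      simp
    rw [this]
    exact hf.comp (TensorProduct.lid B C).symm.bijective
  exact FlatMor67.isIso_map _
    (key _ ⟨FlatMor67.cotangent_injective G G' h (FlatMor67.lTensor_kerR_injective_of_flat_base G),
      FlatMor67.cotangent_surjective G G' h⟩)
    (key _ (FlatMor67.cotangentSpace_bijective G G' h))

end Groth.Agent.S7225
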