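import Groth.Statements.S7226
import Groth.Agent.RelPCSch41.Comp

set_option autoImplicit false
universe u
open CategoryTheory CategoryTheory.Limits AlgebraicGeometry Opposite TopologicalSpace
attribute [local instance] HasDerivedCategory.standard
open FlatMor

namespace Groth.Agent.S7226

/-- Suppose a : X ⟶ T is locally of finite type, and b : T ⟶ S is a flat morphism that is locally of
finite presentation. Fix an integer m and an object E in D(O_X). Then m-pseudo-coherence of E
relative to a holds exactly when E is m-pseudo-coherent relative to the composite a ≫ b : X ⟶ S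
(relative pseudo-coherence in chart form). -/
theorem result {X T S : Scheme.{u}}
    (a : X ⟶ T) (b : T ⟶ S) [LocallyOfFiniteType a] [Flat b] [LocallyOfFinitePresentation b]
    (m : ℤ) (E : DCoh.D X) :
    DerSch.IsPseudoCoherentRel (a ≫ b) m E ↔ DerSch.IsPseudoCoherentRel a m E := by
  haveI : LocallyOfFiniteType (a ≫ b) := inferInstance
  have key : ∀ (U : X.Opens) (V : T.Opens) (W : S.Opens), IsAffineOpen U → IsAffineOpen V → IsAffineOpen W →
      U ≤ a ⁻¹ᵁ V → V ≤ b ⁻¹ᵁ W →
      (RelPCSch41.Good (a ≫ b) m E U W ↔ RelPCSch41.Good a m E U V) := by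
    intro U V W hU hV hW h h'
    obtain ⟨k, φ, hφ⟩ := RelPCSch41.exists_chart_of_ft (f := a) hU hV h
    letI := (b.appLE W V h').hom.toAlgebra
    haveI : Module.Flat Γ(S, W) Γ(T, V) := b.flat_appLE hW hV h'
    haveI : Algebra.FinitePresentation Γ(S, W) Γ(T, V) := b.finitePresentation_appLE hW hV h'
    obtain ⟨h1, h2⟩ := RelPCSch41.flat_fp_mvPolynomial Γ(S, W) Γ(T, V) k
    haveI := h1
    haveI := h2
    rw [RelPCSch41.good_iff_chartPC hU h hφ, RelPCSch41.chartPC_iff hU hφ.1]
    refine RelPCSch41.good_iff (f := a ≫ b) (V := W) hU (h.trans (a.preimage_mono h')) φ hφ.1 ?_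
    rw [IsScalarTower.algebraMap_eq Γ(S, W) Γ(T, V), ← RingHom.comp_assoc, MvPolynomial.algebraMap_eq, hφ.2]
    change (b.appLE W V h' ≫ a.appLE V U h).hom = _
    rw [a.appLE_comp_appLE b]
  constructor
  · intro H
    refine RelPCSch41.rel_of_good fun x => ?_
    obtain ⟨U, V, W, hx, hU, hV, hW, h, h'⟩ := RelPCSch41.exists_affine_triple a b x
    exact ⟨U, V, hx, hU, hV, (key U V W hU hV hW h h').1 (RelPCSch41.good_of_rel H hU hW (h.trans (a.preimage_mono h')))⟩
  · intro H
    refine RelPCSch41.rel_of_good fun x => ?_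
    obtain ⟨U, V, W, hx, hU, hV, hW, h, h'⟩ := RelPCSch41.exists_affine_triple a b x
    exact ⟨U, W, hx, hU, hW, (key U V W hU hV hW h h').2 (RelPCSch41.good_of_rel H hU hV h)⟩

end Groth.Agent.S7226
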