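import Groth.Statements.S7234
import Groth.Agent.FlatMor67.TildePush

set_option autoImplicit false
universe u
open CategoryTheory CategoryTheory.Limits AlgebraicGeometry Opposite TopologicalSpace
attribute [local instance] HasDerivedCategory.standard
open FlatMor

namespace Groth.Agent.S7234

/-- (1) ⇔ (3): let f : X ⟶ S be locally of finite type, E an object of D(O_X) all of whose cohomology
sheaves are quasi-coherent, and m an integer. Then E is m-pseudo-coherent relative to f (chart form)
if and only if for every affine open U of X mapping into an affine open V of S the complex RΓ(U, E),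
viewed in D(Γ(X, U)), is m-pseudo-coherent relative to Γ(S, V) in the ring-level sense. Here RΓ(U,
E) is expressed through the equivalence of D(Γ(X, U)) with the quasi-coherent derived category of
the affine scheme U: the condition is asked of every object M of D(Γ(X, U)) whose associated complex
of modules on Spec Γ(X, U) is isomorphic to E|_U carried along U ≅ Spec Γ(X, U) (the functor M ↦ M~
being assumed left exact, which it is). -/
theorem result {X S : Scheme.{u}} (f : X ⟶ S)
    [LocallyOfFiniteType f] [∀ U : X.affineOpens, PreservesFiniteLimits (tilde.functor (X.presheaf.obj (op (U : X.Opens))))]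
    (E : DCoh.D X) (hE : DCoh.IsQCohD E) (m : ℤ) :
    DerSch.IsPseudoCoherentRel f m E ↔
      ∀ (U : X.affineOpens) (V : S.affineOpens) (h : (U : X.Opens) ≤ f ⁻¹ᵁ (V : S.Opens))
        (G : CochainComplex X.Modules ℤ), Nonempty (DCoh.toD X G ≅ E) →
        ∀ M : Dual.D Γ(X, (U : X.Opens)),
          Nonempty ((DCoh.tildeD (X.presheaf.obj (op (U : X.Opens)))).obj M ≅
            DCoh.toD _ ((DerSch.pushCx U.2.isoSpec.hom).obj ((DCoh.restrictCx (U : X.Opens)).obj G))) →
          letI := (f.appLE (V : S.Opens) (U : X.Opens) h).hom.toAlgebra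
          DerCA.IsRelPseudoCoherent Γ(S, (V : S.Opens)) Γ(X, (U : X.Opens)) m M := by
  constructor
  · intro H U V h G hG M hM
    obtain ⟨eG⟩ := hG
    obtain ⟨eM⟩ := hM
    obtain ⟨n, φ, hφ⟩ := RelPCSch41.exists_chart_of_ft (f := f) U.2 V.2 h
    refine (FlatMor67.TildePush.good_iff_rel U.2 h hφ E M (eM ≪≫ ?_)).1 (RelPCSch41.good_of_rel H U.2 V.2 h)
    exact (RelPCSch41.pushQ U.2.isoSpec.hom ((DCX42.resCx (U : X.Opens).ι).obj G)).symm ≪≫
      (RelPCSch41.pushD U.2.isoSpec.hom).mapIso ((DCX42.resQ (U : X.Opens).ι G).symm ≪≫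
        (DCX42.resD (U : X.Opens).ι).mapIso eG)
  · intro H
    refine RelPCSch41.rel_iff.2 fun U V hU hV h => ?_
    obtain ⟨n, φ, hφ⟩ := RelPCSch41.exists_chart_of_ft (f := f) hU hV h
    let K := (RelPCSch41.pushD hU.isoSpec.hom).obj ((DCX42.resD U.ι).obj E)
    have hK : DCoh.IsQCohD K := fun i => by
      haveI : (DCoh.HD ((DCX42.resD U.ι).obj E) i).IsQuasicoherent := DCX42.isQCohD_resD hE U.ι i
      haveI := QCqs72.isQuasicoherent_pushforward (M := DCoh.HD ((DCX42.resD U.ι).obj E) i) hU.isoSpec.hom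
      exact QC70.isQuasicoherent_of_iso (RelPCSch41.pushHD hU.isoSpec.hom ((DCX42.resD U.ι).obj E) i).symm this
    obtain ⟨M, ⟨e⟩⟩ := ((DCX42.tildeD_fullyFaithful_essImage (CommRingCat.of Γ(X, U))).2.2 K).1 hK
    refine (FlatMor67.TildePush.good_iff_rel hU h hφ E M e).2 ?_
    refine H ⟨U, hU⟩ ⟨V, hV⟩ h (DerivedCategory.Q.objPreimage E) ⟨DCX42.rep E⟩ M ⟨e ≪≫ ?_⟩
    exact (RelPCSch41.pushD hU.isoSpec.hom).mapIso ((DCX42.resD U.ι).mapIso (DCX42.rep E).symm ≪≫
        DCX42.resQ U.ι _) ≪≫ RelPCSch41.pushQ hU.isoSpec.hom _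

end Groth.Agent.S7234
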