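import Groth.Statements.S7235
import Groth.Agent.S1961
import Groth.Agent.S1962
import Groth.Agent.FlatMor67.NLFormallyEtale
import Groth.Agent.FlatMor67.NLHenselLift

set_option autoImplicit false
universe u
open CategoryTheory CategoryTheory.Limits TensorProduct
attribute [local instance] HasDerivedCategory.standard
open FlatMor

namespace Groth.Agent.S7235

/-- Suppose A and B are local rings and A → B is a local ring homomorphism; write A^h for a
henselization of A and B^h for a henselization of B, and give B^h the A^h-algebra structure
compatible with A → B → B^h (by the universal property of A^h there is exactly one such ring map A^h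
→ B^h, the induced map on henselizations). Then the canonical chain map NL_{B/A} ⊗_B B^h →
NL_{B^h/A^h} between naive cotangent complexes (presentations on all elements) is a
quasi-isomorphism, i.e. induces isomorphisms on all cohomology modules. -/
theorem result (A B Ah Bh : Type u) [CommRing A] [CommRing B] [CommRing Ah]
    [CommRing Bh] [IsLocalRing A] [IsLocalRing B] [IsLocalRing Ah] [IsLocalRing Bh]
    [Algebra A B] [IsLocalHom (algebraMap A B)]
    [Algebra A Ah] [IsLocalHom (algebraMap A Ah)] [Hensel.IsHenselization A Ah]
    [Algebra B Bh] [IsLocalHom (algebraMap B Bh)] [Hensel.IsHenselization B Bh]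
    [Algebra Ah Bh] [Algebra A Bh] [IsScalarTower A Ah Bh] [IsScalarTower A B Bh] :
    QuasiIso (NLCx.bcMapSelf A B Ah Bh) := by
  have : Algebra.FormallyEtale A Ah := Groth.Agent.S1961.result A Ah
  have : Algebra.FormallyEtale B Bh := Groth.Agent.S1961.result B Bh
  have : Module.FaithfullyFlat B Bh := Henz21.henselization_faithfullyFlat (R := B) Bh
  let P1 := (Algebra.Generators.self A B).toExtension.infinitesimal
  obtain ⟨S, _, _, π, hflat, hπ, hsurj, hker⟩ :=
    FlatMor67.exists_flat_lift_henselization (T := Bh) (algebraMap P1.Ring B) P1.algebraMap_surjective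
      (fun x hx => ⟨2, by
        have hmem : x ^ 2 ∈ (Algebra.Generators.self A B).toExtension.ker.cotangentIdeal ^ 2 := by
          rw [← Algebra.Extension.ker_infinitesimal]
          exact Ideal.pow_mem_pow (RingHom.mem_ker.2 hx) 2
        exact (congrArg (x ^ 2 ∈ ·) (Ideal.cotangentIdeal_square _)).mp hmem⟩)
  exact FlatMor67.quasiIso_bcMapSelf_of_formallyEtale fun x hd h =>
    FlatMor67.eq_zero_of_liftBaseChange_eq_zero A B Bh π (fun a => RingHom.congr_fun hπ a) hsurj hker x hd h

end Groth.Agent.S7235
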