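import Groth.Statements.S7237
import Mathlib.LinearAlgebra.SymmetricAlgebra.Basic
import Mathlib.RingTheory.Kaehler.Basic
import Mathlib.Algebra.TrivSqZeroExt.Basic

set_option autoImplicit false
universe u
open TensorProduct
open FlatMor

namespace Groth.Agent.S7237

/-- Let A be a ring and M a finitely generated A-module, and let C = Sym_A(M) be the symmetric algebra
of M with its canonical A-linear map ι : M → C. Then Ω_{C/A} = M ⊗_A C: the C-linear map C ⊗_A M →
Ω_{C/A} obtained by extending scalars in the A-linear map m ↦ d(ι m), d being the universal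
A-derivation of C, is bijective. (The published lemma also computes the whole naive cotangent
complex of the presentation of C attached to a surjection A^m → M with kernel K, namely as K ⊗_A C →
⊕_j C dy_j; only its consequence for Ω is asserted here.) -/
theorem result (A : Type u) [CommRing A] (M : Type u)
    [AddCommGroup M] [Module A M] [Module.Finite A M] :
    Function.Bijective (LinearMap.liftBaseChange (SymmetricAlgebra A M)
      ((KaehlerDifferential.D A (SymmetricAlgebra A M)).toLinearMap.restrictScalars A ∘ₗ SymmetricAlgebra.ι A M)) := by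
  let C := SymmetricAlgebra A M
  let ι := SymmetricAlgebra.ι A M
  let N := C ⊗[A] M
  let h₀ : M →ₗ[A] TrivSqZeroExt C N :=
    { toFun := fun m => TrivSqZeroExt.inl (ι m) + TrivSqZeroExt.inr ((1 : C) ⊗ₜ[A] m)
      map_add' := fun a b => by
        ext <;> simp [TensorProduct.tmul_add]
      map_smul' := fun r a => by
        ext <;> simp [TensorProduct.tmul_smul] }
  let Φ : C →ₐ[A] TrivSqZeroExt C N := SymmetricAlgebra.lift h₀
  have hΦι : ∀ m, Φ (ι m) = TrivSqZeroExt.inl (ι m) + TrivSqZeroExt.inr ((1 : C) ⊗ₜ[A] m) := fun m =>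
    SymmetricAlgebra.lift_ι_apply h₀ m
  have hfst : ∀ c, (Φ c).fst = c := fun c => by
    induction c using SymmetricAlgebra.induction with
    | algebraMap r => rw [AlgHom.commutes, TrivSqZeroExt.algebraMap_eq_inl']; simp; rfl
    | ι m =>
      show (Φ (ι m)).fst = ι m
      rw [hΦι]; simp
    | mul a b ha hb => rw [map_mul, TrivSqZeroExt.fst_mul, ha, hb]
    | add a b ha hb => rw [map_add, TrivSqZeroExt.fst_add, ha, hb]
  let D₀ : Derivation A C N := Derivation.mk'
    { toFun := fun c => (Φ c).snd
      map_add' := fun a b => by rw [map_add, TrivSqZeroExt.snd_add]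
      map_smul' := fun r a => by rw [map_smul, TrivSqZeroExt.snd_smul]; rfl }
    (fun a b => by
      show (Φ (a * b)).snd = a • (Φ b).snd + b • (Φ a).snd
      rw [map_mul, TrivSqZeroExt.snd_mul, hfst, hfst, op_smul_eq_smul])
  let back : Ω[C⁄A] →ₗ[C] N := D₀.liftKaehlerDifferential
  let fwd := LinearMap.liftBaseChange C
    ((KaehlerDifferential.D A C).toLinearMap.restrictScalars A ∘ₗ ι)
  have hD₀ : ∀ m, D₀ (ι m) = (1 : C) ⊗ₜ[A] m := fun m => by
    show (Φ (ι m)).snd = _
    rw [hΦι]; simp
  have h1 : back ∘ₗ fwd = LinearMap.id := by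
    refine TensorProduct.AlgebraTensorModule.ext fun c m => ?_
    show back (fwd (c ⊗ₜ[A] m)) = c ⊗ₜ[A] m
    have hf : fwd (c ⊗ₜ[A] m) = c • KaehlerDifferential.D A C (ι m) := LinearMap.liftBaseChange_tmul C _ c m
    rw [hf, map_smul]
    refine (congrArg (c • ·) ((Derivation.liftKaehlerDifferential_comp_D D₀ (ι m)).trans (hD₀ m))).trans ?_
    rw [TensorProduct.smul_tmul', smul_eq_mul, mul_one]
  have h2 : fwd ∘ₗ back = LinearMap.id := by
    refine Derivation.liftKaehlerDifferential_unique _ _ (Derivation.ext fun c => ?_)
    show fwd (back (KaehlerDifferential.D A C c)) = KaehlerDifferential.D A C c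
    rw [Derivation.liftKaehlerDifferential_comp_D]
    induction c using SymmetricAlgebra.induction with
    | algebraMap r =>
      rw [Derivation.map_algebraMap, Derivation.map_algebraMap, map_zero]
    | ι m =>
      refine (congrArg fwd (hD₀ m)).trans ((LinearMap.liftBaseChange_tmul C _ 1 m).trans (one_smul _ _))
    | mul a b ha hb => rw [Derivation.leibniz, Derivation.leibniz, map_add, map_smul, map_smul, ha, hb]
    | add a b ha hb => rw [map_add, map_add, map_add, ha, hb]
  exact ⟨Function.LeftInverse.injective (g := back) (fun x => LinearMap.congr_fun h1 x),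
    Function.RightInverse.surjective (g := back) (fun x => LinearMap.congr_fun h2 x)⟩

end Groth.Agent.S7237
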