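import Groth.Statements.S7251
import Groth.Agent.DCX42.QCohPull

set_option autoImplicit false
set_option backward.isDefEq.respectTransparency.types false
universe u
open CategoryTheory CategoryTheory.Limits AlgebraicGeometry
attribute [local instance] HasDerivedCategory.standard
open Perf

namespace Groth.Agent.S7251

/-- Let f : X ⟶ Y be a quasi-compact and quasi-separated morphism of schemes. Assume Rf_* exists and
sends D_QCoh(O_X) into D_QCoh(O_Y), let an adjunction Lf^* ⊣ Rf_* be given as data, and assume the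
inclusion functors D_QCoh ⥤ D have (chosen) right adjoints DQ_X and DQ_Y. Then Rf_* ∘ DQ_X = DQ_Y ∘
Rf_*: for every K ∈ D(O_X) the comparison map Rf_*(DQ_X K) ⟶ DQ_Y(Rf_* K) in D_QCoh(O_Y),
corresponding under the adjunction to Rf_* applied to the counit DQ_X K ⟶ K, is an isomorphism. -/
theorem result {X Y : Scheme.{u}} (f : X ⟶ Y) [QuasiCompact f] [QuasiSeparated f]
    [DCoh.HasRpush f] (h : DCoh.RpushPreservesQCoh f) [DCoh.HasLpull f] (adj : DCoh.Lpull f ⊣ DCoh.Rpush f)
    [(ObjectProperty.ι (DCoh.IsQCohD (X := X))).IsLeftAdjoint] [(ObjectProperty.ι (DCoh.IsQCohD (X := Y))).IsLeftAdjoint]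
    (K : DCoh.D X) :
    IsIso ((Adjunction.ofIsLeftAdjoint (ObjectProperty.ι (DCoh.IsQCohD (X := Y)))).homEquiv
      (⟨(DCoh.Rpush f).obj (((ObjectProperty.ι (DCoh.IsQCohD (X := X))).rightAdjoint.obj K).obj),
        h _ (((ObjectProperty.ι (DCoh.IsQCohD (X := X))).rightAdjoint.obj K).property)⟩ : DCoh.DQCoh Y)
      ((DCoh.Rpush f).obj K)
      ((DCoh.Rpush f).map ((Adjunction.ofIsLeftAdjoint (ObjectProperty.ι (DCoh.IsQCohD (X := X)))).counit.app K))) := by
  let LY := ObjectProperty.ι (DCoh.IsQCohD (X := Y))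
  let LX := ObjectProperty.ι (DCoh.IsQCohD (X := X))
  let aY := Adjunction.ofIsLeftAdjoint LY
  let aX := Adjunction.ofIsLeftAdjoint LX
  let R : DCoh.DQCoh Y := ⟨(DCoh.Rpush f).obj (LX.rightAdjoint.obj K).obj, h _ (LX.rightAdjoint.obj K).property⟩
  let θ : R ⟶ LY.rightAdjoint.obj ((DCoh.Rpush f).obj K) :=
    aY.homEquiv R ((DCoh.Rpush f).obj K) ((DCoh.Rpush f).map (aX.counit.app K))
  show IsIso θ
  -- maps out of a quasi-coherent object
  have hbij : ∀ N : DCoh.DQCoh Y, Function.Bijective (fun φ : N ⟶ R => φ ≫ θ) := by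
    intro N
    let N' : DCoh.DQCoh X := ⟨(DCoh.Lpull f).obj N.obj, Groth.Agent.DCX42.isQCohD_Lpull f N.property⟩
    let e : (N ⟶ R) ≃ (N ⟶ LY.rightAdjoint.obj ((DCoh.Rpush f).obj K)) :=
      (ObjectProperty.fullyFaithfulι _).homEquiv.trans <|
      ((adj.homEquiv N.obj (LX.rightAdjoint.obj K).obj).symm.trans <|
      (((ObjectProperty.fullyFaithfulι _).homEquiv (X := N') (Y := LX.rightAdjoint.obj K)).symm.trans <|
      ((aX.homEquiv N' K).symm.trans <|
      ((adj.homEquiv N.obj K).trans (aY.homEquiv N ((DCoh.Rpush f).obj K))))))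
    have he : (fun φ : N ⟶ R => φ ≫ θ) = e := by
      funext φ
      apply (aY.homEquiv N ((DCoh.Rpush f).obj K)).symm.injective
      refine (aY.homEquiv_naturality_left_symm φ θ).trans ?_
      show LY.map φ ≫ (aY.homEquiv R _).symm (aY.homEquiv R _ _) = _
      rw [Equiv.symm_apply_apply]
      simp only [e, Equiv.trans_apply, Equiv.symm_apply_apply]
      erw [Adjunction.homEquiv_counit aX]
      refine Eq.trans ?_ (adj.homEquiv_naturality_right _ _).symm
      refine congrArg (fun z => z ≫ (DCoh.Rpush f).map (aX.counit.app K)) ?_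
      exact ((adj.homEquiv N.obj _).apply_symm_apply _).symm
    rw [he]
    exact e.bijective
  obtain ⟨ψ, hψ⟩ := (hbij _).2 (𝟙 _)
  exact ⟨ψ, (hbij R).1 (by
    show (θ ≫ ψ) ≫ θ = 𝟙 R ≫ θ
    rw [Category.assoc, show ψ ≫ θ = 𝟙 _ from hψ, Category.comp_id, Category.id_comp]), hψ⟩

end Groth.Agent.S7251
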