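import Groth.Statements.S7252
import Groth.Agent.LC16.CechFlat
import Groth.Agent.LC16.GammaZLocal
import Groth.Agent.LocCohZ93.AffineHZ

set_option autoImplicit false
universe u
open CategoryTheory CategoryTheory.Limits AlgebraicGeometry
attribute [local instance] HasDerivedCategory.standard
open Perf

namespace Groth.Agent.S7252

/-- Let X be a scheme, U ⊆ X an open subscheme and T = X ∖ U. Assume that, locally on X, T is the
vanishing set of no more than c functions from O_X: every point of X has an open neighbourhood V and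
finitely many, at most c, sections of O_X over V whose common zero locus meets V exactly in T ∩ V.
Then the local cohomology sheaves ℋ^i_T(F) (the right derived functors, computed with injective
resolutions, of the sheaf of sections with support in T, F ↦ ker(F → j_*(F|_U))) vanish for every i
> c and every quasi-coherent O_X-module F. -/
theorem result {X : Scheme.{u}} (U : X.Opens) [HasInjectiveResolutions X.Modules]
    (c : ℕ) (hT : ∀ x : X, ∃ (V : X.Opens) (fs : Finset Γ(X, V)), x ∈ V ∧ fs.card ≤ c ∧
      X.zeroLocus (U := V) (↑fs : Set Γ(X, V)) ∩ (V : Set ↥X) = (U : Set ↥X)ᶜ ∩ (V : Set ↥X))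
    (F : X.Modules) (hF : Coh.IsQCoh F) (i : ℕ) (hi : c < i) :
    IsZero (((DCoh.gammaZ U.ι).rightDerived i).obj F) := by
  haveI : F.IsQuasicoherent := hF
  refine LC16.GammaZLocal.isZero_of_local U F i fun V p hp => ?_
  obtain ⟨V₀, fs, hpV₀, hc, hz⟩ := hT p
  obtain ⟨W, hW, hpW, hWle⟩ := exists_isAffineOpen_mem_and_subset (X := X) (x := p) (U := V ⊓ V₀) ⟨hp, hpV₀⟩
  have hW₀ : W ≤ V₀ := fun z hzW => (hWle hzW).2
  refine ⟨W, fun z hzW => (hWle hzW).1, hpW, ?_⟩
  have hz' : X.zeroLocus (U := V₀) {a | a ∈ fs.toList} ∩ (V₀ : Set X) = (U : Set X)ᶜ ∩ (V₀ : Set X) := by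
    rw [show {a | a ∈ fs.toList} = (↑fs : Set Γ(X, V₀)) from Set.ext fun a => Finset.mem_toList]
    exact hz
  obtain ⟨e⟩ := LocCohZ93.nonempty_HZ_affineOpen F W hW U _
    (LC16.GammaZLocal.inf_eq_iSup_basicOpen U hW₀ fs.toList hz') i
  haveI := LC16.CechFlat.subsingleton_koszulHLim_of_lt (ModuleCat.of Γ(X, W) Γ(F, W))
    (fs.toList.map (X.presheaf.map (homOfLE hW₀).op)) i (by simp only [List.length_map, Finset.length_toList]; omega)
  exact e.symm.toEquiv.subsingleton

end Groth.Agent.S7252
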