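import Groth.Statements.S7253
import Groth.Agent.LC16.CechFlat
import Groth.Agent.LC16.GammaZLocal
import Groth.Agent.LocCohZ93.AffineHZ
import Groth.Agent.Koszul19.BaseChange
import Groth.Agent.FlatMor68.FlatFiniteRank

set_option autoImplicit false
universe u
open CategoryTheory CategoryTheory.Limits AlgebraicGeometry
attribute [local instance] HasDerivedCategory.standard
open Perf

namespace Groth.Agent.S7253

/-- Let X be a scheme, U ⊆ X an open subscheme and Z = X ∖ U. Assume that, locally on X, Z is the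
vanishing set of a Koszul-regular sequence having c elements: every point of X has an affine open
neighbourhood V and a sequence f₁, …, f_c in O_X(V), Koszul-regular in the ring O_X(V), whose common
zero locus meets V exactly in Z ∩ V. Then the local cohomology sheaves ℋ^i_Z(F) (right derived
functors, computed with injective resolutions, of F ↦ ker(F → j_*(F|_U))) vanish for every i ≠ c and
every flat quasi-coherent O_X-module F. -/
theorem result {X : Scheme.{u}} (U : X.Opens) [HasInjectiveResolutions X.Modules]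
    (c : ℕ) (hZ : ∀ x : X, ∃ (V : X.Opens) (fs : List Γ(X, V)), x ∈ V ∧ IsAffineOpen V ∧ fs.length = c ∧
      LCI.IsKoszulRegularSeq Γ(X, V) fs ∧
      X.zeroLocus (U := V) {a | a ∈ fs} ∩ (V : Set ↥X) = (U : Set ↥X)ᶜ ∩ (V : Set ↥X))
    (F : X.Modules) (hF : Coh.IsQCoh F) (hFl : FlatMod.IsFlat F) (i : ℕ) (hi : i ≠ c) :
    IsZero (((DCoh.gammaZ U.ι).rightDerived i).obj F) := by
  haveI : F.IsQuasicoherent := hF
  refine LC16.GammaZLocal.isZero_of_local U F i fun V p hp => ?_
  obtain ⟨V₀, fs, hpV₀, hV₀, hc, hreg, hz⟩ := hZ p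
  obtain ⟨g, hgV, hpg⟩ := hV₀.exists_basicOpen_le (V := V) ⟨p, hp⟩ hpV₀
  refine ⟨X.basicOpen g, hgV, hpg, ?_⟩
  haveI := hV₀.isLocalization_basicOpen g
  haveI : Module.Flat Γ(X, V₀) Γ(X, X.basicOpen g) :=
    IsLocalization.flat Γ(X, X.basicOpen g) (Submonoid.powers g)
  have hW := hV₀.basicOpen g
  obtain ⟨e⟩ := LocCohZ93.nonempty_HZ_affineOpen F (X.basicOpen g) hW U _
    (LC16.GammaZLocal.inf_eq_iSup_basicOpen U (X.basicOpen_le g) fs hz) i
  haveI : Module.Flat Γ(X, X.basicOpen g) (ModuleCat.of Γ(X, X.basicOpen g) Γ(F, X.basicOpen g)) :=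
    FlatMor68.FlatFiniteRank.flat_sections_self F hFl hW
  have hkr : Koszul19.KR fs := fun q hq => (Koszul19.isZero_homology_iff_ex _ q).1 (hreg q hq)
  haveI := LC16.CechFlat.subsingleton_koszulHLim_of_flat
    (ModuleCat.of Γ(X, X.basicOpen g) Γ(F, X.basicOpen g))
    (fs := fs.map (X.presheaf.map (homOfLE (X.basicOpen_le g)).op))
    (fun q hq => (Koszul19.isZero_homology_iff_ex _ q).2 (Koszul19.KR.map hkr q hq)) i
    (by simp only [List.length_map]; omega)
  exact e.symm.toEquiv.subsingleton

end Groth.Agent.S7253
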