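import Groth.Statements.S7254
import Groth.Agent.QCohPush72.Bound
import Groth.Agent.DCoh43.Basic

set_option autoImplicit false
universe u
open CategoryTheory CategoryTheory.Limits AlgebraicGeometry
attribute [local instance] HasDerivedCategory.standard
open Perf

namespace Groth.Agent.S7254

/-- Let X be a scheme, F an additive functor from O_X-modules to abelian groups and N ≥ 0 an integer
such that F commutes with countable direct products and RᵖF(G) = 0 (right derived functors computed
with injective resolutions) for every p ≥ N and every quasi-coherent O_X-module G. Assume the total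
right derived functor RF : D(O_X) ⥤ D(Ab) exists. If E ∈ D(O_X) has quasi-coherent cohomology
sheaves and Hⁱ(E) = 0 for i ∉ [a, b], then Hⁱ(RF(E)) = 0 for i ∉ [a, b + N - 1]. -/
theorem result {X : Scheme.{u}} (F : X.Modules ⥤ AddCommGrpCat.{u}) [F.Additive]
    [PreservesLimitsOfShape (Discrete ℕ) F] [HasInjectiveResolutions X.Modules] (N : ℕ)
    (hF : ∀ G : X.Modules, Coh.IsQCoh G → ∀ p : ℕ, N ≤ p → IsZero ((F.rightDerived p).obj G))
    [(F.mapHomotopyCategory (ComplexShape.up ℤ) ⋙ DerivedCategory.Qh).HasRightDerivedFunctor (HomotopyCategory.quasiIso X.Modules (ComplexShape.up ℤ))]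
    (E : DCoh.D X) (hE : DCoh.IsQCohD E) (a b : ℤ) (hab : ∀ i : ℤ, i < a ∨ b < i → IsZero (DCoh.HD E i))
    (i : ℤ) (hi : i < a ∨ b + N - 1 < i) :
    IsZero ((DerivedCategory.homologyFunctor AddCommGrpCat.{u} i).obj
      (((F.mapHomotopyCategory (ComplexShape.up ℤ) ⋙ DerivedCategory.Qh).totalRightDerived DerivedCategory.Qh
        (HomotopyCategory.quasiIso X.Modules (ComplexShape.up ℤ))).obj E)) := by
  let RF := (F.mapHomotopyCategory (ComplexShape.up ℤ) ⋙ DerivedCategory.Qh).totalRightDerived DerivedCategory.Qh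
    (HomotopyCategory.quasiIso X.Modules (ComplexShape.up ℤ))
  let α := (F.mapHomotopyCategory (ComplexShape.up ℤ) ⋙ DerivedCategory.Qh).totalRightDerivedUnit DerivedCategory.Qh
    (HomotopyCategory.quasiIso X.Modules (ComplexShape.up ℤ))
  have hA := CohDer42.RdAdj.enoughKInj (A := X.Modules)
  have hα := fun I hI => Mod48.isIso_unit_of_kInjective RF α hA I hI
  haveI hE1 : E.IsGE a := (DerivedCategory.isGE_iff _ _).2 fun j hj => hab j (Or.inl hj)
  have hE2 : E.IsLE b := (DerivedCategory.isLE_iff _ _).2 fun j hj => hab j (Or.inr hj)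
  rcases hi with hlt | hgt
  · exact DerivedCategory.isZero_of_isGE _ a i hlt (hX := DCoh43.isGE_rightDerived F RF α E a)
  haveI : RF.Additive := CohDer42.RlimRight.additive_push RF α hα hA
  let G := RF ⋙ DerivedCategory.homologyFunctor AddCommGrpCat.{u} i
  let S : ObjectProperty (DCoh.D X) := fun Z => IsZero (G.obj Z)
  haveI : S.IsClosedUnderIsomorphisms := ⟨fun e h => h.of_iso (G.mapIso e).symm⟩
  have hz : ∀ Z, IsZero Z → S Z := fun Z hZ => G.map_isZero hZ
  change S E
  refine Mod48.bounded_induction S hz (fun T hT h₁ h₃ => ?_) (b + 1 - a).toNat a E hE1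
    (DerivedCategory.TStructure.t.isLE_of_le _ b _ (by omega)) fun q => ?_
  · obtain ⟨c, hc⟩ := CohDer42.RlimRight.exists_distinguished_push RF α hα hA _ _ T.mor₃ hT
    exact (DerivedCategory.HomologySequence.exact₂ _ hc i).isZero_X₂
      (IsZero.eq_of_src h₁ _ _) (IsZero.eq_of_tgt h₃ _ _)
  · by_cases hq : a ≤ q ∧ q ≤ b
    · obtain ⟨e⟩ := Mod48.LocGen.nonempty_homology_push_single_iso RF α hα hA
        ((DerivedCategory.homologyFunctor X.Modules q).obj E) q i (i - q) (by omega)
      obtain ⟨p, hp⟩ : ∃ p : ℕ, i - q = (p : ℤ) := ⟨(i - q).toNat, by omega⟩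
      rw [hp] at e
      obtain ⟨e'⟩ := Mod48.LocGen.nonempty_homology_push_single_rightDerived_iso RF α hα
        ((DerivedCategory.homologyFunctor X.Modules q).obj E) p
      exact (hF _ (hE q) p (by omega)).of_iso (e ≪≫ e')
    · exact hz _ ((DerivedCategory.singleFunctor X.Modules q).map_isZero (hab q (by omega)))

end Groth.Agent.S7254
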