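import Groth.Statements.S7255
import Groth.Agent.QCohPush72.DQBound

set_option autoImplicit false
universe u
open CategoryTheory CategoryTheory.Limits AlgebraicGeometry
attribute [local instance] HasDerivedCategory.standard
open Perf

namespace Groth.Agent.S7255

/-- Let X be a quasi-compact and quasi-separated scheme and let DQ_X be the (chosen) right adjoint of
the inclusion D_QCoh(O_X) ⥤ D(O_X). Assuming the derived global sections functors RΓ(U, -) exist on
D(O_U) for the opens U of X, there is an integer N = N(X) ≥ 0 with the following property: if K ∈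
D(O_X) satisfies Hⁱ(U, K|_U) = 0 for every affine open U ⊆ X and every i ∉ [a, b], then the
cohomology sheaves Hⁱ(DQ_X(K)) are zero for i ∉ [a, b + N]. -/
theorem result (X : Scheme.{u}) [CompactSpace ↥X] [QuasiSeparatedSpace ↥X]
    [(ObjectProperty.ι (DCoh.IsQCohD (X := X))).IsLeftAdjoint] [∀ U : X.Opens, DCoh.HasRΓ (U : Scheme.{u})] :
    ∃ N : ℕ, ∀ (K : DCoh.D X) (a b : ℤ),
      (∀ U : X.Opens, IsAffineOpen U → ∀ i : ℤ, (i < a ∨ b < i) →
        IsZero ((DerivedCategory.homologyFunctor AddCommGrpCat.{u} i).obj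
          ((DCoh.RΓ (U : Scheme.{u})).obj ((DCoh.restrictD U.ι).obj K)))) →
      ∀ i : ℤ, (i < a ∨ b + (N : ℤ) < i) →
        IsZero (DCoh.HD (((ObjectProperty.ι (DCoh.IsQCohD (X := X))).rightAdjoint.obj K).obj) i) := by
  obtain ⟨N, hN⟩ := QCohPush72.exists_repl_bound X
  refine ⟨N, fun K a b h i hi => ?_⟩
  obtain ⟨I, hI, ⟨e⟩⟩ := DCX42.exists_kinj K
  have hs : QCohPush72.SectBound I a b := fun U hU j hj => by
    obtain ⟨eU⟩ := DCX42.nonempty_RΓ_model ((DCX42.resCx U.ι).obj I) (DCX42.isKInjective_restrict U.ι I hI)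
    let θ := QCohPush72.restrictGammaIso U.ι U U.ι_image_top
    refine (h U hU j hj).of_iso ?_
    exact ((DerivedCategory.homologyFunctor AddCommGrpCat.{u} j).mapIso
      ((DCoh.RΓ (U : Scheme.{u})).mapIso ((DCX42.resD U.ι).mapIso e.symm ≪≫ DCX42.resQ U.ι I) ≪≫ eU) ≪≫
      (DerivedCategory.homologyFunctorFactors AddCommGrpCat.{u} j).app _ ≪≫
      (HomologicalComplex.homologyFunctor _ _ j).mapIso
        (HomologicalComplex.Hom.isoOfComponents (fun p => θ.app (I.X p))
          (fun p q _ => (θ.hom.naturality (I.d p q)).symm) :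
          ((DCoh.gammaAb (U : Scheme.{u})).mapHomologicalComplex (ComplexShape.up ℤ)).obj ((DCX42.resCx U.ι).obj I) ≅
            ((Univ70.secAb U).mapHomologicalComplex (ComplexShape.up ℤ)).obj I)).symm
  obtain ⟨Q', ε, h1, h2, h3, h4⟩ := (hN I hI a b hs).of_iso e
  let A := Adjunction.ofIsLeftAdjoint (ObjectProperty.ι (DCoh.IsQCohD (X := X)))
  let R := ((ObjectProperty.ι (DCoh.IsQCohD (X := X))).rightAdjoint.obj K)
  have h5 : QCohPush72.IsRepl (K := K) (Q := R.obj) (A.counit.app K) := fun P hP => by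
    have hfun : (fun g : P ⟶ R.obj => g ≫ A.counit.app K) =
        (A.homEquiv ⟨P, hP⟩ K).symm ∘ (fun g => ObjectProperty.homMk g) := by
      funext g
      rw [Function.comp_apply, Adjunction.homEquiv_counit]
      rfl
    rw [hfun]
    exact (Equiv.bijective _).comp ⟨fun g g' hg => congrArg (fun z => z.hom) hg, fun z => ⟨z.hom, rfl⟩⟩
  obtain ⟨eQ⟩ := QCohPush72.nonempty_iso_of_isRepl h1 R.property h4 h5
  refine IsZero.of_iso ?_ ((DerivedCategory.homologyFunctor X.Modules i).mapIso eQ.symm)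
  rcases hi with hi | hi
  · exact DerivedCategory.isZero_of_isGE Q' a i hi
  · exact DerivedCategory.isZero_of_isLE Q' (b + N) i hi

end Groth.Agent.S7255
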