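import Groth.Statements.S7275
import Groth.Agent.PerfFib24.FlatFP
-- import your own Groth.Agent.* helpers here

set_option autoImplicit false
universe u
open CategoryTheory CategoryTheory.Limits AlgebraicGeometry
attribute [local instance] HasDerivedCategory.standard
open Perf

namespace Groth.Agent.S7275

/-- Let f : X ⟶ S be flat and locally of finite presentation and E ∈ D(O_X). Then E is S-perfect
(pseudo-coherent, and locally on X represented by a bounded complex of O_X-modules flat over S) if
and only if E satisfies the alternative definition of relative perfectness: locally on X, E becomes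
isomorphic in the derived category to a bounded complex whose terms are O_X-modules of finite
presentation that are S-flat (every point has an open neighbourhood V such that the restriction to V
of any representing complex is isomorphic in D(O_V) to such a complex). -/
theorem result {X S : Scheme.{u}} (f : X ⟶ S)
    [Flat f] [LocallyOfFinitePresentation f] (E : DCoh.D X) :
    ((∀ m : ℤ, DCoh.IsPseudoCoherentD m E) ∧ DCoh.LocHasFiniteRelTorDim f E) ↔
      ∀ x : X, ∃ V : X.Opens, x ∈ V ∧ ∀ F : CochainComplex X.Modules ℤ, Nonempty (DCoh.toD X F ≅ E) →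
        ∃ (G : CochainComplex (V : Scheme.{u}).Modules ℤ) (a b : ℤ), DCoh.VanishesOutside G a b ∧
          (∀ i : ℤ, CohB1.IsFP (G.X i) ∧ FlatMod.IsFlatOver (V.ι ≫ f) (G.X i)) ∧
          Nonempty (DerivedCategory.Q.obj ((DCoh.restrictCx V).obj F) ≅ DerivedCategory.Q.obj G) := by
  refine (Groth.Agent.PerfFib24.relPerf_iff_flatFP f E).trans ?_
  refine forall_congr' fun x => exists_congr fun V => and_congr_right fun _ => ⟨?_, fun h => ?_⟩
  · rintro ⟨G, a, b, hab, hG, ⟨i⟩⟩ F ⟨e⟩
    exact ⟨G, a, b, hab, hG, ⟨(Groth.Agent.DCX42.resQ V.ι F).symm ≪≫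
      (Groth.Agent.DCX42.resD V.ι).mapIso e ≪≫ i⟩⟩
  · obtain ⟨G, a, b, hab, hG, ⟨i⟩⟩ := h (DerivedCategory.Q.objPreimage E) ⟨Groth.Agent.DCX42.rep E⟩
    exact ⟨G, a, b, hab, hG, ⟨(Groth.Agent.DCX42.resD V.ι).mapIso (Groth.Agent.DCX42.rep E).symm ≪≫
      Groth.Agent.DCX42.resQ V.ι _ ≪≫ i⟩⟩

end Groth.Agent.S7275
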