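import Groth.Statements.S7277
import Groth.Agent.DerComp18.ProperCompl
import Groth.Prelude.Def_KLin

set_option autoImplicit false
universe u
open CategoryTheory CategoryTheory.Limits AlgebraicGeometry
attribute [local instance] HasDerivedCategory.standard
open Perf

namespace Groth.Agent.S7277

theorem smul_eq_smul {R S : Type*} [Ring R] [Ring S] {𝒜 : Type*} [Category 𝒜] [Abelian 𝒜] [HasDerivedCategory 𝒜]
    [Linear R 𝒜] [Linear S 𝒜] (a : R) (b : S) (h : ∀ M : 𝒜, a • 𝟙 M = b • 𝟙 M) {K L : DerivedCategory 𝒜}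
    (x : K ⟶ L) : a • x = b • x := by
  have h1 : a • 𝟙 K = b • 𝟙 K := by
    let e := DerivedCategory.Q.objObjPreimageIso K
    have hC : ∀ C : CochainComplex 𝒜 ℤ, a • 𝟙 (DerivedCategory.Q.obj C) = b • 𝟙 (DerivedCategory.Q.obj C) := fun C => by
      rw [← CategoryTheory.Functor.map_id, ← Functor.map_smul, ← Functor.map_smul]
      congr 1
      ext n
      exact h (C.X n)
    have hA : a • 𝟙 K = e.inv ≫ (a • 𝟙 (DerivedCategory.Q.obj _)) ≫ e.hom := by
      rw [Linear.smul_comp, Category.id_comp, Linear.comp_smul, e.inv_hom_id]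
    have hB : b • 𝟙 K = e.inv ≫ (b • 𝟙 (DerivedCategory.Q.obj _)) ≫ e.hom := by
      rw [Linear.smul_comp, Category.id_comp, Linear.comp_smul, e.inv_hom_id]
    rw [hA, hB, hC]
  rw [← Category.id_comp x, ← Linear.smul_comp, ← Linear.smul_comp, h1]

theorem finite_transfer {R S : Type*} [CommRing R] [CommRing S] {𝒜 : Type*} [Category 𝒜] [Abelian 𝒜]
    [HasDerivedCategory 𝒜] [Linear R 𝒜] [Linear S 𝒜] (φ : R →+* S) (hφ : φ.Finite)
    (h : ∀ (a : R) (M : 𝒜), a • 𝟙 M = φ a • 𝟙 M) (K L : DerivedCategory 𝒜) (hf : Module.Finite S (K ⟶ L)) :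
    Module.Finite R (K ⟶ L) := by
  let _ := φ.toAlgebra
  have : Module.Finite R S := hφ
  have : IsScalarTower R S (K ⟶ L) :=
    ⟨fun a b x => (mul_smul (φ a) b x).trans (smul_eq_smul a (φ a) (h a) (b • x)).symm⟩
  have := hf
  exact Module.Finite.trans S _

theorem smul_id_eq (A : Type u) [CommRing A] (X : Scheme.{u}) [X.Over (Spec (CommRingCat.of A))] (a : A)
    (M : X.Modules) : a • 𝟙 M =
      (DerComp.smulEnd (Groth.Agent.DerComp18.baseGSec X A a) (M : ModSite.Mod X.sheaf) : M ⟶ M) := by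
  refine Scheme.Modules.hom_ext _ _ fun U => ?_
  ext m
  exact KLin.smul_app_apply a (𝟙 M) U m

/-- Let A be a Noetherian ring and X a scheme proper over Spec A. For K ∈ D⁻_Coh(O_X) (bounded above,
coherent cohomology sheaves) and L ∈ D⁺_Coh(O_X) (bounded below, coherent cohomology sheaves), the
A-modules Extⁿ(K, L) = Hom_{D(O_X)}(K, L[n]) are finite for all n (A acts on morphisms of D(O_X)
through A → Γ(X, O_X)). -/
theorem result (A : Type u) [CommRing A] [IsNoetherianRing A] (X : Scheme.{u})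
    [X.Over (Spec (CommRingCat.of A))] [IsProper (X ↘ Spec (CommRingCat.of A))] (K L : DCoh.D X)
    (hK : DCoh.IsCohD K) (hKb : ∃ b : ℤ, K.IsLE b) (hL : DCoh.IsCohD L) (hLa : ∃ a : ℤ, L.IsGE a) (n : ℤ) :
    Module.Finite A (K ⟶ L⟦n⟧) := by
  obtain ⟨b, hb⟩ := hKb
  obtain ⟨c, hc⟩ := hLa
  let K' : DerivedCategory (ModSite.Mod X.sheaf) := K
  let L' : DerivedCategory (ModSite.Mod X.sheaf) := L
  haveI : K'.IsLE b := hb
  haveI : L'.IsGE c := hc
  haveI : (L'⟦n⟧).IsGE (c - n) := Groth.Agent.DerComp18.isGE_shiftD L' c n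
  have hfin : Module.Finite (DerComp.GSec X.sheaf) (K' ⟶ L'⟦n⟧) :=
    Groth.Agent.DerComp18.finite_hom_cohD A K' (L'⟦n⟧) hK (Groth.Agent.DerComp18.isCohD_shift L hL n) b (c - n)
  let _ : Linear (DerComp.GSec X.sheaf) X.Modules :=
    (inferInstance : Linear (DerComp.GSec X.sheaf) (ModSite.Mod X.sheaf))
  exact finite_transfer (Groth.Agent.DerComp18.baseGSec X A) (Groth.Agent.DerComp18.baseGSec_finite A)
    (fun a M => (smul_id_eq A X a M).trans (Category.comp_id _).symm) K (L⟦n⟧) hfin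

end Groth.Agent.S7277
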