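import Groth.Statements.S7287
import Groth.Agent.RelCyc93.GenericPoint
import Groth.Agent.SpPts86.ResTrdeg
-- import your own Groth.Agent.* helpers here

set_option autoImplicit false
open CategoryTheory CategoryTheory.Limits AlgebraicGeometry Opposite
universe u
open RelCyc

namespace Groth.Agent.S7287

/-- Let f from X to S be locally of finite type, r a natural number and g from S' to S a surjective
morphism. Let S'' be the fibre product of S' with itself over S (projections p, q), X' the base
change of X along g (structure map f', projection g' to X), and X'' the base change of X along S''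
with structure map f'' and the two projections p', q' to X' lying over p and q and compatible with
the projections to X. Let x be a point of X whose residue field has transcendence degree r over that
of f(x). If x1 and x2 are points of X' mapping to x whose residue fields have transcendence degree r
over those of their images in S', then there is a point of X'' whose residue field has transcendence
degree r over that of its image in S'' and whose two projections are x1 and x2. -/
theorem result {X S S' S'' X' X'' : Scheme.{u}}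
    (f : X ⟶ S) [LocallyOfFiniteType f] (r : ℕ) (g : S' ⟶ S) [Surjective g]
    (p q : S'' ⟶ S') (hS : IsPullback p q g g)
    (f' : X' ⟶ S') (g' : X' ⟶ X) (hX : IsPullback g' f' f g)
    (f'' : X'' ⟶ S'') (p' q' : X'' ⟶ X') (hp : IsPullback p' f'' f' p) (hq : IsPullback q' f'' f' q)
    (hpq : p' ≫ g' = q' ≫ g')
    (x : ↥X) (hx : Dual3.resTrdeg f x = r)
    (x₁ x₂ : ↥X') (h₁ : g'.base x₁ = x) (h₂ : g'.base x₂ = x)
    (hx₁ : Dual3.resTrdeg f' x₁ = r) (hx₂ : Dual3.resTrdeg f' x₂ = r) :
    ∃ x'' : ↥X'', Dual3.resTrdeg f'' x'' = r ∧ p'.base x'' = x₁ ∧ q'.base x'' = x₂ := by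
  obtain ⟨u, hu1, hu2⟩ := Scheme.Pullback.exists_preimage_pullback (f := g') (g := g') x₁ x₂ (h₁.trans h₂.symm)
  let s : pullback g' g' ⟶ S'' := hS.lift (pullback.fst g' g' ≫ f') (pullback.snd g' g' ≫ f') (by
    rw [Category.assoc, Category.assoc, ← hX.w, pullback.condition_assoc])
  let ℓ : pullback g' g' ⟶ X'' := hp.lift (pullback.fst g' g') s (hS.lift_fst _ _ _).symm
  have hℓp : ℓ ≫ p' = pullback.fst g' g' := hp.lift_fst _ _ _
  have hℓq : ℓ ≫ q' = pullback.snd g' g' := hX.hom_ext
    (by rw [Category.assoc, ← hpq, reassoc_of% hℓp, pullback.condition])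
    (by rw [Category.assoc, hq.w, ← Category.assoc,
      show ℓ ≫ f'' = s from hp.lift_snd _ _ _, hS.lift_snd])
  let w : X'' := ℓ u
  have hw1 : p' w = x₁ := by rw [← Scheme.Hom.comp_apply, hℓp]; exact hu1
  have hw2 : q' w = x₂ := by rw [← Scheme.Hom.comp_apply, hℓq]; exact hu2
  have : LocallyOfFiniteType f' := MorphismProperty.of_isPullback hX inferInstance
  have : LocallyOfFiniteType f'' := MorphismProperty.of_isPullback hp inferInstance
  have hT : IsPullback (p' ≫ g') f'' f (p ≫ g) := hp.paste_horiz hX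
  rw [Groth.Agent.SpPts86.resTrdeg_eq_fdeg, Nat.cast_inj] at hx hx₁ hx₂
  obtain ⟨z, hzw, hfz, hgz, hmax⟩ : ∃ z : X'', z ⤳ w ∧ f'' z = f'' w ∧ (p' ≫ g') z = x ∧
      ∀ z', z' ⤳ z → f'' z' = f'' z → (p' ≫ g') z' = (p' ≫ g') z → z' = z := by
    let D : Set ℕ := {n | ∃ z : X'', z ⤳ w ∧ f'' z = f'' w ∧ (p' ≫ g') z = x ∧
      Groth.Agent.E4O.fdeg f'' z = n}
    have hb : BddAbove D := ⟨r, by
      rintro n ⟨z, -, -, hgz, rfl⟩
      have := Groth.Agent.E4O.fdeg_le_of_isPullback hT z
      rwa [hgz, hx] at this⟩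
    have hwx : (p' ≫ g') w = x := by rw [Scheme.Hom.comp_apply, hw1]; exact h₁
    obtain ⟨z, hzw, hfz, hgz, hzn⟩ := Nat.sSup_mem (s := D) ⟨_, w, specializes_rfl, rfl, hwx, rfl⟩ hb
    refine ⟨z, hzw, hfz, hgz, fun z' hz' hf' hg' => ?_⟩
    by_contra hne
    have hlt := Groth.Agent.E4O.fdeg_lt (f := f'') hz' hf' hne
    have := le_csSup hb ⟨z', hz'.trans hzw, hf'.trans hfz, hg'.trans hgz, rfl⟩
    omega
  have hr : Groth.Agent.E4O.fdeg f'' z = r := by
    rw [Groth.Agent.RelCyc93.fdeg_eq_of_generic hT z hmax, hgz, hx]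
  refine ⟨z, ?_, ?_, ?_⟩
  · rw [Groth.Agent.SpPts86.resTrdeg_eq_fdeg, hr]
  · show p' z = x₁
    by_contra hne
    have hsp : p' z ⤳ x₁ := (hzw.map p'.continuous).trans (specializes_of_eq hw1)
    have hfib : f' (p' z) = f' x₁ := by
      rw [← hw1, ← Scheme.Hom.comp_apply, ← Scheme.Hom.comp_apply, hp.w, Scheme.Hom.comp_apply,
        Scheme.Hom.comp_apply, hfz]
    have h3 := Groth.Agent.E4O.fdeg_lt hsp hfib hne
    have h4 := Groth.Agent.E4O.fdeg_le_of_isPullback hX (p' z)
    rw [← Scheme.Hom.comp_apply, hgz, hx] at h4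
    omega
  · show q' z = x₂
    by_contra hne
    have hsp : q' z ⤳ x₂ := (hzw.map q'.continuous).trans (specializes_of_eq hw2)
    have hfib : f' (q' z) = f' x₂ := by
      rw [← hw2, ← Scheme.Hom.comp_apply, ← Scheme.Hom.comp_apply, hq.w, Scheme.Hom.comp_apply,
        Scheme.Hom.comp_apply, hfz]
    have h3 := Groth.Agent.E4O.fdeg_lt hsp hfib hne
    have h4 := Groth.Agent.E4O.fdeg_le_of_isPullback hX (q' z)
    rw [← Scheme.Hom.comp_apply, ← hpq, hgz, hx] at h4
    omega

end Groth.Agent.S7287
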