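import Groth.Statements.S7288
import Groth.Agent.EtModW45.WeakSerre

set_option autoImplicit false
open CategoryTheory CategoryTheory.Limits AlgebraicGeometry Opposite
universe u
open EtModW

namespace Groth.Agent.S7288

/-- Let X be a scheme and Λ a ring. The essential image of the pullback functor from sheaves of
Λ-modules on the small etale site of X to sheaves of Λ-modules on the small pro-etale site is a weak
Serre subcategory: the kernel and the cokernel of a morphism between objects of the essential image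
lie in it, and an extension of two objects of the essential image lies in it. (Continuity of the
inclusion of the etale site into the pro-etale site is carried as a binder.) -/
theorem result (Λ : Type (u + 1)) [CommRing Λ] (X : Scheme.{u})
    [ProEtS.EpsCont X] :
    (∀ (F G : EtModW.ModP Λ X) (φ : F ⟶ G), (EtModW.epsPullMod Λ X).essImage F →
      (EtModW.epsPullMod Λ X).essImage G →
        (EtModW.epsPullMod Λ X).essImage (kernel φ) ∧ (EtModW.epsPullMod Λ X).essImage (cokernel φ)) ∧
    ∀ (T : ShortComplex (EtModW.ModP Λ X)), T.ShortExact →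
      (EtModW.epsPullMod Λ X).essImage T.X₁ → (EtModW.epsPullMod Λ X).essImage T.X₃ →
        (EtModW.epsPullMod Λ X).essImage T.X₂ :=
  by
  have := Groth.Agent.EtModW45.isWeakSerre_top (Λ := Λ) X
  have h := Groth.Agent.EtModW45.isWeakSerre_eps (fun _ : EtModW.Mod Λ X => True)
  refine ⟨fun F G φ ⟨A, a⟩ ⟨B, b⟩ => ⟨?_, ?_⟩, fun T hT ⟨A, a⟩ ⟨B, b⟩ => ?_⟩
  · obtain ⟨C, -, c⟩ := ObjectProperty.prop_kernel (fun F : EtModW.ModP Λ X => ∃ G : EtModW.Mod Λ X, True ∧ Nonempty ((EtModW.epsPullMod Λ X).obj G ≅ F)) φ ⟨A, trivial, a⟩ ⟨B, trivial, b⟩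
    exact ⟨C, c⟩
  · obtain ⟨C, -, c⟩ := ObjectProperty.prop_cokernel (fun F : EtModW.ModP Λ X => ∃ G : EtModW.Mod Λ X, True ∧ Nonempty ((EtModW.epsPullMod Λ X).obj G ≅ F)) φ ⟨A, trivial, a⟩ ⟨B, trivial, b⟩
    exact ⟨C, c⟩
  · obtain ⟨C, -, c⟩ := h.prop_X₂_of_shortExact hT ⟨A, trivial, a⟩ ⟨B, trivial, b⟩
    exact ⟨C, c⟩

end Groth.Agent.S7288
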