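import Groth.Statements.S7292
import Groth.Agent.HTop50.ValLimit
import Groth.Agent.HTop50.VSheaf
import Groth.Agent.S8976
import Groth.Agent.LimTop61.RelApprox

set_option autoImplicit false
open CategoryTheory CategoryTheory.Limits AlgebraicGeometry Opposite
universe w u
open HTop

namespace Groth.Agent.S7292

/-- Let f be a morphism of affine schemes from X to Y. The following are equivalent: (1) the one-member
family given by f is a standard V covering; (2) X (with f) is the limit, as a scheme over Y, of a
cofiltered system of affine schemes X_i over Y such that each one-member family X_i over Y is a ph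
covering; (3) the same with each X_i over Y an h covering. -/
theorem result {X Y : Scheme.{u}} [IsAffine X] [IsAffine Y] (f : X ⟶ Y) :
    List.TFAE
      [HTop.IsStandardV (PreZeroHypercover.singleton.{w} f),
       ∃ (I : Type u) (_ : SmallCategory I) (_ : IsCofiltered I) (D : I ⥤ Over Y) (c : Cone D)
          (_ : IsLimit ((Over.forget Y).mapCone c)) (_ : c.pt ≅ Over.mk f),
          (∀ i, IsAffine (D.obj i).left) ∧ ∀ i, HTop.IsPhCover (PreZeroHypercover.singleton.{w} (D.obj i).hom),
       ∃ (I : Type u) (_ : SmallCategory I) (_ : IsCofiltered I) (D : I ⥤ Over Y) (c : Cone D)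
          (_ : IsLimit ((Over.forget Y).mapCone c)) (_ : c.pt ≅ Over.mk f),
          (∀ i, IsAffine (D.obj i).left) ∧ ∀ i, HTop.IsHCover (PreZeroHypercover.singleton.{w} (D.obj i).hom)] := by
  tfae_have 1 → 3 := by
    intro h
    obtain ⟨I, _, _, D, c, hc, hD, ⟨e⟩⟩ :=
      (Groth.Agent.LimTop61.isAffineHom_iff_isLimit_affine_fp f).1 inferInstance
    have : IsConnected Iᵒᵖ := IsCofiltered.isConnected _
    have haff : ∀ i, IsAffine (D.obj i).left := fun i =>
      have := (hD i).1
      isAffine_of_isAffineHom (D.obj i).hom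
    refine ⟨Iᵒᵖ, inferInstance, inferInstance, D, c, isLimitOfPreserves _ hc, e, haff,
      fun i => ⟨fun _ => (hD i).2, Groth.Agent.HTop50.isVCover_of_isStandardV' ?_⟩⟩
    refine ⟨inferInstance, inferInstanceAs (Finite PUnit), fun _ => haff i,
      Groth.Agent.VCov93.hasValLift_of_refines (fun _ => ⟨PUnit.unit, (e.inv ≫ c.π.app i).left, ?_⟩) h.lift⟩
    exact Over.w (e.inv ≫ c.π.app i)
  tfae_have 3 → 2 := by
    rintro ⟨I, i1, i2, D, c, hc, e, haff, h⟩
    exact ⟨I, i1, i2, D, c, hc, e, haff, fun i => (Groth.Agent.S8976.result _ (h i).1).2 (h i).2⟩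
  tfae_have 2 → 1 := by
    rintro ⟨I, i1, i2, D, c, hc, e, haff, h⟩
    have key : ∀ i, HTop.HasValLift (PreZeroHypercover.singleton.{w} (D.obj i).hom) := fun i => by
      obtain ⟨F, hF, hFref⟩ := Groth.Agent.VCov93.exists_standard_refining
        (Groth.Agent.HTop50.isVCover_of_isPhCover (h i)) (𝟙 Y)
      refine Groth.Agent.VCov93.hasValLift_of_refines (fun k => ?_) hF.lift
      obtain ⟨j, a, ha⟩ := hFref k
      exact ⟨j, a, ha.trans (Category.comp_id _)⟩
    refine ⟨inferInstance, inferInstanceAs (Finite PUnit), fun _ => inferInstanceAs (IsAffine X),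
      Groth.Agent.VCov93.hasValLift_of_refines (fun _ => ⟨PUnit.unit, e.hom.left, ?_⟩)
        (Groth.Agent.HTop50.hasValLift_of_isLimit hc key)⟩
    exact Over.w e.hom
  tfae_finish

end Groth.Agent.S7292
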