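import Groth.Statements.S7304
import Groth.Agent.Div89.BlowUp
import Groth.Agent.Res23.BCCompl
import Groth.Agent.An92.FSch.Basic
import Groth.Agent.FBlow13.Exist
import Groth.Agent.S3873

set_option autoImplicit false
universe u
open CategoryTheory CategoryTheory.Limits AlgebraicGeometry
open Resolve

namespace Groth.Agent.S7304

theorem support_idealSpec' (B : Type u) [CommRing B] (K : Ideal B) :
    ((FSch.idealSpec B K).support : Set (Spec (CommRingCat.of B))) = PrimeSpectrum.zeroLocus (K : Set B) := by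
  have hr : Set.range (Spec.map (CommRingCat.ofHom (Ideal.Quotient.mk K))) =
      PrimeSpectrum.zeroLocus (K : Set B) := by
    show Set.range (PrimeSpectrum.comap (Ideal.Quotient.mk K)) = _
    rw [range_comap_of_surjective _ _ Ideal.Quotient.mk_surjective, Ideal.mk_ker]
  rw [FSch.idealSpec]
  refine ((Spec.map (CommRingCat.ofHom (Ideal.Quotient.mk K))).support_ker).trans ?_
  rw [hr]
  exact (PrimeSpectrum.isClosed_zeroLocus _).closure_eq

/-- An ideal of the completion containing a power of the maximal ideal comes from the ring. -/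
theorem exists_ideal_of_pow_le (A : Type u) [CommRing A] [IsLocalRing A] [IsNoetherianRing A]
    (K : Ideal (Curv2.cpl A)) (n : ℕ)
    (hn : (IsLocalRing.maximalIdeal (Curv2.cpl A)) ^ n ≤ K) :
    IsLocalRing.maximalIdeal A ^ n ≤ K.comap (algebraMap A (Curv2.cpl A)) ∧
      (K.comap (algebraMap A (Curv2.cpl A))).map (algebraMap A (Curv2.cpl A)) = K := by
  have fg : (IsLocalRing.maximalIdeal A).FG := (IsLocalRing.maximalIdeal A).fg_of_isNoetherianRing
  rw [AdicCompletion.maximalIdeal_eq_map_of_fg fg, ← Ideal.map_pow] at hn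
  refine ⟨Ideal.map_le_iff_le_comap.1 hn, le_antisymm Ideal.map_comap_le fun x hx => ?_⟩
  obtain ⟨a, ha⟩ := Ideal.Quotient.mk_surjective (x.1 n)
  have hmem : algebraMap A (Curv2.cpl A) a - x ∈
      (IsLocalRing.maximalIdeal A ^ n).map (algebraMap A (Curv2.cpl A)) := by
    rw [← Submodule.restrictScalars_mem A, ← Ideal.smul_top_eq_map]
    rw [AdicCompletion.algebraMap_apply, AdicCompletion.pow_smul_top_eq_ker_eval fg]
    simpa [AdicCompletion.eval, sub_eq_zero] using ha
  have haK : algebraMap A (Curv2.cpl A) a ∈ K := by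
    have h := K.add_mem hx (hn hmem)
    rwa [add_sub_cancel] at h
  have h := Ideal.sub_mem _ (Ideal.mem_map_of_mem (algebraMap A (Curv2.cpl A))
    (show a ∈ K.comap (algebraMap A (Curv2.cpl A)) from haK))
    (Ideal.map_mono (Ideal.map_le_iff_le_comap.1 hn) hmem)
  rwa [sub_sub_cancel] at h

/-- Let (A, m) be a Noetherian local ring with m-adic completion A^, and U ⊂ Spec A, U^ ⊂ Spec A^ the
punctured spectra. If c : Y → Spec A^ is a U^-admissible blowing up (a blowing up in a
quasi-coherent ideal of finite type whose support misses U^), then there is a U-admissible blowing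
up b : X → Spec A such that Y is isomorphic, over Spec A^, to the base change of X to Spec A^. -/
theorem result (A : Type u) [CommRing A] [IsLocalRing A] [IsNoetherianRing A]
    (Y : Scheme.{u}) (c : Y ⟶ Spec (CommRingCat.of (Curv2.cpl A)))
    (J : (Spec (CommRingCat.of (Curv2.cpl A))).IdealSheafData)
    (hJ : BlowUp.IsAdmissibleFor (FEt.puncturedSpec (Curv2.cpl A)) J) (hc : BlowUp.IsBlowUp c J) :
    ∃ (I : (Spec (CommRingCat.of A)).IdealSheafData) (X : Scheme.{u}) (b : X ⟶ Spec (CommRingCat.of A)),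
      BlowUp.IsAdmissibleFor (FEt.puncturedSpec A) I ∧ BlowUp.IsBlowUp b I ∧
      ∃ e : Y ≅ Curv2.bcCpl A b, e.hom ≫ Curv2.bcCplSnd A b = c := by
  let α := algebraMap A (Curv2.cpl A)
  haveI : IsNoetherianRing (Curv2.cpl A) :=
    CAlg1.isNoetherianRing_adicCompletion _ (IsNoetherian.noetherian _)
  haveI : IsNoetherianRing (CommRingCat.of A) := ‹IsNoetherianRing A›
  set K : Ideal (Curv2.cpl A) := An92.FSch.toIdeal J with hK
  have hJK : J = FSch.idealSpec (Curv2.cpl A) K :=
    An92.FSch.toIdeal_injective (by rw [An92.FSch.toIdeal_idealSpec])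
  have hz : PrimeSpectrum.zeroLocus (K : Set (Curv2.cpl A)) ⊆ {IsLocalRing.closedPoint (Curv2.cpl A)} := by
    rw [← support_idealSpec' _ K, ← hJK]
    intro x hx
    by_contra h
    exact Set.disjoint_left.1 hJ.2 hx h
  obtain ⟨n, hn⟩ : ∃ n, IsLocalRing.maximalIdeal (Curv2.cpl A) ^ n ≤ K := by
    refine Ideal.exists_pow_le_of_le_radical_of_fg ?_ (IsNoetherian.noetherian _)
    rw [Ideal.radical_eq_sInf]
    refine le_sInf fun p ⟨hp, hpp⟩ => ?_
    have h := hz (show (⟨p, hpp⟩ : PrimeSpectrum (Curv2.cpl A)) ∈ _ from hp)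
    exact (congrArg PrimeSpectrum.asIdeal (Set.mem_singleton_iff.1 h)).ge
  obtain ⟨hnA, hmap⟩ := exists_ideal_of_pow_le A K n hn
  let I₀ : Ideal A := K.comap α
  let I := FSch.idealSpec A I₀
  obtain ⟨X, b, hb⟩ := FBlow13.exists_isBlowUp_scheme (Spec (CommRingCat.of A)) I
  refine ⟨I, X, b, ⟨fun U => ?_, ?_⟩, hb, ?_⟩
  · haveI : IsNoetherianRing Γ(Spec (CommRingCat.of A), U.1) :=
      IsLocallyNoetherian.component_noetherian U
    exact IsNoetherian.noetherian _
  · refine Set.disjoint_left.2 fun x hx hxU => hxU ?_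
    rw [support_idealSpec' A I₀] at hx
    refine PrimeSpectrum.ext (le_antisymm (IsLocalRing.le_maximalIdeal x.2.ne_top) ?_)
    intro a ha
    exact x.2.mem_of_pow_mem n (hx (hnA (Ideal.pow_mem_pow ha n)))
  let g : Spec (CommRingCat.of (Curv2.cpl A)) ⟶ Spec (CommRingCat.of A) :=
    Spec.map (CommRingCat.ofHom α)
  haveI : Flat g := by
    rw [HasRingHomProperty.Spec_iff (P := @Flat)]
    exact RingHom.flat_algebraMap_iff.2 inferInstance
  have hP := Div89.isBlowUp_flat_baseChange g hb
  rw [show I.comap g = J by rw [hJK, Groth.Agent.S3873.result, hmap]] at hP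
  obtain ⟨l, hl, -⟩ := hP.2 Y c hc.1
  obtain ⟨l', hl', -⟩ := hc.2 _ (pullback.fst g b) hP.1
  obtain ⟨_, -, huY⟩ := hc.2 Y c hc.1
  obtain ⟨_, -, huP⟩ := hP.2 _ (pullback.fst g b) hP.1
  refine ⟨(⟨l, l', ?_, ?_⟩ : Y ≅ pullback g b) ≪≫ pullbackSymmetry g b, ?_⟩
  · exact (huY _ (show (l ≫ l') ≫ c = c by rw [Category.assoc, hl', hl])).trans
      (huY _ (Category.id_comp c)).symm
  · exact (huP _ (show (l' ≫ l) ≫ pullback.fst g b = pullback.fst g b by rw [Category.assoc, hl, hl'])).trans
      (huP _ (Category.id_comp _)).symm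
  · show (l ≫ (pullbackSymmetry g b).hom) ≫ pullback.snd b g = c
    rw [Category.assoc, pullbackSymmetry_hom_comp_snd, hl]

end Groth.Agent.S7304
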