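import Groth.Statements.S7307
import Groth.Agent.Res23.BlowPointFibre
import Groth.Agent.Curves2.ProjLine

set_option autoImplicit false
universe u
open CategoryTheory CategoryTheory.Limits AlgebraicGeometry
open Resolve

namespace Groth.Agent.S7307

/-- The projective line has two points. -/
theorem nontrivial_projLine (k : Type u) [Field k] : Nontrivial (CohB1.ProjSpace 1 k) := by
  let 𝒜 := CohB1.polyGrading 1 k
  have h0 : ∀ i : Fin 2, MvPolynomial.X i ∈ HomogeneousIdeal.irrelevant 𝒜 := fun i =>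
    HomogeneousIdeal.mem_irrelevant_of_mem 𝒜 zero_lt_one (MvPolynomial.isHomogeneous_X k i)
  let P : HomogeneousIdeal 𝒜 := ⟨Ideal.span {MvPolynomial.X 0}, Ideal.homogeneous_span 𝒜 _ fun x hx =>
    ⟨1, by rw [Set.mem_singleton_iff.1 hx]; exact MvPolynomial.isHomogeneous_X k 0⟩⟩
  have hP : P.toIdeal.IsPrime :=
    (Ideal.span_singleton_prime (MvPolynomial.X_ne_zero 0)).2 MvPolynomial.X_prime
  let p : ProjectiveSpectrum 𝒜 := ⟨P, hP, fun h => by
    have h1 : (MvPolynomial.X 1 : MvPolynomial (Fin 2) k) ∈ Ideal.span {MvPolynomial.X 0} := h (h0 1)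
    obtain ⟨q, hq⟩ := Ideal.mem_span_singleton'.1 h1
    have h2 := congrArg (MvPolynomial.eval fun i : Fin 2 => if i = 0 then (0 : k) else 1) hq
    simp at h2⟩
  let o : ProjectiveSpectrum 𝒜 := ⟨⊥, (Ideal.isPrime_bot : (⊥ : Ideal (MvPolynomial (Fin 2) k)).IsPrime), fun h => by
    have h1 : (MvPolynomial.X 0 : MvPolynomial (Fin 2) k) ∈ (⊥ : HomogeneousIdeal 𝒜).toIdeal := h (h0 0)
    rw [HomogeneousIdeal.toIdeal_bot] at h1
    exact MvPolynomial.X_ne_zero (R := k) (0 : Fin 2) ((Submodule.mem_bot _).mp h1)⟩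
  refine ⟨⟨p, o, fun h => ?_⟩⟩
  have h1 : (MvPolynomial.X 0 : MvPolynomial (Fin 2) k) ∈ p.asHomogeneousIdeal.toIdeal :=
    Ideal.subset_span rfl
  rw [show p = o from h] at h1
  have h2 : (MvPolynomial.X 0 : MvPolynomial (Fin 2) k) ∈ (⊥ : HomogeneousIdeal 𝒜).toIdeal := h1
  rw [HomogeneousIdeal.toIdeal_bot] at h2
  exact MvPolynomial.X_ne_zero (R := k) (0 : Fin 2) ((Submodule.mem_bot _).mp h2)

/-- Let X be a Noetherian scheme, ι : E → X a closed immersion which is an exceptional curve of the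
first kind, and b : X → X' a contraction of E. Then b has the following universal property: every
morphism φ : X → Y which maps E to a single point of Y factors uniquely as b followed by a morphism
X' → Y. -/
theorem result {E X X' : Scheme.{u}} [IsNoetherian X] (ι : E ⟶ X) [IsClosedImmersion ι]
    (hE : Models.IsExcCurve ι) (b : X ⟶ X') (hb : Models.IsContractionOf ι b)
    {Y : Scheme.{u}} (φ : X ⟶ Y) (y : Y) (hφ : Set.range ((ι ≫ φ).base : E → Y) = {y}) :
    ∃! ψ : X' ⟶ Y, b ≫ ψ = φ := by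
  obtain ⟨-, k, _, e, -⟩ := hE
  obtain ⟨hN, hp, y', hy', hrange, hreg, hdim, hbu⟩ := hb
  haveI := hN
  haveI := hp
  haveI := nontrivial_projLine k
  haveI := Curves2.ProjLine.irreducibleSpace k 1
  haveI : IrreducibleSpace E := by
    rw [irreducibleSpace_def, Set.top_eq_univ, show (Set.univ : Set E) = e.hom '' Set.univ by
      rw [Set.image_univ]; exact e.hom.homeomorph.surjective.range_eq.symm]
    exact (IrreducibleSpace.isIrreducible_univ _).image _ e.hom.continuous.continuousOn
  haveI : Nontrivial E := e.hom.homeomorph.injective.nontrivial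
  have hEy : ∀ w : E, b (ι w) = y' := fun w => hrange.le ⟨w, rfl⟩
  refine Res23.BlowPointFibre.existsUnique_factor hy' hreg hdim hbu φ y fun x hx => ?_
  have hmem : x ∈ Set.range ι := by
    refine Res23.BlowPointFibre.fibre_subset_of_nontrivial hy' hreg hdim hbu ?_ ι.isClosedEmbedding.isClosed_range
      ?_ ?_ x hx
    · rw [← Set.image_univ]
      exact (IrreducibleSpace.isIrreducible_univ E).image _ ι.continuous.continuousOn
    · rintro _ ⟨w, rfl⟩; exact hEy w
    · obtain ⟨w, w', hne⟩ := exists_pair_ne E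
      exact ⟨_, ⟨w, rfl⟩, _, ⟨w', rfl⟩, fun h => hne (ι.isClosedEmbedding.injective h)⟩
  obtain ⟨w, rfl⟩ := hmem
  exact hφ.le ⟨w, rfl⟩

end Groth.Agent.S7307
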