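import Groth.Statements.S7308
import Groth.Agent.S7307

set_option autoImplicit false
universe u
open CategoryTheory CategoryTheory.Limits AlgebraicGeometry
open Resolve

namespace Groth.Agent.S7308

/-- Let X be a Noetherian scheme and ι : E → X a closed immersion which is an exceptional curve of the
first kind. A contraction of E, if it exists, is unique up to unique isomorphism: for contractions
b₁ : X → X₁ and b₂ : X → X₂ of E there is a unique isomorphism e : X₁ ≅ X₂ with b₁ ≫ e = b₂. -/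
theorem result {E X X₁ X₂ : Scheme.{u}} [IsNoetherian X] (ι : E ⟶ X) [IsClosedImmersion ι]
    (hE : Models.IsExcCurve ι) (b₁ : X ⟶ X₁) (hb₁ : Models.IsContractionOf ι b₁) (b₂ : X ⟶ X₂) (hb₂ : Models.IsContractionOf ι b₂) :
    ∃! e : X₁ ≅ X₂, b₁ ≫ e.hom = b₂ := by
  obtain ⟨y₁, hy₁⟩ : ∃ y : X₁, Set.range ((ι ≫ b₁).base : E → X₁) = {y} := ⟨_, hb₁.2.2.choose_spec.2.1⟩
  obtain ⟨y₂, hy₂⟩ : ∃ y : X₂, Set.range ((ι ≫ b₂).base : E → X₂) = {y} := ⟨_, hb₂.2.2.choose_spec.2.1⟩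
  obtain ⟨ψ, hψ, hψu⟩ := S7307.result ι hE b₁ hb₁ b₂ y₂ hy₂
  obtain ⟨ψ', hψ', -⟩ := S7307.result ι hE b₂ hb₂ b₁ y₁ hy₁
  refine ⟨⟨ψ, ψ', ?_, ?_⟩, hψ, fun e he => Iso.ext (hψu e.hom he)⟩
  · exact (S7307.result ι hE b₁ hb₁ b₁ y₁ hy₁).unique (by rw [← Category.assoc, hψ, hψ']) (Category.comp_id b₁)
  · exact (S7307.result ι hE b₂ hb₂ b₂ y₂ hy₂).unique (by rw [← Category.assoc, hψ', hψ]) (Category.comp_id b₂)

end Groth.Agent.S7308
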