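import Groth.Statements.S7318
import Groth.Agent.NT93.Basic
-- import your own Groth.Agent.* helpers here

set_option autoImplicit false
open Finset
open Models Models.NumericalType

namespace Groth.Agent.S7318

/-- For a numerical type T on n indices with e pairs i < j such that a_ij > 0, the topological genus 1 -
n + e is ≥ 0. -/
theorem result {n : ℕ} (T : Models.NumericalType n) : 0 ≤ T.topGenus := by
  classical
  set E : Finset (Fin n) → Finset (Fin n × Fin n) := fun I =>
    univ.filter fun p => p.1 ∈ I ∧ p.2 ∈ I ∧ p.1 < p.2 ∧ 0 < T.a p.1 p.2 with hE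
  have key : ∀ k : ℕ, k + 1 ≤ n → ∃ I : Finset (Fin n), I.card = k + 1 ∧ k ≤ (E I).card := by
    intro k
    induction k with
    | zero => intro _; exact ⟨{⟨0, T.pos⟩}, by simp, Nat.zero_le _⟩
    | succ k ih =>
      intro hk
      obtain ⟨I, hc, hI⟩ := ih (by omega)
      obtain ⟨i, hi, j, hj, ha⟩ := NT93.exists_adj_of_ne_univ T I
        (card_pos.1 (by omega)) (by
          by_contra hcon
          push Not at hcon
          have := card_le_card (s := (univ : Finset (Fin n))) fun x _ => hcon x
          simp at this; omega)
      refine ⟨insert j I, by rw [card_insert_of_notMem hj, hc], ?_⟩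
      have hij : i ≠ j := fun e => hj (e ▸ hi)
      have hpos := NT93.pos_of_ne T hij ha
      have hsub : insert (if i < j then (i, j) else (j, i)) (E I) ⊆ E (insert j I) := by
        intro p hp
        simp only [hE, mem_insert, mem_filter, mem_univ, true_and] at hp ⊢
        rcases hp with rfl | ⟨h1, h2, h3, h4⟩
        · split_ifs with h
          · exact ⟨Or.inr hi, Or.inl rfl, h, hpos⟩
          · exact ⟨Or.inl rfl, Or.inr hi, lt_of_le_of_ne (not_lt.1 h) hij.symm,
              NT93.aSymm T i j ▸ hpos⟩
        · exact ⟨Or.inr h1, Or.inr h2, h3, h4⟩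
      have hnot : (if i < j then (i, j) else (j, i)) ∉ E I := by
        simp only [hE, mem_filter, mem_univ, true_and]
        split_ifs <;> simp [hj]
      have := card_le_card hsub
      rw [card_insert_of_notMem hnot] at this
      omega
  obtain ⟨I, -, hI⟩ := key (n - 1) (by have := T.pos; omega)
  have hle : (E I).card ≤ T.edgeCount := card_le_card fun p hp => by
    simp only [hE, mem_filter, mem_univ, true_and] at hp ⊢
    exact hp.2.2
  unfold Models.NumericalType.topGenus
  have := T.pos
  omega

end Groth.Agent.S7318
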