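import Groth.Statements.S7321
import Groth.Agent.S1600
import Groth.Agent.BM97.Norm
import Groth.Agent.VarNorm.Props
import Groth.Agent.VarNorm.Sections
import Groth.Agent.CAlg1.SerreNormal
import Mathlib

set_option autoImplicit false
universe u
open CategoryTheory CategoryTheory.Limits AlgebraicGeometry
open Resolve

namespace Groth.Agent.S7321

open CategoryTheory.Limits

theorem isFinite_normalization_of_alteration (Y : Scheme.{u}) [IsIntegral Y] [IsNoetherian Y]
    [QuasiCompact (Y.fromSpecStalk (genericPoint Y))] [QuasiSeparated (Y.fromSpecStalk (genericPoint Y))]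
    {X : Scheme.{u}} (g : X ⟶ Y) (hg : Curv2.IsAlteration g)
    (hreg : ∀ x : X, IsRegularLocalRing (X.presheaf.stalk x)) : IsFinite (Curv2.normalizationι Y) := by
  obtain ⟨hp, hX, -, hd, V, hV, hfin⟩ := hg
  haveI := hp
  haveI := hX
  haveI := hd
  refine Groth.Agent.VarNorm.isFinite_normalizationι Y fun U hU hne => ?_
  haveI : IsNoetherianRing Γ(Y, U) := IsLocallyNoetherian.component_noetherian ⟨U, hU⟩
  haveI : IsFractionRing Γ(Y, U) Y.functionField := functionField_isFractionRing_of_isAffineOpen Y U hU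
  obtain ⟨x, hx⟩ := g.denseRange.exists_mem_open U.isOpen (Set.nonempty_coe_sort.1 hne)
  haveI : Nonempty (g ⁻¹ᵁ U).toScheme := ⟨⟨x, hx⟩⟩
  haveI : IsIntegral (g ⁻¹ᵁ U).toScheme := isIntegral_of_isOpenImmersion (g ⁻¹ᵁ U).ι
  let f' := (g ∣_ U) ≫ hU.isoSpec.hom
  haveI : IsProper (g ∣_ U) := IsZariskiLocalAtTarget.restrict ‹IsProper g› U
  haveI : IsDominant (g ∣_ U) := IsZariskiLocalAtTarget.restrict ‹IsDominant g› U
  let V' := hU.fromSpec ⁻¹ᵁ V
  have sq₀ : IsPullback (g ⁻¹ᵁ U).ι f' g hU.fromSpec := by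
    refine IsPullback.of_iso (isPullback_morphismRestrict g U).flip (Iso.refl _) (Iso.refl _) hU.isoSpec (Iso.refl _) ?_ ?_ ?_ ?_
    · simp
    · simp [f']
    · simp
    · simp
  have sq₁ : IsPullback ((f' ⁻¹ᵁ V').ι ≫ (g ⁻¹ᵁ U).ι) (f' ∣_ V') g (V'.ι ≫ hU.fromSpec) :=
    (isPullback_morphismRestrict f' V').flip.paste_horiz sq₀
  have hsub : Set.range (V'.ι ≫ hU.fromSpec) ⊆ Set.range V.ι := by
    rw [Scheme.Opens.range_ι]
    rintro _ ⟨v, rfl⟩
    exact v.2
  let a := IsOpenImmersion.lift V.ι (V'.ι ≫ hU.fromSpec) hsub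
  have ha : a ≫ V.ι = V'.ι ≫ hU.fromSpec := IsOpenImmersion.lift_fac _ _ _
  let b := (isPullback_morphismRestrict g V).flip.lift ((f' ⁻¹ᵁ V').ι ≫ (g ⁻¹ᵁ U).ι) ((f' ∣_ V') ≫ a)
    (by rw [sq₁.w, Category.assoc, ha])
  have sq₂ : IsPullback b (f' ∣_ V') (g ∣_ V) a := by
    refine IsPullback.of_right ?_ ((isPullback_morphismRestrict g V).flip.lift_snd _ _ _) (isPullback_morphismRestrict g V).flip
    rw [(isPullback_morphismRestrict g V).flip.lift_fst, ha]
    exact sq₁
  haveI : IsFinite (f' ∣_ V') := MorphismProperty.of_isPullback sq₂ hfin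
  haveI : IsDomain Γ(Y, U) := inferInstance
  have halt : Curv2.IsAlteration f' := by
    refine ⟨inferInstance, inferInstance, inferInstance, inferInstance, V', ?_, inferInstance⟩
    obtain ⟨z, hzU, hzV⟩ := nonempty_preirreducible_inter U.isOpen V.isOpen (Set.nonempty_coe_sort.1 hne) hV
    refine ⟨hU.primeIdealOf ⟨z, hzU⟩, ?_⟩
    show hU.fromSpec (hU.primeIdealOf ⟨z, hzU⟩) ∈ V
    rw [hU.fromSpec_primeIdealOf]
    exact hzV
  have hreg' : ∀ x' : (g ⁻¹ᵁ U).toScheme, IsRegularLocalRing ((g ⁻¹ᵁ U).toScheme.presheaf.stalk x') := fun x' => by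
    haveI := hreg x'.1
    exact IsRegularLocalRing.of_ringEquiv ((g ⁻¹ᵁ U).stalkIso x').symm.commRingCatIsoToRingEquiv
  obtain ⟨hN1, -⟩ := Groth.Agent.S1600.result Γ(Y, U) (g ⁻¹ᵁ U).toScheme f' halt hreg'
  haveI : Module.Finite Γ(Y, U) (integralClosure Γ(Y, U) (FractionRing Γ(Y, U))) := hN1
  exact Module.Finite.equiv ((FractionRing.algEquiv Γ(Y, U) Y.functionField).mapIntegralClosure).toLinearEquiv


theorem regular_normalization (Y : Scheme.{u}) [IsIntegral Y] [IsLocallyNoetherian Y]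
    [QuasiCompact (Y.fromSpecStalk (genericPoint Y))] [QuasiSeparated (Y.fromSpecStalk (genericPoint Y))]
    (hdim : topologicalKrullDim Y ≤ 1) [IsLocallyNoetherian (Curv2.normalization Y)] (x' : Curv2.normalization Y) :
    IsRegularLocalRing ((Curv2.normalization Y).presheaf.stalk x') := by
  obtain ⟨U, hU, hne, P, ⟨e⟩⟩ := Groth.Agent.VarNorm.stalk_iso_chart Y x'
  haveI := Groth.Agent.VarNorm.isDedekindDomain_chart Y hdim hU
  haveI := (Groth.Agent.VarNorm.isNormalScheme Y x').1
  haveI := (Groth.Agent.VarNorm.isNormalScheme Y x').2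
  refine Groth.Agent.CAlg1.regular_of_isIntegrallyClosed_dim_le_one _ ?_
  rw [← ringKrullDim_eq_of_ringEquiv e, IsLocalization.AtPrime.ringKrullDim_eq_height P.asIdeal]
  refine (Ideal.height_le_ringKrullDim_of_ne_top P.isPrime.ne_top).trans ?_
  exact (Order.krullDimLE_iff _ _).1 (inferInstance : Ring.KrullDimLE 1 (integralClosure Γ(Y, U) Y.functionField))

theorem isDominant_of_isIso_restrict {X Y : Scheme.{u}} [IrreducibleSpace Y] (g : X ⟶ Y) (V : Y.Opens)
    (hV : (V : Set Y).Nonempty) (hVi : IsIso (g ∣_ V)) : IsDominant g := by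
  haveI := hVi
  refine ⟨dense_iff_inter_open.2 fun O hO hne => ?_⟩
  obtain ⟨v, hvV, hvO⟩ := nonempty_preirreducible_inter V.isOpen hO hV hne
  let vv : V.toScheme := ⟨v, hvV⟩
  refine ⟨v, hvO, ((inv (g ∣_ V)) vv).1, ?_⟩
  have h : V.ι ((g ∣_ V) ((inv (g ∣_ V)) vv)) = v := by
    rw [← Scheme.Hom.comp_apply (inv (g ∣_ V)), IsIso.inv_hom_id]
    rfl
  rw [← Scheme.Hom.comp_apply, morphismRestrict_ι] at h
  exact h

/-- Let Y be an integral Noetherian scheme of dimension one. Then (1) there is an alteration X → Y with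
X regular, if and only if (2) Y has a resolution of singularities, i.e. a proper morphism X → Y from
an integral regular scheme which is an isomorphism over a nonempty open of Y; and (2) holds if and
only if (4) the normalization morphism of Y is finite. (A further equivalent condition, a finite
sequence of blowings up in closed points ending in a regular scheme, is stated separately. The
quasi-compactness and quasi-separatedness binders on Spec K(Y) → Y always hold; they are needed only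
to form the normalization.) -/
theorem result (Y : Scheme.{u}) [IsIntegral Y] [IsNoetherian Y]
    (hdim : topologicalKrullDim Y = 1)
    [QuasiCompact (Y.fromSpecStalk (genericPoint Y))] [QuasiSeparated (Y.fromSpecStalk (genericPoint Y))] :
    ((∃ (X : Scheme.{u}) (g : X ⟶ Y), Curv2.IsAlteration g ∧ ∀ x : X, IsRegularLocalRing (X.presheaf.stalk x)) ↔
      (∃ (X : Scheme.{u}) (g : X ⟶ Y), IsProper g ∧ IsIntegral X ∧
        (∃ V : Y.Opens, (V : Set Y).Nonempty ∧ IsIso (g ∣_ V)) ∧ ∀ x : X, IsRegularLocalRing (X.presheaf.stalk x))) ∧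
    ((∃ (X : Scheme.{u}) (g : X ⟶ Y), IsProper g ∧ IsIntegral X ∧
        (∃ V : Y.Opens, (V : Set Y).Nonempty ∧ IsIso (g ∣_ V)) ∧ ∀ x : X, IsRegularLocalRing (X.presheaf.stalk x)) ↔
      IsFinite (Curv2.normalizationι Y)) := by
  refine ⟨⟨fun ⟨X, g, hg, hreg⟩ => ?_, fun ⟨X, g, hp, hX, ⟨V, hV, hVi⟩, hreg⟩ => ⟨X, g, ⟨hp, hX, ‹IsIntegral Y›, ?_, V, hV, ?_⟩, hreg⟩⟩, ?_⟩
  rotate_right
  · constructor
    · rintro ⟨X, g, hp, hX, ⟨V, hV, hVi⟩, hreg⟩
      refine isFinite_normalization_of_alteration Y g ⟨hp, hX, ‹IsIntegral Y›, ?_, V, hV, haveI := hVi; inferInstance⟩ hreg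
      exact isDominant_of_isIso_restrict g V hV hVi
    · intro hfin
      haveI := hfin
      obtain ⟨V, hV, hVi⟩ := Groth.Agent.BM97.exists_open_iso_normalization Y
      haveI : IsLocallyNoetherian (Curv2.normalization Y) := Groth.Agent.VarNorm.isLocallyNoetherian Y hdim.le
      refine ⟨Curv2.normalization Y, Curv2.normalizationι Y, inferInstance,
        inferInstanceAs (IsIntegral (Y.fromSpecStalk (genericPoint Y)).normalization), ⟨V, hV, hVi⟩, fun x' => ?_⟩
      exact regular_normalization Y hdim.le x'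
  · haveI := isFinite_normalization_of_alteration Y g hg hreg
    obtain ⟨V, hV, hVi⟩ := Groth.Agent.BM97.exists_open_iso_normalization Y
    haveI : IsLocallyNoetherian (Curv2.normalization Y) := Groth.Agent.VarNorm.isLocallyNoetherian Y hdim.le
    refine ⟨Curv2.normalization Y, Curv2.normalizationι Y, inferInstance,
      inferInstanceAs (IsIntegral (Y.fromSpecStalk (genericPoint Y)).normalization), ⟨V, hV, hVi⟩, fun x' => ?_⟩
    exact regular_normalization Y hdim.le x'
  · exact isDominant_of_isIso_restrict g V hV hVi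
  · haveI := hVi; infer_instance

end Groth.Agent.S7321
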