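import Groth.Prelude.Def_ModelsG
import Groth.Agent.ModPic.ClFacts

set_option autoImplicit false
universe u
open CategoryTheory CategoryTheory.Limits AlgebraicGeometry
open Models

namespace Groth.Agent.S7326

/-- Let R be a discrete valuation ring with fraction field K, C a smooth proper curve over K with H^0(C,
O_C) = K, X a regular proper model of C, Γ_1, …, Γ_n the irreducible components of the closed fibre
with multiplicities m_i, d = gcd(m_i), and D = Σ (m_i/d) Γ_i the effective Cartier divisor with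
ideal sheaf I_D = Π I(Γ_i)^{m_i/d}. Then O_X(D) (any L with L ⊗ I_D ≅ O_X) has order dividing d in
Pic(X), i.e. L^{⊗ d} ≅ O_X, and the conormal sheaf I_D|_D, an invertible O_D-module, has order
dividing d in Pic(D). -/
theorem result (R : Type u) [CommRing R] [IsDomain R] [IsDiscreteValuationRing R]
    (C X : Scheme.{u}) (f : C ⟶ Spec (CommRingCat.of (FractionRing R))) (p : X ⟶ Spec (CommRingCat.of R))
    (hC : Curve.IsSmoothProperCurve (FractionRing R) C f) (hH0 : IsIso f.appTop)
    (hX : Models.IsRegularProperModel R X p C f)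
    {n : ℕ} (Γ : Fin n → ArSurf.VertComp R (Over.mk p)) (hΓ : Models.IsComponentList R (Over.mk p) Γ)
    (L : X.Modules)
    (hL : ClSub.IsInverseOf L (ClSub.idealMod (∏ i, (Γ i).ι.ker ^ (Models.mult R (Over.mk p) (Γ i) / Models.multGcd R (Over.mk p) Γ)))) :
    Nonempty (CohB1.tensorPow L (Models.multGcd R (Over.mk p) Γ) ≅ Coh.structureModule X) ∧
      Nonempty (CohB1.tensorPow ((Scheme.Modules.pullback
          (∏ i, (Γ i).ι.ker ^ (Models.mult R (Over.mk p) (Γ i) / Models.multGcd R (Over.mk p) Γ)).subschemeι).obj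
          (ClSub.idealMod (∏ i, (Γ i).ι.ker ^ (Models.mult R (Over.mk p) (Γ i) / Models.multGcd R (Over.mk p) Γ))))
          (Models.multGcd R (Over.mk p) Γ) ≅
        Coh.structureModule (∏ i, (Γ i).ι.ker ^ (Models.mult R (Over.mk p) (Γ i) / Models.multGcd R (Over.mk p) Γ)).subscheme) := by
  obtain ⟨⟨hflat, hft, hqc, -⟩, -, hreg⟩ := hX
  let J := ∏ i, Groth.Agent.ModPic.cI (Γ i) ^ (Models.mult R (Over.mk p) (Γ i) / Models.multGcd R (Over.mk p) Γ)
  let d := Models.multGcd R (Over.mk p) Γ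
  have hJ : BlowUp.IsEffCartierIdeal J := Groth.Agent.Div89.DivProd.isEffCartier_prod _ _ fun i _ =>
    Groth.Agent.ModPic.isEffCartier_pow (Groth.Agent.ModPic.isEffCartier_cI hΓ hreg i) _
  open scoped Groth.Agent.FGA29 in
  have hJd : PicF.cl (ClSub.idealMod J) ^ d = 1 := by
    rw [Groth.Agent.ModPic.cl_idealMod_prod_pow _ (Groth.Agent.ModPic.isEffCartier_cI hΓ hreg), ← Finset.prod_pow]
    refine Eq.trans (Finset.prod_congr rfl fun i _ => ?_) (Groth.Agent.ModPic.cl_fibre_eq_one hreg hΓ)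
    rw [← pow_mul, show Models.mult R (Over.mk p) (Γ i) / Models.multGcd R (Over.mk p) Γ * d = Models.mult R (Over.mk p) (Γ i) from Nat.div_mul_cancel (Finset.gcd_dvd (Finset.mem_univ i))]
  open scoped Groth.Agent.FGA29 in
  refine ⟨Groth.Agent.FGA29.nonempty_iso_of_cl ?_, Groth.Agent.FGA29.nonempty_iso_of_cl ?_⟩
  · rw [Groth.Agent.FGA29.cl_tensorPow, Groth.Agent.FGA29.cl_one]
    calc PicF.cl L ^ d = PicF.cl L ^ d * PicF.cl (ClSub.idealMod J) ^ d := by rw [hJd, mul_one]
      _ = 1 := by rw [← mul_pow, Groth.Agent.ModPic.cl_mul_eq_one_of_isInverseOf hL, one_pow]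
  · have hJi : PicF.IsInvertible (ClSub.idealMod J) := (Groth.Agent.Curves2.isInvertible_idealMod_iff J).2 hJ
    rw [Groth.Agent.FGA29.cl_tensorPow, Groth.Agent.FGA29.cl_one,
      ← Groth.Agent.ModPic.cl_pullback_pow _ hJi]
    refine (Groth.Agent.ModPic.cl_pullback_congr _ ?_).trans (Groth.Agent.ModPic.cl_pullback_one _)
    rw [Groth.Agent.FGA29.cl_tensorPow, Groth.Agent.FGA29.cl_one]
    exact hJd

end Groth.Agent.S7326
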