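import Groth.Statements.S7327
import Groth.Agent.Res23.UnramNorm
import Groth.Agent.VarNorm.Sections
import Mathlib

set_option autoImplicit false
universe u
open CategoryTheory CategoryTheory.Limits AlgebraicGeometry
open Resolve

namespace Groth.Agent.S7327

open scoped TensorProduct
theorem isReduced_localization_of_openImm {R : Type u} [CommRing R] {Y : Scheme.{u}}
    (j : Spec (CommRingCat.of R) ⟶ Y) [IsOpenImmersion j] (pp : PrimeSpectrum R)
    [_root_.IsReduced (Y.presheaf.stalk (j pp))] : _root_.IsReduced (Localization.AtPrime pp.asIdeal) := by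
  let pt : Spec (CommRingCat.of R) := pp
  haveI : IsIso (j.stalkMap pt) := inferInstance
  let e : Localization.AtPrime pp.asIdeal ≃+* Y.presheaf.stalk (j pt) :=
    (IsLocalization.algEquiv pp.asIdeal.primeCompl (Localization.AtPrime pp.asIdeal)
      ((Spec.structureSheaf R).presheaf.stalk pp)).toRingEquiv.trans
      (asIso (j.stalkMap pt)).symm.commRingCatIsoToRingEquiv
  exact isReduced_of_injective e.toRingHom e.injective

open CategoryTheory.Limits in
/-- The generic fibre over the completion is reduced. -/
theorem isReduced_generic (A : Type u) [CommRing A] [IsLocalRing A] [IsNoetherianRing A]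
    {X : Scheme.{u}} (f : X ⟶ Spec (CommRingCat.of A))
    (hY : ∀ y : ↥(Curv2.bcCpl A f), (Curv2.bcCplSnd A f).base y ≠ IsLocalRing.closedPoint (Curv2.cpl A) →
      IsDomain ((Curv2.bcCpl A f).presheaf.stalk y))
    (B L : Type u) [CommRing B] [IsDomain B] [Field L] [Algebra A B] [Algebra A L] [Algebra B L] [IsScalarTower A B L]
    [IsFractionRing B L] (i : Spec (CommRingCat.of B) ⟶ X) [IsOpenImmersion i]
    (hi : i ≫ f = Spec.map (CommRingCat.ofHom (algebraMap A B))) :
    _root_.IsReduced (Curv2.cpl A ⊗[A] L) := by
  let F := Curv2.cpl A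
  by_cases hm : ∀ a ∈ IsLocalRing.maximalIdeal A, algebraMap A L a = 0
  · -- over the closed point
    have hsurj : Function.Surjective (Algebra.TensorProduct.includeRight (R := A) (A := F) (B := L)) := by
      intro x
      induction x using TensorProduct.induction_on with
      | zero => exact ⟨0, map_zero _⟩
      | add x y hx hy =>
        obtain ⟨a, ha⟩ := hx; obtain ⟨b, hb⟩ := hy
        exact ⟨a + b, by rw [map_add, ha, hb]⟩
      | tmul t l =>
        obtain ⟨a, ha⟩ := Ideal.Quotient.mk_surjective (AdicCompletion.evalₐ (IsLocalRing.maximalIdeal A) 1 t)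
        have h0 : AdicCompletion.evalₐ (IsLocalRing.maximalIdeal A) 1 (t - algebraMap A F a) = 0 := by
          rw [map_sub, AlgHom.commutes, ← ha, Ideal.Quotient.algebraMap_eq, sub_self]
        have h1 : AdicCompletion.eval (IsLocalRing.maximalIdeal A) A 1 (t - algebraMap A F a) = 0 := by
          rw [← AdicCompletion.factor_evalₐ_eq_eval (IsLocalRing.maximalIdeal A) _ (by rw [smul_eq_mul, Ideal.mul_top]), h0, map_zero]
        rw [← LinearMap.mem_ker, ← AdicCompletion.pow_smul_top_eq_ker_eval (IsNoetherian.noetherian _), pow_one] at h1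
        have h2 : ∀ z ∈ (IsLocalRing.maximalIdeal A • ⊤ : Submodule A F), z ⊗ₜ[A] l = 0 := fun z hz => by
          refine Submodule.smul_induction_on hz (fun r hr n _ => ?_) fun x y hx hy => by rw [TensorProduct.add_tmul, hx, hy, add_zero]
          rw [TensorProduct.smul_tmul, Algebra.smul_def, hm r hr, zero_mul, TensorProduct.tmul_zero]
        refine ⟨algebraMap A L a * l, ?_⟩
        have h3 := h2 _ h1
        rw [TensorProduct.sub_tmul, sub_eq_zero] at h3
        rw [Algebra.TensorProduct.includeRight_apply, h3, ← Algebra.smul_def, ← TensorProduct.smul_tmul, ← Algebra.algebraMap_eq_smul_one]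
    rcases subsingleton_or_nontrivial (F ⊗[A] L) with h | h
    · exact ⟨fun x _ => Subsingleton.elim x 0⟩
    · exact isReduced_of_injective (RingEquiv.ofBijective
        (Algebra.TensorProduct.includeRight (R := A) (A := F) (B := L))
        ⟨(Algebra.TensorProduct.includeRight (R := A) (A := F) (B := L)).toRingHom.injective, hsurj⟩).symm.toRingHom
        (RingEquiv.injective _)
  · push Not at hm
    obtain ⟨a, ha, haL⟩ := hm
    let T := F ⊗[A] B
    let W := F ⊗[A] L
    letI : Algebra (F ⊗[A] B) (F ⊗[A] L) := (Algebra.TensorProduct.map (AlgHom.id F F) (IsScalarTower.toAlgHom A B L)).toRingHom.toAlgebra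
    let M := (nonZeroDivisors B).map (Algebra.TensorProduct.includeRight (R := A) (A := F))
    haveI : IsLocalization M (F ⊗[A] L) := Groth.Agent.Res23.UnramNorm.isLocalization_tensor A F B L (nonZeroDivisors B)
    refine isReduced_ofLocalizationMaximal (F ⊗[A] L) fun Q _ => ?_
    let q : Ideal (F ⊗[A] B) := Q.comap (algebraMap (F ⊗[A] B) (F ⊗[A] L))
    haveI : q.IsPrime := Ideal.comap_isPrime _ _
    haveI : IsLocalization.AtPrime (Localization.AtPrime Q) q :=
      IsLocalization.isLocalization_isLocalization_atPrime_isLocalization M (Localization.AtPrime Q) Q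
    let e₁ := (IsLocalization.algEquiv q.primeCompl (Localization.AtPrime Q) (Localization.AtPrime q)).toRingEquiv
    let sw : B ⊗[A] F ≃+* F ⊗[A] B := (Algebra.TensorProduct.comm A B F).toRingEquiv
    let j₀ : Spec (CommRingCat.of (B ⊗[A] F)) ⟶ Curv2.bcCpl A f :=
      (pullbackSpecIso A B F).inv ≫ pullback.map _ _ _ _ i (𝟙 _) (𝟙 _) (by rw [hi, Category.comp_id]) (by rw [Category.comp_id, Category.id_comp])
    let j : Spec (CommRingCat.of (F ⊗[A] B)) ⟶ Curv2.bcCpl A f := Spec.map sw.toCommRingCatIso.hom ≫ j₀
    haveI : IsOpenImmersion j₀ := inferInstance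
    haveI : IsOpenImmersion j := inferInstance
    let pt : Spec (CommRingCat.of (F ⊗[A] B)) := (⟨q, inferInstance⟩ : PrimeSpectrum (F ⊗[A] B))
    have hsnd : j ≫ Curv2.bcCplSnd A f = Spec.map (CommRingCat.ofHom (algebraMap F (F ⊗[A] B))) := by
      simp only [j, j₀, Curv2.bcCplSnd, Category.assoc, pullback.lift_snd, Category.comp_id]
      rw [pullbackSpecIso_inv_snd, ← Spec.map_comp]
      congr 1
    have hne : (Curv2.bcCplSnd A f).base (j pt) ≠ IsLocalRing.closedPoint F := by
      intro h
      have h' : Spec.map (CommRingCat.ofHom (algebraMap F (F ⊗[A] B))) pt = IsLocalRing.closedPoint F := by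
        rw [← hsnd]; exact h
      have hF : algebraMap A F a ∈ IsLocalRing.maximalIdeal F := by
        rw [AdicCompletion.maximalIdeal_eq_map]
        exact Ideal.mem_map_of_mem _ ha
      have h1 : algebraMap F (F ⊗[A] B) (algebraMap A F a) ∈ q := by
        have : algebraMap A F a ∈ (Spec.map (CommRingCat.ofHom (algebraMap F (F ⊗[A] B))) pt).asIdeal := by
          rw [h']; exact hF
        exact this
      have hu : IsUnit (algebraMap (F ⊗[A] B) (F ⊗[A] L) (algebraMap F (F ⊗[A] B) (algebraMap A F a))) := by
        have : algebraMap (F ⊗[A] B) (F ⊗[A] L) (algebraMap F (F ⊗[A] B) (algebraMap A F a)) =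
            Algebra.TensorProduct.includeRight (R := A) (A := F) (B := L) (algebraMap A L a) := by
          rw [AlgHom.commutes, RingHom.algebraMap_toAlgebra]
          exact (Algebra.TensorProduct.map (AlgHom.id F F) (IsScalarTower.toAlgHom A B L)).commutes (algebraMap A F a) |>.trans (IsScalarTower.algebraMap_apply A F (F ⊗[A] L) a).symm
        rw [this]
        exact (isUnit_iff_ne_zero.2 haL).map _
      exact ‹Q.IsMaximal›.ne_top (Ideal.eq_top_of_isUnit_mem Q h1 hu)
    haveI := hY (j pt) hne
    haveI : IsIso (j.stalkMap pt) := inferInstance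
    haveI : _root_.IsReduced (Localization.AtPrime q) :=
      isReduced_localization_of_openImm j (⟨q, inferInstance⟩ : PrimeSpectrum (F ⊗[A] B))
    exact isReduced_of_injective e₁.toRingHom (RingEquiv.injective _)


/-- Let (A, m) be a Noetherian local ring with completion A^, f : X → Spec A a morphism locally of
finite type with X integral, and Y = X ×_{Spec A} Spec(A^). If the complement of the closed fibre in
Y is normal (the local rings of Y at points not over the closed point of Spec(A^) are integrally
closed domains), then the normalization morphism of X is finite. (The published statement also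
identifies the base change of the normalization of X to A^ with the normalization of Y; this row
does not restate that part. The quasi-compactness and quasi-separatedness binders on Spec K(X) → X
always hold.) -/
theorem result (A : Type u) [CommRing A] [IsLocalRing A] [IsNoetherianRing A]
    (X : Scheme.{u}) [IsIntegral X] (f : X ⟶ Spec (CommRingCat.of A)) [LocallyOfFiniteType f]
    [QuasiCompact (X.fromSpecStalk (genericPoint X))] [QuasiSeparated (X.fromSpecStalk (genericPoint X))]
    (hY : ∀ y : ↥(Curv2.bcCpl A f), (Curv2.bcCplSnd A f).base y ≠ IsLocalRing.closedPoint (Curv2.cpl A) →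
      IsDomain ((Curv2.bcCpl A f).presheaf.stalk y) ∧ IsIntegrallyClosed ((Curv2.bcCpl A f).presheaf.stalk y)) :
    IsFinite (Curv2.normalizationι X) := by
  haveI : IsNoetherianRing (CommRingCat.of A) := ‹IsNoetherianRing A›
  let φ : ∀ V : X.Opens, A →+* Γ(X, V) := fun V =>
    ((Scheme.ΓSpecIso (CommRingCat.of A)).inv ≫ f.appLE ⊤ V le_top).hom
  have hη : genericPoint X ∈ (⊤ : X.Opens) := trivial
  letI : Algebra A X.functionField := ((X.presheaf.germ ⊤ (genericPoint X) hη).hom.comp (φ ⊤)).toAlgebra
  have hgerm : ∀ (V : X.Opens) (hV : genericPoint X ∈ V) (a : A),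
      X.presheaf.germ V (genericPoint X) hV (φ V a) = algebraMap A X.functionField a := fun V hV a => by
    show _ = X.presheaf.germ ⊤ (genericPoint X) hη (f.appLE ⊤ ⊤ le_top ((Scheme.ΓSpecIso (CommRingCat.of A)).inv a))
    show X.presheaf.germ V (genericPoint X) hV (f.appLE ⊤ V le_top ((Scheme.ΓSpecIso (CommRingCat.of A)).inv a)) = _
    rw [← Scheme.Hom.appLE_map f (U := ⊤) (V := ⊤) (V' := V) le_top (homOfLE le_top).op, CommRingCat.comp_apply, TopCat.Presheaf.germ_res_apply]
  obtain ⟨W, hW, hηW, -⟩ := exists_isAffineOpen_mem_and_subset (x := genericPoint X) (U := ⊤) trivial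
  haveI : Nonempty W := ⟨⟨_, hηW⟩⟩
  letI : Algebra A Γ(X, W) := (φ W).toAlgebra
  haveI : IsFractionRing Γ(X, W) X.functionField := functionField_isFractionRing_of_isAffineOpen X W hW
  haveI : IsScalarTower A Γ(X, W) X.functionField := .of_algebraMap_eq fun a => (hgerm W _ a).symm
  have hi : hW.fromSpec ≫ f = Spec.map (CommRingCat.ofHom (algebraMap A Γ(X, W))) := by
    rw [← IsAffineOpen.SpecMap_appLE_fromSpec f (isAffineOpen_top (Spec (CommRingCat.of A))) hW le_top, IsAffineOpen.fromSpec_top, Scheme.isoSpec_Spec_inv,
      ← Spec.map_comp]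
    rfl
  haveI : IsOpenImmersion hW.fromSpec := hW.isOpenImmersion_fromSpec
  have hred := isReduced_generic A f (fun y hy => (hY y hy).1) Γ(X, W) X.functionField hW.fromSpec hi
  refine Groth.Agent.VarNorm.isFinite_normalizationι X fun V hV hne => ?_
  letI : Algebra A Γ(X, V) := (φ V).toAlgebra
  haveI : Algebra.FiniteType A Γ(X, V) := by
    refine RingHom.finiteType_algebraMap.1 ?_
    show ((Scheme.ΓSpecIso (CommRingCat.of A)).inv ≫ f.appLE ⊤ V le_top).hom.FiniteType
    rw [CommRingCat.hom_comp]
    exact RingHom.finiteType_respectsIso.2 _ (Scheme.ΓSpecIso (CommRingCat.of A)).commRingCatIsoToRingEquiv.symm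
      (f.finiteType_appLE (isAffineOpen_top _) hV le_top)
  haveI : IsFractionRing Γ(X, V) X.functionField := functionField_isFractionRing_of_isAffineOpen X V hV
  haveI : IsScalarTower A Γ(X, V) X.functionField := .of_algebraMap_eq fun a => (hgerm V _ a).symm
  exact Groth.Agent.Res23.UnramNorm.finite_integralClosure A Γ(X, V) X.functionField hred

end Groth.Agent.S7327
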