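import Groth.Statements.S7340
import Mathlib.Algebra.CharP.Algebra
import Mathlib.Data.Nat.Choose.Dvd

set_option autoImplicit false
universe u
open Polynomial
open Resolve

namespace Groth.Agent.S7340

section
variable {p : ℕ} [Fact p.Prime] {R : Type u} [CommRing R] [CharP R p] {b : R}

theorem root_pow (b : R) :
    AdjoinRoot.root (X ^ p - C b : R[X]) ^ p = algebraMap R (AdjoinRoot (X ^ p - C b : R[X])) b := by
  have h := AdjoinRoot.eval₂_root (X ^ p - C b : R[X])
  rw [eval₂_sub, eval₂_X_pow, eval₂_C, sub_eq_zero] at h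
  exact h

theorem of_injective (b : R) : Function.Injective (algebraMap R (AdjoinRoot (X ^ p - C b : R[X]))) := by
  have hp := (Fact.out : p.Prime)
  rw [injective_iff_map_eq_zero]
  intro r hr
  by_contra hne
  have hd : (X ^ p - C b : R[X]) ∣ C r := AdjoinRoot.mk_eq_zero.1 hr
  rcases subsingleton_or_nontrivial R with h | h
  · exact hne (Subsingleton.elim _ _)
  · refine (monic_X_pow_sub_C b hp.ne_zero).not_dvd_of_natDegree_lt (C_ne_zero.2 hne) ?_ hd
    rw [natDegree_C, natDegree_X_pow_sub_C]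
    exact hp.pos

theorem root_pow_decomp (b : R) (n : ℕ) :
    AdjoinRoot.root (X ^ p - C b : R[X]) ^ n = (b ^ (n / p)) • AdjoinRoot.root (X ^ p - C b : R[X]) ^ (n % p) := by
  rw [Algebra.smul_def, map_pow, ← root_pow, ← pow_mul, ← pow_add, Nat.div_add_mod]

variable (T : Ω[AdjoinRoot (X ^ p - C b : R[X])⁄R] →ₗ[R] Ω[R⁄ℤ])
  (hT : ∀ i : ℕ, i + 2 ≤ p →
    T (AdjoinRoot.root (X ^ p - C b) ^ i • KaehlerDifferential.D R _ (AdjoinRoot.root (X ^ p - C b))) = 0)
  (hT' : T (AdjoinRoot.root (X ^ p - C b) ^ (p - 1) • KaehlerDifferential.D R _ (AdjoinRoot.root (X ^ p - C b))) =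
    KaehlerDifferential.D ℤ R b)

local notation "y" => AdjoinRoot.root (X ^ p - C b : R[X])

include hT hT' in
theorem T_root_pow (n : ℕ) : T (y ^ n • KaehlerDifferential.D R _ y) =
    if n % p = p - 1 then b ^ (n / p) • KaehlerDifferential.D ℤ R b else 0 := by
  rw [root_pow_decomp b n, smul_assoc, map_smul]
  have hlt := Nat.mod_lt n (Fact.out : p.Prime).pos
  split_ifs with h
  · rw [h, hT']
  · rw [hT _ (by omega), smul_zero]

include hT hT' in
theorem T_exact (g : AdjoinRoot (X ^ p - C b : R[X])) : T (KaehlerDifferential.D R _ g) = 0 := by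
  have hp := (Fact.out : p.Prime)
  obtain ⟨P, rfl⟩ := AdjoinRoot.mk_surjective g
  induction P using Polynomial.induction_on' with
  | add P Q hP hQ => rw [map_add, map_add, map_add, hP, hQ, add_zero]
  | monomial n c =>
    rw [show AdjoinRoot.mk (X ^ p - C b : R[X]) (monomial n c) = c • y ^ n by
      rw [← C_mul_X_pow_eq_monomial, map_mul, map_pow, AdjoinRoot.mk_X, AdjoinRoot.mk_C, Algebra.smul_def]; rfl,
      Derivation.map_smul, map_smul, Derivation.leibniz_pow, map_nsmul, T_root_pow T hT hT']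
    split_ifs with h
    · have hn : p ∣ n := by
        rcases Nat.eq_zero_or_pos n with h0 | h0
        · exact h0 ▸ dvd_zero p
        · have h1 := Nat.div_add_mod (n - 1) p
          rw [h] at h1
          exact ⟨(n - 1) / p + 1, by rw [mul_add, mul_one]; have := hp.pos; omega⟩
      rw [← Nat.cast_smul_eq_nsmul R, (CharP.cast_eq_zero_iff R p n).2 hn, zero_smul, smul_zero]
    · rw [smul_zero, smul_zero]

theorem exists_inv {m : ℕ} (h : ¬ p ∣ m) : ∃ k : R, k * (m : R) = 1 := by
  have hu : IsUnit (m : ZMod p) :=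
    (ZMod.unitOfCoprime m ((Nat.Prime.coprime_iff_not_dvd Fact.out).2 h).symm).isUnit
  have h2 := hu.map (ZMod.castHom dvd_rfl R)
  rw [map_natCast] at h2
  exact ⟨_, h2.val_inv_mul⟩

include hT hT' in
theorem T_low (f : AdjoinRoot (X ^ p - C b : R[X])) {i : ℕ} (hi : i + 2 ≤ p) :
    T (f ^ i • KaehlerDifferential.D R _ f) = 0 := by
  obtain ⟨k, hk⟩ := exists_inv (p := p) (R := R) (m := i + 1) fun h => by
    have := Nat.le_of_dvd (by omega) h; omega
  have h1 : f ^ i • KaehlerDifferential.D R _ f = KaehlerDifferential.D R _ (k • f ^ (i + 1)) := by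
    rw [Derivation.map_smul, Derivation.leibniz_pow, Nat.add_sub_cancel, ← Nat.cast_smul_eq_nsmul R,
      smul_smul, hk, one_smul]
  rw [h1, T_exact T hT hT']

include hT hT' in
theorem T_add (f g : AdjoinRoot (X ^ p - C b : R[X])) :
    T ((f + g) ^ (p - 1) • KaehlerDifferential.D R _ (f + g)) =
      T (f ^ (p - 1) • KaehlerDifferential.D R _ f) + T (g ^ (p - 1) • KaehlerDifferential.D R _ g) := by
  classical
  have hp := (Fact.out : p.Prime)
  obtain ⟨q, rfl⟩ : ∃ q, p = q + 1 := ⟨p - 1, by have := hp.pos; omega⟩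
  set D := KaehlerDifferential.D R (AdjoinRoot (X ^ (q + 1) - C b : R[X]))
  let e : ℕ → Ω[AdjoinRoot (X ^ (q + 1) - C b : R[X])⁄R] := fun k =>
    q.choose k • ((f ^ k * g ^ (q - k)) • (D f + D g))
  have hsum : (f + g) ^ q • D (f + g) = ∑ k ∈ Finset.range (q + 1), e k := by
    rw [map_add, add_pow, Finset.sum_smul]
    refine Finset.sum_congr rfl fun k _ => ?_
    rw [mul_comm, mul_smul, Nat.cast_smul_eq_nsmul]
  have hex : T ((f + g) ^ q • D (f + g) - f ^ q • D f - g ^ q • D g) = 0 := by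
    have key : (f + g) ^ q • D (f + g) - f ^ q • D f - g ^ q • D g =
        D (∑ k ∈ Finset.range q, ((q + 1).choose (k + 1) / (q + 1)) • (f ^ (k + 1) * g ^ (q - k))) := by
      rw [map_sum, hsum]
      have hk : ∀ k ∈ Finset.range q,
          D (((q + 1).choose (k + 1) / (q + 1)) • (f ^ (k + 1) * g ^ (q - k))) =
            q.choose k • ((f ^ k * g ^ (q - k)) • D f) +
            q.choose (k + 1) • ((f ^ (k + 1) * g ^ (q - (k + 1))) • D g) := by
        intro k hk
        rw [Finset.mem_range] at hk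
        have hd : q + 1 ∣ (q + 1).choose (k + 1) := Nat.Prime.dvd_choose_self hp (by omega) (by omega)
        obtain ⟨m, hm⟩ := hd
        rw [hm, Nat.mul_div_cancel_left _ (by omega : 0 < q + 1)]
        have h1 : m * (k + 1) = q.choose k := by
          have h := Nat.add_one_mul_choose_eq q k
          rw [hm] at h
          exact Nat.eq_of_mul_eq_mul_left (show 0 < q + 1 by omega) (by rw [← mul_assoc]; exact h.symm)
        have h2 : m * (q - k) = q.choose (k + 1) := by
          have h := Nat.choose_succ_right_eq q k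
          rw [← h1, mul_right_comm] at h
          exact (Nat.eq_of_mul_eq_mul_right (Nat.succ_pos k) h).symm
        rw [map_nsmul, D.leibniz, D.leibniz_pow, D.leibniz_pow, show k + 1 - 1 = k from rfl,
          show q - k - 1 = q - (k + 1) from by omega, smul_add,
          smul_comm (g ^ (q - k)) (k + 1), smul_comm (f ^ (k + 1)) (q - k), smul_smul, smul_smul, smul_smul,
          smul_smul, mul_comm (g ^ (q - k)), h1, h2]
        exact add_comm _ _
      rw [Finset.sum_congr rfl hk, Finset.sum_add_distrib]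
      simp only [e, smul_add, Finset.sum_add_distrib]
      rw [Finset.sum_range_succ, Finset.sum_range_succ' (fun k => q.choose k • ((f ^ k * g ^ (q - k)) • D g)),
        Nat.choose_self, Nat.choose_zero_right, Nat.sub_self, Nat.sub_zero, pow_zero, pow_zero, mul_one, one_mul,
        one_smul, one_smul]
      abel
    rw [key, T_exact T hT hT']
  rw [Nat.add_sub_cancel]
  rw [map_sub, map_sub, sub_sub, sub_eq_zero] at hex
  exact hex

include hT hT' in
theorem T_high (f : AdjoinRoot (X ^ p - C b : R[X])) :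
    ∃ r, f ^ p = algebraMap R _ r ∧ T (f ^ (p - 1) • KaehlerDifferential.D R _ f) = KaehlerDifferential.D ℤ R r := by
  have hp := (Fact.out : p.Prime)
  obtain ⟨P, rfl⟩ := AdjoinRoot.mk_surjective f
  induction P using Polynomial.induction_on' with
  | add P Q hP hQ =>
    obtain ⟨r, hr, hr'⟩ := hP
    obtain ⟨r', hs, hs'⟩ := hQ
    haveI : CharP (AdjoinRoot (X ^ p - C b : R[X])) p :=
      charP_of_injective_ringHom (of_injective b) p
    refine ⟨r + r', ?_, ?_⟩
    · rw [map_add, add_pow_char, hr, hs, map_add]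
    · rw [map_add (AdjoinRoot.mk (X ^ p - C b : R[X])), T_add T hT hT', hr', hs', map_add]
  | monomial n c =>
    have e : AdjoinRoot.mk (X ^ p - C b : R[X]) (monomial n c) = c • y ^ n := by
      rw [← C_mul_X_pow_eq_monomial, map_mul, map_pow, AdjoinRoot.mk_X, AdjoinRoot.mk_C, Algebra.smul_def]; rfl
    refine ⟨c ^ p * b ^ n, ?_, ?_⟩
    · rw [e, smul_pow, ← pow_mul, mul_comm n p, pow_mul, root_pow, Algebra.smul_def, ← map_pow, ← map_mul]
    · have hc : KaehlerDifferential.D ℤ R (c ^ p) = 0 := by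
        rw [Derivation.leibniz_pow, ← Nat.cast_smul_eq_nsmul R, CharP.cast_eq_zero, zero_smul]
      rw [e, Derivation.map_smul, Derivation.leibniz, hc, smul_zero, add_zero, Derivation.leibniz_pow,
        Derivation.leibniz_pow, smul_pow]
      rcases Nat.eq_zero_or_pos n with rfl | hn
      · simp
      obtain ⟨k, rfl⟩ : ∃ k, n = k + 1 := ⟨n - 1, by omega⟩
      have h3 : (y ^ (k + 1)) ^ (p - 1) * y ^ k = y ^ ((p - 1) + p * k) := by
        rw [← pow_mul, ← pow_add]; congr 1
        obtain ⟨q, rfl⟩ : ∃ q, p = q + 1 := ⟨p - 1, by have := hp.pos; omega⟩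
        rw [Nat.add_sub_cancel]; ring
      have hdiv : ((p - 1) + p * k) / p = k := by
        rw [Nat.add_mul_div_left _ _ hp.pos, Nat.div_eq_of_lt (by have := hp.pos; omega), zero_add]
      have hmod : ((p - 1) + p * k) % p = p - 1 := by
        rw [Nat.add_mul_mod_self_left, Nat.mod_eq_of_lt (by have := hp.pos; omega)]
      rw [Nat.add_sub_cancel, smul_assoc, map_smul, smul_comm ((y ^ (k + 1)) ^ (p - 1)) c, map_smul,
        smul_comm ((y ^ (k + 1)) ^ (p - 1)) (k + 1), map_nsmul, smul_smul ((y ^ (k + 1)) ^ (p - 1)), h3,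
        T_root_pow T hT hT', if_pos hmod, hdiv, smul_smul, ← pow_succ, Nat.sub_add_cancel hp.one_le]

end

/-- Let p be a prime number and R an F_p-algebra, a, b ∈ R, S_a = R[x]/(x^p - a) and S_b = R[y]/(y^p -
b). The trace Tr_x : Ω_{S_a/R} → Ω_R is the R-linear map with x^i dx ↦ 0 for 0 ≤ i ≤ p - 2 and
x^{p-1} dx ↦ da (these determine it, Ω_{S_a/R} being free over R on the x^i dx), and similarly Tr_y.
Then for every R-algebra homomorphism φ : S_a → S_b one has Tr_x = Tr_y ∘ φ_*: for all s, t ∈ S_a,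
Tr_x(s dt) = Tr_y(φ(s) dφ(t)). Here Ω_R is the module of absolute differentials Ω_{R/Z}. -/
theorem result (p : ℕ) [Fact p.Prime] (R : Type u) [CommRing R] [CharP R p] (a b : R)
    (φ : AdjoinRoot (X ^ p - C a : R[X]) →ₐ[R] AdjoinRoot (X ^ p - C b : R[X]))
    (Tx : Ω[AdjoinRoot (X ^ p - C a : R[X])⁄R] →ₗ[R] Ω[R⁄ℤ])
    (Ty : Ω[AdjoinRoot (X ^ p - C b : R[X])⁄R] →ₗ[R] Ω[R⁄ℤ])
    (hTx : ∀ i : ℕ, i + 2 ≤ p →
      Tx (AdjoinRoot.root (X ^ p - C a) ^ i • KaehlerDifferential.D R _ (AdjoinRoot.root (X ^ p - C a))) = 0)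
    (hTx' : Tx (AdjoinRoot.root (X ^ p - C a) ^ (p - 1) • KaehlerDifferential.D R _ (AdjoinRoot.root (X ^ p - C a))) =
      KaehlerDifferential.D ℤ R a)
    (hTy : ∀ i : ℕ, i + 2 ≤ p →
      Ty (AdjoinRoot.root (X ^ p - C b) ^ i • KaehlerDifferential.D R _ (AdjoinRoot.root (X ^ p - C b))) = 0)
    (hTy' : Ty (AdjoinRoot.root (X ^ p - C b) ^ (p - 1) • KaehlerDifferential.D R _ (AdjoinRoot.root (X ^ p - C b))) =
      KaehlerDifferential.D ℤ R b)
    (s t : AdjoinRoot (X ^ p - C a : R[X])) :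
    Tx (s • KaehlerDifferential.D R _ t) = Ty (φ s • KaehlerDifferential.D R _ (φ t)) := by
  have hp := (Fact.out : p.Prime)
  have hinj := of_injective (p := p) b
  set x := AdjoinRoot.root (X ^ p - C a : R[X]) with hx
  have key : ∀ n : ℕ, Tx (x ^ n • KaehlerDifferential.D R _ x) =
      Ty (φ x ^ n • KaehlerDifferential.D R _ (φ x)) := by
    intro n
    have h1 : φ x ^ n = a ^ (n / p) • φ x ^ (n % p) := by
      rw [← map_pow, hx, root_pow_decomp a n, map_smul, map_pow]
    rw [T_root_pow Tx hTx hTx' n, h1, smul_assoc, map_smul]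
    have hlt := Nat.mod_lt n hp.pos
    split_ifs with h
    · obtain ⟨r, hr, hr'⟩ := T_high Ty hTy hTy' (φ x)
      have hra : r = a := by
        refine hinj (hr.symm.trans ?_)
        rw [← map_pow, hx, root_pow, φ.commutes]
      rw [h, hr', hra]
    · rw [T_low Ty hTy hTy' (φ x) (by omega), smul_zero]
  have hmk : ∀ (n : ℕ) (c : R), AdjoinRoot.mk (X ^ p - C a : R[X]) (monomial n c) = c • x ^ n := fun n c => by
    rw [hx, ← C_mul_X_pow_eq_monomial, map_mul, map_pow, AdjoinRoot.mk_X, AdjoinRoot.mk_C, Algebra.smul_def]; rfl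
  obtain ⟨P, rfl⟩ := AdjoinRoot.mk_surjective s
  obtain ⟨Q, rfl⟩ := AdjoinRoot.mk_surjective t
  induction Q using Polynomial.induction_on' with
  | add Q₁ Q₂ h₁ h₂ => simp only [map_add, smul_add, h₁, h₂]
  | monomial m d =>
    induction P using Polynomial.induction_on' with
    | add P₁ P₂ h₁ h₂ => simp only [map_add, add_smul, h₁, h₂]
    | monomial n c =>
      rw [hmk, hmk, map_smul φ, map_smul φ, map_pow, map_pow, Derivation.map_smul, Derivation.map_smul,
        Derivation.leibniz_pow, Derivation.leibniz_pow]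
      simp only [smul_assoc, smul_comm _ d, map_smul]
      congr 1
      simp only [smul_comm (x ^ n) m, smul_comm (φ x ^ n) m, map_nsmul, smul_comm c m, smul_smul, ← pow_add]
      rw [key]

end Groth.Agent.S7340
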