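import Groth.Statements.S7341
import Groth.Agent.NT93.Chain
-- import your own Groth.Agent.* helpers here

set_option autoImplicit false
open Finset
open Models Models.NumericalType

namespace Groth.Agent.S7341

/-- Classification of proper subgraphs which are chains of three vertices: let T be a numerical type on
n > 3 indices and i, j, k distinct (-2)-indices with a_ij > 0 and a_jk > 0. Then a_ik = 0 and, up to
reversing the order of i, j, k, one of the following holds for some integer w: (A3) w_i = w_j = w_k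
= w, a_ij = a_jk = w, with 2 m_i ≥ m_j, 2 m_j ≥ m_i + m_k, 2 m_k ≥ m_j; (C3) w_i = w_j = w, w_k =
2w, a_ij = w, a_jk = 2w, with 2 m_i ≥ m_j, 2 m_j ≥ m_i + 2 m_k, 2 m_k ≥ m_j; (B3) w_i = w_j = 2w,
w_k = w, a_ij = a_jk = 2w, with 2 m_i ≥ m_j, 2 m_j ≥ m_i + m_k, m_k ≥ m_j. -/
theorem result {n : ℕ} (T : Models.NumericalType n) (hn : 3 < n) (i j k : Fin n)
    (hij : i ≠ j) (hjk : j ≠ k) (hik : i ≠ k) (hi : T.IsMinusTwo i) (hj : T.IsMinusTwo j) (hk : T.IsMinusTwo k)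
    (h1 : 0 < T.a i j) (h2 : 0 < T.a j k) :
    T.a i k = 0 ∧ ∃ (i' k' : Fin n) (w : ℤ), ((i' = i ∧ k' = k) ∨ (i' = k ∧ k' = i)) ∧
      ((T.w i' = w ∧ T.w j = w ∧ T.w k' = w ∧ T.a i' j = w ∧ T.a j k' = w ∧
          T.m j ≤ 2 * T.m i' ∧ T.m i' + T.m k' ≤ 2 * T.m j ∧ T.m j ≤ 2 * T.m k') ∨
        (T.w i' = w ∧ T.w j = w ∧ T.w k' = 2 * w ∧ T.a i' j = w ∧ T.a j k' = 2 * w ∧
          T.m j ≤ 2 * T.m i' ∧ T.m i' + 2 * T.m k' ≤ 2 * T.m j ∧ T.m j ≤ 2 * T.m k') ∨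
        (T.w i' = 2 * w ∧ T.w j = 2 * w ∧ T.w k' = w ∧ T.a i' j = 2 * w ∧ T.a j k' = 2 * w ∧
          T.m j ≤ 2 * T.m i' ∧ T.m i' + T.m k' ≤ 2 * T.m j ∧ T.m j ≤ T.m k')) := by
  set u : ℕ → Fin n := fun p => if p = 0 then i else if p = 1 then j else k with hu
  have hP : NT93.Path T 3 u := by
    refine ⟨fun p hp q hq e => ?_, fun p hp => ?_⟩
    · interval_cases p <;> interval_cases q <;> simp_all
    · have : p < 2 := by omega
      interval_cases p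
      · simpa [hu] using h1.ne'
      · simpa [hu] using h2.ne'
  have two : ∀ p < 3, NT93.Two T (u p) := fun p _ => by
    simp only [hu]; split_ifs
    · exact hi.2
    · exact hj.2
    · exact hk.2
  have hik0 : T.a i k = 0 := by
    have := NT93.noChord hP two hn (i := 0) (l := 2) le_rfl (by omega)
    simpa [hu] using this
  obtain ⟨rv, w, hw⟩ := NT93.chainPat le_rfl hn hP two
  have key : ∀ i' k' : Fin n, i' ≠ j → j ≠ k' → i' ≠ k' →
      NT93.Two T i' → NT93.Two T k' →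
      ∀ x : ℕ → Fin n, x 0 = i' → x 1 = j → x 2 = k' → NT93.Pat T 3 x w →
      ((T.w i' = w ∧ T.w j = w ∧ T.w k' = w ∧ T.a i' j = w ∧ T.a j k' = w ∧
          T.m j ≤ 2 * T.m i' ∧ T.m i' + T.m k' ≤ 2 * T.m j ∧ T.m j ≤ 2 * T.m k') ∨
        (T.w i' = w ∧ T.w j = w ∧ T.w k' = 2 * w ∧ T.a i' j = w ∧ T.a j k' = 2 * w ∧
          T.m j ≤ 2 * T.m i' ∧ T.m i' + 2 * T.m k' ≤ 2 * T.m j ∧ T.m j ≤ 2 * T.m k') ∨
        (T.w i' = 2 * w ∧ T.w j = 2 * w ∧ T.w k' = w ∧ T.a i' j = 2 * w ∧ T.a j k' = 2 * w ∧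
          T.m j ≤ 2 * T.m i' ∧ T.m i' + T.m k' ≤ 2 * T.m j ∧ T.m j ≤ T.m k')) := by
    intro i' k' n1 n2 n3 ti tk x x0 x1 x2 hpat
    have r0 := NT93.row1 ti n1
    have r1 := NT93.row2 (hj.2 : NT93.Two T j) n1.symm n2 n3
    have r2 := NT93.row1 tk n2.symm
    rw [NT93.aSymm T i' j] at r1
    rw [NT93.aSymm T j k'] at r2
    have hwj := T.w_pos j
    rcases hpat with ⟨g1, g2⟩ | ⟨g1, g2, g3, g4⟩ | ⟨g1, g2, g3⟩ | ⟨g, -⟩
    · have A := g1 0 (by omega); have B := g1 1 (by omega); have C := g1 2 (by omega)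
      have D := g2 0 (by omega); have E := g2 1 (by omega)
      simp only [Nat.zero_add, Nat.reduceAdd, x0, x1, x2] at A B C D E
      rw [A, D] at r0; rw [B, D, E] at r1; rw [C, E] at r2
      refine Or.inl ⟨A, B, C, D, E, ?_, ?_, ?_⟩ <;> nlinarith
    · have A := g1 0 (by omega); have B := g1 1 (by omega); have C := g2 2 rfl
      have D := g3 0 (by omega); have E := g4 1 rfl
      simp only [Nat.zero_add, Nat.reduceAdd, x0, x1, x2] at A B C D E
      rw [A, D] at r0; rw [B, D, E] at r1; rw [C, E] at r2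
      refine Or.inr (Or.inl ⟨A, B, C, D, E, ?_, ?_, ?_⟩) <;> nlinarith
    · have A := g1 0 (by omega); have B := g1 1 (by omega); have C := g2 2 rfl
      have D := g3 0 (by omega); have E := g3 1 (by omega)
      simp only [Nat.zero_add, Nat.reduceAdd, x0, x1, x2] at A B C D E
      rw [A, D] at r0; rw [B, D, E] at r1; rw [C, E] at r2
      refine Or.inr (Or.inr ⟨A, B, C, D, E, ?_, ?_, ?_⟩) <;> nlinarith
    · omega
  refine ⟨hik0, ?_⟩
  cases rv
  · exact ⟨i, k, w, Or.inl ⟨rfl, rfl⟩, key i k hij hjk hik hi.2 hk.2 u rfl rfl rfl hw⟩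
  · exact ⟨k, i, w, Or.inr ⟨rfl, rfl⟩, key k i hjk.symm hij.symm hik.symm hk.2 hi.2
      (fun p => u (2 - p)) rfl rfl rfl hw⟩

end Groth.Agent.S7341
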