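import Groth.Statements.S7345
import Groth.Agent.NT93.Sub
-- import your own Groth.Agent.* helpers here

set_option autoImplicit false
open Finset
open Models Models.NumericalType

namespace Groth.Agent.S7345

/-- Let T be a numerical type on n > 9 indices. Then no nine (-2)-indices of T, pairwise distinct and
named d, e, f, g, h, i, j, k, l, have a_de, a_ef, a_fg, a_gh, a_hi, a_ij, a_jk and a_li all nonzero
(a chain of eight, d to k, with l joined to its sixth vertex i). (The published list of nonzero
entries ends with a_lh, joining l to the fifth vertex h; that configuration already contains the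
completed E7 configuration on eight of the indices and is impossible for that reason alone. The
pictured graph and the argument for it join l to the sixth vertex i, and this row states that case.) -/
theorem result {n : ℕ} (T : Models.NumericalType n) (hn : 9 < n)
    (v : Fin 9 ↪ Fin n) (hv : ∀ j, T.IsMinusTwo (v j))
    (h01 : T.a (v 0) (v 1) ≠ 0) (h12 : T.a (v 1) (v 2) ≠ 0) (h23 : T.a (v 2) (v 3) ≠ 0)
    (h34 : T.a (v 3) (v 4) ≠ 0) (h45 : T.a (v 4) (v 5) ≠ 0) (h56 : T.a (v 5) (v 6) ≠ 0)
    (h67 : T.a (v 6) (v 7) ≠ 0) (h85 : T.a (v 8) (v 5) ≠ 0) : False := by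
  have := (NT93.cfgE8 (v := NT93.ext v 0) (NT93.ext_inj v 0)
    (fun p _ => NT93.ext_two hv 0 p) fun p hp q hq hpq => ?_).1
  · omega
  rw [NT93.ext_of_lt v 0 hp, NT93.ext_of_lt v 0 hq]
  rcases hpq with ⟨rfl, h⟩ | ⟨rfl, rfl⟩
  · have : p < 7 := by omega
    interval_cases p <;> first | exact h01 | exact h12 | exact h23 | exact h34 | exact h45 | exact h56 | exact h67
  · rw [NT93.aSymm T]; exact h85

end Groth.Agent.S7345
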