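import Groth.Statements.S7346
import Groth.Agent.NT93.Sub
-- import your own Groth.Agent.* helpers here

set_option autoImplicit false
open Finset
open Models Models.NumericalType

namespace Groth.Agent.S7346

/-- Classification of proper subgraphs of type D4 (one vertex joined to three others): let T be a
numerical type on n > 4 indices and i_1, …, i_4 distinct (-2)-indices with a_{12}, a_{13}, a_{14}
nonzero. Then for some integer w all w_{i_j} equal w, these intersection numbers equal w, all other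
a_{i_j i_k} (j ≠ k) vanish, and 2 m_1 ≥ m_2 + m_3 + m_4, 2 m_2 ≥ m_1, 2 m_3 ≥ m_1, 2 m_4 ≥ m_1. -/
theorem result {n : ℕ} (T : Models.NumericalType n) (hn : 4 < n)
    (v : Fin 4 ↪ Fin n) (hv : ∀ j, T.IsMinusTwo (v j)) (h01 : T.a (v 0) (v 1) ≠ 0) (h02 : T.a (v 0) (v 2) ≠ 0) (h03 : T.a (v 0) (v 3) ≠ 0) :
    ∃ w : ℤ, (∀ j : Fin 4, T.w (v j) = w) ∧
      T.a (v 0) (v 1) = w ∧
      T.a (v 0) (v 2) = w ∧
      T.a (v 0) (v 3) = w ∧
      T.a (v 1) (v 2) = 0 ∧
      T.a (v 1) (v 3) = 0 ∧
      T.a (v 2) (v 3) = 0 ∧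
      T.m (v 1) + T.m (v 2) + T.m (v 3) ≤ 2 * T.m (v 0) ∧
      T.m (v 0) ≤ 2 * T.m (v 1) ∧
      T.m (v 0) ≤ 2 * T.m (v 2) ∧
      T.m (v 0) ≤ 2 * T.m (v 3) := by
  set u := NT93.ext v 0 with hu
  have inj := NT93.ext_inj v 0
  have two := NT93.ext_two hv 0
  set u' : ℕ → Fin n := fun p => if p = 0 then u 1 else if p = 1 then u 0 else u 2 with hu'
  have hP : NT93.Path T 3 u' := by
    refine ⟨fun p hp q hq e => ?_, fun p hp => ?_⟩
    · interval_cases p <;> interval_cases q <;>
        first | rfl | (simp [hu'] at e; exact absurd (inj _ (by omega) _ (by omega) e) (by omega))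
    · have : p < 2 := by omega
      interval_cases p
      · simp only [hu', hu]; rw [NT93.aSymm T]; exact h01
      · simpa [hu', hu, NT93.ext] using h02
  obtain ⟨hw, hwj, he, haj, nc, nj⟩ := NT93.proper_branch hP
    (fun p _ => by simp only [hu']; split_ifs <;> exact two _) (j := u 3) (two 3)
    (fun p hp e => by
      interval_cases p <;> simp [hu'] at e <;>
        exact absurd (inj _ (by omega) _ (by omega) e) (by omega))
    (by omega) (i := 1) le_rfl (by omega) (by rw [NT93.aSymm T]; simpa [hu', hu, NT93.ext] using h03)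
  have eu : ∀ p : Fin 4, u p = v p := NT93.ext_val v 0
  set w := T.w (v 1)
  have g0 : T.w (v 0) = w := by simpa [hu', hu, NT93.ext, w] using hw 1 (by omega)
  have g2 : T.w (v 2) = w := by simpa [hu', hu, NT93.ext, w] using hw 2 (by omega)
  have g3 : T.w (v 3) = w := by simpa [hu', hu, NT93.ext, w] using hwj
  have a01 : T.a (v 0) (v 1) = w := by
    rw [NT93.aSymm T]; simpa [hu', hu, NT93.ext, w] using he 0 (by omega)
  have a02 : T.a (v 0) (v 2) = w := by simpa [hu', hu, NT93.ext, w] using he 1 (by omega)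
  have a03 : T.a (v 0) (v 3) = w := by simpa [hu', hu, NT93.ext, w] using haj
  have a12 : T.a (v 1) (v 2) = 0 := by simpa [hu', hu, NT93.ext] using nc 0 2 le_rfl (by omega)
  have a13 : T.a (v 1) (v 3) = 0 := by simpa [hu', hu, NT93.ext] using nj 0 (by omega) (by omega)
  have a23 : T.a (v 2) (v 3) = 0 := by simpa [hu', hu, NT93.ext] using nj 2 (by omega) (by omega)
  have hw0 : 0 < w := T.w_pos _
  have ne : ∀ a b : Fin 4, a ≠ b → v a ≠ v b := fun a b h e => h (v.injective e)
  refine ⟨w, fun j => by fin_cases j <;> first | exact g0 | rfl | exact g2 | exact g3,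
    a01, a02, a03, a12, a13, a23, NT93.le_of_w_mul hw0 ?_, NT93.le_of_w_mul hw0 ?_,
    NT93.le_of_w_mul hw0 ?_, NT93.le_of_w_mul hw0 ?_⟩
  · have := NT93.row3 (hv 0).2 (ne 0 1 (by decide)) (ne 0 2 (by decide)) (ne 0 3 (by decide))
      (ne 1 2 (by decide)) (ne 1 3 (by decide)) (ne 2 3 (by decide))
    rw [a01, a02, a03, g0] at this; linarith
  · have := NT93.row1 (hv 1).2 (ne 1 0 (by decide))
    rw [NT93.aSymm T, a01] at this; linarith
  · have := NT93.row1 (hv 2).2 (ne 2 0 (by decide))
    rw [NT93.aSymm T, a02, g2] at this; linarith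
  · have := NT93.row1 (hv 3).2 (ne 3 0 (by decide))
    rw [NT93.aSymm T, a03, g3] at this; linarith

end Groth.Agent.S7346
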