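import Groth.Statements.S7348
import Groth.Agent.NT93.Sub
-- import your own Groth.Agent.* helpers here

set_option autoImplicit false
open Finset
open Models Models.NumericalType

namespace Groth.Agent.S7348

/-- Classification of proper subgraphs of type E6 (a chain i_1 … i_5 with i_6 joined to i_3): let T be a
numerical type on n > 6 indices and i_1, …, i_6 distinct (-2)-indices with a_{12}, a_{23}, a_{34},
a_{45}, a_{36} nonzero. Then for some integer w all w_{i_j} equal w, these intersection numbers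
equal w, all other a_{i_j i_k} (j ≠ k) vanish, and 2 m_1 ≥ m_2, 2 m_2 ≥ m_1 + m_3, 2 m_3 ≥ m_2 + m_4
+ m_6, 2 m_4 ≥ m_3 + m_5, 2 m_5 ≥ m_4, 2 m_6 ≥ m_3. (The published list of inequalities has 2 m_5 ≥
m_3 where the intersection matrix gives 2 m_5 ≥ m_4; the former fails for the extended E8
configuration of multiplicities 4, 5, 6, 4, 2 with 3 attached to the third vertex, so 2 m_5 ≥ m_4 is
stated.) -/
theorem result {n : ℕ} (T : Models.NumericalType n) (hn : 6 < n)
    (v : Fin 6 ↪ Fin n) (hv : ∀ j, T.IsMinusTwo (v j)) (h01 : T.a (v 0) (v 1) ≠ 0) (h12 : T.a (v 1) (v 2) ≠ 0) (h23 : T.a (v 2) (v 3) ≠ 0) (h34 : T.a (v 3) (v 4) ≠ 0) (h25 : T.a (v 2) (v 5) ≠ 0) :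
    ∃ w : ℤ, (∀ j : Fin 6, T.w (v j) = w) ∧
      T.a (v 0) (v 1) = w ∧
      T.a (v 1) (v 2) = w ∧
      T.a (v 2) (v 3) = w ∧
      T.a (v 3) (v 4) = w ∧
      T.a (v 2) (v 5) = w ∧
      T.a (v 0) (v 2) = 0 ∧
      T.a (v 0) (v 3) = 0 ∧
      T.a (v 0) (v 4) = 0 ∧
      T.a (v 0) (v 5) = 0 ∧
      T.a (v 1) (v 3) = 0 ∧
      T.a (v 1) (v 4) = 0 ∧
      T.a (v 1) (v 5) = 0 ∧
      T.a (v 2) (v 4) = 0 ∧
      T.a (v 3) (v 5) = 0 ∧
      T.a (v 4) (v 5) = 0 ∧
      T.m (v 1) ≤ 2 * T.m (v 0) ∧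
      T.m (v 0) + T.m (v 2) ≤ 2 * T.m (v 1) ∧
      T.m (v 1) + T.m (v 3) + T.m (v 5) ≤ 2 * T.m (v 2) ∧
      T.m (v 2) + T.m (v 4) ≤ 2 * T.m (v 3) ∧
      T.m (v 3) ≤ 2 * T.m (v 4) ∧
      T.m (v 2) ≤ 2 * T.m (v 5) := by
  have hP : NT93.Path T 5 (NT93.ext v 0) := by
    refine ⟨fun p hp q hq e => NT93.ext_inj v 0 p (by omega) q (by omega) e, fun p hp => ?_⟩
    rw [NT93.ext_of_lt v 0 (show p < 6 by omega), NT93.ext_of_lt v 0 (show p + 1 < 6 by omega)]
    have : p < 4 := by omega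
    interval_cases p <;> first | exact h01 | exact h12 | exact h23 | exact h34
  obtain ⟨hw, hwj, he, haj, nc, nj⟩ := NT93.proper_branch hP (fun p _ => NT93.ext_two hv 0 p)
    (j := NT93.ext v 0 5) (NT93.ext_two hv 0 5) (fun p hp e => by
      have := NT93.ext_inj v 0 p (by omega) 5 (by omega) e; omega)
    (by omega) (i := 2) (by omega) (by omega) (by rw [NT93.aSymm T]; simpa [NT93.ext] using h25)
  set w := T.w (v 0) with hwdef
  have hw0 : 0 < w := T.w_pos _
  have ne : ∀ a b : Fin 6, a ≠ b → v a ≠ v b := fun a b h e => h (v.injective e)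
  have w0 : T.w (v 0) = w := by simpa [NT93.ext, hwdef] using hw 0 (by omega)
  have w1 : T.w (v 1) = w := by simpa [NT93.ext, hwdef] using hw 1 (by omega)
  have w2 : T.w (v 2) = w := by simpa [NT93.ext, hwdef] using hw 2 (by omega)
  have w3 : T.w (v 3) = w := by simpa [NT93.ext, hwdef] using hw 3 (by omega)
  have w4 : T.w (v 4) = w := by simpa [NT93.ext, hwdef] using hw 4 (by omega)
  have w5 : T.w (v 5) = w := by simpa [NT93.ext, hwdef] using hwj
  have a01 : T.a (v 0) (v 1) = w := by simpa [NT93.ext, hwdef] using he 0 (by omega)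
  have a12 : T.a (v 1) (v 2) = w := by simpa [NT93.ext, hwdef] using he 1 (by omega)
  have a23 : T.a (v 2) (v 3) = w := by simpa [NT93.ext, hwdef] using he 2 (by omega)
  have a34 : T.a (v 3) (v 4) = w := by simpa [NT93.ext, hwdef] using he 3 (by omega)
  have a25 : T.a (v 2) (v 5) = w := by simpa [NT93.ext, hwdef] using haj
  have a02 : T.a (v 0) (v 2) = 0 := by simpa [NT93.ext] using nc 0 2 (by omega) (by omega)
  have a03 : T.a (v 0) (v 3) = 0 := by simpa [NT93.ext] using nc 0 3 (by omega) (by omega)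
  have a04 : T.a (v 0) (v 4) = 0 := by simpa [NT93.ext] using nc 0 4 (by omega) (by omega)
  have a05 : T.a (v 0) (v 5) = 0 := by simpa [NT93.ext] using nj 0 (by omega) (by omega)
  have a13 : T.a (v 1) (v 3) = 0 := by simpa [NT93.ext] using nc 1 3 (by omega) (by omega)
  have a14 : T.a (v 1) (v 4) = 0 := by simpa [NT93.ext] using nc 1 4 (by omega) (by omega)
  have a15 : T.a (v 1) (v 5) = 0 := by simpa [NT93.ext] using nj 1 (by omega) (by omega)
  have a24 : T.a (v 2) (v 4) = 0 := by simpa [NT93.ext] using nc 2 4 (by omega) (by omega)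
  have a35 : T.a (v 3) (v 5) = 0 := by simpa [NT93.ext] using nj 3 (by omega) (by omega)
  have a45 : T.a (v 4) (v 5) = 0 := by simpa [NT93.ext] using nj 4 (by omega) (by omega)
  refine ⟨w, fun j => by fin_cases j <;> first | exact w0 | exact w1 | exact w2 | exact w3 | exact w4 | exact w5,
    a01, a12, a23, a34, a25, a02, a03, a04, a05, a13, a14, a15, a24, a35, a45,
    NT93.le_of_w_mul hw0 ?_, NT93.le_of_w_mul hw0 ?_, NT93.le_of_w_mul hw0 ?_, NT93.le_of_w_mul hw0 ?_, NT93.le_of_w_mul hw0 ?_, NT93.le_of_w_mul hw0 ?_⟩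
  · have := NT93.row1 (hv 0).2 (ne 0 1 (by decide))
    rw [a01, w0] at this; linarith
  · have := NT93.row2 (hv 1).2 (ne 1 0 (by decide)) (ne 1 2 (by decide)) (ne 0 2 (by decide))
    rw [NT93.aSymm T (v 0) (v 1), a01, a12, w1] at this; linarith
  · have := NT93.row3 (hv 2).2 (ne 2 1 (by decide)) (ne 2 3 (by decide)) (ne 2 5 (by decide)) (ne 1 3 (by decide)) (ne 1 5 (by decide)) (ne 3 5 (by decide))
    rw [NT93.aSymm T (v 1) (v 2), a12, a23, a25, w2] at this; linarith
  · have := NT93.row2 (hv 3).2 (ne 3 2 (by decide)) (ne 3 4 (by decide)) (ne 2 4 (by decide))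
    rw [NT93.aSymm T (v 2) (v 3), a23, a34, w3] at this; linarith
  · have := NT93.row1 (hv 4).2 (ne 4 3 (by decide))
    rw [NT93.aSymm T (v 3) (v 4), a34, w4] at this; linarith
  · have := NT93.row1 (hv 5).2 (ne 5 2 (by decide))
    rw [NT93.aSymm T (v 2) (v 5), a25, w5] at this; linarith

end Groth.Agent.S7348
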