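import Groth.Statements.S7349
import Groth.Agent.NT93.Sub
-- import your own Groth.Agent.* helpers here

set_option autoImplicit false
open Finset
open Models Models.NumericalType

namespace Groth.Agent.S7349

/-- Classification of proper subgraphs of type E7 (a chain i_1 … i_6 with i_7 joined to i_4): let T be a
numerical type on n > 7 indices and i_1, …, i_7 distinct (-2)-indices with a_{12}, a_{23}, a_{34},
a_{45}, a_{56}, a_{47} nonzero. Then for some integer w all w_{i_j} equal w, these intersection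
numbers equal w, all other a_{i_j i_k} (j ≠ k) vanish, and 2 m_1 ≥ m_2, 2 m_2 ≥ m_1 + m_3, 2 m_3 ≥
m_2 + m_4, 2 m_4 ≥ m_3 + m_5 + m_7, 2 m_5 ≥ m_4 + m_6, 2 m_6 ≥ m_5, 2 m_7 ≥ m_4. -/
theorem result {n : ℕ} (T : Models.NumericalType n) (hn : 7 < n)
    (v : Fin 7 ↪ Fin n) (hv : ∀ j, T.IsMinusTwo (v j)) (h01 : T.a (v 0) (v 1) ≠ 0) (h12 : T.a (v 1) (v 2) ≠ 0) (h23 : T.a (v 2) (v 3) ≠ 0) (h34 : T.a (v 3) (v 4) ≠ 0) (h45 : T.a (v 4) (v 5) ≠ 0) (h36 : T.a (v 3) (v 6) ≠ 0) :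
    ∃ w : ℤ, (∀ j : Fin 7, T.w (v j) = w) ∧
      T.a (v 0) (v 1) = w ∧
      T.a (v 1) (v 2) = w ∧
      T.a (v 2) (v 3) = w ∧
      T.a (v 3) (v 4) = w ∧
      T.a (v 4) (v 5) = w ∧
      T.a (v 3) (v 6) = w ∧
      T.a (v 0) (v 2) = 0 ∧
      T.a (v 0) (v 3) = 0 ∧
      T.a (v 0) (v 4) = 0 ∧
      T.a (v 0) (v 5) = 0 ∧
      T.a (v 0) (v 6) = 0 ∧
      T.a (v 1) (v 3) = 0 ∧
      T.a (v 1) (v 4) = 0 ∧
      T.a (v 1) (v 5) = 0 ∧
      T.a (v 1) (v 6) = 0 ∧
      T.a (v 2) (v 4) = 0 ∧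
      T.a (v 2) (v 5) = 0 ∧
      T.a (v 2) (v 6) = 0 ∧
      T.a (v 3) (v 5) = 0 ∧
      T.a (v 4) (v 6) = 0 ∧
      T.a (v 5) (v 6) = 0 ∧
      T.m (v 1) ≤ 2 * T.m (v 0) ∧
      T.m (v 0) + T.m (v 2) ≤ 2 * T.m (v 1) ∧
      T.m (v 1) + T.m (v 3) ≤ 2 * T.m (v 2) ∧
      T.m (v 2) + T.m (v 4) + T.m (v 6) ≤ 2 * T.m (v 3) ∧
      T.m (v 3) + T.m (v 5) ≤ 2 * T.m (v 4) ∧
      T.m (v 4) ≤ 2 * T.m (v 5) ∧
      T.m (v 3) ≤ 2 * T.m (v 6) := by
  have hP : NT93.Path T 6 (NT93.ext v 0) := by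
    refine ⟨fun p hp q hq e => NT93.ext_inj v 0 p (by omega) q (by omega) e, fun p hp => ?_⟩
    rw [NT93.ext_of_lt v 0 (show p < 7 by omega), NT93.ext_of_lt v 0 (show p + 1 < 7 by omega)]
    have : p < 5 := by omega
    interval_cases p <;> first | exact h01 | exact h12 | exact h23 | exact h34 | exact h45
  obtain ⟨hw, hwj, he, haj, nc, nj⟩ := NT93.proper_branch hP (fun p _ => NT93.ext_two hv 0 p)
    (j := NT93.ext v 0 6) (NT93.ext_two hv 0 6) (fun p hp e => by
      have := NT93.ext_inj v 0 p (by omega) 6 (by omega) e; omega)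
    (by omega) (i := 3) (by omega) (by omega) (by rw [NT93.aSymm T]; simpa [NT93.ext] using h36)
  set w := T.w (v 0) with hwdef
  have hw0 : 0 < w := T.w_pos _
  have ne : ∀ a b : Fin 7, a ≠ b → v a ≠ v b := fun a b h e => h (v.injective e)
  have w0 : T.w (v 0) = w := by simpa [NT93.ext, hwdef] using hw 0 (by omega)
  have w1 : T.w (v 1) = w := by simpa [NT93.ext, hwdef] using hw 1 (by omega)
  have w2 : T.w (v 2) = w := by simpa [NT93.ext, hwdef] using hw 2 (by omega)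
  have w3 : T.w (v 3) = w := by simpa [NT93.ext, hwdef] using hw 3 (by omega)
  have w4 : T.w (v 4) = w := by simpa [NT93.ext, hwdef] using hw 4 (by omega)
  have w5 : T.w (v 5) = w := by simpa [NT93.ext, hwdef] using hw 5 (by omega)
  have w6 : T.w (v 6) = w := by simpa [NT93.ext, hwdef] using hwj
  have a01 : T.a (v 0) (v 1) = w := by simpa [NT93.ext, hwdef] using he 0 (by omega)
  have a12 : T.a (v 1) (v 2) = w := by simpa [NT93.ext, hwdef] using he 1 (by omega)
  have a23 : T.a (v 2) (v 3) = w := by simpa [NT93.ext, hwdef] using he 2 (by omega)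
  have a34 : T.a (v 3) (v 4) = w := by simpa [NT93.ext, hwdef] using he 3 (by omega)
  have a45 : T.a (v 4) (v 5) = w := by simpa [NT93.ext, hwdef] using he 4 (by omega)
  have a36 : T.a (v 3) (v 6) = w := by simpa [NT93.ext, hwdef] using haj
  have a02 : T.a (v 0) (v 2) = 0 := by simpa [NT93.ext] using nc 0 2 (by omega) (by omega)
  have a03 : T.a (v 0) (v 3) = 0 := by simpa [NT93.ext] using nc 0 3 (by omega) (by omega)
  have a04 : T.a (v 0) (v 4) = 0 := by simpa [NT93.ext] using nc 0 4 (by omega) (by omega)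
  have a05 : T.a (v 0) (v 5) = 0 := by simpa [NT93.ext] using nc 0 5 (by omega) (by omega)
  have a06 : T.a (v 0) (v 6) = 0 := by simpa [NT93.ext] using nj 0 (by omega) (by omega)
  have a13 : T.a (v 1) (v 3) = 0 := by simpa [NT93.ext] using nc 1 3 (by omega) (by omega)
  have a14 : T.a (v 1) (v 4) = 0 := by simpa [NT93.ext] using nc 1 4 (by omega) (by omega)
  have a15 : T.a (v 1) (v 5) = 0 := by simpa [NT93.ext] using nc 1 5 (by omega) (by omega)
  have a16 : T.a (v 1) (v 6) = 0 := by simpa [NT93.ext] using nj 1 (by omega) (by omega)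
  have a24 : T.a (v 2) (v 4) = 0 := by simpa [NT93.ext] using nc 2 4 (by omega) (by omega)
  have a25 : T.a (v 2) (v 5) = 0 := by simpa [NT93.ext] using nc 2 5 (by omega) (by omega)
  have a26 : T.a (v 2) (v 6) = 0 := by simpa [NT93.ext] using nj 2 (by omega) (by omega)
  have a35 : T.a (v 3) (v 5) = 0 := by simpa [NT93.ext] using nc 3 5 (by omega) (by omega)
  have a46 : T.a (v 4) (v 6) = 0 := by simpa [NT93.ext] using nj 4 (by omega) (by omega)
  have a56 : T.a (v 5) (v 6) = 0 := by simpa [NT93.ext] using nj 5 (by omega) (by omega)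
  refine ⟨w, fun j => by fin_cases j <;> first | exact w0 | exact w1 | exact w2 | exact w3 | exact w4 | exact w5 | exact w6,
    a01, a12, a23, a34, a45, a36, a02, a03, a04, a05, a06, a13, a14, a15, a16, a24, a25, a26, a35, a46, a56,
    NT93.le_of_w_mul hw0 ?_, NT93.le_of_w_mul hw0 ?_, NT93.le_of_w_mul hw0 ?_, NT93.le_of_w_mul hw0 ?_, NT93.le_of_w_mul hw0 ?_, NT93.le_of_w_mul hw0 ?_, NT93.le_of_w_mul hw0 ?_⟩
  · have := NT93.row1 (hv 0).2 (ne 0 1 (by decide))
    rw [a01, w0] at this; linarith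
  · have := NT93.row2 (hv 1).2 (ne 1 0 (by decide)) (ne 1 2 (by decide)) (ne 0 2 (by decide))
    rw [NT93.aSymm T (v 0) (v 1), a01, a12, w1] at this; linarith
  · have := NT93.row2 (hv 2).2 (ne 2 1 (by decide)) (ne 2 3 (by decide)) (ne 1 3 (by decide))
    rw [NT93.aSymm T (v 1) (v 2), a12, a23, w2] at this; linarith
  · have := NT93.row3 (hv 3).2 (ne 3 2 (by decide)) (ne 3 4 (by decide)) (ne 3 6 (by decide)) (ne 2 4 (by decide)) (ne 2 6 (by decide)) (ne 4 6 (by decide))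
    rw [NT93.aSymm T (v 2) (v 3), a23, a34, a36, w3] at this; linarith
  · have := NT93.row2 (hv 4).2 (ne 4 3 (by decide)) (ne 4 5 (by decide)) (ne 3 5 (by decide))
    rw [NT93.aSymm T (v 3) (v 4), a34, a45, w4] at this; linarith
  · have := NT93.row1 (hv 5).2 (ne 5 4 (by decide))
    rw [NT93.aSymm T (v 4) (v 5), a45, w5] at this; linarith
  · have := NT93.row1 (hv 6).2 (ne 6 3 (by decide))
    rw [NT93.aSymm T (v 3) (v 6), a36, w6] at this; linarith

end Groth.Agent.S7349
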