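import Groth.Statements.S7350
import Groth.Agent.NT93.Sub
-- import your own Groth.Agent.* helpers here

set_option autoImplicit false
open Finset
open Models Models.NumericalType

namespace Groth.Agent.S7350

/-- Classification of proper subgraphs of type E8 (a chain i_1 … i_7 with i_8 joined to i_5): let T be a
numerical type on n > 8 indices and i_1, …, i_8 distinct (-2)-indices with a_{12}, a_{23}, a_{34},
a_{45}, a_{56}, a_{67}, a_{58} nonzero. Then for some integer w all w_{i_j} equal w, these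
intersection numbers equal w, all other a_{i_j i_k} (j ≠ k) vanish, and 2 m_1 ≥ m_2, 2 m_2 ≥ m_1 +
m_3, 2 m_3 ≥ m_2 + m_4, 2 m_4 ≥ m_3 + m_5, 2 m_5 ≥ m_4 + m_6 + m_8, 2 m_6 ≥ m_5 + m_7, 2 m_7 ≥ m_6,
2 m_8 ≥ m_5. (The published statement lists a_{65} and a_{57} among the nonzero entries, which
contradicts its own conclusion a_{57} = 0; this row uses the edges of the E8 graph, a_{67} and
a_{58}, as the pictured graph and the matrix give them.) -/
theorem result {n : ℕ} (T : Models.NumericalType n) (hn : 8 < n)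
    (v : Fin 8 ↪ Fin n) (hv : ∀ j, T.IsMinusTwo (v j)) (h01 : T.a (v 0) (v 1) ≠ 0) (h12 : T.a (v 1) (v 2) ≠ 0) (h23 : T.a (v 2) (v 3) ≠ 0) (h34 : T.a (v 3) (v 4) ≠ 0) (h45 : T.a (v 4) (v 5) ≠ 0) (h56 : T.a (v 5) (v 6) ≠ 0) (h47 : T.a (v 4) (v 7) ≠ 0) :
    ∃ w : ℤ, (∀ j : Fin 8, T.w (v j) = w) ∧
      T.a (v 0) (v 1) = w ∧
      T.a (v 1) (v 2) = w ∧
      T.a (v 2) (v 3) = w ∧
      T.a (v 3) (v 4) = w ∧
      T.a (v 4) (v 5) = w ∧
      T.a (v 5) (v 6) = w ∧
      T.a (v 4) (v 7) = w ∧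
      T.a (v 0) (v 2) = 0 ∧
      T.a (v 0) (v 3) = 0 ∧
      T.a (v 0) (v 4) = 0 ∧
      T.a (v 0) (v 5) = 0 ∧
      T.a (v 0) (v 6) = 0 ∧
      T.a (v 0) (v 7) = 0 ∧
      T.a (v 1) (v 3) = 0 ∧
      T.a (v 1) (v 4) = 0 ∧
      T.a (v 1) (v 5) = 0 ∧
      T.a (v 1) (v 6) = 0 ∧
      T.a (v 1) (v 7) = 0 ∧
      T.a (v 2) (v 4) = 0 ∧
      T.a (v 2) (v 5) = 0 ∧
      T.a (v 2) (v 6) = 0 ∧
      T.a (v 2) (v 7) = 0 ∧
      T.a (v 3) (v 5) = 0 ∧
      T.a (v 3) (v 6) = 0 ∧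
      T.a (v 3) (v 7) = 0 ∧
      T.a (v 4) (v 6) = 0 ∧
      T.a (v 5) (v 7) = 0 ∧
      T.a (v 6) (v 7) = 0 ∧
      T.m (v 1) ≤ 2 * T.m (v 0) ∧
      T.m (v 0) + T.m (v 2) ≤ 2 * T.m (v 1) ∧
      T.m (v 1) + T.m (v 3) ≤ 2 * T.m (v 2) ∧
      T.m (v 2) + T.m (v 4) ≤ 2 * T.m (v 3) ∧
      T.m (v 3) + T.m (v 5) + T.m (v 7) ≤ 2 * T.m (v 4) ∧
      T.m (v 4) + T.m (v 6) ≤ 2 * T.m (v 5) ∧
      T.m (v 5) ≤ 2 * T.m (v 6) ∧
      T.m (v 4) ≤ 2 * T.m (v 7) := by
  have hP : NT93.Path T 7 (NT93.ext v 0) := by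
    refine ⟨fun p hp q hq e => NT93.ext_inj v 0 p (by omega) q (by omega) e, fun p hp => ?_⟩
    rw [NT93.ext_of_lt v 0 (show p < 8 by omega), NT93.ext_of_lt v 0 (show p + 1 < 8 by omega)]
    have : p < 6 := by omega
    interval_cases p <;> first | exact h01 | exact h12 | exact h23 | exact h34 | exact h45 | exact h56
  obtain ⟨hw, hwj, he, haj, nc, nj⟩ := NT93.proper_branch hP (fun p _ => NT93.ext_two hv 0 p)
    (j := NT93.ext v 0 7) (NT93.ext_two hv 0 7) (fun p hp e => by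
      have := NT93.ext_inj v 0 p (by omega) 7 (by omega) e; omega)
    (by omega) (i := 4) (by omega) (by omega) (by rw [NT93.aSymm T]; simpa [NT93.ext] using h47)
  set w := T.w (v 0) with hwdef
  have hw0 : 0 < w := T.w_pos _
  have ne : ∀ a b : Fin 8, a ≠ b → v a ≠ v b := fun a b h e => h (v.injective e)
  have w0 : T.w (v 0) = w := by simpa [NT93.ext, hwdef] using hw 0 (by omega)
  have w1 : T.w (v 1) = w := by simpa [NT93.ext, hwdef] using hw 1 (by omega)
  have w2 : T.w (v 2) = w := by simpa [NT93.ext, hwdef] using hw 2 (by omega)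
  have w3 : T.w (v 3) = w := by simpa [NT93.ext, hwdef] using hw 3 (by omega)
  have w4 : T.w (v 4) = w := by simpa [NT93.ext, hwdef] using hw 4 (by omega)
  have w5 : T.w (v 5) = w := by simpa [NT93.ext, hwdef] using hw 5 (by omega)
  have w6 : T.w (v 6) = w := by simpa [NT93.ext, hwdef] using hw 6 (by omega)
  have w7 : T.w (v 7) = w := by simpa [NT93.ext, hwdef] using hwj
  have a01 : T.a (v 0) (v 1) = w := by simpa [NT93.ext, hwdef] using he 0 (by omega)
  have a12 : T.a (v 1) (v 2) = w := by simpa [NT93.ext, hwdef] using he 1 (by omega)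
  have a23 : T.a (v 2) (v 3) = w := by simpa [NT93.ext, hwdef] using he 2 (by omega)
  have a34 : T.a (v 3) (v 4) = w := by simpa [NT93.ext, hwdef] using he 3 (by omega)
  have a45 : T.a (v 4) (v 5) = w := by simpa [NT93.ext, hwdef] using he 4 (by omega)
  have a56 : T.a (v 5) (v 6) = w := by simpa [NT93.ext, hwdef] using he 5 (by omega)
  have a47 : T.a (v 4) (v 7) = w := by simpa [NT93.ext, hwdef] using haj
  have a02 : T.a (v 0) (v 2) = 0 := by simpa [NT93.ext] using nc 0 2 (by omega) (by omega)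
  have a03 : T.a (v 0) (v 3) = 0 := by simpa [NT93.ext] using nc 0 3 (by omega) (by omega)
  have a04 : T.a (v 0) (v 4) = 0 := by simpa [NT93.ext] using nc 0 4 (by omega) (by omega)
  have a05 : T.a (v 0) (v 5) = 0 := by simpa [NT93.ext] using nc 0 5 (by omega) (by omega)
  have a06 : T.a (v 0) (v 6) = 0 := by simpa [NT93.ext] using nc 0 6 (by omega) (by omega)
  have a07 : T.a (v 0) (v 7) = 0 := by simpa [NT93.ext] using nj 0 (by omega) (by omega)
  have a13 : T.a (v 1) (v 3) = 0 := by simpa [NT93.ext] using nc 1 3 (by omega) (by omega)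
  have a14 : T.a (v 1) (v 4) = 0 := by simpa [NT93.ext] using nc 1 4 (by omega) (by omega)
  have a15 : T.a (v 1) (v 5) = 0 := by simpa [NT93.ext] using nc 1 5 (by omega) (by omega)
  have a16 : T.a (v 1) (v 6) = 0 := by simpa [NT93.ext] using nc 1 6 (by omega) (by omega)
  have a17 : T.a (v 1) (v 7) = 0 := by simpa [NT93.ext] using nj 1 (by omega) (by omega)
  have a24 : T.a (v 2) (v 4) = 0 := by simpa [NT93.ext] using nc 2 4 (by omega) (by omega)
  have a25 : T.a (v 2) (v 5) = 0 := by simpa [NT93.ext] using nc 2 5 (by omega) (by omega)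
  have a26 : T.a (v 2) (v 6) = 0 := by simpa [NT93.ext] using nc 2 6 (by omega) (by omega)
  have a27 : T.a (v 2) (v 7) = 0 := by simpa [NT93.ext] using nj 2 (by omega) (by omega)
  have a35 : T.a (v 3) (v 5) = 0 := by simpa [NT93.ext] using nc 3 5 (by omega) (by omega)
  have a36 : T.a (v 3) (v 6) = 0 := by simpa [NT93.ext] using nc 3 6 (by omega) (by omega)
  have a37 : T.a (v 3) (v 7) = 0 := by simpa [NT93.ext] using nj 3 (by omega) (by omega)
  have a46 : T.a (v 4) (v 6) = 0 := by simpa [NT93.ext] using nc 4 6 (by omega) (by omega)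
  have a57 : T.a (v 5) (v 7) = 0 := by simpa [NT93.ext] using nj 5 (by omega) (by omega)
  have a67 : T.a (v 6) (v 7) = 0 := by simpa [NT93.ext] using nj 6 (by omega) (by omega)
  refine ⟨w, fun j => by fin_cases j <;> first | exact w0 | exact w1 | exact w2 | exact w3 | exact w4 | exact w5 | exact w6 | exact w7,
    a01, a12, a23, a34, a45, a56, a47, a02, a03, a04, a05, a06, a07, a13, a14, a15, a16, a17, a24, a25, a26, a27, a35, a36, a37, a46, a57, a67,
    NT93.le_of_w_mul hw0 ?_, NT93.le_of_w_mul hw0 ?_, NT93.le_of_w_mul hw0 ?_, NT93.le_of_w_mul hw0 ?_, NT93.le_of_w_mul hw0 ?_, NT93.le_of_w_mul hw0 ?_, NT93.le_of_w_mul hw0 ?_, NT93.le_of_w_mul hw0 ?_⟩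
  · have := NT93.row1 (hv 0).2 (ne 0 1 (by decide))
    rw [a01, w0] at this; linarith
  · have := NT93.row2 (hv 1).2 (ne 1 0 (by decide)) (ne 1 2 (by decide)) (ne 0 2 (by decide))
    rw [NT93.aSymm T (v 0) (v 1), a01, a12, w1] at this; linarith
  · have := NT93.row2 (hv 2).2 (ne 2 1 (by decide)) (ne 2 3 (by decide)) (ne 1 3 (by decide))
    rw [NT93.aSymm T (v 1) (v 2), a12, a23, w2] at this; linarith
  · have := NT93.row2 (hv 3).2 (ne 3 2 (by decide)) (ne 3 4 (by decide)) (ne 2 4 (by decide))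
    rw [NT93.aSymm T (v 2) (v 3), a23, a34, w3] at this; linarith
  · have := NT93.row3 (hv 4).2 (ne 4 3 (by decide)) (ne 4 5 (by decide)) (ne 4 7 (by decide)) (ne 3 5 (by decide)) (ne 3 7 (by decide)) (ne 5 7 (by decide))
    rw [NT93.aSymm T (v 3) (v 4), a34, a45, a47, w4] at this; linarith
  · have := NT93.row2 (hv 5).2 (ne 5 4 (by decide)) (ne 5 6 (by decide)) (ne 4 6 (by decide))
    rw [NT93.aSymm T (v 4) (v 5), a45, a56, w5] at this; linarith
  · have := NT93.row1 (hv 6).2 (ne 6 5 (by decide))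
    rw [NT93.aSymm T (v 5) (v 6), a56, w6] at this; linarith
  · have := NT93.row1 (hv 7).2 (ne 7 4 (by decide))
    rw [NT93.aSymm T (v 4) (v 7), a47, w7] at this; linarith

end Groth.Agent.S7350
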