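import Groth.Statements.S7351
import Groth.Agent.NT93.Sub
-- import your own Groth.Agent.* helpers here

set_option autoImplicit false
open Finset
open Models Models.NumericalType

namespace Groth.Agent.S7351

/-- Let T be a numerical type on n > 5 indices. There do not exist five distinct (-2)-indices h, i, j,
k, l with a_hi > 0, a_hj > 0, a_hk > 0 and a_hl > 0. -/
theorem result {n : ℕ} (T : Models.NumericalType n) (hn : 5 < n)
    (v : Fin 5 ↪ Fin n) (hv : ∀ j, T.IsMinusTwo (v j))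
    (h01 : 0 < T.a (v 0) (v 1)) (h02 : 0 < T.a (v 0) (v 2)) (h03 : 0 < T.a (v 0) (v 3)) (h04 : 0 < T.a (v 0) (v 4)) : False := by
  have := (NT93.cfgD (k := 5) (v := fun p => NT93.ext v 0 ([1, 2, 0, 3, 4].getD p 0)) le_rfl ?_
    (fun p _ => NT93.ext_two hv 0 _) fun p q hq hpq => ?_).1
  · omega
  · intro p hp q hq e
    have key := NT93.ext_inj v 0
    interval_cases p <;> interval_cases q <;> first | rfl | exact absurd (key _ (by simp) _ (by simp) e) (by simp)
  · have : (p = 0 ∧ q = 2) ∨ (p = 1 ∧ q = 2) ∨ (p = 2 ∧ q = 3) ∨ (p = 2 ∧ q = 4) := by omega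
    rcases this with ⟨rfl, rfl⟩ | ⟨rfl, rfl⟩ | ⟨rfl, rfl⟩ | ⟨rfl, rfl⟩
    · rw [NT93.aSymm T]; exact h01.ne'
    · rw [NT93.aSymm T]; exact h02.ne'
    · exact h03.ne'
    · exact h04.ne'

end Groth.Agent.S7351
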