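import Groth.Statements.S7352
import Groth.Agent.NT93.ChainCongr
-- import your own Groth.Agent.* helpers here

set_option autoImplicit false
open Finset
open Models Models.NumericalType

namespace Groth.Agent.S7352

/-- Classification of proper subgraphs which are chains of four vertices: let T be a numerical type on n
> 4 indices and i_1, …, i_4 distinct (-2)-indices with a_{i_j i_{j+1}} nonzero for j < 4. Then
a_{i_j i_l} = 0 for |j - l| ≥ 2 and, after possibly reversing the order of the indices, for some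
integer w one of the following holds: (A4) w = (w, w, w, w), consecutive a = (w, w, w), with 2m_1 ≥
m_2, 2m_2 ≥ m_1 + m_3, 2m_3 ≥ m_2 + m_4, 2m_4 ≥ m_3; (C4) w = (w, w, w, 2w), consecutive a = (w, w,
2w), with 2m_1 ≥ m_2, 2m_2 ≥ m_1 + m_3, 2m_3 ≥ m_2 + 2m_4, 2m_4 ≥ m_3; (B4) w = (2w, 2w, 2w, w),
consecutive a = (2w, 2w, 2w), with 2m_1 ≥ m_2, 2m_2 ≥ m_1 + m_3, 2m_3 ≥ m_2 + m_4, m_4 ≥ m_3; (F4) w
= (w, w, 2w, 2w), consecutive a = (w, 2w, 2w), with 2m_1 ≥ m_2, 2m_2 ≥ m_1 + 2m_3, 2m_3 ≥ m_2 + m_4,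
2m_4 ≥ m_3. -/
theorem result {n : ℕ} (T : Models.NumericalType n) (hn : 4 < n)
    (v : Fin 4 ↪ Fin n) (hv : ∀ j, T.IsMinusTwo (v j)) (h01 : T.a (v 0) (v 1) ≠ 0) (h12 : T.a (v 1) (v 2) ≠ 0) (h23 : T.a (v 2) (v 3) ≠ 0) :
    (T.a (v 0) (v 2) = 0 ∧ T.a (v 0) (v 3) = 0 ∧ T.a (v 1) (v 3) = 0) ∧
    ∃ (u : Fin 4 → Fin n) (w : ℤ), ((∀ j, u j = v j) ∨ (∀ j, u j = v (Fin.rev j))) ∧
      ((T.w (u 0) = w ∧ T.w (u 1) = w ∧ T.w (u 2) = w ∧ T.w (u 3) = w ∧ T.a (u 0) (u 1) = w ∧ T.a (u 1) (u 2) = w ∧ T.a (u 2) (u 3) = w ∧ T.m (u 1) ≤ 2 * T.m (u 0) ∧ T.m (u 0) + T.m (u 2) ≤ 2 * T.m (u 1) ∧ T.m (u 1) + T.m (u 3) ≤ 2 * T.m (u 2) ∧ T.m (u 2) ≤ 2 * T.m (u 3)) ∨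
      (T.w (u 0) = w ∧ T.w (u 1) = w ∧ T.w (u 2) = w ∧ T.w (u 3) = 2 * w ∧ T.a (u 0) (u 1) = w ∧ T.a (u 1) (u 2) = w ∧ T.a (u 2) (u 3) = 2 * w ∧ T.m (u 1) ≤ 2 * T.m (u 0) ∧ T.m (u 0) + T.m (u 2) ≤ 2 * T.m (u 1) ∧ T.m (u 1) + 2 * T.m (u 3) ≤ 2 * T.m (u 2) ∧ T.m (u 2) ≤ 2 * T.m (u 3)) ∨
      (T.w (u 0) = 2 * w ∧ T.w (u 1) = 2 * w ∧ T.w (u 2) = 2 * w ∧ T.w (u 3) = w ∧ T.a (u 0) (u 1) = 2 * w ∧ T.a (u 1) (u 2) = 2 * w ∧ T.a (u 2) (u 3) = 2 * w ∧ T.m (u 1) ≤ 2 * T.m (u 0) ∧ T.m (u 0) + T.m (u 2) ≤ 2 * T.m (u 1) ∧ T.m (u 1) + T.m (u 3) ≤ 2 * T.m (u 2) ∧ T.m (u 2) ≤ T.m (u 3)) ∨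
      (T.w (u 0) = w ∧ T.w (u 1) = w ∧ T.w (u 2) = 2 * w ∧ T.w (u 3) = 2 * w ∧ T.a (u 0) (u 1) = w ∧ T.a (u 1) (u 2) = 2 * w ∧ T.a (u 2) (u 3) = 2 * w ∧ T.m (u 1) ≤ 2 * T.m (u 0) ∧ T.m (u 0) + 2 * T.m (u 2) ≤ 2 * T.m (u 1) ∧ T.m (u 1) + T.m (u 3) ≤ 2 * T.m (u 2) ∧ T.m (u 2) ≤ 2 * T.m (u 3))) := by
  set u0 := NT93.ext v 0 with hu0
  have hP : NT93.Path T 4 u0 := by
    refine ⟨NT93.ext_inj v 0, fun p hp => ?_⟩
    rw [hu0, NT93.ext_of_lt v 0 (show p < 4 by omega), NT93.ext_of_lt v 0 hp]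
    have : p < 3 := by omega
    interval_cases p <;> first | exact h01 | exact h12 | exact h23
  have two : ∀ p < 4, NT93.Two T (u0 p) := fun p _ => NT93.ext_two hv 0 p
  refine ⟨⟨?_, ?_, ?_⟩, ?_⟩
  · simpa [hu0, NT93.ext] using NT93.noChord hP two hn (i := 0) (l := 2) (by omega) (by omega)
  · simpa [hu0, NT93.ext] using NT93.noChord hP two hn (i := 0) (l := 3) (by omega) (by omega)
  · simpa [hu0, NT93.ext] using NT93.noChord hP two hn (i := 1) (l := 3) (by omega) (by omega)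
  obtain ⟨rv, w, hw⟩ := NT93.chainPat (by omega) hn hP two
  obtain ⟨u, hu, hpat⟩ : ∃ u : Fin 4 → Fin n, ((∀ j, u j = v j) ∨ (∀ j, u j = v (Fin.rev j))) ∧
      NT93.Pat T 4 (fun p => if h : p < 4 then u ⟨p, h⟩ else u 0) w := by
    cases rv
    · refine ⟨fun j => v j, Or.inl fun j => rfl, ?_⟩
      refine NT93.Pat.congr (fun p hp => ?_) hw
      simp [hu0, hp, NT93.ext_of_lt v 0 hp]
    · refine ⟨fun j => v (Fin.rev j), Or.inr fun j => rfl, ?_⟩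
      refine NT93.Pat.congr (fun p hp => ?_) hw
      simp only [if_true, hu0, dif_pos hp, NT93.ext_of_lt v 0 (show 4 - 1 - p < 4 by omega)]
      congr 1; ext; simp [Fin.val_rev]
  have hinj : Function.Injective u := by
    rcases hu with hu | hu <;> intro a b e <;> rw [hu, hu] at e
    · exact v.injective e
    · exact Fin.rev_injective (v.injective e)
  have hu2 : ∀ j, NT93.Two T (u j) := fun j => by
    rcases hu with hu | hu <;> rw [hu] <;> exact (hv _).2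
  have ne : ∀ a b : Fin 4, a ≠ b → u a ≠ u b := fun a b h e => h (hinj e)
  have r0 := NT93.row1 (hu2 0) (ne 0 1 (by decide))
  have r1 := NT93.row2 (hu2 1) (ne 1 0 (by decide)) (ne 1 2 (by decide)) (ne 0 2 (by decide))
  rw [NT93.aSymm T (u 0) (u 1)] at r1
  have r2 := NT93.row2 (hu2 2) (ne 2 1 (by decide)) (ne 2 3 (by decide)) (ne 1 3 (by decide))
  rw [NT93.aSymm T (u 1) (u 2)] at r2
  have r3 := NT93.row1 (hu2 3) (ne 3 2 (by decide))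
  rw [NT93.aSymm T (u 2) (u 3)] at r3
  have w0 := T.w_pos (u 0)
  have w1 := T.w_pos (u 1)
  have w2 := T.w_pos (u 2)
  have w3 := T.w_pos (u 3)
  rcases hpat with ⟨g1, g2⟩ | ⟨g1, g2, g3, g4⟩ | ⟨g1, g2, g3⟩ | ⟨g, g0, g1, g2, g3, e0, e1, e2⟩
  ·
    have W0 := g1 0 (by omega)
    have W1 := g1 1 (by omega)
    have W2 := g1 2 (by omega)
    have W3 := g1 3 (by omega)
    have E0 := g2 0 (by omega)
    have E1 := g2 1 (by omega)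
    have E2 := g2 2 (by omega)
    simp at W0 W1 W2 W3 E0 E1 E2
    rw [W0, E0] at r0
    rw [W1, E0, E1] at r1
    rw [W2, E1, E2] at r2
    rw [W3, E2] at r3
    refine ⟨u, w, hu, Or.inl ⟨W0, W1, W2, W3, E0, E1, E2, ?_, ?_, ?_, ?_⟩⟩ <;> nlinarith
  ·
    have W0 := g1 0 (by omega)
    have W1 := g1 1 (by omega)
    have W2 := g1 2 (by omega)
    have W3 := g2 3 rfl
    have E0 := g3 0 (by omega)
    have E1 := g3 1 (by omega)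
    have E2 := g4 2 rfl
    simp at W0 W1 W2 W3 E0 E1 E2
    rw [W0, E0] at r0
    rw [W1, E0, E1] at r1
    rw [W2, E1, E2] at r2
    rw [W3, E2] at r3
    refine ⟨u, w, hu, Or.inr (Or.inl ⟨W0, W1, W2, W3, E0, E1, E2, ?_, ?_, ?_, ?_⟩)⟩ <;> nlinarith
  ·
    have W0 := g1 0 (by omega)
    have W1 := g1 1 (by omega)
    have W2 := g1 2 (by omega)
    have W3 := g2 3 rfl
    have E0 := g3 0 (by omega)
    have E1 := g3 1 (by omega)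
    have E2 := g3 2 (by omega)
    simp at W0 W1 W2 W3 E0 E1 E2
    rw [W0, E0] at r0
    rw [W1, E0, E1] at r1
    rw [W2, E1, E2] at r2
    rw [W3, E2] at r3
    refine ⟨u, w, hu, Or.inr (Or.inr (Or.inl ⟨W0, W1, W2, W3, E0, E1, E2, ?_, ?_, ?_, ?_⟩))⟩ <;> nlinarith
  ·
    have W0 := g0
    have W1 := g1
    have W2 := g2
    have W3 := g3
    have E0 := e0
    have E1 := e1
    have E2 := e2
    simp at W0 W1 W2 W3 E0 E1 E2
    rw [W0, E0] at r0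
    rw [W1, E0, E1] at r1
    rw [W2, E1, E2] at r2
    rw [W3, E2] at r3
    refine ⟨u, w, hu, Or.inr (Or.inr (Or.inr (⟨W0, W1, W2, W3, E0, E1, E2, ?_, ?_, ?_, ?_⟩)))⟩ <;> nlinarith

end Groth.Agent.S7352
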