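import Groth.Statements.S7354
import Groth.Agent.NT93.Chain
-- import your own Groth.Agent.* helpers here

set_option autoImplicit false
open Finset
open Models Models.NumericalType

namespace Groth.Agent.S7354

/-- Let T be a numerical type on n indices, t > 5 with n > t, and i_1, …, i_t distinct (-2)-indices with
a_{i_j i_{j+1}} nonzero for j = 1, …, t - 1. Then, after possibly reversing the order of the
indices, for some integer w either (A) w_{i_1} = … = w_{i_t} = w and a_{i_j i_{j+1}} = w for all j;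
or (C) w_{i_1} = … = w_{i_{t-1}} = w, w_{i_t} = 2w, a_{i_j i_{j+1}} = w for j < t - 1 and a_{i_{t-1}
i_t} = 2w; or (B) w_{i_1} = … = w_{i_{t-1}} = 2w, w_{i_t} = w and a_{i_j i_{j+1}} = 2w for all j;
and in every case a_{i_j i_k} = 0 whenever k > j + 1. -/
theorem result {n : ℕ} (T : Models.NumericalType n) (t : ℕ) (ht : 5 < t) (hn : t < n)
    (v : Fin t ↪ Fin n) (hv : ∀ j, T.IsMinusTwo (v j))
    (hchain : ∀ j j' : Fin t, j'.val = j.val + 1 → T.a (v j) (v j') ≠ 0) :
    ∃ (u : Fin t → Fin n) (w : ℤ), ((∀ j, u j = v j) ∨ (∀ j, u j = v (Fin.rev j))) ∧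
      (∀ j k : Fin t, j.val + 1 < k.val → T.a (u j) (u k) = 0) ∧
      ((∀ j : Fin t, T.w (u j) = w) ∧ (∀ j j' : Fin t, j'.val = j.val + 1 → T.a (u j) (u j') = w) ∨
        ((∀ j : Fin t, j.val + 1 < t → T.w (u j) = w) ∧ (∀ j : Fin t, j.val + 1 = t → T.w (u j) = 2 * w) ∧
          (∀ j j' : Fin t, j'.val = j.val + 1 → j'.val + 1 < t → T.a (u j) (u j') = w) ∧
          (∀ j j' : Fin t, j'.val = j.val + 1 → j'.val + 1 = t → T.a (u j) (u j') = 2 * w)) ∨
        ((∀ j : Fin t, j.val + 1 < t → T.w (u j) = 2 * w) ∧ (∀ j : Fin t, j.val + 1 = t → T.w (u j) = w) ∧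
          (∀ j j' : Fin t, j'.val = j.val + 1 → T.a (u j) (u j') = 2 * w))) := by
  have z : Fin t := ⟨0, by omega⟩
  have hP : NT93.Path T t (NT93.ext v z) := by
    refine ⟨NT93.ext_inj v z, fun p hp => ?_⟩
    rw [NT93.ext_of_lt v z (show p < t by omega), NT93.ext_of_lt v z hp]
    exact hchain _ _ rfl
  have two : ∀ p < t, NT93.Two T (NT93.ext v z p) := fun p _ => NT93.ext_two hv z p
  obtain ⟨rv, w, hw⟩ := NT93.chainPat (by omega) hn hP two
  have key : ∀ u : ℕ → Fin n, NT93.Path T t u → (∀ p < t, NT93.Two T (u p)) →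
      NT93.Pat T t u w →
      (∀ j k : Fin t, j.val + 1 < k.val → T.a (u j) (u k) = 0) ∧
      ((∀ j : Fin t, T.w (u j) = w) ∧ (∀ j j' : Fin t, j'.val = j.val + 1 → T.a (u j) (u j') = w) ∨
        ((∀ j : Fin t, j.val + 1 < t → T.w (u j) = w) ∧
          (∀ j : Fin t, j.val + 1 = t → T.w (u j) = 2 * w) ∧
          (∀ j j' : Fin t, j'.val = j.val + 1 → j'.val + 1 < t → T.a (u j) (u j') = w) ∧
          (∀ j j' : Fin t, j'.val = j.val + 1 → j'.val + 1 = t → T.a (u j) (u j') = 2 * w)) ∨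
        ((∀ j : Fin t, j.val + 1 < t → T.w (u j) = 2 * w) ∧
          (∀ j : Fin t, j.val + 1 = t → T.w (u j) = w) ∧
          (∀ j j' : Fin t, j'.val = j.val + 1 → T.a (u j) (u j') = 2 * w))) := by
    intro u hu htwo hpat
    refine ⟨fun j k hjk => NT93.noChord hu htwo hn (by omega) k.isLt, ?_⟩
    rcases hpat with ⟨h1, h2⟩ | ⟨h1, h2, h3, h4⟩ | ⟨h1, h2, h3⟩ | ⟨h4, -⟩
    · refine Or.inl ⟨fun j => h1 _ j.isLt, fun j j' e => ?_⟩
      rw [e]; exact h2 _ (by omega)
    · refine Or.inr (Or.inl ⟨fun j hj => h1 _ hj, fun j hj => h2 _ hj, fun j j' e hj => ?_,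
        fun j j' e hj => ?_⟩)
      · rw [e]; exact h3 _ (by omega)
      · rw [e]; exact h4 _ (by omega)
    · refine Or.inr (Or.inr ⟨fun j hj => h1 _ hj, fun j hj => h2 _ hj, fun j j' e => ?_⟩)
      rw [e]; exact h3 _ (by omega)
    · omega
  cases rv
  · exact ⟨fun j => NT93.ext v z j, w, Or.inl fun j => NT93.ext_val v z j, key _ hP two hw⟩
  · refine ⟨fun j => NT93.ext v z (t - 1 - j.val), w, Or.inr fun j => ?_,
      key (fun p => NT93.ext v z (t - 1 - p)) hP.rev (fun p _ => NT93.ext_two hv z _) hw⟩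
    have hr : t - 1 - j.val = (Fin.rev j).val := by simp [Fin.val_rev]; omega
    show NT93.ext v z (t - 1 - j.val) = _
    rw [hr]; exact NT93.ext_val v z _

end Groth.Agent.S7354
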