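import Groth.Statements.S7355
import Groth.Agent.NT93.Chain
-- import your own Groth.Agent.* helpers here

set_option autoImplicit false
open Finset
open Models Models.NumericalType

namespace Groth.Agent.S7355

/-- Classification of proper subgraphs of type D: let T be a numerical type on n indices, t > 4 with n >
t + 1, and i_1, …, i_{t+1} distinct (-2)-indices such that a_{i_j i_{j+1}} is nonzero for j = 1, …,
t - 1 and a_{i_{t-1} i_{t+1}} is nonzero. Then for some integer w one has w_{i_1} = … = w_{i_{t+1}}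
= w, a_{i_j i_{j+1}} = w for j < t, a_{i_{t-1} i_{t+1}} = w, and a_{i_j i_k} = 0 for all other pairs
j ≠ k. -/
theorem result {n : ℕ} (T : Models.NumericalType n) (t : ℕ) (ht : 4 < t) (hn : t + 1 < n)
    (v : Fin (t + 1) ↪ Fin n) (hv : ∀ j, T.IsMinusTwo (v j))
    (hchain : ∀ j j' : Fin (t + 1), j'.val = j.val + 1 → j'.val < t → T.a (v j) (v j') ≠ 0)
    (hbranch : ∀ j j' : Fin (t + 1), j.val + 2 = t → j'.val = t → T.a (v j) (v j') ≠ 0) :
    ∃ w : ℤ, (∀ j : Fin (t + 1), T.w (v j) = w) ∧
      (∀ j j' : Fin (t + 1), j'.val = j.val + 1 → j'.val < t → T.a (v j) (v j') = w) ∧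
      (∀ j j' : Fin (t + 1), j.val + 2 = t → j'.val = t → T.a (v j) (v j') = w) ∧
      (∀ j k : Fin (t + 1), j.val < k.val → ¬ (k.val = j.val + 1 ∧ k.val < t) → ¬ (j.val + 2 = t ∧ k.val = t) →
        T.a (v j) (v k) = 0) := by
  have z : Fin (t + 1) := ⟨0, by omega⟩
  set u := NT93.ext v z with hu
  have hP : NT93.Path T t u := by
    refine ⟨fun p hp q hq e => NT93.ext_inj v z p (by omega) q (by omega) e, fun p hp => ?_⟩
    rw [hu, NT93.ext_of_lt v z (show p < t + 1 by omega), NT93.ext_of_lt v z (show p + 1 < t + 1 by omega)]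
    exact hchain _ _ rfl hp
  obtain ⟨hw, hwj, he, haj, nc, nj⟩ := NT93.proper_branch hP (fun p _ => NT93.ext_two hv z p)
    (j := u t) (NT93.ext_two hv z t) (fun p hp e => by
      have := NT93.ext_inj v z p (by omega) t (by omega) e; omega)
    hn (i := t - 2) (by omega) (by omega) (by
      rw [NT93.aSymm T, hu, NT93.ext_of_lt v z (show t - 2 < t + 1 by omega),
        NT93.ext_of_lt v z (show t < t + 1 by omega)]
      exact hbranch _ _ (by simp; omega) rfl)
  have eu : ∀ j : Fin (t + 1), v j = u j := fun j => (NT93.ext_val v z j).symm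
  simp only [eu]
  refine ⟨T.w (u 0), fun j => ?_, fun j j' e hj => ?_, fun j j' hj hj' => ?_,
    fun j k hjk h1 h2 => ?_⟩
  · by_cases h : j.val < t
    · exact hw _ h
    · rw [show j.val = t by omega]; exact hwj
  · rw [e]; exact he _ (by omega)
  · rw [hj', show j.val = t - 2 by omega]; exact haj
  · by_cases h : k.val < t
    · exact nc _ _ (by omega) h
    · rw [show k.val = t by omega]; exact nj _ (by omega) (by omega)

end Groth.Agent.S7355
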