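import Groth.Statements.S7362
import Groth.Agent.NT93.Basic
-- import your own Groth.Agent.* helpers here

set_option autoImplicit false
open Finset
open Models Models.NumericalType

namespace Groth.Agent.S7362

/-- Genus one classification: case n = 2: let T be a minimal numerical type of genus 1 on two indices.
Then for some ordering i, j of the indices and some integers m, w, either m_i = m_j = m, a_ii = a_jj
= -2w, a_ij = 2w, w_i = w_j = w, g_i = g_j = 0; or m_i = 2m, m_j = m, a_ii = -2w, a_ij = 4w, a_jj =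
-8w, w_i = w, w_j = 4w, g_i = g_j = 0. Only the classification direction is stated. -/
theorem result (T : Models.NumericalType 2) (hmin : T.IsMinimal) (hg : T.genus = 1) :
    ∃ (i j : Fin 2) (m w : ℤ), i ≠ j ∧ T.g i = 0 ∧ T.g j = 0 ∧
      ((T.m i = m ∧ T.m j = m ∧ T.a i i = -2 * w ∧ T.a i j = 2 * w ∧ T.a j j = -2 * w ∧ T.w i = w ∧ T.w j = w) ∨
        (T.m i = 2 * m ∧ T.m j = m ∧ T.a i i = -2 * w ∧ T.a i j = 4 * w ∧ T.a j j = -8 * w ∧ T.w i = w ∧ T.w j = 4 * w)) := by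
  have h2 := NT93.allMinusTwo (by omega) hmin hg
  have ne : (0 : Fin 2) ≠ 1 := by decide
  have r0 := NT93.rowM T 0
  have r1 := NT93.rowM T 1
  rw [Fin.sum_univ_two] at r0 r1
  rw [(h2 0).2] at r0
  rw [(h2 1).2, NT93.aSymm T 0 1] at r1
  obtain ⟨c, hc⟩ := T.w_dvd 0 1
  obtain ⟨d, hd⟩ := T.w_dvd 1 0
  rw [NT93.aSymm T 0 1] at hd
  have w0 := T.w_pos 0
  have w1 := T.w_pos 1
  have m0 := T.m_pos 0
  have m1 := T.m_pos 1
  have ha : T.a 0 1 * T.m 1 = 2 * T.w 0 * T.m 0 := by linarith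
  have hb : T.a 0 1 * T.m 0 = 2 * T.w 1 * T.m 1 := by linarith
  have hcm : c * T.m 1 = 2 * T.m 0 :=
    mul_left_cancel₀ (ne_of_gt w0) (by linear_combination ha - T.m 1 * hc)
  have hdm : d * T.m 0 = 2 * T.m 1 :=
    mul_left_cancel₀ (ne_of_gt w1) (by linear_combination hb - T.m 0 * hd)
  have hcd : c * d = 4 :=
    mul_left_cancel₀ (ne_of_gt m1) (by linear_combination d * hcm + 2 * hdm)
  have c0 : 0 < c := by nlinarith
  have d0 : 0 < d := by nlinarith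
  have c4 : c ≤ 4 := by nlinarith
  interval_cases c
  · refine ⟨1, 0, T.m 0, T.w 1, ne.symm, (h2 1).1, (h2 0).1, Or.inr ?_⟩
    rw [(h2 0).2, (h2 1).2, NT93.aSymm T 0 1]
    refine ⟨?_, ?_, rfl, ?_, ?_, rfl, ?_⟩ <;> nlinarith
  · refine ⟨0, 1, T.m 0, T.w 0, ne, (h2 0).1, (h2 1).1, Or.inl ?_⟩
    rw [(h2 0).2, (h2 1).2]
    refine ⟨rfl, ?_, rfl, ?_, ?_, rfl, ?_⟩ <;> nlinarith
  · omega
  · refine ⟨0, 1, T.m 1, T.w 0, ne, (h2 0).1, (h2 1).1, Or.inr ?_⟩
    rw [(h2 0).2, (h2 1).2]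
    refine ⟨?_, rfl, rfl, ?_, ?_, rfl, ?_⟩ <;> nlinarith

end Groth.Agent.S7362
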