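import Groth.Statements.S7364
import Groth.Agent.NT93.Final
-- import your own Groth.Agent.* helpers here

set_option autoImplicit false
open Finset
open Models Models.NumericalType

namespace Groth.Agent.S7364

/-- Genus one classification: case n = 4: let T be a minimal numerical type of genus 1 on 4 indices.
Then all g_i = 0 and, for some permutation σ of the indices and some integers m, w, the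
multiplicities, weights and intersection matrix (m_{σ(i)}, w_{σ(i)}, a_{σ(i)σ(j)}) are those of one
of the following 6 types: [four cycle] m = (m, m, m, m), w = (w, w, w, w), a = (-2 * w w 0 w / w -2
* w w 0 / 0 w -2 * w w / w 0 w -2 * w); [up equal up] m = (2 * m, 2 * m, 2 * m, m), w = (w, 2 * w, 2
* w, 4 * w), a = (-2 * w 2 * w 0 0 / 2 * w -4 * w 2 * w 0 / 0 2 * w -4 * w 4 * w / 0 0 4 * w -8 *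
w); [up equal down] m = (m, m, m, m), w = (w, 2 * w, 2 * w, w), a = (-2 * w 2 * w 0 0 / 2 * w -4 * w
2 * w 0 / 0 2 * w -4 * w 2 * w / 0 0 2 * w -2 * w); [down equal up] m = (m, 2 * m, 2 * m, m), w = (2
* w, w, w, 2 * w), a = (-4 * w 2 * w 0 0 / 2 * w -2 * w w 0 / 0 w -2 * w 2 * w / 0 0 2 * w -4 * w);
[triple with up] m = (2 * m, m, m, m), w = (w, w, w, 2 * w), a = (-2 * w w w 2 * w / w -2 * w 0 0 /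
w 0 -2 * w 0 / 2 * w 0 0 -4 * w); [triple with down] m = (2 * m, m, m, 2 * m), w = (2 * w, 2 * w, 2
* w, w), a = (-4 * w 2 * w 2 * w 2 * w / 2 * w -4 * w 0 0 / 2 * w 0 -4 * w 0 / 2 * w 0 0 -2 * w).
Only the classification direction is stated. -/
theorem result (T : Models.NumericalType 4) (hmin : T.IsMinimal) (hg : T.genus = 1) :
    (∀ i, T.g i = 0) ∧ ∃ (σ : Equiv.Perm (Fin 4)) (m w : ℤ),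
      ((T.m (σ 0) = m ∧ T.m (σ 1) = m ∧ T.m (σ 2) = m ∧ T.m (σ 3) = m ∧ T.w (σ 0) = w ∧ T.w (σ 1) = w ∧ T.w (σ 2) = w ∧ T.w (σ 3) = w ∧ T.a (σ 0) (σ 0) = -2 * w ∧ T.a (σ 0) (σ 1) = w ∧ T.a (σ 0) (σ 2) = 0 ∧ T.a (σ 0) (σ 3) = w ∧ T.a (σ 1) (σ 1) = -2 * w ∧ T.a (σ 1) (σ 2) = w ∧ T.a (σ 1) (σ 3) = 0 ∧ T.a (σ 2) (σ 2) = -2 * w ∧ T.a (σ 2) (σ 3) = w ∧ T.a (σ 3) (σ 3) = -2 * w) ∨
      (T.m (σ 0) = 2 * m ∧ T.m (σ 1) = 2 * m ∧ T.m (σ 2) = 2 * m ∧ T.m (σ 3) = m ∧ T.w (σ 0) = w ∧ T.w (σ 1) = 2 * w ∧ T.w (σ 2) = 2 * w ∧ T.w (σ 3) = 4 * w ∧ T.a (σ 0) (σ 0) = -2 * w ∧ T.a (σ 0) (σ 1) = 2 * w ∧ T.a (σ 0) (σ 2) = 0 ∧ T.a (σ 0) (σ 3) = 0 ∧ T.a (σ 1) (σ 1) = -4 * w ∧ T.a (σ 1) (σ 2) = 2 * w ∧ T.a (σ 1) (σ 3) = 0 ∧ T.a (σ 2) (σ 2) = -4 * w ∧ T.a (σ 2) (σ 3) = 4 * w ∧ T.a (σ 3) (σ 3) =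 -8 * w) ∨
      (T.m (σ 0) = m ∧ T.m (σ 1) = m ∧ T.m (σ 2) = m ∧ T.m (σ 3) = m ∧ T.w (σ 0) = w ∧ T.w (σ 1) = 2 * w ∧ T.w (σ 2) = 2 * w ∧ T.w (σ 3) = w ∧ T.a (σ 0) (σ 0) = -2 * w ∧ T.a (σ 0) (σ 1) = 2 * w ∧ T.a (σ 0) (σ 2) = 0 ∧ T.a (σ 0) (σ 3) = 0 ∧ T.a (σ 1) (σ 1) = -4 * w ∧ T.a (σ 1) (σ 2) = 2 * w ∧ T.a (σ 1) (σ 3) = 0 ∧ T.a (σ 2) (σ 2) = -4 * w ∧ T.a (σ 2) (σ 3) = 2 * w ∧ T.a (σ 3) (σ 3) = -2 * w) ∨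
      (T.m (σ 0) = m ∧ T.m (σ 1) = 2 * m ∧ T.m (σ 2) = 2 * m ∧ T.m (σ 3) = m ∧ T.w (σ 0) = 2 * w ∧ T.w (σ 1) = w ∧ T.w (σ 2) = w ∧ T.w (σ 3) = 2 * w ∧ T.a (σ 0) (σ 0) = -4 * w ∧ T.a (σ 0) (σ 1) = 2 * w ∧ T.a (σ 0) (σ 2) = 0 ∧ T.a (σ 0) (σ 3) = 0 ∧ T.a (σ 1) (σ 1) = -2 * w ∧ T.a (σ 1) (σ 2) = w ∧ T.a (σ 1) (σ 3) = 0 ∧ T.a (σ 2) (σ 2) = -2 * w ∧ T.a (σ 2) (σ 3) = 2 * w ∧ T.a (σ 3) (σ 3) = -4 * w) ∨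
      (T.m (σ 0) = 2 * m ∧ T.m (σ 1) = m ∧ T.m (σ 2) = m ∧ T.m (σ 3) = m ∧ T.w (σ 0) = w ∧ T.w (σ 1) = w ∧ T.w (σ 2) = w ∧ T.w (σ 3) = 2 * w ∧ T.a (σ 0) (σ 0) = -2 * w ∧ T.a (σ 0) (σ 1) = w ∧ T.a (σ 0) (σ 2) = w ∧ T.a (σ 0) (σ 3) = 2 * w ∧ T.a (σ 1) (σ 1) = -2 * w ∧ T.a (σ 1) (σ 2) = 0 ∧ T.a (σ 1) (σ 3) = 0 ∧ T.a (σ 2) (σ 2) = -2 * w ∧ T.a (σ 2) (σ 3) = 0 ∧ T.a (σ 3) (σ 3) = -4 * w) ∨
      (T.m (σ 0) = 2 * m ∧ T.m (σ 1) = m ∧ T.m (σ 2) = m ∧ T.m (σ 3) = 2 * m ∧ T.w (σ 0) = 2 * w ∧ T.w (σ 1) = 2 * w ∧ T.w (σ 2) = 2 * w ∧ T.w (σ 3) = w ∧ T.a (σ 0) (σ 0) = -4 * w ∧ T.a (σ 0) (σ 1) = 2 * w ∧ T.a (σ 0) (σ 2) = 2 * w ∧ T.a (σ 0) (σ 3) = 2 * w ∧ T.a (σ 1) (σ 1) = -4 * w ∧ T.a (σ 1) (σ 2) = 0 ∧ T.a (σ 1) (σ 3) = 0 ∧ T.a (σ 2) (σ 2) = -4 * w ∧ T.a (σ 2) (σ 3) = 0 ∧ T.a (σ 3) (σ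 3) = -2 * w)) := by
  obtain ⟨hg0, hd, hC⟩ := NT93.genusOne (by omega) hmin hg
  refine ⟨hg0, ?_⟩
  rcases hC with h | h | h | h | ⟨h', h⟩ | ⟨h', h⟩ | ⟨h', h⟩ | ⟨h', h⟩ | ⟨h', h⟩ | ⟨h', h⟩ | ⟨h', h⟩ | ⟨h', h⟩ | ⟨h', h⟩ | ⟨h', h⟩
  · obtain ⟨σ, m, w, hm, hw, he⟩ := h.perm (Equiv.refl (Fin 4))
    refine ⟨σ, m, w, Or.inl (?_)⟩
    repeat' (first | refine ⟨?_, ?_⟩ | rw [hm] | rw [hd, hw] | rw [hw] | rw [he _ _ (by decide)])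
    all_goals simp [NT93.eA, NT93.one]
    all_goals ring
  · obtain ⟨σ, m, w, hm, hw, he⟩ := h.perm (Equiv.refl (Fin 4))
    refine ⟨σ, m, w, Or.inr (Or.inl (?_))⟩
    repeat' (first | refine ⟨?_, ?_⟩ | rw [hm] | rw [hd, hw] | rw [hw] | rw [he _ _ (by decide)])
    all_goals simp [NT93.eBC, NT93.xBC, NT93.wBC]
    all_goals ring
  · obtain ⟨σ, m, w, hm, hw, he⟩ := h.perm (Equiv.refl (Fin 4))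
    refine ⟨σ, m, w, Or.inr (Or.inr (Or.inl (?_)))⟩
    repeat' (first | refine ⟨?_, ?_⟩ | rw [hm] | rw [hd, hw] | rw [hw] | rw [he _ _ (by decide)])
    all_goals simp [NT93.eC1, NT93.one, NT93.wC1]
    all_goals ring
  · obtain ⟨σ, m, w, hm, hw, he⟩ := h.perm (Equiv.refl (Fin 4))
    refine ⟨σ, m, w, Or.inr (Or.inr (Or.inr (Or.inl (?_))))⟩
    repeat' (first | refine ⟨?_, ?_⟩ | rw [hm] | rw [hd, hw] | rw [hw] | rw [he _ _ (by decide)])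
    all_goals simp [NT93.eC2, NT93.xC2, NT93.wC2]
    all_goals ring
  · obtain ⟨σ, m, w, hm, hw, he⟩ := h.perm (⟨![1, 2, 3, 0], ![3, 0, 1, 2], by decide, by decide⟩ : Equiv.Perm (Fin 4))
    refine ⟨σ, m, w, Or.inr (Or.inr (Or.inr (Or.inr (Or.inl (?_)))))⟩
    repeat' (first | refine ⟨?_, ?_⟩ | rw [hm] | rw [hd, hw] | rw [hw] | rw [he _ _ (by decide)])
    all_goals simp [NT93.eB1, NT93.xB1, NT93.wB1, NT93.bE]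
    all_goals ring
  · obtain ⟨σ, m, w, hm, hw, he⟩ := h.perm (⟨![1, 2, 3, 0], ![3, 0, 1, 2], by decide, by decide⟩ : Equiv.Perm (Fin 4))
    refine ⟨σ, m, w, Or.inr (Or.inr (Or.inr (Or.inr (Or.inr (?_)))))⟩
    repeat' (first | refine ⟨?_, ?_⟩ | rw [hm] | rw [hd, hw] | rw [hw] | rw [he _ _ (by decide)])
    all_goals simp [NT93.eB2, NT93.xB2, NT93.wB2, NT93.bE]
    all_goals ring
  · omega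
  · omega
  · omega
  · omega
  · omega
  · omega
  · omega
  · omega

end Groth.Agent.S7364
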