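import Groth.Statements.S7386
import Groth.Agent.Pts57.GenericAffine

set_option autoImplicit false
universe u
open CategoryTheory AlgebraicGeometry
open Mor

namespace Groth.Agent.S7386

/-- Let `X` be a quasi-separated scheme, `η_1, …, η_n` generic points of irreducible components of `X`
and `x` any point of `X`. Then some affine open of `X` contains `x` and all the `η_i`. -/
theorem result (X : Scheme.{u}) [QuasiSeparatedSpace X] {n : ℕ}
    (η : Fin n → X) (hη : ∀ i, closure ({η i} : Set X) ∈ irreducibleComponents (X : Type u)) (x : X) :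
    ∃ U : X.Opens, IsAffineOpen U ∧ x ∈ U ∧ ∀ i, η i ∈ U := by
  classical
  obtain ⟨_, ⟨V, hV, rfl⟩, hxV, -⟩ :=
    X.isBasis_affineOpens.exists_subset_of_mem_open (Set.mem_univ x) isOpen_univ
  obtain ⟨U, hU, hVU, hE⟩ := Pts57.exists_affine_insert hV (Finset.univ.image η) (fun y hy => by
    obtain ⟨i, -, rfl⟩ := Finset.mem_image.1 hy; exact hη i)
  exact ⟨U, hU, hVU hxV, fun i => hE (by simp)⟩

end Groth.Agent.S7386
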