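import Groth.Statements.S7387


set_option autoImplicit false
universe u
open CategoryTheory AlgebraicGeometry
open Mor

namespace Groth.Agent.S7387

open CategoryTheory.Limits

/-- A quasi-compact scheme has a dense open subscheme which is separated. -/
theorem result (X : Scheme.{u}) [CompactSpace X] :
    ∃ V : X.Opens, Dense (V : Set X) ∧ (V : Scheme.{u}).IsSeparated := by
  obtain ⟨n, U, hU⟩ : ∃ (n : ℕ) (U : Fin n → X.Opens), (∀ i, IsAffineOpen (U i)) ∧ ∀ x, ∃ i, x ∈ U i := by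
    let 𝒰 := X.affineCover.finiteSubcover
    obtain ⟨n, ⟨e⟩⟩ := Finite.exists_equiv_fin 𝒰.I₀
    refine ⟨n, fun i => (𝒰.f (e.symm i)).opensRange, fun i => isAffineOpen_opensRange _, fun x => ?_⟩
    obtain ⟨y, hy⟩ := 𝒰.covers x
    exact ⟨e (𝒰.idx x), show x ∈ (𝒰.f (e.symm (e (𝒰.idx x)))).opensRange from (e.symm_apply_apply (𝒰.idx x)).symm ▸ ⟨y, hy⟩⟩
  let W : Fin n → X.Opens := fun i =>
    ⟨(U i : Set X) \ closure (⋃ j : {j // j < i}, (U j.1 : Set X)), (U i).2.sdiff isClosed_closure⟩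
  have hdis : ∀ i j x, x ∈ W i → x ∈ W j → i = j := by
    intro i j x hi hj
    rcases lt_trichotomy i j with h | h | h
    · exact absurd (subset_closure (Set.mem_iUnion.2 ⟨⟨i, h⟩, hi.1⟩)) hj.2
    · exact h
    · exact absurd (subset_closure (Set.mem_iUnion.2 ⟨⟨j, h⟩, hj.1⟩)) hi.2
  let V : X.Opens := ⨆ i, W i
  refine ⟨V, ?_, ?_⟩
  · intro x
    rw [mem_closure_iff]
    intro O hO hxO
    have hex : ∃ i : Fin n, (O ∩ (U i : Set X)).Nonempty := by
      obtain ⟨i, hi⟩ := hU.2 x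
      exact ⟨i, x, hxO, hi⟩
    classical
    obtain ⟨i, hi, hmin⟩ := WellFounded.has_min wellFounded_lt {i : Fin n | (O ∩ (U i : Set X)).Nonempty} hex
    obtain ⟨y, hyO, hyU⟩ := hi
    refine ⟨y, hyO, TopologicalSpace.Opens.mem_iSup.2 ⟨i, hyU, fun hy => ?_⟩⟩
    obtain ⟨z, hzO, hz⟩ := mem_closure_iff.1 hy O hO hyO
    obtain ⟨j, hj⟩ := Set.mem_iUnion.1 hz
    exact hmin j.1 ⟨z, hzO, hj⟩ j.2
  · let P := pullback (terminal.from (V : Scheme.{u})) (terminal.from (V : Scheme.{u}))
    refine ⟨⟨?_⟩⟩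
    apply IsClosedImmersion.of_isPreimmersion
    rw [← isOpen_compl_iff, isOpen_iff_forall_mem_open]
    intro z hz
    let p₁ := pullback.fst (terminal.from (V : Scheme.{u})) (terminal.from (V : Scheme.{u}))
    let p₂ := pullback.snd (terminal.from (V : Scheme.{u})) (terminal.from (V : Scheme.{u}))
    obtain ⟨i, hi⟩ := TopologicalSpace.Opens.mem_iSup.1 (p₁ z).2
    obtain ⟨j, hj⟩ := TopologicalSpace.Opens.mem_iSup.1 (p₂ z).2
    by_cases hij : i = j
    · subst hij
      let A : (V : Scheme.{u}).Opens := V.ι ⁻¹ᵁ W i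
      have hA : Scheme.IsSeparated (A : Scheme.{u}) := by
        haveI : IsAffine (U i : Scheme.{u}) := hU.1 i
        haveI : Scheme.IsSeparated (U i : Scheme.{u}) := inferInstance
        let g : (A : Scheme.{u}) ⟶ U i := IsOpenImmersion.lift (U i).ι (A.ι ≫ V.ι) (by
          rintro _ ⟨a, rfl⟩
          simp only [Scheme.Opens.range_ι, Scheme.Hom.comp_apply]
          exact (show W i ≤ U i from fun _ h => h.1) a.2)
        have hg : g ≫ (U i).ι = A.ι ≫ V.ι := IsOpenImmersion.lift_fac _ _ _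
        haveI : IsOpenImmersion (g ≫ (U i).ι) := by rw [hg]; infer_instance
        haveI : IsOpenImmersion g := .of_comp g (U i).ι
        exact ⟨by rw [← terminal.comp_from g]; infer_instance⟩
      let m := pullback.map (terminal.from (A : Scheme.{u})) (terminal.from (A : Scheme.{u}))
        (terminal.from (V : Scheme.{u})) (terminal.from (V : Scheme.{u})) A.ι A.ι (𝟙 _)
        (Subsingleton.elim _ _) (Subsingleton.elim _ _)
      have hm : Set.range m = p₁ ⁻¹' (Set.range A.ι) ∩ p₂ ⁻¹' (Set.range A.ι) :=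
        Scheme.Pullback.range_map ..
      haveI := hA.isSeparated_terminal_from
      have hcl : IsClosed (Set.range (pullback.diagonal (terminal.from (A : Scheme.{u})))) :=
        (pullback.diagonal (terminal.from (A : Scheme.{u}))).isClosedEmbedding.isClosed_range
      have hdm : pullback.diagonal (terminal.from (A : Scheme.{u})) ≫ m =
          A.ι ≫ pullback.diagonal (terminal.from (V : Scheme.{u})) := by
        apply pullback.hom_ext
        · rw [Category.assoc, Category.assoc, pullback.diagonal_fst, pullback.lift_fst,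
            pullback.diagonal_fst_assoc, Category.comp_id]
        · rw [Category.assoc, Category.assoc, pullback.diagonal_snd, pullback.lift_snd,
            pullback.diagonal_snd_assoc, Category.comp_id]
      refine ⟨m '' (Set.range (pullback.diagonal (terminal.from (A : Scheme.{u}))))ᶜ, ?_,
        m.isOpenEmbedding.isOpenMap _ hcl.isOpen_compl, ?_⟩
      · rintro _ ⟨w, hw, rfl⟩ ⟨v, hv⟩
        obtain ⟨a, ha⟩ : v ∈ Set.range A.ι := by
          have h1 : p₁ (m w) ∈ Set.range A.ι := (hm.subset ⟨w, rfl⟩).1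
          rw [← hv, ← Scheme.Hom.comp_apply, pullback.diagonal_fst] at h1
          simpa using h1
        refine hw ⟨a, m.isOpenEmbedding.injective ?_⟩
        rw [← hv, ← ha]
        exact congr(($hdm) a)
      · obtain ⟨w, hw⟩ : z ∈ Set.range m := hm.symm.subset
          ⟨⟨⟨p₁ z, hi⟩, rfl⟩, ⟨⟨p₂ z, hj⟩, rfl⟩⟩
        refine ⟨w, fun ⟨a, ha⟩ => hz ⟨A.ι a, ?_⟩, hw⟩
        rw [← hw, ← ha]
        exact congr(($hdm) a).symm
    · refine ⟨p₁ ⁻¹' (V.ι ⁻¹ᵁ W i : Set V) ∩ p₂ ⁻¹' (V.ι ⁻¹ᵁ W j : Set V), ?_,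
        ((V.ι ⁻¹ᵁ W i).2.preimage p₁.continuous).inter ((V.ι ⁻¹ᵁ W j).2.preimage p₂.continuous), hi, hj⟩
      rintro _ ⟨h1, h2⟩ ⟨v, rfl⟩
      rw [Set.mem_preimage, ← Scheme.Hom.comp_apply, pullback.diagonal_fst] at h1
      rw [Set.mem_preimage, ← Scheme.Hom.comp_apply, pullback.diagonal_snd] at h2
      exact hij (hdis i j _ (by simpa using h1) (by simpa using h2))

end Groth.Agent.S7387
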