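import Groth.Statements.S7388
import Groth.Agent.Var76.HomAvoid

set_option autoImplicit false
universe u
open CategoryTheory AlgebraicGeometry
open Mor

namespace Groth.Agent.S7388

/-- Let `X` be a scheme admitting an immersion into `Proj S` for some graded ring `S`. Then any finite
set of points of `X` is contained in an affine open of `X`. -/
theorem result {R A : Type u} [CommRing R] [CommRing A] [Algebra R A]
    (𝒜 : ℕ → Submodule R A) [GradedAlgebra 𝒜] {X : Scheme.{u}} (ι : X ⟶ Proj 𝒜) [IsImmersion ι]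
    (E : Set X) (hE : E.Finite) :
    ∃ U : X.Opens, IsAffineOpen U ∧ E ⊆ U := by
  classical
  let C : Set (Proj 𝒜) := ((ι.coborderRange : (Proj 𝒜).Opens) : Set (Proj 𝒜))ᶜ
  let I := ProjectiveSpectrum.vanishingIdeal (𝒜 := 𝒜) C
  let P : Finset (ProjectiveSpectrum 𝒜) := hE.toFinset.image (fun x => (ι x : ProjectiveSpectrum 𝒜))
  have hP : ∀ p ∈ P, ¬ I.toIdeal ≤ p.asHomogeneousIdeal.toIdeal := by
    intro p hp hle
    obtain ⟨x, -, rfl⟩ := Finset.mem_image.1 hp
    have hmem : (ι x : ProjectiveSpectrum 𝒜) ∈ ProjectiveSpectrum.zeroLocus 𝒜 (I : Set A) := hle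
    have hmem' : ι x ∈ C := (ι.coborderRange.2.isClosed_compl).closure_eq.subset
      ((ProjectiveSpectrum.zeroLocus_vanishingIdeal_eq_closure 𝒜 C).subset hmem)
    exact hmem' (subset_coborder ⟨x, rfl⟩)
  obtain ⟨d, h, hd, hh, hhI, hhP⟩ := Var76.HomAvoid.exists_avoid I P hP
  have hle : Proj.basicOpen 𝒜 h ≤ ι.coborderRange := by
    intro z hz
    by_contra hzC
    exact hz ((ProjectiveSpectrum.mem_vanishingIdeal (𝒜 := 𝒜) C h).1 hhI z hzC)
  refine ⟨ι ⁻¹ᵁ Proj.basicOpen 𝒜 h, ?_, fun x hx =>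
    hhP _ (Finset.mem_image.2 ⟨x, hE.mem_toFinset.2 hx, rfl⟩)⟩
  have h1 : IsAffineOpen (ι.coborderRange.ι ⁻¹ᵁ Proj.basicOpen 𝒜 h) :=
    (Proj.isAffineOpen_basicOpen 𝒜 h hh hd).preimage_of_isOpenImmersion _ (by simpa using hle)
  rw [← ι.liftCoborder_ι, Scheme.Hom.comp_preimage]
  exact h1.preimage _

end Groth.Agent.S7388
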