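import Groth.Statements.S7389


set_option autoImplicit false
universe u
open CategoryTheory AlgebraicGeometry
open Mor

namespace Groth.Agent.S7389

/-- Let `X` be a scheme admitting an immersion into an affine scheme. Then any finite set of points of
`X` is contained in an affine open of `X`. -/
theorem result {X Y : Scheme.{u}} [IsAffine Y] (ι : X ⟶ Y)
    [IsImmersion ι] (E : Set X) (hE : E.Finite) :
    ∃ U : X.Opens, IsAffineOpen U ∧ E ⊆ U := by
  classical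
  let C : Set Y := ((ι.coborderRange : Y.Opens) : Set Y)ᶜ
  obtain ⟨g, hgE, hgle⟩ : ∃ g : Γ(Y, ⊤), (∀ x ∈ E, ι x ∈ Y.basicOpen g) ∧ Y.basicOpen g ≤ ι.coborderRange := by
    let J : Ideal Γ(Y, ⊤) := PrimeSpectrum.vanishingIdeal (Y.isoSpec.hom '' C)
    let P : Set (PrimeSpectrum Γ(Y, ⊤)) := (fun x => Y.isoSpec.hom (ι x)) '' E
    have hC : IsClosed (Y.isoSpec.hom '' C) :=
      (Scheme.homeoOfIso Y.isoSpec).isClosedMap _ ι.coborderRange.2.isClosed_compl
    have hJ : ∀ p ∈ P, ¬ J ≤ p.asIdeal := by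
      rintro p ⟨x, hx, rfl⟩ hle
      have : Y.isoSpec.hom (ι x) ∈ PrimeSpectrum.zeroLocus (J : Set Γ(Y, ⊤)) := hle
      rw [PrimeSpectrum.zeroLocus_vanishingIdeal_eq_closure] at this
      obtain ⟨y, hy, hyx⟩ : Y.isoSpec.hom (ι x) ∈ Y.isoSpec.hom '' C := hC.closure_eq.subset this
      obtain rfl := Y.isoSpec.hom.isOpenEmbedding.injective hyx
      exact hy (subset_coborder ⟨x, rfl⟩)
    obtain ⟨g, hgJ, hg⟩ : ∃ g ∈ J, ∀ p ∈ P, g ∉ p.asIdeal := by
      by_contra hne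
      push Not at hne
      obtain ⟨q, ⟨p, hp, rfl⟩, hle⟩ := (Ideal.subset_union_prime_finite
        ((hE.image _).image PrimeSpectrum.asIdeal) (f := fun q => q) (⊤ : Ideal Γ(Y, ⊤)) ⊤
        (fun q hq _ _ => by obtain ⟨p, -, rfl⟩ := hq; exact p.2)).1 (fun g hg => by
          obtain ⟨p, hp, hgp⟩ := hne g hg
          exact Set.mem_biUnion (Set.mem_image_of_mem _ hp) hgp)
      exact hJ p hp hle
    have hb : ∀ y, y ∈ Y.basicOpen g ↔ g ∉ (Y.isoSpec.hom y).asIdeal := fun y => by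
      rw [← Scheme.toSpecΓ_preimage_basicOpen]
      rfl
    refine ⟨g, fun x hx => (hb _).2 (hg _ ⟨x, hx, rfl⟩), fun y hy => ?_⟩
    by_contra hyC
    exact (hb y).1 hy ((PrimeSpectrum.mem_vanishingIdeal _ _).1 hgJ _ ⟨y, hyC, rfl⟩)
  refine ⟨ι ⁻¹ᵁ Y.basicOpen g, ?_, hgE⟩
  have h1 : IsAffineOpen (ι.coborderRange.ι ⁻¹ᵁ Y.basicOpen g) :=
    ((isAffineOpen_top Y).basicOpen g).preimage_of_isOpenImmersion _ (by simpa using hgle)
  rw [← ι.liftCoborder_ι, Scheme.Hom.comp_preimage]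
  exact h1.preimage _

end Groth.Agent.S7389
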