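import Groth.Statements.S7392
import Groth.Agent.Mods57.ProjLocal

set_option autoImplicit false
universe u
open CategoryTheory AlgebraicGeometry
open Opposite
open Mor

namespace Groth.Agent.S7392

/-- For a ring `A` and an `A`-module `M`, the module `M~` on `Spec A` is locally projective (projective
sections over every affine open) if and only if `M` is a projective `A`-module. -/
theorem result (A : CommRingCat.{u}) (M : ModuleCat.{u} A) :
    (∀ U : (Spec A).Opens, IsAffineOpen U →
      Module.Projective ((Spec A).ringCatSheaf.obj.obj (op U)) ((tilde M).val.obj (op U))) ↔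
      Module.Projective A M := by
  haveI : (tilde M).IsQuasicoherent := inferInstance
  let σ : A ≃+* Γ(Spec A, ⊤) := (Scheme.ΓSpecIso A).symm.commRingCatIsoToRingEquiv
  haveI h₁ : RingHomInvPair (σ : A →+* Γ(Spec A, ⊤)) (σ.symm : Γ(Spec A, ⊤) →+* A) := RingHomInvPair.of_ringEquiv σ
  haveI h₂ : RingHomInvPair (σ.symm : Γ(Spec A, ⊤) →+* A) (σ : A →+* Γ(Spec A, ⊤)) := RingHomInvPair.of_ringEquiv σ.symm
  let e : M ≃ₛₗ[(σ : A →+* Γ(Spec A, ⊤))] Γ(tilde M, ⊤) :=
    { (tilde.isoTop M).toLinearEquiv.toAddEquiv with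
      map_smul' := fun r m => (tilde.isoTop M).toLinearEquiv.map_smul r m }
  constructor
  · intro h
    haveI : Module.Projective Γ(Spec A, ⊤) Γ(tilde M, ⊤) := h ⊤ (isAffineOpen_top _)
    exact Module.Projective.of_equiv e.symm
  · intro h U hU
    haveI : Module.Projective Γ(Spec A, ⊤) Γ(tilde M, ⊤) := Module.Projective.of_equiv e
    exact Mods57.projective_of_openCover (tilde M) (fun _ : PUnit.{u+1} => (⊤ : (Spec A).Opens)) (by simp)
      (fun _ => isAffineOpen_top _) (fun _ => inferInstance) hU

end Groth.Agent.S7392
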