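import Groth.Statements.S7397
import Groth.Agent.UH57.Cl

set_option autoImplicit false
universe u
open Mor

namespace Groth.Agent.S7397

/-- Let `A ⊆ B` be a ring extension and `b ∈ B`, `b ∉ A`, with `b^n, b^(n+1) ∈ A` for some `n ≥ 2`. Then
some `b' ∈ B` with `b' ∉ A` has `b'^2 ∈ A` and `b'^3 ∈ A`. -/
theorem result {B : Type u} [CommRing B] (A : Subring B) (b : B) (hb : b ∉ A)
    (n : ℕ) (hn : 2 ≤ n) (h1 : b ^ n ∈ A) (h2 : b ^ (n + 1) ∈ A) :
    ∃ b' : B, b' ∉ A ∧ b' ^ 2 ∈ A ∧ b' ^ 3 ∈ A := by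
  refine Groth.Agent.UH57.exists_sq_cube_of_pow A hb (n * n) fun m hm => ?_
  obtain ⟨d, rfl⟩ := Nat.exists_eq_add_of_le hm
  induction d using Nat.strong_induction_on with
  | _ d ih =>
    rcases lt_or_ge d n with hd | hd
    · rw [show n * n + d = (n - d) * n + d * (n + 1) by
        obtain ⟨e, rfl⟩ := Nat.exists_eq_add_of_le hd.le
        rw [Nat.add_sub_cancel_left]; ring]
      rw [pow_add, mul_comm _ n, mul_comm d, pow_mul, pow_mul]
      exact mul_mem (pow_mem h1 _) (pow_mem h2 _)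
    · obtain ⟨e, rfl⟩ := Nat.exists_eq_add_of_le hd
      rw [show n * n + (n + e) = n * n + e + n by ring, pow_add]
      exact mul_mem (ih e (by omega) (Nat.le_add_right _ _)) h1

end Groth.Agent.S7397
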