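import Groth.Statements.S7401
import Groth.Agent.UH57.Cl

set_option autoImplicit false
universe u
open CategoryTheory AlgebraicGeometry
open Mor

namespace Groth.Agent.S7401

/-- Let `A ⊆ B` be a ring extension. Then `Spec B → Spec A` is a universal homeomorphism if and only if
every finite subset of `B` lies in a subextension `A[b_1, …, b_n]` such that for each `i` either
`b_i^2, b_i^3 ∈ A[b_1, …, b_{i-1}]` or there is a prime number `p` with `p b_i, b_i^p ∈ A[b_1, …,
b_{i-1}]`. -/
theorem result {A B : Type u} [CommRing A] [CommRing B] [Algebra A B]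
    (hinj : Function.Injective (algebraMap A B)) :
    FlatMor.IsUnivHomeo (Spec.map (CommRingCat.ofHom (algebraMap A B))) ↔
    ∀ E : Finset B, ∃ l : List B, (↑E : Set B) ⊆ Algebra.adjoin A {b : B | b ∈ l} ∧
      ∀ i : Fin l.length,
        (l.get i ^ 2 ∈ Algebra.adjoin A {b : B | ∃ j : Fin l.length, j < i ∧ b = l.get j} ∧
          l.get i ^ 3 ∈ Algebra.adjoin A {b : B | ∃ j : Fin l.length, j < i ∧ b = l.get j}) ∨
        ∃ p : ℕ, p.Prime ∧ (p : B) * l.get i ∈ Algebra.adjoin A {b : B | ∃ j : Fin l.length, j < i ∧ b = l.get j} ∧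
          l.get i ^ p ∈ Algebra.adjoin A {b : B | ∃ j : Fin l.length, j < i ∧ b = l.get j} := by
  rw [Groth.Agent.UH57.isUnivHomeo_iff]
  have key : ∀ (l : List B), (∀ i : Fin l.length,
      (l.get i ^ 2 ∈ Algebra.adjoin A {b : B | ∃ j : Fin l.length, j < i ∧ b = l.get j} ∧
        l.get i ^ 3 ∈ Algebra.adjoin A {b : B | ∃ j : Fin l.length, j < i ∧ b = l.get j}) ∨
        ∃ p : ℕ, p.Prime ∧ (p : B) * l.get i ∈ Algebra.adjoin A {b : B | ∃ j : Fin l.length, j < i ∧ b = l.get j} ∧
          l.get i ^ p ∈ Algebra.adjoin A {b : B | ∃ j : Fin l.length, j < i ∧ b = l.get j}) ↔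
      Groth.Agent.UH57.Tower True A l := by
    intro l
    rw [Groth.Agent.UH57.tower_iff]
    exact forall_congr' fun i => by simp [Groth.Agent.UH57.Step]
  constructor
  · rintro ⟨hi, hri, -⟩ E
    obtain ⟨l, hl, hE⟩ := Groth.Agent.UH57.exists_tower_finset
      (hp := True) (Groth.Agent.UH57.all_of_ri (.inl trivial) hi hri) E
    exact ⟨l, hE, (key l).2 hl⟩
  · intro h
    have hall : ∀ b : B, Groth.Agent.UH57.InCl True A b := fun b => by
      obtain ⟨l, hE, hl⟩ := h {b}
      exact ((key l).1 hl).inCl b (hE (by simp))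
    exact ⟨Groth.Agent.UH57.integral_of_all hall, Groth.Agent.UH57.ri_of_all hall,
      by rw [(RingHom.injective_iff_ker_eq_bot _).1 hinj]; exact bot_le⟩

end Groth.Agent.S7401
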