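import Groth.Statements.S7402
import Groth.Agent.UH57.Adjoin

set_option autoImplicit false
universe u
open CategoryTheory AlgebraicGeometry
open Polynomial
open Mor

namespace Groth.Agent.S7402

/-- Let `A` be a ring and `x, y ∈ A` with `x^3 = y^2`. Then `A → B = A[t]/(t^2 - x, t^3 - y)` induces a
universal homeomorphism on spectra and isomorphisms on residue fields. -/
theorem result (A : Type u) [CommRing A] (x y : A) (h : x ^ 3 = y ^ 2) :
    FlatMor.IsUnivHomeo (Spec.map (CommRingCat.ofHom (algebraMap A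
      (A[X] ⧸ Ideal.span ({X ^ 2 - C x, X ^ 3 - C y} : Set A[X]))))) ∧
    ∀ q : Spec (CommRingCat.of (A[X] ⧸ Ideal.span ({X ^ 2 - C x, X ^ 3 - C y} : Set A[X]))),
      Function.Surjective ((Spec.map (CommRingCat.ofHom (algebraMap A
        (A[X] ⧸ Ideal.span ({X ^ 2 - C x, X ^ 3 - C y} : Set A[X]))))).residueFieldMap q) := by
  rw [Groth.Agent.UH57.isUnivHomeo_iff, Groth.Agent.UH57.residueFieldMap_surjective_iff]
  set I : Ideal A[X] := Ideal.span ({X ^ 2 - C x, X ^ 3 - C y} : Set A[X])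
  have e : ∀ (n : ℕ) (z : A), X ^ n - C z ∈ I →
      (Ideal.Quotient.mk I X) ^ n = algebraMap A (A[X] ⧸ I) z := fun n z hz => by
    rw [← map_pow]; exact Ideal.Quotient.eq.2 hz
  have hall := Groth.Agent.UH57.all_inCl_quotient (hp := False) I
    (.sq (by rw [e 2 x (Ideal.subset_span (by simp))]; exact .alg x)
      (by rw [e 3 y (Ideal.subset_span (by simp))]; exact .alg y))
  refine ⟨⟨Groth.Agent.UH57.integral_of_all hall, Groth.Agent.UH57.ri_of_all hall,
    Groth.Agent.UH57.ker_le_nilradical_quotient I fun K _ _ g => ?_⟩,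
    Groth.Agent.UH57.tr_of_all not_false hall⟩
  have hg : g x ^ 3 = g y ^ 2 := by rw [← map_pow, ← map_pow, h]
  by_cases hx : g x = 0
  · refine ⟨0, Ideal.span_le.2 ?_⟩
    have hy : g y = 0 := by
      rw [hx, zero_pow three_ne_zero] at hg
      exact (pow_eq_zero_iff two_ne_zero).1 hg.symm
    rintro _ (rfl | rfl) <;> simp [hx, hy]
  · refine ⟨g y / g x, Ideal.span_le.2 ?_⟩
    have h1 : (g y / g x) ^ 2 = g x := by
      rw [div_pow, div_eq_iff (pow_ne_zero _ hx), ← hg]; ring
    have h2 : (g y / g x) ^ 3 = g y := by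
      rw [pow_succ, h1, mul_div_cancel₀ _ hx]
    rintro _ (rfl | rfl) <;> simp [h1, h2]

end Groth.Agent.S7402
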