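import Groth.Statements.S7403
import Groth.Agent.UH57.Adjoin

set_option autoImplicit false
universe u
open CategoryTheory AlgebraicGeometry
open Polynomial
open Mor

namespace Groth.Agent.S7403

/-- Let `A` be a ring, `p` a prime number and `x, y ∈ A` with `p^p x = y^p`. Then `A → B = A[t]/(t^p -
x, p t - y)` induces a universal homeomorphism on spectra. -/
theorem result (A : Type u) [CommRing A] (p : ℕ) (hp : p.Prime) (x y : A)
    (h : (p : A) ^ p * x = y ^ p) :
    FlatMor.IsUnivHomeo (Spec.map (CommRingCat.ofHom (algebraMap A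
      (A[X] ⧸ Ideal.span ({X ^ p - C x, C (p : A) * X - C y} : Set A[X]))))) := by
  rw [Groth.Agent.UH57.isUnivHomeo_iff]
  set I : Ideal A[X] := Ideal.span ({X ^ p - C x, C (p : A) * X - C y} : Set A[X])
  have e1 : (Ideal.Quotient.mk I X) ^ p = algebraMap A (A[X] ⧸ I) x := by
    rw [← map_pow]; exact Ideal.Quotient.eq.2 (Ideal.subset_span (by simp))
  have e2 : (p : A[X] ⧸ I) * Ideal.Quotient.mk I X = algebraMap A (A[X] ⧸ I) y := by
    rw [← map_natCast (Ideal.Quotient.mk I), ← map_mul]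
    rw [← Polynomial.C_eq_natCast]
    exact Ideal.Quotient.eq.2 (Ideal.subset_span (by simp))
  have hall := Groth.Agent.UH57.all_inCl_quotient (hp := True) I
    (.pr p trivial hp (by rw [e2]; exact .alg y) (by rw [e1]; exact .alg x))
  refine ⟨Groth.Agent.UH57.integral_of_all hall, Groth.Agent.UH57.ri_of_all hall,
    Groth.Agent.UH57.ker_le_nilradical_quotient I fun K _ _ g => ?_⟩
  have hg : (p : K) ^ p * g x = g y ^ p := by
    rw [← map_natCast g, ← map_pow, ← map_mul, h, map_pow]
  by_cases hp0 : (p : K) = 0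
  · obtain ⟨τ, hτ⟩ := IsAlgClosed.exists_pow_nat_eq (g x) hp.pos
    have hy : g y = 0 := by
      rw [hp0, zero_pow hp.ne_zero, zero_mul] at hg
      exact (pow_eq_zero_iff hp.ne_zero).1 hg.symm
    refine ⟨τ, Ideal.span_le.2 ?_⟩
    rintro _ (rfl | rfl) <;> simp [hτ, hy, hp0]
  · refine ⟨g y / p, Ideal.span_le.2 ?_⟩
    have h1 : (g y / (p : K)) ^ p = g x := by
      rw [div_pow, div_eq_iff (pow_ne_zero _ hp0), ← hg, mul_comm]
    rintro _ (rfl | rfl) <;> simp [h1, mul_div_cancel₀ _ hp0]

end Groth.Agent.S7403
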