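import Groth.Statements.S7404
import Groth.Agent.UH57.Cl

set_option autoImplicit false
universe u
open CategoryTheory AlgebraicGeometry
open Mor

namespace Groth.Agent.S7404

/-- Let `A → B` be a ring map and `B' ⊆ B` an `A`-subalgebra, with `f : Spec B → Spec A` and `f' : Spec
B' → Spec A` the induced morphisms. Each of the following properties passes from `f` to `f'`: being
a universal homeomorphism; being a universal homeomorphism with trivial residue field extensions;
being universally closed; being both universally closed and universally injective. -/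
theorem result {A B : Type u} [CommRing A] [CommRing B] [Algebra A B]
    (B' : Subalgebra A B) :
    (FlatMor.IsUnivHomeo (Spec.map (CommRingCat.ofHom (algebraMap A B))) →
      FlatMor.IsUnivHomeo (Spec.map (CommRingCat.ofHom (algebraMap A B')))) ∧
    ((FlatMor.IsUnivHomeo (Spec.map (CommRingCat.ofHom (algebraMap A B))) ∧
      ∀ x : Spec (CommRingCat.of B),
        Function.Surjective ((Spec.map (CommRingCat.ofHom (algebraMap A B))).residueFieldMap x)) →
      FlatMor.IsUnivHomeo (Spec.map (CommRingCat.ofHom (algebraMap A B'))) ∧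
      ∀ x : Spec (CommRingCat.of B'),
        Function.Surjective ((Spec.map (CommRingCat.ofHom (algebraMap A B'))).residueFieldMap x)) ∧
    (UniversallyClosed (Spec.map (CommRingCat.ofHom (algebraMap A B))) →
      UniversallyClosed (Spec.map (CommRingCat.ofHom (algebraMap A B')))) ∧
    (UniversallyClosed (Spec.map (CommRingCat.ofHom (algebraMap A B))) →
      UniversallyInjective (Spec.map (CommRingCat.ofHom (algebraMap A B))) →
      UniversallyClosed (Spec.map (CommRingCat.ofHom (algebraMap A B'))) ∧
      UniversallyInjective (Spec.map (CommRingCat.ofHom (algebraMap A B')))) := by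
  rw [Groth.Agent.UH57.isUnivHomeo_iff, Groth.Agent.UH57.isUnivHomeo_iff,
    Groth.Agent.UH57.residueFieldMap_surjective_iff, Groth.Agent.UH57.residueFieldMap_surjective_iff,
    Groth.Agent.UH57.universallyClosed_iff, Groth.Agent.UH57.universallyClosed_iff,
    Groth.Agent.UH57.universallyInjective_iff, Groth.Agent.UH57.universallyInjective_iff]
  have hint : Algebra.IsIntegral A B → Algebra.IsIntegral A B' := fun h =>
    ⟨fun b => (isIntegral_algHom_iff B'.val Subtype.val_injective).1 (h.1 _)⟩
  have hlift : Algebra.IsIntegral A B → ∀ q : Ideal B', q.IsPrime →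
      ∃ Q : Ideal B, Q.IsPrime ∧ Q.comap (algebraMap B' B) = q := fun h q hq => by
    have : Algebra.IsIntegral B' B := Algebra.IsIntegral.tower_top A
    obtain ⟨Q, -, h1, h2⟩ := Ideal.exists_ideal_over_prime_of_isIntegral (S := B) q ⊥
      (fun x hx => by
        have : x = 0 := Subtype.ext hx
        rw [this]; exact zero_mem _)
    exact ⟨Q, h1, h2⟩
  have htr : Algebra.IsIntegral A B → Groth.Agent.UH57.TR A B →
      Groth.Agent.UH57.TR A B' := fun hi h q hq b => by
    obtain ⟨Q, hQ, rfl⟩ := hlift hi q hq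
    obtain ⟨a, s, hs, h⟩ := h Q hQ b
    exact ⟨a, s, hs, h⟩
  have hri : Algebra.IsIntegral A B → Groth.Agent.UH57.RI A B →
      Groth.Agent.UH57.RI A B' := by
    rintro hi ⟨hinj, hpi⟩
    refine ⟨fun q q' e => ?_, fun q hq b => ?_⟩
    · obtain ⟨Q, hQ, hQq⟩ := hlift hi _ q.isPrime
      obtain ⟨Q', hQ', hQq'⟩ := hlift hi _ q'.isPrime
      have := congrArg PrimeSpectrum.asIdeal (hinj (a₁ := ⟨Q, hQ⟩) (a₂ := ⟨Q', hQ'⟩) (by
        have h3 := congrArg PrimeSpectrum.asIdeal e
        simp only [PrimeSpectrum.comap_asIdeal, ← hQq, ← hQq'] at h3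
        exact PrimeSpectrum.ext h3))
      obtain rfl : Q = Q' := this
      exact PrimeSpectrum.ext (hQq.symm.trans hQq')
    · obtain ⟨Q, hQ, rfl⟩ := hlift hi q hq
      obtain ⟨a, s, hs, h⟩ := hpi Q hQ b
      refine ⟨a, s, hs, h.imp id fun ⟨ℓ, n, hℓ, hℓQ, h⟩ => ⟨ℓ, n, hℓ, ?_, h⟩⟩
      simpa using hℓQ
  have hker : RingHom.ker (algebraMap A B) ≤ nilradical A →
      RingHom.ker (algebraMap A B') ≤ nilradical A := fun h a ha => h (by
    rw [RingHom.mem_ker, IsScalarTower.algebraMap_apply A B' B, RingHom.mem_ker.1 ha, map_zero])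
  exact ⟨fun ⟨a, b, c⟩ => ⟨hint a, hri a b, hker c⟩,
    fun ⟨⟨a, b, c⟩, d⟩ => ⟨⟨hint a, hri a b, hker c⟩, htr a d⟩, hint,
    fun a b => ⟨hint a, hri a b⟩⟩

end Groth.Agent.S7404
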