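import Groth.Statements.S7412
import Groth.Agent.Desc59.UnivInj

set_option autoImplicit false
universe u
open Desc

namespace Groth.Agent.S7412

/-- Let `R` be a ring and `f : M → N` a map of `R`-modules. Then `f` is universally injective (`f ⊗ 1_P`
is injective for every `R`-module `P`; here `P` ranges over modules in the same universe, which
suffices) if and only if the map of character modules `C(N) → C(M)`, `C(-) = Hom_ℤ(-, ℚ/ℤ)`, is a
split surjection of `R`-modules. -/
theorem result {R : Type u} [CommRing R] {M N : Type u}
    [AddCommGroup M] [Module R M] [AddCommGroup N] [Module R N] (f : M →ₗ[R] N) :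
    (∀ (P : Type u) [AddCommGroup P] [Module R P], Function.Injective (f.lTensor P)) ↔
      ∃ g : CharacterModule M →ₗ[R] CharacterModule N, (CharacterModule.dual f).comp g = LinearMap.id := by
  exact ⟨fun h => Groth.Agent.Desc59.dualSplit_of_forall_injective_lTensor f h,
    fun h P _ _ => Groth.Agent.Desc59.DualSplit.injective_lTensor h P⟩

end Groth.Agent.S7412
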