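import Groth.Statements.S7413
import Groth.Agent.Mods57.ProjLocal
import Groth.Agent.QCPull72.Sections

set_option autoImplicit false
universe u
open CategoryTheory AlgebraicGeometry
open Opposite
open Mor

namespace Groth.Agent.S7413

/-- Let `f : X → Y` be a morphism of schemes and `G` a quasi-coherent, locally projective `O_Y`-module
(projective sections over every affine open). Then `f^* G` is locally projective on `X`. -/
theorem result {X Y : Scheme.{u}} (f : X ⟶ Y) (G : Y.Modules) [Coh.IsQCoh G]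
    (hG : ∀ V : Y.Opens, IsAffineOpen V → Module.Projective (Y.ringCatSheaf.obj.obj (op V)) (G.val.obj (op V)))
    (U : X.Opens) (hU : IsAffineOpen U) :
    Module.Projective (X.ringCatSheaf.obj.obj (op U)) (((Scheme.Modules.pullback f).obj G).val.obj (op U)) := by
  have key : ∀ x : X, ∃ (V : X.Opens) (W : Y.Opens), IsAffineOpen W ∧ IsAffineOpen V ∧ x ∈ V ∧ V ≤ f ⁻¹ᵁ W := by
    intro x
    obtain ⟨_, ⟨W, hW, rfl⟩, hxW, -⟩ :=
      Y.isBasis_affineOpens.exists_subset_of_mem_open (Set.mem_univ (f x)) isOpen_univ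
    obtain ⟨_, ⟨V, hV, rfl⟩, hxV, hVW⟩ :=
      X.isBasis_affineOpens.exists_subset_of_mem_open hxW (f ⁻¹ᵁ W).2
    exact ⟨V, W, hW, hV, hxV, hVW⟩
  choose V W hW hV hxV hle using key
  haveI := QCPull72.isQuasicoherent_pullback f G
  refine Mods57.projective_of_openCover _ V (eq_top_iff.2 fun x _ => TopologicalSpace.Opens.mem_iSup.2 ⟨x, hxV x⟩)
    hV (fun x => ?_) hU
  letI := (f.appLE (W x) (V x) (hle x)).hom.toAlgebra
  haveI : Module.Projective Γ(Y, W x) Γ(G, W x) := hG (W x) (hW x)
  exact Module.Projective.of_equiv (QCPull72.sectionsPullbackEquiv f G (hW x) (hV x) (hle x)).symm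

end Groth.Agent.S7413
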