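import Groth.Statements.S7415


set_option autoImplicit false
universe u
open CategoryTheory AlgebraicGeometry
open Mor

namespace Groth.Agent.S7415

/-- Let `X` be a reduced scheme with finitely many irreducible components and `x ∈ X`. Then `x` has an
affine open neighbourhood `U` such that `O_X(U) → O_{X,x}` is injective. -/
theorem result (X : Scheme.{u}) [AlgebraicGeometry.IsReduced X]
    (hirr : (irreducibleComponents (X : Type u)).Finite) (x : X) : X.IsGermInjectiveAt x := by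
  let bad : Set (Set X) := {Z ∈ irreducibleComponents X | x ∉ Z}
  have hbad : IsClosed (⋃₀ bad) := by
    rw [Set.sUnion_eq_biUnion]
    exact (hirr.subset fun Z hZ => hZ.1).isClosed_biUnion fun Z hZ =>
      isClosed_of_mem_irreducibleComponents Z hZ.1
  obtain ⟨_, ⟨U, hU, rfl⟩, hxU, hUsub⟩ := X.isBasis_affineOpens.exists_subset_of_mem_open
    (show x ∈ (⋃₀ bad)ᶜ from fun ⟨Z, hZ, hxZ⟩ => hZ.2 hxZ) hbad.isOpen_compl
  refine ⟨⟨U, hxU, hU, ?_⟩⟩
  rw [injective_iff_map_eq_zero]
  intro f hf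
  obtain ⟨W, hxW, i₁, i₂, e⟩ := X.presheaf.germ_eq x hxU hxU f 0 (hf.trans (map_zero _).symm)
  rw [map_zero] at e
  rw [← basicOpen_eq_bot_iff, eq_bot_iff]
  intro y hy
  exfalso
  obtain ⟨Z, hZ, hyZ⟩ : ∃ Z ∈ irreducibleComponents X, y ∈ Z :=
    ⟨_, irreducibleComponent_mem_irreducibleComponents y, mem_irreducibleComponent⟩
  have hxZ : x ∈ Z := by
    by_contra h
    exact hUsub (X.basicOpen_le f hy) ⟨Z, ⟨hZ, h⟩, hyZ⟩
  have hη := hZ.1.isGenericPoint_genericPoint (isClosed_of_mem_irreducibleComponents Z hZ)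
  have h1 : hZ.1.genericPoint ∈ W := (hη.specializes hxZ).mem_open W.2 hxW
  have h2 : hZ.1.genericPoint ∈ X.basicOpen f := (hη.specializes hyZ).mem_open (X.basicOpen f).2 hy
  have h3 : hZ.1.genericPoint ∈ W ⊓ X.basicOpen f := ⟨h1, h2⟩
  rw [← Scheme.basicOpen_res X f i₁.op, e, Scheme.basicOpen_zero] at h3
  exact h3

end Groth.Agent.S7415
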