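import Groth.Statements.S7416


set_option autoImplicit false
universe u
open CategoryTheory AlgebraicGeometry
open Mor

namespace Groth.Agent.S7416

/-- Let `U`, `V` be affine schemes and `W → U`, `W → V` open immersions. Then every `w ∈ W` has an open
neighbourhood `W' ⊆ W` whose images in `U` and in `V` are standard opens `D(f) ⊆ U`, `D(g) ⊆ V` (in
particular `W'` is affine). -/
theorem result {U V W : Scheme.{u}} [IsAffine U]
    [IsAffine V] (i : W ⟶ U) (j : W ⟶ V) [IsOpenImmersion i] [IsOpenImmersion j] (w : W) :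
    ∃ (W' : W.Opens) (f : Γ(U, ⊤)) (g : Γ(V, ⊤)), w ∈ W' ∧ i ''ᵁ W' = U.basicOpen f ∧ j ''ᵁ W' = V.basicOpen g := by
  obtain ⟨_, ⟨f, rfl⟩, hwf, hf⟩ := (isBasis_basicOpen U).exists_subset_of_mem_open
    (show i w ∈ Set.range i from ⟨w, rfl⟩) i.isOpenEmbedding.isOpen_range
    |> fun ⟨s, ⟨O, ⟨f, hf⟩, hs⟩, h1, h2⟩ => (⟨s, ⟨f, by rw [← hs, ← hf]⟩, h1, h2⟩ :
      ∃ s, (∃ f, (U.basicOpen f : Set U) = s) ∧ i w ∈ s ∧ s ⊆ Set.range i)
  let V₁ : W.Opens := i ⁻¹ᵁ U.basicOpen f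
  have hV₁ : i ''ᵁ V₁ = U.basicOpen f := by
    rw [Scheme.Hom.image_preimage_eq_opensRange_inf, inf_eq_right]
    exact hf
  obtain ⟨_, ⟨g, rfl⟩, hwg, hg⟩ := (isBasis_basicOpen V).exists_subset_of_mem_open
    (show j w ∈ ((j ''ᵁ V₁ : V.Opens) : Set V) from ⟨w, hwf, rfl⟩) (j ''ᵁ V₁).2
    |> fun ⟨s, ⟨O, ⟨g, hg⟩, hs⟩, h1, h2⟩ => (⟨s, ⟨g, by rw [← hs, ← hg]⟩, h1, h2⟩ :
      ∃ s, (∃ g, (V.basicOpen g : Set V) = s) ∧ j w ∈ s ∧ s ⊆ ((j ''ᵁ V₁ : V.Opens) : Set V))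
  have hle : V₁ ≤ j ⁻¹ᵁ ⊤ := fun _ _ => trivial
  let r : Γ(W, V₁) := j.appLE ⊤ V₁ hle g
  have hr : W.basicOpen r = j ⁻¹ᵁ V.basicOpen g := by
    simp only [r]; rw [Scheme.basicOpen_appLE, inf_eq_right]
    intro x hx
    obtain ⟨y, hy, hyx⟩ := hg hx
    exact j.isOpenEmbedding.injective hyx ▸ hy
  let s : Γ(U, U.basicOpen f) := U.presheaf.map (eqToHom hV₁.symm).op ((i.appIso V₁).inv r)
  have hs : U.basicOpen s = i ''ᵁ W.basicOpen r := by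
    simp only [s]; rw [Scheme.basicOpen_res_eq, Scheme.image_basicOpen]
  obtain ⟨f', hf'⟩ := (isAffineOpen_top U).basicOpen_basicOpen_is_basicOpen f s
  refine ⟨W.basicOpen r, f', g, hr ▸ hwg, ?_, ?_⟩
  · rw [← hs, hf']
  · rw [hr, Scheme.Hom.image_preimage_eq_opensRange_inf, inf_eq_right]
    exact hg.trans (Set.image_subset_range _ _)

end Groth.Agent.S7416
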