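import Groth.Statements.S7425
import Groth.Agent.AWN93.Existence
-- import your own Groth.Agent.* helpers here

set_option autoImplicit false
universe u
open CategoryTheory AlgebraicGeometry
open HTop

namespace Groth.Agent.S7425

/-- Let `ν : X^awn → X` be an absolute weak normalization and `π : Y → X` a universal homeomorphism.
Then `Y` is absolutely weakly normal exactly when the induced morphism `h : X^awn → Y` over `X` is
an isomorphism. -/
theorem result {X X' Y : Scheme.{u}} (ν : X' ⟶ X)
    (hν : HTop.IsAWNormalization ν) (π : Y ⟶ X) (hπ : FlatMor.IsUnivHomeo π) (h : X' ⟶ Y) (hh : h ≫ π = ν) :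
    IsIso h ↔ HTop.IsAWN Y := by
  obtain ⟨h1, h2⟩ := (Groth.Agent.AWN93.isAWNormalization_iff ν).1 hν
  refine ⟨fun _ => Groth.Agent.AWN93.isAWN_of_isIso h h2, fun hY => ?_⟩
  have := Groth.Agent.AWN93.isAWN_isReduced h2
  exact Groth.Agent.AWN93.isIso_of_uh_of_awn
    (Groth.Agent.AWN93.uh_of_comp_eq hπ (hh.symm ▸ h1)) hY

end Groth.Agent.S7425
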