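import Groth.Statements.S7426
import Groth.Agent.AWN93.Existence
-- import your own Groth.Agent.* helpers here

set_option autoImplicit false
universe u
open CategoryTheory AlgebraicGeometry
open HTop

namespace Groth.Agent.S7426

/-- For a scheme `X` the following are equivalent: `X` is absolutely weakly normal; `X^awn → X` is an
isomorphism (equivalently, the identity of `X` is an absolute weak normalization); every universal
homeomorphism `Y → X` with `Y` reduced is an isomorphism. -/
theorem result (X : Scheme.{u}) :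
    (HTop.IsAWN X ↔ HTop.IsAWNormalization (𝟙 X)) ∧
    (HTop.IsAWN X ↔ ∀ (Y : Scheme.{u}) (π : Y ⟶ X), FlatMor.IsUnivHomeo π → AlgebraicGeometry.IsReduced Y → IsIso π) := by
  refine ⟨⟨fun h => Groth.Agent.AWN93.isAWNormalization_of_awn (Groth.Agent.AWN93.uh_id X) h,
    fun h => ((Groth.Agent.AWN93.isAWNormalization_iff _).1 h).2⟩,
    ⟨fun h Y π hπ _ => Groth.Agent.AWN93.isIso_of_uh_of_awn hπ h, fun h => ?_⟩⟩
  obtain ⟨X', ν, h1, h2⟩ := Groth.Agent.AWN93.exists_awn X
  have := h X' ν h1 (Groth.Agent.AWN93.isAWN_isReduced h2)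
  exact Groth.Agent.AWN93.isAWN_of_isIso ν h2

end Groth.Agent.S7426
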