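import Groth.Statements.S7451
import Groth.Agent.Desc56.Elementary
import Mathlib.RingTheory.Ideal.MinimalPrime.Noetherian
import Mathlib.RingTheory.Polynomial.Basic

set_option autoImplicit false
universe u
open CategoryTheory AlgebraicGeometry
open Desc

namespace Groth.Agent.S7451

/-- Let `k` be a field and `n ≥ 2`. For `i ≠ j` and `d ≥ 0` let `T_{i,j,d}` be the automorphism of
`𝔸^n_k` given by `x_i ↦ x_i + x_j^d` and fixing the other coordinates. Let `W ⊆ 𝔸^n_k` be a nonempty
open subscheme with `T_{i,j,d}⁻¹(W) = W` for all `i, j, d`. Then either `W = 𝔸^n_k`, or `k` has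
prime characteristic `p` and the complement `𝔸^n_k ∖ W` consists of finitely many closed points,
each of whose coordinates `a` in the residue field satisfies `a^(p^m) = a` for some `m ≥ 1`
(equivalently, is algebraic over `𝔽_p`). -/
theorem result (k : Type u) [Field k] (n : ℕ) (hn : 2 ≤ n)
    (W : (Spec (CommRingCat.of (MvPolynomial (Fin n) k))).Opens)
    (hW : (W : Set ↥(Spec (CommRingCat.of (MvPolynomial (Fin n) k)))).Nonempty)
    (hinv : ∀ (i j : Fin n), i ≠ j → ∀ d : ℕ,
      (Spec.map (CommRingCat.ofHom (MvPolynomial.aeval (R := k)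
        (Function.update MvPolynomial.X i (MvPolynomial.X i + MvPolynomial.X j ^ d) :
          Fin n → MvPolynomial (Fin n) k)).toRingHom)) ⁻¹ᵁ W = W) :
    W = ⊤ ∨ ∃ p : ℕ, p.Prime ∧ CharP k p ∧ ((W : Set ↥(Spec (CommRingCat.of (MvPolynomial (Fin n) k))))ᶜ).Finite ∧
      ∀ x : ↥(Spec (CommRingCat.of (MvPolynomial (Fin n) k))),
        x ∉ (W : Set ↥(Spec (CommRingCat.of (MvPolynomial (Fin n) k)))) →
        IsClosed ({x} : Set ↥(Spec (CommRingCat.of (MvPolynomial (Fin n) k)))) ∧ ∀ i : Fin n, ∃ m : ℕ, 0 < m ∧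
          (algebraMap (MvPolynomial (Fin n) k) x.asIdeal.ResidueField (MvPolynomial.X i)) ^ (p ^ m) =
            algebraMap (MvPolynomial (Fin n) k) x.asIdeal.ResidueField (MvPolynomial.X i) := by
  classical
  obtain ⟨I, hI0⟩ : ∃ I : Ideal (MvPolynomial (Fin n) k), PrimeSpectrum.zeroLocus (I : Set _) =
      ((W : Set ↥(Spec (CommRingCat.of (MvPolynomial (Fin n) k)))))ᶜ := by
    refine ⟨PrimeSpectrum.vanishingIdeal
      ((W : Set ↥(Spec (CommRingCat.of (MvPolynomial (Fin n) k)))))ᶜ, ?_⟩
    rw [PrimeSpectrum.zeroLocus_vanishingIdeal_eq_closure]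
    exact W.isOpen.isClosed_compl.closure_eq
  have hne : I ≠ ⊥ := by
    rintro rfl
    obtain ⟨w, hw⟩ := hW
    have hw' : (w : PrimeSpectrum (MvPolynomial (Fin n) k)) ∈
        PrimeSpectrum.zeroLocus ((⊥ : Ideal (MvPolynomial (Fin n) k)) : Set _) := by
      simp [PrimeSpectrum.mem_zeroLocus]
      exact Set.mem_univ _
    rw [hI0] at hw'
    exact hw' hw
  have hst : Desc56.Stable I := by
    intro L _ _ a ha i j hij d f hf
    let φ : MvPolynomial (Fin n) k →ₐ[k] MvPolynomial (Fin n) k :=
      MvPolynomial.aeval (R := k)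
        (Function.update MvPolynomial.X i (MvPolynomial.X i + MvPolynomial.X j ^ d) :
          Fin n → MvPolynomial (Fin n) k)
    let y : PrimeSpectrum (MvPolynomial (Fin n) k) :=
      ⟨RingHom.ker (MvPolynomial.aeval a : MvPolynomial (Fin n) k →ₐ[k] L), RingHom.ker_isPrime _⟩
    have hy : y ∈ PrimeSpectrum.zeroLocus (I : Set _) := fun g hg => ha g hg
    have hy' : PrimeSpectrum.comap φ.toRingHom y ∈ PrimeSpectrum.zeroLocus (I : Set _) := by
      rw [hI0] at hy ⊢
      intro hmem
      apply hy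
      have h2 : (y : ↥(Spec (CommRingCat.of (MvPolynomial (Fin n) k)))) ∈
          (Spec.map (CommRingCat.ofHom φ.toRingHom)) ⁻¹ᵁ W := hmem
      rw [hinv i j hij d] at h2
      exact h2
    have hf' : MvPolynomial.aeval a (φ f) = 0 := hy' hf
    have hcomp : (MvPolynomial.aeval a).comp φ =
        MvPolynomial.aeval (Function.update a i (a i + a j ^ d)) := by
      apply MvPolynomial.algHom_ext
      intro l
      simp only [AlgHom.comp_apply, φ, MvPolynomial.aeval_X]
      by_cases hl : l = i
      · subst hl; simp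
      · simp [Function.update_of_ne hl]
    rw [← hcomp]
    exact hf'
  let a : (x : PrimeSpectrum (MvPolynomial (Fin n) k)) → Fin n → x.asIdeal.ResidueField :=
    fun x i => algebraMap (MvPolynomial (Fin n) k) x.asIdeal.ResidueField (MvPolynomial.X i)
  have hker : ∀ x : PrimeSpectrum (MvPolynomial (Fin n) k),
      RingHom.ker (MvPolynomial.aeval (a x) :
        MvPolynomial (Fin n) k →ₐ[k] x.asIdeal.ResidueField) = x.asIdeal := by
    intro x
    have : (MvPolynomial.aeval (a x) : MvPolynomial (Fin n) k →ₐ[k] x.asIdeal.ResidueField) =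
        IsScalarTower.toAlgHom k (MvPolynomial (Fin n) k) x.asIdeal.ResidueField := by
      apply MvPolynomial.algHom_ext
      intro l
      simp [a]
    rw [this]
    ext g
    simp
  have hvan : ∀ x : PrimeSpectrum (MvPolynomial (Fin n) k),
      x ∈ PrimeSpectrum.zeroLocus (I : Set _) → Desc56.Van I (a x) := by
    intro x hx f hf
    have : f ∈ x.asIdeal := hx hf
    rw [← hker x] at this
    exact this
  by_cases hempty : (PrimeSpectrum.zeroLocus (I : Set (MvPolynomial (Fin n) k))) = ∅
  · refine Or.inl ?_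
    rw [hempty] at hI0
    exact TopologicalSpace.Opens.ext (Set.compl_empty_iff.1 hI0.symm)
  right
  obtain ⟨x₀, hx₀⟩ := Set.nonempty_iff_ne_empty.2 hempty
  obtain ⟨p, hcp⟩ := CharP.exists k
  have hp : p.Prime := by
    rcases CharP.char_is_prime_or_zero k p with h | h
    · exact h
    · subst h
      haveI : CharZero k := CharP.charP_to_charZero k
      exact absurd (Desc56.eq_bot_of_charZero hn hst (hvan x₀ hx₀)) hne
  have hper : ∀ x ∈ PrimeSpectrum.zeroLocus (I : Set (MvPolynomial (Fin n) k)), ∀ i, ∃ m, 0 < m ∧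
      (a x i) ^ (p ^ m) = a x i := by
    intro x hx i
    haveI : CharP x.asIdeal.ResidueField p :=
      charP_of_injective_algebraMap (algebraMap k x.asIdeal.ResidueField).injective p
    exact Desc56.exists_pow_prime_pow_eq_self p hp _
      fun h => hne (Desc56.eq_bot_of_infinite hn hst (hvan x hx) h)
  have hmax : ∀ x ∈ PrimeSpectrum.zeroLocus (I : Set (MvPolynomial (Fin n) k)),
      x.asIdeal.IsMaximal := by
    intro x hx
    refine Desc56.isMaximal_of_periodic x.asIdeal (a x) (hker x) fun i => ?_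
    obtain ⟨m, hm, he⟩ := hper x hx i
    exact ⟨p ^ m, le_trans hp.two_le (Nat.le_self_pow hm.ne' p), he⟩
  refine ⟨p, hp, hcp, ?_, fun x hx => ?_⟩
  · rw [← hI0]
    refine ((Ideal.finite_minimalPrimes_of_isNoetherianRing _ I).preimage
      (fun x _ y _ h => PrimeSpectrum.ext h)).subset ?_
    intro x hx
    obtain ⟨P, hP, hPx⟩ := Ideal.exists_minimalPrimes_le (show I ≤ x.asIdeal from hx)
    haveI := hP.1.1
    have hmx := hmax ⟨P, hP.1.1⟩ hP.1.2
    have : P = x.asIdeal := hmx.eq_of_le x.2.ne_top hPx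
    show x.asIdeal ∈ I.minimalPrimes
    rw [← this]; exact hP
  · have hx' : (x : PrimeSpectrum (MvPolynomial (Fin n) k)) ∈ PrimeSpectrum.zeroLocus (I : Set _) := by
      rw [hI0]; exact hx
    exact ⟨(PrimeSpectrum.isClosed_singleton_iff_isMaximal (x : PrimeSpectrum (MvPolynomial (Fin n) k))).2 (hmax x hx'),
      fun i => hper x hx' i⟩

end Groth.Agent.S7451
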