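import Groth.Statements.S7453
import Groth.Agent.Grpd80.OverField

set_option autoImplicit false
universe u
open CategoryTheory CategoryTheory.Limits AlgebraicGeometry
open Grpd

namespace Groth.Agent.S7453

/-- Let (U, R, s, t, c) be a groupoid scheme over S with U the spectrum of a field. Then R is a
separated scheme. (A groupoid scheme carries U, R, s, t, c, e, i over S with the groupoid axioms on
T-points; c is defined on the fibre product of s and t and sends a pair (a, b) with s(a) = t(b) to a
composed with b.) -/
theorem result (S : Scheme.{u}) (G : Grpd.GroupoidScheme S) (k : Type u) [Field k] (eU : G.U ≅ Spec (CommRingCat.of k)) : G.R.IsSeparated := by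
  have : IsClosedImmersion G.eStab :=
    Grpd80.isClosedImmersion_section_point eU G.stabilizerToU _ (Grpd80.eStab_toU G)
  have : IsSeparated G.j := ⟨Grpd80.diagonal_j_of_eStab (P := @IsClosedImmersion) G this⟩
  have : IsAffine G.U := IsAffine.of_isIso eU.hom
  let m : pullback G.pU G.pU ⟶ pullback (terminal.from G.U) (terminal.from G.U) :=
    pullback.map _ _ _ _ (𝟙 _) (𝟙 _) (terminal.from S) (Subsingleton.elim _ _) (Subsingleton.elim _ _)
  have : Mono m := ⟨fun a b h => by
    have h1 := congr($h ≫ pullback.fst _ _)
    have h2 := congr($h ≫ pullback.snd _ _)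
    apply pullback.hom_ext
    · simpa [m, pullback.lift_fst] using h1
    · simpa [m, pullback.lift_snd] using h2⟩
  have e : terminal.from G.R = G.j ≫ m ≫ pullback.fst _ _ ≫ terminal.from G.U := Subsingleton.elim _ _
  refine ⟨?_⟩
  rw [e]
  infer_instance

end Groth.Agent.S7453
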