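import Groth.Statements.S7461
import Groth.Agent.Grpd80.Rank
import Mathlib.AlgebraicGeometry.Morphisms.FlatRank

set_option autoImplicit false
universe u
open CategoryTheory CategoryTheory.Limits AlgebraicGeometry
open Grpd

namespace Groth.Agent.S7461

/-- Let (U, R, s, t, c) be a groupoid scheme over S with s and t finite locally free. Then U is a
disjoint union of R-invariant open subschemes U_r, r = 1, 2, 3, ..., such that s and t restricted
over U_r are finite locally free of rank r. Here the decomposition is indexed by all natural numbers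
with U_0 empty, R-invariance of U_r means s^{-1}(U_r) = t^{-1}(U_r), and 'finite locally free of
rank r' means finite, flat, locally of finite presentation with rank function constant equal to r.
(A groupoid scheme carries U, R, s, t, c, e, i over S with the groupoid axioms on T-points; c is
defined on the fibre product of s and t and sends a pair (a, b) with s(a) = t(b) to a composed with
b.) -/
theorem result (S : Scheme.{u}) (G : Grpd.GroupoidScheme S) [IsFinite G.s] [Flat G.s] [LocallyOfFinitePresentation G.s] [IsFinite G.t] [Flat G.t] [LocallyOfFinitePresentation G.t] : ∃ V : ℕ → G.U.Opens, V 0 = ⊥ ∧ (∀ r r', r ≠ r' → Disjoint (V r) (V r')) ∧ (⨆ r, V r) = ⊤ ∧ ∀ r, G.s ⁻¹ᵁ V r = G.t ⁻¹ᵁ V r ∧ Mor2.IsFinLocFreeOfDeg r (G.s ∣_ V r) ∧ Mor2.IsFinLocFreeOfDeg r (G.t ∣_ V r) := by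
  classical
  have hlc := G.s.isLocallyConstant_finrank
  let V : ℕ → G.U.Opens := fun r => ⟨{u | G.s.finrank u = r}, hlc.isOpen_fiber r⟩
  have hsurj : Surjective G.s := ⟨fun u => ⟨G.e u, by rw [← Scheme.Hom.comp_apply, Grpd80.e_s']; rfl⟩⟩
  have hpos : ∀ u, 1 ≤ G.s.finrank u := fun u =>
    (Scheme.Hom.one_le_finrank_iff_surjective G.s).mpr hsurj u
  refine ⟨V, ?_, fun r r' hr => ?_, ?_, fun r => ⟨?_, ?_, ?_⟩⟩
  · ext u
    simp only [TopologicalSpace.Opens.coe_bot, Set.mem_empty_iff_false, iff_false]
    intro h
    have h' : G.s.finrank u = 0 := h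
    have := hpos u
    omega
  · rw [← TopologicalSpace.Opens.coe_disjoint]
    exact Set.disjoint_left.mpr fun u h h' => hr ((Eq.symm h).trans h')
  · refine top_le_iff.mp fun u _ => TopologicalSpace.Opens.mem_iSup.mpr ⟨G.s.finrank u, rfl⟩
  · ext x
    show G.s.finrank (G.s x) = r ↔ G.s.finrank (G.t x) = r
    rw [Grpd80.finrank_invariant]
  · refine ⟨⟨inferInstance, inferInstance, inferInstance⟩, fun y => ?_⟩
    rw [Scheme.Hom.finrank_of_isPullback _ _ _ _ (isPullback_morphismRestrict G.s (V r)).flip y]
    exact y.2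
  · refine ⟨⟨inferInstance, inferInstance, inferInstance⟩, fun y => ?_⟩
    rw [Scheme.Hom.finrank_of_isPullback _ _ _ _ (isPullback_morphismRestrict G.t (V r)).flip y,
      Grpd80.finrank_t]
    exact y.2

end Groth.Agent.S7461
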