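import Groth.Statements.S7463
import Groth.Agent.Grpd80.OverField

set_option autoImplicit false
universe u
open CategoryTheory CategoryTheory.Limits AlgebraicGeometry
open Grpd

namespace Groth.Agent.S7463

/-- Consider a groupoid scheme (U, R, s, t, c) over S in which U is the spectrum of a field, and write Z
for the closure of the image of the morphism j = (t, s) : R -> U x_S U. Then, set-theoretically,
pr_02 carries Z x_(pr_1,U,pr_0) Z into Z: given the morphism pr_02 from (U x_S U) x_(pr_1,U,pr_0) (U
x_S U) to U x_S U, whose components are pr_0 of the first factor and pr_1 of the second, any point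
both of whose projections land in Z is mapped to a point of Z. (A groupoid scheme consists of U, R,
s, t, c, e, i over S satisfying the groupoid axioms on T-points; c is defined on the fibre product
of s and t and takes a pair (a, b) with s(a) = t(b) to the composite of a with b.) -/
theorem result (S : Scheme.{u}) (G : Grpd.GroupoidScheme S) (k : Type u) [Field k] (eU : G.U ≅ Spec (CommRingCat.of k)) (pr02 : pullback (pullback.snd G.pU G.pU) (pullback.fst G.pU G.pU) ⟶ pullback G.pU G.pU) (h0 : pr02 ≫ pullback.fst G.pU G.pU = pullback.fst (pullback.snd G.pU G.pU) (pullback.fst G.pU G.pU) ≫ pullback.fst G.pU G.pU) (h1 : pr02 ≫ pullback.snd G.pU G.pU = pullback.snd (pullback.snd G.pU G.pU) (pullback.fst G.pU G.pU) ≫ pullback.snd G.pU G.pU) (p : ↑(pullback (pullback.snd G.pU G.pU) (pullback.fst G.pU G.pU))) (h₁ : pullback.fst (pullback.snd G.pU G.pU) (pullback.fst G.pU G.pU) p ∈ closure (Set.range ⇑G.j)) (h₂ : pullback.snd (pullback.snd G.pU G.pU) (pullback.fst G.pU G.pU) p ∈ closure (Set.range ⇑G.j)) : pr02 p ∈ closure (Set.range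 ⇑G.j) := by
  have hp := Grpd80.mem_closure_preimages eU _ _ _ _ p h₁ h₂
  refine closure_mono ?_ (image_closure_subset_closure_image pr02.continuous ⟨p, hp, rfl⟩)
  rintro _ ⟨q, hq, rfl⟩
  rw [← Scheme.Pullback.range_map G.s G.t (pullback.snd G.pU G.pU) (pullback.fst G.pU G.pU)
    G.j G.j (𝟙 G.U) (by simp) (by simp)] at hq
  obtain ⟨w, rfl⟩ := hq
  refine ⟨G.c w, ?_⟩
  rw [← Scheme.Hom.comp_apply, ← Scheme.Hom.comp_apply]
  suffices e : G.c ≫ G.j = pullback.map G.s G.t (pullback.snd G.pU G.pU) (pullback.fst G.pU G.pU)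
      G.j G.j (𝟙 G.U) (by simp) (by simp) ≫ pr02 by rw [e]
  apply pullback.hom_ext
  · simp [h0, Grpd80.c_eq_mul G, pullback.lift_fst_assoc]
  · simp [h1, Grpd80.c_eq_mul G, pullback.lift_snd_assoc]

end Groth.Agent.S7463
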