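import Groth.Statements.S7464
import Groth.Agent.Grpd80.Basic
import Mathlib.AlgebraicGeometry.Morphisms.QuasiFinite

set_option autoImplicit false
universe u
open CategoryTheory CategoryTheory.Limits AlgebraicGeometry
open Grpd

namespace Groth.Agent.S7464

/-- Let (U, R, s, t, c) be a groupoid scheme over S with s and t finite, and let u, u' be distinct
points of U in the same orbit, say u = s(r) and u' = t(r). Then u' does not lie in the closure of u.
(The published statement calls u, u' points of R; this row takes them to be points of U, as the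
orbit condition and the proof require.) (A groupoid scheme carries U, R, s, t, c, e, i over S with
the groupoid axioms on T-points; c is defined on the fibre product of s and t and sends a pair (a,
b) with s(a) = t(b) to a composed with b.) -/
theorem result (S : Scheme.{u}) (G : Grpd.GroupoidScheme S) [IsFinite G.s] [IsFinite G.t] (r : G.R) (hne : G.s r ≠ G.t r) : ¬ (G.s r ⤳ G.t r) := by
  intro hsp
  -- points admitting a strict specialisation inside the orbit
  set O : Set G.U := ⇑G.t '' (⇑G.s ⁻¹' {G.s r}) with hO
  have hfin : O.Finite := (G.s.finite_preimage_singleton _).image _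
  set A : Set G.U := {w ∈ O | ∃ q : G.R, G.s q = w ∧ G.s q ≠ G.t q ∧ G.s q ⤳ G.t q}
  have hAne : A.Nonempty :=
    ⟨G.s r, Grpd80.subset_saturation G _ rfl, r, rfl, hne, hsp⟩
  have step : ∀ w ∈ A, ∃ w' ∈ A, w ⤳ w' ∧ w ≠ w' := by
    rintro w ⟨hwO, q, rfl, hq, hqs⟩
    refine ⟨G.t q, ⟨?_, ?_⟩, hqs, hq⟩
    · have hqO : q ∈ ⇑G.s ⁻¹' O := hwO
      rw [hO, Grpd80.saturation_invariant] at hqO
      exact hqO
    · obtain ⟨q', hq1, hq2⟩ := Grpd80.exists_inv G q
      rw [← hq1, ← hq2] at hqs
      rw [← hq1, ← hq2] at hq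
      obtain ⟨q1, hsp1, ht1⟩ := specializingMap_iff_stableUnderSpecialization_image_singleton.mp
        G.t.isClosedMap.specializingMap q' hqs ⟨q', subset_closure rfl, rfl⟩
      have hne1 : q' ≠ q1 := fun e => hq (by rw [← ht1, e])
      have hs1 : G.s q' ≠ G.s q1 := fun e => hne1
        ((G.s.isDiscrete_preimage_singleton (G.s q')).eq_of_specializes (specializes_iff_mem_closure.mpr hsp1) rfl e.symm)
      obtain ⟨q2, hq21, hq22⟩ := Grpd80.exists_inv G q1
      refine ⟨q2, ?_, ?_, ?_⟩
      · rw [hq21, ht1, hq1]
      · rw [hq21, hq22, ht1]; exact hs1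
      · rw [hq21, hq22, ht1]; exact (specializes_iff_mem_closure.mpr hsp1).map G.s.continuous
  letI := specializationOrder G.U
  obtain ⟨m, hm⟩ := (hfin.subset (fun w hw => hw.1) : A.Finite).exists_minimal hAne
  obtain ⟨w', hw', h1, h2⟩ := step m hm.1
  exact h2 (le_antisymm (hm.2 hw' h1) h1)

end Groth.Agent.S7464
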