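import Groth.Statements.S7474
import Groth.Agent.HTop50.VSheaf

set_option autoImplicit false
universe w u
open HTop

namespace Groth.Agent.S7474

open CategoryTheory CategoryTheory.Limits AlgebraicGeometry in
/-- A presheaf F of sets on the category of all schemes has the sheaf property for every V covering
family exactly when F is a sheaf for the Zariski topology and has the sheaf property for each
standard V covering. -/
theorem result (F : Scheme.{u}ᵒᵖ ⥤ Type w) : HTop.IsVSheaf F ↔ (Presieve.IsSheaf Scheme.zariskiTopology F ∧ ∀ (T : Scheme.{u}) (E : PreZeroHypercover.{u} T), HTop.IsStandardV E → Presieve.IsSheafFor F E.presieve₀) := by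
  refine ⟨fun h => ⟨Groth.Agent.HTop50.isSheaf_zariski_of_isVSheaf h, fun T E hE =>
    Groth.Agent.HTop50.isSheafFor_of_isStandardV_of_isVSheaf h hE⟩, fun ⟨hF, hs⟩ => ?_⟩
  refine Groth.Agent.HTop50.isVSheaf_of_zariski_standardV hF fun Y G hG =>
    Groth.Agent.HTop50.generate_standardV_mem.{w, u, u} hF (fun U V f hf => ?_) G hG
  rw [← Groth.Agent.HTop50.singleton_presieve₀ f]
  exact hs U _ hf

end Groth.Agent.S7474
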