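import Groth.Statements.S7476
import Groth.Agent.VCov93.Cover
-- import your own Groth.Agent.* helpers here

set_option autoImplicit false
universe w u
open HTop

namespace Groth.Agent.S7476

open CategoryTheory CategoryTheory.Limits AlgebraicGeometry in
/-- Let f : X -> Y be a quasi-compact morphism of schemes. Then the one-member family of f is a V
covering if and only if every morphism from the spectrum of a valuation ring to Y lifts to X after
an extension of valuation rings; and the latter holds if and only if for every morphism Z -> Y and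
every specialization z' ⤳ z of points of Z there is a specialization w' ⤳ w of points of Z x_Y X
mapping to z' ⤳ z. -/
theorem result {X Y : Scheme.{u}} (f : X ⟶ Y) [QuasiCompact f] : (HTop.IsVCover (PreZeroHypercover.singleton f) ↔ HTop.HasValLift (PreZeroHypercover.singleton f)) ∧ (HTop.HasValLift (PreZeroHypercover.singleton f) ↔ ∀ (Z : Scheme.{u}) (g : Z ⟶ Y) (z' z : Z), z' ⤳ z → ∃ w' w : ↑(pullback g f), w' ⤳ w ∧ pullback.fst g f w' = z' ∧ pullback.fst g f w = z) := by
  refine ⟨⟨fun h => VCov93.hasValLift_singleton (VCov93.hasValLift_of_isVCover h),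
    fun h => VCov93.isVCover_of_hasValLift f (VCov93.hasValLift_singleton h)⟩, ⟨?_, ?_⟩⟩
  · intro h Z g z' z hz
    obtain ⟨V, _, _, ψ, hψ1, hψ2⟩ := VCov93.exists_val_of_specializes hz
    obtain ⟨W, _, _, φ, hφ, j, g', hg'⟩ := h V (ψ ≫ g)
    let g'' : Spec W ⟶ X := g'
    have hg'' : g'' ≫ f = (Spec.map φ ≫ ψ) ≫ g := hg'.trans (Category.assoc _ _ _).symm
    let l : Spec W ⟶ pullback g f := pullback.lift (Spec.map φ ≫ ψ) g'' hg''.symm
    have hl : ∀ a, pullback.fst g f (l a) = ψ (Spec.map φ a) := fun a => by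
      rw [← Scheme.Hom.comp_apply, pullback.lift_fst, Scheme.Hom.comp_apply]
    refine ⟨l (VCov93.genPt W), l (VCov93.clPt W),
      (VCov93.genPt_specializes W _).map l.continuous, ?_, ?_⟩
    · rw [hl, VCov93.map_genPt φ hφ.1, hψ1]
    · rw [hl, VCov93.map_clPt φ hφ.2, hψ2]
  · intro h V _ _ g
    obtain ⟨w', w, hw, h1, h2⟩ := h _ g _ _ (VCov93.genPt_specializes V (VCov93.clPt V))
    let σ : pullback g f ⟶ pullback f g :=
      pullback.lift (pullback.snd g f) (pullback.fst g f) pullback.condition.symm
    have hσ : ∀ a, pullback.snd f g (σ a) = pullback.fst g f a := fun a => by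
      rw [← Scheme.Hom.comp_apply, pullback.lift_snd]
    obtain ⟨W, i1, i2, φ, hφ, g', hg'⟩ := VCov93.exists_lift_of_specializes f V g (σ w') (σ w)
      (hw.map σ.continuous) (by rw [hσ, h1]) (by rw [hσ, h2])
    exact ⟨W, i1, i2, φ, hφ, PUnit.unit, g', hg'⟩

end Groth.Agent.S7476
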