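import Groth.Statements.S7478
import Mathlib
-- import your own Groth.Agent.* helpers here

set_option autoImplicit false
universe w u
open HTop

namespace Groth.Agent.S7478

open CategoryTheory CategoryTheory.Limits AlgebraicGeometry in
/-- The base change of a standard ph covering along a morphism of affine schemes T' -> T is a standard
ph covering of T'. -/
theorem result {T T' : Scheme.{u}} [IsAffine T'] (g : T' ⟶ T) (E : PreZeroHypercover.{w} T) (hE : HTop.IsStandardPh E) : HTop.IsStandardPh (E.pullback₁ g) := by
  obtain ⟨hT, hfin, haff, U, f, ι, hprop, hsurj, hopen, hcomp, hcov⟩ := hE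
  have hι : ∀ j, IsOpenImmersion (pullback.map g (E.f j) g f (𝟙 T') (ι j) (𝟙 T)
      (by simp) (by rw [Category.comp_id]; exact (hcomp j).symm)) := by
    intro j
    haveI := hopen j
    infer_instance
  refine ⟨inferInstance, hfin, fun j => ?_, pullback g f, pullback.fst g f, fun j =>
    pullback.map g (E.f j) g f (𝟙 T') (ι j) (𝟙 T) (by simp)
      (by rw [Category.comp_id]; exact (hcomp j).symm), inferInstance, inferInstance, hι,
    fun j => ?_, fun x => ?_⟩
  · haveI := haff j
    show IsAffine (pullback g (E.f j))
    infer_instance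
  · show pullback.map _ _ _ _ _ _ _ _ _ ≫ pullback.fst g f = pullback.fst g (E.f j)
    rw [pullback.map, pullback.lift_fst, Category.comp_id]
  · obtain ⟨j, y, hy⟩ := hcov (pullback.snd g f x)
    refine ⟨j, ?_⟩
    have hr := Scheme.Pullback.range_map g (E.f j) g f (𝟙 T') (ι j) (𝟙 T)
      (by simp) (by rw [Category.comp_id]; exact (hcomp j).symm)
    change x ∈ Set.range (pullback.map g (E.f j) g f (𝟙 T') (ι j) (𝟙 T) _ _)
    rw [hr]
    exact ⟨⟨pullback.fst g f x, rfl⟩, ⟨y, hy⟩⟩

end Groth.Agent.S7478
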