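import Groth.Statements.S7484
import Groth.Agent.Desc59.DDFinite

set_option autoImplicit false
open CategoryTheory CategoryTheory.Limits AlgebraicGeometry
universe u
open Desc

namespace Groth.Agent.S7484

/-- Let p : X -> Y be a surjective finite locally free morphism and d a positive integer such that for
every algebraically closed field k and every k-point of Y there are at most d k-points of X over it.
Let V be a scheme over X such that any d points of V (not necessarily distinct) lying over one point
of Y are contained in an affine open of V. Then every descent datum on V relative to p is effective.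
(Descent data are taken in functor-of-points form.) -/
theorem result {X Y : Scheme.{u}} (p : X ⟶ Y) [Surjective p] [IsFinite p] [Flat p] [LocallyOfFinitePresentation p] (d : ℕ) (hd : 0 < d) (hfib : ∀ (k : Type u) [Field k] [IsAlgClosed k] (y : Spec (CommRingCat.of k) ⟶ Y), Set.encard {x : Spec (CommRingCat.of k) ⟶ X | x ≫ p = y} ≤ d) (D : Desc.SchDD p) (hV : ∀ (y : Y) (v : Fin d → ↑(D.obj.left)), (∀ i, p (D.obj.hom (v i)) = y) → ∃ U : D.obj.left.Opens, IsAffineOpen U ∧ ∀ i, v i ∈ U) : ∃ W : Over Y, Nonempty ((Desc.toDD p).obj W ≅ D) := by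
  refine Groth.Agent.Desc59.effective_of_orbits_affine D fun v => ?_
  have hfin := Groth.Agent.Desc59.orbit_finite D v
  have hcard : hfin.toFinset.card ≤ d := by
    have := Groth.Agent.Desc59.encard_orbit_le D hfib v
    rw [hfin.encard_eq_coe_toFinset_card] at this
    exact_mod_cast this
  let e := hfin.toFinset.equivFin
  let w : Fin d → ↑(D.obj.left) := fun i =>
    if h : i.1 < hfin.toFinset.card then (e.symm ⟨i.1, h⟩).1 else v
  have hw : ∀ i, w i ∈ Groth.Agent.Desc59.orbit D v := fun i => by
    simp only [w]
    split_ifs with h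
    · exact hfin.mem_toFinset.mp (e.symm ⟨i.1, h⟩).2
    · exact Groth.Agent.Desc59.mem_orbit_self D v
  obtain ⟨U, hU, hvU⟩ := hV (p (D.obj.hom v)) w
    (fun i => Groth.Agent.Desc59.hom_eq_of_mem_orbit D (hw i))
  refine ⟨U, hU, fun z hz => ?_⟩
  let k := e ⟨z, hfin.mem_toFinset.mpr hz⟩
  have := hvU ⟨k.1, lt_of_lt_of_le k.2 hcard⟩
  simpa [w, k] using this

end Groth.Agent.S7484
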