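import Groth.Statements.S7486
import Groth.Agent.Grpd80.Bridge
import Mathlib.AlgebraicGeometry.Morphisms.Affine
import Mathlib.Algebra.Category.Ring.Constructions
import Mathlib.LinearAlgebra.Finsupp.LinearCombination
import Mathlib.LinearAlgebra.TensorProduct.Basis
import Mathlib.LinearAlgebra.Basis.Submodule

set_option autoImplicit false
universe u
open CategoryTheory CategoryTheory.Limits AlgebraicGeometry
open Grpd

namespace Groth.Agent.S7486
theorem exists_ext_functional {X Y X' Y' : CommRingCat.{u}} {f : X ⟶ Y} {g : X ⟶ X'} {f' : X' ⟶ Y'}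
    {h : Y ⟶ Y'} (sq : IsPushout g f f' h) (m : Y →+ X)
    (hm : ∀ a b, m (f.hom a * b) = a * m b) :
    ∃ m' : Y' →+ X', (∀ a y, m' (f'.hom a * y) = a * m' y) ∧ ∀ b, m' (h.hom b) = g.hom (m b) := by
  algebraize [f.hom, g.hom, f'.hom, h.hom, f'.hom.comp g.hom]
  have : IsScalarTower X Y Y' := .of_algebraMap_eq' congr($(sq.w).hom)
  have hp : Algebra.IsPushout X X' Y Y' := CommRingCat.isPushout_iff_isPushout.mp sq
  have hb : IsBaseChange X' (IsScalarTower.toAlgHom X Y Y').toLinearMap := hp.out
  let m₀ : Y →ₗ[X] X' :=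
    { toFun := fun b => g.hom (m b)
      map_add' := fun b b' => by simp
      map_smul' := fun a b => by
        rw [Algebra.smul_def, RingHom.id_apply, Algebra.smul_def]
        exact (congrArg g.hom (hm a b)).trans (map_mul _ _ _) }
  refine ⟨(hb.lift m₀).toAddMonoidHom, fun a y => ?_, fun b => hb.lift_eq m₀ b⟩
  change hb.lift m₀ (algebraMap X' Y' a * y) = a * hb.lift m₀ y
  rw [← Algebra.smul_def, map_smul, smul_eq_mul]


/-- Let (U, R, s, t, c) be a groupoid scheme over S with U = Spec A and R = Spec B affine (A, B the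
rings of global functions), and let x_i, i in I, be elements of A such that B is free as an A-module
through s^# with basis the elements t^#(x_i). Let C be the subring of R-invariant functions (those a
with s^#(a) = t^#(a)). Then the x_i form a basis of A as a C-module, and the C-linear map A (x)_C A
-> B sending a (x) a' to t^#(a) s^#(a') is bijective (B carries the C-module structure through s^#).
(A groupoid scheme carries U, R, s, t, c, e, i over S with the groupoid axioms on T-points; c is
defined on the fibre product of s and t and sends a pair (a, b) with s(a) = t(b) to a composed with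
b.) -/
theorem result (S : Scheme.{u}) (G : Grpd.GroupoidScheme S) [IsAffine G.U] [IsAffine G.R] (I : Type u) (x : I → Γ(G.U, ⊤)) (hB : letI := G.s.appTop.hom.toAlgebra; ∃ b : Module.Basis I Γ(G.U, ⊤) Γ(G.R, ⊤), ∀ i, b i = G.t.appTop.hom (x i)) : (∃ b : Module.Basis I G.invariants Γ(G.U, ⊤), ∀ i, b i = x i) ∧ (letI := (G.s.appTop.hom.comp G.invariants.subtype).toAlgebra; ∀ φ : TensorProduct G.invariants Γ(G.U, ⊤) Γ(G.U, ⊤) →ₗ[G.invariants] Γ(G.R, ⊤), (∀ a a' : Γ(G.U, ⊤), φ (a ⊗ₜ[G.invariants] a') = G.t.appTop.hom a * G.s.appTop.hom a') → Function.Bijective φ) := by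
  classical
  letI algA := G.s.appTop.hom.toAlgebra
  obtain ⟨b, hb⟩ := hB
  let σ := G.s.appTop.hom
  let τ := G.t.appTop.hom
  let p₁ := (pullback.fst G.s G.t).appTop.hom
  let p₂ := (pullback.snd G.s G.t).appTop.hom
  let μ := G.c.appTop.hom
  have hc_t : ∀ a, μ (τ a) = p₁ (τ a) := fun a => by
    change G.c.appTop.hom (G.t.appTop.hom a) = (pullback.fst G.s G.t).appTop.hom (G.t.appTop.hom a)
    rw [Grpd80.appTop_comp, show G.c ≫ G.t = pullback.fst G.s G.t ≫ G.t by
      rw [Grpd80.c_eq_mul G, Grpd80.mul_t], ← Grpd80.appTop_comp]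
  have hc_s : ∀ a, μ (σ a) = p₂ (σ a) := fun a => by
    change G.c.appTop.hom (G.s.appTop.hom a) = (pullback.snd G.s G.t).appTop.hom (G.s.appTop.hom a)
    rw [Grpd80.appTop_comp, show G.c ≫ G.s = pullback.snd G.s G.t ≫ G.s by
      rw [Grpd80.c_eq_mul G, Grpd80.mul_s], ← Grpd80.appTop_comp]
  have hp : ∀ a, p₁ (σ a) = p₂ (τ a) := fun a => by
    change (pullback.fst G.s G.t).appTop.hom (G.s.appTop.hom a) =
      (pullback.snd G.s G.t).appTop.hom (G.t.appTop.hom a)
    rw [Grpd80.appTop_comp, pullback.condition, ← Grpd80.appTop_comp]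
  have he : ∀ a, G.e.appTop.hom (σ a) = a ∧ G.e.appTop.hom (τ a) = a := fun a => by
    constructor
    · change G.e.appTop.hom (G.s.appTop.hom a) = a
      rw [Grpd80.appTop_comp, G.e_s, Grpd80.appTop_id]
    · change G.e.appTop.hom (G.t.appTop.hom a) = a
      rw [Grpd80.appTop_comp, G.e_t, Grpd80.appTop_id]
  have hsmul : ∀ (a : Γ(G.U, ⊤)) (y : Γ(G.R, ⊤)), a • y = σ a * y := fun a y => rfl
  have hsum : ∀ y, ((b.repr y).sum fun i a => σ a * τ (x i)) = y := by
    intro y
    conv_rhs => rw [← b.linearCombination_repr y, Finsupp.linearCombination_apply]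
    refine Finsupp.sum_congr fun i _ => ?_
    rw [hsmul, hb]
  have hinv : ∀ (z : Γ(G.U, ⊤)) (i : I), b.repr (τ z) i ∈ G.invariants := by
    intro z i
    let m : Γ(G.R, ⊤) →+ Γ(G.U, ⊤) :=
      ((Finsupp.lapply i).comp b.repr.toLinearMap).toAddMonoidHom
    obtain ⟨m', hm', hm'g⟩ := exists_ext_functional (f := G.s.appTop) (g := G.t.appTop)
      (f' := (pullback.snd G.s G.t).appTop) (h := (pullback.fst G.s G.t).appTop)
      (isPushout_appTop_of_isPullback (IsPullback.of_hasPullback G.s G.t)).flip m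
      (fun a y => by
        change b.repr (σ a * y) i = a * b.repr y i
        rw [← hsmul, map_smul, Finsupp.smul_apply, smul_eq_mul])
    have h1 := hc_t z
    rw [← hsum (τ z), map_finsuppSum, map_finsuppSum] at h1
    simp only [map_mul, hc_t, hc_s, hp] at h1
    have h2 := congr(m' $h1)
    rw [map_finsuppSum, map_finsuppSum] at h2
    have key : ∀ (β : Γ(G.R, ⊤)) j, m' (p₂ β * p₁ (τ (x j))) = if j = i then β else 0 := by
      intro β j
      rw [show p₁ (τ (x j)) = (pullback.fst G.s G.t).appTop.hom (b j) by rw [hb], hm', hm'g]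
      change β * τ (b.repr (b j) i) = _
      rw [b.repr_self, Finsupp.single_apply]
      split <;> simp
    simp only [key, Finsupp.sum, Finset.sum_ite_eq', Finsupp.mem_support_iff] at h2
    change σ _ = τ _
    by_cases h0 : b.repr (τ z) i = 0
    · simp [h0]
    · simpa [h0] using h2
  let c : Γ(G.U, ⊤) → I → G.invariants := fun z i => ⟨b.repr (τ z) i, hinv z i⟩
  have hspan : ∀ z, z = ∑ i ∈ (b.repr (τ z)).support, c z i • x i := by
    intro z
    have h := congr(G.e.appTop.hom $(hsum (τ z)))
    rw [(he z).2, Finsupp.sum, map_sum] at h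
    refine h.symm.trans (Finset.sum_congr rfl fun i _ => ?_)
    rw [map_mul, (he _).1, (he _).2]
    rfl
  have hli : LinearIndependent G.invariants x := by
    refine linearIndependent_iff'.mpr fun s w hw i hi => ?_
    have h := congr(τ $hw)
    rw [map_sum, map_zero] at h
    have h2 := linearIndependent_iff'.mp b.linearIndependent s (fun j => (w j : Γ(G.U, ⊤))) (by
      rw [← h]
      refine Finset.sum_congr rfl fun j _ => ?_
      rw [hsmul, hb]
      change σ (w j : Γ(G.U, ⊤)) * τ (x j) = τ ((w j : Γ(G.U, ⊤)) * x j)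
      rw [map_mul, show τ (w j : Γ(G.U, ⊤)) = σ (w j : Γ(G.U, ⊤)) from (w j).2.symm]) i hi
    exact Subtype.ext h2
  let bC : Module.Basis I G.invariants Γ(G.U, ⊤) := Module.Basis.mk hli fun z _ => by
    rw [hspan z]
    exact Submodule.sum_mem _ fun i _ => Submodule.smul_mem _ _ (Submodule.subset_span ⟨i, rfl⟩)
  have hbC : ∀ i, bC i = x i := fun i => Module.Basis.mk_apply _ _ i
  refine ⟨⟨bC, hbC⟩, ?_⟩
  letI := (G.s.appTop.hom.comp G.invariants.subtype).toAlgebra
  intro φ hφ
  let ψ : Γ(G.R, ⊤) →+ TensorProduct G.invariants Γ(G.U, ⊤) Γ(G.U, ⊤) :=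
    { toFun := fun y => (b.repr y).sum fun i a => x i ⊗ₜ[G.invariants] a
      map_zero' := by simp
      map_add' := fun y y' => by
        rw [map_add, Finsupp.sum_add_index']
        · simp
        · intro i a a'; rw [TensorProduct.tmul_add] }
  have hψ : ∀ w, ψ (φ w) = w := by
    intro w
    induction w with
    | zero => simp
    | add w w' h h' => rw [map_add, map_add, h, h']
    | tmul a a' =>
      rw [hφ]
      have e : b.repr (τ a * σ a') = a' • b.repr (τ a) := by
        rw [mul_comm, ← hsmul, map_smul]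
      change (b.repr (τ a * σ a')).sum (fun i a => x i ⊗ₜ[G.invariants] a) = _
      rw [e, Finsupp.sum_smul_index fun i => TensorProduct.tmul_zero _ _]
      conv_rhs => rw [hspan a, TensorProduct.sum_tmul]
      refine Finset.sum_congr rfl fun i _ => ?_
      rw [TensorProduct.smul_tmul]
      exact congrArg (x i ⊗ₜ[G.invariants] ·) (mul_comm a' (b.repr (τ a) i))
  refine ⟨Function.LeftInverse.injective hψ, fun y => ⟨ψ y, ?_⟩⟩
  change φ ((b.repr y).sum fun i a => x i ⊗ₜ[G.invariants] a) = y
  rw [map_finsuppSum]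
  refine Eq.trans ?_ (hsum y)
  refine Finsupp.sum_congr fun i _ => ?_
  rw [hφ, mul_comm]

end Groth.Agent.S7486
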