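import Groth.Statements.S7490
import Mathlib.CategoryTheory.Sites.RegularEpi
import Mathlib.CategoryTheory.Limits.Constructions.Over.Connected
-- import your own Groth.Agent.* helpers here

set_option autoImplicit false
open CategoryTheory CategoryTheory.Limits AlgebraicGeometry
universe u
open QuotSh

namespace Groth.Agent.S7490

/-- Let K be a precoverage on schemes (the topology τ), S a scheme, s, t : R -> U morphisms of schemes
over S (a pre-relation) and q : U -> M a morphism over S such that (1) q coequalizes s and t, (2)
the induced map of τ-sheaves h_U -> h_M is an epimorphism, and (3) the map h_R -> h_(U x_M U)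
induced by (t, s) is an epimorphism of τ-sheaves. Then M, through q, represents the quotient sheaf
U/R: the canonical map from the coequalizer of h_s, h_t to h_M is an isomorphism. (The published
statement takes τ to be the Zariski, étale, fppf, smooth or syntomic topology; this row allows the
topology generated by any precoverage K.) -/
theorem result (K : Precoverage Scheme.{u}) {S : Scheme.{u}} {R U M : Over S} (s t : R ⟶ U) (q : U ⟶ M) (w : s ≫ q = t ≫ q) (w' : t.left ≫ q.left = s.left ≫ q.left) (h₂ : Epi (QuotSh.repMap K q)) (h₃ : Epi (QuotSh.repMap K (Over.homMk (pullback.lift t.left s.left w') (((Category.assoc _ _ _).symm.trans (congrArg (fun k => k ≫ U.hom) (pullback.lift_fst t.left s.left w'))).trans (Over.w t)) : R ⟶ Over.mk (pullback.fst q.left q.left ≫ U.hom)))) : QuotSh.IsQuotient K s t q := by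
  let P : Over S := Over.mk (pullback.fst q.left q.left ≫ U.hom)
  let ρ : R ⟶ P := Over.homMk (pullback.lift t.left s.left w') (((Category.assoc _ _ _).symm.trans (congrArg (fun k => k ≫ U.hom) (pullback.lift_fst t.left s.left w'))).trans (Over.w t))
  let p₁ : P ⟶ U := Over.homMk (pullback.fst q.left q.left) rfl
  let p₂ : P ⟶ U := Over.homMk (pullback.snd q.left q.left) (by
    show pullback.snd q.left q.left ≫ U.hom = pullback.fst q.left q.left ≫ U.hom
    rw [← Over.w q, ← Category.assoc, ← pullback.condition, Category.assoc])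
  have hρ₁ : ρ ≫ p₁ = t := by
    ext; exact pullback.lift_fst _ _ w'
  have hρ₂ : ρ ≫ p₂ = s := by
    ext; exact pullback.lift_snd _ _ w'
  have hp : IsPullback p₁ p₂ q q := by
    refine IsPullback.of_map (Over.forget S) ?_ ?_
    · ext; exact pullback.condition
    · exact IsPullback.of_hasPullback q.left q.left
  let F : Over S ⥤ QuotSh.Sh K S :=
    yoneda ⋙ (Functor.whiskeringRight _ _ _).obj uliftFunctor.{u + 1, u} ⋙
      presheafToSheaf (QuotSh.J K S) (Type (u + 1))
  have hF : IsPullback (F.map p₁) (F.map p₂) (F.map q) (F.map q) :=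
    ((hp.map yoneda).map ((Functor.whiskeringRight _ _ _).obj uliftFunctor.{u + 1, u})).map
      (presheafToSheaf (QuotSh.J K S) (Type (u + 1)))
  haveI : Epi (F.map q) := h₂
  haveI : Epi (F.map ρ) := h₃
  haveI : IsRegularEpi (F.map q) := IsRegularEpiCategory.regularEpiOfEpi _
  let r := IsRegularEpi.getStruct (F.map q)
  have hkey : ∀ {Z : QuotSh.Sh K S} (h : QuotSh.rep K U ⟶ Z), QuotSh.repMap K s ≫ h = QuotSh.repMap K t ≫ h →
      r.left ≫ h = r.right ≫ h := by
    intro Z h hh
    have hpp : F.map p₁ ≫ h = F.map p₂ ≫ h := by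
      rw [← cancel_epi (F.map ρ), ← Category.assoc, ← Category.assoc, ← F.map_comp, ← F.map_comp, hρ₁, hρ₂]
      exact hh.symm
    let l := hF.lift r.left r.right r.w
    rw [← hF.lift_fst r.left r.right r.w, Category.assoc]
    refine (congrArg (hF.lift r.left r.right r.w ≫ ·) hpp).trans ?_
    rw [← Category.assoc, hF.lift_snd]
  refine ⟨w, ⟨Cofork.IsColimit.desc r.isColimit (QuotSh.quotπ K s t) (hkey _ (QuotSh.quot_condition K s t)), ?_, ?_⟩⟩
  · refine coequalizer.hom_ext ?_
    refine (Category.assoc _ _ _).symm.trans (Eq.trans ?_ (Category.comp_id _).symm)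
    refine (congrArg (· ≫ Cofork.IsColimit.desc r.isColimit _ _) (coequalizer.π_desc _ _)).trans ?_
    exact Cofork.IsColimit.π_desc' r.isColimit _ _
  · rw [← cancel_epi (F.map q), ← Category.assoc]
    refine (congrArg (· ≫ QuotSh.quotDesc K q w) (Cofork.IsColimit.π_desc' r.isColimit _ _)).trans ?_
    refine (coequalizer.π_desc _ _).trans ?_
    exact (Category.comp_id _).symm

end Groth.Agent.S7490
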