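import Groth.Statements.S7494
import Groth.Agent.AlgGrp79.Act

set_option autoImplicit false
universe u
open CategoryTheory MonoidalCategory CartesianMonoidalCategory MonObj GrpObj AlgebraicGeometry
open AlgGrp

namespace Groth.Agent.S7494
open Groth.Agent.AlgGrp79 CategoryTheory.Limits

/-- Let G be a group scheme over S acting on a scheme X over S by a. The action is free, meaning that
for every scheme T over S and all T-points g of G and x of X with g · x = x one has g = 1, if and
only if the morphism G x_S X -> X x_S X, (g, x) ↦ (a(g, x), x), is a monomorphism of schemes. -/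
theorem result {S : Scheme.{u}} (G X : Over S) [GrpObj G] (a : AlgGrp.Action G X) : (∀ (T : Over S) (g : T ⟶ G) (x : T ⟶ X), lift g x ≫ a.act = x → g = toUnit T ≫ η[G]) ↔ Mono (lift a.act (snd G X)).left := by
  constructor
  · intro h
    suffices Mono (lift a.act (snd G X)) from inferInstance
    constructor
    intro T f f' hff
    have h1 := congrArg (· ≫ fst X X) hff
    have h2 := congrArg (· ≫ snd X X) hff
    simp only [Category.assoc, lift_fst, lift_snd] at h1 h2
    obtain ⟨g, x, rfl⟩ : ∃ g x, f = lift g x := ⟨f ≫ fst _ _, f ≫ snd _ _, by ext <;> simp⟩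
    obtain ⟨g', x', rfl⟩ : ∃ g x, f' = lift g x := ⟨f' ≫ fst _ _, f' ≫ snd _ _, by ext <;> simp⟩
    simp only [lift_snd] at h2
    subst h2
    have := h T (g⁻¹ * g') x (by rw [mul_act', ← h1, inv_act_act])
    rw [← one_def'] at this
    rw [inv_mul_eq_one] at this
    rw [this]
  · intro h T g x hx
    have := Over.mono_of_mono_left (lift a.act (snd G X))
    have h2 : lift g x = lift (1 : T ⟶ G) x := by
      rw [← cancel_mono (lift a.act (snd G X))]
      ext : 1
      · simp [hx, one_act']
      · simp
    simpa [one_def'] using congrArg (· ≫ fst G X) h2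
end Groth.Agent.S7494
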