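import Groth.Statements.S7495
import Groth.Agent.FBase64.PointCmp
import Mathlib.AlgebraicGeometry.Group.Smooth

set_option autoImplicit false
universe u
open CategoryTheory MonoidalCategory CartesianMonoidalCategory MonObj GrpObj AlgebraicGeometry
open GrpSch

namespace Groth.Agent.S7495

/-- Let k be a perfect field of positive characteristic and G a group scheme locally of finite type over
k whose underlying scheme is reduced. Then G -> Spec k is smooth. -/
theorem result (K : Type u) [Field K] [PerfectField K] (hK : ringChar K ≠ 0) (G : Over (Spec (CommRingCat.of K))) [GrpObj G] [LocallyOfFiniteType G.hom] [IsReduced G.left] : Smooth G.hom := by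
  have : IsIso (Spec.map (CommRingCat.ofHom (algebraMap K K))) := by
    rw [show CommRingCat.ofHom (algebraMap K K) = 𝟙 _ from rfl, Spec.map_id]; infer_instance
  have : IsIso (Limits.pullback.fst G.hom (Spec.map (CommRingCat.ofHom (algebraMap K K)))) :=
    MorphismProperty.pullback_fst (P := MorphismProperty.isomorphisms Scheme.{u}) _ _ (MorphismProperty.isomorphisms.infer_property _)
  have hr : AlgebraicGeometry.IsReduced (FBase.bc G.hom K) :=
    @isReduced_of_isOpenImmersion _ _ (Limits.pullback.fst G.hom (Spec.map (CommRingCat.ofHom (algebraMap K K)))) (@IsOpenImmersion.of_isIso _ _ _ this) ‹AlgebraicGeometry.IsReduced G.left›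
  have := Groth.Agent.FBase64.geometricallyReduced_of_isReduced_perfect G.hom K
  exact @AlgebraicGeometry.smooth_of_grpObj K _ G.left G.hom _ ‹GrpObj G› _

end Groth.Agent.S7495
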