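import Groth.Statements.S7497
import Groth.Agent.Fpqc93.Basic
-- import your own Groth.Agent.* helpers here

set_option autoImplicit false
universe u
open CategoryTheory CategoryTheory.Limits AlgebraicGeometry
open HTop

namespace Groth.Agent.S7497

/-- Let {f_i : T_i -> T} be a family of flat morphisms of schemes and {g_j : S_j -> T} an fpqc covering
such that for every j the family of base changes {S_j x_T T_i -> S_j} is an fpqc covering. Then {f_i
: T_i -> T} is an fpqc covering. (fpqc coverings are Mathlib's: flat, jointly surjective, every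
affine open of the target covered by images of finitely many quasi-compact opens.) -/
theorem result {T : Scheme.{u}} (E : PreZeroHypercover.{u} T) (hflat : ∀ i, Flat (E.f i)) (𝒱 : Scheme.Cover Scheme.fpqcPrecoverage T) (hloc : ∀ j, (E.pullback₁ (𝒱.f j)).presieve₀ ∈ Scheme.fpqcPrecoverage (𝒱.X j)) : E.presieve₀ ∈ Scheme.fpqcPrecoverage T := by
  let P := fun j => E.pullback₁ (𝒱.f j)
  have hV := (Groth.Agent.Fpqc93.mem_fpqcPrecoverage_iff 𝒱.toPreZeroHypercover).1 𝒱.mem₀
  have hP := fun j => (Groth.Agent.Fpqc93.mem_fpqcPrecoverage_iff (P j)).1 (hloc j)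
  let φ : (𝒱.toPreZeroHypercover.bind P).Hom E :=
    { s₀ := fun p => p.2
      h₀ := fun p => pullback.snd (𝒱.f p.1) (E.f p.2)
      w₀ := fun p => (pullback.condition (f := 𝒱.f p.1) (g := E.f p.2)).symm }
  rw [Groth.Agent.Fpqc93.mem_fpqcPrecoverage_iff]
  have := hV.1
  have : ∀ j, QuasiCompactCover (P j) := fun j => (hP j).1
  have := Groth.Agent.Fpqc93.quasiCompactCover_bind 𝒱.toPreZeroHypercover P
  refine ⟨QuasiCompactCover.of_hom φ, Groth.Agent.Fpqc93.surjective_of_hom φ fun x => ?_, hflat⟩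
  obtain ⟨j, y, rfl⟩ := hV.2.1 x
  obtain ⟨i, z, rfl⟩ := (hP j).2.1 y
  exact ⟨⟨j, i⟩, z, rfl⟩

end Groth.Agent.S7497
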