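import Groth.Statements.S7498
import Groth.Agent.Grpd80.Shear

set_option autoImplicit false
universe u
open CategoryTheory CategoryTheory.Limits AlgebraicGeometry
open Grpd

namespace Groth.Agent.S7498

/-- Let (U, R, s, t, c) be a groupoid scheme over S and r, r' points of R with t(r) = t(r'); put u =
s(r), u' = s(r') and let F_u, F_u' be the scheme-theoretic fibres of s. Then there are a field k
which is a common extension of κ(u) and κ(u') (morphisms a, b : Spec k -> U with images u, u') and
an isomorphism of the base changes (F_u)_k and (F_u')_k over Spec k, which moreover can be chosen to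
send some point lying over r to a point lying over r'. (The published statement also compares the
germs of s at r and at r' when s and t are flat or flat of finite presentation; this row omits
that.) (A groupoid scheme carries U, R, s, t, c, e, i over S with the groupoid axioms on T-points; c
is defined on the fibre product of s and t and sends a pair (a, b) with s(a) = t(b) to a composed
with b.) -/
theorem result (S : Scheme.{u}) (G : Grpd.GroupoidScheme S) (r r' : G.R) (h : G.t r = G.t r') : ∃ (k : Type u) (_ : Field k) (a b : Spec (CommRingCat.of k) ⟶ G.U) (φ : pullback G.s a ≅ pullback G.s b) (p : ↑(pullback G.s a)), a (IsLocalRing.closedPoint k) = G.s r ∧ b (IsLocalRing.closedPoint k) = G.s r' ∧ φ.hom ≫ pullback.snd G.s b = pullback.snd G.s a ∧ pullback.fst G.s a p = r ∧ pullback.fst G.s b (φ.hom p) = r' := by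
  obtain ⟨z, hz1, hz2⟩ := Scheme.Pullback.exists_preimage_pullback (f := G.t) (g := G.t) r r' h
  let K := (pullback G.t G.t).residueField z
  let q := (pullback G.t G.t).fromSpecResidueField z
  let α : Spec K ⟶ G.R := q ≫ pullback.fst _ _
  let β : Spec K ⟶ G.R := q ≫ pullback.snd _ _
  have hαβ : α ≫ G.t = β ≫ G.t := by simp [α, β, pullback.condition]
  have w : (α ≫ G.i) ≫ G.s = β ≫ G.t := by simp [hαβ]
  let γ := Grpd80.mul G (α ≫ G.i) β w
  have e1 : γ ≫ G.t = α ≫ G.s := by simp [γ]
  have e2 : γ ≫ G.s = β ≫ G.s := by simp [γ]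
  let P : Spec K ⟶ pullback G.s (γ ≫ G.t) := pullback.lift α (𝟙 _) (by rw [e1, Category.id_comp])
  have hα : ∀ x, α x = r := fun x =>
    (congrArg (pullback.fst G.t G.t) (Scheme.fromSpecResidueField_apply z x)).trans hz1
  have hβ : ∀ x, β x = r' := fun x =>
    (congrArg (pullback.snd G.t G.t) (Scheme.fromSpecResidueField_apply z x)).trans hz2
  refine ⟨K, inferInstance, γ ≫ G.t, γ ≫ G.s, Grpd80.shearR G γ, P (IsLocalRing.closedPoint K),
    ?_, ?_, ?_, ?_, ?_⟩
  · rw [e1, Scheme.Hom.comp_apply, hα]
  · rw [e2, Scheme.Hom.comp_apply, hβ]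
  · simp [Grpd80.shearR, pullback.lift_snd]
  · rw [← Scheme.Hom.comp_apply, pullback.lift_fst, hα]
  · have : P ≫ (Grpd80.shearR G γ).hom ≫ pullback.fst G.s (γ ≫ G.s) = β := by
      simp only [Grpd80.shearR, pullback.lift_fst]
      rw [Grpd80.comp_mul_eq _ _ _ _ α γ (by rw [e1]) (pullback.lift_fst _ _ _)
        (by simp [P, pullback.lift_snd_assoc])]
      exact Grpd80.mul_inv_cancel_left α β w
    rw [← Scheme.Hom.comp_apply, ← Scheme.Hom.comp_apply, this, hβ]

end Groth.Agent.S7498
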