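import Groth.Statements.S7499
import Groth.Agent.S0593
import Groth.Agent.Grpd80.Basic

set_option autoImplicit false
universe u
open CategoryTheory CategoryTheory.Limits AlgebraicGeometry
open Grpd

namespace Groth.Agent.S7499

/-- Let (U, R, s, t, c) be a groupoid scheme over S with s and t integral, and g : U' -> U an integral
morphism such that every R-orbit of U meets the image of g. Let R' = (U' x_(g,U,t) R) x_(s pr, U, g)
U' be the restriction of R to U', with t' the projection to the first factor U' and s' the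
projection to the last. If u' is a point of U' contained in an affine open W' of U' with t'^{-1}(W')
= s'^{-1}(W'), then g(u') is contained in an affine open W of U with s^{-1}(W) = t^{-1}(W). (A
groupoid scheme carries U, R, s, t, c, e, i over S with the groupoid axioms on T-points; c is
defined on the fibre product of s and t and sends a pair (a, b) with s(a) = t(b) to a composed with
b.) -/
theorem result (S : Scheme.{u}) (G : Grpd.GroupoidScheme S) [IsIntegralHom G.s] [IsIntegralHom G.t] (U' : Scheme.{u}) (g : U' ⟶ G.U) [IsIntegralHom g] (horb : ∀ u : G.U, ∃ r : G.R, G.s r = u ∧ G.t r ∈ Set.range ⇑g) (u' : U') (W' : U'.Opens) (hW' : IsAffineOpen W') (hu' : u' ∈ W') (hinv : (pullback.fst (pullback.snd g G.t ≫ G.s) g ≫ pullback.fst g G.t) ⁻¹ᵁ W' = (pullback.snd (pullback.snd g G.t ≫ G.s) g) ⁻¹ᵁ W') : ∃ W : G.U.Opens, IsAffineOpen W ∧ g u' ∈ W ∧ G.s ⁻¹ᵁ W = G.t ⁻¹ᵁ W := by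
  let h := pullback.snd g G.t ≫ G.s
  have hc : IsClosed (⇑G.t '' (⇑G.s ⁻¹' (⇑g '' (W' : Set U')ᶜ))) :=
    G.t.isClosedMap _ ((g.isClosedMap _ W'.2.isClosed_compl).preimage G.s.continuous)
  let W : G.U.Opens := ⟨_, hc.isOpen_compl⟩
  have hsat : G.s ⁻¹ᵁ W = G.t ⁻¹ᵁ W := by
    ext r
    exact not_congr (Set.ext_iff.1 (Grpd80.saturation_invariant G (⇑g '' (W' : Set U')ᶜ)) r)
  have hgW : g ⁻¹ᵁ W = W' := by
    ext a
    constructor
    · intro ha
      by_contra h'
      exact ha (Grpd80.subset_saturation G _ ⟨a, h', rfl⟩)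
    · rintro ha ⟨r, ⟨z, hz, hzr⟩, hra⟩
      obtain ⟨p, hp₁, hp₂⟩ := Scheme.Pullback.exists_preimage_pullback a r hra.symm
      obtain ⟨q, hq₁, hq₂⟩ := Scheme.Pullback.exists_preimage_pullback (f := h) (g := g) p z
        (by show h p = _; rw [Scheme.Hom.comp_apply, hp₂, hzr])
      have hq : q ∈ (pullback.fst h g ≫ pullback.fst g G.t) ⁻¹ᵁ W' := by
        show (pullback.fst h g ≫ pullback.fst g G.t) q ∈ W'
        rw [Scheme.Hom.comp_apply, hq₁, hp₁]; exact ha
      rw [hinv] at hq
      exact hz (hq₂ ▸ hq)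
  have hh : h ⁻¹ᵁ W = pullback.fst g G.t ⁻¹ᵁ W' := by
    rw [← hgW, ← Scheme.Hom.comp_preimage, pullback.condition, Scheme.Hom.comp_preimage,
      Scheme.Hom.comp_preimage, hsat]
  have : IsIntegralHom h := inferInstance
  have : IsAffine (h ⁻¹ᵁ W) := by rw [hh]; exact hW'.preimage _
  have : Surjective (h ∣_ W) := ⟨fun w => by
    obtain ⟨r, hr, a, ha⟩ := horb w.1
    obtain ⟨p, hp₁, hp₂⟩ := Scheme.Pullback.exists_preimage_pullback a r ha
    have hp : h p = w.1 := by rw [Scheme.Hom.comp_apply, hp₂, hr]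
    refine ⟨⟨p, show h p ∈ W by rw [hp]; exact w.2⟩, W.ι.isOpenEmbedding.injective ?_⟩
    rw [← Scheme.Hom.comp_apply, morphismRestrict_ι]
    exact hp⟩
  have : IsIntegralHom (h ∣_ W) :=
    MorphismProperty.of_isPullback (P := @IsIntegralHom) (isPullback_morphismRestrict h W).flip inferInstance
  refine ⟨W, Groth.Agent.S0593.result _ _ (h ∣_ W), ?_, hsat⟩
  show u' ∈ g ⁻¹ᵁ W
  rw [hgW]; exact hu'

end Groth.Agent.S7499
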