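import Groth.Statements.S7502
import Groth.Agent.FDesc60.FTDesc
import Groth.Agent.LimTop61.ModExact
import Groth.Agent.QC70.CohOps
import Groth.Agent.QC70.Closure
import Groth.Agent.QCqs72.Basic
import Groth.Agent.QCPull72.Sections

set_option autoImplicit false
set_option maxSynthPendingDepth 6
set_option linter.style.haveILetI false
set_option backward.isDefEq.respectTransparency.types false
universe u
open CategoryTheory CategoryTheory.Limits AlgebraicGeometry
open Coh

namespace Groth.Agent.S7502

/-- Let f : Y -> X be a morphism of schemes which is quasi-compact, quasi-separated, flat and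
surjective, with X and Y locally Noetherian. Let F be a quasi-coherent O_X-module, G a coherent
O_Y-module and φ : G -> f^*F an injective map of O_Y-modules. Then the O_X-module F ∩ f_*G, defined
as the fibre product of the adjunction unit F -> f_*f^*F with f_*φ : f_*G -> f_*f^*F, is coherent.
('Coherent' is quasi-coherent of finite type, the usual notion on locally Noetherian schemes.) -/
theorem result {X Y : Scheme.{u}} (f : Y ⟶ X) [QuasiCompact f] [QuasiSeparated f] [Flat f] [Surjective f] [IsLocallyNoetherian X] [IsLocallyNoetherian Y] (F : X.Modules) (hF : Coh.IsQCoh F) (G : Y.Modules) (hG : Coh.IsCoh G) (φ : G ⟶ (Scheme.Modules.pullback f).obj F) [Mono φ] : Coh.IsCoh (Limits.pullback ((Scheme.Modules.pullbackPushforwardAdjunction f).unit.app F) ((Scheme.Modules.pushforward f).map φ)) := by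
  haveI : F.IsQuasicoherent := hF
  haveI : ((𝟭 X.Modules).obj F).IsQuasicoherent := hF
  haveI : G.IsQuasicoherent := hG.1
  haveI := Groth.Agent.QCPull72.isQuasicoherent_pullback f F
  haveI := Groth.Agent.QCqs72.isQuasicoherent_pushforward G f
  haveI := Groth.Agent.QCqs72.isQuasicoherent_pushforward ((Scheme.Modules.pullback f).obj F) f
  let adj := Scheme.Modules.pullbackPushforwardAdjunction f
  let u := adj.unit.app F
  let v := (Scheme.Modules.pushforward f).map φ
  haveI : (Scheme.Modules.pushforward f).IsRightAdjoint := adj.isRightAdjoint
  haveI : Mono v := Functor.map_mono _ _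
  let H := Limits.pullback u v
  let K := kernel (u ≫ cokernel.π v)
  have hlift : (kernel.ι (u ≫ cokernel.π v) ≫ u) ≫ cokernel.π v = 0 := by
    rw [Category.assoc]; exact kernel.condition _
  let e : K ≅ H :=
    { hom := pullback.lift (kernel.ι _) (Abelian.monoLift v _ hlift) (Abelian.monoLift_comp v _ hlift).symm
      inv := kernel.lift _ (pullback.fst u v) (by
        rw [← Category.assoc, pullback.condition, Category.assoc, cokernel.condition, comp_zero])
      hom_inv_id := by
        rw [← cancel_mono (kernel.ι (u ≫ cokernel.π v)), Category.assoc, kernel.lift_ι, pullback.lift_fst,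
          Category.id_comp]
      inv_hom_id := by
        rw [← cancel_mono (pullback.fst u v), Category.assoc, pullback.lift_fst, kernel.lift_ι,
          Category.id_comp] }
  haveI := Groth.Agent.QC70.isQuasicoherent_cokernel v
  haveI := Groth.Agent.QC70.isQuasicoherent_kernel (u ≫ cokernel.π v)
  haveI : H.IsQuasicoherent := Groth.Agent.QC70.isQuasicoherent_of_iso e this
  haveI := Groth.Agent.QCPull72.isQuasicoherent_pullback f H
  haveI : Mono ((Scheme.Modules.pullback f).map (pullback.fst u v)) :=
    Groth.Agent.LimTop61.mono_pullback_map_of_flat f _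
  let w : (Scheme.Modules.pullback f).obj H ⟶ G := (adj.homEquiv H G).symm (pullback.snd u v)
  have hw : w ≫ φ = (Scheme.Modules.pullback f).map (pullback.fst u v) := by
    apply (adj.homEquiv H _).injective
    rw [Adjunction.homEquiv_naturality_right, Equiv.apply_symm_apply, Adjunction.homEquiv_unit]
    exact pullback.condition.symm.trans (adj.unit.naturality (pullback.fst u v))
  haveI : Mono (w ≫ φ) := by rw [hw]; infer_instance
  haveI : Mono w := mono_of_mono w φ
  exact Groth.Agent.FDesc60.isCoh_of_pullback f H ‹H.IsQuasicoherent›
    (Groth.Agent.QC70.isCoh_of_mono w ‹((Scheme.Modules.pullback f).obj H).IsQuasicoherent› hG)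

end Groth.Agent.S7502
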