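import Groth.Statements.S7503
import Groth.Agent.Grpd80.ClosureGrpd

set_option autoImplicit false
universe u
open CategoryTheory CategoryTheory.Limits AlgebraicGeometry
open Grpd

namespace Groth.Agent.S7503

/-- Let (U, R, s, t, c) be a groupoid scheme over S with U the spectrum of a perfect field and let Z be
the reduced closed subscheme of U x_S U whose underlying set is the closure of the image of j = (t,
s). Then (U, Z, pr_0|_Z, pr_1|_Z, pr_02) is a groupoid scheme over S; stated as: there are a
groupoid scheme G' over S with G'.R reduced and an isomorphism of schemes over S from G'.U to U such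
that j' = (t', s') : G'.R -> G'.U x_S G'.U is a closed immersion and the image of j' followed by the
induced isomorphism G'.U x_S G'.U -> U x_S U is the closure of the image of j. (No morphism from (U,
R, s, t, c) to G' is asserted: when R is not reduced, j need not factor through the reduced
subscheme Z.) (A groupoid scheme carries U, R, s, t, c, e, i over S with the groupoid axioms on
T-points; c is defined on the fibre product of s and t and sends a pair (a, b) with s(a) = t(b) to a
composed with b.) -/
theorem result (S : Scheme.{u}) (G : Grpd.GroupoidScheme S) (k : Type u) [Field k] [PerfectField k] (eU : G.U ≅ Spec (CommRingCat.of k)) : ∃ (G' : Grpd.GroupoidScheme S) (ψ : G'.U ≅ G.U) (hψ : ψ.hom ≫ G.pU = G'.pU), IsReduced G'.R ∧ IsClosedImmersion G'.j ∧ Set.range ⇑(G'.j ≫ pullback.map G'.pU G'.pU G.pU G.pU ψ.hom ψ.hom (𝟙 S) ((Category.comp_id _).trans hψ.symm) ((Category.comp_id _).trans hψ.symm)) = closure (Set.range ⇑G.j) := by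
  let H := Groth.Agent.Grpd80.closureSub (Groth.Agent.Grpd80.jHom G) (k := k) eU
  have hj : H.toGrpd.j = H.ι := by
    apply pullback.hom_ext
    · exact Groth.Agent.Grpd80.j_fst H.toGrpd
    · exact Groth.Agent.Grpd80.j_snd H.toGrpd
  refine ⟨H.toGrpd, Iso.refl G.U, Category.id_comp _,
    Groth.Agent.SchBasics.isReduced_vanishingIdeal_subscheme _, ?_, ?_⟩
  · rw [hj]; exact inferInstanceAs (IsClosedImmersion (Scheme.IdealSheafData.subschemeι _))
  · have e : pullback.map H.toGrpd.pU H.toGrpd.pU G.pU G.pU (Iso.refl G.U).hom (Iso.refl G.U).hom (𝟙 S)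
        ((Category.comp_id _).trans (Category.id_comp G.pU).symm)
        ((Category.comp_id _).trans (Category.id_comp G.pU).symm) = 𝟙 (pullback G.pU G.pU) := by
      apply pullback.hom_ext
      · exact (pullback.lift_fst _ _ _).trans ((Category.comp_id _).trans (Category.id_comp _).symm)
      · exact (pullback.lift_snd _ _ _).trans ((Category.comp_id _).trans (Category.id_comp _).symm)
    rw [hj, e]
    refine (congrArg (fun φ : H.P ⟶ pullback G.pU G.pU => Set.range ⇑φ) (Category.comp_id H.ι)).trans ?_
    exact Groth.Agent.SchBasics.range_vanishingIdeal_subschemeι _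

end Groth.Agent.S7503
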