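import Groth.Statements.S7505
import Groth.Agent.Grpd80.InvOpen

set_option autoImplicit false
universe u
open CategoryTheory CategoryTheory.Limits AlgebraicGeometry
open Grpd

namespace Groth.Agent.S7505

/-- Let (U, R, s, t, c) be a groupoid scheme over S with stabilizer group scheme G -> U, let τ be the
étale, smooth or fppf topology (given as the corresponding precoverage K), and let P be a property
of scheme morphisms that is τ-local on the target. (The published statement also allows the syntomic
topology; this row omits it.) Assume {s : R -> U} and {t : R -> U} are τ-coverings. If W is the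
largest open subscheme of U such that the restriction G_W -> W of the stabilizer has P, then W is
R-invariant: s^{-1}(W) = t^{-1}(W). (A groupoid scheme carries U, R, s, t, c, e, i over S with the
groupoid axioms on T-points; c is defined on the fibre product of s and t and sends a pair (a, b)
with s(a) = t(b) to a composed with b.) -/
theorem result (S : Scheme.{u}) (G : Grpd.GroupoidScheme S) (K : Precoverage Scheme.{u}) (hK : K = Scheme.etalePrecoverage ∨ K = Scheme.precoverage @Smooth ∨ K = Scheme.fppfPrecoverage) (P : MorphismProperty Scheme.{u}) [P.IsLocalAtTarget K] (hs : Presieve.singleton G.s ∈ K G.U) (ht : Presieve.singleton G.t ∈ K G.U) (W : G.U.Opens) (hW : P (G.stabilizerToU ∣_ W)) (hmax : ∀ W' : G.U.Opens, P (G.stabilizerToU ∣_ W') → W' ≤ W) : G.s ⁻¹ᵁ W = G.t ⁻¹ᵁ W := by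
  obtain ⟨b, hb⟩ := Grpd80.exists_stab_pullback G
  rcases hK with rfl | rfl | rfl
  · have h2 := ((Scheme.singleton_mem_precoverage_iff _ _).mp hs).2
    have h3 := ((Scheme.singleton_mem_precoverage_iff _ _).mp ht).2
    have : P.IsLocalAtTarget (Scheme.precoverage @Etale) := ‹P.IsLocalAtTarget Scheme.etalePrecoverage›
    have : Etale G.t := h3
    exact Grpd80.largest_open_invariant G @Etale (fun _ h => inferInstance) P h2 h3
      G.t.isOpenMap G.stabilizerToU (pullback.snd G.stabilizerToU G.s) _ b
      (IsPullback.of_hasPullback G.stabilizerToU G.s) hb W hW hmax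
  · have h2 := ((Scheme.singleton_mem_precoverage_iff _ _).mp hs).2
    have h3 := ((Scheme.singleton_mem_precoverage_iff _ _).mp ht).2
    have : Smooth G.t := h3
    exact Grpd80.largest_open_invariant G @Smooth (fun _ h => inferInstance) P h2 h3
      G.t.isOpenMap G.stabilizerToU (pullback.snd G.stabilizerToU G.s) _ b
      (IsPullback.of_hasPullback G.stabilizerToU G.s) hb W hW hmax
  · have h2 := ((Scheme.singleton_mem_precoverage_iff _ _).mp hs).2
    have h3 := ((Scheme.singleton_mem_precoverage_iff _ _).mp ht).2
    have : P.IsLocalAtTarget (Scheme.precoverage (@Flat ⊓ @LocallyOfFinitePresentation)) :=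
      ‹P.IsLocalAtTarget Scheme.fppfPrecoverage›
    have : Flat G.t := h3.1
    have : LocallyOfFinitePresentation G.t := h3.2
    exact Grpd80.largest_open_invariant G (@Flat ⊓ @LocallyOfFinitePresentation)
      (fun _ h => ⟨inferInstance, inferInstance⟩) P h2 h3
      G.t.isOpenMap G.stabilizerToU (pullback.snd G.stabilizerToU G.s) _ b
      (IsPullback.of_hasPullback G.stabilizerToU G.s) hb W hW hmax

end Groth.Agent.S7505
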