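import Groth.Statements.S7507
import Groth.Agent.Grpd80.SliceResult

set_option autoImplicit false
universe u
open CategoryTheory CategoryTheory.Limits AlgebraicGeometry
open Grpd

namespace Groth.Agent.S7507

/-- Let (U, R, s, t, c, e, i) be a groupoid scheme over S with s and t Cohen-Macaulay and locally of
finite presentation, G -> U the stabilizer and u a finite type point of U. Then there exist an
affine scheme U', an immersion g : U' -> U locally of finite presentation and a point u' with g(u')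
= u such that: h = s ∘ pr_1 : U' x_(g,U,t) R -> U is Cohen-Macaulay as well as locally of finite
presentation; the source and target s', t' : R' -> U' of the restriction R' = (U' x_(g,U,t) R)
x_(h,U,g) U' are likewise locally of finite presentation and Cohen-Macaulay; and, p being the point
of U' x_(g,U,t) R with projections u' and e(u), the local dimension at p of the fibre of h equals
dim(G_u) (that is, dim_(e'(u'))(F'_(u')) = dim(G'_(u'))). Here a morphism is Cohen-Macaulay when it
is Cohen-Macaulay at every point of its source (flat there with Cohen-Macaulay fibre local ring,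
Grpd.IsCMAt), a finite type point u is one for which Spec κ(u) -> U is locally of finite type, dim_x
of a fibre is the local dimension FlatMor.fibreDimAt, and G_u is the scheme-theoretic fibre of the
stabilizer G -> U over u. (A groupoid scheme carries U, R, s, t, c, e, i over S with the groupoid
axioms on T-points; c is defined on the fibre product of s and t and sends a pair (a, b) with s(a) =
t(b) to a composed with b.) -/
theorem result (S : Scheme.{u}) (G : Grpd.GroupoidScheme S) [LocallyOfFinitePresentation G.s] [LocallyOfFinitePresentation G.t] (hs : ∀ r : G.R, Grpd.IsCMAt G.s r) (ht : ∀ r : G.R, Grpd.IsCMAt G.t r) (u : G.U) (hu : LocallyOfFiniteType (G.U.fromSpecResidueField u)) : ∃ (U' : Scheme.{u}) (_ : IsAffine U') (g : U' ⟶ G.U) (u' : U') (p : ↑(pullback g G.t)), IsImmersion g ∧ LocallyOfFinitePresentation g ∧ g u' = u ∧ pullback.fst g G.t p = u' ∧ pullback.snd g G.t p = G.e u ∧ (∀ q, Grpd.IsCMAt (pullback.snd g G.t ≫ G.s) q) ∧ LocallyOfFinitePresentation (pullback.snd g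 G.t ≫ G.s) ∧ (∀ q, Grpd.IsCMAt (pullback.snd (pullback.snd g G.t ≫ G.s) g) q) ∧ LocallyOfFinitePresentation (pullback.snd (pullback.snd g G.t ≫ G.s) g) ∧ (∀ q, Grpd.IsCMAt (pullback.fst (pullback.snd g G.t ≫ G.s) g ≫ pullback.fst g G.t) q) ∧ LocallyOfFinitePresentation (pullback.fst (pullback.snd g G.t ≫ G.s) g ≫ pullback.fst g G.t) ∧ FlatMor.fibreDimAt (pullback.snd g G.t ≫ G.s) p = topologicalKrullDim ↥(G.stabilizerToU.fiber u) := by
  have := Fact.mk hu
  have fs := Grpd80.Slice.flat_s_of_cm G hs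
  have ft : Flat G.t := (Flat.iff_flat_stalkMap G.t).2 fun r => (ht r).1
  have hcm := (Grpd80.isCMAt_iff G.s (G.e u)).1 (hs _)
  obtain ⟨d, k, h₁, h₂⟩ := Grpd80.Slice.exists_dims G u hcm
  obtain ⟨Z, hZ, i, _, _, p, hp, hpu, hpcm, hcl, hdim⟩ := Grpd80.Slice.exists_cut G u hcm d k h₁.le h₂
  obtain ⟨Z₁, hZ₁, g, _, _, κ, _, p₁, hκ, hp₁, hg₁, hr₁, hP⟩ := Grpd80.Slice.exists_shrink G i
    (MoreMor.IsCMAt (Grpd80.Slice.h G i)) (Groth.Agent.S4961.result _) (Grpd80.Slice.cm_inv G i) p hpcm
  have hcm₁ : ∀ q, MoreMor.IsCMAt (Grpd80.Slice.h G g) q := fun q =>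
    (Grpd80.Slice.cm_comp_open κ _ _ hκ q).2 (hP q)
  have hcl₁ : IsClosed ({(Grpd80.Slice.h G g).asFiber p₁} :
      Set ↥((Grpd80.Slice.h G g).fiber (Grpd80.Slice.h G g p₁))) := by
    rw [Grpd80.isClosed_asFiber_iff] at hcl ⊢
    refine Set.eq_singleton_iff_unique_mem.2 ⟨⟨subset_closure rfl, rfl⟩, fun x ⟨hx, hx'⟩ => ?_⟩
    apply κ.isOpenEmbedding.injective
    rw [hp₁]
    refine (hcl.le ⟨?_, ?_⟩ : κ x ∈ ({p} : Set _))
    · simpa [hp₁] using map_mem_closure κ.continuous hx (fun y (hy : y ∈ ({p₁} : Set _)) =>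
        (show κ y ∈ ({p} : Set _) by simp [show y = p₁ from hy, hp₁]))
    · show Grpd80.Slice.h G i (κ x) = Grpd80.Slice.h G i p
      rw [← hp₁, ← Scheme.Hom.comp_apply, ← Scheme.Hom.comp_apply, hκ]
      exact hx'
  refine ⟨Z₁, hZ₁, g, pullback.fst g G.t p₁, p₁, inferInstance, inferInstance, hg₁.trans hpu, rfl,
    hr₁.trans hp, fun q => (Grpd80.isCMAt_iff _ q).2 (hcm₁ q), inferInstance,
    fun q => (Grpd80.isCMAt_iff _ q).2 ((Grpd80.Slice.restr_cm G g hcm₁).1 q),
    (Grpd80.Slice.restr_props (P := @LocallyOfFinitePresentation) G g inferInstance).1,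
    fun q => (Grpd80.isCMAt_iff _ q).2 ((Grpd80.Slice.restr_cm G g hcm₁).2 q),
    (Grpd80.Slice.restr_props (P := @LocallyOfFinitePresentation) G g inferInstance).2, ?_⟩
  rw [Grpd80.fibreDimAt_eq_fibQuot _ p₁ hcl₁, h₁, ← hdim, ← hp₁]
  obtain ⟨e⟩ := Grpd80.fibQuot_of_openImmersion κ (Grpd80.Slice.h G i) _ hκ p₁
  exact (ringKrullDim_eq_of_ringEquiv e).symm

end Groth.Agent.S7507
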