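import Groth.Statements.S7508
import Groth.Agent.Grpd80.SliceResult

set_option autoImplicit false
universe u
open CategoryTheory CategoryTheory.Limits AlgebraicGeometry
open Grpd

namespace Groth.Agent.S7508

/-- Let (U, R, s, t, c, e, i) be a groupoid scheme over S with s and t Cohen-Macaulay and locally of
finite presentation, assume the stabilizer G -> U is locally quasi-finite (locally of finite type
with discrete fibres), and let u be a finite type point of U. Then there exist an affine scheme U',
an immersion g : U' -> U locally of finite presentation and a point u' with g(u') = u such that h =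
s ∘ pr_1 : U' x_(g,U,t) R -> U and the source and target s', t' : R' -> U' of the restriction R' =
(U' x_(g,U,t) R) x_(h,U,g) U' are flat, locally of finite presentation and locally quasi-finite.
Here a morphism is Cohen-Macaulay when it is Cohen-Macaulay at every point of its source (flat there
with Cohen-Macaulay fibre local ring, Grpd.IsCMAt), and a finite type point u is one for which Spec
κ(u) -> U is locally of finite type. (A groupoid scheme carries U, R, s, t, c, e, i over S with the
groupoid axioms on T-points; c is defined on the fibre product of s and t and sends a pair (a, b)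
with s(a) = t(b) to a composed with b.) -/
theorem result (S : Scheme.{u}) (G : Grpd.GroupoidScheme S) [LocallyOfFinitePresentation G.s] [LocallyOfFinitePresentation G.t] (hs : ∀ r : G.R, Grpd.IsCMAt G.s r) (ht : ∀ r : G.R, Grpd.IsCMAt G.t r) [LocallyOfFiniteType G.stabilizerToU] [LocallyQuasiFinite G.stabilizerToU] (u : G.U) (hu : LocallyOfFiniteType (G.U.fromSpecResidueField u)) : ∃ (U' : Scheme.{u}) (_ : IsAffine U') (g : U' ⟶ G.U) (u' : U'), IsImmersion g ∧ LocallyOfFinitePresentation g ∧ g u' = u ∧ (Flat (pullback.snd g G.t ≫ G.s) ∧ LocallyOfFinitePresentation (pullback.snd g G.t ≫ G.s) ∧ LocallyOfFiniteType (pullback.snd g G.t ≫ G.s) ∧ LocallyQuasiFinite (pullback.snd g G.t ≫ G.s)) ∧ (Flat (pullback.snd (pullback.snd g G.t ≫ G.s) g) ∧ LocallyOfFinitePresentation (pullback.snd (pullback.snd g G.t ≫ G.s) g) ∧ LocallyQuasiFinite (pullback.snd (pullback.snd g G.t ≫ G.s) g)) ∧ (Flat (pullback.fst (pullback.snd g G.t ≫ G.s) g ≫ pullback.fst g G.t) ∧ LocallyOfFinitePresentation (pullback.fst (pullback.snd g G.t ≫ G.s)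 g ≫ pullback.fst g G.t) ∧ LocallyQuasiFinite (pullback.fst (pullback.snd g G.t ≫ G.s) g ≫ pullback.fst g G.t)) := by
  have := Fact.mk hu
  have fs := Grpd80.Slice.flat_s_of_cm G hs
  have ft : Flat G.t := (Flat.iff_flat_stalkMap G.t).2 fun r => (ht r).1
  have hcm := (Grpd80.isCMAt_iff G.s (G.e u)).1 (hs _)
  obtain ⟨d, k, h₁, h₂⟩ := Grpd80.Slice.exists_dims G u hcm
  obtain rfl : d = 0 := by
    have h := topologicalKrullDim_zero_of_discreteTopology ↥(G.stabilizerToU.fiber u)
    rw [h₁] at h
    have : (d : ℕ) ≤ 0 := by exact_mod_cast h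
    omega
  obtain ⟨Z, hZ, i, _, _, p, hp, hpu, hpcm, hcl, hdim⟩ := Grpd80.Slice.exists_cut G u hcm 0 k h₁.le h₂
  obtain ⟨Z₁, hZ₁, g, _, _, κ, _, p₁, hκ, hp₁, hg₁, -, hP⟩ := Grpd80.Slice.exists_shrink G i
    (SpPts86.FlatQFAt (Grpd80.Slice.h G i)) (SpPts86.isOpen_flatQFAt _) (Grpd80.Slice.flatQF_inv G i) p
    ⟨hpcm.1, Grpd80.Slice.quasiFiniteAt_of_dim_zero _ p hcl hdim⟩
  obtain ⟨hf, hq⟩ := SpPts86.flat_locallyQuasiFinite_of_forall (Grpd80.Slice.h G g) fun x => by
    rw [← hκ, SpPts86.flatQFAt_comp_iff]
    exact hP x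
  exact ⟨Z₁, hZ₁, g, pullback.fst g G.t p₁, inferInstance, inferInstance, hg₁.trans hpu,
    ⟨hf, inferInstance, inferInstance, hq⟩,
    ⟨(Grpd80.Slice.restr_props (P := @Flat) G g hf).1,
      (Grpd80.Slice.restr_props (P := @LocallyOfFinitePresentation) G g inferInstance).1,
      (Grpd80.Slice.restr_props (P := @LocallyQuasiFinite) G g hq).1⟩,
    ⟨(Grpd80.Slice.restr_props (P := @Flat) G g hf).2,
      (Grpd80.Slice.restr_props (P := @LocallyOfFinitePresentation) G g inferInstance).2,
      (Grpd80.Slice.restr_props (P := @LocallyQuasiFinite) G g hq).2⟩⟩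

end Groth.Agent.S7508
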