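import Groth.Statements.S7510
import Groth.Agent.Grpd80.Shear

set_option autoImplicit false
universe u
open CategoryTheory CategoryTheory.Limits AlgebraicGeometry
open Grpd

namespace Groth.Agent.S7510

/-- Let (U, R, s, t, c, e, i) be a groupoid scheme over S and g : U' -> U a morphism; write h = s ∘ pr_1
: U' x_(g,U,t) R -> U. Let P, Q, R be properties of morphisms of schemes, with P invariant under
composition with isomorphisms, such that (1) R implies Q, (2) Q is stable under base change and
composition, (3) every morphism f : X -> Y with Q has a largest open W(P, f) of X on which the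
restriction of f has P (given here as a function W with these two properties), and (4) for f with Q
and a base change along Y' -> Y with R, the preimage of W(P, f) in X x_Y Y' is W(P, f') for the base
change f'. If s, t have R and g has Q, then there is an open W of U' whose preimage in U' x_(g,U,t)
R equals W(P, h). (The published statement speaks of arbitrary properties of morphisms; this row
asks P to be invariant under composition with isomorphisms, which the proof uses to identify the
largest opens on the two isomorphic fibre products of h with t and with s.) (A groupoid scheme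
carries U, R, s, t, c, e, i over S with the groupoid axioms on T-points; c is defined on the fibre
product of s and t and sends a pair (a, b) with s(a) = t(b) to a composed with b.) -/
theorem result (S : Scheme.{u}) (G : Grpd.GroupoidScheme S) {U' : Scheme.{u}} (g : U' ⟶ G.U) (P Q R : MorphismProperty Scheme.{u}) [P.RespectsIso] (hRQ : R ≤ Q) [Q.IsStableUnderBaseChange] [Q.IsStableUnderComposition] (W : ∀ {X Y : Scheme.{u}} (f : X ⟶ Y), Q f → X.Opens) (hWP : ∀ {X Y : Scheme.{u}} (f : X ⟶ Y) (hf : Q f), P ((W f hf).ι ≫ f)) (hWmax : ∀ {X Y : Scheme.{u}} (f : X ⟶ Y) (hf : Q f) (V : X.Opens), P (V.ι ≫ f) → V ≤ W f hf) (hWbc : ∀ {X Y Y' : Scheme.{u}} (f : X ⟶ Y) (hf : Q f) (b : Y' ⟶ Y), R b → ∀ hf' : Q (pullback.snd f b), pullback.fst f b ⁻¹ᵁ W f hf = W (pullback.snd f b) hf') (hs : R G.s) (ht : R G.t) (hg : Q g) (hh : Q (pullback.snd g G.t ≫ G.s)) : ∃ V : U'.Opens, pullback.fst g G.t ⁻¹ᵁ V = W (pullback.snd g G.t ≫ G.s) hh := by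
  classical
  let p₁ := pullback.fst g G.t
  let p₂ := pullback.snd g G.t
  let h := p₂ ≫ G.s
  let W₀ := W h hh
  let e' : U' ⟶ pullback g G.t := pullback.lift (𝟙 _) (g ≫ G.e) (by simp)
  let At := pullback h G.t
  let As := pullback h G.s
  have wμ : (pullback.fst h G.t ≫ p₂) ≫ G.s = pullback.snd h G.t ≫ G.t := by
    rw [Category.assoc]; exact pullback.condition
  let μ : At ⟶ pullback g G.t := pullback.lift (pullback.fst h G.t ≫ p₁)
    (Grpd80.mul G (pullback.fst h G.t ≫ p₂) (pullback.snd h G.t) wμ)
    (by simp [p₁, p₂, pullback.condition])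
  have wν : (pullback.fst h G.s ≫ p₂) ≫ G.s = (pullback.snd h G.s ≫ G.i) ≫ G.t := by
    simp only [Category.assoc, Grpd80.i_t']; exact pullback.condition
  let ν : As ⟶ pullback g G.t := pullback.lift (pullback.fst h G.s ≫ p₁)
    (Grpd80.mul G (pullback.fst h G.s ≫ p₂) (pullback.snd h G.s ≫ G.i) wν)
    (by simp [p₁, p₂, pullback.condition])
  let φ : At ≅ As :=
    { hom := pullback.lift μ (pullback.snd _ _) (by simp [h, μ, p₂, pullback.lift_snd_assoc])
      inv := pullback.lift ν (pullback.snd _ _) (by simp [h, ν, p₂, pullback.lift_snd_assoc])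
      hom_inv_id := by
        apply pullback.hom_ext
        · apply pullback.hom_ext
          · simp [μ, ν, p₁, pullback.lift_fst, pullback.lift_fst_assoc]
          · rw [Category.assoc, Category.assoc, pullback.lift_fst_assoc, pullback.lift_snd,
              Category.id_comp, Grpd80.comp_mul_eq _ _ _ _
                (Grpd80.mul G (pullback.fst h G.t ≫ p₂) (pullback.snd h G.t) wμ)
                (pullback.snd h G.t ≫ G.i) (by simp)
                (by simp [μ, p₂, pullback.lift_snd, pullback.lift_fst_assoc])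
                (by simp [pullback.lift_snd_assoc])]
            exact Grpd80.mul_inv_cancel _ _ _
        · simp [pullback.lift_snd]
      inv_hom_id := by
        apply pullback.hom_ext
        · apply pullback.hom_ext
          · simp [μ, ν, p₁, pullback.lift_fst, pullback.lift_fst_assoc]
          · rw [Category.assoc, Category.assoc, pullback.lift_fst_assoc, pullback.lift_snd,
              Category.id_comp, Grpd80.comp_mul_eq _ _ _ _
                (Grpd80.mul G (pullback.fst h G.s ≫ p₂) (pullback.snd h G.s ≫ G.i) wν)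
                (pullback.snd h G.s) (by simp)
                (by simp [ν, p₂, pullback.lift_snd, pullback.lift_fst_assoc])
                (by simp [pullback.lift_snd])]
            exact Grpd80.inv_mul_cancel_right _ _ _
        · simp [pullback.lift_snd] }
  have hφ : φ.hom ≫ pullback.snd h G.s = pullback.snd h G.t := pullback.lift_snd _ _ _
  have hQt : Q (pullback.snd h G.t) := Q.pullback_snd _ _ hh
  have hQs : Q (pullback.snd h G.s) := Q.pullback_snd _ _ hh
  have trans : ∀ {A B : Scheme.{u}} (φ : A ≅ B) (fA : A ⟶ G.R) (fB : B ⟶ G.R) (hA : Q fA) (hB : Q fB),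
      φ.hom ≫ fB = fA → φ.hom ⁻¹ᵁ W fB hB ≤ W fA hA := by
    intro A B φ fA fB hA hB e
    refine hWmax fA hA _ ?_
    rw [← e, ← Category.assoc, ← morphismRestrict_ι, Category.assoc, P.cancel_left_of_respectsIso]
    exact hWP fB hB
  have key : φ.hom ⁻¹ᵁ W (pullback.snd h G.s) hQs = W (pullback.snd h G.t) hQt := by
    refine le_antisymm (trans φ _ _ hQt hQs hφ) fun x hx => ?_
    have := trans φ.symm _ _ hQs hQt (by rw [Iso.symm_hom, Iso.inv_comp_eq, hφ])
    refine this ?_
    show φ.inv (φ.hom x) ∈ W (pullback.snd h G.t) hQt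
    rw [← Scheme.Hom.comp_apply, φ.hom_inv_id]; exact hx
  refine ⟨e' ⁻¹ᵁ W₀, ?_⟩
  let ψ : pullback g G.t ⟶ At := pullback.lift (p₁ ≫ e') p₂
    (by simp [h, e', p₁, p₂, pullback.lift_snd_assoc, pullback.condition])
  have h1 : ψ ≫ pullback.fst h G.t = p₁ ≫ e' := pullback.lift_fst _ _ _
  have h2 : ψ ≫ φ.hom ≫ pullback.fst h G.s = 𝟙 _ := by
    rw [show φ.hom ≫ pullback.fst h G.s = μ from pullback.lift_fst _ _ _]
    apply pullback.hom_ext
    · simp [μ, ψ, p₁, e', pullback.lift_fst, pullback.lift_fst_assoc]
    · rw [Category.assoc, pullback.lift_snd, Category.id_comp,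
        Grpd80.comp_mul_eq _ _ _ _ (p₁ ≫ g ≫ G.e) p₂ (by simp [p₁, p₂, pullback.condition])
          (by simp [ψ, e', p₂, pullback.lift_fst_assoc, pullback.lift_snd]) (pullback.lift_snd _ _ _)]
      exact Grpd80.mul_unit_left _ (by simp [p₁, p₂, pullback.condition_assoc])
  calc p₁ ⁻¹ᵁ e' ⁻¹ᵁ W₀ = ψ ⁻¹ᵁ pullback.fst h G.t ⁻¹ᵁ W₀ := by
        rw [← Scheme.Hom.comp_preimage, ← Scheme.Hom.comp_preimage, h1]
    _ = ψ ⁻¹ᵁ φ.hom ⁻¹ᵁ pullback.fst h G.s ⁻¹ᵁ W₀ := by
        rw [hWbc h hh G.t ht hQt, hWbc h hh G.s hs hQs, key]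
    _ = W₀ := by rw [← Scheme.Hom.comp_preimage, ← Scheme.Hom.comp_preimage, Category.assoc, h2]; rfl

end Groth.Agent.S7510
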