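import Groth.Statements.S7511
import Groth.Agent.Fpqc93.Basic
-- import your own Groth.Agent.* helpers here

set_option autoImplicit false
universe u
open CategoryTheory CategoryTheory.Limits AlgebraicGeometry
open HTop

namespace Groth.Agent.S7511

/-- Let {f_i : T_i -> T} be a family of morphisms of schemes (indexed by a type in the universe of T, so
that the coproduct exists). Then it is an fpqc covering if and only if the one-arrow family
consisting of the induced morphism from the coproduct of the T_i to T is an fpqc covering. -/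
theorem result {T : Scheme.{u}} (E : PreZeroHypercover.{u} T) : E.presieve₀ ∈ Scheme.fpqcPrecoverage T ↔ Presieve.singleton (Sigma.desc E.f) ∈ Scheme.fpqcPrecoverage T := by
  rw [← PreZeroHypercover.presieve₀_singleton.{_, _, u}, Groth.Agent.Fpqc93.mem_fpqcPrecoverage_iff,
    Groth.Agent.Fpqc93.mem_fpqcPrecoverage_iff, Groth.Agent.Fpqc93.quasiCompactCover_sigmaDesc_iff]
  refine and_congr Iff.rfl (and_congr ⟨fun h x => ?_, fun h x => ?_⟩
    ⟨fun (h : ∀ i, Flat (E.f i)) _ => ?_, fun h i => ?_⟩)
  · obtain ⟨i, y, rfl⟩ := h x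
    exact ⟨PUnit.unit, Sigma.ι E.X i y,
      by
        show Sigma.desc E.f (Sigma.ι E.X i y) = _
        rw [← Scheme.Hom.comp_apply, Sigma.ι_desc]⟩
  · obtain ⟨-, z, rfl⟩ := h x
    change ↥(∐ E.X) at z
    obtain ⟨⟨i, y⟩, rfl⟩ := (sigmaMk E.X).surjective z
    refine ⟨i, y, ?_⟩
    show _ = Sigma.desc E.f (sigmaMk E.X ⟨i, y⟩)
    rw [show sigmaMk E.X ⟨i, y⟩ = Sigma.ι E.X i y from sigmaMk_mk _ _ _, ← Scheme.Hom.comp_apply,
      Sigma.ι_desc]
  · show Flat (Sigma.desc E.f)
    infer_instance
  · haveI : Flat (Sigma.desc E.f) := h PUnit.unit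
    rw [← Sigma.ι_desc E.f i]
    infer_instance

end Groth.Agent.S7511
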