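import Groth.Statements.S7512
import Groth.Agent.Fpqc93.Basic
-- import your own Groth.Agent.* helpers here

set_option autoImplicit false
universe w u
open HTop

namespace Groth.Agent.S7512

open CategoryTheory CategoryTheory.Limits AlgebraicGeometry in
/-- Let {f_i : T_i -> T} be a family of flat morphisms of schemes. Assume that for every affine scheme Z
and every morphism h : Z -> T there is a standard fpqc covering of Z (a finite family of flat
morphisms Z_j -> Z with Z_j affine whose images cover Z) refining the family of base changes {T_i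
x_T Z -> Z} (every Z_j -> Z factors through some T_i compatibly with h). Then {f_i : T_i -> T} is an
fpqc covering (in Mathlib's sense). -/
theorem result {T : Scheme.{u}} (E : PreZeroHypercover.{w} T) (hflat : ∀ i, Flat (E.f i)) (href : ∀ (Z : Scheme.{u}) [IsAffine Z] (h : Z ⟶ T), ∃ F : PreZeroHypercover.{0} Z, Finite F.I₀ ∧ (∀ j, IsAffine (F.X j)) ∧ (∀ j, Flat (F.f j)) ∧ (∀ z : Z, ∃ (j : F.I₀) (x : F.X j), F.f j x = z) ∧ HTop.RefinesOver h F E) : E.presieve₀ ∈ Scheme.fpqcPrecoverage T := by
  rw [Groth.Agent.Fpqc93.mem_fpqcPrecoverage_iff]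
  refine ⟨⟨fun {U} hU => ?_⟩, fun t => ?_, hflat⟩
  · haveI : IsAffine (U : Scheme.{u}) := hU
    obtain ⟨F, hfin, haff, -, hsurj, hre⟩ := href (U : Scheme.{u}) U.ι
    choose a k hk using hre
    haveI := hfin
    refine IsCompactOpenCovered.of_comp (fun j => (F.f j ≫ U.ι : _)) (a := a) (fun j => k j)
      (fun j => (k j).continuous)
      (fun j => funext fun x => by rw [← hk j]; rfl)
      (fun i => (E.f i).continuous) U.2
      (.of_finite id (fun _ => ⊤) (fun j => ?_) ?_)
    · haveI := haff j
      exact isCompact_univ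
    · refine subset_antisymm (Set.iUnion_subset fun j => ?_) fun y hy => ?_
      · rintro _ ⟨x, -, rfl⟩
        exact (F.f j x).2
      · obtain ⟨j, x, hx⟩ := hsurj ⟨y, hy⟩
        refine Set.mem_iUnion.2 ⟨j, x, trivial, ?_⟩
        show U.ι (F.f j x) = y
        rw [hx]
        rfl
  · obtain ⟨U, hU, htU, -⟩ := TopologicalSpace.Opens.isBasis_iff_nbhd.1 T.isBasis_affineOpens
      (TopologicalSpace.Opens.mem_top t)
    let U : T.Opens := U
    haveI : IsAffine (U : Scheme.{u}) := hU
    obtain ⟨F, -, -, -, hsurj, hre⟩ := href (U : Scheme.{u}) U.ι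
    obtain ⟨j, x, hx⟩ := hsurj ⟨t, htU⟩
    obtain ⟨i, k, hk⟩ := hre j
    refine ⟨i, k x, ?_⟩
    rw [← Scheme.Hom.comp_apply, hk, Scheme.Hom.comp_apply, hx]
    rfl

end Groth.Agent.S7512
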