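import Groth.Statements.S7517
import Groth.Agent.Grp57.Component

set_option autoImplicit false
universe u
open CategoryTheory MonoidalCategory CartesianMonoidalCategory MonObj GrpObj AlgebraicGeometry
open GrpSch

namespace Groth.Agent.S7517

/-- Let G be a group scheme over a field k and Z the irreducible component of G passing through the
identity e (there is exactly one). Then Z is geometrically irreducible over k: for any closed
immersion incl : Z -> G from an irreducible scheme whose image is an irreducible component of G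
containing e, the composite Z -> G -> Spec k is geometrically irreducible. (Parts (1) and (2) of the
source are not stated here.) -/
theorem result (K : Type u) [Field K] (G : Over (Spec (CommRingCat.of K))) [GrpObj G] (Z : Scheme.{u}) (incl : Z ⟶ G.left) [IsClosedImmersion incl] [IrreducibleSpace Z] (hZ : Set.range ⇑incl ∈ irreducibleComponents ↥G.left) (he : η[G].left (IsLocalRing.closedPoint K) ∈ Set.range ⇑incl) : GeometricallyIrreducible (incl ≫ G.hom) := by
  let σ := algebraMap K (AlgebraicClosure K)
  let t := Spec.map (CommRingCat.ofHom σ)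
  let h : Limits.pullback (incl ≫ G.hom) t ⟶ Limits.pullback G.hom t :=
    Limits.pullback.map (incl ≫ G.hom) t G.hom t incl (𝟙 _) (𝟙 _) (by simp) (by simp)
  have hC := Groth.Agent.Grp57.component_eq_connectedComponent G hZ he
  have hr : Set.range h = Groth.Agent.Grp57.proj G σ ⁻¹' connectedComponent (Groth.Agent.Grp57.unitPt G) := by
    rw [Scheme.Pullback.range_map, ← hC]
    simp [σ, t, Groth.Agent.Grp57.proj]
  have hi : IsClosedImmersion h :=
    MorphismProperty.pullbackMap (P := @IsClosedImmersion) (f := incl ≫ G.hom) (g := t) (f' := G.hom) (g' := t)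
      (i₁ := incl) (i₂ := 𝟙 _) (h₁ := inferInstance) (h₂ := inferInstance) (e₁ := rfl) (e₂ := by simp)
  have hirr := Groth.Agent.Grp57.isIrreducible_preimage_connectedComponent_unit G σ
  rw [← hr, ← Set.image_univ] at hirr
  have : IrreducibleSpace ↥(Limits.pullback (incl ≫ G.hom) t) := by
    rw [irreducibleSpace_def]
    refine ⟨?_, fun u v hu hv hu' hv' => ?_⟩
    · obtain ⟨_, x, hx, rfl⟩ := hirr.nonempty; exact ⟨x, hx⟩
    · obtain ⟨U, hU, rfl⟩ := h.isClosedEmbedding.isInducing.isOpen_iff.1 hu
      obtain ⟨V, hV, rfl⟩ := h.isClosedEmbedding.isInducing.isOpen_iff.1 hv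
      obtain ⟨a, -, ha⟩ := hu'
      obtain ⟨b, -, hb⟩ := hv'
      obtain ⟨_, ⟨x, -, rfl⟩, hx1, hx2⟩ := hirr.isPreirreducible U V hU hV
        ⟨h a, ⟨a, trivial, rfl⟩, ha⟩ ⟨h b, ⟨b, trivial, rfl⟩, hb⟩
      exact ⟨x, trivial, hx1, hx2⟩
  exact Groth.Agent.FBase64.geometricallyIrreducible_of_sepClosed (incl ≫ G.hom) σ

end Groth.Agent.S7517
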