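import Groth.Statements.S7521
import Groth.Agent.Desc59.DDFinite
import Groth.Agent.Amp73.Avoid
import Groth.Agent.Amp73.Local

set_option autoImplicit false
open CategoryTheory CategoryTheory.Limits AlgebraicGeometry
universe u
open Desc

namespace Groth.Agent.S7521

/-- Let p : X -> Y be a surjective finite locally free morphism and V a scheme over X which has an
invertible module ample relative to V -> X. Then every descent datum on V relative to p is
effective. (A quasi-projective morphism V -> X, in particular a projective one, carries such a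
module.) (Descent data are taken in functor-of-points form.) -/
theorem result {X Y : Scheme.{u}} (p : X ⟶ Y) [Surjective p] [IsFinite p] [Flat p] [LocallyOfFinitePresentation p] (D : Desc.SchDD p) (L : D.obj.left.Modules) (hL : RelAmple.IsRelAmple D.obj.hom L) : ∃ W : Over Y, Nonempty ((Desc.toDD p).obj W ≅ D) := by
  refine Groth.Agent.Desc59.effective_of_orbits_affine D fun v => ?_
  obtain ⟨V, hV, hvV, -⟩ := exists_isAffineOpen_mem_and_subset (U := (⊤ : Y.Opens)) (x := p (D.obj.hom v)) trivial
  let A := D.obj.hom ⁻¹ᵁ (p ⁻¹ᵁ V)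
  have hle : Groth.Agent.Desc59.orbit D v ⊆ (A : Set D.obj.left) := fun w hw => by
    show p (D.obj.hom w) ∈ V
    rw [Groth.Agent.Desc59.hom_eq_of_mem_orbit D hw]
    exact hvV
  have hamp := hL.2 ⟨p ⁻¹ᵁ V, hV.preimage p⟩
  obtain ⟨G, -, hvG, -, hG⟩ := Groth.Agent.Amp73.exists_affine_genSet_of_finite hamp
    ((Groth.Agent.Desc59.orbit_finite D v).preimage Subtype.val_injective.injOn)
    (U := ⊤) (fun _ _ => trivial)
  refine ⟨A.ι ''ᵁ G, hG.image_of_isOpenImmersion A.ι, fun w hw => ?_⟩
  exact ⟨⟨w, hle hw⟩, hvG hw, rfl⟩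

end Groth.Agent.S7521
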