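import Groth.Statements.S7522


set_option autoImplicit false
universe u
open CategoryTheory CategoryTheory.Limits AlgebraicGeometry
open Grpd

namespace Groth.Agent.S7522

/-- Let S be a scheme, U a scheme over S and j : R -> U x_S U a pre-equivalence relation, that is a
morphism such that for every scheme T the image of the T-points of R in pairs of T-points of U is an
equivalence relation; write t = pr_0 ∘ j and s = pr_1 ∘ j. Then the relation on the points of U in
which x ∼ y when some point r of R has t(r) = x and s(r) = y is an equivalence relation. -/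
theorem result {S U R : Scheme.{u}} (pU : U ⟶ S) (j : R ⟶ pullback pU pU) (hj : ∀ T : Scheme.{u}, Equivalence (fun a b : T ⟶ U => ∃ r : T ⟶ R, r ≫ j ≫ pullback.fst pU pU = a ∧ r ≫ j ≫ pullback.snd pU pU = b)) : Equivalence (fun x y : ↥U => ∃ r : R, (j ≫ pullback.fst pU pU) r = x ∧ (j ≫ pullback.snd pU pU) r = y) := by
  set t := j ≫ pullback.fst pU pU with ht
  set s := j ≫ pullback.snd pU pU with hs
  refine ⟨fun x => ?_, fun {x y} ⟨r, h1, h2⟩ => ?_, fun {x y z} ⟨r, h1, h2⟩ ⟨r', h1', h2'⟩ => ?_⟩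
  · obtain ⟨f, hf1, hf2⟩ := (hj U).refl (𝟙 U)
    refine ⟨f x, ?_, ?_⟩ <;> rw [← Scheme.Hom.comp_apply]
    · rw [hf1]; rfl
    · rw [hf2]; rfl
  · obtain ⟨f, hf1, hf2⟩ := (hj R).symm (x := t) (y := s) ⟨𝟙 R, by simp [ht], by simp [hs]⟩
    refine ⟨f r, ?_, ?_⟩ <;> rw [← Scheme.Hom.comp_apply]
    · rw [hf1]; exact h2
    · rw [hf2]; exact h1
  · obtain ⟨w, hw1, hw2⟩ := Scheme.Pullback.exists_preimage_pullback (f := s) (g := t) r r' (h2.trans h1'.symm)
    obtain ⟨f, hf1, hf2⟩ := (hj (pullback s t)).trans (x := pullback.fst s t ≫ t)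
      (y := pullback.snd s t ≫ t) (z := pullback.snd s t ≫ s)
      ⟨pullback.fst s t, by simp [ht], pullback.condition⟩
      ⟨pullback.snd s t, by simp [ht], by simp [hs]⟩
    refine ⟨f w, ?_, ?_⟩ <;> rw [← Scheme.Hom.comp_apply]
    · rw [hf1, Scheme.Hom.comp_apply, hw1]; exact h1
    · rw [hf2, Scheme.Hom.comp_apply, hw2]; exact h2'

end Groth.Agent.S7522
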