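import Groth.Statements.S7536
import Groth.Agent.SpecSp50.Limits

set_option autoImplicit false
universe u
open CategoryTheory CategoryTheory.Limits
open SpecSp

namespace Groth.Agent.S7536

/-- Let j ↦ X_j be a cofiltered diagram of spectral spaces with spectral transition maps and X its limit
with projections p_j. For every constructible E ⊆ X there are an object i and a constructible E_i ⊆
X_i with p_i⁻¹(E_i) = E; if E is open, resp. closed, then E_i may be chosen open, resp. closed. -/
theorem result {J : Type u} [SmallCategory J] [IsCofiltered J] (F : J ⥤ TopCat.{u})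
    (hF : ∀ j, SpectralSpace (F.obj j))
    (hFm : ∀ {i j : J} (a : i ⟶ j), IsSpectralMap (F.map a : F.obj i → F.obj j))
    (c : Cone F) (hc : IsLimit c)
    (E : Set c.pt) (hE : Topology.IsConstructible E) :
    (∃ (i : J) (Ei : Set (F.obj i)), Topology.IsConstructible Ei ∧ c.π.app i ⁻¹' Ei = E) ∧
    (IsOpen E → ∃ (i : J) (Ei : Set (F.obj i)), Topology.IsConstructible Ei ∧ IsOpen Ei ∧ c.π.app i ⁻¹' Ei = E) ∧
    (IsClosed E → ∃ (i : J) (Ei : Set (F.obj i)), Topology.IsConstructible Ei ∧ IsClosed Ei ∧ c.π.app i ⁻¹' Ei = E) := by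
  have hS := (SpecSp50.spectralSpace_limit F c hF hFm hc).1
  have hcpt : ∀ {A : Set c.pt}, Topology.IsConstructible A → IsCompact A := fun hA =>
    SpecSp50.isCompact_of_isClosed_cons (SpecSp50.isConstructible_cons_isClopen hA).1
  refine ⟨SpecSp50.exists_constructible_preimage_eq F c hF hFm hc hE, fun ho => ?_, fun hcl => ?_⟩
  · obtain ⟨i, V, hVo, hVc, hV⟩ :=
      SpecSp50.exists_qc_open_preimage_eq F c hF hFm hc ho (hcpt hE)
    exact ⟨i, V, hVc.isConstructible hVo, hVo, hV⟩
  · obtain ⟨i, V, hVo, hVc, hV⟩ :=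
      SpecSp50.exists_qc_open_preimage_eq F c hF hFm hc hcl.isOpen_compl
        (hcpt (Topology.isConstructible_compl.2 hE))
    exact ⟨i, Vᶜ, Topology.isConstructible_compl.2 (hVc.isConstructible hVo), hVo.isClosed_compl,
      by rw [Set.preimage_compl, hV, compl_compl]⟩

end Groth.Agent.S7536
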