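import Groth.Statements.S7560
import Groth.Agent.ConstrTop58.Basic
import Mathlib.Data.Finite.Sum
import Mathlib.Data.Finite.Sigma

set_option autoImplicit false
universe u
open ConstrTop

namespace Groth.Agent.S7560

/-- Let X be a topological space written as a finite union X = T_1 ∪ … ∪ T_n of constructible subsets.
Then there is a finite stratification X = ∐ S_i (pairwise disjoint locally closed strata indexed by
a finite partially ordered set, with closure(S_j) ⊆ ⋃_{i ≤ j} S_i) whose strata are constructible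
and such that every T_k is a union of strata. -/
theorem result {X : Type u} [TopologicalSpace X]
    {n : ℕ} (T : Fin n → Set X) (hT : ∀ k, Topology.IsConstructible (T k)) (hcov : ⋃ k, T k = Set.univ) :
    ∃ (I : Type) (_ : Fintype I) (_ : PartialOrder I) (S : I → Set X),
      (∀ i, IsLocallyClosed (S i) ∧ Topology.IsConstructible (S i)) ∧ (⋃ i, S i = Set.univ) ∧
      (∀ i j, i ≠ j → Disjoint (S i) (S j)) ∧
      (∀ j, closure (S j) ⊆ ⋃ i ∈ Set.Iic j, S i) ∧
      (∀ i k, (S i ∩ T k).Nonempty → S i ⊆ T k) := by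
  classical
  choose ι hι U V hU hV hTeq using fun k => Groth.Agent.ConstrTop58.exists_sdiff_normal_form (hT k)
  let J : Type u := Σ k, ι k ⊕ ι k
  have hι' : ∀ k, Finite (ι k ⊕ ι k) := fun k => by
    have := hι k
    infer_instance
  have hJ : Finite (Σ k, ι k ⊕ ι k) := @Finite.instSigma _ _ _ hι'
  have hm : ∃ m, Nonempty (J ≃ Fin m) := Finite.exists_equiv_fin (Σ k, ι k ⊕ ι k)
  obtain ⟨m, ⟨e⟩⟩ := hm
  let G : Fin m → Set X := fun a => Sum.elim (U (e.symm a).1) (V (e.symm a).1) (e.symm a).2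
  have hG : ∀ a, IsOpen (G a) ∧ IsRetrocompact (G a) := fun a => by
    have key : ∀ p : J, IsOpen (Sum.elim (U p.1) (V p.1) p.2) ∧
        IsRetrocompact (Sum.elim (U p.1) (V p.1) p.2) := by
      rintro ⟨k, i | i⟩
      exacts [hU k i, hV k i]
    exact key (e.symm a)
  let pat : X → Finset (Fin m) := fun x => Finset.univ.filter fun a => x ∈ G a
  have hpat : ∀ A, pat ⁻¹' {A} = (⋂ a ∈ A, G a) ∩ ⋂ a ∈ Aᶜ, (G a)ᶜ := by
    intro A
    ext x
    simp only [Set.mem_preimage, Set.mem_singleton_iff, Finset.ext_iff, pat, Finset.mem_filter,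
      Finset.mem_univ, true_and, Set.mem_inter_iff, Set.mem_iInter, Finset.mem_compl,
      Set.mem_compl_iff]
    exact ⟨fun h => ⟨fun a => (h a).mpr, fun a => mt (h a).mp⟩,
      fun h a => ⟨fun hx => by_contra fun ha => h.2 a ha hx, h.1 a⟩⟩
  refine ⟨Finset (Fin m), inferInstance, inferInstance, fun A => pat ⁻¹' {A}, ?_, ?_, ?_, ?_, ?_⟩
  · intro A
    show IsLocallyClosed (pat ⁻¹' {A}) ∧ Topology.IsConstructible (pat ⁻¹' {A})
    rw [hpat]
    exact ⟨⟨_, _, isOpen_biInter_finset fun a _ => (hG a).1,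
      isClosed_biInter fun a _ => (hG a).1.isClosed_compl, rfl⟩,
      (Topology.IsConstructible.biInter A.finite_toSet fun a _ =>
        (hG a).2.isConstructible (hG a).1).inter
      (Topology.IsConstructible.biInter (Aᶜ).finite_toSet fun a _ =>
        ((hG a).2.isConstructible (hG a).1).compl)⟩
  · exact Set.eq_univ_of_forall fun x => Set.mem_iUnion.mpr ⟨pat x, rfl⟩
  · exact fun A B hAB => Set.disjoint_left.mpr fun x hA hB => hAB (hA.symm.trans hB)
  · intro A x hx
    refine Set.mem_iUnion₂.mpr ⟨pat x, ?_, rfl⟩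
    intro a ha
    obtain ⟨y, hy, hyA⟩ := mem_closure_iff.mp hx (G a) (hG a).1 (Finset.mem_filter.mp ha).2
    exact (show pat y = A from hyA) ▸ Finset.mem_filter.mpr ⟨Finset.mem_univ _, hy⟩
  · rintro A k ⟨y, hyA, hyT⟩ x hxA
    have hxy : ∀ a, x ∈ G a ↔ y ∈ G a := fun a => by
      have h : pat x = pat y := (show pat x = A from hxA).trans (show pat y = A from hyA).symm
      simpa [pat] using Finset.ext_iff.mp h a
    rw [hTeq k, Set.mem_iUnion] at hyT ⊢
    obtain ⟨i, h1, h2⟩ := hyT
    have hl := hxy (e ⟨k, .inl i⟩)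
    have hr := hxy (e ⟨k, .inr i⟩)
    have key : ∀ p : J, G (e p) = Sum.elim (U p.1) (V p.1) p.2 := fun p => by
      show Sum.elim (U (e.symm (e p)).1) (V (e.symm (e p)).1) (e.symm (e p)).2 = _
      rw [e.symm_apply_apply]
    rw [key] at hl hr
    exact ⟨i, hl.mpr h1, fun h => h2 (hr.mp h)⟩

end Groth.Agent.S7560
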