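import Groth.Statements.S7578
import Groth.Agent.PtTop50.DimFun

set_option autoImplicit false
universe u
open PtTop

namespace Groth.Agent.S7578

/-- Let X be a topological space which is locally Noetherian (every point has a Noetherian
neighbourhood) and sober, and let δ, δ' be two dimension functions on X. Then δ − δ' is locally
constant. -/
theorem result {X : Type u} [TopologicalSpace X] [QuasiSober X] [T0Space X]
    (hX : ∀ x : X, ∃ E ∈ nhds x, TopologicalSpace.NoetherianSpace E)
    (δ δ' : X → ℤ) (hδ : PtTop.IsDimensionFunction δ) (hδ' : PtTop.IsDimensionFunction δ') :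
    IsLocallyConstant (fun x => δ x - δ' x) := by
  exact PtTop50.sub_locallyConstant hδ hX hδ'

end Groth.Agent.S7578
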