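import Groth.Statements.S7581
import Groth.Agent.Cat58.Space
-- import your own Groth.Agent.* helpers here

set_option autoImplicit false
universe u
open PtTop

namespace Groth.Agent.S7581

open TopologicalSpace Groth.Agent.Cat58

theorem length_le_codim {X : Type u} [TopologicalSpace X] {Y : IrreducibleCloseds X} {T : Set X}
    (s : LTSeries (IrreducibleCloseds X)) (h0 : s.head = Y) (h1 : (s.last : Set X) ⊆ T) :
    (s.length : ℕ∞) ≤ PtTop.codim Y T :=
  le_iSup₂_of_le (f := fun (r : LTSeries (IrreducibleCloseds X)) (_ : r.head = Y ∧ (r.last : Set X) ⊆ T) =>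
    (r.length : ℕ∞)) s ⟨h0, h1⟩ le_rfl

theorem le_one {X : Type u} [TopologicalSpace X] {Y Y' : IrreducibleCloseds X} (h : Y ⋖ Y') :
    PtTop.codim Y (Y' : Set X) = 1 := by
  refine le_antisymm (iSup₂_le fun r hr => ?_) ?_
  · by_contra hlt
    push Not at hlt
    have h2 : 1 < r.length := by exact_mod_cast hlt
    let i : Fin (r.length + 1) := ⟨1, by omega⟩
    have a : Y < r i := hr.1 ▸ r.strictMono (show (0 : Fin (r.length + 1)) < i from by simp [i, Fin.lt_def])
    have b : r i < Y' := lt_of_lt_of_le (r.strictMono (show i < Fin.last _ from by simp [i, Fin.lt_def]; omega))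
      (show r.last ≤ Y' from hr.2)
    exact h.2 a b
  · have := length_le_codim (((RelSeries.singleton _ Y).snoc Y' (by simpa using h.lt)) : LTSeries _)
      (Y := Y) (T := (Y' : Set X)) (by simp) (by simp)
    simpa using this


/-- Let X be a topological space. Then X is catenary if and only if for every pair of irreducible closed
subsets Y ⊆ Y' the codimension codim(Y, Y') is finite and for every triple Y ⊆ Y' ⊆ Y'' of
irreducible closed subsets codim(Y, Y'') = codim(Y, Y') + codim(Y', Y''). -/
theorem result (X : Type u) [TopologicalSpace X] :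
    PtTop.IsCatenarySpace X ↔
      (∀ Y Y' : TopologicalSpace.IrreducibleCloseds X, Y ≤ Y' → PtTop.codim Y (Y' : Set X) ≠ ⊤) ∧
      (∀ Y Y' Y'' : TopologicalSpace.IrreducibleCloseds X, Y ≤ Y' → Y' ≤ Y'' →
        PtTop.codim Y (Y'' : Set X) = PtTop.codim Y (Y' : Set X) + PtTop.codim Y' (Y'' : Set X)) := by
  classical
  have hext : ∀ (Y Y' : TopologicalSpace.IrreducibleCloseds X) (r : LTSeries _), r.head = Y → (r.last : Set X) ⊆ Y' →
      ∃ r' : LTSeries (TopologicalSpace.IrreducibleCloseds X), r'.head = Y ∧ r'.last = Y' ∧ r.length ≤ r'.length := by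
    intro Y Y' r hr hr'
    rcases eq_or_lt_of_le (show r.last ≤ Y' from hr') with e | e
    · exact ⟨r, hr, e, le_rfl⟩
    · exact ⟨r.snoc Y' e, by simp [hr], by simp, by show r.length ≤ r.length + 0 + 1; omega⟩
  constructor
  · intro h
    have hC := isCatenarySpace_iff.1 h
    have hsat : ∀ Y Y', Y ≤ Y' → ∃ s : LTSeries (TopologicalSpace.IrreducibleCloseds X),
        s.head = Y ∧ s.last = Y' ∧ Sat s ∧ (s.length : ℕ∞) = PtTop.codim Y (Y' : Set X) := fun Y Y' hYY' => by
      obtain ⟨n, hn⟩ := hC.1 Y Y' hYY'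
      obtain ⟨r', r0, r1, -⟩ := hext Y Y' (RelSeries.singleton _ Y) (by simp) hYY'
      obtain ⟨s, s0, s1, hs, -⟩ := exists_sat hn r' r0 r1
      exact ⟨s, s0, s1, hs, (h Y Y' hYY').2 s s0 s1 hs⟩
    refine ⟨fun Y Y' hh => (h Y Y' hh).1, fun Y Y' Y'' h1 h2 => ?_⟩
    obtain ⟨s, s0, s1, hs, hsl⟩ := hsat Y Y' h1
    obtain ⟨t, t0, t1, ht, htl⟩ := hsat Y' Y'' h2
    have hst : s.last = t.head := s1.trans t0.symm
    rw [← hsl, ← htl, ← (h Y Y'' (h1.trans h2)).2 (RelSeries.smash s t hst) (by simp [s0]) (by simp [t1]) ?_]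
    · simp [RelSeries.smash]
    · intro i
      refine Fin.addCases (fun i => ?_) (fun i => ?_) i
      · show RelSeries.smash s t hst (Fin.castSucc (Fin.castAdd _ i)) ⋖ RelSeries.smash s t hst (Fin.succ (Fin.castAdd _ i))
        erw [RelSeries.smash_castAdd, RelSeries.smash_succ_castAdd]
        exact hs i
      · show RelSeries.smash s t hst (Fin.castSucc (Fin.natAdd _ i)) ⋖ RelSeries.smash s t hst (Fin.succ (Fin.natAdd _ i))
        erw [RelSeries.smash_natAdd, RelSeries.smash_succ_natAdd]
        exact ht i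
  · rintro ⟨hfin, hadd⟩ T T' hTT'
    refine ⟨hfin T T' hTT', fun s h0 h1 hs => ?_⟩
    have key : ∀ i : Fin (s.length + 1), (i : ℕ∞) = PtTop.codim s.head (s i : Set X) := fun i => by
      induction i using Fin.induction with
      | zero =>
        refine le_antisymm (by simp) (iSup₂_le fun r hr => ?_)
        have hle : r.last ≤ r.head := hr.1 ▸ (hr.2 : r.last ≤ s 0)
        by_contra hpos
        push Not at hpos
        have : 0 < r.length := by
          by_contra hz
          exact absurd hpos (by simp [Nat.eq_zero_of_not_pos hz])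
        exact absurd (r.strictMono (show (0 : Fin (r.length + 1)) < Fin.last _ from by simp [Fin.lt_def]; omega)) hle.not_gt
      | succ i ih =>
        rw [hadd s.head (s i.castSucc) (s i.succ) (s.monotone (Fin.zero_le _)) (hs i).lt.le, ← ih, le_one (hs i)]
        simp
    have := key (Fin.last _)
    simp only [Fin.val_last] at this
    rw [this, h0]
    exact congrArg (fun Z : TopologicalSpace.IrreducibleCloseds X => PtTop.codim T (Z : Set X)) h1

end Groth.Agent.S7581
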