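import Groth.Statements.S7582
import Groth.Agent.Small51.Sober
-- import your own Groth.Agent.* helpers here

set_option autoImplicit false
universe u
open PtTop

namespace Groth.Agent.S7582


/-- Let X be a topological space and c : X → X′ the canonical map to its soberification (X′ =
irreducible closed subsets of X, with opens the sets of those meeting a given open of X; c(x) =
closure of {x}). Then X′ is sober, c is continuous, the rule U′ ↦ c⁻¹(U′) is a bijection from the
open subsets of X′ onto the open subsets of X (it automatically respects finite intersections and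
arbitrary unions), and every continuous map from X to a sober space Y is of the form g ∘ c for a
continuous g : X′ → Y. The published statement also asserts that g is unique and that c(X) is a
Kolmogorov space universal for maps to Kolmogorov spaces; this row omits those clauses and lets Y
range over the universe of X. -/
theorem result (X : Type u) [TopologicalSpace X] :
    QuasiSober (PtTop.Sob X) ∧ T0Space (PtTop.Sob X) ∧ Continuous (PtTop.toSob X) ∧
    Set.BijOn (fun U' : Set (PtTop.Sob X) => PtTop.toSob X ⁻¹' U') {U' | IsOpen U'} {U : Set X | IsOpen U} ∧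
    ∀ (Y : Type u) [TopologicalSpace Y] [QuasiSober Y] [T0Space Y] (f : X → Y), Continuous f →
      ∃ g : PtTop.Sob X → Y, Continuous g ∧ g ∘ PtTop.toSob X = f := by
  classical
  refine ⟨inferInstance, inferInstance, Sober51.continuous_toSob, ⟨fun U hU => hU.preimage Sober51.continuous_toSob,
    fun A hA B hB h => ?_, fun U hU => ⟨_, Sober51.isOpen_O hU, Sober51.preimage_O hU⟩⟩, ?_⟩
  · obtain ⟨U, hU, rfl⟩ := Sober51.exists_eq_O hA
    obtain ⟨V, hV, rfl⟩ := Sober51.exists_eq_O hB
    have h' : PtTop.toSob X ⁻¹' Sober51.O U = PtTop.toSob X ⁻¹' Sober51.O V := h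
    rw [Sober51.preimage_O hU, Sober51.preimage_O hV] at h'
    rw [h']
  intro Y _ _ _ f hf
  have hirr : ∀ Z : PtTop.Sob X, IsIrreducible (f '' (Sober51.cs Z : Set X)) := fun Z =>
    (Sober51.cs Z).isIrreducible.image f hf.continuousOn
  refine ⟨fun Z => (hirr Z).closure.genericPoint, ?_, ?_⟩
  · refine ⟨fun V hV => ?_⟩
    convert Sober51.isOpen_O (hV.preimage hf) using 1
    ext Z
    show (hirr Z).closure.genericPoint ∈ V ↔ ((Sober51.cs Z : Set X) ∩ f ⁻¹' V).Nonempty
    have hg := (hirr Z).closure.isGenericPoint_genericPoint_closure
    rw [closure_closure] at hg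
    rw [hg.mem_open_set_iff hV]
    constructor
    · rintro ⟨y, hy, hyV⟩
      obtain ⟨z, hzV, x, hx, rfl⟩ := mem_closure_iff.1 hy V hV hyV
      exact ⟨x, hx, hzV⟩
    · rintro ⟨x, hx, hxV⟩
      exact ⟨f x, subset_closure ⟨x, hx, rfl⟩, hxV⟩
  · funext x
    refine IsGenericPoint.eq (hirr (PtTop.toSob X x)).closure.isGenericPoint_genericPoint_closure ?_
    rw [closure_closure]
    show closure {f x} = closure (f '' closure {x})
    refine Set.Subset.antisymm (closure_mono (Set.singleton_subset_iff.2 ⟨x, subset_closure rfl, rfl⟩))
      (closure_minimal ((image_closure_subset_closure_image hf).trans (by rw [Set.image_singleton])) isClosed_closure)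

end Groth.Agent.S7582
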