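import Groth.Statements.S7583
import Groth.Agent.Small51.Sober
-- import your own Groth.Agent.* helpers here

set_option autoImplicit false
universe u
open PtTop

namespace Groth.Agent.S7583


/-- Let X be a topological space and c : X → X′ the canonical map to its soberification (X′ =
irreducible closed subsets of X, with opens the sets of those meeting a given open of X). (1)
Quasi-compactness of X passes to X′. (2) When X is quasi-compact, its quasi-compact opens form a
basis, and any two quasi-compact opens meet in a quasi-compact set, the soberification X′ is a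
spectral space. (3) When X is Noetherian, X′ is both spectral and Noetherian. -/
theorem result (X : Type u) [TopologicalSpace X] :
    (CompactSpace X → CompactSpace (PtTop.Sob X)) ∧
    (CompactSpace X → PrespectralSpace X → QuasiSeparatedSpace X → SpectralSpace (PtTop.Sob X)) ∧
    (TopologicalSpace.NoetherianSpace X →
      TopologicalSpace.NoetherianSpace (PtTop.Sob X) ∧ SpectralSpace (PtTop.Sob X)) := by
  classical
  have hcompact : CompactSpace X → CompactSpace (PtTop.Sob X) := fun h =>
    ⟨Sober51.O_univ (X := X) ▸ Sober51.isCompact_O isOpen_univ isCompact_univ⟩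
  have hspec : CompactSpace X → PrespectralSpace X → QuasiSeparatedSpace X → SpectralSpace (PtTop.Sob X) := by
    intro hc hp hq
    haveI := hcompact hc
    haveI : PrespectralSpace (PtTop.Sob X) := by
      constructor
      refine TopologicalSpace.isTopologicalBasis_of_isOpen_of_nhds (fun U hU => hU.1) fun Z W hZW hW => ?_
      obtain ⟨V, hV, rfl⟩ := Sober51.exists_eq_O hW
      obtain ⟨x, hx, hxV⟩ := hZW
      obtain ⟨B, ⟨hBo, hBc⟩, hxB, hBV⟩ := PrespectralSpace.isTopologicalBasis.exists_subset_of_mem_open hxV hV
      exact ⟨Sober51.O B, ⟨Sober51.isOpen_O hBo, Sober51.isCompact_O hBo hBc⟩, ⟨x, hx, hxB⟩,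
        fun Z' ⟨y, hy, hyB⟩ => ⟨y, hy, hBV hyB⟩⟩
    have hback : ∀ U : Set X, IsOpen U → IsCompact (Sober51.O U) → IsCompact U := fun U hU hcU => by
      refine isCompact_of_finite_subcover fun {ι} W hW hsub => ?_
      obtain ⟨t, ht⟩ := hcU.elim_finite_subcover (fun i => Sober51.O (W i)) (fun i => Sober51.isOpen_O (hW i))
        (fun Z ⟨x, hx, hxU⟩ => by
          obtain ⟨i, hi⟩ := Set.mem_iUnion.1 (hsub hxU)
          exact Set.mem_iUnion.2 ⟨i, x, hx, hi⟩)
      refine ⟨t, fun x hx => ?_⟩
      obtain ⟨i, hit, hi⟩ := Set.mem_iUnion₂.1 (ht (show PtTop.toSob X x ∈ Sober51.O U from ⟨x, subset_closure rfl, hx⟩))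
      exact Set.mem_iUnion₂.2 ⟨i, hit, (Sober51.preimage_O (hW i)) ▸ hi⟩
    haveI : QuasiSeparatedSpace (PtTop.Sob X) := by
      constructor
      intro A B hA hAc hB hBc
      obtain ⟨U, hU, rfl⟩ := Sober51.exists_eq_O hA
      obtain ⟨V, hV, rfl⟩ := Sober51.exists_eq_O hB
      rw [Sober51.O_inter hU hV]
      exact Sober51.isCompact_O (hU.inter hV)
        (QuasiSeparatedSpace.inter_isCompact U V hU (hback U hU hAc) hV (hback V hV hBc))
    exact { }
  refine ⟨hcompact, hspec, fun hN => ?_⟩
  have hN' : TopologicalSpace.NoetherianSpace (PtTop.Sob X) := by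
    rw [TopologicalSpace.noetherianSpace_iff_opens]
    intro W
    obtain ⟨U, hU, hWU⟩ := Sober51.exists_eq_O W.2
    rw [show (W : Set (PtTop.Sob X)) = _ from hWU]
    exact Sober51.isCompact_O hU (TopologicalSpace.NoetherianSpace.isCompact U)
  exact ⟨hN', hspec inferInstance inferInstance inferInstance⟩

end Groth.Agent.S7583
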