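import Groth.Statements.S7584
import Mathlib.Topology.Connected.TotallyDisconnected
import Mathlib.Topology.Separation.Basic
-- import your own Groth.Agent.* helpers here

set_option autoImplicit false
universe u
open PtTop

namespace Groth.Agent.S7584


/-- Let X be a quasi-compact topological space in which each connected component equals the intersection
of all clopen sets that contain it. Then π₀(X), the set of connected components with the quotient
topology, is Hausdorff. The published statement concludes that π₀(X) is profinite; this row records
the Hausdorff property, quasi-compactness and total disconnectedness of the quotient being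
automatic. -/
theorem result (X : Type u) [TopologicalSpace X] [CompactSpace X]
    (h : ∀ x : X, connectedComponent x = ⋂₀ {Z : Set X | IsClopen Z ∧ x ∈ Z}) :
    T2Space (ConnectedComponents X) := by
  refine ⟨fun a b hab => ?_⟩
  obtain ⟨x, rfl⟩ := ConnectedComponents.surjective_coe a
  obtain ⟨y, rfl⟩ := ConnectedComponents.surjective_coe b
  rw [Ne, ConnectedComponents.coe_eq_coe'] at hab
  rw [h y, Set.mem_sInter] at hab
  push Not at hab
  obtain ⟨Z, ⟨hZ, hyZ⟩, hxZ⟩ := hab
  have hsat : ∀ {W : Set X}, IsClopen W → (↑) ⁻¹' (((↑) : X → ConnectedComponents X) '' W) = W := fun {W} hW => by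
    rw [connectedComponents_preimage_image, hW.biUnion_connectedComponent_eq]
  refine ⟨((↑) : X → ConnectedComponents X) '' Zᶜ, ((↑) : X → ConnectedComponents X) '' Z, ?_, ?_, ⟨x, hxZ, rfl⟩, ⟨y, hyZ, rfl⟩, ?_⟩
  · rw [← ConnectedComponents.isQuotientMap_coe.isOpen_preimage, hsat hZ.compl]; exact hZ.compl.2
  · rw [← ConnectedComponents.isQuotientMap_coe.isOpen_preimage, hsat hZ]; exact hZ.2
  · rw [Set.disjoint_left]
    rintro _ ⟨z, hz, rfl⟩ hz'
    have : z ∈ ((↑) : X → ConnectedComponents X) ⁻¹' (((↑) : X → ConnectedComponents X) '' Z) := hz'
    rw [hsat hZ] at this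
    exact hz this

end Groth.Agent.S7584
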