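import Groth.Statements.S7590
import Groth.Agent.VarGal.Components

set_option autoImplicit false
universe u
open CategoryTheory CategoryTheory.Limits AlgebraicGeometry
open Variety

namespace Groth.Agent.S7590

/-- Let k be a separably closed field, K any extension field of k and X a scheme over k. Then the
projection X_K → X induces a bijection between the sets of connected components. -/
theorem result (k : Type u) [Field k] [IsSepClosed k] (X : Scheme.{u}) [X.Over (Spec (CommRingCat.of k))]
    (K : Type u) [Field K] [Algebra k K] :
    Function.Bijective (Continuous.connectedComponentsMap (Curv2.bcFst k X K).continuous) := by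
  refine ⟨?_, fun c => ?_⟩
  · rintro ⟨a⟩ ⟨b⟩ h
    have h' : connectedComponent ((Curv2.bcFst k X K).base a) = connectedComponent ((Curv2.bcFst k X K).base b) :=
      ConnectedComponents.coe_eq_coe.1 h
    refine ConnectedComponents.coe_eq_coe.2 ?_
    have hconn := FBase64.isConnected_preimage_fst (X ↘ Spec (CommRingCat.of k)) (algebraMap k K)
      (isConnected_connectedComponent (x := (Curv2.bcFst k X K).base a))
    exact connectedComponent_eq (hconn.isPreconnected.subset_connectedComponent mem_connectedComponent
      (show (Curv2.bcFst k X K).base b ∈ connectedComponent ((Curv2.bcFst k X K).base a) from h' ▸ mem_connectedComponent))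
  · obtain ⟨x, rfl⟩ := ConnectedComponents.surjective_coe c
    obtain ⟨y, rfl⟩ := VarGal.surjective_fst (k := k) (X := X) (K := K) x
    exact ⟨ConnectedComponents.mk y, rfl⟩

end Groth.Agent.S7590
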