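import Groth.Statements.S7592
import Groth.Agent.VarGal.Components

set_option autoImplicit false
universe u
open CategoryTheory CategoryTheory.Limits AlgebraicGeometry
open Variety

namespace Groth.Agent.S7592

/-- Let K be a (possibly infinite) Galois extension of a field k and f : T → X a morphism of schemes
over k. If the base change T_K is connected and X_K is not connected, then X is not connected. -/
theorem result (k : Type u) [Field k] (K : Type u) [Field K] [Algebra k K] [IsGalois k K]
    (T X : Scheme.{u}) [T.Over (Spec (CommRingCat.of k))] [X.Over (Spec (CommRingCat.of k))]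
    (f : T ⟶ X) [f.IsOver (Spec (CommRingCat.of k))]
    [ConnectedSpace ↥(Curv2.bc k T K)] (hX : ¬ ConnectedSpace ↥(Curv2.bc k X K)) :
    ¬ ConnectedSpace ↥X := by
  intro hcon
  apply hX
  let fK : Curv2.bc k T K ⟶ Curv2.bc k X K :=
    pullback.map _ _ _ _ f (𝟙 _) (𝟙 _) (by rw [Category.comp_id]; exact (comp_over f (Spec (CommRingCat.of k))).symm) (by simp)
  obtain ⟨w⟩ := (inferInstance : Nonempty ↥(Curv2.bc k T K))
  have hrange : Set.range fK.base ⊆ connectedComponent (fK.base w) :=
    (isConnected_range fK.continuous).isPreconnected.subset_connectedComponent ⟨w, rfl⟩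
  have hinv : ∀ σ : K ≃ₐ[k] K, (Curv2.galAct k X K σ).base '' connectedComponent (fK.base w) =
      connectedComponent (fK.base w) := by
    intro σ
    have hcomm : fK ≫ Curv2.galAct k X K σ = Curv2.galAct k T K σ ≫ fK := by
      apply pullback.hom_ext
      · rw [Category.assoc, VarGal.galAct_fst, Category.assoc, pullback.lift_fst,
          ← Category.assoc, VarGal.galAct_fst]
      · simp only [fK, Category.assoc, pullback.lift_snd, Category.comp_id, VarGal.galAct_snd,
          pullback.lift_snd_assoc]
    rw [VarGal.galAct_image_connectedComponent]
    refine (connectedComponent_eq ?_).symm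
    rw [← Scheme.Hom.comp_apply, hcomm, Scheme.Hom.comp_apply]
    exact hrange ⟨_, rfl⟩
  have h1 := VarGal.preimage_image_of_invariant hinv
  rw [VarGal.image_connectedComponent, PreconnectedSpace.connectedComponent_eq_univ, Set.preimage_univ] at h1
  rw [connectedSpace_iff_univ, h1]
  exact isConnected_connectedComponent

end Groth.Agent.S7592
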