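import Groth.Statements.S7596
import Groth.Agent.VarGal.GenIrred

set_option autoImplicit false
universe u
open CategoryTheory CategoryTheory.Limits AlgebraicGeometry
open Variety

namespace Groth.Agent.S7596

attribute [local instance] Curv2.resAlgebra in
set_option backward.isDefEq.respectTransparency.types false in

/-- Let X be an irreducible scheme over a field k whose k-rational points (points x at which k → κ(x) is
onto) form a dense subset. Then X is geometrically irreducible over k. -/
theorem result (k : Type u) [Field k] (X : Scheme.{u}) [X.Over (Spec (CommRingCat.of k))] [IrreducibleSpace ↥X]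
    (hd : Dense {x : ↥X | Function.Surjective (Curv2.resMap k X x)}) :
    GeometricallyIrreducible (X ↘ (Spec (CommRingCat.of k))) := by
  by_contra h
  obtain ⟨Y, hY, hint, hmem⟩ := Groth.Agent.FBase64.exists_nowhereDense_containing_purelyInseparable _ h
  have hsub : closure {x : ↥X | Function.Surjective (Curv2.resMap k X x)} ⊆ Y :=
    closure_minimal (fun x hx => hmem x (Groth.Agent.VarGal.residueFieldProp_of_resMap x
      (P := fun K _ _ => IsPurelyInseparable k K) (isPurelyInseparable_iff.2 fun a => by
        obtain ⟨r, rfl⟩ := hx a
        exact ⟨isIntegral_algebraMap, fun _ => ⟨r, rfl⟩⟩))) hY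
  rw [hd.closure_eq] at hsub
  rw [Set.univ_subset_iff.1 hsub, interior_univ] at hint
  exact Set.univ_nonempty.ne_empty hint

end Groth.Agent.S7596
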