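import Groth.Statements.S7598
import Groth.Agent.VarGal.Components

set_option autoImplicit false
universe u
open CategoryTheory CategoryTheory.Limits AlgebraicGeometry
open Variety

namespace Groth.Agent.S7598

/-- Let k̄ be a separable algebraic closure of a field k and X a scheme over k. Two irreducible
components Z', Z'' of X_{k̄} have the same image in X if and only if Z'' is the image of Z' under
the action of some k-automorphism of k̄ on X_{k̄} (the fibres of the map on irreducible components
are the Galois orbits). -/
theorem result (k : Type u) [Field k] (X : Scheme.{u}) [X.Over (Spec (CommRingCat.of k))]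
    (Z' Z'' : Set ↥(Curv2.bc k X (SeparableClosure k))) (hZ' : Z' ∈ irreducibleComponents ↥(Curv2.bc k X (SeparableClosure k)))
    (hZ'' : Z'' ∈ irreducibleComponents ↥(Curv2.bc k X (SeparableClosure k))) :
    (Curv2.bcFst k X (SeparableClosure k)).base '' Z' = (Curv2.bcFst k X (SeparableClosure k)).base '' Z'' ↔
      ∃ σ : SeparableClosure k ≃ₐ[k] SeparableClosure k, (Curv2.galAct k X (SeparableClosure k) σ).base '' Z' = Z'' := by
  refine ⟨fun h => ?_, ?_⟩
  · rw [(VarGal.image_irreducibleComponent hZ').1, (VarGal.image_irreducibleComponent hZ'').1] at h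
    have hp : (Curv2.bcFst k X (SeparableClosure k)).base hZ'.1.genericPoint =
        (Curv2.bcFst k X (SeparableClosure k)).base hZ''.1.genericPoint :=
      ((specializes_iff_mem_closure.2 (h.ge (subset_closure rfl))).antisymm
        (specializes_iff_mem_closure.2 (h.le (subset_closure rfl)))).eq
    obtain ⟨σ, hσ⟩ := VarGal.exists_galAct_apply_eq hp
    exact ⟨σ, by rw [VarGal.galAct_genericPoint_eq σ hZ', hσ, VarGal.closure_genericPoint hZ'']⟩
  · rintro ⟨σ, rfl⟩
    rw [Set.image_image]
    exact Set.image_congr fun a _ => (VarGal.fst_galAct σ a).symm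

end Groth.Agent.S7598
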