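import Groth.Statements.S7599
import Groth.Agent.VarNormal.Pointwise
import Groth.Agent.VarGal.GeomRed

set_option autoImplicit false
universe u
open CategoryTheory CategoryTheory.Limits AlgebraicGeometry
attribute [local instance] Curv2.stalkAlgebra
open scoped TensorProduct
open Variety

namespace Groth.Agent.S7599

/-- Let X be a scheme over a field k and x a point of X. These conditions are equivalent: (1) the scheme
X is geometrically normal at x (meaning: for any extension field k' and any point x' of X_{k'} over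
x the local ring O_{X_{k'}, x'} is an integrally closed domain); (2) the same for the finite purely
inseparable extensions k' of k only; (3) for every extension field k' of k the ring k' ⊗_k O_{X, x}
is normal (all its localisations at primes are integrally closed domains). Stated as (1) ↔ (2)
together with (2) ↔ (3). -/
theorem result (k : Type u) [Field k] (X : Scheme.{u}) [X.Over (Spec (CommRingCat.of k))] (x : ↥X) :
    ((∀ (k' : Type u) [Field k'] [Algebra k k'] (x' : ↥(Curv2.bc k X k')), Curv2.bcFst k X k' x' = x →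
          IsDomain ↥((Curv2.bc k X k').presheaf.stalk x') ∧ IsIntegrallyClosed ↥((Curv2.bc k X k').presheaf.stalk x')) ↔
      (∀ (k' : Type u) [Field k'] [Algebra k k'] [FiniteDimensional k k'] [IsPurelyInseparable k k'] (x' : ↥(Curv2.bc k X k')), Curv2.bcFst k X k' x' = x →
          IsDomain ↥((Curv2.bc k X k').presheaf.stalk x') ∧ IsIntegrallyClosed ↥((Curv2.bc k X k').presheaf.stalk x'))) ∧
    ((∀ (k' : Type u) [Field k'] [Algebra k k'] [FiniteDimensional k k'] [IsPurelyInseparable k k'] (x' : ↥(Curv2.bc k X k')), Curv2.bcFst k X k' x' = x →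
          IsDomain ↥((Curv2.bc k X k').presheaf.stalk x') ∧ IsIntegrallyClosed ↥((Curv2.bc k X k').presheaf.stalk x')) ↔
      ∀ (k' : Type u) [Field k'] [Algebra k k'], EGA4.IsNormalRing (k' ⊗[k] ↥(X.presheaf.stalk x))) := by
  obtain ⟨A, _, _, j, _, ⟨p, rfl⟩, hj⟩ := FBase64.exists_chart (X ↘ (Spec (CommRingCat.of k))) x
  obtain ⟨e⟩ := VarGal.exists_stalk_algEquiv j hj (show PrimeSpectrum A from p)
  have h12 : ∀ (_ : ∀ (k' : Type u) [Field k'] [Algebra k k'] [FiniteDimensional k k'] [IsPurelyInseparable k k']
      (x' : ↥(Curv2.bc k X k')), Curv2.bcFst k X k' x' = j p →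
        IsDomain ↥((Curv2.bc k X k').presheaf.stalk x') ∧ IsIntegrallyClosed ↥((Curv2.bc k X k').presheaf.stalk x'))
      (K : Type u) [Field K] [Algebra k K],
      EGA4.IsNormalRing (Localization.AtPrime (show PrimeSpectrum A from p).asIdeal ⊗[k] K) := fun h K _ _ =>
    VarNormal.isNormalRing_local_tensor_of_forall A _ K
      (fun k' _ _ _ _ => (VarNormal.forall_over_iff j hj p k').1 (h k'))
  have hback : ∀ (_ : ∀ (k' : Type u) [Field k'] [Algebra k k'], EGA4.IsNormalRing (k' ⊗[k] ↥(X.presheaf.stalk (j p))))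
      (K : Type u) [Field K] [Algebra k K] (x' : ↥(Curv2.bc k X K)), Curv2.bcFst k X K x' = j p →
        IsDomain ↥((Curv2.bc k X K).presheaf.stalk x') ∧ IsIntegrallyClosed ↥((Curv2.bc k X K).presheaf.stalk x') :=
    fun h K _ _ => (VarNormal.forall_over_iff j hj p K).2 (VarNormal.normalAt_of_isNormalRing_local A _ K
      (EGA4H10.isNormalRing_of_ringEquiv ((Algebra.TensorProduct.comm k K _).toRingEquiv.trans
        (Algebra.TensorProduct.congr e AlgEquiv.refl).toRingEquiv) (h K)))
  have hfwd : ∀ (_ : ∀ (K : Type u) [Field K] [Algebra k K],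
      EGA4.IsNormalRing (Localization.AtPrime (show PrimeSpectrum A from p).asIdeal ⊗[k] K))
      (K : Type u) [Field K] [Algebra k K], EGA4.IsNormalRing (K ⊗[k] ↥(X.presheaf.stalk (j p))) := fun h K _ _ =>
    VarNormal.isNormalRing_comm k _ K (EGA4H10.isNormalRing_of_ringEquiv
      (Algebra.TensorProduct.congr e.symm AlgEquiv.refl).toRingEquiv (h K))
  exact ⟨⟨fun h k' _ _ _ _ => h k', fun h => hback (hfwd (h12 h))⟩,
    ⟨fun h => hfwd (h12 h), fun h k' _ _ _ _ => hback h k'⟩⟩

end Groth.Agent.S7599
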