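import Groth.Statements.S7600
import Groth.Agent.VarNormal.Pointwise

set_option autoImplicit false
universe u
open CategoryTheory CategoryTheory.Limits AlgebraicGeometry
open Variety

open scoped TensorProduct

namespace Groth.Agent.S7600

/-- (2) ⇒ (1): let X be a scheme over a field k, k' an extension field of k and x' a point of X_{k'}
with image x in X. If X_{k'} is geometrically normal at x' over k' (for every extension field k'' of
k' and every point x'' of (X_{k'})_{k''} over x' the local ring at x'' is an integrally closed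
domain), then X is geometrically normal at x over k. -/
theorem result (k : Type u) [Field k] (X : Scheme.{u}) [X.Over (Spec (CommRingCat.of k))] (k' : Type u) [Field k'] [Algebra k k'] (x' : ↥(Curv2.bc k X k'))
    (h : letI : (Curv2.bc k X k').Over (Spec (CommRingCat.of k')) := ⟨Curv2.bcSnd k X k'⟩
      ∀ (k'' : Type u) [Field k''] [Algebra k' k''] (x'' : ↥(Curv2.bc k' (Curv2.bc k X k') k'')), Curv2.bcFst k' (Curv2.bc k X k') k'' x'' = x' →
          IsDomain ↥((Curv2.bc k' (Curv2.bc k X k') k'').presheaf.stalk x'') ∧ IsIntegrallyClosed ↥((Curv2.bc k' (Curv2.bc k X k') k'').presheaf.stalk x'')) :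
    ∀ (K : Type u) [Field K] [Algebra k K] (y : ↥(Curv2.bc k X K)), Curv2.bcFst k X K y = (Curv2.bcFst k X k' x') →
          IsDomain ↥((Curv2.bc k X K).presheaf.stalk y) ∧ IsIntegrallyClosed ↥((Curv2.bc k X K).presheaf.stalk y) := by
  obtain ⟨A, _, _, j, _, hx, hj⟩ := FBase64.exists_chart (X ↘ (Spec (CommRingCat.of k))) (Curv2.bcFst k X k' x')
  obtain ⟨q, hq⟩ := hx
  obtain ⟨P', rfl⟩ : x' ∈ Set.range (VarNormal.leftChart j hj k') := by
    have hr : x' ∈ Set.range (FBase64.prodChart (X ↘ (Spec (CommRingCat.of k)))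
        (Spec.map (CommRingCat.ofHom (algebraMap k k'))) j (𝟙 _) hj (Category.id_comp _)) := by
      rw [FBase64.range_prodChart]; exact ⟨⟨q, hq⟩, ⟨_, rfl⟩⟩
    obtain ⟨P, hP⟩ := hr
    have : IsIso (CommRingCat.ofHom (Algebra.TensorProduct.comm k A k').toRingEquiv.toRingHom) :=
      (Algebra.TensorProduct.comm k A k').toRingEquiv.toCommRingCatIso.isIso_hom
    obtain ⟨Q, rfl⟩ := (Spec.map (CommRingCat.ofHom (Algebra.TensorProduct.comm k A k').toRingEquiv.toRingHom)).surjective P
    exact ⟨Q, hP⟩
  let P : PrimeSpectrum (k' ⊗[k] A) := P'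
  have hpt : Curv2.bcFst k X k' (VarNormal.leftChart j hj k' P') =
      j (PrimeSpectrum.comap (Algebra.TensorProduct.includeRight : A →ₐ[k] k' ⊗[k] A).toRingHom P) := by
    show (VarNormal.leftChart j hj k' ≫ pullback.fst _ _) P' = _
    rw [VarNormal.leftChart_fst]
    rfl
  rw [hpt]
  intro K _ _
  refine (VarNormal.forall_over_iff j hj _ K).2 (VarNormal.normalAt_of_isNormalRing_local A _ K
    (VarNormal.isNormalRing_local_tensor_of_forall A _ K fun K' _ _ _ _ => ?_))
  intro R _ hR
  refine VarNormal.normalAt_of_baseChange A k' P.asIdeal (fun M _ _ => ?_) K' R hR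
  letI : (Curv2.bc k X k').Over (Spec (CommRingCat.of k')) := ⟨Curv2.bcSnd k X k'⟩
  exact (VarNormal.forall_over_iff (k := k') (X := Curv2.bc k X k') (VarNormal.leftChart j hj k') (VarNormal.leftChart_snd j hj k') P M).1
    (fun x'' hx'' => h M x'' hx'')

end Groth.Agent.S7600
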