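import Groth.Statements.S7601
import Groth.Agent.VarNormal.Scheme
import Groth.Agent.VarNormal.Tensor

set_option autoImplicit false
universe u
open CategoryTheory CategoryTheory.Limits AlgebraicGeometry
open Variety

namespace Groth.Agent.S7601

/-- Let X be a geometrically normal scheme over a field k (X_K is a normal scheme for every extension
field K of k) and Y a normal scheme over k. Then X ×_k Y is a normal scheme. -/
theorem result (k : Type u) [Field k] (X : Scheme.{u}) [X.Over (Spec (CommRingCat.of k))] (Y : Scheme.{u}) [Y.Over (Spec (CommRingCat.of k))]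
    (hX : ∀ (K : Type u) [Field K] [Algebra k K], Pi1.IsNormalScheme (Curv2.bc k X K)) (hY : Pi1.IsNormalScheme Y) :
    Pi1.IsNormalScheme (pullback (X ↘ (Spec (CommRingCat.of k))) (Y ↘ (Spec (CommRingCat.of k)))) := by
  intro z
  let f := X ↘ (Spec (CommRingCat.of k))
  let g := Y ↘ (Spec (CommRingCat.of k))
  obtain ⟨A, _, _, j, _, hx, hj⟩ := FBase64.exists_chart f (pullback.fst f g z)
  obtain ⟨B, _, _, j', _, hy, hj'⟩ := FBase64.exists_chart g (pullback.snd f g z)
  obtain ⟨R, rfl⟩ : z ∈ Set.range (FBase64.prodChart f g j j' hj hj') := by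
    rw [FBase64.range_prodChart]; exact ⟨hx, hy⟩
  obtain ⟨e⟩ := FBase64.nonempty_stalkEquiv (FBase64.prodChart f g j j' hj hj') R
  obtain ⟨_, _⟩ := VarNormal.isNormalRing_tensor A B
    (fun K _ _ => VarNormal.isNormalRing_chart_of_isNormalScheme j hj K (hX K))
    (VarNormal.isNormalRing_of_chart j' hY) (show PrimeSpectrum _ from R).asIdeal
  exact ⟨e.toMulEquiv.isDomain _, IsIntegrallyClosed.of_equiv e.symm⟩

end Groth.Agent.S7601
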