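import Groth.Statements.S7607
import Groth.Agent.VarRegular.Pointwise

set_option autoImplicit false
universe u
open CategoryTheory CategoryTheory.Limits AlgebraicGeometry
open Variety

open scoped TensorProduct

namespace Groth.Agent.S7607

/-- (2) ⇒ (1): let X be a scheme over a field k, k' a finitely generated field extension of k and x' a
point of X_{k'} with image x in X. If X_{k'} is geometrically regular at x' over k', then X is
geometrically regular at x over k. (The published setting defines geometric regularity only for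
locally Noetherian schemes; this row allows any scheme X over k.) -/
theorem result (k : Type u) [Field k] (X : Scheme.{u}) [X.Over (Spec (CommRingCat.of k))] (k' : Type u) [Field k'] [Algebra k k'] (hfg : (⊤ : IntermediateField k k').FG)
    (x' : ↥(Curv2.bc k X k'))
    (h : @Curv2.IsGeomRegularAt k' _ (Curv2.bc k X k') ⟨Curv2.bcSnd k X k'⟩ x') :
    Curv2.IsGeomRegularAt k X (Curv2.bcFst k X k' x') := by
  obtain ⟨A, _, _, j, _, hx, hj⟩ := FBase64.exists_chart (X ↘ (Spec (CommRingCat.of k))) (Curv2.bcFst k X k' x')
  obtain ⟨q, hq⟩ := hx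
  obtain ⟨P', rfl⟩ : x' ∈ Set.range (VarNormal.leftChart j hj k') := by
    have hr : x' ∈ Set.range (FBase64.prodChart (X ↘ (Spec (CommRingCat.of k)))
        (Spec.map (CommRingCat.ofHom (algebraMap k k'))) j (𝟙 _) hj (Category.id_comp _)) := by
      rw [FBase64.range_prodChart]; exact ⟨⟨q, hq⟩, ⟨_, rfl⟩⟩
    obtain ⟨P, hP⟩ := hr
    have : IsIso (CommRingCat.ofHom (Algebra.TensorProduct.comm k A k').toRingEquiv.toRingHom) :=
      (Algebra.TensorProduct.comm k A k').toRingEquiv.toCommRingCatIso.isIso_hom
    obtain ⟨Q, rfl⟩ := (Spec.map (CommRingCat.ofHom (Algebra.TensorProduct.comm k A k').toRingEquiv.toRingHom)).surjective P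
    exact ⟨Q, hP⟩
  let P : PrimeSpectrum (k' ⊗[k] A) := P'
  have hpt : Curv2.bcFst k X k' (VarNormal.leftChart j hj k' P') =
      j (PrimeSpectrum.comap (Algebra.TensorProduct.includeRight : A →ₐ[k] k' ⊗[k] A).toRingHom P) := by
    show (VarNormal.leftChart j hj k' ≫ pullback.fst _ _) P' = _
    rw [VarNormal.leftChart_fst]
    rfl
  rw [hpt]
  let p := PrimeSpectrum.comap (Algebra.TensorProduct.includeRight : A →ₐ[k] k' ⊗[k] A).toRingHom P
  have hins : ∀ (K' : Type u) [Field K'] [Algebra k K'] [FiniteDimensional k K'] [IsPurelyInseparable k K']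
      (R : Ideal (A ⊗[k] K')) [R.IsPrime], R.comap (algebraMap A (A ⊗[k] K')) = p.asIdeal → VarRegular.RegAt R := by
    intro K' _ _ _ _ R _ hR
    refine VarRegular.regAt_of_baseChange A k' P.asIdeal (fun M _ _ hM => ?_) K' R hR
    letI : (Curv2.bc k X k').Over (Spec (CommRingCat.of k')) := ⟨Curv2.bcSnd k X k'⟩
    exact (VarRegular.forall_over_iff (k := k') (X := Curv2.bc k X k') (VarNormal.leftChart j hj k')
      (VarNormal.leftChart_snd j hj k') P M).1 (fun x'' hx'' => h M hM x'' hx'')
  have : IsNoetherianRing (Localization.AtPrime p.asIdeal) := by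
    obtain ⟨R, hR⟩ := (PrimeSpectrum.isHomeomorph_comap_of_isPurelyInseparable k k A).bijective.surjective p
    have hreg : VarRegular.RegAt R.asIdeal := hins k R.asIdeal (congrArg PrimeSpectrum.asIdeal hR)
    let r := (Algebra.TensorProduct.rid k k A).toRingEquiv
    have hr : R.asIdeal = p.asIdeal.comap r.toRingHom := by
      ext z
      obtain ⟨a, rfl⟩ := r.symm.surjective z
      rw [Ideal.mem_comap, ← hR]
      show r.symm a ∈ R.asIdeal ↔ algebraMap A (A ⊗[k] k) (r (r.symm a)) ∈ R.asIdeal
      rw [RingEquiv.apply_symm_apply]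
      rfl
    let e : Localization.AtPrime R.asIdeal ≃+* Localization.AtPrime p.asIdeal :=
      IsLocalization.ringEquivOfRingEquiv (M := R.asIdeal.primeCompl) (T := p.asIdeal.primeCompl) _ _ r (by
        ext a
        refine ⟨?_, fun ha => ⟨r.symm a, ?_, r.apply_symm_apply a⟩⟩
        · rintro ⟨z, hz, rfl⟩
          exact fun hh => hz (show z ∈ R.asIdeal from hr ▸ hh)
        · intro hh
          have h2 : r.symm a ∈ p.asIdeal.comap r.toRingHom := hr ▸ hh
          have h3 : r (r.symm a) ∈ p.asIdeal := h2
          rw [RingEquiv.apply_symm_apply] at h3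
          exact ha h3)
    have : IsRegularLocalRing (Localization.AtPrime R.asIdeal) := hreg
    exact isNoetherianRing_of_ringEquiv _ e
  intro K _ _ hK
  have := IntermediateField.fg_top_iff.1 hK
  have := VarRegular.isRegularRing_local_tensor_of_forall A p.asIdeal K hins
  exact (VarRegular.forall_over_iff j hj p K).2 (VarRegular.regAt_of_isRegularRing_local A _ K)

end Groth.Agent.S7607
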