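import Groth.Statements.S7612
import Mathlib.AlgebraicGeometry.Morphisms.UniversallyOpen
import Mathlib.AlgebraicGeometry.PullbackCarrier


set_option autoImplicit false
universe u
open CategoryTheory CategoryTheory.Limits AlgebraicGeometry
open Variety

namespace Groth.Agent.S7612

/-- Let X and Y be schemes over a field k and A ⊆ X, B ⊆ Y subsets. Inside X ×_k Y, the closure of the
set of points projecting into A and into B equals the set of points projecting into the closure of A
and into the closure of B. -/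
theorem result (k : Type u) [Field k] (X : Scheme.{u}) [X.Over (Spec (CommRingCat.of k))] (Y : Scheme.{u}) [Y.Over (Spec (CommRingCat.of k))] (A : Set ↥X) (B : Set ↥Y) :
    closure ((pullback.fst (X ↘ (Spec (CommRingCat.of k))) (Y ↘ (Spec (CommRingCat.of k)))).base ⁻¹' A ∩ (pullback.snd (X ↘ (Spec (CommRingCat.of k))) (Y ↘ (Spec (CommRingCat.of k)))).base ⁻¹' B) =
      (pullback.fst (X ↘ (Spec (CommRingCat.of k))) (Y ↘ (Spec (CommRingCat.of k)))).base ⁻¹' closure A ∩ (pullback.snd (X ↘ (Spec (CommRingCat.of k))) (Y ↘ (Spec (CommRingCat.of k)))).base ⁻¹' closure B := by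
  classical
  set pX := X ↘ Spec (CommRingCat.of k)
  set pY := Y ↘ Spec (CommRingCat.of k)
  set P := pullback pX pY
  let p₁ : P ⟶ X := pullback.fst pX pY
  let p₂ : P ⟶ Y := pullback.snd pX pY
  refine Set.Subset.antisymm (closure_minimal (Set.inter_subset_inter
    (Set.preimage_mono subset_closure) (Set.preimage_mono subset_closure))
    ((isClosed_closure.preimage p₁.continuous).inter (isClosed_closure.preimage p₂.continuous))) ?_
  rintro z ⟨hzA, hzB⟩
  refine mem_closure_iff.2 fun W hW hzW => ?_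
  let t := Y.fromSpecResidueField (p₂ z) ≫ pY
  let j : pullback pX t ⟶ P := pullback.map _ _ _ _ (𝟙 X) (Y.fromSpecResidueField (p₂ z)) (𝟙 _) (by simp [pX]) (by simp [t, pY])
  have hj1 : j ≫ p₁ = pullback.fst pX t := (pullback.lift_fst _ _ _).trans (Category.comp_id _)
  have hjr : Set.range j = p₂ ⁻¹' {p₂ z} := by
    refine (Scheme.Pullback.range_map _ _ _ _ _ _ _ _ _).trans ?_
    rw [Scheme.range_fromSpecResidueField]
    simp [p₂]
  obtain ⟨w, hw⟩ : z ∈ Set.range j := hjr.ge rfl
  have hUopen : IsOpen (pullback.fst pX t '' (j ⁻¹' W)) :=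
    (pullback.fst pX t).isOpenMap _ (hW.preimage j.continuous)
  obtain ⟨a, ⟨v, hv, hva⟩, haA⟩ := mem_closure_iff.1 hzA _ hUopen
    ⟨w, show j w ∈ W from hw.symm ▸ hzW, by
      show pullback.fst pX t w = p₁ z
      rw [← hj1, Scheme.Hom.comp_apply, hw]⟩
  let z' : P := j v
  have hz'2 : p₂ z' = p₂ z := hjr.le ⟨v, rfl⟩
  have hz'1 : p₁ z' = a := by rw [← hva, ← hj1, Scheme.Hom.comp_apply]
  let s := X.fromSpecResidueField (p₁ z') ≫ pX
  let i : pullback s pY ⟶ P := pullback.map _ _ _ _ (X.fromSpecResidueField (p₁ z')) (𝟙 Y) (𝟙 _) (by simp [s, pX]) (by simp [pY])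
  have hi2 : i ≫ p₂ = pullback.snd s pY := (pullback.lift_snd _ _ _).trans (Category.comp_id _)
  have hir : Set.range i = p₁ ⁻¹' {p₁ z'} := by
    refine (Scheme.Pullback.range_map _ _ _ _ _ _ _ _ _).trans ?_
    rw [Scheme.range_fromSpecResidueField]
    simp [p₁]
  obtain ⟨w', hw'⟩ : z' ∈ Set.range i := hir.ge rfl
  have hVopen : IsOpen (pullback.snd s pY '' (i ⁻¹' W)) :=
    (pullback.snd s pY).isOpenMap _ (hW.preimage i.continuous)
  obtain ⟨b, ⟨v', hv', hvb⟩, hbB⟩ := mem_closure_iff.1 hzB _ hVopen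
    ⟨w', show i w' ∈ W from hw'.symm ▸ hv, by
      show pullback.snd s pY w' = p₂ z
      rw [← hi2, Scheme.Hom.comp_apply, hw', hz'2]⟩
  refine ⟨i v', hv', ?_, ?_⟩
  · show p₁ (i v') ∈ A
    rw [hir.le ⟨v', rfl⟩, hz'1]; exact haA
  · show p₂ (i v') ∈ B
    rw [← Scheme.Hom.comp_apply, hi2, hvb]; exact hbB

end Groth.Agent.S7612
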