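import Groth.Statements.S7615
import Groth.Agent.VarH0x75.Global
import Groth.Agent.Crv77.Sections
import Groth.Agent.Crv77.Degree
import Groth.Agent.Serre71.Finite

set_option autoImplicit false
universe u
open CategoryTheory CategoryTheory.Limits AlgebraicGeometry
open Variety

namespace Groth.Agent.S7615

/-- Let X be a proper variety over a field k (integral, separated, of finite type and proper over k) and
K = H^0(X, O_X), a k-algebra via the structure morphism. Then K is a field, finite over k; K/k is
separable when X is geometrically reduced over k, and purely inseparable when X is geometrically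
irreducible over k. -/
theorem result (k : Type u) [Field k] (X : Scheme.{u}) [X.Over (Spec (CommRingCat.of k))] [IsIntegral X] [IsProper (X ↘ (Spec (CommRingCat.of k)))] :
    letI := ((X ↘ (Spec (CommRingCat.of k))).appTop.hom.comp (Scheme.ΓSpecIso (CommRingCat.of k)).inv.hom : k →+* Γ(X, ⊤)).toAlgebra
    IsField ↑Γ(X, ⊤) ∧ Module.Finite k ↑Γ(X, ⊤) ∧
      (GeometricallyReduced (X ↘ (Spec (CommRingCat.of k))) → Algebra.IsSeparable k ↑Γ(X, ⊤)) ∧
      (GeometricallyIrreducible (X ↘ (Spec (CommRingCat.of k))) → IsPurelyInseparable k ↑Γ(X, ⊤)) := by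
  letI alg : Algebra k Γ(X, ⊤) :=
    ((X ↘ (Spec (CommRingCat.of k))).appTop.hom.comp (Scheme.ΓSpecIso (CommRingCat.of k)).inv.hom :
      k →+* Γ(X, ⊤)).toAlgebra
  have := Serre71.finite_hh_of_isProper k (Coh.structureModule X) Crv77.isCoh_structureModule 0
  let l : Coh.HH X (Coh.structureModule X) 0 ≃ₗ[k] Γ(X, ⊤) :=
    { Crv77.sec (Coh.structureModule X) with
      map_smul' := fun a x => Crv77.sec_smul k (Coh.structureModule X) a x }
  have hfin : Module.Finite k Γ(X, ⊤) := Module.Finite.equiv l
  haveI : Algebra.IsIntegral k Γ(X, ⊤) := Algebra.IsIntegral.of_finite k _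
  haveI : Nonempty (⊤ : X.Opens) := ⟨⟨Nonempty.some inferInstance, trivial⟩⟩
  have hK : IsField Γ(X, ⊤) := isField_of_isIntegral_of_isField' (Field.toIsField k)
  exact ⟨hK, hfin, fun h => VarH0x75.isSeparable_global k _ hK hfin,
    fun h => VarH0x75.isPurelyInseparable_global k _ hK hfin⟩

end Groth.Agent.S7615
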