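import Groth.Statements.S7617
import Groth.Agent.S1585
import Groth.Agent.VarGal.GeomRed
import Groth.Agent.VarGal.SmoothGeomReg
import Groth.Agent.SpFP87.IntegralDim
import Groth.Agent.CAlg1.SerreNormal
import Groth.Agent.VarNormal.Scheme
import Groth.Agent.AlgGrp79.SepPoint
import Groth.Agent.Crv77.Basic

set_option autoImplicit false
universe u
open CategoryTheory CategoryTheory.Limits AlgebraicGeometry
open Variety

namespace Groth.Agent.S7617

/-- Let X be an integral scheme locally of finite type over a field k, ν : X^ν → X its normalization,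
and x a point of X with dim O_{X, x} = 1 such that for every point x' of X^ν over x the residue
field κ(x') is separable over k (Spec κ(x') → Spec k geometrically reduced). Then X is geometrically
reduced at x, and at every point of X^ν over x the normalization is geometrically regular. (The
published statement covers every scheme locally of finite type over k with reduced local ring at x,
using the normalization of a possibly non-integral scheme; this row takes X integral.) -/
theorem result (k : Type u) [Field k] (X : Scheme.{u}) [X.Over (Spec (CommRingCat.of k))] [IsIntegral X] [LocallyOfFiniteType (X ↘ (Spec (CommRingCat.of k)))]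
    [QuasiCompact (X.fromSpecStalk (genericPoint X))] [QuasiSeparated (X.fromSpecStalk (genericPoint X))]
    (x : ↥X) (hdim : ringKrullDim ↥(X.presheaf.stalk x) = 1)
    (hsep : letI : (Curv2.normalization X).Over (Spec (CommRingCat.of k)) := ⟨Curv2.normalizationι X ≫ (X ↘ (Spec (CommRingCat.of k)))⟩
      ∀ x' : ↥(Curv2.normalization X), Curv2.normalizationι X x' = x →
        GeometricallyReduced (Spec.map (CommRingCat.ofHom (Curv2.resMap k (Curv2.normalization X) x')))) :
    Curv2.IsGeomReducedAt k X x ∧
      letI : (Curv2.normalization X).Over (Spec (CommRingCat.of k)) := ⟨Curv2.normalizationι X ≫ (X ↘ (Spec (CommRingCat.of k)))⟩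
      ∀ x' : ↥(Curv2.normalization X), Curv2.normalizationι X x' = x → Curv2.IsGeomRegularAt k (Curv2.normalization X) x' := by
  let : (Curv2.normalization X).Over (Spec (CommRingCat.of k)) := ⟨Curv2.normalizationι X ≫ (X ↘ (Spec (CommRingCat.of k)))⟩
  obtain ⟨hfin, hdom, -, hint, hnorm⟩ := Groth.Agent.S1585.result k X
  let Y := Curv2.normalization X
  let ν : Y ⟶ X := Curv2.normalizationι X
  have : LocallyOfFiniteType (Y ↘ Spec (CommRingCat.of k)) :=
    inferInstanceAs (LocallyOfFiniteType (Curv2.normalizationι X ≫ (X ↘ Spec (CommRingCat.of k))))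
  have : IsLocallyNoetherian (Spec (CommRingCat.of k)) := inferInstance
  have : LocallyOfFinitePresentation (Y ↘ Spec (CommRingCat.of k)) := inferInstance
  have hsmooth : ∀ x' : Y, ν x' = x → x' ∈ (Y ↘ Spec (CommRingCat.of k)).smoothLocus := by
    intro x' hx'
    have hd : ringKrullDim (Y.presheaf.stalk x') ≤ 1 := by
      rw [ringKrullDim_stalk_eq_coheight]
      refine le_trans ?_ hdim.le
      rw [ringKrullDim_stalk_eq_coheight, ← hx']
      exact WithBot.coe_le_coe.mpr (Groth.Agent.SpFP87.coheight_le_of_integral ν x')
    have : IsLocallyNoetherian Y := LocallyOfFiniteType.isLocallyNoetherian (Y ↘ Spec (CommRingCat.of k))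
    obtain ⟨_, _⟩ := hnorm x'
    have : IsRegularLocalRing (Y.presheaf.stalk x') :=
      Groth.Agent.CAlg1.regular_of_isIntegrallyClosed_dim_le_one _ hd
    let := Curv2.resAlgebra k Y x'
    have : GeometricallyReduced (Spec.map (CommRingCat.ofHom (algebraMap k (Y.residueField x')))) := hsep x' hx'
    have : Algebra.IsGeometricallyReduced k (Y.residueField x') :=
      Groth.Agent.VarNormal.isGeometricallyReduced_of_specMap _
    have : Algebra.EssFiniteType k (Y.residueField x') := by
      obtain ⟨A, _, _, j, _, ⟨q, rfl⟩, hj⟩ := Groth.Agent.FBase64.exists_chart (Y ↘ Spec (CommRingCat.of k)) x'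
      have := Groth.Agent.VarGal.finiteType_of_chart _ j hj
      let := Curv2.stalkAlgebra k Y (j q)
      obtain ⟨e⟩ := Groth.Agent.VarGal.exists_stalk_algEquiv j hj q
      let φ : Localization.AtPrime (show PrimeSpectrum A from q).asIdeal →ₐ[k] Y.residueField (j q) :=
        { (Y.residue (j q)).hom.comp e.symm.toRingEquiv.toRingHom with
          commutes' := fun r => congrArg (Y.residue (j q)).hom (e.symm.commutes r) }
      have : Algebra.EssFiniteType k (Localization.AtPrime (show PrimeSpectrum A from q).asIdeal) :=
        Algebra.EssFiniteType.comp k A _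
      exact Algebra.EssFiniteType.of_surjective φ
        (((Y.residue_surjective (j q)).comp e.symm.surjective))
    have : IsReduced (TensorProduct k (AlgebraicClosure k) (Y.residueField x')) :=
      (Algebra.isGeometricallyReduced_field_iff (k := k) (A := Y.residueField x')).mp inferInstance
    have : Algebra.FormallySmooth k (Y.residueField x') :=
      Groth.Agent.AlgGrp79.formallySmooth_of_geomReduced_field k _
    exact Groth.Agent.VarGal.mem_smoothLocus_of_regular x'
  refine ⟨?_, fun x' hx' => Groth.Agent.VarGal.isGeomRegularAt_of_mem_smoothLocus x' (hsmooth x' hx')⟩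
  have : Surjective ν := ⟨by
    rw [← Set.range_eq_univ, ← ν.isClosedMap.isClosed_range.closure_eq]
    exact hdom.1.closure_range⟩
  obtain ⟨x', rfl⟩ := ν.surjective x
  have hgr : Curv2.IsGeomReducedAt k Y x' := by
    refine Groth.Agent.VarGal.isGeomReducedAt_of_forall_purelyInseparable x' fun k' _ _ _ _ z hz => ?_
    have := Groth.Agent.VarGal.isGeomRegularAt_of_mem_smoothLocus x' (hsmooth x' rfl) k'
      (IntermediateField.fg_of_noetherian _) z hz
    have := Groth.Agent.CAlg1.isDomain_regular ((Curv2.bc k Y k').presheaf.stalk z)
    infer_instance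
  rw [Groth.Agent.VarGal.isGeomReducedAt_iff_stalk] at hgr ⊢
  let := Curv2.stalkAlgebra k Y x'
  let := Curv2.stalkAlgebra k X (ν x')
  let φ : X.presheaf.stalk (ν x') →ₐ[k] Y.presheaf.stalk x' :=
    { (ν.stalkMap x').hom with
      commutes' := fun r => by
        have h : CommRingCat.ofHom (Curv2.stalkMap k X (ν x')) ≫ ν.stalkMap x' =
            CommRingCat.ofHom (Curv2.stalkMap k Y x') := by
          apply Spec.map_injective
          rw [Spec.map_comp, Groth.Agent.VarGal.SpecMap_curvStalkMap, Groth.Agent.VarGal.SpecMap_curvStalkMap,
            Scheme.SpecMap_stalkMap_fromSpecStalk_assoc]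
          rfl
        exact DFunLike.congr_fun (congrArg CommRingCat.Hom.hom h) r }
  refine Algebra.IsGeometricallyReduced.of_injective φ ?_
  have : IsIntegral Y := hint
  have hgen : ν (genericPoint Y) = genericPoint X := by
    refine IsGenericPoint.eq ?_ (genericPoint_spec X)
    have h := (genericPoint_spec Y).image ν.continuous
    rwa [Set.image_univ, hdom.1.closure_range] at h
  exact Groth.Agent.Crv77.stalkMap_injective ν hgen x'

end Groth.Agent.S7617
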