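import Groth.Statements.S7618


set_option autoImplicit false
universe u
open CategoryTheory CategoryTheory.Limits AlgebraicGeometry
open Variety

namespace Groth.Agent.S7618

/-- Let X be a connected reduced scheme over a field k. Then the global functions on X that are integral
over k form a field. -/
theorem result (k : Type u) [Field k] (X : Scheme.{u}) [X.Over (Spec (CommRingCat.of k))] [ConnectedSpace ↥X] [IsReduced X] :
    letI := ((X ↘ (Spec (CommRingCat.of k))).appTop.hom.comp (Scheme.ΓSpecIso (CommRingCat.of k)).inv.hom : k →+* Γ(X, ⊤)).toAlgebra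
    IsField ↥(integralClosure k ↑Γ(X, ⊤)) := by
  letI := ((X ↘ (Spec (CommRingCat.of k))).appTop.hom.comp (Scheme.ΓSpecIso (CommRingCat.of k)).inv.hom : k →+* Γ(X, ⊤)).toAlgebra
  haveI : Nonempty X := inferInstance
  haveI : Nontrivial Γ(X, ⊤) := by
    obtain ⟨x⟩ := ‹Nonempty X›
    exact (X.presheaf.germ ⊤ x trivial).hom.domain_nontrivial
  refine ⟨⟨0, 1, zero_ne_one⟩, mul_comm, fun {b} hb => ?_⟩
  have hb0 : b.1 ≠ 0 := fun h => hb (Subtype.ext h)
  obtain ⟨p, hpm, hp⟩ := (b.2 : IsIntegral k b.1)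
  replace hp : Polynomial.aeval b.1 p = 0 := hp
  obtain ⟨q, hpq, hq0⟩ := Polynomial.exists_eq_pow_rootMultiplicity_mul_and_not_dvd p hpm.ne_zero 0
  rw [map_zero, sub_zero] at hpq hq0
  rw [Polynomial.X_dvd_iff] at hq0
  have hdec : Polynomial.aeval b.1 q =
      b.1 * Polynomial.aeval b.1 q.divX + algebraMap k Γ(X, ⊤) (q.coeff 0) := by
    have h := congrArg (Polynomial.aeval b.1) (Polynomial.X_mul_divX_add q)
    rw [map_add, map_mul, Polynomial.aeval_X, Polynomial.aeval_C] at h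
    exact h.symm
  have hu : IsUnit (algebraMap k Γ(X, ⊤) (q.coeff 0)) := (isUnit_iff_ne_zero.2 hq0).map _
  have hcov : ∀ x : X, x ∈ X.basicOpen b.1 ∨ x ∈ X.basicOpen (Polynomial.aeval b.1 q) := by
    intro x
    by_contra hc
    push Not at hc
    rw [Scheme.mem_basicOpen X _ x (show x ∈ (⊤ : X.Opens) from trivial), Scheme.mem_basicOpen X _ x (show x ∈ (⊤ : X.Opens) from trivial),
      ← mem_nonunits_iff, ← mem_nonunits_iff, ← IsLocalRing.mem_maximalIdeal, ← IsLocalRing.mem_maximalIdeal] at hc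
    have h2 := Ideal.sub_mem _ hc.2 (Ideal.mul_mem_right ((X.presheaf.germ ⊤ x trivial) (Polynomial.aeval b.1 q.divX)) _ hc.1)
    rw [← map_mul, ← map_sub, hdec, add_sub_cancel_left] at h2
    exact (IsLocalRing.mem_maximalIdeal _).1 h2 (hu.map (X.presheaf.germ ⊤ x trivial).hom)
  have hprod : X.basicOpen b.1 ⊓ X.basicOpen (Polynomial.aeval b.1 q) = ⊥ := by
    have h0 : b.1 ^ (p.rootMultiplicity 0) * Polynomial.aeval b.1 q = 0 := by
      rw [← hp]; conv_rhs => rw [hpq]
      simp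
    rcases Nat.eq_zero_or_pos (p.rootMultiplicity 0) with hm | hm
    · rw [hm, pow_zero, one_mul] at h0
      rw [h0]; simp
    · rw [← X.basicOpen_pow _ hm, ← Scheme.basicOpen_mul, h0]
      simp
  have hclopen : IsClopen (X.basicOpen b.1 : Set X) := by
    refine ⟨⟨?_⟩, (X.basicOpen _).2⟩
    have : (X.basicOpen b.1 : Set X)ᶜ = X.basicOpen (Polynomial.aeval b.1 q) := by
      ext x
      exact ⟨fun h => (hcov x).resolve_left h, fun h h' =>
        (show x ∉ (⊥ : X.Opens) from id) (hprod.le ⟨h', h⟩)⟩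
    rw [this]; exact (X.basicOpen _).2
  rcases isClopen_iff.1 hclopen with h | h
  · exact absurd (AlgebraicGeometry.basicOpen_eq_bot_iff _ |>.1 (TopologicalSpace.Opens.ext h)) hb0
  have hbu : IsUnit b.1 := by
    refine X.toLocallyRingedSpace.toRingedSpace.isUnit_of_isUnit_germ ⊤ _ fun x hx => ?_
    exact (Scheme.mem_basicOpen X _ x hx).1 (h.ge trivial)
  have hq : Polynomial.aeval b.1 q = 0 := by
    refine (AlgebraicGeometry.basicOpen_eq_bot_iff _).1 (le_bot_iff.1 fun x hx => hprod.le ⟨h.ge trivial, hx⟩)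
  rw [hq] at hdec
  refine ⟨⟨-(algebraMap k Γ(X, ⊤) (q.coeff 0)⁻¹) * Polynomial.aeval b.1 q.divX, ?_⟩, Subtype.ext ?_⟩
  · exact mul_mem (neg_mem (Subalgebra.algebraMap_mem _ _))
      (Polynomial.aeval_subalgebra_coe q.divX (integralClosure k Γ(X, ⊤)) b ▸ SetLike.coe_mem _)
  · show b.1 * (-(algebraMap k Γ(X, ⊤) (q.coeff 0)⁻¹) * _) = 1
    have h1 : algebraMap k Γ(X, ⊤) (q.coeff 0)⁻¹ * algebraMap k Γ(X, ⊤) (q.coeff 0) = 1 := by
      rw [← map_mul, inv_mul_cancel₀ hq0, map_one]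
    linear_combination h1 + (algebraMap k Γ(X, ⊤) (q.coeff 0)⁻¹) * hdec

end Groth.Agent.S7618
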