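import Groth.Statements.S7619


set_option autoImplicit false
universe u
open CategoryTheory CategoryTheory.Limits AlgebraicGeometry
open scoped TensorProduct
open Variety

namespace Groth.Agent.S7619

/-- Let A → B be a finite type ring map (a finite type morphism of affine schemes), q a prime of B and r
= dim_{κ(q)} Ω_{B/A} ⊗_B κ(q). Then there is an A-algebra homomorphism A[x_1, …, x_r] → B for which
B is unramified over A[x_1, …, x_r] at q. -/
theorem result (A B : Type u) [CommRing A] [CommRing B] [Algebra A B] [Algebra.FiniteType A B]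
    (q : Ideal B) [q.IsPrime] (r : ℕ) (hr : Module.finrank q.ResidueField (q.ResidueField ⊗[B] Ω[B⁄A]) = r) :
    ∃ φ : MvPolynomial (Fin r) A →ₐ[A] B,
      letI := φ.toRingHom.toAlgebra
      Algebra.IsUnramifiedAt (MvPolynomial (Fin r) A) q := by
  classical
  let κ := q.ResidueField
  let M := κ ⊗[B] Ω[B⁄A]
  let δ : B → M := fun b => (1 : κ) ⊗ₜ KaehlerDifferential.D A B b
  have hspan : Submodule.span κ (Set.range δ) = ⊤ := by
    rw [eq_top_iff]
    rintro w -
    induction w using TensorProduct.induction_on with
    | zero => exact zero_mem _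
    | add a b ha hb => exact add_mem ha hb
    | tmul c m =>
      have hm : m ∈ Submodule.span B (Set.range (KaehlerDifferential.D A B)) := by
        rw [KaehlerDifferential.span_range_derivation]; trivial
      induction hm using Submodule.span_induction with
      | mem y hy =>
        obtain ⟨b, rfl⟩ := hy
        rw [show c ⊗ₜ[B] KaehlerDifferential.D A B b = c • δ b by
          show c ⊗ₜ[B] KaehlerDifferential.D A B b = (c • (1 : κ)) ⊗ₜ[B] KaehlerDifferential.D A B b
          rw [smul_eq_mul, mul_one]]
        exact Submodule.smul_mem _ _ (Submodule.subset_span ⟨b, rfl⟩)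
      | zero => simp
      | add a b _ _ ha hb => rw [TensorProduct.tmul_add]; exact add_mem ha hb
      | smul b y _ hy =>
        rw [TensorProduct.tmul_smul, ← algebraMap_smul κ b (c ⊗ₜ[B] y)]
        exact Submodule.smul_mem _ _ hy
  obtain ⟨J, eJ, -, hJspan, hJli⟩ := exists_linearIndependent' κ δ
  let bas := Module.Basis.mk hJli (by rw [hJspan, hspan])
  have : Finite J := Module.Finite.finite_basis bas
  have : Fintype J := Fintype.ofFinite J
  have hcard : Fintype.card J = r := by rw [← hr, Module.finrank_eq_card_basis bas]
  let ε : Fin r ≃ J := (Fintype.equivFinOfCardEq hcard).symm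
  refine ⟨MvPolynomial.aeval fun i => eJ (ε i), ?_⟩
  let φ : MvPolynomial (Fin r) A →ₐ[A] B := MvPolynomial.aeval fun i => eJ (ε i)
  let R := MvPolynomial (Fin r) A
  letI := φ.toRingHom.toAlgebra
  haveI : IsScalarTower A R B := .of_algebraMap_eq fun a => (φ.commutes a).symm
  haveI : Algebra.FiniteType R B := Algebra.FiniteType.of_restrictScalars_finiteType A R B
  suffices h : (⟨q, inferInstance⟩ : PrimeSpectrum B) ∈ Algebra.unramifiedLocus R B from h
  rw [Algebra.unramifiedLocus_eq_compl_support, Set.mem_compl_iff,
    Module.mem_support_iff_nontrivial_residueField_tensorProduct, not_nontrivial_iff_subsingleton]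
  let g : M →ₗ[B] κ ⊗[B] Ω[B⁄R] := (KaehlerDifferential.map A R B B).lTensor κ
  have hgs : Function.Surjective g :=
    LinearMap.lTensor_surjective κ (KaehlerDifferential.map_surjective_of_surjective A R B B Function.surjective_id)
  refine subsingleton_of_forall_eq 0 fun y => ?_
  obtain ⟨w, rfl⟩ := hgs y
  have hw : w ∈ Submodule.span κ (Set.range (δ ∘ eJ)) := by rw [hJspan, hspan]; trivial
  induction hw using Submodule.span_induction with
  | mem x hx =>
    obtain ⟨j, rfl⟩ := hx
    have : algebraMap R B (MvPolynomial.X (ε.symm j)) = eJ j := by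
      show φ _ = _; simp [φ]
    show (1 : κ) ⊗ₜ[B] KaehlerDifferential.map A R B B (KaehlerDifferential.D A B (eJ j)) = 0
    rw [KaehlerDifferential.map_D, show (algebraMap B B) (eJ j) = eJ j from rfl, ← this, Derivation.map_algebraMap, TensorProduct.tmul_zero]
  | zero => exact map_zero g
  | add a b _ _ ha hb => rw [map_add, ha, hb, add_zero]
  | smul c a _ ha =>
    obtain ⟨d, rfl⟩ : ∃ d : κ, d = c := ⟨c, rfl⟩
    have hlin : g (d • a) = d • g a := (KaehlerDifferential.map A R B B).baseChange κ |>.map_smul d a
    rw [hlin, ha, smul_zero]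

end Groth.Agent.S7619
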