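import Groth.Statements.S7620
import Mathlib.RingTheory.NoetherNormalization
import Groth.Agent.EGA4Alg4.IntegralDim

set_option autoImplicit false
universe u
open CategoryTheory CategoryTheory.Limits AlgebraicGeometry
open scoped TensorProduct
open Variety

namespace Groth.Agent.S7620

/-- Let A → B be a finite type ring map (a finite type morphism of affine schemes X → S), p a prime of A
and suppose the fibre ring κ(p) ⊗_A B has Krull dimension d. Then there is an A-algebra homomorphism
π : A[t_1, …, t_d] → B such that the induced map of fibres κ(p) ⊗_A A[t_1, …, t_d] → κ(p) ⊗_A B is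
finite. -/
theorem result (A B : Type u) [CommRing A] [CommRing B] [Algebra A B] [Algebra.FiniteType A B]
    (p : Ideal A) [p.IsPrime] (d : ℕ) (hd : ringKrullDim (p.ResidueField ⊗[A] B) = d) :
    ∃ π : MvPolynomial (Fin d) A →ₐ[A] B,
      (Algebra.TensorProduct.map (AlgHom.id p.ResidueField p.ResidueField) π).toRingHom.Finite := by
  classical
  let κ := p.ResidueField
  let F := κ ⊗[A] B
  have : Nontrivial F := by
    by_contra hc
    have : Subsingleton F := not_nontrivial_iff_subsingleton.1 hc
    rw [ringKrullDim_eq_bot_of_subsingleton] at hd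
    exact WithBot.bot_ne_coe hd
  obtain ⟨s, g, hinj, hfin⟩ := exists_finite_inj_algHom_of_fg κ F
  have hs : s = d := by
    letI := g.toRingHom.toAlgebra
    haveI : Module.Finite (MvPolynomial (Fin s) κ) F := hfin
    haveI : FaithfulSMul (MvPolynomial (Fin s) κ) F := (faithfulSMul_iff_algebraMap_injective _ _).2 hinj
    have h := EGA4Alg4.ringKrullDim_eq_of_integral (A := MvPolynomial (Fin s) κ) (B := F) hinj
    rw [MvPolynomial.ringKrullDim_of_isNoetherianRing, ringKrullDim_eq_zero_of_field] at h
    have h' : (s : WithBot ℕ∞) = (d : WithBot ℕ∞) := by rw [← hd]; simpa using h.symm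
    exact_mod_cast h'
  subst hs
  have hden : ∀ z : F, ∃ (a : A) (b : B), a ∉ p ∧ algebraMap A κ a • z = (1 : κ) ⊗ₜ[A] b := by
    intro z
    induction z using TensorProduct.induction_on with
    | zero => exact ⟨1, 0, fun h => ‹p.IsPrime›.ne_top ((Ideal.eq_top_iff_one p).2 h), by simp⟩
    | tmul c b =>
      obtain ⟨x, y, hy, rfl⟩ := IsFractionRing.div_surjective (A := A ⧸ p) c
      obtain ⟨x, rfl⟩ := Ideal.Quotient.mk_surjective x
      obtain ⟨y, rfl⟩ := Ideal.Quotient.mk_surjective y
      have hy' : y ∉ p := fun h => nonZeroDivisors.ne_zero hy (Ideal.Quotient.eq_zero_iff_mem.2 h)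
      have hy0 : algebraMap A κ y ≠ 0 := fun h => hy' (Ideal.algebraMap_residueField_eq_zero.1 h)
      refine ⟨y, x • b, hy', ?_⟩
      rw [TensorProduct.smul_tmul', TensorProduct.tmul_smul, TensorProduct.smul_tmul', Algebra.smul_def x (1 : κ), mul_one, smul_eq_mul]
      congr 1
      show algebraMap A κ y * (algebraMap A κ x / algebraMap A κ y) = _
      exact mul_div_cancel₀ _ hy0
    | add u v hu hv =>
      obtain ⟨a, b, ha, hab⟩ := hu; obtain ⟨a', b', ha', hab'⟩ := hv
      refine ⟨a * a', a' • b + a • b', fun h => (‹p.IsPrime›.mem_or_mem h).elim ha ha', ?_⟩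
      rw [TensorProduct.tmul_add, TensorProduct.tmul_smul, TensorProduct.tmul_smul, ← hab, ← hab', map_mul,
        ← algebraMap_smul κ a', ← algebraMap_smul κ a, smul_smul, smul_smul, smul_add,
        mul_comm (algebraMap A κ a') (algebraMap A κ a)]
  choose a b ha hab using fun i => hden (g (MvPolynomial.X i))
  refine ⟨MvPolynomial.aeval b, ?_⟩
  let σ : MvPolynomial (Fin s) κ →ₐ[κ] MvPolynomial (Fin s) κ :=
    MvPolynomial.aeval fun i => MvPolynomial.C (algebraMap A κ (a i)) * MvPolynomial.X i
  have hσ : Function.Surjective σ := by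
    let τ : MvPolynomial (Fin s) κ →ₐ[κ] MvPolynomial (Fin s) κ :=
      MvPolynomial.aeval fun i => MvPolynomial.C (algebraMap A κ (a i))⁻¹ * MvPolynomial.X i
    have : σ.comp τ = AlgHom.id κ _ := by
      refine MvPolynomial.algHom_ext fun i => ?_
      simp only [σ, τ, AlgHom.comp_apply, MvPolynomial.aeval_X, map_mul, AlgHom.id_apply,
        MvPolynomial.aeval_C, MvPolynomial.algebraMap_eq]
      rw [← mul_assoc, ← map_mul, inv_mul_cancel₀ fun h => ha i (Ideal.algebraMap_residueField_eq_zero.1 h), map_one, one_mul]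
    exact fun y => ⟨τ y, DFunLike.congr_fun this y⟩
  let m := Algebra.TensorProduct.map (AlgHom.id κ κ) (MvPolynomial.aeval (R := A) b)
  let e : MvPolynomial (Fin s) κ →ₐ[κ] κ ⊗[A] MvPolynomial (Fin s) A :=
    MvPolynomial.aeval fun i => (1 : κ) ⊗ₜ[A] MvPolynomial.X i
  have hme : m.comp e = g.comp σ := by
    refine MvPolynomial.algHom_ext fun i => ?_
    simp only [m, e, σ, AlgHom.comp_apply, MvPolynomial.aeval_X, Algebra.TensorProduct.map_tmul, AlgHom.id_apply,
      map_mul, ← MvPolynomial.algebraMap_eq, AlgHom.commutes, ← Algebra.smul_def]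
    rw [map_smul]
    exact (hab i).symm
  have h2 : (m.comp e).Finite := by
    rw [hme]; exact hfin.comp (AlgHom.Finite.of_surjective σ hσ)
  exact RingHom.Finite.of_comp_finite h2

end Groth.Agent.S7620
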