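import Groth.Statements.S7621
import Groth.Agent.VarGal.Components

set_option autoImplicit false
universe u
open CategoryTheory CategoryTheory.Limits AlgebraicGeometry
open Variety

namespace Groth.Agent.S7621

/-- Let K be a (possibly infinite) Galois extension of a field k, X a scheme over k and V a
quasi-compact open subset of X_K. Then there is a subextension k'/k of K, finite over k, such that
every k-automorphism of K fixing k' pointwise maps V onto itself under its action on X_K (an open
subgroup of the Galois group stabilises V). -/
theorem result (k : Type u) [Field k] (K : Type u) [Field K] [Algebra k K] [IsGalois k K]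
    (X : Scheme.{u}) [X.Over (Spec (CommRingCat.of k))] (V : Set ↥(Curv2.bc k X K)) (hV : IsOpen V) (hVc : IsCompact V) :
    ∃ E : IntermediateField k K, FiniteDimensional k ↥E ∧
      ∀ σ : K ≃ₐ[k] K, (∀ a : K, a ∈ E → σ a = a) → (Curv2.galAct k X K σ).base '' V = V := by
  obtain ⟨S, hS⟩ := VarGal.exists_stab_of_isCompact hV hVc
  refine ⟨IntermediateField.adjoin k (S : Set K), ?_, fun σ hσ => hS σ fun a ha =>
    hσ a (IntermediateField.subset_adjoin k _ ha)⟩
  exact IntermediateField.finiteDimensional_adjoin fun a _ => Algebra.IsIntegral.isIntegral a

end Groth.Agent.S7621
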