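import Groth.Statements.S7639
import Groth.Agent.Crv77.Const
import Groth.Agent.Crv77.ConstField
import Groth.Agent.LimTop61.SteinFinite

set_option autoImplicit false
universe u
open CategoryTheory CategoryTheory.Limits AlgebraicGeometry
attribute [local instance] Curv2.resAlgebra
open Variety

namespace Groth.Agent.S7639

/-- Let X be a proper scheme over a field k which is reduced and connected, and let κ = Γ(X, O_X). Then
κ is a field, finite over k, and w = [κ : k] divides (1) the degree of every finite locally free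
module of constant rank, (2) the degree [κ(x) : k] of every closed point x, and (3) the degree dim_k
H^0(X, O_D) of every closed subscheme D of dimension zero (or empty). (The published statement uses
the degree of E, which it defines only for X of dimension at most one; this row states (1) for the
integer χ(E) − n·χ(O_X) with no bound on the dimension of X.) -/
theorem result (k : Type u) [Field k] (X : Scheme.{u}) [X.Over (Spec (CommRingCat.of k))] [IsProper (X ↘ (Spec (CommRingCat.of k)))] [IsReduced X] [ConnectedSpace X] :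
    letI : Algebra k Γ(X, ⊤) := ((X ↘ (Spec (CommRingCat.of k))).appTop.hom.comp
      (Scheme.ΓSpecIso (CommRingCat.of k)).inv.hom).toAlgebra
    IsField Γ(X, ⊤) ∧ Module.Finite k Γ(X, ⊤) ∧
      (∀ (n : ℕ) (E : X.Modules), FlatMod.IsFinLocFreeOfRank n E →
        (Module.finrank k Γ(X, ⊤) : ℤ) ∣ Curv2.deg k X E n) ∧
      (∀ x : X, IsClosed ({x} : Set X) →
        Module.finrank k Γ(X, ⊤) ∣ Module.finrank k (X.residueField x)) ∧
      (∀ D : X.IdealSheafData, topologicalKrullDim D.subscheme ≤ 0 →
        Module.finrank k Γ(X, ⊤) ∣ Module.finrank k (Coh.HH X (ClSub.quotMod D) 0)) := by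
  let : Algebra k Γ(X, ⊤) := ((X ↘ (Spec (CommRingCat.of k))).appTop.hom.comp
    (Scheme.ΓSpecIso (CommRingCat.of k)).inv.hom).toAlgebra
  let f := X ↘ Spec (CommRingCat.of k)
  have hfin : Module.Finite k Γ(X, ⊤) := LimTop61.finite_appTop_of_isProper (CommRingCat.of k) f
  have hred : _root_.IsReduced Γ(X, ⊤) := inferInstance
  have : Nontrivial Γ(X, ⊤) := by
    obtain ⟨x⟩ := (inferInstance : Nonempty X)
    exact (X.presheaf.germ ⊤ x trivial).hom.domain_nontrivial
  have hF : IsField Γ(X, ⊤) := by
    refine ⟨exists_pair_ne _, mul_comm, fun {c} h0 => ?_⟩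
    obtain ⟨z, -, hz⟩ := Crv77.exists_mul_eq_one_of_isIntegral (k := k)
      (fun e he => Crv77.eq_zero_or_one_of_isIdempotentElem he)
      (IsIntegral.of_finite k c) h0
    exact ⟨z, hz⟩
  refine ⟨hF, hfin, ?_⟩
  let : Field Γ(X, ⊤) := hF.toField
  let s' : X ⟶ Spec (CommRingCat.of Γ(X, ⊤)) := X.toSpecΓ
  have hs : s' ≫ Spec.map (CommRingCat.ofHom (algebraMap k Γ(X, ⊤))) = f := by
    show X.toSpecΓ ≫ Spec.map ((Scheme.ΓSpecIso (CommRingCat.of k)).inv ≫ f.appTop) = f
    rw [Spec.map_comp, ← Category.assoc, ← Scheme.toSpecΓ_naturality f, Category.assoc,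
      ← SpecMap_ΓSpecIso_hom, ← Spec.map_comp, Iso.inv_hom_id, Spec.map_id, Category.comp_id]
  have hdvd : ∀ (M : X.Modules) (i : ℕ),
      Module.finrank k Γ(X, ⊤) ∣ Module.finrank k (Coh.HH X M i) := fun M i =>
    ⟨_, Crv77.finrank_hh_tower s' hs M i⟩
  have he : ∀ M : X.Modules, (Module.finrank k Γ(X, ⊤) : ℤ) ∣ Curv2.euler k X M := fun M =>
    finsum_induction (fun z => (Module.finrank k Γ(X, ⊤) : ℤ) ∣ z) (dvd_zero _)
      (fun a b ha hb => dvd_add ha hb) fun i => dvd_mul_of_dvd_right (Int.natCast_dvd_natCast.2 (hdvd M i)) _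
  refine ⟨fun n E _ => dvd_sub (he E) (dvd_mul_of_dvd_right (he _) _), fun x _ => ?_,
    fun D _ => hdvd _ 0⟩
  let : Algebra Γ(X, ⊤) (X.residueField x) :=
    ((X.residue x).hom.comp (X.presheaf.germ ⊤ x trivial).hom).toAlgebra
  have : IsScalarTower k Γ(X, ⊤) (X.residueField x) := IsScalarTower.of_algebraMap_eq fun _ => rfl
  exact ⟨_, (Module.finrank_mul_finrank k Γ(X, ⊤) (X.residueField x)).symm⟩

end Groth.Agent.S7639
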