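import Groth.Statements.S7641
import Groth.Agent.Curves2.Ample.Criterion

set_option autoImplicit false
set_option backward.isDefEq.respectTransparency.types false
universe u
open CategoryTheory CategoryTheory.Limits AlgebraicGeometry
open Variety

namespace Groth.Agent.S7641

open Groth.Agent.Crv77 Groth.Agent.Var76.LineBundle Groth.Agent.Var76.ZeroScheme

/-- On a curve a section of a module of nonpositive degree generates everywhere or nowhere. -/
theorem genLocus_eq_top {k : Type u} [Field k] {Z : Scheme.{u}} [Z.Over (Spec (CommRingCat.of k))]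
    [IsIntegral Z] [IsNoetherian Z] (hZ : CurveCoh k Z) (hdim : topologicalKrullDim Z ≤ 1)
    {L : Z.Modules} (hL : PicF.IsInvertible L) (hdeg : Curv2.deg k Z L 1 ≤ 0)
    (s : Coh.structureModule Z ⟶ L) {z : Z} (hz : z ∈ CohB1.genLocus L s) :
    CohB1.genLocus L s = ⊤ := by
  have hsec : s.app ⊤ (1 : Γ(Z, ⊤)) ≠ 0 := by
    intro h
    have hf := Amp73.isFrame_genLocus s
    rw [← res_val L s (le_top : CohB1.genLocus L s ≤ ⊤)] at hf
    have h0 : val L s ⊤ = 0 := h
    rw [h0] at hf
    simp only [res, map_zero] at hf
    have hb := hf (CohB1.genLocus L s) le_rfl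
    have h01 : (1 : Γ(Z, CohB1.genLocus L s)) = 0 := hb.1 (by simp [res])
    have : Z.presheaf.germ (CohB1.genLocus L s) z hz 1 = Z.presheaf.germ (CohB1.genLocus L s) z hz 0 := by
      rw [h01]
    rw [map_one, map_zero] at this
    exact one_ne_zero this
  obtain ⟨hm, hgen⟩ := section_of_invertible hL s hsec
  have hLc := isCoh_of_isInvertible hL
  have hQ := Crv77.isCoh_cokernel s isCoh_structureModule hLc
  obtain ⟨S, hS, hcl, hsupp⟩ := exists_suppIn hdim hQ (QC70.subsingleton_stalk_cokernel s _ hgen)
  let T := ShortComplex.mk s (cokernel.π s) (cokernel.condition _)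
  have hT : T.ShortExact :=
    { exact := ShortComplex.exact_of_g_is_cokernel _ (cokernelIsCokernel _)
      mono_f := hm
      epi_g := inferInstanceAs (Epi (cokernel.π _)) }
  have e := hZ.euler_add hT isCoh_structureModule hLc
  rw [hZ.euler_eq_of_suppIn hQ hsupp hS hcl] at e
  change Curv2.euler k Z L = _ at e
  simp only [Curv2.deg, Nat.cast_one, one_mul] at hdeg
  have h0 : Module.finrank k (Coh.HH Z (cokernel s) 0) = 0 := by
    have : Crv77.h (k := k) 0 (cokernel s) ≤ 0 := by
      change Crv77.h (k := k) 0 T.X₃ ≤ 0
      change Curv2.euler k Z L - Curv2.euler k Z T.X₁ ≤ 0 at hdeg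
      linarith
    simp only [Crv77.h] at this
    omega
  haveI := hZ.finite _ hQ 0
  have hzero := hsupp.isZero hS hcl (Module.finrank_zero_iff.1 h0)
  haveI : Epi s := (Preadditive.epi_iff_cancel_zero s).2 fun P g hg => by
    rw [← cokernel.π_desc s g hg, hzero.eq_of_src (cokernel.desc s g hg) 0, comp_zero]
  haveI := hm
  haveI : IsIso s := isIso_of_mono_of_epi s
  refine top_unique fun x _ => (TopologicalSpace.Opens.mem_sSup).2 ⟨⊤, ?_, trivial⟩
  show IsIso ((Scheme.Modules.restrictFunctor (⊤ : Z.Opens).ι).map s)
  infer_instance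

/-- Let X be proper over a field k, reduced and connected, with every irreducible component of dimension
one, and let L be an invertible module whose restriction to each irreducible component C, with its
reduced induced structure, has degree at most zero. Then H^0(X, L) = 0 or L is isomorphic to O_X. -/
theorem result (k : Type u) [Field k] (X : Scheme.{u}) [X.Over (Spec (CommRingCat.of k))] [IsProper (X ↘ (Spec (CommRingCat.of k)))]
    [IsReduced X] [ConnectedSpace X] [IsNoetherian X]
    (hdim : ∀ (C : Set X), C ∈ irreducibleComponents (X : Type u) → topologicalKrullDim C = 1)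
    (L : X.Modules) (hL : PicF.IsInvertible L)
    (hdeg : ∀ (C : Set X) (hC : C ∈ irreducibleComponents (X : Type u)), @Curv2.deg k _ (X.irreducibleComponentIdeal C hC).radical.subscheme ⟨(X.irreducibleComponentIdeal C hC).radical.subschemeι ≫ (X ↘ (Spec (CommRingCat.of k)))⟩ ((Scheme.Modules.pullback (X.irreducibleComponentIdeal C hC).radical.subschemeι).obj L) 1 ≤ 0) :
    Subsingleton (Coh.HH X L 0) ∨ Nonempty (L ≅ Coh.structureModule X) := by
  classical
  rcases subsingleton_or_nontrivial (Coh.HH X L 0) with h | h
  · exact Or.inl h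
  right
  haveI : Nontrivial Γ(L, ⊤) := (sec L).symm.toEquiv.nontrivial
  obtain ⟨t, ht⟩ := exists_ne (0 : Γ(L, ⊤))
  let s := Var76.Frames.ofSection L t
  let G := CohB1.genLocus L s
  obtain ⟨x₀, hx₀⟩ : ∃ x, x ∈ G := by
    by_contra hcon
    push Not at hcon
    exact ht (Curves2.Ample.eq_zero_of_forall_notMem hL t (fun x _ => hcon x) Curves2.Ample.exists_maximal)
  -- components meeting the locus lie in it
  have key : ∀ C ∈ irreducibleComponents (X : Type u), ((G : Set X) ∩ C).Nonempty → C ⊆ (G : Set X) := by
    rintro C hC ⟨y, hyG, hyC⟩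
    set J := (X.irreducibleComponentIdeal C hC).radical
    haveI : IsReduced J.subscheme :=
      SchBasics.isReduced_subscheme_of_radical _ fun U => Ideal.radical_isRadical _
    have hrJ : Set.range J.subschemeι = C := by
      rw [Scheme.IdealSheafData.range_subschemeι, Scheme.IdealSheafData.support_radical]
      rfl
    have hd : topologicalKrullDim J.subscheme = 1 := by
      rw [J.subschemeι.isClosedEmbedding.isEmbedding.toHomeomorph.isHomeomorph.topologicalKrullDim_eq,
        ← hdim C hC]
      exact congrArg (fun s : Set X => topologicalKrullDim s) hrJ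
    haveI : IrreducibleSpace J.subscheme := by
      have hirr : IsIrreducible (Set.range J.subschemeι) := hrJ.symm ▸ hC.1
      have h := isIrreducible_iff_irreducibleSpace.mp hirr
      let e := J.subschemeι.isClosedEmbedding.isEmbedding.toHomeomorph
      exact (irreducibleSpace_def _).mpr (by
        have := (IrreducibleSpace.isIrreducible_univ (Set.range J.subschemeι)).image e.symm
          e.symm.continuous.continuousOn
        rwa [Set.image_univ, e.symm.surjective.range_eq] at this)
    haveI : IsIntegral J.subscheme := isIntegral_of_irreducibleSpace_of_isReduced _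
    letI : J.subscheme.Over (Spec (CommRingCat.of k)) := ⟨J.subschemeι ≫ (X ↘ Spec (CommRingCat.of k))⟩
    haveI : IsProper (J.subscheme ↘ Spec (CommRingCat.of k)) :=
      inferInstanceAs (IsProper (J.subschemeι ≫ (X ↘ Spec (CommRingCat.of k))))
    haveI := isNoetherian_of_proper k J.subscheme
    obtain ⟨z, hz⟩ := hrJ.ge hyC
    have hz' : z ∈ CohB1.genLocus _ (Amp73.pullHom J.subschemeι s) := by
      rw [Amp73.genLocus_pullHom J.subschemeι hL s]
      show J.subschemeι z ∈ G
      rw [hz]
      exact hyG
    have htop := genLocus_eq_top (curveCoh_of_proper k J.subscheme hd.le) hd.le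
      (Amp73.isInvertible_pullback J.subschemeι hL) (hdeg C hC) _ hz'
    rw [Amp73.genLocus_pullHom J.subschemeι hL s] at htop
    intro w hw
    obtain ⟨v, rfl⟩ := hrJ.ge hw
    exact htop.ge (TopologicalSpace.Opens.mem_top v)
  let U : Set X := ⋃₀ {C ∈ irreducibleComponents (X : Type u) | ((G : Set X) ∩ C).Nonempty}
  have hUG : (G : Set X) = U := Set.Subset.antisymm (fun x hx =>
      ⟨irreducibleComponent x, ⟨irreducibleComponent_mem_irreducibleComponents x,
        x, hx, mem_irreducibleComponent⟩, mem_irreducibleComponent⟩)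
    (Set.sUnion_subset fun C hC => key C hC.1 hC.2)
  have hUc : IsClosed U := by
    have hfin := TopologicalSpace.NoetherianSpace.finite_irreducibleComponents (α := X)
    show IsClosed (⋃₀ _)
    rw [Set.sUnion_eq_biUnion]
    exact (hfin.subset fun C hC => hC.1).isClosed_biUnion fun C hC =>
      isClosed_of_mem_irreducibleComponents C hC.1
  have huniv : (G : Set X) = Set.univ :=
    (isClopen_iff.1 ⟨hUG ▸ hUc, G.isOpen⟩).resolve_left (Set.nonempty_iff_ne_empty.1 ⟨x₀, hx₀⟩)
  exact ParaF26.nonempty_iso_unit ((Amp73.isFrame_iff_le_genLocus s ⊤).2 fun x _ =>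
    (huniv.ge (Set.mem_univ x) : x ∈ (G : Set X)))

end Groth.Agent.S7641
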