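import Groth.Statements.S7644


set_option autoImplicit false
universe u
open CategoryTheory CategoryTheory.Limits AlgebraicGeometry
open Variety

namespace Groth.Agent.S7644

/-- If X is an irreducible scheme of positive dimension, separated over a field k, and x is a closed
point of X, then the open subscheme obtained by removing x is not proper over k. -/
theorem result (k : Type u) [Field k] (X : Scheme.{u}) [X.Over (Spec (CommRingCat.of k))]
    [IsSeparated (X ↘ (Spec (CommRingCat.of k)))] [IrreducibleSpace X] (hdim : 0 < topologicalKrullDim X)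
    (x : X) (hx : IsClosed ({x} : Set X)) :
    ¬ IsProper (Scheme.Opens.ι (⟨({x} : Set X)ᶜ, hx.isOpen_compl⟩ : X.Opens) ≫ (X ↘ (Spec (CommRingCat.of k)))) := by
  intro hp
  let U : X.Opens := ⟨({x} : Set X)ᶜ, hx.isOpen_compl⟩
  have : IsProper (U.ι ≫ (X ↘ (Spec (CommRingCat.of k)))) := hp
  have : IsProper U.ι := IsProper.of_comp U.ι (X ↘ (Spec (CommRingCat.of k)))
  have hc : IsClosed (U : Set X) := by
    rw [← Scheme.Opens.range_ι U]; exact U.ι.isClosedMap.isClosed_range
  have ho : IsOpen ({x} : Set X) := by simpa [U] using hc.isOpen_compl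
  have huniv : ({x} : Set X) = Set.univ := by
    rw [← hx.closure_eq]
    exact (ho.dense ⟨x, rfl⟩).closure_eq
  have : Subsingleton X := Set.subsingleton_univ_iff.1 (huniv ▸ Set.subsingleton_singleton)
  have : Subsingleton (TopologicalSpace.IrreducibleCloseds X) := ⟨fun a b => TopologicalSpace.IrreducibleCloseds.ext ((Subsingleton.eq_univ_of_nonempty a.isIrreducible.nonempty).trans (Subsingleton.eq_univ_of_nonempty b.isIrreducible.nonempty).symm)⟩
  exact absurd Order.krullDim_nonpos_of_subsingleton hdim.not_ge

end Groth.Agent.S7644
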