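import Groth.Statements.S7647
import Groth.Agent.Snapper75.Coeff
import Groth.Agent.Snapper75.Push

set_option autoImplicit false
set_option backward.isDefEq.respectTransparency.types false
universe u
open CategoryTheory CategoryTheory.Limits AlgebraicGeometry
open Variety

namespace Groth.Agent.S7647

/-- Let X be proper over a field k, Z ⊆ X a closed subscheme of dimension ≤ 1 and L an invertible
module. Then the intersection number (L · Z), i.e. the coefficient of n in the polynomial computing
χ(X, O_Z ⊗ L^{⊗n}), equals the degree of L|_Z on Z. -/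
theorem result (k : Type u) [Field k] (X : Scheme.{u}) [X.Over (Spec (CommRingCat.of k))] [IsProper (X ↘ (Spec (CommRingCat.of k)))]
    (D : X.IdealSheafData) (hD : topologicalKrullDim (D.support : Set X) ≤ 1)
    (L : X.Modules) (hL : PicF.IsInvertible L) (P : MvPolynomial (Fin 1) ℚ)
    (hP : ∀ n : Fin 1 → ℕ, (Curv2.euler k X (Curv2.tensorPows (ClSub.quotMod D) 1 (fun _ => L) n) : ℚ) = MvPolynomial.eval (fun i => (n i : ℚ)) P) :
    MvPolynomial.coeff (Finsupp.equivFunOnFinite.symm fun _ : Fin 1 => 1) P =
      (@Curv2.deg k _ D.subscheme ⟨D.subschemeι ≫ (X ↘ (Spec (CommRingCat.of k)))⟩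
        ((Scheme.Modules.pullback D.subschemeι).obj L) 1 : ℚ) := by
  classical
  haveI := Crv77.isNoetherian_of_proper k X
  letI : D.subscheme.Over (Spec (CommRingCat.of k)) := ⟨D.subschemeι ≫ (X ↘ Spec (CommRingCat.of k))⟩
  haveI : IsLocallyNoetherian D.subscheme := LocallyOfFiniteType.isLocallyNoetherian D.subschemeι
  rw [Snapper75.coeff_eq_alt k (fun _ => hL) (Crv77.isCoh_quotMod D)
      ((LC17.dim_mono (Snapper75.support_quotMod_subset D)).trans hD) hP,
    Curves2.Ample.deg_pullback_eq k D.subschemeι rfl hL, Snapper75.alt_chi_eq]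
  refine congrArg (fun z : ℤ => (z : ℚ)) ?_
  have h1 : Curv2.euler k X (Curv2.tensorPows (ClSub.quotMod D) 1 (fun _ => L) (fun _ => 1)) =
      Curv2.euler k X (CohB1.tensorMod (ClSub.quotMod D) L) :=
    Crv77.euler_congr (EGA73.tensIso (Iso.refl _) (EGA73.tensUnitLeft L))
  have h0 : Curv2.euler k X (Curv2.tensorPows (ClSub.quotMod D) 1 (fun _ => L) (fun _ => 0)) =
      Curv2.euler k X (ClSub.quotMod D) :=
    Crv77.euler_congr (EGA73.tensUnitRight _)
  rw [show (Finset.univ : Finset (Finset (Fin 1))) = {∅, Finset.univ} from by decide,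
    Finset.sum_pair (by decide),
    show Snapper75.ind (∅ : Finset (Fin 1)) = fun _ => 0 from funext fun i => by simp [Snapper75.ind],
    show Snapper75.ind (Finset.univ : Finset (Fin 1)) = fun _ => 1 from funext fun i => by simp [Snapper75.ind, Fin.fin_one_eq_zero i],
    h0, h1, Finset.compl_univ, Finset.compl_empty]
  simp
  ring

end Groth.Agent.S7647
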