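import Groth.Statements.S7649
import Groth.Agent.Snapper75.Diagonal
import Groth.Agent.HP96.Positive
import Groth.Agent.RB70.AmpleVanish

set_option autoImplicit false
set_option backward.isDefEq.respectTransparency.types false
universe u
open CategoryTheory CategoryTheory.Limits AlgebraicGeometry
open Variety

namespace Groth.Agent.S7649

/-- Let X be proper over a field k of dimension d and L an ample invertible module. With deg_L(X) the
coefficient of n_1⋯n_d in the polynomial computing χ(X, L^{⊗n_1} ⊗ ⋯ ⊗ L^{⊗n_d}) and c =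
deg_L(X)/d!, the constant c is positive and dim_k Γ(X, L^{⊗n}) = c·n^d + lower order terms; here the
lower-order bound is written as |dim_k H^0(X, L^{⊗n}) − c·n^d| ≤ C·(n+1)^{d−1} for a constant C and
all n ≥ 0. -/
theorem result (k : Type u) [Field k] (X : Scheme.{u}) [X.Over (Spec (CommRingCat.of k))] [IsProper (X ↘ (Spec (CommRingCat.of k)))]
    (d : ℕ) (hX : topologicalKrullDim X = d) (L : X.Modules) (hL : CohB1.IsAmple L)
    (P : MvPolynomial (Fin d) ℚ)
    (hP : ∀ n : Fin d → ℕ, (Curv2.euler k X (Curv2.tensorPows (Coh.structureModule X) d (fun _ => L) n) : ℚ) = MvPolynomial.eval (fun i => (n i : ℚ)) P) :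
    0 < MvPolynomial.coeff (Finsupp.equivFunOnFinite.symm fun _ : Fin d => 1) P ∧
      ∃ C : ℚ, ∀ n : ℕ,
        |(Module.finrank k (Coh.HH X (CohB1.tensorPow L n) 0) : ℚ) -
            MvPolynomial.coeff (Finsupp.equivFunOnFinite.symm fun _ : Fin d => 1) P / (d.factorial : ℚ) * (n : ℚ) ^ d| ≤
          C * ((n : ℚ) + 1) ^ (d - 1) := by
  classical
  have hO : Coh.IsCoh (Coh.structureModule X) := Crv77.isCoh_structureModule
  have hsupp : CohB1.support (Coh.structureModule X) = Set.univ := by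
    refine Set.eq_univ_of_forall fun x h => ?_
    exact not_subsingleton_iff_nontrivial.2 (QC70.nontrivial_stalk_unit x) h
  have hdim : topologicalKrullDim (CohB1.support (Coh.structureModule X)) = (d : WithBot ℕ∞) := by
    rw [hsupp]
    exact ((Homeomorph.Set.univ X).isHomeomorph.topologicalKrullDim_eq _).trans hX
  let H := HP96.hp k L (Coh.structureModule X)
  have hdeg : H.natDegree ≤ d := HP96.natDegree_hp_le k hL.1 hO hdim.le
  have hH : ∀ m : ℕ, (Curv2.euler k X (CohB1.tensorMod (Coh.structureModule X) (CohB1.tensorPow L m)) : ℚ) =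
      H.eval (m : ℚ) := HP96.isHilbPoly_hp k hL.1 hO
  have hcoef : MvPolynomial.coeff (Finsupp.equivFunOnFinite.symm fun _ : Fin d => 1) P =
      (d.factorial : ℚ) * H.coeff d := Snapper75.coeff_const_eq k hL.1 hO hdim.le hH hdeg hP
  have hpos : 0 < StabCat.alpha d H := (HP96.alpha_pos_iff k hL hO hdim.le).2 hdim
  refine ⟨hcoef ▸ hpos, ?_⟩
  obtain ⟨n₀, hn₀⟩ : ∃ n₀ : ℕ, ∀ n, n₀ ≤ n → ∀ q : ℕ, 1 ≤ q →
      Subsingleton (Coh.HH X (CohB1.tensorPow L n) q) := by
    obtain ⟨N, hN⟩ := RB70.exists_vanishing_ample (X ↘ Spec (CommRingCat.of k)) hL _ hO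
    exact ⟨N, fun n hn q hq => ValVan29.subsingleton_hh_of_iso (EGA73.tensUnitLeft _) q (hN n hn q hq)⟩
  rw [hcoef, mul_div_cancel_left₀ _ (Nat.cast_ne_zero.2 d.factorial_pos.ne')]
  let err : ℕ → ℚ := fun n =>
    |(Module.finrank k (Coh.HH X (CohB1.tensorPow L n) 0) : ℚ) - H.coeff d * (n : ℚ) ^ d|
  refine ⟨(∑ j ∈ Finset.range d, |H.coeff j|) + ∑ n ∈ Finset.range n₀, err n, fun n => ?_⟩
  have h1 : (1 : ℚ) ≤ ((n : ℚ) + 1) ^ (d - 1) := one_le_pow₀ (by linarith [Nat.cast_nonneg (α := ℚ) n])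
  have hA : 0 ≤ ∑ j ∈ Finset.range d, |H.coeff j| := Finset.sum_nonneg fun _ _ => abs_nonneg _
  have hB : 0 ≤ ∑ n ∈ Finset.range n₀, err n := Finset.sum_nonneg fun _ _ => abs_nonneg _
  rcases lt_or_ge n n₀ with hn | hn
  · calc err n ≤ ∑ n ∈ Finset.range n₀, err n :=
          Finset.single_le_sum (f := err) (fun _ _ => abs_nonneg _) (Finset.mem_range.2 hn)
      _ ≤ ((∑ j ∈ Finset.range d, |H.coeff j|) + ∑ n ∈ Finset.range n₀, err n) * 1 := by linarith
      _ ≤ _ := mul_le_mul_of_nonneg_left h1 (by linarith)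
  · have he : (Module.finrank k (Coh.HH X (CohB1.tensorPow L n) 0) : ℚ) = H.eval (n : ℚ) := by
      rw [← hH n, Crv77.euler_congr (k := k) (EGA73.tensUnitLeft _)]
      unfold Curv2.euler
      rw [finsum_eq_single _ 0 fun i hi => by
        haveI := hn₀ n hn i (Nat.pos_of_ne_zero hi)
        simp [Module.finrank_zero_of_subsingleton]]
      simp
    rw [he, Polynomial.eval_eq_sum_range' (show H.natDegree < d + 1 by omega), Finset.sum_range_succ,
      add_sub_cancel_right]
    calc |∑ j ∈ Finset.range d, H.coeff j * (n : ℚ) ^ j|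
        ≤ ∑ j ∈ Finset.range d, |H.coeff j * (n : ℚ) ^ j| := Finset.abs_sum_le_sum_abs _ _
      _ ≤ ∑ j ∈ Finset.range d, |H.coeff j| * ((n : ℚ) + 1) ^ (d - 1) := by
          refine Finset.sum_le_sum fun j hj => ?_
          have hn0 : (0 : ℚ) ≤ (n : ℚ) := Nat.cast_nonneg n
          rw [abs_mul, abs_of_nonneg (pow_nonneg hn0 j)]
          refine mul_le_mul_of_nonneg_left ((pow_le_pow_left₀ hn0 (le_add_of_nonneg_right zero_le_one) j).trans
            (pow_le_pow_right₀ (by linarith) ?_)) (abs_nonneg _)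
          have := Finset.mem_range.1 hj
          omega
      _ = (∑ j ∈ Finset.range d, |H.coeff j|) * ((n : ℚ) + 1) ^ (d - 1) := (Finset.sum_mul _ _ _).symm
      _ ≤ _ := mul_le_mul_of_nonneg_right (by linarith) (by linarith)

end Groth.Agent.S7649
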