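import Groth.Statements.S7651
import Groth.Agent.VarDim1.Basic

set_option autoImplicit false
universe u
open CategoryTheory CategoryTheory.Limits AlgebraicGeometry
open Variety

namespace Groth.Agent.S7651

/-- Let (A, m) be a Noetherian local ring of dimension one and f ∈ m. Then (1) m = √(f), (2) f lies in
no minimal prime of A, and (3) A_f ≅ ∏_{p minimal} A_p as A-algebras, are equivalent; such an f
exists; if A has depth one, for instance if A is reduced, they are also equivalent to (4) f is a
nonzerodivisor and to (5) A → A_f is the localization of A at all its nonzerodivisors; and if A is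
reduced they are also equivalent to (6) A_f ≅ ∏_{p minimal} κ(p) as A-algebras. -/
theorem result (A : Type u) [CommRing A] [IsLocalRing A]
    [IsNoetherianRing A] (hdim : ringKrullDim A = 1) :
    (∃ f ∈ IsLocalRing.maximalIdeal A, ∀ p ∈ minimalPrimes A, f ∉ p) ∧
    ∀ f ∈ IsLocalRing.maximalIdeal A,
      ((IsLocalRing.maximalIdeal A = (Ideal.span {f}).radical) ↔ (∀ p ∈ minimalPrimes A, f ∉ p)) ∧
      ((∀ p ∈ minimalPrimes A, f ∉ p) ↔
        Nonempty (Localization.Away f ≃ₐ[A] (∀ p : {p : PrimeSpectrum A // p.asIdeal ∈ minimalPrimes A}, Localization.AtPrime p.1.asIdeal))) ∧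
      ((LocCoh.depth A A = 1 ∨ IsReduced A) →
        ((∀ p ∈ minimalPrimes A, f ∉ p) ↔ f ∈ nonZeroDivisors A) ∧
        ((∀ p ∈ minimalPrimes A, f ∉ p) ↔ IsLocalization (nonZeroDivisors A) (Localization.Away f))) ∧
      (IsReduced A →
        ((∀ p ∈ minimalPrimes A, f ∉ p) ↔
          Nonempty (Localization.Away f ≃ₐ[A] (∀ p : {p : PrimeSpectrum A // p.asIdeal ∈ minimalPrimes A}, p.1.asIdeal.ResidueField)))) := by
  classical
  have hfin := minimalPrimes.finite_of_isNoetherianRing A
  refine ⟨?_, fun f hf => ⟨VarDim1.maximalIdeal_eq_radical_span_singleton_iff hdim hf, ?_, ?_, ?_⟩⟩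
  · obtain ⟨f, hf, h⟩ := VarDim1.exists_mem_notMem_of_not_le (IsLocalRing.maximalIdeal A) hfin.toFinset
      (fun p hp => (hfin.mem_toFinset.1 hp).1.1) (fun p hp hle => by
        have hp' := hfin.mem_toFinset.1 hp
        exact VarDim1.maximalIdeal_notMem_minimalPrimes hdim
          (le_antisymm hle (IsLocalRing.le_maximalIdeal hp'.1.1.ne_top) ▸ hp'))
    exact ⟨f, hf, fun p hp => h p (hfin.mem_toFinset.2 hp)⟩
  · constructor
    · intro h
      have := VarDim1.isLocalization_away_pi hdim hf h
      exact ⟨IsLocalization.algEquiv (Submonoid.powers f) _ _⟩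
    · rintro ⟨e⟩
      refine (VarDim1.isUnit_algebraMap_pi_iff f).1 ?_
      rw [← e.commutes]
      exact (IsLocalization.map_units (Localization.Away f) ⟨f, Submonoid.mem_powers f⟩).map e.toRingEquiv.toRingHom
  · intro hA
    have key : (∀ p ∈ minimalPrimes A, f ∉ p) → f ∈ nonZeroDivisors A := by
      intro h
      rw [mem_nonZeroDivisors_iff_right]
      intro b hb
      rcases hA with hd | hred
      · have hd' := hd
        unfold LocCoh.depth LocCoh.idealDepth at hd'
        split_ifs at hd' with htop
        · exact absurd hd' (by simp)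
        have : ∃ r ∈ IsLocalRing.maximalIdeal A, IsSMulRegular A r := by
          by_contra hcon
          push Not at hcon
          have : (⨆ (rs : List A) (_ : RingTheory.Sequence.IsWeaklyRegular A rs ∧
              ∀ r ∈ rs, r ∈ IsLocalRing.maximalIdeal A), (rs.length : ℕ∞)) ≤ 0 := by
            refine iSup₂_le fun rs hrs => ?_
            rcases rs with _ | ⟨r, rs⟩
            · simp
            · exact absurd ((RingTheory.Sequence.isWeaklyRegular_cons_iff A r rs).1 hrs.1).1
                (hcon r (hrs.2 r (List.mem_cons_self)))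
          rw [hd'] at this
          simp at this
        obtain ⟨r, hr, hreg⟩ := this
        have hrad := (VarDim1.maximalIdeal_eq_radical_span_singleton_iff hdim hf).2 h
        rw [hrad] at hr
        obtain ⟨n, hn⟩ := hr
        obtain ⟨c, hc⟩ := Ideal.mem_span_singleton'.1 hn
        refine (hreg.pow n) ?_
        simp only [smul_eq_mul, mul_zero, ← hc]
        rw [mul_assoc, mul_comm f b, hb, mul_zero]
      · have : b ∈ nilradical A := by
          rw [nilradical, Ideal.zero_eq_bot, ← Ideal.sInf_minimalPrimes]
          refine Submodule.mem_sInf.2 fun p hp => ?_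
          exact (hp.1.1.mem_or_mem (show b * f ∈ p by rw [hb]; exact p.zero_mem)).resolve_right (h p hp)
        rwa [nilradical_eq_zero, Ideal.zero_eq_bot, Ideal.mem_bot] at this
    have key' : f ∈ nonZeroDivisors A → ∀ p ∈ minimalPrimes A, f ∉ p := fun h p hp hfp =>
      Set.disjoint_left.1 (Ideal.disjoint_nonZeroDivisors_of_mem_minimalPrimes hp) hfp h
    refine ⟨⟨key, key'⟩, ⟨fun h => ?_, fun h => key' ?_⟩⟩
    · refine IsLocalization.of_le (Submonoid.powers f) (nonZeroDivisors A) ?_ ?_
      · exact Submonoid.powers_le.2 (key h)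
      · intro r hr
        have hL := VarDim1.isLocalization_away_pi hdim hf h
        let e := IsLocalization.algEquiv (Submonoid.powers f)
          (∀ p : VarDim1.MinPt A, Localization.AtPrime p.1.asIdeal) (Localization.Away f)
        have hu := (VarDim1.isUnit_algebraMap_pi_iff r).2 fun p hp hrp =>
          Set.disjoint_left.1 (Ideal.disjoint_nonZeroDivisors_of_mem_minimalPrimes hp) hrp hr
        exact e.commutes r ▸ hu.map e.toRingEquiv.toRingHom
    · rw [mem_nonZeroDivisors_iff_right]
      intro b hb
      refine IsLocalization.injective (Localization.Away f) (le_refl (nonZeroDivisors A)) ?_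
      rw [map_zero]
      exact (IsLocalization.map_units (Localization.Away f)
        (⟨f, Submonoid.mem_powers f⟩ : Submonoid.powers f)).mul_left_eq_zero.1 (by rw [← map_mul, hb, map_zero])
  · intro hred
    have hbij : ∀ p : VarDim1.MinPt A, Function.Bijective
        (algebraMap (Localization.AtPrime p.1.asIdeal) p.1.asIdeal.ResidueField) := by
      intro p
      refine ⟨?_, IsLocalRing.residue_surjective⟩
      rw [RingHom.injective_iff_ker_eq_bot, IsLocalRing.ResidueField.algebraMap_eq, IsLocalRing.ker_residue,
        ← IsLocalization.AtPrime.map_eq_maximalIdeal p.1.asIdeal,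
        ← IsLocalization.AtPrime.radical_map_of_mem_minimalPrimes (Localization.AtPrime p.1.asIdeal)
          p.1.asIdeal ⊥ p.2, Ideal.map_bot]
      exact nilradical_eq_zero _
    let e₀ := AlgEquiv.piCongrRight fun p : VarDim1.MinPt A =>
      AlgEquiv.ofBijective (IsScalarTower.toAlgHom A (Localization.AtPrime p.1.asIdeal) p.1.asIdeal.ResidueField) (hbij p)
    constructor
    · intro h
      have := VarDim1.isLocalization_away_pi hdim hf h
      exact ⟨(IsLocalization.algEquiv (Submonoid.powers f) _ _).trans e₀⟩
    · rintro ⟨e⟩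
      refine (VarDim1.isUnit_algebraMap_pi_iff f).1 ?_
      rw [← (e.trans e₀.symm).commutes]
      exact (IsLocalization.map_units (Localization.Away f) ⟨f, Submonoid.mem_powers f⟩).map (e.trans e₀.symm).toRingEquiv.toRingHom

end Groth.Agent.S7651
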