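import Groth.Statements.S7652
import Groth.Agent.VarDim1.TotalRing

set_option autoImplicit false
universe u
open CategoryTheory CategoryTheory.Limits AlgebraicGeometry
open Variety

namespace Groth.Agent.S7652

/-- For a reduced local Nagata ring (A, m) of Krull dimension one, write A' for the integral closure of
A in its total fraction ring. Then A' is a finite A-module, every localization of A' at a prime is
an integrally closed domain, and the quotient A'/A is an A-module of finite length. (The published
statement also says that A' is Nagata, which follows from the finiteness of A' over A; this row does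
not restate it.) -/
theorem result (A : Type u) [CommRing A] [IsLocalRing A]
    [IsReduced A] (hN : CAlg.IsNagata A) (hdim : ringKrullDim A = 1) :
    Module.Finite A (integralClosure A (FractionRing A)) ∧
      (∀ p : PrimeSpectrum (integralClosure A (FractionRing A)),
        IsDomain (Localization.AtPrime p.asIdeal) ∧ IsIntegrallyClosed (Localization.AtPrime p.asIdeal)) ∧
      Curv2.deltaInv A < ⊤ := by
  obtain ⟨hnoeth, hN2⟩ := hN
  have : Ring.KrullDimLE 1 A := by rw [Ring.KrullDimLE, Order.krullDimLE_iff]; exact hdim.le
  have hfin : Module.Finite A (integralClosure A (FractionRing A)) :=
    VarDim1.finite_integralClosure fun p _ _ => hN2 p (FractionRing (A ⧸ p)) inferInstance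
  exact ⟨hfin, fun p => VarDim1.isDomain_and_isIntegrallyClosed_localization p.asIdeal,
    VarDim1.deltaLength_lt_top (A := A)⟩

end Groth.Agent.S7652
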