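import Groth.Statements.S7653
import Groth.Agent.VarDim1.TotalRing
import Mathlib.RingTheory.DiscreteValuationRing.TFAE
import Mathlib.RingTheory.KrullDimension.Field

set_option autoImplicit false
universe u
open CategoryTheory CategoryTheory.Limits AlgebraicGeometry
open Variety

namespace Groth.Agent.S7653

/-- For a reduced local Nagata ring A of Krull dimension one, the δ-invariant of A is zero exactly when
A is a DVR (in particular a domain). -/
theorem result (A : Type u) [CommRing A] [IsLocalRing A]
    [IsReduced A] (hN : CAlg.IsNagata A) (hdim : ringKrullDim A = 1) :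
    Curv2.deltaInv A = 0 ↔ ∃ _ : IsDomain A, IsDiscreteValuationRing A := by
  obtain ⟨hnoeth, -⟩ := hN
  constructor
  · intro h
    obtain ⟨hD, hI⟩ := VarDim1.isDomain_and_isIntegrallyClosed_of_bijective
      (VarDim1.bijective_of_length_eq_zero (A := A) h)
    have hk : Ring.KrullDimLE 1 A := by rw [Ring.KrullDimLE, Order.krullDimLE_iff]; exact hdim.le
    have hf : ¬ IsField A := fun hf => by
      let := hf.toField
      rw [ringKrullDim_eq_zero_of_field] at hdim; simp at hdim
    refine ⟨hD, ?_⟩
    have htfae : IsDiscreteValuationRing A ↔ IsIntegrallyClosed A ∧ ∃! P : Ideal A, P ≠ ⊥ ∧ P.IsPrime :=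
      (IsDiscreteValuationRing.TFAE A hf).out 0 3
    refine htfae.2 ⟨hI, IsLocalRing.maximalIdeal A,
      ⟨Ring.ne_bot_of_isMaximal_of_not_isField (IsLocalRing.maximalIdeal.isMaximal A) hf, inferInstance⟩, ?_⟩
    rintro P ⟨hP, hPp⟩
    exact IsLocalRing.eq_maximalIdeal (hPp.isMaximal_of_ne_bot hP)
  · rintro ⟨hD, hV⟩
    unfold Curv2.deltaInv
    rw [Module.length_eq_zero_iff, Submodule.Quotient.subsingleton_iff, eq_top_iff]
    intro x _
    obtain ⟨a, ha⟩ := IsIntegrallyClosed.algebraMap_eq_of_integral (R := A) (K := FractionRing A) x.2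
    exact ⟨a, Subtype.ext ha⟩

end Groth.Agent.S7653
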