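import Groth.Statements.S7654
import Groth.Agent.Delta12.Main
import Groth.Agent.Henz21.ShBranch
import Groth.Agent.Henz21.FaithfullyFlat
import Groth.Agent.Hensel20.HenzBasic
import Groth.Agent.Cohen12.Completion
-- import your own Groth.Agent.* helpers here

set_option autoImplicit false
universe u
open CategoryTheory CategoryTheory.Limits AlgebraicGeometry
open Variety

namespace Groth.Agent.S7654

/-- For a reduced local Nagata ring A of Krull dimension one, the δ-invariant does not change on passing
to a henselization of A, to a strict henselization of A, or to the completion of A. -/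
theorem result (A : Type u) [CommRing A] [IsLocalRing A]
    [IsReduced A] (hN : CAlg.IsNagata A) (hdim : ringKrullDim A = 1) :
    (∀ (B : Type u) [CommRing B] [IsLocalRing B] [Algebra A B] [IsLocalHom (algebraMap A B)],
        Hensel.IsHenselization A B → Curv2.deltaInv B = Curv2.deltaInv A) ∧
      (∀ (B : Type u) [CommRing B] [IsLocalRing B] [Algebra A B] [IsLocalHom (algebraMap A B)],
        Hensel.IsStrictHenselization A B → Curv2.deltaInv B = Curv2.deltaInv A) ∧
      Curv2.deltaInv (Curv2.cpl A) = Curv2.deltaInv A := by
  haveI := hN.1
  refine ⟨fun B _ _ _ _ hB => ?_, fun B _ _ _ _ hB => ?_, ?_⟩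
  · haveI := hB
    haveI := Henz21.henselization_faithfullyFlat (R := A) B
    haveI : IsNoetherianRing (Henz21.Henselization A) := Hensel20.isNoetherianRing_H
    haveI : IsNoetherianRing B := isNoetherianRing_of_ringEquiv _ (Henz21.henselizationEquiv (R := A) B).toRingEquiv
    haveI : Algebra.IsSeparable (IsLocalRing.ResidueField A) (IsLocalRing.ResidueField B) := ⟨fun x => by
      obtain ⟨y, rfl⟩ := Hensel20.henselization_residue_surjective (R := A) B x
      exact isSeparable_algebraMap y⟩
    exact Delta12.deltaInv_baseChange A B hN hdim (Henz21.henselization_map_maximalIdeal (R := A) B)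
  · haveI := hB
    haveI := Henz21.strictHenselization_faithfullyFlat (R := A) B
    haveI := Henz21.isNoetherianRing_strictHenselization A B
    haveI : IsSepClosure (IsLocalRing.ResidueField A) (IsLocalRing.ResidueField B) := hB.isSepClosure
    haveI : Algebra.IsSeparable (IsLocalRing.ResidueField A) (IsLocalRing.ResidueField B) := IsSepClosure.separable
    exact Delta12.deltaInv_baseChange A B hN hdim (Henz21.strictHenselization_map_maximalIdeal (R := A) B)
  · let B := Curv2.cpl A
    haveI : IsNoetherianRing B := Cohen12.isNoetherianRing_completion A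
    haveI : Module.Flat A B := AdicCompletion.flat_of_isNoetherian _
    haveI : IsLocalHom (algebraMap A B) :=
      ((IsLocalRing.local_hom_TFAE _).out 2 0 rfl rfl).mp AdicCompletion.maximalIdeal_eq_map.symm.le
    haveI : Algebra.IsSeparable (IsLocalRing.ResidueField A) (IsLocalRing.ResidueField B) := ⟨fun x => by
      obtain ⟨y, rfl⟩ := IsLocalRing.residue_surjective x
      obtain ⟨a, ha⟩ := Cohen12.exists_sub_mem_pow A 1 y
      rw [pow_one, ← IsLocalRing.residue_eq_zero_iff, map_sub, sub_eq_zero] at ha
      first
        | (rw [ha]; exact isSeparable_algebraMap (IsLocalRing.residue A a))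
        | (rw [← ha]; exact isSeparable_algebraMap (IsLocalRing.residue A a))⟩
    exact Delta12.deltaInv_baseChange A B hN hdim AdicCompletion.maximalIdeal_eq_map.symm

end Groth.Agent.S7654
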