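import Groth.Statements.S7655
import Groth.Agent.VarDim1.TotalRing
import Groth.Agent.VarNorm.BranchesDelta

set_option autoImplicit false
universe u
open CategoryTheory CategoryTheory.Limits AlgebraicGeometry
open Variety

namespace Groth.Agent.S7655

/-- Let (A, m) be a reduced Nagata local ring of dimension one. Then the δ-invariant of A is at least
the number of geometric branches of A minus one. -/
theorem result (A : Type u) [CommRing A] [IsLocalRing A]
    [IsReduced A] (hN : CAlg.IsNagata A) (hdim : ringKrullDim A = 1) :
    Brnch.numGeomBranches A ≤ Curv2.deltaInv A + 1 := by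
  obtain ⟨hnoeth, hN2⟩ := hN
  have : Ring.KrullDimLE 1 A := by rw [Ring.KrullDimLE, Order.krullDimLE_iff]; exact hdim.le
  have hfin : Module.Finite A (integralClosure A (FractionRing A)) :=
    VarDim1.finite_integralClosure fun p _ _ => hN2 p (FractionRing (A ⧸ p)) inferInstance
  have hmin : (minimalPrimes A).Finite := minimalPrimes.finite_of_isNoetherianRing A
  rw [VarNorm.numGeomBranches_eq A (FractionRing A) hmin]
  exact VarNorm.card_sigma_embOf_le A (integralClosure A (FractionRing A))

end Groth.Agent.S7655
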