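import Groth.Statements.S7656
import Groth.Agent.VarBranch.Main
import Groth.Agent.FBase64.Chart
-- import your own Groth.Agent.* helpers here

set_option autoImplicit false
universe u
open CategoryTheory CategoryTheory.Limits AlgebraicGeometry
open Variety

namespace Groth.Agent.S7656

open TensorProduct

set_option backward.isDefEq.respectTransparency.types false

theorem numGeomBranches_eq_chart (k A K : Type u) [Field k] [CommRing A] [Algebra k A] [Algebra.FiniteType k A]
    [Field K] [Algebra k K] (R : Ideal (A ⊗[k] K)) [R.IsPrime]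
    (S : Type u) [CommRing S] [IsLocalRing S] (S' : Type u) [CommRing S'] [IsLocalRing S']
    (eS : S ≃+* Localization.AtPrime (R.comap (algebraMap A (A ⊗[k] K))))
    (eS' : S' ≃+* Localization.AtPrime R) :
    Brnch.numGeomBranches S = Brnch.numGeomBranches S' := by
  let e : K ⊗[k] A ≃ₐ[k] A ⊗[k] K := Algebra.TensorProduct.comm k K A
  let q : Ideal (K ⊗[k] A) := R.comap e.toRingEquiv.toRingHom
  have : q.IsPrime := Ideal.IsPrime.comap _
  let p : Ideal A := R.comap (algebraMap A (A ⊗[k] K))
  let _ : Algebra A S := (eS.symm.toRingHom.comp (algebraMap A (Localization.AtPrime p))).toAlgebra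
  have : IsLocalization.AtPrime S p :=
    IsLocalization.isLocalization_of_algEquiv p.primeCompl
      (AlgEquiv.ofRingEquiv (f := eS.symm) fun _ => rfl)
  let _ : Algebra (A ⊗[k] K) S' := (eS'.symm.toRingHom.comp (algebraMap _ (Localization.AtPrime R))).toAlgebra
  have : IsLocalization.AtPrime S' R :=
    IsLocalization.isLocalization_of_algEquiv R.primeCompl
      (AlgEquiv.ofRingEquiv (f := eS'.symm) fun _ => rfl)
  let _ : Algebra (K ⊗[k] A) S' := ((algebraMap (A ⊗[k] K) S').comp e.toRingEquiv.toRingHom).toAlgebra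
  have : IsLocalization.AtPrime S' q := by
    show IsLocalization q.primeCompl S'
    have h := IsLocalization.isLocalization_of_base_ringEquiv R.primeCompl S' e.toRingEquiv.symm
    have hM : Submonoid.map e.toRingEquiv.symm R.primeCompl = q.primeCompl := by
      ext x
      refine ⟨?_, fun hx => ⟨e x, hx, e.symm_apply_apply x⟩⟩
      rintro ⟨y, hy, rfl⟩ h
      exact hy (by have h' : e (e.symm y) ∈ R := h; rwa [e.apply_symm_apply] at h')
    rw [hM] at h
    exact h
  refine VarBranch.numGeomBranches_eq_of_field k A K q p ?_ S S'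
  ext a
  show a ⊗ₜ[k] (1 : K) ∈ R ↔ e (1 ⊗ₜ a) ∈ R
  rfl

/-- For X locally of finite type over a field k, a field extension K/k and a point y of X_K over x ∈ X,
the local rings of X at x and of X_K at y have the same number of geometric branches. -/
theorem result (k : Type u) [Field k] (X : Scheme.{u}) [X.Over (Spec (CommRingCat.of k))]
    [LocallyOfFiniteType (X ↘ (Spec (CommRingCat.of k)))] (K : Type u) [Field K] [Algebra k K]
    (y : ↥(Curv2.bc k X K)) :
    Brnch.numGeomBranchesAt X ((Curv2.bcFst k X K).base y) =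
      Brnch.numGeomBranchesAt (Curv2.bc k X K) y := by
  let f := X ↘ Spec (CommRingCat.of k)
  let tK := Spec.map (CommRingCat.ofHom (algebraMap k K))
  obtain ⟨A, _, _, j, _, hx, hj⟩ := FBase64.exists_chart f ((Curv2.bcFst k X K).base y)
  have : Algebra.FiniteType k A := by
    have : LocallyOfFiniteType (j ≫ f) := inferInstance
    rw [hj, HasRingHomProperty.Spec_iff (P := @LocallyOfFiniteType)] at this
    exact RingHom.finiteType_algebraMap.mp this
  have hmem : (show ↥(pullback f tK) from y) ∈
      Set.range (FBase64.prodChart f tK j (𝟙 _) hj (Category.id_comp _)) := by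
    rw [FBase64.range_prodChart]
    exact ⟨hx, ⟨_, rfl⟩⟩
  obtain ⟨R, rfl⟩ := hmem
  obtain ⟨eS'⟩ := FBase64.nonempty_stalkEquiv (FBase64.prodChart f tK j (𝟙 _) hj (Category.id_comp _)) R
  obtain ⟨eS⟩ := FBase64.nonempty_stalkEquiv j
    ((Spec.map (CommRingCat.ofHom (algebraMap A (A ⊗[k] K)))).base R)
  have hpt : (Curv2.bcFst k X K).base (FBase64.prodChart f tK j (𝟙 _) hj (Category.id_comp _) R) =
      j ((Spec.map (CommRingCat.ofHom (algebraMap A (A ⊗[k] K)))).base R) := by
    show (FBase64.prodChart f tK j (𝟙 _) hj (Category.id_comp _) ≫ pullback.fst f tK) R = _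
    rw [FBase64.prodChart_fst, Scheme.Hom.comp_apply]
  show Brnch.numGeomBranchesAt X ((Curv2.bcFst k X K).base (FBase64.prodChart f tK j (𝟙 _) hj (Category.id_comp _) R)) = _
  rw [hpt]
  exact numGeomBranches_eq_chart k A K (show PrimeSpectrum (A ⊗[k] K) from R).asIdeal _ _ eS eS'

end Groth.Agent.S7656
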