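import Groth.Statements.S7658
import Groth.Agent.VarGal.LocalImm

set_option autoImplicit false
universe u
open CategoryTheory CategoryTheory.Limits AlgebraicGeometry
open Variety

namespace Groth.Agent.S7658

/-- A separated morphism of schemes f : X → Y such that X has an open covering on whose members f
restricts to open immersions, and such that no two distinct generic points of irreducible components
of X have the same image under f, is an open immersion. -/
theorem result {X Y : Scheme.{u}}
    (f : X ⟶ Y) [IsSeparated f]
    (hloc : ∀ x : X, ∃ U : X.Opens, x ∈ U ∧ IsOpenImmersion (U.ι ≫ f))
    (hinj : ∀ ξ ξ' : X, closure ({ξ} : Set X) ∈ irreducibleComponents (X : Type u) → closure ({ξ'} : Set X) ∈ irreducibleComponents (X : Type u) →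
      f.base ξ = f.base ξ' → ξ = ξ') :
    IsOpenImmersion f := by
  exact VarGal.isOpenImmersion_of_injective_of_local f hloc (VarGal.injective_of_separated_of_local f hloc hinj)

end Groth.Agent.S7658
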