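import Groth.Statements.S7662
import Groth.Agent.VarGal.AffineUnion

set_option autoImplicit false
universe u
open CategoryTheory CategoryTheory.Limits AlgebraicGeometry
open Variety

namespace Groth.Agent.S7662

/-- Let X be a scheme with finitely many irreducible components Z_1, …, Z_t and T ⊆ X a finite set of
points such that, for each i, some affine open of Z_i with its reduced closed subscheme structure
contains the points of T on Z_i. Then some affine open of X contains every point of T. -/
theorem result (X : Scheme.{u})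
    (hX : (irreducibleComponents (X : Type u)).Finite) (T : Finset X)
    (h : ∀ (Z : Set X) (hZ : Z ∈ irreducibleComponents (X : Type u)),
      ∃ V : (Scheme.IdealSheafData.vanishingIdeal
          (⟨Z, isClosed_of_mem_irreducibleComponents Z hZ⟩ : TopologicalSpace.Closeds X)).subscheme.Opens,
        IsAffineOpen V ∧ ∀ t ∈ T, t ∈ Z → t ∈ (Scheme.IdealSheafData.vanishingIdeal
          (⟨Z, isClosed_of_mem_irreducibleComponents Z hZ⟩ : TopologicalSpace.Closeds X)).subschemeι.base '' (V : Set _)) :
    ∃ U : X.Opens, IsAffineOpen U ∧ ∀ t ∈ T, t ∈ U := by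
  classical
  have := hX.fintype
  let e := Fintype.equivFin (irreducibleComponents (X : Type u))
  let Z : Fin (Fintype.card (irreducibleComponents (X : Type u))) → TopologicalSpace.Closeds X := fun k =>
    ⟨(e.symm k).1, isClosed_of_mem_irreducibleComponents _ (e.symm k).2⟩
  have hr : ∀ k, Set.range (Scheme.IdealSheafData.vanishingIdeal (Z k)).subschemeι = (e.symm k).1 := fun k => by
    rw [Scheme.IdealSheafData.range_subschemeι, Scheme.IdealSheafData.coe_support_vanishingIdeal]; rfl
  have hcov : ∀ x : X, ∃ k, x ∈ Set.range (Scheme.IdealSheafData.vanishingIdeal (Z k)).subschemeι := fun x =>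
    ⟨e ⟨_, irreducibleComponent_mem_irreducibleComponents x⟩, by
      rw [hr, Equiv.symm_apply_apply]; exact mem_irreducibleComponent⟩
  have hp : ∀ k, ∃ V : (Scheme.IdealSheafData.vanishingIdeal (Z k)).subscheme.Opens, IsAffineOpen V ∧
      ∀ z, (Scheme.IdealSheafData.vanishingIdeal (Z k)).subschemeι z ∈ (T : Set X) → z ∈ V := fun k => by
    obtain ⟨V, hV, hTV⟩ := h _ (e.symm k).2
    refine ⟨V, hV, fun z hz => ?_⟩
    obtain ⟨z', hz', he⟩ := hTV _ hz ((hr k).le ⟨z, rfl⟩)
    exact (Scheme.IdealSheafData.vanishingIdeal (Z k)).subschemeι.isClosedEmbedding.injective he ▸ hz'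
  obtain ⟨U, hU, hT⟩ := Groth.Agent.VarGal.exists_affineOpen_pieces _
    (fun k => (Scheme.IdealSheafData.vanishingIdeal (Z k)).subscheme)
    (fun k => (Scheme.IdealSheafData.vanishingIdeal (Z k)).subschemeι) (fun k => inferInstance) hcov
    (T : Set X) T.finite_toSet hp
  exact ⟨U, hU, fun t ht => hT ht⟩

end Groth.Agent.S7662
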