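import Groth.Statements.S7663
import Groth.Agent.VarDim1.GlueRing

set_option autoImplicit false
universe u
open CategoryTheory CategoryTheory.Limits AlgebraicGeometry
open Variety

namespace Groth.Agent.S7663

/-- Let K be a field and A, B ⊆ K subrings with fraction field K, with A Noetherian of dimension one.
Then A ⊗ B → K is not surjective (equivalently, the subring generated by A and B is not K) if and
only if some discrete valuation ring O ⊆ K with fraction field K contains both A and B. -/
theorem result (K : Type u) [Field K]
    (A : Subring K) [IsFractionRing A K] (B : Subring K) [IsFractionRing B K] [IsNoetherianRing A] (hdim : ringKrullDim A = 1) :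
    A ⊔ B ≠ ⊤ ↔ ∃ O : ValuationSubring K, IsDiscreteValuationRing O ∧ A ≤ O.toSubring ∧ B ≤ O.toSubring := by
  refine ⟨VarDim1.exists_dvr_of_sup_ne_top A B hdim, ?_⟩
  rintro ⟨O, hO, hA, hB⟩ h
  exact VarDim1.ne_top_of_isDiscreteValuationRing O (top_le_iff.1 (h ▸ sup_le hA hB))

end Groth.Agent.S7663
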