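import Groth.Statements.S7664
import Groth.Agent.VarDim1.GlueRing

set_option autoImplicit false
universe u
open CategoryTheory CategoryTheory.Limits AlgebraicGeometry
open Variety

namespace Groth.Agent.S7664

/-- Let K be a field, A ⊆ K a Noetherian semi-local domain of dimension one and B ⊆ K a discrete
valuation ring, both with fraction field K, and R = A ∩ B. (a) If some unit of A does not lie in R,
then Spec A and Spec B each map to Spec R by an open immersion, Spec R is the union of the two
images, and the natural map A ⊗_R B → K is an isomorphism. (b) If every unit of A lies in R, then B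
dominates the local ring of A at one of its maximal ideals (A ⊆ B and the maximal ideal of B
contracts to a maximal ideal of A) and A ⊗ B → K is not surjective. -/
theorem result (K : Type u) [Field K]
    (A : Subring K) [IsFractionRing A K] [IsNoetherianRing A] (hdim : ringKrullDim A = 1) (hsl : Finite (MaximalSpectrum A))
    (B : ValuationSubring K) [IsDiscreteValuationRing B] :
    ((∃ u : A, IsUnit u ∧ (u : K) ∉ B) →
      IsOpenImmersion (Spec.map (CommRingCat.ofHom (Subring.inclusion (inf_le_left : A ⊓ B.toSubring ≤ A)))) ∧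
      IsOpenImmersion (Spec.map (CommRingCat.ofHom (Subring.inclusion (inf_le_right : A ⊓ B.toSubring ≤ B.toSubring)))) ∧
      Set.range (Spec.map (CommRingCat.ofHom (Subring.inclusion (inf_le_left : A ⊓ B.toSubring ≤ A)))).base ∪
        Set.range (Spec.map (CommRingCat.ofHom (Subring.inclusion (inf_le_right : A ⊓ B.toSubring ≤ B.toSubring)))).base = Set.univ ∧
      IsPushout (CommRingCat.ofHom (Subring.inclusion (inf_le_left : A ⊓ B.toSubring ≤ A)))
        (CommRingCat.ofHom (Subring.inclusion (inf_le_right : A ⊓ B.toSubring ≤ B.toSubring)))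
        (CommRingCat.ofHom A.subtype) (CommRingCat.ofHom B.toSubring.subtype)) ∧
    ((∀ u : A, IsUnit u → (u : K) ∈ B) →
      (∃ h : A ≤ B.toSubring,
        (Ideal.comap (Subring.inclusion h) (IsLocalRing.maximalIdeal B)).IsMaximal) ∧ A ⊔ B.toSubring ≠ ⊤) := by
  have : IsFractionRing B.toSubring K := inferInstanceAs (IsFractionRing B K)
  have : IsNoetherianRing B.toSubring := inferInstanceAs (IsNoetherianRing B)
  have hdB : ringKrullDim B.toSubring = 1 :=
    IsPrincipalIdealRing.ringKrullDim_eq_one B (IsDiscreteValuationRing.not_isField B)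
  have hsB : Finite (MaximalSpectrum B.toSubring) :=
    Finite.of_injective (fun _ : MaximalSpectrum B => Unit.unit) fun a b _ =>
      MaximalSpectrum.ext ((IsLocalRing.eq_maximalIdeal a.isMaximal).trans (IsLocalRing.eq_maximalIdeal b.isMaximal).symm)
  constructor
  · rintro ⟨u, hu, huB⟩
    exact VarDim1.glue_pair A B.toSubring hdim hdB hsl hsB
      (VarDim1.sup_eq_top_of_not_le A hdim B fun h => huB (h u.2))
  · intro hU
    have hle : A ≤ B.toSubring := by
      by_contra h
      obtain ⟨e, he, hJ⟩ := VarDim1.exists_isUnit_mem_jacobson A hdim (fun _ : Unit => B.toSubring)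
        (fun _ => hdB) (fun _ => hsB) (fun _ => VarDim1.sup_eq_top_of_not_le A hdim B h)
      obtain ⟨heB, heJ⟩ := hJ ()
      obtain ⟨v, hv⟩ := isUnit_iff_exists_inv.1 he
      have hvB := hU v (IsUnit.of_mul_eq_one (e : A) (by rwa [mul_comm]))
      have hunit : IsUnit (⟨(e : K), heB⟩ : B.toSubring) :=
        IsUnit.of_mul_eq_one (⟨(v : K), hvB⟩ : B.toSubring) (Subtype.ext (show (e : K) * (v : K) = 1 from congrArg (fun z : A => (z : K)) hv))
      have h1 := VarDim1.exists_ne_zero_mem_jacobson (B := A) (VarDim1.not_isField_of_eq_one hdim)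
      obtain ⟨m, hm⟩ := Ideal.exists_maximal B.toSubring
      exact hm.ne_top (Ideal.eq_top_of_isUnit_mem _ (VarDim1.algebraMap_mem_jacobson_iff.1 heJ m hm) hunit)
    have hne : B.toSubring ≠ ⊤ := VarDim1.ne_top_of_isDiscreteValuationRing B
    refine ⟨⟨hle, ?_⟩, fun h => hne ((sup_eq_right.2 hle).symm.trans h)⟩
    have := VarDim1.krullDimLE_one_of_eq hdim
    refine (Ideal.comap_isPrime _ _).isMaximal_of_ne_bot fun h0 => hne (VarDim1.eq_top_of_forall_inv A _ hle fun a ha => ?_)
    have hu : IsUnit (Subring.inclusion hle a) := by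
      by_contra hn
      exact ha ((Submodule.mem_bot A).1 (h0 ▸ Ideal.mem_comap.2 ((IsLocalRing.mem_maximalIdeal (R := B) _).2 hn)))
    obtain ⟨b, hb⟩ := isUnit_iff_exists_inv.1 hu
    rw [show (a : K)⁻¹ = (b : K) from (eq_inv_of_mul_eq_one_right (congrArg Subtype.val hb)).symm]
    exact b.2

end Groth.Agent.S7664
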