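import Groth.Statements.S7666
import Groth.Agent.VarDim1.Basic

set_option autoImplicit false
universe u
open CategoryTheory CategoryTheory.Limits AlgebraicGeometry
open Variety

namespace Groth.Agent.S7666

/-- Let A be a one-dimensional Noetherian local ring and L = ∏ A_p, the product over the minimal primes
of A. If a_1, a_2 ∈ m_A have the same image in L, then a_1 and a_2 have equal n-th powers for some
positive integer n. -/
theorem result (A : Type u) [CommRing A]
    [IsLocalRing A] [IsNoetherianRing A] (hdim : ringKrullDim A = 1)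
    (a₁ a₂ : A) (h₁ : a₁ ∈ IsLocalRing.maximalIdeal A) (h₂ : a₂ ∈ IsLocalRing.maximalIdeal A)
    (heq : ∀ p : {p : PrimeSpectrum A // p.asIdeal ∈ minimalPrimes A},
      algebraMap A (Localization.AtPrime p.1.asIdeal) a₁ = algebraMap A (Localization.AtPrime p.1.asIdeal) a₂) :
    ∃ n : ℕ, 0 < n ∧ a₁ ^ n = a₂ ^ n := by
  obtain ⟨N, hN⟩ := VarDim1.exists_maximalIdeal_pow_mul_eq_zero hdim (b := a₁ - a₂)
    (funext fun p => by simp [heq p])
  refine ⟨N + 1, Nat.succ_pos _, ?_⟩
  rw [← sub_eq_zero, ← geom_sum₂_mul]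
  refine hN _ (Ideal.sum_mem _ fun i hi => ?_)
  have hi' : i ≤ N := Nat.lt_succ_iff.1 (Finset.mem_range.1 hi)
  have := Ideal.mul_mem_mul (Ideal.pow_mem_pow h₁ i) (Ideal.pow_mem_pow h₂ (N + 1 - 1 - i))
  rwa [← pow_add, Nat.add_sub_cancel, Nat.add_sub_cancel' hi'] at this

end Groth.Agent.S7666
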