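import Groth.Statements.S7667
import Groth.Agent.VarDim1.Basic

set_option autoImplicit false
universe u
open CategoryTheory CategoryTheory.Limits AlgebraicGeometry
open Variety

namespace Groth.Agent.S7667

/-- Let A be a one-dimensional Noetherian local ring, L the product of the localizations A_p over its
minimal primes p, and I the intersection of those primes (the nilradical of A). If f ∈ L equals i +
a with a in the maximal ideal of A and i ∈ I·L, then for some positive integer n, f^n belongs to the
subring of L obtained as the image of the structure map from A. -/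
theorem result (A : Type u) [CommRing A]
    [IsLocalRing A] [IsNoetherianRing A] (hdim : ringKrullDim A = 1)
    (a : A) (ha : a ∈ IsLocalRing.maximalIdeal A)
    (i : ∀ p : {p : PrimeSpectrum A // p.asIdeal ∈ minimalPrimes A}, Localization.AtPrime p.1.asIdeal)
    (hi : i ∈ (nilradical A).map (algebraMap A (∀ p : {p : PrimeSpectrum A // p.asIdeal ∈ minimalPrimes A}, Localization.AtPrime p.1.asIdeal))) :
    ∃ n : ℕ, 0 < n ∧ (i + algebraMap A (∀ p : {p : PrimeSpectrum A // p.asIdeal ∈ minimalPrimes A}, Localization.AtPrime p.1.asIdeal) a) ^ n ∈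
      (algebraMap A (∀ p : {p : PrimeSpectrum A // p.asIdeal ∈ minimalPrimes A}, Localization.AtPrime p.1.asIdeal)).range := by
  classical
  obtain ⟨e, he⟩ : IsNilpotent i := by
    rw [← mem_nilradical]
    exact (Ideal.map_le_iff_le_comap.2 fun x hx => (mem_nilradical.2 ((mem_nilradical.1 hx).map _))) hi
  choose K hK using fun j : ℕ => VarDim1.exists_maximalIdeal_pow_mul_mem_range hdim (i ^ j)
  let K' := (Finset.range e).sup K
  refine ⟨K' + e + 1, Nat.succ_pos _, ?_⟩
  rw [add_pow]
  refine Subring.sum_mem _ fun j _ => ?_
  by_cases hj : j < e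
  · have hKj : K j ≤ K' := Finset.le_sup (Finset.mem_range.2 hj)
    have := hK j (a ^ (K' + e + 1 - j))
      (Ideal.pow_le_pow_right (by omega) (Ideal.pow_mem_pow ha _))
    rw [map_pow, mul_comm] at this
    exact Subring.mul_mem _ this (natCast_mem _ _)
  · rw [pow_eq_zero_of_le (not_lt.1 hj) he, zero_mul, zero_mul]
    exact Subring.zero_mem _

end Groth.Agent.S7667
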