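import Groth.Statements.S7668
import Groth.Agent.VarDim1.Basic

set_option autoImplicit false
universe u
open CategoryTheory CategoryTheory.Limits AlgebraicGeometry
open Variety

namespace Groth.Agent.S7668

/-- Let A be a ring, p_1, …, p_r primes of A and S = A ∖ ⋃ p_i. Then S is a multiplicative subset, S⁻¹A
is semi-local, and contraction to A is a bijection from the maximal ideals of S⁻¹A onto the maximal
elements of {p_1, …, p_r}. -/
theorem result (A : Type u) [CommRing A]
    (r : ℕ) (p : Fin r → PrimeSpectrum A) :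
    Finite (MaximalSpectrum (Localization (⨅ i, (p i).asIdeal.primeCompl))) ∧
      Set.BijOn (fun m : Ideal (Localization (⨅ i, (p i).asIdeal.primeCompl)) =>
          m.comap (algebraMap A (Localization (⨅ i, (p i).asIdeal.primeCompl))))
        {m | m.IsMaximal}
        {q | q ∈ Set.range (fun i => (p i).asIdeal) ∧
          ∀ j, q ≤ (p j).asIdeal → q = (p j).asIdeal} := by
  classical
  set S : Submonoid A := ⨅ i, (p i).asIdeal.primeCompl with hS
  have hmem : ∀ x : A, x ∈ S ↔ ∀ i, x ∉ (p i).asIdeal := fun x => by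
    simp [hS, Submonoid.mem_iInf, Ideal.mem_primeCompl_iff]
  have key : ∀ q : Ideal A, q.IsPrime → (Disjoint (S : Set A) q ↔ ∃ i, q ≤ (p i).asIdeal) := by
    intro q hq
    constructor
    · intro hd
      by_contra hcon
      push Not at hcon
      obtain ⟨b, hb, hbn⟩ := VarDim1.exists_mem_notMem_of_not_le q
        (Finset.univ.image fun i => (p i).asIdeal)
        (by simp only [Finset.mem_image, Finset.mem_univ, true_and, forall_exists_index, forall_apply_eq_imp_iff]
            exact fun i => (p i).isPrime)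
        (by simp only [Finset.mem_image, Finset.mem_univ, true_and, forall_exists_index, forall_apply_eq_imp_iff]
            exact hcon)
      exact Set.disjoint_left.1 hd ((hmem b).2 fun i => hbn _ (Finset.mem_image_of_mem _ (Finset.mem_univ i))) hb
    · rintro ⟨i, hi⟩
      exact Set.disjoint_left.2 fun x hx hxq => (hmem x).1 hx i (hi hxq)
  let φ := algebraMap A (Localization S)
  have hinj : Set.InjOn (fun m : Ideal (Localization S) => m.comap φ) {m | m.IsMaximal} :=
    fun m _ m' _ h => by
      rw [← IsLocalization.map_under S (Localization S) m, ← IsLocalization.map_under S (Localization S) m']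
      exact congrArg (Ideal.map φ) h
  have hprime : ∀ i, ((p i).asIdeal.map φ).IsPrime ∧ ((p i).asIdeal.map φ).comap φ = (p i).asIdeal := fun i =>
    ⟨IsLocalization.isPrime_of_isPrime_disjoint S _ _ (p i).isPrime ((key _ (p i).isPrime).2 ⟨i, le_rfl⟩),
      IsLocalization.comap_map_of_isPrime_disjoint S _ (p i).isPrime ((key _ (p i).isPrime).2 ⟨i, le_rfl⟩)⟩
  have hmaps : Set.MapsTo (fun m : Ideal (Localization S) => m.comap φ) {m | m.IsMaximal}
      {q | q ∈ Set.range (fun i => (p i).asIdeal) ∧ ∀ j, q ≤ (p j).asIdeal → q = (p j).asIdeal} := by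
    intro m hm
    have hm' : m.IsMaximal := hm
    obtain ⟨hq, hd⟩ := (IsLocalization.isPrime_iff_isPrime_disjoint S (Localization S) m).1 hm'.isPrime
    have hmax : ∀ j, m.comap φ ≤ (p j).asIdeal → m.comap φ = (p j).asIdeal := by
      intro j hj
      have hle : m ≤ (p j).asIdeal.map φ :=
        (IsLocalization.map_under S (Localization S) m).symm.le.trans (Ideal.map_mono hj)
      rw [hm'.eq_of_le (hprime j).1.ne_top hle, (hprime j).2]
    obtain ⟨i, hi⟩ := (key _ hq).1 hd
    exact ⟨⟨i, (hmax i hi).symm⟩, hmax⟩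
  have hsurj : Set.SurjOn (fun m : Ideal (Localization S) => m.comap φ) {m | m.IsMaximal}
      {q | q ∈ Set.range (fun i => (p i).asIdeal) ∧ ∀ j, q ≤ (p j).asIdeal → q = (p j).asIdeal} := by
    rintro q ⟨⟨i, rfl⟩, hi⟩
    obtain ⟨m, hm, hle⟩ := Ideal.exists_le_maximal _ (hprime i).1.ne_top
    obtain ⟨⟨j, hj⟩, -⟩ := hmaps hm
    refine ⟨m, hm, ?_⟩
    simp only at hj ⊢
    rw [← hj]
    refine (hi j ?_).symm
    rw [hj]
    exact Ideal.map_le_iff_le_comap.1 hle
  refine ⟨?_, hmaps, hinj, hsurj⟩
  refine Set.finite_coe_iff.mpr ?_ |> fun (h : Finite {m : Ideal (Localization S) // m.IsMaximal}) =>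
    Finite.of_injective (fun m : MaximalSpectrum (Localization S) => (⟨m.asIdeal, m.isMaximal⟩ : {m : Ideal (Localization S) // m.IsMaximal}))
      fun a b h => MaximalSpectrum.ext (congrArg Subtype.val h)
  exact Set.Finite.of_injOn hmaps hinj ((Set.finite_range _).subset fun q hq => hq.1)

end Groth.Agent.S7668
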