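import Groth.Statements.S7670
import Groth.Agent.Curves2.Glue.ClosedPieces

set_option autoImplicit false
universe u
open CategoryTheory CategoryTheory.Limits AlgebraicGeometry
open Variety

namespace Groth.Agent.S7670

/-- Let X be a reduced scheme and Z_1, …, Z_n ⊆ X closed subschemes with X = ⋃ Z_i set-theoretically and
Z_i ∩ Z_j discrete for i ≠ j, and let L_i be an invertible module on Z_i. Then there is an
invertible module L on X whose restriction to each Z_i is isomorphic to L_i. (The published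
statement also gives, for sections s_i of L_i that do not vanish at the points of Z_i ∩ Z_j, a
choice of L with a global section restricting to each s_i; this row states only the existence of L.) -/
theorem result (X : Scheme.{u}) [IsReduced X]
    (n : ℕ) (Z : Fin n → X.IdealSheafData)
    (hcov : ⋃ i, ((Z i).support : Set X) = Set.univ)
    (hdisc : ∀ i j, i ≠ j → DiscreteTopology ↥(((Z i).support : Set X) ∩ ((Z j).support : Set X)))
    (L : ∀ i, (Z i).subscheme.Modules) (hL : ∀ i, PicF.IsInvertible (L i)) :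
    ∃ M : X.Modules, PicF.IsInvertible M ∧
      ∀ i, Nonempty ((Scheme.Modules.pullback (Z i).subschemeι).obj M ≅ L i) := by
  let ι := ULift.{u} (Fin n)
  let Z' : ι → X.IdealSheafData := fun i => Z i.down
  let L' : ∀ i : ι, (Z' i).subscheme.Modules := fun i => L i.down
  let T : Set X := ⋃ p ∈ {p : ι × ι | p.1 ≠ p.2}, ((Z' p.1).support : Set X) ∩ ((Z' p.2).support : Set X)
  have hcov' : ∀ x, ∃ i, x ∈ ((Z' i).support : Set X) := fun x => by
    obtain ⟨i, hi⟩ := Set.mem_iUnion.1 (hcov.ge (Set.mem_univ x))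
    exact ⟨⟨i⟩, hi⟩
  have hT : ∀ i j, i ≠ j → ∀ y, y ∈ ((Z' i).support : Set X) → y ∈ ((Z' j).support : Set X) → y ∈ T :=
    fun i j hij y hi hj => Set.mem_iUnion₂.2 ⟨(i, j), hij, hi, hj⟩
  have hTx : ∀ x, IsClosed (T \ {x}) := fun x => by
    have e : T \ {x} = ⋃ p ∈ {p : ι × ι | p.1 ≠ p.2},
        (((Z' p.1).support : Set X) ∩ ((Z' p.2).support : Set X)) \ {x} := by
      refine Set.Subset.antisymm ?_ ?_
      · rintro y ⟨hy, hyx⟩
        obtain ⟨q, hq, hyq⟩ := Set.mem_iUnion₂.1 hy
        exact Set.mem_iUnion₂.2 ⟨q, hq, hyq, hyx⟩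
      · intro y hy
        obtain ⟨q, hq, hyq, hyx⟩ := Set.mem_iUnion₂.1 hy
        exact ⟨Set.mem_iUnion₂.2 ⟨q, hq, hyq⟩, hyx⟩
    rw [e]
    refine Set.Finite.isClosed_biUnion (Set.toFinite _) fun p hp => ?_
    set P := ((Z' p.1).support : Set X) ∩ ((Z' p.2).support : Set X)
    have hP : IsClosed P := (Z' p.1).support.isClosed.inter (Z' p.2).support.isClosed
    haveI : DiscreteTopology ↥P := hdisc p.1.down p.2.down fun h => hp (ULift.ext _ _ h)
    have h1 := hP.isClosedEmbedding_subtypeVal.isClosedMap _ (isClosed_discrete {q : ↥P | q.1 ≠ x})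
    convert h1 using 1
    refine Set.Subset.antisymm ?_ ?_
    · rintro y ⟨hy, hyx⟩
      exact ⟨⟨y, hy⟩, hyx, rfl⟩
    · rintro y ⟨q, hq, rfl⟩
      exact ⟨q.2, hq⟩
  obtain ⟨D⟩ := Groth.Agent.Curves2.Glue.exists_localData (Z := Z') (L := L') (fun i => hL i.down) T hTx
  exact ⟨_, Groth.Agent.Curves2.Glue.isInvertible_cglued D hcov' hT,
    fun i => Groth.Agent.Curves2.Glue.nonempty_pullback_cglued D hcov' hT ⟨i⟩⟩

end Groth.Agent.S7670
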