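import Groth.Statements.S7674
import Groth.Agent.VarGal.AffineInter

set_option autoImplicit false
universe u
open CategoryTheory CategoryTheory.Limits AlgebraicGeometry
open Variety

namespace Groth.Agent.S7674

/-- Let k be a field, n ≥ 0, and X, Y ⊆ A^n_k closed subsets which are equidimensional of dimensions r
and s. Then each irreducible component Z of the intersection X ∩ Y satisfies dim Z ≥ r + s − n. -/
theorem result (k : Type u) [Field k] (n r s : ℕ)
    (X Y : Set ↥(𝔸(ULift.{u} (Fin n); Spec (CommRingCat.of k)))) (hX : IsClosed X) (hY : IsClosed Y)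
    (hXr : ∀ Z ∈ irreducibleComponents X, topologicalKrullDim Z = r)
    (hYs : ∀ Z ∈ irreducibleComponents Y, topologicalKrullDim Z = s)
    (Z : Set ↥(X ∩ Y)) (hZ : Z ∈ irreducibleComponents ↥(X ∩ Y)) :
    ((r + s : ℕ) : WithBot ℕ∞) ≤ topologicalKrullDim Z + (n : WithBot ℕ∞) := by
  let i : 𝔸(ULift.{u} (Fin n); Spec (CommRingCat.of k)) ≅ Spec (CommRingCat.of (MvPolynomial (ULift.{u} (Fin n)) k)) :=
    AffineSpace.SpecIso (ULift.{u} (Fin n)) (CommRingCat.of k)
  refine Groth.Agent.VarGal.dim_component_inter_ge (k := k) i.hom.homeomorph (fun j : Fin n => (MvPolynomial.X ⟨j⟩ : MvPolynomial (ULift.{u} (Fin n)) k)) ?_ r s X Y hX hY hXr hYs Z hZ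
  rw [← MvPolynomial.adjoin_range_X]
  congr 1
  ext p
  simp

end Groth.Agent.S7674
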