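import Groth.Statements.S7675
import Groth.Agent.VarGal.ProjDim

set_option autoImplicit false
universe u
open CategoryTheory CategoryTheory.Limits AlgebraicGeometry
open Variety

namespace Groth.Agent.S7675

/-- Let k be a field, n ≥ 0 and X, Y ⊆ P^n_k nonempty closed subsets of dimensions r and s with r + s ≥
n. Then X ∩ Y is nonempty and dim(X ∩ Y) ≥ r + s − n. -/
theorem result (k : Type u) [Field k] (n r s : ℕ)
    (X Y : Set ↥(CohB1.ProjSpace n k)) (hX : IsClosed X) (hY : IsClosed Y)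
    (hXne : X.Nonempty) (hYne : Y.Nonempty)
    (hXr : topologicalKrullDim X = r) (hYs : topologicalKrullDim Y = s) (hrs : n ≤ r + s) :
    (X ∩ Y).Nonempty ∧ ((r + s : ℕ) : WithBot ℕ∞) ≤ topologicalKrullDim ↥(X ∩ Y) + (n : WithBot ℕ∞) := by
  let X' : Set (ProjectiveSpectrum (CohB1.polyGrading n k)) := X
  let Y' : Set (ProjectiveSpectrum (CohB1.polyGrading n k)) := Y
  obtain ⟨a, haX, ha⟩ := VarGal.exists_of_le_projDim (W := X') hX hXne (m := r) (le_of_eq hXr.symm)
  obtain ⟨b, hbY, hb⟩ := VarGal.exists_of_le_projDim (W := Y') hY hYne (m := s) (le_of_eq hYs.symm)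
  have hsum := a.asHomogeneousIdeal.isHomogeneous.sup b.asHomogeneousIdeal.isHomogeneous
  obtain ⟨w, hw⟩ := Ideal.nonempty_minimalPrimes
    (I := a.asHomogeneousIdeal.toIdeal ⊔ b.asHomogeneousIdeal.toIdeal)
    (ne_top_of_le_ne_top (Ideal.IsMaximal.ne_top (I := VarGal.vertexIdeal k n) inferInstance)
      (sup_le (VarGal.le_vertexIdeal a.asHomogeneousIdeal.isHomogeneous a.isPrime.ne_top)
        (VarGal.le_vertexIdeal b.asHomogeneousIdeal.isHomogeneous b.isPrime.ne_top)))
  have : w.IsPrime := hw.1.1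
  have h := VarGal.trdegQuot_add_le_of_minimalPrimes (k := k) (N := n + 1) MvPolynomial.X
    MvPolynomial.adjoin_range_X _ _ w hw
  unfold VarGal.coneDim at ha hb
  let c := VarGal.mkPoint w (VarGal.isHomogeneous_of_mem_minimalPrimes hsum hw) (by omega)
  have hc : c ∈ X' ∩ Y' :=
    ⟨((VarGal.le_iff_specializes a c).1 (le_sup_left.trans hw.1.2)).mem_closed hX haX,
      ((VarGal.le_iff_specializes b c).1 (le_sup_right.trans hw.1.2)).mem_closed hY hbY⟩
  refine ⟨⟨c, hc⟩, ?_⟩
  refine le_trans ?_ (add_le_add (VarGal.le_projDim (W := X' ∩ Y') (hX.inter hY) hc) le_rfl)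
  have hcd : VarGal.coneDim c = CAlgH2.trdegQuot k w := rfl
  exact_mod_cast (by omega : r + s ≤ VarGal.coneDim c - 1 + n)

end Groth.Agent.S7675
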