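import Groth.Statements.S7680
import Groth.Agent.PDual19.VanishX
import Groth.Agent.Curves2.VeryAmple.Embed
import Groth.Agent.Div89.NormalSheaf
import Groth.Agent.S9710
import Groth.Agent.EGA4Alg4.DepthChange
import Groth.Agent.Inv57.OfTensor
import Groth.Agent.Cyc90.Dev.TensorStalk

set_option autoImplicit false
set_option maxSynthPendingDepth 6
set_option backward.isDefEq.respectTransparency.types false
universe u
open CategoryTheory CategoryTheory.Limits AlgebraicGeometry
open Variety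

namespace Groth.Agent.S7680

/-- Let X be proper over a field k, L an ample invertible module and F a coherent module with depth(F_x)
≥ 2 for every closed point x. Then H^1(X, F ⊗ L^{⊗m}) = 0 for m ≪ 0; negative powers of L are
written as powers of an inverse M of L. -/
theorem result (k : Type u) [Field k] (X : Scheme.{u}) [X.Over (Spec (CommRingCat.of k))] [IsProper (X ↘ (Spec (CommRingCat.of k)))]
    (L : X.Modules) (hL : CohB1.IsAmple L) (M : X.Modules) (hM : ClSub.IsInverseOf L M)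
    (F : X.Modules) (hF : Coh.IsCoh F)
    (hdepth : ∀ x : X, IsClosed ({x} : Set X) → 2 ≤ LocCoh.depth (X.presheaf.stalk x) (F.presheaf.stalk x)) :
    ∃ m₀ : ℕ, ∀ m : ℕ, m₀ ≤ m →
      Subsingleton (Coh.HH X (CohB1.tensorMod F (CohB1.tensorPow M m)) 1) := by
  have hML : Nonempty (CohB1.tensorMod M L ≅ Coh.structureModule X) := hM.map (EGA73.tensComm M L ≪≫ ·)
  have hMinv := Inv57.isInvertible_of_tensorMod_iso hML.some
  obtain ⟨eML⟩ := hML
  obtain ⟨d, hd, hva⟩ := S9710.result (X ↘ (Spec (CommRingCat.of k))) L hL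
  obtain ⟨N, i, hi, -, ⟨e⟩⟩ := Curves2.VeryAmple.exists_closedImmersion_projSpace k
    (X ↘ (Spec (CommRingCat.of k))) _ (hva d le_rfl)
  have key : ∀ r, ∃ m₀ : ℕ, ∀ j : ℕ, m₀ ≤ j →
      Subsingleton (Coh.HH X (CohB1.tensorMod F (CohB1.tensorPow M (r + d * j))) 1) := by
    intro r
    have hr := EGA73.isInvertible_tensorPow hMinv r
    have hG : Coh.IsCoh (CohB1.tensorMod F (CohB1.tensorPow M r)) :=
      Amp73.isCoh_tensorMod hF (Amp73.isCoh_of_isInvertible hr)
    obtain ⟨m₀, hm₀⟩ := (PDual19.exists_vanishX_iff k N i hG 2).2 fun z hz => by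
      obtain ⟨s⟩ := Cyc90.Dev.nonempty_stalk_equiv hr F z
      rw [← EGA4Alg4.depth_eq_of_equiv s]
      exact hdepth z hz
    refine ⟨m₀.toNat, fun j hj => ?_⟩
    obtain ⟨a⟩ := LGlob19.nonempty_OX_inverse k N i (j : ℤ)
    obtain ⟨t⟩ := EGA73.nonempty_twist_iso_tensorPow (Var76.Reg.hgen N k) j
    let b : (Scheme.Modules.pullback i).obj (Twist.twistProjSpace N k (j : ℤ)) ≅ CohB1.tensorPow L (d * j) :=
      (Scheme.Modules.pullback i).mapIso t ≪≫ Amp73.pullPowIso i (Var76.Reg.isInvertible_twist 1) j ≪≫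
        Amp73.powIso e j ≪≫ Amp73.powMul L d j
    obtain ⟨c⟩ := Div89.inverse_unique a
      (EGA73.tensIso (Iso.refl (CohB1.tensorPow M (d * j))) b ≪≫ (Amp73.powTens M L (d * j)).symm ≪≫
        Amp73.powIso eML (d * j) ≪≫ Amp73.powUnit X (d * j))
    haveI := hm₀ (j : ℤ) (by omega) 1 (by omega)
    exact (Crv77.hEquiv k (EGA73.tensIso (Iso.refl _) c ≪≫ EGA73.tensAssoc' F _ _ ≪≫
      EGA73.tensIso (Iso.refl F) (Amp73.powAdd M r (d * j))) 1).toEquiv.symm.subsingleton
  choose m₀ hm₀ using key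
  refine ⟨((Finset.range d).sup m₀ + 1) * d, fun n hn => ?_⟩
  have hle : m₀ (n % d) ≤ n / d := by
    have h1 : m₀ (n % d) ≤ (Finset.range d).sup m₀ := Finset.le_sup (f := m₀) (Finset.mem_range.2 (Nat.mod_lt _ hd))
    have h2 : (Finset.range d).sup m₀ + 1 ≤ n / d := (Nat.le_div_iff_mul_le hd).2 hn
    omega
  have := hm₀ (n % d) (n / d) hle
  rwa [Nat.mod_add_div] at this

end Groth.Agent.S7680
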