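import Groth.Statements.S7686
import Groth.Agent.Snapper75.Top

set_option autoImplicit false
set_option backward.isDefEq.respectTransparency.types false
universe u
open CategoryTheory CategoryTheory.Limits AlgebraicGeometry
open Variety

namespace Groth.Agent.S7686

/-- Let X be proper over a field k, Z ⊆ X a closed subscheme of dimension d with irreducible components
Z_i of dimension d (reduced induced structure, generic points ξ_i, multiplicities m_i = length of
O_{Z,ξ_i} over O_{X,ξ_i}) and L_1, …, L_d invertible modules. Then (L_1 ⋯ L_d · Z) = Σ m_i (L_1 ⋯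
L_d · Z_i). Intersection numbers are the n_1⋯n_d-coefficients of the polynomials computing the Euler
characteristics; the sum is written over all points ξ whose closure has dimension d (other terms
vanish). -/
theorem result (k : Type u) [Field k] (X : Scheme.{u}) [X.Over (Spec (CommRingCat.of k))] [IsProper (X ↘ (Spec (CommRingCat.of k)))]
    (D : X.IdealSheafData) (d : ℕ) (hD : topologicalKrullDim (D.support : Set X) = d)
    (L : Fin d → X.Modules) (hL : ∀ i, PicF.IsInvertible (L i)) (P : MvPolynomial (Fin d) ℚ)
    (hP : ∀ n : Fin d → ℕ, (Curv2.euler k X (Curv2.tensorPows (ClSub.quotMod D) d L n) : ℚ) = MvPolynomial.eval (fun i => (n i : ℚ)) P)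
    (Q : X → MvPolynomial (Fin d) ℚ)
    (hQ : ∀ ξ : X, topologicalKrullDim (closure ({ξ} : Set X)) = (d : WithBot ℕ∞) →
      ∀ n : Fin d → ℕ, (Curv2.euler k X (Curv2.tensorPows (ClSub.quotMod (Scheme.IdealSheafData.vanishingIdeal (⟨closure ({ξ} : Set X), isClosed_closure⟩ : TopologicalSpace.Closeds X))) d L n) : ℚ) = MvPolynomial.eval (fun i => (n i : ℚ)) (Q ξ)) :
    MvPolynomial.coeff (Finsupp.equivFunOnFinite.symm fun _ : Fin d => 1) P =
      ∑ᶠ ξ : X, (if topologicalKrullDim (closure ({ξ} : Set X)) = (d : WithBot ℕ∞) then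
        ((Module.length (X.presheaf.stalk ξ) ((ClSub.quotMod D).presheaf.stalk ξ)).toNat : ℚ) *
          MvPolynomial.coeff (Finsupp.equivFunOnFinite.symm fun _ : Fin d => 1) (Q ξ) else 0) := by
  classical
  haveI := Crv77.isNoetherian_of_proper k X
  have hc : Coh.IsCoh (ClSub.quotMod D) := Crv77.isCoh_quotMod D
  have hsub := Snapper75.support_quotMod_subset D
  let T := (Snapper75.finite_top_points D.support.isClosed hD.le).toFinset
  have hT : ∀ η : X, η ∈ T ↔ η ∈ (D.support : Set X) ∧
      topologicalKrullDim (closure ({η} : Set X)) = (d : WithBot ℕ∞) := fun η => Set.Finite.mem_toFinset _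
  have h := Snapper75.alt_eq_zero (Snapper75.defect_mem_polySub k hL D.support.isClosed hD.le hT hc hsub)
  rw [Snapper75.defect, map_sub, sub_eq_zero, map_sum] at h
  rw [Snapper75.coeff_eq_alt k hL hc ((LC17.dim_mono hsub).trans hD.le) hP, h,
    finsum_eq_sum_of_support_subset _ (s := T)]
  · refine Finset.sum_congr rfl fun η hη => ?_
    have hd' := ((hT η).1 hη).2
    rw [if_pos hd', map_smul, smul_eq_mul]
    exact congrArg₂ (· * ·) rfl (Snapper75.coeff_eq_alt k hL (Crv77.isCoh_quotMod _)
      ((LC17.dim_mono (Snapper75.support_ptMod η)).trans hd'.le) (hQ η hd')).symm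
  · intro η hη
    simp only [Function.mem_support, ne_eq, ite_eq_right_iff, not_forall] at hη
    obtain ⟨hd', hne⟩ := hη
    refine Finset.mem_coe.2 ((hT η).2 ⟨?_, hd'⟩)
    by_contra hn
    refine hne ?_
    simp [Module.length_eq_zero_iff.2 (QC70.notMem_support_iff.1 fun hm => hn (hsub hm))]

end Groth.Agent.S7686
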