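import Groth.Statements.S7688
import Groth.Agent.Curves2.Glue.UnitLift

set_option autoImplicit false
universe u
open CategoryTheory CategoryTheory.Limits AlgebraicGeometry
open Variety

namespace Groth.Agent.S7688
open TopologicalSpace Groth.Agent.Var76.LineBundle Groth.Agent.Curves2.Glue

set_option backward.isDefEq.respectTransparency false in
theorem exists_near {X Y : Scheme.{u}} (f : X ⟶ Y) [IsFinite f] [IsNoetherian Y]
    (hdim : topologicalKrullDim Y ≤ 1) (V V' : Y.Opens) (hle : V' ≤ V) (hfV : IsClosedImmersion (f ∣_ V))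
    (hdisc : DiscreteTopology ↥((V' : Set Y)ᶜ)) {L : X.Modules} (hL : PicF.IsInvertible L)
    (e : Γ(L, f ⁻¹ᵁ V')) (he : IsFrame L (f ⁻¹ᵁ V') e) (z : Y) (hz : z ∉ V') :
    ∃ W : Y.Opens, z ∈ W ∧ (∀ y ∈ W, y ∉ V' → y = z) ∧ ∃ (u : Γ(Y, W ⊓ V')) (l : Γ(L, f ⁻¹ᵁ W)),
      IsUnit u ∧ IsFrame L (f ⁻¹ᵁ W) l ∧
      f.app (W ⊓ V') u • res L (f.preimage_mono inf_le_right) e = res L (f.preimage_mono inf_le_left) l := by
  have hd : ringKrullDim (Y.presheaf.stalk z) ≤ 1 := (Crv77.stalk_dim_le z).trans hdim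
  obtain ⟨W₀, hW₀, hzW₀, hW₀z, t, ht⟩ := exists_nhd_basicOpen V' hdisc hz inferInstance hd
  obtain ⟨W₁, -, hW₁₀, hzW₁, l₁, hl₁⟩ := exists_nhd_frame_finite f hL z W₀ hzW₀
  obtain ⟨s, hsW₁, hzs⟩ := hW₀.exists_basicOpen_le ⟨z, hzW₁⟩ hzW₀
  let W₂ := Y.basicOpen s
  have hW₂ : IsAffineOpen W₂ := hW₀.basicOpen s
  have hW₂₀ : W₂ ≤ W₀ := Y.basicOpen_le s
  let t₂ : Γ(Y, W₂) := Y.presheaf.map (homOfLE hW₂₀).op t
  have hA : IsAffineOpen (Y.basicOpen t₂) := hW₂.basicOpen t₂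
  have ht₂ : Y.basicOpen t₂ = W₂ ⊓ V' := by
    show Y.basicOpen (Y.presheaf.map (homOfLE hW₂₀).op t) = _
    rw [Scheme.basicOpen_res, ht, ← inf_assoc, inf_eq_left.2 hW₂₀]
  have hAV : Y.basicOpen t₂ ≤ V' := ht₂.le.trans inf_le_right
  have hA₁ : Y.basicOpen t₂ ≤ W₁ := (ht₂.le.trans inf_le_left).trans hsW₁
  obtain ⟨c, hc⟩ := (he (f ⁻¹ᵁ Y.basicOpen t₂) (f.preimage_mono hAV)).2 (res L (f.preimage_mono hA₁) l₁)
  dsimp only at hc
  have hcu : IsUnit c := (Amp73.isFrame_smul_iff (he.res (f.preimage_mono hAV)) c).1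
    (by rw [hc]; exact hl₁.res _)
  let F : Set ↥(Y.basicOpen t₂) := {y | y.1 ⤳ z}
  have hF : F.Finite := by
    haveI : Finite (Spec (Y.presheaf.stalk z)) := finite_primeSpectrum_of_dim_le_one _ hd
    refine Set.Finite.of_finite_image ((Set.finite_range (Y.fromSpecStalk z)).subset ?_)
      Subtype.val_injective.injOn
    rintro _ ⟨y, hy, rfl⟩
    exact Scheme.range_fromSpecStalk.ge hy
  obtain ⟨u₀, hu₀, hu₀F⟩ := exists_unit_lift f hA
    (surjective_app_of_closedImmersion f V hfV hA (hAV.trans hle)) c hcu F hF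
  obtain ⟨a, hza, ha⟩ := exists_basicOpen_inter_le hW₂ hzs t₂ (Y.basicOpen u₀)
    fun y hy hyt => hu₀F ⟨y, hyt⟩ hy
  have haW : Y.basicOpen a ≤ W₂ := Y.basicOpen_le a
  have hU : Y.basicOpen a ⊓ V' ≤ Y.basicOpen u₀ := fun y hy =>
    ha ⟨hy.1, ht₂.ge ⟨haW hy.1, hy.2⟩⟩
  have hUA : Y.basicOpen a ⊓ V' ≤ Y.basicOpen t₂ := hU.trans (Y.basicOpen_le u₀)
  refine ⟨Y.basicOpen a, hza, fun y hy hyV => hW₀z y (hW₂₀ (haW hy)) hyV,
    Y.presheaf.map (homOfLE hUA).op u₀, res L (f.preimage_mono (haW.trans hsW₁)) l₁, ?_, hl₁.res _, ?_⟩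
  · have h1 : IsUnit (Y.presheaf.map (homOfLE (Y.basicOpen_le u₀)).op u₀) :=
      RingedSpace.isUnit_res_basicOpen Y.toRingedSpace u₀
    have h2 := h1.map (Y.presheaf.map (homOfLE hU).op).hom
    rw [show (Y.presheaf.map (homOfLE hU).op).hom (Y.presheaf.map (homOfLE (Y.basicOpen_le u₀)).op u₀) =
      Y.presheaf.map (homOfLE hUA).op u₀ from map_map_fn _ _ _] at h2
    exact h2
  · have h := congrArg (res L (f.preimage_mono hUA)) hc
    rw [res_smul, res_res, res_res] at h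
    rw [res_res, ← h]
    refine congrArg (· • _) ?_
    rw [← hu₀]
    exact ConcreteCategory.congr_hom (f.naturality (homOfLE hUA).op) u₀


/-- Let f : X → Y be finite with Y Noetherian of dimension at most one, and suppose that over some dense
open V ⊆ Y the restriction f⁻¹(V) → V is a closed immersion. Then each invertible O_X-module arises,
up to isomorphism, by pulling back an invertible O_Y-module along f. -/
theorem result {X Y : Scheme.{u}} (f : X ⟶ Y)
    [IsFinite f] [IsNoetherian Y] (hdim : topologicalKrullDim Y ≤ 1)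
    (V : Y.Opens) (hV : Dense (V : Set Y)) (hfV : IsClosedImmersion (f ∣_ V))
    (L : X.Modules) (hL : PicF.IsInvertible L) :
    ∃ N : Y.Modules, PicF.IsInvertible N ∧ Nonempty ((Scheme.Modules.pullback f).obj N ≅ L) := by
  obtain ⟨V', hle, -, hdisc, e, he⟩ := exists_dense_frame f hdim V hV hL
  choose W hzW hWz u l hu hl hul using fun i : {y : Y // y ∉ V'} =>
    exists_near f hdim V V' hle hfV hdisc hL e he i.1 i.2
  refine exists_descent f L V' (Coh.structureModule Y) (fun y hy => ?_)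
    (fun O hO a => f.app O a • res L (f.preimage_mono hO) e) (fun O O' hO hO' h a => ?_)
    (fun O hO c a => ?_) (fun O hO a ha => ?_) W (fun i j hij y hy => ?_) (fun y => ?_) u
    (fun i => ?_) l hl hul
  · exact ⟨V', le_rfl, hy, _, Amp73.isFrame_one V'⟩
  · rw [res_smul, res_res]
    exact congrArg (· • _) (ConcreteCategory.congr_hom (f.naturality (homOfLE h).op) a)
  · show f.app O (c * (show Γ(Y, O) from a)) • _ = _
    rw [map_mul, mul_smul]
  · refine (Amp73.isFrame_smul_iff (he.res _) _).2 (IsUnit.map (f.app O).hom ?_)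
    obtain ⟨b, hb⟩ := (ha O le_rfl).2 (1 : Γ(Y, O))
    dsimp only at hb
    rw [Amp73.res_self] at hb
    exact IsUnit.of_mul_eq_one_right b hb
  · by_contra hyV
    exact hij (Subtype.ext ((hWz i y hy.1 hyV).symm.trans (hWz j y hy.2 hyV)))
  · exact or_iff_not_imp_left.2 fun hy => ⟨⟨y, hy⟩, hzW _⟩
  · have h1 := (Amp73.isFrame_smul_iff (Amp73.isFrame_one (W i ⊓ V')) (u i)).2 (hu i)
    have h2 : u i • ((1 : Γ(Y, W i ⊓ V')) : Γ(Coh.structureModule Y, W i ⊓ V')) = u i := mul_one _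
    exact h2 ▸ h1

end Groth.Agent.S7688
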