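import Groth.Statements.S7690
import Groth.Agent.Crv77.BaseChange
import Groth.Agent.Var76.RegMaps

set_option autoImplicit false
set_option backward.isDefEq.respectTransparency.types false
universe u
open CategoryTheory CategoryTheory.Limits AlgebraicGeometry
open Variety

namespace Groth.Agent.S7690

/-- Let k'/k be a field extension (k' in the universe of k), n ≥ 0, F a coherent module on P^n_k with
pullback F' to P^n_{k'}. For every integer m, F is m-regular exactly when F' is. Here P^n_{k'} is
taken as the base change P^n_k ×_k Spec k' and the m-regularity of F' is spelled out as the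
vanishing of H^i(P^n_{k'}, (F(m − i))') for 1 ≤ i ≤ n, (F(m − i))' being the pullback of F ⊗ O(m −
i). -/
theorem result (k : Type u) [Field k] (n : ℕ)
    (k' : Type u) [Field k'] [Algebra k k'] (F : (CohB1.ProjSpace n k).Modules) (hF : Coh.IsCoh F) (m : ℤ) :
    Curv2.IsMRegular k n F m ↔
      ∀ i : ℕ, 1 ≤ i → i ≤ n →
        Subsingleton (Coh.HH (Curv2.bc k (CohB1.ProjSpace n k) k')
          ((Scheme.Modules.pullback (Curv2.bcFst k (CohB1.ProjSpace n k) k')).obj
            (CohB1.tensorMod F (Twist.twistProjSpace n k (m - i)))) i) := by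
  haveI : IsProper (CohB1.ProjSpace n k ↘ Spec (CommRingCat.of k)) := Serre71.isProper_projSpace n k
  letI : (Curv2.bc k (CohB1.ProjSpace n k) k').Over (Spec (CommRingCat.of k')) :=
    ⟨Curv2.bcSnd k (CohB1.ProjSpace n k) k'⟩
  refine forall_congr' fun i => imp_congr_right fun _ => imp_congr_right fun _ => ?_
  have hc : Coh.IsCoh (CohB1.tensorMod F (Twist.twistProjSpace n k (m - i))) :=
    Amp73.isCoh_tensorMod hF (Amp73.isCoh_of_isInvertible (Var76.Reg.isInvertible_twist _))
  have hfin := Var76.Reg.finite_hh_tw F hF (m - i) i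
  haveI := hc.1
  obtain ⟨ι, hι, U, L, φ, N, hU, hU', -, -, hφ⟩ :=
    Mum71.exists_model k (CohB1.tensorMod F (Twist.twistProjSpace n k (m - i))) hc (Crv77.isFlatOver_field k _)
  obtain ⟨e⟩ := RB70.nonempty_hh_flat_bc (B := k') (X' := Curv2.bc k (CohB1.ProjSpace n k) k')
    (g := Curv2.bcFst k (CohB1.ProjSpace n k) k') (IsPullback.of_hasPullback _ _) hU hU' hφ i
  haveI := Module.Finite.equiv e
  rw [← Module.finrank_zero_iff (R := k), ← Module.finrank_zero_iff (R := k'), ← e.finrank_eq,
    Module.finrank_baseChange]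

end Groth.Agent.S7690
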