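import Groth.Statements.S8256
import Groth.Agent.EGAProj74.AffPushout
import Mathlib.AlgebraicGeometry.Morphisms.Flat

set_option autoImplicit false
universe u
open CategoryTheory CategoryTheory.Limits AlgebraicGeometry Opposite TopologicalSpace
open EGA2

namespace Groth.Agent.S8256

/-- Let Y be affine over S (g : Y → S affine) and X, X' affine over Y (f, f' affine), and let Z = X ×_Y
X' with projections p : Z → X, p' : Z → X'. Then Z is affine over Y and over S, and its direct-image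
algebra on S is the tensor product: the square of quasi-coherent O_S-algebras A(Y) → A(X), A(Y) →
A(X'), A(X) → A(Z), A(X') → A(Z), whose maps are induced by f, f', p, p', is a pushout square in the
category of quasi-coherent O_S-algebras. -/
theorem result {X X' Y Z S : Scheme.{u}} (g : Y ⟶ S) [IsAffineHom g]
    (f : X ⟶ Y) [IsAffineHom f] (f' : X' ⟶ Y) [IsAffineHom f'] (p : Z ⟶ X) (p' : Z ⟶ X') [IsAffineHom p]
    (hZ : IsPullback p p' f f') :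
    IsPushout
      (C := RelSpec.QCAlg S)
      (⟨AffAlg.algHom g (f ≫ g) f rfl, AffAlg.algHom_comm g (f ≫ g) f rfl⟩ :
        RelSpec.QCAlg.directImage g ⟶ RelSpec.QCAlg.directImage (f ≫ g))
      (⟨AffAlg.algHom g (f' ≫ g) f' rfl, AffAlg.algHom_comm g (f' ≫ g) f' rfl⟩ :
        RelSpec.QCAlg.directImage g ⟶ RelSpec.QCAlg.directImage (f' ≫ g))
      (⟨AffAlg.algHom (f ≫ g) (p ≫ f ≫ g) p rfl, AffAlg.algHom_comm (f ≫ g) (p ≫ f ≫ g) p rfl⟩ :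
        RelSpec.QCAlg.directImage (f ≫ g) ⟶ RelSpec.QCAlg.directImage (p ≫ f ≫ g))
      (⟨AffAlg.algHom (f' ≫ g) (p ≫ f ≫ g) p'
          ((Category.assoc p' f' g).symm.trans ((congrArg (· ≫ g) hZ.w.symm).trans (Category.assoc p f g))),
        AffAlg.algHom_comm (f' ≫ g) (p ≫ f ≫ g) p'
          ((Category.assoc p' f' g).symm.trans ((congrArg (· ≫ g) hZ.w.symm).trans (Category.assoc p f g)))⟩ :
        RelSpec.QCAlg.directImage (f' ≫ g) ⟶ RelSpec.QCAlg.directImage (p ≫ f ≫ g)) := by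
  open Groth.Agent.EGAProj74 in
  refine isPushout_of_affine _ _ _ _ fun U hU => ?_
  have key : ∀ {A B : Scheme.{u}} (a : A ⟶ S) (b : B ⟶ S) (h : B ⟶ A) (w : h ≫ a = b) (e : b ⁻¹ᵁ U ≤ h ⁻¹ᵁ (a ⁻¹ᵁ U)),
      (AffAlg.algHom a b h w).app (op U) = h.appLE (a ⁻¹ᵁ U) (b ⁻¹ᵁ U) e := by
    intro A B a b h w e
    subst w
    simp only [AffAlg.algHom, eqToHom_refl, Category.comp_id]
    exact Scheme.Hom.app_eq_appLE h
  show IsPushout ((AffAlg.algHom g (f ≫ g) f rfl).app (op U)) ((AffAlg.algHom g (f' ≫ g) f' rfl).app (op U))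
    ((AffAlg.algHom (f ≫ g) (p ≫ f ≫ g) p rfl).app (op U))
    ((AffAlg.algHom (f' ≫ g) (p ≫ f ≫ g) p'
      ((Category.assoc p' f' g).symm.trans ((congrArg (· ≫ g) hZ.w.symm).trans (Category.assoc p f g)))).app (op U))
  have hY : IsAffineOpen (g ⁻¹ᵁ U) := hU.preimage g
  have hX : IsAffineOpen (f ⁻¹ᵁ (g ⁻¹ᵁ U)) := hY.preimage f
  have hX' : IsAffineOpen (f' ⁻¹ᵁ (g ⁻¹ᵁ U)) := hY.preimage f'
  have e₁ : p ⁻¹ᵁ (f ⁻¹ᵁ (g ⁻¹ᵁ U)) = p' ⁻¹ᵁ (f' ⁻¹ᵁ (g ⁻¹ᵁ U)) := by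
    rw [← Scheme.Hom.comp_preimage, hZ.w, Scheme.Hom.comp_preimage]
  rw [key g (f ≫ g) f _ le_rfl, key g (f' ≫ g) f' _ le_rfl, key (f ≫ g) (p ≫ f ≫ g) p _ le_rfl,
    key (f' ≫ g) (p ≫ f ≫ g) p' _ e₁.le]
  have hUY : p ⁻¹ᵁ (f ⁻¹ᵁ (g ⁻¹ᵁ U)) = p ⁻¹ᵁ (f ⁻¹ᵁ (g ⁻¹ᵁ U)) ⊓ p' ⁻¹ᵁ (f' ⁻¹ᵁ (g ⁻¹ᵁ U)) :=
    (inf_eq_left.mpr e₁.le).symm
  exact (isIso_pushoutSection_iff hZ (le_refl (f' ⁻¹ᵁ (g ⁻¹ᵁ U))) (le_refl (f ⁻¹ᵁ (g ⁻¹ᵁ U))) hUY).1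
    (isIso_pushoutSection_of_isAffineOpen _ _ _ _ hY hX' hX)

end Groth.Agent.S8256
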