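import Groth.Statements.S8269
import Groth.Agent.EGAProj74.SteinNormal
import Groth.Agent.EGAProj74.VectorBundle
import Groth.Agent.S4354
import Groth.Agent.S4353

set_option autoImplicit false
set_option backward.isDefEq.respectTransparency false
universe u
open CategoryTheory CategoryTheory.Limits AlgebraicGeometry Opposite TopologicalSpace
open EGA2

namespace Groth.Agent.S8269

/-- Let Y be either a quasi-compact separated scheme or a scheme with Noetherian underlying space, and X
affine and of finite type over Y. Then X is Y-isomorphic to a closed subscheme of a vector bundle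
V(E) with E a quasi-coherent O_Y-module of finite type: there are such an E, its symmetric algebra
A, and a closed immersion X → Spec(A) over Y. -/
theorem result {X Y : Scheme.{u}}
    (hY : (CompactSpace Y ∧ Y.IsSeparated) ∨ NoetherianSpace Y) (f : X ⟶ Y) [IsAffineHom f]
    [LocallyOfFiniteType f] :
    ∃ (E : Y.Modules) (_ : Coh.IsCoh E) (A : RelSpec.QCAlg Y) (j : E ⟶ A.toModule)
      (_ : RelSpec.IsSymAlg E A j) (i : X ⟶ A.spec), IsClosedImmersion i ∧ i ≫ A.π = f := by
  let B := RelSpec.QCAlg.directImage f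
  obtain ⟨q', hq'π, hq'⟩ := Groth.Agent.EGAProj74.SteinNormal.exists_q' f
  have : IsAffineHom (q' ≫ B.π) := by rw [hq'π]; infer_instance
  have : IsAffineHom q' := IsAffineHom.of_comp q' B.π
  have : IsIso q' := by
    refine IsZariskiLocalAtTarget.of_iSup_eq_top (P := MorphismProperty.isomorphisms Scheme.{u})
      (fun U : Y.affineOpens => B.π ⁻¹ᵁ U.1)
      (by rw [← Scheme.Hom.preimage_iSup, iSup_affineOpens_eq_top, Scheme.Hom.preimage_top]) fun U => ?_
    have hW : IsAffineOpen (B.π ⁻¹ᵁ U.1) := U.2.preimage _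
    have : IsAffine (B.π ⁻¹ᵁ U.1 : Scheme.{u}) := hW
    refine (HasAffineProperty.iff_of_isAffine (P := MorphismProperty.isomorphisms Scheme.{u})).2
      ⟨hW.preimage q', ?_⟩
    rw [Scheme.Hom.appTop, morphismRestrict_app', ConcreteCategory.isIso_iff_bijective]
    have key : ∀ (O : B.spec.Opens) (O' : X.Opens) (_ : O' = q' ⁻¹ᵁ O) (e),
        Function.Bijective (q'.appLE O O' e) := by
      rintro O O' rfl e
      rw [← Scheme.Hom.app_eq_appLE]
      have := Groth.Agent.EGAProj74.ContractionStein.isIso_app f q' hq'π hq' O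
      exact ConcreteCategory.bijective_of_isIso _
    exact key _ _ (by rw [Scheme.Hom.preimage_top, Scheme.Opens.ι_image_top, Scheme.Opens.ι_image_top]) _
  have hft : ∀ U : Y.affineOpens, (B.str.app (op (U : Y.Opens))).hom.FiniteType := fun U => by
    show (f.app U.1).hom.FiniteType
    rw [Scheme.Hom.app_eq_appLE]
    exact f.finiteType_appLE U.2 (U.2.preimage f) _
  obtain ⟨E, j, hjm, hEq, hEft, hgen⟩ : ∃ (E : Y.Modules) (j : E ⟶ B.toModule), Mono j ∧ Coh.IsQCoh E ∧
      CohB1.IsFT E ∧ ∀ U : Y.affineOpens,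
        Subring.closure (Set.range (B.str.app (op (U : Y.Opens))).hom ∪
          Set.range (fun e : E.val.obj (op (U : Y.Opens)) ↦
            (show B.presheaf.obj (op (U : Y.Opens)) from (j.val.app (op (U : Y.Opens))).hom e))) = ⊤ := by
    rcases hY with ⟨h1, h2⟩ | h
    · exact Groth.Agent.S4354.result B hft
    · exact Groth.Agent.S4353.result B hft
  obtain ⟨A, jA, hA, -⟩ := Groth.Agent.EGAProj74.exists_isSymAlg hEq
  obtain ⟨ψ, hψ, -⟩ := hA B j
  refine ⟨E, ⟨hEq, hEft⟩, A, jA, hA, q' ≫ RelSpec.QCAlg.specMap ψ, ?_, ?_⟩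
  · have := Groth.Agent.EGAProj74.isClosedImmersion_specMap ψ fun U hU => by
      rw [← RingHom.range_eq_top, ← top_le_iff, ← hgen ⟨U, hU⟩, Subring.closure_le]
      rintro y (⟨r, rfl⟩ | ⟨m, rfl⟩)
      · exact ⟨(A.str.app (op U)).hom r, congr(($(ψ.comm)).app (op U) r)⟩
      · exact ⟨jA.app U m, congr(($hψ).app U m)⟩
    infer_instance
  · rw [Category.assoc, RelSpec.QCAlg.specMap_π, hq'π]

end Groth.Agent.S8269
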