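import Groth.Statements.S8272
import Mathlib.AlgebraicGeometry.ProjectiveSpectrum.Proper

set_option autoImplicit false
universe u
open CategoryTheory CategoryTheory.Limits AlgebraicGeometry Opposite TopologicalSpace
open EGA2

namespace Groth.Agent.S8272

/-- Let T be a positively graded ring, Z = Proj T and g ∈ T_d (d > 0) a homogeneous element that is not
a zero divisor in T. Then Z is the smallest closed subscheme of Z containing the open D_+(g);
equivalently the kernel (ideal sheaf) of the open immersion D_+(g) → Z vanishes. -/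
theorem result {R A : Type u} [CommRing R] [CommRing A] [Algebra R A]
    (𝒜 : ℕ → Submodule R A) [GradedAlgebra 𝒜] {d : ℕ} (hd : 0 < d) (g : A) (hg : g ∈ 𝒜 d)
    (hnz : g ∈ nonZeroDivisors A) :
    (Proj.basicOpen 𝒜 g).ι.ker = ⊥ := by
  have hga : IsAffineOpen (Proj.basicOpen 𝒜 g) := Proj.isAffineOpen_basicOpen 𝒜 g hg hd
  have : CompactSpace (Proj.basicOpen 𝒜 g : Scheme.{u}) := isCompact_iff_compactSpace.mp hga.isCompact
  have : QuasiSeparatedSpace (Proj 𝒜) := quasiSeparatedSpace_of_quasiSeparated (Proj.toSpecZero 𝒜)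
  have : QuasiCompact (Proj.basicOpen 𝒜 g).ι := inferInstance
  let I := {p : A × ℕ // 0 < p.2 ∧ p.1 ∈ 𝒜 p.2}
  refine Scheme.IdealSheafData.ext_of_iSup_eq_top
    (fun f : I => ⟨Proj.basicOpen 𝒜 f.1.1, Proj.isAffineOpen_basicOpen 𝒜 _ f.2.2 f.2.1⟩) ?_ fun f => ?_
  · refine Proj.iSup_basicOpen_eq_top 𝒜 _ fun x hx => ?_
    classical
    rw [← DirectSum.sum_support_decompose 𝒜 x]
    refine Submodule.sum_mem _ fun i hi => Ideal.subset_span ⟨⟨(_, i), ?_, SetLike.coe_mem _⟩, rfl⟩
    by_contra hi0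
    obtain rfl : i = 0 := by simpa using hi0
    rw [DFinsupp.mem_support_iff] at hi
    exact hi (Subtype.ext (by simpa [HomogeneousIdeal.mem_irrelevant_iff, GradedRing.proj_apply] using hx))
  obtain ⟨⟨f, m⟩, hm, hf⟩ := f
  rw [Scheme.Hom.ker_apply, Scheme.IdealSheafData.ideal_bot, Pi.bot_apply, eq_bot_iff]
  intro s hs
  rw [RingHom.mem_ker] at hs
  obtain ⟨t, rfl⟩ : ∃ t, (Proj.awayToSection 𝒜 f).hom t = s :=
    ⟨(Proj.basicOpenIsoAway 𝒜 f hf hm).inv.hom s,
      congr(CommRingCat.Hom.hom $((Proj.basicOpenIsoAway 𝒜 f hf hm).inv_hom_id) s)⟩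
  rw [Submodule.mem_bot]
  have hle : Proj.basicOpen 𝒜 (f * g) ≤
      (Proj.basicOpen 𝒜 g).ι ''ᵁ ((Proj.basicOpen 𝒜 g).ι ⁻¹ᵁ Proj.basicOpen 𝒜 f) := by
    rw [Scheme.Hom.image_preimage_eq_opensRange_inf, Scheme.Opens.opensRange_ι, Proj.basicOpen_mul, inf_comm]
  have h0 : (Proj.awayToSection 𝒜 (f * g)).hom (HomogeneousLocalization.awayMap 𝒜 hg rfl t) = 0 := by
    have e := congr(CommRingCat.Hom.hom $(Proj.awayMap_awayToSection 𝒜 (f := f) hg (x := f * g) rfl) t)
    simp only [CommRingCat.hom_comp, CommRingCat.hom_ofHom, RingHom.comp_apply] at e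
    rw [e]
    have e2 := (congr(((Proj 𝒜).presheaf.map (homOfLE hle).op).hom $hs)).trans (map_zero _)
    refine Eq.trans ?_ e2
    simp only [Scheme.Opens.ι_app]
    exact congr(CommRingCat.Hom.hom $(((Proj 𝒜).presheaf.map_comp _ _)) ((Proj.awayToSection 𝒜 f).hom t))
  have hinj : Function.Injective (Proj.awayToSection 𝒜 (f * g)).hom :=
    ((Proj.basicOpenIsoAway 𝒜 (f * g) (SetLike.mul_mem_graded hf hg) (by omega)).commRingCatIsoToRingEquiv).injective
  have h1 : HomogeneousLocalization.awayMap 𝒜 hg rfl t = (0 : HomogeneousLocalization.Away 𝒜 (f * g)) :=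
    hinj (by rw [h0, map_zero])
  obtain ⟨k, a, ha, rfl⟩ := HomogeneousLocalization.Away.mk_surjective 𝒜 hf t
  have h2 := congr(HomogeneousLocalization.val $h1)
  rw [HomogeneousLocalization.Away.mk, HomogeneousLocalization.val_awayMap_mk, HomogeneousLocalization.val_zero, Localization.mk_eq_mk',
    IsLocalization.mk'_eq_zero_iff] at h2
  obtain ⟨⟨_, j, rfl⟩, hj⟩ := h2
  suffices hz : HomogeneousLocalization.Away.mk 𝒜 hf k a ha = 0 by rw [hz, map_zero]
  refine HomogeneousLocalization.val_injective _ ?_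
  rw [HomogeneousLocalization.Away.val_mk, HomogeneousLocalization.val_zero, Localization.mk_eq_mk',
    IsLocalization.mk'_eq_zero_iff]
  refine ⟨⟨f ^ j, j, rfl⟩, ?_⟩
  simp only [RingHom.id_apply, mul_pow] at hj
  refine (mem_nonZeroDivisors_iff.mp (pow_mem hnz (j + k))).1 _ ?_
  rw [pow_add]; linear_combination hj

end Groth.Agent.S8272
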