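import Groth.Statements.S8273
import Groth.Agent.EGAProj74.RelBasic

set_option autoImplicit false
universe u
open CategoryTheory CategoryTheory.Limits AlgebraicGeometry Opposite TopologicalSpace
open scoped HomogeneousIdeal
open EGA2

namespace Groth.Agent.S8273

/-- Uniqueness of the relative homogeneous spectrum: two schemes over Y equipped with the chart data of
Proj(𝒮) are related by a unique morphism compatible with the charts (chartwise the identity of Proj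
𝒮(U)), and that morphism is a Y-isomorphism. -/
theorem result {Y P P' : Scheme.{u}} (𝒮 : RelProj.QCGrAlg Y) (p : P ⟶ Y)
    (chart : ∀ (U : Y.Opens) (hU : IsAffineOpen U), (((p ⁻¹ᵁ U : P.Opens) : Scheme.{u}) ≅ Proj (𝒮.deg U hU)))
    (hP : RelProj.IsRelProj 𝒮 p chart) (p' : P' ⟶ Y)
    (chart' : ∀ (U : Y.Opens) (hU : IsAffineOpen U), (((p' ⁻¹ᵁ U : P'.Opens) : Scheme.{u}) ≅ Proj (𝒮.deg U hU)))
    (hP' : RelProj.IsRelProj 𝒮 p' chart') :
    (∃! e : P ⟶ P', ∀ (U : Y.Opens) (hU : IsAffineOpen U),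
        (p ⁻¹ᵁ U).ι ≫ e = (chart U hU).hom ≫ (chart' U hU).inv ≫ (p' ⁻¹ᵁ U).ι) ∧
      ∀ e : P ⟶ P', (∀ (U : Y.Opens) (hU : IsAffineOpen U),
        (p ⁻¹ᵁ U).ι ≫ e = (chart U hU).hom ≫ (chart' U hU).inv ≫ (p' ⁻¹ᵁ U).ι) → IsIso e ∧ e ≫ p' = p := by
  have key : ∀ (P P' : Scheme.{u}) (p : P ⟶ Y) (p' : P' ⟶ Y)
      (chart : ∀ (U : Y.Opens) (hU : IsAffineOpen U), (((p ⁻¹ᵁ U : P.Opens) : Scheme.{u}) ≅ Proj (𝒮.deg U hU)))
      (chart' : ∀ (U : Y.Opens) (hU : IsAffineOpen U), (((p' ⁻¹ᵁ U : P'.Opens) : Scheme.{u}) ≅ Proj (𝒮.deg U hU))),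
      RelProj.IsRelProj 𝒮 p chart → RelProj.IsRelProj 𝒮 p' chart' →
      ∃! e : P ⟶ P', ∀ (U : Y.Opens) (hU : IsAffineOpen U),
        RelProj.emb p chart U hU ≫ e = RelProj.emb p' chart' U hU :=
    fun P P' p p' chart chart' h h' => EGAProj74.existsUnique_desc h
      (fun U hU => RelProj.emb p' chart' U hU) (fun U hU r => RelProj.map_res_emb h' U hU r)
  have conv : ∀ e : P ⟶ P', (∀ (U : Y.Opens) (hU : IsAffineOpen U),
        (p ⁻¹ᵁ U).ι ≫ e = (chart U hU).hom ≫ (chart' U hU).inv ≫ (p' ⁻¹ᵁ U).ι) ↔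
      ∀ (U : Y.Opens) (hU : IsAffineOpen U),
        RelProj.emb p chart U hU ≫ e = RelProj.emb p' chart' U hU := fun e =>
    forall₂_congr fun U hU => by rw [RelProj.emb, Category.assoc, Iso.inv_comp_eq]; rfl
  obtain ⟨e, he, hu⟩ := key P P' p p' chart chart' hP hP'
  refine ⟨⟨e, (conv e).mpr he, fun e' he' => hu e' ((conv e').mp he')⟩, fun d hd => ?_⟩
  have hd' := (conv d).mp hd
  obtain ⟨g, hg, -⟩ := key P' P p' p chart' chart hP' hP
  refine ⟨⟨g, EGAProj74.hom_ext_emb (chart := chart) fun U hU => ?_,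
    EGAProj74.hom_ext_emb (chart := chart') fun U hU => ?_⟩,
    EGAProj74.hom_ext_emb (chart := chart) fun U hU => ?_⟩
  · rw [reassoc_of% (hd' U hU), hg, Category.comp_id]
  · rw [reassoc_of% (hg U hU), hd', Category.comp_id]
  · rw [reassoc_of% (hd' U hU), EGAProj74.emb_p hP, EGAProj74.emb_p hP']

end Groth.Agent.S8273
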