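import Groth.Statements.S8283
import Groth.Agent.EGAProj74.SectionDVR

set_option autoImplicit false
universe u
open CategoryTheory CategoryTheory.Limits AlgebraicGeometry Opposite TopologicalSpace
open EGA2

namespace Groth.Agent.S8283

/-- Let π : V → X be locally of finite type and j : X → V a section of π that is a closed immersion with
invertible ideal sheaf. Then for every x ∈ X the local ring at j(x) of the fibre π⁻¹(π(j(x))) =
π⁻¹(x) is a regular local ring of dimension one, i.e. a discrete valuation ring (so j(x) lies on a
single irreducible component of the fibre; the completion of that local ring is then a power-series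
ring in one variable over the residue field of x). (The published statement assumes π of finite
type; this row assumes only that π is locally of finite type, which is all the proof uses: it needs
no more than the Noetherian property of the local rings of the fibre.) -/
theorem result {X V : Scheme.{u}} (π : V ⟶ X) [LocallyOfFiniteType π]
    (j : X ⟶ V) [IsClosedImmersion j] (hj : j ≫ π = 𝟙 X) (hJ : BlowUp.IsEffCartierIdeal j.ker) (x : X) :
    ∃ _ : IsDomain ((π.fiber (π.base (j.base x))).presheaf.stalk (π.asFiber (j.base x))),
      IsDiscreteValuationRing ((π.fiber (π.base (j.base x))).presheaf.stalk (π.asFiber (j.base x))) := by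
  obtain ⟨t, h1, h2⟩ := Groth.Agent.EGAProj74.SectionDVR.exists_data π j hj hJ x
    (π.fiberι _ (π.asFiber (j.base x))) (π.fiberι_asFiber _)
  haveI : LocallyOfFiniteType (π.fiberToSpecResidueField (π.base (j.base x))) :=
    MorphismProperty.pullback_snd (P := @LocallyOfFiniteType) _ _ inferInstance
  haveI : IsLocallyNoetherian (π.fiber (π.base (j.base x))) :=
    LocallyOfFiniteType.isLocallyNoetherian (π.fiberToSpecResidueField _)
  have hker := Groth.Agent.FlatMor68.FibreStalk.ker_fiberι_stalkMap π _ (π.asFiber (j.base x))
  exact Groth.Agent.EGAProj74.SectionDVR.isDVR_of_data ((π.fiberι _).stalkMap (π.asFiber (j.base x))).hom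
    (Groth.Agent.FlatMor68.FibreStalk.fiberι_stalkMap_surjective π _ _) (fun a ha => hker.ge (h1 a (hker.le ha)))
    (h2.trans (by rw [hker]))

end Groth.Agent.S8283
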