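import Groth.Statements.S8303
import Groth.Agent.QCAlgMod72.Finite
import Groth.Agent.QCqs72.Basic
import Groth.Agent.QC70.FiniteType
import Groth.Agent.QC70.DevissageAux
-- import your own Groth.Agent.* helpers here

set_option autoImplicit false
universe u
open CategoryTheory CategoryTheory.Limits AlgebraicGeometry Opposite TopologicalSpace
noncomputable section
open EGA2 TopologicalSpace

namespace Groth.Agent.S8303

/-- For the algebra f_*O_X of a scheme X affine over S: let f : X → S be an affine morphism and F a
quasi-coherent O_X-module. Then F is of finite type (locally on X generated by finitely many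
sections) if and only if the direct image f_*F is of finite type as a module over the sheaf of rings
f_*O_X (locally on S generated by finitely many sections over f_*O_X). -/
theorem result {X S : Scheme.{u}} (f : X ⟶ S) [IsAffineHom f]
    (F : X.Modules) (hF : Coh.IsQCoh F) :
    SheafOfModules.IsFiniteType.{u} (R := X.ringCatSheaf) F ↔
      SheafOfModules.IsFiniteType.{u} (R := AMod.ringSheaf (RelSpec.QCAlg.directImage f)) ((AMod.dirImg f).obj F) := by
  classical
  let α := AMod.strHom (RelSpec.QCAlg.directImage f)
  haveI : F.IsQuasicoherent := hF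
  have hB : Groth.Agent.QCAlgMod72.IsQCAlg α := by
    haveI : (Groth.Agent.QC70.unitMod X).IsQuasicoherent := Groth.Agent.QC70.isQuasicoherent_unit
    exact Groth.Agent.QCqs72.isQuasicoherent_pushforward (M := Groth.Agent.QC70.unitMod X) f
  have hM : SheafOfModules.IsQuasicoherent (R := S.ringCatSheaf)
      ((SheafOfModules.restrictScalars α).obj ((AMod.dirImg f).obj F)) :=
    Groth.Agent.QCqs72.isQuasicoherent_pushforward (M := F) f
  constructor
  · intro hft
    haveI : F.IsFiniteType := hft
    have key : ∀ U : S.affineOpens, ∃ σ : (((AMod.dirImg f).obj F).over U.1).GeneratingSections, σ.IsFiniteType := by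
      intro U
      haveI : SheafOfModules.IsQuasicoherent (R := S.ringCatSheaf)
          ((SheafOfModules.restrictScalars α).obj ((AMod.dirImg f).obj F)) := hM
      refine Groth.Agent.QCAlgMod72.exists_finite_generatingSections (α := α) U.2 _
        (Groth.Agent.QC70.isQuasicoherent_of_iso
          (Groth.Agent.QCAlgMod72.toSchemeOverIso α U.1 _).symm inferInstance) ?_
      exact Groth.Agent.QCAlgMod72.finite_topOver _ U.1
        (Groth.Agent.QC70.finite_sections_of_isFiniteType F (U.2.preimage f))
    choose σ hσ using key
    let d : SheafOfModules.LocalGeneratorsData.{u} ((AMod.dirImg f).obj F) :=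
      { I := S.affineOpens
        X := fun U => U.1
        coversTop := (Opens.coversTop_iff _ _).mpr (iSup_affineOpens_eq_top S)
        generators := σ }
    constructor
    refine ⟨d, ?_⟩
    constructor
    exact fun U => hσ U
  · intro hft
    obtain ⟨σ, hσ⟩ := hft.exists_localGeneratorsData
    have hcov := (Opens.coversTop_iff _ _).mp σ.coversTop
    have hex : ∀ x : S, ∃ U : S.affineOpens, x ∈ U.1 ∧ ∃ i, U.1 ≤ σ.X i := fun x => by
      obtain ⟨i, hi⟩ := Opens.mem_iSup.mp (hcov.ge (Opens.mem_top x))
      obtain ⟨U, hU, hxU, hUi⟩ := exists_isAffineOpen_mem_and_subset hi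
      exact ⟨⟨U, hU⟩, hxU, i, hUi⟩
    choose U hxU i hUi using hex
    refine Groth.Agent.QC70.isFiniteType_of_finite_sections F (fun x : S => f ⁻¹ᵁ (U x).1)
      (TopologicalSpace.IsOpenCover.mk (top_le_iff.mp fun p _ =>
        Opens.mem_iSup.mpr ⟨f p, hxU (f p)⟩)) (fun x => (U x).2.preimage f) fun x => ?_
    haveI := hσ.isFiniteType (i x)
    exact Groth.Agent.QCAlgMod72.finite_sections_of_generatingSections hB _ hM
      (σ.generators (i x)) (U x).2 (hUi x)

end Groth.Agent.S8303
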