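import Groth.Statements.S8304
import Groth.Agent.EGAProj74.SymPoly
import Groth.Agent.EGAProj74.VectorBundle

set_option autoImplicit false
universe u
open CategoryTheory CategoryTheory.Limits AlgebraicGeometry Opposite TopologicalSpace
open scoped HomogeneousIdeal
noncomputable section
open EGA2

namespace Groth.Agent.S8304

/-- At the level of graded algebras: let E be a quasi-coherent O_Y-module and 𝒮 = Sym(E) its graded
symmetric algebra (j : E → 𝒮 landing in degree one), and let Ŝ = 𝒮[z] be given through a graded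
homomorphism ι : 𝒮 → Ŝ and a global section z of degree one with 𝒮(U)[X] → Ŝ(U), X ↦ z, bijective
over every affine open U. If k : O_Y → Ŝ is a module homomorphism sending the unit section to z over
every open, then Ŝ together with the map E ⊕ O_Y → Ŝ whose components are j followed by ι, and k, is
the graded symmetric algebra of E ⊕ O_Y. Consequently the projective cone of V(E) = Spec(Sym E),
which is Proj(Ŝ), is the projective bundle P(E ⊕ O_Y), and its locus at infinity Proj(𝒮) is P(E). -/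
theorem result {Y : Scheme.{u}} (E : Y.Modules) (hE : Coh.IsQCoh E)
    (𝒮 𝒮h : RelProj.QCGrAlg Y) (j : E ⟶ 𝒮.toModule) (hS : RelProj.IsGrSymAlg E 𝒮 j)
    (ι : 𝒮.toQCAlg ⟶ 𝒮h.toQCAlg) (z : 𝒮h.presheaf.obj (op ⊤)) (hz : RelCone.IsPolyOver 𝒮 𝒮h ι z)
    (k : Coh.structureModule Y ⟶ 𝒮h.toModule)
    (hk : ∀ U : Y.Opens, (k.app U) (1 : Γ(Y, U)) = RelCone.restrictTop 𝒮h z U) :
    RelProj.IsGrSymAlg (E ⊞ Coh.structureModule Y) 𝒮h
      (biprod.desc (j ≫ RelSpec.QCAlg.Hom.toModuleMap ι) k) := by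
  classical
  open Groth.Agent.EGAProj74 in
  let O := Coh.structureModule Y
  let d := biprod.desc (j ≫ RelSpec.QCAlg.Hom.toModuleMap ι) k
  have one_smul' : ∀ (U : Y.Opens) (r : Γ(Y, U)), (show Γ(O, U) from r) = r • (show Γ(O, U) from (1 : Γ(Y, U))) :=
    fun U r => (mul_one r).symm
  have ext1 : ∀ {N : Y.Modules} (a b : O ⟶ N), (∀ U : Y.Opens, a.app U (1 : Γ(Y, U)) = b.app U (1 : Γ(Y, U))) → a = b := by
    intro N a b h
    refine Scheme.Modules.hom_ext _ _ fun U => ?_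
    ext r
    show a.app U r = b.app U r
    rw [one_smul' U r, Scheme.Modules.Hom.app_smul, Scheme.Modules.Hom.app_smul, h U]
  refine ⟨fun B φ => ?_, fun U hU x => ?_⟩
  · obtain ⟨ψ₀, hψ₀, hu₀⟩ := hS.1 B (biprod.inl ≫ φ)
    let ζ : B.presheaf.obj (op ⊤) := (biprod.inr ≫ φ : O ⟶ B.toModule).app ⊤ (1 : Γ(Y, ⊤))
    obtain ⟨ψ, ⟨hψι, hψz⟩, huniq⟩ := existsUnique_poly_hom hz B ψ₀ ζ
    have hnat : ∀ U : Y.Opens, (biprod.inr ≫ φ : O ⟶ B.toModule).app U (1 : Γ(Y, U)) =
        (B.presheaf.map (homOfLE le_top).op).hom ζ := fun U => by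
      refine Eq.trans ?_ (QC70.app_res (biprod.inr ≫ φ : O ⟶ B.toModule) le_top _)
      exact congrArg _ (map_one (Y.presheaf.map (homOfLE (le_top : U ≤ ⊤)).op).hom).symm
    have htop : (ψ.hom.app (op ⊤)).hom z = ζ := by
      refine TopCat.Sheaf.eq_of_locally_eq' ⟨B.presheaf, B.isSheaf⟩ (fun U : Y.AffineZariskiSite => U.1) ⊤
        (fun U => homOfLE le_top) (affine_iSup_eq_top Y).ge _ _ fun U => ?_
      refine Eq.trans ?_ (hψz U)
      exact congr($(ψ.hom.naturality (homOfLE (le_top : U.1 ≤ ⊤)).op).hom z).symm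
    have hz1 : ∀ (χ : 𝒮h.toQCAlg ⟶ B) (U : Y.Opens),
        (k ≫ RelSpec.QCAlg.Hom.toModuleMap χ).app U (1 : Γ(Y, U)) =
          (χ.hom.app (op U)).hom (RelCone.restrictTop 𝒮h z U) :=
      fun χ U => congrArg (χ.hom.app (op U)).hom (hk U)
    refine ⟨ψ, biprod.hom_ext' _ _ ?_ ?_, fun χ hχ => huniq χ ⟨hu₀ _ ?_, fun U => ?_⟩⟩
    · simp only [biprod.inl_desc_assoc, Category.assoc]
      rw [← hψ₀, ← hψι]
      rfl
    · rw [biprod.inr_desc_assoc]
      refine ext1 _ _ fun U => (hz1 ψ U).trans ?_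
      rw [hnat, ← htop]
      exact congr($(ψ.hom.naturality (homOfLE (le_top : U ≤ ⊤)).op).hom z)
    · rw [← hχ, biprod.inl_desc_assoc]
      rfl
    · rw [← hnat, ← hz1 χ, ← hχ, biprod.inr_desc_assoc]
  · have hx : x = (biprod.inl : E ⟶ E ⊞ O).app U ((biprod.fst : E ⊞ O ⟶ E).app U x) +
        (biprod.inr : O ⟶ E ⊞ O).app U ((biprod.snd : E ⊞ O ⟶ O).app U x) :=
      (congr(($(biprod.total (X := E) (Y := O))).app U x)).symm
    rw [hx, map_add]
    refine add_mem ?_ ?_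
    · show ((biprod.inl ≫ d : E ⟶ 𝒮h.toModule).app U _) ∈ _
      rw [show (biprod.inl ≫ d : E ⟶ 𝒮h.toModule) = j ≫ RelSpec.QCAlg.Hom.toModuleMap ι from biprod.inl_desc _ _]
      exact hz.graded U hU 1 _ (hS.2 U hU _)
    · show ((biprod.inr ≫ d : O ⟶ 𝒮h.toModule).app U _) ∈ _
      rw [show (biprod.inr ≫ d : O ⟶ 𝒮h.toModule) = k from biprod.inr_desc _ _]
      have e : ∀ r : Γ(Y, U), k.app U r = (𝒮h.str.app (op U)).hom r * RelCone.restrictTop 𝒮h z U := fun r => by
        rw [← hk U]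
        exact (congrArg (k.app U) (one_smul' U r)).trans (Scheme.Modules.Hom.app_smul k _ _)
      have h := SetLike.mul_mem_graded (A := 𝒮h.deg U hU) (𝒮h.str_mem U hU ((biprod.snd : E ⊞ O ⟶ O).app U x)) (hz.deg_z U hU)
      rw [zero_add] at h
      exact (e ((biprod.snd : E ⊞ O ⟶ O).app U x)).symm ▸ h

end Groth.Agent.S8304
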