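import Groth.Statements.S8305
import Groth.Agent.DirImg24.Full
import Groth.Agent.EGA73.AffAlgMaps
import Groth.Agent.QCqs72.Basic
-- import your own Groth.Agent.* helpers here

set_option autoImplicit false
universe u
open CategoryTheory CategoryTheory.Limits AlgebraicGeometry Opposite TopologicalSpace
noncomputable section
open EGA2

namespace Groth.Agent.S8305

/-- Let X and Y be schemes affine over S with structure morphisms gX and gY, h : Y → X a morphism over
S, F a quasi-coherent O_X-module, G a quasi-coherent O_Y-module and v : F → h_*G a homomorphism of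
O_X-modules, so that (h, v) is a morphism of pairs (Y, G) → (X, F). Then h and v are isomorphisms if
and only if the direct-image algebra homomorphism A(h) : gX_*O_X → gY_*O_Y and the direct image A(v)
= gX_*(v) : gX_*F → gX_*h_*G are isomorphisms (the pair (A(h), A(v)) is a di-isomorphism). -/
theorem result {X Y S : Scheme.{u}} (gX : X ⟶ S) [IsAffineHom gX]
    (gY : Y ⟶ S) [IsAffineHom gY] (h : Y ⟶ X) (hh : h ≫ gX = gY)
    (F : X.Modules) (G : Y.Modules) (hF : Coh.IsQCoh F) (hG : Coh.IsQCoh G)
    (v : F ⟶ (Scheme.Modules.pushforward h).obj G) :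
    (IsIso h ∧ IsIso v) ↔
      (IsIso (AffAlg.algHom gX gY h hh) ∧ IsIso ((Scheme.Modules.pushforward gX).map v)) := by
  haveI : IsAffineHom (h ≫ gX) := by rw [hh]; infer_instance
  haveI : IsAffineHom h := IsAffineHom.of_comp h gX
  haveI : F.IsQuasicoherent := hF
  haveI : G.IsQuasicoherent := hG
  have hP : ((Scheme.Modules.pushforward h).obj G).IsQuasicoherent :=
    Groth.Agent.QCqs72.isQuasicoherent_pushforward (M := G) h
  refine and_congr (Groth.Agent.EGA73.isIso_iff_isIso_algHom gX gY h hh) ⟨fun _ => inferInstance, fun hv => ?_⟩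
  haveI : IsIso ((AMod.toOS (RelSpec.QCAlg.directImage gX)).map ((AMod.dirImg gX).map v)) := hv
  haveI : (AMod.toOS (RelSpec.QCAlg.directImage gX)).ReflectsIsomorphisms :=
    haveI : (AMod.toOS (RelSpec.QCAlg.directImage gX) ⋙ SheafOfModules.toSheaf S.ringCatSheaf).ReflectsIsomorphisms :=
      inferInstanceAs (SheafOfModules.toSheaf (AMod.ringSheaf (RelSpec.QCAlg.directImage gX))).ReflectsIsomorphisms
    reflectsIsomorphisms_of_comp _ (SheafOfModules.toSheaf S.ringCatSheaf)
  haveI : IsIso ((AMod.dirImg gX).map v) :=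
    isIso_of_reflects_iso _ (AMod.toOS (RelSpec.QCAlg.directImage gX))
  obtain ⟨w, hw⟩ := Groth.Agent.DirImg24.exists_map_eq gX hP (inv ((AMod.dirImg gX).map v))
  refine ⟨w, ?_, ?_⟩
  · refine Groth.Agent.DirImg24.eq_of_map_eq gX hF _ _ ?_
    rw [Functor.map_comp, hw, IsIso.hom_inv_id, CategoryTheory.Functor.map_id]
  · refine Groth.Agent.DirImg24.eq_of_map_eq gX hP _ _ ?_
    rw [Functor.map_comp, hw, IsIso.inv_hom_id, CategoryTheory.Functor.map_id]

end Groth.Agent.S8305
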