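import Groth.Statements.S8319
import Groth.Agent.EGAProj74.SteinLine
import Groth.Agent.EGAProj74.SteinMaps

set_option autoImplicit false
universe u
open CategoryTheory CategoryTheory.Limits AlgebraicGeometry Opposite TopologicalSpace
open scoped HomogeneousIdeal
noncomputable section
open EGA2

namespace Groth.Agent.S8319

/-- Let p : X → Y be a proper morphism with p^♯ : O_Y → p_*O_X an isomorphism, L an invertible
O_X-module ample relative to p, V = V(L) = Spec(Sym L) with projection π and zero section j0 (the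
vertex section), C a scheme over Y (structure morphism g) with a section ε and a Y-morphism q : V →
C with j0 ≫ q = p ≫ ε; let C' = Spec(𝒮') with 𝒮' = ⊕_{n≥0} p_*(L^{⊗n}) = (p∘π)_*O_V (the relative
spectrum over Y of the direct-image algebra of p∘π) and q' : V → C' the canonical Y-morphism (the
one corresponding to the identity of (p∘π)_*O_V under the universal property of the relative
spectrum); suppose moreover that q is proper and that the restriction of q to V0 = V − j0(X) is an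
open immersion whose image is exactly C − ε(Y). Then every morphism u : C' → C over Y with q = q' ≫
u is universally closed, surjective and radicial (universally injective), and its restriction to the
open complement of q'(j0(X)) — the vertex section of C' — is an open immersion whose image is
exactly C − ε(Y). -/
theorem result {X Y C : Scheme.{u}} (p : X ⟶ Y) [IsProper p] (hθ : IsIso p.c)
    (L : X.Modules) (hL : PicF.IsInvertible L) (hLq : Coh.IsQCoh L) (hamp : RelAmple.IsRelAmple p L)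
    (𝒜 : RelProj.QCGrAlg X) (jL : L ⟶ 𝒜.toModule) (hA : RelProj.IsGrSymAlg L 𝒜 jL) (h0 : RelCone.StrZeroBij 𝒜)
    (aug : 𝒜.toQCAlg ⟶ RelSpec.QCAlg.unit X) (haug : RelCone.IsAugmentation 𝒜 aug)
    (j0 : X ⟶ 𝒜.toQCAlg.spec) (hj0 : RelCone.IsVertex 𝒜 aug j0)
    (g : C ⟶ Y) (ε : Y ⟶ C) (hε : ε ≫ g = 𝟙 Y) (q : 𝒜.toQCAlg.spec ⟶ C)
    (hqg : q ≫ g = 𝒜.toQCAlg.π ≫ p) (hjq : j0 ≫ q = p ≫ ε)
    (q' : 𝒜.toQCAlg.spec ⟶ (RelSpec.QCAlg.directImage (𝒜.toQCAlg.π ≫ p)).spec)
    (hq'π : q' ≫ (RelSpec.QCAlg.directImage (𝒜.toQCAlg.π ≫ p)).π = 𝒜.toQCAlg.π ≫ p)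
    (hq' : AffAlg.algHom (RelSpec.QCAlg.directImage (𝒜.toQCAlg.π ≫ p)).π (𝒜.toQCAlg.π ≫ p) q' hq'π = (RelSpec.QCAlg.directImage (𝒜.toQCAlg.π ≫ p)).gammaMap)
    [IsProper q] (V0 : 𝒜.toQCAlg.spec.Opens) (hV0 : (V0 : Set 𝒜.toQCAlg.spec) = (Set.range j0.base)ᶜ)
    (hqo : IsOpenImmersion (V0.ι ≫ q)) (hqr : Set.range (V0.ι ≫ q).base = (Set.range ε.base)ᶜ)
    (u : (RelSpec.QCAlg.directImage (𝒜.toQCAlg.π ≫ p)).spec ⟶ C) (hug : u ≫ g = (RelSpec.QCAlg.directImage (𝒜.toQCAlg.π ≫ p)).π) (hu : q' ≫ u = q) :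
    UniversallyClosed u ∧ Function.Surjective u.base ∧ UniversallyInjective u ∧
      ∀ W : (RelSpec.QCAlg.directImage (𝒜.toQCAlg.π ≫ p)).spec.Opens, (W : Set (RelSpec.QCAlg.directImage (𝒜.toQCAlg.π ≫ p)).spec) = (q'.base '' Set.range j0.base)ᶜ →
        IsOpenImmersion (W.ι ≫ u) ∧ Set.range (W.ι ≫ u).base = (Set.range ε.base)ᶜ := by
  obtain ⟨ε', hε', hjq', hp', hs, hiso, hoi, hr⟩ :=
    EGAProj74.SteinLine.exists_vertex hLq hL hA haug hj0 V0 hV0 p hθ hamp q' hq'π hq'
  have hp := EGAProj74.SteinLine.surjective_p p hθ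
  haveI := hp'; haveI := hoi; haveI := hqo
  have hεu : ε' ≫ u = ε := EGAProj74.SteinMaps.comp_eq hp hjq' hjq hu fun U => by
    haveI := hθ
    exact (ConcreteCategory.bijective_of_isIso (p.c.app (op U))).1
  haveI : IsClosedImmersion ε' := by
    haveI : IsClosedImmersion (ε' ≫ (RelSpec.QCAlg.directImage (𝒜.toQCAlg.π ≫ p)).π) := by
      rw [hε']; infer_instance
    exact IsClosedImmersion.of_comp ε' (RelSpec.QCAlg.directImage (𝒜.toQCAlg.π ≫ p)).π
  haveI : Surjective q' := ⟨hs⟩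
  refine ⟨?_, fun c => ?_, EGAProj74.SteinMaps.universallyInjective hr hu hqr hεu hε, fun W hW => ?_⟩
  · haveI : UniversallyClosed (q' ≫ u) := by rw [hu]; infer_instance
    exact UniversallyClosed.of_comp_surjective q' u
  · by_cases hc : c ∈ Set.range ε.base
    · obtain ⟨y, rfl⟩ := hc
      exact ⟨ε' y, by rw [← Scheme.Hom.comp_apply, hεu]⟩
    · obtain ⟨v, rfl⟩ := hqr.ge hc
      exact ⟨q' (V0.ι v), by rw [← Scheme.Hom.comp_apply, hu]; rfl⟩
  · refine EGAProj74.SteinMaps.restrict_props hr hu hqr W ?_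
    rw [hW]
    congr 1
    ext z
    constructor
    · rintro ⟨_, ⟨x, rfl⟩, rfl⟩
      exact ⟨p x, by rw [← Scheme.Hom.comp_apply, ← Scheme.Hom.comp_apply, hjq']⟩
    · rintro ⟨y, rfl⟩
      obtain ⟨x, rfl⟩ := hp y
      exact ⟨j0 x, ⟨x, rfl⟩, by rw [← Scheme.Hom.comp_apply, ← Scheme.Hom.comp_apply, hjq']⟩

end Groth.Agent.S8319
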