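import Groth.Statements.S8320
import Groth.Agent.EGAProj74.SteinLine
import Groth.Agent.EGAProj74.SteinMaps
import Groth.Agent.EGAProj74.LineNormal
import Groth.Agent.EGAProj74.SteinNormal
import Groth.Agent.EGA73.IntegralNormal

set_option autoImplicit false
universe u
open CategoryTheory CategoryTheory.Limits AlgebraicGeometry Opposite TopologicalSpace
open scoped HomogeneousIdeal
noncomputable section
open EGA2

namespace Groth.Agent.S8320

/-- Let p : X → Y be a proper morphism with p^♯ : O_Y → p_*O_X an isomorphism, L an invertible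
O_X-module ample relative to p, V = V(L) = Spec(Sym L) with projection π and zero section j0 (the
vertex section), C a scheme over Y (structure morphism g) with a section ε and a Y-morphism q : V →
C with j0 ≫ q = p ≫ ε; let C' = Spec(𝒮') with 𝒮' = ⊕_{n≥0} p_*(L^{⊗n}) = (p∘π)_*O_V (the relative
spectrum over Y of the direct-image algebra of p∘π) and q' : V → C' the canonical Y-morphism (the
one corresponding to the identity of (p∘π)_*O_V under the universal property of the relative
spectrum); suppose moreover that X is integral, that C is normal (all its local rings are integrally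
closed domains), that q is proper and that the restriction of q to V0 = V − j0(X) is an open
immersion with image exactly C − ε(Y). Then every morphism u : C' → C over Y with q = q' ≫ u is an
isomorphism. (The published statement assumes only the commutativity j0 ≫ q = p ≫ ε; this row also
assumes q proper and q restricted to V − j0(X) an open immersion onto C − ε(Y), without which the
conclusion fails: for C = Y, ε the identity and q the structure morphism of V, the morphism u is the
structure morphism C' → Y, which is not an isomorphism in general (X the projective line over a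
field k, Y = C = Spec k, L of degree one: C' is the affine plane).) -/
theorem result {X Y C : Scheme.{u}} (p : X ⟶ Y) [IsProper p] (hθ : IsIso p.c)
    (L : X.Modules) (hL : PicF.IsInvertible L) (hLq : Coh.IsQCoh L) (hamp : RelAmple.IsRelAmple p L)
    (𝒜 : RelProj.QCGrAlg X) (jL : L ⟶ 𝒜.toModule) (hA : RelProj.IsGrSymAlg L 𝒜 jL) (h0 : RelCone.StrZeroBij 𝒜)
    (aug : 𝒜.toQCAlg ⟶ RelSpec.QCAlg.unit X) (haug : RelCone.IsAugmentation 𝒜 aug)
    (j0 : X ⟶ 𝒜.toQCAlg.spec) (hj0 : RelCone.IsVertex 𝒜 aug j0)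
    (g : C ⟶ Y) (ε : Y ⟶ C) (hε : ε ≫ g = 𝟙 Y) (q : 𝒜.toQCAlg.spec ⟶ C)
    (hqg : q ≫ g = 𝒜.toQCAlg.π ≫ p) (hjq : j0 ≫ q = p ≫ ε)
    (q' : 𝒜.toQCAlg.spec ⟶ (RelSpec.QCAlg.directImage (𝒜.toQCAlg.π ≫ p)).spec)
    (hq'π : q' ≫ (RelSpec.QCAlg.directImage (𝒜.toQCAlg.π ≫ p)).π = 𝒜.toQCAlg.π ≫ p)
    (hq' : AffAlg.algHom (RelSpec.QCAlg.directImage (𝒜.toQCAlg.π ≫ p)).π (𝒜.toQCAlg.π ≫ p) q' hq'π = (RelSpec.QCAlg.directImage (𝒜.toQCAlg.π ≫ p)).gammaMap)
    [IsIntegral X] (hC : Pi1.IsNormalScheme C)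
    [IsProper q] (V0 : 𝒜.toQCAlg.spec.Opens) (hV0 : (V0 : Set 𝒜.toQCAlg.spec) = (Set.range j0.base)ᶜ)
    (hqo : IsOpenImmersion (V0.ι ≫ q)) (hqr : Set.range (V0.ι ≫ q).base = (Set.range ε.base)ᶜ)
    (u : (RelSpec.QCAlg.directImage (𝒜.toQCAlg.π ≫ p)).spec ⟶ C) (hug : u ≫ g = (RelSpec.QCAlg.directImage (𝒜.toQCAlg.π ≫ p)).π) (hu : q' ≫ u = q) :
    IsIso u := by
  obtain ⟨ε', hε', hjq', hp', hs, hiso, hoi, hr⟩ :=
    EGAProj74.SteinLine.exists_vertex hLq hL hA haug hj0 V0 hV0 p hθ hamp q' hq'π hq'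
  have hp := EGAProj74.SteinLine.surjective_p p hθ
  haveI := hp'; haveI := hoi; haveI := hqo
  have hεu : ε' ≫ u = ε := EGAProj74.SteinMaps.comp_eq hp hjq' hjq hu fun U => by
    haveI := hθ
    exact (ConcreteCategory.bijective_of_isIso (p.c.app (op U))).1
  haveI : IsClosedImmersion ε' := by
    haveI : IsClosedImmersion (ε' ≫ (RelSpec.QCAlg.directImage (𝒜.toQCAlg.π ≫ p)).π) := by
      rw [hε']; infer_instance
    exact IsClosedImmersion.of_comp ε' (RelSpec.QCAlg.directImage (𝒜.toQCAlg.π ≫ p)).π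
  haveI hui : UniversallyInjective u := EGAProj74.SteinMaps.universallyInjective hr hu hqr hεu hε
  haveI : Surjective q' := ⟨hs⟩
  haveI : UniversallyClosed u := by
    haveI : UniversallyClosed (q' ≫ u) := by rw [hu]; infer_instance
    exact UniversallyClosed.of_comp_surjective q' u
  have hus : Function.Surjective u.base := fun c => by
    by_cases hc : c ∈ Set.range ε.base
    · obtain ⟨y, rfl⟩ := hc
      exact ⟨ε' y, by rw [← Scheme.Hom.comp_apply, hεu]⟩
    · obtain ⟨v, rfl⟩ := hqr.ge hc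
      exact ⟨q' (V0.ι v), by rw [← Scheme.Hom.comp_apply, hu]; rfl⟩
  haveI : IsAffineHom u :=
    isAffineHom_of_isInducing u
      (Topology.IsClosedEmbedding.of_continuous_injective_isClosedMap u.continuous u.injective u.isClosedMap).isInducing
      u.isClosedMap.isClosed_range
  haveI : IsIntegralHom u :=
    IsIntegralHom.iff_universallyClosed_and_isAffineHom.2 ⟨inferInstance, inferInstance⟩
  haveI := EGAProj74.LineNormal.isIntegral_spec hL hLq hA.1
  haveI := EGAProj74.SteinNormal.isIntegral (𝒜.toQCAlg.π ≫ p)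
  haveI : Nonempty C := ⟨u (Classical.arbitrary _)⟩
  haveI : IrreducibleSpace C := by
    have h := (PreirreducibleSpace.isPreirreducible_univ
      (X := (RelSpec.QCAlg.directImage (𝒜.toQCAlg.π ≫ p)).spec)).image u.base u.continuous.continuousOn
    rw [Set.image_univ, hus.range_eq] at h
    exact { isPreirreducible_univ := h, toNonempty := inferInstance }
  haveI : ∀ c : C, _root_.IsReduced (C.presheaf.stalk c) := fun c =>
    have := (hC c).1
    inferInstance
  haveI := isReduced_of_isReduced_stalk C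
  haveI : IsIntegral C := isIntegral_of_irreducibleSpace_of_isReduced C
  obtain ⟨v, hv⟩ : ∃ v, v ∈ V0 := by
    obtain ⟨x⟩ : Nonempty X := inferInstance
    obtain ⟨⟨W, hW⟩, hxW, -, e, he⟩ := Mero90.exists_affine_frame hL x ⊤ trivial
    haveI : Nonempty W := ⟨⟨x, hxW⟩⟩
    let Φ := EGAProj74.LineChart.equiv hLq hA W hW e he
    haveI : IsDomain (𝒜.presheaf.obj (op W)) := Φ.toMulEquiv.isDomain (Polynomial Γ(X, W))
    refine ⟨𝒜.toQCAlg.ι W hW (⟨⊥, Ideal.isPrime_bot⟩ : PrimeSpectrum _),
      (EGAProj74.LineContraction.ι_mem_V0_iff hLq hA haug hj0 V0 hV0 W hW e he _).2 fun h => ?_⟩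
    have h2 := congrArg Φ (show EGAProj74.jR jL W e = 0 from h)
    simp only [Φ, map_zero] at h2
    exact Polynomial.X_ne_zero ((EGAProj74.LineChart.equiv_gen hLq hA W hW e he).symm.trans h2)
  let W : (RelSpec.QCAlg.directImage (𝒜.toQCAlg.π ≫ p)).spec.Opens :=
    ⟨(Set.range ε'.base)ᶜ, ε'.isClosedEmbedding.isClosed_range.isOpen_compl⟩
  obtain ⟨hWo, hWr⟩ := EGAProj74.SteinMaps.restrict_props hr hu hqr W rfl
  haveI := hWo
  haveI : Nonempty W := ⟨⟨q' v, hr.le ⟨⟨v, hv⟩, rfl⟩⟩⟩
  have hden : Dense ((W.ι ≫ u).opensRange : Set C) :=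
    (W.ι ≫ u).opensRange.2.dense ⟨_, Classical.arbitrary (W : Scheme.{u}), rfl⟩
  obtain ⟨f', hf', hf'u⟩ := EGA73.extend_integral hC u (W.ι ≫ u).opensRange hden
    ((W.ι ≫ u).isoOpensRange.inv ≫ W.ι) (𝟙 C) (by
      rw [Category.assoc, Scheme.Hom.isoOpensRange_inv_comp, Category.comp_id])
  haveI : IsDominant W.ι := by
    refine ⟨?_⟩
    rw [DenseRange, Scheme.Opens.range_ι]
    exact W.2.dense ⟨q' v, hr.le ⟨⟨v, hv⟩, rfl⟩⟩
  refine ⟨⟨f', ext_of_isDominant_of_isSeparated u ?_ W.ι ?_, hf'u⟩⟩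
  · rw [Category.assoc, hf'u, Category.comp_id, Category.id_comp]
  · rw [Category.comp_id, ← Category.assoc, ← Scheme.Hom.isoOpensRange_hom_ι (W.ι ≫ u), Category.assoc, hf',
      Iso.hom_inv_id_assoc]

end Groth.Agent.S8320
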