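import Groth.Statements.S8327
import Groth.Agent.EGAProj74.GammaRel.Top

set_option autoImplicit false
universe u
open CategoryTheory CategoryTheory.Limits AlgebraicGeometry Opposite TopologicalSpace
open scoped HomogeneousIdeal
noncomputable section
open EGA2

namespace Groth.Agent.S8327

/-- Let 𝒮 be a quasi-coherent positively graded O_Y-algebra generated by 𝒮_1, with 𝒮_1 of finite type,
and P = Proj(𝒮). Then every quasi-coherent O_P-module is isomorphic to ℳ~ for some quasi-coherent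
graded 𝒮-module ℳ — here: it carries chartwise identifications making it the module attached to such
an ℳ. -/
theorem result {Y P : Scheme.{u}} (𝒮 : RelProj.QCGrAlg Y) (p : P ⟶ Y)
    (chart : ∀ (U : Y.Opens) (hU : IsAffineOpen U), (((p ⁻¹ᵁ U : P.Opens) : Scheme.{u}) ≅ Proj (𝒮.deg U hU)))
    (hP : RelProj.IsRelProj 𝒮 p chart) (hgen : 𝒮.IsGenDegOne) (hft : 𝒮.IsFTDeg 1)
    (F : P.Modules) (hFq : Coh.IsQCoh F) :
    ∃ (ℳ : RelProj.GrModule 𝒮) (lam : ∀ (U : Y.Opens) (hU : IsAffineOpen U),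
      F ⟶ (Scheme.Modules.pushforward (RelProj.emb p chart U hU)).obj (GrMod.tilde (𝒮.deg U hU) (ℳ.deg U hU) 0)),
      Coh.IsQCoh ((AMod.toOS 𝒮.toQCAlg).obj ℳ.mod) ∧ RelProj.IsRelTilde 𝒮 p chart ℳ 0 F lam := by
  have hG := Groth.Agent.EGAProj74.GammaRel.hasGens (p := p) (chart := chart) hgen hft
  let N := Groth.Agent.EGAProj74.GammaRel.Sub.top p chart F hP
  refine ⟨N.grModule hP hG, fun U hU => (N.coefData hP hG).lam hP hG hFq
    (Groth.Agent.EGAProj74.GammaRel.top_full hP hgen hft hFq) hU, ?_, ?_⟩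
  · exact N.isQCoh hP hG hFq fun U hU r w hw => by
      obtain ⟨K, t, ht, h⟩ := Groth.Agent.EGAProj74.GammaRel.exists_extension hP hgen hft hFq hU r (w := w) hw
      exact ⟨K, t, ht, h⟩
  · exact (N.coefData hP hG).isRelTilde hP hG hFq _

end Groth.Agent.S8327
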