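import Groth.Statements.S8346
import Groth.Agent.ConstrTop58.Basic

set_option autoImplicit false
universe u
open ConstrTop

namespace Groth.Agent.S8346

open TopologicalSpace in
/-- Let X be a topological space admitting a basis of open subsets which are retrocompact in X. Then
every locally constructible subset T of X is retrocompact in X. -/
theorem result {X : Type u} [TopologicalSpace X]
    {B : Set (Set X)} (hB : IsTopologicalBasis B) (hBr : ∀ U ∈ B, IsRetrocompact U) {T : Set X}
    (hT : Topology.IsLocallyConstructible T) : IsRetrocompact T := by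
  intro W hWc hWo
  have key : ∀ x ∈ W, ∃ b : Set X, IsOpen b ∧ x ∈ b ∧ b ⊆ W ∧ IsCompact (T ∩ b) := by
    intro x hx
    obtain ⟨U, hUx, hUo, hUT⟩ := hT x
    obtain ⟨b, hbB, hxb, hb⟩ :=
      hB.exists_subset_of_mem_open (show x ∈ W ∩ U from ⟨hx, mem_of_mem_nhds hUx⟩) (hWo.inter hUo)
    have hbW : b ⊆ W := fun z hz => (hb hz).1
    have hbU : b ⊆ U := fun z hz => (hb hz).2
    have hbc : IsCompact b := by
      have := hBr b hbB hWc hWo
      rwa [Set.inter_eq_left.mpr hbW] at this
    have h1 : IsCompact ((Subtype.val : U → X) ⁻¹' b) := by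
      rw [Subtype.isCompact_iff, Subtype.image_preimage_coe, Set.inter_eq_right.mpr hbU]
      exact hbc
    have h2 := (Groth.Agent.ConstrTop58.isRetrocompact_of_isConstructible hUT h1
      ((hB.isOpen hbB).preimage continuous_subtype_val)).image continuous_subtype_val
    refine ⟨b, hB.isOpen hbB, hxb, hbW, ?_⟩
    convert h2 using 1
    ext z
    simp only [Set.mem_inter_iff, Set.mem_image, Set.mem_preimage, Subtype.exists, exists_and_right,
      exists_eq_right]
    exact ⟨fun h => ⟨⟨hbU h.2, h.1⟩, h.2⟩, fun h => ⟨h.1.2, h.2⟩⟩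
  choose! b hbo hxb hbW hbc using key
  obtain ⟨t, htW, ht⟩ := hWc.elim_nhds_subcover b fun x hx => (hbo x hx).mem_nhds (hxb x hx)
  have : T ∩ W = ⋃ x ∈ t, T ∩ b x := by
    ext z
    simp only [Set.mem_inter_iff, Set.mem_iUnion]
    constructor
    · rintro ⟨hz, hzW⟩
      obtain ⟨x, hx, hzx⟩ := Set.mem_iUnion₂.mp (ht hzW)
      exact ⟨x, hx, hz, hzx⟩
    · rintro ⟨x, hx, hz, hzx⟩
      exact ⟨hz, hbW x (htW x hx) hzx⟩
  rw [this]
  exact t.isCompact_biUnion fun x hx => hbc x (htW x hx)

end Groth.Agent.S8346
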