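import Groth.Statements.S8347
import Groth.Agent.SpSeq40.Abut

set_option autoImplicit false
universe v u
open CategoryTheory CategoryTheory.Limits
open SpSeq

namespace Groth.Agent.S8347

/-- Let E be a spectral sequence in an abelian category with abutment data (H^m), and suppose that for
some page r and every total degree m there is an integer q(m) such that E_r^{m-q,q} = 0 for every q
other than q(m). Let n be a total degree such that the filtration of H^n is discrete (some step is
zero) and exhaustive (H^n is the supremum of the steps), and such that the position (n - q(n), q(n))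
is stationary from page r on. Then H^n is isomorphic to E_r^{n-q(n), q(n)}. (The published statement
asserts this without any condition on the differentials at the surviving positions; that version
fails when a differential d_r links the surviving terms of two consecutive total degrees, for
instance a spectral sequence whose only nonzero page-2 terms are E_2^{0,1} and E_2^{2,0} with d_2 an
isomorphism between them and zero abutment. The stationarity assumed here is automatic when q(m)
does not depend on m and r ≥ 2.) -/
theorem result {C : Type u} [Category.{v} C] [Abelian C] {r₀ : ℤ}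
    (E : CohomologicalSpectralSequence C r₀) {H : ℤ → C} (a : SpSeq.Abutment E H)
    (r : ℤ) (hr : r₀ ≤ r) (q : ℤ → ℤ)
    (hdeg : ∀ m q' : ℤ, q' ≠ q m → IsZero ((E.page r hr).X (m - q', q')))
    (n : ℤ) (hdisc : (a.filObj n).IsDiscrete) (hexh : a.IsExhaustive n)
    (hst : SpSeq.StationaryAt E (n - q n, q n) r) :
    Nonempty (H n ≅ (E.page r hr).X (n - q n, q n)) := by
  set p₀ : ℤ := n - q n with hp₀
  have hq : (p₀, n - p₀) = (n - q n, q n) := Prod.ext rfl (by simp [p₀])
  have hz : ∀ p, p ≠ p₀ → a.fil n (p + 1) = a.fil n p := fun p hp =>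
    SpSeq40.fil_succ_eq a n p r hr (by
      have := hdeg n (n - p) (fun h => hp (by omega))
      rwa [sub_sub_cancel] at this)
  obtain ⟨b, hb⟩ := hdisc
  have hb : a.fil n b = ⊥ := hb
  have hbot : a.fil n (p₀ + 1) = ⊥ := by
    rcases le_total b (p₀ + 1) with h | h
    · exact le_bot_iff.1 (hb ▸ a.anti n h)
    · exact (SpSeq40.fil_eq_of_zero a n h fun p h1 _ => hz p (by omega)).symm.trans hb
  have htop : a.fil n p₀ = ⊤ := by
    refine top_le_iff.1 (hexh.2 ?_)
    rintro _ ⟨p, rfl⟩
    change a.fil n p ≤ a.fil n p₀
    rcases le_total p₀ p with h | h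
    · exact a.anti n h
    · exact (SpSeq40.fil_eq_of_zero a n h fun i _ h2 => hz i (by omega)).ge
  have hsq : ∀ (F : ℤ → Subobject (H n)) (hF : Antitone F), F p₀ = ⊤ → F (p₀ + 1) = ⊥ →
      Nonempty (SpSeq.grPiece F hF p₀ ≅ H n) := by
    intro F hF h1 h2
    haveI : IsIso (F p₀).arrow := (Subobject.isIso_arrow_iff_eq_top _).2 h1
    have h3 : ∀ (B : Subobject (H n)) (hB : B ≤ F p₀), B = ⊥ →
        Nonempty (SpSeq.subquot (F p₀) B hB ≅ H n) := by
      rintro _ hB rfl
      exact ⟨SpSeq40.subquotBotIso _ hB ≪≫ asIso (F p₀).arrow⟩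
    exact h3 _ _ h2
  obtain ⟨e⟩ := hsq _ (a.anti n) htop hbot
  obtain ⟨e'⟩ := SpSeq40.nonempty_gr_iso a n p₀ r (hq ▸ hst)
  exact ⟨(e' ≪≫ e).symm ≪≫ eqToIso (congrArg _ hq)⟩

end Groth.Agent.S8347
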