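import Groth.Statements.S8352
import Groth.Agent.ML41.Basic

set_option autoImplicit false
universe u
open CategoryTheory CategoryTheory.Limits Opposite
open HomAlg3

namespace Groth.Agent.S8352

/-- Category of abelian groups, system indexed by the natural numbers: Let (A_k) be an inverse system of
abelian groups satisfying the Mittag-Leffler condition, A = lim A_k with projections π_p : A ⟶ A_p.
Filter A and each A_k by the kernels of the maps to A_{p-1} (with A_{-1} = 0); the graded piece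
gr^p(A) is identified with Im(π_p) ∩ Ker(A_p ⟶ A_{p-1}) and gr^p(A_k), k ≥ p, with Im(A_k ⟶ A_p) ∩
Ker(A_p ⟶ A_{p-1}), a decreasing family of subgroups of A_p. The statement gr^p(A) ≅ lim_k gr^p(A_k)
then reads: Im(π_0) = ⋂_k Im(A_k ⟶ A_0), and for every p, Im(π_{p+1}) ∩ Ker(A_{p+1} ⟶ A_p) = ⋂_{k ≥
p+1} (Im(A_k ⟶ A_{p+1}) ∩ Ker(A_{p+1} ⟶ A_p)). -/
theorem result (F : ℕᵒᵖ ⥤ AddCommGrpCat.{u})
    (hF : (F ⋙ forget AddCommGrpCat).IsMittagLeffler) :
    (limit.π F (op 0)).hom.range = ⨅ k : ℕ, (F.map (homOfLE (Nat.zero_le k)).op).hom.range ∧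
      ∀ p : ℕ, (limit.π F (op (p + 1))).hom.range ⊓ (F.map (homOfLE (Nat.le_succ p)).op).hom.ker =
        ⨅ (k : ℕ) (hk : p + 1 ≤ k),
          (F.map (homOfLE hk).op).hom.range ⊓ (F.map (homOfLE (Nat.le_succ p)).op).hom.ker := by
  rw [ML41.ml_iff] at hF
  have key : ∀ (p : ℕ) (x : F.obj (op p)), (∀ (k : ℕ) (h : p ≤ k), ∃ y, ML41.tr F h y = x) →
      x ∈ (limit.π F (op p)).hom.range := by
    intro p x hx
    obtain ⟨s, hs, hsp⟩ := ML41.exists_compat_of_eventual hF p x hx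
    obtain ⟨w, hw⟩ := ML41.cone_mk (limit.isLimit F) (fun j => s j.unop)
      (fun f => hs (leOfHom f.unop))
    exact ⟨w, (hw (op p)).trans hsp⟩
  have hπ : ∀ (p k : ℕ) (h : p ≤ k) (w : (limit F : AddCommGrpCat.{u})),
      ML41.tr F h ((limit.π F (op k)).hom w) = (limit.π F (op p)).hom w := fun p k h w =>
    ConcreteCategory.congr_hom (limit.w F (homOfLE h).op) w
  refine ⟨le_antisymm (le_iInf fun k => ?_) (fun x hx => key 0 x fun k h => ?_),
    fun p => le_antisymm (le_iInf₂ fun k hk => ?_) (fun x hx => ⟨key (p + 1) x fun k h => ?_, ?_⟩)⟩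
  · rintro _ ⟨w, rfl⟩
    exact ⟨(limit.π F (op k)).hom w, hπ 0 k (Nat.zero_le k) w⟩
  · exact AddSubgroup.mem_iInf.1 hx k
  · rintro _ ⟨⟨w, rfl⟩, hw⟩
    exact ⟨⟨(limit.π F (op k)).hom w, hπ (p + 1) k hk w⟩, hw⟩
  · have := AddSubgroup.mem_iInf.1 (AddSubgroup.mem_iInf.1 hx k) h
    exact this.1
  · have := AddSubgroup.mem_iInf.1 (AddSubgroup.mem_iInf.1 hx (p + 1)) le_rfl
    exact this.2

end Groth.Agent.S8352
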