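import Groth.Statements.S8359
import Groth.Agent.RedPts82.Infinitesimal
import Mathlib.Algebra.MonoidAlgebra.Basic
import Mathlib.RingTheory.Localization.Away.Basic

set_option autoImplicit false
universe u
open CategoryTheory MonoidalCategory CartesianMonoidalCategory MonObj GrpObj AlgebraicGeometry CategoryTheory.Limits
open Red

open Groth.Agent.RedPts82.Infinitesimal

namespace Groth.Agent.S8359

variable {R : Type u} [CommRing R] {M : Type} [AddCommGroup M]

local notation "H" => MonoidAlgebra R (Multiplicative M)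

theorem specHom_conv {C : Type u} [CommRing C] [Algebra R C] (c c' : H →ₐ[R] C) :
    specHom (R := R) (WithConv.toConv c * WithConv.toConv c').ofConv = specHom c * specHom c' :=
  map_mul (Spec.mapMulEquiv (R := R) (S := H) (T := C)) (WithConv.toConv c) (WithConv.toConv c')

variable {X : Over (Spec (CommRingCat.of R))} [GrpObj X]

/-- Modulo `I` the homomorphism is trivial on points. -/
theorem eq_one_base (I : Ideal R) (f : Red.diag R M ⟶ X)
    (h : (Over.pullback (Spec.map (CommRingCat.ofHom (Ideal.Quotient.mk I)))).map f = 1)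
    {C : Type u} [CommRing C] [Algebra R C] (hC : I.map (algebraMap R C) = ⊥) (c : H →ₐ[R] C) :
    specHom c ≫ f = 1 := by
  let q : Spec (CommRingCat.of (R ⧸ I)) ⟶ Spec (CommRingCat.of R) :=
    Spec.map (CommRingCat.ofHom (Ideal.Quotient.mk I))
  have hI : ∀ a ∈ I, algebraMap R C a = 0 := fun a ha => by
    have := Ideal.mem_map_of_mem (algebraMap R C) ha
    rwa [hC, Ideal.mem_bot] at this
  let g : Spec (CommRingCat.of C) ⟶ Spec (CommRingCat.of (R ⧸ I)) :=
    Spec.map (CommRingCat.ofHom (Ideal.Quotient.lift I (algebraMap R C) hI))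
  have hg : g ≫ q = (SpecOver R C).hom := by
    show Spec.map _ ≫ Spec.map _ = Spec.map _
    rw [← Spec.map_comp]
    rfl
  let Y : Over (Spec (CommRingCat.of (R ⧸ I))) := Over.mk g
  let e : (Over.map q).obj Y ≅ SpecOver R C :=
    Over.isoMk (Iso.refl _) (by
      show 𝟙 _ ≫ (SpecOver R C).hom = g ≫ q
      rw [Category.id_comp, hg])
  let y : Y ⟶ Red.bc q (Red.diag R M) :=
    ((Over.mapPullbackAdj q).homEquiv Y _) (e.hom ≫ specHom c)
  have h1 : y ≫ (Over.pullback q).map f = 1 :=
    (congrArg (y ≫ ·) h).trans (MonObj.comp_one y)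
  have h2 : ((Over.mapPullbackAdj q).homEquiv Y X).symm (y ≫ (Over.pullback q).map f) =
      e.hom ≫ specHom c ≫ f := by
    rw [Adjunction.homEquiv_naturality_right_symm, Equiv.symm_apply_apply, Category.assoc]
  rw [h1] at h2
  have h3 : ((Over.mapPullbackAdj q).homEquiv Y X).symm (1 : Y ⟶ (Over.pullback q).obj X) = 1 := by
    have hone : (1 : Y ⟶ (Over.pullback q).obj X) =
        ((Over.mapPullbackAdj q).homEquiv Y X) 1 := by
      rw [Adjunction.homEquiv_unit]
      have : (Over.pullback q).map (1 : (Over.map q).obj Y ⟶ X) = 1 := Functor.map_one _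
      rw [this, MonObj.comp_one]
    rw [hone, Equiv.symm_apply_apply]
  rw [h3] at h2
  have h4 : e.inv ≫ (1 : (Over.map q).obj Y ⟶ X) = e.inv ≫ e.hom ≫ specHom c ≫ f :=
    congrArg (e.inv ≫ ·) h2
  rw [MonObj.comp_one, e.inv_hom_id_assoc] at h4
  exact h4.symm

variable {B : Type u} [CommRing B] [Algebra R B]

theorem range_one_left {C : Type u} [CommRing C] [Algebra R C] (j : SpecOver R B ⟶ X) (r : R)
    (hr : ∀ p : PrimeSpectrum R, r ∉ p.asIdeal → η[X].left.base p ∈ Set.range j.left.base)
    (hu : IsUnit (algebraMap R C r)) :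
    Set.range (1 : SpecOver R C ⟶ X).left.base ⊆ Set.range j.left.base := by
  rintro _ ⟨p, rfl⟩
  rw [Hom.one_def, Over.comp_left]
  have hp : r ∉ (PrimeSpectrum.comap (algebraMap R C) p).asIdeal := fun hmem =>
    p.2.ne_top (Ideal.eq_top_of_isUnit_mem _ hmem hu)
  exact hr _ hp

theorem eq_one_step (f : Red.diag R M ⟶ X) [IsMonHom f] (j : SpecOver R B ⟶ X)
    [IsOpenImmersion j.left] (r : R)
    (hr : ∀ p : PrimeSpectrum R, r ∉ p.asIdeal → η[X].left.base p ∈ Set.range j.left.base)
    (L L' : Ideal R) (hL : L * L ≤ L')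
    (ih : ∀ (C : Type u) [CommRing C] [Algebra R C], L.map (algebraMap R C) = ⊥ →
      IsUnit (algebraMap R C r) → ∀ c : H →ₐ[R] C, specHom c ≫ f = 1)
    (C : Type u) [CommRing C] [Algebra R C] (hC : L'.map (algebraMap R C) = ⊥)
    (hu : IsUnit (algebraMap R C r)) (c : H →ₐ[R] C) : specHom c ≫ f = 1 := by
  let C₁ := MonoidAlgebra C (Multiplicative M)
  let C₂ := MonoidAlgebra C ((Multiplicative M) × (Multiplicative M))
  let u : H →ₐ[R] C₁ := MonoidAlgebra.lift R C₁ (Multiplicative M) (MonoidAlgebra.of C (Multiplicative M))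
  let π : C₁ →ₐ[R] C := (MonoidAlgebra.lift C C (Multiplicative M)
    ((c.toRingHom.toMonoidHom).comp (MonoidAlgebra.of R (Multiplicative M)))).restrictScalars R
  let i₁ : C₁ →ₐ[R] C₂ :=
    (MonoidAlgebra.mapDomainAlgHom C C (MonoidHom.inl (Multiplicative M) (Multiplicative M))).restrictScalars R
  let i₂ : C₁ →ₐ[R] C₂ :=
    (MonoidAlgebra.mapDomainAlgHom C C (MonoidHom.inr (Multiplicative M) (Multiplicative M))).restrictScalars R
  let δ : C₁ →ₐ[R] C₂ :=
    (MonoidAlgebra.mapDomainAlgHom C C ((MonoidHom.id (Multiplicative M)).prod (MonoidHom.id (Multiplicative M)))).restrictScalars R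
  have hof : ∀ g : (Multiplicative M), MonoidAlgebra.of C (Multiplicative M) g = MonoidAlgebra.single g (1 : C) := fun g => rfl
  have hof' : ∀ g : (Multiplicative M), MonoidAlgebra.of R (Multiplicative M) g = MonoidAlgebra.single g (1 : R) := fun g => rfl
  have hπu : π.comp u = c := by
    refine MonoidAlgebra.algHom_ext (fun g => ?_) (Subsingleton.elim _ _)
    have hu' : u (MonoidAlgebra.single g 1) = MonoidAlgebra.single g (1 : C) :=
      (MonoidAlgebra.lift_single _ _ _).trans ((one_smul R _).trans (hof g))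
    rw [AlgHom.comp_apply, hu']
    exact (MonoidAlgebra.lift_single _ _ _).trans ((one_smul C _).trans (congrArg c (hof' g)))
  have hmap : ∀ (D : Type u) [CommRing D] [Algebra R D] [Algebra C D] [IsScalarTower R C D],
      L'.map (algebraMap R D) = ⊥ := by
    intro D _ _ _ _
    rw [IsScalarTower.algebraMap_eq R C D, ← Ideal.map_map, hC, Ideal.map_bot]
  have hsq : ∀ (D : Type u) [CommRing D] [Algebra R D] [Algebra C D] [IsScalarTower R C D]
      (a b : D), Ideal.Quotient.mkₐ R (L.map (algebraMap R D)) a = 0 →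
      Ideal.Quotient.mkₐ R (L.map (algebraMap R D)) b = 0 → a * b = 0 := by
    intro D _ _ _ _ a b ha hb
    have : a * b ∈ L'.map (algebraMap R D) := by
      refine Ideal.map_mono hL ?_
      rw [Ideal.map_mul]
      exact Ideal.mul_mem_mul (Ideal.Quotient.eq_zero_iff_mem.mp ha)
        (Ideal.Quotient.eq_zero_iff_mem.mp hb)
    rw [hmap D, Ideal.mem_bot] at this
    exact this
  have hqmap : ∀ (D : Type u) [CommRing D] [Algebra R D],
      L.map (algebraMap R (D ⧸ L.map (algebraMap R D))) = ⊥ := by
    intro D _ _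
    rw [IsScalarTower.algebraMap_eq R D (D ⧸ _), ← Ideal.map_map]
    exact Ideal.map_quotient_self _
  obtain ⟨ε₀, hε₀⟩ := exists_point j _ (range_one_left j r hr hu)
  let ι₁ : C →ₐ[R] C₁ := IsScalarTower.toAlgHom R C C₁
  let ι₂ : C →ₐ[R] C₂ := IsScalarTower.toAlgHom R C C₂
  have hu₁ : IsUnit (algebraMap R C₁ r) := by
    rw [IsScalarTower.algebraMap_apply R C C₁]
    exact hu.map _
  have hε₁ : specHom (ι₁.comp ε₀) ≫ j = 1 := by
    rw [← specHom_comp, Category.assoc, ← hε₀, MonObj.comp_one]
  have hε₂ : specHom (ι₂.comp ε₀) ≫ j = 1 := by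
    rw [← specHom_comp, Category.assoc, ← hε₀, MonObj.comp_one]
  let x : SpecOver R C₁ ⟶ X := specHom u ≫ f
  let q₁ : C₁ →ₐ[R] C₁ ⧸ L.map (algebraMap R C₁) := Ideal.Quotient.mkₐ R _
  have hx1 : specHom q₁ ≫ x = 1 := by
    rw [← Category.assoc, specHom_comp]
    refine ih _ (hqmap C₁) ?_ _
    rw [IsScalarTower.algebraMap_apply R C₁ (C₁ ⧸ _)]
    exact hu₁.map _
  have hrange : Set.range x.left.base ⊆ Set.range j.left.base := by
    rintro _ ⟨p, rfl⟩
    obtain ⟨p', rfl⟩ := specHom_surjective_of_ker q₁ Ideal.Quotient.mk_surjective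
      (fun a ha => ⟨2, by rw [pow_two]; exact hsq C₁ a a ha ha⟩) p
    refine ⟨(specHom (ι₁.comp ε₀)).left.base ((specHom q₁).left.base p'), ?_⟩
    have h2 : specHom q₁ ≫ specHom (ι₁.comp ε₀) ≫ j = specHom q₁ ≫ x := by
      rw [hε₁, MonObj.comp_one, hx1]
    exact congrArg (fun m => m.left.base p') h2
  obtain ⟨φ, hφ⟩ := exists_point j x hrange
  have hcong : ∀ b, q₁ (φ b) = q₁ (ι₁ (ε₀ b)) := by
    intro b
    refine DFunLike.congr_fun (point_injective j (φ := q₁.comp φ) (ψ := q₁.comp (ι₁.comp ε₀)) ?_) b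
    rw [← specHom_comp φ, ← specHom_comp (ι₁.comp ε₀), Category.assoc, Category.assoc, ← hφ, hε₁,
      hx1, MonObj.comp_one]
  have hδu : (WithConv.toConv (i₁.comp u) * WithConv.toConv (i₂.comp u)).ofConv = δ.comp u := by
    refine MonoidAlgebra.algHom_ext (fun g => ?_) (Subsingleton.elim _ _)
    rw [AlgHom.convMul_apply]
    simp [i₁, i₂, δ, u, hof]
    show MonoidAlgebra.mapDomain (MonoidHom.inl (Multiplicative M) (Multiplicative M))
        (MonoidAlgebra.single g (1 : C)) *
      MonoidAlgebra.mapDomain (MonoidHom.inr (Multiplicative M) (Multiplicative M))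
        (MonoidAlgebra.single g (1 : C)) =
      MonoidAlgebra.mapDomain ((MonoidHom.id (Multiplicative M)).prod (MonoidHom.id (Multiplicative M)))
        (MonoidAlgebra.single g (1 : C))
    rw [MonoidAlgebra.mapDomain_single, MonoidAlgebra.mapDomain_single, MonoidAlgebra.mapDomain_single,
      MonoidAlgebra.single_mul_single, _root_.one_mul]
    simp
  have hcommute : ∀ (i : (Multiplicative M) →* (Multiplicative M) × (Multiplicative M)) (a : C),
      (MonoidAlgebra.mapDomainAlgHom C C i).restrictScalars R (ι₁ a) = ι₂ a := fun i a =>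
    (MonoidAlgebra.mapDomainAlgHom C C i).commutes a
  let q₂ : C₂ →ₐ[R] C₂ ⧸ L.map (algebraMap R C₂) := Ideal.Quotient.mkₐ R _
  have hi : ∀ (i : (Multiplicative M) →* (Multiplicative M) × (Multiplicative M)) (b : B),
      q₂ (((MonoidAlgebra.mapDomainAlgHom C C i).restrictScalars R).comp φ b) = q₂ (ι₂ (ε₀ b)) := by
    intro i b
    rw [AlgHom.comp_apply, ← hcommute i]
    refine Ideal.Quotient.eq.mpr ?_
    have := Ideal.Quotient.eq.mp (hcong b)
    rw [← map_sub]
    have hmem := Ideal.mem_map_of_mem ((MonoidAlgebra.mapDomainAlgHom C C i).restrictScalars R) this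
    have hJ : (L.map (algebraMap R C₁)).map
        ((MonoidAlgebra.mapDomainAlgHom C C i).restrictScalars R).toRingHom =
        L.map (algebraMap R C₂) := by
      rw [Ideal.map_map]
      congr 1
      exact RingHom.ext fun a => AlgHom.commutes
        ((MonoidAlgebra.mapDomainAlgHom C C i).restrictScalars R) a
    rw [← hJ]
    exact hmem
  obtain ⟨φ', hφ', hsum⟩ := exists_mul_point j q₂ (hsq C₂) (i₁.comp φ) (i₂.comp φ) (ι₂.comp ε₀)
    hε₂ (hi _) (hi _)
  have hkey : δ.comp φ = φ' := by
    apply point_injective j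
    rw [← hφ', ← specHom_comp φ, ← specHom_comp φ, ← specHom_comp φ, Category.assoc, Category.assoc,
      Category.assoc, ← hφ]
    show specHom δ ≫ specHom u ≫ f = (specHom i₁ ≫ specHom u ≫ f) * (specHom i₂ ≫ specHom u ≫ f)
    rw [← Category.assoc, ← Category.assoc (specHom i₁), ← Category.assoc (specHom i₂),
      specHom_comp, specHom_comp, specHom_comp, ← MonObj.mul_comp _ _ f, ← hδu, specHom_conv]
  have hD : φ = ι₁.comp ε₀ := by
    refine AlgHom.ext fun b => ?_
    rw [← sub_eq_zero]
    set D : C₁ := φ b - (ι₁.comp ε₀) b with hDdef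
    have hDeq : δ D = i₁ D + i₂ D := by
      have e1 : δ (φ b) = i₁ (φ b) + i₂ (φ b) - ι₂ (ε₀ b) :=
        (DFunLike.congr_fun hkey b).trans (hsum b)
      have e2 : ∀ i : (Multiplicative M) →* (Multiplicative M) × (Multiplicative M),
          (MonoidAlgebra.mapDomainAlgHom C C i).restrictScalars R ((ι₁.comp ε₀) b) = ι₂ (ε₀ b) :=
        fun i => hcommute i _
      rw [hDdef, map_sub, map_sub, map_sub, e2, e2, e2, e1]
      ring
    refine MonoidAlgebra.ext (Finsupp.ext fun g => ?_)
    have hc : (δ D).coeff (g, g) = (i₁ D).coeff (g, g) + (i₂ D).coeff (g, g) := by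
      rw [hDeq]; rfl
    have hδ : (δ D).coeff (g, g) = D.coeff g := by
      simp only [δ, AlgHom.restrictScalars_apply]
      exact Finsupp.mapDomain_apply (f := (MonoidHom.id (Multiplicative M)).prod (MonoidHom.id (Multiplicative M)))
        (fun a b hab => congrArg Prod.fst hab) _ g
    by_cases hg : g = 1
    · subst hg
      have h₁ : (i₁ D).coeff ((1 : (Multiplicative M)), (1 : (Multiplicative M))) = D.coeff 1 := by
        simp only [i₁, AlgHom.restrictScalars_apply]
        exact Finsupp.mapDomain_apply (f := MonoidHom.inl (Multiplicative M) (Multiplicative M))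
          (fun a b hab => congrArg Prod.fst hab) _ 1
      have h₂ : (i₂ D).coeff ((1 : (Multiplicative M)), (1 : (Multiplicative M))) = D.coeff 1 := by
        simp only [i₂, AlgHom.restrictScalars_apply]
        exact Finsupp.mapDomain_apply (f := MonoidHom.inr (Multiplicative M) (Multiplicative M))
          (fun a b hab => congrArg Prod.snd hab) _ 1
      rw [hδ, h₁, h₂] at hc
      simpa using left_eq_add.mp hc
    · have h₁ : (i₁ D).coeff (g, g) = 0 := by
        simp only [i₁, AlgHom.restrictScalars_apply]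
        refine Finsupp.mapDomain_of_notMem_range _ _ ?_
        rintro ⟨a, ha⟩
        exact hg (congrArg Prod.snd ha).symm
      have h₂ : (i₂ D).coeff (g, g) = 0 := by
        simp only [i₂, AlgHom.restrictScalars_apply]
        refine Finsupp.mapDomain_of_notMem_range _ _ ?_
        rintro ⟨a, ha⟩
        exact hg (congrArg Prod.fst ha).symm
      rw [hδ, h₁, h₂, add_zero] at hc
      simpa using hc
  calc specHom c ≫ f = specHom π ≫ x := by rw [← hπu, ← specHom_comp, Category.assoc]
    _ = 1 := by rw [hφ, hD, hε₁, MonObj.comp_one]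

theorem result (R : Type u) [CommRing R] (I : Ideal R) (hI : IsNilpotent I)
    (M : Type) [AddCommGroup M] (X : Over (Spec (CommRingCat.of R))) [GrpObj X]
    [LocallyOfFinitePresentation X.hom] (f : Red.diag R M ⟶ X) [IsMonHom f]
    (h : (Over.pullback (Spec.map (CommRingCat.ofHom (Ideal.Quotient.mk I)))).map f = 1) :
    f = 1 := by
  classical
  -- an affine open containing the unit section near each prime
  have hloc : ∀ p : PrimeSpectrum R, ∃ r : R, r ∉ p.asIdeal ∧
      ∀ (C : Type u) [CommRing C] [Algebra R C], IsUnit (algebraMap R C r) →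
        ∀ c : MonoidAlgebra R (Multiplicative M) →ₐ[R] C, specHom c ≫ f = 1 := by
    intro p
    obtain ⟨V, hV, hpV, -⟩ :=
      exists_isAffineOpen_mem_and_subset (x := η[X].left.base p) (U := ⊤) (by simp)
    obtain ⟨U, ⟨r, rfl⟩, hpU, hUV⟩ := PrimeSpectrum.isTopologicalBasis_basic_opens.exists_subset_of_mem_open
      (u := (η[X].left.base) ⁻¹' (V : Set X.left)) (show p ∈ (η[X].left.base) ⁻¹' (V : Set X.left) from hpV)
      (V.isOpen.preimage η[X].left.continuous)
    refine ⟨r, hpU, ?_⟩
    let ρ : CommRingCat.of R ⟶ Γ(X.left, V) := Spec.preimage (hV.fromSpec ≫ X.hom)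
    letI : Algebra R Γ(X.left, V) := ρ.hom.toAlgebra
    let j : SpecOver R Γ(X.left, V) ⟶ X := Over.homMk hV.fromSpec (Spec.map_preimage _).symm
    have : IsOpenImmersion j.left := inferInstanceAs (IsOpenImmersion hV.fromSpec)
    have hr : ∀ p : PrimeSpectrum R, r ∉ p.asIdeal → η[X].left.base p ∈ Set.range j.left.base := by
      intro p hp
      show _ ∈ Set.range hV.fromSpec.base
      rw [IsAffineOpen.range_fromSpec]
      exact hUV hp
    obtain ⟨n, hn⟩ := hI
    have main : ∀ k, 1 ≤ k → ∀ (C : Type u) [CommRing C] [Algebra R C],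
        (I ^ k).map (algebraMap R C) = ⊥ → IsUnit (algebraMap R C r) →
          ∀ c : MonoidAlgebra R (Multiplicative M) →ₐ[R] C, specHom c ≫ f = 1 := by
      intro k hk
      induction k, hk using Nat.le_induction with
      | base =>
        intro C _ _ hC _ c
        rw [pow_one] at hC
        exact eq_one_base I f h hC c
      | succ k hk ih =>
        intro C _ _ hC hu c
        refine eq_one_step f j r hr (I ^ k) (I ^ (k + 1)) ?_ (fun C _ _ => ih C) C hC hu c
        rw [← pow_add]
        exact Ideal.pow_le_pow_right (by omega)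
    intro C _ _ hu c
    refine main (n + 1) (by omega) C ?_ hu c
    rw [pow_succ, hn]
    simp
  choose r hr hkill using hloc
  let A := MonoidAlgebra R (Multiplicative M)
  have hspan : Ideal.span (Set.range fun p => algebraMap R A (r p)) = ⊤ := by
    have h1 : Ideal.span (Set.range r) = ⊤ := by
      by_contra hne
      obtain ⟨m, hm, hle⟩ := Ideal.exists_le_maximal _ hne
      exact hr ⟨m, hm.isPrime⟩ (hle (Ideal.subset_span ⟨_, rfl⟩))
    have h2 := congrArg (Ideal.map (algebraMap R A)) h1
    rw [Ideal.map_span, Ideal.map_top, ← Set.range_comp] at h2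
    exact h2
  apply Over.OverMorphism.ext
  refine (Scheme.affineOpenCoverOfSpanRangeEqTop _ hspan).openCover.hom_ext _ _ fun p => ?_
  let ψ : A →ₐ[R] Localization.Away (algebraMap R A (r p)) := IsScalarTower.toAlgHom R A _
  have hu : IsUnit (algebraMap R (Localization.Away (algebraMap R A (r p))) (r p)) := by
    rw [IsScalarTower.algebraMap_apply R A]
    exact IsLocalization.Away.algebraMap_isUnit (S := Localization.Away (algebraMap R A (r p))) (algebraMap R A (r p))
  have hψ : specHom ψ ≫ f = specHom ψ ≫ 1 := by rw [hkill p _ hu ψ, MonObj.comp_one]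
  exact congrArg CommaMorphism.left hψ

end Groth.Agent.S8359
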