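import Groth.Statements.S8360
import Groth.Agent.RedPts82.AvgBase
import Groth.Agent.RedPts82.HomFiniteMult
import Groth.Agent.RedPts82.DSImage

set_option autoImplicit false
universe u
open CategoryTheory MonObj AlgebraicGeometry
open Red

namespace Groth.Agent.S8360

open MonoidalCategory CartesianMonoidalCategory GrpObj

/-- Over the affine base S = Spec R with S₀ = Spec (R/I) for a nilpotent ideal I, for a commutative
group M, the diagonalisable group D(M) = Spec R[M] over S and a group scheme X smooth over S, every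
homomorphism of S₀-group schemes from D(M) ×_S S₀ to X ×_S S₀ is the base change of a homomorphism
of S-group schemes from D(M) to X. -/
theorem result (R : Type u) [CommRing R] (I : Ideal R)
    (hI : IsNilpotent I) (M : Type) [AddCommGroup M] (X : Over (Spec (CommRingCat.of R))) [GrpObj X]
    [Smooth X.hom]
    (f₀ : Red.bc (Spec.map (CommRingCat.ofHom (Ideal.Quotient.mk I))) (Red.diag R M) ⟶ Red.bc (Spec.map (CommRingCat.ofHom (Ideal.Quotient.mk I))) X) [IsMonHom f₀] :
    ∃ f : Red.diag R M ⟶ X, IsMonHom f ∧ (Over.pullback (Spec.map (CommRingCat.ofHom (Ideal.Quotient.mk I)))).map f = f₀ := by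
  let S := Spec (CommRingCat.of R)
  let π : Spec (CommRingCat.of (R ⧸ I)) ⟶ S := Spec.map (CommRingCat.ofHom (Ideal.Quotient.mk I))
  let K : Over S := Red.diag R M
  -- the diagonalisable group is of multiplicative type
  obtain ⟨ψ, hψ⟩ := Groth.Agent.RedPts82.Hopf.exists_coord_DS R M
  have hK : Groth.Agent.RedPts82.IsMultType K := by
    refine ⟨S, 𝟙 S, inferInstance, inferInstance, fun V hV => ⟨V, hV.isCompact, by simp⟩,
      fun s => ⟨⊤, trivial, M, inferInstance, ?_⟩⟩
    obtain ⟨a, ha, hi, -⟩ := Groth.Agent.RedPts82.exists_ds_bc ((⊤ : S.Opens).ι ≫ 𝟙 S) M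
    haveI : IsMonHom (show K ⟶ Red.DS S M from ψ.hom) := hψ
    exact ⟨(Over.pullback ((⊤ : S.Opens).ι ≫ 𝟙 S)).mapGrp.mapIso (Grp.mkIso' (G := K) (H := Red.DS S M) ψ) ≪≫
      (Grp.mkIso' (asIso a)).symm⟩
  obtain ⟨_, J', -, hnil, ⟨e⟩⟩ := Groth.Agent.RedPts82.exists_base_red I
  let f₀' : Groth.Agent.RedPts82.redObj (𝟙_ (Over S)) J' ⊗ K ⟶ X :=
    lift (snd _ _) (fst _ _ ≫ e.inv) ≫ Groth.Agent.RedPts82.HomFF.famOf π f₀
  have hl : ∀ (Z : Over S) (z : Z ⟶ Groth.Agent.RedPts82.redObj (𝟙_ (Over S)) J') (k : Z ⟶ K),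
      lift z k ≫ f₀' = lift k (z ≫ e.inv) ≫ Groth.Agent.RedPts82.HomFF.famOf π f₀ := fun Z z k => by
    simp only [f₀', comp_lift_assoc, lift_snd, lift_fst_assoc]
  have hfam := Groth.Agent.RedPts82.HomFF.isHomFamily_famOf π f₀
  obtain ⟨F, hF, hFm⟩ := Groth.Agent.RedPts82.exists_hom_lift hK (𝟙_ (Over S)) (hnil hI) f₀'
    (fun Z z k k' => by rw [hl, hl, hl]; exact hfam Z k k' _)
  refine ⟨lift (toUnit K) (𝟙 K) ≫ F, Groth.Agent.RedPts82.isMonHom_of_relMul hFm,
    Groth.Agent.RedPts82.toBase_injective π ?_⟩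
  rw [← Category.id_comp ((Over.pullback π).map _), Groth.Agent.RedPts82.toBase_comp_map]
  conv_rhs => rw [← Category.id_comp f₀, Groth.Agent.RedPts82.HomFF.toBase_comp_eq]
  rw [comp_lift_assoc, Category.comp_id]
  rw [show Groth.Agent.RedPts82.HomFF.strPt π (Red.bc π K) =
      (Groth.Agent.RedPts82.HomFF.strPt π (Red.bc π K) ≫ e.hom) ≫ e.inv by simp, ← hl, ← hF,
    lift_whiskerRight_assoc]
  exact congrArg (fun w => lift w _ ≫ F) (toUnit_unique _ _)

end Groth.Agent.S8360
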