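import Groth.Statements.S8364
import Mathlib.RingTheory.Smooth.Basic

set_option autoImplicit false
universe u
open SGA3

namespace Groth.Agent.S8364

/-- For a commutative ring R, an ideal J of R of square zero, a smooth R-algebra A and the extended
ideal I = J·A, every R-algebra automorphism of A/I lifts to an R-algebra automorphism of A. (The
published statement concerns the automorphism functor of a smooth affine S-scheme E and affine test
schemes Y; this row is the case Y = S = Spec R, E = Spec A, which gives the general one after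
replacing R by the ring of Y.) -/
theorem result (R A : Type u) [CommRing R] [CommRing A] [Algebra R A]
    [Algebra.Smooth R A] (J : Ideal R) (hJ : J * J = ⊥)
    (φ₀ : (A ⧸ Ideal.map (algebraMap R A) J) ≃ₐ[R] (A ⧸ Ideal.map (algebraMap R A) J)) :
    ∃ φ : A ≃ₐ[R] A,
      (Ideal.Quotient.mkₐ R (Ideal.map (algebraMap R A) J)).comp φ.toAlgHom =
        φ₀.toAlgHom.comp (Ideal.Quotient.mkₐ R (Ideal.map (algebraMap R A) J)) := by
  let I := Ideal.map (algebraMap R A) J
  have hI : I * I = ⊥ := by
    change Ideal.map _ J * Ideal.map _ J = ⊥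
    rw [← Ideal.map_mul, hJ, Ideal.map_bot]
  have hnil : IsNilpotent I := ⟨2, by rw [pow_two, hI]; rfl⟩
  obtain ⟨ψ, hψ⟩ := Algebra.FormallySmooth.exists_lift I hnil (φ₀.toAlgHom.comp (Ideal.Quotient.mkₐ R I))
  obtain ⟨χ, hχ⟩ := Algebra.FormallySmooth.exists_lift I hnil (φ₀.symm.toAlgHom.comp (Ideal.Quotient.mkₐ R I))
  have key : ∀ u : A →ₐ[R] A, (∀ a, u a - a ∈ I) → Function.Bijective u := by
    intro u hu
    have hd : ∀ x ∈ I, u x - x = 0 := by
      intro x hx
      induction hx using Submodule.span_induction with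
      | mem y hy =>
        obtain ⟨j, -, rfl⟩ := hy
        simp
      | zero => simp
      | add a b _ _ ha hb => rw [map_add, add_sub_add_comm, ha, hb, add_zero]
      | smul c a ha' ha =>
        rw [sub_eq_zero] at ha
        have h2 : (u c - c) * a = 0 := by
          have := Ideal.mul_mem_mul (hu c) (show a ∈ I from ha')
          rwa [hI, Ideal.mem_bot] at this
        rw [smul_eq_mul, map_mul, ha, ← sub_mul, h2]
    refine ⟨fun a b h => ?_, fun b => ⟨b - (u b - b), ?_⟩⟩
    · have h1 : u (a - b) = 0 := by rw [map_sub, h, sub_self]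
      have h2 : a - b ∈ I := by
        have := hu (a - b)
        rw [h1, zero_sub] at this
        exact neg_mem_iff.1 this
      have h3 := hd _ h2
      rw [h1, zero_sub, neg_eq_zero] at h3
      exact sub_eq_zero.1 h3
    · have h3 := hd _ (hu b)
      rw [sub_eq_zero] at h3
      rw [map_sub, h3]
      ring
  have hψ' : ∀ a, Ideal.Quotient.mk I (ψ a) = φ₀ (Ideal.Quotient.mk I a) := fun a => AlgHom.congr_fun hψ a
  have hχ' : ∀ a, Ideal.Quotient.mk I (χ a) = φ₀.symm (Ideal.Quotient.mk I a) := fun a => AlgHom.congr_fun hχ a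
  have h1 := key (ψ.comp χ) fun a => by
    rw [← Ideal.Quotient.eq, AlgHom.comp_apply, hψ', hχ']
    exact φ₀.apply_symm_apply _
  have h2 := key (χ.comp ψ) fun a => by
    rw [← Ideal.Quotient.eq, AlgHom.comp_apply, hχ', hψ']
    exact φ₀.symm_apply_apply _
  have hb : Function.Bijective ψ := by
    rw [AlgHom.coe_comp] at h1 h2
    exact ⟨h2.1.of_comp, h1.2.of_comp⟩
  exact ⟨AlgEquiv.ofBijective ψ hb, hψ⟩

end Groth.Agent.S8364
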