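import Groth.Statements.S8366
import Groth.Agent.CAlg6.NilIso
-- import your own Groth.Agent.* helpers here

set_option autoImplicit false
universe u
open CategoryTheory MonoidalCategory MonObj AlgebraicGeometry
open SGA3

namespace Groth.Agent.S8366

/-- Over an affine base S = Spec R with S₀ = Spec (R/I) for a nilpotent ideal I: let X be an S-scheme
which is flat and either quasi-compact or locally of finite presentation over S, and P : X ×_S X → X
a composition law. If P is associative and its base change to S₀ is the multiplication of some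
group-scheme structure on X ×_S S₀, then P is the multiplication of a group-scheme structure on X.
(The published statement is over an arbitrary base scheme with S₀ defined by a nilpotent
quasi-coherent ideal; this row is its case of an affine base.) -/
theorem result (R : Type u) [CommRing R] (I : Ideal R)
    (hI : IsNilpotent I) (X : Over (Spec (CommRingCat.of R))) [Flat X.hom]
    (hX : QuasiCompact X.hom ∨ LocallyOfFinitePresentation X.hom) (P : X ⊗ X ⟶ X)
    (hassoc : (P ▷ X) ≫ P = (α_ X X X).hom ≫ (X ◁ P) ≫ P)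
    (h0 : ∃ _ : GrpObj ((Over.pullback (Spec.map (CommRingCat.ofHom (Ideal.Quotient.mk I)))).obj X),
      μ[(Over.pullback (Spec.map (CommRingCat.ofHom (Ideal.Quotient.mk I)))).obj X] =
        Functor.LaxMonoidal.μ (Over.pullback (Spec.map (CommRingCat.ofHom (Ideal.Quotient.mk I)))) X X ≫ (Over.pullback (Spec.map (CommRingCat.ofHom (Ideal.Quotient.mk I)))).map P) :
    ∃ _ : GrpObj X, μ[X] = P := by
  open Groth.Agent.CAlg6 CategoryTheory.Limits CartesianMonoidalCategory in
  let q := Spec.map (CommRingCat.ofHom (algebraMap R (R ⧸ I)))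
  let F := Over.pullback q
  obtain ⟨g0, hμ⟩ := h0
  letI : GrpObj (F.obj X) := g0
  haveI : Flat (X ⊗ X).hom := by
    show Flat (pullback.fst X.hom X.hom ≫ X.hom)
    haveI : Flat (pullback.fst X.hom X.hom) := MorphismProperty.pullback_fst (P := @Flat) _ _ ‹_›
    infer_instance
  let l : X ⊗ X ⟶ X ⊗ X := lift (fst X X) P
  let r : X ⊗ X ⟶ X ⊗ X := lift P (snd X X)
  let e := Functor.Monoidal.μIso F X X
  have hfst : e.hom ≫ F.map (fst X X) = fst (F.obj X) (F.obj X) := Functor.Monoidal.μ_fst F X X
  have hsnd : e.hom ≫ F.map (snd X X) = snd (F.obj X) (F.obj X) := Functor.Monoidal.μ_snd F X X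
  have hP : e.hom ≫ F.map P = fst (F.obj X) (F.obj X) * snd (F.obj X) (F.obj X) := by
    rw [← MonObj.mul_eq_mul]; exact hμ.symm
  haveI : IsIso (F.map l) := by
    have : IsIso (e.hom ≫ F.map l ≫ e.inv) := by
      have he : e.hom ≫ F.map l ≫ e.inv = lift (fst (F.obj X) (F.obj X)) (fst _ _ * snd _ _) := by
        rw [← Category.assoc, Iso.comp_inv_eq]
        have h1 : ∀ {Z : Over (Spec (CommRingCat.of (R ⧸ I)))} (u v : Z ⟶ F.obj (X ⊗ X)),
            u ≫ F.map (fst X X) = v ≫ F.map (fst X X) → u ≫ F.map (snd X X) = v ≫ F.map (snd X X) → u = v := by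
          intro Z u v a b
          rw [← cancel_mono e.inv]
          apply CartesianMonoidalCategory.hom_ext
          · simp only [Category.assoc, ← hfst, Iso.inv_hom_id_assoc]; exact a
          · simp only [Category.assoc, ← hsnd, Iso.inv_hom_id_assoc]; exact b
        apply h1
        · simp only [Category.assoc, hfst, ← F.map_comp, l, lift_fst]
        · simp only [Category.assoc, hsnd, ← F.map_comp, l, lift_snd, hP]
      rw [he]
      refine ⟨lift (fst _ _) ((fst (F.obj X) (F.obj X))⁻¹ * snd _ _), ?_, ?_⟩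
      · apply CartesianMonoidalCategory.hom_ext <;>
          simp [MonObj.comp_mul, GrpObj.comp_inv]
      · apply CartesianMonoidalCategory.hom_ext <;>
          simp [MonObj.comp_mul, GrpObj.comp_inv]
    have e2 : F.map l = e.inv ≫ (e.hom ≫ F.map l ≫ e.inv) ≫ e.hom := by simp
    rw [e2]; infer_instance
  haveI : IsIso (F.map r) := by
    have : IsIso (e.hom ≫ F.map r ≫ e.inv) := by
      have he : e.hom ≫ F.map r ≫ e.inv = lift (fst (F.obj X) (F.obj X) * snd _ _) (snd _ _) := by
        rw [← Category.assoc, Iso.comp_inv_eq]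
        have h1 : ∀ {Z : Over (Spec (CommRingCat.of (R ⧸ I)))} (u v : Z ⟶ F.obj (X ⊗ X)),
            u ≫ F.map (fst X X) = v ≫ F.map (fst X X) → u ≫ F.map (snd X X) = v ≫ F.map (snd X X) → u = v := by
          intro Z u v a b
          rw [← cancel_mono e.inv]
          apply CartesianMonoidalCategory.hom_ext
          · simp only [Category.assoc, ← hfst, Iso.inv_hom_id_assoc]; exact a
          · simp only [Category.assoc, ← hsnd, Iso.inv_hom_id_assoc]; exact b
        apply h1
        · simp only [Category.assoc, hfst, ← F.map_comp, r, lift_fst, hP]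
        · simp only [Category.assoc, hsnd, ← F.map_comp, r, lift_snd]
      rw [he]
      refine ⟨lift (fst (F.obj X) (F.obj X) * (snd _ _)⁻¹) (snd _ _), ?_, ?_⟩
      · apply CartesianMonoidalCategory.hom_ext <;>
          simp [MonObj.comp_mul, GrpObj.comp_inv]
      · apply CartesianMonoidalCategory.hom_ext <;>
          simp [MonObj.comp_mul, GrpObj.comp_inv]
    have e2 : F.map r = e.inv ≫ (e.hom ≫ F.map r ≫ e.inv) ≫ e.hom := by simp
    rw [e2]; infer_instance
  haveI : IsIso l := NilIso.isIso_of_flat I hI l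
  haveI : IsIso r := NilIso.isIso_of_flat I hI r
  -- the semigroups of points
  let m : ∀ {T : Over (Spec (CommRingCat.of R))}, (T ⟶ X) → (T ⟶ X) → (T ⟶ X) := fun a b => lift a b ≫ P
  have massoc : ∀ {T : Over (Spec (CommRingCat.of R))} (a b c : T ⟶ X), m (m a b) c = m a (m b c) := fun a b c => by
    simpa [m, lift_whiskerRight, lift_whiskerLeft, lift_lift_associator_hom_assoc] using
      congrArg (fun z => lift (lift a b) c ≫ z) hassoc
  let d : ∀ {T : Over (Spec (CommRingCat.of R))}, (T ⟶ X) → (T ⟶ X) → (T ⟶ X) := fun a b => lift a b ≫ inv l ≫ snd X X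
  have hfi : inv l ≫ fst X X = fst X X := by rw [IsIso.inv_comp_eq]; exact (lift_fst _ _).symm
  have md : ∀ {T : Over (Spec (CommRingCat.of R))} (a b : T ⟶ X), m a (d a b) = b := fun a b => by
    have h1 : lift a (d a b) = lift a b ≫ inv l := by
      apply CartesianMonoidalCategory.hom_ext
      · rw [lift_fst, Category.assoc, hfi, lift_fst]
      · rw [lift_snd, Category.assoc]
    show lift a (d a b) ≫ P = b
    rw [h1, show P = l ≫ snd X X from (lift_snd _ _).symm, Category.assoc, IsIso.inv_hom_id_assoc, lift_snd]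
  have lc : ∀ {T : Over (Spec (CommRingCat.of R))} (a b c : T ⟶ X), m a b = m a c → b = c := fun a b c h => by
    have h1 : lift a b ≫ l = lift a c ≫ l := by
      apply CartesianMonoidalCategory.hom_ext
      · simp only [Category.assoc, l, lift_fst]
      · simp only [Category.assoc, l, lift_snd]; exact h
    have := congrArg (· ≫ snd X X) ((cancel_mono l).1 h1)
    simpa using this
  have rc : ∀ {T : Over (Spec (CommRingCat.of R))} (a b c : T ⟶ X), m b a = m c a → b = c := fun a b c h => by
    have h1 : lift b a ≫ r = lift c a ≫ r := by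
      apply CartesianMonoidalCategory.hom_ext
      · simp only [Category.assoc, r, lift_fst]; exact h
      · simp only [Category.assoc, r, lift_snd]
    have := congrArg (· ≫ fst X X) ((cancel_mono r).1 h1)
    simpa using this
  have le : ∀ {T : Over (Spec (CommRingCat.of R))} (a x : T ⟶ X), m (d a a) x = x := fun a x =>
    lc a _ _ (by rw [← massoc, md])
  have re : ∀ {T : Over (Spec (CommRingCat.of R))} (a x : T ⟶ X), m x (d a a) = x := fun a x =>
    rc a _ _ (by rw [massoc, le])
  have eu : ∀ {T : Over (Spec (CommRingCat.of R))} (a b : T ⟶ X), d a a = d b b := fun a b =>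
    (re b (d a a)).symm.trans (le a (d b b))
  -- descent of the unit
  haveI : Surjective q := ⟨fun p => by
    show p ∈ Set.range (PrimeSpectrum.comap (Ideal.Quotient.mk I))
    rw [range_comap_of_surjective _ _ Ideal.Quotient.mk_surjective, Ideal.mk_ker]
    intro x hx
    obtain ⟨n, hn⟩ := hI
    have : x ^ n ∈ I ^ n := Ideal.pow_mem_pow hx n
    rw [hn] at this
    exact (PrimeSpectrum.isPrime p).mem_of_pow_mem n (by
      rw [show x ^ n = 0 from this]; exact zero_mem _)⟩
  haveI : Surjective X.hom := ⟨fun s => by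
    obtain ⟨s₀, rfl⟩ := q.surjective s
    refine ⟨pullback.fst X.hom q ((η[F.obj X] : 𝟙_ _ ⟶ F.obj X).left s₀), ?_⟩
    rw [← Scheme.Hom.comp_apply, pullback.condition, Scheme.Hom.comp_apply]
    congr 1
    exact congr($(Over.w η[F.obj X]) s₀)⟩
  haveI : EffectiveEpi X.hom := by
    rcases hX with h | h <;> infer_instance
  let eX : X ⟶ X := d (𝟙 X) (𝟙 X)
  have nat : ∀ {T : Over (Spec (CommRingCat.of R))} (a : T ⟶ X), a ≫ eX = d a a := fun a => by
    simp only [eX, d, ← Category.assoc, comp_lift, Category.comp_id]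
  have hd : ∀ {Z : Scheme.{u}} (g₁ g₂ : Z ⟶ X.left), g₁ ≫ X.hom = g₂ ≫ X.hom → g₁ ≫ eX.left = g₂ ≫ eX.left := by
    intro Z g₁ g₂ h
    let T : Over (Spec (CommRingCat.of R)) := Over.mk (g₁ ≫ X.hom)
    let a : T ⟶ X := Over.homMk g₁ rfl
    let b : T ⟶ X := Over.homMk g₂ h.symm
    have := congrArg Over.Hom.left ((nat a).trans ((eu a b).trans (nat b).symm))
    simpa [a, b] using this
  let e₀ : Spec (CommRingCat.of R) ⟶ X.left := EffectiveEpi.desc X.hom eX.left hd
  let one : 𝟙_ (Over (Spec (CommRingCat.of R))) ⟶ X := Over.homMk e₀ (by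
    show e₀ ≫ X.hom = 𝟙 _
    rw [← cancel_epi X.hom, EffectiveEpi.fac_assoc, Over.w, Category.comp_id])
  have hone : ∀ {T : Over (Spec (CommRingCat.of R))} (a : T ⟶ X), toUnit T ≫ one = d a a := fun a => by
    rw [← nat]
    apply Over.OverMorphism.ext
    rw [Over.comp_left, Over.comp_left, Over.toUnit_left]
    show _ ≫ e₀ = _
    rw [← Over.w a, Category.assoc, EffectiveEpi.fac]
  let iv : X ⟶ X := d (𝟙 X) (toUnit X ≫ one)
  refine ⟨{ one := one, mul := P, inv := iv,
            one_mul := ?_, mul_one := ?_, mul_assoc := hassoc, left_inv := ?_, right_inv := ?_ }, rfl⟩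
  · have h1 : (one ▷ X) = lift (fst (𝟙_ _) X ≫ one) (snd _ _) := by
      apply CartesianMonoidalCategory.hom_ext <;> simp
    rw [h1, leftUnitor_hom, toUnit_unique (fst (𝟙_ _) X) (toUnit _), hone (snd (𝟙_ _) X)]
    exact le (snd (𝟙_ _) X) (snd (𝟙_ _) X)
  · have h1 : (X ◁ one) = lift (fst X (𝟙_ _)) (snd _ _ ≫ one) := by
      apply CartesianMonoidalCategory.hom_ext <;> simp
    rw [h1, rightUnitor_hom, toUnit_unique (snd X (𝟙_ _)) (toUnit _), hone (fst X (𝟙_ _))]
    exact re (fst X (𝟙_ _)) (fst X (𝟙_ _))
  · refine lc (𝟙 X) _ _ ?_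
    show m (𝟙 X) (m iv (𝟙 X)) = _
    rw [← massoc, show m (𝟙 X) iv = toUnit X ≫ one from md _ _, hone (𝟙 X), le, re]
  · exact md _ _

end Groth.Agent.S8366
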