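import Groth.Statements.S8905
import Groth.Agent.Div89.KoszulH1

set_option autoImplicit false
universe u
open CategoryTheory CategoryTheory.Limits AlgebraicGeometry TopologicalSpace
open SDiv

namespace Groth.Agent.S8905

/-- Let i : Z ⟶ X be an immersion of schemes. If i is a regular immersion then it is Koszul-regular; if
Koszul-regular then H_1-regular; if H_1-regular then quasi-regular. -/
theorem result {Z X : Scheme.{u}} (i : Z ⟶ X) :
    (RegImm.IsRegularImmersion RegImm.Kind.regular i → RegImm.IsRegularImmersion RegImm.Kind.koszul i) ∧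
      (RegImm.IsRegularImmersion RegImm.Kind.koszul i → RegImm.IsRegularImmersion RegImm.Kind.h1 i) ∧
      (RegImm.IsRegularImmersion RegImm.Kind.h1 i → RegImm.IsRegularImmersion RegImm.Kind.quasi i) := by
  have key : ∀ k k' : RegImm.Kind, (∀ (R : Type u) [CommRing R] (rs : List R), k.Seq R rs → k'.Seq R rs) →
      RegImm.IsRegularImmersion k i → RegImm.IsRegularImmersion k' i := fun k k' h hi =>
    ⟨hi.1, fun z => by
      obtain ⟨U, hU, hc, rs, hrs, hker⟩ := hi.2 z
      exact ⟨U, hU, hc, rs, h _ rs hrs, hker⟩⟩
  exact ⟨key _ _ fun R _ rs => (Groth.Agent.Div89.seq_implications rs).1,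
    key _ _ fun R _ rs => (Groth.Agent.Div89.seq_implications rs).2.1,
    key _ _ fun R _ rs => (Groth.Agent.Div89.seq_implications rs).2.2⟩

end Groth.Agent.S8905
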