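import Groth.Statements.S8367
import Groth.Agent.S9758
import Groth.Agent.S8656
import Groth.Agent.S2890
import Groth.Agent.S5003
import Groth.Agent.S8905
import Groth.Agent.GrpSch58.GrpLci
import Groth.Agent.CAlg6.GrpWordBC
-- import your own Groth.Agent.* helpers here

set_option autoImplicit false
universe u
open CategoryTheory MonObj AlgebraicGeometry
open SGA3

namespace Groth.Agent.S8367

/-- For a scheme S, a group scheme X smooth over S and a sub-group-scheme Y of X (a homomorphism of
S-group schemes from Y to X which is an immersion) with Y flat and locally of finite presentation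
over S, the immersion of Y in X is regular: each point of Y has an affine open neighbourhood in X
over which the immersion is closed and cut out by a regular sequence. (The published statement
concludes that Y is a local complete intersection in X, in the Koszul sense; this row states the
stronger conclusion that the immersion is regular, which is what the printed proof establishes.) -/
theorem result (S : Scheme.{u}) (X Y : Over S) [GrpObj X] [GrpObj Y]
    [Smooth X.hom] [Flat Y.hom] [LocallyOfFinitePresentation Y.hom] (i : Y ⟶ X) [IsMonHom i]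
    [IsImmersion i.left] :
    RegImm.IsRegularImmersion .regular i.left := by
  open Groth.Agent CategoryTheory.Limits in
  refine ⟨‹_›, fun y => ?_⟩
  let u := i.left.liftCoborder
  let W := i.left.coborderRange
  let g : W.toScheme ⟶ S := W.ι ≫ X.hom
  have hu : u ≫ W.ι = i.left := i.left.liftCoborder_ι
  have hug : u ≫ g = Y.hom := by rw [← Category.assoc, hu, Over.w]
  haveI : Smooth g := inferInstance
  haveI : LocallyOfFinitePresentation g := inferInstance
  haveI : LocallyOfFinitePresentation (u ≫ g) := by rw [hug]; infer_instance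
  haveI : Flat (u ≫ g) := by rw [hug]; infer_instance
  have hfib : ∀ s : S, Mor2.IsRegularClosedImmersion (CInt.fiberMap u g s) := fun s => by
    let t := S.fromSpecResidueField s
    let us : pullback (u ≫ g) t ⟶ pullback g t := CInt.fiberMap u g s
    let Yk : Over (Spec (CommRingCat.of (S.residueField s))) := Red.bc t Y
    letI : GrpObj Yk := CAlg6.GrpWord.bcGrp t
    haveI : LocallyOfFiniteType Yk.hom := MorphismProperty.pullback_snd (P := @LocallyOfFiniteType) _ _ inferInstance
    have hsyn : Synt.IsSyntomicMor Yk.hom := GrpSch58.isSyntomicMor_of_field Yk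
    have hsyn' : Synt.IsSyntomicMor (pullback.snd (u ≫ g) t) := by rw [hug]; exact hsyn
    have hk := ((Groth.Agent.S9758.result _).2 hsyn').2
    have hcomp : us ≫ pullback.snd g t = pullback.snd (u ≫ g) t :=
      (pullback.lift_snd _ _ _).trans (Category.comp_id _)
    have hpb : IsPullback us (pullback.fst (u ≫ g) t) (pullback.fst g t) u := by
      refine IsPullback.of_right ?_ ((pullback.lift_fst _ _ _)) (IsPullback.of_hasPullback g t).flip
      show IsPullback (us ≫ pullback.snd g t) _ _ _
      rw [hcomp]
      exact (IsPullback.of_hasPullback _ _).flip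
    haveI : IsClosedImmersion us := MorphismProperty.of_isPullback hpb.flip inferInstance
    haveI : Smooth (pullback.snd g t) := MorphismProperty.pullback_snd (P := @Smooth) _ _ ‹_›
    haveI : IsImmersion us := ⟨us.isClosedEmbedding.isClosed_range.isLocallyClosed⟩
    haveI : LocallyOfFiniteType (pullback.snd g t) := MorphismProperty.pullback_snd (P := @LocallyOfFiniteType) _ _ inferInstance
    have hK := Groth.Agent.S8656.result _ hk (pullback.snd g t) us hcomp
    haveI : IsLocallyNoetherian (pullback g t) := LocallyOfFiniteType.isLocallyNoetherian (pullback.snd g t)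
    have hR := (Groth.Agent.S5003.result us).2
      ((Groth.Agent.S8905.result us).2.2 ((Groth.Agent.S8905.result us).2.1 hK))
    refine ⟨‹_›, fun z => ?_⟩
    obtain ⟨U, hzU, -, rs, hrs, hker⟩ := hR.2 z
    exact ⟨U.1, U.2, hzU, rs, hrs, (Scheme.Hom.ker_apply us U).trans hker⟩
  obtain ⟨-, hreg⟩ := (Groth.Agent.S2890.result u g).2 ⟨fun y' => Flat.stalkMap g (u y'), ‹_›, hfib⟩
  obtain ⟨U, hU, hyU, rs, hrs, hker⟩ := hreg.2 y
  let U' : X.left.Opens := W.ι ''ᵁ U
  have hU' : IsAffineOpen U' := hU.image_of_isOpenImmersion W.ι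
  have hpre : i.left ⁻¹ᵁ U' = u ⁻¹ᵁ U := by
    refine (congrArg (fun f : Y.left ⟶ X.left => f ⁻¹ᵁ U') hu.symm).trans ?_
    rw [Scheme.Hom.comp_preimage, Scheme.Hom.preimage_image_eq]
  refine ⟨⟨U', hU'⟩, ?_, ?_, rs.map (W.ι.appIso U).inv.hom, ?_, ?_⟩
  · show i.left y ∈ (W.ι '' (U : Set W.toScheme) : Set X.left)
    exact ⟨u y, hyU, by rw [← Scheme.Hom.comp_apply, hu]⟩
  · refine IsClosedImmersion.of_isPreimmersion _ ?_
    have hrange : Set.range (i.left ∣_ U') = U'.ι ⁻¹' Set.range i.left := by
      ext z
      constructor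
      · rintro ⟨w, rfl⟩; exact ⟨(i.left ⁻¹ᵁ U').ι w, congr($((morphismRestrict_ι i.left U').symm) w)⟩
      · rintro ⟨w, hw⟩
        refine ⟨⟨w, ?_⟩, U'.ι.isOpenEmbedding.injective ?_⟩
        · show i.left w ∈ (U' : Set X.left)
          exact (congrArg (fun p => p ∈ (U' : Set X.left)) hw).mpr z.2
        · exact congr($(morphismRestrict_ι i.left U') ⟨w, _⟩).trans hw
    rw [hrange]
    refine isClosed_induced_iff.2 ⟨closure (Set.range i.left), isClosed_closure, Set.ext fun z => ?_⟩
    refine ⟨fun hz => ?_, fun hz => subset_closure hz⟩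
    obtain ⟨v, -, hv⟩ := z.2
    have hzW : (z.1 : X.left) ∈ coborder (Set.range i.left) := hv ▸ v.2
    have : (z.1 : X.left) ∈ coborder (Set.range i.left) ∩ closure (Set.range i.left) := ⟨hzW, hz⟩
    rwa [coborder_inter_closure] at this
  · let e : Γ(W.toScheme, U) ≃+* Γ(X.left, U') := (W.ι.appIso U).symm.commRingCatIsoToRingEquiv
    exact (e.toAddEquiv.isRegular_congr (as := rs) (bs := rs.map (W.ι.appIso U).inv.hom)
      (List.forall₂_map_right_iff.2 (List.forall₂_same.2 fun r _ x => map_mul e r x))).1 hrs
  · have happ : i.left.app U' ≫ Y.left.presheaf.map (eqToHom hpre.symm).op =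
        (W.ι.appIso U).hom ≫ u.app U := by
      have aux : ∀ (f : Y.left ⟶ X.left), f = u ≫ W.ι → ∀ e,
          Scheme.Hom.appLE f U' (u ⁻¹ᵁ U) e = (W.ι.appIso U).hom ≫ u.app U := by
        rintro f rfl e
        rw [Scheme.Hom.appIso_hom', Scheme.Hom.app_eq_appLE, Scheme.Hom.appLE_comp_appLE]
      rw [Scheme.Hom.app_eq_appLE, Scheme.Hom.appLE_map]
      exact aux i.left hu.symm _
    ext r
    have h1 : r ∈ RingHom.ker (i.left.app U').hom ↔ r ∈ RingHom.ker ((W.ι.appIso U).hom ≫ u.app U).hom := by
      rw [← happ]
      simp only [RingHom.mem_ker, CommRingCat.comp_apply]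
      exact ⟨fun h => by rw [h, map_zero], fun h => (injective_iff_map_eq_zero _).1
        (ConcreteCategory.bijective_of_isIso (Y.left.presheaf.map (eqToHom hpre.symm).op)).1 _ h⟩
    rw [h1, RingHom.mem_ker, CommRingCat.comp_apply]
    have h2 : (W.ι.appIso U).hom.hom r ∈ Ideal.ofList rs ↔ (u.app U).hom ((W.ι.appIso U).hom.hom r) = 0 := by
      rw [← hker, Scheme.Hom.ker_apply u ⟨U, hU⟩]; rfl
    refine h2.symm.trans ?_
    rw [← Ideal.map_ofList]
    constructor
    · intro h
      have := Ideal.mem_map_of_mem (W.ι.appIso U).inv.hom h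
      rwa [← CommRingCat.comp_apply, Iso.hom_inv_id] at this
    · intro h
      have := Ideal.mem_map_of_mem (W.ι.appIso U).hom.hom h
      rwa [Ideal.map_map, ← CommRingCat.hom_comp, Iso.inv_hom_id, CommRingCat.hom_id, Ideal.map_id] at this

end Groth.Agent.S8367
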