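import Groth.Statements.S8369
import Mathlib.RingTheory.Smooth.Quotient

set_option autoImplicit false
universe u v
open SGA3

namespace Groth.Agent.S8369

theorem result (A : Type u) [CommRing A] (J : Ideal A) (hJ : IsNilpotent J)
    (M : Type v) [AddCommGroup M] [Module A M] (N : Submodule A M) [Module.Flat A (M ⧸ N)] (s : Set M)
    (hs : s ⊆ N)
    (hgen : (Submodule.span A s).map (J • (⊤ : Submodule A M)).mkQ = N.map (J • (⊤ : Submodule A M)).mkQ) :
    Submodule.span A s = N := by
  have hP : Submodule.span A s ≤ N := Submodule.span_le.2 hs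
  have key := LinearMap.ker_inf_smul_top_eq_smul_of_flat J N.mkQ (Submodule.mkQ_surjective N)
  rw [Submodule.ker_mkQ] at key
  have h1 : N ≤ Submodule.span A s ⊔ J • N := by
    intro x hx
    obtain ⟨p, hp, hpx⟩ : (J • (⊤ : Submodule A M)).mkQ x ∈
        (Submodule.span A s).map (J • (⊤ : Submodule A M)).mkQ := hgen ▸ Submodule.mem_map_of_mem hx
    have hd : x - p ∈ J • (⊤ : Submodule A M) :=
      (Submodule.Quotient.eq _).1 hpx.symm
    have : x - p ∈ J • N := key ▸ ⟨N.sub_mem hx (hP hp), hd⟩
    exact Submodule.mem_sup.2 ⟨p, hp, x - p, this, add_sub_cancel p x⟩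
  have h2 : ∀ n : ℕ, N ≤ Submodule.span A s ⊔ (J ^ n) • N := by
    intro n
    induction n with
    | zero => simp
    | succ n ih =>
      refine ih.trans (sup_le le_sup_left ?_)
      refine (smul_mono_right (J ^ n) h1).trans ?_
      rw [Submodule.smul_sup, pow_succ, Submodule.mul_smul]
      exact sup_le_sup Submodule.smul_le_right le_rfl
  obtain ⟨n, hn⟩ := hJ
  refine le_antisymm hP ?_
  have := h2 n
  simpa [hn] using this

end Groth.Agent.S8369
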