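import Groth.Statements.S8370
import Groth.Agent.LieS93.Cent
-- import your own Groth.Agent.* helpers here

set_option autoImplicit false
universe u
open CategoryTheory MonObj AlgebraicGeometry
open LieS

namespace Groth.Agent.S8370

/-- For a group scheme G over a scheme S (the group law of the Lie algebra functor of a group scheme is
commutative, which the published statement assumes), a sub-group-scheme K of G given by a
monomorphic homomorphism i, and an affine S-scheme T = Spec B: an element x of Lie(G/S)(T) belongs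
to the Lie algebra of the centraliser of K, i.e. the point x of G with values in the dual numbers
I_T commutes with every point of K with values in any scheme over I_T, if and only if x is fixed by
the adjoint action of every point of K with values in an affine scheme T' = Spec B' over T (acting
on the restriction of x to T'). -/
theorem result (S : Scheme.{u}) (G K : Over S) [GrpObj G] [GrpObj K] (i : K ⟶ G)
    [IsMonHom i] [Mono i] (B : Type u) [CommRing B] (f : Spec (CommRingCat.of B) ⟶ S) (x : LieS.Lie G B f) :
    (∀ (X' : Over S) (y : X' ⟶ LieS.dpt B f) (h : X' ⟶ K), (y ≫ x.1) * (h ≫ i) = (h ≫ i) * (y ≫ x.1)) ↔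
    (∀ (B' : Type u) [CommRing B'] (h : B →+* B')
      (k : LieS.pt B' (Spec.map (CommRingCat.ofHom h) ≫ f) ⟶ K),
      LieS.Ad G B' (Spec.map (CommRingCat.ofHom h) ≫ f) (k ≫ i) (LieS.pull G f h x) = LieS.pull G f h x) := by
  constructor
  · intro hX B' _ h k
    refine Subtype.ext ?_
    change (LieS.proj B' _ ≫ (k ≫ i)) * (LieS.dptMap f h ≫ x.1) * (LieS.proj B' _ ≫ (k ≫ i))⁻¹ = LieS.dptMap f h ≫ x.1
    have := hX _ (LieS.dptMap f h) (LieS.proj B' _ ≫ k)
    rw [Category.assoc] at this
    rw [← this, mul_inv_cancel_right]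
  · intro hA X' y g
    ext : 1
    refine X'.left.affineCover.hom_ext _ _ fun a => ?_
    obtain ⟨h, σ, jo, hjo, hσ, hy⟩ := Groth.Agent.LieS93.factor f (X'.left.affineCover.f a) y
    rw [← hjo]
    change (jo ≫ (y ≫ x.1 * g ≫ i)).left = (jo ≫ (g ≫ i * y ≫ x.1)).left
    congr 1
    have hc := congrArg Subtype.val (hA _ h (jo ≫ g))
    change (LieS.proj _ _ ≫ ((jo ≫ g) ≫ i)) * (LieS.dptMap f h ≫ x.1) * (LieS.proj _ _ ≫ ((jo ≫ g) ≫ i))⁻¹ =
      LieS.dptMap f h ≫ x.1 at hc
    rw [mul_inv_eq_iff_eq_mul] at hc
    have hc' := σ ≫= hc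
    simp only [MonObj.comp_mul, Category.assoc, reassoc_of% hσ, ← reassoc_of% hy] at hc'
    rw [MonObj.comp_mul, MonObj.comp_mul]
    exact hc'.symm

end Groth.Agent.S8370
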