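import Groth.Statements.S8373
import Groth.Agent.Unip38.LieRel

set_option autoImplicit false
universe u
open scoped TensorProduct
open SGA3t2b

namespace Groth.Agent.S8373

/-- Over an affine base Spec A: let L be a Lie algebra over A which is a finitely generated projective
A-module, H a Cartan subalgebra of L relative to A, a an element of H which is quasi-regular in L,
and u an automorphism of the Lie algebra L over A. Then u(H) = H if and only if u(a) ∈ H. -/
theorem result {A : Type u} [CommRing A] {L : Type u} [LieRing L]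
    [LieAlgebra A L] [Module.Finite A L] [Module.Projective A L]
    (H : LieSubalgebra A L) (hH : SGA3t2b.IsCartanRel H) (a : L) (haH : a ∈ H)
    (ha : SGA3t2b.IsQuasiRegular A L a) (u : L ≃ₗ⁅A⁆ L) :
    H.map u.toLieHom = H ↔ u a ∈ H := by
  refine ⟨fun h => h ▸ ⟨a, haH, rfl⟩, fun hu => ?_⟩
  have hb : SGA3t2b.IsQuasiRegular A L (u a) := fun p => by
    have h := (Unip38.isRegular_equiv (Unip38.bcEquiv p.asIdeal.ResidueField u)
      ((1 : p.asIdeal.ResidueField) ⊗ₜ[A] a)).mpr (ha p)
    rwa [Unip38.bcEquiv_tmul] at h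
  have h1 := Unip38.cartan_eq_engel ha H hH haH
  have h2 := Unip38.cartan_eq_engel hb H hH hu
  have e : ∀ (n : ℕ) (y : L), ((LieAlgebra.ad A L (u a)) ^ n) (u y) = u (((LieAlgebra.ad A L a) ^ n) y) := by
    intro n
    induction n with
    | zero => intro y; rfl
    | succ n ih =>
      intro y
      rw [pow_succ', pow_succ', Module.End.mul_apply, Module.End.mul_apply, ih,
        LieAlgebra.ad_apply, LieAlgebra.ad_apply, u.map_lie]
  ext z
  rw [h2]
  conv_lhs => rw [← h2, h1]
  constructor
  · rintro ⟨y, hy, rfl⟩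
    obtain ⟨n, hn⟩ := (LieSubalgebra.mem_engel_iff A a y).mp hy
    exact (LieSubalgebra.mem_engel_iff A _ _).mpr ⟨n, by
      show ((LieAlgebra.ad A L (u a)) ^ n) (u y) = 0
      rw [e, hn, map_zero]⟩
  · intro hz
    obtain ⟨n, hn⟩ := (LieSubalgebra.mem_engel_iff A _ z).mp hz
    refine ⟨u.symm z, (LieSubalgebra.mem_engel_iff A a _).mpr ⟨n, u.injective ?_⟩, u.apply_symm_apply z⟩
    show u (((LieAlgebra.ad A L a) ^ n) (u.symm z)) = u 0
    rw [← e, u.apply_symm_apply, hn]
    exact (map_zero u.toLinearEquiv).symm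

end Groth.Agent.S8373
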