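import Groth.Statements.S8383
import Mathlib

set_option autoImplicit false
universe u
open scoped TensorProduct
open SGA3t2b

namespace Groth.Agent.S8383

/-- Let k be a finite field with algebraic closure K, V a finite-dimensional vector space over k, and
θ₁, …, θₙ a basis of the dual of the K-vector space K ⊗ V. Then there is x ∈ V with θᵢ(1 ⊗ x) ≠ 0
for every i. -/
theorem result (k : Type u) [Field k] [Finite k]
    (V : Type u) [AddCommGroup V] [Module k V] [Module.Finite k V] {ι : Type} [Fintype ι]
    (θ : Module.Basis ι (AlgebraicClosure k) (Module.Dual (AlgebraicClosure k) (AlgebraicClosure k ⊗[k] V))) :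
    ∃ x : V, ∀ i : ι, θ i ((1 : AlgebraicClosure k) ⊗ₜ[k] x) ≠ 0 := by
  classical
  let K := AlgebraicClosure k
  let p := ringChar k
  obtain ⟨hp⟩ : Nonempty (Fact p.Prime) := ⟨⟨CharP.char_is_prime k p⟩⟩
  haveI : CharP K p := charP_of_injective_algebraMap (algebraMap k K).injective p
  let d := Module.finrank k V
  let v := Module.finBasis k V
  let bK := v.baseChange K
  let M : ι → Fin d → K := fun i j => θ i (bK j)
  let w : Module.Basis ι K (K ⊗[k] V) := θ.dualBasis.map (Module.evalEquiv K (K ⊗[k] V)).symm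
  have hw : ∀ i l, θ i (w l) = if l = i then 1 else 0 := fun i l => by
    have e : Module.evalEquiv K (K ⊗[k] V) (w l) = θ.dualBasis l := by simp [w]
    have h1 := LinearMap.congr_fun e (θ i)
    rw [Module.evalEquiv_apply, Module.Dual.eval_apply] at h1
    rw [h1, Module.Basis.dualBasis_apply_self]
    exact if_congr eq_comm rfl rfl
  have hMN : ∀ i l, ∑ j, M i j * bK.repr (w l) j = if l = i then 1 else 0 := fun i l => by
    rw [← hw i l]
    conv_rhs => rw [← bK.sum_repr (w l), map_sum]
    refine Finset.sum_congr rfl fun j _ => ?_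
    rw [LinearMap.map_smul, smul_eq_mul, mul_comm]
  let lf : ι → MvPolynomial (Fin d) K := fun i => ∑ j, MvPolynomial.C (M i j) * MvPolynomial.X j
  let φ : MvPolynomial (Fin d) K →ₐ[K] MvPolynomial ι K :=
    MvPolynomial.aeval fun j => ∑ l, MvPolynomial.C (bK.repr (w l) j) * MvPolynomial.X l
  have hφ : ∀ i, φ (lf i) = MvPolynomial.X i := fun i => by
    have h1 : ∀ j, φ (MvPolynomial.C (M i j) * MvPolynomial.X j) =
        ∑ l, MvPolynomial.C (M i j * bK.repr (w l) j) * MvPolynomial.X l := fun j => by
      simp only [φ, _root_.map_mul (MvPolynomial.aeval _), MvPolynomial.aeval_C, MvPolynomial.aeval_X,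
        Finset.mul_sum, MvPolynomial.algebraMap_eq]
      exact Finset.sum_congr rfl fun l _ => by rw [MvPolynomial.C_mul, mul_assoc]
    simp only [lf]
    rw [map_sum, Finset.sum_congr rfl fun j _ => h1 j, Finset.sum_comm]
    rw [Finset.sum_congr rfl fun l _ => show ∑ j, MvPolynomial.C (M i j * bK.repr (w l) j) * MvPolynomial.X l =
      (if l = i then 1 else 0 : MvPolynomial ι K) * MvPolynomial.X l by
        rw [← Finset.sum_mul, ← map_sum, hMN]; split_ifs <;> simp]
    simp
  have hcoef : ∃ e ∈ (∏ i, lf i).support, ∀ j, e j < p := by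
    by_contra hno
    push Not at hno
    have hP : (∏ i, lf i) ∈ Ideal.span ((fun s => MvPolynomial.monomial s (1 : K)) ''
        Set.range fun j : Fin d => Finsupp.single j p) := by
      rw [MvPolynomial.mem_ideal_span_monomial_image]
      intro e he
      obtain ⟨j, hj⟩ := hno e he
      exact ⟨_, ⟨j, rfl⟩, Finsupp.single_le_iff.mpr hj⟩
    have hP' := Ideal.mem_map_of_mem φ hP
    rw [Ideal.map_span, map_prod, Finset.prod_congr rfl fun i _ => hφ i] at hP'
    have hle : Ideal.span (φ '' ((fun s => MvPolynomial.monomial s (1 : K)) ''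
        Set.range fun j : Fin d => Finsupp.single j p)) ≤
        Ideal.span ((fun s => MvPolynomial.monomial s (1 : K)) '' Set.range fun l : ι => Finsupp.single l p) := by
      rw [Ideal.span_le]
      rintro _ ⟨_, ⟨_, ⟨j, rfl⟩, rfl⟩, rfl⟩
      simp only [φ, SetLike.mem_coe, ← MvPolynomial.X_pow_eq_monomial, map_pow, MvPolynomial.aeval_X]
      rw [sum_pow_char p]
      refine Ideal.sum_mem _ fun l _ => ?_
      rw [mul_pow]
      exact Ideal.mul_mem_left _ _ (Ideal.subset_span ⟨_, ⟨l, rfl⟩, (MvPolynomial.X_pow_eq_monomial).symm⟩)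
    have h2 := hle hP'
    rw [MvPolynomial.mem_ideal_span_monomial_image] at h2
    have hprod : ∏ i, (MvPolynomial.X i : MvPolynomial ι K) =
        MvPolynomial.monomial (∑ i, Finsupp.single i 1) 1 := by
      rw [MvPolynomial.monomial_sum_one]; rfl
    obtain ⟨_, ⟨l, rfl⟩, hl⟩ := h2 (∑ i, Finsupp.single i 1) (by
      rw [hprod, MvPolynomial.support_monomial, if_neg one_ne_zero]; exact Finset.mem_singleton_self _)
    rw [Finsupp.single_le_iff, Finsupp.finsetSum_apply] at hl
    simp only [Finsupp.single_apply, Finset.sum_ite_eq', Finset.mem_univ, if_true] at hl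
    have := hp.out.two_le
    omega
  obtain ⟨e, he, hep⟩ := hcoef
  have hhom : (∏ i, lf i).IsHomogeneous (∑ _i : ι, 1) := MvPolynomial.IsHomogeneous.prod _ _ _
    fun i _ => MvPolynomial.IsHomogeneous.sum _ _ _ fun j _ => (MvPolynomial.isHomogeneous_X K j).C_mul _
  have hne : (∏ i, lf i) ≠ 0 := fun h0 => by simp [h0] at he
  have hdeg : e.degree = ∑ _i : ι, 1 := by
    rw [Finsupp.degree_eq_weight_one]; exact hhom (MvPolynomial.mem_support_iff.mp he)
  letI := Fintype.ofFinite k
  let S : Finset K := Finset.univ.image (algebraMap k K)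
  have hcard : p ≤ S.card := by
    rw [Finset.card_image_of_injective _ (algebraMap k K).injective, Finset.card_univ]
    obtain ⟨n, -, hn⟩ := FiniteField.card k p
    rw [hn]
    exact Nat.le_self_pow n.pos.ne' p
  obtain ⟨s, hs, hev⟩ := MvPolynomial.combinatorial_nullstellensatz_exists_eval_nonzero (∏ i, lf i) e
    (MvPolynomial.mem_support_iff.mp he) (by rw [hhom.totalDegree hne, hdeg]) (fun _ => S)
    fun j => lt_of_lt_of_le (hep j) hcard
  choose a ha using fun j => (Finset.mem_image.mp (hs j))
  refine ⟨∑ j, a j • v j, fun i hi => hev ?_⟩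
  rw [map_prod]
  refine Finset.prod_eq_zero (Finset.mem_univ i) ?_
  rw [← hi]
  simp only [lf, map_sum, map_mul, MvPolynomial.eval_C, MvPolynomial.eval_X, TensorProduct.tmul_sum,
    TensorProduct.tmul_smul]
  refine Finset.sum_congr rfl fun j _ => ?_
  rw [← algebraMap_smul K (a j), map_smul, smul_eq_mul, ← (ha j).2, mul_comm]
  congr 1
  simp [M, bK]

end Groth.Agent.S8383
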