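import Groth.Statements.S8392
import Groth.Agent.RedPts82.GaNoTorus

set_option autoImplicit false
universe u
open CategoryTheory MonoidalCategory CartesianMonoidalCategory MonObj GrpObj AlgebraicGeometry
open SGA3x

namespace Groth.Agent.S8392

open CategoryTheory.Limits Groth.Agent.RedPts82

/-- Let H be an S-group scheme of multiplicative type. Then every homomorphism of S-groups H → 𝔾_a is
trivial. (Stated for H of multiplicative type and of finite type, the class of multiplicative groups
available here; the published statement allows any group of multiplicative type.) -/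
theorem result (S : Scheme.{u}) (H : Over S) [GrpObj H] (hH : SGA3x.IsMultTypeFT H)
    (u : H ⟶ Red.Ga S) [IsMonHom u] : u = 1 := by
  obtain ⟨S', f, hf, hs, -, hloc⟩ := hH
  choose U hU M hM hFG hr using hloc
  have hcov : TopologicalSpace.IsOpenCover U := by
    rw [TopologicalSpace.IsOpenCover, eq_top_iff]
    exact fun x _ => TopologicalSpace.Opens.mem_iSup.mpr ⟨x, hU x⟩
  have hchart : ∀ v, Kills ((U v).ι ≫ f) u := by
    intro v
    rw [← pullback_map_eq_one_iff]
    obtain ⟨e⟩ := hr v
    obtain ⟨γ, hγm, hγi⟩ := exists_ga_iso ((U v).ι ≫ f)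
    let e' : Red.bc ((U v).ι ≫ f) H ≅ Red.DS (U v : Scheme.{u}) (M v) :=
      (Grp.forget _).mapIso e
    have : IsMonHom e'.inv := e.inv.hom.isMonHom_hom
    have h0 := hom_DS_Ga_eq_one (e'.inv ≫ (Over.pullback ((U v).ι ≫ f)).map u ≫ γ)
    rw [← cancel_mono γ, MonObj.one_comp γ, ← cancel_epi e'.inv, h0, MonObj.comp_one]
  apply Over.OverMorphism.ext
  have : Surjective (pullback.fst H.hom f) := inferInstance
  have : Epi (pullback.fst H.hom f) := Flat.epi_of_flat_of_surjective _
  rw [← cancel_epi (pullback.fst H.hom f)]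
  refine Scheme.Cover.hom_ext ((S'.openCoverOfIsOpenCover U hcov).pullback₁ (pullback.snd H.hom f))
    _ _ fun (v : S') => ?_
  change pullback.fst (pullback.snd H.hom f) (U v).ι ≫ pullback.fst H.hom f ≫ u.left =
    pullback.fst (pullback.snd H.hom f) (U v).ι ≫ pullback.fst H.hom f ≫ _
  let Z : Over S := Over.mk ((pullback.fst (pullback.snd H.hom f) (U v).ι ≫ pullback.fst H.hom f) ≫ H.hom)
  let t : Z ⟶ H := Over.homMk (pullback.fst (pullback.snd H.hom f) (U v).ι ≫ pullback.fst H.hom f) rfl
  have h := hchart v Z (pullback.snd _ _) (by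
    show pullback.snd (pullback.snd H.hom f) (U v).ι ≫ (U v).ι ≫ f =
      (pullback.fst (pullback.snd H.hom f) (U v).ι ≫ pullback.fst H.hom f) ≫ H.hom
    rw [← pullback.condition_assoc, Category.assoc, pullback.condition]) t
  rw [← Category.assoc, ← Category.assoc]
  exact congrArg CommaMorphism.left (h.trans (MonObj.comp_one t).symm)

end Groth.Agent.S8392
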