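import Groth.Statements.S8395
import Groth.Agent.SGA3a.PowEtale

set_option autoImplicit false
universe u
open CategoryTheory MonoidalCategory CartesianMonoidalCategory MonObj GrpObj AlgebraicGeometry
open SGA3x

namespace Groth.Agent.S8395

/-- Let k be a field, G a k-group scheme locally of finite type, n an integer invertible in k, and u : G
→ G the n-th power morphism. Then u is etale at every point of G lying in the centre of G; here
stated at a k-rational point g of G which is central (commutes with all points of G): u is etale on
some open neighbourhood of g. (The published statement is for any point of the centre; its proof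
reduces to rational points by extending the base field.) -/
theorem result (k : Type u) [Field k]
    (G : Over (Spec (CommRingCat.of k))) [GrpObj G] [LocallyOfFiniteType G.hom] (n : ℕ) (hn : (n : k) ≠ 0)
    (g : 𝟙_ (Over (Spec (CommRingCat.of k))) ⟶ G)
    (hg : ∀ (X : Over (Spec (CommRingCat.of k))) (x : X ⟶ G), (toUnit X ≫ g) * x = x * (toUnit X ≫ g)) :
    ∃ U : G.left.Opens, Set.range g.left.base ⊆ (U : Set ↥G.left) ∧
      Etale (U.ι ≫ ((𝟙 G : G ⟶ G) ^ n).left) := by
  obtain ⟨U, hU, hUe⟩ := SGA3a.PowEtale.exists_etale_near_central G g (hg G (𝟙 G)) (n : ℤ) (by simpa using hn)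
  rw [zpow_natCast] at hUe
  exact ⟨U, by rintro _ ⟨p, rfl⟩; exact hU p, hUe⟩

end Groth.Agent.S8395
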