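import Groth.Statements.S8403
import Groth.Agent.SGA3a.NonAff.Neutral
import Groth.Agent.SGA3a.NonAff.Bridge
import Groth.Agent.AlgGrp79.ReductiveCent
import Groth.Agent.AGF80.GeomSub
import Groth.Agent.Grpd80.DimStab

set_option autoImplicit false
universe u
open CategoryTheory MonoidalCategory CartesianMonoidalCategory MonObj GrpObj AlgebraicGeometry
open SGA3x

namespace Groth.Agent.S8403

/-- Let G be an affine smooth algebraic group over a field k, T a torus in G and C its centralizer. Then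
the nilpotent rank of G (the dimension of the Cartan subgroups of G over an algebraic closure of k)
is at most dim C. -/
theorem result (k : Type u) [Field k]
    (G : Over (Spec (CommRingCat.of k))) [GrpObj G] [Smooth G.hom] [QuasiCompact G.hom] [IsAffine G.left]
    (T : Over (Spec (CommRingCat.of k))) [GrpObj T] (j : T ⟶ G) [IsMonHom j] [Mono j] (hT : Red.IsTorus T)
    (C : Over (Spec (CommRingCat.of k))) [GrpObj C] (c : C ⟶ G) (hC : Red.IsCentralizerOf j c)
    (s : ↥(Spec (CommRingCat.of k))) (C' : Over (Spec (CommRingCat.of (AlgebraicClosure ((Spec (CommRingCat.of k)).residueField s))))) [GrpObj C']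
    (c' : C' ⟶ Red.geomFibre s G) (hC' : SGA3x.IsCartanOver (AlgebraicClosure ((Spec (CommRingCat.of k)).residueField s)) c') :
    topologicalKrullDim ↥C'.left ≤ topologicalKrullDim ↥C.left := by
  obtain ⟨hc'm, hc'mono, T'', _, i'', hT'', hc'⟩ := hC'
  obtain ⟨hcm, hcmono, -⟩ := id hC
  haveI := hc'm
  haveI := hcm
  have hmax'' := Groth.Agent.SGA3a.NonAff.isMaxTorus_of_isMaximalTorus hT''
  obtain ⟨hi''m, hi''mono, hT''t, -⟩ := id hmax''
  haveI := hi''m
  haveI := hi''mono
  let f := Red.geomPt s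
  haveI := Groth.Agent.AGF80.GeomSub.isAffine_bc f G
  haveI := Groth.Agent.AGF80.GeomSub.smooth_bc f G
  let GK := Red.geomFibre s G
  haveI : IsAffine GK.left := Groth.Agent.AGF80.GeomSub.isAffine_bc f G
  haveI : Smooth GK.hom := Groth.Agent.AGF80.GeomSub.smooth_bc f G
  haveI : QuasiCompact GK.hom := inferInstance
  let jK := (Over.pullback f).map j
  have hTK := Groth.Agent.AlgGrp79.TorusBC.isTorus_bc f hT
  have hCK := Groth.Agent.AlgGrp79.TorusBC.isCentralizerOf_bc f j hC
  obtain ⟨_, _, _, _, _⟩ := Groth.Agent.AlgGrp33.IsogSub.torus_props hTK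
  obtain ⟨_, _, _, _, _⟩ := Groth.Agent.AlgGrp33.IsogSub.torus_props hT''t
  haveI : IsReduced (Red.bc f T).left := Groth.Agent.AlgGrp79.isReduced_of_smooth (Red.bc f T).hom
  haveI : IsReduced T''.left := Groth.Agent.AlgGrp79.isReduced_of_smooth T''.hom
  obtain ⟨G₀, _, e, he, hecl, -, hG₀s, hG₀q, hG₀c, hr⟩ := Groth.Agent.SGA3a.NonAff.exists_neutral GK
  haveI := he
  haveI := hecl
  haveI := hG₀s
  haveI := hG₀q
  haveI := hG₀c
  haveI : IsAffine G₀.left := isAffine_of_isAffineHom e.left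
  haveI : Mono e := Over.mono_of_mono_left e
  obtain ⟨a, ham, ha⟩ := Groth.Agent.SGA3a.NonAff.exists_factor_neutral e hr jK
  obtain ⟨b, hbm, hb⟩ := Groth.Agent.SGA3a.NonAff.exists_factor_neutral e hr i''
  haveI := ham
  haveI : Mono a := by
    haveI : Mono (a ≫ e) := by rw [ha]; infer_instance
    exact mono_of_mono a e
  obtain ⟨T₁, _, i₁, φ, hT₁, hφ⟩ := Groth.Agent.AlgGrp79.ReductiveCent.exists_maxTorus_ge G₀ a hTK
  have hb' := Groth.Agent.AGF80.BorelCor.isMaxTorus_of_factor hmax'' e b hb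
  obtain ⟨g, ψ, hψ⟩ := Groth.Agent.SGA3a.NonAff.maxTorus_conj hb' hT₁
  -- the Cartan subgroup, conjugated, centralises the subtorus
  let h := g ≫ e
  have hjK : jK = (φ ≫ ψ.inv) ≫ AGF.conjBy h i'' := by
    have h1 : AGF.conjBy h i'' = AGF.conjBy g b ≫ e := by
      rw [← hb]; simp only [h, AGF.conjBy, MonObj.mul_comp, GrpObj.inv_comp, Category.assoc]
    rw [h1, hψ, Category.assoc, Category.assoc, Iso.inv_hom_id_assoc, ← Category.assoc, hφ, ha]
  obtain ⟨z, hz⟩ := (hCK.2.2 C' (AGF.conjBy h c')).2 fun X' x t => by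
    have h2 := (Groth.Agent.AGF80.BorelCor.isCentralizerOf_conjBy GK hc' h C' (AGF.conjBy h c')).1
      ⟨𝟙 C', Category.id_comp _⟩ X' x (t ≫ φ ≫ ψ.inv)
    rw [Category.assoc, Category.assoc, ← Category.assoc φ, ← hjK] at h2
    exact h2
  -- both centralisers are closed
  haveI := Groth.Agent.AlgGrp79.isSeparated_grp GK
  obtain ⟨Z, _, ζ, hζ, hζcl, -⟩ := (Groth.Agent.S3006.result _ GK T'' i''
    (Groth.Agent.AGF80.BorelCor.isClosedImmersion_torus GK hT''t i'') hT''t).1
  haveI := hζcl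
  haveI := hζ.2.1
  haveI := hc'mono
  haveI : IsClosedImmersion c'.left := by
    obtain ⟨u, hu⟩ := (hζ.2.2 C' c').2 ((hc'.2.2 C' c').1 ⟨𝟙 C', Category.id_comp c'⟩)
    obtain ⟨v, hv⟩ := (hc'.2.2 Z ζ).2 ((hζ.2.2 Z ζ).1 ⟨𝟙 Z, Category.id_comp ζ⟩)
    let E : C' ≅ Z := ⟨u, v, by rw [← cancel_mono c', Category.assoc, hv, hu, Category.id_comp],
      by rw [← cancel_mono ζ, Category.assoc, hu, hv, Category.id_comp]⟩
    haveI : IsIso u.left := ((Over.forget _).mapIso E).isIso_hom
    rw [← hu, Over.comp_left]; infer_instance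
  haveI : LocallyOfFiniteType C.hom := by
    haveI := Groth.Agent.AlgGrp79.isSeparated_grp G
    haveI : IsAffineHom T.hom := Groth.Agent.RedPts82.isTorus_isAffineHom hT
    haveI : LocallyOfFiniteType T.hom := by
      have : MorphismProperty.DescendsAlong (@LocallyOfFiniteType : MorphismProperty Scheme.{u}) Groth.Agent.Unr55.fpqc.{u} := by
        unfold Groth.Agent.Unr55.fpqc; infer_instance
      refine Groth.Agent.RedPts82.isTorus_prop (@LocallyOfFiniteType) hT fun U r => ?_
      refine MorphismProperty.pullback_snd (P := (@LocallyOfFiniteType : MorphismProperty Scheme.{u})) _ _ ?_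
      refine (HasRingHomProperty.Spec_iff (P := @LocallyOfFiniteType)).mpr ?_
      exact RingHom.finiteType_algebraMap.mpr inferInstance
    haveI : IsClosedImmersion j.left := Groth.Agent.AlgGrp79.QuotSub.isClosedImmersion_of_mono j
    obtain ⟨Z₀, _, ζ₀, hζ₀, hζ₀cl, -⟩ := (Groth.Agent.S3006.result _ G T j ‹_› hT).1
    haveI := hζ₀cl
    haveI := hζ₀.2.1
    haveI := hcmono
    obtain ⟨u, hu⟩ := (hζ₀.2.2 C c).2 ((hC.2.2 C c).1 ⟨𝟙 C, Category.id_comp c⟩)
    obtain ⟨v, hv⟩ := (hC.2.2 Z₀ ζ₀).2 ((hζ₀.2.2 Z₀ ζ₀).1 ⟨𝟙 Z₀, Category.id_comp ζ₀⟩)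
    let E : C ≅ Z₀ := ⟨u, v, by rw [← cancel_mono c, Category.assoc, hv, hu, Category.id_comp],
      by rw [← cancel_mono ζ₀, Category.assoc, hu, hv, Category.id_comp]⟩
    haveI : IsIso u.left := ((Over.forget _).mapIso E).isIso_hom
    have hu' : c.left = u.left ≫ ζ₀.left := by rw [← hu, Over.comp_left]
    rw [← Over.w c, hu']
    infer_instance
  haveI := Groth.Agent.AlgGrp79.BorelConj.isClosedImmersion_conjBy h c'
  have hle : topologicalKrullDim ↥C'.left ≤ topologicalKrullDim ↥(Red.bc f C).left := by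
    refine Topology.IsInducing.topologicalKrullDim_le (f := z.left) ?_
    refine Topology.IsInducing.of_comp z.left.continuous ((Over.pullback f).map c).left.continuous ?_
    have e1 : z.left ≫ ((Over.pullback f).map c).left = (AGF.conjBy h c').left := by rw [← Over.comp_left, hz]
    have e2 := (AGF.conjBy h c').left.isClosedEmbedding.isInducing
    rw [← e1] at e2
    exact e2
  exact hle.trans_eq (Groth.Agent.Grpd80.dim_pullback_point (Iso.refl _) C.hom f)

end Groth.Agent.S8403
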