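import Groth.Statements.S8405
import Groth.Agent.SGA3a.QuotCover
import Groth.Agent.AlgGrp79.CentreAffine
import Groth.Agent.AlgGrp79.StabQuot
import Groth.Agent.AlgGrp79.KernelPts
import Groth.Agent.RedPts82.Quot
import Groth.Agent.S3027

set_option autoImplicit false
universe u
open CategoryTheory MonoidalCategory CartesianMonoidalCategory MonObj GrpObj AlgebraicGeometry
open SGA3x

namespace Groth.Agent.S8405

/-- Let G be a connected algebraic group (a group scheme of finite type) over a field k, z : Z → G the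
centre of G and q : G → Q a morphism representing the fppf quotient G/Z. Then Q is an affine scheme.
(The published statement allows any subgroup of finite index in the centre; this row takes Z to be
the centre itself.) -/
theorem result (k : Type u) [Field k]
    (G : Over (Spec (CommRingCat.of k))) [GrpObj G] [QuasiCompact G.hom] [LocallyOfFiniteType G.hom] [ConnectedSpace ↥G.left]
    (Z : Over (Spec (CommRingCat.of k))) [GrpObj Z] (z : Z ⟶ G) (hZ : Red.IsCentre z)
    (Q : Over (Spec (CommRingCat.of k))) (q : G ⟶ Q) (hq : RedSub.IsQuotient z q) : IsAffine Q.left := by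
  obtain ⟨hz, hmono, hfac⟩ := id hZ
  haveI := hz
  haveI : Mono z := hmono
  haveI := Groth.Agent.AlgGrp79.isSeparated_grp G
  haveI : IsClosedImmersion z.left := by
    obtain ⟨Z₀, _, i₀, hi₀, hcl, hkey, -⟩ := Groth.Agent.S3027.result k G
    haveI := hcl
    have hmi : Mono i₀ := by
      have : Mono ((Over.forget _).map i₀) := inferInstanceAs (Mono i₀.left)
      exact (Over.forget _).mono_of_mono_map this
    have e : ∀ (X : Over (Spec (CommRingCat.of k))) (g : X ⟶ G), (∃ a, a ≫ z = g) ↔ ∃ a, a ≫ i₀ = g := fun X g => by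
      rw [hfac, hkey]; simp only [Category.comp_id]
    obtain ⟨a, ha⟩ := (e _ z).1 ⟨𝟙 _, Category.id_comp _⟩
    obtain ⟨b, hb⟩ := (e _ i₀).2 ⟨𝟙 _, Category.id_comp _⟩
    let j : Z ≅ Z₀ := ⟨a, b, by rw [← cancel_mono z, Category.assoc, hb, ha, Category.id_comp],
      by rw [← cancel_mono i₀, Category.assoc, ha, hb, Category.id_comp]⟩
    rw [← ha]
    haveI : IsIso a.left := ((Over.forget (Spec (CommRingCat.of k))).mapIso j).isIso_hom
    show IsClosedImmersion (a.left ≫ i₀.left)
    infer_instance
  haveI : QuasiCompact Z.hom := by rw [← Over.w z]; infer_instance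
  haveI : QuasiSeparated Z.hom := by rw [← Over.w z]; infer_instance
  obtain ⟨n, ρ, hρ, h0, hb⟩ := Groth.Agent.AlgGrp79.exists_rep_centre z hZ
  haveI := hρ
  have hK : AlgGrp.IsKernel z ρ := Groth.Agent.AlgGrp79.isKernel_of_pts z ρ h0 hb
  haveI : Flat Z.hom := inferInstance
  haveI : LocallyOfFinitePresentation G.hom := LocallyOfFinitePresentation.iff_locallyOfFiniteType.2 ‹_›
  obtain ⟨Q', hQ', q', hq', hquot, hQlfp, m, hm, hmono', hqm⟩ :=
    Groth.Agent.AlgGrp79.StabQuot.exists_quotient_kernel G _ (Or.inr inferInstance) ρ Z z hK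
  haveI := hq'
  haveI : Mono m := hmono'
  haveI : LocallyOfFiniteType Q'.hom := inferInstance
  haveI : Surjective q'.left := hquot.1
  haveI : Flat q'.left := hquot.2.1
  haveI : LocallyOfFinitePresentation q'.left := hquot.2.2.1
  haveI : QuasiCompact Q'.hom := by
    have : QuasiCompact (q'.left ≫ Q'.hom) := by rw [Over.w]; infer_instance
    exact Groth.Agent.SGA3a.QuotCover.quasiCompact_of_comp q'.left Q'.hom
  have hKq : AlgGrp.IsKernel z q' := by
    refine Groth.Agent.AlgGrp79.isKernel_of_pts z q' ?_ fun T g hg => hb T g ?_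
    · rw [← cancel_mono m, Category.assoc, hqm, h0, MonObj.one_comp]
    · rw [← hqm, ← Category.assoc, hg, MonObj.one_comp]
  haveI : IsAffine Q'.left := Groth.Agent.AlgGrp79.isAffine_quotient_centre z hZ q' hKq
  obtain ⟨d, hd, -⟩ := Groth.Agent.RedPts82.desc_quotient hq q'
    (fun X g c => Groth.Agent.RedPts82.comp_mul_right hquot g c)
  obtain ⟨e, he, -⟩ := Groth.Agent.RedPts82.desc_quotient hquot q
    (fun X g c => Groth.Agent.RedPts82.comp_mul_right hq g c)
  haveI := (Groth.Agent.RedPts82.cov_of_isQuotient hq).epi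
  haveI := (Groth.Agent.RedPts82.cov_of_isQuotient hquot).epi
  let i : Q ≅ Q' := ⟨d, e, by rw [← cancel_epi q, ← Category.assoc, hd, he, Category.comp_id],
    by rw [← cancel_epi q', ← Category.assoc, he, hd, Category.comp_id]⟩
  haveI : IsIso i.hom.left := ((Over.forget (Spec (CommRingCat.of k))).mapIso i).isIso_hom
  exact IsAffine.of_isIso i.hom.left

end Groth.Agent.S8405
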