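import Groth.Statements.S8409
import Groth.Agent.SGA3a.NonAff.Nilp
import Groth.Agent.SGA3a.NonAff.Exists
import Groth.Agent.SGA3a.NonAff.Bridge

set_option autoImplicit false
universe u
open CategoryTheory MonoidalCategory CartesianMonoidalCategory MonObj GrpObj AlgebraicGeometry
open SGA3x

namespace Groth.Agent.S8409

/-- Let G be a smooth connected algebraic group (not necessarily affine) over an algebraically closed
field k. Then G is nilpotent (the group G(k) is nilpotent) if and only if every torus in G is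
central, if and only if G has only one maximal torus. (The published statement adds that the unique
maximal torus is then the largest subtorus of G; this row omits that clause.) -/
theorem result (k : Type u) [Field k] [IsAlgClosed k]
    (G : Over (Spec (CommRingCat.of k))) [GrpObj G] [Smooth G.hom] [QuasiCompact G.hom] [ConnectedSpace ↥G.left] :
    (Group.IsNilpotent (𝟙_ (Over (Spec (CommRingCat.of k))) ⟶ G) ↔
      ∀ (T : Over (Spec (CommRingCat.of k))) [GrpObj T] (j : T ⟶ G) [IsMonHom j] [Mono j], Red.IsTorus T →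
        ∀ (X : Over (Spec (CommRingCat.of k))) (t : X ⟶ T) (g : X ⟶ G), (t ≫ j) * g = g * (t ≫ j)) ∧
    (Group.IsNilpotent (𝟙_ (Over (Spec (CommRingCat.of k))) ⟶ G) ↔
      ∀ (T₁ T₂ : Over (Spec (CommRingCat.of k))) [GrpObj T₁] [GrpObj T₂] (i₁ : T₁ ⟶ G) (i₂ : T₂ ⟶ G),
        Red.IsMaximalTorus i₁ → Red.IsMaximalTorus i₂ → ∃ φ : T₁ ≅ T₂, φ.hom ≫ i₂ = i₁) := by
  have hu : (∀ (T : Over (Spec (CommRingCat.of k))) [GrpObj T] (j : T ⟶ G) [IsMonHom j] [Mono j], Red.IsTorus T →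
      ∀ (X : Over (Spec (CommRingCat.of k))) (t : X ⟶ T) (g : X ⟶ G), (t ≫ j) * g = g * (t ≫ j)) →
      ∀ (T₁ T₂ : Over (Spec (CommRingCat.of k))) [GrpObj T₁] [GrpObj T₂] (i₁ : T₁ ⟶ G) (i₂ : T₂ ⟶ G),
        Red.IsMaximalTorus i₁ → Red.IsMaximalTorus i₂ → ∃ φ : T₁ ≅ T₂, φ.hom ≫ i₂ = i₁ := fun hc T₁ T₂ _ _ i₁ i₂ h₁ h₂ =>
    Groth.Agent.SGA3a.NonAff.maxTorus_unique_of_central hc (Groth.Agent.SGA3a.NonAff.isMaxTorus_of_isMaximalTorus h₁)
      (Groth.Agent.SGA3a.NonAff.isMaxTorus_of_isMaximalTorus h₂)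
  have hn : (∀ (T₁ T₂ : Over (Spec (CommRingCat.of k))) [GrpObj T₁] [GrpObj T₂] (i₁ : T₁ ⟶ G) (i₂ : T₂ ⟶ G),
        Red.IsMaximalTorus i₁ → Red.IsMaximalTorus i₂ → ∃ φ : T₁ ≅ T₂, φ.hom ≫ i₂ = i₁) →
      Group.IsNilpotent (𝟙_ (Over (Spec (CommRingCat.of k))) ⟶ G) := fun h => by
    obtain ⟨T, _, i, hi⟩ := Groth.Agent.SGA3a.NonAff.exists_maxTorus G
    exact Groth.Agent.SGA3a.NonAff.nilpotent_of_unique (fun T₁ T₂ _ _ i₁ i₂ h₁ h₂ => h T₁ T₂ i₁ i₂
      (Groth.Agent.SGA3a.NonAff.isMaximalTorus_of_isMaxTorus h₁)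
      (Groth.Agent.SGA3a.NonAff.isMaximalTorus_of_isMaxTorus h₂)) hi
  refine ⟨⟨fun h T _ j _ _ hT X t g => ?_, fun h => hn (hu h)⟩, ⟨fun h => hu fun T _ j _ _ hT X t g => ?_, hn⟩⟩
  · haveI := h
    exact Groth.Agent.SGA3a.NonAff.torus_central_of_nilpotent hT j X t g
  · haveI := h
    exact Groth.Agent.SGA3a.NonAff.torus_central_of_nilpotent hT j X t g

end Groth.Agent.S8409
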