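import Groth.Statements.S8410
import Groth.Agent.RedPts82.Pairing
import Groth.Agent.RedPts82.QuotBc
import Groth.Agent.RedPts82.MultBc
import Groth.Agent.SGA3a.SubGrpOfMono
import Groth.Agent.SGA3a.SmoothTransporter
-- import your own Groth.Agent.* helpers here

set_option autoImplicit false
universe u
open CategoryTheory MonoidalCategory CartesianMonoidalCategory MonObj GrpObj AlgebraicGeometry
open SGA3x

namespace Groth.Agent.S8410

open Groth.Agent.RedPts82 CategoryTheory.Limits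

/-- central homomorphisms of groups of multiplicative type into the quotient by the reductive centre are trivial -/
theorem eq_one {S : Scheme.{u}} (G : Over S) [GrpObj G]
    [Smooth G.hom] [IsAffineHom G.hom] (hconn : ∀ s : S, _root_.IsConnected (G.hom.base ⁻¹' {s}))
    (Z : Over S) [GrpObj Z] (z : Z ⟶ G) (hZ : (IsMonHom z ∧ Mono z ∧ SGA3x.IsMultTypeFT Z ∧
      (∀ (X : Over S) (x : X ⟶ Z) (g : X ⟶ G), (x ≫ z) * g = g * (x ≫ z)) ∧
      ∀ (S' : Scheme.{u}) (f : S' ⟶ S) (H : Over S') [GrpObj H] (v : H ⟶ Red.bc f G) [IsMonHom v],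
        SGA3x.IsMultTypeFT H →
        (∀ (X : Over S') (x : X ⟶ H) (g : X ⟶ Red.bc f G), (x ≫ v) * g = g * (x ≫ v)) →
        ∃ w : H ⟶ Red.bc f Z, w ≫ (Over.pullback f).map z = v))
    (G' : Over S) [GrpObj G'] (q : G ⟶ G') [IsMonHom q] (hq : RedSub.IsQuotient z q)
    {S' : Scheme.{u}} (f : S' ⟶ S) (H : Over S') [GrpObj H] (v : H ⟶ Red.bc f G') [IsMonHom v]
    (hH : SGA3x.IsMultTypeFT H)
    (hv : ∀ (X : Over S') (x : X ⟶ H) (g : X ⟶ Red.bc f G'), (x ≫ v) * g = g * (x ≫ v)) :
    v = 1 := by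
  obtain ⟨_, _, hZm, hZc, hZu⟩ := hZ
  let qf : Red.bc f G ⟶ Red.bc f G' := (Over.pullback f).map q
  let zf : Red.bc f Z ⟶ Red.bc f G := (Over.pullback f).map z
  haveI : IsMonHom qf := inferInstanceAs (IsMonHom ((Over.pullback f).map q))
  haveI : IsMonHom zf := inferInstanceAs (IsMonHom ((Over.pullback f).map z))
  haveI : Mono zf := inferInstanceAs (Mono ((Over.pullback f).map z))
  have hqf : RedSub.IsQuotient zf qf := isQuotient_bc f z q hq
  have hzq : zf ≫ qf = 1 := by
    have h := comp_mul_right hqf (1 : Red.bc f Z ⟶ Red.bc f G) (𝟙 _)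
    rw [Category.id_comp, _root_.one_mul, MonObj.one_comp qf] at h
    exact h
  have hker : ∀ {X : Over S'} (g : X ⟶ Red.bc f G), g ≫ qf = 1 → ∃ n, n ≫ zf = g := fun {X} g hg => by
    obtain ⟨n, hn⟩ := exists_eq_mul_of_comp_eq hqf (g := (1 : X ⟶ Red.bc f G)) (g' := g)
      (by rw [hg, MonObj.one_comp qf])
    exact ⟨n, by rw [hn, _root_.one_mul]⟩
  have hZ' : SGA3x.IsMultTypeFT (Red.bc f Z) := isMultTypeFT_bc f hZm
  have hzc : ∀ {X : Over S'} (n : X ⟶ Red.bc f Z) (g : X ⟶ Red.bc f G), (n ≫ zf) * g = g * (n ≫ zf) := fun n g => by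
    apply toBase_injective f
    rw [toBase_mul, toBase_mul, toBase_comp_map]
    exact hZc _ _ _
  haveI : IsSeparated (Red.bc f G).hom := inferInstanceAs (IsSeparated (pullback.snd G.hom f))
  have hcf : ∀ s : S', _root_.IsConnected ((Red.bc f G).hom.base ⁻¹' {s}) := fun s => by
    have h0 : ∀ t : S, ConnectedSpace ↥(pullback G.hom (S.fromSpecResidueField t)) := fun t => by
      haveI := isConnected_iff_connectedSpace.1 (hconn t)
      exact (G.hom.fiberHomeo t).symm.surjective.connectedSpace (G.hom.fiberHomeo t).symm.continuous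
    haveI : ConnectedSpace ↥((Red.bc f G).hom.fiber s) := SGA3a.connected_fibres_pullback G h0 f s
    exact isConnected_iff_connectedSpace.2
      (((Red.bc f G).hom.fiberHomeo s).surjective.connectedSpace ((Red.bc f G).hom.fiberHomeo s).continuous)
  -- the extension
  let E : Over S' := Limits.pullback qf v
  let e₁ : E ⟶ Red.bc f G := Limits.pullback.fst qf v
  let e₂ : E ⟶ H := Limits.pullback.snd qf v
  have hP : IsPullback e₁ e₂ qf v := IsPullback.of_hasPullback qf v
  let t : E ⟶ Red.bc f G ⊗ H := lift e₁ e₂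
  haveI : Mono t := ⟨fun a b e => hP.hom_ext (by simpa [t] using congr($e ≫ fst _ _))
    (by simpa [t] using congr($e ≫ snd _ _))⟩
  have hlift : ∀ {X : Over S'} (x : X ⟶ Red.bc f G ⊗ H), (x ≫ fst _ _) ≫ qf = (x ≫ snd _ _) ≫ v →
      ∃ y, y ≫ t = x := fun x h => ⟨hP.lift _ _ h, by
      apply CartesianMonoidalCategory.hom_ext
      · simp [t]
      · simp [t]⟩
  have hm : ∀ {X : Over S'} (y : X ⟶ E), (y ≫ e₁) ≫ qf = (y ≫ e₂) ≫ v := fun y => by
    rw [Category.assoc, Category.assoc, hP.w]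
  have h1 : ∃ y, y ≫ t = (1 : 𝟙_ (Over S') ⟶ Red.bc f G ⊗ H) := hlift _ (by
    rw [MonObj.one_comp (fst (Red.bc f G) H), MonObj.one_comp (snd (Red.bc f G) H), MonObj.one_comp qf, MonObj.one_comp v])
  have hmul : ∃ y, y ≫ t = (fst E E ≫ t) * (snd E E ≫ t) := hlift _ (by
    simp only [MonObj.mul_comp, Category.assoc, t, lift_fst, lift_snd]
    simp only [← Category.assoc, MonObj.mul_comp]
    rw [hm, hm])
  have hinv : ∃ y, y ≫ t = t⁻¹ := hlift _ (by
    simp only [GrpObj.inv_comp, t, lift_fst, lift_snd]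
    exact congrArg (·⁻¹) hP.w)
  letI : GrpObj E := SGA3a.grpObjOfMono t h1 hmul hinv
  haveI : IsMonHom t := SGA3a.isMonHom_grpObjOfMono t h1 hmul hinv
  haveI : IsMonHom e₁ := by
    rw [show e₁ = t ≫ fst _ _ by simp [t]]; infer_instance
  haveI : IsMonHom e₂ := by
    rw [show e₂ = t ≫ snd _ _ by simp [t]]; infer_instance
  let h0 : Red.bc f Z ⟶ E := hP.lift zf 1 (by rw [hzq, MonObj.one_comp v])
  have hi0 : h0 ≫ e₁ = zf := hP.lift_fst _ _ _
  have hp0 : h0 ≫ e₂ = 1 := hP.lift_snd _ _ _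
  haveI : Mono h0 := mono_of_mono_fac hi0
  haveI : IsMonHom h0 := isMonHom_of_points h0 fun X x y => hP.hom_ext
    (by rw [MonObj.mul_comp _ _ e₁, Category.assoc, Category.assoc, Category.assoc, hi0, MonObj.mul_comp _ _ zf])
    (by rw [MonObj.mul_comp _ _ e₂, Category.assoc, Category.assoc, Category.assoc, hp0, MonObj.comp_one,
      MonObj.comp_one, MonObj.comp_one, _root_.one_mul])
  have hk : AlgGrp.IsKernel h0 e₂ := isKernel_of_lift h0 e₂ hp0 fun X g hg => by
    obtain ⟨n, hn⟩ := hker (g ≫ e₁) (by rw [hm, hg, MonObj.one_comp v])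
    exact ⟨n, hP.hom_ext (by rw [Category.assoc, hi0, hn]) (by rw [Category.assoc, hp0, MonObj.comp_one, hg])⟩
  have hcov : Cov e₂ := Cov.of_isPullback hP (cov_of_isQuotient hqf)
  haveI := isMultTypeFT_isAffineHom hZ'
  haveI : QuasiCompact (Red.bc f Z).hom := inferInstance
  haveI : QuasiCompact qf.left := quasiCompact_of_isQuotient hqf
  haveI : QuasiCompact e₂.left :=
    MorphismProperty.of_isPullback (P := @QuasiCompact) (hP.map (Over.forget S')) (inferInstance : QuasiCompact qf.left)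
  haveI := hcov.surj
  haveI := hcov.flat
  obtain ⟨hqE, hpa⟩ := isQuotient_of_kernel hk hZ'
  haveI := hpa
  -- commutators with the extension
  let em : Red.bc f G ⊗ E ⟶ Red.bc f G := fst _ E * (snd _ E ≫ e₁) * (fst _ E)⁻¹ * (snd _ E ≫ e₁)⁻¹
  obtain ⟨c, hc⟩ := hker em (by
    simp only [em, MonObj.mul_comp _ _ qf, GrpObj.inv_comp _ qf]
    rw [hm, ← hv _ (snd _ E ≫ e₂) (fst _ E ≫ qf), mul_inv_cancel_right, mul_inv_cancel])
  have hcv : ∀ {W : Over S'} (g : W ⟶ Red.bc f G) (x : W ⟶ E),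
      (lift g x ≫ c) ≫ zf = g * (x ≫ e₁) * g⁻¹ * (x ≫ e₁)⁻¹ := fun g x => by
    rw [Category.assoc, hc]
    simp only [em, MonObj.comp_mul, GrpObj.comp_inv, lift_fst, lift_snd_assoc]
  have hcen : ∀ (X : Over S') (x : X ⟶ E) (g : X ⟶ Red.bc f G), (x ≫ e₁) * g = g * (x ≫ e₁) := fun X x g => by
    have h := pairing_trivial_of_quotient hqE hZ' hH c
      (fun g x n => by
        rw [← cancel_mono zf, hcv, hcv, MonObj.mul_comp _ _ e₁, Category.assoc, hi0,
          (commutator_mul_central g (x ≫ e₁) (n ≫ zf) (fun y => hzc n y)).2])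
      (fun g x y => by
        rw [← cancel_mono zf, MonObj.mul_comp _ _ zf, hcv, hcv, hcv, MonObj.mul_comp _ _ e₁]
        refine commutator_bimul g (x ≫ e₁) (y ≫ e₁) ?_
        rw [← hcv]
        exact hzc _ _)
      (fun x => by rw [← cancel_mono zf, hcv, MonObj.one_comp zf]; simp)
      hcf g x
    have h' := hcv g x
    rw [h, MonObj.one_comp zf] at h'
    exact (mul_inv_eq_iff_eq_mul.mp (mul_inv_eq_one.mp h'.symm)).symm
  have hEm : SGA3x.IsMultTypeFT E := isMultTypeFT_extension hqE hZ' hH fun {X} a b => hP.hom_ext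
    (by rw [MonObj.mul_comp _ _ e₁, MonObj.mul_comp _ _ e₁, hcen])
    (by rw [MonObj.mul_comp _ _ e₂, MonObj.mul_comp _ _ e₂, isMultTypeFT_points_comm hH])
  obtain ⟨w, hw⟩ := hZu S' f E e₁ hEm hcen
  haveI := hcov.epi
  rw [← cancel_epi e₂, MonObj.comp_one, ← hP.w, ← hw]
  show (w ≫ zf) ≫ qf = 1
  rw [Category.assoc, hzq, MonObj.comp_one]

/-- Let G be an S-group scheme, smooth and affine over S with connected fibres, Z a reductive centre of
G (central, of multiplicative type, and universal after every base change for central homomorphisms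
from groups of multiplicative type and finite type), and q : G → G′ a homomorphism representing the
quotient G/Z. Then the unit subgroup is a reductive centre of G′: for every S′ → S, every central
homomorphism H → G′ ×_S S′ from an S′-group H of multiplicative type and of finite type is trivial.
(The published item b) first asserts that G/Z is representable; this row takes a representing
homomorphism q as given and states its second assertion.) -/
theorem result (S : Scheme.{u}) (G : Over S) [GrpObj G]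
    [Smooth G.hom] [IsAffineHom G.hom] (hconn : ∀ s : S, _root_.IsConnected (G.hom.base ⁻¹' {s}))
    (Z : Over S) [GrpObj Z] (z : Z ⟶ G) (hZ : (IsMonHom z ∧ Mono z ∧ SGA3x.IsMultTypeFT Z ∧
      (∀ (X : Over S) (x : X ⟶ Z) (g : X ⟶ G), (x ≫ z) * g = g * (x ≫ z)) ∧
      ∀ (S' : Scheme.{u}) (f : S' ⟶ S) (H : Over S') [GrpObj H] (v : H ⟶ Red.bc f G) [IsMonHom v],
        SGA3x.IsMultTypeFT H →
        (∀ (X : Over S') (x : X ⟶ H) (g : X ⟶ Red.bc f G), (x ≫ v) * g = g * (x ≫ v)) →
        ∃ w : H ⟶ Red.bc f Z, w ≫ (Over.pullback f).map z = v))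
    (G' : Over S) [GrpObj G'] (q : G ⟶ G') [IsMonHom q] (hq : RedSub.IsQuotient z q)
    (S' : Scheme.{u}) (f : S' ⟶ S) (H : Over S') [GrpObj H] (v : H ⟶ Red.bc f G') [IsMonHom v]
    (hH : SGA3x.IsMultTypeFT H)
    (hv : ∀ (X : Over S') (x : X ⟶ H) (g : X ⟶ Red.bc f G'), (x ≫ v) * g = g * (x ≫ v)) :
    v = 1 := by
  exact Groth.Agent.S8410.eq_one G hconn Z z hZ G' q hq f H v hH hv

end Groth.Agent.S8410
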