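import Groth.Statements.S8416
import Groth.Agent.RedPts82.FixedPts

set_option autoImplicit false
universe u
open CategoryTheory MonoidalCategory CartesianMonoidalCategory MonObj GrpObj AlgebraicGeometry
open SGA3x

namespace Groth.Agent.S8416

/-- Let G be an S-group scheme of multiplicative type and of finite type acting on an S-scheme X which
is smooth, separated and of finite presentation over S, and suppose that the functor of fixed points
X^G (T-points x of X with g · x_{T′} = x_{T′} for every T′ → T and every T′-point g of G) is
represented by a closed subscheme F of X. Then F is smooth over S. (The published statement, for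
groups admitting a composition series of which groups of multiplicative type are one case, also
asserts that X^G is represented by a closed subscheme of X of finite presentation over S; this row
takes the representing closed subscheme as given and states its smoothness.) -/
theorem result (S : Scheme.{u}) (G : Over S) [GrpObj G]
    (hG : SGA3x.IsMultTypeFT G) (X : Over S) [Smooth X.hom] [QuasiCompact X.hom] [IsSeparated X.hom]
    (a : AlgGrp.Action G X) (F : Scheme.{u}) (f : F ⟶ X.left) (hf : IsClosedImmersion f)
    (hF : ∀ (T : Over S) (x : T ⟶ X), (∃ y : T.left ⟶ F, y ≫ f = x.left) ↔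
        ∀ (T' : Over S) (t : T' ⟶ T) (g : T' ⟶ G), lift g (t ≫ x) ≫ a.act = t ≫ x) :
    Smooth (f ≫ X.hom) := by
  obtain ⟨C, c, hc, hsm, hC⟩ := RedPts82.exists_smooth_fixedPts
    (RedPts82.isMultType_of_isMultTypeFT hG) a.act fun Z h h' p =>
      RedPts82.action_assoc a.act a.mul_act h h' p
  let F' : Over S := Over.mk (f ≫ X.hom)
  let f' : F' ⟶ X := Over.homMk f rfl
  obtain ⟨v, hv⟩ := (hC F' f').mpr ((hF F' f').mp ⟨𝟙 _, Category.id_comp _⟩)
  obtain ⟨w, hw⟩ := (hF C c).mpr ((hC C c).mp ⟨𝟙 _, Category.id_comp _⟩)
  have h1 : v.left ≫ w = 𝟙 F := by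
    rw [← cancel_mono f, Category.assoc, hw]
    exact (congrArg CommaMorphism.left hv).trans (Category.id_comp f).symm
  have h2 : w ≫ v.left = 𝟙 C.left := by
    rw [← cancel_mono c.left, Category.assoc, Category.id_comp]
    exact (congrArg (w ≫ ·) (congrArg CommaMorphism.left hv)).trans hw
  haveI : IsIso v.left := ⟨w, h1, h2⟩
  have e : f ≫ X.hom = v.left ≫ C.hom := (Over.w v).symm
  rw [e]
  infer_instance

end Groth.Agent.S8416
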