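import Groth.Statements.S8422
import Groth.Agent.SGA3a.NonAff.Neutral

set_option autoImplicit false
universe u
open CategoryTheory MonoidalCategory CartesianMonoidalCategory MonObj GrpObj AlgebraicGeometry
open SGA3x

namespace Groth.Agent.S8422

/-- Let G be a smooth algebraic group (not necessarily affine) over an algebraically closed field k.
Then the Borel subgroups of G are conjugate; the maximal tori of a Borel subgroup B are maximal tori
of G; and if G is connected, the Cartan subgroups of B are Cartan subgroups of G. (The published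
statement also asserts that G/B is projective; this row omits that assertion.) -/
theorem result (k : Type u) [Field k] [IsAlgClosed k]
    (G : Over (Spec (CommRingCat.of k))) [GrpObj G] [Smooth G.hom] [QuasiCompact G.hom] :
    (∀ (B₁ B₂ : Over (Spec (CommRingCat.of k))) [GrpObj B₁] [GrpObj B₂] (b₁ : B₁ ⟶ G) (b₂ : B₂ ⟶ G),
      Red.IsBorelOver k b₁ → Red.IsBorelOver k b₂ → ∃ g : 𝟙_ (Over (Spec (CommRingCat.of k))) ⟶ G, SGA3x.ConjBy b₁ b₂ g) ∧
    (∀ (B : Over (Spec (CommRingCat.of k))) [GrpObj B] (b : B ⟶ G), Red.IsBorelOver k b →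
      ∀ (T : Over (Spec (CommRingCat.of k))) [GrpObj T] (t : T ⟶ B), Red.IsMaximalTorus t → Red.IsMaximalTorus (t ≫ b)) ∧
    (ConnectedSpace ↥G.left → ∀ (B : Over (Spec (CommRingCat.of k))) [GrpObj B] (b : B ⟶ G), Red.IsBorelOver k b →
      ∀ (C : Over (Spec (CommRingCat.of k))) [GrpObj C] (c : C ⟶ B), SGA3x.IsCartanOver k c → SGA3x.IsCartanOver k (c ≫ b)) := by
  obtain ⟨G₀, _, i, hi, hicl, -, hGs, hGq, hGc, hr⟩ := Groth.Agent.SGA3a.NonAff.exists_neutral G
  haveI := hi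
  haveI := hicl
  haveI := hGs
  haveI := hGq
  haveI := hGc
  refine ⟨fun B₁ B₂ _ _ b₁ b₂ h₁ h₂ => ?_, fun B _ b hB T _ t ht => ?_, fun hGconn B _ b hB C _ c hC => ?_⟩
  · obtain ⟨x₁, hx₁, e₁⟩ := Groth.Agent.SGA3a.NonAff.exists_borel_neutral i hr h₁
    obtain ⟨x₂, hx₂, e₂⟩ := Groth.Agent.SGA3a.NonAff.exists_borel_neutral i hr h₂
    obtain ⟨g, φ, hφ⟩ := Groth.Agent.SGA3a.NonAff.borel_conj hx₁ hx₂
    refine ⟨g ≫ i, φ, ?_⟩
    rw [← e₂, reassoc_of% hφ, ← e₁]
    simp only [AGF.conjBy, MonObj.mul_comp, GrpObj.inv_comp, Category.assoc]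
  · obtain ⟨b₀, hb₀, e₀⟩ := Groth.Agent.SGA3a.NonAff.exists_borel_neutral i hr hB
    rw [← e₀, ← Category.assoc]
    exact Groth.Agent.SGA3a.NonAff.isMaximalTorus_of_isMaxTorus
      (Groth.Agent.SGA3a.NonAff.isMaxTorus_comp_neutral i hr (Groth.Agent.SGA3a.NonAff.isMaxTorus_comp_borel hb₀
        (Groth.Agent.SGA3a.NonAff.isMaxTorus_of_isMaximalTorus ht)))
  · haveI := hGconn
    obtain ⟨_, _, T, _, t, ht, hc⟩ := hC
    have ht' := Groth.Agent.SGA3a.NonAff.isMaxTorus_of_isMaximalTorus ht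
    have h := Groth.Agent.SGA3a.NonAff.isCentralizerOf_comp_borel hB ht' hc
    exact ⟨h.1, h.2.1, T, inferInstance, t ≫ b, Groth.Agent.SGA3a.NonAff.isMaximalTorus_of_isMaxTorus
      (Groth.Agent.SGA3a.NonAff.isMaxTorus_comp_borel hB ht'), h⟩

end Groth.Agent.S8422
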