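import Groth.Statements.S8424
import Groth.Agent.SGA3a.NonAff.CartanNorm2
import Groth.Agent.SGA3a.NonAff.Bridge

set_option autoImplicit false
universe u
open CategoryTheory MonoidalCategory CartesianMonoidalCategory MonObj GrpObj AlgebraicGeometry
open SGA3x

namespace Groth.Agent.S8424

/-- Let G be a smooth algebraic group (not necessarily affine) over an algebraically closed field k, B a
Borel subgroup of G, C a Cartan subgroup of B and N the normalizer of C in G. Then N ∩ B = C: a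
point of G with values in a k-scheme factors through N and through B if and only if it factors
through C. -/
theorem result (k : Type u) [Field k] [IsAlgClosed k]
    (G : Over (Spec (CommRingCat.of k))) [GrpObj G] [Smooth G.hom] [QuasiCompact G.hom]
    (B : Over (Spec (CommRingCat.of k))) [GrpObj B] (b : B ⟶ G) (hB : Red.IsBorelOver k b)
    (C : Over (Spec (CommRingCat.of k))) [GrpObj C] (c : C ⟶ B) (hC : SGA3x.IsCartanOver k c)
    (N : Over (Spec (CommRingCat.of k))) [GrpObj N] (n : N ⟶ G) (hN : Red.IsNormalizerOf (c ≫ b) n)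
    (X : Over (Spec (CommRingCat.of k))) (g : X ⟶ G) :
    ((∃ x : X ⟶ N, x ≫ n = g) ∧ (∃ y : X ⟶ B, y ≫ b = g)) ↔ ∃ z : X ⟶ C, z ≫ c ≫ b = g := by
  obtain ⟨hbm, hbcl, hBs, hBc, hBsol, -⟩ := id hB
  obtain ⟨hcm, hcmono, T, _, t, hT, hc⟩ := hC
  obtain ⟨-, -, hN⟩ := hN
  haveI := hbm
  haveI := hbcl
  haveI := hBs
  haveI := hBc
  haveI := hcm
  haveI : QuasiCompact B.hom := by rw [← Over.w b]; infer_instance
  haveI : Mono b := Over.mono_of_mono_left b
  constructor
  · rintro ⟨⟨x, hx⟩, y, hy⟩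
    obtain ⟨z, hz⟩ := Groth.Agent.SGA3a.NonAff.exists_factor_of_normPred_solvable hBsol
      (Groth.Agent.SGA3a.NonAff.isMaxTorus_of_isMaximalTorus hT) hc y fun X' u h => by
        obtain ⟨⟨a, ha⟩, b', hb'⟩ := (hN X g).1 ⟨x, hx⟩ X' u h
        refine ⟨⟨a, ?_⟩, b', ?_⟩
        · rw [← cancel_mono b]
          simpa only [MonObj.mul_comp, GrpObj.inv_comp, Category.assoc, hy] using ha
        · rw [← cancel_mono b]
          simpa only [MonObj.mul_comp, GrpObj.inv_comp, Category.assoc, hy] using hb'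
    exact ⟨z, by rw [← Category.assoc, hz, hy]⟩
  · rintro ⟨z, rfl⟩
    refine ⟨(hN X _).2 fun X' u h => ⟨⟨(u ≫ z) * h * (u ≫ z)⁻¹, ?_⟩, (u ≫ z)⁻¹ * h * (u ≫ z), ?_⟩, z ≫ c, Category.assoc _ _ _⟩
    · simp only [MonObj.mul_comp, GrpObj.inv_comp, Category.assoc]
    · simp only [MonObj.mul_comp, GrpObj.inv_comp, Category.assoc]

end Groth.Agent.S8424
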