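import Groth.Statements.S8425
import Groth.Agent.CAlg6.BorelSelfNorm
-- import your own Groth.Agent.* helpers here

set_option autoImplicit false
universe u
open CategoryTheory MonoidalCategory CartesianMonoidalCategory MonObj GrpObj AlgebraicGeometry
open SGA3x

namespace Groth.Agent.S8425

/-- Let G be an S-group scheme, smooth and of finite presentation over S with connected fibres, and b :
B → G a Borel subgroup: a subgroup scheme (a homomorphism which is an immersion), smooth and of
finite presentation over S, every geometric fibre of which is a Borel subgroup of the corresponding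
geometric fibre of G. Then B is its own normalizer, and B is a closed subscheme of G. -/
theorem result (S : Scheme.{u}) (G : Over S) [GrpObj G]
    [Smooth G.hom] [QuasiCompact G.hom] [QuasiSeparated G.hom] (hconn : ∀ s : S, _root_.IsConnected (G.hom.base ⁻¹' {s}))
    (B : Over S) [GrpObj B] (b : B ⟶ G) (hB : (IsMonHom b ∧ IsImmersion b.left ∧ Smooth B.hom ∧ QuasiCompact B.hom ∧
      ∀ s : S, Red.IsBorelOver (AlgebraicClosure (S.residueField s)) ((Over.pullback (Red.geomPt s)).map b))) :
    Red.IsNormalizerOf b b ∧ IsClosedImmersion b.left := by
  obtain ⟨hm, hi, hs, -, hgeo⟩ := hB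
  haveI := hm
  haveI := hi
  haveI := hs
  haveI : Mono b := Over.mono_of_mono_left b
  exact Groth.Agent.CAlg6.BorelSelfNorm.isNormalizerOf_and_closed hconn b hgeo

end Groth.Agent.S8425
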