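import Groth.Statements.S8441
import Mathlib.LinearAlgebra.RootSystem.Base

set_option autoImplicit false
universe u v w
open SGA3t2b

namespace Groth.Agent.S8441

/-- Let R be a root system with a system of simple roots a₁, …, aₙ and simple reflections rᵢ, and put θᵢ
= rₙ ⋯ rᵢ₊₁(aᵢ). Then the θᵢ form a basis of the group generated by the roots. Stated for a root
pairing over ℤ (Mathlib) with a base whose support is enumerated by Fin n: the θᵢ are ℤ-linearly
independent and their ℤ-span is the ℤ-span of all roots. -/
theorem result {ι : Type u} {M : Type v} {N : Type w} [AddCommGroup M] [Module ℤ M]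
    [AddCommGroup N] [Module ℤ N] (P : RootPairing ι ℤ M N) (b : P.Base) (n : ℕ) (e : Fin n ≃ ↥b.support) :
    LinearIndependent ℤ (fun i : Fin n =>
      ((List.finRange n).filter (fun j => i < j)).foldl (fun x j => P.reflection (e j : ι) x) (P.root (e i : ι))) ∧
    Submodule.span ℤ (Set.range (fun i : Fin n =>
      ((List.finRange n).filter (fun j => i < j)).foldl (fun x j => P.reflection (e j : ι) x) (P.root (e i : ι)))) =
      Submodule.span ℤ (Set.range P.root) := by
  classical
  obtain rfl : ‹Module ℤ M› = AddCommGroup.toIntModule M := Subsingleton.elim _ _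
  obtain rfl : ‹Module ℤ N› = AddCommGroup.toIntModule N := Subsingleton.elim _ _
  set v : Fin n → M := fun i => P.root (e i : ι) with hv
  set θ : Fin n → M := fun i =>
    ((List.finRange n).filter (fun j => i < j)).foldl (fun x j => P.reflection (e j : ι) x) (P.root (e i : ι))
    with hθ
  have htri : ∀ i, θ i - v i ∈ Submodule.span ℤ (v '' {j | i < j}) := by
    intro i
    suffices H : ∀ (l : List (Fin n)) (x : M), (∀ j ∈ l, i < j) →
        x - v i ∈ Submodule.span ℤ (v '' {j | i < j}) →
        l.foldl (fun x j => P.reflection (e j : ι) x) x - v i ∈ Submodule.span ℤ (v '' {j | i < j}) from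
      H _ _ (fun j hj => by simpa using (List.mem_filter.mp hj).2) (by simp [hv])
    intro l
    induction l with
    | nil => exact fun x _ h => h
    | cons j l ih =>
      intro x hl hx
      refine ih _ (fun k hk => hl k (by simp [hk])) ?_
      dsimp only
      rw [RootPairing.reflection_apply, sub_right_comm]
      exact sub_mem hx (Submodule.smul_mem _ _ (Submodule.subset_span ⟨j, hl j (by simp), rfl⟩))
  have hli : LinearIndependent ℤ v := by
    exact b.linearIndepOn_root.linearIndependent.comp e e.injective
  have hrange : Set.range v = P.root '' (b.support : Set ι) := by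
    rw [Set.image_eq_range]
    exact e.surjective.range_comp (fun x : b.support => P.root x)
  constructor
  · rw [Fintype.linearIndependent_iff]
    intro c hc i
    induction i using WellFoundedLT.induction with
    | ind i ih =>
      have hmem : c i • v i ∈ Submodule.span ℤ (v '' {j | i < j}) := by
        rw [← Finset.add_sum_erase _ _ (Finset.mem_univ i)] at hc
        rw [show c i • v i = -(∑ x ∈ Finset.univ.erase i, c x • θ x) - c i • (θ i - v i) by
          rw [smul_sub, ← eq_neg_of_add_eq_zero_left hc, sub_sub_cancel]]
        refine sub_mem (neg_mem (Submodule.sum_mem _ fun x hx => ?_)) (Submodule.smul_mem _ _ (htri i))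
        rcases lt_or_gt_of_ne (Finset.ne_of_mem_erase hx) with h | h
        · simp [ih x h]
        · refine Submodule.smul_mem _ _ ?_
          rw [show θ x = (θ x - v x) + v x by abel]
          exact add_mem (Submodule.span_mono (Set.image_mono fun j hj => lt_trans h hj) (htri x))
            (Submodule.subset_span ⟨x, h, rfl⟩)
      refine hli.eq_zero_of_smul_mem_span i (c i) (Submodule.span_mono (Set.image_mono ?_) hmem)
      exact fun j hj => ⟨Set.mem_univ j, fun h => (ne_of_gt hj) h⟩
  · rw [← b.span_int_root_support, ← hrange]
    refine le_antisymm (Submodule.span_le.mpr ?_) (Submodule.span_le.mpr ?_)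
    · rintro _ ⟨i, rfl⟩
      have : θ i = (θ i - v i) + v i := by abel
      change θ i ∈ Submodule.span ℤ (Set.range v)
      rw [this]
      exact add_mem (Submodule.span_mono (Set.image_subset_range _ _) (htri i))
        (Submodule.subset_span ⟨i, rfl⟩)
    · rintro _ ⟨i, rfl⟩
      induction i using (wellFounded_gt : WellFounded (α := Fin n) (· > ·)).induction with
      | h i ih =>
        change v i ∈ Submodule.span ℤ (Set.range θ)
        rw [show v i = θ i - (θ i - v i) by abel]
        exact sub_mem (Submodule.subset_span ⟨i, rfl⟩)
          ((Submodule.span_le.mpr (by rintro _ ⟨j, hj, rfl⟩; exact ih j hj)) (htri i))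

end Groth.Agent.S8441
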