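import Groth.Statements.S8445
import Groth.Agent.RedPts82.Weights
import Groth.Agent.RedPts82.RankOneGeom

set_option autoImplicit false
universe u
open CategoryTheory MonoidalCategory CartesianMonoidalCategory MonObj GrpObj AlgebraicGeometry CategoryTheory.Limits
open Red

namespace Groth.Agent.S8445

open Groth.Agent.RedPts82

variable {S : Scheme.{u}}

theorem epi_of_cover {X X' : Over S} (k : X' ⟶ X) (hf : Flat k.left) (hs : Surjective k.left) :
    Epi k := by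
  have : Epi k.left := Flat.epi_of_flat_of_surjective _
  exact (Over.forget S).epi_of_epi_map (f := k) this

theorem gaFn_eq_of_cover {X X' : Over S} (k : X' ⟶ X) (hf : Flat k.left) (hs : Surjective k.left)
    {r r' : Γ(X.left, ⊤)} (h : k.left.appTop r = k.left.appTop r') : r = r' := by
  have := epi_of_cover k hf hs
  have e : gaPt (S := S) r = gaPt r' := by
    rw [← cancel_epi k]
    exact gaFn_injective (by rw [gaFn_comp, gaFn_comp, gaFn_gaPt, gaFn_gaPt, h])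
  simpa [gaFn_gaPt] using congrArg Red.gaFn e

end Groth.Agent.S8445

namespace Groth.Agent.S8445

/-- Let G be an S-group scheme, i : T ⟶ G a torus of G, j : Q ⟶ T a subtorus, α a character of T whose
restriction to Q is non-trivial on every geometric fibre, and p₊, p₋ : 𝔾_a ⟶ G homomorphisms
normalised by T with multipliers α and α⁻¹ (i(t) p₊(x) i(t)⁻¹ = p₊(α(t) x), i(t) p₋(y) i(t)⁻¹ =
p₋(α(t)⁻¹ y)) such that the morphism 𝔾_a ×_S T ×_S 𝔾_a ⟶ G, (y, t, x) ↦ p₋(y) i(t) p₊(x), is an open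
immersion. Let q ≥ 0 and let p : 𝔾_a ⟶ G be a homomorphism such that conjugating p(x) q times by
i(j(t)) gives p(α(t) x), for all points t of Q and x of 𝔾_a. Then there is exactly one S-point ν of
𝔾_a such that p(x) = p₊(ν x^q) for every point x of 𝔾_a with values in any S-scheme. -/
theorem result (S : Scheme.{u}) (G T : Over S) [GrpObj G] [GrpObj T] (i : T ⟶ G) [IsMonHom i] [Mono i] (hT : Red.IsTorus T)
    (Q : Over S) [GrpObj Q] (j : Q ⟶ T) [IsMonHom j] [Mono j] (hQ : Red.IsTorus Q)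
    (α : T ⟶ Red.Gm S) [IsMonHom α] (hα : ∀ s : S, (Over.pullback (Red.geomPt s)).map (j ≫ α) ≠ 1)
    (pp pm : Red.Ga S ⟶ G) [IsMonHom pp] [IsMonHom pm]
    (hpp : ∀ (X : Over S) (t : X ⟶ T) (x : X ⟶ Red.Ga S), ∃ x' : X ⟶ Red.Ga S,
      x' ≫ pp = (t ≫ i) * (x ≫ pp) * (t ≫ i)⁻¹ ∧ Red.gaFn x' = Red.gmFn (t ≫ α) * Red.gaFn x)
    (hpm : ∀ (X : Over S) (t : X ⟶ T) (y : X ⟶ Red.Ga S), ∃ y' : X ⟶ Red.Ga S,
      y' ≫ pm = (t ≫ i) * (y ≫ pm) * (t ≫ i)⁻¹ ∧ Red.gaFn y' * Red.gmFn (t ≫ α) = Red.gaFn y)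
    (hΩ : IsOpenImmersion (((pm ⊗ₘ i) ⊗ₘ pp) ≫ (μ[G] ▷ G) ≫ μ[G]).left) (q : ℕ) (p : Red.Ga S ⟶ G) [IsMonHom p]
    (hp : ∀ (X : Over S) (t : X ⟶ Q) (x x' : X ⟶ Red.Ga S), Red.gaFn x' = Red.gmFn (t ≫ j ≫ α) * Red.gaFn x →
      x' ≫ p = ((t ≫ j ≫ i) ^ q) * (x ≫ p) * ((t ≫ j ≫ i) ^ q)⁻¹) :
    ∃! ν : 𝟙_ (Over S) ⟶ Red.Ga S, ∀ (X : Over S) (x y : X ⟶ Red.Ga S),
      Red.gaFn y = Red.gaFn (toUnit X ≫ ν) * Red.gaFn x ^ q → x ≫ p = y ≫ pp := by
  open Groth.Agent.RedPts82 in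
  have H : BC G T i α pp pm :=
    ⟨‹_›, ‹_›, ‹_›, ‹_›, hT, hpp, hpm, fun s h => hα s (by
      have : IsMonHom ((Over.pullback (Red.geomPt s)).map j) := inferInstance
      rw [Functor.map_comp, h, MonObj.comp_one]), hΩ⟩
  have hconj : ∀ (W : Over S) (t : W ⟶ Q) (x x' : W ⟶ Red.Ga S),
      Red.gaFn x' = Red.gmFn (t ≫ j ≫ α) * Red.gaFn x →
      x' ≫ p = (((t ≫ j) ^ q) ≫ i) * (x ≫ p) * (((t ≫ j) ^ q) ≫ i)⁻¹ := by
    intro W t x x' h
    rw [hp W t x x' h, MonObj.pow_comp, Category.assoc]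
  have hin : Groth.Agent.RedPts82.InCell i pp pm p := by
    refine H.inCell_of_scaling p (fun W => ?_) (fun W t x x' hx hin => ?_)
    · rw [show Groth.Agent.RedPts82.gaPt (X := W) 0 = 1 from Groth.Agent.RedPts82.gaFn_injective
        (by rw [Groth.Agent.RedPts82.gaFn_gaPt, Groth.Agent.RedPts82.gaFn_one]), MonObj.one_comp p]
      exact H.one_inCell W
    · obtain ⟨X', k, t', -, hks, ht⟩ := Groth.Agent.RedPts82.exists_root hQ (j ≫ α) hα (t ≫ α)
      refine Groth.Agent.RedPts82.InCell.of_surjective k hks ?_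
      rw [← Category.assoc, hconj X' t' (k ≫ x) (k ≫ x') (by
        rw [ht, Groth.Agent.RedPts82.gmFn_comp, Groth.Agent.RedPts82.gaFn_comp,
          Groth.Agent.RedPts82.gaFn_comp, hx, map_mul])]
      exact H.inCell_conj _ (by rw [Category.assoc]; exact hin.comp k)
  obtain ⟨ψm, τ, ψp, hφ⟩ := H.exists_of_inCell hin
  have hpt : ∀ (W : Over S) (w : W ⟶ Red.Ga S), w ≫ p =
      ((w ≫ ψm) ≫ pm) * ((w ≫ τ) ≫ i) * ((w ≫ ψp) ≫ pp) := by
    intro W w
    rw [hφ, MonObj.comp_mul, MonObj.comp_mul]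
    simp only [Category.assoc]
  open Groth.Agent.RedPts82 in
  have hw : ∀ (W : Over S) (z : W ⟶ Red.Gm S) (x x' : W ⟶ Red.Ga S),
      Red.gaFn x' = Red.gmFn z * Red.gaFn x →
      Red.gaFn (x' ≫ ψm) * Red.gmFn z ^ q = Red.gaFn (x ≫ ψm) ∧
      Red.gaFn (x' ≫ ψp) = Red.gmFn z ^ q * Red.gaFn (x ≫ ψp) ∧ x' ≫ τ = x ≫ τ := by
    intro W z x x' hx
    obtain ⟨X', k, t, hkf, hks, ht⟩ := exists_root hQ (j ≫ α) hα z
    have e := hconj X' t (k ≫ x) (k ≫ x') (by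
      rw [ht, gmFn_comp, gaFn_comp, gaFn_comp, hx, map_mul])
    obtain ⟨m', p', hm', hp', ec⟩ :=
      H.conj_cell ((t ≫ j) ^ q) (k ≫ x ≫ τ) (k ≫ x ≫ ψm) (k ≫ x ≫ ψp)
    rw [hpt, hpt] at e
    simp only [Category.assoc] at e ec
    rw [ec] at e
    simp only [← Category.assoc _ _ pm, ← Category.assoc _ _ pp, ← Category.assoc _ _ i] at e
    obtain ⟨ea, eb, ed⟩ := H.inj e
    have hval : Red.gmFn (((t ≫ j) ^ q) ≫ α) = k.left.appTop (Red.gmFn z) ^ q := by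
      have : IsMonHom α := H.hα
      rw [MonObj.pow_comp _ _ α, gmFn_pow, Category.assoc, ht, gmFn_comp]
    rw [hval] at hm' hp'
    have := epi_of_cover k hkf hks
    refine ⟨gaFn_eq_of_cover k hkf hks ?_, gaFn_eq_of_cover k hkf hks ?_, ?_⟩
    · rw [map_mul, map_pow, ← gaFn_comp, ← gaFn_comp, ← Category.assoc, ← Category.assoc] at *
      rw [ea, hm', Category.assoc]
    · rw [map_mul, map_pow, ← gaFn_comp, ← gaFn_comp, ← Category.assoc, ← Category.assoc] at *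
      rw [ed, hp', Category.assoc]
    · rw [← cancel_epi k]
      simpa only [Category.assoc] using eb
  open Groth.Agent.RedPts82 in
  have h0 : ∀ W : Over S, gaPt (X := W) 0 = 1 := fun W =>
    gaFn_injective (by rw [gaFn_gaPt, gaFn_one])
  have h0' : ∀ W : Over S,
      (1 : W ⟶ Red.Ga S) ≫ ψm = 1 ∧ (1 : W ⟶ Red.Ga S) ≫ τ = 1 := by
    intro W
    have e := hpt W 1
    rw [MonObj.one_comp p, ← H.cell_one W] at e
    exact ⟨(H.inj e).1.symm, (H.inj e).2.1.symm⟩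
  open Groth.Agent.RedPts82 in
  have hτ : ∀ (W : Over S) (w : W ⟶ Red.Ga S), w ≫ τ = 1 := by
    intro W w
    rw [const_of_invariant (isTorus_isAffineHom hT) τ 1 one_ne_zero
      (fun W z x x' hx => (hw W z x x' (by rw [hx, pow_one])).2.2) w, h0, (h0' W).2]
  open Groth.Agent.RedPts82 in
  have hψm : ∀ (W : Over S) (w : W ⟶ Red.Ga S), w ≫ ψm = 1 := by
    intro W w
    rcases Nat.eq_zero_or_pos q with rfl | hq
    · have hinv : ∀ (W : Over S) (v : W ⟶ Red.Ga S),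
          Red.gaFn (v ≫ ψm) = Red.gaFn (gaPt (X := W) 1 ≫ ψm) * Red.gaFn v ^ 0 := fun W v =>
        eq_mul_pow_of_weight ψm 1 one_ne_zero 0 (fun W z x x' hx => by
          have := (hw W z x x' (by rw [hx, pow_one])).1
          rw [pow_zero, _root_.mul_one] at this
          simp [this]) v
      have e0 := hinv W 1
      rw [(h0' W).1, gaFn_one, pow_zero, _root_.mul_one] at e0
      exact gaFn_injective (by rw [hinv, ← e0, gaFn_one, zero_mul])
    · rw [eq_one_of_weight_neg ψm 1 one_ne_zero (-(q : ℤ)) (by omega) fun W z x x' hx => by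
          have e := (hw W z x x' (by rw [hx, pow_one])).1
          rw [← val_gmU, ← Units.val_pow_eq_pow_val, mul_comm] at e
          rw [← e, zpow_neg, zpow_natCast, ← _root_.mul_assoc, Units.inv_mul, _root_.one_mul],
        MonObj.comp_one]
  open Groth.Agent.RedPts82 in
  have hp' : ∀ (W : Over S) (w : W ⟶ Red.Ga S),
      w ≫ p = gaPt (Red.gaFn (toUnit W ≫ gaPt (X := 𝟙_ (Over S)) 1 ≫ ψp) * Red.gaFn w ^ q) ≫ pp := by
    intro W w
    rw [hpt, hψm, hτ, MonObj.one_comp pm, MonObj.one_comp i, _root_.one_mul, _root_.one_mul]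
    congr 1
    refine gaFn_injective ?_
    have e1 : toUnit W ≫ gaPt (X := 𝟙_ (Over S)) 1 = gaPt (X := W) 1 :=
      gaFn_injective (by rw [gaFn_comp, gaFn_gaPt, gaFn_gaPt, map_one])
    rw [gaFn_gaPt, ← Category.assoc (toUnit W), e1]
    refine eq_mul_pow_of_weight ψp 1 one_ne_zero q (fun W z x x' hx => ?_) w
    rw [(hw W z x x' (by rw [hx, pow_one])).2.1, ← val_gmU, ← Units.val_pow_eq_pow_val,
      _root_.one_mul, zpow_natCast]
  open Groth.Agent.RedPts82 in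
  refine ⟨gaPt (X := 𝟙_ (Over S)) 1 ≫ ψp, fun W x y hy => ?_, fun ν hν => gaFn_injective ?_⟩
  · open Groth.Agent.RedPts82 in
    rw [hp', ← hy, gaPt_gaFn]
  · open Groth.Agent.RedPts82 in
    have e1 := hν _ (gaPt 1) (gaPt (Red.gaFn ν)) (by
      rw [gaFn_gaPt, gaFn_gaPt, one_pow, _root_.mul_one, toUnit_unit, Category.id_comp])
    open Groth.Agent.RedPts82 in
    rw [hp', gaFn_gaPt, one_pow, _root_.mul_one, toUnit_unit, Category.id_comp] at e1
    open Groth.Agent.RedPts82 in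
    have e2 := H.inj (t := 1) (t' := 1) (y := 1) (y' := 1)
      (congrArg (fun r => ((1 : 𝟙_ (Over S) ⟶ Red.Ga S) ≫ pm) * ((1 : 𝟙_ (Over S) ⟶ T) ≫ i) * r) e1)
    open Groth.Agent.RedPts82 in
    simpa [gaFn_gaPt] using (congrArg Red.gaFn e2.2.2).symm

end Groth.Agent.S8445
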