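import Groth.Statements.S8447
import Groth.Agent.RedPts82.RankOneGeom

set_option autoImplicit false
universe u
open CategoryTheory MonoidalCategory CartesianMonoidalCategory MonObj GrpObj AlgebraicGeometry CategoryTheory.Limits
open Red

namespace Groth.Agent.S8447

open Groth.Agent.RedPts82

variable {S : Scheme.{u}}

/-- An element killed by `z - 1` for the universal unit `z` is zero. -/
theorem eq_zero_of_mul_universal (Z : Over S) [IsAffine Z.left] (r : Γ(Z.left, ⊤))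
    (h : Red.gmFn (polyTu Z ℤ) * (polyProj Z ℤ).left.appTop r = (polyProj Z ℤ).left.appTop r) :
    r = 0 := by
  rw [gmFn_eq, dsFn_polyTu, polyProj_appTop, ← map_mul, MonoidAlgebra.single_mul_single] at h
  have e := congrArg (fun a => a.coeff (Multiplicative.ofAdd (1 : ℤ))) ((polyCoord_bijective Z ℤ).1 h)
  simpa [Finsupp.single_apply] using e

/-- A function fixed by the action of a character nontrivial on every geometric fibre vanishes. -/
theorem eq_one_of_fixed {G T : Over S} [GrpObj G] [GrpObj T] {i : T ⟶ G} {α : T ⟶ Red.Gm S}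
    {pp pm : Red.Ga S ⟶ G} (H : BC G T i α pp pm) {X : Over S} (y : X ⟶ Red.Ga S)
    (h : ∀ (X' : Over S) (k : X' ⟶ X) (t : X' ⟶ T),
      Red.gmFn (t ≫ α) * Red.gaFn (k ≫ y) = Red.gaFn (k ≫ y)) : y = 1 := by
  refine hom_ext_affine fun Z hZ k => gaFn_injective ?_
  rw [MonObj.comp_one, gaFn_one]
  refine eq_zero_of_mul_universal Z _ ?_
  have e : gaPt (Red.gmFn (polyTu Z ℤ) * Red.gaFn (polyProj Z ℤ ≫ k ≫ y)) = polyProj Z ℤ ≫ k ≫ y := by
    refine H.eq_of_root (polyTu Z ℤ) fun X' l t ht => gaFn_injective ?_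
    have e' := h X' (l ≫ polyProj Z ℤ ≫ k) t
    simp only [Category.assoc] at e'
    rw [gaFn_comp l, gaFn_gaPt, map_mul, ← gmFn_comp, ← gaFn_comp, ← ht]
    exact e'
  have := congrArg Red.gaFn e
  rw [gaFn_gaPt, gaFn_comp] at this
  exact this

end Groth.Agent.S8447

namespace Groth.Agent.S8447

/-- Let G be a reductive S-group, i : T ⟶ G a maximal torus, α a character of T non-trivial on every
geometric fibre, and p₊, p₋ : 𝔾_a ⟶ G monomorphisms of groups normalised by T with multipliers α and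
α⁻¹ such that 𝔾_a ×_S T ×_S 𝔾_a ⟶ G, (y, t, x) ↦ p₋(y) i(t) p₊(x), is an open immersion (a rank-one
system: G has semisimple rank 1 and p₊, p₋ trivialise the root groups of α and -α). Then the centre
of G is Ker α: a point g of G with values in an S-scheme X commutes with all points of G after every
base change X' ⟶ X if and only if g = i(t) for some X-point t of T with α(t) = 1. (In particular the
centre is a closed subgroup of multiplicative type; only the equality of points is stated.) -/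
theorem result (S : Scheme.{u}) (G T : Over S) [GrpObj G] [GrpObj T] (i : T ⟶ G) [IsMonHom i] [Mono i] (hG : Red.IsReductive G) (hTm : Red.IsMaximalTorus i)
    (α : T ⟶ Red.Gm S) [IsMonHom α] (hα : ∀ s : S, (Over.pullback (Red.geomPt s)).map α ≠ 1)
    (pp pm : Red.Ga S ⟶ G) [IsMonHom pp] [Mono pp] [IsMonHom pm] [Mono pm]
    (hpp : ∀ (X : Over S) (t : X ⟶ T) (x : X ⟶ Red.Ga S), ∃ x' : X ⟶ Red.Ga S,
      x' ≫ pp = (t ≫ i) * (x ≫ pp) * (t ≫ i)⁻¹ ∧ Red.gaFn x' = Red.gmFn (t ≫ α) * Red.gaFn x)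
    (hpm : ∀ (X : Over S) (t : X ⟶ T) (y : X ⟶ Red.Ga S), ∃ y' : X ⟶ Red.Ga S,
      y' ≫ pm = (t ≫ i) * (y ≫ pm) * (t ≫ i)⁻¹ ∧ Red.gaFn y' * Red.gmFn (t ≫ α) = Red.gaFn y)
    (hΩ : IsOpenImmersion (((pm ⊗ₘ i) ⊗ₘ pp) ≫ (μ[G] ▷ G) ≫ μ[G]).left) (X : Over S) (g : X ⟶ G) :
    (∀ (X' : Over S) (x : X' ⟶ X) (k : X' ⟶ G), (x ≫ g) * k = k * (x ≫ g)) ↔
      ∃ t : X ⟶ T, t ≫ i = g ∧ t ≫ α = 1 := by
  open Groth.Agent.RedPts82 in
  have H : BC G T i α pp pm := ⟨‹_›, ‹_›, ‹_›, ‹_›, hTm.2.2.1, hpp, hpm, hα, hΩ⟩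
  constructor
  · intro hc
    have hin : Groth.Agent.RedPts82.InCell i pp pm g := by
      obtain ⟨X', k, y, y', t, t', x, x', -, hs, e⟩ := H.exists_cell_div hG g
      refine Groth.Agent.RedPts82.InCell.of_surjective k hs ?_
      obtain ⟨r', hr', -⟩ := hpp X' t' (x * x'⁻¹)
      have e2 : k ≫ g = ((y'⁻¹ * y) ≫ pm) * ((t * t'⁻¹) ≫ i) * (r' ≫ pp) := by
        have hcomm := hc X' k (y' ≫ pm)
        have e1 : k ≫ g = (y' ≫ pm)⁻¹ * (k ≫ g) * (y' ≫ pm) := by
          rw [_root_.mul_assoc, hcomm, inv_mul_cancel_left]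
        rw [e1, e, hr', MonObj.mul_comp _ _ pm, MonObj.mul_comp _ _ i, MonObj.mul_comp _ _ pp,
          GrpObj.inv_comp _ pm, GrpObj.inv_comp _ i, GrpObj.inv_comp _ pp]
        group
      rw [e2]
      exact Groth.Agent.RedPts82.inCell_mk ..
    obtain ⟨y, t, x, hg⟩ := H.exists_of_inCell hin
    have hfix : ∀ (X' : Over S) (k : X' ⟶ X) (t' : X' ⟶ T),
        Red.gmFn (t' ≫ α) * Red.gaFn (k ≫ y) = Red.gaFn (k ≫ y) ∧
          Red.gmFn (t' ≫ α) * Red.gaFn (k ≫ x) = Red.gaFn (k ≫ x) := by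
      intro X' k t'
      have hkg : k ≫ g = ((k ≫ y) ≫ pm) * ((k ≫ t) ≫ i) * ((k ≫ x) ≫ pp) := by
        rw [hg, MonObj.comp_mul, MonObj.comp_mul]; simp only [Category.assoc]
      obtain ⟨y', x', hy', hx', ec⟩ := H.conj_cell t' (k ≫ t) (k ≫ y) (k ≫ x)
      rw [← hkg, ← hc X' k (t' ≫ i), mul_inv_cancel_right, hkg] at ec
      obtain ⟨ey, -, ex⟩ := H.inj ec
      exact ⟨by rw [← ey, mul_comm] at hy'; exact hy', by rw [← ex] at hx'; exact hx'.symm⟩
    have hy : y = 1 := Groth.Agent.S8447.eq_one_of_fixed H y fun X' k t' => (hfix X' k t').1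
    have hx : x = 1 := Groth.Agent.S8447.eq_one_of_fixed H x fun X' k t' => (hfix X' k t').2
    rw [hy, hx, MonObj.one_comp pm, MonObj.one_comp pp, _root_.one_mul, _root_.mul_one] at hg
    refine ⟨t, hg.symm, Groth.Agent.RedPts82.gmFn_injective ?_⟩
    obtain ⟨x', e1, e2⟩ := hpp X t (Groth.Agent.RedPts82.gaPt 1)
    have hcomm := hc X (𝟙 X) (Groth.Agent.RedPts82.gaPt 1 ≫ pp)
    rw [Category.id_comp, hg] at hcomm
    rw [hcomm, mul_inv_cancel_right, cancel_mono] at e1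
    rw [e1, Groth.Agent.RedPts82.gaFn_gaPt, _root_.mul_one] at e2
    rw [← e2, Groth.Agent.RedPts82.gmFn_one]
  · rintro ⟨t, rfl, ht⟩ X' x k
    obtain ⟨X'', l, y₁, y₂, t₁, t₂, x₁, x₂, hf, hs, e⟩ := H.exists_cell_div hG k
    have : Epi l := by
      have : Epi l.left := Flat.epi_of_flat_of_surjective _
      exact (Over.forget S).epi_of_epi_map (f := l) this
    rw [← cancel_epi l, MonObj.comp_mul, MonObj.comp_mul, e]
    set t' := l ≫ x ≫ t
    have ht' : t' ≫ α = 1 := by simp only [t', Category.assoc, ht, MonObj.comp_one]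
    have hl : l ≫ x ≫ t ≫ i = t' ≫ i := by simp only [t', Category.assoc]
    rw [hl]
    have hP : ∀ r : X'' ⟶ Red.Ga S, Commute (t' ≫ i) (r ≫ pp) := by
      intro r
      obtain ⟨r', e1, e2⟩ := hpp X'' t' r
      rw [ht', Groth.Agent.RedPts82.gmFn_one, _root_.one_mul] at e2
      rw [Groth.Agent.RedPts82.gaFn_injective e2] at e1
      exact mul_inv_eq_iff_eq_mul.mp e1.symm
    have hM : ∀ r : X'' ⟶ Red.Ga S, Commute (t' ≫ i) (r ≫ pm) := by
      intro r
      obtain ⟨r', e1, e2⟩ := hpm X'' t' r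
      rw [ht', Groth.Agent.RedPts82.gmFn_one, _root_.mul_one] at e2
      rw [Groth.Agent.RedPts82.gaFn_injective e2] at e1
      exact mul_inv_eq_iff_eq_mul.mp e1.symm
    have hTc : ∀ r : X'' ⟶ T, Commute (t' ≫ i) (r ≫ i) := by
      intro r
      show _ * _ = _ * _
      rw [← MonObj.mul_comp t' r i, ← MonObj.mul_comp r t' i,
        Groth.Agent.RedPts82.isTorus_points_comm hTm.2.2.1]
    exact ((((hM y₁).mul_right (hTc t₁)).mul_right (hP x₁)).mul_right
      (((hM y₂).mul_right (hTc t₂)).mul_right (hP x₂)).inv_right).eq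

end Groth.Agent.S8447
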