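import Groth.Statements.S8450
import Groth.Agent.RedPts82.RankOneGeom
-- import your own Groth.Agent.* helpers here

set_option autoImplicit false
universe u
open CategoryTheory MonoidalCategory CartesianMonoidalCategory MonObj GrpObj AlgebraicGeometry CategoryTheory.Limits
open Red
open Groth.Agent.RedPts82

namespace Groth.Agent.S8450


theorem conj_h {S : Scheme.{u}} {G T : Over S} [GrpObj G] [GrpObj T] {i : T ⟶ G} {α : T ⟶ Red.Gm S}
    {pp pm : Red.Ga S ⟶ G} {av : Red.Gm S ⟶ T} (HR : RH G T i α pp pm av) {X : Over S}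
    (v : Γ(X.left, ⊤)ˣ) (y x : Γ(X.left, ⊤)) (t : X ⟶ T) :
    (HR.data X).h v * ((HR.data X).M y * (HR.data X).τ t * (HR.data X).P x) * ((HR.data X).h v)⁻¹ =
      (HR.data X).M (((v⁻¹ : Γ(X.left, ⊤)ˣ) : Γ(X.left, ⊤)) * ((v⁻¹ : Γ(X.left, ⊤)ˣ) : Γ(X.left, ⊤)) * y) *
        (HR.data X).τ t * (HR.data X).P ((v : Γ(X.left, ⊤)) * v * x) := by
  set D := HR.data X
  have hc : D.h v * D.τ t = D.τ t * D.h v := by rw [R1.h, ← map_mul, ← map_mul, D.comm]
  rw [← _root_.mul_assoc, ← _root_.mul_assoc, D.h_M, _root_.mul_assoc (D.M _) (D.h v) (D.τ t), hc,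
    ← _root_.mul_assoc, _root_.mul_assoc _ (D.h v) (D.P x), D.h_P, ← _root_.mul_assoc,
    mul_inv_cancel_right]

theorem result (S : Scheme.{u}) (G T : Over S) [GrpObj G] [GrpObj T] (i : T ⟶ G) [IsMonHom i] [Mono i] (hG : Red.IsReductive G) (hTm : Red.IsMaximalTorus i)
    (α : T ⟶ Red.Gm S) [IsMonHom α] (hα : ∀ s : S, (Over.pullback (Red.geomPt s)).map α ≠ 1)
    (pp pm : Red.Ga S ⟶ G) [IsMonHom pp] [Mono pp] [IsMonHom pm] [Mono pm]
    (hpp : ∀ (X : Over S) (t : X ⟶ T) (x : X ⟶ Red.Ga S), ∃ x' : X ⟶ Red.Ga S,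
      x' ≫ pp = (t ≫ i) * (x ≫ pp) * (t ≫ i)⁻¹ ∧ Red.gaFn x' = Red.gmFn (t ≫ α) * Red.gaFn x)
    (hpm : ∀ (X : Over S) (t : X ⟶ T) (y : X ⟶ Red.Ga S), ∃ y' : X ⟶ Red.Ga S,
      y' ≫ pm = (t ≫ i) * (y ≫ pm) * (t ≫ i)⁻¹ ∧ Red.gaFn y' * Red.gmFn (t ≫ α) = Red.gaFn y)
    (hΩ : IsOpenImmersion (((pm ⊗ₘ i) ⊗ₘ pp) ≫ (μ[G] ▷ G) ≫ μ[G]).left)
    (av : Red.Gm S ⟶ T) [IsMonHom av] (h2 : av ≫ α = (𝟙 (Red.Gm S)) ^ 2)
    (hF : ∀ (X : Over S) (x y : X ⟶ Red.Ga S), IsUnit (1 + Red.gaFn x * Red.gaFn y) →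
      ∃ (x' y' : X ⟶ Red.Ga S) (z : X ⟶ Red.Gm S), Red.gmFn z = 1 + Red.gaFn x * Red.gaFn y ∧
        Red.gaFn x' * Red.gmFn z = Red.gaFn x ∧ Red.gaFn y' * Red.gmFn z = Red.gaFn y ∧
        (x ≫ pp) * (y ≫ pm) = (y' ≫ pm) * (z ≫ av ≫ i) * (x' ≫ pp))
    (n : ℤ) (hn : n ≠ 0) (X : Over S) (g : X ⟶ G) :
    (∀ (X' : Over S) (y : X' ⟶ X) (z : X' ⟶ Red.Gm S),
        (y ≫ g) * (((z ≫ av) ^ n) ≫ i) = (((z ≫ av) ^ n) ≫ i) * (y ≫ g)) ↔ ∃ t : X ⟶ T, t ≫ i = g := by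
  have H : BC G T i α pp pm := ⟨‹_›, ‹_›, ‹_›, ‹_›, hTm.2.2.1, hpp, hpm, hα, hΩ⟩
  have HR : RH G T i α pp pm av := ⟨‹_›, ‹_›, ‹_›, ‹_›, ‹_›, hTm.2.2.1, hpp, hpm, h2, hF⟩
  have key : ∀ (Y : Over S) (z : Y ⟶ Red.Gm S),
      ((z ≫ av) ^ n) ≫ i = (HR.data Y).h (gmU z ^ n) := by
    intro Y z
    rw [HR.av_pt, HR.τ_pt, R1.h, map_zpow (HR.data Y).av, map_zpow]
  constructor
  · intro hc
    -- the point lies in the cell
    have hin : InCell i pp pm g := InCell.of_field_points fun K _ _ W _ e x => by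
      rcases RH.bruhat' H HR hG e (x ≫ g) with h | ⟨t, c, hg⟩
      · exact h
      exfalso
      obtain ⟨u, hu⟩ := exists_unit_pow_ne_one (X := W) e (m := n + n + (n + n)) (by omega)
      have hcu := hc W x (gmPt u)
      rw [key, show gmU (gmPt (S := S) u) = u from Units.ext (gmFn_gmPt u), hg] at hcu
      set D := HR.data W
      have hwi : ∀ r, D.h r * HR.w₁ W = HR.w₁ W * (D.h r)⁻¹ := fun r => by
        have := D.w_h 1 r⁻¹
        rw [D.h_inv, _root_.inv_inv] at this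
        show D.h r * D.w 1 = D.w 1 * (D.h r)⁻¹
        conv_lhs => rw [← this]
        group
      have e1 : D.h (u ^ n) * (HR.w₁ W * D.τ t * D.P c) =
          HR.w₁ W * (D.τ ((D.av (u ^ n))⁻¹ * t) * D.P c) := by
        calc _ = D.h (u ^ n) * HR.w₁ W * D.τ t * D.P c := by group
          _ = _ := by rw [hwi, map_mul, map_inv]; simp only [R1.h]; group
      have e2 : HR.w₁ W * D.τ t * D.P c * D.h (u ^ n) =
          HR.w₁ W * (D.τ (t * D.av (u ^ n)) *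
            D.P ((((D.a (D.av (u ^ n)))⁻¹ : Γ(W.left, ⊤)ˣ) : Γ(W.left, ⊤)) * c)) := by
        rw [R1.h, _root_.mul_assoc _ (D.P c), D.P_τ, map_mul]
        simp only [_root_.mul_assoc]
      rw [e1, e2] at hcu
      have hcu' := mul_left_cancel hcu
      have e3 : ((1 : W ⟶ Red.Ga S) ≫ pm) * ((t * D.av (u ^ n)) ≫ i) *
          (gaPt ((((D.a (D.av (u ^ n)))⁻¹ : Γ(W.left, ⊤)ˣ) : Γ(W.left, ⊤)) * c) ≫ pp) =
          ((1 : W ⟶ Red.Ga S) ≫ pm) * (((D.av (u ^ n))⁻¹ * t) ≫ i) * (gaPt c ≫ pp) := by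
        rw [MonObj.one_comp pm, _root_.one_mul, _root_.one_mul]
        exact hcu'
      obtain ⟨-, ht, -⟩ := H.inj e3
      have h4 := congrArg D.a ht
      rw [map_mul, map_mul, map_inv, D.a_av, mul_comm _ (D.a t), mul_right_inj] at h4
      apply hu
      rw [zpow_add, zpow_add]
      exact mul_eq_one_iff_eq_inv.mpr h4
    obtain ⟨y, t, x, hg⟩ := H.exists_of_inCell hin
    refine ⟨t, ?_⟩
    -- both additive coordinates vanish
    have h0 : Red.gaFn y = 0 ∧ Red.gaFn x = 0 := by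
      suffices hs : ∀ (Y : Over S), IsAffine Y.left → ∀ k : Y ⟶ X,
          k ≫ y = 1 ∧ k ≫ x = 1 by
        have hy : y = 1 := hom_ext_affine fun Y hY k => by rw [(hs Y hY k).1, MonObj.comp_one]
        have hx : x = 1 := hom_ext_affine fun Y hY k => by rw [(hs Y hY k).2, MonObj.comp_one]
        exact ⟨by rw [hy, gaFn_one], by rw [hx, gaFn_one]⟩
      intro Y hY k
      let W := polyDS Y ℤ
      let q : W ⟶ X := polyProj Y ℤ ≫ k
      have hcu := hc W q (polyTu Y ℤ)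
      rw [key, hg, MonObj.comp_mul, MonObj.comp_mul, ← Category.assoc, ← Category.assoc,
        ← Category.assoc, HR.M_pt, HR.P_pt, HR.τ_pt] at hcu
      set D := HR.data W
      set v := gmU (polyTu Y ℤ) ^ n with hv
      have hcu' := (conj_h HR v (Red.gaFn (q ≫ y)) (Red.gaFn (q ≫ x)) (q ≫ t)).symm.trans
        (mul_inv_eq_iff_eq_mul.mpr hcu.symm : _ = D.M (Red.gaFn (q ≫ y)) * D.τ (q ≫ t) * D.P (Red.gaFn (q ≫ x)))
      obtain ⟨ey, -, ex⟩ := H.inj hcu'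
      have ey' := congrArg (fun k => Red.gaFn k) ey
      have ex' := congrArg (fun k => Red.gaFn k) ex
      simp only [gaFn_gaPt] at ey' ex'
      -- compare coefficients on the universal point
      let ψ : Multiplicative ℤ →* Γ(W.left, ⊤)ˣ :=
        (Units.map (polyCoord Y ℤ).toMonoidHom).comp
          (MonoidAlgebra.of (Gam Y) (Multiplicative ℤ)).toHomUnits
      have hψ : gmU (polyTu Y ℤ) = ψ (Multiplicative.ofAdd (1 : ℤ)) := Units.ext (by
        rw [val_gmU, gmFn_eq, dsFn_polyTu]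
        rfl)
      have hvv : ∀ m : ℤ, ((gmU (polyTu Y ℤ) ^ m : Γ(W.left, ⊤)ˣ) : Γ(W.left, ⊤)) =
          polyCoord Y ℤ (MonoidAlgebra.single (Multiplicative.ofAdd m) 1) := by
        intro m
        rw [hψ, ← map_zpow, ← ofAdd_zsmul, smul_eq_mul, _root_.mul_one]
        rfl
      have hvanish : ∀ (m : ℤ) (r : Gam Y), m ≠ 0 →
          ((gmU (polyTu Y ℤ) ^ m : Γ(W.left, ⊤)ˣ) : Γ(W.left, ⊤)) * (polyProj Y ℤ).left.appTop r =
            (polyProj Y ℤ).left.appTop r → r = 0 := by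
        intro m r hm h
        rw [hvv, polyProj_appTop, ← map_mul, MonoidAlgebra.single_mul_single, _root_.mul_one,
          _root_.one_mul] at h
        have h' := congrArg (fun z => z.coeff (1 : Multiplicative ℤ)) ((polyCoord_bijective Y ℤ).1 h)
        simp only [MonoidAlgebra.coeff_single, Finsupp.single_eq_same] at h'
        rw [Finsupp.single_eq_of_ne (fun h'' => hm (by simpa using h''.symm))] at h'
        exact h'.symm
      rw [show q ≫ y = polyProj Y ℤ ≫ k ≫ y from Category.assoc _ _ _, gaFn_comp,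
        ← Units.val_mul, hv, ← zpow_neg, ← zpow_add] at ey'
      rw [show q ≫ x = polyProj Y ℤ ≫ k ≫ x from Category.assoc _ _ _, gaFn_comp,
        ← Units.val_mul, hv, ← zpow_add] at ex'
      exact ⟨gaFn_injective (by rw [gaFn_one]; exact hvanish _ _ (by omega) ey'),
        gaFn_injective (by rw [gaFn_one]; exact hvanish _ _ (by omega) ex')⟩
    rw [hg, HR.M_pt, HR.P_pt, h0.1, h0.2, (HR.data X).M_zero, (HR.data X).P_zero, _root_.one_mul,
      _root_.mul_one]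
  · rintro ⟨t, rfl⟩ X' y z
    rw [← Category.assoc, ← MonObj.mul_comp _ _ i, ← MonObj.mul_comp _ _ i,
      isTorus_points_comm hTm.2.2.1]

end Groth.Agent.S8450
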