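import Groth.Statements.S8451
import Groth.Agent.RedPts82.W1Nat
import Groth.Agent.S8450
-- import your own Groth.Agent.* helpers here

set_option autoImplicit false
universe u
open CategoryTheory MonoidalCategory CartesianMonoidalCategory MonObj GrpObj AlgebraicGeometry CategoryTheory.Limits
open Red
open Groth.Agent.RedPts82

namespace Groth.Agent.S8451

/-- Let G be a reductive S-group, i : T ⟶ G a maximal torus, α a character of T non-trivial on every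
geometric fibre, p₊, p₋ : 𝔾_a ⟶ G monomorphisms of groups normalised by T with multipliers α and α⁻¹
whose cell map (y, t, x) ↦ p₋(y) i(t) p₊(x) is an open immersion 𝔾_a ×_S T ×_S 𝔾_a ⟶ G, and α^* :
𝔾_m ⟶ T the coroot: α ∘ α^* is the squaring map and p₊(x) p₋(y) = p₋(y/(1+xy)) · i(α^*(1+xy)) ·
p₊(x/(1+xy)) whenever 1 + xy is invertible (so p₊ and p₋ are dual to each other). Let e₁, em be the
S-points of 𝔾_a with coordinates 1 and -1, u = p₊(e₁) and w₀ = p₊(e₁) p₋(em) p₊(e₁). Let n be a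
non-zero integer. If an S-point w of G satisfies w · i(α^*(z))^n · w⁻¹ = i(α^*(z))^{-n} for all
points z of 𝔾_m (after base change) and w u w⁻¹ = u⁻¹ w u⁻¹, then w = w₀. (The published statement
has the condition (w u)³ = e in place of w u w⁻¹ = u⁻¹ w u⁻¹, and also asserts that w₀ has both
properties. The cube condition does not determine w when the centre of G contains a non-trivial cube
root of unity: for G = GL₂ over a field containing a primitive cube root of unity ζ, the point ζ·w₀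
inverts the coroot and satisfies (ζ w₀ u)³ = e. The published proof uses the conjugation identity
stated here, which is equivalent to (w u)³ = e once w² = i(α^*(-1)).) -/
theorem result (S : Scheme.{u}) (G T : Over S) [GrpObj G] [GrpObj T] (i : T ⟶ G) [IsMonHom i] [Mono i] (hG : Red.IsReductive G) (hTm : Red.IsMaximalTorus i)
    (α : T ⟶ Red.Gm S) [IsMonHom α] (hα : ∀ s : S, (Over.pullback (Red.geomPt s)).map α ≠ 1)
    (pp pm : Red.Ga S ⟶ G) [IsMonHom pp] [Mono pp] [IsMonHom pm] [Mono pm]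
    (hpp : ∀ (X : Over S) (t : X ⟶ T) (x : X ⟶ Red.Ga S), ∃ x' : X ⟶ Red.Ga S,
      x' ≫ pp = (t ≫ i) * (x ≫ pp) * (t ≫ i)⁻¹ ∧ Red.gaFn x' = Red.gmFn (t ≫ α) * Red.gaFn x)
    (hpm : ∀ (X : Over S) (t : X ⟶ T) (y : X ⟶ Red.Ga S), ∃ y' : X ⟶ Red.Ga S,
      y' ≫ pm = (t ≫ i) * (y ≫ pm) * (t ≫ i)⁻¹ ∧ Red.gaFn y' * Red.gmFn (t ≫ α) = Red.gaFn y)
    (hΩ : IsOpenImmersion (((pm ⊗ₘ i) ⊗ₘ pp) ≫ (μ[G] ▷ G) ≫ μ[G]).left)
    (av : Red.Gm S ⟶ T) [IsMonHom av] (h2 : av ≫ α = (𝟙 (Red.Gm S)) ^ 2)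
    (hF : ∀ (X : Over S) (x y : X ⟶ Red.Ga S), IsUnit (1 + Red.gaFn x * Red.gaFn y) →
      ∃ (x' y' : X ⟶ Red.Ga S) (z : X ⟶ Red.Gm S), Red.gmFn z = 1 + Red.gaFn x * Red.gaFn y ∧
        Red.gaFn x' * Red.gmFn z = Red.gaFn x ∧ Red.gaFn y' * Red.gmFn z = Red.gaFn y ∧
        (x ≫ pp) * (y ≫ pm) = (y' ≫ pm) * (z ≫ av ≫ i) * (x' ≫ pp))
    (e₁ em : 𝟙_ (Over S) ⟶ Red.Ga S) (he₁ : Red.gaFn e₁ = 1) (hem : Red.gaFn em = -1)
    (n : ℤ) (hn : n ≠ 0) (w : 𝟙_ (Over S) ⟶ G)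
    (hw : ∀ (X : Over S) (z : X ⟶ Red.Gm S),
      (toUnit X ≫ w) * (((z ≫ av) ^ n) ≫ i) * (toUnit X ≫ w)⁻¹ = ((((z ≫ av) ^ n) ≫ i))⁻¹)
    (hconj : w * (e₁ ≫ pp) * w⁻¹ = (e₁ ≫ pp)⁻¹ * w * (e₁ ≫ pp)⁻¹) :
    w = (e₁ ≫ pp) * (em ≫ pm) * (e₁ ≫ pp) := by
  have H : BC G T i α pp pm := ⟨‹_›, ‹_›, ‹_›, ‹_›, hTm.2.2.1, hpp, hpm, hα, hΩ⟩
  have HR : RH G T i α pp pm av := ⟨‹_›, ‹_›, ‹_›, ‹_›, ‹_›, hTm.2.2.1, hpp, hpm, h2, hF⟩
  have key : ∀ (Y : Over S) (z : Y ⟶ Red.Gm S),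
      ((z ≫ av) ^ n) ≫ i = (HR.data Y).h (gmU z ^ n) := by
    intro Y z
    rw [HR.av_pt, HR.τ_pt, R1.h, map_zpow (HR.data Y).av, map_zpow]
  obtain ⟨t₀, ht₀⟩ := (Groth.Agent.S8450.result S G T i hG hTm α hα pp pm hpp hpm hΩ av h2 hF n hn
    (𝟙_ (Over S)) ((HR.w₁ (𝟙_ (Over S)))⁻¹ * w)).mp (fun X' y z => by
      rw [key]
      set D := HR.data X'
      have hw' := hw X' z
      rw [key, ← toUnit_unique y (toUnit X')] at hw'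
      change (y ≫ w) * D.h (gmU z ^ n) * (y ≫ w)⁻¹ = (D.h (gmU z ^ n))⁻¹ at hw'
      show (y ≫ ((HR.w₁ _)⁻¹ * w)) * D.h (gmU z ^ n) = D.h (gmU z ^ n) * (y ≫ ((HR.w₁ _)⁻¹ * w))
      rw [MonObj.comp_mul, GrpObj.comp_inv, HR.comp_w₁]
      have h1 : D.h (gmU z ^ n) * (D.w 1)⁻¹ = (D.w 1)⁻¹ * (D.h (gmU z ^ n))⁻¹ := by
        rw [← D.w_h 1 (gmU z ^ n)]
        group
      show ((D.w 1)⁻¹ * (y ≫ w)) * D.h (gmU z ^ n) = D.h (gmU z ^ n) * ((D.w 1)⁻¹ * (y ≫ w))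
      rw [← _root_.mul_assoc (D.h _), h1, _root_.mul_assoc ((D.w 1)⁻¹), _root_.mul_assoc ((D.w 1)⁻¹),
        ← hw']
      group)
  set D := HR.data (𝟙_ (Over S))
  have hwt : w = D.w 1 * D.τ t₀ := by
    show w = D.w 1 * (t₀ ≫ i)
    rw [ht₀]
    exact (mul_inv_cancel_left _ _).symm
  have hu₁ : e₁ ≫ pp = D.P 1 := by rw [HR.P_pt, he₁]
  have hw1 : (e₁ ≫ pp) * (em ≫ pm) * (e₁ ≫ pp) = D.w 1 := by
    rw [HR.P_pt e₁, HR.M_pt em, he₁, hem, R1.w, inv_one, Units.val_one]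
  rw [hw1, hwt]
  rw [hu₁, hwt, D.P_inv] at hconj
  -- left hand side
  set a := D.a t₀ with ha
  have hL : D.w 1 * D.τ t₀ * D.P 1 * (D.w 1 * D.τ t₀)⁻¹ =
      D.M (-(a : Γ((𝟙_ (Over S)).left, ⊤))) := by
    have h1 : D.w 1 * D.τ t₀ * D.P 1 * (D.w 1 * D.τ t₀)⁻¹ =
        D.w 1 * (D.τ t₀ * D.P 1 * (D.τ t₀)⁻¹) * (D.w 1)⁻¹ := by group
    rw [h1, D.conjP, _root_.mul_one]
    have h := D.w_P a (HR.w_eq_w' a)
    rw [← _root_.mul_one a, D.w_smul, _root_.mul_one] at h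
    have h2 : D.w 1 * D.P (a : Γ((𝟙_ (Over S)).left, ⊤)) * (D.w 1)⁻¹ =
        (D.h a)⁻¹ * D.M (-((a⁻¹ : Γ((𝟙_ (Over S)).left, ⊤)ˣ) : Γ((𝟙_ (Over S)).left, ⊤))) * D.h a := by
      rw [← h]; group
    rw [← ha, h2, ← D.h_inv, D.h_M, _root_.mul_assoc, ← D.h_mul, inv_mul_cancel, D.h_one,
      _root_.mul_one, _root_.inv_inv, mul_neg, _root_.mul_assoc, Units.mul_inv, _root_.mul_one]
  have hR : D.P (-1) * (D.w 1 * D.τ t₀) * D.P (-1) =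
      D.M (-1) * D.τ t₀ * D.P (((a⁻¹ : Γ((𝟙_ (Over S)).left, ⊤)ˣ) : Γ((𝟙_ (Over S)).left, ⊤)) + -1) := by
    rw [R1.w, inv_one, Units.val_one, ← _root_.mul_assoc, ← _root_.mul_assoc, ← _root_.mul_assoc,
      ← D.P_add, neg_add_cancel, D.P_zero, _root_.one_mul, _root_.mul_assoc (D.M _) (D.P _),
      D.P_τ, ← _root_.mul_assoc, _root_.mul_assoc _ (D.P _) (D.P _), ← D.P_add, _root_.mul_one]
  rw [hL, hR] at hconj
  have e3 : (gaPt (-(a : Γ((𝟙_ (Over S)).left, ⊤))) ≫ pm) * ((1 : 𝟙_ (Over S) ⟶ T) ≫ i) *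
      ((1 : 𝟙_ (Over S) ⟶ Red.Ga S) ≫ pp) =
      (gaPt (-1) ≫ pm) * (t₀ ≫ i) * (gaPt (((a⁻¹ : Γ((𝟙_ (Over S)).left, ⊤)ˣ) : Γ((𝟙_ (Over S)).left, ⊤)) + -1) ≫ pp) := by
    rw [MonObj.one_comp i, MonObj.one_comp pp, _root_.mul_one, _root_.mul_one]
    exact hconj
  obtain ⟨-, ht, -⟩ := H.inj e3
  rw [← ht, map_one, _root_.mul_one]

end Groth.Agent.S8451
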