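import Groth.Statements.S8478
import Groth.Agent.RedPts82.Weights
import Groth.Agent.RedPts82.RankOneGeom

set_option autoImplicit false
universe u
open CategoryTheory MonoidalCategory CartesianMonoidalCategory MonObj GrpObj AlgebraicGeometry CategoryTheory.Limits
open Red

namespace Groth.Agent.S8478

open Groth.Agent.RedPts82

variable {S : Scheme.{u}} {G T G' T' : Over S} [GrpObj G] [GrpObj T] [GrpObj G'] [GrpObj T']
  {i : T ⟶ G} {α : T ⟶ Red.Gm S} {pp pm : Red.Ga S ⟶ G} {av : Red.Gm S ⟶ T}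
  {i' : T' ⟶ G'} {α' : T' ⟶ Red.Gm S} {pp' pm' : Red.Ga S ⟶ G'} {av' : Red.Gm S ⟶ T'}

theorem pow_neg_one {q : ℕ} (hq0 : 0 < q) (X : Over S)
    (hq : ∀ (a b : Γ(X.left, ⊤)), (a + b) ^ q = a ^ q + b ^ q) :
    (-1 : Γ(X.left, ⊤)) ^ q = -1 := by
  have h := hq (-1) 1
  rw [neg_add_cancel, one_pow, zero_pow hq0.ne'] at h
  linear_combination -h

/-- A homomorphism matching the positive root groups and the coroots with exponent `q` matches the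
negative root groups. -/
theorem negRoot (HR : RH G T i α pp pm av) (H' : BC G' T' i' α' pp' pm')
    (HR' : RH G' T' i' α' pp' pm' av') (q : ℕ) (hq0 : 0 < q)
    (hq : ∀ (X : Over S) (a b : Γ(X.left, ⊤)), (a + b) ^ q = a ^ q + b ^ q)
    (c : 𝟙_ (Over S) ⟶ Red.Gm S) (f : G ⟶ G') [IsMonHom f]
    (hf : ∀ (X : Over S) (r : Γ(X.left, ⊤)),
      (HR.data X).P r ≫ f = (HR'.data X).P (Red.gmFn (toUnit X ≫ c) * r ^ q))
    (hh : ∀ (X : Over S) (v : Γ(X.left, ⊤)ˣ), (HR.data X).h v ≫ f = (HR'.data X).h (v ^ q))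
    {X : Over S} (x y : X ⟶ Red.Ga S)
    (hy : Red.gaFn y * Red.gmFn (toUnit X ≫ c) = Red.gaFn x ^ q) :
    (x ≫ pm) ≫ f = y ≫ pm' := by
  classical
  have := HR.hm
  have := H'.hm
  have := H'.hp
  have := H'.hi
  have := H'.hα
  -- the image of the negative root group lies in the cell
  have hconj : ∀ (W : Over S) (z : W ⟶ Red.Gm S) (w w' : W ⟶ Red.Ga S),
      Red.gaFn w' = Red.gmFn z ^ 2 * Red.gaFn w →
      (w ≫ pm ≫ f) = ((HR'.data W).av (gmU z ^ q) ≫ i') * (w' ≫ pm ≫ f) *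
        ((HR'.data W).av (gmU z ^ q) ≫ i')⁻¹ := by
    intro W z w w' hw
    have e : w ≫ pm = (HR.data W).h (gmU z) * (w' ≫ pm) * ((HR.data W).h (gmU z))⁻¹ := by
      rw [HR.M_pt, HR.M_pt, R1.h_M, mul_inv_cancel_right, hw, ← val_gmU]
      congr 1
      linear_combination (-(((gmU z)⁻¹ : _ˣ) : Γ(W.left, ⊤)) * (gmU z : Γ(W.left, ⊤)) - 1) *
        Red.gaFn w * (gmU z).inv_mul
    rw [← Category.assoc, e, MonObj.mul_comp _ _ f, MonObj.mul_comp _ _ f, GrpObj.inv_comp _ f,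
      Category.assoc, hh]
    rfl
  have hin : InCell i' pp' pm' (pm ≫ f) := by
    refine H'.inCell_of_scaling _ (fun W => ?_) (fun W t w w' hw hwin => ?_)
    · rw [show gaPt (X := W) 0 = 1 from gaFn_injective (by rw [gaFn_gaPt, gaFn_one]),
        MonObj.one_comp (pm ≫ f)]
      exact H'.one_inCell W
    · refine InCell.of_field_points fun K _ _ Z _ e k => ?_
      obtain ⟨s, hs⟩ := IsAlgClosed.exists_pow_nat_eq (e.symm (Red.gmFn (k ≫ t ≫ α'))) two_pos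
      have hs' : e s ^ 2 = Red.gmFn (k ≫ t ≫ α') := by
        rw [← map_pow, hs, RingEquiv.apply_symm_apply]
      obtain ⟨z, hz⟩ := gmFn_surjective (S := S)
        ((isUnit_pow_iff two_ne_zero).mp (hs' ▸ gmFn_isUnit (k ≫ t ≫ α')))
      have e1 := hconj Z z (k ≫ w) (k ≫ w') (by
        rw [hz, hs', gmFn_comp, gaFn_comp, gaFn_comp, hw, map_mul])
      have e2 : k ≫ w' ≫ pm ≫ f = ((HR'.data Z).av (gmU z ^ q) ≫ i')⁻¹ * (k ≫ w ≫ pm ≫ f) *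
          ((HR'.data Z).av (gmU z ^ q) ≫ i') := by
        rw [← Category.assoc k w' (pm ≫ f), ← Category.assoc k w (pm ≫ f), e1]
        group
      rw [e2]
      have e3 : ((HR'.data Z).av (gmU z ^ q) ≫ i')⁻¹ = ((HR'.data Z).av (gmU z ^ q))⁻¹ ≫ i' :=
        (GrpObj.inv_comp _ i').symm
      have e4 := H'.inCell_conj ((HR'.data Z).av (gmU z ^ q))⁻¹ (hwin.comp k)
      rwa [← e3, _root_.inv_inv] at e4
  obtain ⟨ψm, τ, ψp, hφ⟩ := H'.exists_of_inCell hin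
  have hpt : ∀ (W : Over S) (w : W ⟶ Red.Ga S), w ≫ pm ≫ f =
      ((w ≫ ψm) ≫ pm') * ((w ≫ τ) ≫ i') * ((w ≫ ψp) ≫ pp') := by
    intro W w
    rw [hφ, MonObj.comp_mul, MonObj.comp_mul]
    simp only [Category.assoc]
  -- weights
  have hw : ∀ (W : Over S) (z : W ⟶ Red.Gm S) (w w' : W ⟶ Red.Ga S),
      Red.gaFn w' = Red.gmFn z ^ 2 * Red.gaFn w →
      Red.gaFn (w ≫ ψm) * ((gmU z ^ ((2 * q : ℕ) : ℤ) : Γ(W.left, ⊤)ˣ) : Γ(W.left, ⊤)) =
        Red.gaFn (w' ≫ ψm) ∧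
      Red.gaFn (w ≫ ψp) = ((gmU z ^ ((2 * q : ℕ) : ℤ) : Γ(W.left, ⊤)ˣ) : Γ(W.left, ⊤)) *
        Red.gaFn (w' ≫ ψp) ∧ w ≫ τ = w' ≫ τ := by
    intro W z w w' hww
    have e := hconj W z w w' hww
    obtain ⟨m', p', hm', hp', ec⟩ := H'.conj_cell ((HR'.data W).av (gmU z ^ q)) (w' ≫ τ)
      (w' ≫ ψm) (w' ≫ ψp)
    rw [hpt, hpt, ec] at e
    obtain ⟨ea, eb, ed⟩ := H'.inj e
    have hval : Red.gmFn ((HR'.data W).av (gmU z ^ q) ≫ α') =
        ((gmU z ^ ((2 * q : ℕ) : ℤ) : Γ(W.left, ⊤)ˣ) : Γ(W.left, ⊤)) := by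
      rw [← HR'.val_a, R1.a_av, zpow_natCast, two_mul, pow_add]
    rw [hval] at hm' hp'
    exact ⟨by rw [ea, hm'], by rw [ed, hp'], eb⟩
  have hψp : ψp = 1 := by
    refine eq_one_of_weight_neg ψp 2 two_ne_zero (-((2 * q : ℕ) : ℤ)) (by omega)
      fun W z w w' hww => ?_
    rw [(hw W z w w' hww).2.1, zpow_neg, ← _root_.mul_assoc, Units.inv_mul, _root_.one_mul]
  have hτ : ∀ (W : Over S) (w : W ⟶ Red.Ga S), w ≫ τ = 1 := by
    intro W w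
    rw [const_of_invariant (isTorus_isAffineHom H'.hT) τ 2 two_ne_zero
      (fun W z w w' hww => (hw W z w w' hww).2.2.symm) w]
    have h0 := hpt W (gaPt 0)
    rw [show gaPt (X := W) 0 = 1 from gaFn_injective (by rw [gaFn_gaPt, gaFn_one]),
      MonObj.one_comp (pm ≫ f), ← H'.cell_one W] at h0
    rw [show gaPt (X := W) 0 = 1 from gaFn_injective (by rw [gaFn_gaPt, gaFn_one])]
    exact (H'.inj h0).2.1.symm
  have hM : ∀ (W : Over S) (r : Γ(W.left, ⊤)), (HR.data W).M r ≫ f =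
      (HR'.data W).M (Red.gaFn (gaPt (X := W) 1 ≫ ψm) * r ^ q) := by
    intro W r
    show (gaPt r ≫ pm) ≫ f = _
    rw [Category.assoc, hpt, hτ, hψp, MonObj.comp_one, MonObj.one_comp i', MonObj.one_comp pp',
      _root_.mul_one, _root_.mul_one, HR'.M_pt, eq_mul_pow_of_weight ψm 2 two_ne_zero q
        (fun W z w w' hww => by rw [← (hw W z w w' hww).1, mul_comm]) (gaPt r), gaFn_gaPt]
  -- compare the commutation formulas at a nilpotent point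
  refine hom_ext_affine fun W hW k => ?_
  have hcd : Red.gmFn (toUnit W ≫ c) * Red.gaFn (gaPt (X := W) 1 ≫ ψm) = 1 := by
    obtain ⟨N, l, hN, ε, hε, hfree⟩ := exists_nilpotent_point W q
    refine sub_eq_zero.mp (hfree _ ?_)
    set C := Red.gmFn (toUnit N ≫ c) with hC
    set d := Red.gaFn (gaPt (X := N) 1 ≫ ψm)
    have hl : l.left.appTop (Red.gmFn (toUnit W ≫ c) * Red.gaFn (gaPt (X := W) 1 ≫ ψm) - 1) =
        C * d - 1 := by
      have e1 : l ≫ gaPt (X := W) 1 = gaPt (X := N) 1 :=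
        gaFn_injective (by rw [gaFn_comp, gaFn_gaPt, gaFn_gaPt, map_one])
      rw [map_sub, map_mul, map_one, ← gmFn_comp, ← gaFn_comp, comp_toUnit_assoc,
        ← Category.assoc l, e1]
    rw [hl]
    obtain ⟨u, hu⟩ := (hε.isUnit_one_add)
    have hnil : IsNilpotent (C * (d * ε ^ q)) := by
      rw [← _root_.mul_assoc]
      exact Commute.isNilpotent_mul_left (Commute.all _ _) (hε.pow_of_pos hq0.ne')
    obtain ⟨v, hv⟩ := hnil.isUnit_one_add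
    have e0 := congrArg (· ≫ f)
      ((HR.data N).F 1 ε u (by rw [hu, _root_.one_mul]))
    simp only [MonObj.mul_comp _ _ f, hf, hM, one_pow, _root_.mul_one] at e0
    rw [← hC, (HR'.data N).F C (d * ε ^ q) v hv] at e0
    change _ = (HR'.data N).M _ * (HR.data N).h u ≫ f * _ at e0
    rw [hh] at e0
    obtain ⟨-, -, e2⟩ := H'.inj e0
    have e3 := congrArg Red.gaFn e2
    rw [gaFn_gaPt, gaFn_gaPt] at e3
    have hCu : IsUnit C := gmFn_isUnit _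
    have e4 : ((v⁻¹ : _ˣ) : Γ(N.left, ⊤)) = ((u⁻¹ : _ˣ) : Γ(N.left, ⊤)) ^ q :=
      hCu.mul_right_cancel (e3.trans (mul_comm _ _))
    rw [← Units.val_pow_eq_pow_val, inv_pow] at e4
    have e5 : v = u ^ q := inv_injective (Units.ext e4)
    have e6 := congrArg Units.val e5
    rw [hv, Units.val_pow_eq_pow_val, hu, hq, one_pow] at e6
    linear_combination e6
  rw [← Category.assoc k (x ≫ pm) f, ← Category.assoc k x pm, HR.M_pt, hM, ← Category.assoc k y pm',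
    HR'.M_pt]
  congr 1
  have hy' := congrArg k.left.appTop hy
  rw [map_mul, map_pow, ← gaFn_comp, ← gaFn_comp, ← gmFn_comp, comp_toUnit_assoc] at hy'
  rw [← hy']
  linear_combination Red.gaFn (k ≫ y) * hcd

end Groth.Agent.S8478

namespace Groth.Agent.S8478

/-- Let (G, T, α, p₊, p₋, α^*) and (G', T', α', p'₊, p'₋, α'^*) be two rank-one systems over S: G
reductive, i : T ⟶ G a maximal torus, α a character of T non-trivial on every geometric fibre, p₊,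
p₋ : 𝔾_a ⟶ G monomorphisms normalised by T with multipliers α, α⁻¹ whose cell map (y, t, x) ↦ p₋(y)
i(t) p₊(x) is an open immersion, α^* : 𝔾_m ⟶ T with α ∘ α^* the squaring map and p₊(x) p₋(y) =
p₋(y/(1+xy)) · i(α^*(1+xy)) · p₊(x/(1+xy)) whenever 1 + xy is invertible; likewise for the primed
data. Let q > 0 be an integer such that x ↦ x^q is additive on all functions of S-schemes. Let c be
an S-point of 𝔾_m and f : G ⟶ G' a homomorphism with f(p₊(x)) = p'₊(c x^q) for all points x of 𝔾_a.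
Write w(x) = p₊(x) p₋(-x⁻¹) p₊(x) and w'(x) = p'₊(x) p'₋(-x⁻¹) p'₊(x) for points x with invertible
coordinate. Then the following are equivalent: (i) f(i(α^*(z))) = i'(α'^*(z))^q for all points z of
𝔾_m; (ii) f(w(x)) = w'(c x^q) for all x with invertible coordinate; (iii) f(p₋(y)) = p'₋(c⁻¹ y^q)
for all points y. -/
theorem result (S : Scheme.{u}) (G T : Over S) [GrpObj G] [GrpObj T] (i : T ⟶ G) [IsMonHom i] [Mono i] (hG : Red.IsReductive G) (hTm : Red.IsMaximalTorus i)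
    (α : T ⟶ Red.Gm S) [IsMonHom α] (hα : ∀ s : S, (Over.pullback (Red.geomPt s)).map α ≠ 1)
    (pp pm : Red.Ga S ⟶ G) [IsMonHom pp] [Mono pp] [IsMonHom pm] [Mono pm]
    (hpp : ∀ (X : Over S) (t : X ⟶ T) (x : X ⟶ Red.Ga S), ∃ x' : X ⟶ Red.Ga S,
      x' ≫ pp = (t ≫ i) * (x ≫ pp) * (t ≫ i)⁻¹ ∧ Red.gaFn x' = Red.gmFn (t ≫ α) * Red.gaFn x)
    (hpm : ∀ (X : Over S) (t : X ⟶ T) (y : X ⟶ Red.Ga S), ∃ y' : X ⟶ Red.Ga S,
      y' ≫ pm = (t ≫ i) * (y ≫ pm) * (t ≫ i)⁻¹ ∧ Red.gaFn y' * Red.gmFn (t ≫ α) = Red.gaFn y)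
    (hΩ : IsOpenImmersion (((pm ⊗ₘ i) ⊗ₘ pp) ≫ (μ[G] ▷ G) ≫ μ[G]).left)
    (av : Red.Gm S ⟶ T) [IsMonHom av] (h2 : av ≫ α = (𝟙 (Red.Gm S)) ^ 2)
    (hF : ∀ (X : Over S) (x y : X ⟶ Red.Ga S), IsUnit (1 + Red.gaFn x * Red.gaFn y) →
      ∃ (x' y' : X ⟶ Red.Ga S) (z : X ⟶ Red.Gm S), Red.gmFn z = 1 + Red.gaFn x * Red.gaFn y ∧
        Red.gaFn x' * Red.gmFn z = Red.gaFn x ∧ Red.gaFn y' * Red.gmFn z = Red.gaFn y ∧
        (x ≫ pp) * (y ≫ pm) = (y' ≫ pm) * (z ≫ av ≫ i) * (x' ≫ pp))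
    (G' T' : Over S) [GrpObj G'] [GrpObj T'] (i' : T' ⟶ G') [IsMonHom i'] [Mono i'] (hG' : Red.IsReductive G') (hTm' : Red.IsMaximalTorus i')
    (α' : T' ⟶ Red.Gm S) [IsMonHom α'] (hα' : ∀ s : S, (Over.pullback (Red.geomPt s)).map α' ≠ 1)
    (pp' pm' : Red.Ga S ⟶ G') [IsMonHom pp'] [Mono pp'] [IsMonHom pm'] [Mono pm']
    (hpp' : ∀ (X : Over S) (t : X ⟶ T') (x : X ⟶ Red.Ga S), ∃ x' : X ⟶ Red.Ga S,
      x' ≫ pp' = (t ≫ i') * (x ≫ pp') * (t ≫ i')⁻¹ ∧ Red.gaFn x' = Red.gmFn (t ≫ α') * Red.gaFn x)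
    (hpm' : ∀ (X : Over S) (t : X ⟶ T') (y : X ⟶ Red.Ga S), ∃ y' : X ⟶ Red.Ga S,
      y' ≫ pm' = (t ≫ i') * (y ≫ pm') * (t ≫ i')⁻¹ ∧ Red.gaFn y' * Red.gmFn (t ≫ α') = Red.gaFn y)
    (hΩ' : IsOpenImmersion (((pm' ⊗ₘ i') ⊗ₘ pp') ≫ (μ[G'] ▷ G') ≫ μ[G']).left)
    (av' : Red.Gm S ⟶ T') [IsMonHom av'] (h2' : av' ≫ α' = (𝟙 (Red.Gm S)) ^ 2)
    (hF' : ∀ (X : Over S) (x y : X ⟶ Red.Ga S), IsUnit (1 + Red.gaFn x * Red.gaFn y) →
      ∃ (x' y' : X ⟶ Red.Ga S) (z : X ⟶ Red.Gm S), Red.gmFn z = 1 + Red.gaFn x * Red.gaFn y ∧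
        Red.gaFn x' * Red.gmFn z = Red.gaFn x ∧ Red.gaFn y' * Red.gmFn z = Red.gaFn y ∧
        (x ≫ pp') * (y ≫ pm') = (y' ≫ pm') * (z ≫ av' ≫ i') * (x' ≫ pp'))
    (q : ℕ) (hq0 : 0 < q) (hq : ∀ (X : Over S) (a b : Γ(X.left, ⊤)), (a + b) ^ q = a ^ q + b ^ q) (c : 𝟙_ (Over S) ⟶ Red.Gm S) (f : G ⟶ G') [IsMonHom f]
    (hf : ∀ (X : Over S) (x y : X ⟶ Red.Ga S), Red.gaFn y = Red.gmFn (toUnit X ≫ c) * Red.gaFn x ^ q →
      (x ≫ pp) ≫ f = y ≫ pp') :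
    [∀ (X : Over S) (z : X ⟶ Red.Gm S), (z ≫ av ≫ i) ≫ f = ((z ≫ av') ^ q) ≫ i',
      ∀ (X : Over S) (x x' y y' : X ⟶ Red.Ga S), Red.gaFn x' * Red.gaFn x = -1 →
        Red.gaFn y = Red.gmFn (toUnit X ≫ c) * Red.gaFn x ^ q → Red.gaFn y' * Red.gaFn y = -1 →
        ((x ≫ pp) * (x' ≫ pm) * (x ≫ pp)) ≫ f = (y ≫ pp') * (y' ≫ pm') * (y ≫ pp'),
      ∀ (X : Over S) (x y : X ⟶ Red.Ga S), Red.gaFn y * Red.gmFn (toUnit X ≫ c) = Red.gaFn x ^ q →
        (x ≫ pm) ≫ f = y ≫ pm'].TFAE := by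
  open Groth.Agent.RedPts82 in
  have HR : RH G T i α pp pm av :=
    ⟨‹_›, ‹_›, ‹_›, ‹_›, ‹_›, hTm.2.2.1, hpp, hpm, h2, hF⟩
  open Groth.Agent.RedPts82 in
  have HR' : RH G' T' i' α' pp' pm' av' :=
    ⟨‹_›, ‹_›, ‹_›, ‹_›, ‹_›, hTm'.2.2.1, hpp', hpm', h2', hF'⟩
  open Groth.Agent.RedPts82 in
  have H' : BC G' T' i' α' pp' pm' :=
    ⟨‹_›, ‹_›, ‹_›, ‹_›, hTm'.2.2.1, hpp', hpm', hα', hΩ'⟩
  open Groth.Agent.RedPts82 in
  have hfP : ∀ (X : Over S) (r : Γ(X.left, ⊤)),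
      (HR.data X).P r ≫ f = (HR'.data X).P (Red.gmFn (toUnit X ≫ c) * r ^ q) := fun X r =>
    hf X (gaPt r) (gaPt _) (by rw [gaFn_gaPt, gaFn_gaPt])
  tfae_have 3 → 2 := by
    intro h3 X x x' y y' hx hy hy'
    rw [MonObj.mul_comp _ _ f, MonObj.mul_comp _ _ f, hf X x y hy, h3 X x' y' ?_]
    have e := Groth.Agent.S8478.pow_neg_one hq0 X (hq X)
    have e1 : Red.gaFn x' ^ q * Red.gaFn x ^ q = -1 := by rw [← mul_pow, hx, e]
    rw [hy] at hy'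
    linear_combination (Red.gmFn (toUnit X ≫ c) * Red.gaFn y') * e1 -
      (Red.gaFn x' ^ q) * hy'
  tfae_have 2 → 1 := by
    intro h X z
    open Groth.Agent.RedPts82 in
    have hw : ∀ v : Γ(X.left, ⊤)ˣ, (HR.data X).w v ≫ f =
        (HR'.data X).w (v ^ q * gmU (toUnit X ≫ c)) := by
      intro v
      exact h X (gaPt v) (gaPt _) (gaPt ((v ^ q * gmU (toUnit X ≫ c) : Γ(X.left, ⊤)ˣ) : Γ(X.left, ⊤)))
        (gaPt _) (by rw [gaFn_gaPt, gaFn_gaPt, neg_mul, Units.inv_mul])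
        (by rw [gaFn_gaPt, gaFn_gaPt, Units.val_mul, Units.val_pow_eq_pow_val, val_gmU, mul_comm])
        (by rw [gaFn_gaPt, gaFn_gaPt, neg_mul, Units.inv_mul])
    open Groth.Agent.RedPts82 in
    have e : (HR.data X).h (gmU z) = (HR.data X).w (gmU z * 1) * ((HR.data X).w 1)⁻¹ := by
      rw [R1.w_smul, mul_inv_cancel_right]
    open Groth.Agent.RedPts82 in
    rw [HR.h_pt, e, MonObj.mul_comp _ _ f, GrpObj.inv_comp _ f, hw, hw, R1.w_smul, R1.w_smul,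
      _root_.mul_one, one_pow, R1.h_one, _root_.one_mul, mul_inv_cancel_right, HR'.av_pt, ← map_pow]
    rfl
  tfae_have 1 → 3 := by
    intro h X x y hy
    open Groth.Agent.RedPts82 in
    refine Groth.Agent.S8478.negRoot HR H' HR' q hq0 hq c f hfP (fun X v => ?_) x y hy
    open Groth.Agent.RedPts82 in
    have e := h X (gmPt v)
    open Groth.Agent.RedPts82 in
    rw [HR'.av_pt, ← map_pow, show gmU (gmPt v) = v from Units.ext (gmFn_gmPt v)] at e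
    refine Eq.trans ?_ e
    open Groth.Agent.RedPts82 in
    show ((gmPt v ≫ av) ≫ i) ≫ f = _
    simp only [Category.assoc]
  tfae_finish

end Groth.Agent.S8478
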