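import Groth.Statements.S8452
import Groth.Agent.S8478
import Groth.Agent.S8450
import Groth.Agent.RedPts82.CommTools
-- import your own Groth.Agent.* helpers here

set_option autoImplicit false
universe u
open CategoryTheory MonoidalCategory CartesianMonoidalCategory MonObj GrpObj AlgebraicGeometry CategoryTheory.Limits
open Red

open Groth.Agent.RedPts82

namespace Groth.Agent.S8452

variable {S : Scheme.{u}} {G T G' T' : Over S} [GrpObj G] [GrpObj T] [GrpObj G'] [GrpObj T']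
  {i : T ⟶ G} {α : T ⟶ Red.Gm S} {pp pm : Red.Ga S ⟶ G} {av : Red.Gm S ⟶ T}
  {i' : T' ⟶ G'} {α' : T' ⟶ Red.Gm S} {pp' pm' : Red.Ga S ⟶ G'} {av' : Red.Gm S ⟶ T'}

/-- A homogeneous morphism from the additive group lands in the root group of its weight. -/
theorem rootImage (H' : BC G' T' i' α' pp' pm') (q : ℕ) (hq0 : 0 < q)
    (φ : Red.Ga S ⟶ G') (h0 : ∀ X : Over S, gaPt (X := X) 0 ≫ φ = 1)
    (sc : ∀ X : Over S, Γ(X.left, ⊤)ˣ → (X ⟶ T'))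
    (hsc : ∀ (X : Over S) (v : Γ(X.left, ⊤)ˣ),
      Red.gmFn (sc X v ≫ α') = ((v ^ ((2 * q : ℕ) : ℤ) : Γ(X.left, ⊤)ˣ) : Γ(X.left, ⊤)))
    (hconj : ∀ (W : Over S) (z : W ⟶ Red.Gm S) (w w' : W ⟶ Red.Ga S),
      Red.gaFn w' = Red.gmFn z ^ 2 * Red.gaFn w →
      w' ≫ φ = (sc W (gmU z) ≫ i') * (w ≫ φ) * (sc W (gmU z) ≫ i')⁻¹) :
    ∃ ψ : Red.Ga S ⟶ Red.Ga S, ∀ (X : Over S) (x : X ⟶ Red.Ga S),
      x ≫ φ = gaPt (Red.gaFn (gaPt (X := X) 1 ≫ ψ) * Red.gaFn x ^ q) ≫ pp' := by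
  classical
  have := H'.hi
  have := H'.hm
  have := H'.hp
  have hin : InCell i' pp' pm' φ := by
    refine H'.inCell_of_scaling _ (fun W => ?_) (fun W t w w' hw hwin => ?_)
    · rw [h0]
      exact H'.one_inCell W
    · refine InCell.of_field_points fun K _ _ Z _ e k => ?_
      obtain ⟨s, hs⟩ := IsAlgClosed.exists_pow_nat_eq (e.symm (Red.gmFn (k ≫ t ≫ α'))) two_pos
      have hs' : e s ^ 2 = Red.gmFn (k ≫ t ≫ α') := by
        rw [← map_pow, hs, RingEquiv.apply_symm_apply]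
      obtain ⟨z, hz⟩ := gmFn_surjective (S := S)
        ((isUnit_pow_iff two_ne_zero).mp (hs' ▸ gmFn_isUnit (k ≫ t ≫ α')))
      have e1 := hconj Z z (k ≫ w) (k ≫ w') (by
        rw [hz, hs', gmFn_comp, gaFn_comp, gaFn_comp, hw, map_mul])
      rw [← Category.assoc, e1, Category.assoc]
      exact H'.inCell_conj _ (hwin.comp k)
  obtain ⟨ψm, τ, ψp, hφ⟩ := H'.exists_of_inCell hin
  have hpt : ∀ (W : Over S) (w : W ⟶ Red.Ga S), w ≫ φ =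
      ((w ≫ ψm) ≫ pm') * ((w ≫ τ) ≫ i') * ((w ≫ ψp) ≫ pp') := by
    intro W w
    rw [hφ, MonObj.comp_mul, MonObj.comp_mul]
    simp only [Category.assoc]
  have hw : ∀ (W : Over S) (z : W ⟶ Red.Gm S) (w w' : W ⟶ Red.Ga S),
      Red.gaFn w' = Red.gmFn z ^ 2 * Red.gaFn w →
      Red.gaFn (w' ≫ ψm) * ((gmU z ^ ((2 * q : ℕ) : ℤ) : Γ(W.left, ⊤)ˣ) : Γ(W.left, ⊤)) =
        Red.gaFn (w ≫ ψm) ∧
      Red.gaFn (w' ≫ ψp) = ((gmU z ^ ((2 * q : ℕ) : ℤ) : Γ(W.left, ⊤)ˣ) : Γ(W.left, ⊤)) *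
        Red.gaFn (w ≫ ψp) ∧ w' ≫ τ = w ≫ τ := by
    intro W z w w' hww
    have e := hconj W z w w' hww
    obtain ⟨m', p', hm', hp', ec⟩ := H'.conj_cell (sc W (gmU z)) (w ≫ τ) (w ≫ ψm) (w ≫ ψp)
    rw [hpt, hpt, ec] at e
    obtain ⟨ea, eb, ed⟩ := H'.inj e
    rw [hsc] at hm' hp'
    exact ⟨by rw [ea, hm'], by rw [ed, hp'], eb⟩
  have hψm : ψm = 1 := by
    refine eq_one_of_weight_neg ψm 2 two_ne_zero (-((2 * q : ℕ) : ℤ)) (by omega)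
      fun W z w w' hww => ?_
    rw [← (hw W z w w' hww).1, zpow_neg, mul_comm (Red.gaFn (w' ≫ ψm)), ← _root_.mul_assoc,
      Units.inv_mul, _root_.one_mul]
  have hz0 : ∀ W : Over S, gaPt (X := W) 0 = (1 : W ⟶ Red.Ga S) := fun W =>
    gaFn_injective (by rw [gaFn_gaPt, gaFn_one])
  have hτ : ∀ (W : Over S) (w : W ⟶ Red.Ga S), w ≫ τ = 1 := by
    intro W w
    rw [const_of_invariant (isTorus_isAffineHom H'.hT) τ 2 two_ne_zero
      (fun W z w w' hww => (hw W z w w' hww).2.2) w]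
    have h := (hpt W (gaPt 0)).symm.trans ((h0 W).trans (H'.cell_one W).symm)
    exact (H'.inj h).2.1
  refine ⟨ψp, fun X x => ?_⟩
  rw [hpt, hτ, hψm, MonObj.comp_one, MonObj.one_comp i', MonObj.one_comp pm', _root_.one_mul,
    _root_.one_mul, ← eq_mul_pow_of_weight ψp 2 two_ne_zero q
      (fun W z w w' hww => (hw W z w w' hww).2.1) x, gaPt_gaFn]

theorem exists_c (HR : RH G T i α pp pm av) (H' : BC G' T' i' α' pp' pm')
    (HR' : RH G' T' i' α' pp' pm' av') [Mono i'] (q : ℕ) (hq0 : 0 < q) (f : G ⟶ G') [IsMonHom f]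
    (hh : ∀ (X : Over S) (v : Γ(X.left, ⊤)ˣ), (HR.data X).h v ≫ f = (HR'.data X).h (v ^ q)) :
    ∃ c : 𝟙_ (Over S) ⟶ Red.Gm S, ∀ (X : Over S) (r : Γ(X.left, ⊤)),
      (HR.data X).P r ≫ f = (HR'.data X).P (Red.gmFn (toUnit X ≫ c) * r ^ q) := by
  classical
  have := HR.hp
  have := H'.hp
  have := H'.hi
  have h0 : ∀ X : Over S, gaPt (X := X) 0 ≫ pp ≫ f = 1 := by
    intro X
    rw [show gaPt (X := X) 0 = (1 : X ⟶ Red.Ga S) from gaFn_injective (by rw [gaFn_gaPt, gaFn_one]),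
      MonObj.one_comp (pp ≫ f)]
  obtain ⟨ψ, hψ⟩ := rootImage H' q hq0 (pp ≫ f) h0 (fun X v => (HR'.data X).av (v ^ q))
    (fun X v => by rw [← HR'.val_a, R1.a_av, zpow_natCast, two_mul, pow_add]) (fun W z w w' hww => by
      have e : w' ≫ pp = (HR.data W).h (gmU z) * (w ≫ pp) * ((HR.data W).h (gmU z))⁻¹ := by
        rw [HR.P_pt, HR.P_pt, R1.h_P, mul_inv_cancel_right, hww, ← val_gmU, pow_two]
      rw [← Category.assoc, e, MonObj.mul_comp _ _ f, MonObj.mul_comp _ _ f, GrpObj.inv_comp _ f,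
        Category.assoc, hh]
      rfl)
  have hP : ∀ (X : Over S) (r : Γ(X.left, ⊤)),
      (HR.data X).P r ≫ f = (HR'.data X).P (Red.gaFn (gaPt (X := X) 1 ≫ ψ) * r ^ q) := by
    intro X r
    show (gaPt r ≫ pp) ≫ f = _
    rw [Category.assoc, hψ, gaFn_gaPt]
    rfl
  have hnat : ∀ {X Y : Over S} (k : Y ⟶ X), Red.gaFn (gaPt (X := Y) 1 ≫ ψ) =
      k.left.appTop (Red.gaFn (gaPt (X := X) 1 ≫ ψ)) := by
    intro X Y k
    rw [← gaFn_comp, ← Category.assoc, show k ≫ gaPt (X := X) 1 = gaPt (X := Y) 1 from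
      gaFn_injective (by rw [gaFn_comp, gaFn_gaPt, gaFn_gaPt, map_one])]
  have hu : IsUnit (Red.gaFn (gaPt (X := 𝟙_ (Over S)) 1 ≫ ψ)) := by
    refine isUnit_of_field_points _ fun K _ _ W _ e k hk => ?_
    rw [← hnat] at hk
    have hP1 : ∀ r, (HR.data W).P r ≫ f = 1 := fun r => by
      rw [hP, hk, zero_mul]; exact R1.P_zero _
    have hM1 : ∀ r, (HR.data W).M r ≫ f = 1 := fun r => by
      rw [← neg_neg r, ← HR.w₁_P e, MonObj.mul_comp _ _ f, MonObj.mul_comp _ _ f, GrpObj.inv_comp _ f,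
        hP1, _root_.mul_one, mul_inv_cancel]
    have hw1 : ∀ v, (HR.data W).w v ≫ f = 1 := fun v => by
      rw [R1.w, MonObj.mul_comp _ _ f, MonObj.mul_comp _ _ f, hP1, hM1, _root_.one_mul,
        _root_.one_mul]
    obtain ⟨v, hv⟩ := exists_unit_pow_ne_one (X := W) e (m := ((2 * q : ℕ) : ℤ)) (by omega)
    have h1 : (HR'.data W).h (v ^ q) = 1 := by
      have e1 : (HR.data W).h v = (HR.data W).w (v * 1) * ((HR.data W).w 1)⁻¹ := by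
        rw [R1.w_smul, mul_inv_cancel_right]
      rw [← hh, e1, MonObj.mul_comp _ _ f, GrpObj.inv_comp _ f, hw1, hw1, inv_one, _root_.one_mul]
    have h2 : (HR'.data W).av (v ^ q) = 1 := by
      have h1' : (HR'.data W).av (v ^ q) ≫ i' = (1 : W ⟶ T') ≫ i' := by
        rw [MonObj.one_comp i']; exact h1
      exact (cancel_mono i').mp h1'
    have h3 := congrArg (HR'.data W).a h2
    rw [R1.a_av, map_one, ← pow_add, ← two_mul] at h3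
    exact hv (by rw [zpow_natCast, h3])
  obtain ⟨c, hc⟩ := gmFn_surjective (S := S) hu
  refine ⟨c, fun X r => ?_⟩
  rw [hP, gmFn_comp, hc, ← hnat]


/-- Let (G, T, α, p₊, p₋, α^*) and (G', T', α', p'₊, p'₋, α'^*) be two rank-one systems over S: G
reductive, i : T ⟶ G a maximal torus, α a character of T non-trivial on every geometric fibre, p₊,
p₋ : 𝔾_a ⟶ G monomorphisms normalised by T with multipliers α, α⁻¹ whose cell map (y, t, x) ↦ p₋(y)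
i(t) p₊(x) is an open immersion, α^* : 𝔾_m ⟶ T with α ∘ α^* the squaring map and p₊(x) p₋(y) =
p₋(y/(1+xy)) · i(α^*(1+xy)) · p₊(x/(1+xy)) whenever 1 + xy is invertible; likewise for the primed
data. Let q > 0 be an integer such that x ↦ x^q is additive on all functions of S-schemes. For a
homomorphism f : G ⟶ G' the following are equivalent: (i) f restricted to T factors through a
homomorphism f_T : T ⟶ T' with α' ∘ f_T = α^q and f_T ∘ α^* = (α'^*)^q; (ii) there is an S-point c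
of 𝔾_m (it is then unique) with f(p₊(x)) = p'₊(c x^q) and f(p₋(y)) = p'₋(c⁻¹ y^q) for all points x,
y of 𝔾_a. -/
theorem result (S : Scheme.{u}) (G T : Over S) [GrpObj G] [GrpObj T] (i : T ⟶ G) [IsMonHom i] [Mono i] (hG : Red.IsReductive G) (hTm : Red.IsMaximalTorus i)
    (α : T ⟶ Red.Gm S) [IsMonHom α] (hα : ∀ s : S, (Over.pullback (Red.geomPt s)).map α ≠ 1)
    (pp pm : Red.Ga S ⟶ G) [IsMonHom pp] [Mono pp] [IsMonHom pm] [Mono pm]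
    (hpp : ∀ (X : Over S) (t : X ⟶ T) (x : X ⟶ Red.Ga S), ∃ x' : X ⟶ Red.Ga S,
      x' ≫ pp = (t ≫ i) * (x ≫ pp) * (t ≫ i)⁻¹ ∧ Red.gaFn x' = Red.gmFn (t ≫ α) * Red.gaFn x)
    (hpm : ∀ (X : Over S) (t : X ⟶ T) (y : X ⟶ Red.Ga S), ∃ y' : X ⟶ Red.Ga S,
      y' ≫ pm = (t ≫ i) * (y ≫ pm) * (t ≫ i)⁻¹ ∧ Red.gaFn y' * Red.gmFn (t ≫ α) = Red.gaFn y)
    (hΩ : IsOpenImmersion (((pm ⊗ₘ i) ⊗ₘ pp) ≫ (μ[G] ▷ G) ≫ μ[G]).left)
    (av : Red.Gm S ⟶ T) [IsMonHom av] (h2 : av ≫ α = (𝟙 (Red.Gm S)) ^ 2)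
    (hF : ∀ (X : Over S) (x y : X ⟶ Red.Ga S), IsUnit (1 + Red.gaFn x * Red.gaFn y) →
      ∃ (x' y' : X ⟶ Red.Ga S) (z : X ⟶ Red.Gm S), Red.gmFn z = 1 + Red.gaFn x * Red.gaFn y ∧
        Red.gaFn x' * Red.gmFn z = Red.gaFn x ∧ Red.gaFn y' * Red.gmFn z = Red.gaFn y ∧
        (x ≫ pp) * (y ≫ pm) = (y' ≫ pm) * (z ≫ av ≫ i) * (x' ≫ pp))
    (G' T' : Over S) [GrpObj G'] [GrpObj T'] (i' : T' ⟶ G') [IsMonHom i'] [Mono i'] (hG' : Red.IsReductive G') (hTm' : Red.IsMaximalTorus i')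
    (α' : T' ⟶ Red.Gm S) [IsMonHom α'] (hα' : ∀ s : S, (Over.pullback (Red.geomPt s)).map α' ≠ 1)
    (pp' pm' : Red.Ga S ⟶ G') [IsMonHom pp'] [Mono pp'] [IsMonHom pm'] [Mono pm']
    (hpp' : ∀ (X : Over S) (t : X ⟶ T') (x : X ⟶ Red.Ga S), ∃ x' : X ⟶ Red.Ga S,
      x' ≫ pp' = (t ≫ i') * (x ≫ pp') * (t ≫ i')⁻¹ ∧ Red.gaFn x' = Red.gmFn (t ≫ α') * Red.gaFn x)
    (hpm' : ∀ (X : Over S) (t : X ⟶ T') (y : X ⟶ Red.Ga S), ∃ y' : X ⟶ Red.Ga S,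
      y' ≫ pm' = (t ≫ i') * (y ≫ pm') * (t ≫ i')⁻¹ ∧ Red.gaFn y' * Red.gmFn (t ≫ α') = Red.gaFn y)
    (hΩ' : IsOpenImmersion (((pm' ⊗ₘ i') ⊗ₘ pp') ≫ (μ[G'] ▷ G') ≫ μ[G']).left)
    (av' : Red.Gm S ⟶ T') [IsMonHom av'] (h2' : av' ≫ α' = (𝟙 (Red.Gm S)) ^ 2)
    (hF' : ∀ (X : Over S) (x y : X ⟶ Red.Ga S), IsUnit (1 + Red.gaFn x * Red.gaFn y) →
      ∃ (x' y' : X ⟶ Red.Ga S) (z : X ⟶ Red.Gm S), Red.gmFn z = 1 + Red.gaFn x * Red.gaFn y ∧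
        Red.gaFn x' * Red.gmFn z = Red.gaFn x ∧ Red.gaFn y' * Red.gmFn z = Red.gaFn y ∧
        (x ≫ pp') * (y ≫ pm') = (y' ≫ pm') * (z ≫ av' ≫ i') * (x' ≫ pp'))
    (q : ℕ) (hq0 : 0 < q) (hq : ∀ (X : Over S) (a b : Γ(X.left, ⊤)), (a + b) ^ q = a ^ q + b ^ q) (f : G ⟶ G') [IsMonHom f] :
    (∃ fT : T ⟶ T', IsMonHom fT ∧ i ≫ f = fT ≫ i' ∧ fT ≫ α' = α ^ q ∧ av ≫ fT = av' ^ q) ↔
      ∃! c : 𝟙_ (Over S) ⟶ Red.Gm S,
        (∀ (X : Over S) (x y : X ⟶ Red.Ga S), Red.gaFn y = Red.gmFn (toUnit X ≫ c) * Red.gaFn x ^ q →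
          (x ≫ pp) ≫ f = y ≫ pp') ∧
        (∀ (X : Over S) (x y : X ⟶ Red.Ga S), Red.gaFn y * Red.gmFn (toUnit X ≫ c) = Red.gaFn x ^ q →
          (x ≫ pm) ≫ f = y ≫ pm') := by
  have H : BC G T i α pp pm := ⟨‹_›, ‹_›, ‹_›, ‹_›, hTm.2.2.1, hpp, hpm, hα, hΩ⟩
  have H' : BC G' T' i' α' pp' pm' := ⟨‹_›, ‹_›, ‹_›, ‹_›, hTm'.2.2.1, hpp', hpm', hα', hΩ'⟩
  have HR : RH G T i α pp pm av := ⟨‹_›, ‹_›, ‹_›, ‹_›, ‹_›, hTm.2.2.1, hpp, hpm, h2, hF⟩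
  have HR' : RH G' T' i' α' pp' pm' av' :=
    ⟨‹_›, ‹_›, ‹_›, ‹_›, ‹_›, hTm'.2.2.1, hpp', hpm', h2', hF'⟩
  constructor
  · rintro ⟨fT, hfTm, hfi, hfα, hfav⟩
    have hh : ∀ (X : Over S) (v : Γ(X.left, ⊤)ˣ),
        (HR.data X).h v ≫ f = (HR'.data X).h (v ^ q) := by
      intro X v
      show ((gmPt v ≫ av) ≫ i) ≫ f = _
      rw [Category.assoc, hfi, Category.assoc, reassoc_of% hfav, ← Category.assoc,
        MonObj.comp_pow, HR'.av_pt, ← map_pow, show gmU (gmPt v) = v from Units.ext (gmFn_gmPt v)]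
      rfl
    obtain ⟨c, hc⟩ := exists_c HR H' HR' q hq0 f hh
    refine ⟨c, ⟨fun X x y hy => ?_, fun X x y hy => ?_⟩, fun c' hc' => ?_⟩
    · rw [HR.P_pt, hc, HR'.P_pt, hy]
    · exact Groth.Agent.S8478.negRoot HR H' HR' q hq0 hq c f hc hh x y hy
    · refine gmFn_injective ?_
      have e1 := hc (𝟙_ (Over S)) 1
      have e2 := hc'.1 (𝟙_ (Over S)) (gaPt 1) (gaPt (Red.gmFn (toUnit _ ≫ c') * 1 ^ q))
        (by rw [gaFn_gaPt, gaFn_gaPt])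
      have e4 : gaPt (Red.gmFn (toUnit _ ≫ c') * 1 ^ q) ≫ pp' =
          gaPt (Red.gmFn (toUnit _ ≫ c) * 1 ^ q) ≫ pp' := e2.symm.trans e1
      rw [cancel_mono] at e4
      have e3 := congrArg Red.gaFn e4
      simpa only [gaFn_gaPt, one_pow, _root_.mul_one, toUnit_unit, Category.id_comp] using e3
  · rintro ⟨c, ⟨hc1, hc2⟩, -⟩
    have hh : ∀ (X : Over S) (z : X ⟶ Red.Gm S), (z ≫ av ≫ i) ≫ f = ((z ≫ av') ^ q) ≫ i' := by
      have := (Groth.Agent.S8478.result S G T i hG hTm α hα pp pm hpp hpm hΩ av h2 hF G' T' i' hG'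
        hTm' α' hα' pp' pm' hpp' hpm' hΩ' av' h2' hF' q hq0 hq c f hc1).out 2 0
      exact this.mp hc2
    obtain ⟨fT, hfT⟩ := (Groth.Agent.S8450.result S G' T' i' hG' hTm' α' hα' pp' pm' hpp' hpm' hΩ'
      av' h2' hF' (q : ℤ) (by exact_mod_cast hq0.ne') T (i ≫ f)).mp (fun X' y z => by
        rw [zpow_natCast, ← hh, ← Category.assoc y i f, ← MonObj.mul_comp _ _ f,
          ← MonObj.mul_comp _ _ f, ← Category.assoc z av i, ← MonObj.mul_comp _ _ i,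
          ← MonObj.mul_comp _ _ i, isTorus_points_comm H.hT])
    have hfTm : IsMonHom fT := isMonHom_of_points _ fun X t t' => by
      rw [← cancel_mono i', MonObj.mul_comp _ _ i', Category.assoc, Category.assoc, Category.assoc,
        hfT, MonObj.mul_comp _ _ (i ≫ f)]
    refine ⟨fT, hfTm, hfT.symm, gmFn_injective ?_, ?_⟩
    · rw [gmFn_pow]
      obtain ⟨x', e1, e2⟩ := hpp T (𝟙 T) (gaPt 1)
      obtain ⟨y', e1', e2'⟩ := hpp' T fT (gaPt (Red.gmFn (toUnit T ≫ c)))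
      have a1 := hc1 T x' (gaPt (Red.gmFn (toUnit T ≫ c) * Red.gaFn x' ^ q)) (gaFn_gaPt _)
      rw [e1, MonObj.mul_comp _ _ f, MonObj.mul_comp _ _ f, GrpObj.inv_comp _ f, Category.id_comp,
        ← hfT, hc1 T (gaPt 1) (gaPt (Red.gmFn (toUnit T ≫ c)))
          (by rw [gaFn_gaPt, gaFn_gaPt, one_pow, _root_.mul_one]), ← e1', cancel_mono] at a1
      have a2 := congrArg Red.gaFn a1
      rw [e2', gaFn_gaPt, gaFn_gaPt, e2, Category.id_comp, gaFn_gaPt, _root_.mul_one,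
        mul_comm (Red.gmFn (fT ≫ α'))] at a2
      exact (gmFn_isUnit _).mul_left_cancel a2
    · rw [← cancel_mono i', Category.assoc, hfT]
      have := hh (Red.Gm S) (𝟙 _)
      simp only [Category.id_comp, Category.assoc] at this
      exact this

end Groth.Agent.S8452
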