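import Groth.Statements.S8457
import Groth.Agent.RedPts82.Extend
import Groth.Agent.RedPts82.Present
import Groth.Agent.RedPts82.CommTools
import Groth.Agent.RedPts82.W1Nat
-- import your own Groth.Agent.* helpers here

set_option autoImplicit false
universe u
open CategoryTheory MonoidalCategory CartesianMonoidalCategory MonObj GrpObj AlgebraicGeometry CategoryTheory.Limits
open Red

open Groth.Agent.RedPts82

namespace Groth.Agent.S8457

variable {S : Scheme.{u}} {G T H : Over S} [GrpObj G] [GrpObj T] [GrpObj H]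
  {i : T ⟶ G} {α : T ⟶ Red.Gm S} {pp pm : Red.Ga S ⟶ G} {av : Red.Gm S ⟶ T}

/-- Two morphisms out of the affine line which are additive and agree on units are equal. -/
theorem eq_of_units {P : Over S} [GrpObj P] (f g : Red.Ga S ⟶ P) [IsMonHom f] [IsMonHom g]
    (h : ∀ (X : Over S) (v : Γ(X.left, ⊤)ˣ), gaPt (v : Γ(X.left, ⊤)) ≫ f = gaPt (v : Γ(X.left, ⊤)) ≫ g) :
    f = g := by
  classical
  refine hom_ext_affine fun Y hY x => ?_
  obtain ⟨Z, k, s, -, hf, hs, hu⟩ := exists_avoid Y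
    (Polynomial.X * (Polynomial.C (Red.gaFn x) - Polynomial.X)) fun K _ _ W _ e y => by
      have : Infinite K := IsAlgClosed.instInfinite
      obtain ⟨b, hb⟩ := Infinite.exists_notMem_finset {(0 : K), e.symm (y.left.appTop (Red.gaFn x))}
      simp only [Finset.mem_insert, Finset.mem_singleton, not_or] at hb
      refine ⟨e b, ?_⟩
      simp only [Polynomial.eval₂_mul, Polynomial.eval₂_X, Polynomial.eval₂_sub,
        Polynomial.eval₂_C]
      refine IsUnit.mul ((Ne.isUnit hb.1).map e) ?_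
      rw [← e.apply_symm_apply (y.left.appTop.hom (Red.gaFn x)), ← map_sub]
      exact (Ne.isUnit (sub_ne_zero.mpr (Ne.symm hb.2))).map e
  simp only [Polynomial.eval₂_mul, Polynomial.eval₂_X, Polynomial.eval₂_sub, Polynomial.eval₂_C]
    at hu
  obtain ⟨⟨w, hw⟩, ⟨v, hv⟩⟩ := (IsUnit.mul_iff.mp hu)
  have := epi_of_flat_surjective k hf hs
  have e : k ≫ x = gaPt (w : Γ(Z.left, ⊤)) * gaPt (v : Γ(Z.left, ⊤)) := gaFn_injective (by
    rw [gaFn_mul, gaFn_gaPt, gaFn_gaPt, hw, hv, gaFn_comp, add_sub_cancel])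
  rw [← cancel_epi k, ← Category.assoc, ← Category.assoc, e, MonObj.mul_comp _ _ f,
    MonObj.mul_comp _ _ g, h, h]

/-- The negative root group as a conjugate of the positive one. -/
theorem w₁_P_gen (HR : RH G T i α pp pm av) {X : Over S} (r : Γ(X.left, ⊤)) :
    HR.w₁ X * (HR.data X).P r * (HR.w₁ X)⁻¹ = (HR.data X).M (-r) := by
  have := HR.hp
  have := HR.hm
  let f : Red.Ga S ⟶ G := HR.w₁ _ * (HR.data _).P (Red.gaFn (𝟙 (Red.Ga S))) * (HR.w₁ _)⁻¹
  let g : Red.Ga S ⟶ G := (HR.data _).M (-Red.gaFn (𝟙 (Red.Ga S)))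
  have hf : ∀ {Y : Over S} (y : Y ⟶ Red.Ga S),
      y ≫ f = HR.w₁ Y * (HR.data Y).P (Red.gaFn y) * (HR.w₁ Y)⁻¹ := fun y => by
    simp only [f, MonObj.comp_mul, GrpObj.comp_inv, HR.comp_w₁, HR.comp_P, ← gaFn_comp,
      Category.comp_id]
  have hg : ∀ {Y : Over S} (y : Y ⟶ Red.Ga S), y ≫ g = (HR.data Y).M (-Red.gaFn y) := fun y => by
    simp only [g, HR.comp_M, map_neg, ← gaFn_comp, Category.comp_id]
  have : IsMonHom f := isMonHom_of_points f fun Y y y' => by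
    rw [hf, hf, hf, gaFn_mul, R1.P_add]; group
  have : IsMonHom g := isMonHom_of_points g fun Y y y' => by
    rw [hg, hg, hg, gaFn_mul, neg_add, R1.M_add]
  have e := congrArg (gaPt r ≫ ·) (eq_of_units f g fun Y v => by
    rw [hf, hg, gaFn_gaPt]
    set D := HR.data Y
    have h := D.w_P v (HR.w_eq_w' v)
    rw [← _root_.mul_one v, D.w_smul, _root_.mul_one] at h
    have h2 : HR.w₁ Y * D.P (v : Γ(Y.left, ⊤)) * (HR.w₁ Y)⁻¹ =
        (D.h v)⁻¹ * D.M (-((v⁻¹ : Γ(Y.left, ⊤)ˣ) : Γ(Y.left, ⊤))) * D.h v := by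
      rw [← h]; simp only [RH.w₁, D]; group
    rw [h2, ← D.h_inv, R1.h_M, _root_.mul_assoc, ← D.h_mul, inv_mul_cancel, D.h_one,
      _root_.mul_one, _root_.inv_inv, mul_neg, _root_.mul_assoc, Units.mul_inv, _root_.mul_one])
  simpa only [hf, hg, gaFn_gaPt] using e

/-- The generators and relations data on points. -/
noncomputable def pres (HR : RH G T i α pp pm av) (fT : T ⟶ H) [IsMonHom fT]
    (fα : Red.Ga S ⟶ H) [IsMonHom fα] (h : 𝟙_ (Over S) ⟶ H)
    (h1 : ∀ (X : Over S) (t : X ⟶ T) (x x' : X ⟶ Red.Ga S), Red.gaFn x' = Red.gmFn (t ≫ α) * Red.gaFn x →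
          (t ≫ fT) * (x ≫ fα) * (t ≫ fT)⁻¹ = x' ≫ fα)
    (h2 : ∀ (X : Over S) (t : X ⟶ T),
      (toUnit X ≫ h) * (t ≫ fT) * (toUnit X ≫ h)⁻¹ = (t * (t ≫ α ≫ av)⁻¹) ≫ fT)
    (m : 𝟙_ (Over S) ⟶ Red.Gm S) (hm : Red.gmFn m = -1)
    (h3 : h ^ 2 = m ≫ av ≫ fT) (e₁ : 𝟙_ (Over S) ⟶ Red.Ga S) (he₁ : Red.gaFn e₁ = 1)
    (h4 : (h * (e₁ ≫ fα)) ^ 3 = 1) (X : Over S) : P1 (X ⟶ H) Γ(X.left, ⊤) (X ⟶ T) where
  P r := gaPt r ≫ fα
  P_add a b := by
    show gaPt (a + b) ≫ fα = _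
    rw [← MonObj.mul_comp _ _ fα, ← gaPt_add]
  τ :=
    { toFun := fun t => t ≫ fT
      map_one' := MonObj.one_comp fT
      map_mul' := fun t t' => MonObj.mul_comp t t' fT }
  a := (HR.data X).a
  av := (HR.data X).av
  comm := (HR.data X).comm
  a_av := (HR.data X).a_av
  conjP t x := h1 X t (gaPt x) (gaPt _) (by rw [gaFn_gaPt, gaFn_gaPt]; rfl)
  n := toUnit X ≫ h
  n_τ t := by
    rw [← HR.av_pt (t ≫ α) |>.trans (congrArg (HR.data X).av (Units.ext rfl :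
      gmU (t ≫ α) = (HR.data X).a t)), Category.assoc]
    exact h2 X t
  n_sq := by
    rw [← MonObj.comp_mul, ← pow_two, h3]
    show _ = (gmPt (-1) ≫ av) ≫ fT
    rw [Category.assoc, ← Category.assoc (toUnit X) m]
    congr 1
    exact gmFn_injective (by rw [gmFn_comp, hm, map_neg, map_one, gmFn_gmPt]; simp)
  cube := by
    show ((toUnit X ≫ h) * (gaPt 1 ≫ fα)) ^ 3 = 1
    rw [show gaPt (X := X) 1 = toUnit X ≫ e₁ from
      gaFn_injective (by rw [gaFn_gaPt, gaFn_comp, he₁, map_one]), Category.assoc,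
      ← MonObj.comp_mul, ← MonObj.comp_pow, h4, MonObj.comp_one]

variable {fT : T ⟶ H} [IsMonHom fT] {fα : Red.Ga S ⟶ H} [IsMonHom fα] {h : 𝟙_ (Over S) ⟶ H}

omit [IsMonHom fT] [IsMonHom fα] in
theorem hom_pt (HR : RH G T i α pp pm av) (g : G ⟶ H) [IsMonHom g] (h1 : i ≫ g = fT)
    (h2 : pp ≫ g = fα) (h3 : HR.w₁ (𝟙_ (Over S)) ≫ g = h) {X : Over S} (y : X ⟶ Red.Ga S)
    (t : X ⟶ T) (x : X ⟶ Red.Ga S) :
    ((y ≫ pm) * (t ≫ i) * (x ≫ pp)) ≫ g = (toUnit X ≫ h) * (gaPt (-Red.gaFn y) ≫ fα) *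
      (toUnit X ≫ h)⁻¹ * (t ≫ fT) * (x ≫ fα) := by
  have e : HR.w₁ X ≫ g = toUnit X ≫ h := by
    rw [← HR.comp_w₁ (toUnit X), Category.assoc, h3]
  have e2 : (HR.data X).P (-Red.gaFn y) ≫ g = gaPt (-Red.gaFn y) ≫ fα := by
    show (gaPt _ ≫ pp) ≫ g = _
    rw [Category.assoc, h2]
  rw [HR.M_pt, ← neg_neg (Red.gaFn y), ← w₁_P_gen HR, MonObj.mul_comp _ _ g,
    MonObj.mul_comp _ _ g, MonObj.mul_comp _ _ g, MonObj.mul_comp _ _ g, GrpObj.inv_comp _ g,
    Category.assoc t, Category.assoc x, h1, h2, e, e2, neg_neg]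

theorem exists_hom (HB : BC G T i α pp pm) (HR : RH G T i α pp pm av) (hG : Red.IsReductive G)
    (D : ∀ X : Over S, P1 (X ⟶ H) Γ(X.left, ⊤) (X ⟶ T))
    (hP : ∀ X r, (D X).P r = gaPt r ≫ fα) (hτ : ∀ X t, (D X).τ t = t ≫ fT)
    (ha : ∀ X, (D X).a = (HR.data X).a) (hav : ∀ X, (D X).av = (HR.data X).av)
    (hn : ∀ X, (D X).n = toUnit X ≫ h) :
    ∃ f : G ⟶ H, IsMonHom f ∧ i ≫ f = fT ∧ pp ≫ f = fα ∧ HR.w₁ (𝟙_ (Over S)) ≫ f = h := by
  classical
  have nP : ∀ {X Y : Over S} (k : Y ⟶ X) r, k ≫ (D X).P r = (D Y).P (k.left.appTop r) := by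
    intro X Y k r
    rw [hP, hP, ← Category.assoc, comp_gaPt]
  have nn : ∀ {X Y : Over S} (k : Y ⟶ X), k ≫ (D X).n = (D Y).n := by
    intro X Y k
    rw [hn, hn, comp_toUnit_assoc]
  have nM : ∀ {X Y : Over S} (k : Y ⟶ X) r, k ≫ (D X).M r = (D Y).M (k.left.appTop r) := by
    intro X Y k r
    simp only [P1.M, MonObj.comp_mul, GrpObj.comp_inv, nP, nn, map_neg]
  have nh : ∀ {X Y : Over S} (k : Y ⟶ X) (v : Γ(X.left, ⊤)ˣ),
      k ≫ (D X).h v = (D Y).h (Units.map k.left.appTop.hom.toMonoidHom v) := by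
    intro X Y k v
    show k ≫ (D X).τ _ = (D Y).τ _
    rw [hτ, hτ, hav, hav]
    show k ≫ (gmPt v ≫ av) ≫ fT = (gmPt _ ≫ av) ≫ fT
    rw [← Category.assoc k, ← Category.assoc k, show k ≫ gmPt v = gmPt (Units.map k.left.appTop.hom.toMonoidHom v) from
      gmFn_injective (by rw [gmFn_comp, gmFn_gmPt, gmFn_gmPt]; rfl)]
  -- the Weyl identity
  have := HB.hα
  have hW : ∀ (X : Over S) (v : Γ(X.left, ⊤)ˣ), (D X).W v := by
    intro X v
    obtain ⟨X', k, t, hf, hs, ht⟩ := exists_root HB.hT α HB.hne (gmPt v)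
    have := epi_of_flat_surjective k hf hs
    have e := (D X').W_of_root (Units.map k.left.appTop.hom.toMonoidHom v) t (Units.ext (by
      rw [ha, HR.val_a, ht, gmFn_comp, gmFn_gmPt]; rfl))
    show _ = _
    rw [← cancel_epi k]
    simp only [MonObj.comp_mul, nP, nM, nh, nn, map_neg]
    unfold P1.W at e
    rw [← map_inv] at e
    exact e
  -- the commutation formula
  have hF : ∀ (X : Over S) (x y : Γ(X.left, ⊤)) (u : Γ(X.left, ⊤)ˣ),
      (u : Γ(X.left, ⊤)) = 1 + x * y →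
      (D X).P x * (D X).M y = (D X).M (((u⁻¹ : _ˣ) : Γ(X.left, ⊤)) * y) * (D X).h u *
        (D X).P (((u⁻¹ : _ˣ) : Γ(X.left, ⊤)) * x) := by
    intro X x y u hu
    refine hom_ext_affine fun Y hY k => ?_
    set u' := Units.map k.left.appTop.hom.toMonoidHom u
    set x' := k.left.appTop x
    set y' := k.left.appTop y
    have hu' : (u' : Γ(Y.left, ⊤)) = 1 + x' * y' := by
      show k.left.appTop (u : Γ(X.left, ⊤)) = _
      rw [hu, map_add, map_one, map_mul]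
    simp only [MonObj.comp_mul, nP, nM, nh, map_mul]
    show (D Y).P x' * (D Y).M y' = (D Y).M ((((Units.map k.left.appTop.hom.toMonoidHom) u⁻¹ : _ˣ) :
      Γ(Y.left, ⊤)) * y') * (D Y).h u' * (D Y).P ((((Units.map k.left.appTop.hom.toMonoidHom) u⁻¹ : _ˣ) :
      Γ(Y.left, ⊤)) * x')
    rw [map_inv]
    obtain ⟨Z, l, s, -, hf, hs, hunit⟩ := exists_avoid Y
      (Polynomial.X * (Polynomial.C y' - Polynomial.X) *
        (Polynomial.C (u' : Γ(Y.left, ⊤)) - Polynomial.C x' * Polynomial.X)) fun K _ _ W _ e w => by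
        have : Infinite K := IsAlgClosed.instInfinite
        obtain ⟨b, hb⟩ := Infinite.exists_notMem_finset
          {(0 : K), e.symm (w.left.appTop y'),
            e.symm (w.left.appTop (u' : Γ(Y.left, ⊤))) / e.symm (w.left.appTop x')}
        simp only [Finset.mem_insert, Finset.mem_singleton, not_or] at hb
        refine ⟨e b, ?_⟩
        simp only [Polynomial.eval₂_mul, Polynomial.eval₂_X, Polynomial.eval₂_sub,
          Polynomial.eval₂_C]
        refine IsUnit.mul (IsUnit.mul ((Ne.isUnit hb.1).map e) ?_) ?_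
        · rw [← e.apply_symm_apply (w.left.appTop.hom y'), ← map_sub]
          exact (Ne.isUnit (sub_ne_zero.mpr (Ne.symm hb.2.1))).map e
        · rw [← e.apply_symm_apply (w.left.appTop.hom (u' : Γ(Y.left, ⊤))),
            ← e.apply_symm_apply (w.left.appTop.hom x'), ← map_mul, ← map_sub]
          refine (Ne.isUnit (sub_ne_zero.mpr fun h => ?_)).map e
          have hne : IsUnit (e.symm (w.left.appTop.hom (u' : Γ(Y.left, ⊤)))) :=
            (u'.isUnit.map _).map e.symm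
          by_cases hx : e.symm (w.left.appTop.hom x') = 0
          · rw [hx, zero_mul] at h
            exact hne.ne_zero h
          · exact hb.2.2 (by rw [eq_div_iff hx, mul_comm]; exact h.symm)
    simp only [Polynomial.eval₂_mul, Polynomial.eval₂_X, Polynomial.eval₂_sub, Polynomial.eval₂_C]
      at hunit
    obtain ⟨hsr, ⟨u₁, hu₁⟩⟩ := IsUnit.mul_iff.mp hunit
    obtain ⟨⟨s', hs'⟩, ⟨r, hr⟩⟩ := IsUnit.mul_iff.mp hsr
    have := epi_of_flat_surjective l hf hs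
    rw [← cancel_epi l]
    simp only [MonObj.comp_mul, nP, nM, nh, map_mul]
    have e := (D Z).F_split (hW Z) (l.left.appTop x') (l.left.appTop y')
      (Units.map l.left.appTop.hom.toMonoidHom u') u₁ s' r
      (by show l.left.appTop (u' : Γ(Y.left, ⊤)) = _; rw [hu', map_add, map_one, map_mul])
      (by rw [hr, hs'])
      (by
        have e0 : l.left.appTop.hom (u' : Γ(Y.left, ⊤)) =
            1 + l.left.appTop.hom x' * l.left.appTop.hom y' := by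
          rw [hu', map_add, map_one, map_mul]
        rw [hu₁, hr, e0]; ring)
    rw [← map_inv] at e
    exact e
  let RD : ∀ X : Over S, R1 (X ⟶ H) Γ(X.left, ⊤) (X ⟶ T) := fun X => (D X).toR1 (hF X)
  -- the morphism on the cell
  let A := (Red.Ga S ⊗ T) ⊗ Red.Ga S
  let φ : A ⟶ H := (D A).M (Red.gaFn (fst _ _ ≫ fst _ _)) * ((fst _ _ ≫ snd _ _) ≫ fT) *
    (D A).P (Red.gaFn (snd _ _))
  have hφ : ∀ {X : Over S} (y x : X ⟶ Red.Ga S) (t : X ⟶ T),
      lift (lift y t) x ≫ φ = (D X).M (Red.gaFn y) * (t ≫ fT) * (D X).P (Red.gaFn x) := by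
    intro X y x t
    simp only [φ, MonObj.comp_mul]
    rw [nM, nP, ← gaFn_comp, ← gaFn_comp]
    simp
  have := HB.hΩ
  have hone : ∀ X : Over S, Set.range (1 : X ⟶ G).left.base ⊆ Set.range (cell i pp pm).left.base :=
    fun X => HB.one_inCell X
  have hsplit : ∀ {X : Over S} (a : X ⟶ A), ∃ (y x : X ⟶ Red.Ga S) (t : X ⟶ T),
      a = lift (lift y t) x :=
    fun a => ⟨a ≫ fst _ _ ≫ fst _ _, a ≫ snd _ _, a ≫ fst _ _ ≫ snd _ _, by ext <;> simp⟩
  obtain ⟨f, ⟨hfm, hjf⟩, -⟩ := exists_extend hG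
    (affineHom_tensor (affineHom_tensor affineHom_ga (isTorus_isAffineHom HB.hT)) affineHom_ga)
    (cell i pp pm) hone φ fun X a b c e => by
      obtain ⟨y, x, t, rfl⟩ := hsplit a
      obtain ⟨y', x', t', rfl⟩ := hsplit b
      obtain ⟨y'', x'', t'', rfl⟩ := hsplit c
      rw [cell_lift, cell_lift, cell_lift] at e
      rw [hφ, hφ, hφ]
      set DG := HR.data X
      simp only [HR.M_pt, HR.P_pt, HR.τ_pt] at e
      have hin : IC i pp pm (Red.gaFn x) (Red.gaFn y') := by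
        have e1 : DG.P (Red.gaFn x) * DG.M (Red.gaFn y') =
            (DG.τ t)⁻¹ * (DG.M (Red.gaFn y))⁻¹ * (DG.M (Red.gaFn y'') * DG.τ t'' *
              DG.P (Red.gaFn x'')) * (DG.P (Red.gaFn x'))⁻¹ * (DG.τ t')⁻¹ := by
          rw [e]; simp only [DG]; group
        rw [DG.P_inv, DG.M_inv, ← map_inv, ← map_inv] at e1
        simp only [← _root_.mul_assoc] at e1
        rw [_root_.mul_assoc _ (DG.M _) (DG.M _), ← DG.M_add, _root_.mul_assoc _ (DG.P _) (DG.P _),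
          ← DG.P_add, DG.τ_M, _root_.mul_assoc _ (DG.P _) (DG.τ _), DG.P_τ,
          ← _root_.mul_assoc, _root_.mul_assoc (DG.M _) (DG.τ _) (DG.τ _), ← map_mul,
          _root_.mul_assoc (DG.M _) (DG.τ _) (DG.τ _), ← map_mul] at e1
        show InCell i pp pm (DG.P (Red.gaFn x) * DG.M (Red.gaFn y'))
        rw [e1]
        exact inCell_mk ..
      obtain ⟨u, hu⟩ : IsUnit (1 + Red.gaFn x * Red.gaFn y') := by
        refine isUnit_of_field_points _ fun K _ _ W _ e k hk => ?_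
        rw [map_add, map_one, map_mul] at hk
        have hin' := hin.comp k
        generalize k.left.appTop.hom (Red.gaFn x) = a at hk hin'
        generalize k.left.appTop.hom (Red.gaFn y') = b at hk hin'
        let v : Γ(W.left, ⊤)ˣ :=
          ⟨a, -b, by linear_combination -hk, by linear_combination -hk⟩
        refine RH.not_inCell_w HB HR e ((HR.data W).av v)⁻¹ (-a) ?_
        have e2 : HR.w₁ W * (HR.data W).τ ((HR.data W).av v)⁻¹ * (HR.data W).P (-a) =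
            (HR.data W).P a * (HR.data W).M b := by
          rw [map_inv]
          show (HR.data W).w 1 * ((HR.data W).h v)⁻¹ * _ = _
          rw [← (HR.data W).w_smul', _root_.mul_one, R1.w, _root_.mul_assoc _ ((HR.data W).P _),
            ← (HR.data W).P_add]
          simp [v, R1.P_zero]
        rw [e2]
        exact hin'
      rw [DG.cell_mul _ _ _ _ _ _ u hu] at e
      have e3 : (gaPt _ ≫ pm) * (t'' ≫ i) * (gaPt _ ≫ pp) =
          (gaPt _ ≫ pm) * (_ ≫ i) * (gaPt _ ≫ pp) := e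
      obtain ⟨ey, et, ex⟩ := HB.inj e3
      have ey' := congrArg Red.gaFn ey
      have ex' := congrArg Red.gaFn ex
      rw [gaFn_gaPt, gaFn_gaPt] at ey' ex'
      rw [← hτ, ← hτ, ← hτ, ey', ex', et]
      show _ = (RD X).M _ * (RD X).τ t * (RD X).P _ * ((RD X).M _ * (RD X).τ t' * (RD X).P _)
      rw [(RD X).cell_mul _ _ _ _ _ _ u hu]
      simp only [RD, P1.toR1, ha, hav]
      rfl
  have hpt : ∀ {X : Over S} (y x : Γ(X.left, ⊤)) (t : X ⟶ T),
      ((HR.data X).M y * (HR.data X).τ t * (HR.data X).P x) ≫ f =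
        (D X).M y * (t ≫ fT) * (D X).P x := by
    intro X y x t
    show ((gaPt y ≫ pm) * (t ≫ i) * (gaPt x ≫ pp)) ≫ f = _
    rw [← cell_lift, Category.assoc, hjf, hφ, gaFn_gaPt, gaFn_gaPt]
  have hM0 : ∀ X : Over S, (D X).M 0 = 1 := fun X => by
    rw [P1.M, neg_zero, P1.P_zero, _root_.mul_one, mul_inv_cancel]
  have hfP : ∀ {X : Over S} x, (HR.data X).P x ≫ f = (D X).P x := fun {X} x => by
    have e := hpt 0 x (1 : X ⟶ T)
    rwa [R1.M_zero, map_one, _root_.one_mul, _root_.one_mul, hM0, MonObj.one_comp fT,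
      _root_.one_mul, _root_.one_mul] at e
  have hfM : ∀ {X : Over S} y, (HR.data X).M y ≫ f = (D X).M y := fun {X} y => by
    have e := hpt y 0 (1 : X ⟶ T)
    rwa [R1.P_zero, map_one, _root_.mul_one, _root_.mul_one, P1.P_zero, MonObj.one_comp fT,
      _root_.mul_one, _root_.mul_one] at e
  refine ⟨f, hfm, ?_, ?_, ?_⟩
  · have e := hpt 0 0 (𝟙 T)
    rw [R1.M_zero, R1.P_zero, _root_.one_mul, _root_.mul_one, hM0, P1.P_zero, _root_.one_mul,
      _root_.mul_one, Category.id_comp, ← HR.τ_pt, Category.id_comp] at e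
    exact e
  · have e := hfP (Red.gaFn (𝟙 (Red.Ga S)))
    rw [← HR.P_pt, Category.id_comp, hP, gaPt_gaFn, Category.id_comp] at e
    exact e
  · rw [show HR.w₁ (𝟙_ (Over S)) = (HR.data _).P 1 * (HR.data _).M (-1) * (HR.data _).P 1 by
      simp [RH.w₁, R1.w], MonObj.mul_comp _ _ f, MonObj.mul_comp _ _ f, hfP, hfM, P1.w_one, hn,
      toUnit_unit, Category.id_comp]


/-- Generators and relations for a group of semisimple rank 1: for H an S-group scheme. Let G be a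
reductive S-group, i : T ⟶ G a maximal torus, α a character of T non-trivial on every geometric
fibre, p₊, p₋ : 𝔾_a ⟶ G monomorphisms of groups normalised by T with multipliers α and α⁻¹ whose
cell map (y, t, x) ↦ p₋(y) i(t) p₊(x) is an open immersion 𝔾_a ×_S T ×_S 𝔾_a ⟶ G, and α^* : 𝔾_m ⟶ T
the coroot: α ∘ α^* is the squaring map and p₊(x) p₋(y) = p₋(y/(1+xy)) · i(α^*(1+xy)) · p₊(x/(1+xy))
whenever 1 + xy is invertible (so p₊ and p₋ are dual to each other). Let e₁, em be the S-points of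
𝔾_a with coordinates 1, -1 and m the S-point of 𝔾_m with coordinate -1; put u = p₊(e₁) and w =
p₊(e₁) p₋(em) p₊(e₁). Let H be an S-group scheme, f_T : T ⟶ H and f_α : 𝔾_a ⟶ H homomorphisms and h
an S-point of H. Then there is exactly one homomorphism f : G ⟶ H with f ∘ i = f_T, f ∘ p₊ = f_α and
f(w) = h if and only if: (1) f_T(t) f_α(x) f_T(t)⁻¹ = f_α(α(t) x) for all points t of T and x of
𝔾_a; (2) h f_T(t) h⁻¹ = f_T(t · α^*(α(t))⁻¹) for all points t of T; (3) h² = f_T(α^*(m)); (4) (h ·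
f_α(e₁))³ = e. (The published statement allows H to be any fppf sheaf of groups.) -/
theorem result (S : Scheme.{u}) (G T : Over S) [GrpObj G] [GrpObj T] (i : T ⟶ G) [IsMonHom i] [Mono i] (hG : Red.IsReductive G) (hTm : Red.IsMaximalTorus i)
    (α : T ⟶ Red.Gm S) [IsMonHom α] (hα : ∀ s : S, (Over.pullback (Red.geomPt s)).map α ≠ 1)
    (pp pm : Red.Ga S ⟶ G) [IsMonHom pp] [Mono pp] [IsMonHom pm] [Mono pm]
    (hpp : ∀ (X : Over S) (t : X ⟶ T) (x : X ⟶ Red.Ga S), ∃ x' : X ⟶ Red.Ga S,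
      x' ≫ pp = (t ≫ i) * (x ≫ pp) * (t ≫ i)⁻¹ ∧ Red.gaFn x' = Red.gmFn (t ≫ α) * Red.gaFn x)
    (hpm : ∀ (X : Over S) (t : X ⟶ T) (y : X ⟶ Red.Ga S), ∃ y' : X ⟶ Red.Ga S,
      y' ≫ pm = (t ≫ i) * (y ≫ pm) * (t ≫ i)⁻¹ ∧ Red.gaFn y' * Red.gmFn (t ≫ α) = Red.gaFn y)
    (hΩ : IsOpenImmersion (((pm ⊗ₘ i) ⊗ₘ pp) ≫ (μ[G] ▷ G) ≫ μ[G]).left)
    (av : Red.Gm S ⟶ T) [IsMonHom av] (h2 : av ≫ α = (𝟙 (Red.Gm S)) ^ 2)
    (hF : ∀ (X : Over S) (x y : X ⟶ Red.Ga S), IsUnit (1 + Red.gaFn x * Red.gaFn y) →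
      ∃ (x' y' : X ⟶ Red.Ga S) (z : X ⟶ Red.Gm S), Red.gmFn z = 1 + Red.gaFn x * Red.gaFn y ∧
        Red.gaFn x' * Red.gmFn z = Red.gaFn x ∧ Red.gaFn y' * Red.gmFn z = Red.gaFn y ∧
        (x ≫ pp) * (y ≫ pm) = (y' ≫ pm) * (z ≫ av ≫ i) * (x' ≫ pp))
    (e₁ em : 𝟙_ (Over S) ⟶ Red.Ga S) (he₁ : Red.gaFn e₁ = 1) (hem : Red.gaFn em = -1)
    (m : 𝟙_ (Over S) ⟶ Red.Gm S) (hm : Red.gmFn m = -1)
    (H : Over S) [GrpObj H] (fT : T ⟶ H) [IsMonHom fT] (fα : Red.Ga S ⟶ H) [IsMonHom fα] (h : 𝟙_ (Over S) ⟶ H) :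
    (∃! f : G ⟶ H, IsMonHom f ∧ i ≫ f = fT ∧ pp ≫ f = fα ∧ ((e₁ ≫ pp) * (em ≫ pm) * (e₁ ≫ pp)) ≫ f = h) ↔
      ((∀ (X : Over S) (t : X ⟶ T) (x x' : X ⟶ Red.Ga S), Red.gaFn x' = Red.gmFn (t ≫ α) * Red.gaFn x →
          (t ≫ fT) * (x ≫ fα) * (t ≫ fT)⁻¹ = x' ≫ fα) ∧
        (∀ (X : Over S) (t : X ⟶ T), (toUnit X ≫ h) * (t ≫ fT) * (toUnit X ≫ h)⁻¹ = (t * (t ≫ α ≫ av)⁻¹) ≫ fT) ∧
        h ^ 2 = m ≫ av ≫ fT ∧ (h * (e₁ ≫ fα)) ^ 3 = 1) := by
  have HB : BC G T i α pp pm := ⟨‹_›, ‹_›, ‹_›, ‹_›, hTm.2.2.1, hpp, hpm, hα, hΩ⟩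
  have HR : RH G T i α pp pm av := ⟨‹_›, ‹_›, ‹_›, ‹_›, ‹_›, hTm.2.2.1, hpp, hpm, h2, hF⟩
  have hw : (e₁ ≫ pp) * (em ≫ pm) * (e₁ ≫ pp) = HR.w₁ (𝟙_ (Over S)) := by
    rw [HR.P_pt, HR.M_pt, he₁, hem]
    simp [RH.w₁, R1.w]
  constructor
  · rintro ⟨f, ⟨hfm, hfi, hfp, hfw⟩, -⟩
    rw [hw] at hfw
    have hn : ∀ X, toUnit X ≫ h = HR.w₁ X ≫ f := fun X => by
      rw [← hfw, ← Category.assoc, HR.comp_w₁]
    refine ⟨fun X t x x' hx => ?_, fun X t => ?_, ?_, ?_⟩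
    · obtain ⟨x'', e, e'⟩ := hpp X t x
      rw [show x'' = x' from gaFn_injective (by rw [e', hx])] at e
      simp only [← hfi, ← hfp, ← Category.assoc]
      rw [← GrpObj.inv_comp _ f, ← MonObj.mul_comp _ _ f, ← MonObj.mul_comp _ _ f, ← e]
    · simp only [← hfi, ← Category.assoc, hn]
      rw [← GrpObj.inv_comp _ f, ← MonObj.mul_comp _ _ f, ← MonObj.mul_comp _ _ f]
      congr 1
      rw [HR.av_pt, HR.τ_pt, HR.τ_pt, map_mul, map_inv]
      show (HR.data X).w 1 * _ * ((HR.data X).w 1)⁻¹ = _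
      rw [(HR.data X).w_conj, ← (HR.data X).h_inv, R1.h, ← map_mul, ← map_inv (HR.data X).τ,
        ← map_mul, map_inv (HR.data X).av, (HR.data X).comm _ t]
      rfl
    · rw [← hfw, pow_two, ← MonObj.mul_comp _ _ f, ← hfi, ← Category.assoc av, ← Category.assoc m]
      congr 1
      show (HR.data _).w 1 * (HR.data _).w 1 = _
      rw [(HR.data _).w_mul_w 1 1 (-1) (by simp), HR.h_pt]
      exact congrArg _ (Units.ext (by rw [val_gmU, hm]; rfl)).symm
    · rw [← hfw, ← hfp, ← Category.assoc e₁, HR.P_pt, he₁, ← MonObj.mul_comp _ _ f,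
        pow_succ, pow_two, ← MonObj.mul_comp _ _ f, ← MonObj.mul_comp _ _ f, ← pow_two, ← pow_succ]
      have e := (HR.data (𝟙_ (Over S))).wP_cube 1 (HR.w_eq_w' 1)
      rw [Units.val_one] at e
      show _ ≫ f = 1
      rw [show (HR.w₁ (𝟙_ (Over S)) * (HR.data (𝟙_ (Over S))).P 1) ^ 3 = 1 from e,
        MonObj.one_comp f]
  · rintro ⟨c1, c2, c3, c4⟩
    let D := pres HR fT fα h c1 c2 m hm c3 e₁ he₁ c4
    obtain ⟨f, hfm, hfi, hfp, hfw⟩ := exists_hom HB HR hG D (fun _ _ => rfl) (fun _ _ => rfl)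
      (fun _ => rfl) (fun _ => rfl) (fun _ => rfl)
    refine ⟨f, ⟨hfm, hfi, hfp, by rw [hw]; exact hfw⟩, ?_⟩
    rintro g ⟨hgm, hgi, hgp, hgw⟩
    rw [hw] at hgw
    have := HB.hΩ
    refine hom_ext_of_open hG (cell i pp pm) (fun X => HB.one_inCell X) g f ?_
    refine hom_ext_affine fun X _ a => ?_
    obtain ⟨y, t, x, ha⟩ : ∃ y t x, a ≫ cell i pp pm = (y ≫ pm) * (t ≫ i) * (x ≫ pp) :=
      cell_pt' a
    show a ≫ cell i pp pm ≫ g = a ≫ cell i pp pm ≫ f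
    refine ((Category.assoc a (cell i pp pm) g).symm.trans ?_).trans (Category.assoc a (cell i pp pm) f)
    rw [ha]
    exact (hom_pt HR g hgi hgp hgw y t x).trans (hom_pt HR f hfi hfp hfw y t x).symm

end Groth.Agent.S8457
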