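import Groth.Statements.S8453
import Groth.Agent.S8457
import Groth.Agent.S8478
-- import your own Groth.Agent.* helpers here

set_option autoImplicit false
universe u
open CategoryTheory MonoidalCategory CartesianMonoidalCategory MonObj GrpObj AlgebraicGeometry CategoryTheory.Limits
open Red

open Groth.Agent.RedPts82

namespace Groth.Agent.S8453


/-- Isomorphism thm for groups of semisimple rank 1: Let (G, T, α, p₊, p₋, α^*) and (G', T', α', p'₊,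
p'₋, α'^*) be two rank-one systems over S: G reductive, i : T ⟶ G a maximal torus, α a character of
T non-trivial on every geometric fibre, p₊, p₋ : 𝔾_a ⟶ G monomorphisms normalised by T with
multipliers α, α⁻¹ whose cell map (y, t, x) ↦ p₋(y) i(t) p₊(x) is an open immersion, α^* : 𝔾_m ⟶ T
with α ∘ α^* the squaring map and p₊(x) p₋(y) = p₋(y/(1+xy)) · i(α^*(1+xy)) · p₊(x/(1+xy)) whenever
1 + xy is invertible; likewise for the primed data. Let q > 0 be an integer such that x ↦ x^q is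
additive on all functions of S-schemes. Let c be an S-point of 𝔾_m (a trivialisation of the
isomorphism (𝔤^α)^{⊗q} ≅ 𝔤'^{α'}) and f_T : T ⟶ T' a homomorphism with α' ∘ f_T = α^q and f_T ∘ α^*
= (α'^*)^q. Then there is exactly one homomorphism f : G ⟶ G' extending f_T (i ∘ f = f_T ∘ i') with
f(p₊(x)) = p'₊(c x^q) for all points x of 𝔾_a; moreover every such f satisfies f(p₋(y)) = p'₋(c⁻¹
y^q) for all points y. -/
theorem result (S : Scheme.{u}) (G T : Over S) [GrpObj G] [GrpObj T] (i : T ⟶ G) [IsMonHom i] [Mono i] (hG : Red.IsReductive G) (hTm : Red.IsMaximalTorus i)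
    (α : T ⟶ Red.Gm S) [IsMonHom α] (hα : ∀ s : S, (Over.pullback (Red.geomPt s)).map α ≠ 1)
    (pp pm : Red.Ga S ⟶ G) [IsMonHom pp] [Mono pp] [IsMonHom pm] [Mono pm]
    (hpp : ∀ (X : Over S) (t : X ⟶ T) (x : X ⟶ Red.Ga S), ∃ x' : X ⟶ Red.Ga S,
      x' ≫ pp = (t ≫ i) * (x ≫ pp) * (t ≫ i)⁻¹ ∧ Red.gaFn x' = Red.gmFn (t ≫ α) * Red.gaFn x)
    (hpm : ∀ (X : Over S) (t : X ⟶ T) (y : X ⟶ Red.Ga S), ∃ y' : X ⟶ Red.Ga S,
      y' ≫ pm = (t ≫ i) * (y ≫ pm) * (t ≫ i)⁻¹ ∧ Red.gaFn y' * Red.gmFn (t ≫ α) = Red.gaFn y)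
    (hΩ : IsOpenImmersion (((pm ⊗ₘ i) ⊗ₘ pp) ≫ (μ[G] ▷ G) ≫ μ[G]).left)
    (av : Red.Gm S ⟶ T) [IsMonHom av] (h2 : av ≫ α = (𝟙 (Red.Gm S)) ^ 2)
    (hF : ∀ (X : Over S) (x y : X ⟶ Red.Ga S), IsUnit (1 + Red.gaFn x * Red.gaFn y) →
      ∃ (x' y' : X ⟶ Red.Ga S) (z : X ⟶ Red.Gm S), Red.gmFn z = 1 + Red.gaFn x * Red.gaFn y ∧
        Red.gaFn x' * Red.gmFn z = Red.gaFn x ∧ Red.gaFn y' * Red.gmFn z = Red.gaFn y ∧
        (x ≫ pp) * (y ≫ pm) = (y' ≫ pm) * (z ≫ av ≫ i) * (x' ≫ pp))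
    (G' T' : Over S) [GrpObj G'] [GrpObj T'] (i' : T' ⟶ G') [IsMonHom i'] [Mono i'] (hG' : Red.IsReductive G') (hTm' : Red.IsMaximalTorus i')
    (α' : T' ⟶ Red.Gm S) [IsMonHom α'] (hα' : ∀ s : S, (Over.pullback (Red.geomPt s)).map α' ≠ 1)
    (pp' pm' : Red.Ga S ⟶ G') [IsMonHom pp'] [Mono pp'] [IsMonHom pm'] [Mono pm']
    (hpp' : ∀ (X : Over S) (t : X ⟶ T') (x : X ⟶ Red.Ga S), ∃ x' : X ⟶ Red.Ga S,
      x' ≫ pp' = (t ≫ i') * (x ≫ pp') * (t ≫ i')⁻¹ ∧ Red.gaFn x' = Red.gmFn (t ≫ α') * Red.gaFn x)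
    (hpm' : ∀ (X : Over S) (t : X ⟶ T') (y : X ⟶ Red.Ga S), ∃ y' : X ⟶ Red.Ga S,
      y' ≫ pm' = (t ≫ i') * (y ≫ pm') * (t ≫ i')⁻¹ ∧ Red.gaFn y' * Red.gmFn (t ≫ α') = Red.gaFn y)
    (hΩ' : IsOpenImmersion (((pm' ⊗ₘ i') ⊗ₘ pp') ≫ (μ[G'] ▷ G') ≫ μ[G']).left)
    (av' : Red.Gm S ⟶ T') [IsMonHom av'] (h2' : av' ≫ α' = (𝟙 (Red.Gm S)) ^ 2)
    (hF' : ∀ (X : Over S) (x y : X ⟶ Red.Ga S), IsUnit (1 + Red.gaFn x * Red.gaFn y) →
      ∃ (x' y' : X ⟶ Red.Ga S) (z : X ⟶ Red.Gm S), Red.gmFn z = 1 + Red.gaFn x * Red.gaFn y ∧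
        Red.gaFn x' * Red.gmFn z = Red.gaFn x ∧ Red.gaFn y' * Red.gmFn z = Red.gaFn y ∧
        (x ≫ pp') * (y ≫ pm') = (y' ≫ pm') * (z ≫ av' ≫ i') * (x' ≫ pp'))
    (q : ℕ) (hq0 : 0 < q) (hq : ∀ (X : Over S) (a b : Γ(X.left, ⊤)), (a + b) ^ q = a ^ q + b ^ q) (c : 𝟙_ (Over S) ⟶ Red.Gm S) (fT : T ⟶ T') [IsMonHom fT]
    (hfTα : fT ≫ α' = α ^ q) (hfTav : av ≫ fT = av' ^ q) :
    (∃! f : G ⟶ G', IsMonHom f ∧ i ≫ f = fT ≫ i' ∧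
        ∀ (X : Over S) (x y : X ⟶ Red.Ga S), Red.gaFn y = Red.gmFn (toUnit X ≫ c) * Red.gaFn x ^ q →
          (x ≫ pp) ≫ f = y ≫ pp') ∧
      ∀ f : G ⟶ G', IsMonHom f → i ≫ f = fT ≫ i' →
        (∀ (X : Over S) (x y : X ⟶ Red.Ga S), Red.gaFn y = Red.gmFn (toUnit X ≫ c) * Red.gaFn x ^ q →
          (x ≫ pp) ≫ f = y ≫ pp') →
        ∀ (X : Over S) (x y : X ⟶ Red.Ga S), Red.gaFn y * Red.gmFn (toUnit X ≫ c) = Red.gaFn x ^ q →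
          (x ≫ pm) ≫ f = y ≫ pm' := by
  have H' : BC G' T' i' α' pp' pm' := ⟨‹_›, ‹_›, ‹_›, ‹_›, hTm'.2.2.1, hpp', hpm', hα', hΩ'⟩
  have HR : RH G T i α pp pm av := ⟨‹_›, ‹_›, ‹_›, ‹_›, ‹_›, hTm.2.2.1, hpp, hpm, h2, hF⟩
  have HR' : RH G' T' i' α' pp' pm' av' :=
    ⟨‹_›, ‹_›, ‹_›, ‹_›, ‹_›, hTm'.2.2.1, hpp', hpm', h2', hF'⟩
  let φ : Red.Ga S ⟶ Red.Ga S :=
    gaPt (Red.gmFn (toUnit (Red.Ga S) ≫ c) * Red.gaFn (𝟙 (Red.Ga S)) ^ q)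
  have hφ : ∀ {X : Over S} (x : X ⟶ Red.Ga S),
      x ≫ φ = gaPt (Red.gmFn (toUnit X ≫ c) * Red.gaFn x ^ q) := fun {X} x => by
    refine gaFn_injective ?_
    rw [gaFn_comp, gaFn_gaPt, gaFn_gaPt, map_mul, map_pow, ← gmFn_comp, ← gaFn_comp,
      comp_toUnit_assoc, Category.comp_id]
  have : IsMonHom φ := isMonHom_of_points φ fun X x x' => gaFn_injective (by
    rw [hφ, hφ, hφ, gaFn_mul, gaFn_mul, gaFn_gaPt, gaFn_gaPt, gaFn_gaPt, hq, mul_add])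
  have hfP : ∀ (f : G ⟶ G'), (∀ (X : Over S) (x y : X ⟶ Red.Ga S),
      Red.gaFn y = Red.gmFn (toUnit X ≫ c) * Red.gaFn x ^ q → (x ≫ pp) ≫ f = y ≫ pp') ↔
      pp ≫ f = φ ≫ pp' := by
    intro f
    refine ⟨fun h => ?_, fun h X x y hy => ?_⟩
    · have e := h _ (𝟙 _) φ (gaFn_gaPt _)
      rwa [Category.id_comp] at e
    · rw [Category.assoc, h, ← Category.assoc, hφ, ← hy, gaPt_gaFn]
  have hh : ∀ (f : G ⟶ G'), i ≫ f = fT ≫ i' → ∀ (X : Over S) (v : Γ(X.left, ⊤)ˣ),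
      (HR.data X).h v ≫ f = (HR'.data X).h (v ^ q) := by
    intro f hfi X v
    show ((gmPt v ≫ av) ≫ i) ≫ f = _
    rw [Category.assoc, hfi, Category.assoc, reassoc_of% hfTav, ← Category.assoc,
      MonObj.comp_pow, HR'.av_pt, ← map_pow, show gmU (gmPt v) = v from Units.ext (gmFn_gmPt v)]
    rfl
  have hneg : ∀ f : G ⟶ G', IsMonHom f → i ≫ f = fT ≫ i' →
      (∀ (X : Over S) (x y : X ⟶ Red.Ga S), Red.gaFn y = Red.gmFn (toUnit X ≫ c) * Red.gaFn x ^ q →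
        (x ≫ pp) ≫ f = y ≫ pp') →
      ∀ (X : Over S) (x y : X ⟶ Red.Ga S), Red.gaFn y * Red.gmFn (toUnit X ≫ c) = Red.gaFn x ^ q →
        (x ≫ pm) ≫ f = y ≫ pm' := fun f _ hfi hf X x y hy =>
    Groth.Agent.S8478.negRoot HR H' HR' q hq0 hq c f
      (fun W r => hf W (gaPt r) (gaPt _) (by rw [gaFn_gaPt, gaFn_gaPt])) (hh f hfi) x y hy
  refine ⟨?_, hneg⟩
  let D := HR'.data (𝟙_ (Over S))
  let cU : Γ((𝟙_ (Over S)).left, ⊤)ˣ := gmU c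
  let w : 𝟙_ (Over S) ⟶ G' := D.w cU
  have hwX : ∀ (X : Over S), toUnit X ≫ w = (HR'.data X).w (gmU (toUnit X ≫ c)) := by
    intro X
    have e : Units.map (toUnit X).left.appTop.hom.toMonoidHom cU = gmU (toUnit X ≫ c) :=
      Units.ext (by rw [val_gmU, gmFn_comp]; rfl)
    show toUnit X ≫ D.w cU = _
    simp only [D, R1.w, MonObj.comp_mul, HR'.comp_P, HR'.comp_M, map_neg, ← e, ← map_inv]
    rfl
  have key := Groth.Agent.S8457.result S G T i hG hTm α hα pp pm hpp hpm hΩ av h2 hF (gaPt 1)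
    (gaPt (-1)) (gaFn_gaPt _) (gaFn_gaPt _) (gmPt (-1)) (by rw [gmFn_gmPt]; simp) G' (fT ≫ i')
    (φ ≫ pp') w
  refine Exists.elim (key.mpr ?_) fun f ⟨⟨hfm, hfi, hfp, hfw⟩, huniq⟩ => ?_
  rotate_left
  · refine ⟨f, ⟨hfm, hfi, (hfP f).mpr hfp⟩, ?_⟩
    rintro g ⟨hgm, hgi, hgp⟩
    refine huniq g ⟨hgm, hgi, (hfP g).mp hgp, ?_⟩
    rw [← hfw]
    have hgm' := hneg g hgm hgi hgp
    have hfm' := hneg f hfm hfi ((hfP f).mpr hfp)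
    have hy : Red.gaFn (gaPt (X := 𝟙_ (Over S)) (((gmU (toUnit (𝟙_ (Over S)) ≫ c))⁻¹ : _ˣ) * (-1) ^ q)) *
        Red.gmFn (toUnit (𝟙_ (Over S)) ≫ c) = Red.gaFn (gaPt (X := 𝟙_ (Over S)) (-1)) ^ q := by
      rw [gaFn_gaPt, gaFn_gaPt, ← val_gmU, mul_comm, Units.mul_inv_cancel_left]
    simp only [MonObj.mul_comp _ _ g, MonObj.mul_comp _ _ f, Category.assoc (gaPt 1) pp,
      (hfP g).mp hgp, hfp, hgm' _ _ _ hy, hfm' _ _ _ hy]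
  refine ⟨fun X t x x' hx => ?_, fun X t => ?_, ?_, ?_⟩
  · simp only [← Category.assoc]
    rw [hφ, hφ]
    obtain ⟨z, e1, e2⟩ := hpp' X (t ≫ fT) (gaPt (Red.gmFn (toUnit X ≫ c) * Red.gaFn x ^ q))
    rw [← e1]
    congr 1
    refine gaFn_injective ?_
    rw [e2, gaFn_gaPt, gaFn_gaPt, hx, mul_pow, Category.assoc, hfTα, MonObj.comp_pow, gmFn_pow]
    ring
  · rw [hwX, MonObj.mul_comp _ _ (fT ≫ i'), ← Category.assoc t fT, HR'.τ_pt,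
      GrpObj.inv_comp _ (fT ≫ i')]
    have hne : IsMonHom (fT ≫ i') := inferInstance
    set D' := HR'.data X
    rw [D'.w_conj]
    have ha : D'.a (t ≫ fT) = gmU (t ≫ α) ^ q := Units.ext (by
      rw [HR'.val_a, Category.assoc, hfTα, MonObj.comp_pow, gmFn_pow, Units.val_pow_eq_pow_val]
      rfl)
    have hb : (t ≫ α ≫ av) ≫ fT ≫ i' = D'.h (gmU (t ≫ α) ^ q) := by
      rw [R1.h, map_pow, ← HR'.av_pt]
      show _ = (((t ≫ α) ≫ av') ^ q) ≫ i'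
      rw [← MonObj.comp_pow, ← hfTav]
      simp only [Category.assoc]
    rw [ha, hb]
    show _ = D'.τ (t ≫ fT) * _
    rw [R1.h, ← map_inv D'.τ, ← map_mul, ← map_mul, D'.comm]
  · rw [pow_two]
    show D.w cU * D.w cU = _
    rw [D.w_mul_w cU cU (-1) (by simp), ← Category.assoc av, hfTav,
      ← Category.assoc (gmPt _), MonObj.comp_pow, HR'.av_pt,
      show gmU (gmPt (S := S) (-1 : Γ((𝟙_ (Over S)).left, ⊤)ˣ)) = -1 from Units.ext (gmFn_gmPt _)]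
    show D.h (-1) = D.τ (D.av (-1) ^ q)
    rw [← map_pow, show ((-1 : Γ((𝟙_ (Over S)).left, ⊤)ˣ)) ^ q = -1 from Units.ext (by
      rw [Units.val_pow_eq_pow_val, Units.val_neg, Units.val_one]
      exact Groth.Agent.S8478.pow_neg_one hq0 _ (hq _))]
    rfl
  · rw [← Category.assoc, hφ, gaFn_gaPt, one_pow, _root_.mul_one, toUnit_unit, Category.id_comp,
      HR'.P_pt, gaFn_gaPt]
    exact D.wP_cube cU (HR'.w_eq_w' cU)

end Groth.Agent.S8453
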