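import Groth.Statements.S8459
import Groth.Agent.RedPts82.PinnedBraid

set_option autoImplicit false
universe u
open CategoryTheory MonoidalCategory CartesianMonoidalCategory MonObj GrpObj AlgebraicGeometry CategoryTheory.Limits
open Red

namespace Groth.Agent.S8459

/-- Let G be a pinned reductive S-group: a splitting D (maximal torus T ≅ D_S(M), root datum with root
homomorphisms u_c : 𝔾_a ⟶ G for all roots c, system of simple roots Δ) such that for every simple
root a the root homomorphisms of a and -a are dual to each other: u_a(x) u_{-a}(y) =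
u_{-a}(y/(1+xy)) · a^∨(1+xy) · u_a(x/(1+xy)) whenever 1 + xy is invertible, where a^∨ : 𝔾_m ⟶ T is
the coroot of a read through the splitting. For a root a put w_a = u_a(1) u_{-a}(-1) u_a(1) (an
S-point of G). Let a ≠ b be simple roots with ⟨b, a^∨⟩ = 0 and ⟨a, b^∨⟩ = 0 (the pair spans a system
of type A₁ × A₁). Then t_{ab} = (w_a w_b)^2 = a^∨(-1) · b^∨(-1) = (w_b w_a)^2. (The published
statement is for a pinned group whose simple roots are exactly a and b; this row states it for two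
simple roots a ≠ b of any pinned group.) -/
theorem result (S : Scheme.{u}) (e₁ : 𝟙_ (Over S) ⟶ Red.Ga S) (he₁ : Red.gaFn e₁ = 1)
    (G : Over S) [GrpObj G] (D : Red.Pinning G)
    (avc : D.idx → (Red.Gm S ⟶ D.T))
    (havc : ∀ a, avc a = Red.DSmap S (D.P.coroot a).toAddMonoidHom ≫ D.split.inv.hom.hom)
    (hpair : ∀ a ∈ D.base.support, ∀ (X : Over S) (x y : X ⟶ Red.Ga S), IsUnit (1 + Red.gaFn x * Red.gaFn y) →
        ∃ (x' y' : X ⟶ Red.Ga S) (z : X ⟶ Red.Gm S), Red.gmFn z = 1 + Red.gaFn x * Red.gaFn y ∧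
          Red.gaFn x' * Red.gmFn z = Red.gaFn x ∧ Red.gaFn y' * Red.gmFn z = Red.gaFn y ∧
          (x ≫ D.u a) * (y ≫ D.u (D.P.reflectionPerm a a)) = (y' ≫ D.u (D.P.reflectionPerm a a)) * (z ≫ avc a ≫ D.i) * (x' ≫ D.u a))
    (w : D.idx → (𝟙_ (Over S) ⟶ G))
    (hw : ∀ a, w a = (e₁ ≫ D.u a) * (e₁ ≫ D.u (D.P.reflectionPerm a a))⁻¹ * (e₁ ≫ D.u a))
    (m₁ : 𝟙_ (Over S) ⟶ Red.Gm S) (hm₁ : Red.gmFn m₁ = -1)
    (a b : D.idx) (ha : a ∈ D.base.support) (hb : b ∈ D.base.support) (hne : a ≠ b)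
    (hba : D.P.pairing b a = 0) (hab : D.P.pairing a b = 0) :
    (w a * w b) ^ 2 = (m₁ ≫ avc a ≫ D.i) * (m₁ ≫ avc b ≫ D.i) ∧ (w b * w a) ^ 2 = (m₁ ≫ avc a ≫ D.i) * (m₁ ≫ avc b ≫ D.i) := by
  have hd := fun (c : D.idx) (hc : c ∈ D.base.support) => RedPts82.isDual_of_hpair D avc havc hpair c hc
  have hw' := RedPts82.wpt_of_def D e₁ he₁ w hw
  have hm : ∀ c, m₁ ≫ avc c ≫ D.i = RedPts82.negOnePt D.toSplitRed c := fun c => by
    rw [RedPts82.negOnePt, RedPts82.hpt, havc,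
      show RedPts82.gmPt (-1 : Γ((𝟙_ (Over S)).left, ⊤)ˣ) = m₁ from RedPts82.gmFn_injective (by
        rw [RedPts82.gmFn_gmPt, hm₁, Units.val_neg, Units.val_one])]
  rw [hw', hw']
  simp only [hm]
  exact RedPts82.coxeter_A1 D.base ha hb hne (hd a ha) (hd b hb) hba hab

end Groth.Agent.S8459
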