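import Groth.Statements.S8468
import Groth.Agent.RedPts82.IsoMain

set_option autoImplicit false
universe u
open CategoryTheory MonoidalCategory CartesianMonoidalCategory MonObj GrpObj AlgebraicGeometry CategoryTheory.Limits
open Red

namespace Groth.Agent.S8468

open Groth.Agent.RedPts82

/-- Full faithfulness of the pinned-root-datum functor: p-morphisms: Let S be a non-empty scheme and G,
G' two pinned reductive S-groups: splittings D, D' (tori T ≅ D_S(M), T' ≅ D_S(M'), root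
homomorphisms for all roots, simple roots) in which for each simple root a the root homomorphisms of
a and -a are dual (u_a(x) u_{-a}(y) = u_{-a}(y/(1+xy)) a^∨(1+xy) u_a(x/(1+xy)) for 1 + xy
invertible, a^∨ the coroot read through the splitting). Let p > 0 be an integer such that x ↦ x^p is
additive on functions of S-schemes, and let (h, d, q) be a p-morphism of pinned root data from that
of G' to that of G: h : M' → M linear, d a bijection from the roots of G to those of G' carrying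
simple roots onto simple roots, q(a) a power of p, with h(d(a)) = q(a) a and ᵗh(a^∨) = q(a) d(a)^∨
for every root a. Then there is exactly one homomorphism f : G ⟶ G' which induces D_S(h) : T ⟶ T' on
the tori and satisfies f(u_a(x)) = u'_{d(a)}(x^{q(a)}) and f(u_{-a}(x)) = u'_{-d(a)}(x^{q(a)}) for
every simple root a and every point x of 𝔾_a. -/
theorem result (S : Scheme.{u}) [Nonempty S] (e₁ : 𝟙_ (Over S) ⟶ Red.Ga S) (he₁ : Red.gaFn e₁ = 1)
    (G : Over S) [GrpObj G] (D : Red.Pinning G)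
    (avc : D.idx → (Red.Gm S ⟶ D.T))
    (havc : ∀ a, avc a = Red.DSmap S (D.P.coroot a).toAddMonoidHom ≫ D.split.inv.hom.hom)
    (hpair : ∀ a ∈ D.base.support, ∀ (X : Over S) (x y : X ⟶ Red.Ga S), IsUnit (1 + Red.gaFn x * Red.gaFn y) →
        ∃ (x' y' : X ⟶ Red.Ga S) (z : X ⟶ Red.Gm S), Red.gmFn z = 1 + Red.gaFn x * Red.gaFn y ∧
          Red.gaFn x' * Red.gmFn z = Red.gaFn x ∧ Red.gaFn y' * Red.gmFn z = Red.gaFn y ∧
          (x ≫ D.u a) * (y ≫ D.u (D.P.reflectionPerm a a)) = (y' ≫ D.u (D.P.reflectionPerm a a)) * (z ≫ avc a ≫ D.i) * (x' ≫ D.u a))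
    (G' : Over S) [GrpObj G'] (D' : Red.Pinning G')
    (avc' : D'.idx → (Red.Gm S ⟶ D'.T))
    (havc' : ∀ a, avc' a = Red.DSmap S (D'.P.coroot a).toAddMonoidHom ≫ D'.split.inv.hom.hom)
    (hpair' : ∀ a ∈ D'.base.support, ∀ (X : Over S) (x y : X ⟶ Red.Ga S), IsUnit (1 + Red.gaFn x * Red.gaFn y) →
        ∃ (x' y' : X ⟶ Red.Ga S) (z : X ⟶ Red.Gm S), Red.gmFn z = 1 + Red.gaFn x * Red.gaFn y ∧
          Red.gaFn x' * Red.gmFn z = Red.gaFn x ∧ Red.gaFn y' * Red.gmFn z = Red.gaFn y ∧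
          (x ≫ D'.u a) * (y ≫ D'.u (D'.P.reflectionPerm a a)) = (y' ≫ D'.u (D'.P.reflectionPerm a a)) * (z ≫ avc' a ≫ D'.i) * (x' ≫ D'.u a))
    (p : ℕ) (hp0 : 0 < p) (hp : ∀ (X : Over S) (a b : Γ(X.left, ⊤)), (a + b) ^ p = a ^ p + b ^ p)
    (hM : D'.M →ₗ[ℤ] D.M) (d : D.idx ≃ D'.idx) (q : D.idx → ℕ) (hq : ∀ a, ∃ n : ℕ, q a = p ^ n)
    (hroot : ∀ a, hM (D'.P.root (d a)) = (q a : ℤ) • D.P.root a)
    (hcoroot : ∀ a, hM.dualMap (D.P.coroot a) = (q a : ℤ) • D'.P.coroot (d a))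
    (hΔ : ∀ a, a ∈ D.base.support ↔ d a ∈ D'.base.support) :
    ∃! f : G ⟶ G', IsMonHom f ∧
      D.i ≫ f = D.split.hom.hom.hom ≫ Red.DSmap S hM.toAddMonoidHom ≫ D'.split.inv.hom.hom ≫ D'.i ∧
      ∀ a ∈ D.base.support, ∀ (X : Over S) (x y : X ⟶ Red.Ga S), Red.gaFn y = Red.gaFn x ^ q a →
        (x ≫ D.u a) ≫ f = y ≫ D'.u (d a) ∧
          (x ≫ D.u (D.P.reflectionPerm a a)) ≫ f = y ≫ D'.u (D'.P.reflectionPerm (d a) (d a)) := by
  have hd : Duals D.toSplitRed D.base := fun a ha => isDual_of_hpair D avc havc hpair a ha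
  have hd' : Duals D'.toSplitRed D'.base := fun a ha => isDual_of_hpair D' avc' havc' hpair' a ha
  let F : PMor D.toSplitRed D'.toSplitRed D.base D'.base :=
    ⟨p, hp0, hp, hM, d, q, hq, hroot, hcoroot, hΔ⟩
  obtain ⟨f, ⟨hf, hi⟩, huniq⟩ := existsUnique_induces F hd hd'
  refine ⟨f, ⟨hf, hi.torus, fun a ha X x y hy => ?_⟩, fun g ⟨hg, hgT, hgU⟩ => huniq g ⟨hg, ?_⟩⟩
  · have e1 := hi.simple a ha X (Red.gaFn x)
    have e2 := hi.negSimple a ha X (Red.gaFn x)
    simp only [rp, gaPt_gaFn] at e1 e2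
    rw [show y = gaPt (Red.gaFn x ^ q a) from gaFn_injective (by rw [hy, gaFn_gaPt])]
    exact ⟨e1, e2⟩
  · exact ⟨hgT,
      fun a ha X r => (hgU a ha X (gaPt r) (gaPt (r ^ q a)) (by rw [gaFn_gaPt, gaFn_gaPt])).1,
      fun a ha X r => (hgU a ha X (gaPt r) (gaPt (r ^ q a)) (by rw [gaFn_gaPt, gaFn_gaPt])).2⟩

end Groth.Agent.S8468
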