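import Groth.Statements.S8469
import Groth.Agent.RedPts82.IsoThm
import Groth.Agent.RedPts82.TypeUnique

set_option autoImplicit false
universe u
open CategoryTheory MonoidalCategory CartesianMonoidalCategory MonObj GrpObj AlgebraicGeometry CategoryTheory.Limits
open Red

namespace Groth.Agent.S8469

open Groth.Agent.RedPts82

/-- Let G and G' be reductive S-groups each admitting a splitting, and let s be a point of S such that
the geometric fibres G_{s̄} and G'_{s̄} have the same type: both are split of type Q for one root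
datum Q. Then G and G' are isomorphic as S-group schemes. -/
theorem result (S : Scheme.{u}) (G G' : Over S) [GrpObj G] [GrpObj G']
    (D : Red.SplitRed G) (D' : Red.SplitRed G') (s : S)
    {ι' M' N' : Type} [AddCommGroup M'] [Module ℤ M'] [AddCommGroup N'] [Module ℤ N'] (Q : RootPairing ι' ℤ M' N')
    (hs : Red.IsSplitOfType Q (Red.geomFibre s G)) (hs' : Red.IsSplitOfType Q (Red.geomFibre s G')) :
    Nonempty (Grp.mk G ≅ Grp.mk G') := by
  obtain ⟨E, ⟨eE⟩⟩ := Groth.Agent.RedPts82.exists_split_geomFibre D s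
  obtain ⟨E', ⟨eE'⟩⟩ := Groth.Agent.RedPts82.exists_split_geomFibre D' s
  obtain ⟨A, ⟨eA⟩⟩ := hs
  obtain ⟨A', ⟨eA'⟩⟩ := hs'
  obtain ⟨c⟩ := Groth.Agent.RedPts82.nonempty_equiv_algClosed E A
  obtain ⟨c'⟩ := Groth.Agent.RedPts82.nonempty_equiv_algClosed A' E'
  let toQ : RootPairing.Equiv D'.P Q :=
    eA'.comp ((RootPairing.Equiv.symm A'.P E'.P c').comp (RootPairing.Equiv.symm E'.P D'.P eE'))
  let fromQ : RootPairing.Equiv Q D.P :=
    eE.comp ((RootPairing.Equiv.symm E.P A.P c).comp (RootPairing.Equiv.symm A.P Q eA))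
  exact Groth.Agent.RedPts82.nonempty_iso_of_equiv D D' (fromQ.comp toQ)

end Groth.Agent.S8469
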