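import Groth.Statements.S8471
import Mathlib.FieldTheory.RatFunc.AsPolynomial
import Mathlib.FieldTheory.IsAlgClosed.AlgebraicClosure
import Mathlib.FieldTheory.AlgebraicClosure
import Mathlib.Tactic.LinearCombination
import Mathlib.Tactic.FieldSimp

set_option autoImplicit false
open Red

namespace Groth.Agent.S8471

open Polynomial

/-- A line which is a rational function has constant denominator. -/
theorem of_root {k Ω : Type} [Field k] [Field Ω] [Algebra k Ω] (F : RatFunc k)
    (h1 : F.num.eval 0 = F.denom.eval 0) (x : Ω) (hx : Transcendental k x) (r : Ω)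
    (hr : IsAlgebraic k r) (hr0 : r ≠ 0) (hs : IsAlgebraic k (x + (aeval x F.num / aeval x F.denom) * r)) :
    ∃ a : k, F = 1 + RatFunc.C a * RatFunc.X := by
  let E : IntermediateField k Ω := algebraicClosure k Ω
  have hxE : Transcendental E x := fun h =>
    hx (IsAlgebraic.restrictScalars k h)
  set s := x + (aeval x F.num / aeval x F.denom) * r with hs'
  have hq : aeval x F.denom ≠ 0 := by
    intro h
    exact F.denom_ne_zero (transcendental_iff_injective.mp hx (h.trans (map_zero _).symm))
  let rE : E := ⟨r, (mem_algebraicClosure_iff).mpr hr⟩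
  let sE : E := ⟨s, (mem_algebraicClosure_iff).mpr hs⟩
  let φ : k[X] →+* E[X] := Polynomial.mapRingHom (algebraMap k E)
  have he : φ F.num * C rE = (C sE - X) * φ F.denom := by
    apply transcendental_iff_injective.mp hxE
    simp only [φ, Polynomial.coe_mapRingHom, map_mul, map_sub, aeval_C, aeval_X,
      aeval_map_algebraMap]
    show aeval x F.num * r = (s - x) * aeval x F.denom
    rw [hs']
    field_simp
    ring
  have hu : IsUnit (φ F.denom) := by
    refine IsCoprime.isUnit_of_dvd' ((RatFunc.isCoprime_num_denom F).map φ) ?_ (dvd_refl _)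
    have hrE : IsUnit (C rE : E[X]) :=
      isUnit_C.mpr (IsUnit.mk0 rE fun h => hr0 (congrArg Subtype.val h))
    rw [← hrE.dvd_mul_right, he]
    exact dvd_mul_left _ _
  obtain ⟨d, hd, hd'⟩ := Polynomial.isUnit_iff.mp (isUnit_of_isUnit_map F.denom hu)
  have hd1 : F.denom = 1 := by
    have := F.monic_denom
    rw [← hd'] at this ⊢
    rw [show d = 1 by simpa [Monic] using this, map_one]
  have hdeg : F.num.natDegree ≤ 1 := by
    rw [hd1, map_one, _root_.mul_one] at he
    have := congrArg natDegree he
    rw [natDegree_mul_C (fun h => hr0 (congrArg Subtype.val h))] at this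
    simp only [φ, Polynomial.coe_mapRingHom, natDegree_map] at this
    rw [this]
    exact (natDegree_sub_le _ _).trans (by simp)
  refine ⟨F.num.coeff 1, ?_⟩
  have hn := F.num.eq_X_add_C_of_natDegree_le_one hdeg
  have h0 : F.num.coeff 0 = 1 := by
    rw [coeff_zero_eq_eval_zero, h1, hd1, eval_one]
  conv_lhs => rw [← RatFunc.num_div_denom F, hd1, map_one, div_one, hn, h0, map_add, map_mul,
    RatFunc.algebraMap_C, RatFunc.algebraMap_C, RatFunc.algebraMap_X, map_one, add_comm]
where
  isUnit_of_isUnit_map {k E : Type} [Field k] [Field E] [Algebra k E] (p : k[X])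
      (h : IsUnit (p.map (algebraMap k E))) : IsUnit p := by
    rw [Polynomial.isUnit_iff_degree_eq_zero] at h ⊢
    rwa [degree_map] at h


/-- Let k be a field and F ∈ k(X) a rational function whose denominator does not vanish at 0 and with
F(0) = 1. Suppose that in the field of fractions L of k[X₀, X₁] one has F(X₀ + X₁ · F(X₀)) = F(X₀) ·
F(X₁) (the functional equation F(x + y F(x)) = F(x) F(y)). Then there is a ∈ k with F = 1 + a X.
(The published statement takes the identity on an open neighbourhood of the origin of 𝔾_a × 𝔾_a on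
which all terms are defined; this row takes it as an identity of rational functions in two
variables.) -/
theorem result (k : Type) [Field k] (F : RatFunc k)
    (h0 : F.denom.eval 0 ≠ 0) (h1 : F.num.eval 0 = F.denom.eval 0)
    (hFE : RatFunc.eval (algebraMap k (FractionRing (MvPolynomial (Fin 2) k)))
        (algebraMap (MvPolynomial (Fin 2) k) (FractionRing (MvPolynomial (Fin 2) k)) (MvPolynomial.X 0) +
          algebraMap (MvPolynomial (Fin 2) k) (FractionRing (MvPolynomial (Fin 2) k)) (MvPolynomial.X 1) *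
            RatFunc.eval (algebraMap k (FractionRing (MvPolynomial (Fin 2) k)))
              (algebraMap (MvPolynomial (Fin 2) k) (FractionRing (MvPolynomial (Fin 2) k)) (MvPolynomial.X 0)) F) F =
      RatFunc.eval (algebraMap k (FractionRing (MvPolynomial (Fin 2) k)))
          (algebraMap (MvPolynomial (Fin 2) k) (FractionRing (MvPolynomial (Fin 2) k)) (MvPolynomial.X 0)) F *
        RatFunc.eval (algebraMap k (FractionRing (MvPolynomial (Fin 2) k)))
          (algebraMap (MvPolynomial (Fin 2) k) (FractionRing (MvPolynomial (Fin 2) k)) (MvPolynomial.X 1)) F) :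
    ∃ a : k, F = 1 + RatFunc.C a * RatFunc.X := by
  let p := F.num
  let q := F.denom
  let K := RatFunc k
  let φ : MvPolynomial (Fin 2) k →+* K[X] :=
    MvPolynomial.eval₂Hom ((Polynomial.C : K →+* K[X]).comp RatFunc.C) ![C RatFunc.X, X]
  let Ω := AlgebraicClosure (RatFunc k)
  let ι : RatFunc k →+* Ω := algebraMap _ _
  have hφ : Function.Injective φ := by
    let ψ : Polynomial (Polynomial k) →+* K[X] := Polynomial.mapRingHom (algebraMap k[X] K)
    have hψ : Function.Injective ψ := Polynomial.map_injective _ (RatFunc.algebraMap_injective k)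
    let χ : MvPolynomial (Fin 2) k →+* Polynomial (Polynomial k) :=
      MvPolynomial.eval₂Hom ((Polynomial.C : k[X] →+* _).comp Polynomial.C) ![C X, X]
    let χ' : Polynomial (Polynomial k) →+* MvPolynomial (Fin 2) k :=
      Polynomial.eval₂RingHom (Polynomial.eval₂RingHom MvPolynomial.C (MvPolynomial.X 0)) (MvPolynomial.X 1)
    have hinv : χ'.comp χ = RingHom.id _ := by
      apply MvPolynomial.ringHom_ext
      · intro c; simp [χ, χ']
      · intro i; fin_cases i <;> simp [χ, χ']
    have hχ : Function.Injective χ := Function.LeftInverse.injective (g := χ')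
      (fun z => RingHom.congr_fun hinv z)
    have : φ = ψ.comp χ := by
      apply MvPolynomial.ringHom_ext
      · intro c; simp [φ, ψ, χ]; exact (RatFunc.algebraMap_C c).symm
      · intro i; fin_cases i <;> simp [φ, ψ, χ, RatFunc.algebraMap_X, K]
    rw [this]
    exact hψ.comp hχ
  let M := FractionRing K[X]
  let Φ : FractionRing (MvPolynomial (Fin 2) k) →+* M :=
    IsFractionRing.lift (g := (algebraMap K[X] M).comp φ)
      ((IsFractionRing.injective K[X] M).comp hφ)
  have hΦ : ∀ z, Φ (algebraMap (MvPolynomial (Fin 2) k) _ z) = algebraMap K[X] M (φ z) :=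
    fun z => IsFractionRing.lift_algebraMap _ z
  have hev : ∀ z, Φ (RatFunc.eval (algebraMap k (FractionRing (MvPolynomial (Fin 2) k))) z F) =
      p.eval₂ (Φ.comp (algebraMap k _)) (Φ z) / q.eval₂ (Φ.comp (algebraMap k _)) (Φ z) := by
    intro z
    rw [RatFunc.eval, map_div₀, Polynomial.hom_eval₂, Polynomial.hom_eval₂]
  have hc : Φ.comp (algebraMap k (FractionRing (MvPolynomial (Fin 2) k))) =
      (algebraMap K[X] M).comp ((Polynomial.C : K →+* K[X]).comp RatFunc.C) := by
    ext c
    rw [RingHom.comp_apply, IsScalarTower.algebraMap_apply k (MvPolynomial (Fin 2) k), hΦ]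
    simp [φ]
  -- the equation in `M`
  let P : K[X] := p.map RatFunc.C
  let Q : K[X] := q.map RatFunc.C
  have ev : ∀ (w : K[X]) (u : k[X]), u.eval₂ ((algebraMap K[X] M).comp
      ((Polynomial.C : K →+* K[X]).comp RatFunc.C)) (algebraMap K[X] M w) =
      algebraMap K[X] M ((u.map RatFunc.C).comp w) := by
    intro w u
    rw [← Polynomial.hom_eval₂, Polynomial.comp, Polynomial.eval₂_map]
  have hx : p.eval₂ RatFunc.C RatFunc.X / q.eval₂ RatFunc.C RatFunc.X = F := by
    have e : ∀ u : k[X], u.eval₂ RatFunc.C RatFunc.X = algebraMap k[X] K u := fun u => by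
      rw [← RatFunc.algebraMap_X, ← RatFunc.algebraMap_comp_C, ← Polynomial.hom_eval₂,
        Polynomial.eval₂_C_X]
    rw [e, e]
    exact F.num_div_denom
  have h0' := congrArg Φ hFE
  simp only [map_mul, hev, hc, map_add, hΦ] at h0'
  simp only [φ, MvPolynomial.eval₂Hom_X', Matrix.cons_val_zero, Matrix.cons_val_one, ev,
    Polynomial.comp_X] at h0'
  have hF : algebraMap K[X] M ((p.map RatFunc.C).comp (C RatFunc.X)) /
      algebraMap K[X] M ((q.map RatFunc.C).comp (C RatFunc.X)) = algebraMap K[X] M (C F) := by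
    rw [Polynomial.comp_C, Polynomial.comp_C, Polynomial.eval_map, Polynomial.eval_map]
    conv_rhs => rw [← hx]
    exact (map_div₀ ((algebraMap K[X] M).comp C) _ _).symm
  rw [hF, ← map_mul, ← map_add, ev, ev] at h0'
  set A : K[X] := C RatFunc.X + X * C F with hA
  have hFne : F ≠ 0 := by
    intro h
    rw [h, RatFunc.num_zero, RatFunc.denom_zero] at h1
    simp at h1
  have hcop : IsCoprime P Q := (RatFunc.isCoprime_num_denom F).map (Polynomial.mapRingHom RatFunc.C)
  have hQ0 : Q ≠ 0 := Polynomial.map_ne_zero F.denom_ne_zero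
  have hQA : Q.comp A ≠ 0 := by
    rw [Ne, Polynomial.comp_eq_zero_iff, not_or]
    refine ⟨hQ0, fun h => ?_⟩
    have := congrArg (Polynomial.coeff · 1) h.2
    rw [hA] at this
    simp at this
    exact hFne this
  rw [mul_div_assoc', div_eq_div_iff
    (fun h => hQA (IsFractionRing.injective K[X] M (h.trans (map_zero _).symm)))
    (fun h => hQ0 (IsFractionRing.injective K[X] M (h.trans (map_zero _).symm))),
    ← map_mul, ← map_mul, ← map_mul] at h0'
  have key : P.comp A * Q = C F * P * Q.comp A := IsFractionRing.injective K[X] M h0'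
  by_cases hconst : p.natDegree = 0 ∧ q.natDegree = 0
  · refine ⟨0, ?_⟩
    obtain ⟨a, ha⟩ := Polynomial.natDegree_eq_zero.mp hconst.1
    obtain ⟨b, hb⟩ := Polynomial.natDegree_eq_zero.mp hconst.2
    have hab : a = b := by
      have h1' : p.eval 0 = q.eval 0 := h1
      rwa [← ha, ← hb, eval_C, eval_C] at h1'
    rw [map_zero, zero_mul, add_zero, ← F.num_div_denom, show F.num = F.denom from
      ha.symm.trans ((congrArg C hab).trans hb), div_self (RatFunc.algebraMap_ne_zero F.denom_ne_zero)]
  have hιk : ∀ (w : Ω) (u : k[X]), (u.map RatFunc.C).eval₂ ι w = aeval w u := by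
    intro w u
    rw [Polynomial.eval₂_map, aeval_def]
    congr 1
  obtain ⟨r, u, hu, hru, hrA⟩ : ∃ (r : Ω) (u : k[X]), u.eval 0 ≠ 0 ∧ aeval r u = 0 ∧
      aeval (A.eval₂ ι r) u = 0 := by
    have hgen : ∀ (u v : k[X]), u.eval 0 ≠ 0 → u.natDegree ≠ 0 → IsCoprime u v →
        (∃ c : K[X], (u.map RatFunc.C).comp A * v.map RatFunc.C = c * u.map RatFunc.C) →
        ∃ (r : Ω) (u : k[X]), u.eval 0 ≠ 0 ∧ aeval r u = 0 ∧ aeval (A.eval₂ ι r) u = 0 := by
      intro u v hu hdeg huv ⟨c, hcc⟩
      obtain ⟨r, hr⟩ := IsAlgClosed.exists_aeval_eq_zero Ω u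
        (fun h => hdeg (Polynomial.natDegree_eq_zero_of_isUnit
          (Polynomial.isUnit_iff_degree_eq_zero.mpr h)))
      refine ⟨r, u, hu, hr, ?_⟩
      have := congrArg (Polynomial.eval₂ ι r) hcc
      rw [eval₂_mul, eval₂_mul, Polynomial.eval₂_comp, hιk, hιk, hιk, hr, mul_zero,
        mul_eq_zero] at this
      rcases this with h | h
      · exact h
      · obtain ⟨a, b, hab⟩ := huv
        have := congrArg (aeval r) hab
        simp [hr, h] at this
    by_cases hp : p.natDegree = 0
    · refine hgen q p h0 (fun h => hconst ⟨hp, h⟩) F.isCoprime_num_denom.symm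
        ⟨C F⁻¹ * P.comp A, ?_⟩
      have e : C F⁻¹ * C F = (1 : K[X]) := by rw [← map_mul, inv_mul_cancel₀ hFne, map_one]
      show Q.comp A * P = C F⁻¹ * P.comp A * Q
      linear_combination -(C F⁻¹) * key - (P * Q.comp A) * e
    · refine hgen p q ?_ hp F.isCoprime_num_denom ⟨C F * Q.comp A, ?_⟩
      · exact fun h => h0 (h1 ▸ h)
      · show P.comp A * Q = C F * Q.comp A * P
        linear_combination key
  have hr0 : r ≠ 0 := by
    rintro rfl
    rw [← coeff_zero_eq_aeval_zero', coeff_zero_eq_eval_zero] at hru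
    exact hu ((map_eq_zero _).mp hru)
  have hu0 : u ≠ 0 := fun h => hu (by simp [h])
  refine of_root F h1 (ι RatFunc.X) ((transcendental_algebraMap_iff ι.injective).mpr
    RatFunc.transcendental_X) r ⟨u, hu0, hru⟩ hr0 ⟨u, hu0, ?_⟩
  convert hrA using 2
  rw [hA, eval₂_add, eval₂_mul, eval₂_C, eval₂_C, eval₂_X, mul_comm r]
  congr 2
  conv_rhs => rw [← hx]
  rw [map_div₀, Polynomial.hom_eval₂, Polynomial.hom_eval₂, aeval_def, aeval_def]
  rfl

end Groth.Agent.S8471
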