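import Groth.Statements.S8472
import Groth.Agent.RedPts82.PinnedChev

set_option autoImplicit false
universe u
open CategoryTheory MonoidalCategory CartesianMonoidalCategory MonObj GrpObj AlgebraicGeometry CategoryTheory.Limits
open Red

namespace Groth.Agent.S8472

/-- Existence of a Chevalley system extending a pinning: at the level of root groups. Let G be a pinned
reductive S-group: a splitting D (maximal torus T ≅ D_S(M), root datum with root homomorphisms u_c :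
𝔾_a ⟶ G for all roots c, system of simple roots Δ) such that for every simple root a the root
homomorphisms of a and -a are dual to each other: u_a(x) u_{-a}(y) = u_{-a}(y/(1+xy)) · a^∨(1+xy) ·
u_a(x/(1+xy)) whenever 1 + xy is invertible, where a^∨ : 𝔾_m ⟶ T is the coroot of a read through the
splitting. For a root a put w_a = u_a(1) u_{-a}(-1) u_a(1) (an S-point of G). Then the pinning
extends to a Chevalley system: there is a family (v_c)_{c} of root homomorphisms v_c : 𝔾_a ⟶ G, one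
for each root c, normalised by T through the character of c, with v_a = u_a for every simple root a,
such that every v_c admits a dual root homomorphism v_c⁻ (v_c(x) v_c⁻(y) = v_c⁻(y/(1+xy)) c^∨(1+xy)
v_c(x/(1+xy)) for 1 + xy invertible) for which, writing n_c = v_c(1) v_c⁻(1)⁻¹ v_c(1), one has for
every root b a sign ε ∈ {1, -1} with n_c v_b(x) n_c⁻¹ = v_{s_c(b)}(ε x) for all points x of 𝔾_a. -/
theorem result (S : Scheme.{u}) (e₁ : 𝟙_ (Over S) ⟶ Red.Ga S) (he₁ : Red.gaFn e₁ = 1)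
    (G : Over S) [GrpObj G] (D : Red.Pinning G)
    (avc : D.idx → (Red.Gm S ⟶ D.T))
    (havc : ∀ a, avc a = Red.DSmap S (D.P.coroot a).toAddMonoidHom ≫ D.split.inv.hom.hom)
    (hpair : ∀ a ∈ D.base.support, ∀ (X : Over S) (x y : X ⟶ Red.Ga S), IsUnit (1 + Red.gaFn x * Red.gaFn y) →
        ∃ (x' y' : X ⟶ Red.Ga S) (z : X ⟶ Red.Gm S), Red.gmFn z = 1 + Red.gaFn x * Red.gaFn y ∧
          Red.gaFn x' * Red.gmFn z = Red.gaFn x ∧ Red.gaFn y' * Red.gmFn z = Red.gaFn y ∧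
          (x ≫ D.u a) * (y ≫ D.u (D.P.reflectionPerm a a)) = (y' ≫ D.u (D.P.reflectionPerm a a)) * (z ≫ avc a ≫ D.i) * (x' ≫ D.u a)) :
    ∃ v : D.idx → (Red.Ga S ⟶ G),
      (∀ c, Red.IsRootHom D.i (D.split.hom.hom.hom ≫ Red.chi S (D.P.root c)) (v c)) ∧
      (∀ a ∈ D.base.support, v a = D.u a) ∧
      ∀ c, ∃ vd : Red.Ga S ⟶ G, IsMonHom vd ∧
        (∀ (X : Over S) (x y : X ⟶ Red.Ga S), IsUnit (1 + Red.gaFn x * Red.gaFn y) →
        ∃ (x' y' : X ⟶ Red.Ga S) (z : X ⟶ Red.Gm S), Red.gmFn z = 1 + Red.gaFn x * Red.gaFn y ∧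
          Red.gaFn x' * Red.gmFn z = Red.gaFn x ∧ Red.gaFn y' * Red.gmFn z = Red.gaFn y ∧
          (x ≫ v c) * (y ≫ vd) = (y' ≫ vd) * (z ≫ avc c ≫ D.i) * (x' ≫ v c)) ∧
        ∀ b, ∃ ε : ℤ, (ε = 1 ∨ ε = -1) ∧ ∀ (X : Over S) (x y : X ⟶ Red.Ga S), Red.gaFn y = (ε : Γ(X.left, ⊤)) * Red.gaFn x →
          (toUnit X ≫ ((e₁ ≫ v c) * (e₁ ≫ vd)⁻¹ * (e₁ ≫ v c))) * (x ≫ v b) *
              (toUnit X ≫ ((e₁ ≫ v c) * (e₁ ≫ vd)⁻¹ * (e₁ ≫ v c)))⁻¹ = y ≫ v (D.P.reflectionPerm c b) := by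
  obtain ⟨v, h1, h2, h3⟩ := RedPts82.exists_chevSystem D.base
    (fun c hc => RedPts82.isDual_of_hpair D avc havc hpair c hc)
  refine ⟨v, h1, h2, fun c => ?_⟩
  obtain ⟨vd, h4, h5, h6⟩ := h3 c
  refine ⟨vd, h4, fun X x y hxy => ?_, fun b => ?_⟩
  · rw [havc]; exact h5 X x y hxy
  · obtain ⟨ε, hε, h⟩ := h6 b
    refine ⟨ε, hε, fun X x y hy => ?_⟩
    have e1 : toUnit X ≫ e₁ = RedPts82.gaPt 1 :=
      RedPts82.gaFn_injective (by rw [RedPts82.gaFn_comp, he₁, map_one, RedPts82.gaFn_gaPt])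
    simp only [MonObj.comp_mul, GrpObj.comp_inv, ← Category.assoc, e1]
    rw [← RedPts82.gaPt_gaFn x, h, ← hy, RedPts82.gaPt_gaFn]

end Groth.Agent.S8472
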