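import Groth.Statements.S8477
import Groth.Agent.RedPts82.PinnedSign

set_option autoImplicit false
universe u
open CategoryTheory MonoidalCategory CartesianMonoidalCategory MonObj GrpObj AlgebraicGeometry CategoryTheory.Limits
open Red

namespace Groth.Agent.S8477

/-- At the level of root groups: Let G be a pinned reductive S-group: a splitting D (maximal torus T ≅
D_S(M), root datum with root homomorphisms u_c : 𝔾_a ⟶ G for all roots c, system of simple roots Δ)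
such that for every simple root a the root homomorphisms of a and -a are dual to each other: u_a(x)
u_{-a}(y) = u_{-a}(y/(1+xy)) · a^∨(1+xy) · u_a(x/(1+xy)) whenever 1 + xy is invertible, where a^∨ :
𝔾_m ⟶ T is the coroot of a read through the splitting. For a root a put w_a = u_a(1) u_{-a}(-1)
u_a(1) (an S-point of G). Let l = (a₁, …, aₙ) be a list of simple roots and a, a₀ simple roots with
s_{a₁} ∘ ⋯ ∘ s_{aₙ} (a) = a₀ (as a permutation of the roots). Then there is a sign ε ∈ {1, -1} such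
that (w_{a₁} ⋯ w_{aₙ}) u_a(x) (w_{a₁} ⋯ w_{aₙ})⁻¹ = u_{a₀}(ε x) for all points x of 𝔾_a. -/
theorem result (S : Scheme.{u}) (e₁ : 𝟙_ (Over S) ⟶ Red.Ga S) (he₁ : Red.gaFn e₁ = 1)
    (G : Over S) [GrpObj G] (D : Red.Pinning G)
    (avc : D.idx → (Red.Gm S ⟶ D.T))
    (havc : ∀ a, avc a = Red.DSmap S (D.P.coroot a).toAddMonoidHom ≫ D.split.inv.hom.hom)
    (hpair : ∀ a ∈ D.base.support, ∀ (X : Over S) (x y : X ⟶ Red.Ga S), IsUnit (1 + Red.gaFn x * Red.gaFn y) →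
        ∃ (x' y' : X ⟶ Red.Ga S) (z : X ⟶ Red.Gm S), Red.gmFn z = 1 + Red.gaFn x * Red.gaFn y ∧
          Red.gaFn x' * Red.gmFn z = Red.gaFn x ∧ Red.gaFn y' * Red.gmFn z = Red.gaFn y ∧
          (x ≫ D.u a) * (y ≫ D.u (D.P.reflectionPerm a a)) = (y' ≫ D.u (D.P.reflectionPerm a a)) * (z ≫ avc a ≫ D.i) * (x' ≫ D.u a))
    (w : D.idx → (𝟙_ (Over S) ⟶ G))
    (hw : ∀ a, w a = (e₁ ≫ D.u a) * (e₁ ≫ D.u (D.P.reflectionPerm a a))⁻¹ * (e₁ ≫ D.u a))
    (l : List D.idx) (hl : ∀ c ∈ l, c ∈ D.base.support) (a a₀ : D.idx) (ha : a ∈ D.base.support) (ha₀ : a₀ ∈ D.base.support)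
    (hw₀ : (l.map D.P.reflectionPerm).prod a = a₀) :
    ∃ ε : ℤ, (ε = 1 ∨ ε = -1) ∧ ∀ (X : Over S) (x y : X ⟶ Red.Ga S), Red.gaFn y = (ε : Γ(X.left, ⊤)) * Red.gaFn x →
      (toUnit X ≫ (l.map w).prod) * (x ≫ D.u a) * (toUnit X ≫ (l.map w).prod)⁻¹ = y ≫ D.u a₀ := by
  have hd := fun (c : D.idx) (hc : c ∈ D.base.support) => RedPts82.isDual_of_hpair D avc havc hpair c hc
  rw [RedPts82.wordPerm_eq] at hw₀
  obtain ⟨ε, hε, hm⟩ := RedPts82.exists_sign D.base hd hl ha ha₀ hw₀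
  have hmap : l.map w = l.map fun c => RedPts82.wpt D.toSplitRed c (𝟙_ (Over S)) :=
    List.map_congr_left fun c _ => RedPts82.wpt_of_def D e₁ he₁ w hw c
  refine ⟨ε, hε, fun X x y hy => ?_⟩
  rw [hmap, ← RedPts82.gaPt_gaFn x, hm, RedPts82.cst, map_intCast, ← hy, RedPts82.gaPt_gaFn]

end Groth.Agent.S8477
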