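import Groth.Statements.S8485
import Groth.Agent.RedPts82.PinnedPairs

set_option autoImplicit false
universe u
open CategoryTheory MonoidalCategory CartesianMonoidalCategory MonObj GrpObj AlgebraicGeometry CategoryTheory.Limits
open Red

namespace Groth.Agent.S8485

/-- At the level of root groups. Let G be a pinned reductive S-group: a splitting D (maximal torus T ≅
D_S(M), root datum with root homomorphisms u_c : 𝔾_a ⟶ G for all roots c, system of simple roots Δ)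
such that for every simple root a the root homomorphisms of a and -a are dual to each other: u_a(x)
u_{-a}(y) = u_{-a}(y/(1+xy)) · a^∨(1+xy) · u_a(x/(1+xy)) whenever 1 + xy is invertible, where a^∨ :
𝔾_m ⟶ T is the coroot of a read through the splitting. For a root a put w_a = u_a(1) u_{-a}(-1)
u_a(1) (an S-point of G). Let a ≠ b be simple roots with ⟨b, a^∨⟩ = -2 and ⟨a, b^∨⟩ = -1 (type B₂);
put u_{a+b}(x) = w_b u_a(x) w_b⁻¹ and u_{2a+b}(x) = w_a u_b(x) w_a⁻¹. Then for all points x of 𝔾_a: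
w_a u_{a+b}(x) w_a⁻¹ = u_{a+b}(-x), w_a u_{2a+b}(x) w_a⁻¹ = u_b(x), w_b u_{a+b}(x) w_b⁻¹ = u_a(-x)
and w_b u_{2a+b}(x) w_b⁻¹ = u_{2a+b}(x). (The published statement is for a pinned group whose simple
roots are exactly a and b; this row states it for two simple roots a ≠ b of any pinned group.) -/
theorem result (S : Scheme.{u}) (e₁ : 𝟙_ (Over S) ⟶ Red.Ga S) (he₁ : Red.gaFn e₁ = 1)
    (G : Over S) [GrpObj G] (D : Red.Pinning G)
    (avc : D.idx → (Red.Gm S ⟶ D.T))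
    (havc : ∀ a, avc a = Red.DSmap S (D.P.coroot a).toAddMonoidHom ≫ D.split.inv.hom.hom)
    (hpair : ∀ a ∈ D.base.support, ∀ (X : Over S) (x y : X ⟶ Red.Ga S), IsUnit (1 + Red.gaFn x * Red.gaFn y) →
        ∃ (x' y' : X ⟶ Red.Ga S) (z : X ⟶ Red.Gm S), Red.gmFn z = 1 + Red.gaFn x * Red.gaFn y ∧
          Red.gaFn x' * Red.gmFn z = Red.gaFn x ∧ Red.gaFn y' * Red.gmFn z = Red.gaFn y ∧
          (x ≫ D.u a) * (y ≫ D.u (D.P.reflectionPerm a a)) = (y' ≫ D.u (D.P.reflectionPerm a a)) * (z ≫ avc a ≫ D.i) * (x' ≫ D.u a))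
    (w : D.idx → (𝟙_ (Over S) ⟶ G))
    (hw : ∀ a, w a = (e₁ ≫ D.u a) * (e₁ ≫ D.u (D.P.reflectionPerm a a))⁻¹ * (e₁ ≫ D.u a))
    (a b : D.idx) (ha : a ∈ D.base.support) (hb : b ∈ D.base.support) (hne : a ≠ b)
    (hba : D.P.pairing b a = -2) (hab : D.P.pairing a b = -1)
    (uab : ∀ X : Over S, (X ⟶ Red.Ga S) → (X ⟶ G))
    (huab : ∀ (X : Over S) (x : X ⟶ Red.Ga S), uab X x = (toUnit X ≫ w b) * (x ≫ D.u a) * (toUnit X ≫ w b)⁻¹)
    (uaab : ∀ X : Over S, (X ⟶ Red.Ga S) → (X ⟶ G))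
    (huaab : ∀ (X : Over S) (x : X ⟶ Red.Ga S), uaab X x = (toUnit X ≫ w a) * (x ≫ D.u b) * (toUnit X ≫ w a)⁻¹)
    (X : Over S) (x nx : X ⟶ Red.Ga S) (hnx : Red.gaFn nx = - Red.gaFn x) :
    (toUnit X ≫ w a) * uab X x * (toUnit X ≫ w a)⁻¹ = uab X nx ∧ (toUnit X ≫ w a) * uaab X x * (toUnit X ≫ w a)⁻¹ = x ≫ D.u b ∧
      (toUnit X ≫ w b) * uab X x * (toUnit X ≫ w b)⁻¹ = nx ≫ D.u a ∧ (toUnit X ≫ w b) * uaab X x * (toUnit X ≫ w b)⁻¹ = uaab X x := by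
  have hd := fun (c : D.idx) (hc : c ∈ D.base.support) => RedPts82.isDual_of_hpair D avc havc hpair c hc
  have hW := RedPts82.toUnit_wpt e₁ he₁ D w hw
  obtain ⟨c₁, c₂, k, k', -, h1, h2, h3, h4, h5, h6, -, -⟩ :=
    RedPts82.pinned_B2 D.base ha hb hne (hd a ha) (hd b hb) hba hab
  have hk : RedPts82.cst X ((k⁻¹ : Γ(S, ⊤)ˣ) : Γ(S, ⊤)) * RedPts82.cst X (k : Γ(S, ⊤)) = 1 := by
    rw [← map_mul, Units.inv_mul, map_one]
  have hk' : RedPts82.cst X ((k'⁻¹ : Γ(S, ⊤)ˣ) : Γ(S, ⊤)) * RedPts82.cst X (k' : Γ(S, ⊤)) = 1 := by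
    rw [← map_mul, Units.inv_mul, map_one]
  simp only [huab, huaab, hW, h1.pt, h4.pt]
  refine ⟨?_, ?_, ?_, ?_⟩
  · rw [h5, hnx]; simp [RedPts82.cst]
  · rw [h6, ← _root_.mul_assoc, hk', _root_.one_mul, RedPts82.gaPt_gaFn]
  · rw [h2, ← _root_.mul_assoc, RedPts82.cst, map_neg, neg_mul, hk, neg_one_mul, ← hnx, RedPts82.gaPt_gaFn]
  · rw [h3, RedPts82.cst, map_one, _root_.one_mul]

end Groth.Agent.S8485
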