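import Groth.Statements.S8486
import Groth.Agent.RedPts82.PinnedG2

set_option autoImplicit false
universe u
open CategoryTheory MonoidalCategory CartesianMonoidalCategory MonObj GrpObj AlgebraicGeometry CategoryTheory.Limits
open Red

namespace Groth.Agent.S8486

/-- At the level of root groups. Let G be a pinned reductive S-group: a splitting D (maximal torus T ≅
D_S(M), root datum with root homomorphisms u_c : 𝔾_a ⟶ G for all roots c, system of simple roots Δ)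
such that for every simple root a the root homomorphisms of a and -a are dual to each other: u_a(x)
u_{-a}(y) = u_{-a}(y/(1+xy)) · a^∨(1+xy) · u_a(x/(1+xy)) whenever 1 + xy is invertible, where a^∨ :
𝔾_m ⟶ T is the coroot of a read through the splitting. For a root a put w_a = u_a(1) u_{-a}(-1)
u_a(1) (an S-point of G). Let a ≠ b be simple roots with ⟨b, a^∨⟩ = -3 and ⟨a, b^∨⟩ = -1 (type G₂);
put u_{a+b}(x) = w_b u_a(x) w_b⁻¹, u_{2a+b}(x) = (w_a w_b) u_a(x) (w_a w_b)⁻¹, u_{3a+b}(x) = w_a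
u_b(-x) w_a⁻¹, u_{3a+2b}(x) = (w_b w_a) u_b(-x) (w_b w_a)⁻¹. Then for all points x of 𝔾_a: w_a
u_{2a+b}(x) w_a⁻¹ = u_{a+b}(-x), w_a u_{3a+b}(x) w_a⁻¹ = u_b(x), w_a u_{3a+2b}(x) w_a⁻¹ =
u_{3a+2b}(x), w_b u_{a+b}(x) w_b⁻¹ = u_a(-x), w_b u_{2a+b}(x) w_b⁻¹ = u_{2a+b}(x) and w_b
u_{3a+2b}(x) w_b⁻¹ = u_{3a+b}(-x). (The published statement is for a pinned group whose simple roots
are exactly a and b; this row states it for two simple roots a ≠ b of any pinned group.) -/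
theorem result (S : Scheme.{u}) (e₁ : 𝟙_ (Over S) ⟶ Red.Ga S) (he₁ : Red.gaFn e₁ = 1)
    (G : Over S) [GrpObj G] (D : Red.Pinning G)
    (avc : D.idx → (Red.Gm S ⟶ D.T))
    (havc : ∀ a, avc a = Red.DSmap S (D.P.coroot a).toAddMonoidHom ≫ D.split.inv.hom.hom)
    (hpair : ∀ a ∈ D.base.support, ∀ (X : Over S) (x y : X ⟶ Red.Ga S), IsUnit (1 + Red.gaFn x * Red.gaFn y) →
        ∃ (x' y' : X ⟶ Red.Ga S) (z : X ⟶ Red.Gm S), Red.gmFn z = 1 + Red.gaFn x * Red.gaFn y ∧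
          Red.gaFn x' * Red.gmFn z = Red.gaFn x ∧ Red.gaFn y' * Red.gmFn z = Red.gaFn y ∧
          (x ≫ D.u a) * (y ≫ D.u (D.P.reflectionPerm a a)) = (y' ≫ D.u (D.P.reflectionPerm a a)) * (z ≫ avc a ≫ D.i) * (x' ≫ D.u a))
    (w : D.idx → (𝟙_ (Over S) ⟶ G))
    (hw : ∀ a, w a = (e₁ ≫ D.u a) * (e₁ ≫ D.u (D.P.reflectionPerm a a))⁻¹ * (e₁ ≫ D.u a))
    (a b : D.idx) (ha : a ∈ D.base.support) (hb : b ∈ D.base.support) (hne : a ≠ b)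
    (hba : D.P.pairing b a = -3) (hab : D.P.pairing a b = -1)
    (u11 : ∀ X : Over S, (X ⟶ Red.Ga S) → (X ⟶ G))
    (hu11 : ∀ (X : Over S) (x : X ⟶ Red.Ga S), u11 X x = (toUnit X ≫ w b) * (x ≫ D.u a) * (toUnit X ≫ w b)⁻¹)
    (u21 : ∀ X : Over S, (X ⟶ Red.Ga S) → (X ⟶ G))
    (hu21 : ∀ (X : Over S) (x : X ⟶ Red.Ga S), u21 X x = (toUnit X ≫ (w a * w b)) * (x ≫ D.u a) * (toUnit X ≫ (w a * w b))⁻¹)
    (u31 : ∀ X : Over S, (X ⟶ Red.Ga S) → (X ⟶ G))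
    (hu31 : ∀ (X : Over S) (x : X ⟶ Red.Ga S), u31 X x = (toUnit X ≫ w a) * (x ≫ D.u b)⁻¹ * (toUnit X ≫ w a)⁻¹)
    (u32 : ∀ X : Over S, (X ⟶ Red.Ga S) → (X ⟶ G))
    (hu32 : ∀ (X : Over S) (x : X ⟶ Red.Ga S), u32 X x = (toUnit X ≫ (w b * w a)) * (x ≫ D.u b)⁻¹ * (toUnit X ≫ (w b * w a))⁻¹)
    (X : Over S) (x nx : X ⟶ Red.Ga S) (hnx : Red.gaFn nx = - Red.gaFn x) :
    (toUnit X ≫ w a) * u21 X x * (toUnit X ≫ w a)⁻¹ = u11 X nx ∧ (toUnit X ≫ w a) * u31 X x * (toUnit X ≫ w a)⁻¹ = x ≫ D.u b ∧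
      (toUnit X ≫ w a) * u32 X x * (toUnit X ≫ w a)⁻¹ = u32 X x ∧ (toUnit X ≫ w b) * u11 X x * (toUnit X ≫ w b)⁻¹ = nx ≫ D.u a ∧
      (toUnit X ≫ w b) * u21 X x * (toUnit X ≫ w b)⁻¹ = u21 X x ∧ (toUnit X ≫ w b) * u32 X x * (toUnit X ≫ w b)⁻¹ = u31 X nx := by
  have hd := fun (c : D.idx) (hc : c ∈ D.base.support) => RedPts82.isDual_of_hpair D avc havc hpair c hc
  have hW := RedPts82.toUnit_wpt e₁ he₁ D w hw
  obtain ⟨c₁, c₂, c₃, d, k, k', k'', s, -, ⟨b1, b2, b3, b4, b5⟩, ⟨a1, a2, a3, a4, a5⟩, hrel⟩ :=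
    RedPts82.pinned_G2 D.base ha hb hne (hd a ha) (hd b hb) hba hab
  have E11 : ∀ {Y : Over S} (z : Y ⟶ Red.Ga S),
      u11 Y z = RedPts82.gaPt (RedPts82.cst Y k * Red.gaFn z) ≫ D.u c₁ := fun z => by
    rw [hu11, hW, b1.pt]
  have E21 : ∀ {Y : Over S} (z : Y ⟶ Red.Ga S),
      u21 Y z = RedPts82.gaPt (RedPts82.cst Y (s * k) * Red.gaFn z) ≫ D.u c₂ := fun {Y} z => by
    rw [hu21, MonObj.comp_mul, hW, hW]
    calc _ = RedPts82.wpt D.toSplitRed a Y * (RedPts82.wpt D.toSplitRed b Y * (z ≫ D.u a) *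
          (RedPts82.wpt D.toSplitRed b Y)⁻¹) * (RedPts82.wpt D.toSplitRed a Y)⁻¹ := by group
      _ = _ := by rw [b1.pt, a2, ← _root_.mul_assoc, RedPts82.cst, RedPts82.cst, RedPts82.cst, map_mul]
  have E31 : ∀ {Y : Over S} (z : Y ⟶ Red.Ga S),
      u31 Y z = RedPts82.gaPt (-RedPts82.cst Y k' * Red.gaFn z) ≫ D.u c₃ := fun {Y} z => by
    rw [hu31, hW, ← RedPts82.gaPt_gaFn z, ← RedPts82.rootHom_gaPt_neg, a1, mul_neg, neg_mul,
      RedPts82.gaPt_gaFn]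
  have E32 : ∀ {Y : Over S} (z : Y ⟶ Red.Ga S),
      u32 Y z = RedPts82.gaPt (-RedPts82.cst Y (k'' * k') * Red.gaFn z) ≫ D.u d := fun {Y} z => by
    rw [hu32, MonObj.comp_mul, hW, hW]
    calc _ = RedPts82.wpt D.toSplitRed b Y * (RedPts82.wpt D.toSplitRed a Y * (z ≫ D.u b)⁻¹ *
          (RedPts82.wpt D.toSplitRed a Y)⁻¹) * (RedPts82.wpt D.toSplitRed b Y)⁻¹ := by group
      _ = _ := by
        rw [← RedPts82.gaPt_gaFn z, ← RedPts82.rootHom_gaPt_neg, a1, b4, RedPts82.gaPt_gaFn, RedPts82.cst,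
          RedPts82.cst, RedPts82.cst, map_mul]
        congr 2
        ring
  have hk : RedPts82.cst X ((k⁻¹ : Γ(S, ⊤)ˣ) : Γ(S, ⊤)) * RedPts82.cst X (k : Γ(S, ⊤)) = 1 := by
    rw [← map_mul, Units.inv_mul, map_one]
  have hk' : RedPts82.cst X ((k'⁻¹ : Γ(S, ⊤)ˣ) : Γ(S, ⊤)) * RedPts82.cst X (k' : Γ(S, ⊤)) = 1 := by
    rw [← map_mul, Units.inv_mul, map_one]
  have hk'' : RedPts82.cst X ((k''⁻¹ : Γ(S, ⊤)ˣ) : Γ(S, ⊤)) * RedPts82.cst X (k'' : Γ(S, ⊤)) = 1 := by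
    rw [← map_mul, Units.inv_mul, map_one]
  have hs : RedPts82.cst X ((s⁻¹ : Γ(S, ⊤)ˣ) : Γ(S, ⊤)) * RedPts82.cst X (s : Γ(S, ⊤)) = 1 := by
    rw [← map_mul, Units.inv_mul, map_one]
  simp only [E11, E21, E31, E32, hW]
  simp only [RedPts82.cst, map_mul] at hk hk' hk'' hs ⊢
  refine ⟨?_, ?_, ?_, ?_, ?_, ?_⟩
  · rw [a3, hnx, RedPts82.cst, map_neg]
    congr 2
    linear_combination (-(X.hom.appTop (k : Γ(S, ⊤)) * Red.gaFn x)) * hs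
  · rw [a4, RedPts82.cst, map_neg]
    nth_rw 2 [← RedPts82.gaPt_gaFn x]
    congr 2
    linear_combination (Red.gaFn x) * hk'
  · rw [a5, RedPts82.cst, map_one, _root_.one_mul]
  · rw [b2, RedPts82.cst, map_neg]
    conv_rhs => rw [← RedPts82.gaPt_gaFn nx]
    congr 2
    linear_combination (-(Red.gaFn x)) * hk - hnx
  · rw [b3, RedPts82.cst, map_one, _root_.one_mul]
  · rw [b5, hnx, RedPts82.cst, map_neg]
    congr 2
    linear_combination (X.hom.appTop (k' : Γ(S, ⊤)) * Red.gaFn x) * hk''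

end Groth.Agent.S8486
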