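import Groth.Statements.S8487
import Groth.Agent.RedPts82.W1Nat
import Groth.Agent.S8450
-- import your own Groth.Agent.* helpers here

set_option autoImplicit false
universe u
open CategoryTheory MonoidalCategory CartesianMonoidalCategory MonObj GrpObj AlgebraicGeometry CategoryTheory.Limits
open Red
open Groth.Agent.RedPts82

namespace Groth.Agent.S8487

/-- Let G be a reductive S-group, i : T ⟶ G a maximal torus, α a character of T non-trivial on every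
geometric fibre, p₊, p₋ : 𝔾_a ⟶ G monomorphisms of groups normalised by T with multipliers α and α⁻¹
whose cell map (y, t, x) ↦ p₋(y) i(t) p₊(x) is an open immersion 𝔾_a ×_S T ×_S 𝔾_a ⟶ G, and α^* :
𝔾_m ⟶ T the coroot: α ∘ α^* is the squaring map and p₊(x) p₋(y) = p₋(y/(1+xy)) · i(α^*(1+xy)) ·
p₊(x/(1+xy)) whenever 1 + xy is invertible (so p₊ and p₋ are dual to each other). Let n be a
non-zero integer and w an S-point of G such that w · i(α^*(z))^n · w⁻¹ = i(α^*(z))^{-n} for all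
points z of 𝔾_m (after base change). Then w is a point of N^× = Norm_G(T) − T: it normalises T, with
w i(t) w⁻¹ = i(α^*(α(t)))⁻¹ i(t) for all points t of T, and for no geometric point s̄ of S does
w(s̄) lie in T. (The published statement is an equivalence; this row states only this implication.) -/
theorem result (S : Scheme.{u}) (G T : Over S) [GrpObj G] [GrpObj T] (i : T ⟶ G) [IsMonHom i] [Mono i] (hG : Red.IsReductive G) (hTm : Red.IsMaximalTorus i)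
    (α : T ⟶ Red.Gm S) [IsMonHom α] (hα : ∀ s : S, (Over.pullback (Red.geomPt s)).map α ≠ 1)
    (pp pm : Red.Ga S ⟶ G) [IsMonHom pp] [Mono pp] [IsMonHom pm] [Mono pm]
    (hpp : ∀ (X : Over S) (t : X ⟶ T) (x : X ⟶ Red.Ga S), ∃ x' : X ⟶ Red.Ga S,
      x' ≫ pp = (t ≫ i) * (x ≫ pp) * (t ≫ i)⁻¹ ∧ Red.gaFn x' = Red.gmFn (t ≫ α) * Red.gaFn x)
    (hpm : ∀ (X : Over S) (t : X ⟶ T) (y : X ⟶ Red.Ga S), ∃ y' : X ⟶ Red.Ga S,
      y' ≫ pm = (t ≫ i) * (y ≫ pm) * (t ≫ i)⁻¹ ∧ Red.gaFn y' * Red.gmFn (t ≫ α) = Red.gaFn y)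
    (hΩ : IsOpenImmersion (((pm ⊗ₘ i) ⊗ₘ pp) ≫ (μ[G] ▷ G) ≫ μ[G]).left)
    (av : Red.Gm S ⟶ T) [IsMonHom av] (h2 : av ≫ α = (𝟙 (Red.Gm S)) ^ 2)
    (hF : ∀ (X : Over S) (x y : X ⟶ Red.Ga S), IsUnit (1 + Red.gaFn x * Red.gaFn y) →
      ∃ (x' y' : X ⟶ Red.Ga S) (z : X ⟶ Red.Gm S), Red.gmFn z = 1 + Red.gaFn x * Red.gaFn y ∧
        Red.gaFn x' * Red.gmFn z = Red.gaFn x ∧ Red.gaFn y' * Red.gmFn z = Red.gaFn y ∧
        (x ≫ pp) * (y ≫ pm) = (y' ≫ pm) * (z ≫ av ≫ i) * (x' ≫ pp))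
    (n : ℤ) (hn : n ≠ 0) (w : 𝟙_ (Over S) ⟶ G)
    (hw : ∀ (X : Over S) (z : X ⟶ Red.Gm S),
      (toUnit X ≫ w) * (((z ≫ av) ^ n) ≫ i) * (toUnit X ≫ w)⁻¹ = ((((z ≫ av) ^ n) ≫ i))⁻¹) :
    (∀ (X : Over S) (t : X ⟶ T), (toUnit X ≫ w) * (t ≫ i) * (toUnit X ≫ w)⁻¹ = (t ≫ α ≫ av ≫ i)⁻¹ * (t ≫ i)) ∧
      ∀ s : S, ¬ ∃ t : Over.mk (Red.geomPt s) ⟶ T, t ≫ i = toUnit (Over.mk (Red.geomPt s)) ≫ w := by
  have H : BC G T i α pp pm := ⟨‹_›, ‹_›, ‹_›, ‹_›, hTm.2.2.1, hpp, hpm, hα, hΩ⟩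
  have HR : RH G T i α pp pm av := ⟨‹_›, ‹_›, ‹_›, ‹_›, ‹_›, hTm.2.2.1, hpp, hpm, h2, hF⟩
  have key : ∀ (Y : Over S) (z : Y ⟶ Red.Gm S),
      ((z ≫ av) ^ n) ≫ i = (HR.data Y).h (gmU z ^ n) := by
    intro Y z
    rw [HR.av_pt, HR.τ_pt, R1.h, map_zpow (HR.data Y).av, map_zpow]
  -- the quotient by the standard Weyl element lies in the torus
  let g₀ : 𝟙_ (Over S) ⟶ G := (HR.w₁ (𝟙_ (Over S)))⁻¹ * w
  obtain ⟨t₀, ht₀⟩ := (Groth.Agent.S8450.result S G T i hG hTm α hα pp pm hpp hpm hΩ av h2 hF n hn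
    (𝟙_ (Over S)) g₀).mp (fun X' y z => by
      rw [key]
      set D := HR.data X'
      have hw' := hw X' z
      rw [key, ← toUnit_unique y (toUnit X')] at hw'
      change (y ≫ w) * D.h (gmU z ^ n) * (y ≫ w)⁻¹ = (D.h (gmU z ^ n))⁻¹ at hw'
      show (y ≫ ((HR.w₁ _)⁻¹ * w)) * D.h (gmU z ^ n) = D.h (gmU z ^ n) * (y ≫ ((HR.w₁ _)⁻¹ * w))
      rw [MonObj.comp_mul, GrpObj.comp_inv, HR.comp_w₁]
      have h1 : D.h (gmU z ^ n) * (D.w 1)⁻¹ = (D.w 1)⁻¹ * (D.h (gmU z ^ n))⁻¹ := by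
        rw [← D.w_h 1 (gmU z ^ n)]
        group
      show ((D.w 1)⁻¹ * (y ≫ w)) * D.h (gmU z ^ n) = D.h (gmU z ^ n) * ((D.w 1)⁻¹ * (y ≫ w))
      rw [← _root_.mul_assoc (D.h _), h1, _root_.mul_assoc ((D.w 1)⁻¹), _root_.mul_assoc ((D.w 1)⁻¹),
        ← hw']
      group)
  have hw₀ : ∀ X : Over S, toUnit X ≫ w = HR.w₁ X * ((toUnit X ≫ t₀) ≫ i) := by
    intro X
    rw [show w = HR.w₁ (𝟙_ (Over S)) * (t₀ ≫ i) by rw [ht₀]; exact (mul_inv_cancel_left _ _).symm,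
      MonObj.comp_mul, HR.comp_w₁, Category.assoc]
  refine ⟨fun X t => ?_, fun s ⟨t, ht⟩ => ?_⟩
  · rw [hw₀]
    set D := HR.data X
    have ha : (t ≫ α ≫ av ≫ i)⁻¹ * (t ≫ i) = (D.h (D.a t))⁻¹ * D.τ t := by
      rw [← Category.assoc, HR.h_pt]
      rfl
    rw [ha, ← D.w_conj 1 t, _root_.mul_inv_rev]
    show D.w 1 * D.τ (toUnit X ≫ t₀) * D.τ t * ((D.τ (toUnit X ≫ t₀))⁻¹ * (D.w 1)⁻¹) =
      D.w 1 * D.τ t * (D.w 1)⁻¹
    rw [_root_.mul_assoc (D.w 1) (D.τ _) (D.τ t), ← map_mul, D.comm, map_mul]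
    group
  · let W : Over S := Over.mk (Red.geomPt s)
    let e : AlgebraicClosure (S.residueField s) ≃+* Γ(W.left, ⊤) :=
      (Scheme.ΓSpecIso (CommRingCat.of (AlgebraicClosure (S.residueField s)))).commRingCatIsoToRingEquiv.symm
    obtain ⟨u, hu⟩ := exists_unit_pow_ne_one (X := W) e (m := n + n + (n + n)) (by omega)
    have hw' := hw W (gmPt u)
    rw [key, show gmU (gmPt (S := S) u) = u from Units.ext (gmFn_gmPt u)] at hw'
    set D := HR.data W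
    replace hw' : D.τ t * D.h (u ^ n) * (D.τ t)⁻¹ = (D.h (u ^ n))⁻¹ := by
      rw [← hw', ← ht]
      rfl
    rw [R1.h, ← map_inv, ← map_inv, ← map_mul, ← map_mul] at hw'
    have h1 : t * D.av (u ^ n) * t⁻¹ = (D.av (u ^ n))⁻¹ := by
      have := (inferInstance : Mono i)
      exact (cancel_mono i).mp hw'
    rw [D.comm t, mul_inv_cancel_right] at h1
    have h4 := congrArg D.a h1
    rw [map_inv, D.a_av] at h4
    apply hu
    rw [zpow_add, zpow_add]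
    exact mul_eq_one_iff_eq_inv.mpr h4

end Groth.Agent.S8487
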