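import Groth.Statements.S8489
import Groth.Agent.RedPts82.BigCell
-- import your own Groth.Agent.* helpers here

set_option autoImplicit false
universe u
open CategoryTheory MonoidalCategory CartesianMonoidalCategory MonObj GrpObj AlgebraicGeometry CategoryTheory.Limits
open Red
open Groth.Agent.RedPts82

namespace Groth.Agent.S8489

/-- At the level of root homomorphisms. Let G be a reductive S-group, i : T ⟶ G a maximal torus, α a
character of T non-trivial on every geometric fibre, and p₊, p₋ : 𝔾_a ⟶ G monomorphisms of groups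
normalised by T with multipliers α and α⁻¹ such that 𝔾_a ×_S T ×_S 𝔾_a ⟶ G, (y, t, x) ↦ p₋(y) i(t)
p₊(x), is an open immersion (a rank-one system: G has semisimple rank 1 and p₊, p₋ trivialise the
root groups of α and -α). Then every monomorphism of groups p : 𝔾_a ⟶ G normalised by T with
multiplier α is a rescaling of p₊ by a unit: there is exactly one S-point c of 𝔾_m with p(x) = p₊(c
x) for all points x of 𝔾_a. (The published statement is a bijection between the nowhere-vanishing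
sections of the root line bundle and such monomorphisms; this row states it after fixing p₊.) -/
theorem result (S : Scheme.{u}) (G T : Over S) [GrpObj G] [GrpObj T] (i : T ⟶ G) [IsMonHom i] [Mono i] (hG : Red.IsReductive G) (hTm : Red.IsMaximalTorus i)
    (α : T ⟶ Red.Gm S) [IsMonHom α] (hα : ∀ s : S, (Over.pullback (Red.geomPt s)).map α ≠ 1)
    (pp pm : Red.Ga S ⟶ G) [IsMonHom pp] [Mono pp] [IsMonHom pm] [Mono pm]
    (hpp : ∀ (X : Over S) (t : X ⟶ T) (x : X ⟶ Red.Ga S), ∃ x' : X ⟶ Red.Ga S,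
      x' ≫ pp = (t ≫ i) * (x ≫ pp) * (t ≫ i)⁻¹ ∧ Red.gaFn x' = Red.gmFn (t ≫ α) * Red.gaFn x)
    (hpm : ∀ (X : Over S) (t : X ⟶ T) (y : X ⟶ Red.Ga S), ∃ y' : X ⟶ Red.Ga S,
      y' ≫ pm = (t ≫ i) * (y ≫ pm) * (t ≫ i)⁻¹ ∧ Red.gaFn y' * Red.gmFn (t ≫ α) = Red.gaFn y)
    (hΩ : IsOpenImmersion (((pm ⊗ₘ i) ⊗ₘ pp) ≫ (μ[G] ▷ G) ≫ μ[G]).left)
    (p : Red.Ga S ⟶ G) [IsMonHom p] [Mono p]
    (hp : ∀ (X : Over S) (t : X ⟶ T) (x : X ⟶ Red.Ga S), ∃ x' : X ⟶ Red.Ga S,
      x' ≫ p = (t ≫ i) * (x ≫ p) * (t ≫ i)⁻¹ ∧ Red.gaFn x' = Red.gmFn (t ≫ α) * Red.gaFn x) :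
    ∃! c : 𝟙_ (Over S) ⟶ Red.Gm S, ∀ (X : Over S) (x y : X ⟶ Red.Ga S),
      Red.gaFn y = Red.gmFn (toUnit X ≫ c) * Red.gaFn x → x ≫ p = y ≫ pp := by
  have H : BC G T i α pp pm := ⟨‹_›, ‹_›, ‹_›, ‹_›, hTm.2.2.1, hpp, hpm, hα, hΩ⟩
  have h1 : ∀ X : Over S, gaPt (X := X) 0 = (1 : X ⟶ Red.Ga S) := fun X =>
    gaFn_injective (by rw [gaFn_gaPt, gaFn_one])
  have hscale : ∀ (X : Over S) (t : X ⟶ T) (x x' : X ⟶ Red.Ga S),
      Red.gaFn x' = Red.gmFn (t ≫ α) * Red.gaFn x → x' ≫ p = (t ≫ i) * (x ≫ p) * (t ≫ i)⁻¹ := by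
    intro X t x x' hx
    obtain ⟨x'', h, h'⟩ := hp X t x
    rw [gaFn_injective (h'.trans hx.symm)] at h
    exact h
  have hin : InCell i pp pm p := H.inCell_of_scaling p
    (fun X => by
      have h := inCell_mk i pp pm (1 : X ⟶ Red.Ga S) 1 1
      rw [MonObj.one_comp pm, MonObj.one_comp i, MonObj.one_comp pp, _root_.one_mul, _root_.one_mul] at h
      rw [h1, MonObj.one_comp p]
      exact h)
    (fun X t x x' hx h => by rw [hscale X t x x' hx]; exact H.inCell_conj t h)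
  obtain ⟨ψy, τ, ψx, hdec⟩ := H.exists_of_inCell hin
  have hdec' : ∀ (X : Over S) (x : X ⟶ Red.Ga S),
      x ≫ p = ((x ≫ ψy) ≫ pm) * ((x ≫ τ) ≫ i) * ((x ≫ ψx) ≫ pp) := fun X x => by
    conv_lhs => rw [hdec]
    rw [MonObj.comp_mul, MonObj.comp_mul]
    simp only [Category.assoc]
  have hequi : ∀ (X : Over S) (t : X ⟶ T) (x x' : X ⟶ Red.Ga S),
      Red.gaFn x' = Red.gmFn (t ≫ α) * Red.gaFn x →
        Red.gaFn (x' ≫ ψy) * Red.gmFn (t ≫ α) = Red.gaFn (x ≫ ψy) ∧ x' ≫ τ = x ≫ τ ∧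
          Red.gaFn (x' ≫ ψx) = Red.gmFn (t ≫ α) * Red.gaFn (x ≫ ψx) := by
    intro X t x x' hx
    obtain ⟨y', z', hy', hz', e⟩ := H.conj_cell t (x ≫ τ) (x ≫ ψy) (x ≫ ψx)
    rw [← hdec' X x, ← hscale X t x x' hx, hdec' X x'] at e
    obtain ⟨ey, et, ex⟩ := H.inj e
    exact ⟨by rw [ey, hy'], et, by rw [ex, hz']⟩
  have hy0 : ψy = 1 := H.zero_of_weight_neg_one ψy fun X t x x' hx => (hequi X t x x' hx).1
  have hτ : ∀ (X : Over S) (x : X ⟶ Red.Ga S), x ≫ τ = 1 := by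
    intro X x
    rw [H.const_of_weight_zero τ (fun X t x x' hx => (hequi X t x x' hx).2.1) x, h1]
    have e := hdec' X 1
    rw [MonObj.one_comp p] at e
    have e1 : (1 : X ⟶ G) = ((1 : X ⟶ Red.Ga S) ≫ pm) * ((1 : X ⟶ T) ≫ i) *
        ((1 : X ⟶ Red.Ga S) ≫ pp) := by
      rw [MonObj.one_comp pm, MonObj.one_comp i, MonObj.one_comp pp, _root_.one_mul, _root_.one_mul]
    exact (H.inj (e1.symm.trans e)).2.1.symm
  have hlin : ∀ (X : Over S) (x : X ⟶ Red.Ga S),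
      Red.gaFn (x ≫ ψx) = Red.gaFn (gaPt (X := X) 1 ≫ ψx) * Red.gaFn x :=
    fun X x => H.linear_of_weight_one ψx (fun X t x x' hx => (hequi X t x x' hx).2.2) x
  have hp' : ∀ (X : Over S) (x : X ⟶ Red.Ga S), x ≫ p = (x ≫ ψx) ≫ pp := fun X x => by
    rw [hdec', hy0, hτ, MonObj.comp_one, MonObj.one_comp pm, MonObj.one_comp i, _root_.one_mul,
      _root_.one_mul]
  let c₀ : Γ(S, ⊤) := Red.gaFn (gaPt (X := 𝟙_ (Over S)) 1 ≫ ψx)
  have hc₀ : ∀ X : Over S, Red.gaFn (gaPt (X := X) 1 ≫ ψx) = (toUnit X).left.appTop c₀ := by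
    intro X
    have e : toUnit X ≫ gaPt (X := 𝟙_ (Over S)) 1 = gaPt (X := X) 1 :=
      gaFn_injective (by rw [gaFn_comp, gaFn_gaPt, gaFn_gaPt, map_one])
    rw [← e, Category.assoc, gaFn_comp]
  have hc : IsUnit c₀ := by
    refine RingedSpace.isUnit_of_isUnit_germ S.toLocallyRingedSpace.toRingedSpace ⊤ c₀ fun s _ => ?_
    by_contra hs
    let W : Over S := Over.mk (S.fromSpecResidueField s)
    have hz : (toUnit W).left.appTop c₀ = 0 := by
      have hempty : (toUnit W).left ⁻¹ᵁ S.basicOpen c₀ = ⊥ := by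
        rw [eq_bot_iff]
        intro q hq
        have hq' : S.fromSpecResidueField s q ∈ S.basicOpen c₀ := hq
        rw [Scheme.fromSpecResidueField_apply, Scheme.mem_basicOpen_top] at hq'
        exact absurd hq' hs
      have hempty' : W.left.basicOpen ((toUnit W).left.appTop c₀) = ⊥ :=
        (Scheme.preimage_basicOpen_top (X := W.left) (Y := (𝟙_ (Over S)).left) (toUnit W).left c₀).symm.trans hempty
      have : IsReduced W.left := inferInstanceAs (IsReduced (Spec (S.residueField s)))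
      exact (basicOpen_eq_bot_iff _).mp hempty'
    have e : gaPt (X := W) 1 ≫ p = (1 : W ⟶ Red.Ga S) ≫ p := by
      rw [hp', hp']
      congr 1
      apply gaFn_injective
      rw [hlin W 1, hlin W (gaPt 1), hc₀, hz, zero_mul, zero_mul]
    have e' := congrArg (fun k => Red.gaFn k) ((cancel_mono p).mp e)
    simp only [gaFn_gaPt, gaFn_one] at e'
    have : Nontrivial Γ(W.left, ⊤) :=
      (Scheme.ΓSpecIso (S.residueField s)).commRingCatIsoToRingEquiv.nontrivial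
    exact one_ne_zero e'
  obtain ⟨c, hcval⟩ := gmFn_surjective (S := S) (X := 𝟙_ (Over S)) hc
  refine ⟨c, fun X x y hy => ?_, fun c' hc' => ?_⟩
  · rw [hp']
    congr 1
    apply gaFn_injective
    rw [hy, hlin, hc₀, gmFn_comp, hcval]
  · apply gmFn_injective
    have e := hc' (𝟙_ (Over S)) (gaPt 1) (gaPt (Red.gmFn c')) (by
      rw [gaFn_gaPt, gaFn_gaPt, toUnit_unique (toUnit _) (𝟙 _), Category.id_comp, _root_.mul_one])
    rw [hp'] at e
    have e' := congrArg (fun k => Red.gaFn k) ((cancel_mono pp).mp e)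
    simp only [gaFn_gaPt] at e'
    rw [← e', hcval]

end Groth.Agent.S8489
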