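import Groth.Statements.S8508
import Groth.Agent.RedPts26.HighRoot

set_option autoImplicit false
open CategoryTheory MonoidalCategory CartesianMonoidalCategory MonObj GrpObj AlgebraicGeometry
universe u
open RedSub

namespace Groth.Agent.S8508

/-- The unipotent part of the Borel subgroup of a pinned group is generated by the simple root
subgroups. Let G be a split reductive S-group with a pinning D (root homomorphisms u_a, base of
simple roots D.base) and H a subgroup scheme of G. If the root homomorphism u_a factors through H
for every simple root a, then u_b factors through H for every root b which is positive for the base.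
(The published statement is about the sub-sheaf of groups generated for the fppf topology; this row
is its consequence for subgroup schemes.) -/
theorem result {S : Scheme.{u}} {G H : Over S} [GrpObj G] [GrpObj H]
    (D : Red.Pinning G) (h : H ⟶ G) [IsMonHom h] [Mono h]
    (hsimple : ∀ a ∈ D.base.support, ∃ v : Red.Ga S ⟶ H, v ≫ h = D.u a) :
    ∀ b ∈ RedSub.posRoots D.P D.base, ∃ v : Red.Ga S ⟶ H, v ≫ h = D.u b := by
  exact fun b hb => Groth.Agent.RedPts26.rootMem_posRoots D.toSplitRed D.base hsimple hb

end Groth.Agent.S8508
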