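import Groth.Statements.S8509
import Groth.Agent.Unr55.DescProps
import Groth.Agent.SpPts86.SmoothSection
import Groth.Agent.Desc59.HensSplit
import Groth.Agent.AlgSt88.UnrLqf

set_option autoImplicit false
open CategoryTheory MonoidalCategory CartesianMonoidalCategory MonObj GrpObj AlgebraicGeometry
universe u
open RedSub

namespace Groth.Agent.S8509

/-- Let A be a henselian local ring, S = Spec A, and G an S-group scheme which is smooth and affine over
S. Then every torsor P under G (a representable principal homogeneous bundle) is isotrivial: there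
is a finite etale surjective morphism S' ⟶ S such that P_{S'} has a section. (The published
statement asks only that every finite set of points of G lie in an affine open; this row takes G
affine over S.) -/
theorem result (A : Type u) [CommRing A] [HenselianLocalRing A]
    {G P : Over (Spec (CommRingCat.of A))} [GrpObj G] [Smooth G.hom] [IsAffineHom G.hom] (a : AlgGrp.Action G P)
    (ha : RedSub.IsTorsor a) :
    ∃ (S' : Scheme.{u}) (f : S' ⟶ Spec (CommRingCat.of A)), IsFinite f ∧ Etale f ∧ Surjective f ∧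
      RedSub.HasSection (Red.bc f P) := by
  obtain ⟨h1, h2, h3, hiso⟩ := ha
  haveI : IsIso (lift a.act (snd G P)).left :=
    inferInstanceAs (IsIso ((Over.forget _).map (lift a.act (snd G P))))
  have hsq : (lift a.act (snd G P)).left ≫ Limits.pullback.snd P.hom P.hom
      = Limits.pullback.snd G.hom P.hom :=
    congrArg CommaMorphism.left (lift_snd a.act (snd G P))
  have key : ∀ (Q : MorphismProperty Scheme.{u}) [Q.RespectsIso] [Q.IsStableUnderBaseChange]
      [Q.DescendsAlong (@Surjective ⊓ @Flat ⊓ @LocallyOfFinitePresentation)], Q G.hom → Q P.hom := by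
    intro Q _ _ _ hG
    refine MorphismProperty.of_pullback_snd_of_descendsAlong
      (Q := @Surjective ⊓ @Flat ⊓ @LocallyOfFinitePresentation) (g := P.hom) ⟨⟨h1, h2⟩, h3⟩ ?_
    rw [← Q.cancel_left_of_respectsIso (lift a.act (snd G P)).left (Limits.pullback.snd P.hom P.hom),
      hsq]
    exact Q.pullback_snd _ _ hG
  haveI : MorphismProperty.DescendsAlong @IsAffineHom
      (@Surjective ⊓ @Flat ⊓ @QuasiCompact) := Unr55.isAffineHom
  haveI hPs : Smooth P.hom := key @Smooth ‹_›
  obtain ⟨x, hx⟩ := h1.surj (IsLocalRing.closedPoint A)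
  obtain ⟨S', g, s', hg, hgs, h, hh⟩ := SpPts86.exists_etale_section P.hom x
  haveI := hg
  obtain ⟨U, hU, hsU, -⟩ := exists_isAffineOpen_mem_and_subset (U := (⊤ : S'.Opens)) (x := s') trivial
  haveI : IsAffine (U : Scheme.{u}) := hU
  haveI : Etale (U.ι ≫ g) := inferInstance
  haveI : LocallyQuasiFinite (U.ι ≫ g) := (AlgSt88.unr_le_lqf (U.ι ≫ g) ⟨inferInstance, inferInstance⟩).1
  haveI : Etale (Limits.pullback.snd (U.ι ≫ g) (Spec.map (CommRingCat.ofHom
      (Ideal.Quotient.mk (IsLocalRing.maximalIdeal A))))) := inferInstance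
  letI := Ideal.Quotient.field (IsLocalRing.maximalIdeal A)
  have hfin : IsFinite (Limits.pullback.snd (U.ι ≫ g) (Spec.map (CommRingCat.ofHom
      (Ideal.Quotient.mk (IsLocalRing.maximalIdeal A))))) := IsFinite.of_locallyQuasiFinite _
  obtain ⟨W, -, hWfin, hW⟩ := Desc59.HensSplit.exists_split (IsLocalRing.maximalIdeal A)
    (U.ι ≫ g) hfin
  have hgc : (U.ι ≫ g).base (⟨s', hsU⟩ : U) = IsLocalRing.closedPoint A :=
    hgs.trans hx
  have hsW : (⟨s', hsU⟩ : (U : Scheme.{u})) ∈ W := by
    by_contra hn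
    exact hW _ hn (by rw [hgc]; exact le_refl _)
  haveI := hWfin
  have hop : IsOpen (Set.range (W.ι ≫ U.ι ≫ g).base) :=
    (W.ι ≫ U.ι ≫ g).isOpenMap.isOpen_range
  refine ⟨_, W.ι ≫ U.ι ≫ g, hWfin, inferInstance, ⟨fun y => ?_⟩, ⟨Over.homMk
    (Limits.pullback.lift (W.ι ≫ U.ι ≫ h) (𝟙 _) (by simp [hh])) (Limits.pullback.lift_snd _ _ _)⟩⟩
  exact (IsLocalRing.specializes_closedPoint y).mem_open hop ⟨⟨⟨s', hsU⟩, hsW⟩, hgc⟩

end Groth.Agent.S8509
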