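import Groth.Statements.S8517
import Groth.Agent.RedPts82.RootLength

set_option autoImplicit false
open CategoryTheory MonoidalCategory CartesianMonoidalCategory MonObj GrpObj AlgebraicGeometry
universe u
open RedSub

open Groth.Agent Groth.Agent.RedPts82

namespace Groth.Agent.S8517

/-- Let R be the set of roots of a root pairing over ℤ with finitely many roots, and R₁, R₂ two closed
subsets of R (if a, b ∈ Rᵢ and root a + root b is a root c then c ∈ Rᵢ), each containing a system of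
positive roots (the positive roots of some base). If R₁ ∪ R₂ = R, then R₁ ∩ (−R₂) (the roots of R₁
whose negative is a root in R₂) contains a system of positive roots. -/
theorem result {idx M N : Type} [Finite idx] [AddCommGroup M] [AddCommGroup N] (P : RootPairing idx ℤ M N) (R₁ R₂ : Set idx)
    (h₁ : ∀ a b c : idx, a ∈ R₁ → b ∈ R₁ → P.root a + P.root b = P.root c → c ∈ R₁)
    (h₂ : ∀ a b c : idx, a ∈ R₂ → b ∈ R₂ → P.root a + P.root b = P.root c → c ∈ R₂)
    (hb₁ : ∃ b : P.Base, RedSub.posRoots P b ⊆ R₁) (hb₂ : ∃ b : P.Base, RedSub.posRoots P b ⊆ R₂)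
    (hunion : R₁ ∪ R₂ = Set.univ) :
    ∃ b : P.Base, RedSub.posRoots P b ⊆ {a | a ∈ R₁ ∧ ∃ c ∈ R₂, P.root a = -P.root c} := by
  have : Fintype idx := Fintype.ofFinite idx
  obtain ⟨b₁, hb₁⟩ := hb₁
  obtain ⟨b₂, hb₂⟩ := hb₂
  let R₃ : Set idx := {a | a ∈ R₁ ∧ ∃ c ∈ R₂, P.root a = -P.root c}
  have hmem : ∀ a, a ∈ R₁ → Roots36.neg P a ∈ R₂ → a ∈ R₃ := fun a h h' =>
    ⟨h, _, h', by rw [Roots36.root_neg, neg_neg]⟩
  have hcov : ∀ i, i ∈ R₃ ∨ Roots36.neg P i ∈ R₃ := by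
    intro a
    have hn : Roots36.neg P (Roots36.neg P a) = a := by
      apply P.root.injective
      rw [Roots36.root_neg, Roots36.root_neg, neg_neg]
    have c₁ := (Roots36.posOf_or_neg (Roots36.base_isSimpleSys b₁) a).imp (@hb₁ _) (@hb₁ _)
    have c₂ := (Roots36.posOf_or_neg (Roots36.base_isSimpleSys b₂) a).imp (@hb₂ _) (@hb₂ _)
    have u₁ : a ∈ R₁ ∨ a ∈ R₂ := Set.eq_univ_iff_forall.mp hunion a
    have u₂ : Roots36.neg P a ∈ R₁ ∨ Roots36.neg P a ∈ R₂ := Set.eq_univ_iff_forall.mp hunion _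
    have k₁ := hmem a
    have k₂ := hmem (Roots36.neg P a)
    rw [hn] at k₂
    tauto
  have hcl : RootD.IsClosedSub P R₃ := by
    rintro i j k ⟨hi, ci, hci, ei⟩ ⟨hj, cj, hcj, ej⟩ h
    refine hmem k (h₁ i j k hi hj h.symm) (h₂ ci cj _ hci hcj ?_)
    rw [Roots36.root_neg, h, ei, ej, neg_add, neg_neg, neg_neg]
  obtain ⟨g, -, hg⟩ := Roots36.exists_smul_posOf_subset (Roots36.base_isSimpleSys b₁) hcl hcov
  refine ⟨baseMap g b₁, ?_⟩
  rw [posRoots_baseMap]
  exact hg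

end Groth.Agent.S8517
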