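import Groth.Statements.S8532
import Groth.Agent.EtTrace93.Trace
import Groth.Agent.EtTor93.Basic
import Groth.Agent.EtCore45.ExtAdjoint
-- import your own Groth.Agent.* helpers here

set_option autoImplicit false
universe u
open CategoryTheory CategoryTheory.Limits AlgebraicGeometry Opposite
open EtAcyc

namespace Groth.Agent.S8532

/-- Let f : X' → X be finite etale of constant degree d (every geometric fibre has exactly d points), L
a set of primes such that no prime in L divides d, F an abelian L-torsion sheaf on the small etale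
site of X, and q a natural number. If H^q(X', f⁻¹F) = 0, then H^q(X, F) = 0. -/
theorem result {X X' : Scheme.{u}} (f : X' ⟶ X) [IsFinite f] [Etale f]
    (d : ℕ) (hd : ∀ (Ω : Type u) [Field Ω] [IsSepClosed Ω] (ξ : Spec (CommRingCat.of Ω) ⟶ X),
      Nat.card ↥(pullback f ξ) = d)
    (L : Set ℕ) (hL : ∀ p : ℕ, p.Prime → p ∈ L → ¬ p ∣ d) (F : EtCoh.Ab X) (hF : EtAcyc.IsLTorsion L F)
    [PreservesFiniteLimits (EtCoh.pull f)] (q : ℕ)
    (h : Subsingleton (EtCoh.H X' ((EtCoh.pull f).obj F) q)) :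
    Subsingleton (EtCoh.H X F q) := by
  have : Subsingleton (EtCoh.H X ((EtCoh.push f).obj ((EtCoh.pull f).obj F)) q) := by
    have hb := Groth.Agent.EtCore45.adjTransfer_bijective.{u + 1} (EtCoh.pullPushAdj f)
      (EtCore.pullConst f ℤ).inv q ((EtCoh.pull f).obj F)
      (fun p hp => Groth.Agent.Unr55.EtSh.isZero_Rpush_of_finite f _ p hp)
    exact hb.1.subsingleton
  obtain ⟨τ, hτ⟩ := Groth.Agent.EtTrace93.exists_trace f d (fun Ω _ _ ξ =>
    (Groth.Agent.EtTrace93.card_above f ξ).trans (hd Ω ξ)) F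
  have hiso : IsIso (d • 𝟙 F) := by
    refine Groth.Agent.EtCore45.isIso_of_stalks_algClosed _ fun K _ _ η => ?_
    have hid : (EtCoh.stalk η).map (d • 𝟙 F) = d • 𝟙 ((EtCoh.stalk η).obj F) :=
      (Functor.map_nsmul (EtCoh.stalk η)).trans (congrArg (d • ·) ((EtCoh.stalk η).map_id F))
    have hmul : ∀ t : ((EtCoh.stalk η).obj F : AddCommGrpCat.{u + 1}), (EtCoh.stalk η).map (d • 𝟙 F) t = d • t :=
      fun t => ConcreteCategory.congr_hom hid t
    have hbez : ∀ t : ((EtCoh.stalk η).obj F : AddCommGrpCat.{u + 1}), ∃ a : ℤ, (a * d) • t = t := fun t => by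
      obtain ⟨m, hm, hmt⟩ := Groth.Agent.EtTor93.stalk_torsion hF η t
      have hcop : Nat.Coprime d m := Nat.coprime_of_dvd fun p hp hpd hpm => hL p hp (hm.2 p hp hpm) hpd
      refine ⟨Nat.gcdA d m, ?_⟩
      have h1 : (1 : ℤ) = d * Nat.gcdA d m + m * Nat.gcdB d m := by
        rw [← Nat.gcd_eq_gcd_ab, hcop, Nat.cast_one]
      have h2 : ((m : ℤ) * Nat.gcdB d m) • t = 0 := by
        rw [mul_comm, mul_smul, natCast_zsmul, hmt, smul_zero]
      calc (Nat.gcdA d m * (d : ℤ)) • t = ((d : ℤ) * Nat.gcdA d m) • t + ((m : ℤ) * Nat.gcdB d m) • t := by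
            rw [h2, add_zero, mul_comm]
        _ = t := by rw [← add_smul, ← h1, one_smul]
    refine ⟨fun s t hst => ?_, fun t => ?_⟩
    · rw [hmul, hmul, ← sub_eq_zero, ← smul_sub] at hst
      obtain ⟨a, ha⟩ := hbez (s - t)
      rw [← sub_eq_zero, ← ha, mul_smul, natCast_zsmul, hst, smul_zero]
    · obtain ⟨a, ha⟩ := hbez t
      refine ⟨a • t, ?_⟩
      rw [hmul, ← natCast_zsmul, smul_smul, mul_comm, ha]
  refine subsingleton_of_forall_eq 0 fun e => ?_
  let w : EtCoh.H X ((EtCoh.push f).obj ((EtCoh.pull f).obj F)) q :=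
    Abelian.Ext.comp e (Abelian.Ext.mk₀ ((EtCoh.pullPushAdj f).unit.app F)) (add_zero q)
  have h0 : Abelian.Ext.comp e (Abelian.Ext.mk₀ (d • 𝟙 F)) (add_zero q) = 0 := by
    rw [← hτ]
    refine (congrArg (fun z => Abelian.Ext.comp e z (add_zero q)) (Abelian.Ext.mk₀_comp_mk₀ _ _).symm).trans ?_
    refine (Abelian.Ext.comp_assoc_of_second_deg_zero _ _ _ _).symm.trans ?_
    exact (congrArg (fun z => Abelian.Ext.comp z (Abelian.Ext.mk₀ τ) (add_zero q))
      (Subsingleton.elim w 0)).trans (Abelian.Ext.zero_comp _ _ _ _ _)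
  have h1 : Abelian.Ext.comp (Abelian.Ext.comp e (Abelian.Ext.mk₀ (d • 𝟙 F)) (add_zero q))
      (Abelian.Ext.mk₀ (inv (d • 𝟙 F))) (add_zero q) = 0 := by
    rw [h0, Abelian.Ext.zero_comp]
  rw [Abelian.Ext.comp_assoc_of_second_deg_zero, Abelian.Ext.mk₀_comp_mk₀, IsIso.hom_inv_id,
    Abelian.Ext.comp_mk₀_id] at h1
  exact h1

end Groth.Agent.S8532
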