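import Groth.Statements.S8539
import Groth.Agent.EtCd93.StrictClosed
-- import your own Groth.Agent.* helpers here

set_option autoImplicit false
universe u
open CategoryTheory CategoryTheory.Limits AlgebraicGeometry Opposite
open EtCd

namespace Groth.Agent.S8539

/-- Let X be a scheme of finite type over a field k, x a point of X and A a strict henselization of the
local ring of X at x. Then there are a separably closed field k', a scheme X' of finite type over k'
and a closed point x' of X' such that A is (isomorphic to) a strict henselization of the local ring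
of X' at x': some local algebra structure over that local ring makes A a strict henselization of it. -/
theorem result (k : Type u) [Field k] {X : Scheme.{u}}
    (f : X ⟶ Spec (CommRingCat.of k)) [LocallyOfFiniteType f] [QuasiCompact f] (x : X)
    (A : Type u) [CommRing A] [IsLocalRing A] [Algebra (X.presheaf.stalk x) A]
    [IsLocalHom (algebraMap (X.presheaf.stalk x) A)] [Hensel.IsStrictHenselization (X.presheaf.stalk x) A] :
    ∃ (k' : Type u) (_ : Field k') (_ : IsSepClosed k') (X' : Scheme.{u}) (f' : X' ⟶ Spec (CommRingCat.of k'))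
      (_ : LocallyOfFiniteType f') (_ : QuasiCompact f') (x' : X') (_ : IsClosed ({x'} : Set X'))
      (_ : Algebra (X'.presheaf.stalk x') A) (_ : IsLocalHom (algebraMap (X'.presheaf.stalk x') A)),
      Hensel.IsStrictHenselization (X'.presheaf.stalk x') A := by
  obtain ⟨U, hU, hxU, -⟩ := exists_isAffineOpen_mem_and_subset (x := x) (U := (⊤ : X.Opens)) trivial
  let φ : CommRingCat.of k ⟶ Γ(X, U) := (Scheme.ΓSpecIso (CommRingCat.of k)).inv ≫ f.appLE ⊤ U le_top
  let _ : Algebra k Γ(X, U) := φ.hom.toAlgebra
  have h1 : (f.appLE ⊤ U le_top).hom.FiniteType :=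
    HasRingHomProperty.appLE @LocallyOfFiniteType f inferInstance ⟨⊤, isAffineOpen_top _⟩ ⟨U, hU⟩ le_top
  have hft : Algebra.FiniteType k Γ(X, U) := h1.comp
    (RingHom.FiniteType.of_surjective _ (ConcreteCategory.bijective_of_isIso (Scheme.ΓSpecIso (CommRingCat.of k)).inv).2)
  let _ := TopCat.Presheaf.algebra_section_stalk X.presheaf ⟨x, hxU⟩
  have := hU.isLocalization_stalk ⟨x, hxU⟩
  obtain ⟨k', _, hk', B', _, _, hB', n, hn, hmain⟩ :=
    Groth.Agent.EtCd93.exists_closed_model (k := k) Γ(X, U) (hU.primeIdealOf ⟨x, hxU⟩).asIdeal (X.presheaf.stalk x) A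
  let X' : Scheme.{u} := Spec (CommRingCat.of B')
  let f' : X' ⟶ Spec (CommRingCat.of k') := Spec.map (CommRingCat.ofHom (algebraMap k' B'))
  have : LocallyOfFiniteType f' :=
    (HasRingHomProperty.Spec_iff (P := @LocallyOfFiniteType)).mpr (RingHom.finiteType_algebraMap.mpr hB')
  let x' : X' := (⟨n, hn.isPrime⟩ : PrimeSpectrum B')
  let _ : Algebra B' (X'.presheaf.stalk x') := StructureSheaf.stalkAlgebra B' (⟨n, hn.isPrime⟩ : PrimeSpectrum B')
  have : IsLocalization.AtPrime (X'.presheaf.stalk x') n :=
    StructureSheaf.IsLocalization.to_stalk B' (⟨n, hn.isPrime⟩ : PrimeSpectrum B')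
  obtain ⟨a, ha, hsh⟩ := hmain (X'.presheaf.stalk x')
  exact ⟨k', inferInstance, hk', X', f', inferInstance, inferInstance, x',
    (PrimeSpectrum.isClosed_singleton_iff_isMaximal _).2 hn, a, ha, hsh⟩

end Groth.Agent.S8539
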