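import Groth.Statements.S8543
import Groth.Agent.EtCd93.StrictClosedDvr
-- import your own Groth.Agent.* helpers here

set_option autoImplicit false
universe u
open CategoryTheory CategoryTheory.Limits AlgebraicGeometry Opposite
open EtCd

namespace Groth.Agent.S8543

/-- Let R be a discrete valuation ring, X a scheme of finite type over Spec R, x a point of X over the
closed point of Spec R, and A a strict henselization of the local ring of X at x. Then there are a
strictly henselian discrete valuation ring R' (henselian, with separably closed residue field), a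
scheme X' of finite type over Spec R', a closed point x' of X' over the closed point of Spec R', and
a local algebra structure over the local ring of X' at x' for which A is a strict henselization of
that local ring. -/
theorem result (R : Type u) [CommRing R] [IsDomain R]
    [IsDiscreteValuationRing R] {X : Scheme.{u}} (f : X ⟶ Spec (CommRingCat.of R)) [LocallyOfFiniteType f]
    [QuasiCompact f] (x : X)
    (hx : f.base x = ((IsLocalRing.closedPoint R : PrimeSpectrum R) : ↥(Spec (CommRingCat.of R))))
    (A : Type u) [CommRing A] [IsLocalRing A] [Algebra (X.presheaf.stalk x) A]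
    [IsLocalHom (algebraMap (X.presheaf.stalk x) A)] [Hensel.IsStrictHenselization (X.presheaf.stalk x) A] :
    ∃ (R' : Type u) (_ : CommRing R') (_ : IsDomain R') (_ : IsDiscreteValuationRing R') (_ : HenselianLocalRing R')
      (_ : IsSepClosed (IsLocalRing.ResidueField R'))
      (X' : Scheme.{u}) (f' : X' ⟶ Spec (CommRingCat.of R')) (_ : LocallyOfFiniteType f') (_ : QuasiCompact f')
      (x' : X') (_ : IsClosed ({x'} : Set X'))
      (_ : f'.base x' = ((IsLocalRing.closedPoint R' : PrimeSpectrum R') : ↥(Spec (CommRingCat.of R'))))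
      (_ : Algebra (X'.presheaf.stalk x') A) (_ : IsLocalHom (algebraMap (X'.presheaf.stalk x') A)),
      Hensel.IsStrictHenselization (X'.presheaf.stalk x') A := by
  obtain ⟨U, hU, hxU, -⟩ := exists_isAffineOpen_mem_and_subset (x := x) (U := (⊤ : X.Opens)) trivial
  let φ : CommRingCat.of R ⟶ Γ(X, U) := (Scheme.ΓSpecIso (CommRingCat.of R)).inv ≫ f.appLE ⊤ U le_top
  let _ : Algebra R Γ(X, U) := φ.hom.toAlgebra
  have h1 : (f.appLE ⊤ U le_top).hom.FiniteType :=
    HasRingHomProperty.appLE @LocallyOfFiniteType f inferInstance ⟨⊤, isAffineOpen_top _⟩ ⟨U, hU⟩ le_top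
  have hft : Algebra.FiniteType R Γ(X, U) := h1.comp
    (RingHom.FiniteType.of_surjective _ (ConcreteCategory.bijective_of_isIso (Scheme.ΓSpecIso (CommRingCat.of R)).inv).2)
  have hsq : hU.fromSpec ≫ f = Spec.map φ := by
    rw [Spec.map_comp]
    have h2 := IsAffineOpen.SpecMap_appLE_fromSpec f (isAffineOpen_top _) hU (show U ≤ f ⁻¹ᵁ ⊤ from le_top)
    refine h2.symm.trans (congrArg (Spec.map (f.appLE ⊤ U le_top) ≫ ·) ?_)
    rw [IsAffineOpen.fromSpec_top, Scheme.isoSpec_Spec_inv]
  have hq : IsLocalRing.maximalIdeal R ≤ (hU.primeIdealOf ⟨x, hxU⟩).asIdeal.comap (algebraMap R Γ(X, U)) := by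
    have e : (Spec.map φ) (hU.primeIdealOf ⟨x, hxU⟩) = IsLocalRing.closedPoint R := by
      rw [← hsq]
      exact (congrArg f (hU.fromSpec_primeIdealOf ⟨x, hxU⟩)).trans hx
    exact (congrArg PrimeSpectrum.asIdeal e).ge
  let _ := TopCat.Presheaf.algebra_section_stalk X.presheaf ⟨x, hxU⟩
  have := hU.isLocalization_stalk ⟨x, hxU⟩
  obtain ⟨R', _, _, hdvr, hh, hs, B', _, _, hB', n, hn, hnc, hmain⟩ :=
    Groth.Agent.EtCd93.exists_closed_model_dvr Γ(X, U) (hU.primeIdealOf ⟨x, hxU⟩).asIdeal hq (X.presheaf.stalk x) A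
  let X' : Scheme.{u} := Spec (CommRingCat.of B')
  let f' : X' ⟶ Spec (CommRingCat.of R') := Spec.map (CommRingCat.ofHom (algebraMap R' B'))
  have : LocallyOfFiniteType f' :=
    (HasRingHomProperty.Spec_iff (P := @LocallyOfFiniteType)).mpr (RingHom.finiteType_algebraMap.mpr hB')
  let x' : X' := (⟨n, hn.isPrime⟩ : PrimeSpectrum B')
  let _ : Algebra B' (X'.presheaf.stalk x') := StructureSheaf.stalkAlgebra B' (⟨n, hn.isPrime⟩ : PrimeSpectrum B')
  have : IsLocalization.AtPrime (X'.presheaf.stalk x') n :=
    StructureSheaf.IsLocalization.to_stalk B' (⟨n, hn.isPrime⟩ : PrimeSpectrum B')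
  obtain ⟨a, ha, hsh⟩ := hmain (X'.presheaf.stalk x')
  exact ⟨R', inferInstance, inferInstance, hdvr, hh, hs, X', f', inferInstance, inferInstance, x',
    (PrimeSpectrum.isClosed_singleton_iff_isMaximal _).2 hn, PrimeSpectrum.ext hnc, a, ha, hsh⟩

end Groth.Agent.S8543
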