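import Groth.Statements.S8545
import Groth.Agent.EtCd93.StrictLocDim
-- import your own Groth.Agent.* helpers here

set_option autoImplicit false
universe u
open CategoryTheory CategoryTheory.Limits AlgebraicGeometry Opposite
open EtCd

namespace Groth.Agent.S8545

/-- Let f : X → Y be a morphism of schemes of finite type over a field k, x a point of X with image y,
y₀ a specialization of y in Y, R a strict henselization of the local ring of Y at y₀ with Y' = Spec
R → Y the strict localization and X' = X ×_Y Y' with projection f' : X' → Y', and let x' be a point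
of X' lying over x, with image y' in Y'. Writing δ(x') = dim closure(y') + trdeg(κ(x')/κ(y'))
(closure in Y' = Spec R, so dim closure(y') = dim R/p_{y'}) and d for the dimension of the closure
of a point in X or Y, one has δ(x') = d(x) - d(y₀); stated as δ(x') + d(y₀) = d(x). -/
theorem result (k : Type u) [Field k] {X Y : Scheme.{u}}
    (aX : X ⟶ Spec (CommRingCat.of k)) (aY : Y ⟶ Spec (CommRingCat.of k)) [LocallyOfFiniteType aX] [QuasiCompact aX]
    [LocallyOfFiniteType aY] [QuasiCompact aY] (f : X ⟶ Y) (w : f ≫ aY = aX) (x : X) (y₀ : Y) (hsp : f.base x ⤳ y₀)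
    (R : Type u) [CommRing R] [IsLocalRing R] [Algebra (Y.presheaf.stalk y₀) R]
    [IsLocalHom (algebraMap (Y.presheaf.stalk y₀) R)] [Hensel.IsStrictHenselization (Y.presheaf.stalk y₀) R]
    (x' : ↥(pullback f (Hens2.specOf Y y₀ R))) (hx' : (pullback.fst f (Hens2.specOf Y y₀ R)).base x' = x)
    (a b dx dy : ℕ)
    (ha : ringKrullDim (R ⧸ ((pullback.snd f (Hens2.specOf Y y₀ R)).base x').asIdeal) = a)
    (hb : letI := ((pullback.snd f (Hens2.specOf Y y₀ R)).residueFieldMap x').hom.toAlgebra;
      Algebra.trdeg ((Spec (CommRingCat.of R)).residueField ((pullback.snd f (Hens2.specOf Y y₀ R)).base x'))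
        ((pullback f (Hens2.specOf Y y₀ R)).residueField x') = b)
    (hdx : topologicalKrullDim ↥(closure ({x} : Set X)) = dx)
    (hdy : topologicalKrullDim ↥(closure ({y₀} : Set Y)) = dy) :
    a + b + dy = dx := by
  have : LocallyOfFiniteType (f ≫ aY) := by rw [w]; infer_instance
  have : LocallyOfFiniteType f := locallyOfFiniteType_of_comp f aY
  have : IsLocallyNoetherian Y := LocallyOfFiniteType.isLocallyNoetherian aY
  have hUC := EtCd93.isUniversallyCatenary_stalk aY y₀
  have : IsNoetherianRing (Y.presheaf.stalk y₀) := hUC.1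
  let g := Hens2.specOf Y y₀ R
  let q := pullback.snd f g
  have hxy : g (q x') = f x := by
    rw [← Scheme.Hom.comp_apply, ← pullback.condition, Scheme.Hom.comp_apply]
    exact congrArg f hx'
  have hbq : (E4O.fdeg q x' : Cardinal.{u}) = b := (Cyc90.trdeg_residueField_eq_fdeg q x').symm.trans hb
  have hb1 : E4O.fdeg q x' ≤ E4O.fdeg f x := by
    have := E4O.fdeg_le_of_isPullback (IsPullback.of_hasPullback f g) x'
    rwa [show pullback.fst f g x' = x from hx'] at this
  have hb2 : (E4O.fdeg f x : Cardinal.{u}) ≤ b := by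
    have h1 := SpPts86.resTrdeg_comp q g x'
    rw [EtCd93.resTrdeg_specOf, add_zero, SpPts86.resTrdeg_eq_fdeg q, hbq] at h1
    have h2 : Dual3.resTrdeg (q ≫ g) x' = Dual3.resTrdeg (pullback.fst f g ≫ f) x' := by
      rw [show q ≫ g = pullback.fst f g ≫ f from pullback.condition.symm]
    rw [← h1, h2, SpPts86.resTrdeg_comp, SpPts86.resTrdeg_eq_fdeg f,
      show pullback.fst f g x' = x from hx']
    exact le_add_self
  have hb' : b = E4O.fdeg f x :=
    le_antisymm ((Nat.cast_injective hbq).symm.trans_le hb1) (Nat.cast_le.1 hb2)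
  have hdxT : WC97.tdegN aX x = dx := by
    have := (WC97.topologicalKrullDim_closure aX x).symm.trans hdx
    exact_mod_cast this
  have hdyT : WC97.tdegN aY y₀ = dy := by
    have := (WC97.topologicalKrullDim_closure aY y₀).symm.trans hdy
    exact_mod_cast this
  have hadd := Var76.FibreBound.tdegN_eq_add f w x
  let z : Spec (Y.presheaf.stalk y₀) :=
    (Spec.map (CommRingCat.ofHom (algebraMap (Y.presheaf.stalk y₀) R))).base (q x')
  have hpr : ((q x' : PrimeSpectrum R)).asIdeal.IsPrime := (q x' : PrimeSpectrum R).2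
  have hza : ringKrullDim (Y.presheaf.stalk y₀ ⧸ (z : PrimeSpectrum _).asIdeal) = a :=
    (EtCd93.dim_quotient_strictHenselization hUC (q x' : PrimeSpectrum R).asIdeal).symm.trans ha
  have h3 := EtCd93.dim_stalk_quotient aY y₀ z a hza
  rw [show Y.fromSpecStalk y₀ z = f x from hxy] at h3
  omega

end Groth.Agent.S8545
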