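import Groth.Statements.S8546
import Groth.Agent.Cons51.Descent

set_option autoImplicit false
universe u
open CategoryTheory CategoryTheory.Limits AlgebraicGeometry Opposite
open EtPBC

namespace Groth.Agent.S8546

/-- Let f : X → Y be a surjective morphism locally of finite presentation and F an abelian sheaf on the
small etale site of Y. Then F is constructible if and only if f⁻¹F is constructible. (No
quasi-compactness hypothesis on X or Y.) -/
theorem result {X Y : Scheme.{u}} (f : X ⟶ Y) [Surjective f]
    [LocallyOfFinitePresentation f] (F : EtCoh.Ab Y) :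
    EtPBC.IsConstructible F ↔ EtPBC.IsConstructible ((EtCoh.pull f).obj F) := by
  refine ⟨fun h => Groth.Agent.Cons51.isConstructible_pull f h,
    fun h => Groth.Agent.Cons51.isConstructible_of_pull f (fun V hV => ?_) h⟩
  choose x hx using fun v : V => f.surjective v.1
  choose A hA hxA hAV using fun v : V => exists_isAffineOpen_mem_and_subset (X := X) (x := x v)
    (U := f ⁻¹ᵁ V) (show f (x v) ∈ V from (hx v).symm ▸ v.2)
  have hAV' : ∀ v, A v ≤ f ⁻¹ᵁ V := hAV
  have : IsAffine V.toScheme := hV
  have hb : ∀ v, Topology.IsConstructible (Set.range (f.resLE V (A v) (hAV' v))) := fun v => by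
    have : IsAffine (A v).toScheme := hA v
    have : QuasiCompact (f.resLE V (A v) (hAV' v)) := inferInstance
    have : LocallyOfFinitePresentation (f ∣_ V) :=
      MorphismProperty.of_isPullback (isPullback_morphismRestrict f V).flip inferInstance
    have : LocallyOfFinitePresentation (f.resLE V (A v) (hAV' v)) := by
      rw [Scheme.Hom.resLE]; infer_instance
    rw [← Set.image_univ]
    exact (f.resLE V (A v) (hAV' v)).isConstructible_image Topology.IsConstructible.univ
  have : SpectralSpace V.toScheme := { }
  obtain ⟨L, hL⟩ := (isCompact_univ (X := WithConstructibleTopology V.toScheme)).elim_finite_subcover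
    (fun v => WithTopology.ofTopology ⁻¹' Set.range (f.resLE V (A v) (hAV' v)))
    (fun v => WithConstructibleTopology.isOpen_iff.mpr
      (Groth.Agent.FlatMor66.isClopen_constructibleTopology_of_isConstructible (hb v)).1)
    (fun z _ => Set.mem_iUnion.2 ⟨WithTopology.ofTopology z, ⟨x _, hxA _⟩,
      V.ι.isOpenEmbedding.injective ((Scheme.Hom.comp_apply _ _ _).symm.trans
        ((congrArg (fun q : (A _).toScheme ⟶ Y => q ⟨x _, hxA _⟩) (Scheme.Hom.resLE_comp_ι f (hAV' _))).trans
          (hx (WithTopology.ofTopology z))))⟩)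
  have : ∀ v : L, IsAffine (A v.1).toScheme := fun v => hA _
  refine ⟨∐ fun v : L => (A v.1).toScheme, Limits.Sigma.desc fun v : L => (A v.1).ι,
    Limits.Sigma.desc fun v : L => f.resLE V (A v.1) (hAV' v.1), inferInstance, inferInstance,
    ⟨fun z => ?_⟩, Limits.Sigma.hom_ext _ _ fun v => ?_⟩
  · obtain ⟨v, hv, a, ha⟩ := Set.mem_iUnion₂.1 (hL (Set.mem_univ (WithTopology.toTopology _ z)))
    refine ⟨Limits.Sigma.ι (fun v : L => (A v.1).toScheme) ⟨v, hv⟩ a, ?_⟩
    rw [← Scheme.Hom.comp_apply, Limits.Sigma.ι_desc]
    exact ha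
  · simp [Scheme.Hom.resLE_comp_ι]

end Groth.Agent.S8546
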