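import Groth.Statements.S8554
import Groth.Agent.Bdry37.Flasque

set_option autoImplicit false
universe u
open CategoryTheory CategoryTheory.Limits AlgebraicGeometry Opposite
open NonAbH1

namespace Groth.Agent.S8554

/-- Every sheaf of groups F on the small etale site of a scheme X embeds into a sheaf of groups G with
vanishing first non-abelian cohomology on every etale X-scheme: there are G and a morphism u : F ⟶
G, injective on sections over every object of the site, such that for every etale X-scheme U every
torsor under the restriction of G to the induced site over U is trivial, i.e. H¹(U, G) is reduced to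
its base point. (The published statement adds that the first higher direct images of G along any
morphism of schemes then vanish as pointed sheaves; that clause follows from this one and is not
stated here.) -/
theorem result {X : Scheme.{u}}
    (F : Sheaf X.smallEtaleTopology GrpCat.{u + 1}) :
    ∃ (G : Sheaf X.smallEtaleTopology GrpCat.{u + 1}) (φ : F ⟶ G),
      (∀ U : X.Etaleᵒᵖ, Function.Injective (φ.hom.app U)) ∧
      ∀ (U : X.Etale) (P : NonAbH1.Torsor (G.over U)), P.IsTrivial := by
  let Φ : X → (X.smallEtaleTopology).Point := fun s => Scheme.pointSmallEtale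
    ((Scheme.SpecToEquivOfField (SeparableClosure (X.residueField s)) X).symm
      ⟨s, CommRingCat.ofHom (algebraMap (X.residueField s) _)⟩)
  have hΦ : ∀ (U : X.Etale) (R : Sieve U), (∀ (i : X) (x : (Φ i).fiber.obj U),
      ∃ (W : X.Etale) (k : W ⟶ U) (_ : R k) (w : (Φ i).fiber.obj W), (Φ i).fiber.map k w = x) →
      R ∈ X.smallEtaleTopology U := by
    intro U R hR
    have eX : X.smallEtaleTopology = (X.smallPretopology (P := EtCoh.etaleMP) (Q := EtCoh.etaleMP)).toGrothendieck :=
      Scheme.smallGrothendieckTopology_eq_toGrothendieck_smallPretopology X le_rfl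
    rw [eX]
    refine (Scheme.mem_toGrothendieck_smallPretopology U R).2 fun z => ?_
    have hs : ((Scheme.SpecToEquivOfField (SeparableClosure (X.residueField (U.hom z))) X).symm
      ⟨U.hom z, CommRingCat.ofHom (algebraMap (X.residueField (U.hom z)) _)⟩) default = U.hom z := by
      simp [Scheme.SpecToEquivOfField]
    obtain ⟨t, ht⟩ := Scheme.pointSmallEtaleFiberObjToPreimage_surjective _ hs U ⟨z, rfl⟩
    obtain ⟨W, k, hk, w, hw⟩ := hR (U.hom z) t
    refine ⟨W, k, (Scheme.pointSmallEtaleFiberObjToPreimage _ hs w).1, hk, inferInstance, ?_⟩
    have e := congrArg Subtype.val ht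
    rw [← hw] at e
    exact e
  obtain ⟨A, φ, hφ⟩ := Bdry37.exists_mono_skySheaf hΦ F
  exact ⟨Bdry37.skySheaf Φ A, φ, hφ, fun U P =>
    (Bdry37.nonempty_iso_trivial_iff P.isTorsor.1).mpr (Bdry37.hasSection_over Φ A U P.toGSheaf P.isTorsor)⟩

end Groth.Agent.S8554
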