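import Groth.Statements.S8567
import Groth.Agent.TopCoh49.Soft

set_option autoImplicit false
open CategoryTheory TopologicalSpace Opposite
universe u
open CohTop

namespace Groth.Agent.S8567

/-- Let X be a topological space, K ⊆ X a compact subset such that any two distinct points of K have
disjoint neighbourhoods in X, and F a flasque abelian sheaf on X. Then the inverse image F|K of F on
the subspace K is a soft sheaf: for every closed subset A of K, every section of (F|K)|A over A is
the restriction of a section of F|K over K (the restriction map is the unit of the inverse image /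
direct image adjunction for the inclusion A → K, taken on global sections). -/
theorem result {X : TopCat.{u}} {K : Set X} (hK : IsCompact K)
    (hsep : ∀ x ∈ K, ∀ y ∈ K, x ≠ y → ∃ U V : Set X, IsOpen U ∧ IsOpen V ∧ x ∈ U ∧ y ∈ V ∧ Disjoint U V)
    (F : CohTop.Ab X) [TopCat.Sheaf.IsFlasque F] {A : Set K} (hA : IsClosed A) :
    Function.Surjective
      ((((TopCat.Sheaf.pullbackPushforwardAdjunction AddCommGrpCat.{u}
        (TopCat.ofHom ⟨((↑) : A → K), continuous_subtype_val⟩ : TopCat.of A ⟶ TopCat.of K)).unit.app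
        ((CohTop.pull (TopCat.ofHom ⟨((↑) : K → X), continuous_subtype_val⟩ : TopCat.of K ⟶ X)).obj F)).hom.app
        (op ⊤)).hom) := by
  let i : TopCat.of K ⟶ X := TopCat.ofHom ⟨((↑) : K → X), continuous_subtype_val⟩
  let j : TopCat.of A ⟶ TopCat.of K := TopCat.ofHom ⟨((↑) : A → K), continuous_subtype_val⟩
  have : CompactSpace K := isCompact_iff_compactSpace.1 hK
  have hsepX : Groth.Agent.TopCoh49.SepPts K := fun x hx y hy hxy => by
    obtain ⟨U, V, hU, hV, hxU, hyV, hd⟩ := hsep x hx y hy hxy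
    exact Filter.disjoint_of_disjoint_of_mem hd (hU.mem_nhds hxU) (hV.mem_nhds hyV)
  have hsepR : Groth.Agent.TopCoh49.SepPts (Set.range i) := fun x hx y hy =>
    hsepX x (Subtype.range_coe.le hx) y (Subtype.range_coe.le hy)
  have hsoft := Groth.Agent.TopCoh49.isSoft_pull i Topology.IsEmbedding.subtypeVal hsepR F
  have : CompactSpace A := isCompact_iff_compactSpace.1 hA.isCompact
  have hsepA : Groth.Agent.TopCoh49.SepPts (j '' Set.univ) := fun x _ y _ hxy =>
    (Filter.disjoint_comap (m := i) (hsepX _ x.2 _ y.2 fun e => hxy (Subtype.ext e))).mono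
      (Filter.map_le_iff_le_comap.1 i.hom.continuous.continuousAt)
      (Filter.map_le_iff_le_comap.1 i.hom.continuous.continuousAt)
  intro s
  obtain ⟨Ω, t, W', hW'Ω, hW'top, hKΩ, hKW', e⟩ := Groth.Agent.TopCoh49.exists_ext_near j
    Topology.IsEmbedding.subtypeVal isCompact_univ hsepA ((CohTop.pull i).obj F) (W := ⊤) (fun _ _ => trivial) s
  obtain ⟨T, W'', hW'', hKW'', eT⟩ := hsoft (j '' Set.univ) (isCompact_univ.image j.hom.continuous) Ω hKΩ t
  refine ⟨T, Groth.Agent.TopCoh49.eq_of_germ_eq ((CohTop.pull j).obj ((CohTop.pull i).obj F)) (U := (⊤ : Opens (TopCat.of A))) fun a ha => ?_⟩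
  have hW'a : a ∈ W' := hKW' trivial
  have hΩa : j a ∈ Ω := hKΩ ⟨a, trivial, rfl⟩
  have h1 : Groth.Agent.TopCoh49.germ _ (j a) (show j a ∈ (⊤ : Opens (TopCat.of K)) from trivial) T =
      Groth.Agent.TopCoh49.germ _ (j a) hΩa t :=
    ((Groth.Agent.TopCoh49.germ_rs _ le_top (j a) (hKW'' ⟨a, trivial, rfl⟩) T).symm.trans
      (congrArg _ eT)).trans (Groth.Agent.TopCoh49.germ_rs _ hW'' (j a) _ t)
  refine ((Groth.Agent.TopCoh49.germ_stalkUnit_apply j _ a ⊤ trivial T).symm.trans
    ((congrArg _ h1).trans (Groth.Agent.TopCoh49.germ_stalkUnit_apply j _ a Ω hΩa t))).trans ?_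
  exact ((Groth.Agent.TopCoh49.germ_rs _ hW'Ω a hW'a _).symm.trans (congrArg _ e)).trans
    (Groth.Agent.TopCoh49.germ_rs _ hW'top a hW'a s)

end Groth.Agent.S8567
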