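import Groth.Statements.S8586
import Groth.Agent.CAlg4.SopChain

set_option autoImplicit false
universe u
open CAlg

namespace Groth.Agent.S8586

/-- Suppose A is a Cohen–Macaulay local ring whose Krull dimension is d, and consider two systems of
parameters u = (u_1, ..., u_d) and v = (v_1, ..., v_d) of A (that is, d-tuples of elements of the
maximal ideal m such that the ideal they generate has radical m). Then one can find a finite
sequence w_0 = u, w_1, ..., w_m = v, each term a system of parameters of A, where w_{k+1} arises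
from w_k by altering just one coordinate. -/
theorem result (A : Type u) [CommRing A] [LocCoh.IsCohenMacaulayLocalRing A]
    (d : ℕ) (hd : ringKrullDim A = d) (u v : Fin d → A)
    (hu : ∀ i, u i ∈ IsLocalRing.maximalIdeal A) (hu' : IsLocalRing.maximalIdeal A ≤ (Ideal.span (Set.range u)).radical)
    (hv : ∀ i, v i ∈ IsLocalRing.maximalIdeal A) (hv' : IsLocalRing.maximalIdeal A ≤ (Ideal.span (Set.range v)).radical) :
    ∃ (m : ℕ) (w : Fin (m + 1) → Fin d → A), w 0 = u ∧ w (Fin.last m) = v ∧
      (∀ k : Fin (m + 1), (∀ i, w k i ∈ IsLocalRing.maximalIdeal A) ∧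
        IsLocalRing.maximalIdeal A ≤ (Ideal.span (Set.range (w k))).radical) ∧
      (∀ k : Fin m, ∃ i : Fin d, ∀ i' : Fin d, i' ≠ i → w k.castSucc i' = w k.succ i') := by
  have hchain : ∀ {a b : Fin d → A},
      Relation.ReflTransGen Groth.Agent.CAlg4.TopLength.SopStep a b →
      Groth.Agent.CAlg4.TopLength.IsSop a →
      ∃ (m : ℕ) (w : Fin (m + 1) → Fin d → A), w 0 = a ∧ w (Fin.last m) = b ∧
        (∀ k, Groth.Agent.CAlg4.TopLength.IsSop (w k)) ∧
        (∀ k : Fin m, ∃ i : Fin d, ∀ i' : Fin d, i' ≠ i → w k.castSucc i' = w k.succ i') := by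
    intro a b h ha
    induction h using Relation.ReflTransGen.head_induction_on with
    | refl => exact ⟨0, fun _ => b, rfl, rfl, fun _ => ha, fun k => k.elim0⟩
    | head hstep _ ih =>
      obtain ⟨-, hc, i, hi⟩ := hstep
      obtain ⟨m, w, h0, hl, hsop, hdiff⟩ := ih hc
      refine ⟨m + 1, Fin.cons _ w, Fin.cons_zero _ _, ?_, ?_, ?_⟩
      · rw [← Fin.succ_last, Fin.cons_succ, hl]
      · exact fun k => Fin.cases (by simpa using ha) (fun j => by simpa using hsop j) k
      · intro k
        refine Fin.cases ?_ (fun j => ?_) k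
        · exact ⟨i, fun i' hi' => by simpa [h0] using hi i' hi'⟩
        · simpa [Fin.castSucc_succ] using hdiff j
  obtain ⟨m, w, h0, hl, hsop, hdiff⟩ := hchain
    (Groth.Agent.CAlg4.TopLength.exists_sop_chain u v ⟨hu, hu'⟩ ⟨hv, hv'⟩) ⟨hu, hu'⟩
  exact ⟨m, w, h0, hl, hsop, hdiff⟩

end Groth.Agent.S8586
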