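import Groth.Statements.S8598


set_option autoImplicit false
set_option backward.isDefEq.respectTransparency.types false
universe u
open CategoryTheory CategoryTheory.Limits AlgebraicGeometry Opposite
open EtDl

namespace Groth.Agent.S8598

/-- Let u : X -> Y be an etale, separated morphism of finite type that is surjective, and F an abelian
sheaf on Y_et. The sheaves F_n = (u_n)_! u_n^* F built from the iterated fibre powers of X over Y
form a left resolution of F; in particular (the part stated here) the augmentation u_! u^* F -> F,
which is the counit of the adjunction between extension by zero u_! and restriction u^*, is an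
epimorphism. (The continuity of V ↦ (V -> X -> Y) between the small etale sites is carried as an
instance hypothesis, the prelude's convention for extension by zero along an etale morphism.) -/
theorem result {X Y : Scheme.{u}} (u : X ⟶ Y) [Etale u] [IsSeparated u]
    [LocallyOfFiniteType u] [QuasiCompact u] [Surjective u] [EtShriek.JCont u] (F : EtCoh.Ab Y) :
    Epi ((EtShriek.extZeroAdj u).counit.app F) := by
  have : (EtShriek.restrAlong u).Faithful := ⟨fun {G H} α β h => by
    refine Sheaf.hom_ext (NatTrans.ext (funext fun W => ?_))
    obtain ⟨W⟩ := W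
    let V : X.Etale := MorphismProperty.Over.mk ⊤ (pullback.snd W.hom u)
      (MorphismProperty.pullback_snd (P := EtCoh.etaleMP) _ _ W.prop)
    let g : (EtShriek.compEtale u).obj V ⟶ W :=
      MorphismProperty.Over.homMk (pullback.fst W.hom u) pullback.condition trivial
    have hS : Sieve.generate (Presieve.singleton g) ∈ Y.smallEtaleTopology W := by
      rw [show Y.smallEtaleTopology = (Y.smallPretopology (P := EtCoh.etaleMP) (Q := EtCoh.etaleMP)).toGrothendieck
        from Scheme.smallGrothendieckTopology_eq_toGrothendieck_smallPretopology Y le_rfl]
      refine (Scheme.mem_toGrothendieck_smallPretopology W _).2 fun x => ?_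
      have : Surjective (pullback.fst W.hom u) := MorphismProperty.pullback_fst (P := @Surjective) _ _ ‹_›
      obtain ⟨y, hy⟩ := (pullback.fst W.hom u).surjective x
      exact ⟨_, g, y, Sieve.le_generate _ _ _ ⟨⟩,
        MorphismProperty.pullback_fst (P := EtCoh.etaleMP) W.hom u ‹Etale u›, hy⟩
    refine H.property.hom_ext ⟨_, hS⟩ _ _ fun ⟨Z, f, hf⟩ => ?_
    obtain ⟨_, b, _, ⟨⟩, rfl⟩ := hf
    have e := congrArg (fun m => m.hom.app (op V)) h
    have e2 : α.hom.app (op W) ≫ H.obj.map g.op = β.hom.app (op W) ≫ H.obj.map g.op := by
      rw [← α.hom.naturality, ← β.hom.naturality]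
      exact congrArg (G.obj.map g.op ≫ ·) e
    change α.hom.app _ ≫ H.obj.map (b ≫ g).op = β.hom.app _ ≫ H.obj.map (b ≫ g).op
    rw [op_comp, Functor.map_comp]
    exact (Category.assoc _ _ _).symm.trans ((congrArg (· ≫ H.obj.map b.op) e2).trans (Category.assoc _ _ _))⟩
  infer_instance

end Groth.Agent.S8598
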