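import Groth.Statements.S8603


set_option autoImplicit false
universe u
open CategoryTheory CategoryTheory.Limits AlgebraicGeometry Opposite
open DEt

namespace Groth.Agent.S8603

theorem quasiCompact_of_compactSpace {X P Y : Scheme.{u}} [CompactSpace ↥X] [QuasiSeparatedSpace ↥Y]
    (j : X ⟶ P) (p : P ⟶ Y) [QuasiSeparated p] : QuasiCompact j := by
  haveI : QuasiSeparatedSpace P := quasiSeparatedSpace_of_quasiSeparated p
  infer_instance


/-- The domination half of 'the category of compactifications of f is cofiltering': let f : X -> Y be a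
morphism of quasi-compact quasi-separated schemes and let (Xbar_1, j_1, fbar_1), (Xbar_2, j_2,
fbar_2) be two compactifications of f (j_i : X -> Xbar_i open immersions, fbar_i : Xbar_i -> Y
proper, fbar_i ∘ j_i = f). Then there are a compactification (Xbar, j, fbar) of f and proper
morphisms p_i : Xbar -> Xbar_i (i = 1, 2) with p_i ∘ j = j_i and fbar_i ∘ p_i = fbar, i.e. a
compactification mapping to both by morphisms of compactifications. (The published statement also
includes the equalizing axiom: two morphisms of compactifications are equalized by a third; only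
domination is stated here.) -/
theorem result {X Y : Scheme.{u}} [CompactSpace ↥X] [QuasiSeparatedSpace ↥X]
    [CompactSpace ↥Y] [QuasiSeparatedSpace ↥Y] {f : X ⟶ Y} (c₁ c₂ : DEt.Compactification f) :
    ∃ (c : DEt.Compactification f) (p₁ : c.Xbar ⟶ c₁.Xbar) (p₂ : c.Xbar ⟶ c₂.Xbar),
      IsProper p₁ ∧ IsProper p₂ ∧ c.j ≫ p₁ = c₁.j ∧ c.j ≫ p₂ = c₂.j ∧
        p₁ ≫ c₁.fbar = c.fbar ∧ p₂ ≫ c₂.fbar = c.fbar := by
  let j := pullback.lift c₁.j c₂.j (c₁.fac.trans c₂.fac.symm)
  let P := pullback.fst c₁.fbar c₂.fbar ≫ c₁.fbar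
  haveI : IsImmersion j := by
    haveI : IsImmersion (j ≫ pullback.fst c₁.fbar c₂.fbar) := by rw [pullback.lift_fst]; infer_instance
    exact IsImmersion.of_comp j (pullback.fst c₁.fbar c₂.fbar)
  haveI : QuasiCompact j := quasiCompact_of_compactSpace j P
  let p₁ := j.imageι ≫ pullback.fst c₁.fbar c₂.fbar
  let p₂ := j.imageι ≫ pullback.snd c₁.fbar c₂.fbar
  have e₁ : j.toImage ≫ p₁ = c₁.j := (Scheme.Hom.toImage_imageι_assoc j _).trans (pullback.lift_fst _ _ _)
  refine ⟨⟨j.image, j.toImage, p₁ ≫ c₁.fbar, inferInstance, inferInstance, ?_⟩, p₁, p₂, inferInstance, inferInstance,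
    e₁, (Scheme.Hom.toImage_imageι_assoc j _).trans (pullback.lift_snd _ _ _), rfl, ?_⟩
  · rw [← Category.assoc, e₁, c₁.fac]
  · simp [p₁, p₂, pullback.condition]

end Groth.Agent.S8603
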