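import Groth.Statements.S8607


set_option autoImplicit false
universe u
open CategoryTheory CategoryTheory.Limits AlgebraicGeometry Opposite
open DEt

namespace Groth.Agent.S8607

theorem quasiCompact_of_compactSpace {X P Y : Scheme.{u}} [CompactSpace ↥X] [QuasiSeparatedSpace ↥Y]
    (j : X ⟶ P) (p : P ⟶ Y) [QuasiSeparated p] : QuasiCompact j := by
  haveI : QuasiSeparatedSpace P := quasiSeparatedSpace_of_quasiSeparated p
  infer_instance


/-- The equalizing half of 'the category of compactifications of f is cofiltering': let f : X -> Y be a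
morphism of quasi-compact quasi-separated schemes, (Xbar_1, j_1, fbar_1) and (Xbar_2, j_2, fbar_2)
two compactifications of f, and r, s : Xbar_1 -> Xbar_2 two morphisms of compactifications (r ∘ j_1
= j_2 = s ∘ j_1 and fbar_2 ∘ r = fbar_1 = fbar_2 ∘ s). Then there are a compactification (Xbar, j,
fbar) of f and a proper morphism t : Xbar -> Xbar_1 of compactifications (t ∘ j = j_1, fbar_1 ∘ t =
fbar) with r ∘ t = s ∘ t. -/
theorem result {X Y : Scheme.{u}} [CompactSpace ↥X] [QuasiSeparatedSpace ↥X]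
    [CompactSpace ↥Y] [QuasiSeparatedSpace ↥Y] {f : X ⟶ Y} (c₁ c₂ : DEt.Compactification f)
    (r s : c₁.Xbar ⟶ c₂.Xbar) (hr : c₁.j ≫ r = c₂.j) (hs : c₁.j ≫ s = c₂.j)
    (hr' : r ≫ c₂.fbar = c₁.fbar) (hs' : s ≫ c₂.fbar = c₁.fbar) :
    ∃ (c : DEt.Compactification f) (t : c.Xbar ⟶ c₁.Xbar), IsProper t ∧ c.j ≫ t = c₁.j ∧ t ≫ c₁.fbar = c.fbar ∧
      t ≫ r = t ≫ s := by
  let r' := pullback.lift r s (hr'.trans hs'.symm)
  let δ := pullback.diagonal c₂.fbar
  let e := pullback.fst r' δ
  have hj : c₁.j ≫ r' = c₂.j ≫ δ := by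
    apply pullback.hom_ext
    · rw [Category.assoc, Category.assoc]
      exact ((congrArg (c₁.j ≫ ·) (pullback.lift_fst _ _ _)).trans hr).trans
        ((congrArg (c₂.j ≫ ·) (pullback.diagonal_fst _)).trans (Category.comp_id _)).symm
    · rw [Category.assoc, Category.assoc]
      exact ((congrArg (c₁.j ≫ ·) (pullback.lift_snd _ _ _)).trans hs).trans
        ((congrArg (c₂.j ≫ ·) (pullback.diagonal_snd _)).trans (Category.comp_id _)).symm
  let j := pullback.lift c₁.j c₂.j hj
  haveI : IsClosedImmersion δ := inferInstance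
  haveI : IsImmersion j := by
    haveI : IsImmersion (j ≫ e) := by rw [pullback.lift_fst]; infer_instance
    exact IsImmersion.of_comp j e
  haveI : QuasiCompact j := quasiCompact_of_compactSpace j (e ≫ c₁.fbar)
  let t := j.imageι ≫ e
  have e₁ : j.toImage ≫ t = c₁.j := (Scheme.Hom.toImage_imageι_assoc j _).trans (pullback.lift_fst _ _ _)
  refine ⟨⟨j.image, j.toImage, t ≫ c₁.fbar, inferInstance, inferInstance, ?_⟩, t, inferInstance, e₁, rfl, ?_⟩
  · rw [← Category.assoc, e₁, c₁.fac]
  · have h : e ≫ r' = pullback.snd r' δ ≫ δ := pullback.condition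
    have h1 := congrArg (fun m => m ≫ pullback.fst c₂.fbar c₂.fbar) h
    have h2 := congrArg (fun m => m ≫ pullback.snd c₂.fbar c₂.fbar) h
    have f1 : r' ≫ pullback.fst c₂.fbar c₂.fbar = r := pullback.lift_fst _ _ _
    have f2 : r' ≫ pullback.snd c₂.fbar c₂.fbar = s := pullback.lift_snd _ _ _
    have d1 : δ ≫ pullback.fst c₂.fbar c₂.fbar = 𝟙 _ := pullback.diagonal_fst _
    have d2 : δ ≫ pullback.snd c₂.fbar c₂.fbar = 𝟙 _ := pullback.diagonal_snd _
    simp only [Category.assoc, f1, f2, d1, d2, Category.comp_id] at h1 h2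
    simp only [t, Category.assoc, h1, h2]

end Groth.Agent.S8607
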