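import Groth.Statements.S8612
import Groth.Agent.DeltaIso38.Filtered

set_option autoImplicit false
universe w v u
open CategoryTheory CategoryTheory.Limits
open SGA4h

namespace Groth.Agent.S8612

/-- Let C be an abelian category with filtered colimits, T and T' cohomological delta-functors on C in
degrees ≥ 0 with values in abelian groups, both left exact in degree 0 and commuting with filtered
colimits in every degree, and φ : T → T' a morphism of delta-functors. Let D and E be classes of
objects such that (a) every object of C is a filtered colimit of objects of D and (b) every object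
of D admits a monomorphism into a member of E. Then φ^q(A) is bijective for all q and all A if and
only if φ^q(M) is bijective for all q and all M in E. -/
theorem result {C : Type u} [Category.{v} C] [Abelian C]
    [HasFilteredColimitsOfSize.{v, v} C]
    (T T' : DeltaF.CohDeltaFunctor C AddCommGrpCat.{w} ℕ) (hT0 : T.ZeroMono) (hT'0 : T'.ZeroMono)
    [∀ n, PreservesFilteredColimitsOfSize.{v, v} (T.F n)] [∀ n, PreservesFilteredColimitsOfSize.{v, v} (T'.F n)]
    (φ : T ⟶ T') (D E : ObjectProperty C)
    (hD : ∀ A : C, ∃ (J : Type v) (_ : SmallCategory J) (_ : IsFiltered J) (K : J ⥤ C) (c : Cocone K)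
      (_ : IsColimit c), (∀ j, D (K.obj j)) ∧ Nonempty (c.pt ≅ A))
    (hE : ∀ A : C, D A → ∃ (M : C) (i : A ⟶ M), Mono i ∧ E M) :
    (∀ (q : ℕ) (A : C), IsIso ((φ.app q).app A)) ↔
      ∀ (q : ℕ) (M : C), E M → IsIso ((φ.app q).app M) := by
  have hbij : ∀ (q : ℕ) (A : C), IsIso ((φ.app q).app A) ↔ Function.Bijective ((φ.app q).app A) :=
    fun q A => ConcreteCategory.isIso_iff_bijective _
  refine ⟨fun h q M _ => h q M, fun h => ?_⟩
  have hEb : ∀ q M, E M → Function.Bijective ((φ.app q).app M) := fun q M hM => (hbij q M).mp (h q M hM)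
  have hiso : ∀ (q : ℕ) (A B : C) (e : A ≅ B),
      (Function.Injective ((φ.app q).app A) → Function.Injective ((φ.app q).app B)) ∧
      (Function.Surjective ((φ.app q).app A) → Function.Surjective ((φ.app q).app B)) := by
    intro q A B e
    have h2 : ∀ x, (T.F q).map e.hom ((T.F q).map e.inv x) = x := fun x => by
      rw [← ConcreteCategory.comp_apply, ← Functor.map_comp, e.inv_hom_id, CategoryTheory.Functor.map_id]; rfl
    have h3 : ∀ x, (T'.F q).map e.hom ((T'.F q).map e.inv x) = x := fun x => by
      rw [← ConcreteCategory.comp_apply, ← Functor.map_comp, e.inv_hom_id, CategoryTheory.Functor.map_id]; rfl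
    refine ⟨fun hi x y hxy => ?_, fun hs x => ?_⟩
    · have hz : (T.F q).map e.inv x = (T.F q).map e.inv y := hi (by rw [DeltaIso38.nat, DeltaIso38.nat, hxy])
      rw [← h2 x, hz, h2]
    · obtain ⟨z, hz⟩ := hs ((T'.F q).map e.inv x)
      exact ⟨(T.F q).map e.hom z, by rw [DeltaIso38.nat, hz, h3]⟩
  have hinjA : ∀ q, (∀ A, D A → Function.Injective ((φ.app q).app A)) → ∀ A, Function.Injective ((φ.app q).app A) := by
    intro q hq A
    obtain ⟨J, _, _, K, c, hc, hK, ⟨e⟩⟩ := hD A
    exact (hiso q _ _ e).1 (DeltaIso38.injective_colimit T T' φ q hc fun j => hq _ (hK j))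
  have hsurjA : ∀ q, (∀ A, D A → Function.Surjective ((φ.app q).app A)) → ∀ A, Function.Surjective ((φ.app q).app A) := by
    intro q hq A
    obtain ⟨J, _, _, K, c, hc, hK, ⟨e⟩⟩ := hD A
    exact (hiso q _ _ e).2 (DeltaIso38.surjective_colimit T T' φ q hc fun j => hq _ (hK j))
  intro q
  suffices h : ∀ A, Function.Bijective ((φ.app q).app A) from fun A => (hbij q A).mpr (h A)
  induction q with
  | zero =>
    have hi : ∀ A, Function.Injective ((φ.app 0).app A) := hinjA 0 fun A hA x y hxy => by
      obtain ⟨M, i, hi, hM⟩ := hE A hA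
      exact (AddCommGrpCat.mono_iff_injective _).mp (hT0 (DeltaIso38.coker i) (DeltaIso38.coker_shortExact i))
        ((hEb 0 M hM).1 (by rw [DeltaIso38.nat, DeltaIso38.nat, hxy]))
    refine fun A => ⟨hi A, hsurjA 0 (fun A hA a' => ?_) A⟩
    obtain ⟨M, i, hmono, hM⟩ := hE A hA
    have hS := DeltaIso38.coker_shortExact i
    obtain ⟨m, hm⟩ := (hEb 0 M hM).2 ((T'.F 0).map i a')
    have h0 : (T.F 0).map (DeltaIso38.coker i).g m = 0 := by
      refine hi _ ?_
      rw [DeltaIso38.nat, hm, map_zero]
      exact DeltaIso38.map_zero_of_comp T' i (cokernel.π i) (cokernel.condition i) 0 a'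
    obtain ⟨a, rfl⟩ := DeltaIso38.ex₂ T (DeltaIso38.coker i) hS 0 m h0
    exact ⟨a, (AddCommGrpCat.mono_iff_injective _).mp (hT'0 (DeltaIso38.coker i) hS)
      ((DeltaIso38.nat T T' φ _ 0 a).symm.trans hm)⟩
  | succ q ih =>
    have hi : ∀ A, Function.Injective ((φ.app (q + 1)).app A) := hinjA (q + 1) fun A hA =>
      DeltaIso38.inj_step T T' φ ih A fun α hα => by
        obtain ⟨M, i, hmono, hM⟩ := hE A hA
        exact ⟨M, i, hmono, (hEb (q + 1) M hM).1 (by rw [DeltaIso38.nat, hα, map_zero, map_zero])⟩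
    refine fun A => ⟨hi A, hsurjA (q + 1) (fun A hA => DeltaIso38.surj_step T T' φ ih hi A fun α => ?_) A⟩
    obtain ⟨M, i, hmono, hM⟩ := hE A hA
    exact ⟨M, i, hmono, (hEb (q + 1) M hM).2 _⟩

end Groth.Agent.S8612
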