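import Groth.Statements.S8618
import Groth.Agent.SLang50.Basic
import Mathlib.LinearAlgebra.Trace
import Mathlib.FieldTheory.Finite.Basic
import Mathlib.FieldTheory.IsAlgClosed.Basic

set_option autoImplicit false
universe u
open SGA4h

namespace Groth.Agent.S8618

open TensorProduct in
/-- Let k be a finite field with q = p^f elements, F₀ ⊂ k its prime field, K an algebraically closed
extension of k, V a finite-dimensional k-vector space and φ a p-linear endomorphism of V (φ(λx) =
λ^p φ(x)); let F = φ^f, a k-linear endomorphism, F_K its K-linear extension to K ⊗_k V and φ_K the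
p-linear extension of φ (φ_K(μ ⊗ v) = μ^p ⊗ φ(v)). Then F_K preserves the F₀-subspace W = Ker(φ_K -
1) of K ⊗_k V, W is finite-dimensional over F₀, and the trace of F_K on W (an element of F₀) equals
the trace of F on V. -/
theorem result {p : ℕ} [Fact p.Prime] (k : Type u) [Field k] [Fintype k]
    [CharP k p] (f : ℕ) (hq : Fintype.card k = p ^ f) (K : Type u) [Field K] [Algebra k K] [IsAlgClosed K]
    (V : Type u) [AddCommGroup V] [Module k V] [FiniteDimensional k V]
    (φ : V →ₛₗ[frobenius k p] V) (F : V →ₗ[k] V) (hF : ∀ x, F x = (⇑φ)^[f] x)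
    (φK : K ⊗[k] V →+ K ⊗[k] V) (hφK : ∀ (μ : K) (v : V), φK (μ ⊗ₜ[k] v) = (μ ^ p) ⊗ₜ[k] φ v)
    (W : Submodule (↥(⊥ : Subfield k)) (K ⊗[k] V)) (hW : ∀ y, y ∈ W ↔ φK y = y) :
    (∀ y, φK y = y → φK (F.baseChange K y) = F.baseChange K y) ∧
    Module.Finite (↥(⊥ : Subfield k)) ↥W ∧
    ∀ (G : ↥W →ₗ[↥(⊥ : Subfield k)] ↥W), (∀ y : ↥W, (↑(G y) : K ⊗[k] V) = F.baseChange K ↑y) →
      algebraMap k K (algebraMap (↥(⊥ : Subfield k)) k (LinearMap.trace (↥(⊥ : Subfield k)) ↥W G)) =
        algebraMap k K (LinearMap.trace k V F) := by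
  classical
  have : CharP K p := charP_of_injective_algebraMap (algebraMap k K).injective p
  have hp1 : 1 < p := (Fact.out : p.Prime).one_lt
  have hp0 : (p : K) = 0 := CharP.cast_eq_zero K p
  have hf1 : 1 ≤ f := by
    rcases f with _ | f
    · have := hq ▸ Fintype.one_lt_card (α := k)
      simp at this
    · omega
  have hφq : SLang50.IsQLinear K p φK := by
    intro c z
    induction z using TensorProduct.induction_on with
    | zero => simp
    | tmul μ v => rw [TensorProduct.smul_tmul', smul_eq_mul, hφK, mul_pow, hφK, TensorProduct.smul_tmul', smul_eq_mul]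
    | add x y hx hy => rw [smul_add, map_add, hx, hy, map_add, smul_add]
  let FK : K ⊗[k] V →ₗ[K] K ⊗[k] V := F.baseChange K
  have hcomm : ∀ y, φK (FK y) = FK (φK y) := by
    intro y
    induction y using TensorProduct.induction_on with
    | zero => simp
    | tmul μ v =>
      simp only [FK, LinearMap.baseChange_tmul, hφK, hF]
      rw [← Function.iterate_succ_apply' (⇑φ), Function.iterate_succ_apply (⇑φ)]
    | add x y hx hy => simp only [map_add, hx, hy]
  have h1 : ∀ y, φK y = y → φK (FK y) = FK y := fun y hy => by rw [hcomm, hy]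
  refine ⟨h1, ?_⟩
  obtain ⟨N, hN, -, heq, -⟩ := SLang50.exists_semisimple hφq
  let U : Submodule K (K ⊗[k] V) := ⨅ n, SLang50.imageSpan K φK n
  obtain ⟨b, hb, hfix⟩ := SLang50.exists_semisimple_basis hp1 hp0 hφq
  -- `W` has the fixed basis as a basis over the prime field
  let ι := Fin (Module.finrank K U)
  let w : ι → ↥W := fun i => ⟨(b i : K ⊗[k] V), (hW _).mpr (hb i)⟩
  have hsmul : ∀ (c : ↥(⊥ : Subfield k)) (y : K ⊗[k] V), c • y = algebraMap k K (c : k) • y := fun c y => by
    rw [algebraMap_smul]; rfl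
  have hwsum : ∀ (c : ι → ↥(⊥ : Subfield k)),
      ((∑ i, c i • w i : ↥W) : K ⊗[k] V) = ((∑ i, algebraMap k K (c i : k) • b i : ↥U) : K ⊗[k] V) := fun c => by
    simp [w, hsmul]
  have hli : LinearIndependent ↥(⊥ : Subfield k) w := by
    refine (Fintype.linearIndependent_iff (R := ↥(⊥ : Subfield k)) (v := w)).mpr fun c hc i => ?_
    have := hwsum c
    rw [hc, ZeroMemClass.coe_zero] at this
    have h := (Fintype.linearIndependent_iff (R := K) (v := ⇑b)).mp b.linearIndependent _ (Subtype.ext this.symm) i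
    exact Subtype.ext ((algebraMap k K).injective (h.trans (map_zero _).symm))
  have hsp : ⊤ ≤ Submodule.span ↥(⊥ : Subfield k) (Set.range w) := by
    rintro ⟨y, hy⟩ -
    obtain ⟨hyU, hc⟩ := hfix y ((hW y).mp hy)
    have hc' : ∀ i, ∃ x : ↥(⊥ : Subfield k), algebraMap k K (x : k) = b.repr ⟨y, hyU⟩ i := fun i => by
      have h2 := (Subfield.mem_bot_iff_pow_eq_self (F := K) (p := p)).mpr (hc i)
      rw [← Subfield.map_bot (algebraMap k K)] at h2
      obtain ⟨x, hx, hx'⟩ := h2
      exact ⟨⟨x, hx⟩, hx'⟩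
    choose x hx using hc'
    rw [Submodule.mem_span_range_iff_exists_fun]
    refine ⟨x, Subtype.ext ?_⟩
    rw [hwsum]
    simp only [hx]
    exact congrArg Subtype.val (b.sum_repr ⟨y, hyU⟩)
  let bW : Module.Basis ι ↥(⊥ : Subfield k) ↥W := Module.Basis.mk hli hsp
  have : Module.Finite ↥(⊥ : Subfield k) ↥W := Module.Finite.of_basis bW
  refine ⟨inferInstance, fun G hG => ?_⟩
  -- the trace on the stable part
  have hFU : ∀ y ∈ U, FK y ∈ U := by
    intro y hy
    simp only [U, heq] at hy ⊢
    refine Submodule.span_le.mpr ?_ hy |> fun h => (h : y ∈ (SLang50.imageSpan K φK N).comap FK)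
    rintro _ ⟨x, rfl⟩
    exact Submodule.subset_span ⟨FK x, ((Function.Commute.iterate_left (f := ⇑φK) (g := ⇑FK) hcomm (N + 1)) x)⟩
  let H : U →ₗ[K] U := FK.restrict hFU
  have hH : LinearMap.trace K U H = algebraMap k K (algebraMap (↥(⊥ : Subfield k)) k (LinearMap.trace _ ↥W G)) := by
    rw [LinearMap.trace_eq_matrix_trace K b, LinearMap.trace_eq_matrix_trace _ bW, Matrix.trace, Matrix.trace,
      map_sum, map_sum]
    refine Finset.sum_congr rfl fun j _ => ?_
    simp only [Matrix.diag_apply, LinearMap.toMatrix_apply]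
    have h : H (b j) = ∑ i, algebraMap k K (bW.repr (G (bW j)) i : k) • b i := by
      refine Subtype.ext ?_
      rw [← hwsum, show (H (b j) : K ⊗[k] V) = FK (w j : K ⊗[k] V) from rfl, ← hG]
      congr 1
      conv_lhs => rw [show w j = bW j from (Module.Basis.mk_apply hli hsp j).symm, ← bW.sum_repr (G (bW j))]
      refine Finset.sum_congr rfl fun i _ => ?_
      rw [Module.Basis.mk_apply hli hsp i]
    rw [h, b.repr_sum_self]
    rfl
  rw [← hH, ← LinearMap.trace_baseChange F K]
  -- off the stable part `FK` is nilpotent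
  have hpow : ∀ z, (FK ^ (N + 1)) z ∈ U := by
    intro z
    induction z using TensorProduct.induction_on with
    | zero => simp
    | add x y hx hy => rw [map_add]; exact U.add_mem hx hy
    | tmul μ v =>
      rw [show μ ⊗ₜ[k] v = μ • ((1 : K) ⊗ₜ[k] v) by rw [TensorProduct.smul_tmul', smul_eq_mul, mul_one], map_smul]
      refine U.smul_mem _ ?_
      have e1 : ∀ n, (⇑φK)^[n] ((1 : K) ⊗ₜ[k] v) = 1 ⊗ₜ[k] (⇑φ)^[n] v := by
        intro n
        induction n with
        | zero => rfl
        | succ n ih => rw [Function.iterate_succ_apply', ih, hφK, one_pow, Function.iterate_succ_apply']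
      have e2 : ∀ m, (FK ^ m) ((1 : K) ⊗ₜ[k] v) = 1 ⊗ₜ[k] (⇑φ)^[f * m] v := by
        intro m
        induction m with
        | zero => rfl
        | succ m ih =>
          rw [pow_succ', Module.End.mul_apply, ih, LinearMap.baseChange_tmul, hF, ← Function.iterate_add_apply]
          rw [show f + f * m = f * (m + 1) by ring]
      obtain ⟨j, hj⟩ : ∃ j, f * (N + 1) = (N + 1) + j := ⟨f * (N + 1) - (N + 1), by
        have := Nat.le_mul_of_pos_left (N + 1) hf1; omega⟩
      rw [e2, ← e1, hj, Function.iterate_add_apply]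
      exact hN _
  obtain ⟨P, hP⟩ := LinearMap.exists_extend (K := K) (V := K ⊗[k] V) (V' := ↥U) (p := U) LinearMap.id
  let T : Module.End K (K ⊗[k] V) := FK - FK.comp (U.subtype.comp P)
  have hPU : ∀ u ∈ U, (P u : K ⊗[k] V) = u := fun u hu =>
    congrArg Subtype.val (LinearMap.congr_fun hP ⟨u, hu⟩)
  have hTU : ∀ u ∈ U, T u = 0 := fun u hu => by simp [T, hPU u hu]
  have hT : IsNilpotent T := by
    have hm : ∀ m z, (T ^ m) z - (FK ^ m) z ∈ U := by
      intro m
      induction m with
      | zero => simp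
      | succ m ih =>
        intro z
        rw [pow_succ', pow_succ', Module.End.mul_apply, Module.End.mul_apply]
        have h : T ((T ^ m) z) - FK ((FK ^ m) z) =
            FK ((T ^ m) z - (FK ^ m) z) - FK (P ((T ^ m) z) : K ⊗[k] V) := by
          simp [T]; abel
        rw [h]
        exact U.sub_mem (hFU _ (ih z)) (hFU _ (P _).2)
    refine ⟨N + 2, LinearMap.ext fun z => ?_⟩
    rw [pow_succ', Module.End.mul_apply]
    refine hTU _ ?_
    have := U.add_mem (hm (N + 1) z) (hpow z)
    rwa [sub_add_cancel] at this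
  have h0 : LinearMap.trace K _ T = 0 := (LinearMap.isNilpotent_trace_of_isNilpotent hT).eq_zero
  have h2 : LinearMap.trace K _ (FK.comp (U.subtype.comp P)) = LinearMap.trace K U H := by
    haveI : Module.Free K ↥U := Module.Free.of_basis b
    refine (LinearMap.trace_comp_comm' (R := K) (M := K ⊗[k] V) (N := ↥U) P (FK.comp U.subtype)).trans ?_
    refine congrArg _ (LinearMap.ext fun u => Subtype.ext ?_)
    exact hPU _ (hFU _ u.2)
  have h3 : LinearMap.trace K _ FK - LinearMap.trace K _ (FK.comp (U.subtype.comp P)) = 0 :=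
    ((LinearMap.trace K (K ⊗[k] V)).map_sub FK (FK.comp (U.subtype.comp P))).symm.trans h0
  exact ((sub_eq_zero.mp h3).trans h2).symm

end Groth.Agent.S8618
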