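import Groth.Statements.S8625
import Mathlib.RingTheory.SimpleModule.Basic
import Mathlib.RingTheory.HopkinsLevitzki
import Mathlib.RingTheory.PowerSeries.Inverse
import Mathlib.RingTheory.PowerSeries.Trunc
import Mathlib.Algebra.Field.ZMod
import Mathlib.RingTheory.Localization.Integer
import Mathlib.LinearAlgebra.Dimension.Localization

set_option autoImplicit false
universe u
open SGA4h

namespace Groth.Agent.S8625

/-- Let G be a group with an endomorphism F, and assume the Lang map g ↦ F(g)g⁻¹ is surjective (for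
instance the geometric points of a connected algebraic group over F_q with its Frobenius, where the
surjectivity is the classical result of Lang; the other Lang map g ↦ g⁻¹F(g) is then surjective too,
by g ↦ g⁻¹). Let G^F be the subgroup of fixed points of F. (i) If F(g)g⁻¹ is fixed by F then so is
g⁻¹F(g). (ii), (iii) There is a bijection of the set of conjugacy classes of G^F with itself
sending, for every g with F(g)g⁻¹ ∈ G^F, the class of F(g)g⁻¹ to the class of g⁻¹F(g) (in particular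
the latter class depends only on the former). -/
theorem result {G : Type u} [Group G] (F : G →* G)
    (hL : Function.Surjective fun g : G => F g * g⁻¹) :
    (∀ g : G, F (F g * g⁻¹) = F g * g⁻¹ → F (g⁻¹ * F g) = g⁻¹ * F g) ∧
    ∃ φ : ConjClasses ↥(F.eqLocus (MonoidHom.id G)) → ConjClasses ↥(F.eqLocus (MonoidHom.id G)),
      Function.Bijective φ ∧
      ∀ (g : G) (h : F (F g * g⁻¹) = F g * g⁻¹) (h' : F (g⁻¹ * F g) = g⁻¹ * F g),
        φ (ConjClasses.mk (⟨F g * g⁻¹, h⟩ : ↥(F.eqLocus (MonoidHom.id G)))) =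
          ConjClasses.mk (⟨g⁻¹ * F g, h'⟩ : ↥(F.eqLocus (MonoidHom.id G))) := by
  have hmem : ∀ g : G, F (F g * g⁻¹) = F g * g⁻¹ → F (g⁻¹ * F g) = g⁻¹ * F g := by
    intro g h
    simp only [map_mul, map_inv] at h ⊢
    have h2 : F (F g) = F g * g⁻¹ * F g := by rw [← h]; group
    rw [h2]; group
  have hmem' : ∀ g : G, F (g⁻¹ * F g) = g⁻¹ * F g → F (F g * g⁻¹) = F g * g⁻¹ := by
    intro g h
    simp only [map_mul, map_inv] at h ⊢
    have h2 : F (F g) = F g * (g⁻¹ * F g) := by rw [← h]; group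
    rw [h2]; group
  refine ⟨hmem, ?_⟩
  choose σ hσ using hL
  have hσ' : ∀ a, F (σ a) * (σ a)⁻¹ = a := hσ
  let A : ↥(F.eqLocus (MonoidHom.id G)) → ↥(F.eqLocus (MonoidHom.id G)) :=
    fun a => ⟨(σ a.1)⁻¹ * F (σ a.1), hmem _ (by rw [hσ']; exact a.2)⟩
  -- the class of the image only depends on the class of the source
  have well : ∀ (g g' : G) (t : G), F t = t → F g' * g'⁻¹ = t * (F g * g⁻¹) * t⁻¹ →
      ∀ h h', IsConj (⟨g⁻¹ * F g, h⟩ : ↥(F.eqLocus (MonoidHom.id G))) ⟨g'⁻¹ * F g', h'⟩ := by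
    intro g g' t ht e h h'
    have hs : F ((t * g)⁻¹ * g') = (t * g)⁻¹ * g' := by
      have : F g' = t * (F g * g⁻¹) * t⁻¹ * g' := by rw [← e]; group
      simp only [map_mul, map_inv, ht, this]; group
    rw [isConj_iff]
    refine ⟨⟨((t * g)⁻¹ * g')⁻¹, by show F _ = _; rw [map_inv, hs]; rfl⟩, Subtype.ext ?_⟩
    have : F g' = t * (F g * g⁻¹) * t⁻¹ * g' := by rw [← e]; group
    simp only [Subgroup.coe_mul, InvMemClass.coe_inv, this]; group
  let φ : ConjClasses ↥(F.eqLocus (MonoidHom.id G)) → ConjClasses ↥(F.eqLocus (MonoidHom.id G)) :=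
    Quotient.lift (fun a => ConjClasses.mk (A a)) (by
      intro a b hab
      obtain ⟨t, ht⟩ := isConj_iff.1 (show IsConj a b from hab)
      refine ConjClasses.mk_eq_mk_iff_isConj.2 (well _ _ t.1 t.2 ?_ _ _)
      rw [hσ', hσ', ← ht]; rfl)
  have hφ : ∀ (g : G) (h : F (F g * g⁻¹) = F g * g⁻¹) (h' : F (g⁻¹ * F g) = g⁻¹ * F g),
        φ (ConjClasses.mk (⟨F g * g⁻¹, h⟩ : ↥(F.eqLocus (MonoidHom.id G)))) =
          ConjClasses.mk (⟨g⁻¹ * F g, h'⟩ : ↥(F.eqLocus (MonoidHom.id G))) := by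
    intro g h h'
    refine ConjClasses.mk_eq_mk_iff_isConj.2 (well _ _ 1 (map_one F) ?_ _ _)
    rw [hσ']; group
  refine ⟨φ, ⟨?_, ?_⟩, hφ⟩
  · intro x y
    induction x using Quotient.inductionOn with | h a =>
    induction y using Quotient.inductionOn with | h b =>
    intro e
    obtain ⟨s, hs⟩ := isConj_iff.1 (ConjClasses.mk_eq_mk_iff_isConj.1 (show ConjClasses.mk (A a) = ConjClasses.mk (A b) from e))
    have hs' : s.1 * ((σ a.1)⁻¹ * F (σ a.1)) * s.1⁻¹ = (σ b.1)⁻¹ * F (σ b.1) := congrArg Subtype.val hs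
    have hsF : F s.1 = s.1 := s.2
    have e2 : F (σ b.1) = σ b.1 * (s.1 * ((σ a.1)⁻¹ * F (σ a.1)) * s.1⁻¹) := by rw [hs']; group
    refine ConjClasses.mk_eq_mk_iff_isConj.2 (isConj_iff.2 ⟨⟨σ b.1 * s.1 * (σ a.1)⁻¹, ?_⟩, Subtype.ext ?_⟩)
    · show F _ = _
      simp only [map_mul, map_inv, hsF, e2]; simp; group
    · simp only [Subgroup.coe_mul, InvMemClass.coe_inv]
      have ha := hσ' a.1; have hb := hσ' b.1
      generalize σ a.1 = u at *
      generalize σ b.1 = v at *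
      rw [← ha, ← hb, e2]
      group
  · intro y
    induction y using Quotient.inductionOn with | h b =>
    obtain ⟨x, hx⟩ : ∃ x, F x * x⁻¹ = b.1⁻¹ := ⟨σ _, hσ' _⟩
    have e : (x⁻¹)⁻¹ * F x⁻¹ = b.1 := by rw [map_inv, ← inv_inv b.1, ← hx]; group
    have h' : F ((x⁻¹)⁻¹ * F x⁻¹) = (x⁻¹)⁻¹ * F x⁻¹ := by rw [e]; exact b.2
    refine ⟨ConjClasses.mk ⟨_, hmem' _ h'⟩, ?_⟩
    rw [hφ _ _ h']
    exact congrArg ConjClasses.mk (Subtype.ext e)


end Groth.Agent.S8625
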