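import Groth.Statements.S8630
import Mathlib.RingTheory.SimpleModule.Basic
import Mathlib.RingTheory.HopkinsLevitzki
import Mathlib.RingTheory.PowerSeries.Inverse
import Mathlib.RingTheory.PowerSeries.Trunc
import Mathlib.Algebra.Field.ZMod
import Mathlib.RingTheory.Localization.Integer
import Mathlib.LinearAlgebra.Dimension.Localization

set_option autoImplicit false
open Zeta

namespace Groth.Agent.S8630

/-- Fatou's lemma: let P, Q ∈ ℚ[T] be coprime with constant coefficient 1, and suppose the power series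
P/Q has integer coefficients, i.e. P = Q·Z in ℚ⟦T⟧ for a power series Z with coefficients in ℤ. Then
P and Q have integer coefficients. -/
theorem result (P Q : Polynomial ℚ)
    (hPQ : IsCoprime P Q) (hP : P.coeff 0 = 1) (hQ : Q.coeff 0 = 1) (Z : PowerSeries ℤ)
    (hZ : (P : PowerSeries ℚ) = (Q : PowerSeries ℚ) * PowerSeries.map (Int.castRingHom ℚ) Z) :
    (∃ P₀ : Polynomial ℤ, P₀.map (Int.castRingHom ℚ) = P) ∧
      ∃ Q₀ : Polynomial ℤ, Q₀.map (Int.castRingHom ℚ) = Q := by
  obtain ⟨a, b, hab⟩ := hPQ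
  obtain ⟨na, hna⟩ := IsLocalization.integerNormalization_map_to_map (nonZeroDivisors ℤ) a
  obtain ⟨nb, hnb⟩ := IsLocalization.integerNormalization_map_to_map (nonZeroDivisors ℤ) b
  obtain ⟨nq, hnq⟩ := IsLocalization.integerNormalization_map_to_map (nonZeroDivisors ℤ) Q
  set a₀ := IsLocalization.integerNormalization (nonZeroDivisors ℤ) a
  set b₀ := IsLocalization.integerNormalization (nonZeroDivisors ℤ) b
  set q₁ := IsLocalization.integerNormalization (nonZeroDivisors ℤ) Q
  set Q₀ := q₁.primPart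
  let ι : PowerSeries ℤ →+* PowerSeries ℚ := PowerSeries.map (Int.castRingHom ℚ)
  have hι : Function.Injective ι := fun u v h => PowerSeries.ext fun n => by
    have := congrArg (PowerSeries.coeff n) h
    simpa [ι] using this
  have coe_map : ∀ g : Polynomial ℤ, ι (g : PowerSeries ℤ) = ((g.map (Int.castRingHom ℚ) : Polynomial ℚ) : PowerSeries ℚ) := fun g => by
    ext n; simp [ι]
  have hmap : ∀ (g : Polynomial ℤ) (m : ℤ) (f : Polynomial ℚ), g.map (algebraMap ℤ ℚ) = m • f →
      ι (g : PowerSeries ℤ) = PowerSeries.C (m : ℚ) * (f : PowerSeries ℚ) := fun g m f h => by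
    rw [coe_map, show Int.castRingHom ℚ = algebraMap ℤ ℚ from rfl, h, zsmul_eq_mul, Polynomial.coe_mul, ← Polynomial.C_eq_intCast, Polynomial.coe_C]
  have hQne : Q ≠ 0 := fun h => by simp [h] at hQ
  have hq₁ : q₁ ≠ 0 := fun h => by
    rw [h, Polynomial.map_zero] at hnq
    have h' : ((nq : ℤ)) • Q = 0 := hnq.symm
    exact smul_ne_zero (nonZeroDivisors.ne_zero nq.2) hQne h'
  let N : ℤ := (nq : ℤ) * ((na : ℤ) * (nb : ℤ))
  have hN : N ≠ 0 := mul_ne_zero (nonZeroDivisors.ne_zero nq.2) (mul_ne_zero (nonZeroDivisors.ne_zero na.2) (nonZeroDivisors.ne_zero nb.2))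
  let W : PowerSeries ℤ := PowerSeries.C q₁.content * (PowerSeries.C (nb : ℤ) * (a₀ : PowerSeries ℤ) * Z + PowerSeries.C (na : ℤ) * (b₀ : PowerSeries ℤ))
  have hW : PowerSeries.C N = (Q₀ : PowerSeries ℤ) * W := by
    apply hι
    have e : (q₁ : PowerSeries ℤ) = PowerSeries.C q₁.content * (Q₀ : PowerSeries ℤ) := by
      conv_lhs => rw [q₁.eq_C_content_mul_primPart]
      rw [Polynomial.coe_mul, Polynomial.coe_C]
    have e' : (Q₀ : PowerSeries ℤ) * W = (q₁ : PowerSeries ℤ) * (PowerSeries.C (nb : ℤ) * (a₀ : PowerSeries ℤ) * Z + PowerSeries.C (na : ℤ) * (b₀ : PowerSeries ℤ)) := by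
      rw [e]; simp only [W]; ring
    have h1 : (a : PowerSeries ℚ) * (P : PowerSeries ℚ) + (b : PowerSeries ℚ) * (Q : PowerSeries ℚ) = 1 := by
      rw [← Polynomial.coe_mul, ← Polynomial.coe_mul, ← Polynomial.coe_add, hab, Polynomial.coe_one]
    rw [hZ] at h1
    have hC : ∀ m : ℤ, ι (PowerSeries.C m) = PowerSeries.C (m : ℚ) := fun m => by simp [ι]
    rw [e', hC]
    simp only [map_mul, map_add, hC, hmap _ _ _ hna, hmap _ _ _ hnb, hmap _ _ _ hnq]
    simp only [N, Int.cast_mul, map_mul]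
    linear_combination (-(PowerSeries.C ((nq : ℤ) : ℚ) * (PowerSeries.C ((na : ℤ) : ℚ) * PowerSeries.C ((nb : ℤ) : ℚ)))) * h1
  have key : ∀ k : ℕ, ∀ (M : ℤ) (V : PowerSeries ℤ), M.natAbs = k → M ≠ 0 → PowerSeries.C M = (Q₀ : PowerSeries ℤ) * V → IsUnit (Q₀.coeff 0) := by
    intro k
    induction k using Nat.strong_induction_on with | h k ih =>
    intro M V hk hM he
    by_cases h1 : k = 1
    · have := congrArg PowerSeries.constantCoeff he
      simp only [PowerSeries.constantCoeff_C, map_mul, Polynomial.constantCoeff_coe] at this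
      exact isUnit_of_mul_isUnit_left (this ▸ Int.isUnit_iff_natAbs_eq.2 (hk.trans h1))
    · obtain ⟨l, hl, hlk⟩ := Nat.exists_prime_and_dvd h1
      haveI := Fact.mk hl
      obtain ⟨M', rfl⟩ : (l : ℤ) ∣ M := Int.natCast_dvd.2 (hk ▸ hlk)
      let r : ℤ →+* ZMod l := Int.castRingHom _
      have hQl : PowerSeries.map r (Q₀ : PowerSeries ℤ) ≠ 0 := by
        intro h
        have hdvd : Polynomial.C (l : ℤ) ∣ Q₀ := Polynomial.C_dvd_iff_dvd_coeff _ _ |>.2 fun i => by
          have := congrArg (PowerSeries.coeff i) h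
          simpa [r, ZMod.intCast_zmod_eq_zero_iff_dvd] using this
        have := (Polynomial.isPrimitive_iff_isUnit_of_C_dvd.1 q₁.isPrimitive_primPart) _ hdvd
        rw [Int.isUnit_iff_natAbs_eq, Int.natAbs_natCast] at this
        exact hl.one_lt.ne' this
      have hVl : PowerSeries.map r V = 0 := by
  
        refine (mul_eq_zero.1 ?_).resolve_left hQl
        rw [← map_mul, ← he, PowerSeries.map_C]
        simp [r]
      have hdvd : ∀ i, (l : ℤ) ∣ PowerSeries.coeff i V := fun i => by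
        have := congrArg (PowerSeries.coeff i) hVl
        simpa [r, ZMod.intCast_zmod_eq_zero_iff_dvd] using this
      choose v hv using hdvd
      have hVe : V = PowerSeries.C (l : ℤ) * PowerSeries.mk v := PowerSeries.ext fun i => by rw [PowerSeries.coeff_C_mul, PowerSeries.coeff_mk, hv]
      have hl0 : PowerSeries.C (l : ℤ) ≠ 0 := fun h => by
        have := congrArg PowerSeries.constantCoeff h
        simp [hl.ne_zero] at this
      refine ih M'.natAbs ?_ M' (PowerSeries.mk v) rfl (right_ne_zero_of_mul hM) (mul_left_cancel₀ hl0 ?_)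
      · rw [← hk, Int.natAbs_mul, Int.natAbs_natCast]
        exact lt_mul_left (Int.natAbs_pos.2 (right_ne_zero_of_mul hM)) hl.one_lt
      · rw [← map_mul, he, hVe]; ring
  have hu := key _ N W rfl hN hW
  obtain ⟨u, hu⟩ := hu
  have hQint : ∃ Q' : Polynomial ℤ, Q'.map (Int.castRingHom ℚ) = Q := by
    refine ⟨Polynomial.C ((u⁻¹ : ℤˣ) : ℤ) * Q₀, ?_⟩
    have hc : (q₁.content : ℚ) • Q₀.map (Int.castRingHom ℚ) = ((nq : ℤ) : ℚ) • Q := by
      rw [show ((nq : ℤ) : ℚ) • Q = (nq : ℤ) • Q from Int.cast_smul_eq_zsmul _ _ _, ← show q₁.map (algebraMap ℤ ℚ) = (nq : ℤ) • Q from hnq,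
        Polynomial.smul_eq_C_mul, show algebraMap ℤ ℚ = Int.castRingHom ℚ from rfl]
      conv_rhs => rw [q₁.eq_C_content_mul_primPart]
      simp [Q₀]
    have hc0 := congrArg (fun g : Polynomial ℚ => g.coeff 0) hc
    simp only [Polynomial.coeff_smul, Polynomial.coeff_map, hQ, ← hu, smul_eq_mul, mul_one, eq_intCast] at hc0
    refine smul_right_injective _ (Int.cast_ne_zero.2 (nonZeroDivisors.ne_zero nq.2) : ((nq : ℤ) : ℚ) ≠ 0) ?_
    simp only
    rw [← hc, ← hc0, Polynomial.map_mul, Polynomial.map_C, ← Polynomial.smul_eq_C_mul, smul_smul, eq_intCast, mul_assoc,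
      ← Int.cast_mul, Units.mul_inv, Int.cast_one, mul_one]
  refine ⟨?_, hQint⟩
  obtain ⟨Q', hQ'⟩ := hQint
  have hP' : (P : PowerSeries ℚ) = ι ((Q' : PowerSeries ℤ) * Z) := by rw [map_mul, coe_map, hQ', hZ]
  refine ⟨PowerSeries.trunc (P.natDegree + 1) ((Q' : PowerSeries ℤ) * Z), ?_⟩
  ext i
  rw [Polynomial.coeff_map, PowerSeries.coeff_trunc]
  split_ifs with h
  · have := congrArg (PowerSeries.coeff i) hP'
    simp only [ι, PowerSeries.coeff_map, Polynomial.coeff_coe] at this
    exact this.symm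
  · rw [map_zero, Polynomial.coeff_eq_zero_of_natDegree_lt (by omega)]


end Groth.Agent.S8630
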