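import Groth.Statements.S8637
import Mathlib.RingTheory.SimpleModule.Basic
import Mathlib.RingTheory.HopkinsLevitzki
import Mathlib.RingTheory.PowerSeries.Inverse
import Mathlib.RingTheory.PowerSeries.Trunc
import Mathlib.Algebra.Field.ZMod
import Mathlib.RingTheory.Localization.Integer
import Mathlib.LinearAlgebra.Dimension.Localization

set_option autoImplicit false
open Zeta

namespace Groth.Agent.S8637

/-- First assertion, for a finite family: let (f_i) be finitely many formal power series with real
coefficients, each with constant term 1 and all coefficients ≥ 0, and let f be their product. Then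
for every i and every n the n-th coefficient of f_i is at most the n-th coefficient of f (so the
radius of absolute convergence of f_i is at least that of f). (Stated for a finite family; for an
infinite product whose factors f_i - 1 have orders tending to infinity each coefficient is that of a
finite sub-product, so the same inequality holds.) -/
theorem result {ι : Type} (s : Finset ι) (f : ι → PowerSeries ℝ)
    (h0 : ∀ i ∈ s, PowerSeries.constantCoeff (f i) = 1)
    (hpos : ∀ i ∈ s, ∀ n : ℕ, 0 ≤ PowerSeries.coeff n (f i)) (i : ι) (hi : i ∈ s) (n : ℕ) :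
    PowerSeries.coeff n (f i) ≤ PowerSeries.coeff n (∏ j ∈ s, f j) := by
  classical
  have key : ∀ t : Finset ι, t ⊆ s → PowerSeries.coeff 0 (∏ j ∈ t, f j) = 1 ∧ ∀ m, 0 ≤ PowerSeries.coeff m (∏ j ∈ t, f j) := by
    intro t
    induction t using Finset.induction with
    | empty => intro _; simp [PowerSeries.coeff_one]; intro m; split <;> norm_num
    | insert a t ha ih =>
      intro h
      have hs := Finset.insert_subset_iff.1 h
      obtain ⟨i0, i1⟩ := ih hs.2
      rw [Finset.prod_insert ha]
      refine ⟨?_, fun m => ?_⟩
      · rw [PowerSeries.coeff_zero_eq_constantCoeff] at i0 ⊢; simp [h0 a hs.1] at *; exact i0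
      · rw [PowerSeries.coeff_mul]; exact Finset.sum_nonneg fun x _ => mul_nonneg (hpos a hs.1 _) (i1 _)
  obtain ⟨c0, c1⟩ := key (s.erase i) (Finset.erase_subset _ _)
  rw [← Finset.mul_prod_erase s f hi, PowerSeries.coeff_mul]
  refine le_trans (le_of_eq ?_) (Finset.single_le_sum (fun x _ => mul_nonneg (hpos i hi _) (c1 _))
    (show ((n, 0) : ℕ × ℕ) ∈ Finset.antidiagonal n by simp))
  simp [c0]


end Groth.Agent.S8637
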