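import Groth.Statements.S8650
import Groth.Agent.Lambda37.Basic

set_option autoImplicit false
universe u
open Finset
open LambdaRing

namespace Groth.Agent.S8650

open Groth.Agent.Lambda37

/-- Let K be a pre-λ-ring (λ^0 = 1, λ^1 = id, additive formula) in which λ^k(1) = 0 for all k ≥ 2. Then
for every x ∈ K and every n, λ^n(x + n − 1) = (−1)^n Σ_{i=0}^{n} (−1)^i λ^i(x + n). (The published
statement is for a λ-ring; its proof uses only additivity and λ_t(1) = 1 + t, the hypotheses taken
here.) -/
theorem result (K : Type u) [CommRing K] [LambdaRing.LambdaOps K]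
    (h1 : ∀ k : ℕ, 2 ≤ k → LambdaRing.LambdaOps.lam k (1 : K) = 0) (n : ℕ) (x : K) :
    LambdaRing.LambdaOps.lam n (x + (n : K) - 1) =
      (-1 : K) ^ n * ∑ i ∈ range (n + 1), (-1 : K) ^ i * LambdaRing.LambdaOps.lam i (x + (n : K)) := by
  have hy : lamSeries (x + (n : K) - 1) * lamSeries (1 : K) = lamSeries (x + (n : K)) :=
    lamSeries_sub _ _
  have hrec : ∀ i, LambdaOps.lam (i + 1) (x + (n : K)) =
      LambdaOps.lam (i + 1) (x + (n : K) - 1) + LambdaOps.lam i (x + (n : K) - 1) := by
    intro i
    rw [← coeff_lamSeries, ← hy, lamSeries_eq_linear h1, map_one, one_mul, mul_add, mul_one, map_add,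
      coeff_lamSeries, PowerSeries.coeff_succ_mul_X, coeff_lamSeries]
  have key : ∀ N, (∑ i ∈ range (N + 1), (-1 : K) ^ i * LambdaOps.lam i (x + (n : K))) =
      (-1 : K) ^ N * LambdaOps.lam N (x + (n : K) - 1) := by
    intro N
    induction N with
    | zero => simp [LambdaOps.lam_zero]
    | succ N ih => rw [Finset.sum_range_succ, ih, hrec, pow_succ]; ring
  rw [key, ← mul_assoc, ← mul_pow, neg_one_mul, neg_neg, one_pow, one_mul]

end Groth.Agent.S8650
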