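import Groth.Statements.S8668
import Groth.Agent.CotCx18.Rank

set_option autoImplicit false
universe u
open CategoryTheory CategoryTheory.Limits AlgebraicGeometry
attribute [local instance] HasDerivedCategory.standard
open Synt

namespace Groth.Agent.S8668

open Groth.Agent.CotCx18 in
theorem step {X Y V W : Scheme.{u}} (f : X ⟶ Y) (hf : ∀ x : X, Synt.IsKoszulAt f x)
    (g : V ⟶ Y) [Smooth g] (i : X ⟶ V) [IsClosedImmersion i] (hi : i ≫ g = f)
    (k : X ⟶ W) [IsClosedImmersion k] (p : W ⟶ V) [Smooth p] (hk : k ≫ p = i) (gW : W ⟶ Y) [Smooth gW] (hgW : p ≫ g = gW)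
    (Ω : V.Modules) (d : OmegaSh.Der g Ω) (hd : OmegaSh.IsUniversal d)
    (ΩW : W.Modules) (dW : OmegaSh.Der gW ΩW) (hdW : OmegaSh.IsUniversal dW) :
    KRR.cl X ((Scheme.Modules.pullback i).obj Ω) - KRR.cl X (Omega.conormal i) =
      KRR.cl X ((Scheme.Modules.pullback k).obj ΩW) - KRR.cl X (Omega.conormal k) := by
  subst hk hgW
  obtain ⟨Q, ψ, χ, ρ, σ, w₁, w₂, hQ, hS₁, hS₂, -⟩ := exists_sequences k p g hd hdW
  obtain ⟨hΩ, hN⟩ := isFinLocFree_factor f hf g (k ≫ p) hi Ω d hd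
  obtain ⟨hΩW, hNW⟩ := isFinLocFree_factor f hf (p ≫ g) k ((Category.assoc k p g).symm.trans hi) ΩW dW hdW
  have e₁ := cl_middle _ hS₁ hN hNW hQ
  have e₂ := cl_middle _ hS₂ hΩ hΩW hQ
  dsimp only at e₁ e₂
  rw [e₁, e₂]
  abel

/-- Let f : X ⟶ Y be a local complete intersection morphism in the factorisation sense (around each
point, locally of finite type and factoring as a Koszul-regular immersion followed by a smooth
morphism), and let f = i ≫ g = i' ≫ g' be two factorisations with g : V ⟶ Y and g' : V' ⟶ Y smooth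
and i, i' closed immersions. Let d : O_V → Ω and d' : O_{V'} → Ω' be universal Y-derivations
(sheaves of relative differentials of V and V' over Y). Then i^*Ω, i'^*Ω' and the conormal sheaves
N_i, N_{i'} are finite locally free, and in K₀ of finite locally free O_X-modules one has [i^*Ω] −
[N_i] = [i'^*Ω'] − [N_{i'}]: the virtual cotangent class of f does not depend on the factorisation. -/
theorem result {X Y V V' : Scheme.{u}} (f : X ⟶ Y) (hf : ∀ x : X, Synt.IsKoszulAt f x)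
    (g : V ⟶ Y) [Smooth g] (i : X ⟶ V) [IsClosedImmersion i] (hi : i ≫ g = f)
    (g' : V' ⟶ Y) [Smooth g'] (i' : X ⟶ V') [IsClosedImmersion i'] (hi' : i' ≫ g' = f)
    (Ω : V.Modules) (d : OmegaSh.Der g Ω) (hd : OmegaSh.IsUniversal d)
    (Ω' : V'.Modules) (d' : OmegaSh.Der g' Ω') (hd' : OmegaSh.IsUniversal d') :
    FlatMod.IsFinLocFree ((Scheme.Modules.pullback i).obj Ω) ∧ FlatMod.IsFinLocFree (Omega.conormal i) ∧
    FlatMod.IsFinLocFree ((Scheme.Modules.pullback i').obj Ω') ∧ FlatMod.IsFinLocFree (Omega.conormal i') ∧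
    KRR.cl X ((Scheme.Modules.pullback i).obj Ω) - KRR.cl X (Omega.conormal i) =
      KRR.cl X ((Scheme.Modules.pullback i').obj Ω') - KRR.cl X (Omega.conormal i') := by
  obtain ⟨hΩ, hN⟩ := Groth.Agent.CotCx18.isFinLocFree_factor f hf g i hi Ω d hd
  obtain ⟨hΩ', hN'⟩ := Groth.Agent.CotCx18.isFinLocFree_factor f hf g' i' hi' Ω' d' hd'
  refine ⟨hΩ, hN, hΩ', hN', ?_⟩
  obtain ⟨W, k, p, p', hk, hp, hp', hkp, hkp', hgg, hs⟩ :=
    Groth.Agent.CotCx18.exists_common_refinement f g i hi g' i' hi'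
  obtain ⟨ΩW, dW, hdW⟩ := Groth.Agent.OmegaGen18.exists_isUniversal (p ≫ g)
  exact (step f hf g i hi k p hkp (p ≫ g) rfl Ω d hd ΩW dW hdW).trans
    (step f hf g' i' hi' k p' hkp' (p ≫ g) hgg Ω' d' hd' ΩW dW hdW).symm

end Groth.Agent.S8668
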