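import Groth.Statements.S8669
import Groth.Agent.K0Proj46.Main

set_option autoImplicit false
universe v u
open CategoryTheory CategoryTheory.Limits AlgebraicGeometry
attribute [local instance] HasDerivedCategory.standard
open SGA6

namespace Groth.Agent.S8669

/-- Let S be a quasi-compact scheme, f : P = P^r_S ⟶ S the projection, and F, G finite locally free
O_P-modules whose classes in K₀ of finite locally free O_P-modules coincide. Then there is n₀ such
that for every n ≥ n₀ the modules f_*(F(n)) and f_*(G(n)) are finite locally free on S and have the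
same class in K₀ of finite locally free O_S-modules, where F(n) = O_P(n) ⊗ F. (The published
statement is for the projective bundle of any finite locally free module of rank r + 1; this row
takes the trivial bundle.) -/
theorem result (S : Scheme.{u}) [CompactSpace ↥S] (r : ℕ)
    (F G : (KRR.PY r S).Modules) (hF : FlatMod.IsFinLocFree F) (hG : FlatMod.IsFinLocFree G)
    (h : KRR.cl (KRR.PY r S) F = KRR.cl (KRR.PY r S) G) :
    ∃ n₀ : ℕ, ∀ n : ℕ, n₀ ≤ n →
      FlatMod.IsFinLocFree ((Scheme.Modules.pushforward (KRR.pr r S)).obj (KRR.twF r S (n : ℤ) F)) ∧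
      FlatMod.IsFinLocFree ((Scheme.Modules.pushforward (KRR.pr r S)).obj (KRR.twF r S (n : ℤ) G)) ∧
      KRR.cl S ((Scheme.Modules.pushforward (KRR.pr r S)).obj (KRR.twF r S (n : ℤ) F)) =
        KRR.cl S ((Scheme.Modules.pushforward (KRR.pr r S)).obj (KRR.twF r S (n : ℤ) G)) := by
  obtain ⟨J, hJ⟩ := Groth.Agent.K0Proj46.exists_eventually hF
  obtain ⟨J', hJ'⟩ := Groth.Agent.K0Proj46.exists_eventually hG
  refine ⟨(max J J').toNat, fun n hn => ?_⟩
  have hd : J ≤ (n : ℤ) ∧ J' ≤ (n : ℤ) := by omega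
  have h1 := (hJ n hd.1).2
  have h2 := (hJ' n hd.2).2
  refine ⟨h1, h2, ?_⟩
  have hA : ∀ {M : (KRR.PY r S).Modules} {J : ℤ}, (∀ d : ℤ, J ≤ d → (∀ i : ℕ, 1 ≤ i → Groth.Agent.KRR40.Van r S M i d) ∧
      FlatMod.IsFinLocFree ((Groth.Agent.K0Proj46.pushF r S).obj (KRR.twF r S d M))) → J ≤ (n : ℤ) →
      Groth.Agent.KRR40.Acy r S (KRR.twF r S (n : ℤ) M) := fun h hn d hd i hi =>
    (Groth.Agent.KRR40.van_twF_iff r S _ rfl).2 ((h _ (by omega)).1 i hi)
  rw [show KRR.cl S _ = _ from (Groth.Agent.K0Proj46.PC_cl (Groth.Agent.K0Proj46.flf_twF r S hF n) (hA hJ hd.1)).symm,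
    show KRR.cl S _ = _ from (Groth.Agent.K0Proj46.PC_cl (Groth.Agent.K0Proj46.flf_twF r S hG n) (hA hJ' hd.2)).symm,
    ← Groth.Agent.K0Proj46.TW_cl _ hF, ← Groth.Agent.K0Proj46.TW_cl _ hG]
  exact congrArg _ (congrArg _ h)

end Groth.Agent.S8669
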