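import Groth.Statements.S8678
import Groth.Agent.Lambda37.Basic

set_option autoImplicit false
universe u
open Finset
open LambdaRing

namespace Groth.Agent.S8678

open Groth.Agent.Lambda37

/-- As the identity it proves in the pre-λ-ring K(Y') of the exceptional divisor: let K be a pre-λ-ring
(λ^0 = 1, λ^1 = id, additive formula) with λ^k(1) = 0 for all k ≥ 2, let d ≥ 2, and let F, L, N' ∈ K
satisfy λ^j(L) = 0 for j ≥ 2 (L is the class of an invertible module), λ^i(N') = 0 for i ≥ d − 1 (N'
is the class of a bundle of rank d − 2) and F + L = N' + 2 (for the blowing up of a regular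
immersion of codimension d: on the exceptional divisor the pulled-back conormal class is F + L, and
N = N' + 2). Then 1 − L divides λ_{−1}(F) = Σ_{i<d} (−1)^i λ^i(F). (The published proof uses only
additivity of λ_t and λ_t(1) = 1 + t, the hypotheses taken here.) -/
theorem result (K : Type u) [CommRing K] [LambdaRing.LambdaOps K]
    (h1 : ∀ k : ℕ, 2 ≤ k → LambdaRing.LambdaOps.lam k (1 : K) = 0) (d : ℕ) (hd : 2 ≤ d) (F L N' : K)
    (hL : ∀ j : ℕ, 2 ≤ j → LambdaRing.LambdaOps.lam j L = 0) (hN' : ∀ i : ℕ, d - 1 ≤ i → LambdaRing.LambdaOps.lam i N' = 0)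
    (hrel : F + L = N' + 2) :
    (1 - L) ∣ ∑ i ∈ range d, (-1 : K) ^ i * LambdaRing.LambdaOps.lam i F := by
  have hs : ∀ i, LambdaOps.lam (i + 1) F + L * LambdaOps.lam i F =
      LambdaOps.lam (i + 1) N' + 2 * LambdaOps.lam i N' + (if i = 0 then 0 else LambdaOps.lam (i - 1) N') := by
    intro i
    have h := congrArg (fun z => PowerSeries.coeff (i + 1) (LambdaRing.lamSeries z)) hrel
    simp only [lamSeries_add] at h
    rw [lamSeries_eq_linear hL, show (2 : K) = ((2 : ℕ) : K) by norm_num, lamSeries_natCast h1, pow_two,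
      mul_add, mul_one, map_add, coeff_lamSeries, ← mul_assoc, PowerSeries.coeff_succ_mul_X,
      mul_comm (LambdaRing.lamSeries F) (PowerSeries.C L), PowerSeries.coeff_C_mul, coeff_lamSeries] at h
    rw [h]
    have e : LambdaRing.lamSeries N' * ((1 + PowerSeries.X) * (1 + PowerSeries.X)) = LambdaRing.lamSeries N' +
        (LambdaRing.lamSeries N' + LambdaRing.lamSeries N') * PowerSeries.X +
        LambdaRing.lamSeries N' * PowerSeries.X * PowerSeries.X := by ring
    rw [e, map_add, map_add, PowerSeries.coeff_succ_mul_X, PowerSeries.coeff_succ_mul_X, map_add,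
      coeff_lamSeries, coeff_lamSeries]
    rcases i with _ | i
    · simp; ring
    · rw [PowerSeries.coeff_succ_mul_X, coeff_lamSeries, if_neg (Nat.succ_ne_zero i)]; simp; ring
  have hmod : ∀ i, (1 - L) ∣ LambdaOps.lam i F - LambdaOps.lam i N' - (if i = 0 then 0 else LambdaOps.lam (i - 1) N') := by
    intro i
    induction i with
    | zero => simp [LambdaOps.lam_zero]
    | succ i ih =>
      have e : LambdaOps.lam (i + 1) F - LambdaOps.lam (i + 1) N' - (if i + 1 = 0 then 0 else LambdaOps.lam (i + 1 - 1) N') =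
          (1 - L) * LambdaOps.lam i F - (LambdaOps.lam i F - LambdaOps.lam i N' - (if i = 0 then 0 else LambdaOps.lam (i - 1) N')) := by
        rw [if_neg (Nat.succ_ne_zero i), Nat.add_sub_cancel]
        linear_combination hs i
      rw [e]
      exact dvd_sub (dvd_mul_right _ _) ih
  have hsum : ∀ N, (1 - L) ∣ (∑ i ∈ range (N + 1), (-1 : K) ^ i * LambdaOps.lam i F) - (-1 : K) ^ N * LambdaOps.lam N N' := by
    intro N
    induction N with
    | zero => simp [LambdaOps.lam_zero]
    | succ N ih =>
      have := dvd_add ih (Dvd.dvd.mul_left (hmod (N + 1)) ((-1 : K) ^ (N + 1)))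
      convert this using 1
      rw [if_neg (Nat.succ_ne_zero N), Nat.add_sub_cancel, Finset.sum_range_succ _ (N + 1), pow_succ]
      ring
  have := hsum (d - 1)
  rwa [hN' (d - 1) le_rfl, mul_zero, sub_zero, Nat.sub_add_cancel (by omega)] at this

end Groth.Agent.S8678
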