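import Groth.Statements.S8681
import Groth.Agent.CotCx18.Rank

set_option autoImplicit false
universe u
open CategoryTheory CategoryTheory.Limits AlgebraicGeometry
open Synt

namespace Groth.Agent.S8681

open Groth.Agent.CotCx18 in
theorem step {X Y V W : Scheme.{u}} (g : V ⟶ Y) (i : X ⟶ V) [IsClosedImmersion i] (k : X ⟶ W) [IsClosedImmersion k]
    (p : W ⟶ V) [Smooth p] (hk : k ≫ p = i) (gW : W ⟶ Y) (hgW : p ≫ g = gW)
    (Ω : V.Modules) (d : OmegaSh.Der g Ω) (hd : OmegaSh.IsUniversal d)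
    (ΩW : W.Modules) (dW : OmegaSh.Der gW ΩW) (hdW : OmegaSh.IsUniversal dW)
    (x : X) (a b : ℕ) (U₁ U₂ : X.Opens) (h₁ : x ∈ U₁) (h₂ : x ∈ U₂)
    (ha : FlatMod.IsFinLocFreeOfRank a ((Scheme.Modules.restrictFunctor U₁.ι).obj ((Scheme.Modules.pullback i).obj Ω)))
    (hb : FlatMod.IsFinLocFreeOfRank b ((Scheme.Modules.restrictFunctor U₂.ι).obj (Omega.conormal i))) :
    (rk ((Scheme.Modules.pullback k).obj ΩW) x : ℤ) - rk (Omega.conormal k) x = (a : ℤ) - b := by
  subst hk hgW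
  obtain ⟨Q, ψ, χ, ρ, σ, w₁, w₂, hQ, hS₁, hS₂, -⟩ := exists_sequences k p g hd hdW
  obtain ⟨hfa, hfa', ea⟩ := free_of_restrict ha h₁
  obtain ⟨hfb, hfb', eb⟩ := free_of_restrict hb h₂
  have e₁ := rk_middle _ hS₁ hQ x
  have e₂ := rk_middle _ hS₂ hQ x
  dsimp only at e₁ e₂
  omega

/-- Let f : X ⟶ Y be a local complete intersection morphism in the factorisation sense (around each
point, locally of finite type and factoring as a Koszul-regular immersion followed by a smooth
morphism), with two factorisations f = i ≫ g = i' ≫ g' where g : V ⟶ Y, g' : V' ⟶ Y are smooth and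
i, i' are closed immersions, and let d : O_V → Ω, d' : O_{V'} → Ω' be universal Y-derivations. Let x
∈ X and suppose that on open neighbourhoods of x the modules i^*Ω, N_i (conormal sheaf of i), i'^*Ω'
and N_{i'} are free of ranks a, b, a', b'. Then a − b = a' − b': the integer rank(Ω_{V/Y} at i(x)) −
rank(N_i at x), the virtual relative dimension of f at x, is independent of the factorisation. (The
published statement allows factorisations defined only near x and arbitrary immersions; this row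
takes global factorisations through closed immersions.) -/
theorem result {X Y V V' : Scheme.{u}} (f : X ⟶ Y) (hf : ∀ x : X, Synt.IsKoszulAt f x)
    (g : V ⟶ Y) [Smooth g] (i : X ⟶ V) [IsClosedImmersion i] (hi : i ≫ g = f)
    (g' : V' ⟶ Y) [Smooth g'] (i' : X ⟶ V') [IsClosedImmersion i'] (hi' : i' ≫ g' = f)
    (Ω : V.Modules) (d : OmegaSh.Der g Ω) (hd : OmegaSh.IsUniversal d)
    (Ω' : V'.Modules) (d' : OmegaSh.Der g' Ω') (hd' : OmegaSh.IsUniversal d')
    (x : X) (a b a' b' : ℕ) (U₁ U₂ U₃ U₄ : X.Opens) (h₁ : x ∈ U₁) (h₂ : x ∈ U₂) (h₃ : x ∈ U₃) (h₄ : x ∈ U₄)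
    (ha : FlatMod.IsFinLocFreeOfRank a ((Scheme.Modules.restrictFunctor U₁.ι).obj ((Scheme.Modules.pullback i).obj Ω)))
    (hb : FlatMod.IsFinLocFreeOfRank b ((Scheme.Modules.restrictFunctor U₂.ι).obj (Omega.conormal i)))
    (ha' : FlatMod.IsFinLocFreeOfRank a' ((Scheme.Modules.restrictFunctor U₃.ι).obj ((Scheme.Modules.pullback i').obj Ω')))
    (hb' : FlatMod.IsFinLocFreeOfRank b' ((Scheme.Modules.restrictFunctor U₄.ι).obj (Omega.conormal i'))) :
    (a : ℤ) - b = (a' : ℤ) - b' := by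
  obtain ⟨W, k, p, p', hk, hp, hp', hkp, hkp', hgg, -⟩ :=
    Groth.Agent.CotCx18.exists_common_refinement f g i hi g' i' hi'
  obtain ⟨ΩW, dW, hdW⟩ := Groth.Agent.OmegaGen18.exists_isUniversal (p ≫ g)
  have e := step g i k p hkp (p ≫ g) rfl Ω d hd ΩW dW hdW x a b U₁ U₂ h₁ h₂ ha hb
  have e' := step g' i' k p' hkp' (p ≫ g) hgg Ω' d' hd' ΩW dW hdW x a' b' U₃ U₄ h₃ h₄ ha' hb'
  exact e.symm.trans e'

end Groth.Agent.S8681
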