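import Groth.Statements.S8682
import Groth.Agent.CotCx18.Common

set_option autoImplicit false
universe u
open CategoryTheory CategoryTheory.Limits AlgebraicGeometry
attribute [local instance] HasDerivedCategory.standard
open Synt

namespace Groth.Agent.S8682

theorem step {X Y V W : Scheme.{u}} (g : V ⟶ Y) (i : X ⟶ V) [IsClosedImmersion i] (k : X ⟶ W) [IsClosedImmersion k]
    (p : W ⟶ V) [Smooth p] (hk : k ≫ p = i) (gW : W ⟶ Y) (hgW : p ≫ g = gW)
    (Ω : V.Modules) (d : OmegaSh.Der g Ω) (hd : OmegaSh.IsUniversal d)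
    (ΩW : W.Modules) (dW : OmegaSh.Der gW ΩW) (hdW : OmegaSh.IsUniversal dW)
    (φ : Omega.conormal i ⟶ (Scheme.Modules.pullback i).obj Ω) (hφ : OmegaSh.IsConormalDiff i d φ)
    (φW : Omega.conormal k ⟶ (Scheme.Modules.pullback k).obj ΩW) (hφW : OmegaSh.IsConormalDiff k dW φW) :
    Nonempty (DCoh.toD X (HomologicalComplex.double φ (show (ComplexShape.up ℤ).Rel (-1 : ℤ) 0 from neg_add_cancel (1 : ℤ))) ≅
      DCoh.toD X (HomologicalComplex.double φW (show (ComplexShape.up ℤ).Rel (-1 : ℤ) 0 from neg_add_cancel (1 : ℤ)))) := by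
  subst hk hgW
  obtain ⟨F, hF⟩ := Groth.Agent.CotCx18.exists_quasiIso_refine k p g hd hdW hφ hφW
  have : QuasiIso F := hF
  exact ⟨asIso (DerivedCategory.Q.map F)⟩

/-- Let f : X ⟶ Y admit two factorisations f = i ≫ g = i' ≫ g' with g : V ⟶ Y, g' : V' ⟶ Y smooth and i,
i' closed immersions. Let d : O_V → Ω and d' : O_{V'} → Ω' be universal Y-derivations and let φ :
N_i ⟶ i^*Ω, φ' : N_{i'} ⟶ i'^*Ω' be the maps induced by d and d' on the conormal sheaves (pinned by
their values on classes of local sections of the ideals). Then the cotangent complexes [N_i → i^*Ω]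
and [N_{i'} → i'^*Ω'], placed in degrees −1 and 0, are isomorphic in the derived category of
O_X-modules. The published statement names a canonical isomorphism; this row asserts only that an
isomorphism exists. -/
theorem result {X Y V V' : Scheme.{u}} (f : X ⟶ Y)
    (g : V ⟶ Y) [Smooth g] (i : X ⟶ V) [IsClosedImmersion i] (hi : i ≫ g = f)
    (g' : V' ⟶ Y) [Smooth g'] (i' : X ⟶ V') [IsClosedImmersion i'] (hi' : i' ≫ g' = f)
    (Ω : V.Modules) (d : OmegaSh.Der g Ω) (hd : OmegaSh.IsUniversal d)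
    (Ω' : V'.Modules) (d' : OmegaSh.Der g' Ω') (hd' : OmegaSh.IsUniversal d')
    (φ : Omega.conormal i ⟶ (Scheme.Modules.pullback i).obj Ω) (hφ : OmegaSh.IsConormalDiff i d φ)
    (φ' : Omega.conormal i' ⟶ (Scheme.Modules.pullback i').obj Ω') (hφ' : OmegaSh.IsConormalDiff i' d' φ') :
    Nonempty (DCoh.toD X (HomologicalComplex.double φ (show (ComplexShape.up ℤ).Rel (-1 : ℤ) 0 from neg_add_cancel (1 : ℤ))) ≅
      DCoh.toD X (HomologicalComplex.double φ' (show (ComplexShape.up ℤ).Rel (-1 : ℤ) 0 from neg_add_cancel (1 : ℤ)))) := by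
  obtain ⟨W, k, p, p', hk, hp, hp', hkp, hkp', hgg, -⟩ :=
    Groth.Agent.CotCx18.exists_common_refinement f g i hi g' i' hi'
  obtain ⟨ΩW, dW, hdW⟩ := Groth.Agent.OmegaGen18.exists_isUniversal (p ≫ g)
  obtain ⟨φW, hφW⟩ := Groth.Agent.Rib52.exists_conormalDiff k dW
  obtain ⟨e⟩ := step g i k p hkp (p ≫ g) rfl Ω d hd ΩW dW hdW φ hφ φW hφW
  obtain ⟨e'⟩ := step g' i' k p' hkp' (p ≫ g) hgg Ω' d' hd' ΩW dW hdW φ' hφ' φW hφW
  exact ⟨e ≪≫ e'.symm⟩

end Groth.Agent.S8682
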