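import Groth.Statements.S8683
import Groth.Agent.CotCx18.Delta
import Groth.Agent.AffNorm62.Basic
import Groth.Agent.S3713

set_option autoImplicit false
universe u
open CategoryTheory CategoryTheory.Limits AlgebraicGeometry
open Synt

namespace Groth.Agent.S8683

open Groth.Agent.CotCx18 in
theorem delta_local {X Y V T : Scheme.{u}} (f : X ⟶ Y) (hf : ∀ x : X, Synt.IsKoszulAt f x)
    (g : V ⟶ Y) [Smooth g] (i : X ⟶ V) [IsClosedImmersion i] (hi : i ≫ g = f)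
    (Ω : V.Modules) (d : OmegaSh.Der g Ω) (hd : OmegaSh.IsUniversal d) (X₀ : X.Opens)
    (gT : T ⟶ Y) [Smooth gT] (k : (X₀ : Scheme.{u}) ⟶ T) [IsClosedImmersion k] (hk : k ≫ gT = X₀.ι ≫ f)
    (ΩT : T.Modules) (dT : OmegaSh.Der gT ΩT) (hdT : OmegaSh.IsUniversal dT) (x : (X₀ : Scheme.{u})) :
    delta k ΩT x = delta i Ω x.1 := by
  obtain ⟨V₀, hV₀, hpre⟩ := i.isClosedEmbedding.isInducing.isOpen_iff.1 X₀.isOpen
  obtain rfl : X₀ = i ⁻¹ᵁ ⟨V₀, hV₀⟩ := TopologicalSpace.Opens.ext hpre.symm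
  let A : V.Opens := ⟨V₀, hV₀⟩
  obtain ⟨Ω₀, d₀, hd₀⟩ := Groth.Agent.OmegaGen18.exists_isUniversal (A.ι ≫ g)
  have hf₀ : ∀ z, Synt.IsKoszulAt ((i ⁻¹ᵁ A).ι ≫ f) z :=
    (Groth.Agent.FlatMor68.KoszulCalc.forall_isKoszulAt_iff _).2
      (Groth.Agent.FlatMor68.KoszulCalc.lciProp_comp _ _ (Groth.Agent.FlatMor68.KoszulCalc.lciProp_smooth _)
        ((Groth.Agent.FlatMor68.KoszulCalc.forall_isKoszulAt_iff f).1 hf))
  have hres : (i ∣_ A) ≫ A.ι ≫ g = (i ⁻¹ᵁ A).ι ≫ f := by rw [morphismRestrict_ι_assoc, hi]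
  exact (delta_eq ((i ⁻¹ᵁ A).ι ≫ f) hf₀ gT k hk (A.ι ≫ g) (i ∣_ A) hres hdT hd₀ x).trans
    (delta_restrict g i (isFinLocFree_factor f hf g i hi Ω d hd).2 hd A hd₀ x)

open Groth.Agent.CotCx18 in
theorem delta_of_free {X Y V : Scheme.{u}} (g : V ⟶ Y) [Smooth g] (i : X ⟶ V)
    (Ω : V.Modules) (d : OmegaSh.Der g Ω) (hd : OmegaSh.IsUniversal d) (x : X) {a b : ℕ} {U₁ U₂ : X.Opens}
    (h₁ : x ∈ U₁) (h₂ : x ∈ U₂)
    (ha : FlatMod.IsFinLocFreeOfRank a ((Scheme.Modules.restrictFunctor U₁.ι).obj ((Scheme.Modules.pullback i).obj Ω)))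
    (hb : FlatMod.IsFinLocFreeOfRank b ((Scheme.Modules.restrictFunctor U₂.ι).obj (Omega.conormal i))) :
    delta i Ω x = (a : ℤ) - b := by
  obtain ⟨_, _, ea⟩ := free_of_restrict ha h₁
  obtain ⟨_, _, eb⟩ := free_of_restrict hb h₂
  rw [delta, ← rk_pullback i (isFinLocFree_omega g hd) x, ea, eb]

/-- Let f : X ⟶ Y and g : Y ⟶ Z be local complete intersection morphisms in the factorisation sense,
with factorisations f = i_f ≫ g_f, g = i_g ≫ g_g and f ≫ g = i_h ≫ g_h through smooth morphisms g_f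
: V ⟶ Y, g_g : W ⟶ Z, g_h : T ⟶ Z by closed immersions, universal derivations d_f, d_g, d_h (sheaves
of differentials Ω_f, Ω_g, Ω_h of V/Y, W/Z, T/Z), and x ∈ X. Suppose that on open neighbourhoods of
x the modules i_f^*Ω_f, N_{i_f}, i_h^*Ω_h, N_{i_h} are free of ranks a_f, b_f, a_h, b_h and that on
open neighbourhoods of f(x) the modules i_g^*Ω_g, N_{i_g} are free of ranks a_g, b_g. Then a_h − b_h
= (a_f − b_f) + (a_g − b_g): virtual relative dimensions add under composition. (The published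
statement allows local factorisations through arbitrary immersions; this row takes global
closed-immersion factorisations.) -/
theorem result {X Y Z V W T : Scheme.{u}} (f : X ⟶ Y) (g : Y ⟶ Z)
    (hf : ∀ x : X, Synt.IsKoszulAt f x) (hg : ∀ y : Y, Synt.IsKoszulAt g y)
    (gf : V ⟶ Y) [Smooth gf] (jf : X ⟶ V) [IsClosedImmersion jf] (hjf : jf ≫ gf = f)
    (gg : W ⟶ Z) [Smooth gg] (jg : Y ⟶ W) [IsClosedImmersion jg] (hjg : jg ≫ gg = g)
    (gh : T ⟶ Z) [Smooth gh] (jh : X ⟶ T) [IsClosedImmersion jh] (hjh : jh ≫ gh = f ≫ g)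
    (Ωf : V.Modules) (df : OmegaSh.Der gf Ωf) (hdf : OmegaSh.IsUniversal df)
    (Ωg : W.Modules) (dg : OmegaSh.Der gg Ωg) (hdg : OmegaSh.IsUniversal dg)
    (Ωh : T.Modules) (dh : OmegaSh.Der gh Ωh) (hdh : OmegaSh.IsUniversal dh)
    (x : X) (af bf ag bg ah bh : ℕ) (U₁ U₂ U₃ U₄ : X.Opens) (U₅ U₆ : Y.Opens)
    (h₁ : x ∈ U₁) (h₂ : x ∈ U₂) (h₃ : x ∈ U₃) (h₄ : x ∈ U₄) (h₅ : f x ∈ U₅) (h₆ : f x ∈ U₆)
    (haf : FlatMod.IsFinLocFreeOfRank af ((Scheme.Modules.restrictFunctor U₁.ι).obj ((Scheme.Modules.pullback jf).obj Ωf)))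
    (hbf : FlatMod.IsFinLocFreeOfRank bf ((Scheme.Modules.restrictFunctor U₂.ι).obj (Omega.conormal jf)))
    (hah : FlatMod.IsFinLocFreeOfRank ah ((Scheme.Modules.restrictFunctor U₃.ι).obj ((Scheme.Modules.pullback jh).obj Ωh)))
    (hbh : FlatMod.IsFinLocFreeOfRank bh ((Scheme.Modules.restrictFunctor U₄.ι).obj (Omega.conormal jh)))
    (hag : FlatMod.IsFinLocFreeOfRank ag ((Scheme.Modules.restrictFunctor U₅.ι).obj ((Scheme.Modules.pullback jg).obj Ωg)))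
    (hbg : FlatMod.IsFinLocFreeOfRank bg ((Scheme.Modules.restrictFunctor U₆.ι).obj (Omega.conormal jg))) :
    (ah : ℤ) - bh = ((af : ℤ) - bf) + ((ag : ℤ) - bg) := by
  rw [← delta_of_free gf jf Ωf df hdf x h₁ h₂ haf hbf, ← delta_of_free gh jh Ωh dh hdh x h₃ h₄ hah hbh,
    ← delta_of_free gg jg Ωg dg hdg (f x) h₅ h₆ hag hbg]
  obtain ⟨W₀, hW₀, hW₀x, -⟩ := exists_isAffineOpen_mem_and_subset (X := W) (x := jg (f x)) (U := ⊤) trivial
  obtain ⟨X₀, hX₀, hxX₀, hX₀W⟩ := exists_isAffineOpen_mem_and_subset (X := X) (x := x) (U := (f ≫ jg) ⁻¹ᵁ W₀) hW₀x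
  have : LocallyOfFiniteType f := hjf ▸ inferInstance
  have : IsAffine (X₀ : Scheme.{u}) := hX₀
  have : IsAffine (W₀ : Scheme.{u}) := hW₀
  let h₀ := (f ≫ jg).resLE W₀ X₀ hX₀W
  have : LocallyOfFiniteType h₀ := by
    dsimp only [h₀, Scheme.Hom.resLE]
    infer_instance
  obtain ⟨m, b, hb⟩ := Groth.Agent.AffNorm62.exists_isClosedImmersion_homOfVector h₀
  let n := ULift.{u} (Fin m)
  have : Smooth (AffineSpace n (W₀ : Scheme.{u}) ↘ (W₀ : Scheme.{u})) := Groth.Agent.S3713.smooth_over _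
  let p := (AffineSpace n (W₀ : Scheme.{u}) ↘ (W₀ : Scheme.{u})) ≫ W₀.ι
  let k : (X₀ : Scheme.{u}) ⟶ AffineSpace n (W₀ : Scheme.{u}) := AffineSpace.homOfVector h₀ b
  have hkp : (X₀.ι ≫ f) ≫ jg = k ≫ p := by
    simp only [p, k, AffineSpace.homOfVector_over_assoc, h₀, Scheme.Hom.resLE_comp_ι, Category.assoc]
  let j := pullback.lift (X₀.ι ≫ f) k hkp
  have : IsClosedImmersion k := hb
  have : IsClosedImmersion (j ≫ pullback.snd jg p) := by rw [pullback.lift_snd]; exact hb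
  have : IsClosedImmersion j := IsClosedImmersion.of_comp j (pullback.snd jg p)
  have hf₀ : ∀ z, Synt.IsKoszulAt (X₀.ι ≫ f) z :=
    (Groth.Agent.FlatMor68.KoszulCalc.forall_isKoszulAt_iff _).2
      (Groth.Agent.FlatMor68.KoszulCalc.lciProp_comp _ _ (Groth.Agent.FlatMor68.KoszulCalc.lciProp_smooth _)
        ((Groth.Agent.FlatMor68.KoszulCalc.forall_isKoszulAt_iff f).1 hf))
  have hj := Groth.Agent.S8656.result (X₀.ι ≫ f) hf₀ (pullback.fst jg p) j (pullback.lift_fst _ _ _)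
  have hi := Groth.Agent.S8656.result g hg gg jg hjg
  obtain ⟨ΩT, dT, hdT⟩ := Groth.Agent.OmegaGen18.exists_isUniversal (p ≫ gg)
  obtain ⟨ΩQ, dQ, hdQ⟩ := Groth.Agent.OmegaGen18.exists_isUniversal (pullback.fst jg p)
  have hkZ : (j ≫ pullback.snd jg p) ≫ p ≫ gg = X₀.ι ≫ f ≫ g := by
    rw [pullback.lift_snd, ← reassoc_of% hkp, ← hjg]
  have hfg : ∀ z, Synt.IsKoszulAt (f ≫ g) z := Groth.Agent.FlatMor68.KoszulCalc.t8661 f g hf hg
  have e := Groth.Agent.CotCx18.delta_comp gg jg hi p (pullback.fst jg p) (pullback.snd jg p)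
    (IsPullback.of_hasPullback _ _) j hj hdg hdT hdQ ⟨x, hxX₀⟩
  rw [delta_local (f ≫ g) hfg gh jh hjh Ωh dh hdh X₀ (p ≫ gg) _ hkZ ΩT dT hdT,
    delta_local f hf gf jf hjf Ωf df hdf X₀ (pullback.fst jg p) j (pullback.lift_fst _ _ _) ΩQ dQ hdQ,
    ← Scheme.Hom.comp_apply, pullback.lift_fst] at e
  exact e.trans (add_comm _ _)

end Groth.Agent.S8683
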