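import Groth.Statements.S8697
import Groth.Agent.Lam38.Fil

set_option autoImplicit false
universe u v
open Finset
open LambdaRing

namespace Groth.Agent.S8697

/-- Let K be a binomial ring with its binomial λ-structure and B a λ-ring in the strict sense which is
an augmented K-λ-algebra with augmentation ε. Let x ∈ B satisfy ε(x) = 0 and γ^k(x) = 0 for every k
> n, and assume that γ^1(x), …, γ^n(x) are algebraically independent over K and generate B as a
K-algebra — so B is the K-λ-algebra generated by one element subject to the relations γ^k = 0 for k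
> n, a polynomial ring K[γ^1 x, …, γ^n x]. Then for every k, the k-th ideal Fil^k B of the
γ-filtration (generated by the products of γ^{i}(z), ε(z) = 0, of total weight ≥ k) is the ideal
generated by the monomials ∏_j (γ^j x)^{e_j} with Σ_j j·e_j ≥ k: the λ-ring filtration is the
filtration by the weight in the γ^j x. (With λ in place of γ — relations λ^k x = 0 for k > n and
weights in the λ^j x — the assertion fails already for n = 1, where γ^i(x) = x for all i ≥ 1 puts x
in every Fil^k while x is not in the ideal (x²); the form with γ stated here is the one the proof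
establishes.) The hypotheses hP and hQ, existence of the universal polynomials, are true statements
carried so that the identities of B can be used at every index. -/
theorem result
    (K : Type u) [CommRing K] [LambdaRing.LambdaOps K] [BinomialRing K] (hKb : LambdaRing.IsBinomial K)
    (hK : LambdaRing.IsSpecial K)
    (B : Type v) [CommRing B] [LambdaRing.LambdaOps B] [Algebra K B] (hB : LambdaRing.IsSpecial B)
    (hP : ∀ n : ℕ, ∃ P : MvPolynomial (Fin n ⊕ Fin n) ℤ, LambdaRing.IsMulPoly n P)
    (hQ : ∀ i j : ℕ, ∃ Q : MvPolynomial (Fin (i * j)) ℤ, LambdaRing.IsCompPoly i j Q)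
    (ε : B →ₐ[K] K) (hε : LambdaRing.IsAugLambdaAlg K B ε)
    (n : ℕ) (x : B) (hx : ε x = 0) (hγ : ∀ k : ℕ, n < k → LambdaRing.gamma k x = 0)
    (hind : AlgebraicIndependent K (fun j : Fin n => LambdaRing.gamma ((j : ℕ) + 1) x))
    (hgen : Algebra.adjoin K (Set.range fun j : Fin n => LambdaRing.gamma ((j : ℕ) + 1) x) = ⊤)
    (k : ℕ) :
    LambdaRing.gammaFil (ε : B →+* K) k =
      Ideal.span {m : B | ∃ e : Fin n → ℕ, k ≤ ∑ j : Fin n, ((j : ℕ) + 1) * e j ∧
        m = ∏ j : Fin n, LambdaRing.gamma ((j : ℕ) + 1) x ^ e j} := by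
  set T : ℕ → Ideal B := fun k => Ideal.span {m : B | ∃ e : Fin n → ℕ, k ≤ ∑ j : Fin n, ((j : ℕ) + 1) * e j ∧
      m = ∏ j : Fin n, LambdaRing.gamma ((j : ℕ) + 1) x ^ e j}
  have hT : Lam38.Mult T :=
    { zero := eq_top_iff.mpr fun y _ => by
        have h1 : (1 : B) ∈ T 0 := Ideal.subset_span ⟨fun _ => 0, Nat.zero_le _, by simp⟩
        simpa using Ideal.mul_mem_left _ y h1
      anti := fun hab => Ideal.span_mono fun _ ⟨e, h1, h2⟩ => ⟨e, hab.trans h1, h2⟩
      mul := fun {a b u w} hu hw => by
        have h := Ideal.mul_mem_mul hu hw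
        simp only [T, Ideal.span_mul_span'] at h
        refine Ideal.span_mono ?_ h
        rintro _ ⟨_, ⟨e, h1, rfl⟩, _, ⟨e', h1', rfl⟩, rfl⟩
        refine ⟨fun j => e j + e' j, ?_, by simp [pow_add, Finset.prod_mul_distrib]⟩
        simp only [mul_add, Finset.sum_add_distrib]
        omega }
  have hgood : Lam38.Good T x := fun j => by
    rcases j with _ | j
    · exact hT.mem_zero _
    by_cases hj : j < n
    · refine Ideal.subset_span ⟨fun t => if t = ⟨j, hj⟩ then 1 else 0, ?_, ?_⟩
      · simp
      · simp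
    · rw [hγ (j + 1) (by omega)]
      exact zero_mem _
  have hL := hε.isLambdaAlg
  have htop : Lam38.goodAlg ε hKb hB hL hT = ⊤ := by
    rw [eq_top_iff, ← hgen, Algebra.adjoin_le_iff]
    rintro _ ⟨j, rfl⟩
    have he : ε (LambdaRing.gamma ((j : ℕ) + 1) x) = 0 := by
      rw [Lam38.map_gamma_aug hε, hx, Lam38.gamma_zero_succ]
    show Lam38.Good T (_ - algebraMap K B (ε _))
    rw [he, map_zero, sub_zero]
    exact Lam38.Good.gamma hT hB hgood _
  refine le_antisymm (Lam38.fil_le hT (fun y hy => Lam38.good_of_aug hKb hB hL hT htop hy) k) ?_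
  refine Ideal.span_le.mpr ?_
  rintro _ ⟨e, h1, rfl⟩
  exact (Lam38.fil_mult ε).anti h1 (by
    refine (Lam38.fil_mult ε).prod _ _ _ fun j _ => ?_
    rw [mul_comm]
    exact (Lam38.fil_mult ε).pow (Lam38.gamma_mem_fil hx _) _)

end Groth.Agent.S8697
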