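import Groth.Statements.S8698
import Groth.Agent.Lam38.Fil

set_option autoImplicit false
universe u v w
open Finset
open LambdaRing

namespace Groth.Agent.S8698

/-- Let K be a binomial ring with its binomial λ-structure, A a λ-ring in the strict sense which is an
augmented K-λ-algebra with augmentation ε_A, and B a λ-ring in the strict sense which is at once an
augmented K-λ-algebra with augmentation ε_B and an A-algebra compatibly with the K-structures, the
structure map A → B commuting with the λ^n and ε_B restricting to ε_A on A. Let x ∈ B with ε_B(x) =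
0, and assume that the family (γ^{j+1} x)_{j ∈ ℕ} is algebraically independent over A and generates
B as an A-algebra: B is the free λ-ring A[X, γ^2 X, γ^3 X, …] on one generator over A, augmented by
X ↦ 0. Then for every k the k-th ideal Fil^k B of the γ-filtration of B is the ideal generated by
the products a · m where m = ∏_j (γ^{j+1} x)^{e_j} is a monomial of weight i = Σ_j (j+1) e_j and a
lies in (the image of) Fil^{k−i} A, with Fil^s A = A for s ≤ 0; that is, Fil^k B = Fil^k A +
Fil^{k−1} A·M_1 + ⋯ + Fil^0 A·M_k + (monomials of weight > k), M_i denoting the monomials of weight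
i. The hypotheses hP and hQ, existence of the universal polynomials, are true statements carried so
that the identities of A and B can be used at every index. -/
theorem result
    (K : Type u) [CommRing K] [LambdaRing.LambdaOps K] [BinomialRing K] (hKb : LambdaRing.IsBinomial K)
    (hK : LambdaRing.IsSpecial K)
    (A : Type v) [CommRing A] [LambdaRing.LambdaOps A] [Algebra K A] (hA : LambdaRing.IsSpecial A)
    (εA : A →ₐ[K] K) (hεA : LambdaRing.IsAugLambdaAlg K A εA)
    (B : Type w) [CommRing B] [LambdaRing.LambdaOps B] [Algebra K B] [Algebra A B] [IsScalarTower K A B]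
    (hB : LambdaRing.IsSpecial B) (hAB : LambdaRing.IsLambdaAlg A B)
    (εB : B →ₐ[K] K) (hεB : LambdaRing.IsAugLambdaAlg K B εB) (hεAB : ∀ a : A, εB (algebraMap A B a) = εA a)
    (hP : ∀ n : ℕ, ∃ P : MvPolynomial (Fin n ⊕ Fin n) ℤ, LambdaRing.IsMulPoly n P)
    (hQ : ∀ i j : ℕ, ∃ Q : MvPolynomial (Fin (i * j)) ℤ, LambdaRing.IsCompPoly i j Q)
    (x : B) (hx : εB x = 0)
    (hind : AlgebraicIndependent A (fun j : ℕ => LambdaRing.gamma (j + 1) x))
    (hgen : Algebra.adjoin A (Set.range fun j : ℕ => LambdaRing.gamma (j + 1) x) = ⊤)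
    (k : ℕ) :
    LambdaRing.gammaFil (εB : B →+* K) k =
      Ideal.span {b : B | ∃ (e : ℕ →₀ ℕ) (a : A),
        a ∈ LambdaRing.gammaFil (εA : A →+* K) (k - e.sum fun j n => (j + 1) * n) ∧
        b = algebraMap A B a * e.prod fun j n => LambdaRing.gamma (j + 1) x ^ n} := by
  set T : ℕ → Ideal B := fun k => Ideal.span {b : B | ∃ (e : ℕ →₀ ℕ) (a : A),
        a ∈ LambdaRing.gammaFil (εA : A →+* K) (k - e.sum fun j n => (j + 1) * n) ∧
        b = algebraMap A B a * e.prod fun j n => LambdaRing.gamma (j + 1) x ^ n}
  have hT : Lam38.Mult T :=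
    { zero := eq_top_iff.mpr fun y _ => by
        have h1 : (1 : B) ∈ T 0 := Ideal.subset_span ⟨0, 1, by
          rw [show 0 - ((0 : ℕ →₀ ℕ).sum fun j n => (j + 1) * n) = 0 from Nat.zero_sub _]
          exact (Lam38.fil_mult εA).mem_zero 1, by simp⟩
        simpa using Ideal.mul_mem_left _ y h1
      anti := fun hab => Ideal.span_mono fun _ ⟨e, a, h1, h2⟩ =>
        ⟨e, a, (Lam38.fil_mult εA).anti (Nat.sub_le_sub_right hab _) h1, h2⟩
      mul := fun {a b u w} hu hw => by
        have h := Ideal.mul_mem_mul hu hw
        simp only [T, Ideal.span_mul_span'] at h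
        refine Ideal.span_mono ?_ h
        rintro _ ⟨_, ⟨e, p, h1, rfl⟩, _, ⟨e', p', h1', rfl⟩, rfl⟩
        refine ⟨e + e', p * p', ?_, ?_⟩
        · refine (Lam38.fil_mult εA).anti ?_ ((Lam38.fil_mult εA).mul h1 h1')
          rw [Finsupp.sum_add_index' (by simp) (by intros; ring)]
          omega
        · rw [Finsupp.prod_add_index' (by simp) (by intros; ring), map_mul]
          ring }
  have hgx : Lam38.Good T x := fun j => by
    rcases j with _ | j
    · exact hT.mem_zero _
    refine Ideal.subset_span ⟨Finsupp.single j 1, 1, ?_, by simp⟩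
    rw [Finsupp.sum_single_index (by simp), mul_one, Nat.sub_self]
    exact (Lam38.fil_mult εA).mem_zero 1
  have hmapγ : ∀ i (a : A), algebraMap A B (LambdaRing.gamma i a) = LambdaRing.gamma i (algebraMap A B a) :=
    fun i a => Lam38.map_gamma' (algebraMap A B) hAB i a
  have hL := hεB.isLambdaAlg
  have htop : Lam38.goodAlg εB hKb hB hL hT = ⊤ := by
    refine eq_top_iff.mpr fun b _ => ?_
    have hmem : b ∈ Algebra.adjoin A (Set.range fun j : ℕ => LambdaRing.gamma (j + 1) x) := by
      rw [hgen]; trivial
    induction hmem using Algebra.adjoin_induction with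
    | mem y hy =>
      obtain ⟨j, rfl⟩ := hy
      have he : εB (LambdaRing.gamma (j + 1) x) = 0 := by
        rw [Lam38.map_gamma_aug hεB, hx, Lam38.gamma_zero_succ]
      show Lam38.Good T (_ - algebraMap K B (εB _))
      rw [he, map_zero, sub_zero]
      exact Lam38.Good.gamma hT hB hgx _
    | algebraMap a =>
      show Lam38.Good T (_ - algebraMap K B (εB _))
      rw [hεAB, IsScalarTower.algebraMap_apply K A B, ← map_sub]
      intro i
      rw [← hmapγ]
      refine Ideal.subset_span ⟨0, LambdaRing.gamma i (a - algebraMap K A (εA a)), ?_, by simp⟩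
      exact (Lam38.fil_mult εA).anti (Nat.sub_le _ _) (Lam38.gamma_mem_fil (Lam38.aug_sub a) i)
    | add p q _ _ hp hq => exact Subalgebra.add_mem _ (hp trivial) (hq trivial)
    | mul p q _ _ hp hq => exact Subalgebra.mul_mem _ (hp trivial) (hq trivial)
  refine le_antisymm (Lam38.fil_le hT (fun y hy => Lam38.good_of_aug hKb hB hL hT htop hy) k) ?_
  refine Ideal.span_le.mpr ?_
  rintro _ ⟨e, a, h1, rfl⟩
  have hmap : ∀ s, ∀ u ∈ LambdaRing.gammaFil (εA : A →+* K) s,
      algebraMap A B u ∈ LambdaRing.gammaFil (εB : B →+* K) s := by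
    intro s u hu
    induction hu using Submodule.span_induction with
    | mem w hw =>
      obtain ⟨l, h1, h2, rfl⟩ := hw
      refine Ideal.subset_span ⟨l.map fun p => (p.1, algebraMap A B p.2), ?_, ?_, ?_⟩
      · intro p hp
        obtain ⟨q, hq, rfl⟩ := List.mem_map.mp hp
        exact (hεAB q.2).trans (h1 q hq)
      · simpa [List.map_map, Function.comp_def] using h2
      · rw [map_list_prod, List.map_map, List.map_map]
        exact congrArg List.prod (List.map_congr_left fun p _ => hmapγ p.1 p.2)
    | zero => rw [map_zero]; exact zero_mem _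
    | add p q _ _ hp hq => rw [map_add]; exact add_mem hp hq
    | smul r p _ hp => rw [smul_eq_mul, map_mul]; exact Ideal.mul_mem_left _ _ hp
  refine (Lam38.fil_mult εB).anti (show k ≤ (k - e.sum fun j n => (j + 1) * n) +
    e.sum fun j n => (j + 1) * n by omega) ((Lam38.fil_mult εB).mul (hmap _ a h1) ?_)
  refine (Lam38.fil_mult εB).prod _ _ _ fun j _ => ?_
  simp only
  rw [mul_comm]
  exact (Lam38.fil_mult εB).pow (Lam38.gamma_mem_fil hx _) _

end Groth.Agent.S8698
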