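import Groth.Statements.S8702
import Groth.Agent.Lam38.Poly

set_option autoImplicit false
universe u
open LambdaRing

namespace Groth.Agent.S8702

/-- Let K be a commutative ring which is an algebra over the rationals, and let ψ^k : K → K, k ≥ 1, be
additive maps with ψ^1 the identity. Then there is one and only one pre-λ-structure on K whose Adams
operations (defined through the logarithmic derivative of λ_t) are the ψ^k for every k ≥ 1, namely
λ_t(x) = exp(Σ_{k ≥ 1} (−1)^{k−1} ψ^k(x) t^k / k): in characteristic zero, pre-λ-structures and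
families of additive operations ψ^k with ψ^1 = id determine each other. (The value of the family at
k = 0 is ignored.) -/
theorem result (K : Type u) [CommRing K] [Algebra ℚ K]
    (ψ : ℕ → K →+ K) (hψ : ψ 1 = AddMonoidHom.id K) :
    ∃! L : LambdaRing.LambdaOps K, ∀ k : ℕ, 1 ≤ k → ∀ x : K, @LambdaRing.adamsOp K _ L k x = ψ k x := by
  have hlam_add : ∀ (k : ℕ) (x y : K), Lam38.fromG (fun j => ψ j (x + y)) k =
      Lam38.conv (Lam38.fromG fun j => ψ j x) (Lam38.fromG fun j => ψ j y) k := fun k x y => by
    refine congrFun (Lam38.seq_ext (Lam38.fromG_zero _)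
      (Lam38.conv_zero (Lam38.fromG_zero _) (Lam38.fromG_zero _)) fun j => ?_) k
    rw [Lam38.g_fromG, Lam38.g_conv (Lam38.fromG_zero _) (Lam38.fromG_zero _), Lam38.g_fromG,
      Lam38.g_fromG, map_add]
  let L : LambdaRing.LambdaOps K :=
    { lam := fun n x => Lam38.fromG (fun j => ψ j x) n
      lam_zero := fun x => Lam38.fromG_zero _
      lam_one := fun x => by
        rw [Lam38.fromG_succ]
        simp [Lam38.fromG_zero, hψ]
      lam_add := hlam_add }
  refine ⟨L, fun k hk x => ?_, fun L' hL' => ?_⟩
  · obtain ⟨k, rfl⟩ : ∃ i, k = i + 1 := ⟨k - 1, by omega⟩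
    rw [@Lam38.adamsOp_eq K _ L]
    exact Lam38.g_fromG _ k
  · have h : L'.lam = L.lam := funext fun n => funext fun x => by
      rw [@Lam38.lam_eq_fromG K _ L' _ x n]
      exact Lam38.fromG_congr n fun j hj _ => hL' j hj x
    cases L'
    simp only at h
    subst h
    rfl

end Groth.Agent.S8702
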