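import Groth.Statements.S8704
import Groth.Agent.Lam38.Fil

set_option autoImplicit false
universe u v
open LambdaRing

namespace Groth.Agent.S8704

/-- Let K and A be λ-rings in the strict sense, A an augmented K-λ-algebra with augmentation ε : A → K,
and Fil^n A its γ-filtration, the ideal generated by the products γ^{i_1}(x_1) ⋯ γ^{i_k}(x_k) with
i_1 + ⋯ + i_k ≥ n and all ε(x_r) = 0. If a subset S generates A as an abelian group, then Fil^n A,
as a K-submodule of A, is generated over K by the products γ^{i_1}(s_1 − ε(s_1)) ⋯ γ^{i_k}(s_k −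
ε(s_k)) with s_r ∈ S and i_1 + ⋯ + i_k ≥ n. -/
theorem result
    (K : Type u) [CommRing K] [LambdaRing.LambdaOps K] (hK : LambdaRing.IsSpecial K)
    (A : Type v) [CommRing A] [LambdaRing.LambdaOps A] [Algebra K A] (hA : LambdaRing.IsSpecial A)
    (ε : A →ₐ[K] K) (hε : LambdaRing.IsAugLambdaAlg K A ε)
    (S : Set A) (hS : AddSubgroup.closure S = ⊤) (n : ℕ) :
    (LambdaRing.gammaFil (ε : A →+* K) n).restrictScalars K =
      Submodule.span K {y : A | ∃ l : List (ℕ × A), (∀ p ∈ l, p.2 ∈ S) ∧ n ≤ (l.map Prod.fst).sum ∧
        y = (l.map fun p => LambdaRing.gamma p.1 (p.2 - algebraMap K A (ε p.2))).prod} := by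
  set T : ℕ → Submodule K A := fun n => Submodule.span K {y : A | ∃ l : List (ℕ × A), (∀ p ∈ l, p.2 ∈ S) ∧ n ≤ (l.map Prod.fst).sum ∧
        y = (l.map fun p => LambdaRing.gamma p.1 (p.2 - algebraMap K A (ε p.2))).prod}
  have hanti : ∀ {a b}, a ≤ b → T b ≤ T a := fun hab =>
    Submodule.span_mono fun _ ⟨l, h1, h2, h3⟩ => ⟨l, h1, hab.trans h2, h3⟩
  have hmul : ∀ {a b} {u w : A}, u ∈ T a → w ∈ T b → u * w ∈ T (a + b) := by
    intro a b u w hu hw
    have h := Submodule.mul_mem_mul hu hw
    simp only [T, Submodule.span_mul_span] at h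
    refine Submodule.span_mono ?_ h
    rintro _ ⟨_, ⟨l, h1, h2, rfl⟩, _, ⟨l', h1', h2', rfl⟩, rfl⟩
    refine ⟨l ++ l', fun p hp => (List.mem_append.mp hp).elim (h1 p) (h1' p), ?_, ?_⟩
    · rw [List.map_append, List.sum_append]; omega
    · simp [List.map_append, List.prod_append]
  have hone : (1 : A) ∈ T 0 := Submodule.subset_span ⟨[], by simp, by simp, by simp⟩
  let G : AddSubgroup A :=
    { carrier := {b | ∀ i, LambdaRing.gamma i (b - algebraMap K A (ε b)) ∈ T i}
      zero_mem' := fun i => by
        rw [map_zero, map_zero, sub_zero]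
        rcases i with _ | i
        · rw [Lambda37.gamma_zero]; exact hone
        · rw [Lam38.gamma_zero_succ]; exact zero_mem _
      add_mem' := fun {a b} ha hb i => by
        rw [map_add, map_add, add_sub_add_comm, Lambda37.gamma_add']
        refine Submodule.sum_mem _ fun j hj => ?_
        have := hmul (ha j) (hb (i - j))
        rwa [Nat.add_sub_cancel' (Nat.lt_succ_iff.mp (Finset.mem_range.mp hj))] at this
      neg_mem' := fun {a} ha i => by
        rw [map_neg, map_neg, ← neg_sub', ]
        induction i using Nat.strong_induction_on with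
        | _ i ih =>
          rcases i with _ | i
          · rw [Lambda37.gamma_zero]; exact hone
          · rw [Lam38.gamma_neg_succ]
            refine Submodule.neg_mem _ (Submodule.sum_mem _ fun j hj => ?_)
            have hj' := Finset.mem_range.mp hj
            have := hmul (ha (j + 1)) (ih (i - j) (by omega))
            rwa [show j + 1 + (i - j) = i + 1 by omega] at this }
  have hG : ∀ b, b ∈ G := fun b => by
    have : AddSubgroup.closure S ≤ G := (AddSubgroup.closure_le _).mpr fun s hs i =>
      Submodule.subset_span ⟨[(i, s)], by simpa using hs, by simp, by simp⟩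
    rw [hS] at this
    exact this trivial
  have hsmul : ∀ a : A, ∀ u ∈ T n, a * u ∈ T n := fun a u hu => by
    have h1 := hanti (Nat.le_add_left n 1) (hmul (hG a 1) hu)
    rw [Lambda37.gamma_one, sub_mul, ← Algebra.smul_def] at h1
    simpa using add_mem h1 (Submodule.smul_mem (T n) (ε a) hu)
  refine le_antisymm (fun z hz => ?_) (Submodule.span_le.mpr ?_)
  · change z ∈ LambdaRing.gammaFil (ε : A →+* K) n at hz
    induction hz using Submodule.span_induction with
    | mem w hw =>
      obtain ⟨l, h1, h2, rfl⟩ := hw
      refine hanti h2 ?_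
      clear h2
      induction l with
      | nil => simpa using hone
      | cons p l ih =>
        simp only [List.map_cons, List.prod_cons, List.sum_cons]
        have hp : ε p.2 = 0 := h1 p (List.mem_cons_self ..)
        refine hmul ?_ (ih fun q hq => h1 q (List.mem_cons_of_mem _ hq))
        have := hG p.2 p.1
        rwa [hp, map_zero, sub_zero] at this
    | zero => exact zero_mem _
    | add p q _ _ hp hq => exact add_mem hp hq
    | smul r p _ hp => exact hsmul r p hp
  · rintro _ ⟨l, h1, h2, rfl⟩
    refine Ideal.subset_span ⟨l.map fun p => (p.1, p.2 - algebraMap K A (ε p.2)), ?_, ?_, ?_⟩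
    · intro p hp
      obtain ⟨q, _, rfl⟩ := List.mem_map.mp hp
      exact Lam38.aug_sub q.2
    · simpa [List.map_map, Function.comp_def] using h2
    · simp [List.map_map, Function.comp_def]

end Groth.Agent.S8704
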