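import Groth.Statements.S8705
import Mathlib.LinearAlgebra.Finsupp.LinearCombination
import Mathlib.LinearAlgebra.Quotient.Basic
import Mathlib.Tactic.Abel

set_option autoImplicit false
universe u
namespace Groth.Agent.S8705
/-- Extension of `P` by `Q` through a symmetric cocycle. -/
structure CExt {P Q : Type u} [AddCommGroup P] [AddCommGroup Q] (f : P → P → Q)
    (hc : ∀ a b c, f (a + b) c - f a (b + c) + f a b - f b c = 0) (hs : ∀ a b, f a b = f b a) : Type u where
  fst : P
  snd : Q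

variable {P Q : Type u} [AddCommGroup P] [AddCommGroup Q] {f : P → P → Q}
  {hc : ∀ a b c, f (a + b) c - f a (b + c) + f a b - f b c = 0} {hs : ∀ a b, f a b = f b a}

theorem CExt.ext' {x y : CExt f hc hs} (h1 : x.fst = y.fst) (h2 : x.snd = y.snd) : x = y := by
  cases x; cases y; cases h1; cases h2; rfl

instance : Zero (CExt f hc hs) := ⟨⟨0, -f 0 0⟩⟩
instance : Add (CExt f hc hs) := ⟨fun x y => ⟨x.fst + y.fst, x.snd + y.snd + f x.fst y.fst⟩⟩
instance : Neg (CExt f hc hs) := ⟨fun x => ⟨-x.fst, -x.snd - f (-x.fst) x.fst - f 0 0⟩⟩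
@[simp] theorem CExt.add_fst (x y : CExt f hc hs) : (x + y).fst = x.fst + y.fst := rfl
@[simp] theorem CExt.add_snd (x y : CExt f hc hs) : (x + y).snd = x.snd + y.snd + f x.fst y.fst := rfl
@[simp] theorem CExt.zero_fst : (0 : CExt f hc hs).fst = 0 := rfl
@[simp] theorem CExt.zero_snd : (0 : CExt f hc hs).snd = -f 0 0 := rfl
@[simp] theorem CExt.neg_fst (x : CExt f hc hs) : (-x).fst = -x.fst := rfl
@[simp] theorem CExt.neg_snd (x : CExt f hc hs) : (-x).snd = -x.snd - f (-x.fst) x.fst - f 0 0 := rfl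

theorem f_zero (hc : ∀ a b c, f (a + b) c - f a (b + c) + f a b - f b c = 0) (p : P) : f 0 p = f 0 0 := by
  have := hc 0 0 p
  simp only [zero_add] at this
  rw [← sub_eq_zero, ← neg_eq_zero]
  rw [← this]; abel

instance : AddCommGroup (CExt f hc hs) where
  add_assoc x y z := CExt.ext' (add_assoc _ _ _) (by
    simp only [CExt.add_fst, CExt.add_snd]
    have := hc x.fst y.fst z.fst
    rw [← sub_eq_zero, ← this]; abel)
  zero_add x := CExt.ext' (zero_add _) (by simp [f_zero hc]; try abel)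
  add_zero x := CExt.ext' (add_zero _) (by simp [hs x.fst 0, f_zero hc]; try abel)
  nsmul := nsmulRec
  zsmul := zsmulRec
  neg_add_cancel x := CExt.ext' (neg_add_cancel _) (by simp; abel)
  add_comm x y := CExt.ext' (add_comm _ _) (by simp [hs x.fst y.fst]; abel)

/-- The lift of a point. -/
def CExt.lift (p : P) : CExt f hc hs := ⟨p, 0⟩

/-- The inclusion of the kernel. -/
def CExt.incl : Q →+ CExt f hc hs where
  toFun q := ⟨0, q - f 0 0⟩
  map_zero' := CExt.ext' rfl (zero_sub _)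
  map_add' q r := CExt.ext' (by simp) (by simp; abel)

theorem CExt.incl_injective : Function.Injective (CExt.incl (f := f) (hc := hc) (hs := hs)) :=
  fun q r h => sub_left_injective (congrArg CExt.snd h)

theorem CExt.lift_add (p q : P) :
    (CExt.lift (p + q) : CExt f hc hs) - CExt.lift p - CExt.lift q = - CExt.incl (f p q) := by
  have : (CExt.lift p + CExt.lift q : CExt f hc hs) = CExt.lift (p + q) + CExt.incl (f p q) := by
    refine CExt.ext' (by simp [CExt.lift, CExt.incl]) ?_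
    simp [CExt.lift, CExt.incl, hs (p + q) 0, f_zero hc]; try abel
  rw [sub_sub, this]; abel

open Finsupp in
theorem result (P : Type u) [AddCommGroup P] :
    letI ε : (P →₀ ℤ) →ₗ[ℤ] P := Finsupp.linearCombination ℤ (fun p : P => p)
    letI d₀ : (P × P →₀ ℤ) →ₗ[ℤ] (P →₀ ℤ) := Finsupp.linearCombination ℤ
      (fun pq : P × P => Finsupp.single (pq.1 + pq.2) 1 - Finsupp.single pq.1 1 - Finsupp.single pq.2 1)
    letI d₁ : (P × P × P →₀ ℤ) →ₗ[ℤ] (P × P →₀ ℤ) := Finsupp.linearCombination ℤ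
      (fun t : P × P × P => Finsupp.single (t.1 + t.2.1, t.2.2) 1 - Finsupp.single (t.1, t.2.1 + t.2.2) 1
        + Finsupp.single (t.1, t.2.1) 1 - Finsupp.single (t.2.1, t.2.2) 1)
    letI d₁' : (P × P →₀ ℤ) →ₗ[ℤ] (P × P →₀ ℤ) := Finsupp.linearCombination ℤ
      (fun pq : P × P => Finsupp.single pq 1 - Finsupp.single (pq.2, pq.1) 1)
    Function.Surjective ε ∧ LinearMap.ker ε = LinearMap.range d₀ ∧
      LinearMap.ker d₀ = LinearMap.range d₁ ⊔ LinearMap.range d₁' := by
  set ε : (P →₀ ℤ) →ₗ[ℤ] P := Finsupp.linearCombination ℤ (fun p : P => p)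
  set d₀ : (P × P →₀ ℤ) →ₗ[ℤ] (P →₀ ℤ) := Finsupp.linearCombination ℤ
      (fun pq : P × P => Finsupp.single (pq.1 + pq.2) 1 - Finsupp.single pq.1 1 - Finsupp.single pq.2 1)
  set d₁ : (P × P × P →₀ ℤ) →ₗ[ℤ] (P × P →₀ ℤ) := Finsupp.linearCombination ℤ
      (fun t : P × P × P => Finsupp.single (t.1 + t.2.1, t.2.2) 1 - Finsupp.single (t.1, t.2.1 + t.2.2) 1
        + Finsupp.single (t.1, t.2.1) 1 - Finsupp.single (t.2.1, t.2.2) 1)
  set d₁' : (P × P →₀ ℤ) →ₗ[ℤ] (P × P →₀ ℤ) := Finsupp.linearCombination ℤ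
      (fun pq : P × P => Finsupp.single pq 1 - Finsupp.single (pq.2, pq.1) 1)
  have hε : ∀ p, ε (single p 1) = p := fun p => by simp [ε]
  have hεd : ε.comp d₀ = 0 := by
    refine Finsupp.lhom_ext' fun pq => LinearMap.ext_ring ?_
    simp [ε, d₀]
  have hd0d1 : d₀.comp d₁ = 0 := by
    refine Finsupp.lhom_ext' fun t => LinearMap.ext_ring ?_
    simp [d₀, d₁, add_assoc]; abel
  have hd0d1' : d₀.comp d₁' = 0 := by
    refine Finsupp.lhom_ext' fun t => LinearMap.ext_ring ?_
    simp [d₀, d₁', add_comm t.1 t.2]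
    abel
  refine ⟨fun p => ⟨single p 1, hε p⟩, ?_, ?_⟩
  · refine le_antisymm (fun x hx => ?_) (LinearMap.range_le_ker_iff.2 hεd)
    let mk := (LinearMap.range d₀).mkQ
    let s : P →+ (P →₀ ℤ) ⧸ LinearMap.range d₀ := AddMonoidHom.mk' (fun p => mk (single p 1)) fun p q => by
      rw [← map_add, ← sub_eq_zero, ← map_sub]
      refine (Submodule.Quotient.mk_eq_zero _).2 ⟨single (p, q) 1, ?_⟩
      simp [d₀, sub_sub]
    have e : mk = s.toIntLinearMap.comp ε := by
      refine Finsupp.lhom_ext' fun p => LinearMap.ext_ring ?_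
      simp [s, ε, mk]
    refine (Submodule.Quotient.mk_eq_zero _).1 ?_
    show mk x = 0
    rw [e, LinearMap.comp_apply, LinearMap.mem_ker.1 hx, map_zero]
  · refine le_antisymm (fun x hx => ?_) (sup_le (LinearMap.range_le_ker_iff.2 hd0d1) (LinearMap.range_le_ker_iff.2 hd0d1'))
    let W := LinearMap.range d₁ ⊔ LinearMap.range d₁'
    let f : P → P → (P × P →₀ ℤ) ⧸ W := fun p q => W.mkQ (single (p, q) 1)
    have hc : ∀ a b c, f (a + b) c - f a (b + c) + f a b - f b c = 0 := fun a b c => by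
      simp only [f, ← map_add, ← map_sub]
      exact (Submodule.Quotient.mk_eq_zero _).2 (Submodule.mem_sup_left ⟨single (a, b, c) 1, by simp [d₁]⟩)
    have hs : ∀ a b, f a b = f b a := fun a b => by
      rw [← sub_eq_zero]
      simp only [f, ← map_sub]
      exact (Submodule.Quotient.mk_eq_zero _).2 (Submodule.mem_sup_right ⟨single (a, b) 1, by simp [d₁']⟩)
    let L : (P →₀ ℤ) →ₗ[ℤ] CExt f hc hs := Finsupp.linearCombination ℤ CExt.lift
    have e : L.comp d₀ = -(CExt.incl (f := f) (hc := hc) (hs := hs)).toIntLinearMap.comp W.mkQ := by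
      refine Finsupp.lhom_ext' fun pq => LinearMap.ext_ring ?_
      simp [L, d₀, CExt.lift_add]
      rfl
    have h := LinearMap.congr_fun e x
    rw [LinearMap.comp_apply, LinearMap.mem_ker.1 hx, map_zero] at h
    refine (Submodule.Quotient.mk_eq_zero W).1 (CExt.incl_injective (f := f) (hc := hc) (hs := hs) ?_)
    rw [map_zero]
    exact neg_eq_zero.1 h.symm

end Groth.Agent.S8705
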