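import Groth.Statements.S8706
import Groth.Agent.Const38.Torsor
import Groth.Agent.SecComp38.Lift

set_option autoImplicit false
universe u
open CategoryTheory CategoryTheory.Limits MonoidalCategory CartesianMonoidalCategory MonObj AlgebraicGeometry
open SGA7

namespace Groth.Agent.S8706

/-- Let p : P → S be a smooth morphism of finite presentation (smooth, quasi-compact, quasi-separated)
with geometrically connected fibres, e : S → P a section of p, Z a group and G the constant P-group
scheme Z_P (through the isomorphism eG), E a torsor under G over P for the fppf topology, and e' : S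
→ E a section of E lying over e. Then E is trivial (has a section over P) if and only if for every
point s of S the torsor induced on the fibre P_s is trivial (E acquires a section over P_s → P); and
when E is trivial there is exactly one section g of E over P with g ∘ e = e'. -/
theorem result (S P : Scheme.{u}) (p : P ⟶ S)
    [Smooth p] [QuasiCompact p] [QuasiSeparated p] [GeometricallyConnected p]
    (e : S ⟶ P) (he : e ≫ p = 𝟙 S)
    (Z : Type u) [Group Z] (G : Over P) [GrpObj G] (eG : G ≅ TwC.const P Z) (hG : TwC.IsConstGrp Z G eG)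
    (E : NonAbH1.TorsorSch G Scheme.fppfPrecoverage)
    (e' : S ⟶ E.X.left) (he' : e' ≫ E.X.hom = e) :
    (NonAbH1.HasSectionOver E.X (𝟙 P) ↔
        ∀ s : ↥S, NonAbH1.HasSectionOver E.X (pullback.fst p (S.fromSpecResidueField s))) ∧
      (NonAbH1.HasSectionOver E.X (𝟙 P) →
        ∃! g : P ⟶ E.X.left, g ≫ E.X.hom = 𝟙 P ∧ e ≫ g = e') := by
  obtain ⟨hsep, het⟩ := Const38.torsor_isSeparated_etale eG E.isTorsor
  have hp : ∀ s : S, _root_.IsPreconnected (p ⁻¹' {s}) := fun s =>
    (p.isConnected_preimage_singleton s).isPreconnected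
  have key : (∀ s : ↥S, NonAbH1.HasSectionOver E.X (pullback.fst p (S.fromSpecResidueField s))) →
      ∃ g : P ⟶ E.X.left, g ≫ E.X.hom = 𝟙 P ∧ e ≫ g = e' := by
    intro h
    refine SecComp38.exists_lift he he' fun s => ?_
    obtain ⟨σ0, hσ0⟩ := h s
    let t := S.fromSpecResidueField s
    let T0 : Over P := Over.mk (t ≫ e)
    let T1 : Over P := Over.mk (pullback.fst p t)
    let i : T0 ⟶ T1 := Over.homMk (pullback.lift (t ≫ e) (𝟙 _) (by simp [he])) (pullback.lift_fst _ _ _)
    have : ConnectedSpace T0.left := inferInstanceAs (ConnectedSpace (Spec (S.residueField s)))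
    obtain ⟨σ, hσ⟩ := Const38.exists_translate eG E.isTorsor.1 i (Over.homMk σ0 hσ0)
      (Over.homMk (t ≫ e') (by show _ = t ≫ e; rw [Category.assoc, he']))
    exact ⟨S.residueField s, Field.toIsField _, t, σ.left,
      ⟨IsLocalRing.closedPoint _, Scheme.fromSpecResidueField_apply _ _⟩, Over.w σ,
      congrArg (fun m => m.left) hσ⟩
  have hfib : NonAbH1.HasSectionOver E.X (𝟙 P) →
      ∀ s : ↥S, NonAbH1.HasSectionOver E.X (pullback.fst p (S.fromSpecResidueField s)) := by
    rintro ⟨g, hg⟩ s
    exact ⟨pullback.fst p _ ≫ g, by rw [Category.assoc, hg, Category.comp_id]⟩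
  refine ⟨⟨hfib, fun h => ?_⟩, fun h => ?_⟩
  · obtain ⟨g, hg, -⟩ := key h
    exact ⟨g, hg⟩
  · obtain ⟨g, hg, hge⟩ := key (hfib h)
    exact ⟨g, ⟨hg, hge⟩, fun g' hg' =>
      SecComp38.eq_of_section p e he hp E.X.hom g' g (hg'.1.trans hg.symm) (hg'.2.trans hge.symm)⟩

end Groth.Agent.S8706
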