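import Groth.Statements.S8707
import Groth.Agent.Const38.TransTorsor
import Groth.Agent.Torsor99.Basic

set_option autoImplicit false
universe u
open CategoryTheory CategoryTheory.Limits MonoidalCategory CartesianMonoidalCategory MonObj AlgebraicGeometry
open SGA7

namespace Groth.Agent.S8707

/-- Let S be an irreducible scheme whose local rings are all geometrically unibranch, Z a group without
non-trivial elements of finite order, f : P → S a smooth morphism, G the constant P-group scheme Z_P
(through the isomorphism eG) and E a torsor under G over P for the fppf topology. Then E is trivial: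
it has a section over P. (Taking f the identity of S gives the statement for torsors under Z_S on S
itself. The accompanying assertions identifying the category of such torsors with that of torsors
over the generic point are not stated.) -/
theorem result (S : Scheme.{u}) [IrreducibleSpace ↥S]
    (hS : ∀ s : ↥S, CAlg2.IsGeomUnibranch ↑(S.presheaf.stalk s))
    (Z : Type u) [Group Z] (hZ : ∀ z : Z, IsOfFinOrder z → z = 1)
    (P : Scheme.{u}) (f : P ⟶ S) [Smooth f]
    (G : Over P) [GrpObj G] (eG : G ≅ TwC.const P Z) (hG : TwC.IsConstGrp Z G eG)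
    (E : NonAbH1.TorsorSch G Scheme.fppfPrecoverage) :
    NonAbH1.HasSectionOver E.X (𝟙 P) := by
  obtain ⟨hsep, het⟩ := Const38.torsor_isSeparated_etale eG E.isTorsor
  have hps := E.isTorsor.1
  let a := E.act
  let q := E.X.hom
  let r := q ≫ f
  have hr : Smooth r := inferInstance
  have huniq : ∀ w, Subsingleton (minimalPrimes (E.X.left.presheaf.stalk w)) := fun w =>
    Const38.subsingleton_minimalPrimes_stalk r w (hS _)
  have hqs : ∀ y : P, ∃ w : E.X.left, q w = y := by
    intro y
    obtain ⟨R, hR, hsec⟩ := E.isTorsor.2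
    have hR' := hR
    rw [Scheme.fppfPrecoverage_eq_inf] at hR'
    obtain ⟨W, φ, hφ, w, hw⟩ := Types.mem_jointlySurjectivePrecoverage_iff.1 hR'.1.1 y
    obtain ⟨hφ⟩ := hφ
    obtain ⟨σ, hσ⟩ := hsec _ hφ
    exact ⟨σ w, by rw [← Scheme.Hom.comp_apply, hσ]; exact hw⟩
  choose x hx using hqs
  let A : Set E.X.left := Set.range x
  let U : E.X.left.Opens := ⟨{w | ∃ ξ ∈ A, (∀ z, z ⤳ ξ → z = ξ) ∧ ξ ⤳ w},
    Const38.isOpen_setOf_maximal r (fun y => hS y) A⟩
  let τ := fun z : Z => (Const38.trans eG a z).left
  have hex : ∀ w : E.X.left, ∃ z : Z, τ z w ∈ U := by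
    intro w
    obtain ⟨η', hη'w, hη', -⟩ := Unr55.EtComp.exists_maximal_generization w
    obtain ⟨z, hz⟩ := Const38.exists_trans (eG := eG) a hps (x := η') (y := x (q η')) (hx _).symm
    exact ⟨z, x (q η'), ⟨_, rfl⟩, hz ▸ Const38.trans_maximal a hG z hη',
      hz ▸ hη'w.map (τ z).continuous⟩
  have hone : ∀ (w : E.X.left) (z : Z), w ∈ U → τ z w ∈ U → z = 1 := by
    rintro w z ⟨ξ, ⟨y, hy⟩, hξ, hξw⟩ ⟨ξ', ⟨y', hy'⟩, hξ', hξ'w⟩
    have h : τ z ξ = ξ' := Unr55.EtComp.eq_of_maximal (τ z w) (huniq _) (hξw.map (τ z).continuous) hξ'w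
      (Const38.trans_maximal a hG z hξ) hξ'
    have hy2 : y = y' := by
      rw [← hx y, hy, ← hx y', hy', ← h]
      exact (Const38.trans_hom eG a z ξ).symm
    refine Const38.eq_one_of_trans a hG hps hZ (x := ξ) ?_
    exact h.trans (by rw [← hy', ← hy2, hy])
  let b : (U : Scheme.{u}) ⟶ P := U.ι ≫ q
  have : Surjective b := ⟨fun y => by
    obtain ⟨z, hz⟩ := hex (x y)
    exact ⟨⟨τ z (x y), hz⟩, (Const38.trans_hom eG a z (x y)).trans (hx y)⟩⟩
  have hdiag : Surjective (pullback.diagonal b) := ⟨fun c => by
    let j := (pullback b b).fromSpecResidueField c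
    let T : Over P := Over.mk (j ≫ pullback.fst b b ≫ b)
    have : ConnectedSpace T.left := inferInstanceAs (ConnectedSpace (Spec ((pullback b b).residueField c)))
    let p1 : T ⟶ E.X := Over.homMk (j ≫ pullback.fst b b ≫ U.ι) (by simp [T, b, q])
    let p2 : T ⟶ E.X := Over.homMk (j ≫ pullback.snd b b ≫ U.ι) (by
      show _ = j ≫ pullback.fst b b ≫ b
      rw [pullback.condition]
      simp [b, q])
    obtain ⟨g, hg⟩ := Torsor99.exists_translate hps p2 p1
    obtain ⟨z, rfl⟩ := Const38.exists_eq_cpt eG g
    rw [← Const38.comp_trans] at hg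
    let o : T.left := IsLocalRing.closedPoint _
    have hz : z = 1 := hone (p2.left o) z (pullback.snd b b (j o)).2 (by
      have h := congrArg (fun m : T ⟶ E.X => m.left o) hg
      change τ z (p2.left o) = p1.left o at h
      rw [h]
      exact (pullback.fst b b (j o)).2)
    rw [hz, Const38.trans_one a hG, Category.comp_id] at hg
    have h12 : j ≫ pullback.fst b b = j ≫ pullback.snd b b :=
      (cancel_mono U.ι).1 (((Category.assoc _ _ _).trans
        (congrArg (fun m : T ⟶ E.X => m.left) hg).symm).trans (Category.assoc _ _ _).symm)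
    refine ⟨(j ≫ pullback.fst b b) o, ?_⟩
    rw [← Scheme.Hom.comp_apply, show (j ≫ pullback.fst b b) ≫ pullback.diagonal b = j by
      apply pullback.hom_ext
      · simp
      · simpa using h12]
    exact Scheme.fromSpecResidueField_apply _ _⟩
  have hIso : IsIso (pullback.diagonal b) :=
    (isIso_iff_isOpenImmersion_and_epi_base _).2 ⟨inferInstance, by
      rw [TopCat.epi_iff_surjective]; exact (pullback.diagonal b).surjective⟩
  have : Mono b := (pullback.isIso_diagonal_iff b).1 hIso
  have : IsOpenImmersion b := IsOpenImmersion.of_flat_of_mono b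
  have : IsIso b := (isIso_iff_isOpenImmersion_and_epi_base _).2 ⟨inferInstance, by
    rw [TopCat.epi_iff_surjective]; exact b.surjective⟩
  exact ⟨inv b ≫ U.ι, by simp [b, q]⟩

end Groth.Agent.S8707
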