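import Groth.Statements.S8708
import Groth.Agent.Const38.Split

set_option autoImplicit false
universe u
open CategoryTheory CategoryTheory.Limits MonoidalCategory CartesianMonoidalCategory MonObj AlgebraicGeometry
open SGA7

namespace Groth.Agent.S8708

/-- Let k be a field, Z a group without non-trivial elements of finite order, P a connected k-group
scheme locally of finite type, G the constant k-group scheme Z_k (through the isomorphism eG), and u
: G → E, v : E → P homomorphisms of k-group schemes forming a sequence 1 → G → E → P → 1 which is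
exact for the fppf topology. Then the extension is rigid and trivial: every automorphism of the
k-group scheme E compatible with u and v is the identity, and there is a homomorphism of k-group
schemes s : P → E with s followed by v equal to the identity of P. (For P not connected the
published statement reduces extensions of P to extensions of its group of connected components; that
part is not stated.) -/
theorem result (k : Type u) [Field k]
    (Z : Type u) [Group Z] (hZ : ∀ z : Z, IsOfFinOrder z → z = 1)
    (P E G : Over (Spec (CommRingCat.of k))) [GrpObj P] [GrpObj E] [GrpObj G]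
    [LocallyOfFiniteType P.hom] [ConnectedSpace ↥P.left]
    (eG : G ≅ TwC.const (Spec (CommRingCat.of k)) Z) (hG : TwC.IsConstGrp Z G eG)
    (u : G ⟶ E) (v : E ⟶ P) (hex : NonAbH1.IsExactSeq Scheme.fppfPrecoverage u v) :
    (∀ φ : E ≅ E, IsMonHom φ.hom → u ≫ φ.hom = u → φ.hom ≫ v = v → φ.hom = 𝟙 E) ∧
      ∃ s : P ⟶ E, IsMonHom s ∧ s ≫ v = 𝟙 P := by
  have := hex.1
  have := hex.2.1
  refine ⟨fun φ hφ hφu hφv => ?_, Const38.exists_splitting hZ eG hG hex⟩
  have hv : ExtGrp38.Covers v := ExtGrp38.covers_of_locallyTrivial v hex.2.2.2.2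
  obtain ⟨c, hc⟩ := ExtGrp38.ker_exists_one hex (y := φ.hom * (𝟙 E)⁻¹) (by
    rw [MonObj.mul_comp, GrpObj.inv_comp, hφv, Category.id_comp, mul_inv_cancel])
  have hpt : ∀ (T : Over _) (x : T ⟶ E), (x ≫ c) ≫ u = (x ≫ φ.hom) * x⁻¹ := by
    intro T x
    rw [Category.assoc, ← hc, MonObj.comp_mul, GrpObj.comp_inv, Category.comp_id]
  obtain ⟨ψ, hψ⟩ := ExtGrp38.descend hv c fun T x x' he => by
    obtain ⟨h, hh⟩ := ExtGrp38.ker_exists hex he
    refine ExtGrp38.ker_unique hex ?_
    rw [hpt, hpt, hh, MonObj.mul_comp, Category.assoc, hφu]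
    rw [mul_inv_rev, _root_.mul_assoc (x ≫ φ.hom), ← _root_.mul_assoc (h ≫ u) (h ≫ u)⁻¹, mul_inv_cancel, _root_.one_mul]
  obtain ⟨m, hm⟩ := Const38.exists_eq_cpt eG ψ
  have hm1 : m = 1 := by
    have h1 : η[P] ≫ ψ = 1 := by
      refine (ExtGrp38.comp_inj hex).1 ?_
      rw [← IsMonHom.one_hom v, Category.assoc η[E] v ψ, hψ, hpt, IsMonHom.one_hom φ.hom, mul_inv_cancel]
    rw [hm, Const38.comp_cpt, ← Const38.cpt_one hG] at h1
    have := congrArg (fun f => Const38.index eG (f.left (IsLocalRing.closedPoint k))) h1
    exact (Const38.index_cpt eG _ m _).symm.trans (this.trans (Const38.index_cpt eG _ 1 _))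
  have hψ1 : ψ = 1 := by rw [hm, hm1, Const38.cpt_one hG]
  have h2 : (𝟙 E ≫ c) ≫ u = 1 := by
    rw [Category.id_comp, ← hψ, hψ1, MonObj.comp_one, MonObj.one_comp]
  rw [hpt, Category.id_comp, mul_inv_eq_one] at h2
  exact h2

end Groth.Agent.S8708
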