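import Groth.Statements.S8709
import Groth.Agent.Units38.Gm

set_option autoImplicit false
universe u
open CategoryTheory CategoryTheory.Limits MonoidalCategory CartesianMonoidalCategory MonObj AlgebraicGeometry
open SGA7

namespace Groth.Agent.S8709

/-- Let k be a field and X, Y two k-schemes of finite type which are geometrically reduced and
geometrically connected, with rational points e_X and e_Y. Then every k-morphism u from X ×_k Y to
the multiplicative group whose restrictions to X × e_Y and to e_X × Y are trivial is trivial.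
(Morphisms to the multiplicative group over k form a group; trivial means equal to its unit
element.) -/
theorem result (k : Type u) [Field k]
    (X Y : Over (Spec (CommRingCat.of k)))
    [LocallyOfFiniteType X.hom] [QuasiCompact X.hom] [GeometricallyReduced X.hom] [GeometricallyConnected X.hom]
    [LocallyOfFiniteType Y.hom] [QuasiCompact Y.hom] [GeometricallyReduced Y.hom] [GeometricallyConnected Y.hom]
    (eX : 𝟙_ (Over (Spec (CommRingCat.of k))) ⟶ X) (eY : 𝟙_ (Over (Spec (CommRingCat.of k))) ⟶ Y)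
    (u : X ⊗ Y ⟶ Red.Gm (Spec (CommRingCat.of k)))
    (huX : lift (𝟙 X) (toUnit X ≫ eY) ≫ u = 1) (huY : lift (toUnit Y ≫ eX) (𝟙 Y) ≫ u = 1) :
    u = 1 := by
  classical
  let K := AlgebraicClosure k
  let σ : Spec (CommRingCat.of K) ⟶ Spec (CommRingCat.of k) := Spec.map (CommRingCat.ofHom (algebraMap k K))
  have hσ : Surjective σ := inferInstance
  let X' : Over (Spec (CommRingCat.of K)) := Over.mk (pullback.snd X.hom σ)
  let Y' : Over (Spec (CommRingCat.of K)) := Over.mk (pullback.snd Y.hom σ)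
  have : LocallyOfFiniteType X'.hom := inferInstanceAs (LocallyOfFiniteType (pullback.snd X.hom σ))
  have : LocallyOfFiniteType Y'.hom := inferInstanceAs (LocallyOfFiniteType (pullback.snd Y.hom σ))
  have : QuasiCompact X'.hom := inferInstanceAs (QuasiCompact (pullback.snd X.hom σ))
  have : QuasiCompact Y'.hom := inferInstanceAs (QuasiCompact (pullback.snd Y.hom σ))
  have : GeometricallyConnected X'.hom := inferInstanceAs (GeometricallyConnected (pullback.snd X.hom σ))
  have : GeometricallyConnected Y'.hom := inferInstanceAs (GeometricallyConnected (pullback.snd Y.hom σ))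
  have : ConnectedSpace X'.left :=
    inferInstanceAs (ConnectedSpace (pullback X.hom σ : Scheme.{u}))
  have : ConnectedSpace Y'.left :=
    inferInstanceAs (ConnectedSpace (pullback Y.hom σ : Scheme.{u}))
  let mm : (X' ⊗ Y').left ⟶ (X ⊗ Y).left :=
    pullback.lift ((fst X' Y').left ≫ pullback.fst X.hom σ) ((snd X' Y').left ≫ pullback.fst Y.hom σ) (by
      rw [Category.assoc, Category.assoc, pullback.condition, pullback.condition, ← Category.assoc, ← Category.assoc]
      exact congrArg (· ≫ σ) ((Over.w (fst X' Y')).trans (Over.w (snd X' Y')).symm))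
  let fu : Γ((X ⊗ Y).left, ⊤) := u.left.appTop (Units38.coord _)
  let f' : Γ((X' ⊗ Y').left, ⊤) := mm.appTop fu
  have hf' : IsUnit f' := ((Units38.isUnit_coord _).map u.left.appTop.hom).map mm.appTop.hom
  -- a rational point over `K` gives a point over `k`
  let T : Over (Spec (CommRingCat.of k)) := Over.mk σ
  let pX : (AlgGrp79.kPt K ⟶ X') → (T ⟶ X) := fun p => Over.homMk (p.left ≫ pullback.fst X.hom σ) (by
    show (p.left ≫ pullback.fst X.hom σ) ≫ X.hom = σ
    have hw : p.left ≫ pullback.snd X.hom σ = Spec.map (CommRingCat.ofHom (algebraMap K K)) := Over.w p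
    rw [Category.assoc, pullback.condition, ← Category.assoc, hw]
    exact (Category.id_comp σ) ▸ (congrArg (· ≫ σ) (Spec.map_id (CommRingCat.of K))))
  let pY : (AlgGrp79.kPt K ⟶ Y') → (T ⟶ Y) := fun p => Over.homMk (p.left ≫ pullback.fst Y.hom σ) (by
    show (p.left ≫ pullback.fst Y.hom σ) ≫ Y.hom = σ
    have hw : p.left ≫ pullback.snd Y.hom σ = Spec.map (CommRingCat.ofHom (algebraMap K K)) := Over.w p
    rw [Category.assoc, pullback.condition, ← Category.assoc, hw]
    exact (Category.id_comp σ) ▸ (congrArg (· ≫ σ) (Spec.map_id (CommRingCat.of K))))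
  let c : K := (Scheme.ΓSpecIso (CommRingCat.of K)).hom ((1 : T ⟶ Red.Gm _).left.appTop (Units38.coord _))
  have hmm : ∀ (p : AlgGrp79.kPt K ⟶ X') (q : AlgGrp79.kPt K ⟶ Y'), (lift p q).left ≫ mm = (lift (pX p) (pY q)).left := fun p q => by
    apply pullback.hom_ext
    · rw [Category.assoc, pullback.lift_fst, ← Category.assoc]
      show ((lift p q) ≫ fst X' Y').left ≫ _ = ((lift (pX p) (pY q)) ≫ fst X Y).left
      rw [lift_fst, lift_fst]; rfl
    · rw [Category.assoc, pullback.lift_snd, ← Category.assoc]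
      show ((lift p q) ≫ snd X' Y').left ≫ _ = ((lift (pX p) (pY q)) ≫ snd X Y).left
      rw [lift_snd, lift_snd]; rfl
  have hval : ∀ p q, AlgGrp79.gval (lift p q) f' =
      (Scheme.ΓSpecIso (CommRingCat.of K)).hom ((lift (pX p) (pY q) ≫ u).left.appTop (Units38.coord _)) := by
    intro p q
    show (Scheme.ΓSpecIso (CommRingCat.of K)).hom (((lift p q).left ≫ mm ≫ u.left).appTop (Units38.coord _)) = _
    rw [← Category.assoc, hmm]; rfl
  obtain ⟨e⟩ := AlgGrp79.kPt_iso (k := K)
  let x₀ : AlgGrp79.kPt K ⟶ X' := Over.homMk (pullback.lift (σ ≫ eX.left) (𝟙 _)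
    (by rw [Category.assoc, Over.w eX, Category.id_comp]; exact Category.comp_id σ)) (by
      show pullback.lift _ _ _ ≫ pullback.snd _ _ = Spec.map (CommRingCat.ofHom (algebraMap K K))
      rw [pullback.lift_snd]; exact (Spec.map_id _).symm)
  let y₀ : AlgGrp79.kPt K ⟶ Y' := Over.homMk (pullback.lift (σ ≫ eY.left) (𝟙 _)
    (by rw [Category.assoc, Over.w eY, Category.id_comp]; exact Category.comp_id σ)) (by
      show pullback.lift _ _ _ ≫ pullback.snd _ _ = Spec.map (CommRingCat.ofHom (algebraMap K K))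
      rw [pullback.lift_snd]; exact (Spec.map_id _).symm)
  have hx₀ : pX x₀ = toUnit T ≫ eX := Over.OverMorphism.ext (by
    show pullback.lift _ _ _ ≫ pullback.fst X.hom σ = _
    rw [pullback.lift_fst]; rfl)
  have hy₀ : pY y₀ = toUnit T ≫ eY := Over.OverMorphism.ext (by
    show pullback.lift _ _ _ ≫ pullback.fst Y.hom σ = _
    rw [pullback.lift_fst]; rfl)
  have hX : ∀ p, AlgGrp79.gval (lift p y₀) f' = c := fun p => by
    rw [hval, show lift (pX p) (pY y₀) ≫ u = 1 from by
      rw [hy₀, show lift (pX p) (toUnit T ≫ eY) = pX p ≫ lift (𝟙 X) (toUnit X ≫ eY) by ext <;> simp,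
        Category.assoc, huX, MonObj.comp_one]]
  have hY : ∀ q, AlgGrp79.gval (lift x₀ q) f' = c := fun q => by
    rw [hval, show lift (pX x₀) (pY q) ≫ u = 1 from by
      rw [hx₀, show lift (toUnit T ≫ eX) (pY q) = pY q ≫ lift (toUnit Y ≫ eX) (𝟙 Y) by ext <;> simp,
        Category.assoc, huY, MonObj.comp_one]]
  have key : ∀ r : AlgGrp79.kPt K ⟶ X' ⊗ Y', lift (pX (r ≫ fst X' Y')) (pY (r ≫ snd X' Y')) ≫ u = 1 := by
    intro r
    refine Units38.hom_ext_coord _ _ ?_
    apply (Scheme.ΓSpecIso (CommRingCat.of K)).commRingCatIsoToRingEquiv.injective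
    refine (hval _ _).symm.trans ?_
    exact Units38.gval_eq_const f' hf' x₀ y₀ c hX hY _ _
  have : IsReduced Y.left := by
    have := GeometricallyReduced.geometrically_isReduced (f := Y.hom) (𝟙 _) (𝟙 _) Y.hom (IsPullback.of_horiz_isIso ⟨by simp⟩)
    exact this
  have : IsLocallyNoetherian Y.left := LocallyOfFiniteType.isLocallyNoetherian Y.hom
  have : IsReduced (X ⊗ Y).left := inferInstanceAs (IsReduced (pullback X.hom Y.hom : Scheme.{u}))
  have : LocallyOfFiniteType (X ⊗ Y).hom := inferInstanceAs (LocallyOfFiniteType (pullback.fst X.hom Y.hom ≫ X.hom))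
  have : JacobsonSpace (X ⊗ Y).left := LocallyOfFiniteType.jacobsonSpace (X ⊗ Y).hom
  have : IsSeparated (Red.Gm (Spec (CommRingCat.of k))).hom := by
    have : IsAffineHom (Red.diag (ULift.{u} ℤ) ℤ).hom := inferInstanceAs (IsAffineHom (Spec.map _))
    exact inferInstanceAs (IsSeparated (pullback.snd (Red.diag (ULift.{u} ℤ) ℤ).hom
      (IsTerminal.from specULiftZIsTerminal (Spec (CommRingCat.of k)))))
  refine Over.OverMorphism.ext (Units38.hom_ext_of_closedPoints (Red.Gm (Spec (CommRingCat.of k))).hom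
    ((Over.w u).trans (Over.w (1 : X ⊗ Y ⟶ Red.Gm _)).symm) fun z hz => ?_)
  -- a geometric point over `z`
  let Z' : Over (Spec (CommRingCat.of K)) := Over.mk (pullback.snd (X ⊗ Y).hom σ)
  have : LocallyOfFiniteType Z'.hom := inferInstanceAs (LocallyOfFiniteType (pullback.snd (X ⊗ Y).hom σ))
  have : JacobsonSpace Z'.left := LocallyOfFiniteType.jacobsonSpace Z'.hom
  obtain ⟨w, hw⟩ := (pullback.fst (X ⊗ Y).hom σ).surjective z
  have : JacobsonSpace (pullback (X ⊗ Y).hom σ : Scheme.{u}) := LocallyOfFiniteType.jacobsonSpace Z'.hom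
  obtain ⟨w', hw'z, hw'c⟩ := nonempty_inter_closedPoints (Z := (pullback.fst (X ⊗ Y).hom σ) ⁻¹' {z})
    ⟨w, hw⟩ (hz.preimage (pullback.fst (X ⊗ Y).hom σ).continuous).isLocallyClosed
  obtain ⟨r, hr⟩ := AlgGrp79.exists_kPt (X := Z') w' hw'c
  have hrw : r.left ≫ pullback.snd (X ⊗ Y).hom σ = 𝟙 _ := (Over.w r).trans (Spec.map_id (CommRingCat.of K))
  let t : T ⟶ X ⊗ Y := Over.homMk (r.left ≫ pullback.fst (X ⊗ Y).hom σ) (by
    show (r.left ≫ pullback.fst (X ⊗ Y).hom σ) ≫ (X ⊗ Y).hom = σ
    rw [Category.assoc, pullback.condition, ← Category.assoc, hrw, Category.id_comp])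
  refine ⟨T.left, t.left, IsLocalRing.closedPoint K, ?_, ?_⟩
  · show (r.left ≫ pullback.fst (X ⊗ Y).hom σ) (IsLocalRing.closedPoint K) = z
    rw [Scheme.Hom.comp_apply, hr]; exact hw'z
  · let pp : AlgGrp79.kPt K ⟶ X' := Over.homMk (pullback.lift (t ≫ fst X Y).left (𝟙 _)
      (by rw [Over.w, Category.id_comp]; rfl)) (by
        show pullback.lift _ _ _ ≫ pullback.snd _ _ = Spec.map (CommRingCat.ofHom (algebraMap K K))
        rw [pullback.lift_snd]; exact (Spec.map_id _).symm)
    let qq : AlgGrp79.kPt K ⟶ Y' := Over.homMk (pullback.lift (t ≫ snd X Y).left (𝟙 _)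
      (by rw [Over.w, Category.id_comp]; rfl)) (by
        show pullback.lift _ _ _ ≫ pullback.snd _ _ = Spec.map (CommRingCat.ofHom (algebraMap K K))
        rw [pullback.lift_snd]; exact (Spec.map_id _).symm)
    have hk := key (lift pp qq)
    rw [lift_fst, lift_snd,
      show pX pp = t ≫ fst X Y from Over.OverMorphism.ext (pullback.lift_fst _ _ _),
      show pY qq = t ≫ snd X Y from Over.OverMorphism.ext (pullback.lift_fst _ _ _),
      show lift (t ≫ fst X Y) (t ≫ snd X Y) = t by ext <;> simp] at hk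
    show t.left ≫ u.left = t.left ≫ (1 : X ⊗ Y ⟶ Red.Gm _).left
    rw [← Over.comp_left, ← Over.comp_left, hk, MonObj.comp_one]

end Groth.Agent.S8709
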