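import Groth.Statements.S8710
import Groth.Agent.TorBal94.FirstVariable

set_option autoImplicit false
universe u
open CategoryTheory CategoryTheory.Limits
open SGA7

namespace Groth.Agent.S8710

/-- Let f : B' → B be a surjective map of R-algebras with B' flat over R, g : C → B a map of R-algebras,
P = B' ×_B C their fibre product (the equalizer of f ∘ pr₁ and g ∘ pr₂ in B' × C), S an R-algebra
and n a natural number. If Tor_i^R(C, S) = 0 for 0 < i < n and Tor_i^R(B, S) = 0 for 0 < i ≤ n, then
Tor_i^R(P, S) = 0 for 0 < i < n. Here Tor_i^R(M, S) is the i-th left derived functor of M ⊗_R − on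
R-modules, evaluated at S. (The published statement asks the vanishing for B only in degrees 0 < i <
n; the published proof and the corollary following it use it in degrees 0 < i ≤ n, which this row
assumes.) -/
theorem result (R B' B C S : Type u) [CommRing R] [CommRing B'] [CommRing B]
    [CommRing C] [CommRing S] [Algebra R B'] [Algebra R B] [Algebra R C] [Algebra R S]
    (f : B' →ₐ[R] B) (hf : Function.Surjective f) (g : C →ₐ[R] B) [Module.Flat R B'] (n : ℕ)
    (hC : ∀ i : ℕ, 0 < i → i < n →
      IsZero (((Tor (ModuleCat.{u} R) i).obj (ModuleCat.of R C)).obj (ModuleCat.of R S)))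
    (hB : ∀ i : ℕ, 0 < i → i ≤ n →
      IsZero (((Tor (ModuleCat.{u} R) i).obj (ModuleCat.of R B)).obj (ModuleCat.of R S))) :
    letI P := AlgHom.equalizer (f.comp (AlgHom.fst R B' C)) (g.comp (AlgHom.snd R B' C))
    ∀ i : ℕ, 0 < i → i < n →
      IsZero (((Tor (ModuleCat.{u} R) i).obj (ModuleCat.of R ↥P)).obj (ModuleCat.of R S)) := by
  intro i hi hin
  let d : (B' × C) →ₗ[R] B := (f.toLinearMap ∘ₗ LinearMap.fst R B' C) - (g.toLinearMap ∘ₗ LinearMap.snd R B' C)
  let P := AlgHom.equalizer (f.comp (AlgHom.fst R B' C)) (g.comp (AlgHom.snd R B' C))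
  have hd : Function.Surjective d := fun b => by
    obtain ⟨b', hb'⟩ := hf b
    exact ⟨(b', 0), by simp [d, hb']⟩
  have hexact : Function.Exact P.val.toLinearMap d := by
    intro x
    constructor
    · intro hx
      exact ⟨⟨x, sub_eq_zero.1 hx⟩, rfl⟩
    · rintro ⟨y, rfl⟩
      exact sub_eq_zero.2 y.2
  have hmid : IsZero (((Tor (ModuleCat.{u} R) i).obj (ModuleCat.of R (B' × C))).obj (ModuleCat.of R S)) := by
    obtain ⟨j, rfl⟩ : ∃ j, i = j + 1 := ⟨i - 1, by omega⟩
    refine Groth.Agent.TorBal94.isZero_tor_middle (LinearMap.inl R B' C) (LinearMap.snd R B' C)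
      LinearMap.inl_injective ?_ LinearMap.snd_surjective _ _
      (Groth.Agent.TorBal94.isZero_tor_of_flat_left B' _ j) (hC _ hi hin)
    exact Function.Exact.inl_snd
  exact Groth.Agent.TorBal94.isZero_tor_left P.val.toLinearMap d Subtype.val_injective hexact hd _ i hmid
    (hB (i + 1) (by omega) hin)

end Groth.Agent.S8710
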