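import Groth.Statements.S8712
import Groth.Agent.Const38.TwLattice
import Groth.Agent.SecComp38.Lift

set_option autoImplicit false
universe u
open CategoryTheory CategoryTheory.Limits MonoidalCategory CartesianMonoidalCategory MonObj AlgebraicGeometry
open SGA7

namespace Groth.Agent.S8712

/-- The vanishing of Ext¹(P, M) proved there: let S be a scheme, P a commutative S-group scheme which is
smooth and of finite presentation over S (smooth, quasi-compact, quasi-separated) with geometrically
connected fibres, M a commutative S-group scheme which is a twisted constant group with fibres Z^r: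
after a flat surjective base change S' → S which is an fpqc covering, Zariski-locally on S', M
becomes the constant group scheme of Z^r for some r (allowed to vary), and u : M → E, v : E → P
homomorphisms of commutative S-group schemes forming a sequence 1 → M → E → P → 1 exact for the fppf
topology. Then every homomorphism P → M is trivial, and the extension E of P by M is trivial: there
is a homomorphism s : P → E with s followed by v equal to the identity of P. -/
theorem result (S : Scheme.{u})
    (P E M : Over S) [GrpObj P] [GrpObj E] [GrpObj M] [IsCommMonObj P] [IsCommMonObj E] [IsCommMonObj M]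
    [Smooth P.hom] [QuasiCompact P.hom] [QuasiSeparated P.hom] [GeometricallyConnected P.hom]
    (hM : TwC.Locally S TwC.Topology.fpqc (fun S' f =>
      ∃ (r : ℕ) (e : Red.bc f M ≅ TwC.const S' (Multiplicative (Fin r → ℤ))),
        TwC.IsConstGrp (Multiplicative (Fin r → ℤ)) (Red.bc f M) e))
    (u : M ⟶ E) (v : E ⟶ P) (hex : NonAbH1.IsExactSeq Scheme.fppfPrecoverage u v) :
    (∀ φ : P ⟶ M, IsMonHom φ → φ = 1) ∧ ∃ s : P ⟶ E, IsMonHom s ∧ s ≫ v = 𝟙 P := by
  obtain ⟨hMsep, hMet⟩ := Const38.isSeparated_and_etale_of_locally hM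
  have := hex.1
  have := hex.2.1
  obtain ⟨hve, hvs⟩ := Const38.etale_of_exact hex
  have hP : ∀ s : S, _root_.IsPreconnected (P.hom ⁻¹' {s}) := fun s =>
    (P.hom.isConnected_preimage_singleton s).isPreconnected
  refine ⟨fun φ hφ => ?_, ?_⟩
  · refine Over.OverMorphism.ext (SecComp38.eq_of_section P.hom (η[P]).left (Over.w η[P]) hP M.hom φ.left
      (1 : P ⟶ M).left (by rw [Over.w, Over.w]) ?_)
    rw [← Over.comp_left, ← Over.comp_left, IsMonHom.one_hom φ, MonObj.comp_one, Hom.one_def,
      toUnit_unique (toUnit _) (𝟙 _), Category.id_comp]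
  -- `v` is separated: its diagonal is a base change of the unit section of `M`
  have hsep : IsSeparated v.left := by
    have H : IsPullback (fst E M).left ((E ◁ u) ≫ μ[E]).left v.left v.left := hex.2.2.2.1.map (Over.forget S)
    have : IsSeparated (fst E M).left :=
      MorphismProperty.pullback_fst (P := @IsSeparated) E.hom M.hom hMsep
    have h0 : (lift (𝟙 E) (1 : E ⟶ M)).left ≫ (fst E M).left = 𝟙 _ := by
      rw [← Over.comp_left, lift_fst]; rfl
    have h1 : (lift (𝟙 E) (1 : E ⟶ M)).left ≫ ((E ◁ u) ≫ μ[E]).left = 𝟙 _ := by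
      rw [← Over.comp_left, lift_whiskerLeft_assoc, ← Hom.mul_def, MonObj.one_comp, _root_.mul_one]; rfl
    have : IsClosedImmersion ((lift (𝟙 E) (1 : E ⟶ M)).left ≫ (fst E M).left) := by rw [h0]; infer_instance
    have := IsClosedImmersion.of_comp (lift (𝟙 E) (1 : E ⟶ M)).left (fst E M).left
    have hd : pullback.diagonal v.left = (lift (𝟙 E) (1 : E ⟶ M)).left ≫ H.isoPullback.hom := by
      apply pullback.hom_ext
      · rw [pullback.diagonal_fst, Category.assoc, H.isoPullback_hom_fst]; exact h0.symm
      · rw [pullback.diagonal_snd, Category.assoc, H.isoPullback_hom_snd]; exact h1.symm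
    refine ⟨?_⟩
    rw [hd]
    infer_instance
  have he : (η[P]).left ≫ P.hom = 𝟙 S := Over.w η[P]
  have he' : (η[E]).left ≫ v.left = (η[P]).left := by rw [← Over.comp_left, IsMonHom.one_hom v]
  obtain ⟨g, hg, hge⟩ := SecComp38.exists_lift he he'
    (fun s => Const38.exists_fibre_splitting hM hex s)
  let G : P ⟶ E := Over.homMk g (by rw [← Over.w v, reassoc_of% hg])
  have hGv : G ≫ v = 𝟙 P := Over.OverMorphism.ext hg
  have hG1 : η[P] ≫ G = η[E] := Over.OverMorphism.ext hge
  refine ⟨G, ⟨hG1, ?_⟩, hGv⟩
  have hPP : ∀ s : S, _root_.IsPreconnected ((P ⊗ P).hom ⁻¹' {s}) := fun s => by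
    have : GeometricallyConnected (P ⊗ P).hom :=
      GeometricallyConnected.comp (pullback.fst P.hom P.hom) P.hom
    exact ((P ⊗ P).hom.isConnected_preimage_singleton s).isPreconnected
  let c : 𝟙_ (Over S) ⟶ P ⊗ P := lift η[P] η[P]
  refine Over.OverMorphism.ext (SecComp38.eq_of_section (P ⊗ P).hom c.left (Over.w c) hPP v.left _ _ ?_ ?_)
  · rw [← Over.comp_left, ← Over.comp_left]
    congr 1
    rw [Category.assoc, hGv, Category.comp_id, Category.assoc, IsMonHom.mul_hom v, ← Category.assoc,
      MonoidalCategory.tensorHom_comp_tensorHom, hGv, id_tensorHom_id, Category.id_comp]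
  · rw [← Over.comp_left, ← Over.comp_left]
    congr 1
    have h2 : η[P] * η[P] = η[P] := by
      rw [show η[P] = (1 : 𝟙_ (Over S) ⟶ P) by rw [Hom.one_def, toUnit_unique (toUnit _) (𝟙 _), Category.id_comp],
        _root_.one_mul]
    have h3 : η[E] * η[E] = η[E] := by
      rw [show η[E] = (1 : 𝟙_ (Over S) ⟶ E) by rw [Hom.one_def, toUnit_unique (toUnit _) (𝟙 _), Category.id_comp],
        _root_.one_mul]
    rw [← Category.assoc, ← Category.assoc, lift_map, ← Hom.mul_def, ← Hom.mul_def, h2, hG1, h3]

end Groth.Agent.S8712
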