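import Groth.Statements.S8716
import Groth.Agent.Const38.Index

set_option autoImplicit false
universe u
open CategoryTheory CategoryTheory.Limits MonoidalCategory CartesianMonoidalCategory MonObj AlgebraicGeometry
open SGA7

namespace Groth.Agent.S8716

/-- Let k be a field, Z a commutative group without non-trivial elements of finite order, P a
commutative k-group scheme of finite type (so that its group of connected components is a finite,
hence torsion, group), G the constant k-group scheme Z_k (through the isomorphism eG), and u : G →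
E, v : E → P homomorphisms of commutative k-group schemes forming a sequence 1 → G → E → P → 1 exact
for the fppf topology. Then the extension is rigid: every automorphism of the k-group scheme E
compatible with u and v is the identity. (The published statement assumes only P locally of finite
type with torsion component group; this row takes P of finite type, the case it names.) -/
theorem result (k : Type u) [Field k]
    (Z : Type u) [CommGroup Z] (hZ : ∀ z : Z, IsOfFinOrder z → z = 1)
    (P E G : Over (Spec (CommRingCat.of k))) [GrpObj P] [GrpObj E] [GrpObj G]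
    [IsCommMonObj P] [IsCommMonObj E]
    [LocallyOfFiniteType P.hom] [QuasiCompact P.hom]
    (eG : G ≅ TwC.const (Spec (CommRingCat.of k)) Z) (hG : TwC.IsConstGrp Z G eG)
    (u : G ⟶ E) (v : E ⟶ P) (hex : NonAbH1.IsExactSeq Scheme.fppfPrecoverage u v)
    (φ : E ≅ E) [IsMonHom φ.hom] (hφu : u ≫ φ.hom = u) (hφv : φ.hom ≫ v = v) :
    φ.hom = 𝟙 E := by
  have := hex.1
  have := hex.2.1
  have hv : ExtGrp38.Covers v := ExtGrp38.covers_of_locallyTrivial v hex.2.2.2.2
  obtain ⟨c, hc⟩ := ExtGrp38.ker_exists_one hex (y := φ.hom * (𝟙 E)⁻¹) (by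
    rw [MonObj.mul_comp, GrpObj.inv_comp, hφv, Category.id_comp, mul_inv_cancel])
  have hpt : ∀ (T : Over _) (x : T ⟶ E), (x ≫ c) ≫ u = (x ≫ φ.hom) * x⁻¹ := by
    intro T x
    rw [Category.assoc, ← hc, MonObj.comp_mul, GrpObj.comp_inv, Category.comp_id]
  obtain ⟨ψ, hψ⟩ := ExtGrp38.descend hv c fun T x x' he => by
    obtain ⟨h, hh⟩ := ExtGrp38.ker_exists hex he
    refine ExtGrp38.ker_unique hex ?_
    rw [hpt, hpt, hh, MonObj.mul_comp, Category.assoc, hφu]
    rw [mul_inv_rev, _root_.mul_assoc (x ≫ φ.hom), ← _root_.mul_assoc (h ≫ u) (h ≫ u)⁻¹, mul_inv_cancel, _root_.one_mul]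
  have : CompactSpace P.left := HasAffineProperty.iff_of_isAffine (P := @QuasiCompact) (f := P.hom) |>.1 inferInstance
  have hψ1 : ψ = 1 := by
    refine Const38.eq_one_of_powers hG hZ ψ fun T x n => ExtGrp38.hom_ext hv x fun W g e he => ?_
    refine ExtGrp38.ker_unique hex ?_
    rw [← Category.assoc g, MonObj.comp_pow, ← he, ← MonObj.pow_comp, Category.assoc _ v ψ, hψ, MonObj.comp_pow,
      ← Category.assoc g x, ← he, Category.assoc _ v ψ, hψ, hpt, MonObj.pow_comp _ _ u, hpt, MonObj.pow_comp, mul_pow, inv_pow]
  have h2 : (𝟙 E ≫ c) ≫ u = 1 := by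
    rw [Category.id_comp, ← hψ, hψ1, MonObj.comp_one, MonObj.one_comp]
  rw [hpt, Category.id_comp, mul_inv_eq_one] at h2
  exact h2

end Groth.Agent.S8716
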