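import Groth.Statements.S9812
import Mathlib.RingTheory.IntegralClosure.IntegrallyClosed
import Mathlib.RingTheory.Ideal.Quotient.Operations

set_option autoImplicit false
universe u
open CAlg2

namespace Groth.Agent.S9812

/-- At the level of the local ring: an integrally closed local domain is geometrically unibranch.
Consequently a normal scheme is geometrically unibranch. -/
theorem result (A : Type u) [CommRing A] [IsLocalRing A]
    [IsDomain A] [IsIntegrallyClosed A] : CAlg2.IsGeomUnibranch A := by

  have h0 : nilradical A = ⊥ := nilradical_eq_zero A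
  have e : A ≃+* CAlg2.red A :=
    RingEquiv.ofBijective (Ideal.Quotient.mk (nilradical A))
      ⟨fun x y hxy => by
          rw [Ideal.Quotient.eq, h0, Ideal.mem_bot, sub_eq_zero] at hxy; exact hxy,
        Ideal.Quotient.mk_surjective⟩
  haveI : IsDomain (CAlg2.red A) := MulEquiv.isDomain A e.symm.toMulEquiv
  haveI : IsIntegrallyClosed (CAlg2.red A) := IsIntegrallyClosed.of_equiv e
  haveI : IsLocalRing (CAlg2.red A) :=
    IsLocalRing.of_surjective' (Ideal.Quotient.mk (nilradical A)) Ideal.Quotient.mk_surjective
  have hsurj : Function.Surjective (algebraMap (CAlg2.red A) (CAlg2.normRed A)) := by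
    intro y
    obtain ⟨a, ha⟩ := IsIntegrallyClosed.isIntegral_iff.mp y.2
    exact ⟨a, Subtype.ext ha⟩
  haveI : IsLocalRing (CAlg2.normRed A) :=
    IsLocalRing.of_surjective' (algebraMap (CAlg2.red A) (CAlg2.normRed A)) hsurj
  refine ⟨⟨inferInstance, inferInstance⟩, fun m' _ => ?_⟩
  intro x
  obtain ⟨y, rfl⟩ := Ideal.Quotient.mk_surjective x
  obtain ⟨b, rfl⟩ := hsurj y
  obtain ⟨a, rfl⟩ := Ideal.Quotient.mk_surjective b
  exact ⟨0, a, by rw [pow_zero, pow_one]; rfl⟩

end Groth.Agent.S9812
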