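import Groth.Statements.S8717
import Groth.Agent.ExtGrp38.Extend
import Groth.Agent.Const38.Restrict
import Groth.Agent.Const38.FreeSection
import Groth.Agent.S9812

set_option autoImplicit false
universe u
open CategoryTheory CategoryTheory.Limits MonoidalCategory CartesianMonoidalCategory MonObj AlgebraicGeometry
open SGA7

namespace Groth.Agent.S8717

/-- Let S be an irreducible scheme all of whose local rings are geometrically unibranch, ξ its generic
point and i : Spec κ(ξ) → S the canonical morphism, Z a group without non-trivial elements of finite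
order, G the constant S-group scheme Z_S (through eG), P a smooth S-group scheme, and u' : G_η → E',
v' : E' → P_η homomorphisms of group schemes over κ(ξ) forming a sequence 1 → G_η → E' → P_η → 1
exact for the fppf topology (G_η = G ×_S Spec κ(ξ), P_η likewise). Then the extension comes from S:
there are an S-group scheme E, homomorphisms u : G → E, v : E → P forming a sequence exact for the
fppf topology, and an isomorphism of group schemes E_η ≅ E' carrying u_η to u' and v_η to v'. (The
published statement asserts that E ↦ E_η is an equivalence of categories of extensions; only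
essential surjectivity is stated.) -/
theorem result (S : Scheme.{u}) [IrreducibleSpace ↥S]
    (hS : ∀ s : ↥S, CAlg2.IsGeomUnibranch ↑(S.presheaf.stalk s))
    (ξ : ↥S) (hξ : IsGenericPoint ξ (Set.univ : Set ↥S))
    (Z : Type u) [Group Z] (hZ : ∀ z : Z, IsOfFinOrder z → z = 1)
    (G P : Over S) [GrpObj G] [GrpObj P] (eG : G ≅ TwC.const S Z) (hG : TwC.IsConstGrp Z G eG) [Smooth P.hom]
    (E' : Over (Spec (S.residueField ξ))) [GrpObj E']
    (u' : Red.bc (S.fromSpecResidueField ξ) G ⟶ E') (v' : E' ⟶ Red.bc (S.fromSpecResidueField ξ) P)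
    (hex' : NonAbH1.IsExactSeq Scheme.fppfPrecoverage u' v') :
    ∃ (E : Over S) (_ : GrpObj E) (u : G ⟶ E) (v : E ⟶ P)
      (φ : Red.bc (S.fromSpecResidueField ξ) E ≅ E'),
      NonAbH1.IsExactSeq Scheme.fppfPrecoverage u v ∧ IsMonHom φ.hom ∧
        (Over.pullback (S.fromSpecResidueField ξ)).map u ≫ φ.hom = u' ∧
        φ.hom ≫ v' = (Over.pullback (S.fromSpecResidueField ξ)).map v := by
  let k := S.residueField ξ
  let t := S.fromSpecResidueField ξ
  let F := Over.pullback t
  have := hex'.1
  have := hex'.2.1
  have hk : ∀ x : ↥(Spec k), CAlg2.IsGeomUnibranch ((Spec k).presheaf.stalk x) := fun x => by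
    obtain ⟨a, ha⟩ := E4O.exists_isLocalization_stalk (R := k) (𝟙 (Spec (CommRingCat.of k))) x
    have hfld : IsField ((Spec k).presheaf.stalk x) := by
      let R : Type u := (Spec (CommRingCat.of k)).presheaf.stalk ((𝟙 (Spec (CommRingCat.of k)) : Spec (CommRingCat.of k) ⟶ _) x)
      let e : k ≃ₐ[k] R := IsLocalization.atUnits k (PrimeSpectrum.asIdeal x).primeCompl fun y hy =>
        isUnit_iff_ne_zero.2 fun h => hy (h ▸ Submodule.zero_mem _)
      exact (show IsField R from e.symm.toMulEquiv.isField (Field.toIsField k))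
    let := hfld.toField
    exact S9812.result _
  have : Smooth (F.obj P).hom := MorphismProperty.pullback_snd (P := @Smooth) _ _ inferInstance
  obtain ⟨e', he'⟩ := Const38.exists_constGrpBC t hG
  have : IrreducibleSpace ↥(Spec k) := inferInstanceAs (IrreducibleSpace (PrimeSpectrum k))
  obtain ⟨s, hs, hs1⟩ := Const38.exists_normalised_section hk hZ he' hex'
  -- the underlying scheme of the extension is the product
  let φ0 : F.obj G ⊗ F.obj P ⟶ E' := (fst _ _ ≫ u') * (snd _ _ ≫ s)
  obtain ⟨g, hg⟩ := ExtGrp38.ker_exists_one hex' (y := 𝟙 E' * (v' ≫ s)⁻¹) (by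
    rw [MonObj.mul_comp, GrpObj.inv_comp, Category.assoc, hs, Category.id_comp, Category.comp_id, mul_inv_cancel])
  let φ1 : F.obj G ⊗ F.obj P ≅ E' :=
    { hom := φ0
      inv := lift g v'
      hom_inv_id := by
        have hv0 : φ0 ≫ v' = snd _ _ := by
          rw [MonObj.mul_comp, Category.assoc, hex'.2.2.1, MonObj.comp_one, _root_.one_mul, Category.assoc, hs,
            Category.comp_id]
        refine CartesianMonoidalCategory.hom_ext _ _ ?_ ?_
        · rw [Category.assoc, lift_fst, Category.id_comp]
          refine ExtGrp38.ker_unique hex' ?_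
          rw [Category.assoc, ← hg, MonObj.comp_mul, GrpObj.comp_inv, Category.comp_id, ← Category.assoc, hv0]
          exact mul_inv_cancel_right _ _
        · rw [Category.assoc, lift_snd, Category.id_comp, hv0]
      inv_hom_id := by
        rw [MonObj.comp_mul, lift_fst_assoc, lift_snd_assoc, ← hg, inv_mul_cancel_right] }
  let φ : F.obj (G ⊗ P) ≅ E' := (Functor.Monoidal.μIso F G P).symm ≪≫ φ1
  have hφ : φ.hom = (F.map (fst G P) ≫ u') * (F.map (snd G P) ≫ s) := by
    show Functor.OplaxMonoidal.δ F G P ≫ φ0 = _
    rw [MonObj.comp_mul, Functor.OplaxMonoidal.δ_fst_assoc, Functor.OplaxMonoidal.δ_snd_assoc]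
  obtain ⟨instE, u, v, hu, hv, huv, hpb, hv', hφhom, hφu, hφv⟩ :=
    ExtGrp38.exists_extension F (fun X => Smooth X.hom)
      (fun X Y (_ : Smooth X.hom) (_ : Smooth Y.hom) => inferInstanceAs (Smooth (pullback.fst X.hom Y.hom ≫ X.hom)))
      (inferInstanceAs (Smooth (𝟙 S)))
      (show Smooth G.hom by have := Const38.etale_const eG; infer_instance) inferInstance
      (fun X hX => Const38.bijective_restrict hS hξ eG X hX) (u' := u') (v' := v') φ
      (by rw [hφ, MonObj.mul_comp, Category.assoc, hex'.2.2.1, MonObj.comp_one, _root_.one_mul, Category.assoc, hs,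
        Category.comp_id])
      (by
        rw [hφ, MonObj.comp_mul, ← Functor.map_comp_assoc, lift_fst, F.map_id, Category.id_comp,
          ← Functor.map_comp_assoc, lift_snd, Functor.map_one,
          show (1 : F.obj G ⟶ F.obj P) = toUnit _ ≫ 1 from (MonObj.comp_one _).symm, Category.assoc, hs1,
          MonObj.comp_one, _root_.mul_one])
  refine ⟨G ⊗ P, instE, u, v, φ, ⟨hu, hv, huv, hpb, Presieve.singleton (𝟙 P.left),
    Scheme.fppfPrecoverage.mem_coverings_of_isIso _, ?_⟩, hφhom, hφu, hφv⟩
  rintro S' f ⟨⟩
  refine ⟨(lift (1 : P ⟶ G) (𝟙 P)).left, ?_⟩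
  show (lift (1 : P ⟶ G) (𝟙 P)).left ≫ v.left = _
  rw [← Over.comp_left, hv', lift_snd]
  rfl

end Groth.Agent.S8717
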