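import Groth.Statements.S8718
import Groth.Agent.ExtGrp38.Kernel
import Mathlib.Tactic.Group

set_option autoImplicit false
universe u
open CategoryTheory CategoryTheory.Limits MonoidalCategory CartesianMonoidalCategory MonObj AlgebraicGeometry
open SGA7

namespace Groth.Agent.S8718

open CategoryTheory MonoidalCategory CartesianMonoidalCategory MonObj


/-- For group schemes over a base scheme S (the representable case on the fppf site): let P and G be
S-group schemes with G commutative, and u : G → E, v : E → P homomorphisms of S-group schemes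
forming a sequence 1 → G → E → P → 1 exact for the fppf topology. Suppose every morphism of
S-schemes P ×_S G → G whose restrictions to P × e_G and to e_P × G are trivial is trivial. Then u(G)
is central in E: for all points g of G and x of E with values in any S-scheme, u(g) x = x u(g). If
moreover P is commutative and every morphism of S-schemes P ×_S P → G trivial on P × e_P and on e_P
× P is trivial, then E is commutative. (The published statement is for sheaves of groups on an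
arbitrary topos; this row is its case of representable sheaves on the fppf site of S. Morphisms to G
form a group; trivial means equal to its unit.) -/
theorem result (S : Scheme.{u})
    (P G E : Over S) [GrpObj P] [GrpObj G] [GrpObj E] [IsCommMonObj G]
    (u : G ⟶ E) (v : E ⟶ P) (hex : NonAbH1.IsExactSeq Scheme.fppfPrecoverage u v)
    (hPG : ∀ f : P ⊗ G ⟶ G, lift (𝟙 P) (toUnit P ≫ η[G]) ≫ f = 1 → lift (toUnit G ≫ η[P]) (𝟙 G) ≫ f = 1 → f = 1) :
    (∀ (T : Over S) (g : T ⟶ G) (x : T ⟶ E), (g ≫ u) * x = x * (g ≫ u)) ∧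
      (IsCommMonObj P →
        (∀ f : P ⊗ P ⟶ G, lift (𝟙 P) (toUnit P ≫ η[P]) ≫ f = 1 → lift (toUnit P ≫ η[P]) (𝟙 P) ≫ f = 1 → f = 1) →
          IsCommMonObj E) := by
  have := hex.1
  have := hex.2.1
  have hv : ExtGrp38.Covers v := ExtGrp38.covers_of_locallyTrivial v hex.2.2.2.2
  have hcen : ∀ (T : Over S) (g : T ⟶ G) (x : T ⟶ E), (g ≫ u) * x = x * (g ≫ u) := by
    let a : E ⊗ G ⟶ E := fst E G
    let b : E ⊗ G ⟶ E := snd E G ≫ u
    obtain ⟨c, hc⟩ := ExtGrp38.ker_exists_one hex (y := a * b * a⁻¹ * b⁻¹) (by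
      rw [MonObj.mul_comp, MonObj.mul_comp, MonObj.mul_comp, GrpObj.inv_comp, GrpObj.inv_comp, show b ≫ v = 1 from
        ExtGrp38.pt_uv hex (snd E G)]
      simp)
    have hpt : ∀ (Z : Over S) (z : Z ⟶ E ⊗ G),
        (z ≫ c) ≫ u = (z ≫ fst E G) * (z ≫ snd E G ≫ u) * (z ≫ fst E G)⁻¹ * (z ≫ snd E G ≫ u)⁻¹ := by
      intro Z z
      rw [Category.assoc, ← hc, MonObj.comp_mul, MonObj.comp_mul, MonObj.comp_mul, GrpObj.comp_inv, GrpObj.comp_inv]
    obtain ⟨ψ, hψ⟩ := ExtGrp38.descend (hv.tensor (ExtGrp38.covers_id G)) c fun Z e e' he => by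
      have hs : e ≫ snd E G = e' ≫ snd E G := by
        have := congrArg (· ≫ snd P G) he
        simpa using this
      have hf : (e ≫ fst E G) ≫ v = (e' ≫ fst E G) ≫ v := by
        have := congrArg (· ≫ fst P G) he
        simpa using this
      obtain ⟨h, hh⟩ := ExtGrp38.ker_exists hex hf
      refine ExtGrp38.ker_unique hex ?_
      rw [hpt, hpt, hh, ← Category.assoc e, ← Category.assoc e', hs, mul_inv_rev,
        _root_.mul_assoc (e ≫ fst E G) (h ≫ u), ExtGrp38.comp_comm hex h (e' ≫ snd E G)]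
      group
    have hψ1 : ψ = 1 := by
      refine hPG ψ ?_ ?_
      · refine ExtGrp38.cancel hv ?_
        rw [MonObj.comp_one, ← Category.assoc,
          show v ≫ lift (𝟙 P) (toUnit P ≫ η[G]) = lift (𝟙 E) (toUnit E ≫ η[G]) ≫ (v ⊗ₘ 𝟙 G) by ext <;> simp,
          Category.assoc, hψ]
        refine (ExtGrp38.comp_inj hex).1 ?_
        rw [hpt]
        have h1 : lift (𝟙 E) (toUnit E ≫ η[G]) ≫ snd E G ≫ u = 1 := by
          rw [lift_snd_assoc, ← Hom.one_def, MonObj.one_comp]
        simp [h1]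
      · rw [show lift (toUnit G ≫ η[P]) (𝟙 G) = lift (toUnit G ≫ η[E]) (𝟙 G) ≫ (v ⊗ₘ 𝟙 G) by
          ext
          · rw [lift_fst, Category.assoc, tensorHom_fst, lift_fst_assoc, ← Hom.one_def, ← Hom.one_def, MonObj.one_comp]
          · simp, Category.assoc, hψ]
        refine (ExtGrp38.comp_inj hex).1 ?_
        rw [hpt]
        have h1 : lift (toUnit G ≫ η[E]) (𝟙 G) ≫ fst E G = 1 := by rw [lift_fst, ← Hom.one_def]
        simp [h1]
    intro T g x
    have h2 : (lift x g ≫ c) ≫ u = 1 := by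
      rw [← hψ, hψ1, MonObj.comp_one, MonObj.comp_one, MonObj.one_comp]
    rw [hpt, lift_fst, lift_snd_assoc, mul_inv_eq_one, mul_inv_eq_iff_eq_mul] at h2
    exact h2.symm
  refine ⟨hcen, fun hP hPP => ?_⟩
  let a : E ⊗ E ⟶ E := fst E E
  let b : E ⊗ E ⟶ E := snd E E
  obtain ⟨c, hc⟩ := ExtGrp38.ker_exists_one hex (y := a * b * a⁻¹ * b⁻¹) (by
    rw [MonObj.mul_comp, MonObj.mul_comp, MonObj.mul_comp, GrpObj.inv_comp, GrpObj.inv_comp]
    have := hP
    rw [_root_.mul_comm (a ≫ v) (b ≫ v)]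
    simp)
  have hpt : ∀ (Z : Over S) (z : Z ⟶ E ⊗ E),
      (z ≫ c) ≫ u = (z ≫ fst E E) * (z ≫ snd E E) * (z ≫ fst E E)⁻¹ * (z ≫ snd E E)⁻¹ := by
    intro Z z
    rw [Category.assoc, ← hc, MonObj.comp_mul, MonObj.comp_mul, MonObj.comp_mul, GrpObj.comp_inv, GrpObj.comp_inv]
  obtain ⟨ψ, hψ⟩ := ExtGrp38.descend (hv.tensor hv) c fun Z e e' he => by
    have hf : (e ≫ fst E E) ≫ v = (e' ≫ fst E E) ≫ v := by
      have := congrArg (· ≫ fst P P) he
      simpa using this
    have hs : (e ≫ snd E E) ≫ v = (e' ≫ snd E E) ≫ v := by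
      have := congrArg (· ≫ snd P P) he
      simpa using this
    obtain ⟨g, hg⟩ := ExtGrp38.ker_exists hex hf
    obtain ⟨h, hh⟩ := ExtGrp38.ker_exists hex hs
    refine ExtGrp38.ker_unique hex ?_
    rw [hpt, hpt, hg, hh]
    have comm : ∀ (x : Z ⟶ E) (w : Z ⟶ G), Commute (w ≫ u) x := fun x w => hcen Z w x
    generalize (e ≫ fst E E) = p at *
    generalize (e ≫ snd E E) = q at *
    have c1 := (comm q g).eq
    have c2 := (comm p⁻¹ h).eq
    symm
    calc p * (g ≫ u) * (q * (h ≫ u)) * (p * (g ≫ u))⁻¹ * (q * (h ≫ u))⁻¹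
        = p * ((g ≫ u) * q) * ((h ≫ u) * (g ≫ u)⁻¹) * p⁻¹ * (h ≫ u)⁻¹ * q⁻¹ := by group
      _ = p * (q * (g ≫ u)) * ((g ≫ u)⁻¹ * (h ≫ u)) * p⁻¹ * (h ≫ u)⁻¹ * q⁻¹ := by
          rw [c1, ((comm (g ≫ u) h).inv_right).eq]
      _ = p * q * ((h ≫ u) * p⁻¹) * (h ≫ u)⁻¹ * q⁻¹ := by group
      _ = p * q * p⁻¹ * q⁻¹ := by rw [c2]; group
  have hψ1 : ψ = 1 := by
    refine hPP ψ ?_ ?_
    · refine ExtGrp38.cancel hv ?_
      rw [MonObj.comp_one, ← Category.assoc,
        show v ≫ lift (𝟙 P) (toUnit P ≫ η[P]) = lift (𝟙 E) (toUnit E ≫ η[E]) ≫ (v ⊗ₘ v) by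
          ext
          · simp
          · rw [Category.assoc, lift_snd, Category.assoc, tensorHom_snd, lift_snd_assoc, ← Hom.one_def,
              ← Hom.one_def, MonObj.one_comp, MonObj.comp_one],
        Category.assoc, hψ]
      refine (ExtGrp38.comp_inj hex).1 ?_
      rw [hpt, lift_fst, lift_snd, ← Hom.one_def]
      simp
    · refine ExtGrp38.cancel hv ?_
      rw [MonObj.comp_one, ← Category.assoc,
        show v ≫ lift (toUnit P ≫ η[P]) (𝟙 P) = lift (toUnit E ≫ η[E]) (𝟙 E) ≫ (v ⊗ₘ v) by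
          ext
          · rw [Category.assoc, lift_fst, Category.assoc, tensorHom_fst, lift_fst_assoc, ← Hom.one_def,
              ← Hom.one_def, MonObj.one_comp, MonObj.comp_one]
          · simp,
        Category.assoc, hψ]
      refine (ExtGrp38.comp_inj hex).1 ?_
      rw [hpt, lift_fst, lift_snd, ← Hom.one_def]
      simp
  refine ⟨?_⟩
  have h2 : (𝟙 (E ⊗ E) ≫ c) ≫ u = 1 := by
    rw [Category.id_comp, ← hψ, hψ1, MonObj.comp_one, MonObj.one_comp]
  rw [hpt, Category.id_comp, Category.id_comp, mul_inv_eq_one, mul_inv_eq_iff_eq_mul] at h2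
  have e1 : (β_ E E).hom ≫ μ[E] = snd E E * fst E E := by
    rw [Hom.mul_def]
    congr 1
  rw [e1, ← h2, Hom.mul_def, lift_fst_snd, Category.id_comp]

end Groth.Agent.S8718
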