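import Groth.Statements.S8719
import Groth.Agent.QS97.Hessian

set_option autoImplicit false
universe u
open VanCyc MvPowerSeries

namespace Groth.Agent.S8719

/-- The formal computation carried out in its proof: let k be a field and f a power series in k[[x_0,
..., x_n]] with vanishing constant and linear terms whose degree-two part is a non-degenerate
quadratic form (the Gram determinant of its polar bilinear form is a unit). Then the partial
derivatives of f generate the maximal ideal of k[[x_0, ..., x_n]] (so f together with its partial
derivatives cut out the origin with multiplicity one). -/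
theorem result (k : Type u) [Field k] (n : ℕ)
    (f : MvPowerSeries (Fin (n + 1)) k) (hf : VanCyc.NondegQuadSeries f) :
    Ideal.span (Set.range fun i : Fin (n + 1) => MvPowerSeries.pderiv k i f) =
      IsLocalRing.maximalIdeal (MvPowerSeries (Fin (n + 1)) k) := by
  classical
  have hmem : ∀ g : MvPowerSeries (Fin (n + 1)) k,
      g ∈ IsLocalRing.maximalIdeal (MvPowerSeries (Fin (n + 1)) k) ↔ constantCoeff g = 0 := fun g => by
    rw [IsLocalRing.mem_maximalIdeal, mem_nonunits_iff, isUnit_iff_constantCoeff, isUnit_iff_ne_zero,
      not_not]
  have hlow : ∀ i, constantCoeff (pderiv k i f) = 0 := fun i => by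
    rw [← QS97.d1, QS97.d1_eq_coeff]
    exact hf.1.2 i
  refine le_antisymm (Ideal.span_le.2 ?_) fun g hg => ?_
  · rintro _ ⟨i, rfl⟩
    exact (hmem _).2 (hlow i)
  · set A : Matrix (Fin (n + 1)) (Fin (n + 1)) (MvPowerSeries (Fin (n + 1)) k) :=
      fun i j => QS97.shift j (pderiv k i f) with hA
    have hdet : IsUnit A.det := by
      rw [isUnit_iff_constantCoeff, RingHom.map_det]
      have e : (constantCoeff : MvPowerSeries (Fin (n + 1)) k →+* k).mapMatrix A =
          (VanCyc.polarMatrix (VanCyc.quadPart f)).transpose := by
        ext i j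
        rw [RingHom.mapMatrix_apply, Matrix.map_apply, hA, ← coeff_zero_eq_constantCoeff_apply,
          QS97.coeff_shift, Matrix.transpose_apply]
        rw [if_pos (fun x _ => Finsupp.zero_apply), zero_add, QS97.coeff_single_pderiv]
      rw [e, Matrix.det_transpose]
      exact hf.2
    have hX : ∀ l, (X l : MvPowerSeries (Fin (n + 1)) k) ∈
        Ideal.span (Set.range fun i => pderiv k i f) := by
      intro l
      have h1 : A.mulVec X = fun i => pderiv k i f := by
        funext i
        rw [Matrix.mulVec, dotProduct]
        conv_rhs => rw [← QS97.sum_X_mul_shift (hlow i)]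
        exact Finset.sum_congr rfl fun j _ => mul_comm _ _
      have h2 : A⁻¹.mulVec (fun i => pderiv k i f) = X := by
        rw [← h1, Matrix.mulVec_mulVec, Matrix.nonsing_inv_mul A hdet, Matrix.one_mulVec]
      rw [← congrFun h2 l, Matrix.mulVec, dotProduct]
      exact Ideal.sum_mem _ fun i _ => Ideal.mul_mem_left _ _ (Ideal.subset_span ⟨i, rfl⟩)
    rw [← QS97.sum_X_mul_shift ((hmem g).1 hg)]
    exact Ideal.sum_mem _ fun i _ => Ideal.mul_mem_right _ _ (hX i)

end Groth.Agent.S8719
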