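import Groth.Statements.S8720
import Groth.Agent.MonIdeal38.Basic
import Mathlib.Tactic.IntervalCases
import Mathlib.Algebra.CharP.Two
import Mathlib.RingTheory.MvPowerSeries.Derivative
import Mathlib.RingTheory.MvPowerSeries.Inverse
import Mathlib.RingTheory.Nakayama
import Mathlib.LinearAlgebra.Isomorphisms
import Mathlib.LinearAlgebra.Dimension.Constructions

set_option autoImplicit false
universe u
open VanCyc

namespace Groth.Agent.S8720

/-- The formal computation carried out in its proof: let k be a field of characteristic 2, m a natural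
number, and f a power series over k in the variables x_0 and x_i, x_i' (i = 1, ..., m) whose terms
of degree less than 3 are exactly those of x_0^2 + x_1 x_1' + ... + x_m x_m'. Then the ideal
generated by f and all its partial derivatives is the ideal generated by x_0^2 and the x_i, x_i',
and the quotient of the power series ring by this ideal is two-dimensional over k. (Characteristic 2
is what makes the derivative in x_0 lose its linear term.) -/
theorem result (k : Type u) [Field k] [CharP k 2] (m : ℕ)
    (f : MvPowerSeries (Option (Fin m ⊕ Fin m)) k)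
    (hf : ∀ d : Option (Fin m ⊕ Fin m) →₀ ℕ, d.degree < 3 →
      MvPowerSeries.coeff d f = MvPowerSeries.coeff d
        (MvPowerSeries.X none ^ 2 +
          ∑ i : Fin m, MvPowerSeries.X (some (Sum.inl i)) * MvPowerSeries.X (some (Sum.inr i)))) :
    Ideal.span ({f} ∪ Set.range fun i : Option (Fin m ⊕ Fin m) => MvPowerSeries.pderiv k i f) =
      Ideal.span ({MvPowerSeries.X none ^ 2} ∪
        Set.range fun j : Fin m ⊕ Fin m => (MvPowerSeries.X (some j) : MvPowerSeries (Option (Fin m ⊕ Fin m)) k)) ∧
    Module.finrank k (MvPowerSeries (Option (Fin m ⊕ Fin m)) k ⧸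
      Ideal.span ({MvPowerSeries.X none ^ 2} ∪
        Set.range fun j : Fin m ⊕ Fin m => (MvPowerSeries.X (some j) : MvPowerSeries (Option (Fin m ⊕ Fin m)) k))) = 2 := by
  classical
  let P := MvPowerSeries (Option (Fin m ⊕ Fin m)) k
  let e₀ : Option (Fin m ⊕ Fin m) →₀ ℕ := Finsupp.single none 1
  let J : Ideal P := Ideal.span ({MvPowerSeries.X none ^ 2} ∪
    Set.range fun j : Fin m ⊕ Fin m => (MvPowerSeries.X (some j) : P))
  let M : Ideal P := Ideal.span (Set.range fun i : Option (Fin m ⊕ Fin m) => (MvPowerSeries.X i : P))
  let sJ : Finset (Option (Fin m ⊕ Fin m) →₀ ℕ) :=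
    insert (Finsupp.single none 2) (Finset.univ.image fun j => Finsupp.single (some j) 1)
  let s3 : Finset (Option (Fin m ⊕ Fin m) →₀ ℕ) :=
    insert (Finsupp.single none 3)
      (Finset.univ.image fun p : (Fin m ⊕ Fin m) × Option (Fin m ⊕ Fin m) => Finsupp.single (some p.1) 1 + Finsupp.single p.2 1)
  have hsJ : Ideal.span ((fun d => MvPowerSeries.monomial d (1 : k)) '' (sJ : Set _)) = J := by
    congr 1
    simp only [sJ, Finset.coe_insert, Finset.coe_image, Finset.coe_univ, Set.image_insert_eq, Set.image_univ,
      MvPowerSeries.X_pow_eq, Set.singleton_union]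
    congr 1
    rw [← Set.range_comp]
    rfl
  have hdeg : ∀ d : Option (Fin m ⊕ Fin m) →₀ ℕ, d.degree = d none + ∑ j, d (some j) := fun d => by
    rw [Finsupp.degree_eq_sum, Fintype.sum_option]
  have hsome : ∀ d : Option (Fin m ⊕ Fin m) →₀ ℕ, (∀ j, d (some j) = 0) → d = Finsupp.single none (d none) := fun d h => by
    ext i; rcases i with _ | j <;> simp [h]
  -- membership in `J`
  have memJ : ∀ g : P, g ∈ J ↔ MvPowerSeries.coeff 0 g = 0 ∧ MvPowerSeries.coeff e₀ g = 0 := by
    intro g
    rw [← hsJ, MonIdeal38.mem_span_monomial_iff]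
    refine ⟨fun h => ⟨h 0 fun d hd => ?_, h e₀ fun d hd => ?_⟩, fun h e he => ?_⟩
    · rcases Finset.mem_insert.1 hd with rfl | hd
      · simp
      · obtain ⟨j, -, rfl⟩ := Finset.mem_image.1 hd
        simp
    · rcases Finset.mem_insert.1 hd with rfl | hd
      · simp [e₀]
      · obtain ⟨j, -, rfl⟩ := Finset.mem_image.1 hd
        simp [e₀]
    · have h1 : ∀ j, e (some j) = 0 := fun j => by
        by_contra hj
        refine he (Finsupp.single (some j) 1) (Finset.mem_insert_of_mem (Finset.mem_image.2 ⟨j, Finset.mem_univ _, rfl⟩)) ?_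
        rw [Finsupp.single_le_iff]; omega
      have h2 : e none < 2 := by
        by_contra hn
        refine he (Finsupp.single none 2) (by simp [sJ]) ?_
        rw [Finsupp.single_le_iff]; omega
      rw [hsome e h1]
      interval_cases (e none)
      · simpa using h.1
      · exact h.2
  -- high order terms
  have mem3 : ∀ g : P, (∀ d, d.degree < 3 → MvPowerSeries.coeff d g = 0) → g ∈ M * J := by
    intro g hg
    have h : g ∈ Ideal.span ((fun d => MvPowerSeries.monomial d (1 : k)) '' (s3 : Set _)) := by
      rw [MonIdeal38.mem_span_monomial_iff]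
      intro e he
      refine hg e ?_
      by_contra hlt
      by_cases h1 : ∀ j, e (some j) = 0
      · refine he (Finsupp.single none 3) (by simp [s3]) ?_
        rw [Finsupp.single_le_iff]
        have := hdeg e
        simp [h1] at this
        omega
      · push Not at h1
        obtain ⟨j, hj⟩ := h1
        have hle : Finsupp.single (some j) 1 ≤ e := by rw [Finsupp.single_le_iff]; omega
        obtain ⟨i, hi⟩ : ∃ i, ((e - Finsupp.single (some j) 1 : Option (Fin m ⊕ Fin m) →₀ ℕ)) i ≠ 0 := by
          by_contra h2
          push Not at h2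
          have : e = Finsupp.single (some j) 1 := by
            rw [← add_tsub_cancel_of_le hle, show e - Finsupp.single (some j) 1 = 0 from Finsupp.ext h2, add_zero]
          rw [this, Finsupp.degree_single] at hlt
          omega
        refine he (Finsupp.single (some j) 1 + Finsupp.single i 1)
          (Finset.mem_insert_of_mem (Finset.mem_image.2 ⟨(j, i), Finset.mem_univ _, rfl⟩)) ?_
        rw [← add_tsub_cancel_of_le hle]
        exact add_le_add le_rfl (Finsupp.single_le_iff.2 (Nat.one_le_iff_ne_zero.2 hi))
    refine (Ideal.span_le.2 ?_) h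
    rintro _ ⟨d, hd, rfl⟩
    simp only [s3, Finset.mem_coe, Finset.mem_insert, Finset.mem_image, Finset.mem_univ, true_and] at hd
    rcases hd with rfl | ⟨⟨j, i⟩, rfl⟩
    · show MvPowerSeries.monomial (Finsupp.single none 3) (1 : k) ∈ M * J
      rw [← MvPowerSeries.X_pow_eq, pow_succ']
      exact Ideal.mul_mem_mul (Ideal.subset_span ⟨none, rfl⟩) (Ideal.subset_span (Or.inl rfl))
    · show MvPowerSeries.monomial (Finsupp.single (some j) 1 + Finsupp.single i 1) (1 : k) ∈ M * J
      rw [add_comm, ← one_mul (1 : k), ← MvPowerSeries.monomial_mul_monomial]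
      exact Ideal.mul_mem_mul (Ideal.subset_span ⟨i, rfl⟩) (Ideal.subset_span (Or.inr ⟨j, rfl⟩))
  -- low order coefficients of `f`
  have hXX : ∀ (i : Fin m) (d : Option (Fin m ⊕ Fin m) →₀ ℕ), MvPowerSeries.coeff d
      (MvPowerSeries.X (some (Sum.inl i)) * MvPowerSeries.X (some (Sum.inr i)) : P) =
      if d = Finsupp.single (some (Sum.inl i)) 1 + Finsupp.single (some (Sum.inr i)) 1 then 1 else 0 := by
    intro i d
    rw [MvPowerSeries.X_def, MvPowerSeries.X_def, MvPowerSeries.monomial_mul_monomial, one_mul, MvPowerSeries.coeff_monomial]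
  have hfc : ∀ d : Option (Fin m ⊕ Fin m) →₀ ℕ, d.degree < 3 → MvPowerSeries.coeff d f =
      (if d = Finsupp.single none 2 then 1 else 0) +
        ∑ i : Fin m, if d = Finsupp.single (some (Sum.inl i)) 1 + Finsupp.single (some (Sum.inr i)) 1 then (1 : k) else 0 := by
    intro d hd
    rw [hf d hd, map_add, map_sum, MvPowerSeries.coeff_X_pow]
    simp only [hXX]
  have h2k : (2 : k) = 0 := CharTwo.two_eq_zero
  have hle : Ideal.span ({f} ∪ Set.range fun i : Option (Fin m ⊕ Fin m) => MvPowerSeries.pderiv k i f) ≤ J := by
    rw [Ideal.span_le]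
    have key : ∀ d : Option (Fin m ⊕ Fin m) →₀ ℕ, d.degree ≤ 2 → d ≠ Finsupp.single none 2 →
        (∀ i : Fin m, d ≠ Finsupp.single (some (Sum.inl i)) 1 + Finsupp.single (some (Sum.inr i)) 1) →
        MvPowerSeries.coeff d f = 0 := fun d h1 h2 h3 => by
      rw [hfc d (by omega), if_neg h2, zero_add]
      exact Finset.sum_eq_zero fun i _ => if_neg (h3 i)
    have hne : ∀ (d : Option (Fin m ⊕ Fin m) →₀ ℕ) (i : Fin m), d.degree ≠ 2 →
        d ≠ Finsupp.single (some (Sum.inl i)) 1 + Finsupp.single (some (Sum.inr i)) 1 := fun d i hd h => by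
      simp [h, map_add, Finsupp.degree_single] at hd
    rintro g (rfl | ⟨i, rfl⟩)
    · rw [SetLike.mem_coe, memJ]
      exact ⟨key 0 (by simp) (fun h => by simpa using congrArg Finsupp.degree h) (fun i => hne _ i (by simp)),
        key e₀ (by simp [e₀]) (fun h => by simpa [e₀] using congrArg Finsupp.degree h)
          (fun i => hne _ i (by simp [e₀]))⟩
    · rw [SetLike.mem_coe, memJ, MvPowerSeries.coeff_pderiv, MvPowerSeries.coeff_pderiv]
      refine ⟨?_, ?_⟩
      · rw [key _ (by simp) (fun h => by simpa using congrArg Finsupp.degree h) (fun j => hne _ j (by simp)), zero_mul]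
      · rcases i with _ | i
        · simp [e₀, h2k, one_add_one_eq_two]
        · rw [key _ (by simp [e₀, map_add]) (fun h => by simpa [e₀] using DFunLike.congr_fun h (some i)) (fun j h => by
            simpa [e₀] using DFunLike.congr_fun h none), zero_mul]
  refine ⟨le_antisymm hle ?_, ?_⟩
  · let I : Ideal P := Ideal.span ({f} ∪ Set.range fun i : Option (Fin m ⊕ Fin m) => MvPowerSeries.pderiv k i f)
    show J ≤ I
    have hM : M ≤ Ideal.jacobson ⊥ := by
      rw [Ideal.span_le]
      rintro _ ⟨i, rfl⟩
      refine Ideal.mem_jacobson_bot.2 fun y => MvPowerSeries.isUnit_iff_constantCoeff.2 ?_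
      simp
    have hsq : (MvPowerSeries.X none ^ 2 : P) ∈ I ⊔ M * J := by
      rw [show (MvPowerSeries.X none ^ 2 : P) = f -
        (f - (MvPowerSeries.X none ^ 2 + ∑ i : Fin m, MvPowerSeries.X (some (Sum.inl i)) * MvPowerSeries.X (some (Sum.inr i)))) -
        ∑ i : Fin m, MvPowerSeries.X (some (Sum.inl i)) * MvPowerSeries.X (some (Sum.inr i)) by abel]
      refine sub_mem (sub_mem (Submodule.mem_sup_left (Ideal.subset_span (Or.inl rfl))) (Submodule.mem_sup_right ?_))
        (Submodule.mem_sup_right ?_)
      · exact mem3 _ fun d hd => by rw [map_sub, hf d hd, sub_self]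
      · exact sum_mem fun i _ => Ideal.mul_mem_mul (Ideal.subset_span ⟨_, rfl⟩) (Ideal.subset_span (Or.inr ⟨_, rfl⟩))
    have mem2 : ∀ g : P, (∀ d, d.degree < 2 → MvPowerSeries.coeff d g = 0) → g ∈ I ⊔ M * J := by
      intro g hg
      have h : g ∈ Ideal.span {(MvPowerSeries.X none ^ 2 : P)} ⊔ M * J := by
        let c := MvPowerSeries.coeff (Finsupp.single none 2) g
        have h3 : g - MvPowerSeries.C c * MvPowerSeries.X none ^ 2 -
            ∑ d ∈ (Finset.univ.image fun p : (Fin m ⊕ Fin m) × Option (Fin m ⊕ Fin m) =>
              Finsupp.single (some p.1) 1 + Finsupp.single p.2 1),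
              MvPowerSeries.monomial d (MvPowerSeries.coeff d g) ∈ M * J := by
          refine mem3 _ fun e he => ?_
          rw [map_sub, map_sub, MvPowerSeries.coeff_C_mul, MvPowerSeries.coeff_X_pow, map_sum]
          simp only [MvPowerSeries.coeff_monomial, Finset.sum_ite_eq]
          by_cases h1 : e = Finsupp.single none 2
          · subst h1
            rw [if_pos rfl, mul_one, if_neg, sub_zero, sub_self]
            rw [Finset.mem_image]
            rintro ⟨p, -, hp⟩
            simpa using DFunLike.congr_fun hp (some p.1)
          · rw [if_neg h1, mul_zero, sub_zero]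
            split_ifs with h2
            · rw [sub_self]
            · rw [sub_zero]
              refine hg e ?_
              by_contra hlt
              by_cases h4 : ∀ j, e (some j) = 0
              · refine h1 ((hsome e h4).trans ?_)
                have := hdeg e
                simp [h4] at this
                congr 1; omega
              · push Not at h4
                obtain ⟨j, hj⟩ := h4
                have hle : Finsupp.single (some j) 1 ≤ e := by rw [Finsupp.single_le_iff]; omega
                have hd : (e - Finsupp.single (some j) 1).degree = 1 := by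
                  have := congrArg Finsupp.degree (add_tsub_cancel_of_le hle)
                  rw [map_add, Finsupp.degree_single] at this
                  omega
                obtain ⟨i, hi⟩ : ∃ i, e - Finsupp.single (some j) 1 = Finsupp.single i 1 :=
                  (Finsupp.sum_eq_one_iff _).1 (by simpa [Finsupp.sum, Finsupp.degree_apply] using hd)
                refine h2 (Finset.mem_image.2 ⟨(j, i), Finset.mem_univ _, ?_⟩)
                rw [← hi, add_tsub_cancel_of_le hle]
        rw [sub_sub] at h3
        have := add_mem (Submodule.mem_sup_right (S := Ideal.span {(MvPowerSeries.X none ^ 2 : P)}) h3)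
          (add_mem (Submodule.mem_sup_left (T := M * J) (Ideal.mul_mem_left _ (MvPowerSeries.C c)
            (Ideal.mem_span_singleton_self _))) (Submodule.mem_sup_right (sum_mem fun d hd => ?_) :
              ∑ d ∈ (Finset.univ.image fun p : (Fin m ⊕ Fin m) × Option (Fin m ⊕ Fin m) =>
                Finsupp.single (some p.1) 1 + Finsupp.single p.2 1),
                MvPowerSeries.monomial d (MvPowerSeries.coeff d g) ∈ Ideal.span {(MvPowerSeries.X none ^ 2 : P)} ⊔ M * J))
        · simpa using this
        · obtain ⟨⟨j, i⟩, -, rfl⟩ := Finset.mem_image.1 hd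
          rw [add_comm, ← mul_one (MvPowerSeries.coeff (Finsupp.single i 1 + Finsupp.single (some j) 1) g),
            ← MvPowerSeries.monomial_mul_monomial]
          refine Ideal.mul_mem_mul ?_ (Ideal.subset_span (Or.inr ⟨j, rfl⟩))
          rw [show MvPowerSeries.monomial (Finsupp.single i 1) (MvPowerSeries.coeff (Finsupp.single i 1 + Finsupp.single (some j) 1) g) =
            MvPowerSeries.C (MvPowerSeries.coeff (Finsupp.single i 1 + Finsupp.single (some j) 1) g) * MvPowerSeries.X i by
              rw [MvPowerSeries.X_def, ← MvPowerSeries.monomial_zero_eq_C_apply, MvPowerSeries.monomial_mul_monomial, zero_add, mul_one]]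
          exact Ideal.mul_mem_left _ _ (Ideal.subset_span ⟨i, rfl⟩)
      exact (sup_le ((Ideal.span_singleton_le_iff_mem _).2 hsq) le_sup_right) h
    refine Submodule.le_of_le_smul_of_le_jacobson_bot ?_ hM ?_
    · exact Submodule.fg_span (Set.toFinite _)
    · rw [Ideal.span_le]
      rintro g (rfl | ⟨j, rfl⟩)
      · exact hsq
      · show (MvPowerSeries.X (some j) : P) ∈ I ⊔ M * J
        let j' : Fin m ⊕ Fin m := Sum.swap j
        rw [show (MvPowerSeries.X (some j) : P) = MvPowerSeries.pderiv k (some j') f -
          (MvPowerSeries.pderiv k (some j') f - MvPowerSeries.X (some j)) by abel]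
        refine sub_mem (Submodule.mem_sup_left (Ideal.subset_span (Or.inr ⟨_, rfl⟩))) (mem2 _ fun d hd => ?_)
        rw [map_sub, MvPowerSeries.coeff_pderiv, hfc _ (by rw [map_add, Finsupp.degree_single]; omega),
          MvPowerSeries.coeff_X, if_neg (fun h => by simpa [j'] using DFunLike.congr_fun h (some j')), zero_add]
        have hiff : ∀ l : Fin m, d + Finsupp.single (some j') 1 =
            Finsupp.single (some (Sum.inl l)) 1 + Finsupp.single (some (Sum.inr l)) 1 ↔
            d = Finsupp.single (some j) 1 ∧ (j = Sum.inl l ∨ j = Sum.inr l) := by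
          intro l
          constructor
          · intro h
            have h' := DFunLike.congr_fun h (some j')
            rcases j with j | j <;> simp [j', Finsupp.single_apply] at h'
            · obtain rfl : l = j := by
                by_contra hne
                simp [hne] at h'
              rw [show (Finsupp.single (some (Sum.inl l : Fin m ⊕ Fin m)) 1 + Finsupp.single (some (Sum.inr l)) 1) =
                Finsupp.single (some (Sum.inl l)) 1 + Finsupp.single (some j') 1 from rfl] at h
              exact ⟨add_right_cancel h, Or.inl rfl⟩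
            · obtain rfl : l = j := by
                by_contra hne
                simp [hne] at h'
              rw [add_comm (Finsupp.single (some (Sum.inl l : Fin m ⊕ Fin m)) 1)] at h
              exact ⟨add_right_cancel h, Or.inr rfl⟩
          · rintro ⟨rfl, rfl | rfl⟩
            · rfl
            · exact add_comm _ _
        rw [Finset.sum_congr rfl fun l _ => if_congr (hiff l) rfl rfl]
        by_cases hd1 : d = Finsupp.single (some j) 1
        · subst hd1
          have hne : ((Finsupp.single (some j) 1 : Option (Fin m ⊕ Fin m) →₀ ℕ) (some j')) = 0 := by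
            rcases j with j | j <;> simp [j']
          rw [hne]
          rcases j with j | j <;> simp
        · simp [hd1]
  · let L : P →ₗ[k] k × k := (MvPowerSeries.coeff 0).prod (MvPowerSeries.coeff e₀)
    have hker : LinearMap.ker L = J.restrictScalars k := by
      ext g
      rw [LinearMap.mem_ker, Submodule.restrictScalars_mem, memJ]
      exact Prod.ext_iff
    have hsurj : Function.Surjective L := fun ⟨a, b⟩ => ⟨MvPowerSeries.monomial 0 a + MvPowerSeries.monomial e₀ b, by
      have h : (0 : Option (Fin m ⊕ Fin m) →₀ ℕ) ≠ e₀ := fun h => by simpa [e₀] using DFunLike.congr_fun h none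
      refine Prod.ext ?_ ?_
      · show MvPowerSeries.coeff 0 _ = a
        rw [map_add, MvPowerSeries.coeff_monomial, MvPowerSeries.coeff_monomial, if_pos rfl, if_neg h, add_zero]
      · show MvPowerSeries.coeff e₀ _ = b
        rw [map_add, MvPowerSeries.coeff_monomial, MvPowerSeries.coeff_monomial, if_pos rfl, if_neg h.symm, zero_add]⟩
    have e := ((Submodule.quotEquivOfEq _ _ hker).symm.trans (L.quotKerEquivOfSurjective hsurj))
    rw [show Module.finrank k (P ⧸ J) = Module.finrank k (P ⧸ J.restrictScalars k) from
      (Submodule.Quotient.restrictScalarsEquiv k J).finrank_eq.symm, e.finrank_eq, Module.finrank_prod, Module.finrank_self]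

end Groth.Agent.S8720
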