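import Groth.Statements.S8723
import Groth.Agent.ArS10.Constants
import Groth.Agent.ArS10.CompList
import Groth.Agent.ArS10.GeomMult
import Groth.Agent.FlatMor68.FlatInfNbhd

set_option autoImplicit false
universe u
open CategoryTheory CategoryTheory.Limits AlgebraicGeometry
open ArSurf

namespace Groth.Agent.S8723

/-- Let R be a discrete valuation ring with residue field k and X an integral regular scheme of Krull
dimension 2, proper and flat over Spec R by f (a regular proper flat model whose fibres are curves).
Write X_s for the special fibre and X_sbar for its base change to an algebraic closure of k. Assume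
that X_s is geometrically connected (its base change to every field extension of k is connected) and
that the multiplicities of the irreducible components of X_sbar, i.e. the lengths of the local rings
of X_sbar at its maximal points, have greatest common divisor 1 (no prime divides all of them). Then
the canonical map k -> H^0(X_s, O_{X_s}) is bijective (X is cohomologically flat over R in degree
0). -/
theorem result (R : Type u) [CommRing R] [IsDomain R]
    [IsDiscreteValuationRing R] {X : Scheme.{u}} (f : X ⟶ Spec (CommRingCat.of R)) [IsProper f] [Flat f]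
    [IsIntegral X] (hreg : ∀ x : X, IsRegularLocalRing (X.presheaf.stalk x))
    (hdim : topologicalKrullDim X = 2)
    (hconn : ∀ (K : Type u) [Field K] [Algebra (IsLocalRing.ResidueField R) K],
      ConnectedSpace ↥(pullback f (Spec.map (CommRingCat.ofHom
        ((algebraMap (IsLocalRing.ResidueField R) K).comp (IsLocalRing.residue R))))))
    (hd : letI Xb := pullback f (Spec.map (CommRingCat.ofHom
        ((algebraMap (IsLocalRing.ResidueField R) (AlgebraicClosure (IsLocalRing.ResidueField R))).comp
          (IsLocalRing.residue R))))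
      ∀ ℓ : ℕ, ℓ.Prime → ∃ x : ↥Xb, (∀ y : ↥Xb, y ⤳ x → y = x) ∧
        ¬ (ℓ ∣ (Module.length (Xb.presheaf.stalk x) (Xb.presheaf.stalk x)).toNat)) :
    Function.Bijective
      (pullback.snd f (Spec.map (CommRingCat.ofHom (IsLocalRing.residue R)))).appTop.hom := by
  letI k := IsLocalRing.ResidueField R
  let X' : Over (Spec (CommRingCat.of R)) := Over.mk f
  have hS : Groth.Agent.ArS10.IsSurf R X' := ⟨hreg, ‹IsIntegral X›, hdim, ‹Flat f›, ‹IsProper f›⟩
  let res := Spec.map (CommRingCat.ofHom (IsLocalRing.residue R))
  haveI : IsClosedImmersion res := IsClosedImmersion.spec_of_surjective _ IsLocalRing.residue_surjective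
  let X0 := pullback f res
  let j : X0 ⟶ X := pullback.fst f res
  let g0 : X0 ⟶ Spec (CommRingCat.of k) := pullback.snd f res
  have hker : j.ker = Groth.Agent.ModPic.fIdeal f := by
    rw [Scheme.IdealSheafData.ker_fst_of_isClosedImmersion, Groth.Agent.Units47.ker_specMap, IsLocalRing.ker_residue]
    rfl
  have hrange : Set.range j = Models.specialFibreSet R X' := by
    rw [Scheme.Pullback.range_fst]
    ext x
    constructor
    · rintro ⟨y, hy⟩
      show f x = IsLocalRing.closedPoint R
      rw [← hy, Subsingleton.elim y (IsLocalRing.closedPoint k)]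
      exact IsLocalRing.comap_closedPoint (IsLocalRing.residue R)
    · exact fun hx => ⟨IsLocalRing.closedPoint k, (IsLocalRing.comap_closedPoint (IsLocalRing.residue R)).trans hx.symm⟩
  have hF : _root_.IsConnected (Models.specialFibreSet R X') := by
    haveI : ConnectedSpace ↥X0 := hconn k
    exact hrange ▸ isConnected_range j.continuous
  -- the geometric fibre
  let L := AlgebraicClosure k
  let fm := Groth.Agent.VarH0x75.fieldMap k L
  let E : pullback g0 fm ≅ pullback f (Spec.map (CommRingCat.ofHom
      ((algebraMap k L).comp (IsLocalRing.residue R)))) :=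
    pullbackLeftPullbackSndIso f res fm ≪≫ pullback.congrHom rfl (Spec.map_comp _ _).symm
  haveI : ConnectedSpace ↥(pullback g0 fm) := by
    haveI := hconn L
    exact E.inv.homeomorph.surjective.connectedSpace E.inv.continuous
  haveI : Flat fm := Groth.Agent.SpFP87.flat_to_specField fm
  obtain ⟨r, Γ, hΓ, hgen⟩ := Groth.Agent.ArS10.exists_compList hS hF.isPreconnected
  -- every multiplicity divides a geometric multiplicity
  have hmult : ∀ x : ↥(pullback g0 fm), (∀ y, y ⤳ x → y = x) → ∃ i, Models.mult R X' (Γ i) ∣
      (Module.length ((pullback g0 fm).presheaf.stalk x) ((pullback g0 fm).presheaf.stalk x)).toNat := by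
    intro x hx
    let x0 : X0 := pullback.fst g0 fm x
    have hmax : Groth.Agent.ModPic.IsFibreMax f (j x0) := by
      refine ⟨hrange.le (Set.mem_range_self _), fun y hy hyx => ?_⟩
      obtain ⟨y0, rfl⟩ := hrange.ge hy
      exact congrArg j (Groth.Agent.ArS10.maximal_image_of_flat (pullback.fst g0 fm) x hx y0
        (j.isClosedEmbedding.isInducing.specializes_iff.1 hyx))
    obtain ⟨i, hi⟩ := hgen _ hmax
    refine ⟨i, ?_⟩
    have h1 := Groth.Agent.ArS10.length_dvd_of_flat (pullback.fst g0 fm) x
    let A := X.presheaf.stalk (j x0)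
    let A0 := X0.presheaf.stalk x0
    letI : Algebra A A0 := (j.stalkMap x0).hom.toAlgebra
    have hsurj : Function.Surjective (algebraMap A A0) := j.stalkMap_surjective x0
    have hk : RingHom.ker (algebraMap A A0) =
        Ideal.map (Models.stalkHom R X' (j x0)) (IsLocalRing.maximalIdeal R) := by
      refine (Groth.Agent.FlatMor68.FlatInfNbhd.ker_stalkMap_closedImmersion j x0).trans ?_
      rw [hker]
      obtain ⟨U, hU⟩ := Groth.Agent.Div89.exists_affine_mem (j x0)
      rw [Groth.Agent.Div89.stalkIdeal_eq _ U _ hU, Groth.Agent.ModPic.specialFibreIdeal_ideal,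
        Groth.Agent.ModPic.maximalIdeal_eq, Ideal.map_span, Ideal.map_span, Set.image_singleton,
        Set.image_singleton]
      congr 2
      exact TopCat.Presheaf.germ_res_apply X.presheaf (homOfLE (le_top : U.1 ≤ ⊤)) _ hU
        (Groth.Agent.ModPic.piG f)
    have h2 : Module.length A0 A0 =
        Module.length A (A ⧸ Ideal.map (Models.stalkHom R X' (j x0)) (IsLocalRing.maximalIdeal R)) := by
      rw [← Module.length_eq_of_surjective (M := A0) hsurj, ← hk]
      exact (LinearMap.quotKerEquivOfSurjective (Algebra.linearMap A A0) hsurj).length_eq.symm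
    have h3 : Models.mult R X' (Γ i) = (Module.length A0 A0).toNat := by
      have key : ∀ z, Models.genPtOf R X' (Γ i) = z → Models.mult R X' (Γ i) =
          (Module.length (X.presheaf.stalk z) (X.presheaf.stalk z ⧸
            Ideal.map (Models.stalkHom R X' z) (IsLocalRing.maximalIdeal R))).toNat := by
        rintro z rfl
        rfl
      rw [key _ hi, h2]
    rw [h3]
    exact h1
  -- the multiplicities are coprime
  have hgcd : Finset.univ.gcd (fun i => Models.mult R X' (Γ i)) = 1 := by
    by_contra hne
    obtain ⟨ℓ, hℓ, hdvd⟩ := Nat.exists_prime_and_dvd hne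
    obtain ⟨x, hx, hnd⟩ := hd ℓ hℓ
    obtain ⟨i, hi⟩ := hmult (E.inv x) fun y hy => by
      have h := hx (E.hom y) (by
        have := hy.map E.hom.continuous
        rwa [← Scheme.Hom.comp_apply, E.inv_hom_id] at this)
      rw [← h, ← Scheme.Hom.comp_apply, E.hom_inv_id]
      rfl
    refine hnd ?_
    rw [Groth.Agent.ArS10.stalk_length_eq_of_iso E.symm x]
    exact (hdvd.trans (Finset.gcd_dvd (Finset.mem_univ i))).trans hi
  -- the constants form a field
  obtain ⟨hK0, -⟩ := Groth.Agent.ArS10.isField_constants hS hF Γ hΓ.1
    (fun x hx => Groth.Agent.ModPic.exists_mem_component (p := f) hΓ hx)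
    (Groth.Agent.ArS10.exists_bezout _ hgcd)
  have hK : IsField Γ(X0, ⊤) := by
    have key : ∀ I : X.IdealSheafData, j.ker = I → IsField Γ(I.subscheme, ⊤) → IsField Γ(X0, ⊤) := by
      rintro I rfl h
      haveI : IsIso j.toImage := inferInstance
      haveI : IsIso j.toImage.appTop := inferInstanceAs (IsIso (Scheme.Γ.map j.toImage.op))
      exact ((asIso (j.toImage.appTop)).commRingCatIsoToRingEquiv.symm).toMulEquiv.isField h
    exact key _ hker hK0
  have hfin := Groth.Agent.LimTop61.finite_appTop_of_isProper (CommRingCat.of k) g0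
  let σ : k →+* Γ(X0, ⊤) := ((Scheme.ΓSpecIso (CommRingCat.of k)).inv ≫ g0.appTop).hom
  letI : Algebra k Γ(X0, ⊤) := σ.toAlgebra
  haveI : Module.Finite k Γ(X0, ⊤) := hfin
  have hone : Module.finrank k Γ(X0, ⊤) = 1 := by
    by_contra hne
    obtain ⟨ℓ, hℓ, hdvd⟩ := Nat.exists_prime_and_dvd hne
    obtain ⟨x, hx, hnd⟩ := hd ℓ hℓ
    refine hnd ?_
    rw [Groth.Agent.ArS10.stalk_length_eq_of_iso E.symm x]
    exact hdvd.trans (Groth.Agent.ArS10.finrank_dvd_length L g0 hK hfin (E.inv x))
  have hσ : Function.Bijective σ := by
    haveI : Nontrivial Γ(X0, ⊤) := hK.nontrivial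
    refine ⟨σ.injective, fun t => ?_⟩
    have h := Subalgebra.bot_eq_top_of_finrank_eq_one (F := k) (E := Γ(X0, ⊤)) hone
    exact Algebra.mem_bot.1 (h.symm ▸ (Algebra.mem_top : t ∈ (⊤ : Subalgebra k Γ(X0, ⊤))))
  have e : (pullback.snd f res).appTop = (Scheme.ΓSpecIso (CommRingCat.of k)).hom ≫ CommRingCat.ofHom σ := by
    show g0.appTop = _
    rw [CommRingCat.ofHom_hom, Iso.hom_inv_id_assoc]
  show Function.Bijective (pullback.snd f res).appTop.hom
  rw [e]
  exact hσ.comp (ConcreteCategory.bijective_of_isIso (Scheme.ΓSpecIso (CommRingCat.of k)).hom)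

end Groth.Agent.S8723
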