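import Groth.Statements.S8732
import Mathlib

set_option autoImplicit false
open LefPen

namespace Groth.Agent.S8732

abbrev PS := MvPowerSeries (Fin 2) ℤ

noncomputable def ev (u v : ℕ) : Fin 2 →₀ ℕ := Finsupp.single 0 u + Finsupp.single 1 v

theorem ev_zero (u v : ℕ) : ev u v 0 = u := by simp [ev]
theorem ev_one (u v : ℕ) : ev u v 1 = v := by simp [ev]
theorem ev_eta (n : Fin 2 →₀ ℕ) : n = ev (n 0) (n 1) := by
  ext i; fin_cases i <;> simp [ev_zero, ev_one]

noncomputable def C2 (φ : PS) (u v : ℕ) : ℤ := MvPowerSeries.coeff (ev u v) φ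

/-- Nonnegative coefficients, with prescribed support. -/
def Shape (φ : PS) (S : ℕ → ℕ → Prop) : Prop := ∀ u v, 0 ≤ C2 φ u v ∧ (C2 φ u v ≠ 0 ↔ S u v)

theorem Shape.congr {φ : PS} {S T : ℕ → ℕ → Prop} (h : Shape φ S) (hST : ∀ u v, S u v ↔ T u v) : Shape φ T :=
  fun u v => ⟨(h u v).1, (h u v).2.trans (hST u v)⟩

theorem nn {f : PS} (h : ∀ u v, 0 ≤ C2 f u v) (n : Fin 2 →₀ ℕ) : 0 ≤ MvPowerSeries.coeff n f := by
  rw [ev_eta n]; exact h _ _

theorem mul_term {φ ψ : PS} (hφ : ∀ u v, 0 ≤ C2 φ u v) (hψ : ∀ u v, 0 ≤ C2 ψ u v) (u v : ℕ) :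
    0 ≤ C2 (φ * ψ) u v ∧ (C2 (φ * ψ) u v ≠ 0 ↔
      ∃ u1 v1 u2 v2, u1 + u2 = u ∧ v1 + v2 = v ∧ C2 φ u1 v1 ≠ 0 ∧ C2 ψ u2 v2 ≠ 0) := by
  classical
  have h0 : ∀ p ∈ Finset.HasAntidiagonal.antidiagonal (ev u v),
      0 ≤ MvPowerSeries.coeff p.1 φ * MvPowerSeries.coeff p.2 ψ := fun p _ => mul_nonneg (nn hφ _) (nn hψ _)
  rw [C2, MvPowerSeries.coeff_mul]
  refine ⟨Finset.sum_nonneg h0, ?_⟩
  rw [Ne, Finset.sum_eq_zero_iff_of_nonneg h0]
  constructor
  · intro h
    push Not at h
    obtain ⟨⟨a, b⟩, hab, hne⟩ := h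
    rw [Finset.HasAntidiagonal.mem_antidiagonal] at hab
    refine ⟨a 0, a 1, b 0, b 1, ?_, ?_, ?_, ?_⟩
    · rw [← Finsupp.add_apply, hab, ev_zero]
    · rw [← Finsupp.add_apply, hab, ev_one]
    · rw [C2, ← ev_eta]; exact left_ne_zero_of_mul hne
    · rw [C2, ← ev_eta]; exact right_ne_zero_of_mul hne
  · rintro ⟨u1, v1, u2, v2, rfl, rfl, h1, h2⟩ h
    have hm := h (ev u1 v1, ev u2 v2) (by
      rw [Finset.HasAntidiagonal.mem_antidiagonal]; ext i; fin_cases i <;> simp [ev_zero, ev_one])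
    exact mul_ne_zero h1 h2 hm

theorem Shape.mul {φ ψ : PS} {S T : ℕ → ℕ → Prop} (hφ : Shape φ S) (hψ : Shape ψ T) :
    Shape (φ * ψ) fun u v => ∃ u1 v1 u2 v2, u1 + u2 = u ∧ v1 + v2 = v ∧ S u1 v1 ∧ T u2 v2 := fun u v => by
  obtain ⟨h1, h2⟩ := mul_term (fun a b => (hφ a b).1) (fun a b => (hψ a b).1) u v
  refine ⟨h1, h2.trans ?_⟩
  simp only [(hφ _ _).2, (hψ _ _).2]

theorem Shape.sum {ι : Type*} (s : Finset ι) {φ : ι → PS} {S : ι → ℕ → ℕ → Prop}
    (h : ∀ i ∈ s, Shape (φ i) (S i)) : Shape (∑ i ∈ s, φ i) fun u v => ∃ i ∈ s, S i u v := by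
  intro u v
  have h0 : ∀ i ∈ s, 0 ≤ MvPowerSeries.coeff (ev u v) (φ i) := fun i hi => (h i hi u v).1
  rw [C2, map_sum]
  refine ⟨Finset.sum_nonneg h0, ?_⟩
  rw [Ne, Finset.sum_eq_zero_iff_of_nonneg h0]
  push Not
  exact exists_congr fun i => and_congr_right fun hi => (h i hi u v).2

theorem coeff_one' (u v : ℕ) : C2 1 u v = if u = 0 ∧ v = 0 then 1 else 0 := by
  classical
  rw [C2, MvPowerSeries.coeff_one]
  refine if_congr ⟨fun h => ?_, ?_⟩ rfl rfl
  · exact ⟨by rw [← ev_zero u v, h]; simp, by rw [← ev_one u v, h]; simp⟩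
  · rintro ⟨rfl, rfl⟩; simp [ev]

theorem Shape.one : Shape 1 fun u v => u = 0 ∧ v = 0 := fun u v => by
  rw [coeff_one']; split_ifs with h <;> simp [h]

theorem Shape.prod {ι : Type*} [DecidableEq ι] (s : Finset ι) {φ : ι → PS} {S : ι → ℕ → ℕ → Prop}
    (h : ∀ i ∈ s, Shape (φ i) (S i)) : Shape (∏ i ∈ s, φ i) fun u v =>
      ∃ f g : ι → ℕ, (∀ i ∈ s, S i (f i) (g i)) ∧ ∑ i ∈ s, f i = u ∧ ∑ i ∈ s, g i = v := by
  induction s using Finset.induction_on with
  | empty =>
    rw [Finset.prod_empty]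
    exact Shape.one.congr fun u v => by simp [eq_comm]
  | insert a s ha ih =>
    rw [Finset.prod_insert ha]
    refine ((h a (Finset.mem_insert_self a s)).mul (ih fun i hi => h i (Finset.mem_insert_of_mem hi))).congr fun u v => ⟨?_, ?_⟩
    · rintro ⟨u1, v1, u2, v2, rfl, rfl, h1, f, g, hfg, rfl, rfl⟩
      refine ⟨Function.update f a u1, Function.update g a v1, fun i hi => ?_, ?_, ?_⟩
      · rcases Finset.mem_insert.1 hi with rfl | hi
        · simpa using h1
        · have : i ≠ a := fun e => ha (e ▸ hi)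
          simpa [Function.update_of_ne this] using hfg i hi
      all_goals
        rw [Finset.sum_insert ha, Function.update_self]
        congr 1
        exact Finset.sum_congr rfl fun i hi => Function.update_of_ne (fun e => ha (by rw [← e]; exact hi)) _ _
    · rintro ⟨f, g, hfg, rfl, rfl⟩
      exact ⟨f a, g a, _, _, (Finset.sum_insert ha).symm, (Finset.sum_insert ha).symm,
        hfg a (Finset.mem_insert_self a s), f, g, fun i hi => hfg i (Finset.mem_insert_of_mem hi), rfl, rfl⟩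

/-- A series given by its finitely many coefficients. -/
theorem Shape.grid (K L : ℕ) (w : ℕ → ℕ → ℕ) :
    Shape (∑ s ∈ Finset.range K, ∑ t ∈ Finset.range L,
      (w s t : PS) * MvPowerSeries.X 0 ^ s * MvPowerSeries.X 1 ^ t)
      fun u v => u < K ∧ v < L ∧ w u v ≠ 0 := by
  classical
  have hc : ∀ u v s t, C2 ((w s t : PS) * MvPowerSeries.X 0 ^ s * MvPowerSeries.X 1 ^ t) u v =
      if s = u ∧ t = v then (w s t : ℤ) else 0 := fun u v s t => by
    rw [C2, MvPowerSeries.X_pow_eq, MvPowerSeries.X_pow_eq, mul_assoc, MvPowerSeries.monomial_mul_monomial, one_mul,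
      ← map_natCast (MvPowerSeries.C (σ := Fin 2) (R := ℤ)), MvPowerSeries.coeff_C_mul, MvPowerSeries.coeff_monomial]
    have he : (ev u v = Finsupp.single 0 s + Finsupp.single 1 t) ↔ (s = u ∧ t = v) := by
      refine ⟨fun h => ⟨?_, ?_⟩, fun ⟨h1, h2⟩ => by subst h1 h2; rfl⟩
      · have := congrArg (fun n : Fin 2 →₀ ℕ => n 0) h; simpa [ev_zero] using this.symm
      · have := congrArg (fun n : Fin 2 →₀ ℕ => n 1) h; simpa [ev_one] using this.symm
    by_cases h : s = u ∧ t = v
    · rw [if_pos (he.2 h), if_pos h, mul_one]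
    · rw [if_neg (mt he.1 h), if_neg h, mul_zero]
  simp only [C2] at hc
  intro u v
  have : C2 (∑ s ∈ Finset.range K, ∑ t ∈ Finset.range L,
      (w s t : PS) * MvPowerSeries.X 0 ^ s * MvPowerSeries.X 1 ^ t) u v = if u < K ∧ v < L then (w u v : ℤ) else 0 := by
    rw [C2, map_sum]
    simp only [map_sum]
    rw [Finset.sum_congr rfl fun s _ => Finset.sum_congr rfl fun t _ => hc u v s t]
    simp [ite_and, Finset.sum_ite_eq']
  rw [this]
  by_cases h : u < K ∧ v < L
  · simp [h]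
  · simp only [if_neg h, le_refl, ne_eq, not_true_eq_false, false_iff, true_and]
    exact fun h' => h ⟨h'.1, h'.2.1⟩

/-- The support of the Hodge series of one degree. -/
def SH (b u v : ℕ) : Prop := u + v + 2 ≤ (min u v + 1) * b

theorem SH_iff (b u v : ℕ) : SH b u v ↔ u + v + 2 ≤ b ∨
    ∃ u1 v1 u2 v2, u1 + u2 = u ∧ v1 + v2 = v ∧ (1 ≤ u1 ∧ 1 ≤ v1 ∧ u1 + v1 ≤ b) ∧ SH b u2 v2 := by
  simp only [SH]
  constructor
  · intro h
    rcases Nat.eq_zero_or_pos (min u v) with h0 | hpos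
    · left; rw [h0, zero_add, one_mul] at h; exact h
    have hb : 2 ≤ b := by
      by_contra hb
      have : (min u v + 1) * b ≤ (min u v + 1) * 1 := Nat.mul_le_mul_left _ (by omega)
      omega
    right
    obtain ⟨m, hm⟩ : ∃ m, min u v = m + 1 := ⟨min u v - 1, by omega⟩
    have h2 : (m + 1) * 2 ≤ (m + 1) * b := Nat.mul_le_mul_left _ hb
    rw [hm, add_mul, one_mul] at h
    rcases le_total u v with huv | huv
    · refine ⟨1, min (b - 1) (v - u + 1), u - 1, v - min (b - 1) (v - u + 1), by omega, by omega, by omega, ?_⟩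
      rw [show min (u - 1) (v - min (b - 1) (v - u + 1)) = m by omega]
      omega
    · refine ⟨min (b - 1) (u - v + 1), 1, u - min (b - 1) (u - v + 1), v - 1, by omega, by omega, by omega, ?_⟩
      rw [show min (u - min (b - 1) (u - v + 1)) (v - 1) = m by omega]
      omega
  · rintro (h | ⟨u1, v1, u2, v2, rfl, rfl, hP, h⟩)
    · exact h.trans (Nat.le_mul_of_pos_left b (Nat.succ_pos _))
    · have h1 : (min u2 v2 + 1 + 1) * b ≤ (min (u1 + u2) (v1 + v2) + 1) * b := Nat.mul_le_mul_right _ (by omega)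
      rw [add_mul, one_mul] at h1
      omega

/-- The support of one factor. -/
theorem shape_H {b : ℕ} {N P H : PS} (hN : Shape N fun u v => u + v + 2 ≤ b)
    (hP : Shape P fun u v => 1 ≤ u ∧ 1 ≤ v ∧ u + v ≤ b) (hH : (1 - P) * H = N) : Shape H (SH b) := by
  classical
  have hrec : H = N + P * H := by rw [← hH]; ring
  have hP0 : ∀ u v, (u = 0 ∨ v = 0) → C2 P u v = 0 := fun u v h => by
    by_contra hne; have := (hP u v).2.1 hne; omega
  suffices h : ∀ k u v, u + v = k → 0 ≤ C2 H u v ∧ (C2 H u v ≠ 0 ↔ SH b u v) from fun u v => h _ u v rfl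
  intro k
  induction k using Nat.strong_induction_on with
  | _ k ih =>
    intro u v huv
    -- truncate `H` below the total degree `k`
    let H' : PS := fun n => if n 0 + n 1 < k then H n else 0
    have hH' : ∀ a c, C2 H' a c = if a + c < k then C2 H a c else 0 := fun a c => by
      rw [C2, C2, MvPowerSeries.coeff_apply, MvPowerSeries.coeff_apply]
      show (if _ then _ else _) = _
      rw [ev_zero, ev_one]
    have hS : Shape H' fun a c => a + c < k ∧ SH b a c := fun a c => by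
      rw [hH']
      by_cases h : a + c < k
      · simp [h, ih _ h a c rfl]
      · simp [h]
    have heq : C2 (P * H) u v = C2 (P * H') u v := by
      rw [C2, C2, MvPowerSeries.coeff_mul, MvPowerSeries.coeff_mul]
      refine Finset.sum_congr rfl fun p hp => ?_
      rw [Finset.HasAntidiagonal.mem_antidiagonal] at hp
      by_cases h : p.2 0 + p.2 1 < k
      · congr 1
        rw [MvPowerSeries.coeff_apply, MvPowerSeries.coeff_apply]
        exact (if_pos h).symm
      · have h0 : p.1 0 + p.2 0 = u := by rw [← Finsupp.add_apply, hp, ev_zero]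
        have h1 : p.1 1 + p.2 1 = v := by rw [← Finsupp.add_apply, hp, ev_one]
        have : MvPowerSeries.coeff p.1 P = 0 := by
          rw [ev_eta p.1]; exact hP0 _ _ (by omega)
        rw [this, zero_mul, zero_mul]
    have hadd : C2 H u v = C2 N u v + C2 (P * H') u v := by
      conv_lhs => rw [hrec]
      rw [C2, map_add]; exact congrArg _ heq
    obtain ⟨hN0, hN1⟩ := hN u v
    obtain ⟨hM0, hM1⟩ := hP.mul hS u v
    rw [hadd]
    refine ⟨add_nonneg hN0 hM0, ?_⟩
    rw [Ne, add_eq_zero_iff_of_nonneg hN0 hM0, not_and_or, ← Ne, ← Ne, hN1, hM1, SH_iff b u v]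
    refine or_congr Iff.rfl ⟨?_, ?_⟩
    · rintro ⟨u1, v1, u2, v2, e1, e2, hp, -, hs⟩; exact ⟨u1, v1, u2, v2, e1, e2, hp, hs⟩
    · rintro ⟨u1, v1, u2, v2, e1, e2, hp, hs⟩; exact ⟨u1, v1, u2, v2, e1, e2, hp, by omega, hs⟩

theorem shape_pow (j : ℕ) : Shape (((1 + MvPowerSeries.X 0) * (1 + MvPowerSeries.X 1)) ^ j : PS)
    fun u v => u ≤ j ∧ v ≤ j := by
  have e : (((1 + MvPowerSeries.X 0) * (1 + MvPowerSeries.X 1)) ^ j : PS) = ∑ s ∈ Finset.range (j + 1),
      ∑ t ∈ Finset.range (j + 1), ((j.choose s * j.choose t : ℕ) : PS) * MvPowerSeries.X 0 ^ s * MvPowerSeries.X 1 ^ t := by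
    rw [mul_pow, add_comm 1, add_comm 1, add_pow, add_pow, Finset.sum_mul_sum]
    refine Finset.sum_congr rfl fun s _ => Finset.sum_congr rfl fun t _ => ?_
    simp only [one_pow, mul_one, Nat.cast_mul]
    ring
  rw [e]
  refine (Shape.grid _ _ _).congr fun u v => ⟨fun h => by omega, fun h => ⟨by omega, by omega, ?_⟩⟩
  exact mul_ne_zero (Nat.choose_pos h.1).ne' (Nat.choose_pos h.2).ne'

theorem exists_distrib {ι : Type*} (s : Finset ι) (c : ι → ℕ) : ∀ r, r ≤ ∑ i ∈ s, c i →
    ∃ g : ι → ℕ, (∀ i ∈ s, g i ≤ c i) ∧ ∑ i ∈ s, g i = r := by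
  classical
  induction s using Finset.induction_on with
  | empty => intro r hr; exact ⟨0, by simp, by simpa [eq_comm] using hr⟩
  | insert a s ha ih =>
    intro r hr
    rw [Finset.sum_insert ha] at hr
    obtain ⟨g, hg, hgs⟩ := ih (r - min r (c a)) (by omega)
    refine ⟨Function.update g a (min r (c a)), fun i hi => ?_, ?_⟩
    · rcases Finset.mem_insert.1 hi with rfl | hi
      · simp
      · rw [Function.update_of_ne (fun e : i = a => ha (by rw [← e]; exact hi))]; exact hg i hi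
    · rw [Finset.sum_insert ha, Function.update_self,
        Finset.sum_congr rfl fun i hi => Function.update_of_ne (fun e : i = a => ha (by rw [← e]; exact hi)) _ _, hgs]
      omega

theorem key {d : ℕ} (a : Fin d → ℕ) (ha : ∀ i, 1 ≤ a i) (p q : ℕ) (hpq : p ≤ q) :
    (∃ P : Finset (Fin d), P.Nonempty ∧ ∃ s t u v, s + u = p ∧ t + v = q ∧ (s ≤ P.card - 1 ∧ t ≤ P.card - 1) ∧
      ∃ f g : Fin d → ℕ, (∀ i ∈ P, SH (a i) (f i) (g i)) ∧ ∑ i ∈ P, f i = u ∧ ∑ i ∈ P, g i = v) ↔
    p + q + d < p * Finset.univ.sup a + ∑ i, a i := by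
  classical
  set A := Finset.univ.sup a
  constructor
  · rintro ⟨P, hP, s, t, u, v, rfl, rfl, ⟨hs, ht⟩, f, g, hfg, rfl, rfl⟩
    have hA : ∀ i, a i ≤ A := fun i => Finset.le_sup (Finset.mem_univ i)
    have hA1 : 1 ≤ A := (ha hP.choose).trans (hA _)
    have h1 : ∑ i ∈ P, (f i + g i + 2) ≤ ∑ i ∈ P, (f i * A + a i) := Finset.sum_le_sum fun i hi =>
      (hfg i hi).trans (by
        rw [add_mul, one_mul]
        exact Nat.add_le_add_right (Nat.mul_le_mul (min_le_left _ _) (hA i)) _)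
    simp only [Finset.sum_add_distrib, Finset.sum_const, smul_eq_mul, ← Finset.sum_mul] at h1
    have h2 : ∑ i ∈ Pᶜ, 1 ≤ ∑ i ∈ Pᶜ, a i := Finset.sum_le_sum fun i _ => ha i
    rw [Finset.sum_const, smul_eq_mul, mul_one, Finset.card_compl, Fintype.card_fin] at h2
    have h3 := Finset.sum_add_sum_compl P a
    have h4 : s ≤ s * A := Nat.le_mul_of_pos_right s hA1
    have h5 := hP.card_pos
    have h6 : P.card ≤ d := by simpa using P.card_le_univ
    rw [add_mul]
    omega
  · intro h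
    let P : Finset (Fin d) := {i | 2 ≤ a i}
    have hout : ∀ i ∈ Pᶜ, a i = 1 := fun i hi => by
      have := ha i; simp [P] at hi; omega
    have hsum : ∑ i, a i = ∑ i ∈ P, a i + Pᶜ.card := by
      rw [← Finset.sum_add_sum_compl P a, Finset.sum_congr rfl hout, Finset.sum_const, smul_eq_mul, mul_one]
    rw [Finset.card_compl, Fintype.card_fin] at hsum
    have hP : P.Nonempty := by
      by_contra hP
      rw [Finset.not_nonempty_iff_eq_empty] at hP
      have : A ≤ 1 := Finset.sup_le fun i _ => (hout i (by rw [hP]; simp)).le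
      have : p * A ≤ p * 1 := Nat.mul_le_mul_left _ this
      simp [hP] at hsum
      omega
    obtain ⟨j, hj⟩ := hP
    haveI : Nonempty (Fin d) := ⟨j⟩
    obtain ⟨i0, -, hi0⟩ := Finset.exists_mem_eq_sup Finset.univ Finset.univ_nonempty a
    have hA2 : 2 ≤ A := le_trans (by simpa [P] using hj) (Finset.le_sup (Finset.mem_univ j))
    have hi0' : a i0 = A := hi0.symm
    have hiP : i0 ∈ P := by simp [P, hi0']; omega
    have hk : P.card ≤ d := by simpa using P.card_le_univ
    have hcard := Finset.card_erase_add_one hiP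
    have hPsum : A + ∑ i ∈ P.erase i0, a i = ∑ i ∈ P, a i := by
      rw [← hi0', Finset.add_sum_erase P a hiP]
    have hcs : ∑ i ∈ P.erase i0, (a i - 2) + 2 * (P.erase i0).card = ∑ i ∈ P.erase i0, a i := by
      rw [mul_comm 2, ← smul_eq_mul, ← Finset.sum_const, ← Finset.sum_add_distrib]
      exact Finset.sum_congr rfl fun i hi => Nat.sub_add_cancel (by simpa [P] using (Finset.mem_erase.1 hi).2)
    have hpA : p * 2 ≤ p * A := Nat.mul_le_mul_left _ hA2
    let t := min (P.card - 1) (q - p)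
    let x := min (p * A + A - 2 * p - 2) (q - p - t)
    obtain ⟨g, hg, hgs⟩ := exists_distrib (P.erase i0) (fun i => a i - 2) (q - p - t - x) (by omega)
    refine ⟨P, ⟨i0, hiP⟩, 0, t, p, q - t, zero_add p, by omega, ⟨Nat.zero_le _, by omega⟩,
      Pi.single i0 p, Function.update g i0 (p + x), fun i hi => ?_, ?_, ?_⟩
    · rcases eq_or_ne i i0 with rfl | hne
      · rw [SH, Pi.single_eq_same, Function.update_self, min_eq_left (by omega), hi0', add_mul, one_mul]
        omega
      · rw [SH, Pi.single_eq_of_ne hne, Function.update_of_ne hne, Nat.zero_min, zero_add, zero_add, one_mul]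
        have := hg i (Finset.mem_erase.2 ⟨hne, hi⟩)
        have : 2 ≤ a i := by simpa [P] using hi
        omega
    · rw [Finset.sum_pi_single', if_pos hiP]
    · rw [← Finset.add_sum_erase P _ hiP, Function.update_self,
        Finset.sum_congr rfl fun i hi => Function.update_of_ne (Finset.mem_erase.1 hi).1 _ _, hgs]
      omega

/-- For each i let H_i in Z[[y, z]] be the series determined by (1 - sum_{u, v >= 1, u + v <= a_i}
C(a_i, u+v) y^u z^v) H_i = sum_{u, v >= 0, u + v + 1 <= a_i - 1} C(a_i - 1, u+v+1) y^u z^v (the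
hypersurface series of degree a_i), and put H = sum over nonempty subsets P of {1, ..., d} of
((1+y)(1+z))^(|P|-1) prod_{i in P} H_i, the generating series sum h^{p,q} y^p z^q attached to
primitive middle Hodge numbers of smooth complete intersections of multidegree a. Then for p <= q
one has h^{p,q} ≠ 0 if and only if p + q + d < p · max_i a_i + sum_i a_i, i.e. p > floor((p + q + d
- sum_i a_i) / max_i a_i). (The published statement prints the last condition with >= in place of >;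
the proof establishes the strict form, which is the correct one: for a single quadric, d = 1 and a_1
= 2, the coefficient of y^0 z^1 vanishes although 0 >= floor(0/2).) -/
theorem result (d : ℕ) (a : Fin d → ℕ) (ha : ∀ i, 1 ≤ a i)
    (Hs : Fin d → MvPowerSeries (Fin 2) ℤ) (p q : ℕ) (hpq : p ≤ q) :
    let y : MvPowerSeries (Fin 2) ℤ := MvPowerSeries.X 0
    let z : MvPowerSeries (Fin 2) ℤ := MvPowerSeries.X 1
    let Pser : ℕ → MvPowerSeries (Fin 2) ℤ := fun b => ∑ u ∈ Finset.range (b + 1), ∑ v ∈ Finset.range (b + 1),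
      if 1 ≤ u ∧ 1 ≤ v ∧ u + v ≤ b then (b.choose (u + v) : MvPowerSeries (Fin 2) ℤ) * y ^ u * z ^ v else 0
    let Nser : ℕ → MvPowerSeries (Fin 2) ℤ := fun b => ∑ u ∈ Finset.range b, ∑ v ∈ Finset.range b,
      if u + v + 1 ≤ b - 1 then ((b - 1).choose (u + v + 1) : MvPowerSeries (Fin 2) ℤ) * y ^ u * z ^ v else 0
    (∀ i, (1 - Pser (a i)) * Hs i = Nser (a i)) →
    let H : MvPowerSeries (Fin 2) ℤ := ∑ P ∈ (Finset.univ : Finset (Fin d)).powerset with P.Nonempty,
      ((1 + y) * (1 + z)) ^ (P.card - 1) * ∏ i ∈ P, Hs i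
    (MvPowerSeries.coeff (Finsupp.single 0 p + Finsupp.single 1 q) H ≠ 0 ↔
      p + q + d < p * Finset.univ.sup a + ∑ i, a i) := by
  classical
  intro y z Pser Nser hH H
  have hP : ∀ b, Shape (Pser b) fun u v => 1 ≤ u ∧ 1 ≤ v ∧ u + v ≤ b := fun b => by
    have e : Pser b = ∑ s ∈ Finset.range (b + 1), ∑ t ∈ Finset.range (b + 1),
        (((if 1 ≤ s ∧ 1 ≤ t ∧ s + t ≤ b then b.choose (s + t) else 0) : ℕ) : PS) * y ^ s * z ^ t := by
      refine Finset.sum_congr rfl fun s _ => Finset.sum_congr rfl fun t _ => ?_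
      split_ifs <;> simp
    rw [e]
    refine (Shape.grid _ _ _).congr fun u v => ?_
    by_cases h : 1 ≤ u ∧ 1 ≤ v ∧ u + v ≤ b
    · refine ⟨fun _ => h, fun _ => ⟨by omega, by omega, ?_⟩⟩
      rw [if_pos h]; exact (Nat.choose_pos h.2.2).ne'
    · simp [h]
  have hN : ∀ b, Shape (Nser b) fun u v => u + v + 2 ≤ b := fun b => by
    have e : Nser b = ∑ s ∈ Finset.range b, ∑ t ∈ Finset.range b,
        (((if s + t + 1 ≤ b - 1 then (b - 1).choose (s + t + 1) else 0) : ℕ) : PS) * y ^ s * z ^ t := by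
      refine Finset.sum_congr rfl fun s _ => Finset.sum_congr rfl fun t _ => ?_
      split_ifs <;> simp
    rw [e]
    refine (Shape.grid _ _ _).congr fun u v => ?_
    by_cases h : u + v + 1 ≤ b - 1
    · simp only [if_pos h, (Nat.choose_pos h).ne', ne_eq, not_false_eq_true, and_true]
      omega
    · simp [h]; omega
  have hHs : ∀ i, Shape (Hs i) (SH (a i)) := fun i => shape_H (hN _) (hP _) (hH i)
  have hHsum := (Shape.sum ((Finset.univ : Finset (Fin d)).powerset.filter Finset.Nonempty)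
    (φ := fun P => ((1 + y) * (1 + z)) ^ (P.card - 1) * ∏ i ∈ P, Hs i)
    (fun P _ => (shape_pow (P.card - 1)).mul (Shape.prod P fun i _ => hHs i))) p q
  refine hHsum.2.trans (Iff.trans ?_ (key a ha p q hpq))
  simp [and_assoc]

end Groth.Agent.S8732
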