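import Groth.Statements.S8759
import Groth.Agent.Adeq88.AffineVanish
import Groth.Agent.SpFP87.SourceFppf

set_option autoImplicit false
universe u
open CategoryTheory Limits AlgebraicGeometry
open Adeq

namespace Groth.Agent.S8759

/-- For an adequate `O`-module `M` on the big fppf site of `S` and an affine scheme `U` over `S`,
`H^q(U, M) = 0` for all `q > 0`. -/
theorem result (S : Scheme.{u}) (M : BigSite.Mod Scheme.fppfPrecoverage S)
    (hM : Adeq.adequateMod Scheme.fppfPrecoverage S M) (U : Over S) [IsAffine U.left] (q : ℕ) (hq : 0 < q) :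
    Subsingleton (BigSite.HU Scheme.fppfPrecoverage ((BigSite.toAbMod Scheme.fppfPrecoverage S).obj M) q U) := by
  have : BigSite.OSh (Scheme.precoverage (@Flat ⊓ @LocallyOfFinitePresentation : MorphismProperty Scheme.{u})) :=
    inferInstanceAs (BigSite.OSh Scheme.fppfPrecoverage.{u})
  haveI := Groth.Agent.SpFP87.isZariskiLocalAtSource_flat_lfp.{u}
  obtain ⟨q, rfl⟩ := Nat.exists_eq_add_one.2 hq
  refine Groth.Agent.Adeq88.subsingleton_H_adequate Groth.Agent.Adeq88.goodProp_fppf (Z := U.left)
    ((BigSite.pullMod Scheme.fppfPrecoverage U.hom).obj M) ?_ q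
  exact Groth.Agent.Adeq88.adequateMod_of_affine Groth.Agent.Adeq88.goodProp_fppf _ fun R a =>
    (Groth.Agent.Adeq88.adequate_pull_iff U.hom M a).2
      (Groth.Agent.Adeq88.adequate_affine Groth.Agent.Adeq88.goodProp_fppf M hM (a ≫ U.hom))

end Groth.Agent.S8759
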