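import Groth.Statements.S8767
import Groth.Agent.Adeq88.Sect

set_option autoImplicit false
universe u
open CategoryTheory Limits AlgebraicGeometry
open Adeq

namespace Groth.Agent.S8767

/-- For an adequate `O`-module `M` on the big fppf site of `S` the following are equivalent: `M` is
parasitic; `M` is parasitic for the fppf topology; `M(U) = 0` for every open `U ⊂ S`; `M(U_i) = 0`
for the members of some affine open covering `S = ⋃ U_i`. (The published statement has a fifth
equivalent condition, the vanishing of the quasi-coherent module obtained by restriction to the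
small Zariski site; it is not included here.) -/
theorem result (S : Scheme.{u}) (M : BigSite.Mod Scheme.fppfPrecoverage S)
    (hM : Adeq.adequateMod Scheme.fppfPrecoverage S M) :
    List.TFAE [Adeq.parasitic Scheme.fppfPrecoverage S M, Adeq.parasiticFor Scheme.fppfPrecoverage S M,
      ∀ U : S.Opens, Subsingleton (BigSite.sectMod Scheme.fppfPrecoverage M ((BigSite.zarIncl S).obj U)),
      ∃ (ι : Type u) (U : ι → S.Opens), (∀ i, IsAffineOpen (U i)) ∧ (⨆ i, U i) = ⊤ ∧
        ∀ i, Subsingleton (BigSite.sectMod Scheme.fppfPrecoverage M ((BigSite.zarIncl S).obj (U i)))] := by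
  have : BigSite.OSh (Scheme.precoverage (@Flat ⊓ @LocallyOfFinitePresentation : MorphismProperty Scheme.{u})) :=
    inferInstanceAs (BigSite.OSh Scheme.fppfPrecoverage.{u})
  tfae_have 1 → 2 := fun h Q hQ V g hg => by
    obtain ⟨ι, X, f, rfl⟩ := Presieve.exists_eq_ofArrows Q
    obtain ⟨i⟩ := hg
    exact h (Over.mk (f i)) (((Scheme.ofArrows_mem_precoverage_iff _).1 hQ).2 i).1
  tfae_have 2 → 3 := fun h U => by
    let X : Bool → Scheme.{u} := fun b => match b with
      | true => (U : Scheme.{u})
      | false => S
    let f : ∀ b, X b ⟶ S := fun b => match b with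
      | true => U.ι
      | false => 𝟙 S
    have hQ : Presieve.ofArrows X f ∈ Scheme.fppfPrecoverage.coverings S := by
      refine (Scheme.ofArrows_mem_precoverage_iff _).2 ⟨fun x => ⟨false, x, rfl⟩, fun b => ?_⟩
      cases b <;> exact ⟨inferInstance, inferInstance⟩
    exact h hQ U.ι (Presieve.ofArrows.mk true)
  tfae_have 3 → 4 := fun h =>
    ⟨{U : S.Opens // IsAffineOpen U}, fun U => U.1, fun U => U.2, iSup_affineOpens_eq_top S, fun U => h U.1⟩
  tfae_have 4 → 1 := by
    rintro ⟨ι, W, hW, htop, hz⟩
    refine Groth.Agent.Adeq88.parasitic_of_affineCover Groth.Agent.Adeq88.goodProp_fppf M hM W hW htop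
      fun i x => ?_
    let e : Over.mk (hW i).fromSpec ≅ (BigSite.zarIncl S).obj (W i) :=
      Over.isoMk (hW i).isoSpec.symm (hW i).isoSpec_inv_ι
    obtain ⟨y, rfl⟩ := (Groth.Agent.Adeq88.sres_bijective_of_iso M.val e).2 x
    rw [(hz i).elim y 0, map_zero]
  tfae_finish

end Groth.Agent.S8767
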