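import Groth.Statements.S8792
import Groth.Agent.LC16.Algebraize

set_option autoImplicit false
universe u
open CategoryTheory
attribute [local instance] HasDerivedCategory.standard
open LocCoh

namespace Groth.Agent.S8792

/-- Let A be a Noetherian ring with a dualizing complex, I and J ideals, M a finite A-module, s and d
naturals, and T the set of primes p with V(p) ∩ V(I) ⊆ V(J). Assume: (3) every prime p ∉ V(I) lying
in T admits some q ∈ V(p) ∩ V(J) ∩ V(I) with dim((A/p)_q) ≤ d; (4) every prime p ∉ V(I) not in T has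
depth(M_p) ≥ s or depth(M_p) + dim((A/p)_q) > d + s for all q ∈ V(p) ∩ V(J) ∩ V(I); (6) every prime
p ∉ V(I) lying in T has depth(M_p) > s. Then there is an ideal J₀ ⊆ J with V(J₀) ∩ V(I) = V(J) ∩
V(I) such that for every J' ⊆ J₀ with V(J') ∩ V(I) = V(J) ∩ V(I) and every i ≤ s the comparison map
H^i_{J₀}(M) → H^i_{J'}(M) is bijective and H^i_{J₀}(M) is annihilated by a power of J₀I for i ≤ s;
moreover for i ≤ s the comparison maps H^i_J(M) → H^i_{J₀}(M) and H^i_{J+I}(M) → H^i_J(M) are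
bijective and H^i_J(M) is annihilated by a power of I. -/
theorem result (A : Type u) [CommRing A] [IsNoetherianRing A] (hdc : ∃ ω : Dual.D A, Dual.IsDualizing A ω) (I J : Ideal A) (M : Type u) [AddCommGroup M] [Module A M] [Module.Finite A M] (s d : ℕ) (T : Set (PrimeSpectrum A)) (hT : ∀ p : PrimeSpectrum A, p ∈ T ↔ ∀ q : PrimeSpectrum A, p ≤ q → I ≤ q.asIdeal → J ≤ q.asIdeal) (h3 : ∀ p : PrimeSpectrum A, ¬ I ≤ p.asIdeal → p ∈ T → ∃ q : PrimeSpectrum A, p ≤ q ∧ J ≤ q.asIdeal ∧ I ≤ q.asIdeal ∧ Formal2.dimBetween A p.asIdeal q.asIdeal ≤ ((d : ℕ∞) : WithBot ℕ∞)) (h4 : ∀ p : PrimeSpectrum A, ¬ I ≤ p.asIdeal → p ∉ T → ∀ q : PrimeSpectrum A, p ≤ q → J ≤ q.asIdeal → I ≤ q.asIdeal → (s : ℕ∞) ≤ LocCoh.depth (Localization.AtPrime p.asIdeal) (LocalizedModule p.asIdeal.primeCompl M) ∨ (((d + s : ℕ) : ℕ∞) : WithBot ℕ∞) < ((LocCoh.depth (Localization.AtPrime p.asIdeal) (LocalizedModule p.asIdeal.primeCompl M) : ℕ∞)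 : WithBot ℕ∞) + Formal2.dimBetween A p.asIdeal q.asIdeal) (h6 : ∀ p : PrimeSpectrum A, ¬ I ≤ p.asIdeal → p ∈ T → (s : ℕ∞) < LocCoh.depth (Localization.AtPrime p.asIdeal) (LocalizedModule p.asIdeal.primeCompl M)) : ∃ (J₀ : Ideal A) (hJ₀ : J₀ ≤ J), (J₀ ≤ J ∧ PrimeSpectrum.zeroLocus ((J₀ : Ideal A) : Set A) ∩ PrimeSpectrum.zeroLocus ((I : Ideal A) : Set A) = PrimeSpectrum.zeroLocus ((J : Ideal A) : Set A) ∩ PrimeSpectrum.zeroLocus ((I : Ideal A) : Set A) ∧ (∀ (J' : Ideal A) (hJ' : J' ≤ J₀), PrimeSpectrum.zeroLocus ((J' : Ideal A) : Set A) ∩ PrimeSpectrum.zeroLocus ((I : Ideal A) : Set A) = PrimeSpectrum.zeroLocus ((J : Ideal A) : Set A) ∩ PrimeSpectrum.zeroLocus ((I : Ideal A) : Set A) → ∀ i : ℕ, i ≤ s → Function.Bijective ((Dual2.HmapOfLE hJ' i).app (ModuleCat.of A M)).hom) ∧ (∃ n : ℕ, ∀ a ∈ (J₀ * I) ^ n, ∀ i : ℕ, i ≤ s → ∀ x : LocCoh.H J₀ i M, a • x = 0)) ∧ (∀ i : ℕ, i ≤ s → Function.Bijective ((Dual2.HmapOfLE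 hJ₀ i).app (ModuleCat.of A M)).hom ∧ Function.Bijective ((Dual2.HmapOfLE (le_sup_left : J ≤ J ⊔ I) i).app (ModuleCat.of A M)).hom) ∧ ∃ n : ℕ, ∀ a ∈ I ^ n, ∀ i : ℕ, i ≤ s → ∀ x : LocCoh.H J i M, a • x = 0 := by
  obtain ⟨ω, hω⟩ := hdc
  obtain ⟨J₀, h0, h0T, h0V, n, hn⟩ := Groth.Agent.LC16.Algebraize.exists_kill I J hT hω M s d h3 h4
  obtain ⟨hc, hb, hk⟩ := Groth.Agent.LC16.Algebraize.main I J hT M s h0 h0T hn
  obtain ⟨K, hK, hKk⟩ := Groth.Agent.LC16.DualAnn.exists_ann hω M (T := T)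
    (T' := PrimeSpectrum.zeroLocus (I : Set A))
    (fun p p' h hp a ha => (PrimeSpectrum.le_iff_specializes p p').2 h (hp ha)) s
    fun p q hp hq hpq k hdk => by
      by_cases hpT : p ∈ T
      · have h := h6 p hp hpT
        rw [hdk] at h
        have : s < k := by exact_mod_cast h
        have := Groth.Agent.LC16.DualAnn.mu_mono hω hpq
        omega
      · exact Groth.Agent.LC16.Algebraize.depth_cond I J hT hω M s d h3 h4 hpT hp hq hpq k hdk
  obtain ⟨m, hm⟩ : ∃ m, I ^ m ≤ K := by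
    refine Ideal.exists_pow_le_of_le_radical_of_fg ?_ (IsNoetherian.noetherian _)
    rw [← PrimeSpectrum.vanishingIdeal_zeroLocus_eq_radical]
    exact fun a ha => (PrimeSpectrum.mem_vanishingIdeal _ _).2 fun r hr => hK hr ha
  have hJT := Groth.Agent.LC16.Algebraize.subset_T I J hT (J' := J) rfl
  have hJIT : PrimeSpectrum.zeroLocus ((J ⊔ I : Ideal A) : Set A) ⊆ T := fun r hr =>
    hJT fun a ha => hr (Ideal.mem_sup_left ha)
  have cJI : ∀ J' ≤ J ⊔ I, ∀ a ≤ s, Groth.Agent.LC16.SuppStable.Cond (T := T) J' a M :=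
    fun J' hle a ha => Groth.Agent.LC16.Algebraize.cond_of_kills M
      (L := I ^ m) (fun c hc' x => hKk a ha c (hm hc') x) fun r hr hL =>
        hle.trans (sup_le (Groth.Agent.LC16.Algebraize.mem_J I J hT hr (r.isPrime.le_of_pow_le hL))
          (r.isPrime.le_of_pow_le hL))
  refine ⟨J₀, h0, ⟨h0, h0V, hb, hk⟩, fun i hi => ⟨?_, ?_⟩, m, fun a ha i hi x => ?_⟩
  · exact Groth.Agent.LC16.Algebraize.HofLE_bijective M h0 hJT h0T i
      (fun a ha => cJI J le_sup_left a (ha.trans hi)) (fun a ha => hc a (ha.trans hi))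
  · exact Groth.Agent.LC16.Algebraize.HofLE_bijective M le_sup_left hJIT hJT i
      (fun a ha => cJI _ le_rfl a (ha.trans hi)) (fun a ha => cJI J le_sup_left a (ha.trans hi))
  · refine (Groth.Agent.LC16.SuppStable.toT_bijective hJT i M
      fun b hb' => cJI J le_sup_left b (hb'.trans hi)).1 ?_
    rw [map_smul, hKk i hi a (hm ha), map_zero]

end Groth.Agent.S8792
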