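import Groth.Statements.S8795
import Groth.Agent.LC16.KillHom
import Groth.Agent.LC16.CompletionBij
import Groth.Agent.LC16.Algebraize
import Groth.Agent.LC17.Connected
import Groth.Agent.LC15.CdBC
import Groth.Agent.LC15.NonVanish

set_option autoImplicit false
set_option linter.style.haveILetI false
set_option maxHeartbeats 1600000
universe u
open CategoryTheory
attribute [local instance] HasDerivedCategory.standard
open LocCoh

namespace Groth.Agent.S8795

open Groth.Agent PrimeSpectrum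

theorem dim_le_of_primary {A : Type u} [CommRing A] [IsNoetherianRing A] [IsLocalRing A] (I : Ideal A)
    (hI : I ≤ IsLocalRing.maximalIdeal A) {d : ℕ}
    (hcd : LocCoh.CdLE A I d) (p : PrimeSpectrum A)
    (hp : ∀ q : PrimeSpectrum A, p ≤ q → I ≤ q.asIdeal → IsLocalRing.maximalIdeal A ≤ q.asIdeal) :
    ringKrullDim (A ⧸ p.asIdeal) ≤ ((d : ℕ∞) : WithBot ℕ∞) := by
  let B := A ⧸ p.asIdeal
  let φ : A →+* B := Ideal.Quotient.mk p.asIdeal
  haveI : IsLocalRing B := IsLocalRing.of_surjective' φ Ideal.Quotient.mk_surjective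
  have h1 : LocCoh.CdLE B (I.map φ) d := LC15.cdLE_map hcd
  have hcomap : Ideal.comap φ (IsLocalRing.maximalIdeal B) = IsLocalRing.maximalIdeal A := by
    haveI : (Ideal.comap φ (IsLocalRing.maximalIdeal B)).IsMaximal :=
      Ideal.comap_isMaximal_of_surjective φ Ideal.Quotient.mk_surjective
    exact IsLocalRing.eq_maximalIdeal inferInstance
  have hle : I.map φ ≤ IsLocalRing.maximalIdeal B := by
    rw [Ideal.map_le_iff_le_comap, hcomap]; exact hI
  have hrad : IsLocalRing.maximalIdeal B ≤ (I.map φ).radical := by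
    rw [Ideal.radical_eq_sInf]
    refine le_sInf fun Q ⟨hQ, hQp⟩ => ?_
    have h2 := hp ⟨Q.comap φ, hQp.comap φ⟩ (fun a ha => by
      show φ a ∈ Q
      rw [show φ a = 0 from Ideal.Quotient.eq_zero_iff_mem.2 ha]; exact zero_mem Q)
      (Ideal.map_le_iff_le_comap.1 hQ)
    intro x hx
    obtain ⟨a, rfl⟩ := Ideal.Quotient.mk_surjective x
    exact h2 (hcomap ▸ (show a ∈ Ideal.comap φ (IsLocalRing.maximalIdeal B) from hx))
  have h3 := LC17.cdLE_of_radical_eq hle hrad h1
  obtain ⟨n, hn⟩ : ∃ n : ℕ, ringKrullDim B = (n : WithBot ℕ∞) := by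
    have hfin : ringKrullDim B < ⊤ := ringKrullDim_lt_top
    have h0 := ringKrullDim_nonneg_of_nontrivial (R := B)
    revert hfin h0
    generalize ringKrullDim B = D
    intro hfin h0
    induction D using WithBot.recBotCoe with
    | bot => simp at h0
    | coe D =>
      lift D to ℕ using fun h => hfin.ne (by rw [h]; rfl)
      exact ⟨D, rfl⟩
  rw [hn]
  by_contra hlt
  have hdn : d < n := by
    by_contra hle'
    exact hlt (by exact_mod_cast not_lt.1 hle')
  haveI := LC15.nontrivial_H_supportDim n B (by rw [Module.supportDim_self_eq_ringKrullDim, hn])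
  exact not_subsingleton _ (h3 B n hdn)

theorem dimBetween_eq {A : Type u} [CommRing A] [IsLocalRing A] (p : Ideal A) :
    ringKrullDim (A ⧸ p) = Formal2.dimBetween A p (IsLocalRing.closedPoint A).asIdeal := by
  let e := (IsLocalization.atUnits A (IsLocalRing.closedPoint A).asIdeal.primeCompl
    (S := Localization.AtPrime (IsLocalRing.closedPoint A).asIdeal)
    (fun x hx => IsLocalRing.notMem_maximalIdeal.1 hx))
  exact ringKrullDim_eq_of_ringEquiv (Ideal.quotientEquiv p
    (p.map (algebraMap A (Localization.AtPrime (IsLocalRing.closedPoint A).asIdeal))) e.toRingEquiv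
    (congrArg (fun f : A →+* _ => p.map f) (RingHom.ext fun a => (e.commutes a).symm)))

/-- Let (A, m) be a Noetherian local ring which is I-adically complete for an ideal I and has a
dualizing complex; let d be a natural with cd(A, I) ≤ d, M a finite A-module and s a natural. Assume
that every prime p ∉ V(I) with V(p) ∩ V(I) ≠ {m} satisfies depth(M_p) ≥ s or depth(M_p) + dim(A/p) >
d + s, and that derived I-adic completion (left adjoint to the inclusion of derived complete
objects) exists on D(A). Then there is an ideal J₀ with V(J₀) ∩ V(I) = {m} such that for every ideal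
J ⊆ J₀ with V(J) ∩ V(I) = {m} whose total right derived functor RΓ_J exists, the canonical map from
RΓ_J(M) to its derived I-adic completion induces a bijection on cohomology in every degree i ≤ s.
(The identification of that completion with the completion of RΓ_m(M) is not part of this
statement.) -/
theorem result (A : Type u) [CommRing A] [IsNoetherianRing A] [IsLocalRing A] (I : Ideal A) [IsAdicComplete I A] (hdc : ∃ ω : Dual.D A, Dual.IsDualizing A ω) [DRing.HasDerivedCompletion I] (d : ℕ) (hcd : LocCoh.CdLE A I d) (M : Type u) [AddCommGroup M] [Module A M] [Module.Finite A M] (s : ℕ) (h4 : ∀ p : PrimeSpectrum A, ¬ I ≤ p.asIdeal → (∃ r : PrimeSpectrum A, p ≤ r ∧ I ≤ r.asIdeal ∧ r.asIdeal ≠ IsLocalRing.maximalIdeal A) → (s : ℕ∞) ≤ LocCoh.depth (Localization.AtPrime p.asIdeal) (LocalizedModule p.asIdeal.primeCompl M) ∨ (((d + s : ℕ) : ℕ∞) : WithBot ℕ∞) < ((LocCoh.depth (Localization.AtPrime p.asIdeal) (LocalizedModule p.asIdeal.primeCompl M) : ℕ∞)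 : WithBot ℕ∞) + ringKrullDim (A ⧸ p.asIdeal)) : ∃ J₀ : Ideal A, PrimeSpectrum.zeroLocus ((J₀ : Ideal A) : Set A) ∩ PrimeSpectrum.zeroLocus ((I : Ideal A) : Set A) = {IsLocalRing.closedPoint A} ∧ ∀ (J : Ideal A) [DRing.HasRgammaI J], J ≤ J₀ → PrimeSpectrum.zeroLocus ((J : Ideal A) : Set A) ∩ PrimeSpectrum.zeroLocus ((I : Ideal A) : Set A) = {IsLocalRing.closedPoint A} → ∀ i : ℤ, i ≤ s → Function.Bijective ((DerivedCategory.homologyFunctor (ModuleCat.{u} A) i).map (DRing.toDerivedCompletion I ((DRing.RgammaI J).obj (Dual.inD A M)))).hom := by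
  classical
  obtain ⟨ω, hω⟩ := hdc
  let m := IsLocalRing.maximalIdeal A
  have hIm : I ≤ m := (IsAdicComplete.le_jacobson_bot I).trans (IsLocalRing.jacobson_eq_maximalIdeal ⊥ bot_ne_top).le
  let T : Set (PrimeSpectrum A) := {p | ∀ q : PrimeSpectrum A, p ≤ q → I ≤ q.asIdeal → m ≤ q.asIdeal}
  have hT : ∀ p, p ∈ T ↔ ∀ q : PrimeSpectrum A, p ≤ q → I ≤ q.asIdeal → m ≤ q.asIdeal := fun p => Iff.rfl
  have hwit : ∀ Q : PrimeSpectrum A, Q ∉ T →
      ∃ r : PrimeSpectrum A, Q ≤ r ∧ I ≤ r.asIdeal ∧ r.asIdeal ≠ m := fun Q hQ => by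
    simp only [T, Set.mem_ofPred_eq, not_forall] at hQ
    obtain ⟨r, h1, h2, h3⟩ := hQ
    exact ⟨r, h1, h2, fun h => h3 h.ge⟩
  have hclosed : zeroLocus ((m : Ideal A) : Set A) ∩ zeroLocus (I : Set A) = {IsLocalRing.closedPoint A} := by
    ext q
    simp only [Set.mem_inter_iff, mem_zeroLocus, SetLike.coe_subset_coe, Set.mem_singleton_iff]
    exact ⟨fun h => PrimeSpectrum.ext (le_antisymm (IsLocalRing.le_maximalIdeal q.2.ne_top) h.1),
      fun h => h ▸ ⟨le_rfl, hIm⟩⟩
  obtain ⟨J₁, hJ₁m, hJ₁T, -, N₁, hk₁⟩ := LC16.Algebraize.exists_kill I m hT hω M s d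
    (fun p _ hp => ⟨IsLocalRing.closedPoint A, IsLocalRing.le_maximalIdeal p.2.ne_top, le_rfl, hIm,
      dimBetween_eq p.asIdeal ▸ dim_le_of_primary I hIm hcd p hp⟩)
    (fun p hpI hpT q hpq hJq hIq => by
      obtain rfl : q = IsLocalRing.closedPoint A :=
        PrimeSpectrum.ext (le_antisymm (IsLocalRing.le_maximalIdeal q.2.ne_top) hJq)
      rw [← dimBetween_eq p.asIdeal]
      exact h4 p hpI (hwit p hpT))
  obtain ⟨-, hbij, N₂, hk₂⟩ := LC16.Algebraize.main I m hT M s hJ₁m hJ₁T hk₁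
  obtain ⟨fs, hfs⟩ := DR40.exists_list_of_fg (IsNoetherian.noetherian I : I.FG)
  obtain ⟨ms, hms⟩ := DR40.exists_list_of_fg (IsNoetherian.noetherian m : m.FG)
  obtain ⟨K, hK, hkK⟩ := LC16.KillHom.exists_kill I hω M fs hfs ms hms d hcd s
    (fun Q r hQr hQ => LC16.Algebraize.stable I m hT ((PrimeSpectrum.le_iff_specializes Q r).1 hQr) hQ)
    (fun Q hQ _ => hwit Q hQ)
    (fun Q hQT hQI k hk => by
      have h := h4 Q hQI (hwit Q hQT)
      rw [hk] at h
      exact h.imp (fun h => by exact_mod_cast h) id)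
  -- the ideal
  let Ps := (Ideal.finite_minimalPrimes_of_isNoetherianRing A K).toFinset
  let inT : Ideal A → Prop := fun Q => ∃ h : Q.IsPrime, (⟨Q, h⟩ : PrimeSpectrum A) ∈ T
  let B : Ideal A := ∏ Q ∈ Ps.filter inT, Q
  have hBT : zeroLocus ((J₁ * B : Ideal A) : Set A) ⊆ T := by
    rw [zeroLocus_mul]
    refine Set.union_subset hJ₁T fun r hr => ?_
    obtain ⟨Q, hQ, hQr⟩ := (r.isPrime.prod_le).1 (show B ≤ r.asIdeal from hr)
    obtain ⟨-, hQp, hQT⟩ := Finset.mem_filter.1 hQ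
    exact LC16.Algebraize.stable I m hT ((PrimeSpectrum.le_iff_specializes ⟨Q, hQp⟩ r).1 hQr) hQT
  refine ⟨J₁ * B, ?_, fun J _ hJ hV i hi => ?_⟩
  · rw [← hclosed]
    exact Set.Subset.antisymm (fun r hr => ⟨fun a ha => LC16.Algebraize.mem_J I m hT (hBT hr.1) hr.2 ha, hr.2⟩)
      (fun r hr => ⟨fun a ha => hr.1 (hJ₁m (Ideal.mul_le_left ha)), hr.2⟩)
  have hJ1 : J ≤ J₁ := hJ.trans Ideal.mul_le_left
  -- the two powers
  have hrad : J * I ≤ K.radical := by
    rw [← Ideal.sInf_minimalPrimes]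
    refine le_sInf fun Q hQ => ?_
    rcases hK (show (⟨Q, hQ.1.1⟩ : PrimeSpectrum A) ∈ zeroLocus (K : Set A) from hQ.1.2) with h | h
    · exact Ideal.mul_le_left.trans (hJ.trans (Ideal.mul_le_right.trans (Ideal.le_of_dvd
        (Finset.dvd_prod_of_mem _ (Finset.mem_filter.2 ⟨(Set.Finite.mem_toFinset _).2 hQ, ⟨hQ.1.1, h⟩⟩)))))
    · exact Ideal.mul_le_right.trans h
  obtain ⟨N₃, hN₃⟩ := Ideal.exists_pow_le_of_le_radical_of_fg hrad (IsNoetherian.noetherian _)
  obtain ⟨gs, hgs⟩ := DR40.exists_list_of_fg (IsNoetherian.noetherian J : J.FG)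
  let X := LC16.CechTri.XC (ModuleCat.of A M) gs
  -- the comparison map
  obtain ⟨ε, hε⟩ : ∃ ε : LC16.CechTri.XC (ModuleCat.of A A) fs ⟶ Dual.inD A A,
      ∀ E, DRing.IsDerivedComplete I E → Function.Bijective (fun g : Dual.inD A A ⟶ E => ε ≫ g) := by
    have h := LC16.ComplKill.exists_forget I (ModuleCat.of A A) [] fs
      (fun f hf => hfs ▸ Ideal.subset_span hf)
    rw [List.append_nil] at h
    obtain ⟨η, hη⟩ := h
    let e := ((DerivedCategory.singleFunctorIsoCompQ (ModuleCat.{u} A) 0).app (ModuleCat.of A A)).symm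
    refine ⟨η ≫ e.hom, fun E hE => ?_⟩
    have : Function.Bijective fun g : Dual.inD A A ⟶ E => e.hom ≫ g :=
      (Iso.homFromEquiv e.symm).bijective
    exact (congrArg Function.Bijective (funext fun g => (Category.assoc _ _ _).symm)).mp ((hη E hE).comp this)
  -- the killing
  have hU : ∀ l : ℤ, l ≤ s → ∀ a ∈ (J * I) ^ N₂, ∀ x : Dual.HD A X l, a • x = 0 := fun l hl a ha x => by
    rcases lt_or_ge l 0 with hneg | hpos
    · haveI : Subsingleton (Dual.HD A X l) :=
        (DR39.isZero_HF_iff _ _).1 (LC16.ComplKill.isZero_HF_cech_neg _ gs l hneg)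
      exact Subsingleton.elim _ _
    obtain ⟨j, rfl⟩ := Int.eq_ofNat_of_zero_le hpos
    obtain ⟨e⟩ := LC16.CechFam.nonempty_equiv gs j M
    let e' := (DR39.HQIso (DerCA.extCech (ModuleCat.of A M) gs) j).toLinearEquiv ≪≫ₗ e
    have key : ∀ J' : Ideal A, J' = J → ∀ y : LocCoh.H J' j M, a • y = 0 := by
      rintro J' rfl y
      obtain ⟨z, rfl⟩ := (hbij J' hJ1 (by rw [hclosed]; exact hV) j (by exact_mod_cast hl)).2 y
      refine (map_smul ((Dual2.HmapOfLE hJ1 j).app (ModuleCat.of A M)).hom a z).symm.trans ?_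
      rw [hk₂ a (Ideal.pow_right_mono (Ideal.mul_mono_left hJ1) _ ha) j (by exact_mod_cast hl) z]
      exact map_zero _
    exact e'.injective (by rw [map_smul, map_zero]; exact key _ hgs _)
  have hC : ∀ l : ℤ, l ≤ s → ∀ a ∈ K, ∀ g : LC16.CechTri.XC (ModuleCat.of A A) fs ⟶ X⟦l⟧, a • g = 0 :=
    fun l hl a ha g => by
    let X' := LC16.CechTri.XC (ModuleCat.of A M) (fs ++ gs)
    obtain ⟨η, hη⟩ := LC16.ComplKill.exists_forget I (ModuleCat.of A M) gs fs
      (fun f hf => hfs ▸ Ideal.subset_span hf)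
    obtain ⟨ec⟩ := LC16.ComplKill.nonempty_compl_iso I η hη
    obtain ⟨l₁⟩ := LC16.ComplKill.nonempty_HD_compl_equiv I fs hfs X' l
    obtain ⟨l₂⟩ := LC16.ComplKill.nonempty_HD_compl_equiv I fs hfs X l
    let Φ := l₂.symm ≪≫ₗ ((DR39.HF A l).mapIso ec).symm.toLinearEquiv ≪≫ₗ l₁
    obtain ⟨E, -, hE, ⟨eE⟩⟩ := LC16.CechTri.exists_rep (ModuleCat.of A M)
    obtain ⟨b₁⟩ := LC16.CechTri.nonempty_cech_gCx (ModuleCat.of A M) (fs ++ gs) hE eE
    obtain ⟨b₂⟩ := LC16.CechTri.nonempty_cech_gCx (ModuleCat.of A M) ms hE eE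
    have hle : Ideal.span {x | x ∈ fs ++ gs} ≤ Ideal.span {x | x ∈ ms} := by
      rw [hms, show {x | x ∈ fs ++ gs} = {x | x ∈ fs} ∪ {x | x ∈ gs} from by ext; simp, Ideal.span_union,
        hfs, hgs]
      exact sup_le hIm (hJ1.trans hJ₁m)
    have hmrad : Ideal.span {x | x ∈ ms} ≤ (Ideal.span {x | x ∈ fs ++ gs}).radical := by
      rw [hms, Ideal.radical_eq_sInf]
      refine le_sInf fun Q ⟨hQ, hQp⟩ => ?_
      have : (⟨Q, hQp⟩ : PrimeSpectrum A) ∈ zeroLocus (J : Set A) ∩ zeroLocus (I : Set A) :=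
        ⟨hgs ▸ (Ideal.span_mono (fun x hx => List.mem_append_right _ hx)).trans hQ,
          hfs ▸ (Ideal.span_mono (fun x hx => List.mem_append_left _ hx)).trans hQ⟩
      rw [hV, Set.mem_singleton_iff] at this
      exact (congrArg PrimeSpectrum.asIdeal this).ge
    obtain ⟨k, hk⟩ := Ideal.exists_pow_le_of_le_radical_of_fg hmrad (IsNoetherian.noetherian _)
    let eY : X' ≅ LC16.CechTri.XC (ModuleCat.of A M) ms := b₁ ≪≫ (DR39.QA A).mapIso
      (LC16.CechRgamma.gIso (fun N x => LC16.CechRgamma.torsion_iff hle hk N x) E).symm ≪≫ b₂.symm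
    refine Φ.injective ?_
    rw [map_smul, map_zero]
    have h := hkK l hl a ha (Φ g ≫ eY.hom⟦l⟧')
    rw [← Linear.smul_comp] at h
    exact (cancel_mono ((shiftFunctor (Dual.D A) l).mapIso eY).hom).1 (h.trans (Limits.zero_comp).symm)
  have hkill : LC16.HomGood.Kills ε ((Ideal.span {x | x ∈ gs} * I) ^ (N₂ + N₃)) X
      (((s + d + 1 : ℕ) : ℤ) - d - 1) := by
    intro l hl a ha
    rw [hgs] at ha
    exact ⟨fun g => LC16.CompletionBij.smul_hom_eq_zero X l a
        (hU l (by omega) a (Ideal.pow_le_pow_right (by omega) ha)) g,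
      fun g => hC l (by omega) a (hN₃ (Ideal.pow_le_pow_right (by omega) ha)) g⟩
  have hgood := LC16.CechBoot.good_of_kills I hε gs (d := d) (by omega)
    (LC16.ComplKill.isZero_HF_cech_of_cd I fs hfs hcd) (s + d + 1) M (N₂ + N₃) hkill
  obtain ⟨eX⟩ := LC16.CechRgamma.nonempty_cech_Rgamma J gs hgs.le (k := 1) (by rw [pow_one, hgs])
    (ModuleCat.of A M)
  exact LC16.CompletionBij.bijective_of_good I fs hfs hε _ (hgood.of_iso eX) i (by push_cast; omega)

end Groth.Agent.S8795
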