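import Groth.Statements.S8801
import Groth.Agent.Frg27.ComplIso
import Groth.Agent.Hens22.PairOps
import Groth.Agent.S1994
import Mathlib.RingTheory.Etale.Basic

set_option autoImplicit false
universe u
open AdicRing

namespace Groth.Agent.S8801

/-- Let A be a Noetherian ring and I an ideal. Let C be an A-algebra of finite type and Cʰ a
henselization of the pair (C, IC), viewed as an A-algebra through C, and let J be an ideal of Cʰ.
Then there is an A-algebra B of finite type whose IB-adic completion is isomorphic as an A-algebra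
to the I(Cʰ/J)-adic completion of Cʰ/J (existence of an isomorphism only; the published statement
names no particular map). -/
theorem result (A : Type u) [CommRing A] [IsNoetherianRing A] (I : Ideal A) (C : Type u) [CommRing C] [Algebra A C] [Algebra.FiniteType A C] (Ch : Type u) [CommRing Ch] [Algebra C Ch] [Algebra A Ch] [IsScalarTower A C Ch] (hCh : Hens2.IsPairHenselization C (I.map (algebraMap A C)) Ch) (J : Ideal Ch) : ∃ (B : Type u) (_ : CommRing B) (_ : Algebra A B), Algebra.FiniteType A B ∧ Nonempty (AdicCompletion (I.map (algebraMap A B)) B ≃ₐ[A] AdicCompletion (I.map (algebraMap A (Ch ⧸ J))) (Ch ⧸ J)) := by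
  classical
  haveI : IsNoetherianRing C := Algebra.FiniteType.isNoetherianRing A C
  haveI : IsNoetherianRing Ch := (S1994.result C _ Ch hCh).1
  obtain ⟨k, x, hx⟩ := Submodule.fg_iff_exists_fin_generating_family.mp (IsNoetherian.noetherian J)
  obtain ⟨R', _, _, _, hbij, φ, s, hs⟩ := Hens22.exists_stage hCh x
  letI : Algebra R' Ch := φ.toRingHom.toAlgebra
  haveI : IsScalarTower C R' Ch := .of_algebraMap_eq fun c => (φ.commutes c).symm
  have hR' := Hens22.isPairHenselization_of_bijective hCh R' hbij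
  letI : Algebra A R' := ((algebraMap C R').comp (algebraMap A C)).toAlgebra
  haveI : IsScalarTower A C R' := .of_algebraMap_eq fun _ => rfl
  haveI : IsScalarTower A R' Ch := .of_algebraMap_eq fun a =>
    (IsScalarTower.algebraMap_apply A C Ch a).trans (φ.commutes _).symm
  haveI : Algebra.FiniteType A R' := Algebra.FiniteType.trans (S := C) inferInstance inferInstance
  let J' : Ideal R' := Ideal.span (Set.range s)
  have hJ' : J'.map (algebraMap R' Ch) = J := by
    rw [Ideal.map_span, ← Set.range_comp, show ((algebraMap R' Ch) ∘ s) = x from funext hs]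
    exact hx
  let g : R' ⧸ J' →ₐ[A] Ch ⧸ J := Ideal.quotientMapₐ J (IsScalarTower.toAlgHom A R' Ch)
    (Ideal.map_le_iff_le_comap.mp hJ'.le)
  have hpow : ∀ (j : ℕ) (z : Ch), z ∈ ((((I.map (algebraMap A C)).map (algebraMap C R')) ^ j).map (algebraMap R' Ch)) ↔
      z ∈ (I ^ j).map (algebraMap A Ch) := fun j z => by
    rw [Ideal.map_map, ← IsScalarTower.algebraMap_eq, ← Ideal.map_pow, Ideal.map_map,
      ← IsScalarTower.algebraMap_eq]
  have hsur : ∀ (j : ℕ) (z : Ch), ∃ r : R', algebraMap R' Ch r - z ∈ (I ^ j).map (algebraMap A Ch) := fun j z => by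
    obtain ⟨r, hr⟩ := Hens22.exists_sub_mem_pow hR' j z
    exact ⟨r, (hpow j _).mp (neg_sub z (algebraMap R' Ch r) ▸ neg_mem hr)⟩
  have hin : ∀ (j : ℕ) (r : R'), algebraMap R' Ch r ∈ (I ^ j).map (algebraMap A Ch) →
      r ∈ (I ^ j).map (algebraMap A R') := fun j r hr => by
    have := (injective_iff_map_eq_zero _).mp (Hens22.quotientMap_pow_bijective hR' j).1
      (Ideal.Quotient.mk _ r) (Ideal.Quotient.eq_zero_iff_mem.mpr ((hpow j _).mpr hr))
    rw [Ideal.Quotient.eq_zero_iff_mem, Ideal.map_map, ← IsScalarTower.algebraMap_eq, ← Ideal.map_pow] at this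
    exact this
  refine ⟨R' ⧸ J', inferInstance, inferInstance,
    Algebra.FiniteType.of_surjective (Ideal.Quotient.mkₐ A J') Ideal.Quotient.mk_surjective,
    Frg27.nonempty_compl_algEquiv (IsNoetherian.noetherian I) g (fun j z => ?_) fun j b hb => ?_⟩
  · obtain ⟨z, rfl⟩ := Ideal.Quotient.mk_surjective z
    obtain ⟨r, hr⟩ := hsur j z
    refine ⟨Ideal.Quotient.mk J' r, ?_⟩
    rw [IsScalarTower.algebraMap_eq A Ch (Ch ⧸ J), ← Ideal.map_map]
    exact Ideal.mem_map_of_mem (Ideal.Quotient.mk J) hr
  · obtain ⟨r, rfl⟩ := Ideal.Quotient.mk_surjective b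
    rw [IsScalarTower.algebraMap_eq A Ch (Ch ⧸ J), ← Ideal.map_map] at hb
    rw [IsScalarTower.algebraMap_eq A R' (R' ⧸ J'), ← Ideal.map_map]
    change Ideal.Quotient.mk J (algebraMap R' Ch r) ∈ ((I ^ j).map (algebraMap A Ch)).map (Ideal.Quotient.mk J) at hb
    change Ideal.Quotient.mk J' r ∈ ((I ^ j).map (algebraMap A R')).map (Ideal.Quotient.mk J')
    rw [Ideal.mem_quotient_iff_mem_sup] at hb ⊢
    obtain ⟨u, hu, v, hv, huv⟩ := Submodule.mem_sup.mp hb
    rw [← hx] at hv
    obtain ⟨c, rfl⟩ := (Submodule.mem_span_range_iff_exists_fun Ch).mp hv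
    choose d hd using fun i => hsur j (c i)
    refine Submodule.mem_sup.mpr ⟨r - ∑ i, d i * s i, hin j _ ?_, ∑ i, d i * s i,
      sum_mem fun i _ => Ideal.mul_mem_left _ _ (Ideal.subset_span ⟨i, rfl⟩), sub_add_cancel _ _⟩
    rw [map_sub, map_sum, ← huv]
    have e : u + ∑ i, c i • x i - ∑ i, algebraMap R' Ch (d i * s i) =
        u - ∑ i, (algebraMap R' Ch (d i) - c i) * x i := by
      rw [add_sub_assoc, sub_eq_add_neg u, ← Finset.sum_sub_distrib, ← Finset.sum_neg_distrib]
      congr 1
      refine Finset.sum_congr rfl fun i _ => ?_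
      rw [map_mul, show algebraMap R' Ch (s i) = x i from hs i, smul_eq_mul]
      ring
    rw [e]
    exact sub_mem hu (sum_mem fun i _ => Ideal.mul_mem_right _ _ (hd i))

end Groth.Agent.S8801
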