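import Groth.Statements.S8803
import Groth.Agent.LC15.Artin
import Mathlib.Algebra.Category.ModuleCat.Subobject

set_option autoImplicit false
universe u
open CategoryTheory
open LocCoh

namespace Groth.Agent.S8803

/-- Let (A, m) be a Noetherian local ring and (M_n) an inverse system of finite A-modules. Then for
every i the inverse system H^i_m(M_n) of local cohomology modules satisfies the Mittag-Leffler
condition. -/
theorem result (A : Type u) [CommRing A] [IsNoetherianRing A] [IsLocalRing A] (Msys : ℕᵒᵖ ⥤ ModuleCat.{u} A) (hfin : ∀ n : ℕᵒᵖ, Module.Finite A (Msys.obj n)) (i : ℕ) : ARSys.IsML (Msys ⋙ localCohomology (IsLocalRing.maximalIdeal A) i) := by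
  intro n
  set X := Msys ⋙ localCohomology (IsLocalRing.maximalIdeal A) i with hX
  have : IsArtinian A (X.obj (Opposite.op n)) := by
    haveI := hfin (Opposite.op n)
    exact LC15.isArtinian_H_maximalIdeal i (Msys.obj (Opposite.op n))
  let e := ModuleCat.subobjectModule (X.obj (Opposite.op n))
  have hanti : Antitone fun s => e (Limits.imageSubobject (ARSys.shiftMap X s n)) := by
    intro a b hab
    refine e.monotone ?_
    have h : ARSys.shiftMap X b n = ARSys.tr X (Nat.add_le_add_left hab n) ≫ ARSys.shiftMap X a n :=
      (congrArg X.map (Subsingleton.elim _ _)).trans (X.map_comp _ _)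
    have gen : ∀ {P Q S : ModuleCat.{u} A} (g : P ⟶ Q) (f : Q ⟶ S),
        Limits.imageSubobject (g ≫ f) ≤ Limits.imageSubobject f := fun g f =>
      Limits.imageSubobject_comp_le g f
    rw [h]
    exact gen (ARSys.tr X (Nat.add_le_add_left hab n)) (ARSys.shiftMap X a n)
  obtain ⟨r, hr⟩ := monotone_stabilizes_iff_artinian.mpr this
    ⟨fun s => OrderDual.toDual (e (Limits.imageSubobject (ARSys.shiftMap X s n))), hanti⟩
  exact ⟨r, fun s hs => e.injective (hr s hs).symm⟩

end Groth.Agent.S8803
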