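import Groth.Statements.S8808
import Groth.Agent.S8795
import Groth.Agent.LC16.GammaDual

set_option autoImplicit false
set_option linter.style.haveILetI false
set_option linter.unusedVariables false
set_option maxHeartbeats 1600000
universe u
open CategoryTheory
attribute [local instance] HasDerivedCategory.standard
open LocCoh

namespace Groth.Agent.S8808

open Groth.Agent PrimeSpectrum

/-- a prime of `T` off `V(I)` has a witness at distance at most the cohomological dimension -/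
theorem exists_witness {A : Type u} [CommRing A] [IsNoetherianRing A] (I : Ideal A) [IsAdicComplete I A]
    {d : ℕ} (hcd : LocCoh.CdLE A I d) (p : PrimeSpectrum A) :
    ∃ q : PrimeSpectrum A, p ≤ q ∧ I ≤ q.asIdeal ∧
      Formal2.dimBetween A p.asIdeal q.asIdeal ≤ ((d : ℕ∞) : WithBot ℕ∞) := by
  obtain ⟨m, hm, hpm⟩ := Ideal.exists_le_maximal _ p.2.ne_top
  have hIm : I ≤ m := ((IsAdicComplete.le_jacobson_bot I).trans
    (Ideal.jacobson_mono (bot_le : (⊥ : Ideal A) ≤ m))).trans (Ideal.jacobson_eq_self_of_isMaximal (I := m)).le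
  haveI := hm.isPrime
  obtain ⟨Q, hQ, -⟩ := Ideal.exists_minimalPrimes_le (sup_le hpm hIm)
  let q : PrimeSpectrum A := ⟨Q, hQ.1.1⟩
  have hpq : p.asIdeal ≤ Q := le_sup_left.trans hQ.1.2
  have hIq : I ≤ Q := le_sup_right.trans hQ.1.2
  refine ⟨q, hpq, hIq, ?_⟩
  haveI : q.asIdeal.IsPrime := hQ.1.1
  let B := Localization.AtPrime q.asIdeal
  let φ := algebraMap A B
  haveI : IsNoetherianRing B := IsLocalization.isNoetherianRing q.asIdeal.primeCompl _ inferInstance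
  have hmap : ∀ J : Ideal A, J ≤ Q → J.map φ ≤ IsLocalRing.maximalIdeal B := fun J hJ =>
    (Ideal.map_mono hJ).trans Localization.AtPrime.map_eq_maximalIdeal.le
  have hdisj : Disjoint (q.asIdeal.primeCompl : Set A) p.asIdeal :=
    Set.disjoint_left.2 fun x hx hxp => hx (hpq hxp)
  let p' : PrimeSpectrum B := ⟨p.asIdeal.map φ,
    IsLocalization.isPrime_of_isPrime_disjoint q.asIdeal.primeCompl B p.asIdeal p.2 hdisj⟩
  refine (S8795.dim_le_of_primary (I.map φ) (hmap I hIq) (LC15.cdLE_map hcd) p' fun r hpr hIr => ?_)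
  have h1 : r.asIdeal.comap φ ≤ Q := by
    refine (Ideal.comap_mono (IsLocalRing.le_maximalIdeal r.2.ne_top)).trans (le_of_eq ?_)
    exact IsLocalization.AtPrime.comap_maximalIdeal B q.asIdeal
  have h2 : Q ≤ r.asIdeal.comap φ := hQ.2 ⟨r.2.comap φ, sup_le (Ideal.map_le_iff_le_comap.1 hpr)
    (Ideal.map_le_iff_le_comap.1 hIr)⟩ h1
  rw [← Localization.AtPrime.map_eq_maximalIdeal, Ideal.map_le_iff_le_comap]
  exact h2

/-- Let A be a Noetherian ring which is I-adically complete for an ideal I and has a dualizing complex;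
let J be an ideal, M a finite A-module, s a natural, d a natural with cd(A, I) ≤ d, T the set of
primes p with V(p) ∩ V(I) ⊆ V(J), and δ a dimension function on Spec A (δ(p) = δ(q) + 1 when q is an
immediate specialization of p). Assume: (4) every prime p ∉ V(I) not in T has depth(M_p) ≥ s or
depth(M_p) + dim((A/p)_q) > d + s for all q ∈ V(p) ∩ V(J) ∩ V(I); (5) every prime p ∉ V(I) not in T
with V(p) ∩ V(J) ∩ V(I) nonempty and depth(M_p) < s satisfies one of: (a) the support of M_p has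
dimension < s + 2; (b) δ(p) > d + δ(q') − 1 for every q' ∈ V(J) ∩ V(I); (c) depth(M_p) +
dim((A/p)_q) > d + s + (δ(q₁) − δ(q₂)) − 2 for all q ∈ V(p) ∩ V(J) ∩ V(I) and all q₁, q₂ ∈ V(J) ∩
V(I). Assume derived I-adic completion (left adjoint to the inclusion of derived complete objects)
exists on D(A). Then there is an ideal J₀ ⊆ J with V(J₀) ∩ V(I) = V(J) ∩ V(I) such that for every J'
⊆ J₀ with V(J') ∩ V(I) = V(J) ∩ V(I) whose total right derived functor RΓ_{J'} exists, the canonical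
map from RΓ_{J'}(M) to its derived I-adic completion induces a bijection on cohomology in every
degree i ≤ s. (The derived completions of RΓ_{J'}(M) and RΓ_J(M) agree canonically; that
identification is not part of this statement. The maximum and minimum of δ on V(J) ∩ V(I) in (b),
(c) are unfolded into quantifiers.) -/
theorem result (A : Type u) [CommRing A] [IsNoetherianRing A] (I : Ideal A) [IsAdicComplete I A] (hdc : ∃ ω : Dual.D A, Dual.IsDualizing A ω) [DRing.HasDerivedCompletion I] (J : Ideal A) (M : Type u) [AddCommGroup M] [Module A M] [Module.Finite A M] (s d : ℕ) (h3 : LocCoh.CdLE A I d) (T : Set (PrimeSpectrum A)) (hT : ∀ p : PrimeSpectrum A, p ∈ T ↔ ∀ q : PrimeSpectrum A, p ≤ q → I ≤ q.asIdeal → J ≤ q.asIdeal) (h4 : ∀ p : PrimeSpectrum A, ¬ I ≤ p.asIdeal → p ∉ T → ∀ q : PrimeSpectrum A, p ≤ q → J ≤ q.asIdeal → I ≤ q.asIdeal → (s : ℕ∞) ≤ LocCoh.depth (Localization.AtPrime p.asIdeal) (LocalizedModule p.asIdeal.primeCompl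 M) ∨ (((d + s : ℕ) : ℕ∞) : WithBot ℕ∞) < ((LocCoh.depth (Localization.AtPrime p.asIdeal) (LocalizedModule p.asIdeal.primeCompl M) : ℕ∞) : WithBot ℕ∞) + Formal2.dimBetween A p.asIdeal q.asIdeal) (δ : PrimeSpectrum A → ℤ) (hδ : ∀ p q : PrimeSpectrum A, p ⋖ q → δ p = δ q + 1) (h5 : ∀ p : PrimeSpectrum A, ¬ I ≤ p.asIdeal → p ∉ T → (∃ q : PrimeSpectrum A, p ≤ q ∧ J ≤ q.asIdeal ∧ I ≤ q.asIdeal) → LocCoh.depth (Localization.AtPrime p.asIdeal) (LocalizedModule p.asIdeal.primeCompl M) < (s : ℕ∞) → Module.supportDim (Localization.AtPrime p.asIdeal) (LocalizedModule p.asIdeal.primeCompl M) < ((s + 2 : ℕ) : WithBot ℕ∞) ∨ (∀ q' : PrimeSpectrum A, J ≤ q'.asIdeal → I ≤ q'.asIdeal → (d : ℤ) + δ q' - 1 < δ p) ∨ (∀ q : PrimeSpectrum A, p ≤ q → J ≤ q.asIdeal → I ≤ q.asIdeal → ∀ q₁ q₂ : PrimeSpectrum A, J ≤ q₁.asIdeal → I ≤ q₁.asIdeal → J ≤ q₂.asIdeal → I ≤ q₂.asIdeal → ∀ k : ℕ, (k : ℤ) = (d : ℤ) + s + (δ q₁ - δ q₂) - 2 → ((k : ℕ∞) : WithBot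 ℕ∞) < ((LocCoh.depth (Localization.AtPrime p.asIdeal) (LocalizedModule p.asIdeal.primeCompl M) : ℕ∞) : WithBot ℕ∞) + Formal2.dimBetween A p.asIdeal q.asIdeal)) : ∃ J₀ : Ideal A, J₀ ≤ J ∧ PrimeSpectrum.zeroLocus ((J₀ : Ideal A) : Set A) ∩ PrimeSpectrum.zeroLocus ((I : Ideal A) : Set A) = PrimeSpectrum.zeroLocus ((J : Ideal A) : Set A) ∩ PrimeSpectrum.zeroLocus ((I : Ideal A) : Set A) ∧ ∀ (J' : Ideal A) [DRing.HasRgammaI J'], J' ≤ J₀ → PrimeSpectrum.zeroLocus ((J' : Ideal A) : Set A) ∩ PrimeSpectrum.zeroLocus ((I : Ideal A) : Set A) = PrimeSpectrum.zeroLocus ((J : Ideal A) : Set A) ∩ PrimeSpectrum.zeroLocus ((I : Ideal A) : Set A) → ∀ i : ℤ, i ≤ s → Function.Bijective ((DerivedCategory.homologyFunctor (ModuleCat.{u} A) i).map (DRing.toDerivedCompletion I ((DRing.RgammaI J').obj (Dual.inD A M)))).hom := by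
  classical
  obtain ⟨ω, hω⟩ := hdc
  let W := J ⊔ I
  have hT' : ∀ p, p ∈ T ↔ ∀ q : PrimeSpectrum A, p ≤ q → I ≤ q.asIdeal → J ≤ q.asIdeal := hT
  obtain ⟨J₁, hJ₁J, hJ₁T, -, N₁, hk₁⟩ := LC16.Algebraize.exists_kill I J hT hω M s d
    (fun p _ hp => by
      obtain ⟨q, hpq, hIq, hd⟩ := exists_witness I h3 p
      exact ⟨q, hpq, (hT p).1 hp q hpq hIq, hIq, hd⟩)
    h4
  obtain ⟨-, hbij, N₂, hk₂⟩ := LC16.Algebraize.main I J hT M s hJ₁J hJ₁T hk₁
  obtain ⟨fs, hfs⟩ := DR40.exists_list_of_fg (IsNoetherian.noetherian I : I.FG)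
  -- the comparison map
  obtain ⟨ε, hε⟩ : ∃ ε : LC16.CechTri.XC (ModuleCat.of A A) fs ⟶ Dual.inD A A,
      ∀ E, DRing.IsDerivedComplete I E → Function.Bijective (fun g : Dual.inD A A ⟶ E => ε ≫ g) := by
    have h := LC16.ComplKill.exists_forget I (ModuleCat.of A A) [] fs
      (fun f hf => hfs ▸ Ideal.subset_span hf)
    rw [List.append_nil] at h
    obtain ⟨η, hη⟩ := h
    let e := ((DerivedCategory.singleFunctorIsoCompQ (ModuleCat.{u} A) 0).app (ModuleCat.of A A)).symm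
    refine ⟨η ≫ e.hom, fun E hE => ?_⟩
    have : Function.Bijective fun g : Dual.inD A A ⟶ E => e.hom ≫ g :=
      (Iso.homFromEquiv e.symm).bijective
    exact (congrArg Function.Bijective (funext fun g => (Category.assoc _ _ _).symm)).mp ((hη E hE).comp this)
  obtain ⟨E, hEK, hE, ⟨eE⟩⟩ := LC16.CechTri.exists_rep (ModuleCat.of A M)
  have hU : LC16.GammaDual.Uset I W = T ∪ zeroLocus (I : Set A) := by
    ext p
    simp only [LC16.GammaDual.Uset, Set.mem_union, Set.mem_ofPred_eq, hT]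
    exact or_congr_left ⟨fun h q hq hI => le_sup_left.trans (h q hq hI),
      fun h q hq hI => sup_le (h q hq hI) hI⟩
  obtain ⟨K, hK, hkK⟩ := LC16.GammaDual.exists_kill I W fs hε hfs hω M s d h3
    (fun p hp q hpq hWq => h4 p (fun h => hp (hU ▸ Or.inr h)) (fun h => hp (hU ▸ Or.inl h)) q hpq
      (le_sup_left.trans hWq) (le_sup_right.trans hWq)) ⟨hEK, hE⟩ eE.symm
  rw [hU] at hK
  -- the ideal
  let Ps := (Ideal.finite_minimalPrimes_of_isNoetherianRing A K).toFinset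
  let inT : Ideal A → Prop := fun Q => ∃ h : Q.IsPrime, (⟨Q, h⟩ : PrimeSpectrum A) ∈ T
  let B : Ideal A := ∏ Q ∈ Ps.filter inT, Q
  have hBT : zeroLocus ((J₁ * B : Ideal A) : Set A) ⊆ T := by
    rw [zeroLocus_mul]
    refine Set.union_subset hJ₁T fun r hr => ?_
    obtain ⟨Q, hQ, hQr⟩ := (r.isPrime.prod_le).1 (show B ≤ r.asIdeal from hr)
    obtain ⟨-, hQp, hQT⟩ := Finset.mem_filter.1 hQ
    exact LC16.Algebraize.stable I J hT ((PrimeSpectrum.le_iff_specializes ⟨Q, hQp⟩ r).1 hQr) hQT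
  refine ⟨J₁ * B, Ideal.mul_le_left.trans hJ₁J, ?_, fun J' _ hJ hV i hi => ?_⟩
  · exact Set.Subset.antisymm (fun r hr => ⟨fun a ha => LC16.Algebraize.mem_J I J hT (hBT hr.1) hr.2 ha, hr.2⟩)
      (fun r hr => ⟨fun a ha => hr.1 (hJ₁J (Ideal.mul_le_left ha)), hr.2⟩)
  have hJ1 : J' ≤ J₁ := hJ.trans Ideal.mul_le_left
  -- the two powers
  have hrad : J' * I ≤ K.radical := by
    rw [← Ideal.sInf_minimalPrimes]
    refine le_sInf fun Q hQ => ?_
    rcases hK (show (⟨Q, hQ.1.1⟩ : PrimeSpectrum A) ∈ zeroLocus (K : Set A) from hQ.1.2) with h | h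
    · exact Ideal.mul_le_left.trans (hJ.trans (Ideal.mul_le_right.trans (Ideal.le_of_dvd
        (Finset.dvd_prod_of_mem _ (Finset.mem_filter.2 ⟨(Set.Finite.mem_toFinset _).2 hQ, ⟨hQ.1.1, h⟩⟩)))))
    · exact Ideal.mul_le_right.trans h
  obtain ⟨N₃, hN₃⟩ := Ideal.exists_pow_le_of_le_radical_of_fg hrad (IsNoetherian.noetherian _)
  obtain ⟨gs, hgs⟩ := DR40.exists_list_of_fg (IsNoetherian.noetherian J' : J'.FG)
  let X := LC16.CechTri.XC (ModuleCat.of A M) gs
  -- the killing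
  have hkU : ∀ l : ℤ, l ≤ s → ∀ a ∈ (J' * I) ^ N₂, ∀ x : Dual.HD A X l, a • x = 0 := fun l hl a ha x => by
    rcases lt_or_ge l 0 with hneg | hpos
    · haveI : Subsingleton (Dual.HD A X l) :=
        (DR39.isZero_HF_iff _ _).1 (LC16.ComplKill.isZero_HF_cech_neg _ gs l hneg)
      exact Subsingleton.elim _ _
    obtain ⟨j, rfl⟩ := Int.eq_ofNat_of_zero_le hpos
    obtain ⟨e⟩ := LC16.CechFam.nonempty_equiv gs j M
    let e' := (DR39.HQIso (DerCA.extCech (ModuleCat.of A M) gs) j).toLinearEquiv ≪≫ₗ e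
    have key : ∀ J'' : Ideal A, J'' = J' → ∀ y : LocCoh.H J'' j M, a • y = 0 := by
      rintro J'' rfl y
      obtain ⟨z, rfl⟩ := (hbij J'' hJ1 hV j (by exact_mod_cast hl)).2 y
      refine (map_smul ((Dual2.HmapOfLE hJ1 j).app (ModuleCat.of A M)).hom a z).symm.trans ?_
      rw [hk₂ a (Ideal.pow_right_mono (Ideal.mul_mono_left hJ1) _ ha) j (by exact_mod_cast hl) z]
      exact map_zero _
    exact e'.injective (by rw [map_smul, map_zero]; exact key _ hgs _)
  have hC : ∀ l : ℤ, l ≤ s → ∀ a ∈ K, ∀ g : LC16.CechTri.XC (ModuleCat.of A A) fs ⟶ X⟦l⟧, a • g = 0 :=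
    fun l hl a ha g => by
    let X' := LC16.CechTri.XC (ModuleCat.of A M) (fs ++ gs)
    obtain ⟨η, hη⟩ := LC16.ComplKill.exists_forget I (ModuleCat.of A M) gs fs
      (fun f hf => hfs ▸ Ideal.subset_span hf)
    obtain ⟨ec⟩ := LC16.ComplKill.nonempty_compl_iso I η hη
    obtain ⟨l₁⟩ := LC16.ComplKill.nonempty_HD_compl_equiv I fs hfs X' l
    obtain ⟨l₂⟩ := LC16.ComplKill.nonempty_HD_compl_equiv I fs hfs X l
    let Φ := l₂.symm ≪≫ₗ ((DR39.HF A l).mapIso ec).symm.toLinearEquiv ≪≫ₗ l₁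
    obtain ⟨b₁⟩ := LC16.CechTri.nonempty_cech_gCx (ModuleCat.of A M) (fs ++ gs) hE eE
    have hspan : Ideal.span {x | x ∈ fs ++ gs} = J' ⊔ I := by
      rw [show {x | x ∈ fs ++ gs} = {x | x ∈ fs} ∪ {x | x ∈ gs} from by ext; simp, Ideal.span_union,
        hfs, hgs, sup_comm]
    have hle : Ideal.span {x | x ∈ fs ++ gs} ≤ W := hspan ▸ sup_le_sup_right (hJ1.trans hJ₁J) I
    have hWrad : W ≤ (Ideal.span {x | x ∈ fs ++ gs}).radical := by
      rw [hspan, Ideal.radical_eq_sInf]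
      refine le_sInf fun Q ⟨hQ, hQp⟩ => sup_le ?_ (le_sup_right.trans hQ)
      have : (⟨Q, hQp⟩ : PrimeSpectrum A) ∈ zeroLocus (J' : Set A) ∩ zeroLocus (I : Set A) :=
        ⟨le_sup_left.trans hQ, le_sup_right.trans hQ⟩
      rw [hV] at this
      exact this.1
    obtain ⟨k, hk⟩ := Ideal.exists_pow_le_of_le_radical_of_fg hWrad (IsNoetherian.noetherian _)
    let eY : X' ≅ LC16.GammaModel.gX W E := b₁ ≪≫ (DR39.QA A).mapIso
      (LC16.CechRgamma.gIso (fun N x => LC16.CechRgamma.torsion_iff hle hk N x) E).symm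
    refine Φ.injective ?_
    rw [map_smul, map_zero]
    have h := hkK l hl a ha (Φ g ≫ eY.hom⟦l⟧')
    rw [← Linear.smul_comp] at h
    exact (cancel_mono ((shiftFunctor (Dual.D A) l).mapIso eY).hom).1 (h.trans (Limits.zero_comp).symm)
  have hkill : LC16.HomGood.Kills ε ((Ideal.span {x | x ∈ gs} * I) ^ (N₂ + N₃)) X
      (((s + d + 1 : ℕ) : ℤ) - d - 1) := by
    intro l hl a ha
    rw [hgs] at ha
    exact ⟨fun g => LC16.CompletionBij.smul_hom_eq_zero X l a
        (hkU l (by omega) a (Ideal.pow_le_pow_right (by omega) ha)) g,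
      fun g => hC l (by omega) a (hN₃ (Ideal.pow_le_pow_right (by omega) ha)) g⟩
  have hgood := LC16.CechBoot.good_of_kills I hε gs (d := d) (by omega)
    (LC16.ComplKill.isZero_HF_cech_of_cd I fs hfs h3) (s + d + 1) M (N₂ + N₃) hkill
  obtain ⟨eX⟩ := LC16.CechRgamma.nonempty_cech_Rgamma J' gs hgs.le (k := 1) (by rw [pow_one, hgs])
    (ModuleCat.of A M)
  exact LC16.CompletionBij.bijective_of_good I fs hfs hε _ (hgood.of_iso eX) i (by push_cast; omega)


end Groth.Agent.S8808
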