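import Groth.Statements.S8821
import Groth.Agent.Formal27.SmulMod

set_option autoImplicit false
universe u
open CategoryTheory AlgebraicGeometry
open Formal2

namespace Groth.Agent.S8821
open CategoryTheory CategoryTheory.Limits

/-- Implication (4) ⇒ (2), for an O_X-module over a base ring A and f ∈ A. Let X be a scheme over Spec
A, f ∈ A and F an O_X-module on which multiplication by f is a monomorphism. Then for every n ≥ 1
there is a monomorphism i : F/fF → F/f^{n+1}F through which multiplication by f^n on F/f^{n+1}F
factors (projection to F/fF followed by i), and F/fF → F/f^{n+1}F → F/f^nF, with second map the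
transition map, is a short exact sequence. (Stated for schemes; the published statement is for
ringed spaces.) -/
theorem result (A : Type u) [CommRing A] (X : Scheme.{u}) [X.Over (Spec (CommRingCat.of A))] (f : A) (F : X.Modules) (hF : Mono (Formal.smulMod A F f)) (n : ℕ) (hn : 1 ≤ n) : ∃ i : Formal.modPow (Ideal.span ({f} : Set A)) 1 F ⟶ Formal.modPow (Ideal.span ({f} : Set A)) (n + 1) F, Mono i ∧ Formal2.modPowLE (Ideal.span ({f} : Set A)) (Nat.le_add_left 1 n) F ≫ i = Formal.smulMod A (Formal.modPow (Ideal.span ({f} : Set A)) (n + 1) F) (f ^ n) ∧ ∃ w : i ≫ Formal.modPowTrans (Ideal.span ({f} : Set A)) n F = 0, (ShortComplex.mk i (Formal.modPowTrans (Ideal.span ({f} : Set A)) n F) w).ShortExact := by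
  let I : Ideal A := Ideal.span {f}
  have hfn : ∀ k, Mono (Formal.smulMod A F (f ^ k)) := by
    intro k
    induction k with
    | zero => rw [pow_zero, Formal27.smulMod_one]; infer_instance
    | succ k ih => rw [pow_succ, Formal27.smulMod_mul]; exact mono_comp _ _
  refine ⟨Formal27.mulPowMap f F n, ?_, ?_, ?_, ?_⟩
  · refine Preadditive.mono_of_cancel_zero _ fun {T} x hx => ?_
    obtain ⟨T', π, _, y, hy⟩ := surjective_up_to_refinements_of_epi (Formal.modPowπ I 1 F) x
    have h0 : (y ≫ Formal.smulMod A F (f ^ n)) ≫ Formal.modPowπ I (n + 1) F = 0 := by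
      rw [Category.assoc, ← Formal27.π_mulPowMap, ← Category.assoc, ← hy, Category.assoc, hx, comp_zero]
    obtain ⟨T'', π', _, z, hz⟩ := (Formal27.exact_modPow f F (n + 1)).exact_up_to_refinements _ h0
    dsimp only at z hz
    have h1 : π' ≫ y = z ≫ Formal.smulMod A F f := by
      rw [← cancel_mono (Formal.smulMod A F (f ^ n)), Category.assoc, hz, Category.assoc,
        ← Formal27.smulMod_mul, pow_succ]
    rw [← cancel_epi (π' ≫ π), comp_zero, Category.assoc, hy, ← Category.assoc, h1, Category.assoc]
    have := Formal27.smulMod_pow_modPowπ f F 1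
    rw [pow_one] at this
    rw [this, comp_zero]
  · rw [← cancel_epi (Formal.modPowπ I (n + 1) F), ← Category.assoc, Formal2.modPowπ_modPowLE,
      Formal27.π_mulPowMap, Formal27.smulMod_comp]
  · rw [← cancel_epi (Formal.modPowπ I 1 F), Formal27.π_mulPowMap_assoc, Formal.modPowπ_trans, comp_zero]
    exact Formal27.smulMod_pow_modPowπ f F n
  · refine { exact := ?_, mono_f := ?_, epi_g := ?_ }
    · rw [ShortComplex.exact_iff_exact_up_to_refinements]
      intro T x hx
      obtain ⟨T', π, _, y, hy⟩ := surjective_up_to_refinements_of_epi (Formal.modPowπ I (n + 1) F) x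
      have h0 : y ≫ Formal.modPowπ I n F = 0 := by
        rw [← Formal.modPowπ_trans I n F, ← Category.assoc, ← hy, Category.assoc, hx, comp_zero]
      obtain ⟨T'', π', _, z, hz⟩ := (Formal27.exact_modPow f F n).exact_up_to_refinements _ h0
      refine ⟨T'', π' ≫ π, inferInstance, z ≫ Formal.modPowπ I 1 F, ?_⟩
      dsimp only at hz ⊢
      rw [Category.assoc, Category.assoc, hy, Formal27.π_mulPowMap, ← Category.assoc, hz, Category.assoc]
    · refine Preadditive.mono_of_cancel_zero _ fun {T} x hx => ?_
      dsimp only at x hx ⊢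
      obtain ⟨T', π, _, y, hy⟩ := surjective_up_to_refinements_of_epi (Formal.modPowπ I 1 F) x
      have h0 : (y ≫ Formal.smulMod A F (f ^ n)) ≫ Formal.modPowπ I (n + 1) F = 0 := by
        rw [Category.assoc, ← Formal27.π_mulPowMap, ← Category.assoc, ← hy, Category.assoc, hx, comp_zero]
      obtain ⟨T'', π', _, z, hz⟩ := (Formal27.exact_modPow f F (n + 1)).exact_up_to_refinements _ h0
      dsimp only at z hz
      have h1 : π' ≫ y = z ≫ Formal.smulMod A F f := by
        rw [← cancel_mono (Formal.smulMod A F (f ^ n)), Category.assoc, hz, Category.assoc,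
          ← Formal27.smulMod_mul, pow_succ]
      rw [← cancel_epi (π' ≫ π), comp_zero, Category.assoc, hy, ← Category.assoc, h1, Category.assoc]
      have := Formal27.smulMod_pow_modPowπ f F 1
      rw [pow_one] at this
      rw [this, comp_zero]
    · exact epi_of_epi_fac (Formal.modPowπ_trans I n F)

end Groth.Agent.S8821
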