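import Groth.Statements.S8823
import Groth.Agent.CAlg1.Pop.EtaleSol
import Groth.Agent.EGA4H10.FTGRingDescent

set_option autoImplicit false
universe u
open AdicRing

namespace Groth.Agent.S8823

/-- Let A be a Noetherian G-ring and I an ideal of A. Let B and C be A-algebras of finite type, φ an
A-algebra map from the IB-adic completion of B to the IC-adic completion of C, and N ≥ 1. Then one
can find an etale C-algebra C' for which the induced map C/IC → C'/IC' is a bijection, together with
a homomorphism of A-algebras ψ : B → C' that approximates φ to order N: given any b ∈ B, some c ∈ C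
satisfies ψ(b) − c ∈ I^N C', while the image of φ(b) in C/I^N C (the N-th truncation of the
completion) coincides with the class of c. -/
theorem result (A : Type u) [CommRing A] (hA : CAlg.IsGRing A) (I : Ideal A) (B C : Type u) [CommRing B] [Algebra A B] [Algebra.FiniteType A B] [CommRing C] [Algebra A C] [Algebra.FiniteType A C] (φ : (AdicCompletion (I.map (algebraMap A B)) B) →ₐ[A] (AdicCompletion (I.map (algebraMap A C)) C)) (N : ℕ) (hN : 1 ≤ N) : ∃ (C' : Type u) (_ : CommRing C') (_ : Algebra C C') (_ : Algebra A C') (_ : IsScalarTower A C C') (_ : Algebra.Etale C C') (ψ : B →ₐ[A] C'), ((∀ c' : C', ∃ c : C, algebraMap C C' c - c' ∈ I.map (algebraMap A C')) ∧ ∀ c : C, algebraMap C C' c ∈ I.map (algebraMap A C') → c ∈ I.map (algebraMap A C)) ∧ ∀ b : B, ∃ c : C, ψ b - algebraMap C C' c ∈ (I.map (algebraMap A C')) ^ N ∧ AdicCompletion.eval (I.map (algebraMap A C)) C N (φ (AdicCompletion.of (I.map (algebraMap A B)) B b)) = Submodule.Quotient.mk c := by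
  classical
  haveI := hA.1
  haveI : IsNoetherianRing C := Algebra.FiniteType.isNoetherianRing A C
  have hC : CAlg.IsGRing C := EGA4H10.isGRing_of_finiteType_gRing A hA C
  let J₀ : Ideal C := I.map (algebraMap A C)
  have hJ₀ : J₀ = I.map (algebraMap A C) := rfl
  let Λ := AdicCompletion J₀ C
  haveI : IsNoetherianRing Λ := CAlg1.isNoetherianRing_adicCompletion J₀ (IsNoetherian.noetherian _)
  have hpt : Smoothing.IndSmooth C Λ :=
    CAlg1.Pop.popescu C Λ (CAlg1.Andre.isRegularHom_adicCompletion C hC J₀)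
  obtain ⟨n, f, hf⟩ := Algebra.FiniteType.iff_quotient_mvPolynomial''.1 (inferInstance : Algebra.FiniteType A B)
  obtain ⟨m, F, hF⟩ := Submodule.fg_iff_exists_fin_generating_family.1
    (IsNoetherian.noetherian (RingHom.ker f.toRingHom))
  let φ₀ : B →ₐ[A] Λ := φ.comp (IsScalarTower.toAlgHom A B (AdicCompletion (I.map (algebraMap A B)) B))
  let a : Fin n → Λ := fun i => φ₀ (f (MvPolynomial.X i))
  have haev : (MvPolynomial.aeval a : MvPolynomial (Fin n) A →ₐ[A] Λ) = φ₀.comp f :=
    MvPolynomial.algHom_ext fun i => MvPolynomial.aeval_X (R := A) a i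
  have hFker : ∀ j, f (F j) = 0 := fun j => by
    have : F j ∈ RingHom.ker f.toRingHom := hF ▸ Submodule.subset_span ⟨j, rfl⟩
    exact this
  obtain ⟨D, _, _, hD, h, b, hb, hha⟩ := CAlg1.Pop.exists_smooth_solution hpt
    (fun j => MvPolynomial.map (algebraMap A C) (F j)) a fun j => by
      rw [MvPolynomial.aeval_map_algebraMap, haev, AlgHom.comp_apply, hFker, map_zero]
  haveI := hD
  let J : Ideal C := J₀ ^ N
  let σ : D →ₐ[C] C ⧸ J := (AdicCompletion.evalₐ J₀ N).comp h
  obtain ⟨C', _, _, het, hbij, τ, hτ⟩ := CAlg1.exists_etale_lift_section J σ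
  letI : Algebra A C' := ((algebraMap C C').comp (algebraMap A C)).toAlgebra
  haveI : IsScalarTower A C C' := IsScalarTower.of_algebraMap_eq fun _ => rfl
  have hmap : I.map (algebraMap A C') = J₀.map (algebraMap C C') := by
    rw [hJ₀, Ideal.map_map]; rfl
  have hmapN : (I.map (algebraMap A C')) ^ N = J.map (algebraMap C C') := by
    rw [hmap, ← Ideal.map_pow]
  let g : MvPolynomial (Fin n) A →ₐ[A] C' := MvPolynomial.aeval fun i => τ (b i)
  have hg : ∀ p, g p = τ (MvPolynomial.aeval b (MvPolynomial.map (algebraMap A C) p)) := fun p => by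
    have h1 := MvPolynomial.comp_aeval_apply (R := C) b τ (MvPolynomial.map (algebraMap A C) p)
    rw [h1, MvPolynomial.aeval_map_algebraMap]
  have hker : ∀ p ∈ RingHom.ker f.toRingHom, g p = 0 := by
    intro p hp
    have hle : RingHom.ker f.toRingHom ≤ RingHom.ker g.toRingHom := by
      rw [← hF]
      refine Submodule.span_le.2 ?_
      rintro _ ⟨j, rfl⟩
      show g (F j) = 0
      rw [hg, hb, map_zero]
    exact hle hp
  let ψ : B →ₐ[A] C' := (Ideal.Quotient.liftₐ (RingHom.ker f.toRingHom) g hker).comp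
    (Ideal.quotientKerAlgEquivOfSurjective hf).symm.toAlgHom
  have hψ : ∀ p, ψ (f p) = g p := fun p => by
    have e : (Ideal.quotientKerAlgEquivOfSurjective hf).symm (f p) = Ideal.Quotient.mk _ p :=
      (AlgEquiv.symm_apply_eq _).2 rfl
    show Ideal.Quotient.liftₐ _ g hker ((Ideal.quotientKerAlgEquivOfSurjective hf).symm (f p)) = _
    rw [e]; rfl
  have hJle : J ≤ J₀ := Ideal.pow_le_self (by omega)
  refine ⟨C', inferInstance, inferInstance, inferInstance, inferInstance, het, ψ, ⟨fun c' => ?_, fun c hc => ?_⟩,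
    fun b₀ => ?_⟩
  · obtain ⟨z, hz⟩ := hbij.2 (Ideal.Quotient.mk _ c')
    obtain ⟨c, rfl⟩ := Ideal.Quotient.mk_surjective z
    refine ⟨c, ?_⟩
    rw [hmap]
    exact Ideal.map_mono hJle (Ideal.Quotient.eq.1 hz)
  · let e : (C ⧸ J) ≃ₐ[C] (C' ⧸ J.map (algebraMap C C')) :=
      AlgEquiv.ofBijective (IsScalarTower.toAlgHom C (C ⧸ J) (C' ⧸ J.map (algebraMap C C'))) hbij
    let π : C' →ₐ[C] C ⧸ J₀ :=
      (Ideal.Quotient.factorₐ C hJle).comp
        (e.symm.toAlgHom.comp (Ideal.Quotient.mkₐ C (J.map (algebraMap C C'))))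
    rw [hmap] at hc
    have h1 := CAlg1.map_le_ker J₀ π hc
    rw [RingHom.mem_ker] at h1
    exact Ideal.Quotient.eq_zero_iff_mem.1 ((π.commutes c).symm.trans h1)
  · obtain ⟨p, rfl⟩ := hf b₀
    have hy : φ (AdicCompletion.of (I.map (algebraMap A B)) B (f p)) =
        h (MvPolynomial.aeval b (MvPolynomial.map (algebraMap A C) p)) := by
      have h1 := MvPolynomial.comp_aeval_apply (R := C) b h (MvPolynomial.map (algebraMap A C) p)
      rw [h1, show (fun i => h (b i)) = a from funext hha, MvPolynomial.aeval_map_algebraMap, haev]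
      rfl
    obtain ⟨c, hc⟩ := Submodule.Quotient.mk_surjective _
      (AdicCompletion.eval J₀ C N (φ (AdicCompletion.of (I.map (algebraMap A B)) B (f p))))
    refine ⟨c, ?_, hc.symm⟩
    rw [hmapN, hψ, hg, ← Ideal.Quotient.eq, hτ]
    have hσ : σ (MvPolynomial.aeval b (MvPolynomial.map (algebraMap A C) p)) = Ideal.Quotient.mk J c := by
      show AdicCompletion.evalₐ J₀ N (h _) = _
      rw [← hy]
      simp only [AdicCompletion.evalₐ, AlgHom.coe_comp, Function.comp_apply, AlgHom.ofLinearMap_apply,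
        ← hc]
      rfl
    rw [hσ]
    rfl

end Groth.Agent.S8823
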