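import Groth.Statements.S8825
import Groth.Agent.Frg27.RigFibre
import Groth.Agent.EGA4H10.CompleteNagata

set_option autoImplicit false
universe u
open AdicRing

namespace Groth.Agent.S8825

/-- Let A be a Noetherian ring which is complete for the adic topology of an ideal I, let p be a
rig-closed prime of A (I ⊄ p and p is maximal among the primes not containing I), and let n ≥ 1.
Then the ring map from A/p to the restricted power series ring (A/p){x_1, …, x_n}, i.e. the I-adic
completion of the polynomial ring (A/p)[x_1, …, x_n], is a regular ring map (flat, with Noetherian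
and geometrically regular fibres). (The consequence for the fibre over the fraction field is not
stated.) -/
theorem result (A : Type u) [CommRing A] [IsNoetherianRing A] (I : Ideal A) [IsAdicComplete I A] (p : PrimeSpectrum A) (hp : ¬ I ≤ p.asIdeal ∧ ∀ q : PrimeSpectrum A, p ≤ q → ¬ I ≤ q.asIdeal → q = p) (n : ℕ) (hn : 1 ≤ n) : CAlg.IsRegularHom (A ⧸ p.asIdeal) (AdicCompletion (I.map (algebraMap A (MvPolynomial (Fin n) (A ⧸ p.asIdeal)))) (MvPolynomial (Fin n) (A ⧸ p.asIdeal))) := by
  have hp' : Frg27.IsRig I p := hp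
  obtain ⟨hloc, hmax, hcomp⟩ := hp'.local_data
  haveI := hloc
  haveI := hp'.krullDimLE_one
  haveI hc : IsAdicComplete (IsLocalRing.maximalIdeal (A ⧸ p.asIdeal)) (A ⧸ p.asIdeal) := by
    rw [hmax _ (IsLocalRing.maximalIdeal.isMaximal _)]
    exact hcomp
  have hN2 : CAlg.IsN2 (A ⧸ p.asIdeal) := EGA4H10.isN2_of_complete _
  have e : I.map (algebraMap A (MvPolynomial (Fin n) (A ⧸ p.asIdeal))) =
      (I.map (algebraMap A (A ⧸ p.asIdeal))).map
        (algebraMap (A ⧸ p.asIdeal) (MvPolynomial (Fin n) (A ⧸ p.asIdeal))) :=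
    Frg27.map_eq_of_tower.symm
  rw [e]
  exact Frg27.isRegularHom_compl_mvPolynomial hN2 _ (Fin n)

end Groth.Agent.S8825
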