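import Groth.Statements.S8826
import Groth.Agent.Elkik27.Data
import Groth.Agent.S1994
import Groth.Agent.Hens22.PairHens
import Mathlib.RingTheory.FiniteType
import Mathlib.RingTheory.AdicCompletion.Algebra
import Mathlib.RingTheory.Polynomial.Basic

set_option autoImplicit false
universe u
open AdicRing

namespace Groth.Agent.S8826
theorem eval_eq_mk_iff {R : Type u} [CommRing R] (J : Ideal R) (k : ℕ) (x : AdicCompletion J R) (c : R) :
    AdicCompletion.eval J R k x = Submodule.Quotient.mk c ↔
      AdicCompletion.evalₐ J k x = Ideal.Quotient.mk (J ^ k) c :=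
  ((Ideal.quotientEquivAlgOfEq R (show (J ^ k • ⊤ : Ideal R) = J ^ k by ext; simp)).injective.eq_iff
    (a := AdicCompletion.eval J R k x) (b := Submodule.Quotient.mk c)).symm



/-- Let A be a Noetherian ring and I an ideal. Let B be an A-algebra of finite type such that Spec B →
Spec A is etale over the complement of V(I) (B_a etale over A for every a ∈ I), let C be a
Noetherian A-algebra with a henselization Cʰ of the pair (C, IC), and let φ be an A-algebra map from
the IB-adic completion of B to the IC-adic completion of C. Then there is exactly one A-algebra map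
ψ : B → Cʰ which induces φ on completions, in the sense that for every n and every b ∈ B there is c
∈ C with ψ(b) − c ∈ I^n Cʰ and with the n-th truncation of φ(b) in C/I^n C equal to the class of c
(recall C/I^n C = Cʰ/I^n Cʰ). (The second assertion, that such maps factor through an etale
neighbourhood, is not stated.) -/
theorem result (A : Type u) [CommRing A] [IsNoetherianRing A] (I : Ideal A) (B : Type u) [CommRing B] [Algebra A B] [Algebra.FiniteType A B] (hB : ∀ a ∈ I, Algebra.Etale A (Localization.Away (algebraMap A B a))) (C : Type u) [CommRing C] [Algebra A C] [IsNoetherianRing C] (Ch : Type u) [CommRing Ch] [Algebra C Ch] [Algebra A Ch] [IsScalarTower A C Ch] (hCh : Hens2.IsPairHenselization C (I.map (algebraMap A C)) Ch) (φ : (AdicCompletion (I.map (algebraMap A B)) B) →ₐ[A] (AdicCompletion (I.map (algebraMap A C)) C)) : ∃! ψ : B →ₐ[A] Ch, ∀ (n : ℕ) (b : B), ∃ c : C, ψ b - algebraMap C Ch c ∈ (I.map (algebraMap A Ch)) ^ n ∧ AdicCompletion.eval (I.map (algebraMap A C)) C n (φ (AdicCompletion.of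 (I.map (algebraMap A B)) B b)) = Submodule.Quotient.mk c := by
  classical
  haveI : IsNoetherianRing Ch := (S1994.result C _ Ch hCh).1
  have hR : (I.map (algebraMap A C)).map (algebraMap C Ch) = I.map (algebraMap A Ch) := by
    rw [Ideal.map_map, ← IsScalarTower.algebraMap_eq]
  haveI hhens : HenselianRing Ch (I.map (algebraMap A Ch)) := hR ▸ hCh.1
  obtain ⟨p, π, hπ⟩ := Algebra.FiniteType.iff_quotient_mvPolynomial''.mp ‹Algebra.FiniteType A B›
  obtain ⟨m, f, hf⟩ := Submodule.fg_iff_exists_fin_generating_family.mp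
    (IsNoetherian.noetherian (RingHom.ker π))
  have hker : RingHom.ker π = Ideal.span (Set.range f) := hf.symm
  have hdat : ∀ a ∈ I, Nonempty (Elkik27.Datum f a) := fun a ha => by
    haveI := hB a ha
    exact Elkik27.nonempty_datum π hπ hker a
  obtain ⟨s, hs⟩ := (IsNoetherian.noetherian I : I.FG)
  have hIl : Ideal.span {z : A | z ∈ s.toList} = I := by
    simpa using hs
  -- the truncations
  let Φ : ∀ k, B →ₐ[A] C ⧸ (I.map (algebraMap A C)) ^ k := fun k =>
    (((AdicCompletion.evalₐ (I.map (algebraMap A C)) k).restrictScalars A).comp φ).comp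
      (IsScalarTower.toAlgHom A B (AdicCompletion (I.map (algebraMap A B)) B))
  have hΦeval : ∀ (k : ℕ) (b : B) (c : C), AdicCompletion.eval (I.map (algebraMap A C)) C k
      (φ (AdicCompletion.of (I.map (algebraMap A B)) B b)) = Submodule.Quotient.mk c ↔
      Φ k b = Ideal.Quotient.mk _ c := by
    intro k b c
    exact eval_eq_mk_iff _ k _ c
  have hcompat : ∀ {k l : ℕ} (hkl : k ≤ l) (b : B) (c : C),
      Φ l b = Ideal.Quotient.mk _ c → Φ k b = Ideal.Quotient.mk _ c := by
    intro k l hkl b c h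
    rw [← hΦeval] at h ⊢
    exact ((φ (AdicCompletion.of (I.map (algebraMap A B)) B b)).2 hkl).symm.trans ((congrArg _ h).trans rfl)
  choose c hc using fun (k : ℕ) (l : Fin p) => Ideal.Quotient.mk_surjective (Φ k (π (MvPolynomial.X l)))
  have hcp : ∀ k P, Φ k (π P) = Ideal.Quotient.mk _ (MvPolynomial.aeval (c k) P) := fun k P =>
    AlgHom.congr_fun (MvPolynomial.algHom_ext (f := (Φ k).comp π)
      (g := (Ideal.Quotient.mkₐ A _).comp (MvPolynomial.aeval (c k))) fun l => by
        change Φ k (π (MvPolynomial.X l)) = Ideal.Quotient.mk _ (MvPolynomial.aeval (c k) (MvPolynomial.X l))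
        rw [MvPolynomial.aeval_X, hc]) P
  have hpow : ∀ (k : ℕ), ((I.map (algebraMap A C)) ^ k).map (algebraMap C Ch) = (I.map (algebraMap A Ch)) ^ k :=
    fun k => by rw [Ideal.map_pow, hR]
  have hmapev : ∀ (x : Fin p → C) (P : MvPolynomial (Fin p) A),
      algebraMap C Ch (MvPolynomial.aeval x P) = MvPolynomial.aeval (fun l => algebraMap C Ch (x l)) P :=
    fun x P => MvPolynomial.comp_aeval_apply x (IsScalarTower.toAlgHom A C Ch) P
  -- exact solutions near each truncation
  have hsol : ∀ k, ∃ x : Fin p → Ch, (∀ j, MvPolynomial.aeval x (f j) = 0) ∧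
      ∀ l, x l - algebraMap C Ch (c k l) ∈ (I.map (algebraMap A Ch)) ^ k := by
    intro k
    obtain ⟨q, hkq, hq⟩ := Elkik27.exists_solution (f := f) s.toList
      (fun a ha => hdat a (hs ▸ Ideal.subset_span (Finset.mem_toList.mp ha))) Ch (by rw [hIl]; exact hhens) k
    rw [hIl] at hq
    obtain ⟨x, hx, hxc⟩ := hq (fun l => algebraMap C Ch (c q l)) fun j => by
      rw [← hmapev, ← hpow]
      refine Ideal.mem_map_of_mem _ (Ideal.Quotient.eq_zero_iff_mem.mp ?_)
      rw [← hcp, RingHom.mem_ker.mp (hker.ge (Ideal.subset_span ⟨j, rfl⟩)), map_zero]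
    refine ⟨x, hx, fun l => ?_⟩
    rw [← sub_add_sub_cancel (x l) (algebraMap C Ch (c q l)) (algebraMap C Ch (c k l))]
    refine add_mem (hxc l) ?_
    rw [← map_sub, ← hpow]
    refine Ideal.mem_map_of_mem _ (Ideal.Quotient.eq.mp ?_)
    exact (hcompat hkq _ _ (hc q l).symm).symm.trans (hc k l).symm
  choose x hx hxc using hsol
  obtain ⟨k₀, hk₀⟩ := Elkik27.eq_of_solutions_close (f := f) I (IsNoetherian.noetherian I)
    (I.map (algebraMap A Ch)) rfl HenselianRing.jac hdat
  have hstable : ∀ k, k₀ ≤ k → x k = x k₀ := by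
    intro k hk
    refine (hk₀ (x k₀) (x k) (hx k₀) (hx k) fun l => ?_).symm
    rw [show x k l - x k₀ l = (x k l - algebraMap C Ch (c k l)) +
      (algebraMap C Ch (c k l - c k₀ l)) - (x k₀ l - algebraMap C Ch (c k₀ l)) by rw [map_sub]; ring]
    refine sub_mem (add_mem (Ideal.pow_le_pow_right hk (hxc k l)) ?_) (hxc k₀ l)
    rw [← hpow]
    refine Ideal.mem_map_of_mem _ (Ideal.Quotient.eq.mp ?_)
    exact (hcompat hk _ _ (hc k l).symm).symm.trans (hc k₀ l).symm
  obtain ⟨ψ, hψ⟩ := Elkik27.exists_lift_of_surjective π hπ hker (MvPolynomial.aeval (x k₀)) (hx k₀)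
  refine ⟨ψ, fun k b => ?_, fun ψ' hψ' => AlgHom.ext fun b => ?_⟩
  · obtain ⟨P, rfl⟩ := hπ b
    refine ⟨MvPolynomial.aeval (c (max k k₀)) P, ?_, ?_⟩
    · rw [hψ, hmapev, ← hstable _ (le_max_right k k₀)]
      exact Ideal.pow_le_pow_right (le_max_left k k₀) (Elkik27.aeval_sub_mem (hxc _) P)
    · rw [hΦeval]
      exact hcompat (le_max_left k k₀) _ _ (hcp _ P)
  · refine sub_eq_zero.mp ((Submodule.mem_bot Ch).mp
      ((Ideal.iInf_pow_smul_eq_bot_of_le_jacobson (M := Ch) (I.map (algebraMap A Ch)) HenselianRing.jac).le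
        ((Submodule.mem_iInf _).mpr fun k => ?_)))
    rw [smul_eq_mul, Ideal.mul_top]
    obtain ⟨c₁, h₁, h₁'⟩ := hψ' k b
    obtain ⟨P, rfl⟩ := hπ b
    have h₂ : ψ (π P) - algebraMap C Ch (MvPolynomial.aeval (c (max k k₀)) P) ∈ (I.map (algebraMap A Ch)) ^ k := by
      rw [hψ, hmapev, ← hstable _ (le_max_right k k₀)]
      exact Ideal.pow_le_pow_right (le_max_left k k₀) (Elkik27.aeval_sub_mem (hxc _) P)
    have h₃ : algebraMap C Ch (c₁ - MvPolynomial.aeval (c (max k k₀)) P) ∈ (I.map (algebraMap A Ch)) ^ k := by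
      rw [← hpow]
      refine Ideal.mem_map_of_mem _ (Ideal.Quotient.eq.mp ?_)
      exact ((hΦeval _ _ _).mp h₁').symm.trans (hcompat (le_max_left k k₀) _ _ (hcp _ P))
    have := sub_mem (add_mem h₁ h₃) h₂
    rw [map_sub] at this
    simpa using this

end Groth.Agent.S8826
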