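import Groth.Statements.S8831
import Groth.Agent.S8832
import Groth.Agent.Crv77.HH

set_option autoImplicit false
universe u
open CategoryTheory AlgebraicGeometry Opposite
open LocCoh

namespace Groth.Agent.S8831

/-- Let (A, m) be a Noetherian local ring and U = Spec A ∖ {m} the punctured spectrum. Suppose we are
given a system (F_n), indexed inversely by n, of coherent modules on U. In each positive degree i,
the cohomology groups H^i(U, F_n) then form a Mittag-Leffler system; concretely, given any n one can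
find r ≥ n such that for all s ≥ r the image of H^i(U, F_s) → H^i(U, F_n) equals the image of H^i(U,
F_r) → H^i(U, F_n). -/
theorem result (A : Type u) [CommRing A] [IsNoetherianRing A] [IsLocalRing A] (G : ℕᵒᵖ ⥤ (↑(LocCoh.puncturedOpen A (IsLocalRing.maximalIdeal A)) : Scheme.{u}).Modules) (hG : ∀ n : ℕᵒᵖ, Coh.IsCoh (G.obj n)) (i : ℕ) (hi : 0 < i) (n : ℕ) : ∃ (r : ℕ) (hnr : n ≤ r), ∀ (s : ℕ) (hrs : r ≤ s), Set.range (Sheaf.H.map ((SheafOfModules.toSheaf _).map (G.map (homOfLE (hnr.trans hrs : n ≤ s)).op)) i) = Set.range (Sheaf.H.map ((SheafOfModules.toSheaf _).map (G.map (homOfLE (hnr : n ≤ r)).op)) i) := by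
  let U : Scheme.{u} := ↑(LocCoh.puncturedOpen A (IsLocalRing.maximalIdeal A))
  let φ : ∀ (s : ℕ), n ≤ s → (Coh.HH U (G.obj (Opposite.op s)) i →ₗ[A]
      Coh.HH U (G.obj (Opposite.op n)) i) := fun s h => Groth.Agent.Crv77.hmap A (G.map (homOfLE h).op) i
  haveI : IsArtinian A (Coh.HH U (G.obj (Opposite.op n)) i) :=
    Groth.Agent.S8832.result A (G.obj (Opposite.op n)) (hG _) i hi
  let c : ℕ →o (Submodule A (Coh.HH U (G.obj (Opposite.op n)) i))ᵒᵈ :=
    { toFun := fun k => OrderDual.toDual (LinearMap.range (φ (n + k) (by omega)))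
      monotone' := fun k l hkl => by
        show LinearMap.range (φ (n + l) (by omega)) ≤ LinearMap.range (φ (n + k) (by omega))
        rintro _ ⟨x, rfl⟩
        refine ⟨Groth.Agent.Crv77.hmap A (G.map (homOfLE (show n + k ≤ n + l by omega)).op) i x, ?_⟩
        refine (Groth.Agent.Crv77.hmap_comp A _ _ i x).trans ?_
        exact congrArg (fun f => Groth.Agent.Crv77.hmap A f i x)
          ((G.map_comp _ _).symm.trans (congrArg G.map (Subsingleton.elim _ _))) }
  obtain ⟨k, hk⟩ := IsArtinian.monotone_stabilizes c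
  refine ⟨n + k, by omega, fun s hrs => ?_⟩
  obtain ⟨l, rfl⟩ : ∃ l, s = n + l := ⟨s - n, by omega⟩
  exact congrArg (fun S : (Submodule A (Coh.HH U (G.obj (Opposite.op n)) i))ᵒᵈ =>
    SetLike.coe (OrderDual.ofDual S)) (hk l (by omega)).symm

end Groth.Agent.S8831
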