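import Groth.Statements.S8834
import Mathlib.RingTheory.FiniteType
import Mathlib.RingTheory.Ideal.Operations
import Mathlib.RingTheory.Finiteness.Ideal

set_option autoImplicit false
universe u
open AdicRing

namespace Groth.Agent.S8834

/-- Let A be a Noetherian ring complete for the adic topology of an ideal I and B a Noetherian ring
complete for the adic topology of an ideal J, with an algebra map A → B sending I into the radical
of J (a continuous homomorphism of adic Noetherian topological rings; the radicals of I and J are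
the ideals of topologically nilpotent elements). Assume B/√J is of finite type over A, equivalently
over A/√I. Then B is topologically of finite type over A: there are b_1, …, b_s ∈ B such that the
A-algebra map A[x_1, …, x_s] → B with x_i ↦ b_i has dense image for the J-adic topology, that is,
for every y ∈ B and every n there is a polynomial whose value at b differs from y by an element of
J^n. -/
theorem result (A : Type u) [CommRing A] [IsNoetherianRing A] (I : Ideal A) [IsAdicComplete I A] (B : Type u) [CommRing B] [Algebra A B] [IsNoetherianRing B] (J : Ideal B) [IsAdicComplete J B] (hIJ : I.map (algebraMap A B) ≤ J.radical) (hft : Algebra.FiniteType A (B ⧸ J.radical)) : ∃ s : ℕ, ∃ b : Fin s → B, ∀ (y : B) (n : ℕ), ∃ p : MvPolynomial (Fin s) A, y - MvPolynomial.aeval b p ∈ J ^ n := by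
  classical
  obtain ⟨t, ht⟩ := hft.out
  obtain ⟨c, hc⟩ := IsNoetherian.noetherian J.radical
  choose e he using fun x : B ⧸ J.radical => Ideal.Quotient.mk_surjective x
  set G : Finset B := t.image e ∪ c with hG
  refine ⟨G.card, fun i => (G.equivFin.symm i).1, fun y n => ?_⟩
  set φ := MvPolynomial.aeval (R := A) fun i => (G.equivFin.symm i : B)
  have hmem : ∀ x ∈ G, x ∈ φ.range := fun x hx =>
    ⟨MvPolynomial.X (G.equivFin ⟨x, hx⟩), by simp [φ]⟩
  have h1 : ∀ z, ∃ s ∈ φ.range, z - s ∈ J.radical := by
    intro z
    have hz : Ideal.Quotient.mk J.radical z ∈ (φ.range).map (Ideal.Quotient.mkₐ A J.radical) := by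
      refine (?_ : Algebra.adjoin A (t : Set (B ⧸ J.radical)) ≤ _) (ht ▸ Algebra.mem_top)
      refine Algebra.adjoin_le fun x hx => ⟨e x, hmem _ ?_, he x⟩
      exact Finset.mem_union_left _ (Finset.mem_image_of_mem e hx)
    obtain ⟨s, hs, hsz⟩ := hz
    exact ⟨s, hs, Ideal.Quotient.eq.mp hsz.symm⟩
  have h2 : ∀ z ∈ J.radical, ∃ s ∈ φ.range, z - s ∈ J.radical ^ 2 := by
    intro z hz
    have hz' : z ∈ Ideal.span (c : Set B) := by rw [← Ideal.submodule_span_eq, hc]; exact hz
    induction hz' using Submodule.span_induction with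
    | mem x hx => exact ⟨x, hmem x (Finset.mem_union_right _ hx), by simp⟩
    | zero => exact ⟨0, zero_mem _, by simp⟩
    | add x x' hx hx' ih ih' =>
      obtain ⟨s, hs, hxs⟩ := ih (hc ▸ hx)
      obtain ⟨s', hs', hxs'⟩ := ih' (hc ▸ hx')
      exact ⟨s + s', add_mem hs hs', by rw [add_sub_add_comm]; exact add_mem hxs hxs'⟩
    | smul r x hx ih =>
      have hxJ : x ∈ J.radical := hc ▸ hx
      obtain ⟨s, hs, hxs⟩ := ih hxJ
      obtain ⟨a, ha, hra⟩ := h1 r
      refine ⟨a * s, mul_mem ha hs, ?_⟩
      rw [smul_eq_mul, show r * x - a * s = (r - a) * x + a * (x - s) by ring, sq]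
      exact add_mem (Ideal.mul_mem_mul hra hxJ) (Ideal.mul_mem_left _ _ (by rwa [← sq]))
  have h3 : ∀ k, ∀ z ∈ J.radical ^ k, ∃ s ∈ φ.range, z - s ∈ J.radical ^ (k + 1) := by
    intro k
    induction k with
    | zero => intro z _; simpa using h1 z
    | succ k ih =>
      intro z hz
      rw [pow_succ] at hz
      induction hz using Submodule.mul_induction_on' with
      | mem_mul_mem a ha b hb =>
        obtain ⟨s, hs, has⟩ := ih a ha
        obtain ⟨s', hs', hbs⟩ := h2 b hb
        refine ⟨s * s', mul_mem hs hs', ?_⟩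
        have hsk : s ∈ J.radical ^ k := by
          have := sub_mem ha (Ideal.pow_le_pow_right k.le_succ has)
          rwa [sub_sub_cancel] at this
        rw [show a * b - s * s' = s * (b - s') + (a - s) * b by ring,
          show k + 1 + 1 = k + 2 from rfl]
        refine add_mem ?_ ?_
        · rw [pow_add]; exact Ideal.mul_mem_mul hsk hbs
        · rw [show k + 2 = k + 1 + 1 from rfl, pow_succ _ (k + 1)]; exact Ideal.mul_mem_mul has hb
      | add x _ x' _ ih ih' =>
        obtain ⟨s, hs, hxs⟩ := ih
        obtain ⟨s', hs', hxs'⟩ := ih'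
        exact ⟨s + s', add_mem hs hs', by rw [add_sub_add_comm]; exact add_mem hxs hxs'⟩
  have h4 : ∀ k, ∃ s ∈ φ.range, y - s ∈ J.radical ^ k := by
    intro k
    induction k with
    | zero => exact ⟨0, zero_mem _, by simp⟩
    | succ k ih =>
      obtain ⟨s, hs, hys⟩ := ih
      obtain ⟨s', hs', hys'⟩ := h3 k _ hys
      exact ⟨s + s', add_mem hs hs', by rwa [← sub_sub]⟩
  obtain ⟨N, hN⟩ := Ideal.exists_pow_le_of_le_radical_of_fg (le_refl J.radical) (IsNoetherian.noetherian _)
  obtain ⟨s, ⟨p, rfl⟩, hys⟩ := h4 (N * n)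
  exact ⟨p, Ideal.pow_right_mono hN n (by rwa [← pow_mul])⟩

end Groth.Agent.S8834
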