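import Groth.Statements.S8836
import Groth.Agent.Frg27.RigFinite
import Mathlib.RingTheory.Flat.Stability
import Mathlib.RingTheory.Ideal.GoingDown
import Mathlib.RingTheory.Spectrum.Prime.Noetherian

set_option autoImplicit false
universe u
open AdicRing

namespace Groth.Agent.S8836

/-- Let A be a Noetherian ring complete for the adic topology of an ideal I, and B a Noetherian
A-algebra complete for the IB-adic topology, flat over A, with B/IB of finite type over A (a flat
adic morphism, topologically of finite type, of adic Noetherian topological rings). Let p be a prime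
of A which is rig-closed (I ⊄ p and p maximal among the primes not containing I). The following are
equivalent: (1) the maximal ideal of the local ring A/p lies in the image of Spec(B/√(IB)) →
Spec(A/√I), stated as: some prime Q of B containing IB lies over a maximal ideal of A containing p;
(2) there is a rig-closed prime q of B (IB ⊄ q, q maximal among the primes not containing IB) whose
inverse image in A is p. (The published statement adds that, when these hold, A/p ⊆ B/q is a finite
extension of rings and the residue field of the local ring B/q is finite over A/√I; this is not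
restated here.) -/
theorem result (A : Type u) [CommRing A] [IsNoetherianRing A] (I : Ideal A) [IsAdicComplete I A] (B : Type u) [CommRing B] [Algebra A B] [IsNoetherianRing B] [IsAdicComplete (I.map (algebraMap A B)) B] (hft : Algebra.FiniteType A (B ⧸ (I.map (algebraMap A B)))) [Module.Flat A B] (p : PrimeSpectrum A) (hp : (¬ I ≤ p.asIdeal ∧ ∀ y : PrimeSpectrum A, p ≤ y → ¬ I ≤ y.asIdeal → y = p)) : (∃ Q : PrimeSpectrum B, (I.map (algebraMap A B)) ≤ Q.asIdeal ∧ p.asIdeal ≤ (PrimeSpectrum.comap (algebraMap A B) Q).asIdeal ∧ (PrimeSpectrum.comap (algebraMap A B) Q).asIdeal.IsMaximal) ↔ (∃ q : PrimeSpectrum B, (¬ (I.map (algebraMap A B)) ≤ q.asIdeal ∧ ∀ y : PrimeSpectrum B, q ≤ y → ¬ (I.map (algebraMap A B)) ≤ y.asIdeal → y = q) ∧ PrimeSpectrum.comap (algebraMap A B) q = p) := by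
  constructor
  · rintro ⟨Q, hQI, hpQ, -⟩
    obtain ⟨q₁, hq₁Q, hq₁, hq₁p⟩ :=
      Ideal.exists_ideal_le_liesOver_of_le (S := B) (p := p.asIdeal) (q := (PrimeSpectrum.comap (algebraMap A B) Q).asIdeal) Q.asIdeal hpQ
    have hne : ¬ I.map (algebraMap A B) ≤ q₁ := fun h => hp.1 (by
      rw [hq₁p.over]
      exact Ideal.map_le_iff_le_comap.mp h)
    obtain ⟨q, ⟨hq1, hq2⟩, hmax⟩ := (wellFounded_gt (α := Ideal B)).has_min
      {x : Ideal B | (x.IsPrime ∧ q₁ ≤ x) ∧ ¬ I.map (algebraMap A B) ≤ x} ⟨q₁, ⟨hq₁, le_rfl⟩, hne⟩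
    have hqe : ∀ y : PrimeSpectrum B, (⟨q, hq1.1⟩ : PrimeSpectrum B) ≤ y →
        ¬ I.map (algebraMap A B) ≤ y.asIdeal → y = ⟨q, hq1.1⟩ := fun y hy hy' => by
      refine PrimeSpectrum.ext ?_
      by_contra hne'
      exact hmax y.asIdeal ⟨⟨y.isPrime, hq1.2.trans hy⟩, hy'⟩ (lt_of_le_of_ne hy (Ne.symm hne'))
    refine ⟨⟨q, hq1.1⟩, ⟨hq2, hqe⟩, hp.2 _ ?_ fun h => hq2 (Ideal.map_le_iff_le_comap.mpr h)⟩
    intro a ha
    rw [hq₁p.over] at ha
    exact hq1.2 ha
  · rintro ⟨q, hq, rfl⟩
    obtain ⟨m, hm, hqm⟩ := Ideal.exists_le_maximal q.asIdeal (Ideal.IsPrime.ne_top q.isPrime)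
    haveI := hm
    haveI := Frg27.finite_residue_of_isRig_comap hft hp m hqm
    refine ⟨⟨m, hm.isPrime⟩, (Frg27.finiteType_quotient_maximal hft m).2, Ideal.comap_mono hqm, ?_⟩
    haveI : Algebra.IsIntegral A (B ⧸ m) := Algebra.IsIntegral.of_finite A _
    letI := Ideal.Quotient.field m
    have h := Ideal.isMaximal_comap_of_isIntegral_of_isMaximal (R := A) (⊥ : Ideal (B ⧸ m))
    rw [← RingHom.ker_eq_comap_bot, IsScalarTower.algebraMap_eq A B (B ⧸ m), ← RingHom.comap_ker,
      show RingHom.ker (algebraMap B (B ⧸ m)) = m from Ideal.mk_ker] at h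
    exact h

end Groth.Agent.S8836
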