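import Groth.Statements.S8839
import Groth.Agent.Frg27.ComplPoints
import Mathlib.RingTheory.Polynomial.Basic

set_option autoImplicit false
universe u
open AdicRing

namespace Groth.Agent.S8839

/-- Let A be a Noetherian ring complete for the adic topology of an ideal I, n a natural number, and
A{x_1, …, x_n} the restricted power series ring, i.e. the I-adic completion of the polynomial ring
A[x_1, …, x_n]. Let q be a prime ideal of A{x_1, …, x_n}, q' its inverse image in A[x_1, …, x_n] and
p its inverse image in A. Assume q is rig-closed (the extension of I is not contained in q and q is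
maximal among such primes) and p is rig-closed in A (I ⊄ p, p maximal among the primes not
containing I). Then the local homomorphism A[x_1, …, x_n]_{q'} → A{x_1, …, x_n}_q induces an
isomorphism on completions with respect to the maximal ideals; stated as: for every m ≥ 1 the
induced map on quotients by the m-th powers of the maximal ideals is injective and surjective. -/
theorem result (A : Type u) [CommRing A] [IsNoetherianRing A] (I : Ideal A) [IsAdicComplete I A] (n : ℕ) (q : PrimeSpectrum (AdicCompletion (I.map (algebraMap A (MvPolynomial (Fin n) A))) (MvPolynomial (Fin n) A))) (hq : (¬ (I.map (algebraMap A (AdicCompletion (I.map (algebraMap A (MvPolynomial (Fin n) A))) (MvPolynomial (Fin n) A)))) ≤ q.asIdeal ∧ ∀ y : PrimeSpectrum (AdicCompletion (I.map (algebraMap A (MvPolynomial (Fin n) A))) (MvPolynomial (Fin n) A)), q ≤ y → ¬ (I.map (algebraMap A (AdicCompletion (I.map (algebraMap A (MvPolynomial (Fin n) A))) (MvPolynomial (Fin n) A)))) ≤ y.asIdeal → y = q)) (hp : (¬ I ≤ (PrimeSpectrum.comap (algebraMap A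 (AdicCompletion (I.map (algebraMap A (MvPolynomial (Fin n) A))) (MvPolynomial (Fin n) A))) q).asIdeal ∧ ∀ y : PrimeSpectrum A, (PrimeSpectrum.comap (algebraMap A (AdicCompletion (I.map (algebraMap A (MvPolynomial (Fin n) A))) (MvPolynomial (Fin n) A))) q) ≤ y → ¬ I ≤ y.asIdeal → y = (PrimeSpectrum.comap (algebraMap A (AdicCompletion (I.map (algebraMap A (MvPolynomial (Fin n) A))) (MvPolynomial (Fin n) A))) q))) (m : ℕ) (hm : 1 ≤ m) : (∀ x : (Localization.AtPrime (PrimeSpectrum.comap (algebraMap (MvPolynomial (Fin n) A) (AdicCompletion (I.map (algebraMap A (MvPolynomial (Fin n) A))) (MvPolynomial (Fin n) A))) q).asIdeal), (Localization.localRingHom (PrimeSpectrum.comap (algebraMap (MvPolynomial (Fin n) A) (AdicCompletion (I.map (algebraMap A (MvPolynomial (Fin n) A))) (MvPolynomial (Fin n) A))) q).asIdeal q.asIdeal (algebraMap (MvPolynomial (Fin n) A) (AdicCompletion (I.map (algebraMap A (MvPolynomial (Fin n) A))) (MvPolynomial (Fin n) A))) rfl) x ∈ (IsLocalRing.maximalIdeal (Localization.AtPrime q.asIdeal)) ^ m → x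 ∈ (IsLocalRing.maximalIdeal (Localization.AtPrime (PrimeSpectrum.comap (algebraMap (MvPolynomial (Fin n) A) (AdicCompletion (I.map (algebraMap A (MvPolynomial (Fin n) A))) (MvPolynomial (Fin n) A))) q).asIdeal)) ^ m) ∧ (∀ y : (Localization.AtPrime q.asIdeal), ∃ x : (Localization.AtPrime (PrimeSpectrum.comap (algebraMap (MvPolynomial (Fin n) A) (AdicCompletion (I.map (algebraMap A (MvPolynomial (Fin n) A))) (MvPolynomial (Fin n) A))) q).asIdeal), y - (Localization.localRingHom (PrimeSpectrum.comap (algebraMap (MvPolynomial (Fin n) A) (AdicCompletion (I.map (algebraMap A (MvPolynomial (Fin n) A))) (MvPolynomial (Fin n) A))) q).asIdeal q.asIdeal (algebraMap (MvPolynomial (Fin n) A) (AdicCompletion (I.map (algebraMap A (MvPolynomial (Fin n) A))) (MvPolynomial (Fin n) A))) rfl) x ∈ (IsLocalRing.maximalIdeal (Localization.AtPrime q.asIdeal)) ^ m) := by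
  let P := MvPolynomial (Fin n) A
  let E := Frg27.Compl I P
  haveI : IsNoetherianRing (P ⧸ I.map (algebraMap A P)) := inferInstance
  haveI : IsNoetherianRing E := CAlg1.isNoetherianRing_adicCompletion _ (IsNoetherian.noetherian _)
  haveI := Frg27.isAdicComplete_compl (C := P) (IsNoetherian.noetherian I)
  have hft : Algebra.FiniteType A (E ⧸ I.map (algebraMap A E)) := by
    have h1 : Algebra.FiniteType A (P ⧸ (I ^ 1).map (algebraMap A P)) :=
      Algebra.FiniteType.of_surjective (Ideal.Quotient.mkₐ A _) Ideal.Quotient.mk_surjective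
    have h2 : Algebra.FiniteType A (E ⧸ (I ^ 1).map (algebraMap A E)) :=
      h1.of_surjective (Frg27.truncEquiv A (C := P) (IsNoetherian.noetherian I) 1).toAlgHom
        (Frg27.truncEquiv A (C := P) (IsNoetherian.noetherian I) 1).surjective
    exact Frg27.ft_congr (by rw [pow_one]) h2
  have hfinE : Module.Finite A (E ⧸ q.asIdeal) :=
    Frg27.finite_of_residue (q := q) hq fun M hM hqM => Frg27.finite_residue_of_isRig_comap hft hp M hqM
  let q' : Ideal P := q.asIdeal.comap (algebraMap P E)
  haveI : Module.Finite A (P ⧸ q') :=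
    Module.Finite.of_injective (Ideal.quotientMapₐ q.asIdeal (IsScalarTower.toAlgHom A P E) le_rfl).toLinearMap
      Ideal.quotientMap_injective
  -- `q` is generated by `q'`
  have hgen : q'.map (algebraMap P E) = q.asIdeal := by
    refine le_antisymm Ideal.map_comap_le fun e he => ?_
    haveI : Module.Finite A (P ⧸ (q'.map (algebraMap P E)).comap (algebraMap P E)) := by
      rw [Frg27.comap_map_compl]; infer_instance
    obtain ⟨a, ha⟩ := Frg27.surjective_quotient_compl (q'.map (algebraMap P E)) (Ideal.Quotient.mk _ e)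
    have hae : algebraMap P E a - e ∈ q'.map (algebraMap P E) := Ideal.Quotient.eq.mp ha
    have haq : algebraMap P E a ∈ q.asIdeal := by
      rw [← sub_add_cancel (algebraMap P E a) e]
      exact add_mem (Ideal.map_comap_le hae) he
    rw [← sub_sub_cancel (algebraMap P E a) e]
    exact sub_mem (Ideal.mem_map_of_mem _ haq) hae
  haveI := Frg27.finite_quotient_pow (A := A) q' m (by omega)
  have hpow : q.asIdeal ^ m = (q' ^ m).map (algebraMap P E) := by rw [Ideal.map_pow, hgen]
  haveI : Module.Finite A (P ⧸ (q.asIdeal ^ m).comap (algebraMap P E)) := by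
    rw [hpow, Frg27.comap_map_compl]; infer_instance
  have hsurj : ∀ e : E, ∃ a : P, algebraMap P E a - e ∈ q.asIdeal ^ m := fun e => by
    obtain ⟨a, ha⟩ := Frg27.surjective_quotient_compl (q.asIdeal ^ m) (Ideal.Quotient.mk _ e)
    exact ⟨a, Ideal.Quotient.eq.mp ha⟩
  have hinj : ∀ a : P, algebraMap P E a ∈ q.asIdeal ^ m → a ∈ q' ^ m := fun a ha => by
    rw [hpow] at ha
    exact (Frg27.comap_map_compl (q' ^ m)).le ha
  have hnot : ∀ (t : E) (t₀ : P), t ∉ q.asIdeal → algebraMap P E t₀ - t ∈ q.asIdeal ^ m → t₀ ∉ q' := by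
    intro t t₀ ht h h0
    rw [← sub_sub_cancel (algebraMap P E t₀) t] at ht
    exact ht (q.asIdeal.sub_mem (show algebraMap P E t₀ ∈ q.asIdeal from h0) (Ideal.pow_le_self (I := q.asIdeal) (show m ≠ 0 by omega) h))
  refine ⟨fun x hx => ?_, fun y => ?_⟩
  · obtain ⟨a, s, rfl⟩ := IsLocalization.exists_mk'_eq (PrimeSpectrum.comap (algebraMap (MvPolynomial (Fin n) A) (AdicCompletion (I.map (algebraMap A (MvPolynomial (Fin n) A))) (MvPolynomial (Fin n) A))) q).asIdeal.primeCompl x
    rw [Localization.localRingHom_mk', ← Localization.AtPrime.map_eq_maximalIdeal, ← Ideal.map_pow,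
      IsLocalization.mk'_mem_map_algebraMap_iff q.asIdeal.primeCompl] at hx
    obtain ⟨t, ht, hta⟩ := hx
    obtain ⟨t₀, ht₀⟩ := hsurj t
    rw [← Localization.AtPrime.map_eq_maximalIdeal, ← Ideal.map_pow,
      IsLocalization.mk'_mem_map_algebraMap_iff (PrimeSpectrum.comap (algebraMap (MvPolynomial (Fin n) A) (AdicCompletion (I.map (algebraMap A (MvPolynomial (Fin n) A))) (MvPolynomial (Fin n) A))) q).asIdeal.primeCompl]
    refine ⟨t₀, hnot t t₀ ht ht₀, hinj _ ?_⟩
    rw [map_mul, ← sub_add_cancel (algebraMap P E t₀) t, add_mul]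
    exact add_mem (Ideal.mul_mem_right _ _ ht₀) hta
  · obtain ⟨e, t, rfl⟩ := IsLocalization.exists_mk'_eq q.asIdeal.primeCompl y
    obtain ⟨a, ha⟩ := hsurj e
    obtain ⟨t₀, ht₀⟩ := hsurj t
    refine ⟨IsLocalization.mk' _ a (⟨t₀, hnot t t₀ t.2 ht₀⟩ : (PrimeSpectrum.comap (algebraMap (MvPolynomial (Fin n) A) (AdicCompletion (I.map (algebraMap A (MvPolynomial (Fin n) A))) (MvPolynomial (Fin n) A))) q).asIdeal.primeCompl), ?_⟩
    rw [Localization.localRingHom_mk', ← IsLocalization.mk'_sub,
      ← Localization.AtPrime.map_eq_maximalIdeal, ← Ideal.map_pow,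
      IsLocalization.mk'_mem_map_algebraMap_iff q.asIdeal.primeCompl]
    refine ⟨1, Submonoid.one_mem _, ?_⟩
    rw [one_mul]
    have h : e * algebraMap P E t₀ - algebraMap P E a * (t : E) =
        e * (algebraMap P E t₀ - t) - (algebraMap P E a - e) * t := by ring
    simp only
    rw [h]
    exact sub_mem (Ideal.mul_mem_left _ _ ht₀) (Ideal.mul_mem_right _ _ ha)

end Groth.Agent.S8839
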